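import Groth.Statements.S13793
import Mathlib

set_option autoImplicit false
universe u
open CAlg

namespace Groth.Agent.S13793

open AddMonoidAlgebra

universe v


set_option maxHeartbeats 1000000

noncomputable def φ₀ : (Fin 2 → ℤ) →+ (Fin 3 → ℤ) := (Matrix.mulVecLin (!![0, 0; 1, 0; 0, 1] : Matrix (Fin 3) (Fin 2) ℤ)).toAddMonoidHom
noncomputable def φ₁ : (Fin 2 → ℤ) →+ (Fin 3 → ℤ) := (Matrix.mulVecLin (!![1, 0; 1, 0; 0, 1] : Matrix (Fin 3) (Fin 2) ℤ)).toAddMonoidHom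
noncomputable def φ₂ : (Fin 2 → ℤ) →+ (Fin 3 → ℤ) := (Matrix.mulVecLin (!![1, 0; 0, 1; 0, 1] : Matrix (Fin 3) (Fin 2) ℤ)).toAddMonoidHom
noncomputable def φ₃ : (Fin 2 → ℤ) →+ (Fin 3 → ℤ) := (Matrix.mulVecLin (!![1, 0; 0, 1; 0, 0] : Matrix (Fin 3) (Fin 2) ℤ)).toAddMonoidHom
noncomputable def ψ₀ : (Fin 1 → ℤ) →+ (Fin 2 → ℤ) := (Matrix.mulVecLin (!![0; 1] : Matrix (Fin 2) (Fin 1) ℤ)).toAddMonoidHom
noncomputable def ψ₁ : (Fin 1 → ℤ) →+ (Fin 2 → ℤ) := (Matrix.mulVecLin (!![1; 1] : Matrix (Fin 2) (Fin 1) ℤ)).toAddMonoidHom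
noncomputable def ψ₂ : (Fin 1 → ℤ) →+ (Fin 2 → ℤ) := (Matrix.mulVecLin (!![1; 0] : Matrix (Fin 2) (Fin 1) ℤ)).toAddMonoidHom

theorem φ₀_apply (m : Fin 2 → ℤ) : φ₀ m = ![0, m 0, m 1] := by
  funext i; fin_cases i <;> simp [φ₀, Matrix.mulVec, dotProduct, Fin.sum_univ_succ]
theorem φ₁_apply (m : Fin 2 → ℤ) : φ₁ m = ![m 0, m 0, m 1] := by
  funext i; fin_cases i <;> simp [φ₁, Matrix.mulVec, dotProduct, Fin.sum_univ_succ]
theorem φ₂_apply (m : Fin 2 → ℤ) : φ₂ m = ![m 0, m 1, m 1] := by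
  funext i; fin_cases i <;> simp [φ₂, Matrix.mulVec, dotProduct, Fin.sum_univ_succ]
theorem φ₃_apply (m : Fin 2 → ℤ) : φ₃ m = ![m 0, m 1, 0] := by
  funext i; fin_cases i <;> simp [φ₃, Matrix.mulVec, dotProduct, Fin.sum_univ_succ]
theorem ψ₀_apply (m : Fin 1 → ℤ) : ψ₀ m = ![0, m 0] := by
  funext i; fin_cases i <;> simp [ψ₀, Matrix.mulVec, dotProduct]
theorem ψ₁_apply (m : Fin 1 → ℤ) : ψ₁ m = ![m 0, m 0] := by
  funext i; fin_cases i <;> simp [ψ₁, Matrix.mulVec, dotProduct]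
theorem ψ₂_apply (m : Fin 1 → ℤ) : ψ₂ m = ![m 0, 0] := by
  funext i; fin_cases i <;> simp [ψ₂, Matrix.mulVec, dotProduct]

variable (A : Type v) [CommRing A]

/-- induced map on units -/
noncomputable abbrev U {M N : Type} [AddCommMonoid M] [AddCommMonoid N] (φ : M →+ N) :
    (AddMonoidAlgebra A M)ˣ →* (AddMonoidAlgebra A N)ˣ :=
  Units.map (mapDomainRingHom A φ).toMonoidHom

theorem U_comp {M N O : Type} [AddCommMonoid M] [AddCommMonoid N] [AddCommMonoid O] (φ : N →+ O) (ψ : M →+ N)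
    (u : (AddMonoidAlgebra A M)ˣ) : U A φ (U A ψ u) = U A (φ.comp ψ) u := by
  apply Units.ext
  simp [U]

noncomputable def dOne : (AddMonoidAlgebra A (Fin 1 → ℤ))ˣ →* (AddMonoidAlgebra A (Fin 2 → ℤ))ˣ :=
  U A ψ₀ * (U A ψ₁)⁻¹ * U A ψ₂

noncomputable def dTwo : (AddMonoidAlgebra A (Fin 2 → ℤ))ˣ →* (AddMonoidAlgebra A (Fin 3 → ℤ))ˣ :=
  U A φ₀ * (U A φ₁)⁻¹ * U A φ₂ * (U A φ₃)⁻¹

theorem dTwo_dOne (η : (AddMonoidAlgebra A (Fin 1 → ℤ))ˣ) : dTwo A (dOne A η) = 1 := by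
  have e1 : φ₀.comp ψ₀ = φ₁.comp ψ₀ := AddMonoidHom.ext fun m => by simp [φ₀_apply, φ₁_apply, ψ₀_apply]
  have e2 : φ₂.comp ψ₀ = φ₀.comp ψ₁ := AddMonoidHom.ext fun m => by simp [φ₀_apply, φ₂_apply, ψ₀_apply, ψ₁_apply]
  have e3 : φ₃.comp ψ₀ = φ₀.comp ψ₂ := AddMonoidHom.ext fun m => by simp [φ₀_apply, φ₃_apply, ψ₀_apply, ψ₂_apply]
  have e4 : φ₂.comp ψ₁ = φ₁.comp ψ₁ := AddMonoidHom.ext fun m => by simp [φ₁_apply, φ₂_apply, ψ₁_apply]
  have e5 : φ₃.comp ψ₁ = φ₁.comp ψ₂ := AddMonoidHom.ext fun m => by simp [φ₁_apply, φ₃_apply, ψ₁_apply, ψ₂_apply]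
  have e6 : φ₃.comp ψ₂ = φ₂.comp ψ₂ := AddMonoidHom.ext fun m => by simp [φ₂_apply, φ₃_apply, ψ₂_apply]
  simp only [dOne, dTwo, MonoidHom.mul_apply, MonoidHom.inv_apply, map_mul, map_inv, U_comp, mul_inv, inv_inv,
    e1, e2, e3, e4, e5, e6]
  apply Additive.ofMul.injective
  simp only [ofMul_mul, ofMul_inv, ofMul_one]
  abel

/-- all coefficients lie in `J` -/
def P {M : Type} (J : Ideal A) (f : AddMonoidAlgebra A M) : Prop := ∀ m, f.coeff m ∈ J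

theorem P_add {M : Type} {J : Ideal A} {f g : AddMonoidAlgebra A M} (hf : P A J f) (hg : P A J g) :
    P A J (f + g) := fun m => by simpa using J.add_mem (hf m) (hg m)

theorem P_sub {M : Type} {J : Ideal A} {f g : AddMonoidAlgebra A M} (hf : P A J f) (hg : P A J g) :
    P A J (f - g) := fun m => by simpa using J.sub_mem (hf m) (hg m)

theorem P_mono {M : Type} {J J' : Ideal A} (h : J ≤ J') {f : AddMonoidAlgebra A M} (hf : P A J f) : P A J' f :=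
  fun m => h (hf m)

theorem P_mul {M : Type} [AddCommMonoid M] {J J' : Ideal A} {f g : AddMonoidAlgebra A M} (hf : P A J f)
    (hg : P A J' g) : P A (J * J') (f * g) := fun m => by
  classical
  rw [coeff_mul]
  simp only [Finsupp.sum, Finsupp.finsetSum_apply]
  refine Ideal.sum_mem _ fun a _ => Ideal.sum_mem _ fun b _ => ?_
  split_ifs
  · exact Ideal.mul_mem_mul (hf a) (hg b)
  · exact Ideal.zero_mem _

theorem P_pow {M : Type} [AddCommMonoid M] {J : Ideal A} {f : AddMonoidAlgebra A M} (hf : P A J f) :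
    ∀ n : ℕ, P A (J ^ n) (f ^ n)
  | 0 => fun m => by simp
  | n + 1 => by rw [pow_succ, pow_succ]; exact P_mul A (P_pow hf n) hf

theorem P_linear {M N : Type} {J : Ideal A} (T : AddMonoidAlgebra A M →ₗ[A] AddMonoidAlgebra A N)
    {f : AddMonoidAlgebra A M} (hf : P A J f) : P A J (T f) := fun m => by
  have h : f = ∑ a ∈ f.coeff.support, f.coeff a • single a (1 : A) := by
    apply coeff_injective
    conv_lhs => rw [← Finsupp.sum_single f.coeff]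
    simp [Finsupp.sum]
  rw [h, map_sum]
  simp only [map_smul, coeff_sum, coeff_smul, Finsupp.finsetSum_apply, Finsupp.smul_apply, smul_eq_mul]
  exact Ideal.sum_mem _ fun a _ => Ideal.mul_mem_right _ _ (hf a)

noncomputable def lin {M N : Type} [AddCommMonoid M] [AddCommMonoid N] (φ : M →+ N) :
    AddMonoidAlgebra A M →ₗ[A] AddMonoidAlgebra A N := mapDomainLinearMap A A φ

theorem lin_apply {M N : Type} [AddCommMonoid M] [AddCommMonoid N] (φ : M →+ N) (f : AddMonoidAlgebra A M) :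
    lin A φ f = mapDomainRingHom A φ f := by
  apply coeff_injective
  simp [lin, mapDomainRingHom]

noncomputable def ctThree : AddMonoidAlgebra A (Fin 3 → ℤ) →ₗ[A] AddMonoidAlgebra A (Fin 2 → ℤ) :=
  Finsupp.linearCombination A (fun m : Fin 3 → ℤ => if m 0 = 0 then single ![m 1, m 2] (1 : A) else 0) ∘ₗ
    (coeffLinearEquiv A).toLinearMap

noncomputable def ctTwo : AddMonoidAlgebra A (Fin 2 → ℤ) →ₗ[A] AddMonoidAlgebra A (Fin 1 → ℤ) :=
  Finsupp.linearCombination A (fun m : Fin 2 → ℤ => if m 0 = 0 then single ![m 1] (1 : A) else 0) ∘ₗ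
    (coeffLinearEquiv A).toLinearMap

theorem ct_id (f : AddMonoidAlgebra A (Fin 2 → ℤ)) :
    ctThree A (lin A φ₀ f - lin A φ₁ f + lin A φ₂ f - lin A φ₃ f) =
      f - lin A ψ₀ (ctTwo A f) + lin A ψ₁ (ctTwo A f) - lin A ψ₂ (ctTwo A f) := by
  suffices h : ctThree A ∘ₗ (lin A φ₀ - lin A φ₁ + lin A φ₂ - lin A φ₃) =
      LinearMap.id - lin A ψ₀ ∘ₗ ctTwo A + lin A ψ₁ ∘ₗ ctTwo A - lin A ψ₂ ∘ₗ ctTwo A from LinearMap.congr_fun h f
  refine lhom_ext' fun m => LinearMap.ext_ring ?_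
  have e : m = ![m 0, m 1] := by funext i; fin_cases i <;> rfl
  by_cases h : m 0 = 0
  · rw [h] at e
    simp [lin, ctThree, ctTwo, φ₀_apply, φ₁_apply, φ₂_apply, φ₃_apply, ψ₀_apply, ψ₁_apply, ψ₂_apply, h, ← e]
  · simp [lin, ctThree, ctTwo, φ₀_apply, φ₁_apply, φ₂_apply, φ₃_apply, ψ₀_apply, ψ₁_apply, ψ₂_apply, h, ← e]

/-- Units of a group algebra with two unique sums over a domain are monomials. -/
theorem unit_eq_single {k : Type v} [CommRing k] [IsDomain k] (u : (AddMonoidAlgebra k (Fin 2 → ℤ))ˣ) :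
    ∃ m a, (u : AddMonoidAlgebra k (Fin 2 → ℤ)) = single m a := by
  classical
  let f : AddMonoidAlgebra k (Fin 2 → ℤ) := u
  let g : AddMonoidAlgebra k (Fin 2 → ℤ) := (u⁻¹ : (AddMonoidAlgebra k (Fin 2 → ℤ))ˣ)
  have hfg : f * g = single 0 1 := by rw [← one_def]; exact u.mul_inv
  have hg : g.coeff.support.Nonempty := by
    rw [Finsupp.support_nonempty_iff, ne_eq, coeff_eq_zero]
    exact Units.ne_zero _
  by_contra! hcon
  have hf : 1 < f.coeff.support.card := by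
    by_contra! hle
    obtain ⟨m, a, hma⟩ := Finsupp.card_support_le_one'.1 hle
    exact hcon m a (coeff_injective (by simpa using hma))
  obtain ⟨p, hp, q, hq, hne, hup, huq⟩ := TwoUniqueSums.uniqueAdd_of_one_lt_card
    (A := f.coeff.support) (B := g.coeff.support)
    (lt_of_lt_of_le hf (Nat.le_mul_of_pos_right _ hg.card_pos))
  rw [Finset.mem_product, Finsupp.mem_support_iff, Finsupp.mem_support_iff] at hp hq
  have key : ∀ p : (Fin 2 → ℤ) × (Fin 2 → ℤ), UniqueAdd f.coeff.support g.coeff.support p.1 p.2 →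
      f.coeff p.1 ≠ 0 → g.coeff p.2 ≠ 0 → p.1 + p.2 = 0 := fun p hu h1 h2 => by
    have h3 := coeff_mul_add_of_uniqueAdd hu
    rw [hfg] at h3
    by_contra hne
    simp [Finsupp.single_apply, Ne.symm hne] at h3
    tauto
  have h4 := hup (Finsupp.mem_support_iff.2 hq.1) (Finsupp.mem_support_iff.2 hq.2)
    (by rw [key p hup hp.1 hp.2, key q huq hq.1 hq.2])
  exact hne (Prod.ext h4.1.symm h4.2.symm)


/-- For any commutative ring A, the second cohomology of the complex of unit groups A[t₁^±]ˣ → A[t₁^±,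
t₂^±]ˣ → A[t₁^±, t₂^±, t₃^±]ˣ → ⋯ attached to the cosimplicial ring of Laurent polynomial rings
(coface maps (t₁, t₂) ↦ (t₂, t₃), (t₁t₂, t₃), (t₁, t₂t₃), (t₁, t₂) and t₁ ↦ t₂, t₁t₂, t₁) vanishes:
every unit ξ of A[t₁^±, t₂^±] with ξ(t₂,t₃) ξ(t₁t₂,t₃)⁻¹ ξ(t₁,t₂t₃) ξ(t₁,t₂)⁻¹ = 1 is of the form
η(t₂) η(t₁t₂)⁻¹ η(t₁) for a unit η of A[t^±]. Laurent polynomial rings are written as group algebras
of ℤ^p and the coface maps as the maps induced by the corresponding additive maps ℤ^p → ℤ^(p+1). -/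
theorem result (A : Type u) [CommRing A] (ξ : (AddMonoidAlgebra A (Fin 2 → ℤ))ˣ)
    (hξ : Units.map (AddMonoidAlgebra.mapDomainRingHom A
          (Matrix.mulVecLin (!![0, 0; 1, 0; 0, 1] : Matrix (Fin 3) (Fin 2) ℤ)).toAddMonoidHom).toMonoidHom ξ *
        (Units.map (AddMonoidAlgebra.mapDomainRingHom A
          (Matrix.mulVecLin (!![1, 0; 1, 0; 0, 1] : Matrix (Fin 3) (Fin 2) ℤ)).toAddMonoidHom).toMonoidHom ξ)⁻¹ *
        Units.map (AddMonoidAlgebra.mapDomainRingHom A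
          (Matrix.mulVecLin (!![1, 0; 0, 1; 0, 1] : Matrix (Fin 3) (Fin 2) ℤ)).toAddMonoidHom).toMonoidHom ξ *
        (Units.map (AddMonoidAlgebra.mapDomainRingHom A
          (Matrix.mulVecLin (!![1, 0; 0, 1; 0, 0] : Matrix (Fin 3) (Fin 2) ℤ)).toAddMonoidHom).toMonoidHom ξ)⁻¹ = 1) :
    ∃ η : (AddMonoidAlgebra A (Fin 1 → ℤ))ˣ,
      ξ = Units.map (AddMonoidAlgebra.mapDomainRingHom A
          (Matrix.mulVecLin (!![0; 1] : Matrix (Fin 2) (Fin 1) ℤ)).toAddMonoidHom).toMonoidHom η *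
        (Units.map (AddMonoidAlgebra.mapDomainRingHom A
          (Matrix.mulVecLin (!![1; 1] : Matrix (Fin 2) (Fin 1) ℤ)).toAddMonoidHom).toMonoidHom η)⁻¹ *
        Units.map (AddMonoidAlgebra.mapDomainRingHom A
          (Matrix.mulVecLin (!![1; 0] : Matrix (Fin 2) (Fin 1) ℤ)).toAddMonoidHom).toMonoidHom η := by
  classical
  change dTwo A ξ = 1 at hξ
  suffices h : ∃ η, ξ = dOne A η by exact h
  let π₁ : (Fin 2 → ℤ) →+ ℤ := Pi.evalAddMonoidHom (fun _ : Fin 2 => ℤ) 1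
  let π₂ : (Fin 2 → ℤ) →+ ℤ := Pi.evalAddMonoidHom (fun _ : Fin 2 => ℤ) 0
  let ρ₁ : (Fin 3 → ℤ) →+ ℤ := Pi.evalAddMonoidHom (fun _ : Fin 3 => ℤ) 2
  let ρ₂ : (Fin 3 → ℤ) →+ ℤ := Pi.evalAddMonoidHom (fun _ : Fin 3 => ℤ) 0
  have hπ₁ : U A π₁ ξ = U A (0 : (Fin 2 → ℤ) →+ ℤ) ξ := by
    have h := congrArg (U A ρ₁) hξ
    simp only [dTwo, MonoidHom.mul_apply, MonoidHom.inv_apply, map_mul, map_inv, map_one, U_comp,
      show ρ₁.comp φ₀ = π₁ from AddMonoidHom.ext fun m => by simp [ρ₁, π₁, φ₀_apply],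
      show ρ₁.comp φ₁ = π₁ from AddMonoidHom.ext fun m => by simp [ρ₁, π₁, φ₁_apply],
      show ρ₁.comp φ₂ = π₁ from AddMonoidHom.ext fun m => by simp [ρ₁, π₁, φ₂_apply],
      show ρ₁.comp φ₃ = 0 from AddMonoidHom.ext fun m => by simp [ρ₁, φ₃_apply]] at h
    rw [mul_inv_cancel, one_mul] at h
    exact mul_inv_eq_one.1 h
  have hπ₂ : U A π₂ ξ = U A (0 : (Fin 2 → ℤ) →+ ℤ) ξ := by
    have h := congrArg (U A ρ₂) hξ
    simp only [dTwo, MonoidHom.mul_apply, MonoidHom.inv_apply, map_mul, map_inv, map_one, U_comp,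
      show ρ₂.comp φ₀ = 0 from AddMonoidHom.ext fun m => by simp [ρ₂, φ₀_apply],
      show ρ₂.comp φ₁ = π₂ from AddMonoidHom.ext fun m => by simp [ρ₂, π₂, φ₁_apply],
      show ρ₂.comp φ₂ = π₂ from AddMonoidHom.ext fun m => by simp [ρ₂, π₂, φ₂_apply],
      show ρ₂.comp φ₃ = π₂ from AddMonoidHom.ext fun m => by simp [ρ₂, π₂, φ₃_apply]] at h
    rw [inv_mul_cancel_right] at h
    exact (mul_inv_eq_one.1 h).symm
  -- normalise
  let η₀ := U A (0 : (Fin 2 → ℤ) →+ (Fin 1 → ℤ)) ξ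
  let ξ₁ := ξ * (dOne A η₀)⁻¹
  have hσ : ∀ σ : (Fin 2 → ℤ) →+ ℤ, U A σ (dOne A η₀) = U A (0 : (Fin 2 → ℤ) →+ ℤ) ξ := fun σ => by
    simp only [dOne, η₀, MonoidHom.mul_apply, MonoidHom.inv_apply, map_mul, map_inv, U_comp, AddMonoidHom.comp_zero]
    rw [mul_inv_cancel, one_mul]
  have h11 : U A π₁ ξ₁ = 1 := by rw [map_mul, map_inv, hσ, hπ₁, mul_inv_cancel]
  have h12 : U A π₂ ξ₁ = 1 := by rw [map_mul, map_inv, hσ, hπ₂, mul_inv_cancel]
  have hξ₁ : dTwo A ξ₁ = 1 := by rw [map_mul, map_inv, dTwo_dOne, hξ, inv_one, mul_one]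
  -- coefficients are nilpotent
  let f₁ : AddMonoidAlgebra A (Fin 2 → ℤ) := (ξ₁ : AddMonoidAlgebra A (Fin 2 → ℤ)) - 1
  have hnil : ∀ m, f₁.coeff m ∈ nilradical A := fun m => by
    rw [nilradical_eq_sInf, Ideal.mem_sInf]
    intro p hp
    haveI : p.IsPrime := hp
    let q := Ideal.Quotient.mk p
    obtain ⟨m₀, a, hma⟩ := unit_eq_single (Units.map (mapRingHom (Fin 2 → ℤ) q).toMonoidHom ξ₁)
    change mapRingHom (Fin 2 → ℤ) q (ξ₁ : AddMonoidAlgebra A (Fin 2 → ℤ)) = single m₀ a at hma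
    have hev : ∀ σ : (Fin 2 → ℤ) →+ ℤ, U A σ ξ₁ = 1 → single (σ m₀) a = (1 : AddMonoidAlgebra (A ⧸ p) ℤ) := fun σ hσ => by
      have h1 : mapRingHom ℤ q (mapDomainRingHom A σ (ξ₁ : AddMonoidAlgebra A (Fin 2 → ℤ))) = 1 := by
        have h0 : mapDomainRingHom A σ (ξ₁ : AddMonoidAlgebra A (Fin 2 → ℤ)) = 1 := congrArg Units.val hσ
        rw [h0, map_one]
      rw [← RingHom.comp_apply, mapRingHom_comp_mapDomainRingHom, RingHom.comp_apply, hma] at h1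
      simpa using h1
    obtain ⟨e1, ea⟩ : π₁ m₀ = 0 ∧ a = 1 := by
      have h := congrArg AddMonoidAlgebra.coeff (hev π₁ h11)
      simp only [one_def, coeff_single] at h
      rcases Finsupp.single_eq_single_iff _ _ _ _ |>.1 h with ⟨h1, h2⟩ | ⟨_, h2⟩
      · exact ⟨h1, h2⟩
      · exact absurd h2 one_ne_zero
    have e2 : π₂ m₀ = 0 := by
      have h := congrArg AddMonoidAlgebra.coeff (hev π₂ h12)
      simp only [one_def, coeff_single] at h
      rcases Finsupp.single_eq_single_iff _ _ _ _ |>.1 h with ⟨h1, _⟩ | ⟨_, h2⟩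
      · exact h1
      · exact absurd h2 one_ne_zero
    have hm0 : m₀ = 0 := by funext i; fin_cases i; exacts [e2, e1]
    have h0 : mapRingHom (Fin 2 → ℤ) q f₁ = 0 := by
      rw [map_sub, map_one, hma, ea, hm0, ← one_def, sub_self]
    have h00 := congrArg (fun z => z.coeff m) h0
    simp only [coeff_mapRingHom, coeff_zero, Finsupp.coe_zero, Pi.zero_apply] at h00
    exact Ideal.Quotient.eq_zero_iff_mem.1 h00
  let J : Ideal A := Ideal.span (f₁.coeff.support.image f₁.coeff : Finset A)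
  have hJle : J ≤ nilradical A := Ideal.span_le.2 fun a ha => by
    obtain ⟨m, _, rfl⟩ := Finset.mem_image.1 ha
    exact hnil m
  obtain ⟨r, hr⟩ := Ideal.exists_pow_le_of_le_radical_of_fg hJle ⟨_, rfl⟩
  have hJ0 : P A J f₁ := fun m => by
    by_cases h : f₁.coeff m = 0
    · rw [h]; exact J.zero_mem
    · exact Ideal.subset_span (Finset.mem_coe.2 (Finset.mem_image.2 ⟨m, Finsupp.mem_support_iff.2 h, rfl⟩))
  have key : ∀ k : ℕ, ∃ η, P A (J ^ (k + 1)) (((ξ₁ * (dOne A η)⁻¹ : (AddMonoidAlgebra A (Fin 2 → ℤ))ˣ) : AddMonoidAlgebra A (Fin 2 → ℤ)) - 1) := by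
    intro k
    induction k with
    | zero => exact ⟨1, by simpa using hJ0⟩
    | succ k ih =>
      obtain ⟨η, hη⟩ := ih
      let ξ' := ξ₁ * (dOne A η)⁻¹
      let f : AddMonoidAlgebra A (Fin 2 → ℤ) := (ξ' : AddMonoidAlgebra A (Fin 2 → ℤ)) - 1
      have hf : P A (J ^ (k + 1)) f := hη
      have hJ2 : J ^ (k + 1) * J ^ (k + 1) ≤ J ^ (k + 1 + 1) := by
        rw [← pow_add]; exact Ideal.pow_le_pow_right (by omega)
      have hξ' : dTwo A ξ' = 1 := by rw [map_mul, map_inv, dTwo_dOne, hξ₁, inv_one, mul_one]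
      have hdf : P A (J ^ (k + 1 + 1)) (lin A φ₀ f - lin A φ₁ f + lin A φ₂ f - lin A φ₃ f) := by
        have h1 : U A φ₀ ξ' * U A φ₂ ξ' = U A φ₁ ξ' * U A φ₃ ξ' := by
          simp only [dTwo, MonoidHom.mul_apply, MonoidHom.inv_apply] at hξ'
          rw [mul_inv_eq_one, mul_right_comm, mul_inv_eq_iff_eq_mul] at hξ'
          rw [hξ', mul_comm]
        have h2 := congrArg Units.val h1
        simp only [Units.val_mul] at h2
        have hF : ∀ φ : (Fin 2 → ℤ) →+ (Fin 3 → ℤ), ((U A φ ξ' : (AddMonoidAlgebra A (Fin 3 → ℤ))ˣ) : AddMonoidAlgebra A (Fin 3 → ℤ)) = 1 + lin A φ f := fun φ => by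
          rw [lin_apply, map_sub, map_one, add_sub_cancel]
          rfl
        rw [hF, hF, hF, hF] at h2
        have h3 : lin A φ₀ f - lin A φ₁ f + lin A φ₂ f - lin A φ₃ f = lin A φ₁ f * lin A φ₃ f - lin A φ₀ f * lin A φ₂ f := by
          linear_combination h2
        rw [h3]
        exact P_mono A hJ2 (P_sub A (P_mul A (P_linear A _ hf) (P_linear A _ hf)) (P_mul A (P_linear A _ hf) (P_linear A _ hf)))
      let g := ctTwo A f
      have hg : P A (J ^ (k + 1)) g := P_linear A _ hf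
      have hgnil : IsNilpotent g := ⟨r, coeff_injective (Finsupp.ext fun m => by
        have := Ideal.pow_right_mono (Ideal.pow_le_self (Nat.succ_ne_zero k)) r (P_pow A hg r m)
        simpa using hr this)⟩
      let u := hgnil.isUnit_one_add.unit
      refine ⟨η * u, ?_⟩
      have hξ'' : ξ₁ * (dOne A (η * u))⁻¹ = ξ' * U A ψ₁ u * (U A ψ₀ u * U A ψ₂ u)⁻¹ := by
        have hu : dOne A u = U A ψ₀ u * (U A ψ₁ u)⁻¹ * U A ψ₂ u := rfl
        show _ = ξ₁ * (dOne A η)⁻¹ * _ * _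
        rw [map_mul, hu]
        apply Additive.ofMul.injective
        simp only [ofMul_mul, ofMul_inv]
        abel
      rw [hξ'']
      have hG : ∀ ψ : (Fin 1 → ℤ) →+ (Fin 2 → ℤ), ((U A ψ u : (AddMonoidAlgebra A (Fin 2 → ℤ))ˣ) : AddMonoidAlgebra A (Fin 2 → ℤ)) = 1 + lin A ψ g := fun ψ => by
        show mapDomainRingHom A ψ (u : AddMonoidAlgebra A (Fin 1 → ℤ)) = _
        rw [IsUnit.unit_spec, map_add, map_one, lin_apply]
      let w := U A ψ₀ u * U A ψ₂ u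
      have hnum : P A (J ^ (k + 1 + 1)) ((ξ' : AddMonoidAlgebra A (Fin 2 → ℤ)) * ((U A ψ₁ u : (AddMonoidAlgebra A (Fin 2 → ℤ))ˣ) : AddMonoidAlgebra A (Fin 2 → ℤ)) - (w : AddMonoidAlgebra A (Fin 2 → ℤ))) := by
        rw [show (w : AddMonoidAlgebra A (Fin 2 → ℤ)) = _ * _ from Units.val_mul (U A ψ₀ u) (U A ψ₂ u), hG, hG, hG, show (ξ' : AddMonoidAlgebra A (Fin 2 → ℤ)) = 1 + f from (add_sub_cancel 1 _).symm,
          show (1 + f) * (1 + lin A ψ₁ g) - (1 + lin A ψ₀ g) * (1 + lin A ψ₂ g) =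
            (f - lin A ψ₀ g + lin A ψ₁ g - lin A ψ₂ g) + (f * lin A ψ₁ g - lin A ψ₀ g * lin A ψ₂ g) by ring,
          ← ct_id]
        exact P_add A (P_linear A _ hdf) (P_mono A hJ2 (P_sub A (P_mul A hf (P_linear A _ hg)) (P_mul A (P_linear A _ hg) (P_linear A _ hg))))
      have h4 := P_mul A hnum (J' := ⊤) (g := ((w⁻¹ : (AddMonoidAlgebra A (Fin 2 → ℤ))ˣ) : AddMonoidAlgebra A (Fin 2 → ℤ))) (fun _ => trivial)
      rw [Ideal.mul_top, sub_mul, Units.mul_inv] at h4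
      rw [Units.val_mul, Units.val_mul]
      exact h4
  obtain ⟨η, hη⟩ := key r
  refine ⟨η₀ * η, ?_⟩
  have h5 : ξ₁ * (dOne A η)⁻¹ = 1 := by
    refine Units.ext (sub_eq_zero.1 (coeff_injective (Finsupp.ext fun m => ?_)))
    simpa using hr (Ideal.pow_le_pow_right (Nat.le_succ r) (hη m))
  rw [map_mul, ← mul_inv_eq_one.1 h5]
  simp [ξ₁]


end Groth.Agent.S13793
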