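import Groth.Statements.S13794
import Mathlib.Tactic.LinearCombination
import Mathlib.Tactic.FieldSimp
import Mathlib.Algebra.Polynomial.Coeff
import Mathlib.Algebra.Polynomial.Eval.Defs

set_option autoImplicit false
universe u
open Polynomial
open Curves

namespace Groth.Agent.S13794

/-- Let k be a field of characteristic not 3 and β ∈ k. If a line ax + by + c = 0 with a³ ≠ b³ is the
tangent line at a flex point of the affine cubic x³ + y³ + β = 3xy, then β is a cube in k. Here the
line is normalised to b ≠ 0 (the roles of x and y are symmetric) and the flex-tangency is expressed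
by the restriction of the cubic to the line being λ (x − x₀)³. -/
theorem result {k : Type u} [Field k] (h3 : (3 : k) ≠ 0)
    (β a b c : k) (hb : b ≠ 0) (hab : a ^ 3 ≠ b ^ 3) (lam x₀ : k)
    (hflex : (X : k[X]) ^ 3 + (C (-a / b) * X + C (-c / b)) ^ 3 + C β - 3 * X * (C (-a / b) * X + C (-c / b)) =
      C lam * (X - C x₀) ^ 3) :
    ∃ γ : k, β = γ ^ 3 := by
  set s := -a / b with hs
  set t := -c / b with ht
  have expand : (X : k[X]) ^ 3 + (C s * X + C t) ^ 3 + C β - 3 * X * (C s * X + C t) - C lam * (X - C x₀) ^ 3 =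
      C (1 + s ^ 3 - lam) * X ^ 3 + C (3 * (s ^ 2 * t - s + lam * x₀)) * X ^ 2 +
        C (3 * (s * t ^ 2 - t - lam * x₀ ^ 2)) * X + C (t ^ 3 + β + lam * x₀ ^ 3) := by
    simp only [map_add, map_mul, map_sub, map_pow, map_one, map_ofNat]
    ring
  rw [hflex, sub_self] at expand
  have e0 := congrArg (fun p => p.coeff 0) expand
  have e1 := congrArg (fun p => p.coeff 1) expand
  have e2 := congrArg (fun p => p.coeff 2) expand
  have e3 := congrArg (fun p => p.coeff 3) expand
  simp only [Polynomial.coeff_zero, Polynomial.coeff_add, Polynomial.coeff_C_mul, Polynomial.coeff_X_pow,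
    Polynomial.coeff_X, Polynomial.coeff_C] at e0 e1 e2 e3
  norm_num at e0 e1 e2 e3
  have hlam : lam ≠ 0 := by
    intro h
    apply hab
    have h1 : s ^ 3 = -1 := by linear_combination -e3 + h
    have hab' : a = -s * b := by rw [hs]; field_simp
    rw [hab']; linear_combination (-b ^ 3) * h1
  have q2 : s ^ 2 * t - s + lam * x₀ = 0 := by
    rcases e2 with h | h
    · exact absurd h h3
    · exact h
  have q1 : s * t ^ 2 - t - lam * x₀ ^ 2 = 0 := by
    rcases e1 with h | h
    · exact absurd h h3
    · exact h
  by_cases hst : s * t = 1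
  · refine ⟨-t, ?_⟩
    have hx : x₀ = 0 := (mul_eq_zero.1 (show lam * x₀ = 0 by linear_combination q2 - s * hst)).resolve_left hlam
    subst hx
    linear_combination -e0
  · have hne : s * t - 1 ≠ 0 := sub_ne_zero.2 hst
    have h4 : (s * t - 1) * (s ^ 2 * (s * t - 1) - lam * t) = 0 := by
      linear_combination (s ^ 2 * t - s - lam * x₀) * q2 - lam * q1
    have h5 := (mul_eq_zero.1 h4).resolve_left hne
    have ht' : t = -s ^ 2 := by linear_combination -h5 - t * e3
    have hx : x₀ = s := sub_eq_zero.1 ((mul_eq_zero.1 (show lam * (x₀ - s) = 0 by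
      rw [ht'] at q2; linear_combination q2 - s * e3)).resolve_left hlam)
    refine ⟨-s, ?_⟩
    rw [ht', hx] at e0
    linear_combination -e0 - s ^ 3 * e3

end Groth.Agent.S13794
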