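import Groth.Statements.S13797
import Groth.Agent.Lib.AzMod.DetPow
import Mathlib.Algebra.Azumaya.Matrix

set_option autoImplicit false
universe u
open scoped TensorProduct
open Brauer

namespace Groth.Agent.S13797

open GrothLib in

/-- In the case of an affine scheme — let A be a commutative ring, n ≥ 1 and α an A-algebra automorphism
of the n × n matrix algebra over A. The A-module L of matrices M with M N = α(N) M for every matrix
N (the module of sections of the line bundle attached to the torsor of liftings of α to GL_n) is
invertible, and its class in the Picard group of A is n-torsion: the n-fold tensor power of L is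
isomorphic to A (existence of an isomorphism only). (The published statement is for an automorphism
of End(O^n) on any locally ringed site, in the form: the sheaf of liftings is a 𝔾_m-torsor whose
class in Pic is n-torsion; this row is the affine case.) -/
theorem result (A : Type u) [CommRing A] (n : ℕ) (hn : 0 < n)
    (α : Matrix (Fin n) (Fin n) A ≃ₐ[A] Matrix (Fin n) (Fin n) A) :
    Module.Invertible A
        (LinearMap.ker (LinearMap.mul A (Matrix (Fin n) (Fin n) A) -
          (LinearMap.lcomp A (Matrix (Fin n) (Fin n) A) α.toLinearMap).comp (LinearMap.mul A (Matrix (Fin n) (Fin n) A)).flip)) ∧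
      Nonempty ((⨂[A] _ : Fin n,
          LinearMap.ker (LinearMap.mul A (Matrix (Fin n) (Fin n) A) -
            (LinearMap.lcomp A (Matrix (Fin n) (Fin n) A) α.toLinearMap).comp (LinearMap.mul A (Matrix (Fin n) (Fin n) A)).flip)) ≃ₗ[A] A) := by
  have : Nonempty (Fin n) := ⟨⟨0, hn⟩⟩
  have := IsAzumaya.matrix A (Fin n)
  set L := LinearMap.ker (LinearMap.mul A (Matrix (Fin n) (Fin n) A) -
    (LinearMap.lcomp A (Matrix (Fin n) (Fin n) A) α.toLinearMap).comp (LinearMap.mul A (Matrix (Fin n) (Fin n) A)).flip)
  have hL : L = AzMod.twistFixed (α : Matrix (Fin n) (Fin n) A →ₐ[A] Matrix (Fin n) (Fin n) A) := by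
    ext z
    simp [L, AzMod.mem_twistFixed, LinearMap.ext_iff, eq_comm]
    exact forall_congr' fun x => eq_comm.trans sub_eq_zero
  have hinv : Module.Invertible A L := hL ▸ AzMod.twistFixed_invertible α
  refine ⟨hinv, AzMod.piTensor_equiv_of_det (N := L) (fun i => (LinearMap.proj i) ∘ₗ L.subtype) fun m hm => ?_⟩
  obtain ⟨z, w, r, hr, hrm⟩ := AzMod.exists_mul_notMem α m hm.ne_top
  refine ⟨⟨z.1, by rw [hL]; exact z.2⟩, fun hz => hrm (hm.isPrime.mem_of_pow_mem n ?_)⟩
  have h := congrArg Matrix.det hr
  rw [Matrix.det_mul, Matrix.algebraMap_eq_diagonal, Matrix.det_diagonal] at h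
  simp at h
  rw [← h]
  exact m.mul_mem_right _ hz

end Groth.Agent.S13797
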