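import Groth.Statements.S13799
import Groth.Agent.Lib.Cech.Compare
import Groth.Agent.Lib.SheafCoh.Acyclic
-- import your own Groth.Agent.* helpers here

set_option autoImplicit false
universe u
open CategoryTheory Opposite
open CohSite

namespace Groth.Agent.S13799

section
open CategoryTheory.Limits GrothLib

set_option backward.isDefEq.respectTransparency false
set_option backward.isDefEq.respectTransparency.types false

variable {C : Type u} [SmallCategory C] (J : GrothendieckTopology C)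

/-- The constant sheaf on a group. -/
noncomputable abbrev K (A : Type u) [AddCommGroup A] : Sheaf J AddCommGrpCat.{u} :=
  (constantSheaf J AddCommGrpCat.{u}).obj (AddCommGrpCat.of A)

/-- Constants as sections of the constant sheaf. -/
noncomputable def η {A : Type u} [AddCommGroup A] (V : C) : A →+ (K J A).obj.obj (op V) :=
  ((toSheafify J ((Functor.const Cᵒᵖ).obj (AddCommGrpCat.of A))).app (op V)).hom

variable {J} {A : Type u} [AddCommGroup A]

theorem η_res {V W : C} (g : W ⟶ V) (a : A) : (K J A).obj.map g.op (η J V a) = η J W a :=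
  (ConcreteCategory.congr_hom
    ((toSheafify J ((Functor.const Cᵒᵖ).obj (AddCommGrpCat.of A))).naturality g.op) a).symm

theorem η_local {V : C} (c : (K J A).obj.obj (op V)) :
    ∃ S ∈ J V, ∀ ⦃W : C⦄ (g : W ⟶ V), S g → ∃ a : A, η J W a = (K J A).obj.map g.op c := by
  refine ⟨_, Presheaf.imageSieve_mem J (toSheafify J ((Functor.const Cᵒᵖ).obj (AddCommGrpCat.of A))) c, ?_⟩
  rintro W g ⟨a, ha⟩
  exact ⟨a, ha⟩

theorem η_eq {V : C} {a b : A} (h : η J V a = η J V b) :
    ∃ S ∈ J V, ∀ ⦃W : C⦄ (g : W ⟶ V), S g → a = b := by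
  refine ⟨_, Presheaf.equalizerSieve_mem J
    (toSheafify J ((Functor.const Cᵒᵖ).obj (AddCommGrpCat.of A))) (X := op V) a b h, ?_⟩
  intro W g hg
  exact hg

theorem sec_ext (G : Sheaf J AddCommGrpCat.{u}) {V : C} (a b : G.obj.obj (op V)) (S : Sieve V)
    (hS : S ∈ J V) (h : ∀ ⦃W : C⦄ (g : W ⟶ V), S g → G.obj.map g.op a = G.obj.map g.op b) : a = b :=
  (((isSheaf_iff_isSheaf_of_type J _).1
    ((Presheaf.isSheaf_iff_isSheaf_forget J _ (forget AddCommGrpCat.{u})).1 G.property)).isSeparated S hS).ext h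

/-- The element of `V`-sections attached to a map out of the constant sheaf on `ℤ`. -/
noncomputable def ev {G : Sheaf J AddCommGrpCat.{u}} (f : K J (ULift.{u} ℤ) ⟶ G) (V : C) : G.obj.obj (op V) :=
  f.hom.app (op V) (η J V ⟨1⟩)

theorem ev_res {G : Sheaf J AddCommGrpCat.{u}} (f : K J (ULift.{u} ℤ) ⟶ G) {V W : C} (g : W ⟶ V) :
    G.obj.map g.op (ev f V) = ev f W :=
  (NatTrans.naturality_apply f.hom g.op _).symm.trans (congrArg _ (η_res g _))

theorem ev_comp {G G' : Sheaf J AddCommGrpCat.{u}} (f : K J (ULift.{u} ℤ) ⟶ G) (h : G ⟶ G') (V : C) :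
    ev (f ≫ h) V = h.hom.app (op V) (ev f V) := rfl

theorem hom_ext_ev {G : Sheaf J AddCommGrpCat.{u}} {f f' : K J (ULift.{u} ℤ) ⟶ G}
    (h : ∀ V, ev f V = ev f' V) : f = f' := by
  apply Sheaf.hom_ext
  refine sheafify_hom_ext J _ _ G.property (NatTrans.ext (funext fun V => ?_))
  ext z
  obtain ⟨m⟩ := z
  rw [show (⟨m⟩ : ULift.{u} ℤ) = m • ⟨1⟩ from ULift.ext _ _ (by simp)]
  refine (map_zsmul _ m _).trans ((congrArg (m • ·) ?_).trans (map_zsmul _ m _).symm)
  exact h V.unop

theorem exists_hom {G : Sheaf J AddCommGrpCat.{u}} (s : ∀ V, G.obj.obj (op V))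
    (hs : ∀ (V W : C) (g : W ⟶ V), G.obj.map g.op (s V) = s W) :
    ∃ f : K J (ULift.{u} ℤ) ⟶ G, ∀ V, ev f V = s V := by
  let θ : (Functor.const Cᵒᵖ).obj (AddCommGrpCat.of (ULift.{u} ℤ)) ⟶ G.obj :=
    { app := fun V => AddCommGrpCat.ofHom
        ((zmultiplesHom _ (s V.unop)).comp AddEquiv.ulift.toAddMonoidHom)
      naturality := fun V W g => by
        ext z
        exact ((map_zsmul (G.obj.map g).hom _ _).trans (congrArg _ (hs V.unop W.unop g.unop))).symm }
  refine ⟨⟨sheafifyLift J θ G.property⟩, fun V => ?_⟩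
  refine (ConcreteCategory.congr_hom (NatTrans.congr_app (toSheafify_sheafifyLift J θ G.property) (op V))
    (⟨1⟩ : ULift.{u} ℤ)).trans ?_
  exact one_zsmul _

variable (hA : ∀ (m : ℤ) (a : A), m ≠ 0 → m • a = 0 → a = 0)

variable (A) in
/-- Multiples of `m`. -/
abbrev mul (m : ℤ) : AddSubgroup A := (zsmulAddGroupHom m : A →+ A).range

/-- A chosen representative modulo `m`. -/
noncomputable def rep (m : ℤ) (a : A) : A := (QuotientAddGroup.mk' (mul A m) a).out

theorem rep_spec (m : ℤ) (a : A) : ∃ b : A, a = rep m a + m • b := by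
  obtain ⟨b, hb⟩ : -rep m a + a ∈ mul A m :=
    QuotientAddGroup.eq.1 (Quotient.out_eq' (QuotientAddGroup.mk' (mul A m) a))
  refine ⟨b, ?_⟩
  change a = rep m a + (zsmulAddGroupHom m : A →+ A) b
  rw [hb]
  abel

theorem rep_congr (m : ℤ) {a b c : A} (h : m • c = rep m a - rep m b) : rep m a = rep m b := by
  have h1 : ∀ z : A, QuotientAddGroup.mk' (mul A m) (rep m z) = QuotientAddGroup.mk' (mul A m) z :=
    fun z => Quotient.out_eq' _
  have h2 : QuotientAddGroup.mk' (mul A m) a = QuotientAddGroup.mk' (mul A m) b := by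
    rw [← h1 a, ← h1 b]
    refine (QuotientAddGroup.eq (s := mul A m)).2 ⟨-c, ?_⟩
    change m • (-c) = _
    rw [smul_neg, h]
    abel
  exact congrArg Quotient.out h2

theorem app_zero {S : ShortComplex (Sheaf J AddCommGrpCat.{u})} (hS : S.ShortExact) (V : C) :
    Function.Injective (S.f.hom.app (op V)) := by
  have := hS.mono_f
  have : Mono (((sheafToPresheaf J AddCommGrpCat.{u}).map S.f).app (op V)) :=
    inferInstanceAs (Mono (((sheafToPresheaf J AddCommGrpCat.{u}) ⋙
      (evaluation Cᵒᵖ AddCommGrpCat.{u}).obj (op V)).map S.f))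
  exact (AddCommGrpCat.mono_iff_injective _).1 this

end


/-- On a site, take a torsion-free abelian group A, and let φ be a locally nonzero global section of the
constant sheaf ℤ, viewed as an endomorphism of the constant abelian sheaf ℤ: there are objects U_i
which cover every object of the site locally and nonzero integers n_i such that φ is multiplication
by n_i on every object over U_i. Then the first cohomology H¹(A) of the constant sheaf on A (the
Ext-based sheaf cohomology of the site) has no φ-torsion: a class x with φ · x = 0 is zero, where φ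
acts on H¹(A) = Ext¹(ℤ, A) by precomposition. (The published statement takes the section in the
constant sheaf of A itself, with a module structure over its global sections that is defined for A =
ℤ; this row lets a locally nonzero section of the constant sheaf ℤ act on H¹(A), which is the
published statement when A = ℤ and is what the published proof establishes for any torsion-free A.
The published definition of a locally nonzero section also asks the covering family to be nonempty;
when it is empty every sheaf is terminal and the conclusion holds trivially, so that condition is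
omitted.) -/
theorem result {C : Type u} [SmallCategory C] (J : GrothendieckTopology C)
    {A : Type u} [AddCommGroup A] (hA : ∀ (m : ℤ) (a : A), m ≠ 0 → m • a = 0 → a = 0)
    (φ : (constantSheaf J AddCommGrpCat.{u}).obj (AddCommGrpCat.of (ULift.{u} ℤ)) ⟶
      (constantSheaf J AddCommGrpCat.{u}).obj (AddCommGrpCat.of (ULift.{u} ℤ)))
    {ι : Type u} (U : ι → C) (n : ι → ℤ) (hn : ∀ i, n i ≠ 0)
    (hφ : ∀ (i : ι) (V : C) (_ : V ⟶ U i), φ.hom.app (op V) = n i • 𝟙 _)
    (hcov : ∀ V : C, ∃ R ∈ J V, ∀ ⦃W : C⦄ (g : W ⟶ V), R g → ∃ i, Nonempty (W ⟶ U i))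
    (x : Sheaf.H ((constantSheaf J AddCommGrpCat.{u}).obj (AddCommGrpCat.of A)) 1)
    (hx : (Abelian.Ext.mk₀ φ).comp x (zero_add 1) = 0) :
    x = 0 := by
  classical
  let S : ShortComplex (Sheaf J AddCommGrpCat.{u}) := GrothLib.SheafCoh.injSES (K J A)
  have hS : S.ShortExact := GrothLib.SheafCoh.injSES_shortExact (K J A)
  obtain ⟨y, rfl⟩ := GrothLib.SheafCoh.extClass_surjective hS 0
    (Abelian.Ext.subsingleton_of_injective _ _ _) x
  obtain ⟨s, rfl⟩ := (Abelian.Ext.mk₀_bijective _ _).2 y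
  rw [← Abelian.Ext.comp_assoc_of_second_deg_zero, Abelian.Ext.mk₀_comp_mk₀] at hx
  obtain ⟨w, hw⟩ := Abelian.Ext.covariant_sequence_exact₃ _ hS _ rfl hx
  obtain ⟨t, rfl⟩ := (Abelian.Ext.mk₀_bijective _ _).2 w
  rw [Abelian.Ext.mk₀_comp_mk₀] at hw
  have hts : t ≫ S.g = φ ≫ s := (Abelian.Ext.mk₀_bijective _ _).1 hw
  suffices h : ∃ t' : _ ⟶ S.X₂, t' ≫ S.g = s by
    obtain ⟨t', rfl⟩ := h
    rw [← Abelian.Ext.mk₀_comp_mk₀, Abelian.Ext.comp_assoc_of_second_deg_zero, hS.comp_extClass,
      Abelian.Ext.comp_zero]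
  have hev : ∀ (i : ι) (V : C), (V ⟶ U i) →
      S.g.hom.app (op V) (ev t V) = n i • ev s V := fun i V g => by
    rw [← ev_comp, hts]
    refine (congrArg (fun z => s.hom.app (op V) z) (ConcreteCategory.congr_hom (hφ i V g) (η J V ⟨1⟩))).trans ?_
    exact map_zsmul (s.hom.app (op V)).hom _ _
  let Good : ∀ V : C, S.X₂.obj.obj (op V) → Prop := fun V u =>
    S.g.hom.app (op V) u = ev s V ∧ ∃ R ∈ J V, ∀ ⦃W : C⦄ (g : W ⟶ V), R g →
      ∃ (i : ι) (_ : W ⟶ U i) (a : A),
        n i • S.X₂.obj.map g.op u - ev t W = S.f.hom.app (op W) (η J W (rep (n i) a))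
  have good_res : ∀ {V W : C} (g : W ⟶ V) (u : S.X₂.obj.obj (op V)), Good V u →
      Good W (S.X₂.obj.map g.op u) := by
    rintro V W g u ⟨e, R, hR, h⟩
    refine ⟨?_, R.pullback g, J.pullback_stable g hR, fun Z k hk => ?_⟩
    · refine (NatTrans.naturality_apply S.g.hom g.op u).trans ?_
      rw [e, ev_res]
    · obtain ⟨i, k', a, ha⟩ := h (k ≫ g) hk
      refine ⟨i, k', a, ?_⟩
      rw [← ha, op_comp, Functor.map_comp_apply]
  have good_unique : ∀ {V : C} (u u' : S.X₂.obj.obj (op V)), Good V u → Good V u' → u = u' := by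
    rintro V u u' ⟨e, R, hR, h⟩ ⟨e', R', hR', h'⟩
    obtain ⟨c, hc⟩ := GrothLib.Cech.sections_exact hS V (u - u') (by rw [map_sub, e, e', sub_self])
    obtain ⟨R₂, hR₂, h₂⟩ := η_local c
    refine sec_ext _ u u' (R ⊓ R' ⊓ R₂) (J.intersection_covering (J.intersection_covering hR hR') hR₂)
      fun W g hg => ?_
    obtain ⟨i, k, a, ha⟩ := h g hg.1.1
    obtain ⟨j, k', a', ha'⟩ := h' g hg.1.2
    obtain ⟨c₀, hc₀⟩ := h₂ g hg.2
    have hij : η J W (⟨n i⟩ : ULift.{u} ℤ) = η J W ⟨n j⟩ := by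
      have h1 := ConcreteCategory.congr_hom ((hφ i W k).symm.trans (hφ j W k')) (η J W ⟨1⟩)
      change n i • η J W (⟨1⟩ : ULift.{u} ℤ) = n j • η J W ⟨1⟩ at h1
      rw [← map_zsmul, ← map_zsmul] at h1
      refine ((congrArg _ ?_).symm.trans h1).trans (congrArg _ ?_) <;> exact ULift.ext _ _ (by simp)
    obtain ⟨R₃, hR₃, h₃⟩ := η_eq hij
    refine sec_ext _ _ _ R₃ hR₃ fun Z z hz => ?_
    have hnij : n i = n j := congrArg ULift.down (h₃ z hz)
    rw [← hnij] at ha'
    have key : S.f.hom.app (op W) (η J W (n i • c₀)) =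
        S.f.hom.app (op W) (η J W (rep (n i) a - rep (n i) a')) := by
      rw [map_zsmul, map_zsmul, map_sub, map_sub, ← ha, ← ha', hc₀, sub_sub_sub_cancel_right,
        ← smul_sub, ← map_sub]
      exact congrArg (fun z => n i • z) ((NatTrans.naturality_apply S.f.hom g.op c).trans (congrArg _ hc))
    obtain ⟨R₄, hR₄, h₄⟩ := η_eq (app_zero hS W key)
    refine sec_ext _ _ _ (R₄.pullback z) (J.pullback_stable z hR₄) fun Z' z' hz' => ?_
    have e4 := h₄ _ hz'
    have hr : rep (n i) a = rep (n i) a' := rep_congr _ e4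
    rw [hr, sub_self] at e4
    have hc0 : c₀ = 0 := hA _ _ (hn i) e4
    rw [hc0, map_zero] at hc₀
    have he : S.X₂.obj.map g.op (u - u') = 0 := by
      rw [← hc, ← NatTrans.naturality_apply S.f.hom g.op c, ← hc₀, map_zero]
    rw [map_sub, sub_eq_zero] at he
    rw [he]
  have := hS.epi_g
  have good_local : ∀ V : C, ∃ R ∈ J V, ∀ ⦃W : C⦄ (g : W ⟶ V), R g → ∃ u, Good W u := by
    intro V
    obtain ⟨R₁, hR₁, h₁⟩ := hcov V
    refine ⟨_, J.bind_covering (S := R₁ ⊓ Presheaf.imageSieve S.g.hom (ev s V))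
      (R := fun W g _ => Sieve.generate fun Z (z : Z ⟶ W) => ∃ u, Good Z u)
      (J.intersection_covering hR₁ (GrothLib.SheafCoh.imageSieve_mem_of_epi S.g (ev s V))) ?_, ?_⟩
    · intro W g hg
      obtain ⟨i, ⟨k⟩⟩ := h₁ g hg.1
      obtain ⟨u, hu⟩ := hg.2
      replace hu : S.g.hom.app (op W) u = ev s W := hu.trans (ev_res s g)
      obtain ⟨c, hc⟩ := GrothLib.Cech.sections_exact hS W (n i • u - ev t W) (by
        rw [map_sub, map_zsmul, hu, hev i W k, sub_self])
      obtain ⟨R₂, hR₂, h₂⟩ := η_local c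
      refine J.superset_covering ?_ hR₂
      intro Z z hz
      obtain ⟨a, ha⟩ := h₂ z hz
      obtain ⟨b, hb⟩ := rep_spec (n i) a
      refine ⟨Z, 𝟙 Z, z, ⟨S.X₂.obj.map z.op u - S.f.hom.app (op Z) (η J Z b), ?_, ⊤, J.top_mem Z, ?_⟩,
        Category.id_comp z⟩
      · rw [map_sub, NatTrans.naturality_apply S.g.hom z.op u, hu, ev_res]
        have hz0 : S.g.hom.app (op Z) (S.f.hom.app (op Z) (η J Z b)) = 0 :=
          ConcreteCategory.congr_hom (congrArg (fun k => k.hom.app (op Z)) S.zero) _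
        rw [hz0, sub_zero]
      · intro Z' z' _
        refine ⟨i, z' ≫ z ≫ k, a, ?_⟩
        have e1 : n i • S.X₂.obj.map z.op u - ev t Z = S.f.hom.app (op Z) (η J Z a) := by
          rw [ha, NatTrans.naturality_apply S.f.hom z.op c, hc, map_sub, map_zsmul, ev_res]
        have e2 := congrArg (S.X₂.obj.map z'.op) e1
        rw [map_sub, map_zsmul, ev_res, ← NatTrans.naturality_apply S.f.hom z'.op, η_res] at e2
        rw [map_sub, smul_sub, ← NatTrans.naturality_apply S.f.hom z'.op, η_res, sub_right_comm, e2,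
          ← map_zsmul, ← map_zsmul, ← map_sub, ← map_sub, sub_eq_iff_eq_add.2 hb]
    · rintro W g ⟨Z, p, q, hq, ⟨Z', p', q', ⟨u, hu⟩, rfl⟩, rfl⟩
      exact ⟨_, good_res p' u hu⟩
  have hglue : ∀ V : C, ∃ u, Good V u := by
    intro V
    obtain ⟨R, hR, h⟩ := good_local V
    choose uu huu using h
    have hsh := (isSheaf_iff_isSheaf_of_type J _).1
      ((Presheaf.isSheaf_iff_isSheaf_forget J _ (forget AddCommGrpCat.{u})).1 S.X₂.property) R hR
    let fam : Presieve.FamilyOfElements (S.X₂.obj ⋙ forget AddCommGrpCat.{u}) R.arrows :=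
      fun W g hg => uu g hg
    have hfam : fam.Compatible := fun Y₁ Y₂ Z g₁ g₂ f₁ f₂ hf₁ hf₂ _ =>
      good_unique _ _ (good_res g₁ _ (huu f₁ hf₁)) (good_res g₂ _ (huu f₂ hf₂))
    obtain ⟨u, hu, -⟩ := hsh fam hfam
    refine ⟨u, sec_ext _ _ _ R hR fun W g hg => ?_, ?_⟩
    · rw [ev_res, ← (huu g hg).1, ← NatTrans.naturality_apply S.g.hom g.op u]
      exact congrArg _ (hu g hg)
    · choose hv Rg hRg hg' using huu
      refine ⟨_, J.bind_covering (R := fun W g hg => Rg g hg) hR (fun W g hg => hRg g hg), ?_⟩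
      rintro W g ⟨Z, p, q, hq, hp, rfl⟩
      obtain ⟨i, k, a, ha⟩ := hg' q hq p hp
      refine ⟨i, k, a, ?_⟩
      rw [op_comp, Functor.map_comp_apply]
      exact (congrArg (fun z => n i • S.X₂.obj.map p.op z - ev t W) (hu q hq)).trans ha
  choose u hu using hglue
  obtain ⟨t', ht'⟩ := exists_hom u fun V W g => good_unique _ _ (good_res g _ (hu V)) (hu W)
  exact ⟨t', hom_ext_ev fun V => by rw [ev_comp, ht', (hu V).1]⟩

end Groth.Agent.S13799
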