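import Groth.Statements.S13800
import Groth.Agent.Lib.AffLine18.Punctured
-- import your own Groth.Agent.* helpers here

set_option autoImplicit false
universe u
open CategoryTheory AlgebraicGeometry Polynomial
open EtCoh

namespace Groth.Agent.S13800

/-- Let k be an algebraically closed field, ℓ ≥ 1 an integer invertible in k, and a₁, …, a_r (r ≥ 1)
distinct elements of k, viewed as k-points of the affine line 𝔸¹_k = Spec k[x]. Let j : U → 𝔸¹_k be
an open immersion whose image is the complement of these points (the basic open set of ∏ (x − a_i)),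
and let j_! μ_ℓ be the extension by zero of the sheaf of ℓ-th roots of unity on the small étale
site. Then H^s(𝔸¹_k, j_! μ_ℓ) = 0 for s ≠ 1, and H¹(𝔸¹_k, j_! μ_ℓ) is isomorphic to μ_ℓ(k)^(r−1)
(existence of an isomorphism of abelian groups). -/
theorem result {k : Type u} [Field k] [IsAlgClosed k]
    (ℓ : ℕ) (hℓ : (ℓ : k) ≠ 0) (r : ℕ) (hr : 0 < r) (a : Fin r → k) (ha : Function.Injective a)
    {U : Scheme.{u}} (j : U ⟶ Spec (CommRingCat.of k[X])) [IsOpenImmersion j] [Etale j] [EtShriek.JCont j]
    (hj : j.opensRange = (Spec (CommRingCat.of k[X])).basicOpen ((Scheme.ΓSpecIso (CommRingCat.of k[X])).inv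
      (Finset.univ.prod fun i => (X - C (a i))))) :
    (∀ s : ℕ, s ≠ 1 → Subsingleton (EtCoh.H (Spec (CommRingCat.of k[X])) ((EtShriek.extZero j).obj (EtCoh.mu U ℓ)) s)) ∧
      Nonempty (EtCoh.H (Spec (CommRingCat.of k[X])) ((EtShriek.extZero j).obj (EtCoh.mu U ℓ)) 1 ≃+
        (Fin (r - 1) → Additive (rootsOfUnity ℓ k))) := by
  exact GrothLib.AffLine18.H_extZero_mu a j ℓ hℓ hr ha hj

end Groth.Agent.S13800
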