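import Groth.Statements.S13801
-- import your own Groth.Agent.* helpers here
import Mathlib.NumberTheory.Padics.PadicVal.Basic
import Mathlib.Data.Nat.Choose.Basic
import Mathlib.Data.Nat.Factorial.BigOperators

set_option autoImplicit false
open ChowMon

namespace Groth.Agent.S13801

/-- For a prime p and positive natural numbers a_1, ..., a_k with sum n one has v_p(a_1!) + ... +
v_p(a_k!) ≤ v_p(n!), and the inequality is strict whenever some a_i is not divisible by p^(v_p(n)). -/
theorem result {k : ℕ} (p : ℕ) [Fact p.Prime]
    (a : Fin k → ℕ) (ha : ∀ i, 0 < a i) :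
    (∑ i, padicValNat p (a i).factorial ≤ padicValNat p (∑ i, a i).factorial) ∧
      ((∃ i, ¬ p ^ padicValNat p (∑ j, a j) ∣ a i) →
        ∑ i, padicValNat p (a i).factorial < padicValNat p (∑ i, a i).factorial) := by
  have hle : ∀ s : Finset (Fin k), ∑ i ∈ s, padicValNat p (a i).factorial ≤ padicValNat p (∑ i ∈ s, a i).factorial := by
    intro s
    induction s using Finset.induction_on with
    | empty => simp
    | insert i s hi ih =>
      rw [Finset.sum_insert hi, Finset.sum_insert hi]
      refine le_trans (Nat.add_le_add_left ih _) ?_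
      rw [← padicValNat.mul (Nat.factorial_ne_zero _) (Nat.factorial_ne_zero _)]
      exact (padicValNat_dvd_iff_le (Nat.factorial_ne_zero _)).mp
        (pow_padicValNat_dvd.trans (Nat.factorial_mul_factorial_dvd_factorial_add _ _))
  refine ⟨hle _, ?_⟩
  rintro ⟨i, hi⟩
  set n := ∑ j, a j with hn
  have hsplit : n = a i + ∑ j ∈ Finset.univ.erase i, a j := (Finset.add_sum_erase _ _ (Finset.mem_univ i)).symm
  set b := ∑ j ∈ Finset.univ.erase i, a j with hb
  have hC : p ∣ n.choose (a i) := by
    by_contra hnd
    have hn0 : n ≠ 0 := by have := ha i; omega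
    have hai : a i ≠ 0 := (ha i).ne'
    have hC0 : (n - 1).choose (a i - 1) ≠ 0 := (Nat.choose_pos (by omega)).ne'
    have hC1 : n.choose (a i) ≠ 0 := (Nat.choose_pos (by omega)).ne'
    have hid : n * (n - 1).choose (a i - 1) = n.choose (a i) * a i := by
      have := Nat.add_one_mul_choose_eq (n - 1) (a i - 1)
      rwa [Nat.sub_add_cancel (by omega), Nat.sub_add_cancel (ha i)] at this
    have := congrArg (padicValNat p) hid
    rw [padicValNat.mul hn0 hC0, padicValNat.mul hC1 hai, padicValNat.eq_zero_of_not_dvd hnd, zero_add] at this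
    exact hi ((padicValNat_dvd_iff_le hai).mpr (by omega))
  have hrest := hle (Finset.univ.erase i)
  rw [← Finset.add_sum_erase _ _ (Finset.mem_univ i), ← hb] at *
  have hfac : n.choose (a i) * (a i).factorial * b.factorial = n.factorial := by
    have := Nat.choose_mul_factorial_mul_factorial (show a i ≤ n by omega)
    rwa [show n - a i = b by omega] at this
  have hC1 : n.choose (a i) ≠ 0 := (Nat.choose_pos (by omega)).ne'
  have hv := congrArg (padicValNat p) hfac
  rw [padicValNat.mul (Nat.mul_ne_zero hC1 (Nat.factorial_ne_zero _)) (Nat.factorial_ne_zero _),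
    padicValNat.mul hC1 (Nat.factorial_ne_zero _)] at hv
  have hpos : 0 < padicValNat p (n.choose (a i)) :=
    Nat.lt_of_lt_of_le Nat.zero_lt_one (one_le_padicValNat_of_dvd hC1 hC)
  omega

end Groth.Agent.S13801
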