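import Groth.Statements.S13805
import Groth.Agent.Lib.EtaPt.Spec

set_option autoImplicit false
universe u
open EtaPt

namespace Groth.Agent.S13805

/-- For a commutative ring A with finitely many minimal prime ideals, every integral ring map f from
M_η(A) to a reduced ring B with N_η(f) bijective is itself bijective. Here η is a natural
transformation from the identity of the category of fields to an endofunctor F with F(η_K) bijective
and η_K purely inseparable for every field K, N_η(A) is the product of the F(k(p)) over the primes p
of A with diagonal map t_A, and M_η(A) ⊆ N_η(A) is the subring of elements sent into the range of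
t_R by every ring map from A to a valuation ring R at whose fraction field η is bijective; q_A : A →
M_η(A) is the corestriction of t_A. -/
theorem result (η : EtaPt.FieldEndo.{u}) (A : Type u) [CommRing A]
    (hA : (minimalPrimes A).Finite) (B : Type u) [CommRing B] [IsReduced B] (f : η.M A →+* B)
    (hf : f.IsIntegral) (hN : Function.Bijective (η.Nmap f)) : Function.Bijective f := by
  have h := GrothLib.EtaPt.bijOn_Nmap_M η hf hN
  have hq := GrothLib.EtaPt.bijective_q_M η (A := A) hA
  refine ⟨fun x y e => ?_, fun b => ?_⟩
  · refine hq.1 (Subtype.ext (hN.1 ?_))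
    show η.Nmap f (η.t _ x) = η.Nmap f (η.t _ y)
    rw [η.Nmap_t_apply, η.Nmap_t_apply, e]
  · obtain ⟨z, hz, e⟩ := h.surjOn (η.t_mem_M B b)
    obtain ⟨x, hx⟩ := hq.2 ⟨z, hz⟩
    refine ⟨x, ?_⟩
    rw [← sub_eq_zero]
    refine IsNilpotent.eq_zero ((GrothLib.EtaPt.t_eq_zero_iff η).mp ?_)
    rw [map_sub, ← η.Nmap_t_apply, show η.t _ x = z from congrArg Subtype.val hx, e, sub_self]

end Groth.Agent.S13805
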