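import Groth.Statements.S13806
import Groth.Agent.Lib.EtaPt.Spec

set_option autoImplicit false
universe u
open EtaPt

namespace Groth.Agent.S13806

/-- For a commutative ring A with finitely many minimal prime ideals and an integral ring map g : A → B
with N_η(g) bijective, there is exactly one ring map g' : B → M_η(A) with g' ∘ g = q_A. Here η is a
natural transformation from the identity of the category of fields to an endofunctor F with F(η_K)
bijective and η_K purely inseparable for every field K, N_η(A) is the product of the F(k(p)) over
the primes p of A with diagonal map t_A, and M_η(A) ⊆ N_η(A) is the subring of elements sent into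
the range of t_R by every ring map from A to a valuation ring R at whose fraction field η is
bijective; q_A : A → M_η(A) is the corestriction of t_A. -/
theorem result (η : EtaPt.FieldEndo.{u}) (A : Type u) [CommRing A]
    (hA : (minimalPrimes A).Finite) (B : Type u) [CommRing B] (g : A →+* B)
    (hg : g.IsIntegral) (hN : Function.Bijective (η.Nmap g)) :
    ∃! g' : B →+* η.M A, g'.comp g = η.q A := by
  have h := GrothLib.EtaPt.bijOn_Nmap_M η hg hN
  let e := RingEquiv.ofBijective (η.Nmap g) hN
  have key : ∀ b, e.symm (η.t B b) ∈ η.M A := fun b => by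
    obtain ⟨z, hz, ez⟩ := h.surjOn (η.t_mem_M B b)
    rw [← ez]
    erw [e.symm_apply_apply]
    exact hz
  refine ⟨(e.symm.toRingHom.comp (η.t B)).codRestrict (η.M A) key,
    RingHom.ext fun a => Subtype.ext ?_, fun g'' h'' => ?_⟩
  · show e.symm (η.t B (g a)) = η.t A a
    rw [← η.Nmap_t_apply]
    exact e.symm_apply_apply _
  · refine RingHom.ext fun b => Subtype.ext (funext fun p => ?_)
    obtain ⟨ψ', -, huniq⟩ := GrothLib.EtaPt.existsUnique_extend η hN
      (GrothLib.EtaPt.bij_obj η p.asIdeal.ResidueField) (GrothLib.EtaPt.ptHom η p)
    have h1 := huniq ((GrothLib.EtaPt.evM η p).comp g'') (by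
      show ((GrothLib.EtaPt.evM η p).comp g'').comp g = _
      rw [RingHom.comp_assoc, h'', GrothLib.EtaPt.evM_comp_q])
    have h2 := huniq ((GrothLib.EtaPt.evM η p).comp
      ((e.symm.toRingHom.comp (η.t B)).codRestrict (η.M A) key)) (by
      refine RingHom.ext fun a => congrFun (f := e.symm (η.t B (g a))) (g := η.t A a) ?_ p
      rw [← η.Nmap_t_apply]
      exact e.symm_apply_apply _)
    exact RingHom.congr_fun (h1.trans h2.symm) b

end Groth.Agent.S13806
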