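import Groth.Statements.S13809
import Groth.Agent.Lib.EtaPt.Pow

set_option autoImplicit false
universe u
open EtaPt

namespace Groth.Agent.S13809

/-- For an integrally closed domain A such that η is bijective at the fraction field of A, the map q_A :
A → M_η(A) is bijective. Here η is a natural transformation from the identity of the category of
fields to an endofunctor F with F(η_K) bijective and η_K purely inseparable for every field K,
N_η(A) is the product of the F(k(p)) over the primes p of A with diagonal map t_A, and M_η(A) ⊆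
N_η(A) is the subring of elements sent into the range of t_R by every ring map from A to a valuation
ring R at whose fraction field η is bijective; q_A : A → M_η(A) is the corestriction of t_A. -/
theorem result (η : EtaPt.FieldEndo.{u}) (A : Type u) [CommRing A] [IsDomain A] [IsIntegrallyClosed A]
    (hA : η.InV A) : Function.Bijective (η.q A) := by
  refine ⟨fun x y e => ?_, fun x => ?_⟩
  · rw [← sub_eq_zero]
    exact IsNilpotent.eq_zero (GrothLib.EtaPt.isNilpotent_of_q_eq_zero η (by rw [map_sub, e, sub_self]))
  let p₀ : PrimeSpectrum A := ⟨⊥, Ideal.isPrime_bot⟩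
  let K := (⊥ : Ideal A).ResidueField
  have hK : Function.Bijective (η.eta K) := GrothLib.EtaPt.bij_of_ringEquiv η
    (IsLocalization.algEquiv (nonZeroDivisors A) (FractionRing A) K).toRingEquiv hA
  obtain ⟨z, hz⟩ := hK.2 ((x : η.N A) p₀)
  obtain ⟨P, hP, hP0⟩ := GrothLib.EtaPt.isIntegralElem_ev η x.2
    (GrothLib.EtaPt.bij_obj η K) (GrothLib.EtaPt.ptHom η p₀)
  rw [GrothLib.EtaPt.ev_ptHom, ← hz] at hP0
  erw [← Polynomial.hom_eval₂, map_eq_zero] at hP0
  obtain ⟨r, hr⟩ := IsIntegrallyClosed.isIntegral_iff.mp (⟨P, hP, hP0⟩ : IsIntegral A z)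
  refine ⟨r, Subtype.ext (GrothLib.EtaPt.M_ext η (η.t_mem_M A r) x.2 fun p => ⟨p₀, bot_le, ?_⟩)⟩
  rw [← hz, ← hr]
  rfl

end Groth.Agent.S13809
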