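import Groth.Statements.S1381
import Groth.Agent.Lib.FibreFlat.FibreMap
-- import your own Groth.Agent.* helpers here

set_option autoImplicit false
universe u
open FlatMor

namespace Groth.Agent.S1381

open AlgebraicGeometry CategoryTheory Limits in
/-- Let S ⟶ S' be an arbitrary thickening, let X' ⟶ Y' be a morphism of schemes over S' with X' flat and
locally of finite presentation over S' and Y' locally of finite type over S', and let X ⟶ Y be its
base change to S. Then X ⟶ Y is flat if and only if X' ⟶ Y' is. -/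
theorem result {X X' Y Y' S S' : Scheme.{u}} (iX : X ⟶ X') (iY : Y ⟶ Y') (iS : S ⟶ S')
    (f : X ⟶ Y) (f' : X' ⟶ Y') (g : Y ⟶ S) (g' : Y' ⟶ S')
    (hS : MoreMor.IsThickening iS) (hcX : IsPullback iX (f ≫ g) (f' ≫ g') iS) (hcY : IsPullback iY g g' iS)
    (w : iX ≫ f' = f ≫ iY) [Flat (f' ≫ g')] [LocallyOfFinitePresentation (f' ≫ g')] [LocallyOfFiniteType g'] :
    Flat f ↔ Flat f' := by
  have sq : IsPullback iX f f' iY := IsPullback.of_bot hcX w hcY
  refine ⟨fun hf => ?_, fun hf' => MorphismProperty.of_isPullback sq hf'⟩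
  have := hS.1; have := hS.2
  refine (Flat.iff_flat_stalkMap f').2 fun x => ?_
  have hfib : ∀ s' : S', Flat (MoreMor.fiberMap f' g' s') := by
    intro s'
    obtain ⟨s, rfl⟩ := iS.surjective s'
    have : IsIso (iS.residueFieldMap s) := by
      refine (ConcreteCategory.isIso_iff_bijective _).2 ⟨RingHom.injective _, fun z => ?_⟩
      obtain ⟨z, rfl⟩ := S.residue_surjective s z
      obtain ⟨z, rfl⟩ := iS.stalkMap_surjective s z
      exact ⟨S'.residue (iS s) z, ConcreteCategory.congr_hom (Scheme.residue_residueFieldMap iS s) z⟩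
    let t : Spec (S'.residueField (iS s)) ⟶ S :=
      Spec.map (inv (iS.residueFieldMap s)) ≫ S.fromSpecResidueField s
    have ht : t ≫ iS = S'.fromSpecResidueField (iS s) := by
      simp only [t, Category.assoc]
      rw [← iS.SpecMap_residueFieldMap_fromSpecResidueField, ← Spec.map_comp_assoc, IsIso.hom_inv_id,
        Spec.map_id, Category.id_comp]
    let q := hcY.lift (g'.fiberι (iS s)) (g'.fiberToSpecResidueField (iS s) ≫ t)
      (by rw [Category.assoc, ht]; exact g'.fiber_fac (iS s))
    have hq : q ≫ iY = g'.fiberι (iS s) := hcY.lift_fst _ _ _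
    have h1 : IsPullback (pullback.fst f q ≫ iX) (pullback.snd f q) f' (g'.fiberι (iS s)) :=
      hq ▸ (IsPullback.of_hasPullback f q).paste_horiz sq
    have h2 : IsPullback ((f' ≫ g').fiberι (iS s)) (MoreMor.fiberMap f' g' (iS s)) f'
        (g'.fiberι (iS s)) := by
      refine IsPullback.of_bot ?_ (pullback.lift_fst _ _ _).symm (IsPullback.of_hasPullback g' _)
      unfold MoreMor.fiberMap
      erw [pullback.lift_snd]
      exact IsPullback.of_hasPullback (f' ≫ g') _
    rw [← h2.isoIsPullback_hom_snd _ _ h1]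
    infer_instance
  exact ((GrothLib.FibreFlat.critere_par_fibres f' g' x).1
    ⟨Flat.stalkMap (f' ≫ g') x,
      (GrothLib.FibreFlat.flat_fiberMap_stalkMap_iff f' g' (g' (f' x)) ((f' ≫ g').asFiber x) x
        ((f' ≫ g').fiberι_asFiber x)).1
        (have := hfib (g' (f' x)); Flat.stalkMap _ _)⟩).2

end Groth.Agent.S1381
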