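import Groth.Statements.S13810
import Groth.Agent.Lib.EtaPt.Basic

set_option autoImplicit false
universe u
open EtaPt

namespace Groth.Agent.S13810

theorem exists_factor {A B R : Type u} [CommRing A] [CommRing B] [CommRing R] [IsDomain R]
    (g : A × B →+* R) :
    (∃ g' : A →+* R, g'.comp (RingHom.fst A B) = g) ∨ ∃ g' : B →+* R, g'.comp (RingHom.snd A B) = g := by
  have hsum : g (1, 0) + g (0, 1) = 1 := by rw [← map_add]; simp [show ((1, 1) : A × B) = 1 from rfl]
  have hmul : g (1, 0) * g (0, 1) = 0 := by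
    rw [← map_mul]; simp [show ((0, 0) : A × B) = 0 from rfl]
  rcases mul_eq_zero.mp hmul with h | h
  · have h01 : g (0, 1) = 1 := by rwa [h, zero_add] at hsum
    refine Or.inr ⟨{ toFun := fun b => g (0, b)
                     map_one' := h01
                     map_zero' := g.map_zero
                     map_mul' := fun x y => by rw [← map_mul]; simp
                     map_add' := fun x y => by rw [← map_add]; simp }, RingHom.ext fun ⟨x, y⟩ => ?_⟩
    show g (0, y) = g (x, y)
    have : g (x, y) * g (0, 1) = g (0, y) := by rw [← map_mul]; simp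
    rwa [h01, mul_one, eq_comm] at this
  · have h10 : g (1, 0) = 1 := by rwa [h, add_zero] at hsum
    refine Or.inl ⟨{ toFun := fun a => g (a, 0)
                     map_one' := h10
                     map_zero' := g.map_zero
                     map_mul' := fun x y => by rw [← map_mul]; simp
                     map_add' := fun x y => by rw [← map_add]; simp }, RingHom.ext fun ⟨x, y⟩ => ?_⟩
    show g (x, 0) = g (x, y)
    have : g (x, y) * g (1, 0) = g (x, 0) := by rw [← map_mul]; simp
    rwa [h10, mul_one, eq_comm] at this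

theorem exists_Nmap_eq (η : EtaPt.FieldEndo.{u}) {A B : Type u} [CommRing A] [CommRing B]
    (a : η.N A) (b : η.N B) :
    ∃ x : η.N (A × B), η.Nmap (RingHom.fst A B) x = a ∧ η.Nmap (RingHom.snd A B) x = b := by
  have key : ∀ P : PrimeSpectrum (A × B), ∃ z : η.obj P.asIdeal.ResidueField,
      ∀ (L : Type u) [Field L] (hL : Function.Bijective (η.eta L)),
        (∀ ψ : A →+* L, GrothLib.EtaPt.pt (ψ.comp (RingHom.fst A B)) = P →
          ∀ h : P.asIdeal.ResidueField →+* L, h.comp (algebraMap _ _) = ψ.comp (RingHom.fst A B) →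
          GrothLib.EtaPt.ext η hL h z = GrothLib.EtaPt.ev η hL ψ a) ∧
        (∀ ψ : B →+* L, GrothLib.EtaPt.pt (ψ.comp (RingHom.snd A B)) = P →
          ∀ h : P.asIdeal.ResidueField →+* L, h.comp (algebraMap _ _) = ψ.comp (RingHom.snd A B) →
          GrothLib.EtaPt.ext η hL h z = GrothLib.EtaPt.ev η hL ψ b) := by
    intro P
    obtain ⟨g', hg⟩ | ⟨g', hg⟩ := exists_factor (GrothLib.EtaPt.ptHom η P)
    · refine ⟨GrothLib.EtaPt.ev η (GrothLib.EtaPt.bij_obj η _) g' a, fun L _ hL => ⟨fun ψ hψ h hh => ?_,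
        fun ψ hψ => ?_⟩⟩
      · rw [← GrothLib.EtaPt.ev_comp η]
        refine congrArg (fun φ => GrothLib.EtaPt.ev η hL φ _) ?_
        refine RingHom.ext fun x => ?_
        obtain ⟨y, rfl⟩ : ∃ y : A × B, RingHom.fst A B y = x := ⟨(x, 0), rfl⟩
        have h1 := RingHom.congr_fun hh y
        have h2 := RingHom.congr_fun hg y
        simp only [RingHom.comp_apply] at h1 h2 ⊢
        rw [h2, GrothLib.EtaPt.ptHom, RingHom.comp_apply, GrothLib.EtaPt.ext_eta_apply, h1]
      · exfalso
        have : ((1, 0) : A × B) ∈ P.asIdeal := by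
          rw [← hψ, GrothLib.EtaPt.mem_pt]; exact map_zero ψ
        rw [← GrothLib.EtaPt.ptHom_eq_zero η, ← hg] at this
        exact one_ne_zero ((map_one g').symm.trans this)
    · refine ⟨GrothLib.EtaPt.ev η (GrothLib.EtaPt.bij_obj η _) g' b, fun L _ hL => ⟨fun ψ hψ => ?_,
        fun ψ hψ h hh => ?_⟩⟩
      · exfalso
        have : ((0, 1) : A × B) ∈ P.asIdeal := by
          rw [← hψ, GrothLib.EtaPt.mem_pt]; exact map_zero ψ
        rw [← GrothLib.EtaPt.ptHom_eq_zero η, ← hg] at this
        exact one_ne_zero ((map_one g').symm.trans this)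
      · rw [← GrothLib.EtaPt.ev_comp η]
        refine congrArg (fun φ => GrothLib.EtaPt.ev η hL φ _) ?_
        refine RingHom.ext fun x => ?_
        obtain ⟨y, rfl⟩ : ∃ y : A × B, RingHom.snd A B y = x := ⟨(0, x), rfl⟩
        have h1 := RingHom.congr_fun hh y
        have h2 := RingHom.congr_fun hg y
        simp only [RingHom.comp_apply] at h1 h2 ⊢
        rw [h2, GrothLib.EtaPt.ptHom, RingHom.comp_apply, GrothLib.EtaPt.ext_eta_apply, h1]
  choose x hx using key
  refine ⟨x, GrothLib.EtaPt.N_ext η fun L _ hL ψ => ?_, GrothLib.EtaPt.N_ext η fun L _ hL ψ => ?_⟩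
  · rw [GrothLib.EtaPt.ev_Nmap]
    exact (hx _ L hL).1 ψ rfl _ (GrothLib.EtaPt.lift_comp _)
  · rw [GrothLib.EtaPt.ev_Nmap]
    exact (hx _ L hL).2 ψ rfl _ (GrothLib.EtaPt.lift_comp _)

/-- For commutative rings A and B, the pair of maps N_η of the two projections restricts to a bijection
from M_η(A × B) onto M_η(A) × M_η(B). Here η is a natural transformation from the identity of the
category of fields to an endofunctor F with F(η_K) bijective and η_K purely inseparable for every
field K, N_η(A) is the product of the F(k(p)) over the primes p of A with diagonal map t_A, and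
M_η(A) ⊆ N_η(A) is the subring of elements sent into the range of t_R by every ring map from A to a
valuation ring R at whose fraction field η is bijective; q_A : A → M_η(A) is the corestriction of
t_A. -/
theorem result (η : EtaPt.FieldEndo.{u}) (A B : Type u) [CommRing A] [CommRing B] :
    Set.BijOn (fun x : η.N (A × B) => (η.Nmap (RingHom.fst A B) x, η.Nmap (RingHom.snd A B) x))
      (η.M (A × B)) ((η.M A : Set (η.N A)) ×ˢ (η.M B : Set (η.N B))) := by
  classical
  refine ⟨fun x hx => ⟨GrothLib.EtaPt.Nmap_mem_M η _ hx, GrothLib.EtaPt.Nmap_mem_M η _ hx⟩, ?_, ?_⟩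
  · intro x _ y _ h
    have hA := congrArg Prod.fst h
    have hB := congrArg Prod.snd h
    refine GrothLib.EtaPt.N_ext η fun L _ hL ψ => ?_
    obtain ⟨ψ', hψ⟩ | ⟨ψ', hψ⟩ := exists_factor ψ
    · rw [← hψ, ← GrothLib.EtaPt.ev_Nmap, ← GrothLib.EtaPt.ev_Nmap]; exact congrArg _ hA
    · rw [← hψ, ← GrothLib.EtaPt.ev_Nmap, ← GrothLib.EtaPt.ev_Nmap]; exact congrArg _ hB
  · rintro ⟨a, b⟩ ⟨ha, hb⟩
    obtain ⟨x, hxa, hxb⟩ := exists_Nmap_eq η a b
    refine ⟨x, ?_, Prod.ext hxa hxb⟩
    intro R _ _ _ hR g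
    obtain ⟨g', hg⟩ | ⟨g', hg⟩ := exists_factor g
    · rw [← hg, GrothLib.EtaPt.Nmap_comp_apply, hxa]; exact ha R hR g'
    · rw [← hg, GrothLib.EtaPt.Nmap_comp_apply, hxb]; exact hb R hR g'

end Groth.Agent.S13810
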