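import Groth.Statements.S13811
import Groth.Agent.Lib.EtaPt.Pow

set_option autoImplicit false
universe u
open EtaPt

namespace Groth.Agent.S13811

/-- If f : A → B is an integral ring map with N_η(f) bijective, then every ring map from A to a
valuation ring R at whose fraction field η is bijective factors through f. Here η is a natural
transformation from the identity of the category of fields to an endofunctor F with F(η_K) bijective
and η_K purely inseparable for every field K, N_η(A) is the product of the F(k(p)) over the primes p
of A with diagonal map t_A, and M_η(A) ⊆ N_η(A) is the subring of elements sent into the range of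
t_R by every ring map from A to a valuation ring R at whose fraction field η is bijective; q_A : A →
M_η(A) is the corestriction of t_A. -/
theorem result (η : EtaPt.FieldEndo.{u}) {A B : Type u} [CommRing A] [CommRing B] (f : A →+* B)
    (hf : f.IsIntegral) (hN : Function.Bijective (η.Nmap f))
    (R : Type u) [CommRing R] [IsDomain R] [ValuationRing R] (hR : η.InV R) (g : A →+* R) :
    ∃ g' : B →+* R, g'.comp f = g := by
  let K := FractionRing R
  obtain ⟨ψ', hψ', -⟩ := GrothLib.EtaPt.existsUnique_extend η hN (L := K) hR ((algebraMap R K).comp g)
  have : ∀ b, ∃ r : R, algebraMap R K r = ψ' b := fun b => by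
    obtain ⟨P, hP, hP0⟩ := hf b
    refine IsIntegrallyClosed.isIntegral_iff.mp ⟨P.map g, hP.map g, ?_⟩
    rw [Polynomial.eval₂_map, ← hψ', ← Polynomial.hom_eval₂, hP0, map_zero]
  choose r hr using this
  have hinj := IsFractionRing.injective R K
  refine ⟨{ toFun := r
            map_one' := hinj (by rw [hr, map_one, map_one])
            map_zero' := hinj (by rw [hr, map_zero, map_zero])
            map_mul' := fun a b => hinj (by simp only [hr, map_mul])
            map_add' := fun a b => hinj (by simp only [hr, map_add]) },
    RingHom.ext fun a => hinj ((hr (f a)).trans (RingHom.congr_fun hψ' a))⟩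

end Groth.Agent.S13811
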