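import Groth.Statements.S13814
import Groth.Agent.Lib.EtaPt.Pow

set_option autoImplicit false
universe u
open EtaPt

namespace Groth.Agent.S13814

/-- Let R be a valuation ring with fraction field K = k((0)) such that η is bijective at K, or such that
every field of the same characteristic as R at which η is bijective is perfect. Then the ring M_η(R)
is again a valuation ring, every element of F(K) is a quotient of generic components of elements of
M_η(R), and an element of F(K) that is both the generic component of an element of M_η(R) and in the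
image of K comes from R. (The published statement assumes nothing about η beyond the standing
conditions, and then fails: for the endofunctor equal to the perfect closure on the fields of
characteristic 2 and transcendence degree at least 2 over the prime field and to the identity on
every other field, and R = F_2(s)[t] localised at (t), neither of the elements (s^(1/2) t, 0) and
(t, 0) of M_η(R) ⊆ F(K) × F_2(s) divides the other, so M_η(R) is not a valuation ring. This row
assumes that η is bijective at Frac R, or that every field of the same characteristic as R at which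
η is bijective is perfect; both the identity and the perfect closure satisfy this.) Here η is a
natural transformation from the identity of the category of fields to an endofunctor F with F(η_K)
bijective and η_K purely inseparable for every field K, N_η(A) is the product of the F(k(p)) over
the primes p of A with diagonal map t_A, and M_η(A) ⊆ N_η(A) is the subring of elements sent into
the range of t_R by every ring map from A to a valuation ring R at whose fraction field η is
bijective; q_A : A → M_η(A) is the corestriction of t_A. -/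
theorem result (η : EtaPt.FieldEndo.{u}) (R : Type u) [CommRing R] [IsDomain R] [ValuationRing R]
    (hη : η.InV R ∨ ∀ (k : Type u) [Field k], ringChar k = ringChar R →
      Function.Bijective (η.eta k) → PerfectField k) :
    IsDomain (η.M R) ∧ PreValuationRing (η.M R) ∧
      (∀ y : η.obj (⊥ : Ideal R).ResidueField, ∃ a b : η.M R,
        (b : η.N R) ⟨⊥, Ideal.isPrime_bot⟩ ≠ 0 ∧
          y * (b : η.N R) ⟨⊥, Ideal.isPrime_bot⟩ = (a : η.N R) ⟨⊥, Ideal.isPrime_bot⟩) ∧
      (fun x : η.N R => x ⟨⊥, Ideal.isPrime_bot⟩) '' (η.M R : Set (η.N R)) ∩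
          Set.range (η.eta (⊥ : Ideal R).ResidueField) =
        Set.range ((η.eta (⊥ : Ideal R).ResidueField).comp (algebraMap R (⊥ : Ideal R).ResidueField)) := by
  classical
  let p₀ : PrimeSpectrum R := ⟨⊥, Ideal.isPrime_bot⟩
  let K := (⊥ : Ideal R).ResidueField
  let e : η.M R →+* η.obj K := GrothLib.EtaPt.evM η p₀
  have hinj : Function.Injective e := fun x y h => Subtype.ext
    (GrothLib.EtaPt.M_ext η x.2 y.2 fun p => ⟨p₀, bot_le, h⟩)
  have himg : ∀ y : η.obj K, ((η.eta K).comp (algebraMap R K)).IsIntegralElem y → ∃ x, e x = y :=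
    fun y hy => by
      obtain ⟨x, hx, hxy⟩ := GrothLib.EtaPt.exists_mem_M_of_integral η hη hy
      exact ⟨⟨x, hx⟩, hxy⟩
  have hint : ∀ x : η.M R, ((η.eta K).comp (algebraMap R K)).IsIntegralElem (e x) := fun x => by
    have := GrothLib.EtaPt.isIntegralElem_ev η x.2 (GrothLib.EtaPt.bij_obj η _)
      (GrothLib.EtaPt.ptHom η p₀)
    rwa [GrothLib.EtaPt.ev_ptHom] at this
  letI : Algebra R (η.obj K) := ((η.eta K).comp (algebraMap R K)).toAlgebra
  have hq : ∀ z : η.obj K, ∃ m, 0 < m ∧ ∃ a b : R, b ≠ 0 ∧
      z ^ m * algebraMap R (η.obj K) b = algebraMap R (η.obj K) a := fun z => by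
    obtain ⟨n, k, hk⟩ := η.exists_pow_mem_range_eta K z
    obtain ⟨a, b, hb, rfl⟩ := IsFractionRing.div_surjective R k
    have hb0 : algebraMap R K b ≠ 0 :=
      (map_ne_zero_iff _ (IsFractionRing.injective R K)).mpr (nonZeroDivisors.ne_zero hb)
    refine ⟨ringExpChar K ^ n, Nat.pow_pos (lt_max_of_lt_right one_pos), a, b, nonZeroDivisors.ne_zero hb, ?_⟩
    rw [← hk]
    show η.eta K _ * η.eta K _ = η.eta K _
    rw [← map_mul, div_mul_cancel₀ _ hb0]
  have halg : ∀ b : R, b ≠ 0 → algebraMap R (η.obj K) b ≠ 0 := fun b hb =>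
    (map_ne_zero (η.eta K)).mpr ((map_ne_zero_iff _ (IsFractionRing.injective R K)).mpr hb)
  have hdom : IsDomain (η.M R) := hinj.isDomain
  refine ⟨hdom, ⟨fun x y => ?_⟩, fun z => ?_, ?_⟩
  · rcases eq_or_ne (e y) 0 with hy | hy
    · exact ⟨0, Or.inl (by rw [hinj (hy.trans (map_zero e).symm)]; simp)⟩
    rcases eq_or_ne (e x) 0 with hx | hx
    · exact ⟨0, Or.inr (by rw [hinj (hx.trans (map_zero e).symm)]; simp)⟩
    obtain ⟨m, hm, a, b, hb, hab⟩ := hq (e x / e y)
    rcases ValuationRing.dvd_total b a with ⟨c, rfl⟩ | ⟨c, rfl⟩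
    · obtain ⟨w, hw⟩ := himg (e x / e y) (IsIntegral.of_pow hm (by
        rw [map_mul, mul_comm (algebraMap R (η.obj K) b)] at hab
        rw [mul_right_cancel₀ ?_ hab]
        · exact isIntegral_algebraMap
        · exact halg b hb))
      exact ⟨w, Or.inr (hinj (by rw [map_mul, hw, mul_div_cancel₀ _ hy]))⟩
    · obtain ⟨w, hw⟩ := himg (e y / e x) (IsIntegral.of_pow hm (by
        have ha : algebraMap R (η.obj K) a ≠ 0 := by
          intro h0
          rw [h0, mul_eq_zero] at hab
          rcases hab with h1 | h1
          · exact absurd h1 (pow_ne_zero _ (div_ne_zero hx hy))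
          · exact halg _ hb h1
        have : (e y / e x) ^ m = algebraMap R (η.obj K) c := by
          have hone : (e y / e x) ^ m * (e x / e y) ^ m = 1 := by
            rw [← mul_pow, div_mul_div_cancel₀ hx, div_self hy, one_pow]
          refine mul_left_cancel₀ ha ?_
          rw [map_mul] at hab
          linear_combination (-(e y / e x) ^ m) * hab +
            (algebraMap R (η.obj K) a * algebraMap R (η.obj K) c) * hone
        rw [this]; exact isIntegral_algebraMap))
      exact ⟨w, Or.inl (hinj (by rw [map_mul, hw, mul_div_cancel₀ _ hx]))⟩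
  · obtain ⟨m, hm, a, b, hb, hab⟩ := hq z
    obtain ⟨m, rfl⟩ := Nat.exists_eq_add_of_le' hm
    have hbK : algebraMap R (η.obj K) b ≠ 0 :=
      halg b hb
    obtain ⟨w, hw⟩ := himg (z * algebraMap R (η.obj K) b) (IsIntegral.of_pow (Nat.succ_pos m) (by
      have : (z * algebraMap R (η.obj K) b) ^ (m + 1) = algebraMap R (η.obj K) (a * b ^ m) := by
        rw [map_mul, map_pow, ← hab]; ring
      rw [this]; exact isIntegral_algebraMap))
    exact ⟨w, η.q R b, hbK, hw.symm⟩
  · refine Set.ext fun y => ⟨?_, ?_⟩
    · rintro ⟨⟨x, hx, rfl⟩, k, hk⟩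
      obtain ⟨P, hP, hP0⟩ := hint ⟨x, hx⟩
      rw [show e ⟨x, hx⟩ = η.eta K k from hk.symm, ← Polynomial.hom_eval₂, map_eq_zero] at hP0
      obtain ⟨r, rfl⟩ := IsIntegrallyClosed.isIntegral_iff.mp (⟨P, hP, hP0⟩ : IsIntegral R k)
      exact ⟨r, hk⟩
    · rintro ⟨r, rfl⟩
      exact ⟨⟨η.t R r, η.t_mem_M R r, rfl⟩, _, rfl⟩

end Groth.Agent.S13814
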