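import Groth.Statements.S13820
import Groth.Agent.Lib.EtaPt.Rel

set_option autoImplicit false
universe u
open EtaPt

namespace Groth.Agent.S13820

/-- Let A have finitely many minimal prime ideals and let B be an A-algebra with Spec B → Spec A
surjective, C the integral closure of A in B; then the inclusion C ⊆ B carries (C/A)_η onto (B/A)_η.
Here η is a natural transformation from the identity of the category of fields to an endofunctor F
with F(η_K) bijective and η_K purely inseparable for every field K, N_η(A) is the product of the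
F(k(p)) over the primes p of A with diagonal map t_A, and M_η(A) ⊆ N_η(A) is the subring of elements
sent into the range of t_R by every ring map from A to a valuation ring R at whose fraction field η
is bijective; q_A : A → M_η(A) is the corestriction of t_A. For a ring map f : A → B, (B/A)_η ⊆ B
denotes the subring of elements b with t_B(b) in N_η(f)(M_η(A)) (the image in B of the fibre product
of M_η(A) and B over M_η(B)), and q_{B/A} : A → (B/A)_η the corestriction of f. -/
theorem result (η : EtaPt.FieldEndo.{u}) (A B : Type u) [CommRing A] [CommRing B] [Algebra A B]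
    (hA : (minimalPrimes A).Finite) (hs : Function.Surjective (PrimeSpectrum.comap (algebraMap A B))) :
    (η.rel (algebraMap A (integralClosure A B))).map (integralClosure A B).val.toRingHom =
      η.rel (algebraMap A B) := by
  let C := integralClosure A B
  refine SetLike.ext fun b => ⟨?_, fun hb => ?_⟩
  · rintro ⟨c, hc, rfl⟩
    exact GrothLib.EtaPt.mem_rel_of_square η (f := RingHom.id A) (j := algebraMap A C)
      (g := C.val.toRingHom) (j' := algebraMap A B) rfl hc
  obtain ⟨P, hP, hP0⟩ := GrothLib.EtaPt.isIntegral_qRel η hA (algebraMap A B) hs ⟨b, hb⟩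
  have hbC : IsIntegral A b := ⟨P, hP, by
    have h1 := congrArg (η.rel (algebraMap A B)).subtype hP0
    rwa [Polynomial.hom_eval₂, map_zero] at h1⟩
  refine ⟨⟨b, hbC⟩, ?_, rfl⟩
  obtain ⟨x, hx, e⟩ := (GrothLib.EtaPt.mem_rel_iff η).mp hb
  refine ⟨x, hx, ?_⟩
  refine GrothLib.EtaPt.M_ext η (GrothLib.EtaPt.Nmap_mem_M η _ hx) (η.t_mem_M _ _) fun p => ?_
  obtain ⟨p₀, hmin, hle⟩ := GrothLib.EtaPt.exists_minimal_le p
  refine ⟨p₀, hle, ?_⟩
  obtain ⟨Q, hQ, hQp⟩ := Ideal.exists_comap_eq_of_mem_minimalPrimes_of_injective
    (f := C.val.toRingHom) Subtype.val_injective p₀.asIdeal hmin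
  obtain rfl : PrimeSpectrum.comap C.val.toRingHom ⟨Q, hQ⟩ = p₀ := PrimeSpectrum.ext hQp
  refine (η.map (Ideal.ResidueField.map _ Q C.val.toRingHom rfl)).injective ?_
  show η.Nmap C.val.toRingHom (η.Nmap (algebraMap A C) x) ⟨Q, hQ⟩ =
    η.Nmap C.val.toRingHom (η.t C ⟨b, hbC⟩) ⟨Q, hQ⟩
  rw [η.Nmap_t_apply, ← GrothLib.EtaPt.Nmap_comp_apply]
  exact congrFun e _

end Groth.Agent.S13820
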