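import Groth.Statements.S13822
import Groth.Agent.Lib.EtaPt.Rel
import Mathlib.RingTheory.Flat.FaithfullyFlat.Algebra

set_option autoImplicit false
universe u
open scoped TensorProduct
open EtaPt

namespace Groth.Agent.S13822

/-- Let A → A' be faithfully flat with A and A' having finitely many minimal prime ideals, and B an
A-algebra with Spec B → Spec A surjective; if q_{(A' ⊗ B)/A'} is bijective then q_{B/A} is
bijective. Here η is a natural transformation from the identity of the category of fields to an
endofunctor F with F(η_K) bijective and η_K purely inseparable for every field K, N_η(A) is the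
product of the F(k(p)) over the primes p of A with diagonal map t_A, and M_η(A) ⊆ N_η(A) is the
subring of elements sent into the range of t_R by every ring map from A to a valuation ring R at
whose fraction field η is bijective; q_A : A → M_η(A) is the corestriction of t_A. For a ring map f
: A → B, (B/A)_η ⊆ B denotes the subring of elements b with t_B(b) in N_η(f)(M_η(A)) (the image in B
of the fibre product of M_η(A) and B over M_η(B)), and q_{B/A} : A → (B/A)_η the corestriction of f. -/
theorem result (η : EtaPt.FieldEndo.{u}) (A A' B : Type u) [CommRing A] [CommRing A'] [CommRing B]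
    [Algebra A A'] [Algebra A B] [Module.FaithfullyFlat A A']
    (hA : (minimalPrimes A).Finite) (hA' : (minimalPrimes A').Finite)
    (hs : Function.Surjective (PrimeSpectrum.comap (algebraMap A B)))
    (h : Function.Bijective (η.qRel (Algebra.TensorProduct.includeLeftRingHom : A' →+* A' ⊗[A] B))) :
    Function.Bijective (η.qRel (algebraMap A B)) := by
  rw [GrothLib.EtaPt.qRel_bijective_iff] at h ⊢
  have hsq : (Algebra.TensorProduct.includeLeftRingHom : A' →+* A' ⊗[A] B).comp (algebraMap A A') =
      (Algebra.TensorProduct.includeRight : B →ₐ[A] A' ⊗[A] B).toRingHom.comp (algebraMap A B) :=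
    RingHom.ext fun a => by
      show algebraMap A A' a ⊗ₜ[A] (1 : B) = (1 : A') ⊗ₜ[A] algebraMap A B a
      rw [Algebra.algebraMap_eq_smul_one, Algebra.algebraMap_eq_smul_one, TensorProduct.smul_tmul]
  have hi : Function.Injective (algebraMap A B) := fun x y e => by
    refine FaithfulSMul.algebraMap_injective A A' (h.1 ?_)
    have hx := RingHom.congr_fun hsq x
    have hy := RingHom.congr_fun hsq y
    simp only [RingHom.comp_apply] at hx hy ⊢
    rw [hx, hy, e]
  refine ⟨hi, fun b hb => ?_⟩
  have hb' := GrothLib.EtaPt.mem_rel_of_square η (f := algebraMap A A') (j := algebraMap A B)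
    (g := (Algebra.TensorProduct.includeRight : B →ₐ[A] A' ⊗[A] B).toRingHom)
    (j' := (Algebra.TensorProduct.includeLeftRingHom : A' →+* A' ⊗[A] B))
    hsq hb
  obtain ⟨a', ha'⟩ := h.2 _ hb'
  change a' ⊗ₜ[A] (1 : B) = (1 : A') ⊗ₜ[A] b at ha'
  let S := LinearMap.range (Algebra.linearMap A B)
  have h0 : (1 : A') ⊗ₜ[A] (Submodule.Quotient.mk b : B ⧸ S) = (1 : A') ⊗ₜ[A] 0 := by
    have := congrArg (S.mkQ.lTensor A') ha'
    rw [LinearMap.lTensor_tmul, LinearMap.lTensor_tmul, show S.mkQ 1 = 0 from
      (Submodule.Quotient.mk_eq_zero S).mpr ⟨1, map_one (algebraMap A B)⟩] at this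
    simpa using this.symm
  obtain ⟨a, ha⟩ := (Submodule.Quotient.mk_eq_zero S).mp
    (Module.FaithfullyFlat.tensorProduct_mk_injective (A := A) (B := A') (B ⧸ S) h0)
  exact ⟨a, ha⟩

end Groth.Agent.S13822
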