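import Groth.Statements.S13823
import Groth.Agent.Lib.EtaPt.Rel
import Mathlib.RingTheory.Flat.FaithfullyFlat.Algebra
import Mathlib.RingTheory.Flat.TorsionFree

set_option autoImplicit false
universe u
open EtaPt

namespace Groth.Agent.S13823

/-- Let A → A' be faithfully flat with A and A' having finitely many minimal prime ideals, and let Ā, Ā'
be the integral closures of A, A' in their total rings of fractions; if q_{Ā'/A'} is bijective then
q_{Ā/A} is bijective. Here η is a natural transformation from the identity of the category of fields
to an endofunctor F with F(η_K) bijective and η_K purely inseparable for every field K, N_η(A) is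
the product of the F(k(p)) over the primes p of A with diagonal map t_A, and M_η(A) ⊆ N_η(A) is the
subring of elements sent into the range of t_R by every ring map from A to a valuation ring R at
whose fraction field η is bijective; q_A : A → M_η(A) is the corestriction of t_A. For a ring map f
: A → B, (B/A)_η ⊆ B denotes the subring of elements b with t_B(b) in N_η(f)(M_η(A)) (the image in B
of the fibre product of M_η(A) and B over M_η(B)), and q_{B/A} : A → (B/A)_η the corestriction of f. -/
theorem result (η : EtaPt.FieldEndo.{u}) (A A' : Type u) [CommRing A] [CommRing A'] [Algebra A A'] [Module.FaithfullyFlat A A']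
    (hA : (minimalPrimes A).Finite) (hA' : (minimalPrimes A').Finite)
    (h : Function.Bijective (η.qRel (algebraMap A' (integralClosure A' (FractionRing A'))))) :
    Function.Bijective (η.qRel (algebraMap A (integralClosure A (FractionRing A)))) := by
  rw [GrothLib.EtaPt.qRel_bijective_iff] at h ⊢
  let F := FractionRing A
  let F' := FractionRing A'
  have hnzd : ∀ s : nonZeroDivisors A, IsUnit (algebraMap A F' s) := fun s => by
    rw [IsScalarTower.algebraMap_apply A A' F']
    refine IsLocalization.map_units F' (⟨algebraMap A A' s, ?_⟩ : nonZeroDivisors A')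
    have hr' : IsSMulRegular A' (s : A) := Module.Flat.isSMulRegular_of_nonZeroDivisors s.2
    refine mem_nonZeroDivisors_iff_right.mpr fun x hx => hr' ?_
    show (s : A) • x = (s : A) • (0 : A')
    rw [smul_zero, Algebra.smul_def, mul_comm, hx]
  let j : F →+* F' := IsLocalization.lift hnzd
  have hj : j.comp (algebraMap A F) = algebraMap A F' := IsLocalization.lift_comp hnzd
  have hjC : ∀ c : integralClosure A F, IsIntegral A' (j c) := fun c => by
    obtain ⟨P, hP, hP0⟩ := c.2
    refine ⟨P.map (algebraMap A A'), hP.map _, ?_⟩
    rw [Polynomial.eval₂_map, ← IsScalarTower.algebraMap_eq, ← hj, ← Polynomial.hom_eval₂, hP0, map_zero]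
  let g : integralClosure A F →+* integralClosure A' F' :=
    (j.comp (integralClosure A F).val.toRingHom).codRestrict (integralClosure A' F') hjC
  have hsq : (algebraMap A' (integralClosure A' F')).comp (algebraMap A A') =
      g.comp (algebraMap A (integralClosure A F)) := RingHom.ext fun a => Subtype.ext (by
    show algebraMap A' F' (algebraMap A A' a) = j (algebraMap A F a)
    rw [← IsScalarTower.algebraMap_apply]
    exact (RingHom.congr_fun hj a).symm)
  refine ⟨fun x y e => IsFractionRing.injective A F (congrArg Subtype.val e), fun c hc => ?_⟩
  obtain ⟨a', ha'⟩ := h.2 _ (GrothLib.EtaPt.mem_rel_of_square η hsq hc)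
  obtain ⟨⟨a, t⟩, hat⟩ := IsLocalization.surj (nonZeroDivisors A) (c : FractionRing A)
  have h1 : j (c : FractionRing A) = algebraMap A' F' a' := (congrArg Subtype.val ha').symm
  have h2 := congrArg j hat
  rw [map_mul, h1] at h2
  change algebraMap A' F' a' * j.comp (algebraMap A F) t = j.comp (algebraMap A F) a at h2
  rw [hj, IsScalarTower.algebraMap_apply A A' F', IsScalarTower.algebraMap_apply A A' F', ← map_mul] at h2
  have h3 : a ∈ ((Ideal.span {(t : A)}).map (algebraMap A A')).comap (algebraMap A A') := by
    rw [Ideal.mem_comap, Ideal.map_span, Set.image_singleton, Ideal.mem_span_singleton']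
    exact ⟨a', IsFractionRing.injective A' F' h2⟩
  rw [Ideal.comap_map_eq_self_of_faithfullyFlat, Ideal.mem_span_singleton'] at h3
  obtain ⟨a₀, rfl⟩ := h3
  refine ⟨a₀, Subtype.ext ((IsLocalization.map_units F t).mul_left_inj.mp ?_)⟩
  show algebraMap A F a₀ * algebraMap A F t = (c : FractionRing A) * algebraMap A F t
  rw [← map_mul]
  exact hat.symm

end Groth.Agent.S13823
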