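import Groth.Statements.S13826
import Groth.Agent.Lib.EtaPt.SN
import Groth.Agent.S13806

set_option autoImplicit false
universe u
open EtaPt

namespace Groth.Agent.S13826

/-- For the identity endofunctor and a commutative ring A with finitely many minimal prime ideals, q_A :
A → M(A) is a seminormalization of A: Spec(q_A) is a universal homeomorphism with trivial residue
field extensions, final among ring maps out of A with these properties. Here M(A) ⊆ ∏_p k(p) is the
subring of families whose image in ∏_q k(q), for every ring map from A to a valuation ring R, is the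
diagonal image of an element of R. -/
theorem result (A : Type u) [CommRing A] (hA : (minimalPrimes A).Finite) :
    HTop.IsRingSN (EtaPt.FieldEndo.ident.{u}.q A) := by
  have key : GrothLib.EtaPt.ResBij (EtaPt.FieldEndo.ident.{u}.q A) := fun Q => by
    obtain ⟨φ, hφ⟩ := GrothLib.EtaPt.q_residue_factor EtaPt.FieldEndo.ident.{u} hA Q
    refine ⟨RingHom.injective _, fun y => ⟨φ y, φ.injective ?_⟩⟩
    exact RingHom.congr_fun hφ (φ y)
  refine ⟨⟨GrothLib.EtaPt.isUnivHomeo_spec _ (GrothLib.EtaPt.isIntegral_q _ hA)
    (GrothLib.EtaPt.comap_q_bijective _ hA) key, (GrothLib.EtaPt.residueFieldsIso_iff _).mpr key⟩,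
    fun C _ ψ hu hr => ?_⟩
  obtain ⟨hi, hb⟩ := GrothLib.EtaPt.of_isUnivHomeo ψ hu
  refine Groth.Agent.S13806.result EtaPt.FieldEndo.ident.{u} A hA C ψ hi
    (GrothLib.EtaPt.Nmap_bijective _ hb fun Q => ?_)
  have hQ := (GrothLib.EtaPt.residueFieldsIso_iff ψ).mp hr Q
  exact ⟨(RingEquiv.ofBijective _ hQ).symm.toRingHom,
    RingHom.ext (RingEquiv.ofBijective _ hQ).symm_apply_apply⟩

end Groth.Agent.S13826
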