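import Groth.Statements.S13827
import Groth.Agent.Lib.EtaPt.Spec
import Mathlib.RingTheory.LocalProperties.IntegrallyClosed
import Mathlib.RingTheory.LocalProperties.Reduced

set_option autoImplicit false
universe u
open EtaPt

namespace Groth.Agent.S13827

/-- For a normal ring A (every localization at a prime is an integrally closed domain) with finitely
many minimal prime ideals such that η is bijective at the residue field of every minimal prime, q_A
: A → M_η(A) is bijective. Here η is a natural transformation from the identity of the category of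
fields to an endofunctor F with F(η_K) bijective and η_K purely inseparable for every field K,
N_η(A) is the product of the F(k(p)) over the primes p of A with diagonal map t_A, and M_η(A) ⊆
N_η(A) is the subring of elements sent into the range of t_R by every ring map from A to a valuation
ring R at whose fraction field η is bijective; q_A : A → M_η(A) is the corestriction of t_A. -/
theorem result (η : EtaPt.FieldEndo.{u}) (A : Type u) [CommRing A] (hn : EGA4.IsNormalRing A)
    (hA : (minimalPrimes A).Finite)
    (hη : ∀ p : PrimeSpectrum A, p.asIdeal ∈ minimalPrimes A → Function.Bijective (η.eta p.asIdeal.ResidueField)) :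
    Function.Bijective (η.q A) := by
  classical
  haveI : IsReduced A := isReduced_ofLocalizationMaximal _ fun P _ => by
    haveI := (hn P).1
    infer_instance
  refine ⟨fun x y e => ?_, fun x => ?_⟩
  · rw [← sub_eq_zero]
    exact IsNilpotent.eq_zero (GrothLib.EtaPt.isNilpotent_of_q_eq_zero η (by rw [map_sub, e, sub_self]))
  let S := (GrothLib.EtaPt.finite_minimal_points hA).toFinset
  have hS : ∀ p, p ∈ S ↔ p.asIdeal ∈ minimalPrimes A := fun p => Set.Finite.mem_toFinset _
  -- distinct minimal primes are comaximal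
  have hco : (S : Set (PrimeSpectrum A)).Pairwise fun p q => IsCoprime p.asIdeal q.asIdeal := by
    intro p hp q hq hne
    rw [Ideal.isCoprime_iff_sup_eq]
    by_contra h
    obtain ⟨m, hm, hle⟩ := Ideal.exists_le_maximal _ h
    haveI := (hn m).1
    apply hne
    have : ∀ r : PrimeSpectrum A, r.asIdeal ∈ minimalPrimes A → r.asIdeal ≤ m →
        r.asIdeal = RingHom.ker (algebraMap A (Localization.AtPrime m)) := by
      intro r hr hrm
      refine le_antisymm (hr.2 ⟨RingHom.ker_isPrime _, bot_le⟩ ?_) ?_ <;>
      · intro a ha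
        rw [RingHom.mem_ker, IsLocalization.map_eq_zero_iff m.primeCompl] at ha
        obtain ⟨⟨s, hs⟩, hsa⟩ := ha
        exact (r.2.mem_or_mem (hsa ▸ r.asIdeal.zero_mem : s * a ∈ r.asIdeal)).resolve_left
          fun h => hs (hrm h)
    exact PrimeSpectrum.ext ((this p ((hS p).mp hp) (le_sup_left.trans hle)).trans
      (this q ((hS q).mp hq) (le_sup_right.trans hle)).symm)
  -- values at minimal primes come from `A`
  have hval : ∀ p : S, ∃ a : A, η.t A a p.1 = (x : η.N A) p.1 := by
    rintro ⟨p, hp⟩
    rw [hS] at hp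
    obtain ⟨z, hz⟩ := (hη p hp).2 ((x : η.N A) p)
    obtain ⟨P, hP, hP0⟩ := GrothLib.EtaPt.isIntegralElem_ev η x.2
      (GrothLib.EtaPt.bij_obj η _) (GrothLib.EtaPt.ptHom η p)
    rw [GrothLib.EtaPt.ev_ptHom, ← hz] at hP0
    erw [← Polynomial.hom_eval₂, map_eq_zero] at hP0
    have hint : IsIntegral (A ⧸ p.asIdeal) z := IsIntegral.tower_top (R := A) ⟨P, hP, hP0⟩
    haveI : IsIntegrallyClosed (A ⧸ p.asIdeal) := by
      refine IsIntegrallyClosed.of_localization_maximal (R := A ⧸ p.asIdeal) fun Q hQ0 hQ => ?_
      let m := Q.comap (Ideal.Quotient.mk p.asIdeal)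
      haveI : m.IsMaximal := Ideal.comap_isMaximal_of_surjective _ Ideal.Quotient.mk_surjective
      haveI := (hn m).1
      haveI := (hn m).2
      have hker : RingHom.ker (algebraMap A (Localization.AtPrime m)) = p.asIdeal := by
        have hpm : p.asIdeal ≤ m := fun a ha => by
          show Ideal.Quotient.mk _ a ∈ Q
          rw [Ideal.Quotient.eq_zero_iff_mem.mpr ha]; exact Q.zero_mem
        refine le_antisymm ?_ (hp.2 ⟨RingHom.ker_isPrime _, bot_le⟩ ?_) <;>
        · intro a ha
          rw [RingHom.mem_ker, IsLocalization.map_eq_zero_iff m.primeCompl] at ha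
          obtain ⟨⟨s, hs⟩, hsa⟩ := ha
          exact (p.2.mem_or_mem (hsa ▸ p.asIdeal.zero_mem : s * a ∈ p.asIdeal)).resolve_left
            fun h => hs (hpm h)
      let e : Localization.AtPrime m →+* Localization.AtPrime Q :=
        Localization.localRingHom m Q (Ideal.Quotient.mk p.asIdeal) rfl
      have he : Function.Bijective e := by
        refine ⟨fun a b h => ?_, fun b => ?_⟩
        · obtain ⟨a, s, rfl⟩ := IsLocalization.exists_mk'_eq m.primeCompl a
          obtain ⟨b, t, rfl⟩ := IsLocalization.exists_mk'_eq m.primeCompl b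
          simp only [e, Localization.localRingHom_mk'] at h
          rw [IsLocalization.mk'_eq_iff_eq, ← map_mul, ← map_mul] at h
          obtain ⟨c, hc⟩ := (IsLocalization.eq_iff_exists Q.primeCompl _).mp h
          obtain ⟨c', hc'⟩ := Ideal.Quotient.mk_surjective (c : A ⧸ p.asIdeal)
          rw [← hc', ← map_mul, ← map_mul, Ideal.Quotient.mk_eq_mk_iff_sub_mem] at hc
          replace hc := RingHom.mem_ker.mp ((SetLike.ext_iff.mp hker _).mpr hc)
          rw [map_sub, sub_eq_zero, map_mul _ c', map_mul _ c'] at hc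
          rw [IsLocalization.mk'_eq_iff_eq]
          refine mul_left_cancel₀ ?_ hc
          rw [← (algebraMap A (Localization.AtPrime m)).map_zero]
          exact fun h0 => c.2 (by
            rw [← hc']
            obtain ⟨⟨s', hs'⟩, h0'⟩ := (IsLocalization.eq_iff_exists m.primeCompl _).mp h0
            have : c' ∈ m := ((inferInstance : m.IsPrime).mem_or_mem
              ((h0'.trans (mul_zero _)) ▸ m.zero_mem : s' * c' ∈ m)).resolve_left hs'
            exact this)
        · obtain ⟨b, ⟨s, hs⟩, rfl⟩ := IsLocalization.exists_mk'_eq Q.primeCompl b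
          obtain ⟨b, rfl⟩ := Ideal.Quotient.mk_surjective b
          obtain ⟨s, rfl⟩ := Ideal.Quotient.mk_surjective s
          exact ⟨IsLocalization.mk' _ b (⟨s, hs⟩ : m.primeCompl), Localization.localRingHom_mk' _ _ _ _ _ _⟩
      exact IsIntegrallyClosed.of_equiv (RingEquiv.ofBijective e he)
    obtain ⟨r, hr⟩ := IsIntegrallyClosed.isIntegral_iff.mp hint
    obtain ⟨r, rfl⟩ := Ideal.Quotient.mk_surjective r
    exact ⟨r, by rw [← hz, ← hr]; rfl⟩
  choose a ha using hval
  obtain ⟨b, hb⟩ := Ideal.exists_forall_sub_mem_ideal (I := fun p : S => p.1.asIdeal)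
    (fun p q hne => hco p.2 q.2 fun e => hne (Subtype.ext e)) a
  refine ⟨b, Subtype.ext (GrothLib.EtaPt.M_ext η (η.t_mem_M A b) x.2 fun p => ?_)⟩
  obtain ⟨p₀, hmin, hle⟩ := GrothLib.EtaPt.exists_minimal_le p
  refine ⟨p₀, hle, (?_ : η.t A b p₀ = η.t A (a ⟨p₀, (hS p₀).mpr hmin⟩) p₀).trans (ha _)⟩
  show η.eta _ (algebraMap A _ b) = η.eta _ (algebraMap A _ _)
  rw [← sub_eq_zero, ← map_sub, ← map_sub, map_eq_zero, Ideal.algebraMap_residueField_eq_zero]
  exact hb ⟨p₀, (hS p₀).mpr hmin⟩

end Groth.Agent.S13827
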