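import Groth.Statements.S13829
import Groth.Agent.Lib.EtaPt.Rel

set_option autoImplicit false
universe u
open EtaPt

namespace Groth.Agent.S13829

/-- For A with finitely many minimal prime ideals, f ∈ A and a ring map φ : A → B with Spec(φ)
surjective, the localization of (B/A)_η at f is (B_f/A_f)_η: the image of (B/A)_η in B_f lies in
(B_f/A_f)_η, and every element of (B_f/A_f)_η times a power of the image of f is the image of an
element of (B/A)_η. Here η is a natural transformation from the identity of the category of fields
to an endofunctor F with F(η_K) bijective and η_K purely inseparable for every field K, N_η(A) is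
the product of the F(k(p)) over the primes p of A with diagonal map t_A, and M_η(A) ⊆ N_η(A) is the
subring of elements sent into the range of t_R by every ring map from A to a valuation ring R at
whose fraction field η is bijective; q_A : A → M_η(A) is the corestriction of t_A. For a ring map f
: A → B, (B/A)_η ⊆ B denotes the subring of elements b with t_B(b) in N_η(f)(M_η(A)) (the image in B
of the fibre product of M_η(A) and B over M_η(B)), and q_{B/A} : A → (B/A)_η the corestriction of f. -/
theorem result (η : EtaPt.FieldEndo.{u}) {A B : Type u} [CommRing A] [CommRing B] (hA : (minimalPrimes A).Finite)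
    (φ : A →+* B) (hs : Function.Surjective (PrimeSpectrum.comap φ)) (f : A) :
    (η.rel φ).map (algebraMap B (Localization.Away (φ f))) ≤ η.rel (Localization.awayMap φ f) ∧
      ∀ y ∈ η.rel (Localization.awayMap φ f), ∃ x ∈ η.rel φ, ∃ n : ℕ,
        y * algebraMap B (Localization.Away (φ f)) (φ f) ^ n = algebraMap B (Localization.Away (φ f)) x := by
  have hsq : (Localization.awayMap φ f).comp (algebraMap A (Localization.Away f)) =
      (algebraMap B (Localization.Away (φ f))).comp φ := IsLocalization.map_comp _
  refine ⟨?_, fun y hy => ?_⟩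
  · rintro _ ⟨b, hb, rfl⟩
    exact GrothLib.EtaPt.mem_rel_of_square η hsq hb
  set j := algebraMap A (Localization.Away f)
  set j' := algebraMap B (Localization.Away (φ f))
  obtain ⟨x', hx', e⟩ := (GrothLib.EtaPt.mem_rel_iff η).mp hy
  obtain ⟨x, hx, n, hxn⟩ := GrothLib.EtaPt.exists_lift_M_away η f hA hx'
  obtain ⟨⟨b, _, m, rfl⟩, hb⟩ := IsLocalization.surj (Submonoid.powers (φ f)) y
  have h1 : η.Nmap j' (η.Nmap φ x * η.t B (φ f) ^ m - η.t B (b * φ f ^ n)) = 0 := by
    rw [map_sub, map_mul, map_pow, η.Nmap_t_apply, η.Nmap_t_apply, sub_eq_zero,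
      ← GrothLib.EtaPt.Nmap_square η hsq, ← hxn, map_mul, map_pow, e, η.Nmap_t_apply,
      ← map_pow (η.t (Localization.Away (φ f))), ← map_pow (η.t (Localization.Away (φ f))),
      ← map_mul (η.t (Localization.Away (φ f))), ← map_mul (η.t (Localization.Away (φ f)))]
    refine congrArg _ ?_
    have hjf : Localization.awayMap φ f (j f) = j' (φ f) := RingHom.congr_fun hsq f
    rw [hjf, map_mul, map_pow, ← show y * j' (φ f ^ m) = j' b from hb, map_pow]
    ring
  have h2 := GrothLib.EtaPt.Nmap_away_eq_zero η (φ f) h1
  rw [mul_sub, sub_eq_zero] at h2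
  refine ⟨b * φ f ^ (n + 1), ⟨x * η.t A f ^ (m + 1), Subring.mul_mem _ hx
    (Subring.pow_mem _ (η.t_mem_M A f) _), ?_⟩, m + (n + 1), ?_⟩
  · rw [map_mul, map_pow, η.Nmap_t_apply, pow_succ, pow_succ, ← mul_assoc, mul_comm _ (η.t B (φ f)),
      h2, ← map_mul]
    congr 1; ring
  · rw [map_mul, map_pow, ← show y * j' (φ f ^ m) = j' b from hb, map_pow]; ring

end Groth.Agent.S13829
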