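import Groth.Statements.S13830
import Groth.Agent.Lib.EtaPt.SN
import Groth.Agent.S13819

set_option autoImplicit false
universe u
open AlgebraicGeometry
open EtaPt

namespace Groth.Agent.S13830

/-- For the identity endofunctor, a commutative ring A with finitely many minimal prime ideals and an
A-algebra B with Spec B → Spec A surjective, the subring (B/A) ⊆ B (elements b whose residue classes
(b mod q)_q come from a family in M(A) ⊆ ∏_p k(p), M(A) being the families that come from an element
of R after any base change to a valuation ring R) is the seminormalization of A in B: Spec (B/A) →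
Spec A is a universal homeomorphism with trivial residue field extensions, and every A-subalgebra C
of B with these two properties is contained in (B/A). -/
theorem result (A B : Type u) [CommRing A] [CommRing B] [Algebra A B] (hA : (minimalPrimes A).Finite)
    (hs : Function.Surjective (PrimeSpectrum.comap (algebraMap A B))) :
    (FlatMor.IsUnivHomeo (Spec.map (CommRingCat.ofHom (EtaPt.FieldEndo.ident.{u}.qRel (algebraMap A B)))) ∧
      HTop.ResidueFieldsIso (Spec.map (CommRingCat.ofHom (EtaPt.FieldEndo.ident.{u}.qRel (algebraMap A B))))) ∧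
    ∀ C : Subalgebra A B,
      FlatMor.IsUnivHomeo (Spec.map (CommRingCat.ofHom (algebraMap A C))) →
      HTop.ResidueFieldsIso (Spec.map (CommRingCat.ofHom (algebraMap A C))) →
      C.toSubring ≤ EtaPt.FieldEndo.ident.{u}.rel (algebraMap A B) := by
  have key : GrothLib.EtaPt.ResBij (EtaPt.FieldEndo.ident.{u}.qRel (algebraMap A B)) := fun Q => by
    obtain ⟨φ, hφ⟩ := GrothLib.EtaPt.qRel_residue_factor EtaPt.FieldEndo.ident.{u} hA (algebraMap A B) hs Q
    refine ⟨RingHom.injective _, fun y => ⟨φ y, φ.injective ?_⟩⟩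
    exact RingHom.congr_fun hφ (φ y)
  refine ⟨⟨GrothLib.EtaPt.isUnivHomeo_spec _ (GrothLib.EtaPt.isIntegral_qRel _ hA _ hs)
    (GrothLib.EtaPt.comap_qRel_bijective _ hA _ hs) key, (GrothLib.EtaPt.residueFieldsIso_iff _).mpr key⟩,
    fun C hu hr => ?_⟩
  obtain ⟨hi, hb⟩ := GrothLib.EtaPt.of_isUnivHomeo _ hu
  intro c hc
  refine Groth.Agent.S13819.result EtaPt.FieldEndo.ident.{u} hA (algebraMap A C) C.val.toRingHom hs hi
    (GrothLib.EtaPt.Nmap_bijective _ hb fun Q => ?_) ⟨⟨c, hc⟩, rfl⟩
  have hQ := (GrothLib.EtaPt.residueFieldsIso_iff _).mp hr Q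
  exact ⟨(RingEquiv.ofBijective _ hQ).symm.toRingHom,
    RingHom.ext (RingEquiv.ofBijective _ hQ).symm_apply_apply⟩

end Groth.Agent.S13830
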