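import Groth.Statements.S13831
-- import your own Groth.Agent.* helpers here
import Groth.Agent.Lib.Frob.Morphisms
import Groth.Agent.Lib.Weight.Multiplicity

set_option autoImplicit false
universe u
open AlgebraicGeometry
open ChowMon

open CategoryTheory AlgebraicGeometry in
theorem finrank_residueField_le {T' T : Scheme.{u}} (p : T' ⟶ T) [IsFinite p] {V : T.Opens}
    (hW : IsAffineOpen (p ⁻¹ᵁ V)) (_hV : IsAffineOpen V) (t' : T') (ht' : p t' ∈ V)
    (s : Finset Γ(T', p ⁻¹ᵁ V))
    (hs : letI := (p.app V).hom.toAlgebra; Submodule.span Γ(T, V) (s : Set Γ(T', p ⁻¹ᵁ V)) = ⊤) :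
    @Module.finrank (T.residueField (p t')) (T'.residueField t') _ _
      (p.residueFieldMap t').hom.toAlgebra.toModule ≤ s.card := by
  classical
  letI := (p.residueFieldMap t').hom.toAlgebra
  letI := (p.app V).hom.toAlgebra
  haveI : Module.Finite (T.residueField (p t')) (T'.residueField t') := GrothLib.Weight.finite_residueFieldMap p t'
  let ρ : Γ(T', p ⁻¹ᵁ V) →+* T'.residueField t' := (T'.evaluation (p ⁻¹ᵁ V) t' ht').hom
  let ρ₀ : Γ(T, V) →+* T.residueField (p t') := (T.evaluation V (p t') ht').hom
  have hcomm : ∀ a, ρ (p.app V a) = algebraMap (T.residueField (p t')) (T'.residueField t') (ρ₀ a) := fun a =>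
    (Scheme.evaluation_naturality_apply p t' ht' a).symm
  let W := Submodule.span (T.residueField (p t')) ((s.image ρ : Finset (T'.residueField t')) : Set (T'.residueField t'))
  have hmem : ∀ b, ρ b ∈ W := by
    intro b
    have hb : b ∈ Submodule.span Γ(T, V) (s : Set Γ(T', p ⁻¹ᵁ V)) := hs ▸ Submodule.mem_top
    induction hb using Submodule.span_induction with
    | mem x hx => exact Submodule.subset_span (by simpa using ⟨x, hx, rfl⟩)
    | zero => rw [map_zero]; exact zero_mem _
    | add x y _ _ hx hy => rw [map_add]; exact add_mem hx hy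
    | smul a x _ hx =>
      rw [Algebra.smul_def, map_mul, RingHom.algebraMap_toAlgebra]
      erw [hcomm]
      rw [← Algebra.smul_def]
      exact Submodule.smul_mem _ _ hx
  have hone : (1 : T'.residueField t') ∈ W := map_one ρ ▸ hmem 1
  have hmul : ∀ b, ∀ w ∈ W, ρ b * w ∈ W := by
    intro b w hw
    induction hw using Submodule.span_induction with
    | mem x hx =>
      obtain ⟨c, -, rfl⟩ : ∃ c ∈ s, ρ c = x := by simpa using hx
      rw [← map_mul]; exact hmem _
    | zero => rw [mul_zero]; exact zero_mem _
    | add x y _ _ hx hy => rw [mul_add]; exact add_mem hx hy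
    | smul a x _ hx => rw [mul_smul_comm]; exact Submodule.smul_mem _ _ hx
  have htop : W = ⊤ := eq_top_iff.2 fun z _ => by
    obtain ⟨z, rfl⟩ := T'.residue_surjective t' z
    letI := TopCat.Presheaf.algebra_section_stalk T'.presheaf (⟨t', ht'⟩ : (p ⁻¹ᵁ V : T'.Opens))
    haveI := hW.isLocalization_stalk ⟨t', ht'⟩
    obtain ⟨⟨a, c⟩, hac⟩ := IsLocalization.surj (hW.primeIdealOf ⟨t', ht'⟩).asIdeal.primeCompl z
    have hu : ρ c ≠ 0 := ((IsLocalization.map_units (T'.presheaf.stalk t') c).map (T'.residue t').hom).ne_zero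
    have h1 : T'.residue t' z * ρ c = ρ a := by
      have := congrArg (T'.residue t').hom hac
      rw [map_mul] at this
      exact this
    let L : T'.residueField t' →ₗ[T.residueField (p t')] T'.residueField t' := LinearMap.mulLeft _ (ρ c)
    have hsurj : W.map L = W := by
      refine Submodule.eq_of_le_of_finrank_eq (Submodule.map_le_iff_le_comap.2 fun w hw => hmul _ w hw) ?_
      exact (Submodule.equivMapOfInjective L (fun a b h => mul_left_cancel₀ hu h) W).finrank_eq.symm
    obtain ⟨w, hw, hw'⟩ := (hsurj.ge (hmem a) : ρ a ∈ W.map L)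
    have : T'.residue t' z = w := mul_right_cancel₀ hu (h1.trans (hw'.symm.trans (mul_comm _ _)))
    rw [this]; exact hw
  calc Module.finrank (T.residueField (p t')) (T'.residueField t')
      = Module.finrank (T.residueField (p t')) W := by rw [htop, finrank_top]
    _ ≤ (s.image ρ).card := finrank_span_finset_le_card _
    _ ≤ s.card := Finset.card_image_le

namespace Groth.Agent.S13831

/-- For a finite universal homeomorphism p : T' → T of Noetherian schemes there is an integer d ≥ 1 such
that for every point t' of T' over t the residue field degree [k(t') : k(t)] is a power of the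
exponential characteristic of k(t) dividing d. -/
theorem result {T' T : Scheme.{u}} (p : T' ⟶ T) [IsFinite p] (hp : FlatMor.IsUnivHomeo p)
    [IsNoetherian T] [IsNoetherian T'] [T.IsSeparated] [T'.IsSeparated] :
    ∃ d : ℕ, 0 < d ∧ ∀ t' : T', ∃ e : ℕ,
      @Module.finrank (T.residueField (p t')) (T'.residueField t') _ _
          (p.residueFieldMap t').hom.toAlgebra.toModule =
        ringExpChar (T.residueField (p t')) ^ e ∧
      ringExpChar (T.residueField (p t')) ^ e ∣ d := by
  classical
  obtain ⟨-, hinj, -⟩ := (GrothLib.Frob.isUnivHomeo_iff _).1 hp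
  haveI := hinj
  have hpi : ∀ x, (p.residueFieldMap x).hom.IsPurelyInseparable :=
    ((((tfae_universallyInjective p).out 0 2 rfl rfl).1 hinj : Function.Injective p ∧ ∀ x, (p.residueFieldMap x).hom.IsPurelyInseparable)).2
  have hbound : ∃ N : ℕ, ∀ t' : T', @Module.finrank (T.residueField (p t')) (T'.residueField t') _ _
      (p.residueFieldMap t').hom.toAlgebra.toModule ≤ N := by
    have hloc : ∀ t : T, ∃ V : T.Opens, t ∈ V ∧ ∃ N : ℕ, ∀ t' : T', p t' ∈ V →
        @Module.finrank (T.residueField (p t')) (T'.residueField t') _ _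
          (p.residueFieldMap t').hom.toAlgebra.toModule ≤ N := by
      intro t
      obtain ⟨_, ⟨V, hV, rfl⟩, htV, -⟩ := T.isBasis_affineOpens.exists_subset_of_mem_open (Set.mem_univ t) isOpen_univ
      have hfin := IsFinite.finite_app (f := p) V hV
      algebraize [(p.app V).hom]
      obtain ⟨s, hs⟩ := Module.Finite.fg_top (R := Γ(T, V)) (M := Γ(T', p ⁻¹ᵁ V))
      refine ⟨V, htV, s.card, fun t' ht' => ?_⟩
      exact finrank_residueField_le p (hV.preimage p) hV t' ht' s hs
    choose V htV N hN using hloc
    obtain ⟨S, hS⟩ := isCompact_univ.elim_finite_subcover (fun t => (V t : Set T)) (fun t => (V t).2)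
      (fun t _ => Set.mem_iUnion.2 ⟨t, htV t⟩)
    refine ⟨S.sup N, fun t' => ?_⟩
    obtain ⟨t, ht, htmem⟩ := Set.mem_iUnion₂.1 (hS (Set.mem_univ (p t')))
    exact (hN t t' htmem).trans (Finset.le_sup ht)
  obtain ⟨N, hN⟩ := hbound
  refine ⟨N.factorial, Nat.factorial_pos N, fun t' => ?_⟩
  letI := (p.residueFieldMap t').hom.toAlgebra
  haveI : IsPurelyInseparable (T.residueField (p t')) (T'.residueField t') := hpi t'
  haveI : Module.Finite (T.residueField (p t')) (T'.residueField t') := GrothLib.Weight.finite_residueFieldMap p t'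
  obtain ⟨e, he⟩ := IsPurelyInseparable.finrank_eq_pow (T.residueField (p t')) (T'.residueField t')
    (ringExpChar (T.residueField (p t')))
  refine ⟨e, he, ?_⟩
  rw [← he]
  exact Nat.dvd_factorial Module.finrank_pos (hN t')

end Groth.Agent.S13831
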