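import Groth.Statements.S13835
-- import your own Groth.Agent.* helpers here
import Groth.Agent.Lib.Frob.Morphisms

set_option autoImplicit false
universe u
open AlgebraicGeometry CategoryTheory
open ChowMon

namespace Groth.Agent.S13835

/-- Let p : T' → T be a universal homeomorphism of separated schemes with T reduced and f' : T' → Y a
morphism (Y separated); if T has an open cover by affine opens U_i such that each restriction of f'
to p⁻¹(U_i) factors through p⁻¹(U_i) → U_i, then f' factors through p. -/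
theorem result {T' T Y : Scheme.{u}} (p : T' ⟶ T) (hp : FlatMor.IsUnivHomeo p) [IsReduced T]
    [T.IsSeparated] [T'.IsSeparated] [Y.IsSeparated] (f' : T' ⟶ Y)
    {ι : Type u} (U : ι → T.affineOpens) (hU : ⨆ i, (U i : T.Opens) = ⊤)
    (hloc : ∀ i, ∃ fi : ((U i : T.Opens) : Scheme.{u}) ⟶ Y, (p ⁻¹ᵁ (U i : T.Opens)).ι ≫ f' = (p ∣_ (U i : T.Opens)) ≫ fi) :
    ∃ f : T ⟶ Y, p ≫ f = f' := by
  obtain ⟨-, -, hsurj⟩ := (GrothLib.Frob.isUnivHomeo_iff _).1 hp
  choose fi hfi using hloc
  let 𝒰 := T.openCoverOfIsOpenCover (fun i => (U i : T.Opens)) hU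
  have hagree : ∀ i j : 𝒰.I₀, Limits.pullback.fst (𝒰.f i) (𝒰.f j) ≫ fi i = Limits.pullback.snd (𝒰.f i) (𝒰.f j) ≫ fi j := by
    intro i j
    haveI : IsOpenImmersion (𝒰.f i) := inferInstanceAs (IsOpenImmersion (U i : T.Opens).ι)
    haveI : IsOpenImmersion (𝒰.f j) := inferInstanceAs (IsOpenImmersion (U j : T.Opens).ι)
    haveI : IsReduced (Limits.pullback (𝒰.f i) (𝒰.f j)) :=
      isReduced_of_isOpenImmersion (Limits.pullback.fst (𝒰.f i) (𝒰.f j) ≫ 𝒰.f i)
    let g := Limits.pullback.fst (𝒰.f i) (𝒰.f j) ≫ 𝒰.f i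
    haveI : Surjective (Limits.pullback.snd p g) := MorphismProperty.pullback_snd p g hsurj
    refine ext_of_isDominant (Limits.pullback.snd p g) ?_
    have key : ∀ (k : 𝒰.I₀) (a : Limits.pullback p g ⟶ ((U k : T.Opens) : Scheme.{u})),
        a ≫ (U k : T.Opens).ι = Limits.pullback.snd p g ≫ g → a ≫ fi k = Limits.pullback.fst p g ≫ f' := by
      intro k a ha
      have hsq := (isPullback_morphismRestrict p (U k : T.Opens))
      have e : Limits.pullback.fst p g ≫ p = a ≫ (U k : T.Opens).ι := by rw [Limits.pullback.condition, ha]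
      obtain ⟨l, h1, h2⟩ := hsq.exists_lift a (Limits.pullback.fst p g) e.symm
      rw [← h1, Category.assoc, ← hfi k, ← Category.assoc, h2]
    rw [← Category.assoc, ← Category.assoc]
    refine (key i _ ?_).trans (key j _ ?_).symm
    · exact Category.assoc _ _ _
    · exact (Category.assoc _ _ _).trans (congrArg _ Limits.pullback.condition.symm)
  refine ⟨𝒰.glueMorphisms fi hagree, ?_⟩
  refine Scheme.Cover.hom_ext (𝒰.pullback₁ p) _ _ fun i => ?_
  have hsq := (isPullback_morphismRestrict p (U i : T.Opens))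
  have e1 : Limits.pullback.fst p (𝒰.f i) ≫ p = Limits.pullback.snd p (𝒰.f i) ≫ 𝒰.f i := Limits.pullback.condition
  obtain ⟨l, h1, h2⟩ := hsq.exists_lift (Limits.pullback.snd p (𝒰.f i)) (Limits.pullback.fst p (𝒰.f i)) e1.symm
  show Limits.pullback.fst p (𝒰.f i) ≫ p ≫ _ = Limits.pullback.fst p (𝒰.f i) ≫ f'
  refine (Category.assoc _ _ _).symm.trans ((congrArg (· ≫ _) e1).trans ((Category.assoc _ _ _).trans ?_))
  refine (congrArg (_ ≫ ·) (𝒰.ι_glueMorphisms fi hagree i)).trans ?_
  refine (congrArg (· ≫ fi i) h1.symm).trans ((Category.assoc _ _ _).trans ?_)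
  exact (congrArg (l ≫ ·) (hfi i).symm).trans ((Category.assoc _ _ _).symm.trans (congrArg (· ≫ f') h2))

end Groth.Agent.S13835
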