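import Groth.Statements.S13836
import Groth.Agent.Lib.UnibrNorm25.Ring
import Groth.Agent.Lib.SN25.Scheme
import Mathlib.AlgebraicGeometry.FunctionField
import Mathlib.AlgebraicGeometry.Normalization
-- import your own Groth.Agent.* helpers here

set_option autoImplicit false
universe u
open AlgebraicGeometry CategoryTheory
open HTop

namespace Groth.Agent.S13836

/-- Let Y be a separated Noetherian integral scheme whose local rings are geometrically unibranch and
whose affine coordinate rings are Nagata, K its function field and L a finite purely inseparable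
extension of K; then the normalization of Y in L, i.e. the normalization of Y relative to Spec L →
Spec K → Y, maps to Y by a universal homeomorphism. (The instance binders on Spec L → Y always hold;
they are only needed to form the normalization.) -/
theorem result (Y : Scheme.{u}) [IsIntegral Y] [IsNoetherian Y] [Y.IsSeparated]
    (hY : ∀ y : Y, CAlg2.IsGeomUnibranch (Y.presheaf.stalk y))
    (hN : ∀ U : Y.affineOpens, CAlg.IsNagata Γ(Y, U))
    (L : Type u) [Field L] [Algebra Y.functionField L] [FiniteDimensional Y.functionField L]
    [IsPurelyInseparable Y.functionField L]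
    [QuasiCompact (Spec.map (CommRingCat.ofHom (algebraMap Y.functionField L)) ≫ Y.fromSpecStalk (genericPoint Y))]
    [QuasiSeparated (Spec.map (CommRingCat.ofHom (algebraMap Y.functionField L)) ≫ Y.fromSpecStalk (genericPoint Y))] :
    FlatMor.IsUnivHomeo
      (Spec.map (CommRingCat.ofHom (algebraMap Y.functionField L)) ≫ Y.fromSpecStalk (genericPoint Y)).fromNormalization := by
  let g := Spec.map (CommRingCat.ofHom (algebraMap Y.functionField L)) ≫ Y.fromSpecStalk (genericPoint Y)
  let ν := g.fromNormalization
  have hgen : ∀ z, g z = genericPoint Y := fun z => by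
    rw [show g z = Y.fromSpecStalk (genericPoint Y) (Spec.map (CommRingCat.ofHom (algebraMap Y.functionField L)) z)
      from Scheme.Hom.comp_apply _ _ _]
    have h0 : Spec.map (CommRingCat.ofHom (algebraMap Y.functionField L)) z =
        IsLocalRing.closedPoint Y.functionField :=
      @Subsingleton.elim _ (inferInstanceAs (Subsingleton (PrimeSpectrum Y.functionField))) _ _
    rw [h0]
    exact Scheme.fromSpecStalk_closedPoint
  change FlatMor.IsUnivHomeo ν
  refine (GrothLib.Frob.isUnivHomeo_iff ν).2 ⟨inferInstance, ?_, ?_⟩
  · have hloc : ∀ y : Y, ∃ U : Y.Opens, y ∈ U ∧ UniversallyInjective (ν ∣_ U) := fun y => by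
      obtain ⟨U, hU, hyU, -⟩ := exists_isAffineOpen_mem_and_subset (X := Y) (x := y) (U := ⊤) trivial
      refine ⟨U, hyU, ?_⟩
      have : Nonempty U := ⟨⟨y, hyU⟩⟩
      have hηU : genericPoint Y ∈ U := ((genericPoint_spec Y).specializes trivial).mem_open U.2 hyU
      let A := Γ(Y, U)
      let M := Γ(Spec (CommRingCat.of L), g ⁻¹ᵁ U)
      have htop : g ⁻¹ᵁ U = ⊤ := top_unique fun z _ => by change g z ∈ U; rw [hgen]; exact hηU
      let j : M ≅ CommRingCat.of L :=
        (Spec (CommRingCat.of L)).presheaf.mapIso (eqToIso htop.symm).op ≪≫ Scheme.ΓSpecIso _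
      let κ := Y.germToFunctionField U
      let m : Y.functionField ⟶ M := CommRingCat.ofHom (algebraMap Y.functionField L) ≫ j.inv
      have hm : g.app U = κ ≫ m := by
        simp only [g, Scheme.Hom.comp_app, Scheme.fromSpecStalk_app hηU, m, j, Category.assoc, κ,
          Scheme.germToFunctionField, Scheme.Hom.naturality_assoc, Iso.trans_inv, Functor.mapIso_inv]
        rw [Scheme.Hom.naturality]
        exact congrArg (Y.presheaf.germ U _ hηU ≫ ·) (Scheme.ΓSpecIso_inv_naturality_assoc
          (CommRingCat.ofHom (algebraMap Y.functionField L)) _).symm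
      let _ : Algebra A M := (g.app U).hom.toAlgebra
      let _ : Algebra Y.functionField M := m.hom.toAlgebra
      have : IsScalarTower A Y.functionField M := IsScalarTower.of_algebraMap_eq fun a => by
        change (g.app U).hom a = _
        rw [hm]; rfl
      have : IsFractionRing A Y.functionField := functionField_isFractionRing_of_isAffineOpen Y U hU
      obtain ⟨q, hq⟩ := ExpChar.exists Y.functionField
      have hL : ∀ x : M, ∃ n : ℕ, x ^ q ^ n ∈ (algebraMap Y.functionField M).range := fun x => by
        obtain ⟨n, c, hc⟩ := IsPurelyInseparable.pow_mem Y.functionField q (j.hom x)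
        refine ⟨n, c, ?_⟩
        change j.inv (algebraMap Y.functionField L c) = _
        rw [hc, ← map_pow, Iso.hom_inv_id_apply]
      have hinj : Function.Injective (algebraMap Y.functionField M) :=
        (ConcreteCategory.bijective_of_isIso j.inv).1.comp (algebraMap Y.functionField L).injective
      have hrad : GrothLib.UHTower.Radic (algebraMap A (integralClosure A M)) := by
        refine GrothLib.UnibrNorm25.radic_of_geomUnibranch q hL hinj fun p hp => ?_
        let x : U := ⟨hU.fromSpec ⟨p, hp⟩, by
          have h' : hU.fromSpec ⟨p, hp⟩ ∈ hU.fromSpec.opensRange := ⟨_, rfl⟩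
          rwa [IsAffineOpen.opensRange_fromSpec] at h'⟩
        have hprime : hU.primeIdealOf x = ⟨p, hp⟩ :=
          hU.fromSpec.isOpenEmbedding.injective (hU.fromSpec_primeIdealOf x)
        have hl := hU.isLocalization_stalk x
        rw [hprime] at hl
        exact ⟨Y.presheaf.stalk x.1, inferInstance, inferInstance, inferInstance,
          TopCat.Presheaf.algebra_section_stalk Y.presheaf x, hl, inferInstance, functionField_isScalarTower Y U x,
          inferInstance, hY x.1⟩
      have h1 : UniversallyInjective (Spec.map (CommRingCat.ofHom (algebraMap A (integralClosure A M)))) :=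
        GrothLib.UHTower.universallyInjective_iff_radic.2 hrad
      have h2 : UniversallyInjective (Spec.map (ν.app U)) := by
        rw [show ν.app U = _ from g.fromNormalization_app hU, Spec.map_comp]
        exact (MorphismProperty.cancel_left_of_respectsIso (P := @UniversallyInjective) _ _).2 h1
      have h3 : Spec.map (ν.app U) = (hU.preimage ν).isoSpec.inv ≫ (ν ∣_ U) ≫ hU.isoSpec.hom := by
        rw [Scheme.Hom.app_eq_appLE]; exact GrothLib.SN25.specMap_appLE_preimage ν hU
      rw [h3] at h2
      exact (MorphismProperty.cancel_right_of_respectsIso (P := @UniversallyInjective) _ hU.isoSpec.hom).1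
        ((MorphismProperty.cancel_left_of_respectsIso (P := @UniversallyInjective) (hU.preimage ν).isoSpec.inv _).1 h2)
    choose U hyU hUI using hloc
    exact IsZariskiLocalAtTarget.of_iSup_eq_top U (top_unique fun y _ => TopologicalSpace.Opens.mem_iSup.2 ⟨y, hyU y⟩) hUI
  · have : IsIntegralHom ν := inferInstance
    have : IsDominant g := ⟨fun z => by
      refine closure_mono (show ({genericPoint Y} : Set Y) ⊆ Set.range g from
        Set.singleton_subset_iff.2 ⟨default, hgen _⟩) ?_
      rw [(genericPoint_spec Y).def]
      trivial⟩
    have : IsDominant (g.toNormalization ≫ ν) := by rw [Scheme.Hom.toNormalization_fromNormalization]; infer_instance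
    have : IsDominant ν := IsDominant.of_comp g.toNormalization ν
    exact surjective_of_isDominant_of_isClosed_range ν ν.isClosedMap.isClosed_range

end Groth.Agent.S13836
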