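import Groth.Statements.S13837
import Groth.Agent.Lib.AWN25.Basic
import Groth.Agent.Lib.UHTower.Lift
-- import your own Groth.Agent.* helpers here

set_option autoImplicit false
universe u
open AlgebraicGeometry
open scoped TensorProduct
open HTop

namespace Groth.Agent.S13837

/-- Let A ⊆ B be an integral ring extension where A and B have finitely many minimal prime ideals; then
the weak normalization of A in B is the equaliser of the two maps B ⇉ (B ⊗_A B)_red: the
A-subalgebra E of elements b with b ⊗ 1 − 1 ⊗ b nilpotent in B ⊗_A B has Spec E → Spec A a universal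
homeomorphism, and every A-subalgebra C of B with Spec C → Spec A a universal homeomorphism is
contained in E. -/
theorem result (A B : Type u) [CommRing A] [CommRing B] [Algebra A B] (hinj : Function.Injective (algebraMap A B))
    [Algebra.IsIntegral A B] (hA : (minimalPrimes A).Finite) (hB : (minimalPrimes B).Finite) :
    ∃ E : Subalgebra A B, (∀ b : B, b ∈ E ↔ IsNilpotent (b ⊗ₜ[A] (1 : B) - (1 : B) ⊗ₜ[A] b)) ∧
      FlatMor.IsUnivHomeo (Spec.map (CommRingCat.ofHom (algebraMap A E))) ∧
      ∀ C : Subalgebra A B, FlatMor.IsUnivHomeo (Spec.map (CommRingCat.ofHom (algebraMap A C))) → C ≤ E := by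
  classical
  let N : Ideal (B ⊗[A] B) := nilradical (B ⊗[A] B)
  let E : Subalgebra A B := AlgHom.equalizer
    ((Ideal.Quotient.mkₐ A N).comp (Algebra.TensorProduct.includeLeft (R := A) (S := A) (A := B) (B := B)))
    ((Ideal.Quotient.mkₐ A N).comp (Algebra.TensorProduct.includeRight (R := A) (A := B) (B := B)))
  have hmem : ∀ b : B, b ∈ E ↔ IsNilpotent (b ⊗ₜ[A] (1 : B) - (1 : B) ⊗ₜ[A] b) := fun b =>
    (Ideal.Quotient.mk_eq_mk_iff_sub_mem _ _).trans mem_nilradical
  refine ⟨E, hmem, ?_, fun C hC b hb => ?_⟩
  · have hint : (algebraMap A E).IsIntegral :=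
      GrothLib.UHTower.isIntegral_restrict E Algebra.IsIntegral.isIntegral
    have hinjE : Function.Injective (algebraMap A E) := fun a a' e =>
      hinj (congrArg Subtype.val e)
    refine GrothLib.UHTower.isUnivHomeo_iff_uh.2
      ⟨hint, GrothLib.UHTower.surjective_comap_of_injective hinjE hint, fun K _ f g hfg => ?_⟩
    let L := AlgebraicClosure K
    let i : K →+* L := algebraMap K L
    have hiB : (algebraMap E B).IsIntegral := by
      have : Algebra.IsIntegral E B := Algebra.IsIntegral.tower_top (R := A)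
      exact Algebra.IsIntegral.isIntegral
    have hsB : Function.Surjective (PrimeSpectrum.comap (algebraMap E B)) :=
      GrothLib.UHTower.surjective_comap_of_injective Subtype.val_injective hiB
    obtain ⟨F, hF⟩ := GrothLib.AWN25.exists_lift _ hiB hsB (i.comp f)
    obtain ⟨G, hG⟩ := GrothLib.AWN25.exists_lift _ hiB hsB (i.comp g)
    let _ : Algebra A L := ((i.comp f).comp (algebraMap A E)).toAlgebra
    have hFA : ∀ a, F (algebraMap A B a) = algebraMap A L a := fun a => RingHom.congr_fun hF (algebraMap A E a)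
    have hGA : ∀ a, G (algebraMap A B a) = algebraMap A L a := fun a =>
      (RingHom.congr_fun hG (algebraMap A E a)).trans (congrArg i (RingHom.congr_fun hfg a).symm)
    let T : B ⊗[A] B →ₐ[A] L := Algebra.TensorProduct.lift ⟨F, hFA⟩ ⟨G, hGA⟩ fun _ _ => Commute.all _ _
    refine RingHom.ext fun e => i.injective ?_
    have h0 : T ((e : B) ⊗ₜ[A] (1 : B) - (1 : B) ⊗ₜ[A] (e : B)) = 0 :=
      (((hmem e).1 e.2).map T).eq_zero
    rw [map_sub, sub_eq_zero, Algebra.TensorProduct.lift_tmul, Algebra.TensorProduct.lift_tmul] at h0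
    simp only [map_one, mul_one, one_mul] at h0
    exact ((RingHom.congr_fun hF e).symm.trans h0).trans (RingHom.congr_fun hG e)
  · refine (hmem b).2 ?_
    rw [← mem_nilradical, nilradical_eq_sInf, Ideal.mem_sInf]
    rintro P (hP : P.IsPrime)
    have hr := (GrothLib.UHTower.isUnivHomeo_iff_uh.1 hC).2.2
    let q : B ⊗[A] B →+* FractionRing ((B ⊗[A] B) ⧸ P) := (algebraMap _ _).comp (Ideal.Quotient.mk P)
    have h := hr (FractionRing ((B ⊗[A] B) ⧸ P))
      ((q.comp Algebra.TensorProduct.includeLeftRingHom).comp C.val.toRingHom)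
      ((q.comp (Algebra.TensorProduct.includeRight (R := A) (A := B) (B := B)).toRingHom).comp C.val.toRingHom)
      (RingHom.ext fun a => congrArg q (AlgHom.commutes (Algebra.TensorProduct.includeRight (R := A) (A := B) (B := B)) a).symm)
    have h1 := RingHom.congr_fun h ⟨b, hb⟩
    rw [← Ideal.Quotient.eq_zero_iff_mem]
    refine IsFractionRing.injective ((B ⊗[A] B) ⧸ P) (FractionRing ((B ⊗[A] B) ⧸ P)) ?_
    rw [map_zero]
    exact (map_sub q _ _).trans (sub_eq_zero.2 h1)

end Groth.Agent.S13837
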