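import Groth.Statements.S13838
import Groth.Agent.Lib.AWN25.Basic
-- import your own Groth.Agent.* helpers here

set_option autoImplicit false
universe u
open AlgebraicGeometry
open HTop

namespace Groth.Agent.S13838
open CategoryTheory


/-- Let A ⊆ B be an integral ring extension where A and B have finitely many minimal prime ideals, such
that every prime p of A has a prime q of B above it for which k(p) is closed under extracting
p-power roots inside k(q) (the purely inseparable closure of k(p) in k(q) is k(p)); then the semi-
and weak normalizations of A in B coincide: every A-subalgebra C of B with Spec C → Spec A a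
universal homeomorphism already induces isomorphisms on residue fields. -/
theorem result (A B : Type u) [CommRing A] [CommRing B] [Algebra A B] (hinj : Function.Injective (algebraMap A B))
    [Algebra.IsIntegral A B] (hA : (minimalPrimes A).Finite) (hB : (minimalPrimes B).Finite)
    (hpi : ∀ p : PrimeSpectrum A, ∃ q : PrimeSpectrum B, ∃ hq : p.asIdeal = Ideal.comap (algebraMap A B) q.asIdeal,
      ∀ x : q.asIdeal.ResidueField,
        (∃ n : ℕ, x ^ ringExpChar p.asIdeal.ResidueField ^ n ∈
            Set.range (Ideal.ResidueField.map p.asIdeal q.asIdeal (algebraMap A B) hq)) →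
        x ∈ Set.range (Ideal.ResidueField.map p.asIdeal q.asIdeal (algebraMap A B) hq)) :
    ∀ C : Subalgebra A B, FlatMor.IsUnivHomeo (Spec.map (CommRingCat.ofHom (algebraMap A C))) →
      HTop.ResidueFieldsIso (Spec.map (CommRingCat.ofHom (algebraMap A C))) := by
  intro C hC
  have hUH := GrothLib.UHTower.isUnivHomeo_iff_uh.1 hC
  have hTriv : GrothLib.UHTower.TrivRes (algebraMap A C) := by
    intro r _ c
    obtain ⟨N, s, a, hs, ha, hN⟩ := hUH.2.2.pires r c
    let p : PrimeSpectrum A := PrimeSpectrum.comap (algebraMap A C) ⟨r, inferInstance⟩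
    obtain ⟨q, hq, hcl⟩ := hpi p
    have hrq : q.asIdeal.comap (algebraMap C B) = r := by
      have h1 : PrimeSpectrum.comap (algebraMap A C) (PrimeSpectrum.comap (algebraMap C B) q) =
          PrimeSpectrum.comap (algebraMap A C) ⟨r, inferInstance⟩ := by
        refine PrimeSpectrum.ext ?_
        exact hq.symm
      exact congrArg PrimeSpectrum.asIdeal (hUH.2.2.injComap h1)
    let ψ := Ideal.ResidueField.map p.asIdeal q.asIdeal (algebraMap A B) hq
    let x : q.asIdeal.ResidueField := algebraMap B _ (c : B)
    have hr : ∀ d : C, d ∈ r → (d : B) ∈ q.asIdeal := fun d hd => by rw [← hrq] at hd; exact hd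
    have hs' : s ∉ p.asIdeal := hs
    have hsa : algebraMap B q.asIdeal.ResidueField (algebraMap A B s) ≠ 0 := fun h0 => hs' (by
      rw [hq]; exact Ideal.mem_comap.2 ((Ideal.algebraMap_residueField_eq_zero (I := q.asIdeal)).1 h0))
    have hxN : x ^ N ∈ Set.range ψ := by
      refine ⟨algebraMap A _ a / algebraMap A _ s, ?_⟩
      rw [map_div₀, Ideal.ResidueField.map_algebraMap, Ideal.ResidueField.map_algebraMap, div_eq_iff hsa]
      have h0 : algebraMap B q.asIdeal.ResidueField ((algebraMap A C s * c ^ N - algebraMap A C a : C) : B) = 0 :=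
        Ideal.algebraMap_residueField_eq_zero.2 (hr _ ha)
      simp only [AddSubgroupClass.coe_sub, MulMemClass.coe_mul, SubmonoidClass.coe_pow, map_sub, map_mul,
        map_pow, sub_eq_zero] at h0
      rw [mul_comm]
      exact h0.symm
    have hx : x ∈ Set.range ψ := by
      rcases hN with rfl | ⟨ℓ, n, hℓ, rfl, hℓr⟩
      · rwa [pow_one] at hxN
      · have h1 : (ℓ : A) ∈ p.asIdeal := by
          change algebraMap A C (ℓ : A) ∈ r
          rwa [map_natCast]
        have h0 : (ℓ : p.asIdeal.ResidueField) = 0 := by
          rw [← map_natCast (algebraMap A p.asIdeal.ResidueField)]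
          exact Ideal.algebraMap_residueField_eq_zero.2 h1
        have hfact : Fact ℓ.Prime := ⟨hℓ⟩
        have : CharP p.asIdeal.ResidueField ℓ := (CharP.charP_iff_prime_eq_zero hℓ).2 h0
        refine hcl x ⟨n, ?_⟩
        rw [ringExpChar.eq p.asIdeal.ResidueField ℓ]
        exact hxN
    obtain ⟨z, hz⟩ := hx
    obtain ⟨a', s', hs'', he⟩ := GrothLib.UHTower.exists_div_eq p.asIdeal z
    refine ⟨s', a', hs'', ?_⟩
    have e := congrArg ψ he
    rw [map_mul, hz, Ideal.ResidueField.map_algebraMap, Ideal.ResidueField.map_algebraMap] at e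
    rw [← hrq]
    refine Ideal.mem_comap.2 ((Ideal.algebraMap_residueField_eq_zero (I := q.asIdeal)).1 ?_)
    change algebraMap B q.asIdeal.ResidueField (algebraMap A B s' * (c : B) - algebraMap A B a') = 0
    rw [map_sub, map_mul, sub_eq_zero, mul_comm]
    exact e
  intro x
  exact (ConcreteCategory.isIso_iff_bijective _).2
    ⟨RingHom.injective _, GrothLib.UHTower.surjective_residueFieldMap_iff.2 hTriv x⟩

end Groth.Agent.S13838
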