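import Groth.Statements.S13839
import Mathlib
import Groth.Agent.Lib.SN25.Ring

set_option autoImplicit false
universe u
open AlgebraicGeometry
open scoped TensorProduct
open ChowMon

namespace Groth.Agent.S13839


open GrothLib.UHTower GrothLib.AWN25
set_option maxHeartbeats 1000000

open MulAction in
/-- An invariant sum under a `p`-group reduces to the fixed points in characteristic `p`. -/
theorem sum_mem_of_fixed {G X L : Type*} [Group G] [MulAction G X] [Fintype X] [CommRing L] {ℓ : ℕ}
    [Fact ℓ.Prime] (hG : IsPGroup ℓ G) (hℓ : (ℓ : L) = 0 ∨ Subsingleton G) (S : AddSubgroup L) (F : X → L)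
    (hinv : ∀ (g : G) (x : X), F (g • x) = F x) (hfix : ∀ x, (∀ g : G, g • x = x) → F x ∈ S) :
    ∑ x, F x ∈ S := by
  classical
  haveI : Fintype (orbitRel.Quotient G X) := Fintype.ofFinite _
  haveI : ∀ ω : orbitRel.Quotient G X, Fintype (orbit G ω.out) := fun ω => Fintype.ofFinite _
  rw [← (selfEquivSigmaOrbits G X).symm.sum_comp, Fintype.sum_sigma]
  refine sum_mem fun ω _ => ?_
  have hc : ∀ y : orbit G ω.out, F ((selfEquivSigmaOrbits G X).symm ⟨ω, y⟩) = F ω.out := by
    rintro ⟨y, g, rfl⟩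
    exact hinv g _
  rw [Finset.sum_congr rfl fun y _ => hc y, Finset.sum_const, Finset.card_univ, ← Nat.card_eq_fintype_card]
  by_cases hx : ∀ g : G, g • ω.out = ω.out
  · exact S.nsmul_mem (hfix _ hx) _
  · obtain ⟨n, hn⟩ := hG.card_orbit ω.out
    have hn0 : n ≠ 0 := fun h0 => hx fun g => by
      rw [h0, pow_zero, Nat.card_eq_one_iff_unique] at hn
      exact congrArg Subtype.val (hn.1.elim ⟨g • ω.out, g, rfl⟩ ⟨ω.out, mem_orbit_self _⟩)
    rcases hℓ with h | h
    · rw [hn, nsmul_eq_mul, Nat.cast_pow, h, zero_pow hn0, zero_mul]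
      exact S.zero_mem
    · exact absurd (fun g => by rw [Subsingleton.elim g 1, one_smul]) hx

/-- The product of a symmetric tensor lands in a subfield of small purely inseparable exponent. -/
theorem mul_mem_range {A B K L : Type u} [CommRing A] [CommRing B] [Algebra A B] [Field K] [Field L] [Algebra K L]
    [FiniteDimensional K L] [Algebra A K] [Algebra A L] [IsScalarTower A K L] (χ : B →ₐ[A] L)
    {ℓ r m : ℕ} [Fact ℓ.Prime] (hℓ : (ℓ : L) = 0 ∨ r = 0) (hpow : ∀ b : L, b ^ (ℓ ^ r) ∈ (algebraMap K L).range)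
    {d : ℕ} (hd : d = m * ℓ ^ r) (x : ⨂[A] _ : Fin d, B) (hx : x ∈ SymTen.TS A B d) :
    χ (PiTensorProduct.lift (MultilinearMap.mkPiAlgebra A (Fin d) B) x) ∈ (algebraMap K L).range := by
  classical
  let bK := Module.Free.chooseBasis K L
  let ι := Module.Free.ChooseBasisIndex K L
  let M : (Fin d → ι) → MultilinearMap A (fun _ : Fin d => B) K := fun f =>
    (MultilinearMap.mkPiAlgebra A (Fin d) K).compLinearMap fun i =>
      ((bK.coord (f i)).restrictScalars A).comp χ.toLinearMap
  let c : (Fin d → ι) → (⨂[A] _ : Fin d, B) → K := fun f t => PiTensorProduct.lift (M f) t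
  have hsum : ∀ t, χ (PiTensorProduct.lift (MultilinearMap.mkPiAlgebra A (Fin d) B) t) =
      ∑ f : Fin d → ι, algebraMap K L (c f t) * ∏ i, bK (f i) := by
    intro t
    induction t using PiTensorProduct.induction_on with
    | smul_tprod a v =>
      simp only [c, map_smul, PiTensorProduct.lift.tprod, MultilinearMap.mkPiAlgebra_apply, map_prod]
      simp only [M, MultilinearMap.compLinearMap_apply, MultilinearMap.mkPiAlgebra_apply, LinearMap.comp_apply,
        LinearMap.restrictScalars_apply, AlgHom.toLinearMap_apply, Module.Basis.coord_apply]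
      have : ∀ i, χ (v i) = ∑ j, algebraMap K L (bK.repr (χ (v i)) j) * bK j := fun i => by
        conv_lhs => rw [← bK.sum_repr (χ (v i))]
        simp only [Algebra.smul_def]
      rw [Finset.prod_congr rfl fun i _ => this i, Fintype.prod_sum, Finset.smul_sum]
      refine Finset.sum_congr rfl fun f _ => ?_
      rw [Finset.prod_mul_distrib, ← map_prod, Algebra.smul_def, Algebra.smul_def, map_mul,
        ← IsScalarTower.algebraMap_apply, mul_assoc]
    | add p q hp hq =>
      simp only [c, map_add, hp, hq, add_mul, Finset.sum_add_distrib]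
  have hperm : ∀ (f : Fin d → ι) (σ : Equiv.Perm (Fin d)), c (f ∘ σ) x = c f x := by
    intro f σ
    have : ∀ t, c (f ∘ σ) t = c f (PiTensorProduct.reindex A (fun _ : Fin d => B) σ t) := by
      intro t
      induction t using PiTensorProduct.induction_on with
      | smul_tprod a v =>
        simp only [c, map_smul, PiTensorProduct.reindex_tprod, PiTensorProduct.lift.tprod, M,
          MultilinearMap.compLinearMap_apply, MultilinearMap.mkPiAlgebra_apply, LinearMap.comp_apply,
          LinearMap.restrictScalars_apply, AlgHom.toLinearMap_apply, Module.Basis.coord_apply]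
        congr 1
        refine Fintype.prod_equiv σ _ _ fun i => ?_
        show bK.repr (χ (v i)) (f (σ i)) = bK.repr (χ (v (σ.symm (σ i)))) (f (σ i))
        rw [σ.symm_apply_apply]
      | add p q hp hq => simp only [c, map_add] at hp hq ⊢; rw [hp, hq]
    rw [this, hx σ]
  haveI : NeZero (ℓ ^ r) := ⟨pow_ne_zero _ (Fact.out : ℓ.Prime).ne_zero⟩
  let G := Multiplicative (ZMod (ℓ ^ r))
  let e : Fin d ≃ Fin m × ZMod (ℓ ^ r) :=
    (finCongr hd).trans (finProdFinEquiv.symm.trans ((Equiv.refl _).prodCongr (ZMod.finEquiv _).toEquiv))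
  let s : G → Equiv.Perm (Fin d) := fun g =>
    e.trans (((Equiv.refl _).prodCongr (Equiv.addRight (Multiplicative.toAdd g))).trans e.symm)
  have hs : ∀ g i, s g i = e.symm ((e i).1, (e i).2 + Multiplicative.toAdd g) := fun g i => rfl
  letI : SMul G (Fin d → ι) := ⟨fun g f => f ∘ s g⟩
  letI : MulAction G (Fin d → ι) :=
    { one_smul := fun f => funext fun i => by show f (s 1 i) = f i; simp [hs]
      mul_smul := fun g h f => funext fun i => by
        show f (s (g * h) i) = f (s h (s g i))
        simp only [hs, Equiv.apply_symm_apply, add_assoc]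
        rfl }
  rw [hsum x]
  refine sum_mem_of_fixed (G := G) (ℓ := ℓ) (IsPGroup.of_card (n := r) ?_) ?_ (algebraMap K L).range.toAddSubgroup
    (fun f => algebraMap K L (c f x) * ∏ i, bK (f i)) (fun g f => ?_) fun f hf => ?_
  · show Nat.card (Multiplicative (ZMod (ℓ ^ r))) = ℓ ^ r
    rw [Nat.card_congr Multiplicative.toAdd, Nat.card_zmod]
  · rcases hℓ with h | h
    · exact Or.inl h
    · refine Or.inr ?_
      show Subsingleton (ZMod (ℓ ^ r))
      rw [h, pow_zero]; infer_instance
  · show algebraMap K L (c (f ∘ s g) x) * ∏ i, bK (f (s g i)) = _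
    rw [hperm, Equiv.prod_comp (s g) (fun i => bK (f i))]
  · show algebraMap K L (c f x) * ∏ i, bK (f i) ∈ (algebraMap K L).range
    refine mul_mem ⟨_, rfl⟩ ?_
    rw [← e.symm.prod_comp, Fintype.prod_prod_type]
    refine prod_mem fun j _ => ?_
    have hj : ∀ z : ZMod (ℓ ^ r), f (e.symm (j, z)) = f (e.symm (j, 0)) := fun z => by
      have h := congrFun (hf (Multiplicative.ofAdd z)) (e.symm (j, 0))
      change f (s (Multiplicative.ofAdd z) (e.symm (j, 0))) = _ at h
      rw [hs] at h
      simpa using h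
    simp only [hj, Finset.prod_const, Finset.card_univ, ZMod.card]
    exact hpow _

theorem exists_exponent {K L : Type u} [Field K] [Field L] [Algebra K L] [FiniteDimensional K L]
    [IsPurelyInseparable K L] {d : ℕ} (hd : Module.finrank K L ∣ d) :
    ∃ (ℓ r m : ℕ), ℓ.Prime ∧ ((ℓ : L) = 0 ∨ r = 0) ∧ d = m * ℓ ^ r ∧
      ∀ b : L, b ^ (ℓ ^ r) ∈ (algebraMap K L).range := by
  obtain ⟨q, hq⟩ := ExpChar.exists K
  obtain ⟨N, hN⟩ := IsPurelyInseparable.finrank_eq_pow K L q
  have key : ∀ b : L, b ^ (q ^ N) ∈ (algebraMap K L).range := fun b => by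
    obtain ⟨n, y, hy⟩ := IsPurelyInseparable.minpoly_eq_X_pow_sub_C K q b
    have hdeg : (minpoly K b).natDegree = q ^ n := by rw [hy, Polynomial.natDegree_X_pow_sub_C]
    have hdvd : q ^ n ∣ q ^ N := hdeg ▸ hN ▸ minpoly.degree_dvd (Algebra.IsIntegral.isIntegral b)
    obtain ⟨t, ht⟩ := hdvd
    have hby : b ^ (q ^ n) = algebraMap K L y := by
      have h := minpoly.aeval K b
      rw [hy, map_sub, map_pow, Polynomial.aeval_X, Polynomial.aeval_C, sub_eq_zero] at h
      exact h
    exact ⟨y ^ t, by rw [map_pow, ← hby, ← pow_mul, ← ht]⟩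
  obtain ⟨m, hm⟩ := hN ▸ hd
  cases hq with
  | zero => exact ⟨2, 0, d, Nat.prime_two, Or.inr rfl, by simp, fun b => by simpa using key b⟩
  | prime hp =>
    exact ⟨q, N, m, hp, Or.inl (by rw [← map_natCast (algebraMap K L), CharP.cast_eq_zero, map_zero]),
      by rw [hm, mul_comm], key⟩

/-- The elements with values in the residue fields of the subring. -/
def trivSub {R S : Type u} [CommRing R] [CommRing S] (φ : R →+* S) : Subring S where
  carrier := {y | ∀ (q : Ideal S) [q.IsPrime], ∃ s a : R, φ s ∉ q ∧ φ s * y - φ a ∈ q}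
  mul_mem' {x y} hx hy q _ := by
    obtain ⟨s, a, hs, ha⟩ := hx q
    obtain ⟨t, d, ht, hd⟩ := hy q
    obtain ⟨⟨h1, -⟩, h3⟩ := GrothLib.SN25.exists_mul_sub_mem hs ha ht hd
    exact ⟨_, _, h1, h3⟩
  one_mem' q _ := ⟨1, 1, by rw [map_one]; exact (Ideal.ne_top_iff_one q).1 (Ideal.IsPrime.ne_top ‹_›), by simp⟩
  add_mem' {x y} hx hy q _ := by
    obtain ⟨s, a, hs, ha⟩ := hx q
    obtain ⟨t, d, ht, hd⟩ := hy q
    obtain ⟨⟨h1, h2⟩, -⟩ := GrothLib.SN25.exists_mul_sub_mem hs ha ht hd
    exact ⟨_, _, h1, h2⟩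
  zero_mem' q _ := ⟨1, 0, by rw [map_one]; exact (Ideal.ne_top_iff_one q).1 (Ideal.IsPrime.ne_top ‹_›), by simp⟩
  neg_mem' {x} hx q _ := by
    obtain ⟨s, a, hs, ha⟩ := hx q
    exact ⟨s, -a, hs, by rw [map_neg, mul_neg, ← neg_sub']; exact neg_mem ha⟩

theorem mem_range_of_trivial {C C' : Type u} [CommRing C] [CommRing C'] [IsReduced C']
    (hC : HTop.IsSeminormalRing C) {φ : C →+* C'} (hu : UH φ) {y : C'} (hy : y ∈ trivSub φ) : y ∈ φ.range := by
  let D := trivSub φ
  let ψ : C →+* D := φ.codRestrict D fun c q _ =>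
    ⟨1, c, by rw [map_one]; exact (Ideal.ne_top_iff_one q).1 (Ideal.IsPrime.ne_top ‹_›), by simp⟩
  letI : Algebra D C' := D.subtype.toAlgebra
  have hint : D.subtype.IsIntegral := fun z => by
    obtain ⟨P, hP, hPz⟩ := hu.1 z
    exact ⟨P.map ψ, hP.map ψ, by rw [Polynomial.eval₂_map]; exact hPz⟩
  haveI : Algebra.IsIntegral D C' := ⟨hint⟩
  have hlift : ∀ Q : PrimeSpectrum D, ∃ q : PrimeSpectrum C', q.comap D.subtype = Q := fun Q => by
    obtain ⟨q, -, hq, hq'⟩ := Ideal.exists_ideal_over_prime_of_isIntegral (R := D) (S := C') Q.asIdeal ⊥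
      (by intro z hz; rw [Ideal.mem_comap, Ideal.mem_bot] at hz; rw [show z = 0 from Subtype.ext hz]; exact zero_mem _)
    exact ⟨⟨q, hq⟩, PrimeSpectrum.ext hq'⟩
  have ht : TrivRes ψ := by
    intro Q _ z
    obtain ⟨q, hq⟩ := hlift ⟨Q, ‹_›⟩
    obtain ⟨s, a, hs, ha⟩ := z.2 q.asIdeal
    have hQ : Q = q.asIdeal.comap D.subtype := (congrArg PrimeSpectrum.asIdeal hq).symm
    subst hQ
    exact ⟨s, a, hs, ha⟩
  have hinj : InjComap ψ := fun Q Q' h => by
    obtain ⟨q, rfl⟩ := hlift Q
    obtain ⟨q', rfl⟩ := hlift Q'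
    rw [hu.2.2.injComap (show PrimeSpectrum.comap φ q = PrimeSpectrum.comap φ q' from h)]
  have hψint : ψ.IsIntegral := fun z => by
    obtain ⟨P, hP, hPz⟩ := hu.1 (z : C')
    exact ⟨P, hP, Subtype.ext (by rw [← D.coe_subtype, Polynomial.hom_eval₂]; exact hPz)⟩
  have huD : UH ψ := ⟨hψint, fun p => by
    obtain ⟨q, rfl⟩ := hu.2.1 p
    exact ⟨q.comap D.subtype, rfl⟩, radic_of_pires hinj ht.pires⟩
  haveI : IsReduced D := isReduced_of_injective D.subtype Subtype.val_injective
  obtain ⟨c, hc⟩ := (bijective_of_seminormal hC huD ht).2 ⟨y, hy⟩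
  exact ⟨c, congrArg Subtype.val hc⟩


/-- Let C be a Noetherian seminormal A-algebra, g : C → C' an A-algebra map with C' reduced such that
Spec C' → Spec C is a finite universal homeomorphism, and d ≥ 1 an integer divisible by every
residue degree [k(q) : k(g⁻¹q)]; let B be a flat A-algebra and φ : B → C' an A-algebra map. Then for
every symmetric tensor x ∈ TS^d_A(B) the element φ(m_d(x)) of C', m_d : B^{⊗d} → B the
multiplication, lies in the image of C. (The published statement does not assume C' reduced and is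
false without it: take A = C = k a field, C' = k[ε]/(ε²), d = 1, B = k[t] and φ(t) = ε; then ε is
not in k.) -/
theorem result (A C C' B : Type u) [CommRing A] [CommRing C] [CommRing C'] [CommRing B]
    [Algebra A C] [Algebra A C'] [Algebra A B] [IsNoetherianRing C] (hC : HTop.IsSeminormalRing C)
    (g : C →ₐ[A] C') [IsReduced C'] (hfin : g.toRingHom.Finite)
    (hg : FlatMor.IsUnivHomeo (Spec.map (CommRingCat.ofHom g.toRingHom)))
    (d : ℕ) (hd : 0 < d)
    (hdeg : ∀ q : PrimeSpectrum C',
      @Module.finrank (PrimeSpectrum.comap g.toRingHom q).asIdeal.ResidueField q.asIdeal.ResidueField _ _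
          (Ideal.ResidueField.map (PrimeSpectrum.comap g.toRingHom q).asIdeal q.asIdeal g.toRingHom
            rfl).toAlgebra.toModule ∣ d)
    [Module.Flat A B] (φ : B →ₐ[A] C') (x : ⨂[A] _ : Fin d, B) (hx : x ∈ SymTen.TS A B d) :
    φ (PiTensorProduct.lift (MultilinearMap.mkPiAlgebra A (Fin d) B) x) ∈ g.range := by
  have hu : UH g.toRingHom := isUnivHomeo_iff_uh.1 hg
  refine mem_range_of_trivial hC hu fun q _ => ?_
  let p : Ideal C := q.comap g.toRingHom
  let ψ := Ideal.ResidueField.map p q g.toRingHom rfl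
  let _ : Algebra p.ResidueField q.ResidueField := ψ.toAlgebra
  have hd' : Module.finrank p.ResidueField q.ResidueField ∣ d := hdeg ⟨q, ‹_›⟩
  haveI : FiniteDimensional p.ResidueField q.ResidueField := by
    refine Module.finite_of_finrank_pos (Nat.pos_of_ne_zero fun h0 => ?_)
    rw [h0] at hd'
    exact hd.ne' (Nat.eq_zero_of_zero_dvd hd')
  haveI : IsScalarTower A p.ResidueField q.ResidueField := IsScalarTower.of_algebraMap_eq fun a => by
    show algebraMap A q.ResidueField a = ψ (algebraMap A p.ResidueField a)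
    rw [IsScalarTower.algebraMap_apply A C p.ResidueField, Ideal.ResidueField.map_algebraMap,
      IsScalarTower.algebraMap_apply A C' q.ResidueField]
    exact congrArg _ (g.commutes a).symm
  haveI : IsPurelyInseparable p.ResidueField q.ResidueField := by
    rw [isPurelyInseparable_iff_subsingleton_emb, subsingleton_iff]
    intro σ₁ σ₂
    apply AlgHom.coe_ringHom_injective
    refine Ideal.ResidueField.ringHom_ext ?_
    refine hu.2.2 _ _ _ (RingHom.ext fun a => ?_)
    change σ₁ (algebraMap C' q.ResidueField (g a)) = σ₂ (algebraMap C' q.ResidueField (g a))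
    have he : algebraMap p.ResidueField q.ResidueField (algebraMap C p.ResidueField a) =
        algebraMap C' q.ResidueField (g a) := Ideal.ResidueField.map_algebraMap p q g.toRingHom rfl a
    rw [← he]
    exact (σ₁.commutes _).trans (σ₂.commutes _).symm
  obtain ⟨ℓ, r, m, hl, hℓ, hdm, hpow⟩ := exists_exponent hd'
  haveI := Fact.mk hl
  obtain ⟨z, hz⟩ := mul_mem_range (K := p.ResidueField) ((IsScalarTower.toAlgHom A C' q.ResidueField).comp φ)
    hℓ hpow hdm x hx
  obtain ⟨a, s, hs, hdiv⟩ := exists_div_eq p z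
  exact ⟨s, a, hs, (residueField_map_eq_iff q z _).1 hz a s hs hdiv⟩


end Groth.Agent.S13839
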