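import Groth.Statements.S13841
import Groth.Agent.Lib.BrauerEquiv.Period

set_option autoImplicit false
universe u v
open scoped TensorProduct
open Brauer

namespace Groth.Agent.S13841

open GrothLib

/-- Let k be a field and A a finite-dimensional central simple k-algebra of period n. Then A has index n
if and only if there is a finite field extension k' of k of degree coprime to n such that the index
of the k'-algebra k' ⊗_k A divides n. (The published statement is for a class of period n in H²(X,
G_m) on a scheme X over k; this row is the case where X is the spectrum of k.) -/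
theorem result (k : Type u) [Field k] (A : Type v) [Ring A] [Algebra k A]
    [Algebra.IsCentral k A] [IsSimpleRing A] [FiniteDimensional k A] (n : ℕ) (hper : CSAGal.IsPeriod k A n) :
    CSAGal.IsIndex k A n ↔
      ∃ (k' : Type u) (_ : Field k') (_ : Algebra k k') (_ : FiniteDimensional k k'),
        Nat.Coprime n (Module.finrank k k') ∧ ∃ d' : ℕ, CSAGal.IsIndex k' (k' ⊗[k] A) d' ∧ d' ∣ n := by
  constructor
  · intro hn
    obtain ⟨_, _, _⟩ := CSAExtra.csa_baseChange k k A
    obtain ⟨d', hd'⟩ := BrauerEquiv.exists_isIndex (k := k) (k ⊗[k] A)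
    exact ⟨k, inferInstance, Algebra.id k, inferInstance, by rw [Module.finrank_self]; exact Nat.coprime_one_right n,
      d', hd', BrauerEquiv.index_baseChange_dvd k hn hd'⟩
  · rintro ⟨k', _, _, _, hcop, c', hc', hcn⟩
    obtain ⟨_, _, _⟩ := CSAExtra.csa_baseChange k k' A
    obtain ⟨d, hd⟩ := BrauerEquiv.exists_isIndex (k := k) A
    have hn := (BrauerEquiv.period_dvd_iff hper n).2 dvd_rfl
    have h1 : d ∣ n := by
      refine (Nat.Coprime.dvd_of_dvd_mul_left ?_ (BrauerEquiv.index_dvd_mul k' hd hc')).trans hcn
      refine Nat.coprime_of_dvd fun p hp hpd hpL => hp.ne_one ?_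
      exact Nat.eq_one_of_dvd_coprimes hcop
        (BrauerEquiv.prime_dvd_of_beq_tpow hd hn hp hpd) hpL
    have h2 : n ∣ d := (BrauerEquiv.period_dvd_iff hper d).1 (BrauerEquiv.beq_tpow_index hd)
    rwa [Nat.dvd_antisymm h2 h1]

end Groth.Agent.S13841
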