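import Groth.Statements.S13843
import Groth.Agent.Lib.EtTrace21.Field
import Mathlib.FieldTheory.IsSepClosed
import Mathlib.FieldTheory.Galois.Basic
import Mathlib.GroupTheory.Sylow

set_option backward.isDefEq.respectTransparency false

set_option autoImplicit false
universe u
open CategoryTheory CategoryTheory.Limits AlgebraicGeometry
open GalCoh

namespace Groth.Agent.S13843

section helpers

open AlgebraicGeometry CategoryTheory CategoryTheory.Limits

theorem exists_tower (K : Type u) [Field K] (L : Type u) [Field L] [Algebra K L] [FiniteDimensional K L]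
    [Algebra.IsSeparable K L] (p : ℕ) (hp : p.Prime) :
    ∃ (L' : Type u) (_ : Field L') (_ : Algebra K L') (_ : FiniteDimensional K L') (_ : Algebra.IsSeparable K L')
      (N : Type u) (_ : Field N) (_ : Algebra K N) (_ : Algebra L' N) (_ : IsScalarTower K L' N)
      (_ : FiniteDimensional L' N) (_ : Algebra.IsSeparable L' N) (_ : L →ₐ[K] N),
      ¬ p ∣ Module.finrank K L' ∧ ∃ k, Module.finrank L' N = p ^ k := by
  haveI : Fact p.Prime := ⟨hp⟩
  let Ω := SeparableClosure K
  let φ : L →ₐ[K] Ω := IsSepClosed.lift
  letI : Algebra L Ω := φ.toRingHom.toAlgebra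
  haveI : IsScalarTower K L Ω := IsScalarTower.of_algebraMap_eq fun r => (φ.commutes r).symm
  let N := IntermediateField.normalClosure K L Ω
  haveI : IsGalois K N := IsGalois.normalClosure K L Ω
  let ψ : L →ₐ[K] N := φ.codRestrict N.toSubalgebra fun x => φ.fieldRange_le_normalClosure ⟨x, rfl⟩
  obtain ⟨P⟩ : Nonempty (Sylow p (N ≃ₐ[K] N)) := inferInstance
  let L' := IntermediateField.fixedField (F := K) (E := N) (P : Subgroup (N ≃ₐ[K] N))
  have hN : Module.finrank L' N = Nat.card P := IntermediateField.finrank_fixedField_eq_card _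
  obtain ⟨k, hk⟩ := IsPGroup.iff_card.1 P.isPGroup'
  have hdeg : Module.finrank K L' = (P : Subgroup (N ≃ₐ[K] N)).index := by
    refine Nat.eq_of_mul_eq_mul_right (Nat.card_pos (α := P)) ?_
    rw [Subgroup.index_mul_card, IsGalois.card_aut_eq_finrank, ← hN, Module.finrank_mul_finrank K L' N]
  haveI : Algebra.IsSeparable L' N := Algebra.isSeparable_tower_top_of_isSeparable K L' N
  exact ⟨L', inferInstance, inferInstance, inferInstance, inferInstance, N, inferInstance, inferInstance,
    inferInstance, inferInstance, inferInstance, inferInstance, ψ, hdeg ▸ P.not_dvd_index, k, hN.trans hk⟩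

theorem pull_eq_zero (K L L' N : Type u) [Field K] [Field L] [Algebra K L] [Field L'] [Algebra K L']
    [Field N] [Algebra K N] [Algebra L' N] [IsScalarTower K L' N] [FiniteDimensional L' N]
    [Algebra.IsSeparable L' N] (ψ : L →ₐ[K] N) (p k : ℕ) (hp : p.Prime)
    (hk : Module.finrank L' N = p ^ k) (F : EtCoh.Ab (Spec (CommRingCat.of K))) (i : ℕ)
    (α : EtCoh.H (Spec (CommRingCat.of K)) F i)
    [PreservesFiniteLimits (EtCoh.pull (Spec.map (CommRingCat.ofHom (algebraMap K L))))]
    [PreservesFiniteLimits (EtCoh.pull (Spec.map (CommRingCat.ofHom (algebraMap K L'))))]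
    (hα : EtCore.Hpull (Spec.map (CommRingCat.ofHom (algebraMap K L))) F i α = 0)
    (hpα : ¬ p ∣ addOrderOf α) :
    EtCore.Hpull (Spec.map (CommRingCat.ofHom (algebraMap K L'))) F i α = 0 := by
  let fL := Spec.map (CommRingCat.ofHom (algebraMap K L))
  let fL' := Spec.map (CommRingCat.ofHom (algebraMap K L'))
  let fN := Spec.map (CommRingCat.ofHom (algebraMap K N))
  let g := Spec.map (CommRingCat.ofHom (algebraMap L' N))
  let e := Spec.map (CommRingCat.ofHom ψ.toRingHom)
  haveI := GrothLib.EtDer.pullFL fN
  haveI := GrothLib.EtDer.pullFL g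
  haveI := GrothLib.EtDer.pullFL e
  have he : e ≫ fL = fN := by
    rw [← Spec.map_comp, ← CommRingCat.ofHom_comp]
    congr 2
    exact ψ.comp_algebraMap
  have hg : g ≫ fL' = fN := by
    rw [← Spec.map_comp, ← CommRingCat.ofHom_comp, ← IsScalarTower.algebraMap_eq]
  have h1 : EtCore.Hpull fN F i α = 0 := by
    rw [← GrothLib.EtDer.HpullVia_Hpull e fL fN he F i α, hα, map_zero]
  have h2 : EtCore.Hpull g _ i (EtCore.Hpull fL' F i α) = 0 := by
    refine (GrothLib.EtDer.bijective_comp_mk₀ (((EtCore.pullComp g fL').symm ≪≫ EtCore.pullCongr hg).app F) i).1 ?_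
    refine Eq.trans ((GrothLib.EtDer.MV.HpullVia_apply g fL' fN hg F i _).symm.trans
      ((GrothLib.EtDer.HpullVia_Hpull g fL' fN hg F i α).trans h1)) ?_
    exact (CategoryTheory.Abelian.Ext.zero_comp _ _ _ _ _).symm
  have h3 := GrothLib.EtTrace21.finrank_nsmul_eq_zero L' N _ i _ h2
  rw [hk] at h3
  have h4 : addOrderOf α • EtCore.Hpull fL' F i α = 0 := by
    rw [← map_nsmul, addOrderOf_nsmul_eq_zero, map_zero]
  refine AddMonoid.addOrderOf_eq_one_iff.1 (Nat.dvd_one.1 ?_)
  have hcop : Nat.Coprime (p ^ k) (addOrderOf α) := (hp.coprime_iff_not_dvd.2 hpα).pow_left k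
  rw [← hcop.gcd_eq_one]
  exact Nat.dvd_gcd (addOrderOf_dvd_of_nsmul_eq_zero h3) (addOrderOf_dvd_of_nsmul_eq_zero h4)

end helpers

/-- Let K be a field, F an abelian sheaf on the small étale site of Spec K, i > 0 and α a class in
H^i(Spec K, F) which pulls back to zero over some finite separable field extension L of K. If p is a
prime not dividing the order of α, then there is a finite separable field extension L' of K whose
degree is not divisible by p and over which α pulls back to zero. Hence the period and the index of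
α have the same prime factors. (Exactness of pullback of abelian sheaves, which always holds, is
carried as an instance hypothesis, in the conclusion for every such instance.) -/
theorem result (K : Type u) [Field K] (F : EtCoh.Ab (Spec (CommRingCat.of K))) (i : ℕ)
    (hi : 0 < i) (α : EtCoh.H (Spec (CommRingCat.of K)) F i) (L : Type u) [Field L] [Algebra K L] [FiniteDimensional K L]
    [Algebra.IsSeparable K L] [PreservesFiniteLimits (EtCoh.pull (Spec.map (CommRingCat.ofHom (algebraMap K L))))]
    (hα : EtCore.Hpull (Spec.map (CommRingCat.ofHom (algebraMap K L))) F i α = 0) (p : ℕ) (hp : p.Prime) (hpα : ¬ p ∣ addOrderOf α) :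
    ∃ (L' : Type u) (_ : Field L') (_ : Algebra K L') (_ : FiniteDimensional K L') (_ : Algebra.IsSeparable K L'),
      ¬ p ∣ Module.finrank K L' ∧
        ∀ [PreservesFiniteLimits (EtCoh.pull (Spec.map (CommRingCat.ofHom (algebraMap K L'))))],
          EtCore.Hpull (Spec.map (CommRingCat.ofHom (algebraMap K L'))) F i α = 0 := by
  obtain ⟨L', _, _, _, _, N, _, _, _, _, _, _, ψ, hdeg, k, hk⟩ := exists_tower K L p hp
  refine ⟨L', inferInstance, inferInstance, inferInstance, inferInstance, hdeg, ?_⟩
  intro inst
  exact pull_eq_zero K L L' N ψ p k hp hk F i α hα hpα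

end Groth.Agent.S13843
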