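import Groth.Statements.S13844
import Groth.Agent.Lib.NodeEt.Geom
import Groth.Agent.Lib.AlgMisc.GeomRegAt
import Groth.Agent.Lib.AlgSp.FieldFibreDim


set_option autoImplicit false
set_option linter.all false
universe u
open CategoryTheory CategoryTheory.Limits AlgebraicGeometry
attribute [local instance] Curv2.resAlgebra
open Curves

namespace Groth.Agent.S13844

/-- Let K be a field and C a normal curve over K, namely an integral normal separated K-scheme of finite
type of dimension one, and let S be a set of closed points of C whose residue fields are separable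
over K. If the structure morphism of C is smooth at every point outside S, then it is smooth. (The
published statement takes S to be a closed subscheme finite étale over K, that is finitely many such
points; this row allows any set of closed points with separable residue fields.) -/
theorem result (K : Type u) [Field K] (C : Scheme.{u}) [C.Over (Spec (CommRingCat.of K))]
    [IsIntegral C] [IsSeparated (C ↘ (Spec (CommRingCat.of K)))] [LocallyOfFinitePresentation (C ↘ (Spec (CommRingCat.of K)))]
    [QuasiCompact (C ↘ (Spec (CommRingCat.of K)))] (hN : ∀ x : C, IsIntegrallyClosed (C.presheaf.stalk x))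
    (hdim : topologicalKrullDim C = 1) (S : Set C)
    (hS : ∀ x ∈ S, IsClosed ({x} : Set C) ∧ Algebra.IsSeparable K (C.residueField x))
    (hsm : ∀ x : C, x ∉ S → x ∈ (C ↘ (Spec (CommRingCat.of K))).smoothLocus) :
    AlgebraicGeometry.Smooth (C ↘ (Spec (CommRingCat.of K))) := by
  haveI : IsLocallyNoetherian C := LocallyOfFiniteType.isLocallyNoetherian (C ↘ Spec (CommRingCat.of K))
  refine Scheme.Hom.smoothLocus_eq_top_iff.1 (top_le_iff.1 fun x _ => ?_)
  by_cases hxS : x ∈ S
  swap
  · exact hsm x hxS
  obtain ⟨hx, hsep⟩ := hS x hxS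
  obtain ⟨c⟩ := GrothLib.NodeEt.exists_chart (C ↘ Spec (CommRingCat.of K)) x
  haveI := c.isMaximal hx
  haveI : Algebra.IsSeparable K (c.R ⧸ c.pt.asIdeal) := c.isSeparable_iff.2 hsep
  let O := C.presheaf.stalk x
  haveI : IsIntegrallyClosed O := hN x
  haveI : Ring.KrullDimLE 1 O := Ring.krullDimLE_iff.2 (by
    have := le_iSup (fun z => ringKrullDim (C.presheaf.stalk z)) x
    rw [← GrothLib.AlgSp.topologicalKrullDim_eq_iSup_stalk, hdim] at this
    exact_mod_cast this)
  haveI : Ring.DimensionLEOne O := ⟨fun {P} hP0 hP => by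
    rcases Ring.krullDimLE_one_iff.1 ‹_› P hP with h | h
    · rw [IsDomain.minimalPrimes_eq_singleton_bot] at h
      exact absurd h hP0
    · exact h⟩
  haveI : IsDedekindDomain O := {}
  haveI : IsPrincipalIdealRing O := IsPrincipalIdealRing.of_finite_primes (Set.Finite.subset
    (Set.toFinite {(⊥ : Ideal O), IsLocalRing.maximalIdeal O}) fun P (hP : P.IsPrime) => by
    by_cases h : P = ⊥
    · exact Or.inl h
    · exact Or.inr (IsLocalRing.eq_maximalIdeal (Ring.DimensionLEOne.maximalOfPrime h hP)))
  obtain ⟨e, -⟩ := c.exists_equiv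
  haveI : IsRegularLocalRing O := inferInstance
  haveI : IsRegularLocalRing (Localization.AtPrime c.pt.asIdeal) := IsRegularLocalRing.of_ringEquiv e.symm
  haveI : Algebra.IsSeparable K (IsLocalRing.ResidueField (Localization.AtPrime c.pt.asIdeal)) := by
    let φ : (c.R ⧸ c.pt.asIdeal) ≃+* IsLocalRing.ResidueField (Localization.AtPrime c.pt.asIdeal) :=
      IsLocalization.AtPrime.equivQuotMaximalIdeal c.pt.asIdeal (Localization.AtPrime c.pt.asIdeal)
    refine Algebra.IsSeparable.of_equiv_equiv (RingEquiv.refl K) φ (RingHom.ext fun r => ?_)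
    show _ = φ (Ideal.Quotient.mk _ (algebraMap K c.R r))
    rw [show φ (Ideal.Quotient.mk _ (algebraMap K c.R r)) = IsLocalRing.residue _ (algebraMap c.R
      (Localization.AtPrime c.pt.asIdeal) (algebraMap K c.R r)) from
      IsLocalization.AtPrime.equivQuotMaximalIdeal_apply_mk _ _ _]
    rw [← IsScalarTower.algebraMap_apply]
    rfl
  haveI : Algebra.FormallySmooth K (IsLocalRing.ResidueField (Localization.AtPrime c.pt.asIdeal)) :=
    haveI : Algebra.FormallyEtale K (IsLocalRing.ResidueField (Localization.AtPrime c.pt.asIdeal)) :=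
      Algebra.FormallyEtale.of_isSeparable K _
    inferInstance
  haveI : LocallyOfFinitePresentation (Spec.map (CommRingCat.ofHom (algebraMap K c.R))) := by
    rw [← c.hj]; infer_instance
  rw [← c.hpt]
  show c.pt ∈ c.j ⁻¹ᵁ (C ↘ Spec (CommRingCat.of K)).smoothLocus
  rw [Scheme.Hom.preimage_smoothLocus_eq]
  simp only [c.hj]
  exact (Groth.Agent.Lib.AlgMisc.GeomRegAt.mem_smoothLocus_spec_iff c.pt).2
    (GrothLib.LocProp.isSmoothAt_of_isRegularLocalRing c.pt.asIdeal)

end Groth.Agent.S13844
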