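import Groth.Statements.S13846
import Mathlib.LinearAlgebra.GeneralLinearGroup.AlgEquiv
import Mathlib.LinearAlgebra.Dual.Lemmas


set_option autoImplicit false
set_option backward.isDefEq.respectTransparency false
set_option backward.isDefEq.respectTransparency.types false
universe u v
open TwSh

namespace Groth.Agent.S13846

/-- Let k be a field and V, W finite-dimensional ℤ-graded k-vector spaces, V = ⊕ V_i with V ≠ 0 and W =
⊕ W_i. Let φ : End_k(V) ≃ End_k(W) be a k-algebra isomorphism which sends every endomorphism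
homogeneous of degree d (one mapping V_i into V_{i+d} for all i) to an endomorphism homogeneous of
degree d. Then there are an integer n and a k-linear isomorphism g : V ≅ W with g(V_i) = W_{i+n} for
every i such that φ(f) = g ∘ f ∘ g⁻¹ for all f; moreover n is unique and g is unique up to a nonzero
scalar: if g' : V ≅ W satisfies g'(V_i) = W_{i+n'} for all i and φ(f) = g' ∘ f ∘ g'⁻¹ for all f,
then n' = n and g' = c·g for some c ∈ kˣ. (The published statement is about non-zero perfect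
complexes over k: an isomorphism of their derived endomorphism algebras, as algebra objects of the
derived category, is induced by an isomorphism from the first complex to a shift of the second, for
a unique shift and up to a unit; this row is its form for finite-dimensional ℤ-graded vector spaces,
to which the bounded derived category of a field is equivalent by taking cohomology.) -/
theorem result (k : Type u) [Field k] (V W : Type v) [AddCommGroup V] [Module k V] [FiniteDimensional k V] [Nontrivial V] [AddCommGroup W] [Module k W] [FiniteDimensional k W] (𝒱 : ℤ → Submodule k V) (h𝒱 : DirectSum.IsInternal 𝒱) (𝒲 : ℤ → Submodule k W) (h𝒲 : DirectSum.IsInternal 𝒲) (φ : Module.End k V ≃ₐ[k] Module.End k W) (hφ : ∀ (d : ℤ) (f : Module.End k V), (∀ (i : ℤ) (x : V), x ∈ 𝒱 i → f x ∈ 𝒱 (i + d)) → ∀ (i : ℤ) (y : W), y ∈ 𝒲 i → φ f y ∈ 𝒲 (i + d)) : ∃ (n : ℤ) (g : V ≃ₗ[k] W), (∀ i : ℤ, Submodule.map (g : V →ₗ[k] W) (𝒱 i) = 𝒲 (i +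 n)) ∧ (∀ f : Module.End k V, φ f = (g : V →ₗ[k] W) ∘ₗ f ∘ₗ (g.symm : W →ₗ[k] V)) ∧ ∀ (n' : ℤ) (g' : V ≃ₗ[k] W), (∀ i : ℤ, Submodule.map (g' : V →ₗ[k] W) (𝒱 i) = 𝒲 (i + n')) → (∀ f : Module.End k V, φ f = (g' : V →ₗ[k] W) ∘ₗ f ∘ₗ (g'.symm : W →ₗ[k] V)) → n' = n ∧ ∃ c : kˣ, ∀ x : V, g' x = c • g x := by
  --- body
  obtain ⟨g, rfl⟩ := φ.eq_linearEquivConjAlgEquiv
  obtain ⟨i₀, hi₀⟩ : ∃ i, 𝒱 i ≠ ⊥ := by
    by_contra! hc
    exact top_ne_bot (h𝒱.submodule_iSup_eq_top.symm.trans (by simp [hc]))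
  obtain ⟨v, hv, hv0⟩ := Submodule.exists_mem_ne_zero_of_ne_bot hi₀
  have hvn : v ∉ ⨆ j ≠ i₀, 𝒱 j := fun hc => hv0 (Submodule.disjoint_def.mp (h𝒱.submodule_iSupIndep i₀) v hv hc)
  obtain ⟨l₀, hl0, hlp⟩ := Submodule.exists_dual_map_eq_bot_of_notMem hvn inferInstance
  let l : V →ₗ[k] k := (l₀ v)⁻¹ • l₀
  have hlv : l v = 1 := by simp [l, hl0]
  have hl : ∀ j, j ≠ i₀ → ∀ x ∈ 𝒱 j, l x = 0 := fun j hj x hx => by
    have : l₀ x ∈ (⨆ j ≠ i₀, 𝒱 j).map l₀ := Submodule.mem_map_of_mem (Submodule.mem_iSup_of_mem j (Submodule.mem_iSup_of_mem hj hx))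
    rw [hlp, Submodule.mem_bot] at this
    simp [l, this]
  have hom : ∀ i, ∀ w ∈ 𝒱 i, ∀ a, ∀ x ∈ 𝒱 a, l.smulRight w x ∈ 𝒱 (a + (i - i₀)) := fun i w hw a x hx => by
    by_cases ha : a = i₀
    · subst ha; rw [add_sub_cancel]; exact Submodule.smul_mem _ _ hw
    · simp [hl a ha x hx]
  have hφ' : ∀ i, ∀ w ∈ 𝒱 i, ∀ a, ∀ y ∈ 𝒲 a, l (g.symm y) • g w ∈ 𝒲 (a + (i - i₀)) := fun i w hw a y hy => by
    have h : g.conjAlgEquiv k (l.smulRight w) y ∈ 𝒲 (a + (i - i₀)) := hφ (i - i₀) _ (fun b x => hom i w hw b x) a y hy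
    simpa [LinearEquiv.conjAlgEquiv_apply] using h
  obtain ⟨j, y, hy, hly⟩ : ∃ j, ∃ y ∈ 𝒲 j, l (g.symm y) ≠ 0 := by
    by_contra! hc
    have : (⊤ : Submodule k W) ≤ LinearMap.ker (l ∘ₗ g.symm.toLinearMap) :=
      h𝒲.submodule_iSup_eq_top.symm.le.trans (iSup_le fun j y hy => hc j y hy)
    simpa [hlv] using this (Submodule.mem_top (x := g v))
  have hgw : ∀ i, ∀ w ∈ 𝒱 i, g w ∈ 𝒲 (i + (j - i₀)) := fun i w hw => by
    rw [show i + (j - i₀) = j + (i - i₀) by ring]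
    exact (Submodule.smul_mem_iff _ hly).mp (hφ' i w hw j y hy)
  have hmap : ∀ i : ℤ, Submodule.map (g : V →ₗ[k] W) (𝒱 i) = 𝒲 (i + (j - i₀)) := fun i => by
    refine le_antisymm (by rintro _ ⟨x, hx, rfl⟩; exact hgw i x hx) fun z hz => ?_
    have htop : g.symm z ∈ 𝒱 i ⊔ ⨆ b ≠ i, 𝒱 b := by
      rw [← iSup_split_single, h𝒱.submodule_iSup_eq_top]; exact Submodule.mem_top
    obtain ⟨x, hx, x', hx', hxx⟩ := Submodule.mem_sup.mp htop
    have h' : g x' ∈ ⨆ b ≠ i + (j - i₀), 𝒲 b := by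
      refine (iSup₂_le fun b hb => ?_ : (⨆ b ≠ i, 𝒱 b) ≤ (⨆ b ≠ i + (j - i₀), 𝒲 b).comap (g : V →ₗ[k] W)) hx'
      exact fun u hu => Submodule.mem_iSup_of_mem (b + (j - i₀)) (Submodule.mem_iSup_of_mem (fun e => hb (add_right_cancel e)) (hgw b u hu))
    have hz' : z = g x + g x' := by rw [← map_add, hxx, LinearEquiv.apply_symm_apply]
    have h0 : g x' = 0 := Submodule.disjoint_def.mp (h𝒲.submodule_iSupIndep (i + (j - i₀))) _
      (by rw [show g x' = z - g x by rw [hz', add_sub_cancel_left]]; exact sub_mem hz (hgw i x hx)) h'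
    exact ⟨x, hx, by simp [hz', h0]⟩
  refine ⟨j - i₀, g, hmap, fun f => rfl, fun n' g' hg' hc' => ?_⟩
  have hcomm : ∀ (f : Module.End k V) (x : V), g.symm (g' (f x)) = f (g.symm (g' x)) := fun f x => by
    simpa [LinearEquiv.conjAlgEquiv_apply] using (congrArg g.symm (DFunLike.congr_fun (hc' f) (g' x))).symm
  let c := l (g.symm (g' v))
  have hgc : ∀ x, g' x = c • g x := fun x => by
    rw [← map_smul]
    apply g.symm.injective
    rw [g.symm_apply_apply]
    simpa [hlv] using hcomm (l.smulRight x) v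
  have hc0 : c ≠ 0 := fun hc => hv0 (g'.injective (by rw [hgc, hc, zero_smul, map_zero]))
  refine ⟨?_, Units.mk0 c hc0, hgc⟩
  by_contra hne
  have h1 : g' v ∈ 𝒲 (i₀ + n') := hg' i₀ ▸ Submodule.mem_map_of_mem hv
  have h2 : g' v ∈ 𝒲 (i₀ + (j - i₀)) := hgc v ▸ Submodule.smul_mem _ c (hgw i₀ v hv)
  refine hv0 (g'.injective ?_)
  rw [map_zero]
  exact Submodule.disjoint_def.mp (h𝒲.submodule_iSupIndep.pairwiseDisjoint (show i₀ + n' ≠ i₀ + (j - i₀) from fun e => hne (add_left_cancel e))) _ h1 h2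

end Groth.Agent.S13846
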