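import Groth.Statements.S13848
import Groth.Agent.Lib.AzMod.StronglyLocal


set_option autoImplicit false
set_option backward.isDefEq.respectTransparency false
set_option backward.isDefEq.respectTransparency.types false
universe u v
open TwSh

namespace Groth.Agent.S13848

open GrothLib

/-- Let A be a ring with A/J a simple left-Artinian ring, J the Jacobson radical, and let P be a
non-zero finitely generated projective left A-module. An A-linear automorphism u of P which commutes
with every A-linear endomorphism of P (equivalently, induces the identity on End_A(P) by
conjugation) is scalar multiplication by a unique central element a of A: u(x) = a·x for all x ∈ P,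
and a is determined by u. (So the automorphisms of P acting trivially on End_A(P) are exactly the
central units of A acting by scalars; the published assertion does not exclude P = 0, where
uniqueness fails.) -/
theorem result (A : Type u) [Ring A] [IsSimpleRing (A ⧸ Ring.jacobson A)] [IsArtinianRing (A ⧸ Ring.jacobson A)] (P : Type v) [AddCommGroup P] [Module A P] [Module.Finite A P] [Module.Projective A P] [Nontrivial P] (u : P ≃ₗ[A] P) (hu : ∀ f : Module.End A P, (u : P →ₗ[A] P) ∘ₗ f = f ∘ₗ (u : P →ₗ[A] P)) : ∃! a : A, (∀ b : A, a * b = b * a) ∧ ∀ x : P, u x = a • x := by
  exact StronglyLocal.existsUnique_central P u.toLinearMap hu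

end Groth.Agent.S13848
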