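import Groth.Statements.S13858
import Groth.Agent.Lib.MulRestr29.Main

set_option autoImplicit false
open CategoryTheory CategoryTheory.Limits AlgebraicGeometry
open AdjLin

namespace Groth.Agent.S13858

/-- Let X be a regular projective variety over the complex numbers (an integral scheme, proper over ℂ,
with H^1(X, O_X) = 0), E a finite locally free O_X-module, I a quasi-coherent ideal of O_X with
closed subscheme D and O_D its structure sheaf viewed on X, and L an invertible module generated by
its global sections with L ⊗ I ≅ O_X (so that L = O_X(D)) and H^1(E ⊗ I) = 0 (that is, H^1(E ⊗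
L^{-1}) = 0). If the multiplication map H^0(E ⊗ O_D) ⊗ H^0(L ⊗ O_D) → H^0(E ⊗ O_D ⊗ L ⊗ O_D) on the
restrictions to D is surjective, then the multiplication map H^0(E) ⊗ H^0(L) → H^0(E ⊗ L) is
surjective (such a multiplication map is written as the map from the global sections of the
sectionwise tensor product presheaf to the global sections of its sheafification). -/
theorem result
    (X : Scheme.{0}) [X.Over (Spec (CommRingCat.of ℂ))] [IsIntegral X] [IsProper (X ↘ Spec (CommRingCat.of ℂ))]
    (hreg : Subsingleton (Coh.HH X (Coh.structureModule X) 1))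
    (E : X.Modules) (hE : FlatMod.IsFinLocFree E)
    (I : X.IdealSheafData) (L : X.Modules) (hLi : PicF.IsInvertible L) (hLg : Curv2.IsGloballyGenerated L)
    (hLI : ClSub.IsInverseOf L (ClSub.idealMod I))
    (h1 : Subsingleton (Coh.HH X (CohB1.tensorMod E (ClSub.idealMod I)) 1))
    (hD : Function.Surjective
      ((toSheafify (Opens.grothendieckTopology X) (CohB1.tensorPre (CohB1.tensorMod E (ClSub.quotMod I)) (CohB1.tensorMod L (ClSub.quotMod I))).presheaf).app (Opposite.op ⊤))) :
    Function.Surjective
      ((toSheafify (Opens.grothendieckTopology X) (CohB1.tensorPre E L).presheaf).app (Opposite.op ⊤)) := by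
  exact GrothLib.MulRestr29.mulMap_surjective ℂ hreg E (GrothLib.OX.flat_of_isFinLocFree hE) I L
    (GrothLib.OX.flat_of_isFinLocFree (GrothLib.Euler.isFinLocFree_of_isInvertible hLi)) hLI h1 hD

end Groth.Agent.S13858
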