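import Groth.Statements.S13860
import Mathlib.RepresentationTheory.Basic
import Mathlib.GroupTheory.Sylow

set_option autoImplicit false
universe u v w
open ModRep

namespace Groth.Agent.S13860

/-- For k a field of characteristic p > 0, G a finite group and P a Sylow p-subgroup of G, a short exact
sequence of k[G]-modules has a k[G]-linear splitting exactly when it has a k[P]-linear one. Stated
here for the surjection of the sequence: a G-equivariant k-linear map g : B → C between k-linear
representations of G admits a G-equivariant k-linear section if and only if it admits a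
P-equivariant k-linear section. -/
theorem result {k : Type u} [Field k] (p : ℕ) [Fact p.Prime]
    [CharP k p] {G : Type v} [Group G] [Finite G] (P : Sylow p G)
    {B C : Type w} [AddCommGroup B] [Module k B] [AddCommGroup C] [Module k C]
    (ρB : Representation k G B) (ρC : Representation k G C)
    (g : B →ₗ[k] C) (hg : ∀ x : G, g ∘ₗ ρB x = ρC x ∘ₗ g) :
    (∃ s : C →ₗ[k] B, g ∘ₗ s = LinearMap.id ∧ ∀ x : G, s ∘ₗ ρC x = ρB x ∘ₗ s) ↔
      (∃ s : C →ₗ[k] B, g ∘ₗ s = LinearMap.id ∧ ∀ x : G, x ∈ P → s ∘ₗ ρC x = ρB x ∘ₗ s) := by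
  classical
  refine ⟨fun ⟨s, hs, h⟩ => ⟨s, hs, fun x _ => h x⟩, fun ⟨s, hs, h⟩ => ?_⟩
  have hidx : ((P : Subgroup G).index : k) ≠ 0 := by
    rw [ne_eq, CharP.cast_eq_zero_iff k p]
    exact P.not_dvd_index
  let f : G → (C →ₗ[k] B) := fun x => ρB x ∘ₗ s ∘ₗ ρC x⁻¹
  have hf : ∀ x : G, ∀ y ∈ (P : Subgroup G), f (x * y) = f x := by
    intro x y hy
    refine LinearMap.ext fun c => ?_
    simp only [f, LinearMap.comp_apply, map_mul, Module.End.mul_apply, mul_inv_rev]
    rw [← LinearMap.comp_apply (ρB y) s, ← h y hy, LinearMap.comp_apply]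
    congr 2
    rw [← Module.End.mul_apply, ← map_mul, mul_inv_cancel, map_one, Module.End.one_apply]
  haveI : Fintype (G ⧸ (P : Subgroup G)) := Fintype.ofFinite _
  let T : C →ₗ[k] B := ∑ q : G ⧸ (P : Subgroup G), f q.out
  refine ⟨((P : Subgroup G).index : k)⁻¹ • T, ?_, fun x => ?_⟩
  · refine LinearMap.ext fun c => ?_
    have : ∀ y : G, g (f y c) = c := fun y => by
      simp only [f, LinearMap.comp_apply]
      rw [← LinearMap.comp_apply g (ρB y), hg y, LinearMap.comp_apply, ← LinearMap.comp_apply g s, hs,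
        LinearMap.id_apply, ← Module.End.mul_apply, ← map_mul, mul_inv_cancel, map_one, Module.End.one_apply]
    simp only [T, LinearMap.comp_apply, LinearMap.smul_apply, LinearMap.sum_apply, map_smul, map_sum, this,
      Finset.sum_const, Finset.card_univ, LinearMap.id_apply]
    rw [← Nat.card_eq_fintype_card, ← Subgroup.index_eq_card, ← Nat.cast_smul_eq_nsmul k, smul_smul, inv_mul_cancel₀ hidx, one_smul]
  · rw [LinearMap.smul_comp, LinearMap.comp_smul]
    congr 1
    refine LinearMap.ext fun c => ?_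
    simp only [T, LinearMap.comp_apply, LinearMap.sum_apply, map_sum]
    refine Fintype.sum_equiv (MulAction.toPerm x⁻¹) _ _ fun q => ?_
    have hq : (x⁻¹ • q).out = x⁻¹ * q.out * ((x⁻¹ * q.out)⁻¹ * (x⁻¹ • q).out) := by
      rw [mul_inv_cancel_left]
    have hmem : (x⁻¹ * q.out)⁻¹ * (x⁻¹ • q).out ∈ (P : Subgroup G) := by
      rw [← QuotientGroup.eq, QuotientGroup.out_eq']
      exact MulAction.Quotient.coe_smul_out (H := (P : Subgroup G)) x⁻¹ q
    show f q.out (ρC x c) = ρB x (f (x⁻¹ • q).out c)
    rw [hq, hf _ _ hmem]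
    simp only [f, LinearMap.comp_apply, map_mul, Module.End.mul_apply, mul_inv_rev, inv_inv]
    rw [← Module.End.mul_apply (ρB x) (ρB x⁻¹), ← map_mul, mul_inv_cancel, map_one, Module.End.one_apply]

end Groth.Agent.S13860
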