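import Groth.Statements.S13863
import Groth.Agent.Lib.ASCover.Twist

set_option autoImplicit false
universe u
open ASCover

namespace Groth.Agent.S13863

/-- For k an algebraically closed field of characteristic p > 0, n ≥ 1 an integer prime to p, and u ∈
k[[t]] the power series with constant term 1 and u^n · (1 + t^n) = 1, the substitution σ(t) = t·u is
a k-automorphism of k((t)) of order p and, for an integer a, σ acts on the fractional ideal I =
t^a·k[[t]]; transported to B = k[[t]] along h ↦ t^a·h this action is h ↦ u^a · h(t·u). For an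
integer i with a − n ≤ i ≤ a − 1 the element σ(t^i) − t^i lies in I, so t^i defines a class in
H^1(⟨σ⟩, I); the classes with p ∤ i form a basis of this H^1, and when p divides i the class
vanishes, i.e. σ(t^i) − t^i = σ(w) − w for some w ∈ I. (The published statement of this vanishing is
printed with the condition p ∤ i, which contradicts the basis assertion of the same lemma; its proof
treats p | i, and this row states that case.) In transported form, with m = a − i ∈ [1, n] and c ∈
k[[t]] defined by t^m · c = u^i − 1: there is h ∈ k[[t]] with u^a · h(t·u) − h = c. -/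
theorem result {k : Type u} [Field k] [IsAlgClosed k] (p : ℕ)
    [Fact p.Prime] [CharP k p] (n : ℕ) (hn : 0 < n) (hpn : ¬ p ∣ n)
    (u : PowerSeries k) (hu1 : PowerSeries.constantCoeff u = 1)
    (hun : u ^ n * (1 + PowerSeries.X ^ n) = 1) (hu : IsUnit u) (a : ℤ) (m : ℕ)
    (hm1 : 1 ≤ m) (hmn : m ≤ n) (hdvd : (p : ℤ) ∣ a - m) (c : PowerSeries k)
    (hc : PowerSeries.X ^ m * c = ((hu.unit ^ (a - m) : (PowerSeries k)ˣ) : PowerSeries k) - 1) :
    ∃ h : PowerSeries k,
      ((hu.unit ^ a : (PowerSeries k)ˣ) : PowerSeries k) * PowerSeries.subst (PowerSeries.X * u) h - h = c := by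
  have hn' : (n : k) ≠ 0 := fun h => hpn ((CharP.cast_eq_zero_iff k p n).1 h)
  have hp := (Fact.out : p.Prime).two_le
  obtain ⟨r, hr⟩ := IsAlgClosed.exists_pow_nat_eq (-1 : k) hn
  set N := (p - 1) * n with hN
  have hp1 : p - 1 ≠ 0 := by omega
  let w : PowerSeries k := PowerSeries.C r * PowerSeries.X ^ (p - 1)
  have hw0 : PowerSeries.constantCoeff w = 0 := by simp [w, hp1]
  have hw : PowerSeries.HasSubst w := PowerSeries.HasSubst.of_constantCoeff_zero' hw0
  have hwn : w ^ n = -(PowerSeries.X : PowerSeries k) ^ N := by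
    simp only [w, mul_pow, ← pow_mul, ← map_pow, hr, map_neg, map_one, hN]
    ring
  let v : PowerSeries k := PowerSeries.substAlgHom hw u
  have hv : v ^ n * (1 - PowerSeries.X ^ N) = 1 := by
    have := congrArg (PowerSeries.substAlgHom hw) hun
    simp only [map_mul, map_pow, map_add, map_one, PowerSeries.substAlgHom_X] at this
    rwa [hwn, ← sub_eq_add_neg] at this
  have hv1 : PowerSeries.constantCoeff v = 1 := by
    have h1 : PowerSeries.constantCoeff u = 1 := hu1
    obtain ⟨g, hg⟩ : PowerSeries.X ∣ u - 1 := PowerSeries.X_dvd_iff.2 (by simp [h1])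
    have : v = 1 + w * PowerSeries.substAlgHom hw g := by
      show PowerSeries.substAlgHom hw u = _
      rw [eq_add_of_sub_eq hg, map_add, map_mul, PowerSeries.substAlgHom_X, map_one, add_comm]
    simp [this, hw0]
  let σ := GrothLib.ASTwist.S u
  have hσX : ∀ j : ℕ, σ (PowerSeries.X ^ j) = PowerSeries.X ^ j * u ^ j := fun j => by
    rw [map_pow, GrothLib.ASTwist.S_X, mul_pow]
  have hσ1 : ∀ f, PowerSeries.constantCoeff f = 1 → PowerSeries.constantCoeff (σ f) = 1 := fun f hf => by
    obtain ⟨g, hg⟩ : PowerSeries.X ∣ f - 1 := PowerSeries.X_dvd_iff.2 (by simp [hf])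
    rw [eq_add_of_sub_eq hg, map_add, map_mul, map_one]
    simp [σ, GrothLib.ASTwist.S_X]
  have hchar : CharP (PowerSeries k) p :=
    charP_of_injective_ringHom (PowerSeries.C_injective) p
  have hσv : σ v * u ^ p = v := by
    refine GrothLib.ASTwist.eq_of_pow_eq hn' (by simp [hσ1 v hv1, hu1]) hv1 ?_
    have h1 : (σ v) ^ n * (1 - PowerSeries.X ^ N * u ^ N) = 1 := by
      have := congrArg σ hv
      simpa only [map_mul, map_pow, map_sub, map_one, hσX] using this
    have hfr : (1 + (PowerSeries.X : PowerSeries k) ^ n) ^ p = 1 + PowerSeries.X ^ (n * p) := by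
      rw [add_pow_char, one_pow, ← pow_mul]
    have huN : u ^ N * (1 + PowerSeries.X ^ n) ^ (p - 1) = 1 := by
      rw [hN, mul_comm (p - 1) n, pow_mul, ← mul_pow, hun, one_pow]
    have hup : (u ^ p) ^ n * (1 + PowerSeries.X ^ n) ^ p = 1 := by
      rw [← pow_mul, mul_comm p n, pow_mul, ← mul_pow, hun, one_pow]
    have hsplit : (1 + (PowerSeries.X : PowerSeries k) ^ n) ^ p =
        (1 + PowerSeries.X ^ n) ^ (p - 1) * (1 + PowerSeries.X ^ n) := by
      rw [← pow_succ, Nat.sub_add_cancel (by omega : 1 ≤ p)]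
    have hXN : (PowerSeries.X : PowerSeries k) ^ (n * p) = PowerSeries.X ^ N * PowerSeries.X ^ n := by
      rw [hN, ← pow_add]
      congr 1
      calc n * p = n * ((p - 1) + 1) := by rw [Nat.sub_add_cancel (by omega : 1 ≤ p)]
        _ = (p - 1) * n + n := by ring
    have key : (σ v * u ^ p) ^ n * (1 - PowerSeries.X ^ N) = 1 := by
      have h2 : (1 - PowerSeries.X ^ N * u ^ N) * (1 + PowerSeries.X ^ n) ^ p =
          1 - PowerSeries.X ^ N := by
        linear_combination hfr + hXN - PowerSeries.X ^ N * u ^ N * hsplit -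
          PowerSeries.X ^ N * (1 + PowerSeries.X ^ n) * huN
      rw [← h2]
      linear_combination (u ^ p) ^ n * (1 + PowerSeries.X ^ n) ^ p * h1 + hup
    calc (σ v * u ^ p) ^ n = (σ v * u ^ p) ^ n * (v ^ n * (1 - PowerSeries.X ^ N)) := by
          rw [hv, mul_one]
      _ = v ^ n := by linear_combination v ^ n * key
  have hvU : IsUnit v := PowerSeries.isUnit_iff_constantCoeff.2 (by simp [hv1])
  set V := hvU.unit
  set U := hu.unit
  have hσV : Units.map σ.toRingHom.toMonoidHom V * U ^ p = V := Units.ext (by simpa [V, U] using hσv)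
  obtain ⟨q, hq⟩ := hdvd
  have hσVq : U ^ (a - m) * Units.map σ.toRingHom.toMonoidHom (V ^ q) = V ^ q := by
    conv_rhs => rw [← hσV]
    rw [map_zpow, mul_zpow, hq, zpow_mul, zpow_natCast, mul_comm]
  have hdv : (PowerSeries.X : PowerSeries k) ^ m ∣ v - 1 := by
    have hmN : m ≤ N := calc m ≤ n := hmn
        _ = 1 * n := (one_mul n).symm
        _ ≤ N := Nat.mul_le_mul_right n (by omega)
    have h2 : (PowerSeries.X : PowerSeries k) ^ N ∣ v ^ n - 1 := ⟨v ^ n, by linear_combination hv⟩
    exact GrothLib.ASTwist.dvd_sub_one_of_pow hn' hv1 ((pow_dvd_pow _ hmN).trans h2)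
  have hde : (PowerSeries.X : PowerSeries k) ^ m ∣ ((V ^ q : (PowerSeries k)ˣ) : PowerSeries k) - 1 := by
    let π := Ideal.Quotient.mk (Ideal.span {(PowerSeries.X : PowerSeries k) ^ m})
    have h1 : Units.map π.toMonoidHom V = 1 := Units.ext (by
      show π v = 1
      rw [← map_one π, Ideal.Quotient.eq, Ideal.mem_span_singleton]
      exact hdv)
    rw [← Ideal.mem_span_singleton, ← Ideal.Quotient.eq, map_one]
    show (Units.map π.toMonoidHom (V ^ q)).val = 1
    rw [map_zpow, h1, one_zpow, Units.val_one]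
  obtain ⟨g, hg⟩ := hde
  refine ⟨-g, mul_left_cancel₀ (pow_ne_zero m PowerSeries.X_ne_zero) ?_⟩
  rw [← GrothLib.ASTwist.S_apply, map_neg, hc]
  have hE : ((U ^ (a - m) : (PowerSeries k)ˣ) : PowerSeries k) *
      σ ((V ^ q : (PowerSeries k)ˣ) : PowerSeries k) = ((V ^ q : (PowerSeries k)ˣ) : PowerSeries k) :=
    congrArg Units.val hσVq
  have hUa : ((U ^ a : (PowerSeries k)ˣ) : PowerSeries k) =
      ((U ^ (a - m) : (PowerSeries k)ˣ) : PowerSeries k) * u ^ m := by
    rw [show u ^ m = ((U ^ (m : ℤ) : (PowerSeries k)ˣ) : PowerSeries k) by simp [U],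
      ← Units.val_mul, ← zpow_add, sub_add_cancel]
  rw [eq_add_of_sub_eq hg, map_add, map_mul, hσX, map_one] at hE
  rw [hUa]
  linear_combination -hE

end Groth.Agent.S13863
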