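import Groth.Statements.S13864
import Groth.Agent.Lib.ASCover.Twist

set_option autoImplicit false
universe u
open ASCover

namespace Groth.Agent.S13864

/-- Let k be an algebraically closed field of characteristic p > 0, n ≥ 1 an integer prime to p, u ∈
k[[t]] the power series with constant term 1 and u^n · (1 + t^n) = 1 (so σ(t) = t·u is a
k-automorphism of k((t)) of order p), and a an integer; σ acts on I = t^a·k[[t]], and transported to
B = k[[t]] along h ↦ t^a·h the action is h ↦ u^a · h(t·u). For 1 ≤ m ≤ n let c_m ∈ B be determined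
by t^m · c_m = u^(a−m) − 1; this is the cocycle value σ(t^i) − t^i ∈ I of the element t^i, i = a −
m, divided by t^a. The published lemma says that the classes of the t^i with a − n ≤ i ≤ a − 1 and p
∤ i form a basis of H^1(⟨σ⟩, I); this row states their linear independence: if Σ λ_m c_m, summed
over 1 ≤ m ≤ n with p ∤ a − m, equals u^a · h(t·u) − h for some h ∈ B, then every such λ_m is 0.
(Together with the dimension of this H^1, namely n − ⌊(a−1)/p⌋ + ⌊(a−1−n)/p⌋, this gives the basis
statement.) -/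
theorem result {k : Type u} [Field k] [IsAlgClosed k] (p : ℕ)
    [Fact p.Prime] [CharP k p] (n : ℕ) (hn : 0 < n) (hpn : ¬ p ∣ n)
    (u : PowerSeries k) (hu1 : PowerSeries.constantCoeff u = 1)
    (hun : u ^ n * (1 + PowerSeries.X ^ n) = 1) (hu : IsUnit u) (a : ℤ)
    (c : ℕ → PowerSeries k)
    (hc : ∀ m : ℕ, 1 ≤ m → m ≤ n →
      PowerSeries.X ^ m * c m = ((hu.unit ^ (a - m) : (PowerSeries k)ˣ) : PowerSeries k) - 1)
    (coef : ℕ → k) (h : PowerSeries k)
    (hh : ((hu.unit ^ a : (PowerSeries k)ˣ) : PowerSeries k) * PowerSeries.subst (PowerSeries.X * u) h - h =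
      ∑ m ∈ (Finset.Icc 1 n).filter (fun m : ℕ => ¬ (p : ℤ) ∣ a - (m : ℤ)), coef m • c m) :
    ∀ m ∈ (Finset.Icc 1 n).filter (fun m : ℕ => ¬ (p : ℤ) ∣ a - (m : ℤ)), coef m = 0 := by
  have hn' : (n : k) ≠ 0 := fun h => hpn ((CharP.cast_eq_zero_iff k p n).1 h)
  set U := hu.unit
  have hu' : (U : PowerSeries k) = u := hu.unit_spec
  have hdu : (PowerSeries.X : PowerSeries k) ^ n ∣ u - 1 :=
    GrothLib.ASTwist.dvd_sub_one_of_pow hn' hu1 ⟨-u ^ n, by linear_combination hun⟩
  let π := Ideal.Quotient.mk (Ideal.span {(PowerSeries.X : PowerSeries k) ^ (n + n)})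
  set η := π (PowerSeries.X ^ n) with hη
  have hηη : η * η = 0 := by
    rw [hη, ← map_mul, ← pow_add]
    exact Ideal.Quotient.eq_zero_iff_mem.2 (Ideal.mem_span_singleton_self _)
  let g₀ : k := -(n : k)⁻¹
  let ε := π (PowerSeries.C g₀) * η
  have hεε : ε * ε = 0 := by
    show π (PowerSeries.C g₀) * η * (π (PowerSeries.C g₀) * η) = 0
    linear_combination π (PowerSeries.C g₀) ^ 2 * hηη
  have hπu : π u = 1 + ε := by
    obtain ⟨g, hg⟩ := hdu
    have e1 : π u = 1 + π g * η := by
      rw [eq_add_of_sub_eq hg, map_add, map_one, map_mul, ← hη]; ring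
    have hg2 : (π g * η) * (π g * η) = 0 := by linear_combination π g ^ 2 * hηη
    have e2 : π u ^ n = 1 + (n : _) * (π g * η) := by
      have := GrothLib.ASTwist.zpow_eq_one_add (Units.map π.toMonoidHom U) (π g * η)
        (by show π (U : PowerSeries k) = _; rw [hu', e1]) hg2 n
      rw [zpow_natCast, Units.val_pow_eq_pow_val] at this
      simpa [hu'] using this
    have e3 : π u ^ n * (1 + η) = 1 := by rw [hη, ← map_pow, ← map_one π, ← map_add, ← map_mul, hun]
    rw [e2] at e3
    have e4 : π (PowerSeries.C (n : k)) * (π g * η) + η = 0 := by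
      rw [show (PowerSeries.C (n : k)) = (n : PowerSeries k) from map_natCast _ n, map_natCast]
      linear_combination e3 - (n : _) * π g * hηη
    have e5 : π (PowerSeries.C g₀) * π (PowerSeries.C (n : k)) = -1 := by
      rw [← map_mul, ← map_mul, show g₀ * (n : k) = -1 by simp [g₀, hn'], map_neg, map_neg, map_one,
        map_one]
    rw [e1]
    show 1 + π g * η = 1 + π (PowerSeries.C g₀) * η
    linear_combination -(π (PowerSeries.C g₀)) * e4 + π g * η * e5
  have key : ∀ i : ℤ, PowerSeries.X ^ (n + n) ∣ ((U ^ i : (PowerSeries k)ˣ) : PowerSeries k) -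
      (1 + PowerSeries.C ((i : k) * g₀) * PowerSeries.X ^ n) := by
    intro i
    rw [← Ideal.mem_span_singleton, ← Ideal.Quotient.eq]
    show ((Units.map π.toMonoidHom (U ^ i) : _ˣ) : _ ⧸ _) = π _
    rw [map_zpow, GrothLib.ASTwist.zpow_eq_one_add _ ε (by show π (U : PowerSeries k) = _; rw [hu', hπu]) hεε,
      map_add, map_one, map_mul, map_mul, map_mul, map_intCast, map_intCast, ← hη]
    show 1 + _ * (π (PowerSeries.C g₀) * η) = _
    ring
  intro m hm
  have hm' : (1 ≤ m ∧ m ≤ n) ∧ ¬ (p : ℤ) ∣ a - m := by simpa using hm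
  have hco : ∀ j, 1 ≤ j → j ≤ n → PowerSeries.coeff (n - m) (c j) =
      if j = m then (((a - j : ℤ) : k) * g₀) else 0 := by
    intro j hj1 hjn
    obtain ⟨t, ht⟩ := key (a - j)
    have : c j = PowerSeries.C (((a - j : ℤ) : k) * g₀) * PowerSeries.X ^ (n - j) +
        PowerSeries.X ^ (n + n - j) * t := by
      refine mul_left_cancel₀ (pow_ne_zero j PowerSeries.X_ne_zero) ?_
      rw [hc j hj1 hjn, mul_add, ← mul_assoc (PowerSeries.X ^ j) (PowerSeries.X ^ (n + n - j)),
        ← pow_add, Nat.add_sub_cancel' (by omega : j ≤ n + n),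
        mul_left_comm, ← pow_add, Nat.add_sub_cancel' hjn]
      linear_combination ht
    rw [this, map_add, PowerSeries.coeff_C_mul_X_pow, PowerSeries.coeff_X_pow_mul',
      if_neg (by omega : ¬ n + n - j ≤ n - m), add_zero]
    exact if_congr (by omega) rfl rfl
  have hL : PowerSeries.X ^ n ∣
      ((U ^ a : (PowerSeries k)ˣ) : PowerSeries k) * PowerSeries.subst (PowerSeries.X * u) h - h := by
    rw [← GrothLib.ASTwist.S_apply]
    obtain ⟨t, ht⟩ := key a
    obtain ⟨s, hs⟩ := GrothLib.ASTwist.dvd_S_sub hdu h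
    refine ⟨(PowerSeries.X ^ n * t + PowerSeries.C ((a : k) * g₀)) * GrothLib.ASTwist.S u h + s, ?_⟩
    rw [pow_add] at ht
    linear_combination GrothLib.ASTwist.S u h * ht + hs
  have h0 := PowerSeries.X_pow_dvd_iff.1 hL (n - m) (by omega)
  rw [hh, map_sum, Finset.sum_eq_single_of_mem m hm] at h0
  · rw [PowerSeries.coeff_smul, hco m hm'.1.1 hm'.1.2, if_pos rfl] at h0
    have ha : ((a - m : ℤ) : k) ≠ 0 := fun h => hm'.2 ((CharP.intCast_eq_zero_iff k p _).1 h)
    have hg₀ : g₀ ≠ 0 := by simp [g₀, hn']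
    simp only [smul_eq_mul] at h0
    exact (mul_eq_zero.1 h0).resolve_right (mul_ne_zero ha hg₀)
  · intro j hj hjm
    have hj' : (1 ≤ j ∧ j ≤ n) ∧ ¬ (p : ℤ) ∣ a - j := by simpa using hj
    rw [PowerSeries.coeff_smul, hco j hj'.1.1 hj'.1.2, if_neg hjm, smul_zero]

end Groth.Agent.S13864
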