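import Groth.Statements.S13867
import Groth.Agent.Lib.FppfQuot.Stages
import Groth.Agent.Lib.AlgSp.FppfDescent
import Groth.Agent.Lib.ProperDesc13.Const
import Groth.Agent.Lib.GrpSchField.HomFlat
import Mathlib.RingTheory.RingHom.FaithfullyFlat
-- import your own Groth.Agent.* helpers here

set_option autoImplicit false
set_option linter.style.haveILetI false
set_option backward.isDefEq.respectTransparency false
universe u
open CategoryTheory MonoidalCategory CartesianMonoidalCategory MonObj GrpObj AlgebraicGeometry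
open ParSch

namespace Groth.Agent.S13867

attribute [local instance 10000] CategoryTheory.CategoryStruct.toQuiver

open CategoryTheory.Limits
open scoped TensorProduct

theorem bijective_of_isPushout_faithfullyFlat {A R B P : CommRingCat.{u}} {a : A ⟶ R} {b : A ⟶ B} {c : R ⟶ P}
    {d : B ⟶ P} (h : IsPushout a b c d) (hb : b.hom.FaithfullyFlat) [IsIso d] :
    Function.Bijective a.hom := by
  algebraize [a.hom, b.hom, c.hom, d.hom, c.hom.comp a.hom]
  haveI : IsScalarTower A B P := .of_algebraMap_eq' (congrArg CommRingCat.Hom.hom h.w)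
  haveI : IsScalarTower A R P := .of_algebraMap_eq' rfl
  haveI hp : Algebra.IsPushout A B R P := CommRingCat.isPushout_iff_isPushout.1 h.flip
  haveI : Module.FaithfullyFlat A B := hb
  show Function.Bijective (Algebra.linearMap A R)
  rw [← Module.FaithfullyFlat.lTensor_bijective_iff_bijective A B (f := Algebra.linearMap A R)]
  let e := Algebra.IsPushout.equiv A B R P
  have he : (fun z => e ((Algebra.linearMap A R).lTensor B z)) = fun z => d.hom (TensorProduct.rid A B z) := by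
    funext z
    induction z using TensorProduct.induction_on with
    | zero => simp
    | add x y hx hy => simp only [map_add, hx, hy]
    | tmul x y =>
      simp only [LinearMap.lTensor_tmul, Algebra.linearMap_apply, e, Algebra.IsPushout.equiv_tmul,
        TensorProduct.rid_tmul, Algebra.smul_def, map_mul]
      rw [← IsScalarTower.algebraMap_apply A R P, IsScalarTower.algebraMap_apply A B P, _root_.mul_comm]
      rfl
  have h1 : Function.Bijective fun z => d.hom (TensorProduct.rid A B z) :=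
    (ConcreteCategory.bijective_of_isIso d).comp (TensorProduct.rid A B).bijective
  rw [← he] at h1
  exact (Function.Bijective.of_comp_iff' e.bijective _).1 h1

open GrothLib.ProperDesc13 in
/-- `g_* O = O` descends along flat surjective quasi-compact morphisms. -/
theorem app_isIso_of_baseChange {X Y X' Y' : Scheme.{u}} {g : X ⟶ Y} {g' : X' ⟶ Y'} {q' : X' ⟶ X} {q : Y' ⟶ Y}
    (H : IsPullback q' g' g q) [Flat q] [Surjective q] [QuasiCompact q] [QuasiCompact g] [QuasiSeparated g]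
    (hg' : ∀ U, IsIso (g'.app U)) (U : Y.Opens) : IsIso (g.app U) := by
  classical
  haveI : QuasiCompact g' := MorphismProperty.of_isPullback H ‹QuasiCompact g›
  haveI : QuasiSeparated g' := MorphismProperty.of_isPullback H ‹QuasiSeparated g›
  refine OConn.isIso_app (fun W y hy => ?_) U
  obtain ⟨V, hV, hyV, hVW⟩ := exists_isAffineOpen_mem_and_subset hy
  refine ⟨V, hV, hyV, hVW, ?_⟩
  obtain ⟨t, ht⟩ : ∃ t : Finset Y'.affineOpens, q ⁻¹' (V : Set Y) = ⋃ O ∈ t, (O.1 : Set Y') := by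
    have hc : IsCompact (q ⁻¹' (V : Set Y)) := QuasiCompact.isCompact_preimage _ V.2 hV.isCompact
    have hO : ∀ z : q ⁻¹' (V : Set Y), ∃ O : Y'.affineOpens, z.1 ∈ O.1 ∧ (O.1 : Set Y') ⊆ q ⁻¹' V := fun z => by
      obtain ⟨O, hO, hz, hle⟩ := exists_isAffineOpen_mem_and_subset (show z.1 ∈ q ⁻¹ᵁ V from z.2)
      exact ⟨⟨O, hO⟩, hz, hle⟩
    choose O hzO hOV using hO
    obtain ⟨t, ht⟩ := hc.elim_finite_subcover (fun z => ((O z).1 : Set Y')) (fun z => (O z).1.2)
      fun z hz => Set.mem_iUnion.2 ⟨⟨z, hz⟩, hzO ⟨z, hz⟩⟩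
    refine ⟨t.image O, subset_antisymm (fun z hz => ?_) (fun z hz => ?_)⟩
    · obtain ⟨z', hz', hzz⟩ := Set.mem_iUnion₂.1 (ht hz)
      exact Set.mem_iUnion₂.2 ⟨O z', Finset.mem_image_of_mem _ hz', hzz⟩
    · obtain ⟨P, hP, hzP⟩ := Set.mem_iUnion₂.1 hz
      obtain ⟨z', -, rfl⟩ := Finset.mem_image.1 hP
      exact hOV z' hzP
  let ιc : (∐ fun O : t => (O.1.1 : Scheme.{u})) ⟶ Y' := Sigma.desc fun O : t => O.1.1.ι
  haveI : ∀ O : t, IsAffine (O.1.1 : Scheme.{u}) := fun O => O.1.2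
  haveI : Flat ιc := IsZariskiLocalAtSource.sigmaDesc fun O => inferInstance
  have hr : ∀ w, (ιc ≫ q) w ∈ V := fun w => by
    obtain ⟨⟨O, z⟩, rfl⟩ := (sigmaMk (fun O : t => (O.1.1 : Scheme.{u}))).surjective w
    rw [sigmaMk_mk, Scheme.Hom.comp_apply, ← Scheme.Hom.comp_apply _ ιc, Sigma.ι_desc]
    show O.1.1.ι z ∈ q ⁻¹' (V : Set Y)
    rw [ht]
    exact Set.mem_biUnion O.2 z.2
  let g'' := pullback.snd g' ιc
  have H2 : IsPullback (pullback.fst g' ιc ≫ q') g'' g (ιc ≫ q) :=
    (IsPullback.of_hasPullback g' ιc).paste_horiz H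
  haveI : QuasiCompact g'' := inferInstanceAs (QuasiCompact (pullback.snd g' ιc))
  have hg'' : IsIso (g''.app ⊤) := (OConn.baseChange (IsPullback.of_hasPullback g' ιc) hg').isIso_app ⊤
  have e2 : (⊤ : (∐ fun O : t => (O.1.1 : Scheme.{u})).Opens) ≤ (ιc ≫ q) ⁻¹ᵁ V := fun w _ => hr w
  have hUY : g'' ⁻¹ᵁ ⊤ = (pullback.fst g' ιc ≫ q') ⁻¹ᵁ (g ⁻¹ᵁ V) ⊓ g'' ⁻¹ᵁ ⊤ := by
    rw [eq_comm, inf_eq_right, ← Scheme.Hom.comp_preimage, H2.w, Scheme.Hom.comp_preimage]
    exact fun x hx => e2 hx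
  haveI := isIso_pushoutSection_of_isQuasiSeparated_of_flat_right H2 (UX := g ⁻¹ᵁ V) e2 le_rfl hUY hV
    (isAffineOpen_top _) (QuasiCompact.isCompact_preimage _ V.2 hV.isCompact)
    (g.isQuasiSeparated_preimage hV.isQuasiSeparated)
  have hpo := (isIso_pushoutSection_iff H2 e2 le_rfl hUY).1 this
  haveI : IsIso (g''.appLE ⊤ (g'' ⁻¹ᵁ ⊤) le_rfl) := by rw [Scheme.Hom.appLE_eq_app]; exact hg''
  have hb : ((ιc ≫ q).appLE V ⊤ e2).hom.FaithfullyFlat := by
    rw [RingHom.FaithfullyFlat.iff_flat_and_comap_surjective]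
    refine ⟨(ιc ≫ q).flat_appLE hV (isAffineOpen_top _) e2, fun v => ?_⟩
    have hv : hV.fromSpec v ∈ q '' (q ⁻¹' (V : Set Y)) := by
      obtain ⟨z, hz⟩ := q.surjective (hV.fromSpec v)
      refine ⟨z, ?_, hz⟩
      show q z ∈ (V : Set Y)
      rw [hz, ← hV.range_fromSpec]
      exact ⟨v, rfl⟩
    obtain ⟨z, hz, hzv⟩ := hv
    rw [ht] at hz
    obtain ⟨O, hO, hzO⟩ := Set.mem_iUnion₂.1 hz
    let w := Sigma.ι (fun O : t => (O.1.1 : Scheme.{u})) ⟨O, hO⟩ ⟨z, hzO⟩
    obtain ⟨p, hp⟩ : w ∈ Set.range (isAffineOpen_top (∐ fun O : t => (O.1.1 : Scheme.{u}))).fromSpec := by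
      rw [IsAffineOpen.range_fromSpec]; trivial
    refine ⟨p, hV.fromSpec.isOpenEmbedding.injective ?_⟩
    have h1 := congrArg (fun m => m p) (hV.SpecMap_appLE_fromSpec (ιc ≫ q) (isAffineOpen_top _) e2)
    simp only [Scheme.Hom.comp_apply] at h1
    refine h1.trans ?_
    rw [hp, ← hzv, ← Scheme.Hom.comp_apply _ ιc, Sigma.ι_desc]
    rfl
  have hbij : Function.Bijective (g.appLE V (g ⁻¹ᵁ V) le_rfl).hom :=
    bijective_of_isPushout_faithfullyFlat hpo hb
  haveI : IsIso (g.appLE V (g ⁻¹ᵁ V) le_rfl) := (ConcreteCategory.isIso_iff_bijective _).2 hbij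
  rw [Scheme.Hom.app_eq_appLE]
  infer_instance

open GrothLib.FppfQuot in
/-- The fibres of the map of homogeneous spaces are the smaller quotient. -/
theorem exists_isPullback {S : Scheme.{u}} {G H H' X X' Y : Over S} [GrpObj G] [GrpObj H] [GrpObj H']
    {iH : H ⟶ G} {iH' : H' ⟶ G} [IsMonHom iH'] {e : H ⟶ H'} (he : e ≫ iH' = iH)
    [Mono iH'] {q : G ⟶ X} (hq : RedSub.IsQuotient iH q) {q' : G ⟶ X'} (hq' : RedSub.IsQuotient iH' q')
    {f : X ⟶ X'} (hf : q ≫ f = q') {r : H' ⟶ Y} (hr : RedSub.IsQuotient e r) :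
    ∃ ψ : G ⊗ Y ⟶ X, IsPullback ψ (fst G Y) f q' := by
  have cq : IsCover q := ⟨hq.1, hq.2.1, hq.2.2.1⟩
  have cr : IsCover r := ⟨hr.1, hr.2.1, hr.2.2.1⟩
  have hH'q : ∀ {W : Over S} (a : W ⟶ G) (h : W ⟶ H'), (a * (h ≫ iH')) ≫ q' = a ≫ q' := fun a h =>
    ((comp_eq_iff hq' _ _).2 ⟨h, rfl⟩).symm
  have c1 : IsCover (𝟙 G ⊗ₘ r) := (IsCover.id G).tensor cr
  obtain ⟨ψ, hψ⟩ := c1.desc ((fst G H' * (snd G H' ≫ iH')) ≫ q) (fun {W} a b hab => by
    have h1 : a ≫ fst G H' = b ≫ fst G H' := by simpa using congrArg (· ≫ fst _ _) hab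
    have h2 : (a ≫ snd G H') ≫ r = (b ≫ snd G H') ≫ r := by simpa using congrArg (· ≫ snd _ _) hab
    obtain ⟨h, hh⟩ := (comp_eq_iff hr _ _).1 h2
    rw [← Category.assoc, ← Category.assoc, comp_eq_iff hq]
    refine ⟨h, ?_⟩
    rw [MonObj.comp_mul, MonObj.comp_mul, ← Category.assoc, ← Category.assoc, hh, h1, MonObj.mul_comp,
      Category.assoc h, he, _root_.mul_assoc])
  have hψ' : ∀ {W : Over S} (g : W ⟶ G) (z : W ⟶ H'), lift g (z ≫ r) ≫ ψ = (g * (z ≫ iH')) ≫ q := by
    intro W g z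
    have e' : lift g (z ≫ r) = lift g z ≫ (𝟙 G ⊗ₘ r) := by
      apply CartesianMonoidalCategory.hom_ext <;> simp
    rw [e', Category.assoc, hψ, ← Category.assoc, MonObj.comp_mul, lift_fst, lift_snd_assoc]
  have w : ψ ≫ f = fst G Y ≫ q' := by
    haveI := c1.epi
    rw [← cancel_epi (𝟙 G ⊗ₘ r), reassoc_of% hψ, hf, hH'q, tensorHom_fst_assoc, Category.id_comp]
  let α : G ⊗ Y ⟶ pullback f q' := pullback.lift ψ (fst G Y) w
  have hαfst : α ≫ pullback.fst f q' = ψ := pullback.lift_fst _ _ _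
  have hαsnd : α ≫ pullback.snd f q' = fst G Y := pullback.lift_snd _ _ _
  haveI : Mono α := ⟨fun {W} x y hxy => by
    have h1 : x ≫ fst G Y = y ≫ fst G Y := by rw [← hαsnd, reassoc_of% hxy]
    have h2 : x ≫ ψ = y ≫ ψ := by rw [← hαfst, reassoc_of% hxy]
    obtain ⟨W₁, c, a, hc, ha⟩ := cr.exists_lift (x ≫ snd G Y)
    obtain ⟨W₂, d, b, hd, hb⟩ := cr.exists_lift (c ≫ y ≫ snd G Y)
    haveI := (hd.comp hc).epi
    rw [← cancel_epi (d ≫ c)]
    have ex : (d ≫ c) ≫ x = lift ((d ≫ c) ≫ x ≫ fst G Y) ((d ≫ a) ≫ r) := by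
      apply CartesianMonoidalCategory.hom_ext
      · simp
      · rw [lift_snd, Category.assoc, Category.assoc, Category.assoc, ha]
    have ey : (d ≫ c) ≫ y = lift ((d ≫ c) ≫ x ≫ fst G Y) (b ≫ r) := by
      apply CartesianMonoidalCategory.hom_ext
      · simp [h1]
      · rw [lift_snd, Category.assoc, Category.assoc, hb]
    have h3 : ((d ≫ c) ≫ x) ≫ ψ = ((d ≫ c) ≫ y) ≫ ψ := by rw [Category.assoc, h2, ← Category.assoc]
    rw [ex, ey, hψ', hψ'] at h3
    obtain ⟨h, hh⟩ := (comp_eq_iff hq _ _).1 h3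
    rw [_root_.mul_assoc, mul_left_cancel_iff, ← he, ← Category.assoc, ← MonObj.mul_comp, cancel_mono] at hh
    rw [ex, ey]
    congr 1
    exact (comp_eq_iff hr _ _).2 ⟨h, hh⟩⟩
  obtain ⟨W₁, c₁, y, hc₁, hy⟩ := cq.exists_lift (pullback.fst f q')
  let x : W₁ ⟶ G := c₁ ≫ pullback.snd f q'
  have hxy : x ≫ q' = y ≫ q' := by
    rw [← hf, reassoc_of% hy, pullback.condition]
    simp only [x, Category.assoc, hf]
  obtain ⟨z, hz⟩ := (comp_eq_iff hq' _ _).1 hxy
  have hl : lift x (z ≫ r) ≫ α = c₁ := by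
    apply pullback.hom_ext
    · rw [Category.assoc, hαfst, hψ', ← hz, hy]
    · rw [Category.assoc, hαsnd, lift_fst]
  obtain ⟨d, hd⟩ := hc₁.desc (lift x (z ≫ r)) (fun {W} a b hab => by
    rw [← cancel_mono α, Category.assoc, Category.assoc, hl, hab])
  haveI : IsIso α := by
    haveI := hc₁.epi
    have h6 : d ≫ α = 𝟙 _ := by rw [← cancel_epi c₁, reassoc_of% hd, hl, Category.comp_id]
    exact ⟨d, by rw [← cancel_mono α, Category.assoc, h6, Category.comp_id, Category.id_comp], h6⟩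
  exact ⟨ψ, (IsPullback.of_hasPullback f q').of_iso (asIso α).symm (Iso.refl _) (Iso.refl _) (Iso.refl _)
    (by simp [hαfst]) (by simp [hαsnd]) (by simp) (by simp)⟩


/-- Let k be an algebraically closed field, G a group scheme of finite type over k and H ⊆ H' closed
subgroup schemes of G. Let q : G → X and q' : G → X' be the quotients of G by H and by H' (fppf
quotients represented by schemes), f : X → X' the morphism with q ≫ f = q', and r : H' → Y the
quotient of H' by H. Then f is a contraction (proper, and O_{X'}(U) → O_X(f⁻¹ U) is an isomorphism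
for every open U of X') if and only if Y is proper over k and the global functions of Y reduce to k
(the map k → Γ(Y, O_Y) is an isomorphism). -/
theorem result
    (k : Type u) [Field k] [IsAlgClosed k]
    (G : Over (Spec (CommRingCat.of k))) [GrpObj G] [LocallyOfFiniteType G.hom] [QuasiCompact G.hom]
    (H H' : Over (Spec (CommRingCat.of k))) [GrpObj H] [GrpObj H']
    (iH : H ⟶ G) [IsMonHom iH] (hH : IsClosedImmersion iH.left)
    (iH' : H' ⟶ G) [IsMonHom iH'] (hH' : IsClosedImmersion iH'.left)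
    (e : H ⟶ H') [IsMonHom e] (he : e ≫ iH' = iH)
    (X X' Y : Over (Spec (CommRingCat.of k))) (q : G ⟶ X) (hq : RedSub.IsQuotient iH q) (q' : G ⟶ X') (hq' : RedSub.IsQuotient iH' q')
    (f : X ⟶ X') (hf : q ≫ f = q') (r : H' ⟶ Y) (hr : RedSub.IsQuotient e r) :
    (IsProper f.left ∧ ∀ U : X'.left.Opens, IsIso (f.left.app U)) ↔
      (IsProper Y.hom ∧ IsIso Y.hom.appTop) := by
  haveI := hH; haveI := hH'
  haveI : Mono iH' := Over.mono_of_mono_left iH'
  obtain ⟨ψ, sq⟩ := exists_isPullback he hq hq' hf hr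
  haveI : IsLocallyNoetherian G.left := LocallyOfFiniteType.isLocallyNoetherian G.hom
  haveI : CompactSpace G.left := QuasiCompact.compactSpace_of_compactSpace G.hom
  have lft : ∀ {A B : Over (Spec (CommRingCat.of k))} (π : A ⟶ B), LocallyOfFiniteType A.hom →
      Surjective π.left ∧ Flat π.left ∧ LocallyOfFinitePresentation π.left → LocallyOfFiniteType B.hom :=
    fun π hA h => GrothLib.FppfSource.fppfSourceDescends_lft π.left _ h.2.1 h.2.2 h.1 (by rw [Over.w π]; exact hA)
  haveI : LocallyOfFiniteType X.hom := lft q inferInstance ⟨hq.1, hq.2.1, hq.2.2.1⟩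
  haveI : LocallyOfFiniteType X'.hom := lft q' inferInstance ⟨hq'.1, hq'.2.1, hq'.2.2.1⟩
  haveI : LocallyOfFiniteType H'.hom := by rw [← Over.w iH']; infer_instance
  haveI : LocallyOfFiniteType Y.hom := lft r inferInstance ⟨hr.1, hr.2.1, hr.2.2.1⟩
  haveI : IsLocallyNoetherian X.left := LocallyOfFiniteType.isLocallyNoetherian X.hom
  haveI : IsLocallyNoetherian X'.left := LocallyOfFiniteType.isLocallyNoetherian X'.hom
  haveI : IsLocallyNoetherian Y.left := LocallyOfFiniteType.isLocallyNoetherian Y.hom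
  haveI : CompactSpace H'.left := iH'.left.isClosedEmbedding.compactSpace
  haveI : CompactSpace X.left := haveI := hq.1; Function.Surjective.compactSpace q.left.continuous q.left.surjective
  haveI : CompactSpace Y.left := haveI := hr.1; Function.Surjective.compactSpace r.left.continuous r.left.surjective
  haveI := hq'.1
  haveI := hq'.2.1
  haveI := hq'.2.2.1
  haveI : QuasiCompact q'.left := inferInstance
  haveI : QuasiCompact f.left := inferInstance
  haveI : QuasiSeparated f.left := inferInstance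
  haveI : QuasiCompact Y.hom := quasiCompact_of_compactSpace _
  haveI : QuasiSeparated Y.hom := inferInstance
  haveI : Surjective G.hom := ⟨fun s => ⟨η[G].left (IsLocalRing.closedPoint k), @Subsingleton.elim _ (inferInstanceAs (Subsingleton (PrimeSpectrum k))) _ _⟩⟩
  haveI : LocallyOfFinitePresentation G.hom := inferInstance
  have sq1 : IsPullback ψ.left (fst G Y).left f.left q'.left := sq.map (Over.forget _)
  have sq2 : IsPullback (snd G Y).left (fst G Y).left Y.hom G.hom := (IsPullback.of_hasPullback G.hom Y.hom).flip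
  constructor
  · rintro ⟨hp, hO⟩
    have h1 : IsProper (fst G Y).left := MorphismProperty.of_isPullback sq1 hp
    refine ⟨GrothLib.AlgSp.fppfDescends_isProper _ _ _ _ sq2 inferInstance inferInstance inferInstance h1, ?_⟩
    exact app_isIso_of_baseChange sq2 (GrothLib.ProperDesc13.OConn.baseChange sq1 hO).isIso_app ⊤
  · rintro ⟨hp, hO⟩
    have h1 : IsProper (fst G Y).left := MorphismProperty.of_isPullback sq2 hp
    refine ⟨GrothLib.AlgSp.fppfDescends_isProper _ _ _ _ sq1 hq'.2.1 hq'.2.2.1 hq'.1 h1, fun U => ?_⟩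
    have hY : ∀ V, IsIso (Y.hom.app V) := fun V => by
      refine GrothLib.ProperDesc13.OConn.isIso_app (fun W y hy => ⟨⊤, isAffineOpen_top _, trivial, fun z _ => ?_, hO⟩) V
      rwa [@Subsingleton.elim _ (inferInstanceAs (Subsingleton (PrimeSpectrum k))) z y]
    exact app_isIso_of_baseChange sq1 (GrothLib.ProperDesc13.OConn.baseChange sq2 hY).isIso_app U

end Groth.Agent.S13867
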