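import Groth.Statements.S13872
-- import your own Groth.Agent.* helpers here
import Groth.Agent.Lib.PolLaw.ToTensor

set_option autoImplicit false
universe u
open scoped TensorProduct
open ZeroCyc

namespace Groth.Agent.S13872

/-- Let A be a commutative ring, B an A-algebra and d ≥ 1; let (C, γ) be the degree-d divided power
algebra Γ^d_A(B) with its universal multiplicative law γ : B → C of degree d (every multiplicative
law of degree d out of B factors uniquely through γ), and let φ : Γ^d_A(B) → TS^d_A(B) be the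
canonical homomorphism to the symmetric tensors, taken as data characterised by: after any base
change S, φ ∘ γ sends Σ_j s_j ⊗ b_j to Σ_{c : [d] → [n]} (∏_i s_{c(i)}) ⊗ (b_{c(1)} ⊗ ⋯ ⊗ b_{c(d)}),
i.e. φ corresponds to the law x ↦ x ⊗ ⋯ ⊗ x. Then d!·x = 0 for every x in the kernel of φ, and d!·y
lies in the image of φ for every symmetric tensor y ∈ TS^d_A(B). (The published statement also
asserts x^{d!} = 0 and y^{d!} in the image of φ; those two halves are a separate result and are not
restated here.) -/
theorem result {A B C : Type u} [CommRing A] [CommRing B] [Algebra A B] [CommRing C] [Algebra A C] (d : ℕ) (hd : 0 < d)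
    (γ : PolLaw.MulLaw A B C d) (hγ : PolLaw.IsGammaD γ) (φ : C →ₐ[A] SymTen.TS A B d)
    (hφ : ∀ (S : Type u) [CommSemiring S] [Algebra A S] (n : ℕ) (s : Fin n → S) (b : Fin n → B),
      ((SymTen.TS A B d).val.comp φ).toLinearMap.lTensor S (γ.law.toFun' S (∑ j, s j ⊗ₜ[A] b j)) =
        ∑ c : Fin d → Fin n, (∏ i, s (c i)) ⊗ₜ[A] PiTensorProduct.tprod A (fun i => b (c i))) :
    (∀ x : C, φ x = 0 → d.factorial • x = 0) ∧
      (∀ y : SymTen.TS A B d, d.factorial • y ∈ φ.range) := by
  classical
  have hφ' : ∀ (S : Type u) [CommSemiring S] [Algebra A S] (n : ℕ) (s : Fin n → S) (b : Fin n → B),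
      (((SymTen.TS A B d).val.comp φ).toLinearMap).lTensor S (γ.law.toFun' S (∑ j, s j ⊗ₜ[A] b j)) =
        ∑ c : Fin d → Fin n, (∏ i, s (c i)) ⊗ₜ[A] PiTensorProduct.tprod A (fun i => b (c i)) := hφ
  have key : ∀ x : C, GrothLib.PolLaw.polTensor γ.homog ((φ x : SymTen.TS A B d) : ⨂[A] _ : Fin d, B) =
      d.factorial • x := by
    intro x
    have hx : x ∈ GrothLib.PolLaw.coeffSpan γ.law := by
      rw [GrothLib.PolLaw.coeffSpan_eq_top hγ]; trivial
    induction hx using Submodule.span_induction with
    | mem c hc =>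
      obtain ⟨n, m, μ, rfl⟩ := hc
      by_cases hμ : ∑ i, μ i = d
      · have e := GrothLib.PolLaw.apply_coeff_eq_sum _ hφ' m μ
        rw [show ((φ (GrothLib.PolLaw.coeff γ.law m μ) : SymTen.TS A B d) : ⨂[A] _ : Fin d, B) = _ from e,
          map_sum, ← GrothLib.PolLaw.sum_pol_comp γ.homog m hμ]
        simp
      · simp [GrothLib.PolLaw.coeff_eq_zero γ.homog m hμ]
    | zero => simp
    | add a b _ _ ha hb => simp [ha, hb]
    | smul r a _ ha => simp [ha, smul_comm r d.factorial a]
  refine ⟨fun x hx => ?_, fun y => ?_⟩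
  · rw [← key x, hx]
    simp
  · refine ⟨GrothLib.PolLaw.polTensor γ.homog (y : ⨂[A] _ : Fin d, B), ?_⟩
    apply Subtype.ext
    have hsum : ∀ t : ⨂[A] _ : Fin d, B,
        ((φ (GrothLib.PolLaw.polTensor γ.homog t) : SymTen.TS A B d) : ⨂[A] _ : Fin d, B) =
          ∑ σ : Equiv.Perm (Fin d), PiTensorProduct.reindex A (fun _ : Fin d => B) σ t := by
      intro t
      induction t using PiTensorProduct.induction_on with
      | smul_tprod r b =>
        have e := GrothLib.PolLaw.apply_pol_eq_sum_perm _ hφ' b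
        simp only [map_smul, GrothLib.PolLaw.polTensor_tprod, SetLike.val_smul, ← Finset.smul_sum]
        exact congrArg (r • ·) e
      | add a b ha hb => simp [ha, hb, Finset.sum_add_distrib]
    show ((φ (GrothLib.PolLaw.polTensor γ.homog (y : ⨂[A] _ : Fin d, B)) : SymTen.TS A B d) : ⨂[A] _ : Fin d, B) = _
    rw [hsum, Finset.sum_congr rfl fun σ _ => y.2 σ]
    simp [Fintype.card_perm]

end Groth.Agent.S13872
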