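import Groth.Statements.S13874
-- import your own Groth.Agent.* helpers here
import Groth.Agent.Lib.PolLaw.Residue
import Mathlib.AlgebraicGeometry.Morphisms.UniversallyInjective
import Mathlib.AlgebraicGeometry.Morphisms.Integral
import Mathlib.RingTheory.Spectrum.Prime.Homeomorph
import Mathlib.AlgebraicGeometry.ResidueField

set_option autoImplicit false
universe u
open scoped TensorProduct
open AlgebraicGeometry
open ZeroCyc

namespace Groth.Agent.S13874

open CategoryTheory AlgebraicGeometry

/-- Evaluation at a point of an affine scheme. -/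
noncomputable def ev (R : CommRingCat.{u}) (x : Spec R) : R ⟶ (Spec R).residueField x :=
  (Scheme.ΓSpecIso R).inv ≫ (Spec R).Γevaluation x

lemma ev_eq (R : CommRingCat.{u}) (x : Spec R) :
    ev R x = CommRingCat.ofHom (algebraMap R _) ≫ (Scheme.Spec.residueFieldIso R x).inv :=
  (Scheme.Spec.algebraMap_residueFieldIso_inv R x).symm

lemma ev_naturality {R R' : CommRingCat.{u}} (g : R ⟶ R') (x : Spec R') (a : R) :
    ((Spec.map g).residueFieldMap x).hom ((ev R ((Spec.map g) x)).hom a) = (ev R' x).hom (g.hom a) := by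
  have h := CategoryTheory.congr_fun (Scheme.ΓSpecIso_inv_naturality g) a
  have h' := Scheme.Γevaluation_naturality_apply (Spec.map g) x ((Scheme.ΓSpecIso R).inv a)
  refine h'.trans ?_
  exact congrArg ((Spec R').Γevaluation x) h.symm

theorem surjective_of_fractions {R R' : CommRingCat.{u}} (g : R ⟶ R') (x : Spec R')
    (h : ∀ y : R', ∃ c c', g.hom c' ∉ x.asIdeal ∧ g.hom c' * y - g.hom c ∈ x.asIdeal) :
    Function.Surjective ((Spec.map g).residueFieldMap x).hom := by
  have hz : ∀ a, (ev R' x).hom a = 0 ↔ a ∈ x.asIdeal := by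
    intro a
    rw [ev_eq]
    show (Scheme.Spec.residueFieldIso R' x).inv.hom (algebraMap R' x.asIdeal.ResidueField a) = 0 ↔ _
    exact (map_eq_zero_iff (Scheme.Spec.residueFieldIso R' x).symm.commRingCatIsoToRingEquiv
      (Scheme.Spec.residueFieldIso R' x).symm.commRingCatIsoToRingEquiv.injective).trans
      Ideal.algebraMap_residueField_eq_zero
  have hev : ∀ y, (ev R' x).hom y ∈ ((Spec.map g).residueFieldMap x).hom.fieldRange := by
    intro y
    obtain ⟨c, c', h1, h2⟩ := h y
    refine ⟨(ev R _).hom c / (ev R _).hom c', ?_⟩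
    rw [map_div₀, ev_naturality, ev_naturality, div_eq_iff (fun h => h1 ((hz _).mp h)), ← map_mul,
      eq_comm, ← sub_eq_zero, ← map_sub, hz, mul_comm]
    exact h2
  intro z
  obtain ⟨w, rfl⟩ := (Scheme.Spec.residueFieldIso R' x).symm.commRingCatIsoToRingEquiv.surjective z
  obtain ⟨a, b, hab, rfl⟩ := IsFractionRing.div_surjective (R' ⧸ x.asIdeal) w
  obtain ⟨a, rfl⟩ := Ideal.Quotient.mk_surjective a
  obtain ⟨b, rfl⟩ := Ideal.Quotient.mk_surjective b
  have e : ∀ r, (Scheme.Spec.residueFieldIso R' x).symm.commRingCatIsoToRingEquiv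
      (algebraMap (R' ⧸ x.asIdeal) x.asIdeal.ResidueField (Ideal.Quotient.mk x.asIdeal r)) = (ev R' x).hom r := by
    intro r
    rw [ev_eq]
    rfl
  rw [map_div₀, e, e]
  obtain ⟨u, hu⟩ := hev a
  obtain ⟨v, hv⟩ := hev b
  exact ⟨u / v, by rw [map_div₀, hu, hv]⟩

/-- Affine form. Let A be a commutative ring, B an A-algebra and d ≥ 1; let (C, γ) be the degree-d
divided power algebra Γ^d_A(B) with its universal multiplicative law γ : B → C of degree d (every
multiplicative law of degree d out of B factors uniquely through γ), and let φ : Γ^d_A(B) →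
TS^d_A(B) be the canonical homomorphism to the symmetric tensors, taken as data characterised by:
after any base change S, φ ∘ γ sends Σ_j s_j ⊗ b_j to Σ_{c : [d] → [n]} (∏_i s_{c(i)}) ⊗ (b_{c(1)} ⊗
⋯ ⊗ b_{c(d)}), i.e. φ corresponds to the law x ↦ x ⊗ ⋯ ⊗ x. Then the morphism Spec TS^d_A(B) → Spec
Γ^d_A(B) induced by φ (the comparison map from the d-th symmetric product of Spec B over Spec A to
the scheme of degree-d divided powers) is a universal homeomorphism inducing an isomorphism on every
residue field. (The published statement is for a separated algebraic space X over an algebraic space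
S; this row is its content for X = Spec B over S = Spec A. The second assertion of the published
statement, that the map is an isomorphism when B is flat over A or A contains the rationals, is not
part of this row.) -/
theorem result {A B C : Type u} [CommRing A] [CommRing B] [Algebra A B] [CommRing C] [Algebra A C] (d : ℕ) (hd : 0 < d)
    (γ : PolLaw.MulLaw A B C d) (hγ : PolLaw.IsGammaD γ) (φ : C →ₐ[A] SymTen.TS A B d)
    (hφ : ∀ (S : Type u) [CommSemiring S] [Algebra A S] (n : ℕ) (s : Fin n → S) (b : Fin n → B),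
      ((SymTen.TS A B d).val.comp φ).toLinearMap.lTensor S (γ.law.toFun' S (∑ j, s j ⊗ₜ[A] b j)) =
        ∑ c : Fin d → Fin n, (∏ i, s (c i)) ⊗ₜ[A] PiTensorProduct.tprod A (fun i => b (c i))) :
    FlatMor.IsUnivHomeo (Spec.map (CommRingCat.ofHom φ.toRingHom)) ∧
      ∀ x : ↥(Spec (CommRingCat.of (SymTen.TS A B d))),
        Function.Surjective ((Spec.map (CommRingCat.ofHom φ.toRingHom)).residueFieldMap x).hom := by
  obtain ⟨hker, hpow⟩ := GrothLib.PolLaw.pow_factorial_of_ker γ hγ φ hφ
  have horb : ∀ (n : ℕ) (m : Fin n → B) (μ : Fin n →₀ ℕ),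
      ∃ c, (φ c : ⨂[A] _ : Fin d, B) = GrothLib.PolLaw.orbit A m μ := fun n m μ =>
    ⟨_, (GrothLib.PolLaw.apply_coeff_eq_sum ((SymTen.TS A B d).val.comp φ).toLinearMap hφ m μ).trans
      (by rw [GrothLib.PolLaw.orbit]; congr!)⟩
  have hres : ∀ x : ↥(Spec (CommRingCat.of (SymTen.TS A B d))),
      Function.Surjective ((Spec.map (CommRingCat.ofHom φ.toRingHom)).residueFieldMap x).hom :=
    fun x => surjective_of_fractions _ x fun y =>
      GrothLib.PolLaw.exists_residue φ horb x.asIdeal y
  refine ⟨?_, hres⟩
  let g := Spec.map (CommRingCat.ofHom φ.toRingHom)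
  have hpow' : ∀ y, ∃ n > 0, y ^ n ∈ φ.toRingHom.range :=
    fun y => ⟨_, d.factorial_pos, hpow y⟩
  have hbase : IsHomeomorph (PrimeSpectrum.comap φ.toRingHom) :=
    PrimeSpectrum.isHomeomorph_comap _ hpow' fun c hc =>
      mem_nilradical.mpr (show IsNilpotent c from ⟨_, hker c hc⟩)
  have : IsIntegralHom g := IsIntegralHom.SpecMap_iff.mpr fun y => by
    obtain ⟨n, hn, c, hc⟩ := hpow' y
    let := φ.toRingHom.toAlgebra
    exact IsIntegral.of_pow (R := C) hn (hc ▸ isIntegral_algebraMap)
  have : Surjective g := ⟨hbase.surjective⟩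
  have htfae : UniversallyInjective g ↔
      (Function.Injective g ∧ ∀ x, (g.residueFieldMap x).hom.IsPurelyInseparable) :=
    (tfae_universallyInjective g).out 0 2
  have : UniversallyInjective g := htfae.mpr ⟨hbase.injective,
    fun x => by
      let := (g.residueFieldMap x).hom.toAlgebra
      exact AlgEquiv.isPurelyInseparable
        (AlgEquiv.ofBijective (Algebra.ofId _ _) ⟨RingHom.injective _, hres x⟩)⟩
  intro P Q i₁ i₂ f' h
  have h1 : Surjective f' := MorphismProperty.of_isPullback h.flip inferInstance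
  have h2 : UniversallyInjective f' := MorphismProperty.of_isPullback h.flip inferInstance
  have h3 : UniversallyClosed f' := MorphismProperty.of_isPullback h.flip inferInstance
  exact isHomeomorph_iff_continuous_isClosedMap_bijective.mpr
    ⟨f'.continuous, f'.isClosedMap, f'.injective, f'.surjective⟩

end Groth.Agent.S13874
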