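import Groth.Statements.S13877
import Mathlib

set_option autoImplicit false
universe u v
open Crimp

namespace Groth.Agent.S13877

open Matrix

theorem associated_discr_basis {R : Type u} {B : Type v} [CommRing R] [CommRing B] [Algebra R B]
    {ι : Type} [Fintype ι] [DecidableEq ι] (b b' : Module.Basis ι R B) :
    Associated (Algebra.discr R ⇑b) (Algebra.discr R ⇑b') := by
  have hu : IsUnit (b.toMatrix b').det := by
    have h := congrArg Matrix.det (b.toMatrix_mul_toMatrix_flip b')
    rw [Matrix.det_mul, Matrix.det_one] at h
    exact IsUnit.of_mul_eq_one _ h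
  refine ⟨(hu.pow 2).unit, ?_⟩
  rw [IsUnit.unit_spec, mul_comm, ← Algebra.discr_of_matrix_vecMul, Module.Basis.toMatrix_map_vecMul]

/-- Over R = k⟦t⟧ with k an algebraically closed field of characteristic zero, let S' be a commutative
R-algebra with an R-basis of size d whose discriminant generates the ideal (t ^ a) (a finite cover
of the formal disk of degree d, unramified over the punctured disk, with branch divisor (t ^ a)),
and let S be an R-subalgebra of S' with an R-basis of size d whose discriminant generates (t ^ b) (a
crimp with branch divisor (t ^ b)). Then t ^ b annihilates S' / S and twice the R-length of S' / S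
plus a equals b. (The published statement is for a family of such subalgebras over a k-scheme T and
also asserts T-flatness of the quotient; this row is its restriction to T a point.) -/
theorem result {k : Type u} [Field k] [IsAlgClosed k] [CharZero k]
    {St : Type v} [CommRing St] [Algebra (PowerSeries k) St] (d a b : ℕ)
    (bt : Module.Basis (Fin d) (PowerSeries k) St)
    (ha : Ideal.span {Algebra.discr (PowerSeries k) ⇑bt} = Ideal.span {(PowerSeries.X : PowerSeries k) ^ a})
    (S : Subalgebra (PowerSeries k) St) (bS : Module.Basis (Fin d) (PowerSeries k) S)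
    (hb : Ideal.span {Algebra.discr (PowerSeries k) ⇑bS} = Ideal.span {(PowerSeries.X : PowerSeries k) ^ b}) :
    (∀ q : St ⧸ Subalgebra.toSubmodule S, ((PowerSeries.X : PowerSeries k) ^ b) • q = 0) ∧
    2 * Module.length (PowerSeries k) (St ⧸ Subalgebra.toSubmodule S) + (a : ℕ∞) = (b : ℕ∞) := by
  classical
  let R := PowerSeries k
  let X : R := PowerSeries.X
  have hXi : Irreducible X := PowerSeries.X_prime.irreducible
  let N : Submodule R St := Subalgebra.toSubmodule S
  let eS : S ≃ₗ[R] N := LinearEquiv.refl _ _
  have hrk : Module.finrank R N = Module.finrank R St := by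
    rw [Module.finrank_eq_card_basis (bS.map eS), Module.finrank_eq_card_basis bt]
  let c := Submodule.smithNormalFormCoeffs bt hrk
  let b' := Submodule.smithNormalFormTopBasis bt hrk
  let ab := Submodule.smithNormalFormBotBasis bt hrk
  let bS' : Module.Basis (Fin d) R S := ab.map eS.symm
  have hab : ∀ i, (bS' i : St) = c i • b' i := fun i => Submodule.smithNormalFormBotBasis_def bt hrk i
  have hc0 : ∀ i, c i ≠ 0 := fun i => Submodule.smithNormalFormCoeffs_ne_zero bt hrk i
  choose e he using fun i =>
    IsDiscreteValuationRing.associated_pow_irreducible (hc0 i) hXi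
  have hrepr : ∀ (y : S) (i : Fin d), b'.repr (y : St) i = bS'.repr y i * c i := by
    intro y i
    have h : (y : St) = ∑ j, (bS'.repr y j * c j) • b' j := by
      conv_lhs => rw [← bS'.sum_repr y]
      rw [AddSubmonoidClass.coe_finsetSum]
      exact Finset.sum_congr rfl fun j _ => by rw [SetLike.val_smul, hab, mul_smul]
    conv_lhs => rw [h, b'.repr_sum_self]
  have htr : ∀ x : S, Algebra.trace R S x = Algebra.trace R St (x : St) := fun x => by
    rw [Algebra.trace_eq_matrix_trace bS', Algebra.trace_eq_matrix_trace b']
    refine Finset.sum_congr rfl fun i _ => ?_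
    simp only [Matrix.diag_apply, Algebra.leftMulMatrix_eq_repr_mul]
    refine mul_right_cancel₀ (hc0 i) ?_
    have h := hrepr (x * bS' i) i
    rw [MulMemClass.coe_mul, hab, mul_smul_comm, map_smul, Finsupp.smul_apply, smul_eq_mul] at h
    linear_combination -h
  have hd1 : Algebra.discr R ⇑bS' = (∏ i, c i) ^ 2 * Algebra.discr R ⇑b' := by
    have h1 : Algebra.discr R ⇑bS' = Algebra.discr R (fun i => (bS' i : St)) := by
      simp only [Algebra.discr_def]
      congr 1
      ext i j
      simp only [Algebra.traceMatrix_apply, Algebra.traceForm_apply, htr, MulMemClass.coe_mul]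
    rw [h1, show (fun i => (bS' i : St)) = (⇑b' : Fin d → St) ᵥ* (Matrix.diagonal c).map (algebraMap R St) from ?_,
      Algebra.discr_of_matrix_vecMul, Matrix.det_diagonal]
    ext i
    rw [Matrix.diagonal_map (map_zero _), Matrix.vecMul_diagonal, hab, Algebra.smul_def, mul_comm]
  have hP : Associated (∏ i, c i) (X ^ ∑ i, e i) := by
    rw [← Finset.prod_pow_eq_pow_sum]
    exact Associated.prod _ _ _ fun i _ => he i
  have hA : Associated (X ^ b) (X ^ (2 * (∑ i, e i) + a)) := by
    have h2 : Associated (Algebra.discr R ⇑bS) (X ^ b) := Ideal.span_singleton_eq_span_singleton.1 hb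
    have h3 : Associated (Algebra.discr R ⇑bt) (X ^ a) := Ideal.span_singleton_eq_span_singleton.1 ha
    refine h2.symm.trans ((associated_discr_basis bS bS').trans ?_)
    rw [hd1, pow_add, mul_comm 2 (∑ i, e i), pow_mul]
    exact (hP.pow_pow).mul_mul ((associated_discr_basis b' bt).trans h3)
  have hb_eq : b = 2 * (∑ i, e i) + a :=
    le_antisymm ((pow_dvd_pow_iff hXi.ne_zero hXi.not_isUnit).1 hA.dvd)
      ((pow_dvd_pow_iff hXi.ne_zero hXi.not_isUnit).1 hA.symm.dvd)
  constructor
  · intro q
    obtain ⟨x, rfl⟩ := Submodule.Quotient.mk_surjective _ q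
    rw [← Submodule.Quotient.mk_smul, Submodule.Quotient.mk_eq_zero, ← b'.sum_repr x, Finset.smul_sum]
    refine Submodule.sum_mem _ fun i _ => ?_
    rw [smul_comm]
    refine Submodule.smul_mem _ _ ?_
    obtain ⟨w, hw⟩ : c i ∣ X ^ b := (he i).dvd.trans (pow_dvd_pow _ (by
      have := Finset.single_le_sum (fun j _ => Nat.zero_le (e j)) (Finset.mem_univ i)
      omega))
    rw [show (PowerSeries.X : PowerSeries k) ^ b = w * c i by rw [mul_comm]; exact hw, mul_smul, ← hab]
    exact Submodule.smul_mem _ _ (bS' i).2
  · have hlen : Module.length R (St ⧸ N) = ((∑ i, e i : ℕ) : ℕ∞) := by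
      rw [(N.quotientEquivPiSpan bt hrk).length_eq, Module.length_pi_of_fintype, Nat.cast_sum]
      refine Finset.sum_congr rfl fun i _ => ?_
      have h : Ideal.span {c i} = IsLocalRing.maximalIdeal R ^ e i := by
        rw [PowerSeries.maximalIdeal_eq_span_X, Ideal.span_singleton_pow]
        exact Ideal.span_singleton_eq_span_singleton.2 (he i)
      rw [(Submodule.quotEquivOfEq _ _ h).length_eq, IsDiscreteValuationRing.length_quotient_pow_maximalIdeal]
    rw [show Module.length (PowerSeries k) (St ⧸ Subalgebra.toSubmodule S) = _ from hlen, hb_eq]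
    push_cast
    ring

end Groth.Agent.S13877
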