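import Groth.Statements.S13878
import Groth.Agent.Lib.Crimp.Triple

set_option autoImplicit false
universe u
open Crimp

namespace Groth.Agent.S13878

/-- Over R = k⟦t⟧ with k an algebraically closed field of characteristic zero, let S' = R × R × R (the
unramified triple cover of the formal disk) and let S be an R-submodule of S' containing 1 such that
S' / S is isomorphic to R / (t ^ m) ⊕ R / (t ^ n) with m ≤ n. Then t ^ n S' is contained in S, and
there is f in S', not lying in R·1 + t S', such that S = R·1 + R·(t ^ m f) + t ^ n S'. -/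
theorem result {k : Type u} [Field k] [IsAlgClosed k] [CharZero k] (m n : ℕ) (hmn : m ≤ n)
    (S : Submodule (PowerSeries k) (Fin 3 → PowerSeries k))
    (h1 : (1 : (Fin 3 → PowerSeries k)) ∈ S)
    (e : ((Fin 3 → PowerSeries k) ⧸ S) ≃ₗ[PowerSeries k]
      ((PowerSeries k ⧸ Ideal.span {(PowerSeries.X : PowerSeries k) ^ m}) × (PowerSeries k ⧸ Ideal.span {(PowerSeries.X : PowerSeries k) ^ n}))) :
    Ideal.span {(PowerSeries.X : PowerSeries k) ^ n} • (⊤ : Submodule (PowerSeries k) (Fin 3 → PowerSeries k)) ≤ S ∧
    ∃ f : (Fin 3 → PowerSeries k),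
      f ∉ Submodule.span (PowerSeries k) {(1 : (Fin 3 → PowerSeries k))} ⊔ Ideal.span {(PowerSeries.X : PowerSeries k)} • (⊤ : Submodule (PowerSeries k) (Fin 3 → PowerSeries k)) ∧
      S = Submodule.span (PowerSeries k) {(1 : (Fin 3 → PowerSeries k)), ((PowerSeries.X : PowerSeries k) ^ m) • f} ⊔
        Ideal.span {(PowerSeries.X : PowerSeries k) ^ n} • (⊤ : Submodule (PowerSeries k) (Fin 3 → PowerSeries k)) := by
  exact Crimp.etale_structure m n hmn S h1 e

end Groth.Agent.S13878
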