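import Groth.Statements.S13879
import Mathlib

set_option autoImplicit false
universe u
open Crimp

namespace Groth.Agent.S13879

/-- Over R = k⟦t⟧ with k an algebraically closed field of characteristic zero, let S' = R × R × R and
let S be the R-submodule R·1 + R·(t ^ m f) + t ^ n S' of S' for some f in S' and natural numbers m,
n. Then S is closed under multiplication (equivalently, is an R-subalgebra of S') if and only if t ^
(2m) f ^ 2 lies in S. (The published statement has m ≤ n and S' / S isomorphic to R / (t ^ m) ⊕ R /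
(t ^ n), under which S has this shape; this row states the criterion for every submodule of this
shape.) -/
theorem result {k : Type u} [Field k] [IsAlgClosed k] [CharZero k] (m n : ℕ) (f : (Fin 3 → PowerSeries k))
    (S : Submodule (PowerSeries k) (Fin 3 → PowerSeries k))
    (hS : S = Submodule.span (PowerSeries k) {(1 : (Fin 3 → PowerSeries k)), ((PowerSeries.X : PowerSeries k) ^ m) • f} ⊔
        Ideal.span {(PowerSeries.X : PowerSeries k) ^ n} • (⊤ : Submodule (PowerSeries k) (Fin 3 → PowerSeries k))) :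
    (∀ x ∈ S, ∀ y ∈ S, x * y ∈ S) ↔ ((PowerSeries.X : PowerSeries k) ^ (2 * m)) • (f * f) ∈ S := by
  set X := (PowerSeries.X : PowerSeries k)
  have hT : Ideal.span {X ^ n} • (⊤ : Submodule (PowerSeries k) (Fin 3 → PowerSeries k)) ≤ S := hS ▸ le_sup_right
  have hg : ∀ z ∈ ({(1 : Fin 3 → PowerSeries k), (X ^ m) • f} : Set (Fin 3 → PowerSeries k)), z ∈ S :=
    fun z hz => hS ▸ Submodule.mem_sup_left (Submodule.subset_span hz)
  constructor
  · intro h
    have := h _ (hg ((X ^ m) • f) (by simp)) _ (hg ((X ^ m) • f) (by simp))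
    rwa [smul_mul_smul_comm, ← pow_add, ← two_mul] at this
  · intro h x hx y hy
    have hideal : ∀ a b : Fin 3 → PowerSeries k, a ∈ Ideal.span {X ^ n} • (⊤ : Submodule (PowerSeries k) (Fin 3 → PowerSeries k)) →
        a * b ∈ S := fun a b ha => by
      rw [Submodule.ideal_span_singleton_smul] at ha
      obtain ⟨c, -, rfl⟩ := ha
      refine hT ?_
      rw [Submodule.ideal_span_singleton_smul]
      exact ⟨c * b, trivial, (smul_mul_assoc _ _ _).symm⟩
    rw [hS] at hx hy
    obtain ⟨x₁, hx₁, x₂, hx₂, rfl⟩ := Submodule.mem_sup.1 hx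
    obtain ⟨y₁, hy₁, y₂, hy₂, rfl⟩ := Submodule.mem_sup.1 hy
    rw [add_mul, mul_add]
    refine add_mem (add_mem ?_ (mul_comm x₁ y₂ ▸ hideal _ _ hy₂)) (hideal _ _ hx₂)
    rw [Submodule.mem_span_pair] at hx₁ hy₁
    obtain ⟨a, b, rfl⟩ := hx₁
    obtain ⟨a', b', rfl⟩ := hy₁
    have e : (a • (1 : Fin 3 → PowerSeries k) + b • (X ^ m) • f) * (a' • 1 + b' • (X ^ m) • f) =
        (a * a') • 1 + (a * b' + b * a') • (X ^ m) • f + (b * b') • (X ^ (2 * m)) • (f * f) := by
      funext i
      simp only [Pi.mul_apply, Pi.add_apply, Pi.smul_apply, Pi.one_apply, smul_eq_mul]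
      ring
    rw [e]
    exact add_mem (add_mem (S.smul_mem _ (hg 1 (by simp))) (S.smul_mem _ (hg _ (by simp)))) (S.smul_mem _ h)

end Groth.Agent.S13879
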