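import Groth.Statements.S13880
import Groth.Agent.Lib.Crimp.Double

set_option autoImplicit false
universe u
open Crimp

namespace Groth.Agent.S13880

/-- Over R = k⟦t⟧ with k an algebraically closed field of characteristic zero, let S' = R × R, the
trivial double cover of the formal disk (branch divisor (t ^ 0)). An R-subalgebra S of S' admits an
R-basis of size 2 whose discriminant generates (t ^ b), that is, S is a crimp with branch divisor (t
^ b), if and only if b = 2n for some n and S = R·1 + t ^ n S'. So there is exactly one such crimp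
when b is even and none when b is odd; moreover the subalgebra R·1 + t ^ n S' is isomorphic as an
R-algebra to R[y] / (y ^ 2 - t ^ (2n)) (existence of an isomorphism; y ↦ (t ^ n, -t ^ n)). (The
published statement also gives the space of crimps its reduced one-point scheme structure; this row
classifies its k-points.) -/
theorem result {k : Type u} [Field k] [IsAlgClosed k] [CharZero k] (b : ℕ) (S : Subalgebra (PowerSeries k) (Fin 2 → PowerSeries k)) :
    ((∃ bS : Module.Basis (Fin 2) (PowerSeries k) S,
      Ideal.span {Algebra.discr (PowerSeries k) ⇑bS} = Ideal.span {(PowerSeries.X : PowerSeries k) ^ b}) ↔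
    ∃ n : ℕ, b = 2 * n ∧
      Subalgebra.toSubmodule S = Submodule.span (PowerSeries k) {(1 : (Fin 2 → PowerSeries k))} ⊔
        Ideal.span {(PowerSeries.X : PowerSeries k) ^ n} • (⊤ : Submodule (PowerSeries k) (Fin 2 → PowerSeries k))) ∧
    (∀ n : ℕ, Subalgebra.toSubmodule S = Submodule.span (PowerSeries k) {(1 : (Fin 2 → PowerSeries k))} ⊔
        Ideal.span {(PowerSeries.X : PowerSeries k) ^ n} • (⊤ : Submodule (PowerSeries k) (Fin 2 → PowerSeries k)) →
      Nonempty (S ≃ₐ[PowerSeries k] AdjoinRoot (Polynomial.X ^ 2 - Polynomial.C ((PowerSeries.X : PowerSeries k) ^ (2 * n))))) := by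
  have hli : LinearIndependent (PowerSeries k) ![(1 : Fin 2 → PowerSeries k), ![0, 1]] := by
    rw [LinearIndependent.pair_iff]
    intro p q h
    have e0 := congrFun h 0
    have e1 := congrFun h 1
    simp at e0 e1
    exact ⟨e0, by rw [e0, zero_add] at e1; exact e1⟩
  let bA : Module.Basis (Fin 2) (PowerSeries k) (Fin 2 → PowerSeries k) := Module.Basis.mk hli fun a _ =>
    (Submodule.mem_span_range_iff_exists_fun _).2 ⟨![a 0, a 1 - a 0], by
      funext i; fin_cases i <;> simp [Fin.sum_univ_two]⟩
  have h0 : bA 0 = 1 := by simp [bA]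
  have h1 : bA 1 = ![0, 1] := by simp [bA]
  have he : (![0, 1] : Fin 2 → PowerSeries k) * ![0, 1] =
      algebraMap (PowerSeries k) (Fin 2 → PowerSeries k) 0 + (1 : PowerSeries k) • ![0, 1] := by
    funext i; fin_cases i <;> simp
  refine ⟨(Crimp.Double.criterion bA _ h0 h1 0 1 he 0 1 (by simp) S b).trans ?_,
    fun n hn => Crimp.Double.iso bA _ h0 h1 0 1 he S n hn _ (Or.inr (by simp))⟩
  simp only [add_zero]

end Groth.Agent.S13880
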