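import Groth.Statements.S13882
import Mathlib

set_option autoImplicit false
universe u
open FinCov

namespace Groth.Agent.S13882

/-- Over a field K of characteristic zero, the functor that sends a K-scheme S to the set of isomorphism
classes of pairs (A, τ) of an O_S-algebra A and an O_S-module isomorphism τ from A to the free
module of rank d, equivalently to the set of commutative unital algebra structures on the rank-d
free module with its standard basis, is represented by an affine K-scheme of finite type. Stated on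
affine K-schemes in one universe: there is a finitely generated commutative K-algebra B with
bijections between K-algebra maps B → A and based algebra structures of rank d over A, natural in
the commutative K-algebra A. -/
theorem result (K : Type u) [Field K] [CharZero K] (d : ℕ) :
    ∃ (B : Type u) (_ : CommRing B) (_ : Algebra K B) (_ : Algebra.FiniteType K B)
      (η : ∀ (A : Type u) [CommRing A] [Algebra K A], (B →ₐ[K] A) ≃ W4c1hurwitzcpt.BasedAlg d A),
      ∀ (A A' : Type u) [CommRing A] [Algebra K A] [CommRing A'] [Algebra K A']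
        (f : A →ₐ[K] A') (g : B →ₐ[K] A),
        η A' (f.comp g) = (η A g).map f.toRingHom := by
  let σ := (Fin d × Fin d × Fin d) ⊕ Fin d
  let C : Fin d → Fin d → Fin d → MvPolynomial σ K := fun i j k => MvPolynomial.X (Sum.inl (i, j, k))
  let U : Fin d → MvPolynomial σ K := fun i => MvPolynomial.X (Sum.inr i)
  let rels : Set (MvPolynomial σ K) :=
    Set.range (fun p : Fin d × Fin d × Fin d => C p.1 p.2.1 p.2.2 - C p.2.1 p.1 p.2.2) ∪
    Set.range (fun p : Fin d × Fin d × Fin d × Fin d => (∑ k, C p.1 p.2.1 k * C k p.2.2.1 p.2.2.2) -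
      ∑ k, C p.2.1 p.2.2.1 k * C p.1 k p.2.2.2) ∪
    Set.range (fun p : Fin d × Fin d => (∑ i, U i * C i p.1 p.2) - if p.1 = p.2 then 1 else 0)
  let I := Ideal.span rels
  have hlift : ∀ (A : Type u) [CommRing A] [Algebra K A] (s : W4c1hurwitzcpt.BasedAlg d A),
      ∀ x ∈ I, MvPolynomial.aeval (R := K) (Sum.elim (fun p => s.c p.1 p.2.1 p.2.2) s.u) x = 0 := by
    intro A _ _ s x hx
    refine (Ideal.span_le.2 ?_ : I ≤ RingHom.ker (MvPolynomial.aeval (R := K)
      (Sum.elim (fun p => s.c p.1 p.2.1 p.2.2) s.u)).toRingHom) hx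
    rintro _ ((⟨⟨i, j, k⟩, rfl⟩ | ⟨⟨i, j, l, m⟩, rfl⟩) | ⟨⟨j, m⟩, rfl⟩) <;>
      simp only [SetLike.mem_coe, RingHom.mem_ker, AlgHom.toRingHom_eq_coe, RingHom.coe_coe, map_sub, map_sum, map_mul, C, U,
        MvPolynomial.aeval_X, Sum.elim_inl, Sum.elim_inr]
    · rw [s.comm, sub_self]
    · rw [s.assoc, sub_self]
    · rw [s.unit]; split <;> simp
  have hrel : ∀ r ∈ rels, Ideal.Quotient.mkₐ K I r = 0 := fun r hr =>
    Ideal.Quotient.eq_zero_iff_mem.2 (Ideal.subset_span hr)
  let univ : W4c1hurwitzcpt.BasedAlg d (MvPolynomial σ K ⧸ I) :=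
    { c := fun i j k => Ideal.Quotient.mkₐ K I (C i j k)
      u := fun i => Ideal.Quotient.mkₐ K I (U i)
      comm := fun i j k => by
        rw [← sub_eq_zero, ← map_sub]
        exact hrel _ (.inl (.inl ⟨(i, j, k), rfl⟩))
      assoc := fun i j l m => by
        simp only [← map_mul, ← map_sum]
        rw [← sub_eq_zero, ← map_sub]
        exact hrel _ (.inl (.inr ⟨(i, j, l, m), rfl⟩))
      unit := fun j m => by
        have h := hrel _ (.inr ⟨(j, m), rfl⟩)
        simp only [map_sub, map_sum, map_mul, sub_eq_zero] at h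
        rw [h]; split <;> simp }
  refine ⟨MvPolynomial σ K ⧸ I, inferInstance, inferInstance, inferInstance, fun A _ _ =>
    { toFun := fun g => univ.map g.toRingHom
      invFun := fun s => Ideal.Quotient.liftₐ I
        (MvPolynomial.aeval (Sum.elim (fun p => s.c p.1 p.2.1 p.2.2) s.u)) (hlift A s)
      left_inv := fun g => by
        refine Ideal.Quotient.algHom_ext K (MvPolynomial.algHom_ext fun v => ?_)
        rcases v with ⟨i, j, k⟩ | i <;> simp [univ, W4c1hurwitzcpt.BasedAlg.map, C, U]
      right_inv := fun s => by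
        ext <;> simp [univ, W4c1hurwitzcpt.BasedAlg.map, C, U] }, fun A A' _ _ _ _ f g => rfl⟩

end Groth.Agent.S13882
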