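import Groth.Statements.S13885
import Groth.Agent.Lib.Crimp.Triple

set_option autoImplicit false
universe u
open Crimp

namespace Groth.Agent.S13885

/-- Over R = k⟦t⟧ with k an algebraically closed field of characteristic zero, let S' = k⟦x⟧ × R, where
k⟦x⟧ is regarded as an R-algebra through t ↦ x ^ 2, that is S' = R[x] / (x ^ 2 - t) ⊕ R, the smooth
simply ramified triple cover of the formal disk, with R embedded diagonally. If M is an R-submodule
of S' containing 1 which is free of rank 3, then M is spanned by 1, (f₁, 0) and (f₂, 0) for some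
power series f₁, f₂ whose x-adic valuations are distinct modulo 2. (Items (2) and (3) of the
published proposition, on the base change of M to R[s] / (s ^ 2 - t), are not restated.) -/
theorem result {k : Type u} [Field k] [IsAlgClosed k] [CharZero k]
    (M : Submodule (PowerSeries k) (W4c1hurwitzcpt.RootDisk 2 k × PowerSeries k))
    (h1 : (1 : (W4c1hurwitzcpt.RootDisk 2 k × PowerSeries k)) ∈ M)
    (bM : Module.Basis (Fin 3) (PowerSeries k) M) :
    ∃ f₁ f₂ : W4c1hurwitzcpt.RootDisk 2 k,
      ¬ Nat.ModEq 2 (PowerSeries.order (W4c1hurwitzcpt.RootDisk.val (f₁ : W4c1hurwitzcpt.RootDisk 2 k))).toNat (PowerSeries.order (W4c1hurwitzcpt.RootDisk.val (f₂ : W4c1hurwitzcpt.RootDisk 2 k))).toNat ∧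
      M = Submodule.span (PowerSeries k) {(1 : (W4c1hurwitzcpt.RootDisk 2 k × PowerSeries k)), (f₁, 0), (f₂, 0)} := by
  exact Crimp.simply_span M h1 bM

end Groth.Agent.S13885
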