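import Groth.Statements.S13888
import Groth.Agent.Lib.DTen.ClosedD

set_option autoImplicit false
universe u
open CategoryTheory CategoryTheory.Limits MonoidalCategory
attribute [local instance] HasDerivedCategory.standard
open DTen

namespace Groth.Agent.S13888

/-- For a commutative ring `A` (assuming the derived tensor product on `D(A)` with its triple version
exists, that its symmetry, unit and associativity maps are isomorphisms, and that every `- ⊗^L L`
has a right adjoint `RHom(L, -)`) and objects `K`, `L`, `M` of `D(A)`, the canonical morphism
`RHom(K ⊗^L L, M) ⟶ RHom(K, RHom(L, M))`, namely the double adjunct of the associativity isomorphism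
followed by evaluation at `K ⊗^L L`, is an isomorphism. (Functoriality in the three objects is built
into the construction; the identification on `H^0` with the hom bijection of the adjunction is not
part of this row.) -/
theorem result (A : Type u) [CommRing A] [DTen.HasLTen A] [DTen.HasLTen₃ A]
    [DTen.IsSymMonoidal A] [DTen.HasRHom A] (K L M : Dual.D A) :
    IsIso (DTen.curryHom K L M) := by
  exact GrothLib.DT.isIso_curryHom K L M

end Groth.Agent.S13888
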