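import Groth.Statements.S1389
import Mathlib.AlgebraicGeometry.Morphisms.Etale
import Mathlib.AlgebraicGeometry.ResidueField
-- import your own Groth.Agent.* helpers here

set_option autoImplicit false
universe u
open FlatMor

namespace Groth.Agent.S1389

open AlgebraicGeometry CategoryTheory Limits in
/-- Let (U, u) and (U', u') be étale neighbourhoods of a point s of S and h₁, h₂ two S-morphisms U → U'
sending u to u' which induce the same map of residue fields κ(u') → κ(u). Then there is an étale
neighbourhood (U'', u'') of s with an S-morphism h : U'' → U sending u'' to u and with h followed by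
h₁ equal to h followed by h₂. -/
theorem result {S U U' : Scheme.{u}} (s : S) (g : U ⟶ S) (g' : U' ⟶ S) [Etale g] [Etale g'] (u : U) (u' : U')
    (hu : g u = s) (hu' : g' u' = s) (h₁ h₂ : U ⟶ U') (w₁ : h₁ ≫ g' = g) (w₂ : h₂ ≫ g' = g) (e₁ : h₁ u = u') (e₂ : h₂ u = u')
    (hres : (U'.residueFieldCongr e₁).inv ≫ h₁.residueFieldMap u = (U'.residueFieldCongr e₂).inv ≫ h₂.residueFieldMap u) :
    ∃ (U'' : Scheme.{u}) (g'' : U'' ⟶ S) (u'' : U'') (h : U'' ⟶ U), Etale g'' ∧ g'' u'' = s ∧ h ≫ g = g'' ∧ h u'' = u ∧ h ≫ h₁ = h ≫ h₂ := by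
  let p := Limits.pullback.lift (f := g') (g := g') h₁ h₂ (w₁.trans w₂.symm)
  have aux : ∀ (h : U ⟶ U') (e : h u = u'), U.fromSpecResidueField u ≫ h =
      Spec.map ((U'.residueFieldCongr e).inv ≫ h.residueFieldMap u) ≫ U'.fromSpecResidueField u' := by
    rintro h rfl
    simp [Scheme.residueFieldCongr_refl]
  have he : U.fromSpecResidueField u ≫ h₁ = U.fromSpecResidueField u ≫ h₂ := by
    rw [aux h₁ e₁, aux h₂ e₂, hres]
  have hmem : p u ∈ Set.range (Limits.pullback.diagonal g') := by
    let z : Spec (U.residueField u) := IsLocalRing.closedPoint _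
    refine ⟨(U.fromSpecResidueField u ≫ h₁) z, ?_⟩
    have : U.fromSpecResidueField u ≫ p = (U.fromSpecResidueField u ≫ h₁) ≫ Limits.pullback.diagonal g' := by
      apply Limits.pullback.hom_ext
      · rw [Category.assoc, Category.assoc, Category.assoc, Limits.pullback.diagonal_fst,
          show p ≫ Limits.pullback.fst _ _ = h₁ from Limits.pullback.lift_fst _ _ _, Category.comp_id]
      · rw [Category.assoc, Category.assoc, Category.assoc, Limits.pullback.diagonal_snd,
          show p ≫ Limits.pullback.snd _ _ = h₂ from Limits.pullback.lift_snd _ _ _, Category.comp_id, he]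
    rw [← Scheme.Hom.comp_apply, ← this, Scheme.Hom.comp_apply]
    congr 1
    exact U.fromSpecResidueField_apply u z
  obtain ⟨z, hz⟩ := hmem
  obtain ⟨u'', hu₁, -⟩ := Scheme.Pullback.exists_preimage_pullback u z hz.symm
  refine ⟨_, Limits.pullback.fst p (Limits.pullback.diagonal g') ≫ g, u'',
    Limits.pullback.fst p (Limits.pullback.diagonal g'), inferInstance, ?_, rfl, hu₁, ?_⟩
  · rw [Scheme.Hom.comp_apply, hu₁, hu]
  · have h : h₁ = p ≫ Limits.pullback.fst _ _ := (Limits.pullback.lift_fst _ _ _).symm
    have h' : h₂ = p ≫ Limits.pullback.snd _ _ := (Limits.pullback.lift_snd _ _ _).symm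
    rw [h, h', ← Category.assoc, ← Category.assoc, Limits.pullback.condition]
    simp

end Groth.Agent.S1389
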