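import Groth.Statements.S13894
import Groth.Agent.Lib.DTen.Mix

set_option autoImplicit false
universe u
open CategoryTheory CategoryTheory.Limits MonoidalCategory
attribute [local instance] HasDerivedCategory.standard
open DTen

namespace Groth.Agent.S13894

/-- For a map of commutative rings `φ : R → A` and a K-flat cochain complex `K` of `R`-modules, the
canonical comparison morphism `(Q K) ⊗^L_R A ⟶ Q(K ⊗_R A)` — from the derived base change (the left
adjoint of restriction `D(A) ⥤ D(R)`) of the image of `K` in `D(R)` to the image in `D(A)` of the
termwise base change, namely the adjunct of the unit maps `k ↦ 1 ⊗ k` — is an isomorphism: derived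
base change is computed termwise on K-flat complexes. (Existence of the left adjoint is assumed as a
hypothesis.) -/
theorem result (R A : Type u) [CommRing R] [CommRing A] (φ : R →+* A)
    [DTen.HasLBase φ] (K : DRing.Cx R) (hK : DRing.IsKFlat R K) :
    IsIso ((DTen.baseCmp φ).app K) := by
  exact GrothLib.DT.isIso_baseCmp φ hK

end Groth.Agent.S13894
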