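import Groth.Statements.S13896
import Groth.Agent.Lib.DTen.InvKer
import Groth.Agent.Lib.DTen.RHomRelIso
import Groth.Agent.Lib.DTen.ResTen

set_option autoImplicit false
universe u
open CategoryTheory CategoryTheory.Limits MonoidalCategory
attribute [local instance] HasDerivedCategory.standard
open scoped TensorProduct
open DTen

namespace Groth.Agent.S13896

/-- Let `R → A` be a surjective map of commutative rings whose kernel `I` is an invertible `R`-module,
and let `N` be an inverse of the invertible `A`-module `A ⊗_R I` (an `A`-module with `(A ⊗_R I) ⊗_A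
N ≅ A`). Then the right adjoint `RHom(A, -) : D(R) ⥤ D(A)` of restriction is isomorphic, as a
functor, to `K ↦ K ⊗^L_R N[-1]` (mixed derived tensor product with the module `N` placed in degree
`1`). Existence of an isomorphism of functors only. (Existence of the right adjoint and of the mixed
derived tensor product is assumed as hypotheses.) -/
theorem result (R A : Type u)
    [CommRing R] [CommRing A] [Algebra R A] (hφ : Function.Surjective (algebraMap R A))
    [Module.Invertible R (RingHom.ker (algebraMap R A))]
    (N : Type u) [AddCommGroup N] [Module A N]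
    (e : (A ⊗[R] (RingHom.ker (algebraMap R A))) ⊗[A] N ≃ₗ[A] A)
    [DTen.HasRHomRel (algebraMap R A)] [DTen.HasLTenMix (algebraMap R A)] :
    Nonempty (DTen.RHomRel (algebraMap R A) ≅
      (Functor.curry.obj (DTen.LTenMix (algebraMap R A))).flip.obj ((Dual.inD A N)⟦(-1 : ℤ)⟧)) := by
  have := GrothLib.DT.hasLTen R
  have := GrothLib.DT.hasLTen A
  have := GrothLib.DT.hasLTen₃ (A := R)
  have := GrothLib.DT.hasLTen₃ (A := A)
  have := GrothLib.DT.isSymMonoidal (A := R)
  have := GrothLib.DT.isSymMonoidal (A := A)
  have := GrothLib.DT.hasLBase (algebraMap R A)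
  have := GrothLib.DT.hasResTen (algebraMap R A)
  have := GrothLib.DT.resLegIso (algebraMap R A)
  obtain ⟨q, hker, hq⟩ := GrothLib.DT.InvKer.exists_quotient hφ N e
  obtain ⟨ψ⟩ := GrothLib.DT.InvKer.nonempty_iso_RHomRel_unit q hker hq hφ
  exact ⟨(GrothLib.DT.θRelIso (algebraMap R A) (GrothLib.DT.InvKer.isPerfect_restrict_unit hφ)).symm ≪≫
    NatIso.ofComponents (G := (Functor.curry.obj (DTen.LTenMix (algebraMap R A))).flip.obj
      ((DTen.RHomRel (algebraMap R A)).obj (DTen.unit R)))
      (fun K => @asIso _ _ _ _ ((DTen.split (algebraMap R A)).app (K, (DTen.RHomRel (algebraMap R A)).obj (DTen.unit R)))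
        (GrothLib.DT.isIso_split_app (algebraMap R A) K _))
      (fun f => (DTen.split (algebraMap R A)).naturality (Prod.mkHom f (𝟙 _))) ≪≫
    (Functor.curry.obj (DTen.LTenMix (algebraMap R A))).flip.mapIso ψ.symm⟩

end Groth.Agent.S13896
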