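import Groth.Statements.S1390
import Groth.Agent.Lib.EtaleFiniteCover.Basic
import Mathlib

set_option autoImplicit false
universe u
open FlatMor

namespace Groth.Agent.S1390

open AlgebraicGeometry CategoryTheory Limits in
/-- Let (U, u) be an étale neighbourhood of (S, s), i.e. U → S étale with u over s. Then there are an
affine open neighbourhood V of s and a surjective, finite, flat morphism of finite presentation π :
T → V such that every point t of T over s has an open neighbourhood W_t with an S-morphism W_t → U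
sending t to u. -/
theorem result {U S : Scheme.{u}} (e : U ⟶ S) [Etale e] (u : U) (s : S) (hu : e u = s) :
    ∃ (V : S.Opens) (T : Scheme.{u}) (π : T ⟶ (V : Scheme.{u})), s ∈ V ∧ IsAffineOpen V ∧ Surjective π ∧ IsFinite π ∧ Flat π ∧ LocallyOfFinitePresentation π ∧
      ∀ t : T, V.ι (π t) = s → ∃ (W : T.Opens) (h : (W : Scheme.{u}) ⟶ U), t ∈ W ∧ h ≫ e = W.ι ≫ π ≫ V.ι ∧ ∀ ht : t ∈ W, h ⟨t, ht⟩ = u := by
  obtain ⟨V, hV, hsV, -⟩ := exists_isAffineOpen_mem_and_subset (X := S) (x := s) (U := ⊤) trivial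
  obtain ⟨W, hW, huW, hWV⟩ := exists_isAffineOpen_mem_and_subset (X := U) (x := u) (U := e ⁻¹ᵁ V)
    (show e u ∈ V from hu.symm ▸ hsV)
  have hWV' : W ≤ e ⁻¹ᵁ V := hWV
  let φ := e.appLE V W hWV'
  algebraize [φ.hom]
  haveI : Algebra.Etale Γ(S, V) Γ(U, W) := e.etale_appLE hV hW hWV'
  let Q := (hW.primeIdealOf ⟨u, huW⟩).asIdeal
  obtain ⟨f, hfQ, hf⟩ := Algebra.IsEtaleAt.exists_isStandardEtale (R := Γ(S, V)) Q
  let L := Localization.Away f
  let Q' := Q.map (algebraMap Γ(U, W) L)
  haveI hQ'p : Q'.IsPrime := IsLocalization.isPrime_of_isPrime_disjoint (.powers f) _ _ inferInstance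
      ((Ideal.disjoint_powers_iff_notMem_of_isPrime _).mpr hfQ)
  have hQ'c : Q'.comap (algebraMap Γ(U, W) L) = Q :=
    IsLocalization.under_map_of_isPrime_disjoint (.powers f) L inferInstance
      ((Ideal.disjoint_powers_iff_notMem_of_isPrime _).mpr hfQ)
  obtain ⟨S', _, _, hfin, hfp, hff, hcov⟩ := GrothLib.EtaleFiniteCover.exists_cover Γ(S, V) L
  let ψ : Γ(S, V) ⟶ CommRingCat.of S' := CommRingCat.ofHom (algebraMap Γ(S, V) S')
  have hQs : Q'.comap (algebraMap Γ(S, V) L) = (hV.primeIdealOf ⟨s, hsV⟩).asIdeal := by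
    subst hu
    rw [← congrArg PrimeSpectrum.asIdeal (IsAffineOpen.comap_primeIdealOf_appLE V hV W hW hWV' huW),
      IsScalarTower.algebraMap_eq Γ(S, V) Γ(U, W) L, ← Ideal.comap_comap, hQ'c]
    rfl
  refine ⟨V, Spec (CommRingCat.of S'), Spec.map ψ ≫ hV.isoSpec.inv, hsV, hV, ?_, ?_, ?_, ?_, ?_⟩
  · haveI : Surjective (Spec.map ψ) := ⟨PrimeSpectrum.comap_surjective_of_faithfullyFlat⟩
    infer_instance
  · haveI : IsFinite (Spec.map ψ) := (IsFinite.SpecMap_iff _).mpr (RingHom.finite_algebraMap.mpr hfin)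
    infer_instance
  · haveI : Flat (Spec.map ψ) := Flat.SpecMap_iff.mpr (RingHom.flat_algebraMap_iff.mpr inferInstance)
    infer_instance
  · haveI : LocallyOfFinitePresentation (Spec.map ψ) :=
      (LocallyOfFinitePresentation.SpecMap_iff _).mpr (RingHom.finitePresentation_algebraMap.mpr hfp)
    infer_instance
  · intro t ht
    have ht' : Spec.map ψ t = hV.primeIdealOf ⟨s, hsV⟩ := by
      apply hV.fromSpec.isOpenEmbedding.injective
      rw [hV.fromSpec_primeIdealOf]
      exact ht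
    have hcomap : t.asIdeal.comap (algebraMap Γ(S, V) S') = Q'.comap (algebraMap Γ(S, V) L) :=
      hQs ▸ congrArg PrimeSpectrum.asIdeal ht'
    obtain ⟨g, hg, θ, hθ⟩ := hcov Q' t.asIdeal hcomap
    let χ : Γ(U, W) ⟶ CommRingCat.of (Localization.Away g) :=
      CommRingCat.ofHom (θ.toRingHom.comp (algebraMap Γ(U, W) L))
    let I := basicOpenIsoSpecAway (R := CommRingCat.of S') g
    refine ⟨PrimeSpectrum.basicOpen g, I.hom ≫ Spec.map χ ≫ hW.fromSpec, hg, ?_, ?_⟩
    · have h1 : φ ≫ χ = ψ ≫ CommRingCat.ofHom (algebraMap S' (Localization.Away g)) := by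
        ext r
        show θ (algebraMap Γ(U, W) L (algebraMap Γ(S, V) Γ(U, W) r)) =
          algebraMap S' _ (algebraMap Γ(S, V) S' r)
        rw [← IsScalarTower.algebraMap_apply, θ.commutes, ← IsScalarTower.algebraMap_apply]
      rw [Category.assoc, Category.assoc, ← IsAffineOpen.SpecMap_appLE_fromSpec e hV hW hWV',
        ← Spec.map_comp_assoc, h1, Spec.map_comp_assoc, ← Category.assoc,
        basicOpenIsoSpecAway_hom_SpecMap, Category.assoc, hV.isoSpec_inv_ι]
    · intro htm
      have h3 : Spec.map (CommRingCat.ofHom (algebraMap S' (Localization.Away g))) (I.hom ⟨t, htm⟩) = t := by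
        rw [← Scheme.Hom.comp_apply, basicOpenIsoSpecAway_hom_SpecMap]
        rfl
      have h4 : (I.hom ⟨t, htm⟩).asIdeal = t.asIdeal.map (algebraMap S' (Localization.Away g)) := by
        rw [← IsLocalization.map_under (Submonoid.powers g) (Localization.Away g) (I.hom ⟨t, htm⟩).asIdeal]
        exact congrArg (Ideal.map _) (congrArg PrimeSpectrum.asIdeal h3)
      have h5 : Spec.map χ (I.hom ⟨t, htm⟩) = hW.primeIdealOf ⟨u, huW⟩ := by
        refine PrimeSpectrum.ext ?_
        show (I.hom ⟨t, htm⟩).asIdeal.comap (θ.toRingHom.comp (algebraMap Γ(U, W) L)) = _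
        rw [h4, ← Ideal.comap_comap]
        exact (congrArg (Ideal.comap _) hθ).trans hQ'c
      rw [Scheme.Hom.comp_apply, Scheme.Hom.comp_apply, h5, hW.fromSpec_primeIdealOf]

end Groth.Agent.S1390
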