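import Groth.Statements.S13901
-- import your own Groth.Agent.* helpers here
import Groth.Agent.Lib.P1Fin17.Basic


set_option autoImplicit false
universe u
open P1Fin

namespace Groth.Agent.S13901

open AlgebraicGeometry CategoryTheory in
/-- Let S be a scheme with preconnected underlying space and f : X → P^1_S a finite, flat, locally
finitely presented morphism (finite locally free). Then f restricted to any connected component of X
is surjective onto P^1_S. (The published statement allows an arbitrary base S; over a base with two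
points and X a copy of the projective line over one of them, mapped identically into P^1_S, the
connected X misses the other fibre, so the base is taken connected here.) -/
theorem result (S X : Scheme.{u}) [PreconnectedSpace S]
    (f : X ⟶ CohB1.ProjSpaceOver 1 S) [IsFinite f] [Flat f] [LocallyOfFinitePresentation f]
    (x : X) (p : CohB1.ProjSpaceOver 1 S) : ∃ y ∈ connectedComponent x, f y = p := by
  classical
  have hfin : (f ⁻¹' {p}).Finite := Scheme.Hom.finite_preimage_singleton f p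
  let P : ℕ → Prop := fun n => ∃ U : Set X, IsClopen U ∧ x ∈ U ∧ (U ∩ f ⁻¹' {p}).ncard = n
  have hP : ∃ n, P n := ⟨_, Set.univ, isClopen_univ, Set.mem_univ x, rfl⟩
  obtain ⟨U, hU, hxU, hn⟩ := Nat.find_spec hP
  have hmeet : ∀ V : Set X, IsClopen V → V.Nonempty → (V ∩ f ⁻¹' {p}).Nonempty := by
    rintro V hV ⟨v, hv⟩
    rcases GrothLib.P1Fin17.eq_empty_or_univ (GrothLib.P1Fin17.isClopen_image f hV) with h | h
    · exact absurd (⟨v, hv, rfl⟩ : f v ∈ f '' V) (Set.eq_empty_iff_forall_notMem.1 h _)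
    · obtain ⟨w, hw, hwp⟩ := h.ge (Set.mem_univ p)
      exact ⟨w, hw, hwp⟩
  have hpre : _root_.IsPreconnected U := by
    refine isPreconnected_iff_subset_of_disjoint_closed.2 fun u v hu hv hUuv hdis => ?_
    by_contra hne
    push Not at hne
    obtain ⟨⟨a, haU, hau⟩, ⟨b, hbU, hbv⟩⟩ := Set.not_subset.1 hne.1, Set.not_subset.1 hne.2
    have hUu : IsClopen (U ∩ u) := ⟨hU.1.inter hu, by
      rw [show U ∩ u = U ∩ vᶜ from Set.ext fun y => ⟨fun h => ⟨h.1, fun hy => (Set.eq_empty_iff_forall_notMem.1 hdis) y ⟨h.1, h.2, hy⟩⟩,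
        fun h => ⟨h.1, (hUuv h.1).resolve_right h.2⟩⟩]
      exact hU.2.inter hv.isOpen_compl⟩
    have hUv : IsClopen (U ∩ v) := ⟨hU.1.inter hv, by
      rw [show U ∩ v = U ∩ uᶜ from Set.ext fun y => ⟨fun h => ⟨h.1, fun hy => (Set.eq_empty_iff_forall_notMem.1 hdis) y ⟨h.1, hy, h.2⟩⟩,
        fun h => ⟨h.1, (hUuv h.1).resolve_left h.2⟩⟩]
      exact hU.2.inter hu.isOpen_compl⟩
    obtain ⟨y, hy, hyp⟩ := hmeet _ hUu ⟨b, hbU, (hUuv hbU).resolve_right hbv⟩
    obtain ⟨z, hz, hzp⟩ := hmeet _ hUv ⟨a, haU, (hUuv haU).resolve_left hau⟩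
    have hlt : ∀ V : Set X, (∃ w ∈ U ∩ f ⁻¹' {p}, w ∉ V) → V ⊆ U → (V ∩ f ⁻¹' {p}).ncard < (U ∩ f ⁻¹' {p}).ncard :=
      fun V ⟨w, hw, hwV⟩ hVU => Set.ncard_lt_ncard ⟨Set.inter_subset_inter_left _ hVU,
        fun h => hwV (h hw).1⟩ (hfin.subset Set.inter_subset_right)
    rcases hUuv hxU with hx | hx
    · exact absurd ⟨U ∩ u, hUu, ⟨hxU, hx⟩, rfl⟩ (Nat.find_min hP (hn ▸ hlt (U ∩ u) ⟨z, ⟨hz.1, hzp⟩,
        fun h => (Set.eq_empty_iff_forall_notMem.1 hdis) z ⟨hz.1, h.2, hz.2⟩⟩ Set.inter_subset_left))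
    · exact absurd ⟨U ∩ v, hUv, ⟨hxU, hx⟩, rfl⟩ (Nat.find_min hP (hn ▸ hlt (U ∩ v) ⟨y, ⟨hy.1, hyp⟩,
        fun h => (Set.eq_empty_iff_forall_notMem.1 hdis) y ⟨hy.1, hy.2, h.2⟩⟩ Set.inter_subset_left))
  obtain ⟨y, hy, hyp⟩ := hmeet U hU ⟨x, hxU⟩
  exact ⟨y, hpre.subset_connectedComponent hxU hy, hyp⟩

end Groth.Agent.S13901
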