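import Groth.Statements.S13906
-- import your own Groth.Agent.* helpers here
import Groth.Agent.Lib.P1Fin17.Basic


set_option autoImplicit false
universe u
open P1Fin

namespace Groth.Agent.S13906

open AlgebraicGeometry CategoryTheory in
/-- Let S be a scheme and g : X → P^1_S a finite, flat, locally finitely presented morphism. An open and
closed subset W of X that contains every point of X lying over the zero section of P^1_S → S is all
of X. (In the published corollary W is the locus over which a given equivariant etale morphism T → X
of constant rank is a torsor under a finite group, an open and closed subset of X; that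
open-and-closed locus is taken as the hypothesis here, and the conclusion W = X is the corollary's
content.) -/
theorem result (S X : Scheme.{u})
    (g : X ⟶ CohB1.ProjSpaceOver 1 S) [IsFinite g] [Flat g] [LocallyOfFinitePresentation g]
    (W : Set X) (hW : IsClopen W)
    (h0 : ∀ x : X, g x ∈ Set.range (P1.sect S 0) → x ∈ W) : W = Set.univ := by
  have hc := GrothLib.P1Fin17.isClopen_image g hW.compl
  have h := GrothLib.P1Fin17.eq_univ_of_isClopen hc.compl 0 (fun p hp ⟨x, hx, hxp⟩ => hx (h0 x (hxp.symm ▸ hp)))
  refine Set.eq_univ_of_forall fun x => by_contra fun hx => ?_
  exact (h.ge (Set.mem_univ (g x))) ⟨x, hx, rfl⟩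

end Groth.Agent.S13906
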