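import Groth.Statements.S13903
import Groth.Agent.Lib.EtSep10.Basic

set_option autoImplicit false
universe u
open EtAlg

namespace Groth.Agent.S13903

theorem etale_of_reduced_separable (K L : Type u) [Field K] [CommRing L] [Algebra K L]
    [Module.Finite K L] [IsReduced L] [Algebra.IsSeparable K L] : Algebra.Etale K L := by
  haveI : IsArtinianRing L := isArtinian_of_tower K inferInstance
  letI : ∀ i : MaximalSpectrum L, Field (L ⧸ i.asIdeal) := fun i => Ideal.Quotient.field i.asIdeal
  refine (Algebra.Etale.iff_exists_algEquiv_prod K L).mpr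
    ⟨_, inferInstance, fun i : MaximalSpectrum L => L ⧸ i.asIdeal, inferInstance,
      inferInstance, (IsArtinianRing.equivPi L).restrictScalars K, fun i => ⟨?_, ⟨fun x => ?_⟩⟩⟩
  · exact Module.Finite.of_surjective (Ideal.Quotient.mkₐ K i.asIdeal).toLinearMap
      Ideal.Quotient.mk_surjective
  · obtain ⟨y, rfl⟩ := Ideal.Quotient.mk_surjective x
    refine (Algebra.IsSeparable.isSeparable K y).of_dvd ?_
    exact minpoly.dvd K _ (by
      show Polynomial.aeval (Ideal.Quotient.mkₐ K i.asIdeal y) (minpoly K y) = 0
      rw [Polynomial.aeval_algHom_apply, minpoly.aeval, map_zero])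


/-- Let K be a field and L a finite-dimensional reduced commutative K-algebra of dimension d all of
whose elements are separable over K, generated as a K-algebra by z and t. In any finite set of at
least d^(4d) elements of K there is an element c such that c • z + t generates L as a K-algebra.
(The published statement does not require separability; for K of characteristic p and L obtained by
adjoining p-th roots of two independent indeterminates, L is a reduced finite K-algebra generated by
two elements with no single generator, so separability over K is assumed here, as the counting in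
the published proof requires.) -/
theorem result (K L : Type u) [Field K] [CommRing L]
    [Algebra K L] [Module.Finite K L] [IsReduced L] [Algebra.IsSeparable K L] (z t : L)
    (hgen : Algebra.adjoin K ({z, t} : Set L) = ⊤) (S : Finset K)
    (hS : Module.finrank K L ^ (4 * Module.finrank K L) ≤ S.card) :
    ∃ c ∈ S, Algebra.adjoin K ({c • z + t} : Set L) = ⊤ := by
  classical
  let Ω := AlgebraicClosure K
  let d := Module.finrank K L
  haveI := Fintype.ofFinite (L →ₐ[K] Ω)
  let bad : Finset K := Finset.univ.image fun στ : (L →ₐ[K] Ω) × (L →ₐ[K] Ω) =>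
    if h : ∃ c : K, c • στ.1 z + στ.1 t = c • στ.2 z + στ.2 t then h.choose else 0
  by_cases hd : Module.finrank K L ≤ 1
  · obtain ⟨c, hc⟩ : S.Nonempty := by
      rw [← Finset.card_pos]
      refine lt_of_lt_of_le ?_ hS
      rcases Nat.eq_zero_or_pos (Module.finrank K L) with h | h
      · rw [h]; norm_num
      · exact Nat.pow_pos h
    refine ⟨c, hc, ?_⟩
    rcases subsingleton_or_nontrivial L with hL | hL
    · exact Subsingleton.elim _ _
    · exact top_le_iff.mp ((Subalgebra.bot_eq_top_iff_finrank_eq_one.mpr (le_antisymm hd Module.finrank_pos)).symm.le.trans bot_le)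
  obtain ⟨c, hcS, hcbad⟩ : ∃ c ∈ S, c ∉ bad := by
    refine Finset.exists_mem_notMem_of_card_lt_card ?_
    refine lt_of_lt_of_le (lt_of_le_of_lt Finset.card_image_le ?_) hS
    rw [Finset.card_univ, Fintype.card_prod]
    have h1 : Fintype.card (L →ₐ[K] Ω) ≤ Module.finrank K L := by
      rw [← Nat.card_eq_fintype_card]; exact card_algHom_le_finrank K L Ω
    refine lt_of_le_of_lt (Nat.mul_le_mul h1 h1) ?_
    rw [← pow_two]
    exact Nat.pow_lt_pow_right (by omega) (by omega)
  refine ⟨c, hcS, ?_⟩
  set A := Algebra.adjoin K ({c • z + t} : Set L) with hA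
  have hxA : c • z + t ∈ A := Algebra.self_mem_adjoin_singleton _ _
  have hinj : Function.Injective (fun σ : L →ₐ[K] Ω => σ.comp A.val) := by
    intro σ τ h
    have hx : c • σ z + σ t = c • τ z + τ t := by
      have := DFunLike.congr_fun h ⟨_, hxA⟩
      simpa [map_add, map_smul] using this
    have hzt : σ z = τ z ∧ σ t = τ t := by
      by_cases hz : σ z = τ z
      · exact ⟨hz, by rw [hz] at hx; exact add_left_cancel hx⟩
      exfalso
      have hex : ∃ c : K, c • σ z + σ t = c • τ z + τ t := ⟨c, hx⟩
      refine hcbad (Finset.mem_image.mpr ⟨(σ, τ), Finset.mem_univ _, ?_⟩)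
      rw [dif_pos hex]
      by_contra hne
      have h2 := hex.choose_spec
      have h3 : (hex.choose - c) • (σ z - τ z) = 0 := by
        rw [sub_smul, smul_sub, smul_sub]
        linear_combination h2 - hx
      rcases smul_eq_zero.mp h3 with h4 | h4
      · exact hne (sub_eq_zero.mp h4)
      · exact hz (sub_eq_zero.mp h4)
    refine AlgHom.ext_of_adjoin_eq_top hgen fun y hy => ?_
    rcases hy with rfl | rfl
    · exact hzt.1
    · exact hzt.2
  haveI : Algebra.Etale K L := etale_of_reduced_separable K L
  haveI : IsReduced A := isReduced_of_injective A.val Subtype.val_injective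
  haveI : Algebra.IsSeparable K A := ⟨fun a => by
    have := Algebra.IsSeparable.isSeparable K (A.val a)
    unfold IsSeparable at this ⊢
    rwa [minpoly.algHom_eq A.val Subtype.val_injective] at this⟩
  haveI : Algebra.Etale K A := etale_of_reduced_separable K A
  refine Algebra.toSubmodule_eq_top.mp (Submodule.eq_top_of_finrank_eq ?_)
  refine le_antisymm (Submodule.finrank_le _) ?_
  calc Module.finrank K L = Nat.card (L →ₐ[K] Ω) := (GrothLib.EtSep10.natCard_algHom K L Ω).symm
    _ ≤ Nat.card (A →ₐ[K] Ω) := Nat.card_le_card_of_injective _ hinj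
    _ = Module.finrank K A := GrothLib.EtSep10.natCard_algHom K A Ω

end Groth.Agent.S13903
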