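import Groth.Statements.S13904
import Groth.Agent.Lib.Dim.Ring
-- import your own Groth.Agent.* helpers here

set_option autoImplicit false
universe u
open CAlg

namespace Groth.Agent.S13904

/-- Let k be a field, A a commutative k-algebra and φ : k[x_1, …, x_r] → A a finite k-algebra map such
that A/p has Krull dimension r for every minimal prime p of A (an equidimensional affine scheme of
dimension r, finite over affine r-space). Then for every minimal prime p of A and every prime q of
k[x_1, …, x_r] there is a prime P ⊇ p of A with φ⁻¹(P) = q: the finite map restricted to each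
irreducible component of Spec A is surjective onto affine r-space. (The published statement is over
an algebraically closed field with φ a Noether normalisation; this row allows any field and any
finite k-algebra map φ.) -/
theorem result (k : Type u) [Field k] (r : ℕ)
    (A : Type u) [CommRing A] [Algebra k A] (φ : MvPolynomial (Fin r) k →ₐ[k] A)
    (hφ : φ.toRingHom.Finite)
    (hdim : ∀ p ∈ minimalPrimes A, ringKrullDim (A ⧸ p) = r)
    (p : Ideal A) (hp : p ∈ minimalPrimes A)
    (q : Ideal (MvPolynomial (Fin r) k)) [q.IsPrime] :
    ∃ P : Ideal A, P.IsPrime ∧ p ≤ P ∧ P.comap φ.toRingHom = q := by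
  let P := MvPolynomial (Fin r) k
  have := (Ideal.minimalPrimes_isPrime hp : p.IsPrime)
  algebraize [φ.toRingHom]
  have : IsScalarTower k P A := IsScalarTower.of_algebraMap_eq fun x => (φ.commutes x).symm
  have : Module.Finite P A := hφ
  have hker : p.comap φ.toRingHom = ⊥ := by
    by_contra hne
    obtain ⟨z, hz, hz0⟩ := Submodule.exists_mem_ne_zero_of_ne_bot hne
    let J := p.comap (algebraMap P A)
    have e1 : ringKrullDim (A ⧸ p) = ringKrullDim (P ⧸ J) :=
      GrothLib.Dim.ringKrullDim_eq_of_isIntegral (R := P ⧸ J) Ideal.algebraMap_quotient_injective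
    have e2 := ringKrullDim_succ_le_of_surjective (Ideal.Quotient.mk J) Ideal.Quotient.mk_surjective
      (r := z) (mem_nonZeroDivisors_of_ne_zero hz0) (Ideal.Quotient.eq_zero_iff_mem.2 hz)
    rw [← e1, hdim p hp, MvPolynomial.ringKrullDim_of_isNoetherianRing,
      ringKrullDim_eq_zero_of_field, zero_add, Nat.card_fin] at e2
    have : ((r + 1 : ℕ) : WithBot ℕ∞) ≤ (r : ℕ) := by exact_mod_cast e2
    have : r + 1 ≤ r := by exact_mod_cast this
    omega
  obtain ⟨Q, hQ, hQp, hQq⟩ := Ideal.exists_ideal_over_prime_of_isIntegral_of_isPrime (R := P) q p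
    (le_of_eq_of_le hker bot_le)
  exact ⟨Q, hQp, hQ, hQq⟩

end Groth.Agent.S13904
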