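import Groth.Prelude.Def_W4c1etcurveeff3bGenPos
import Mathlib.LinearAlgebra.FiniteDimensional.Lemmas

set_option autoImplicit false
universe u

namespace Groth.Agent.S13905

open W4c1etcurveeff3b in
/-- Hyperplanes of projective n-space in general position, in linear-algebra form (V of dimension n + 1
over a field k, hyperplanes as n-dimensional subspaces, points as nonzero vectors): if S is a finite
set of hyperplanes in general position with at least n members and H is a hyperplane containing none
of the lines cut out by n members of S, then S with H added is again in general position. (The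
published statement is for hyperplanes of P^n_k and closed points; a closed point lying on n + 1
members is automatically one of the rational points cut out by n of them, so the condition on
nonzero vectors of V is the same condition.) -/
theorem result (k V : Type u) [Field k]
    [AddCommGroup V] [Module k V] [DecidableEq (Submodule k V)] (n : ℕ) (S : Finset (Submodule k V))
    (hS : InGeneralPosition k V n S) (hn : n ≤ S.card) (H : Submodule k V)
    (hH : Module.finrank k H = n)
    (havoid : ∀ T ⊆ S, T.card = n → ¬ (T.inf id ≤ H)) :
    InGeneralPosition k V n (insert H S) := by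
  classical
  obtain ⟨hV, hdim, hinf, hpts⟩ := hS
  haveI : FiniteDimensional k V := Module.finite_of_finrank_eq_succ hV
  by_cases hHS : H ∈ S
  · rw [Finset.insert_eq_of_mem hHS]
    exact ⟨hV, hdim, hinf, hpts⟩
  refine ⟨hV, fun K hK => ?_, fun T hT hTc => ?_, fun v hv T hT hvT => ?_⟩
  · rcases Finset.mem_insert.1 hK with rfl | hK
    exacts [hH, hdim K hK]
  · by_cases hHT : H ∈ T
    swap
    · exact hinf T (fun K hK => (Finset.mem_insert.1 (hT hK)).resolve_left (fun h => hHT (h ▸ hK))) hTc
    have hsub : T.erase H ⊆ S := fun K hK =>
      (Finset.mem_insert.1 (hT (Finset.mem_of_mem_erase hK))).resolve_left (Finset.ne_of_mem_erase hK)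
    have hcard : (T.erase H).card + 1 = T.card := Finset.card_erase_add_one hHT
    have hW := hinf (T.erase H) hsub (by omega)
    obtain ⟨T'', h1, h2, h3⟩ := Finset.exists_subsuperset_card_eq hsub (by omega : (T.erase H).card ≤ n) hn
    have hne : ¬ (T.erase H).inf id ≤ H := fun h => havoid T'' h2 h3 ((Finset.inf_mono h1).trans h)
    have hlt : H < (T.erase H).inf id ⊔ H := lt_of_le_of_ne le_sup_right fun h => hne (le_sup_left.trans h.ge)
    have hlt' := Submodule.finrank_lt_finrank_of_lt hlt
    have hle := Submodule.finrank_le ((T.erase H).inf id ⊔ H)
    have hsum := Submodule.finrank_sup_add_finrank_inf_eq ((T.erase H).inf id) H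
    have hT' : T.inf id = (T.erase H).inf id ⊓ H := by
      conv_lhs => rw [← Finset.insert_erase hHT]
      rw [Finset.inf_insert, id_eq, inf_comm]
    rw [hT']
    omega
  · by_cases hHT : H ∈ T
    swap
    · exact hpts v hv T (fun K hK => (Finset.mem_insert.1 (hT hK)).resolve_left (fun h => hHT (h ▸ hK))) hvT
    by_contra hc
    have hsub : T.erase H ⊆ S := fun K hK =>
      (Finset.mem_insert.1 (hT (Finset.mem_of_mem_erase hK))).resolve_left (Finset.ne_of_mem_erase hK)
    have hcard : (T.erase H).card + 1 = T.card := Finset.card_erase_add_one hHT
    obtain ⟨T'', h1, h2⟩ := Finset.exists_subset_card_eq (n := n) (s := T.erase H) (by omega)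
    have hW := hinf T'' (h1.trans hsub) h2.le
    have hvW : Submodule.span k {v} ≤ T''.inf id := Submodule.span_le.2 (Set.singleton_subset_iff.2
      ((Submodule.mem_finsetInf).2 fun K hK => hvT K (Finset.mem_of_mem_erase (h1 hK))))
    have heq := Submodule.eq_of_le_of_finrank_eq hvW (by rw [finrank_span_singleton hv]; omega)
    exact havoid T'' (h1.trans hsub) h2 (heq ▸ Submodule.span_le.2 (Set.singleton_subset_iff.2 (hvT H hHT)))

end Groth.Agent.S13905
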