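import Groth.Statements.S13907
import Groth.Agent.Lib.GrHilb10.Degree
-- import your own Groth.Agent.* helpers here

set_option autoImplicit false
universe u
open ProjGeom

namespace Groth.Agent.S13907

theorem one_le_of_pos {a : WithBot ℕ∞} (h : 0 < a) : ((1 : ℕ) : WithBot ℕ∞) ≤ a := by
  cases a with
  | bot => simp at h
  | coe a => exact_mod_cast Order.one_le_iff_pos.2 (WithBot.coe_pos.1 h)

open GrothLib in
theorem coord_section (k : Type u) [Field k] (n : ℕ) (C : Set (ProjectiveSpectrum (CohB1.polyGrading n k)))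
    (hC : IsClosed C) (hirr : IsIrreducible C) :
    ∃ i : ℕ, i ≤ n ∧
      (C ∩ ProjectiveSpectrum.zeroLocus (CohB1.polyGrading n k)
          ((fun j : Fin (n + 1) => (MvPolynomial.X j : MvPolynomial (Fin (n + 1)) k)) ''
            {j : Fin (n + 1) | 1 ≤ j.val ∧ j.val ≤ i})).Nonempty ∧
      topologicalKrullDim ↥(C ∩ ProjectiveSpectrum.zeroLocus (CohB1.polyGrading n k)
          ((fun j : Fin (n + 1) => (MvPolynomial.X j : MvPolynomial (Fin (n + 1)) k)) ''
            {j : Fin (n + 1) | 1 ≤ j.val ∧ j.val ≤ i})) = 0 := by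
  classical
  let G : ℕ → Set (MvPolynomial (Fin (n + 1)) k) := fun i =>
    (fun j : Fin (n + 1) => (MvPolynomial.X j : MvPolynomial (Fin (n + 1)) k)) '' {j | 1 ≤ j.val ∧ j.val ≤ i}
  let L : ℕ → Set (ProjectiveSpectrum (CohB1.polyGrading n k)) := fun i =>
    C ∩ ProjectiveSpectrum.zeroLocus (CohB1.polyGrading n k) (G i)
  obtain ⟨x, hx⟩ := QuasiSober.sober hirr hC
  have hxC : x ∈ C := hx.mem
  have hmemC : ∀ y, y ∈ C ↔ x ≤ y := fun y => by rw [ProjectiveSpectrum.le_iff_mem_closure, hx.def]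
  -- a point of the section with large closure
  have hpt : ∀ i, (L i).Nonempty → ∀ r : ℕ, (r : WithBot ℕ∞) ≤ topologicalKrullDim (L i) →
      ∃ y ∈ L i, ((r : WithBot ℕ∞) + 1) ≤ ringKrullDim (MvPolynomial (Fin (n + 1)) k ⧸ y.asHomogeneousIdeal.toIdeal) := by
    intro i hne r hr
    obtain ⟨y, hy, hyr⟩ := ProjDim.exists_point_le_dim (hC.inter (ProjectiveSpectrum.isClosed_zeroLocus _ _)) hne r hr
    exact ⟨y, hy, by rw [← ProjDim.dim_closure_add_one]; exact add_le_add hyr le_rfl⟩
  -- the last section is small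
  have hlast : ∀ y ∈ L n, ringKrullDim (MvPolynomial (Fin (n + 1)) k ⧸ y.asHomogeneousIdeal.toIdeal) ≤ 1 := by
    intro y hy
    let φ : Polynomial k →ₐ[k] MvPolynomial (Fin (n + 1)) k ⧸ y.asHomogeneousIdeal.toIdeal :=
      Polynomial.aeval (Ideal.Quotient.mk _ (MvPolynomial.X 0))
    have hs : Function.Surjective φ := by
      intro z
      obtain ⟨z, rfl⟩ := Ideal.Quotient.mk_surjective z
      show Ideal.Quotient.mk _ z ∈ φ.range
      induction z using MvPolynomial.induction_on with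
      | C c => exact ⟨Polynomial.C c, by simp [φ]; rfl⟩
      | add a b ha hb => rw [map_add]; exact add_mem ha hb
      | mul_X a j ha =>
        rw [map_mul]
        refine mul_mem ha ?_
        by_cases hj : j = 0
        · exact ⟨Polynomial.X, by simp [φ, hj]⟩
        · rw [Ideal.Quotient.eq_zero_iff_mem.2
            ((ProjectiveSpectrum.mem_zeroLocus _ _ _).1 hy.2 ⟨j, ⟨Nat.pos_of_ne_zero (fun h => hj (Fin.ext h)), Nat.lt_succ_iff.1 j.2⟩, rfl⟩)]
          exact zero_mem _
    refine (ringKrullDim_le_of_surjective φ.toRingHom hs).trans ?_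
    rw [Polynomial.ringKrullDim_of_isNoetherianRing, ringKrullDim_eq_zero_of_field, zero_add]
  -- descend one step
  have hstep : ∀ i, i < n → (L i).Nonempty → ((1 : ℕ) : WithBot ℕ∞) ≤ topologicalKrullDim (L i) →
      (L (i + 1)).Nonempty := by
    intro i hi hne h1
    obtain ⟨y, hy, hy2⟩ := hpt i hne 1 h1
    let q := y.asHomogeneousIdeal.toIdeal
    let X' : MvPolynomial (Fin (n + 1)) k := MvPolynomial.X ⟨i + 1, by omega⟩
    have hG : ∀ a ∈ G (i + 1), a ∈ G i ∨ a = X' := by
      rintro _ ⟨j, ⟨hj1, hj2⟩, rfl⟩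
      by_cases hj : j.val ≤ i
      · exact Or.inl ⟨j, ⟨hj1, hj⟩, rfl⟩
      · exact Or.inr (congrArg MvPolynomial.X (Fin.ext (show j.val = i + 1 by omega)))
    have hcl : ∀ z, y ≤ z → X' ∈ z.asHomogeneousIdeal.toIdeal → z ∈ L (i + 1) := fun z hz hX =>
      ⟨(hmemC z).2 (((hmemC y).1 hy.1).trans hz), (ProjectiveSpectrum.mem_zeroLocus _ _ _).2 fun a ha => by
        rcases hG a ha with h | rfl
        · exact hz ((ProjectiveSpectrum.mem_zeroLocus _ _ _).1 hy.2 h)
        · exact hX⟩
    by_cases hX : X' ∈ q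
    · exact ⟨y, hcl y le_rfl hX⟩
    have hXh : X'.IsHomogeneous 1 := MvPolynomial.isHomogeneous_X k _
    haveI : q.IsPrime := y.isPrime
    have hqh := y.asHomogeneousIdeal.isHomogeneous
    obtain ⟨q', hq'⟩ := Ideal.nonempty_minimalPrimes (GrHilb10.ne_top_sup_span hqh one_pos hXh)
    haveI := hq'.1.1
    have hd := ProjDim.dim_add_one_eq hX hq'
    have hne' : q' ≠ ProjDim.mIdeal k n := ProjDim.ne_mIdeal_of_one_le (ProjDim.add_one_le_add_one_iff.1 (by
      rw [hd]; exact_mod_cast hy2))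
    let z := ProjDim.mkPt q' (ProjDim.isHomogeneous_minimalPrimes (GrHilb10.isHomogeneous_sup_span hqh hXh) hq') hne'
    exact ⟨z, hcl z (le_sup_left.trans hq'.1.2)
      (hq'.1.2 (Ideal.mem_sup_right (Ideal.mem_span_singleton_self _)))⟩
  have hbot : ∀ i, (L i).Nonempty → 0 ≤ topologicalKrullDim (L i) := by
    intro i hne
    obtain ⟨z, hz⟩ := hne
    exact le_iSup_of_le (RelSeries.singleton _ ⟨closure {(⟨z, hz⟩ : L i)}, isIrreducible_singleton.closure,
      isClosed_closure⟩) le_rfl
  have hgood : ∀ j, j ≤ n → (L (n - j)).Nonempty →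
      ∃ i, i ≤ n ∧ (L i).Nonempty ∧ topologicalKrullDim (L i) = 0 := by
    intro j
    induction j with
    | zero =>
      intro _ hne
      refine ⟨n, le_rfl, hne, le_antisymm ?_ (hbot n hne)⟩
      by_contra h
      have h1 : ((1 : ℕ) : WithBot ℕ∞) ≤ topologicalKrullDim (L n) := one_le_of_pos (not_le.1 h)
      obtain ⟨y, hy, hy2⟩ := hpt n hne 1 h1
      have h2 : (1 + 1 : ℕ) ≤ 1 := by exact_mod_cast hy2.trans (hlast y hy)
      omega
    | succ j ih =>
      intro hj hne
      by_cases h : topologicalKrullDim (L (n - (j + 1))) ≤ 0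
      · exact ⟨_, Nat.sub_le _ _, hne, le_antisymm h (hbot _ hne)⟩
      · have := hstep (n - (j + 1)) (by omega) hne (one_le_of_pos (not_le.1 h))
        rw [show n - (j + 1) + 1 = n - j by omega] at this
        exact ih (by omega) this
  refine hgood n le_rfl ⟨x, hxC, ?_⟩
  rw [Nat.sub_self, ProjectiveSpectrum.mem_zeroLocus]
  rintro _ ⟨j, ⟨h1, h2⟩, rfl⟩
  omega

/-- Over an algebraically closed field k, let C be a nonempty irreducible closed subset of the
underlying space of projective n-space with homogeneous coordinates x_0, …, x_n, and for i ≤ n let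
L_i be the linear subspace where x_1, …, x_i vanish. Then there is an index i ≤ n with C ∩ L_i
nonempty and of topological Krull dimension zero. -/
theorem result (k : Type u) [Field k]
    [IsAlgClosed k] (n : ℕ) (C : Set (ProjectiveSpectrum (CohB1.polyGrading n k)))
    (hC : IsClosed C) (hirr : IsIrreducible C) :
    ∃ i : ℕ, i ≤ n ∧
      (C ∩ ProjectiveSpectrum.zeroLocus (CohB1.polyGrading n k)
          ((fun j : Fin (n + 1) => (MvPolynomial.X j : MvPolynomial (Fin (n + 1)) k)) ''
            {j : Fin (n + 1) | 1 ≤ j.val ∧ j.val ≤ i})).Nonempty ∧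
      topologicalKrullDim ↥(C ∩ ProjectiveSpectrum.zeroLocus (CohB1.polyGrading n k)
          ((fun j : Fin (n + 1) => (MvPolynomial.X j : MvPolynomial (Fin (n + 1)) k)) ''
            {j : Fin (n + 1) | 1 ≤ j.val ∧ j.val ≤ i})) = 0 :=
  coord_section k n C hC hirr

end Groth.Agent.S13907
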