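import Groth.Statements.S1391
import Groth.Agent.Lib.FlatFP.BaseChangeAt


set_option autoImplicit false
set_option backward.isDefEq.respectTransparency false
set_option backward.isDefEq.respectTransparency.types false
universe u
open FlatMor

namespace Groth.Agent.S1391

open AlgebraicGeometry CategoryTheory Limits in
/-- In a cartesian square X' = S' ×_S X with projections g' : X' → X and f' : X' → S', if a
quasi-coherent O_X-module F is flat over S at the image of a point x' of X', then the pullback of F
to X' is flat over S' at x'. -/
theorem result {X S X' S' : Scheme.{u}} (f : X ⟶ S) (f' : X' ⟶ S') (g' : X' ⟶ X) (g : S' ⟶ S) (hc : IsPullback g' f' f g)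
    (F : X.Modules) (hF : Coh.IsQCoh F) (x' : X') (h : FlatMod.IsFlatOverAt f F (g' x')) :
    FlatMod.IsFlatOverAt f' ((Scheme.Modules.pullback g').obj F) x' := by
  --- body
  haveI : F.IsQuasicoherent := hF
  exact GrothLib.FlatFP.isFlatOverAt_baseChange f f' g' g hc F x' h

end Groth.Agent.S1391
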