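import Groth.Statements.S13911
import Mathlib

set_option autoImplicit false
set_option linter.all false
universe u
open PlaneConic

namespace Groth.Agent.S13911

/-- For an algebraically closed field k of characteristic zero, a nonzero symmetric 3 × 3 matrix Q over
k and the ternary quadratic form f = Σ Q_ij X_i X_j in k[X_0, X_1, X_2] (the equation of a plane
conic): (1) f is irreducible iff det Q ≠ 0; (2) the conic has a singular point, that is a nonzero
vector at which all partial derivatives of f vanish, iff det Q = 0 (so smooth conics are exactly the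
irreducible ones); (3) f is the product of two linearly independent linear forms (two distinct
lines) iff rank Q = 2; (4) f is the square of a linear form (a double line) iff rank Q = 1. -/
theorem result (k : Type u) [Field k] [IsAlgClosed k] [CharZero k]
    (Q : Matrix (Fin 3) (Fin 3) k) (hQ : Q.IsSymm) (hQ0 : Q ≠ 0) (f : MvPolynomial (Fin 3) k)
    (hf : f = ∑ i : Fin 3, ∑ j : Fin 3, Q i j • (MvPolynomial.X i * MvPolynomial.X j)) :
    (Irreducible f ↔ Q.det ≠ 0) ∧
    ((∃ u : Fin 3 → k, u ≠ 0 ∧ ∀ i : Fin 3, MvPolynomial.eval u (MvPolynomial.pderiv i f) = 0) ↔ Q.det = 0) ∧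
    ((∃ a b : Fin 3 → k, LinearIndependent k ![a, b] ∧
        f = (∑ i : Fin 3, a i • MvPolynomial.X i) * (∑ i : Fin 3, b i • MvPolynomial.X i)) ↔ Q.rank = 2) ∧
    ((∃ a : Fin 3 → k, f = (∑ i : Fin 3, a i • MvPolynomial.X i) ^ 2) ↔ Q.rank = 1) := by
  classical
  subst hf
  set f := ∑ i : Fin 3, ∑ j : Fin 3, Q i j • (MvPolynomial.X i * MvPolynomial.X j : MvPolynomial (Fin 3) k) with hf
  have hev : ∀ x, MvPolynomial.eval x f = x ⬝ᵥ Q.mulVec x := by
    intro x
    simp [hf, dotProduct, Matrix.mulVec, Finset.mul_sum, mul_comm, mul_assoc, mul_left_comm]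
  have hsym : ∀ x y, x ⬝ᵥ Q.mulVec y = y ⬝ᵥ Q.mulVec x := by
    intro x y
    rw [Matrix.dotProduct_mulVec, ← Matrix.mulVec_transpose, hQ.eq, dotProduct_comm]
  have hlin : ∀ (a x : Fin 3 → k), MvPolynomial.eval x (∑ i : Fin 3, a i • MvPolynomial.X i) = a ⬝ᵥ x := by
    intro a x; simp [dotProduct]
  -- product of two linear forms as a matrix condition
  have hprod : ∀ a b : Fin 3 → k,
      f = (∑ i : Fin 3, a i • MvPolynomial.X i) * (∑ i : Fin 3, b i • MvPolynomial.X i) ↔
        ∀ x, (2 : k) • Q.mulVec x = (b ⬝ᵥ x) • a + (a ⬝ᵥ x) • b := by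
    intro a b
    constructor
    · intro h x
      have he : ∀ z, z ⬝ᵥ Q.mulVec z = (a ⬝ᵥ z) * (b ⬝ᵥ z) := fun z => by
        rw [← hev, h, map_mul, hlin, hlin]
      funext i
      have h3 := he (x + Pi.single i 1)
      simp only [Matrix.mulVec_add, add_dotProduct, dotProduct_add] at h3
      rw [he x, he (Pi.single i 1), hsym x (Pi.single i 1)] at h3
      simp only [single_dotProduct, one_mul, dotProduct_single, mul_one] at h3
      simp only [Pi.smul_apply, smul_eq_mul, Pi.add_apply]
      linear_combination h3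
    · intro h
      refine MvPolynomial.funext fun x => ?_
      rw [hev, map_mul, hlin, hlin]
      have := congrArg (fun z => x ⬝ᵥ z) (h x)
      simp only [dotProduct_smul, dotProduct_add, smul_eq_mul] at this
      rw [dotProduct_comm x a, dotProduct_comm x b] at this
      linear_combination this / 2
  have hrk : ∀ a b : Fin 3 → k, (∀ x, (2 : k) • Q.mulVec x = (b ⬝ᵥ x) • a + (a ⬝ᵥ x) • b) → Q.rank ≤ 2 := by
    intro a b h
    have hle : LinearMap.range Q.mulVecLin ≤ Submodule.span k (Set.range ![a, b]) := by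
      rintro _ ⟨x, rfl⟩
      have : Q.mulVec x = ((b ⬝ᵥ x) / 2) • a + ((a ⬝ᵥ x) / 2) • b := by
        rw [← inv_smul_smul₀ (two_ne_zero (α := k)) (Q.mulVec x), h x, smul_add, smul_smul, smul_smul,
          ← div_eq_inv_mul, ← div_eq_inv_mul]
      rw [Matrix.mulVecLin_apply, this]
      exact add_mem (Submodule.smul_mem _ _ (Submodule.subset_span ⟨0, rfl⟩))
        (Submodule.smul_mem _ _ (Submodule.subset_span ⟨1, rfl⟩))
    exact (Submodule.finrank_mono hle).trans ((finrank_range_le_card _).trans (by simp))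
  have hsq_rk : ∀ c : Fin 3 → k, (∀ x, Q.mulVec x = (c ⬝ᵥ x) • c) → Q.rank ≤ 1 := by
    intro c h
    have hle : LinearMap.range Q.mulVecLin ≤ Submodule.span k {c} := by
      rintro _ ⟨x, rfl⟩
      rw [Matrix.mulVecLin_apply, h x]
      exact Submodule.smul_mem _ _ (Submodule.mem_span_singleton_self c)
    exact (Submodule.finrank_mono hle).trans ((finrank_span_le_card _).trans (by simp))
  have hrk0 : 1 ≤ Q.rank := by
    rw [Nat.one_le_iff_ne_zero]
    intro h
    have h1 : LinearMap.range Q.mulVecLin = ⊥ := Submodule.finrank_eq_zero.mp h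
    apply hQ0
    ext i j
    have h2 : Q.mulVecLin (Pi.single j 1) = 0 := by
      rw [← Submodule.mem_bot k, ← h1]; exact ⟨_, rfl⟩
    simpa using congrFun h2 i
  -- splitting off a square
  have hsplit : ∀ P : Matrix (Fin 3) (Fin 3) k, P.IsSymm → P ≠ 0 →
      ∃ c : Fin 3 → k, ∃ P' : Matrix (Fin 3) (Fin 3) k, P'.IsSymm ∧
        (∀ x, P.mulVec x = (c ⬝ᵥ x) • c + P'.mulVec x) ∧ P'.rank < P.rank := by
    intro P hP hP0
    have hPsym : ∀ x y, x ⬝ᵥ P.mulVec y = y ⬝ᵥ P.mulVec x := by
      intro x y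
      rw [Matrix.dotProduct_mulVec, ← Matrix.mulVec_transpose, hP.eq, dotProduct_comm]
    obtain ⟨u, hu⟩ : ∃ u, u ⬝ᵥ P.mulVec u ≠ 0 := by
      by_contra hall
      push Not at hall
      apply hP0
      ext i j
      have h3 := hall (Pi.single i 1 + Pi.single j 1)
      simp only [Matrix.mulVec_add, add_dotProduct, dotProduct_add, hall, zero_add, add_zero] at h3
      rw [hPsym (Pi.single j 1) (Pi.single i 1)] at h3
      simp only [single_dotProduct, one_mul, Matrix.mulVec_single_one, Matrix.col_apply] at h3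
      rw [Matrix.zero_apply]
      linear_combination h3 / 2
    obtain ⟨t, ht⟩ := IsAlgClosed.exists_pow_nat_eq (u ⬝ᵥ P.mulVec u)⁻¹ (show 0 < 2 by norm_num)
    have hc : ∀ x, P.mulVec x = ((t • P.mulVec u) ⬝ᵥ x) • (t • P.mulVec u) +
        (P - Matrix.vecMulVec (t • P.mulVec u) (t • P.mulVec u)).mulVec x := by
      intro x
      rw [Matrix.sub_mulVec, Matrix.vecMulVec_mulVec, op_smul_eq_smul]
      abel
    refine ⟨t • P.mulVec u, _, ?_, hc, ?_⟩
    · refine Matrix.IsSymm.sub hP ?_
      ext i j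
      simp [Matrix.vecMulVec_apply]; ring
    · have hku : (P - Matrix.vecMulVec (t • P.mulVec u) (t • P.mulVec u)).mulVec u = 0 := by
        rw [Matrix.sub_mulVec, Matrix.vecMulVec_mulVec, op_smul_eq_smul, smul_dotProduct, smul_smul,
          smul_eq_mul, dotProduct_comm, mul_comm, ← mul_assoc, ← sq, ht, inv_mul_cancel₀ hu, one_smul, sub_self]
      have hker : LinearMap.ker P.mulVecLin <
          LinearMap.ker (P - Matrix.vecMulVec (t • P.mulVec u) (t • P.mulVec u)).mulVecLin := by
        rw [SetLike.lt_iff_le_and_exists]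
        refine ⟨fun x hx => ?_, u, hku, fun hu' => hu ?_⟩
        · rw [LinearMap.mem_ker, Matrix.mulVecLin_apply] at hx ⊢
          rw [Matrix.sub_mulVec, Matrix.vecMulVec_mulVec, op_smul_eq_smul, hx, smul_dotProduct,
            dotProduct_comm, hPsym x u, hx]
          simp
        · rw [show P.mulVec u = 0 from hu', dotProduct_zero]
      have h1 := Submodule.finrank_lt_finrank_of_lt hker
      have h2 := LinearMap.finrank_range_add_finrank_ker P.mulVecLin
      have h3 := LinearMap.finrank_range_add_finrank_ker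
        (P - Matrix.vecMulVec (t • P.mulVec u) (t • P.mulVec u)).mulVecLin
      change Module.finrank k (LinearMap.range _) < Module.finrank k (LinearMap.range _)
      linarith
  have hrank0 : ∀ P : Matrix (Fin 3) (Fin 3) k, P.rank = 0 → ∀ x, P.mulVec x = 0 := by
    intro P h x
    have h1 : LinearMap.range P.mulVecLin = ⊥ := Submodule.finrank_eq_zero.mp h
    rw [← Matrix.mulVecLin_apply, ← Submodule.mem_bot k, ← h1]
    exact ⟨x, rfl⟩
  obtain ⟨c₁, Q', hQ', hQc, hlt⟩ := hsplit Q hQ hQ0
  have hone : Q.rank ≤ 1 → ∀ x, Q.mulVec x = (c₁ ⬝ᵥ x) • c₁ := by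
    intro h x
    rw [hQc x, hrank0 Q' (by omega) x, add_zero]
  have hsq : ∀ a : Fin 3 → k, f = (∑ i : Fin 3, a i • MvPolynomial.X i) ^ 2 ↔ ∀ x, Q.mulVec x = (a ⬝ᵥ x) • a := by
    intro a
    rw [sq, hprod]
    refine forall_congr' fun x => ?_
    rw [← two_smul k ((a ⬝ᵥ x) • a)]
    exact ⟨fun h => smul_right_injective _ two_ne_zero h, fun h => by rw [h]⟩
  have htwo : Q.rank ≤ 2 → ∃ a b : Fin 3 → k, ∀ x, (2 : k) • Q.mulVec x = (b ⬝ᵥ x) • a + (a ⬝ᵥ x) • b := by
    intro h
    obtain ⟨i₀, hi₀⟩ := IsAlgClosed.exists_pow_nat_eq (-1 : k) (show 0 < 2 by norm_num)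
    obtain ⟨c₂, hc₂⟩ : ∃ c₂ : Fin 3 → k, ∀ x, Q'.mulVec x = (c₂ ⬝ᵥ x) • c₂ := by
      by_cases hQ'0 : Q' = 0
      · exact ⟨0, fun x => by simp [hQ'0]⟩
      · obtain ⟨c, P, hP, hPc, hPlt⟩ := hsplit Q' hQ' hQ'0
        exact ⟨c, fun x => by rw [hPc x, hrank0 P (by omega) x, add_zero]⟩
    refine ⟨c₁ + i₀ • c₂, c₁ - i₀ • c₂, fun x => ?_⟩
    rw [hQc x, hc₂ x]
    funext j
    simp only [Pi.smul_apply, Pi.add_apply, Pi.sub_apply, smul_eq_mul, add_dotProduct, sub_dotProduct,
      smul_dotProduct]
    linear_combination (2 * (c₂ ⬝ᵥ x) * c₂ j) * hi₀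
  have hdet : Q.det = 0 ↔ Q.rank ≤ 2 := by
    constructor
    · intro h
      obtain ⟨v, hv, hv0⟩ := Matrix.exists_mulVec_eq_zero_iff.mpr h
      have h1 : LinearMap.ker Q.mulVecLin ≠ ⊥ := by
        rw [Submodule.ne_bot_iff]; exact ⟨v, hv0, hv⟩
      have h2 := LinearMap.finrank_range_add_finrank_ker Q.mulVecLin
      have h3 : 1 ≤ Module.finrank k (LinearMap.ker Q.mulVecLin) := Submodule.one_le_finrank_iff.mpr h1
      have h4 : Module.finrank k (Fin 3 → k) = 3 := by simp
      change Module.finrank k (LinearMap.range _) ≤ 2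
      linarith
    · intro h
      by_contra h0
      have := Matrix.rank_of_isUnit Q ((Matrix.isUnit_iff_isUnit_det Q).mpr (isUnit_iff_ne_zero.mpr h0))
      rw [Fintype.card_fin] at this
      omega
  have hf0 : f ≠ 0 := by
    intro h
    have := (hprod 0 0).mp (by simp [h])
    apply hQ0
    ext i j
    simpa using congrFun (this (Pi.single j 1)) i
  have hfh : f.IsHomogeneous 2 := by
    refine MvPolynomial.IsHomogeneous.sum _ _ _ fun i _ => MvPolynomial.IsHomogeneous.sum _ _ _ fun j _ => ?_
    rw [MvPolynomial.smul_eq_C_mul]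
    simpa using (MvPolynomial.isHomogeneous_C _ (Q i j)).mul
      ((MvPolynomial.isHomogeneous_X k i).mul (MvPolynomial.isHomogeneous_X k j))
  refine ⟨⟨fun hirr h => ?_, fun hd => ?_⟩, ?_, ⟨?_, fun h => ?_⟩, ⟨fun ⟨a, ha⟩ => ?_, fun h => ?_⟩⟩
  · -- reducible when the determinant vanishes
    obtain ⟨a, b, hab⟩ := htwo (hdet.mp h)
    have hh : ∀ a : Fin 3 → k, (∑ i : Fin 3, a i • (MvPolynomial.X i : MvPolynomial (Fin 3) k)).IsHomogeneous 1 :=
      fun a => MvPolynomial.IsHomogeneous.sum _ _ _ fun i _ => by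
        rw [MvPolynomial.smul_eq_C_mul]; exact MvPolynomial.isHomogeneous_C_mul_X _ _
    have hfe := (hprod a b).mpr hab
    have hnu : ∀ a : Fin 3 → k, ¬ IsUnit (∑ i : Fin 3, a i • (MvPolynomial.X i : MvPolynomial (Fin 3) k)) := by
      intro a hu
      have := hu.map (MvPolynomial.eval (0 : Fin 3 → k))
      rw [hlin, dotProduct_zero] at this
      exact not_isUnit_zero this
    exact (hirr.isUnit_or_isUnit hfe).elim (hnu a) (hnu b)
  · refine irreducible_iff.mpr ⟨fun hu => ?_, fun p q hpq => ?_⟩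
    · have := hu.map (MvPolynomial.eval (0 : Fin 3 → k))
      rw [hev, zero_dotProduct] at this
      exact not_isUnit_zero this
    · by_contra hnu
      push Not at hnu
      have hp0 : p ≠ 0 := fun h => hf0 (by rw [hpq, h, zero_mul])
      have hq0 : q ≠ 0 := fun h => hf0 (by rw [hpq, h, mul_zero])
      have hdeg : p.totalDegree + q.totalDegree = 2 := by
        rw [← MvPolynomial.totalDegree_mul_of_isDomain hp0 hq0, ← hpq]
        exact hfh.totalDegree hf0
      have hpos : ∀ r : MvPolynomial (Fin 3) k, r ≠ 0 → ¬ IsUnit r → r.totalDegree ≠ 0 := by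
        intro r hr hru h
        obtain ⟨z, hz⟩ : ∃ z, r = MvPolynomial.C z := ⟨_, MvPolynomial.totalDegree_eq_zero_iff_eq_C.mp h⟩
        exact hru (hz ▸ IsUnit.map MvPolynomial.C (isUnit_iff_ne_zero.mpr fun e => hr (by rw [hz, e, map_zero])))
      have haff : ∀ r : MvPolynomial (Fin 3) k, r.totalDegree ≤ 1 →
          ∃ r₀ : k, ∃ a : Fin 3 → k, ∀ x, MvPolynomial.eval x r = r₀ + a ⬝ᵥ x := by
        intro r hr
        suffices ∃ r₀ : k, ∃ a : Fin 3 → k, r = MvPolynomial.C r₀ + ∑ i : Fin 3, a i • MvPolynomial.X i by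
          obtain ⟨r₀, a, e⟩ := this
          exact ⟨r₀, a, fun x => by rw [e, map_add, hlin, MvPolynomial.eval_C]⟩
        refine ⟨r.coeff 0, fun i => r.coeff (Finsupp.single i 1), ?_⟩
        ext m
        rw [MvPolynomial.coeff_add, MvPolynomial.coeff_sum, MvPolynomial.coeff_C]
        simp only [MvPolynomial.coeff_smul, MvPolynomial.coeff_X', smul_eq_mul, mul_ite, mul_one, mul_zero]
        by_cases hm : m = 0
        · subst hm; simp [Finsupp.single_eq_zero]
        · rw [if_neg (Ne.symm hm), zero_add]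
          by_cases h1 : ∃ i, Finsupp.single i 1 = m
          · obtain ⟨i, rfl⟩ := h1
            simp [Finsupp.single_left_inj]
          · push Not at h1
            rw [Finset.sum_eq_zero fun i _ => if_neg (h1 i)]
            by_contra hne
            have hle := MvPolynomial.le_totalDegree (MvPolynomial.mem_support_iff.mpr hne)
            have hd1 : m.degree ≤ 1 := le_trans hle hr
            obtain ⟨i, hi⟩ := Finsupp.support_nonempty_iff.mpr hm
            have hi1 : Finsupp.single i 1 ≤ m := by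
              rw [Finsupp.single_le_iff]; exact Nat.one_le_iff_ne_zero.mpr (Finsupp.mem_support_iff.mp hi)
            have hs : Finsupp.single i 1 + (m - Finsupp.single i 1) = m := add_tsub_cancel_of_le hi1
            have hz : (m - Finsupp.single i 1).degree = 0 := by
              have := congrArg Finsupp.degree hs
              rw [map_add, Finsupp.degree_single] at this
              omega
            rw [(Finsupp.degree_eq_zero_iff _).mp hz, add_zero] at hs
            exact h1 i hs
      have h1 := hpos p hp0 hnu.1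
      have h2 := hpos q hq0 hnu.2
      obtain ⟨p₀, a, ha⟩ := haff p (by omega)
      obtain ⟨q₀, b, hb⟩ := haff q (by omega)
      have hfe : ∀ x, x ⬝ᵥ Q.mulVec x = (p₀ + a ⬝ᵥ x) * (q₀ + b ⬝ᵥ x) := fun x => by
        rw [← hev, hpq, map_mul, ha, hb]
      have hp0q0 : p₀ * q₀ = 0 := by simpa using (hfe 0).symm
      have hlinz : ∀ x, p₀ * (b ⬝ᵥ x) + q₀ * (a ⬝ᵥ x) = 0 := by
        intro x
        have e1 := hfe x
        have e2 := hfe (-x)
        simp only [Matrix.mulVec_neg, neg_dotProduct, dotProduct_neg, neg_neg] at e2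
        linear_combination (e2 - e1) / 2
      have hz : ∀ x, p₀ * MvPolynomial.eval x q = 0 := by
        intro x
        rcases mul_eq_zero.mp hp0q0 with h | h
        · simp [h]
        · have := hlinz x
          rw [h, zero_mul, add_zero] at this
          rw [hb, mul_add, this, h]; ring
      have hz' : ∀ x, q₀ * MvPolynomial.eval x p = 0 := by
        intro x
        rcases mul_eq_zero.mp hp0q0 with h | h
        · have := hlinz x
          rw [h, zero_mul, zero_add] at this
          rw [ha, mul_add, this, h]; ring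
        · simp [h]
      have e0 : p₀ = 0 := by
        by_contra hne
        exact hq0 (MvPolynomial.funext fun x => by simpa using (mul_eq_zero.mp (hz x)).resolve_left hne)
      have e1 : q₀ = 0 := by
        by_contra hne
        exact hp0 (MvPolynomial.funext fun x => by simpa using (mul_eq_zero.mp (hz' x)).resolve_left hne)
      refine hd (hdet.mpr (hrk a b ((hprod a b).mp (MvPolynomial.funext fun x => ?_))))
      rw [hev, hfe, e0, e1, map_mul, hlin, hlin, zero_add, zero_add]
  · have hpd : ∀ (u : Fin 3 → k) (i : Fin 3), MvPolynomial.eval u (MvPolynomial.pderiv i f) = 2 * Q.mulVec u i := by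
      intro u i
      have hs : ∀ a b, Q a b = Q b a := fun a b => hQ.apply b a
      simp [hf, Fin.sum_univ_three, MvPolynomial.pderiv_X, Pi.single_apply, Matrix.mulVec, dotProduct]
      fin_cases i <;> simp [hs 1 0, hs 2 0, hs 2 1] <;> ring
    constructor
    · rintro ⟨u, hu, hu'⟩
      exact Matrix.exists_mulVec_eq_zero_iff.mp ⟨u, hu, funext fun i => by simpa [hpd] using hu' i⟩
    · intro h
      obtain ⟨u, hu, hu'⟩ := Matrix.exists_mulVec_eq_zero_iff.mpr h
      exact ⟨u, hu, fun i => by rw [hpd, congrFun hu' i]; simp⟩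
  · rintro ⟨a, b, hab, he⟩
    have h := (hprod a b).mp he
    have h2 := hrk a b h
    by_contra hne
    have hc := hone (by omega)
    obtain ⟨x₀, hx₀⟩ : ∃ x, a ⬝ᵥ x ≠ 0 := by
      by_contra hall; push Not at hall
      have : a = 0 := funext fun i => by simpa using hall (Pi.single i 1)
      exact hab.ne_zero 0 this
    have hcx : c₁ ⬝ᵥ x₀ ≠ 0 := by
      intro h0
      have e := h x₀
      rw [hc x₀, h0, zero_smul, smul_zero] at e
      have := (LinearIndependent.pair_iff.mp hab _ _ e.symm).2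
      exact hx₀ this
    -- c₁ lies in the span of a and b
    obtain ⟨α, β, hαβ⟩ : ∃ α β : k, c₁ = α • a + β • b := by
      refine ⟨(2 * (c₁ ⬝ᵥ x₀))⁻¹ * (b ⬝ᵥ x₀), (2 * (c₁ ⬝ᵥ x₀))⁻¹ * (a ⬝ᵥ x₀), ?_⟩
      rw [mul_smul, mul_smul, ← smul_add, ← h x₀, hc x₀, smul_smul (2 : k), inv_smul_smul₀ (mul_ne_zero two_ne_zero hcx)]
    have hx : ∀ x, b ⬝ᵥ x = 2 * (c₁ ⬝ᵥ x) * α ∧ a ⬝ᵥ x = 2 * (c₁ ⬝ᵥ x) * β := by
      intro x
      have e := h x
      rw [hc x] at e
      conv_lhs at e => rw [hαβ]
      have e' : (2 * (c₁ ⬝ᵥ x) * α - b ⬝ᵥ x) • a + (2 * (c₁ ⬝ᵥ x) * β - a ⬝ᵥ x) • b = 0 := by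
        rw [← hαβ] at e
        rw [sub_smul, sub_smul, mul_smul, mul_smul]
        rw [← sub_eq_zero] at e
        rw [← e, hαβ]; module
      obtain ⟨e1, e2⟩ := LinearIndependent.pair_iff.mp hab _ _ e'
      exact ⟨(sub_eq_zero.mp e1).symm, (sub_eq_zero.mp e2).symm⟩
    have hb : b = (2 * α) • c₁ := funext fun i => by
      have := (hx (Pi.single i 1)).1
      simp only [dotProduct_single, mul_one] at this
      simp only [Pi.smul_apply, smul_eq_mul]; linear_combination this
    have ha : a = (2 * β) • c₁ := funext fun i => by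
      have := (hx (Pi.single i 1)).2
      simp only [dotProduct_single, mul_one] at this
      simp only [Pi.smul_apply, smul_eq_mul]; linear_combination this
    obtain ⟨e1, e2⟩ := LinearIndependent.pair_iff.mp hab (2 * α) (-(2 * β)) (by
      rw [ha, hb]; module)
    have : a = 0 := by rw [ha, neg_eq_zero.mp e2, zero_smul]
    exact hab.ne_zero 0 this
  · obtain ⟨a, b, hab⟩ := htwo h.le
    refine ⟨a, b, ?_, (hprod a b).mpr hab⟩
    by_contra hdep
    have : Q.rank ≤ 1 := by
      obtain ⟨c, hc⟩ : ∃ c, a ∈ Submodule.span k {c} ∧ b ∈ Submodule.span k {c} := by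
        by_cases ha : a = 0
        · exact ⟨b, by simp [ha], Submodule.mem_span_singleton_self b⟩
        · refine ⟨a, Submodule.mem_span_singleton_self a, ?_⟩
          by_contra hb
          apply hdep
          rw [LinearIndependent.pair_iff' ha]
          exact fun z e => hb (Submodule.mem_span_singleton.mpr ⟨z, e⟩)
      have hle : LinearMap.range Q.mulVecLin ≤ Submodule.span k {c} := by
        rintro _ ⟨x, rfl⟩
        rw [Matrix.mulVecLin_apply, ← inv_smul_smul₀ (two_ne_zero (α := k)) (Q.mulVec x), hab x]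
        exact Submodule.smul_mem _ _ (add_mem (Submodule.smul_mem _ _ hc.1) (Submodule.smul_mem _ _ hc.2))
      exact (Submodule.finrank_mono hle).trans ((finrank_span_le_card _).trans (by simp))
    omega
  · exact le_antisymm (hsq_rk a ((hsq a).mp ha)) hrk0
  · exact ⟨c₁, (hsq c₁).mpr (hone h.le)⟩

end Groth.Agent.S13911
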