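import Groth.Statements.S13912
import Mathlib.Algebra.MvPolynomial.Funext


set_option autoImplicit false
set_option linter.all false
universe u
open PlaneConic

namespace Groth.Agent.S13912

/-- Over an algebraically closed field k of characteristic zero, for a 2 × 2 matrix M of linear forms in
k[X_0, X_1, X_2] (entries homogeneous of degree 1, zero allowed), det M is a product of two linear
forms if and only if M can be brought by invertible scalar row and column operations g M h, with g,
h in GL_2(k), to a matrix with zero upper-right entry. (The published statement concerns matrices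
with nonzero determinant; this row also allows determinant zero, where both sides hold.) -/
theorem result (k : Type u) [Field k] [IsAlgClosed k] [CharZero k]
    (M : Matrix (Fin 2) (Fin 2) (MvPolynomial (Fin 3) k)) (hM : ∀ a b : Fin 2, (M a b).IsHomogeneous 1) :
    (∃ l₁ l₂ : MvPolynomial (Fin 3) k, l₁.IsHomogeneous 1 ∧ l₂.IsHomogeneous 1 ∧ M.det = l₁ * l₂) ↔
    ∃ g h : GL (Fin 2) k,
      ((MvPolynomial.C : k →+* MvPolynomial (Fin 3) k).mapMatrix g.val * M *
        (MvPolynomial.C : k →+* MvPolynomial (Fin 3) k).mapMatrix h.val) 0 1 = 0 := by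
  classical
  constructor
  · rintro ⟨l₁, l₂, hl₁, hl₂, hdet⟩
    have hlin : ∀ p : MvPolynomial (Fin 3) k, p.IsHomogeneous 1 →
        ∃ c : Fin 3 → k, p = ∑ i, MvPolynomial.C (c i) * MvPolynomial.X i := by
      intro p hp
      have h : p ∈ Submodule.span k (Set.range (MvPolynomial.X : Fin 3 → MvPolynomial (Fin 3) k)) := by
        rw [← MvPolynomial.homogeneousSubmodule_one_eq_span_X]; exact hp
      obtain ⟨c, hc⟩ := Submodule.mem_span_range_iff_exists_fun k |>.1 h
      exact ⟨c, by rw [← hc]; simp [MvPolynomial.smul_eq_C_mul]⟩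
    let fn : (Fin 3 → k) → Module.Dual k (Fin 3 → k) := fun c => ∑ i, c i • LinearMap.proj i
    have hfn : ∀ c x, fn c x = MvPolynomial.eval x (∑ i, MvPolynomial.C (c i) * MvPolynomial.X i) := by
      intro c x; simp [fn]
    choose c hc using fun i j => hlin (M i j) (hM i j)
    obtain ⟨e₁, he₁⟩ := hlin l₁ hl₁
    have hev : ∀ i j x, fn (c i j) x = MvPolynomial.eval x (M i j) := fun i j x => by rw [hfn, ← hc]
    have hprop : ∀ (φ f : Module.Dual k (Fin 3 → k)) (p₀ : Fin 3 → k), φ p₀ = 1 →
        (∀ x, φ x = 0 → f x = 0) → ∀ x, f x = f p₀ * φ x := by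
      intro φ f p₀ h1 h x
      have := h (x - φ x • p₀) (by simp [h1])
      simp [sub_eq_zero] at this
      rw [this, mul_comm]
    -- a functional on whose kernel the determinant vanishes
    obtain ⟨φ, hφ0, hφ⟩ : ∃ φ : Module.Dual k (Fin 3 → k), φ ≠ 0 ∧
        ∀ x, φ x = 0 → fn (c 0 0) x * fn (c 1 1) x = fn (c 0 1) x * fn (c 1 0) x := by
      have hd : ∀ x, fn (c 0 0) x * fn (c 1 1) x - fn (c 0 1) x * fn (c 1 0) x =
          fn e₁ x * MvPolynomial.eval x l₂ := by
        intro x
        rw [hev, hev, hev, hev, hfn, ← he₁, ← map_mul, ← map_mul, ← map_mul, ← map_sub, ← hdet,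
          Matrix.det_fin_two]
      by_cases h : fn e₁ = 0
      · refine ⟨LinearMap.proj 0, fun h0 => ?_, fun x _ => sub_eq_zero.1 (by rw [hd, h]; simp)⟩
        simpa using LinearMap.congr_fun h0 (Pi.single 0 1)
      · exact ⟨fn e₁, h, fun x hx => sub_eq_zero.1 (by rw [hd, hx, zero_mul])⟩
    obtain ⟨x₀, hx₀⟩ : ∃ x₀, φ x₀ = 1 := by
      obtain ⟨y, hy⟩ : ∃ y, φ y ≠ 0 := by
        by_contra hcon; push Not at hcon; exact hφ0 (LinearMap.ext hcon)
      exact ⟨(φ y)⁻¹ • y, by simp [hy]⟩
    -- one of two functionals vanishes on a subspace when the product does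
    have hor : ∀ (K : Submodule k (Fin 3 → k)) (f g : Module.Dual k (Fin 3 → k)),
        (∀ x ∈ K, f x * g x = 0) → (∀ x ∈ K, f x = 0) ∨ (∀ x ∈ K, g x = 0) := by
      intro K f g h
      by_contra hcon
      simp only [not_or, not_forall] at hcon
      obtain ⟨⟨x, hx, hfx⟩, ⟨y, hy, hgy⟩⟩ := hcon
      have h1 : g x = 0 := (mul_eq_zero.1 (h x hx)).resolve_left hfx
      have h2 : f y = 0 := (mul_eq_zero.1 (h y hy)).resolve_right hgy
      have := h (x + y) (K.add_mem hx hy)
      simp [h1, h2, hfx, hgy] at this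
    -- rank at most one on the kernel
    have hrank : (∃ u : Fin 2 → k, u ≠ 0 ∧ ∀ j x, φ x = 0 → u 0 * fn (c 0 j) x + u 1 * fn (c 1 j) x = 0) ∨
        (∃ v : Fin 2 → k, v ≠ 0 ∧ ∀ i x, φ x = 0 → v 0 * fn (c i 0) x + v 1 * fn (c i 1) x = 0) := by
      by_cases ha : ∀ x, φ x = 0 → fn (c 0 0) x = 0
      · rcases hor (LinearMap.ker φ) (fn (c 0 1)) (fn (c 1 0))
          (fun x hx => by rw [← hφ x hx, ha x hx, zero_mul]) with hb | hb
        · left
          refine ⟨![1, 0], fun h => one_ne_zero (congrFun h 0), fun j x hx => ?_⟩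
          fin_cases j
          · simp [ha x hx]
          · simp [hb x hx]
        · right
          refine ⟨![1, 0], fun h => one_ne_zero (congrFun h 0), fun i x hx => ?_⟩
          fin_cases i
          · simp [ha x hx]
          · simp [hb x hx]
      · simp only [not_forall] at ha
        obtain ⟨y, hy, hay⟩ := ha
        have hscale : fn (c 0 0) ((fn (c 0 0) y)⁻¹ • y) = 1 := by simp [hay]
        set p := (fn (c 0 0) y)⁻¹ • y with hp
        have hpk : φ p = 0 := by simp [hp, hy]
        have hsplit : ∀ f : Module.Dual k (Fin 3 → k),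
            (∀ x, φ x = 0 → fn (c 0 0) x = 0 → f x = 0) → ∀ x, φ x = 0 → f x = f p * fn (c 0 0) x := by
          intro f h x hx
          have := h (x - fn (c 0 0) x • p) (by simp [hx, hpk]) (by simp [hscale])
          simp [sub_eq_zero] at this
          rw [this, mul_comm]
        rcases hor (LinearMap.ker φ ⊓ LinearMap.ker (fn (c 0 0))) (fn (c 0 1)) (fn (c 1 0))
          (fun x hx => by rw [← hφ x hx.1, (show fn (c 0 0) x = 0 from hx.2), zero_mul]) with hb | hb
        · have hb' := hsplit _ fun x h1 h2 => hb x ⟨h1, h2⟩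
          right
          refine ⟨![-(fn (c 0 1) p), 1], fun h => one_ne_zero (congrFun h 1), fun i x hx => ?_⟩
          fin_cases i
          · simp [hb' x hx]
          · have key : ∀ z, φ z = 0 → fn (c 0 0) z * (fn (c 1 1) z - fn (c 0 1) p * fn (c 1 0) z) = 0 :=
              fun z hz => by rw [mul_sub, hφ z hz, hb' z hz]; ring
            have h0 := hor (LinearMap.ker φ) (fn (c 0 0)) (fn (c 1 1) - fn (c 0 1) p • fn (c 1 0))
              (fun z hz => by simpa using key z hz)
            rcases h0 with h0 | h0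
            · exact absurd (h0 y hy) hay
            · simpa [neg_add_eq_sub] using h0 x hx
        · have hb' := hsplit _ fun x h1 h2 => hb x ⟨h1, h2⟩
          left
          refine ⟨![-(fn (c 1 0) p), 1], fun h => one_ne_zero (congrFun h 1), fun j x hx => ?_⟩
          fin_cases j
          · simp [hb' x hx]
          · have key : ∀ z, φ z = 0 → fn (c 0 0) z * (fn (c 1 1) z - fn (c 1 0) p * fn (c 0 1) z) = 0 :=
              fun z hz => by rw [mul_sub, hφ z hz, hb' z hz]; ring
            have h0 := hor (LinearMap.ker φ) (fn (c 0 0)) (fn (c 1 1) - fn (c 1 0) p • fn (c 0 1))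
              (fun z hz => by simpa using key z hz)
            rcases h0 with h0 | h0
            · exact absurd (h0 y hy) hay
            · simpa [neg_add_eq_sub] using h0 x hx
    have hperp : ∀ α β : k, ∃ w : Fin 2 → k, w ≠ 0 ∧ w 0 * α + w 1 * β = 0 := by
      intro α β
      by_cases hα : α = 0
      · exact ⟨![1, 0], fun h => one_ne_zero (congrFun h 0), by simp [hα]⟩
      · exact ⟨![-β, α], fun h => hα (congrFun h 1), by simp; ring⟩
    obtain ⟨u, v, hu, hv, huv⟩ : ∃ u v : Fin 2 → k, u ≠ 0 ∧ v ≠ 0 ∧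
        ∀ x, u 0 * (v 0 * fn (c 0 0) x + v 1 * fn (c 0 1) x) +
          u 1 * (v 0 * fn (c 1 0) x + v 1 * fn (c 1 1) x) = 0 := by
      rcases hrank with ⟨u, hu, h⟩ | ⟨v, hv, h⟩
      · have h' := fun j => hprop φ (u 0 • fn (c 0 j) + u 1 • fn (c 1 j)) x₀ hx₀
          (fun x hx => by simpa using h j x hx)
        obtain ⟨v, hv, hvv⟩ := hperp ((u 0 • fn (c 0 0) + u 1 • fn (c 1 0)) x₀)
          ((u 0 • fn (c 0 1) + u 1 • fn (c 1 1)) x₀)
        refine ⟨u, v, hu, hv, fun x => ?_⟩
        have a0 := h' 0 x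
        have a1 := h' 1 x
        simp only [LinearMap.add_apply, LinearMap.smul_apply, smul_eq_mul] at a0 a1 hvv
        linear_combination v 0 * a0 + v 1 * a1 + φ x * hvv
      · have h' := fun i => hprop φ (v 0 • fn (c i 0) + v 1 • fn (c i 1)) x₀ hx₀
          (fun x hx => by simpa using h i x hx)
        obtain ⟨u, hu, huu⟩ := hperp ((v 0 • fn (c 0 0) + v 1 • fn (c 0 1)) x₀)
          ((v 0 • fn (c 1 0) + v 1 • fn (c 1 1)) x₀)
        refine ⟨u, v, hu, hv, fun x => ?_⟩
        have a0 := h' 0 x
        have a1 := h' 1 x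
        simp only [LinearMap.add_apply, LinearMap.smul_apply, smul_eq_mul] at a0 a1 huu
        linear_combination u 0 * a0 + u 1 * a1 + φ x * huu
    obtain ⟨g, hg⟩ : ∃ g : GL (Fin 2) k, ∀ j, g.val 0 j = u j := by
      by_cases h0 : u 0 = 0
      · have h1 : u 1 ≠ 0 := fun h => hu (funext fun i => by fin_cases i <;> assumption)
        refine ⟨Matrix.GeneralLinearGroup.mkOfDetNeZero !![u 0, u 1; 1, 0] (by simp [Matrix.det_fin_two, h0, h1]),
          fun j => ?_⟩
        fin_cases j <;> simp [Matrix.GeneralLinearGroup.mkOfDetNeZero, h0]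
      · refine ⟨Matrix.GeneralLinearGroup.mkOfDetNeZero !![u 0, u 1; 0, 1] (by simp [Matrix.det_fin_two, h0]),
          fun j => ?_⟩
        fin_cases j <;> simp [Matrix.GeneralLinearGroup.mkOfDetNeZero]
    obtain ⟨h, hh⟩ : ∃ h : GL (Fin 2) k, ∀ i, h.val i 1 = v i := by
      by_cases h0 : v 0 = 0
      · have h1 : v 1 ≠ 0 := fun h => hv (funext fun i => by fin_cases i <;> assumption)
        refine ⟨Matrix.GeneralLinearGroup.mkOfDetNeZero !![1, v 0; 0, v 1] (by simp [Matrix.det_fin_two, h0, h1]),
          fun i => ?_⟩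
        fin_cases i <;> simp [Matrix.GeneralLinearGroup.mkOfDetNeZero, h0]
      · refine ⟨Matrix.GeneralLinearGroup.mkOfDetNeZero !![0, v 0; 1, v 1] (by simp [Matrix.det_fin_two, h0]),
          fun i => ?_⟩
        fin_cases i <;> simp [Matrix.GeneralLinearGroup.mkOfDetNeZero]
    refine ⟨g, h, ?_⟩
    apply MvPolynomial.funext
    intro x
    have := huv x
    simp only [hev] at this
    simp [Matrix.mul_apply, Fin.sum_univ_two, hg, hh]
    linear_combination this
  · rintro ⟨g, h, h01⟩
    set G := (MvPolynomial.C : k →+* MvPolynomial (Fin 3) k).mapMatrix g.val with hG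
    set H := (MvPolynomial.C : k →+* MvPolynomial (Fin 3) k).mapMatrix h.val with hH
    have hN : ∀ i j, ((G * M * H) i j).IsHomogeneous 1 := by
      intro i j
      rw [Matrix.mul_apply]
      refine MvPolynomial.IsHomogeneous.sum _ _ _ fun a _ => ?_
      rw [Matrix.mul_apply, Finset.sum_mul]
      refine MvPolynomial.IsHomogeneous.sum _ _ _ fun b _ => ?_
      simpa [hG, hH] using ((MvPolynomial.isHomogeneous_C (Fin 3) (g.val i b)).mul (hM b a)).mul
        (MvPolynomial.isHomogeneous_C (Fin 3) (h.val a j))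
    have hd : (G * M * H).det = (G * M * H) 0 0 * (G * M * H) 1 1 := by
      rw [Matrix.det_fin_two, h01, zero_mul, sub_zero]
    have hne : g.val.det * h.val.det ≠ 0 :=
      mul_ne_zero (Matrix.GeneralLinearGroup.det_ne_zero g) (Matrix.GeneralLinearGroup.det_ne_zero h)
    refine ⟨MvPolynomial.C (g.val.det * h.val.det)⁻¹ * (G * M * H) 0 0, (G * M * H) 1 1,
      (hN 0 0).C_mul _, hN 1 1, ?_⟩
    rw [mul_assoc, ← hd, Matrix.det_mul, Matrix.det_mul, hG, hH, ← RingHom.map_det, ← RingHom.map_det]
    rw [show MvPolynomial.C (g.val.det * h.val.det)⁻¹ * (MvPolynomial.C g.val.det * M.det * MvPolynomial.C h.val.det) =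
      MvPolynomial.C ((g.val.det * h.val.det)⁻¹ * (g.val.det * h.val.det)) * M.det by
      simp only [map_mul]; ring, inv_mul_cancel₀ hne, map_one, one_mul]

end Groth.Agent.S13912
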