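import Groth.Statements.S13913
import Mathlib.RingTheory.MvPolynomial.EulerIdentity
import Mathlib.Tactic.LinearCombination

set_option autoImplicit false
universe u
open PlaneCubic

namespace Groth.Agent.S13913

/-- Over an algebraically closed field of characteristic zero, for linearly independent linear forms z₁,
z₂ and quadratic forms q₁, q₂ in three variables and a nonzero common zero p of z₁ and z₂, the point
p is a singular point of the plane cubic z₁q₂ − z₂q₁ = 0 (all three partial derivatives vanish at p)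
if and only if q₁ and q₂ both vanish at p. -/
theorem result (k : Type u) [Field k] [IsAlgClosed k] [CharZero k]
    (z₁ z₂ q₁ q₂ : MvPolynomial (Fin 3) k) (hz₁ : z₁.IsHomogeneous 1) (hz₂ : z₂.IsHomogeneous 1)
    (hq₁ : q₁.IsHomogeneous 2) (hq₂ : q₂.IsHomogeneous 2) (hind : LinearIndependent k ![z₁, z₂])
    (p : Fin 3 → k) (hp : p ≠ 0) (hp₁ : MvPolynomial.eval p z₁ = 0) (hp₂ : MvPolynomial.eval p z₂ = 0) :
    (∀ i : Fin 3, MvPolynomial.eval p (MvPolynomial.pderiv i (z₁ * q₂ - z₂ * q₁)) = 0) ↔
      (MvPolynomial.eval p q₁ = 0 ∧ MvPolynomial.eval p q₂ = 0) := by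
  constructor
  · intro h
    have e : ∀ i, (MvPolynomial.eval p (MvPolynomial.pderiv i z₁)) * MvPolynomial.eval p q₂ -
        (MvPolynomial.eval p (MvPolynomial.pderiv i z₂)) * MvPolynomial.eval p q₁ = 0 := fun i => by
      have := h i
      simp [hp₁, hp₂] at this
      linear_combination this
    have hc : ∀ z : MvPolynomial (Fin 3) k, z.IsHomogeneous 1 → ∀ i,
        MvPolynomial.pderiv i z = MvPolynomial.C (MvPolynomial.eval p (MvPolynomial.pderiv i z)) := by
      intro z hz i
      have h0 : (MvPolynomial.pderiv i z).IsHomogeneous 0 := hz.pderiv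
      rw [← MvPolynomial.totalDegree_zero_iff_isHomogeneous,
        MvPolynomial.totalDegree_eq_zero_iff_eq_C] at h0
      conv_rhs => rw [h0]
      rw [MvPolynomial.eval_C]; exact h0
    have hrec : ∀ z : MvPolynomial (Fin 3) k, z.IsHomogeneous 1 →
        z = ∑ i, MvPolynomial.X i * MvPolynomial.C (MvPolynomial.eval p (MvPolynomial.pderiv i z)) := by
      intro z hz
      conv_lhs => rw [← one_nsmul z, ← hz.sum_X_mul_pderiv]
      exact Finset.sum_congr rfl fun i _ => by rw [← hc z hz i]
    have key : MvPolynomial.eval p q₂ • z₁ + (-(MvPolynomial.eval p q₁)) • z₂ = 0 := by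
      rw [hrec z₁ hz₁, hrec z₂ hz₂, MvPolynomial.smul_eq_C_mul, MvPolynomial.smul_eq_C_mul,
        Finset.mul_sum, Finset.mul_sum, ← Finset.sum_add_distrib]
      refine Finset.sum_eq_zero fun i _ => ?_
      have := congrArg (fun c => MvPolynomial.C (σ := Fin 3) c * MvPolynomial.X i) (e i)
      simp only [map_sub, map_mul, map_zero, zero_mul] at this
      simp only [map_neg]
      linear_combination this
    obtain ⟨h2, h1⟩ := LinearIndependent.pair_iff.1 hind _ _ key
    exact ⟨neg_eq_zero.1 h1, h2⟩
  · rintro ⟨h1, h2⟩ i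
    simp [hp₁, hp₂, h1, h2]

end Groth.Agent.S13913
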