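import Groth.Statements.S13915
import Groth.Agent.Lib.BlowPt28.Apply

set_option autoImplicit false
universe u
open CategoryTheory CategoryTheory.Limits AlgebraicGeometry
open BlowUp

namespace Groth.Agent.S13915

/-- On the blowing up σ : X ⟶ P²_k of the projective plane over an algebraically closed field k of
characteristic zero at a closed point, with E the ideal of the exceptional line and H the pull-back
of O(1), one has χ(X, σ^*O(a) ⊗ E^b) = (a² + 3a)/2 − (b² + b)/2 + 1 for all integers a and natural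
numbers b (the line bundle written aH − bL; the k-structure on X is the composite through σ). -/
theorem result (k : Type u) [Field k] [IsAlgClosed k] [CharZero k]
    (p : ↥(CohB1.ProjSpace 2 k)) (hp : IsClosed ({p} : Set ↥(CohB1.ProjSpace 2 k)))
    {X : Scheme.{u}} [X.Over (Spec (CommRingCat.of k))] (σ : X ⟶ CohB1.ProjSpace 2 k)
    (hσk : σ ≫ CohB1.ProjSpace.toSpec 2 k = X ↘ Spec (CommRingCat.of k))
    (hσ : BlowUp.IsBlowUp σ (Scheme.IdealSheafData.vanishingIdeal ⟨{p}, hp⟩)) (a : ℤ) (b : ℕ) :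
    Curv2.euler k X (CohB1.tensorMod ((Scheme.Modules.pullback σ).obj (Twist.twistProjSpace 2 k a))
      (ClSub.idealMod ((BlowUp.exceptional σ (Scheme.IdealSheafData.vanishingIdeal ⟨{p}, hp⟩)) ^ b))) =
      (a * a + 3 * a) / 2 - ((b : ℤ) * b + b) / 2 + 1 := by
  letI : (CohB1.ProjSpace 2 k).Over (Spec (CommRingCat.of k)) := ⟨CohB1.ProjSpace.toSpec 2 k⟩
  haveI : SmoothOfRelativeDimension 2 (CohB1.ProjSpace 2 k ↘ Spec (CommRingCat.of k)) :=
    GrothLib.OmegaPn27.smoothOfRelativeDimension_toSpec 2 k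
  haveI : Smooth (CohB1.ProjSpace 2 k ↘ Spec (CommRingCat.of k)) := GrothLib.CurveMult.smooth_toSpec 2 k
  haveI : IsProper (CohB1.ProjSpace.toSpec 2 k) := GrothLib.Chow.isProper_toSpec 2 k
  haveI : IsProper (CohB1.ProjSpace 2 k ↘ Spec (CommRingCat.of k)) := inferInstanceAs (IsProper (CohB1.ProjSpace.toSpec 2 k))
  have hdim := fun Z hZ => GrothLib.DualSm27.component_dim k 2 2 (CohB1.ProjSpace 2 k) (𝟙 _) (Category.id_comp _) Z hZ
  have hd := GrothLib.BlowPt28.dim_stalk_closed k hdim hp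
  haveI := GrothLib.BlowPt28.isProper_over k hp hσ hσk
  obtain ⟨hI, key, -, -, -⟩ := GrothLib.BlowPt28.main k (GrothLib.HodgeIndex.regular_of_smooth k) hp hd hσ hσk
  obtain ⟨hIb, hb⟩ := GrothLib.ArSurf29.cls_idealMod_pow hσ.1 b
  have hT := GrothLib.CMReg.isInvertible_twist (n := 2) (k := k) a
  have hM := GrothLib.Ample.isInvertible_tensorMod (GrothLib.Ample.isInvertible_pullback σ hT) hIb
  have h := key (GrothLib.Cube.clsMod hT) b
  have h2 := GrothLib.BlowPt28.euler_plane k a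
  rw [GrothLib.HodgeIndex.euler_eq_chi k hT] at h2
  rw [GrothLib.BlowPt28.ptDeg_eq_one k hp, zpow_natCast] at h
  rw [GrothLib.HodgeIndex.euler_eq_chi k hM, GrothLib.Cube.clsMod_tensorMod (GrothLib.Ample.isInvertible_pullback σ hT) hIb,
    GrothLib.Cube.clsMod_pullback σ hT, hb]
  obtain ⟨c, hc⟩ : (2 : ℤ) ∣ (b : ℤ) * b + b := (Int.even_mul_succ_self (b : ℤ)).two_dvd.trans (dvd_of_eq (by ring))
  obtain ⟨d, hd'⟩ : (2 : ℤ) ∣ a * a + 3 * a := ((Int.even_mul_succ_self a).two_dvd.trans (dvd_of_eq rfl)).add (dvd_mul_right 2 a) |>.trans (dvd_of_eq (by ring))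
  rw [hc, hd', Int.mul_ediv_cancel_left _ two_ne_zero, Int.mul_ediv_cancel_left _ two_ne_zero]
  push_cast at h
  nlinarith [h, h2, hc, hd']

end Groth.Agent.S13915
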