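import Groth.Statements.S13916
import Mathlib

set_option autoImplicit false
set_option linter.all false
universe u
open PlaneConic

namespace Groth.Agent.S13916

/-- Over an algebraically closed field k of characteristic zero, with u_0, u_1, u_2 the coordinate
linear forms of k[X_0, X_1, X_2] and 2 × 2 matrices of linear forms compared up to M ↦ g M h with g,
h invertible scalar matrices: (1) the matrices with rows (u_1, 0), (u_0, u_2) and (u_2, 0), (u_0,
u_1) are not equivalent; (2) for α ≠ 0 the matrix with rows (u_1, 0), (αu_0 + βu_1 + γu_2, u_2) is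
equivalent to the one with rows (u_1, 0), (u_0, u_2). -/
theorem result (k : Type u) [Field k] [IsAlgClosed k] [CharZero k] :
    (¬ ∃ g h : GL (Fin 2) k,
      (MvPolynomial.C : k →+* MvPolynomial (Fin 3) k).mapMatrix g.val *
          !![MvPolynomial.X 1, 0; MvPolynomial.X 0, MvPolynomial.X 2] *
        (MvPolynomial.C : k →+* MvPolynomial (Fin 3) k).mapMatrix h.val =
      !![MvPolynomial.X 2, 0; MvPolynomial.X 0, MvPolynomial.X 1]) ∧
    (∀ α β γ : k, α ≠ 0 → ∃ g h : GL (Fin 2) k,
      (MvPolynomial.C : k →+* MvPolynomial (Fin 3) k).mapMatrix g.val *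
          !![MvPolynomial.X 1, 0;
             MvPolynomial.C α * MvPolynomial.X 0 + MvPolynomial.C β * MvPolynomial.X 1 + MvPolynomial.C γ * MvPolynomial.X 2,
             MvPolynomial.X 2] *
        (MvPolynomial.C : k →+* MvPolynomial (Fin 3) k).mapMatrix h.val =
      !![MvPolynomial.X 1, 0; MvPolynomial.X 0, MvPolynomial.X 2]) := by
  constructor
  · rintro ⟨g, h, e⟩
    have e0 := fun i j => congrArg (MvPolynomial.eval ![(1 : k), 0, 0]) (congrFun (congrFun e i) j)
    have e2 := congrArg (MvPolynomial.eval ![(0 : k), 0, 1]) (congrFun (congrFun e 0) 0)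
    have a := e0 0 0
    have b := e0 1 0
    have c := e0 1 1
    simp [Matrix.mul_apply, Fin.sum_univ_two] at a b c e2
    have h1 : g.val 1 1 ≠ 0 := fun H => by simp [H] at b
    have h0 : h.val 0 0 ≠ 0 := fun H => by simp [H] at b
    simp [h1] at c
    simp [h0] at a
    simp [a] at e2
  · intro α β γ hα
    refine ⟨Matrix.GeneralLinearGroup.mkOfDetNeZero !![1, 0; -β / α, 1 / α] (by simp [Matrix.det_fin_two, hα]),
      Matrix.GeneralLinearGroup.mkOfDetNeZero !![1, 0; -γ, α] (by simp [Matrix.det_fin_two, hα]), ?_⟩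
    have hc : (MvPolynomial.C α⁻¹ : MvPolynomial (Fin 3) k) * MvPolynomial.C α = 1 := by
      rw [← map_mul, inv_mul_cancel₀ hα, map_one]
    refine Matrix.ext fun i j => ?_
    fin_cases i <;> fin_cases j <;> simp [Matrix.mul_apply, Fin.sum_univ_two, Matrix.GeneralLinearGroup.mkOfDetNeZero,
      div_eq_mul_inv, map_mul, map_neg]
    · linear_combination (norm := ring_nf) (MvPolynomial.X 0 : MvPolynomial (Fin 3) k) * hc
    · linear_combination (norm := ring_nf) (MvPolynomial.X 2 : MvPolynomial (Fin 3) k) * hc

end Groth.Agent.S13916
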