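import Groth.Statements.S13917
import Groth.Agent.Lib.BlowCoh8.TwistGlobal

set_option autoImplicit false
universe u
open CategoryTheory CategoryTheory.Limits AlgebraicGeometry
open BlowUp

namespace Groth.Agent.S13917

/-- For the blowing up σ : X ⟶ Y of a smooth separated finite-type scheme over a characteristic-zero
algebraically closed field along a closed subscheme regularly immersed of constant codimension d ≥
2, with inverse image ideal J, and any O_X-module L with L ⊗ J ≅ O_X (that is, L = O_X(D) for the
exceptional divisor D), the direct image σ_* L is isomorphic to O_Y. Existence of an isomorphism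
only (the composite of isomorphisms σ_*O_X(D) ≅ σ_*O_X and σ_*O_X ≅ O_Y). -/
theorem result (k : Type u) [Field k] [IsAlgClosed k] [CharZero k]
    {S Y X : Scheme.{u}} [Y.Over (Spec (CommRingCat.of k))] [Smooth (Y ↘ Spec (CommRingCat.of k))]
    [IsSeparated (Y ↘ Spec (CommRingCat.of k))] [QuasiCompact (Y ↘ Spec (CommRingCat.of k))]
    (i : S ⟶ Y) [IsClosedImmersion i] (d : ℕ) (hd : 2 ≤ d) (hi : RegImm.IsRegularImmersionOfCodim .regular d i)
    (σ : X ⟶ Y) (hσ : BlowUp.IsBlowUp σ i.ker)
    (L : X.Modules) (hL : ClSub.IsInverseOf L (ClSub.idealMod (BlowUp.exceptional σ i.ker))) :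
    Nonempty ((Scheme.Modules.pushforward σ).obj L ≅ Coh.structureModule Y) := by
  haveI : IsLocallyNoetherian Y := LocallyOfFiniteType.isLocallyNoetherian (Y ↘ Spec (CommRingCat.of k))
  exact GrothLib.BlowCoh8.nonempty_pushforward_inverse_iso (GrothLib.BlowCoh8.isLocSeq₂_of_codim i hd hi) hσ hL

end Groth.Agent.S13917
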