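import Groth.Statements.S13919
import Groth.Agent.Lib.InsepLimit.ThreePts

set_option autoImplicit false
universe u
open W4c1limliniiii

namespace Groth.Agent.S13919

open Polynomial in
/-- Over an algebraically closed field of characteristic p (zero allowed), fix three distinct points of
the affine line and indices 2 ≤ e_i ≤ d prime to p with ∑ (e_i − 1) = 2d − 2, and encode self-maps
of the projective line up to automorphisms of the target as base-point-free separable pencils of
polynomials of degree at most d. If p is positive, the first two indices are less than p and p ≤ d,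
then there is no separable degree-d self-map of the projective line with ramification index exactly
e_i at the i-th point; if p = 0 or d < p there is exactly one up to automorphisms of the target.
(The first clause includes the case d = p; with it, when all e_i are less than p, the three-point
count is one map if p = 0 or p > d and none otherwise.) -/
theorem result (k : Type u) [Field k] [IsAlgClosed k]
    (p : ℕ) [CharP k p] (d : ℕ) (P : Fin 3 → k) (hP : Function.Injective P)
    (e : Fin 3 → ℕ) (he : W4c1limliniiii.Admissible p d e) :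
    (p ≠ 0 → e 0 < p → e 1 < p → p ≤ d → W4c1limliniiii.ramMaps d P e = ∅) ∧
      (p = 0 ∨ d < p → ∃ V : Submodule k k[X], W4c1limliniiii.ramMaps d P e = {V}) := by
  obtain ⟨he1, he2⟩ := he
  rw [Fin.sum_univ_three] at he2
  have hsum : e 0 + e 1 + e 2 = 2 * d + 1 := by omega
  have hle : ∀ i, e i ≤ d := fun i => (he1 i).2.1
  have h2 : ∀ i, 2 ≤ e i := fun i => (he1 i).1
  refine ⟨fun hp h0 h1 hpd => ?_, fun hp => ?_⟩
  · have hprime : p.Prime := (CharP.char_is_prime_or_zero k p).resolve_right hp
    have : Fact p.Prime := ⟨hprime⟩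
    have hfr : P 0 ^ p - P 1 ^ p ≠ 0 := fun h => by
      rw [← sub_pow_char, pow_eq_zero_iff hp, sub_eq_zero] at h
      exact absurd (hP h) (by decide)
    let q : Polynomial k := (Polynomial.X - Polynomial.C (P 2)) ^ (d - p)
    let y : Fin 3 → Polynomial k := fun i => (Polynomial.X - Polynomial.C (P i)) ^ p
    let a := (P 2 ^ p - P 1 ^ p) / (P 0 ^ p - P 1 ^ p)
    let A := Polynomial.C a * (y 0 * q)
    let B := Polynomial.C (1 - a) * (y 1 * q)
    have hAB : A + B = (Polynomial.X - Polynomial.C (P 2)) ^ d := by
      have e2 : (Polynomial.X - Polynomial.C (P 2)) ^ d = y 2 * q := by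
        simp only [y, q, ← pow_add, Nat.add_sub_cancel' hpd]
      have ha : a * (P 0 ^ p) + (1 - a) * (P 1 ^ p) = P 2 ^ p := by
        have := div_mul_cancel₀ (P 2 ^ p - P 1 ^ p) hfr
        linear_combination this
      rw [e2]
      simp only [A, B, y, sub_pow_char, ← Polynomial.C_pow]
      rw [← ha, Polynomial.C_add, Polynomial.C_mul, Polynomial.C_mul, Polynomial.C_sub, Polynomial.C_1]
      ring
    have hdeg : ∀ (c : k) i, (Polynomial.C c * (y i * q)).natDegree ≤ d := fun c i => by
      refine (Polynomial.natDegree_C_mul_le _ _).trans (Polynomial.natDegree_mul_le.trans ?_)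
      simp [y, q, Polynomial.natDegree_pow]
      omega
    have hrel : GrothLib.InsepLimit.Rel d P e A B :=
      ⟨hdeg _ _, hdeg _ _, dvd_mul_of_dvd_right (dvd_mul_of_dvd_left (pow_dvd_pow _ h0.le) _) _,
        dvd_mul_of_dvd_right (dvd_mul_of_dvd_left (pow_dvd_pow _ h1.le) _) _, hAB ▸ pow_dvd_pow _ (hle 2)⟩
    have hne : A ≠ 0 ∨ B ≠ 0 := by
      by_contra h
      push_neg at h
      rw [h.1, h.2, add_zero] at hAB
      exact pow_ne_zero _ (Polynomial.X_sub_C_ne_zero _) hAB.symm
    refine Set.eq_empty_iff_forall_notMem.2 fun V hV => ?_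
    have hsp := hrel.span_eq hP hsum hle hV hne
    obtain ⟨F, hF, G, hG, hFG⟩ := hV.2.1
    rw [← hsp] at hF hG
    obtain ⟨l, μ, rfl⟩ := Submodule.mem_span_pair.1 hF
    obtain ⟨l', μ', rfl⟩ := Submodule.mem_span_pair.1 hG
    refine hFG ?_
    have hW : Polynomial.wronskian A B = 0 := by
      simp only [A, B, y, Polynomial.wronskian, Polynomial.derivative_C, Polynomial.derivative_mul,
        Polynomial.derivative_X_sub_C_pow, CharP.cast_eq_zero, Polynomial.C_0]
      ring
    simp only [Polynomial.smul_eq_C_mul]
    rw [GrothLib.InsepLimit.wronskian_comb _ _ _ _ _ _ Polynomial.derivative_C Polynomial.derivative_C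
      Polynomial.derivative_C Polynomial.derivative_C, hW, mul_zero]
  · obtain ⟨A, B, h, hne⟩ := GrothLib.InsepLimit.exists_rel hP hsum hle
    obtain ⟨hA, hB, hind⟩ := h.indep hP hsum hle hne
    refine ⟨Submodule.span k {A, B}, ((GrothLib.InsepLimit.subsingleton_ramMaps hP hsum hle).eq_singleton_of_mem
      (h.mem_ramMaps hP hsum hle h2 fun hW => ?_))⟩
    obtain ⟨s, t, q, hrel, hs, ht⟩ := UniqueFactorizationMonoid.exists_reduced_factors A hA B
    have hq : q ≠ 0 := by rintro rfl; exact hA (by simpa using hs.symm)
    have hco : IsCoprime s t := hrel.isCoprime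
    have hst : Polynomial.wronskian s t = 0 := by
      have e1 : Polynomial.wronskian A B = q ^ 2 * Polynomial.wronskian s t := by
        rw [← hs, ← ht]; simp only [Polynomial.wronskian, Polynomial.derivative_mul]; ring
      rw [hW] at e1
      exact (mul_eq_zero.1 e1.symm).resolve_left (pow_ne_zero _ hq)
    obtain ⟨hs', ht'⟩ := hco.wronskian_eq_zero_iff.1 hst
    have hconst : ∀ u : Polynomial k, Polynomial.derivative u = 0 → u.natDegree ≤ d → u.natDegree = 0 := by
      intro u hu hud
      rcases CharP.char_is_prime_or_zero k p with hprime | hz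
      · have : Fact p.Prime := ⟨hprime⟩
        exact Nat.eq_zero_of_dvd_of_lt (GrothLib.InsepLimit.dvd_natDegree_of_derivative_eq_zero p hu)
          (hud.trans_lt (hp.resolve_left hprime.ne_zero))
      · subst hz
        have : CharZero k := CharP.charP_to_charZero k
        exact Polynomial.natDegree_eq_zero_of_derivative_eq_zero hu
    have hs0 : s ≠ 0 := by rintro rfl; exact hA (by simpa using hs.symm)
    have ht0 : t ≠ 0 := by rintro rfl; exact hB (by simpa using ht.symm)
    have hsd : s.natDegree ≤ d := le_trans (by rw [← hs, Polynomial.natDegree_mul hq hs0]; omega) h.degA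
    have htd : t.natDegree ≤ d := le_trans (by rw [← ht, Polynomial.natDegree_mul hq ht0]; omega) h.degB
    have h1 := Polynomial.eq_C_of_natDegree_le_zero (hconst s hs' hsd).le
    have h2 := Polynomial.eq_C_of_natDegree_le_zero (hconst t ht' htd).le
    have := hind (t.coeff 0) (-s.coeff 0) (by rw [← hs, ← ht]; nth_rw 1 [h1]; nth_rw 2 [h2]; rw [Polynomial.C_neg]; ring)
    exact ht0 (by rw [h2, this.1, Polynomial.C_0])

end Groth.Agent.S13919
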