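import Groth.Statements.S13920
import Groth.Agent.Lib.InsepLimit.Main

set_option autoImplicit false
universe u
open W4c1limliniiii

namespace Groth.Agent.S13920

open Polynomial in
/-- Over an algebraically closed field of prime characteristic p, fix n points of the affine line with
ramification indices e_i < p, and at infinity an index E with p < E and E prime to p, the datum (E,
e_1, …, e_n) being admissible for degree d (each index between 2 and d, ∑ (index − 1) = 2d − 2). If
one separable degree-d self-map of the projective line (up to automorphisms of the target, encoded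
as a base-point-free separable pencil of polynomials of degree at most d) has ramification index
exactly e_i at the i-th point and exactly E at infinity, then infinitely many do: the set of such
pencils is empty or infinite. (The consequence for general points, that no such map exists, is not
restated.) -/
theorem result
    (k : Type u) [Field k] [IsAlgClosed k] (p : ℕ) [Fact p.Prime] [CharP k p]
    (d n : ℕ) (P : Fin n → k) (e : Fin n → ℕ) (E : ℕ)
    (he : W4c1limliniiii.Admissible p d (Fin.cons E e : Fin (n + 1) → ℕ))
    (hlt : ∀ i, e i < p) (hE : p < E) :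
    {V : Submodule k k[X] | V ∈ W4c1limliniiii.ramMaps d P e ∧ W4c1limliniiii.HasRamIdxInf d V E} = ∅ ∨
      {V : Submodule k k[X] | V ∈ W4c1limliniiii.ramMaps d P e ∧
        W4c1limliniiii.HasRamIdxInf d V E}.Infinite := by
  classical
  obtain ⟨he1, he2⟩ := he
  rw [Fin.sum_cons] at he2
  have hE2 : 2 ≤ E ∧ E ≤ d := by
    have := he1 0
    rw [Fin.cons_zero] at this
    exact ⟨this.1, this.2.1⟩
  have hei : ∀ i, 2 ≤ e i := fun i => by
    have := (he1 i.succ).1
    rwa [Fin.cons_succ] at this
  refine (Set.eq_empty_or_nonempty _).imp id ?_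
  rintro ⟨V, ⟨⟨hV, hfr, ⟨F, hF, hFd⟩, hbp⟩, hsep, hram⟩, ⟨G, hG, hG0, hGd⟩, hGmin⟩
  have hGd' : G.natDegree + E = d := le_antisymm hGd (hGmin G hG hG0)
  have : Module.Finite k V := Module.finite_of_finrank_eq_succ hfr
  have hind : ∀ F' : Polynomial k, F'.natDegree = d → ∀ l μ : k,
      Polynomial.C l * F' + Polynomial.C μ * G = 0 → l = 0 ∧ μ = 0 := by
    intro F' hF' l μ h
    rcases eq_or_ne l 0 with rfl | hl
    · rw [Polynomial.C_0, zero_mul, zero_add, mul_eq_zero, Polynomial.C_eq_zero] at h
      exact ⟨rfl, h.resolve_right hG0⟩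
    · exfalso
      have h1 : (Polynomial.C l * F' + Polynomial.C μ * G).natDegree = d := by
        rw [Polynomial.natDegree_add_eq_left_of_natDegree_lt, Polynomial.natDegree_C_mul hl, hF']
        rw [Polynomial.natDegree_C_mul hl, hF']
        exact (Polynomial.natDegree_C_mul_le _ _).trans_lt (by omega)
      rw [h, Polynomial.natDegree_zero] at h1
      omega
  have hspan : Submodule.span k ({F, G} : Set (Polynomial k)) = V := by
    refine Submodule.eq_of_le_of_finrank_le (Submodule.span_le.2 ?_) ?_
    · rintro x (rfl | rfl) <;> assumption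
    · have li : LinearIndependent k ![F, G] := LinearIndependent.pair_iff.2 fun l μ h =>
        hind F hFd l μ (by simpa [Polynomial.smul_eq_C_mul] using h)
      have := finrank_span_eq_card li
      rw [Matrix.range_cons_cons_empty, Fintype.card_fin] at this
      omega
  let Fl : k → Polynomial k := fun c => F + Polynomial.C c * Polynomial.X ^ p * G
  have hp2 : 2 ≤ p := (Fact.out : p.Prime).two_le
  have hlow : ∀ c : k, (Polynomial.C c * Polynomial.X ^ p * G).natDegree < d := fun c => by
    refine Polynomial.natDegree_mul_le.trans_lt ?_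
    have := Polynomial.natDegree_C_mul_X_pow_le c p
    omega
  have hFl : ∀ c, (Fl c).natDegree = d := fun c => by
    rw [Polynomial.natDegree_add_eq_left_of_natDegree_lt, hFd]
    rw [hFd]
    exact hlow c
  have hder : ∀ c : k, Polynomial.derivative (Polynomial.C c * Polynomial.X ^ p) = 0 := fun c => by
    simp [Polynomial.derivative_X_pow]
  have hWG : Polynomial.wronskian G F ≠ 0 := by
    obtain ⟨s, hs, t, ht, hst⟩ := hsep
    rw [← hspan] at hs ht
    obtain ⟨l, μ, rfl⟩ := Submodule.mem_span_pair.1 hs
    obtain ⟨l', μ', rfl⟩ := Submodule.mem_span_pair.1 ht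
    intro h
    simp only [Polynomial.smul_eq_C_mul] at hst
    rw [GrothLib.InsepLimit.wronskian_comb _ _ _ _ _ _ Polynomial.derivative_C Polynomial.derivative_C
      Polynomial.derivative_C Polynomial.derivative_C, ← Polynomial.wronskian_neg_eq G F, h, neg_zero, mul_zero] at hst
    exact hst rfl
  have hdvd : ∀ (c : k) i (l μ : k) (m : ℕ), m ≤ p →
      ((Polynomial.X - Polynomial.C (P i)) ^ m ∣
          Polynomial.C l * Fl c + Polynomial.C (μ - c * l * P i ^ p) * G ↔
        (Polynomial.X - Polynomial.C (P i)) ^ m ∣ Polynomial.C l * F + Polynomial.C μ * G) := by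
    intro c i l μ m hm
    have e1 : Polynomial.C l * Fl c + Polynomial.C (μ - c * l * P i ^ p) * G =
        Polynomial.C l * F + Polynomial.C μ * G +
          (Polynomial.X - Polynomial.C (P i)) ^ p * (Polynomial.C (c * l) * G) := by
      simp only [Fl, sub_pow_char, ← Polynomial.C_pow, Polynomial.C_sub, Polynomial.C_mul]
      ring
    rw [e1, dvd_add_left (dvd_mul_of_dvd_left (pow_dvd_pow _ hm) _)]
  have hmem : ∀ c, Submodule.span k ({Fl c, G} : Set (Polynomial k)) ∈
      {V : Submodule k (Polynomial k) | V ∈ W4c1limliniiii.ramMaps d P e ∧ W4c1limliniiii.HasRamIdxInf d V E} := by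
    intro c
    have hne : ∀ l μ : k, (l ≠ 0 ∨ μ ≠ 0) → Polynomial.C l * Fl c + Polynomial.C μ * G ≠ 0 := fun l μ h h0 => by
      obtain ⟨h1, h2⟩ := hind (Fl c) (hFl c) l μ h0
      exact h.elim (· h1) (· h2)
    have hms : ∀ l μ : k, Polynomial.C l * Fl c + Polynomial.C μ * G ∈
        Submodule.span k ({Fl c, G} : Set (Polynomial k)) := fun l μ =>
      Submodule.mem_span_pair.2 ⟨l, μ, by simp [Polynomial.smul_eq_C_mul]⟩
    refine ⟨⟨⟨Submodule.span_le.2 ?_, ?_, ⟨Fl c, Submodule.subset_span (by simp), hFl c⟩, ?_⟩,
      ⟨G, Submodule.subset_span (by simp), Fl c, Submodule.subset_span (by simp), ?_⟩, fun i => ⟨?_, ?_⟩⟩, ?_, ?_⟩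
    · rintro x (rfl | rfl)
      · exact Polynomial.mem_degreeLE.2 (Polynomial.natDegree_le_iff_degree_le.1 (hFl c).le)
      · exact hV hG
    · have li : LinearIndependent k ![Fl c, G] := LinearIndependent.pair_iff.2 fun l μ h =>
        hind (Fl c) (hFl c) l μ (by simpa [Polynomial.smul_eq_C_mul] using h)
      have := finrank_span_eq_card li
      rwa [Matrix.range_cons_cons_empty, Fintype.card_fin] at this
    · intro x
      by_contra h
      push_neg at h
      have h1 := h (Fl c) (Submodule.subset_span (by simp))
      have h2 := h G (Submodule.subset_span (by simp))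
      obtain ⟨s, hs, hsx⟩ := hbp x
      rw [← hspan] at hs
      obtain ⟨l, μ, rfl⟩ := Submodule.mem_span_pair.1 hs
      have h3 : F.eval x = 0 := by simpa [Fl, h2] using h1
      exact hsx (by simp [h2, h3])
    · have e2 : Polynomial.wronskian G (Fl c) = Polynomial.wronskian G F := by
        rw [Polynomial.wronskian_add_right, GrothLib.InsepLimit.wronskian_mul_right_const _ _ _ (hder c),
          Polynomial.wronskian_self_eq_zero, mul_zero, add_zero]
      rwa [e2]
    · obtain ⟨s, hs, hs0, hse⟩ := (hram i).1
      rw [← hspan] at hs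
      obtain ⟨l, μ, rfl⟩ := Submodule.mem_span_pair.1 hs
      have hlμ : l ≠ 0 ∨ (μ - c * l * P i ^ p) ≠ 0 := by
        rcases eq_or_ne l 0 with rfl | hl
        · refine Or.inr ?_
          intro h
          rw [mul_zero, zero_mul, sub_zero] at h
          exact hs0 (by simp [h])
        · exact Or.inl hl
      refine ⟨_, hms _ _, hne _ _ hlμ, (Polynomial.le_rootMultiplicity_iff (hne _ _ hlμ)).2 ?_⟩
      have := (Polynomial.le_rootMultiplicity_iff hs0).1 hse
      rw [Polynomial.smul_eq_C_mul, Polynomial.smul_eq_C_mul] at this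
      exact (hdvd c i l μ _ (hlt i).le).2 this
    · intro s hs hs0
      obtain ⟨l, μ', rfl⟩ := Submodule.mem_span_pair.1 hs
      by_contra h
      push_neg at h
      have h1 := (Polynomial.le_rootMultiplicity_iff hs0).1 h
      rw [Polynomial.smul_eq_C_mul, Polynomial.smul_eq_C_mul] at h1
      obtain ⟨μ, rfl⟩ : ∃ μ, μ' = μ - c * l * P i ^ p := ⟨μ' + c * l * P i ^ p, by ring⟩
      have h2 := (hdvd c i l μ _ (hlt i)).1 h1
      have hmemV : Polynomial.C l * F + Polynomial.C μ * G ∈ V := by
        rw [← Polynomial.smul_eq_C_mul, ← Polynomial.smul_eq_C_mul]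
        exact add_mem (V.smul_mem _ hF) (V.smul_mem _ hG)
      have hne0 : Polynomial.C l * F + Polynomial.C μ * G ≠ 0 := fun h0 => by
        obtain ⟨h3, h4⟩ := hind F hFd l μ h0
        exact hs0 (by simp [h3, h4])
      have h5 := (hram i).2 _ hmemV hne0
      exact absurd ((Polynomial.le_rootMultiplicity_iff hne0).2 h2) (by omega)
    · exact ⟨G, Submodule.subset_span (by simp), hG0, hGd⟩
    · intro s hs hs0
      obtain ⟨l, μ, rfl⟩ := Submodule.mem_span_pair.1 hs
      rcases eq_or_ne l 0 with rfl | hl
      · rw [zero_smul, zero_add]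
        rw [Polynomial.natDegree_smul G (fun h : μ = 0 => hs0 (by simp [h]))]
        omega
      · rw [Polynomial.natDegree_add_eq_left_of_natDegree_lt, Polynomial.natDegree_smul _ hl, hFl]
        · omega
        · rw [Polynomial.natDegree_smul _ hl, hFl]
          exact (Polynomial.natDegree_smul_le _ _).trans_lt (by omega)
  refine Set.infinite_of_injective_forall_mem (fun c c' hcc => ?_) hmem
  have h : Fl c - Fl c' ∈ Submodule.span k ({Fl c', G} : Set (Polynomial k)) := by
    have hc : Fl c ∈ Submodule.span k ({Fl c', G} : Set (Polynomial k)) :=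
      (show Submodule.span k ({Fl c, G} : Set (Polynomial k)) = _ from hcc) ▸ Submodule.subset_span (by simp)
    exact sub_mem hc (Submodule.subset_span (by simp))
  obtain ⟨l, μ, hlμ⟩ := Submodule.mem_span_pair.1 h
  have e1 : Fl c - Fl c' = Polynomial.C (c - c') * Polynomial.X ^ p * G := by
    simp only [Fl, Polynomial.C_sub]; ring
  rw [e1] at hlμ
  have hl : l = 0 := by
    by_contra hl
    have h1 : (l • Fl c' + μ • G).natDegree = d := by
      rw [Polynomial.natDegree_add_eq_left_of_natDegree_lt, Polynomial.natDegree_smul _ hl, hFl]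
      rw [Polynomial.natDegree_smul _ hl, hFl]
      exact (Polynomial.natDegree_smul_le _ _).trans_lt (by omega)
    rw [hlμ] at h1
    have := hlow (c - c')
    omega
  rw [hl, zero_smul, zero_add, Polynomial.smul_eq_C_mul] at hlμ
  have h2 := congrArg (fun q => q.coeff p) (mul_right_cancel₀ hG0 hlμ)
  simp only [Polynomial.coeff_C_mul_X_pow, if_true, Polynomial.coeff_C,
    if_neg (Fact.out : p.Prime).ne_zero] at h2
  exact sub_eq_zero.1 h2.symm

end Groth.Agent.S13920
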