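import Groth.Statements.S13922
import Groth.Agent.Lib.RamFin10.Flip

set_option autoImplicit false
universe u
open W4c1limliniiii

namespace Groth.Agent.S13922

open Polynomial in
/-- Over an algebraically closed field of prime characteristic p, let (d; e_1, …, e_n) be admissible
ramification data (2 ≤ e_i ≤ d, ∑ (e_i − 1) = 2d − 2) with every e_i < p, and for two distinct
indices i ≠ j replace e_i, e_j by p − e_i, p − e_j and d by d + p − e_i − e_j. Then the number of
separable self-maps of the projective line with the prescribed ramification at general points, up to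
automorphisms of the target (counted as base-point-free separable pencils of polynomials, for
configurations of points of the affine line off the zero set of a non-zero polynomial), is the same
for the two data: a number is the general count for one if and only if it is the general count for
the other. -/
theorem result (k : Type u) [Field k] [IsAlgClosed k]
    (p : ℕ) [Fact p.Prime] [CharP k p] (d n : ℕ) (e : Fin n → ℕ)
    (he : W4c1limliniiii.Admissible p d e) (hlt : ∀ l, e l < p) (i j : Fin n) (hij : i ≠ j)
    (m : ℕ) :
    W4c1limliniiii.HasGenericCount (k := k) d e m ↔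
      W4c1limliniiii.HasGenericCount (k := k) (d + p - e i - e j)
        (Function.update (Function.update e i (p - e i)) j (p - e j)) m := by
  classical
  obtain ⟨Φ, hΦ, hE⟩ := GrothLib.RamFin10.exists_flip_equiv (k := k) (GrothLib.RamFin10.admissible1_of p d he) hlt hij (he.1 i).2.1 (he.1 j).2.1
  constructor
  · rintro ⟨Ψ, hΨ, h⟩
    refine ⟨Φ * Ψ, mul_ne_zero hΦ hΨ, fun P hP => ?_⟩
    rw [map_mul, mul_ne_zero_iff] at hP
    obtain ⟨E⟩ := hE P hP.1
    obtain ⟨hf, hc⟩ := h P hP.2
    haveI := hf.to_subtype
    haveI : Finite (W4c1limliniiii.ramMaps (d + p - e i - e j) P (Function.update (Function.update e i (p - e i)) j (p - e j))) := Finite.of_equiv _ E; exact ⟨Set.toFinite _, (Nat.card_congr E).symm.trans hc⟩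
  · rintro ⟨Ψ, hΨ, h⟩
    refine ⟨Φ * Ψ, mul_ne_zero hΦ hΨ, fun P hP => ?_⟩
    rw [map_mul, mul_ne_zero_iff] at hP
    obtain ⟨E⟩ := hE P hP.1
    obtain ⟨hf, hc⟩ := h P hP.2
    haveI : Finite (W4c1limliniiii.ramMaps (d + p - e i - e j) P (GrothLib.RamFin10.flipIdx p e i j)) := hf.to_subtype
    haveI := Finite.of_equiv _ E.symm; exact ⟨Set.toFinite _, (Nat.card_congr E).trans hc⟩


end Groth.Agent.S13922
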