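import Groth.Statements.S13923
import Groth.Agent.Lib.FourPts10.Count
import Groth.Agent.Lib.RamFin10.Flip

set_option autoImplicit false
universe u
open W4c1limliniiii

namespace Groth.Agent.S13923

open Polynomial in
open GrothLib.FourPts10 GrothLib.RamFin10 in
/-- Transport of the count along a bijection valid at general points. -/
theorem count_of_equiv {k : Type u} [Field k] {d d' n : ℕ} {e e' : Fin n → ℕ} {m : ℕ}
    (hE : ∃ Φ : MvPolynomial (Fin n) k, Φ ≠ 0 ∧ ∀ P : Fin n → k, MvPolynomial.eval P Φ ≠ 0 →
      Nonempty (ramMaps d P e ≃ ramMaps d' P e'))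
    (h : HasGenericCount (k := k) d' e' m) : HasGenericCount (k := k) d e m := by
  obtain ⟨Φ, hΦ, hE⟩ := hE
  obtain ⟨Ψ, hΨ, hc⟩ := h
  refine ⟨Φ * Ψ, mul_ne_zero hΦ hΨ, fun P hP => ?_⟩
  rw [map_mul, mul_ne_zero_iff] at hP
  obtain ⟨E⟩ := hE P hP.1
  obtain ⟨hf, hcard⟩ := hc P hP.2
  haveI := hf.to_subtype
  haveI : Finite (ramMaps d P e) := Finite.of_equiv _ E.symm
  exact ⟨Set.toFinite _, (Nat.card_congr E).trans hcard⟩

/-- Over an algebraically closed field of characteristic p (zero allowed), let (d; e_1, …, e_4) be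
admissible (2 ≤ e_i ≤ d, e_i prime to p, ∑ (e_i − 1) = 2d − 2) with every e_i < p when p is
positive. Then the number of separable self-maps of the projective line of degree d ramified to
order exactly e_i at four general points (configurations of the affine line off the zero set of a
non-zero polynomial), counted up to automorphisms of the target as base-point-free separable pencils
of polynomials, equals min over i of min (e_i, d + 1 − e_i), less max (0, d + 1 − p) when p is
positive. (Subtraction here is that of the natural numbers, truncated at zero: read over the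
integers the closed form is negative for some admissible data, for instance indices 6, 6, 6, 2 in
characteristic 7, where the count is 0; the assertion that the maps have no non-trivial deformations
is not restated.) -/
theorem result (k : Type u) [Field k] [IsAlgClosed k]
    (p : ℕ) [CharP k p] (d : ℕ) (e : Fin 4 → ℕ) (he : W4c1limliniiii.Admissible p d e)
    (hlt : ∀ i, p = 0 ∨ e i < p) :
    (p ≠ 0 → W4c1limliniiii.HasGenericCount (k := k) d e
      (Finset.univ.inf' Finset.univ_nonempty (fun i => min (e i) (d + 1 - e i)) - (d + 1 - p))) ∧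
    (p = 0 → W4c1limliniiii.HasGenericCount (k := k) d e
      (Finset.univ.inf' Finset.univ_nonempty (fun i => min (e i) (d + 1 - e i)))) := by
  classical
  have he1 : GrothLib.RamFin10.Admissible1 p d e := GrothLib.RamFin10.admissible1_of p d he
  refine ⟨fun hp => ?_, fun hp => GrothLib.FourPts10.hasGenericCount_small (p := p) (Or.inl hp) he1⟩
  show HasGenericCount (k := k) d e (GrothLib.FourPts10.fourR d e - (d + 1 - p))
  by_cases hdp : d < p
  · rw [show d + 1 - p = 0 by omega, Nat.sub_zero]
    exact GrothLib.FourPts10.hasGenericCount_small (p := p) (Or.inr hdp) he1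
  haveI : Fact p.Prime := ⟨(CharP.char_is_prime_or_zero k p).resolve_right hp⟩
  obtain ⟨π, hm⟩ := GrothLib.FourPts10.monotone_sort e
  refine GrothLib.FourPts10.hasGenericCount_comp π ?_
  rw [← GrothLib.FourPts10.fourR_comp π]
  have hlt' : ∀ l, (e ∘ π) l < p := fun l => (hlt (π l)).resolve_left hp
  have hle : ∀ l, (e ∘ π) l ≤ d := fun l => (he.1 (π l)).2.1
  have hadm := GrothLib.FourPts10.sum_comp he1 π
  generalize e ∘ π = f at hm hlt' hle hadm ⊢
  have h32 : (3 : Fin 4) ≠ 2 := by decide
  have hsum : f 0 + f 1 + f 2 + f 3 = 2 * d + 2 := by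
    have := hadm.2; rw [Fin.sum_univ_four] at this; omega
  have h01 : f 0 ≤ f 1 := hm (by decide)
  have h12 : f 1 ≤ f 2 := hm (by decide)
  have h23 : f 2 ≤ f 3 := hm (by decide)
  have hd' : d + p - f 3 - f 2 < p := by omega
  have hadm' := GrothLib.RamFin10.admissible1_flipIdx hadm hlt' h32 (hle 3)
  refine count_of_equiv (GrothLib.RamFin10.exists_flip_equiv (k := k) hadm hlt' h32 (hle 3) (hle 2)) ?_
  have key := GrothLib.FourPts10.hasGenericCount_small (k := k) (p := p) (Or.inr hd') hadm'
  have heq : GrothLib.FourPts10.fourR (d + p - f 3 - f 2) (GrothLib.RamFin10.flipIdx p f 3 2) =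
      GrothLib.FourPts10.fourR d f - (d + 1 - p) := by
    rw [GrothLib.FourPts10.fourR_eq hm]
    have v3 := GrothLib.RamFin10.flipIdx_left (p := p) f h32
    have v2 := GrothLib.RamFin10.flipIdx_right (p := p) f (3 : Fin 4) 2
    have v1 := GrothLib.RamFin10.flipIdx_other (p := p) f (i := 3) (j := 2) (l := 1) (by decide) (by decide)
    have v0 := GrothLib.RamFin10.flipIdx_other (p := p) f (i := 3) (j := 2) (l := 0) (by decide) (by decide)
    have p1 := hlt' 1; have p3 := hlt' 3
    have one := (hadm.1 0).1
    unfold GrothLib.FourPts10.fourR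
    generalize GrothLib.RamFin10.flipIdx p f 3 2 = g at v0 v1 v2 v3 ⊢
    have hlow : ∀ i : Fin 4, min (f 0) (d + 1 - f 3) - (d + 1 - p) ≤ min (g i) (d + p - f 3 - f 2 + 1 - g i) := by
      intro i
      fin_cases i <;> simp only [Fin.zero_eta, Fin.mk_one, Fin.reduceFinMk, v0, v1, v2, v3] <;> omega
    refine le_antisymm ?_ (Finset.le_inf' _ _ fun i _ => hlow i)
    have t3 := Finset.inf'_le (fun i => min (g i) (d + p - f 3 - f 2 + 1 - g i)) (Finset.mem_univ (3 : Fin 4))
    have t1 := Finset.inf'_le (fun i => min (g i) (d + p - f 3 - f 2 + 1 - g i)) (Finset.mem_univ (1 : Fin 4))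
    simp only [v1, v3] at t1 t3
    omega
  rw [heq] at key
  exact key

end Groth.Agent.S13923
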