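import Groth.Statements.S13925
import Mathlib.Data.Fin.VecNotation
import Mathlib.Tactic.FinCases
import Mathlib.Tactic.Abel


set_option autoImplicit false
universe u v w x
open W4c1limliniiii

namespace Groth.Agent.S13925

/-- Let k be a field and U, E, W vector spaces over k with linear maps f : U → E, g' : E → U, f₂ : E → W
and g : W → E such that g' ∘ f = 0, the kernel of f₂ is contained in the image of g, and the image
of g meets the kernel of g' only in 0 — the conditions holding at a point of a linked Grassmannian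
at which the linking scalar vanishes. Let V₁ ≤ U and V₂ ≤ E be subspaces and let C' ≤ V₂ be a
subspace contained in the kernel of g' and meeting f(V₁) only in 0. Then the subspaces f(V₁), ker f₂
∩ V₂ and C' of E are independent: their sum is direct. (The published statement is for two
consecutive members V_{i-1}, V_i of a point of a linked Grassmannian at which the linking scalar
vanishes and adds the decomposition V_i = f(V_{i-1}) ⊕ (ker f_i ∩ V_i) ⊕ C with C ⊇ C'; this row
states the independence, with only the three conditions the argument uses.) -/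
theorem result (k : Type u) [Field k]
    (U : Type v) (E : Type w) (W : Type x) [AddCommGroup U] [Module k U] [AddCommGroup E]
    [Module k E] [AddCommGroup W] [Module k W]
    (f : U →ₗ[k] E) (g' : E →ₗ[k] U) (f₂ : E →ₗ[k] W) (g : W →ₗ[k] E)
    (hgf : g'.comp f = 0) (hII : LinearMap.ker f₂ ≤ LinearMap.range g)
    (hIII : LinearMap.range g ⊓ LinearMap.ker g' = ⊥)
    (V₁ : Submodule k U) (V₂ : Submodule k E) (C' : Submodule k E) (hC : C' ≤ V₂)
    (hCg : C' ≤ LinearMap.ker g') (hCf : Submodule.map f V₁ ⊓ C' = ⊥) :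
    iSupIndep ![Submodule.map f V₁, LinearMap.ker f₂ ⊓ V₂, C'] := by
  classical
  have key : ∀ a ∈ Submodule.map f V₁, ∀ b ∈ LinearMap.ker f₂ ⊓ V₂, ∀ c ∈ C', a + b + c = 0 →
      a = 0 ∧ b = 0 ∧ c = 0 := by
    intro a ha b hb c hc h
    obtain ⟨v, hv, rfl⟩ := ha
    have hb0 : b = 0 := by
      have hm : b ∈ LinearMap.range g ⊓ LinearMap.ker g' := by
        refine ⟨hII hb.1, ?_⟩
        have h1 := congrArg g' h
        rw [map_add, map_add, map_zero, ← LinearMap.comp_apply, hgf, LinearMap.zero_apply,
          LinearMap.mem_ker.mp (hCg hc), zero_add, add_zero] at h1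
        exact h1
      rwa [hIII, Submodule.mem_bot] at hm
    subst hb0
    rw [add_zero] at h
    have hm : f v ∈ Submodule.map f V₁ ⊓ C' := by
      refine ⟨Submodule.mem_map_of_mem hv, ?_⟩
      rw [eq_neg_of_add_eq_zero_left h]
      exact neg_mem hc
    rw [hCf, Submodule.mem_bot] at hm
    rw [hm, zero_add] at h
    exact ⟨hm, rfl, h⟩
  rw [iSupIndep_def]
  intro i
  fin_cases i <;> simp only [Fin.zero_eta, Fin.mk_one, Fin.reduceFinMk, Matrix.cons_val]
  · refine Disjoint.mono_right (c := LinearMap.ker f₂ ⊓ V₂ ⊔ C')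
      (iSup₂_le fun j hj => by fin_cases j <;> simp_all) ?_
    refine Submodule.disjoint_def.mpr fun x hx hy => ?_
    obtain ⟨b, hb, c, hc, rfl⟩ := Submodule.mem_sup.mp hy
    obtain ⟨h1, -, -⟩ := key _ hx _ (neg_mem hb) _ (neg_mem hc) (by simp)
    exact h1
  · refine Disjoint.mono_right (c := Submodule.map f V₁ ⊔ C')
      (iSup₂_le fun j hj => by fin_cases j <;> simp_all) ?_
    refine Submodule.disjoint_def.mpr fun x hx hy => ?_
    obtain ⟨a, ha, c, hc, rfl⟩ := Submodule.mem_sup.mp hy
    obtain ⟨-, h1, -⟩ := key _ (neg_mem ha) _ hx _ (neg_mem hc) (by abel)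
    exact h1
  · refine Disjoint.mono_right (c := Submodule.map f V₁ ⊔ (LinearMap.ker f₂ ⊓ V₂))
      (iSup₂_le fun j hj => by fin_cases j <;> simp_all) ?_
    refine Submodule.disjoint_def.mpr fun x hx hy => ?_
    obtain ⟨a, ha, b, hb, rfl⟩ := Submodule.mem_sup.mp hy
    obtain ⟨-, -, h1⟩ := key _ (neg_mem ha) _ (neg_mem hb) _ hx (by abel)
    exact h1

end Groth.Agent.S13925
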