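import Groth.Statements.S13926
import Mathlib.LinearAlgebra.FiniteDimensional.Basic
import Mathlib.LinearAlgebra.FiniteDimensional.Lemmas


set_option autoImplicit false
universe u v w
open W4c1limliniiii

namespace Groth.Agent.S13926

/-- Let k be a field, E₁ and E₂ finite-dimensional vector spaces over k of the same dimension, f : E₁ →
E₂ and g : E₂ → E₁ linear maps whose composite g ∘ f is multiplication by a scalar s, and V₁ a
subspace of E₁. Then there is a subspace V₂ of E₂ of the same dimension as V₁ with f(V₁) ≤ V₂ and
g(V₂) ≤ V₁. (The published statement is the surjectivity of the truncation morphisms of a linked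
Grassmannian, with a further assertion on lifting families; this row is the lifting step over a
field — over a point the chain of linked subspaces V_1, …, V_{n'} extends one index at a time — and
assumes only g ∘ f = s.) -/
theorem result (k : Type u) [Field k]
    (E₁ : Type v) (E₂ : Type w) [AddCommGroup E₁] [Module k E₁] [FiniteDimensional k E₁]
    [AddCommGroup E₂] [Module k E₂] [FiniteDimensional k E₂]
    (hdim : Module.finrank k E₁ = Module.finrank k E₂)
    (f : E₁ →ₗ[k] E₂) (g : E₂ →ₗ[k] E₁) (s : k) (hgf : g.comp f = s • LinearMap.id)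
    (V₁ : Submodule k E₁) :
    ∃ V₂ : Submodule k E₂, Module.finrank k V₂ = Module.finrank k V₁ ∧
      Submodule.map f V₁ ≤ V₂ ∧ Submodule.map g V₂ ≤ V₁ := by
  classical
  let A := Submodule.map f V₁
  let B := Submodule.comap g V₁
  have hAB : A ≤ B := by
    rintro _ ⟨v, hv, rfl⟩
    show g (f v) ∈ V₁
    rw [← LinearMap.comp_apply, hgf]
    exact V₁.smul_mem s hv
  have hA : Module.finrank k A ≤ Module.finrank k V₁ := Submodule.finrank_map_le f V₁
  have hB : Module.finrank k V₁ ≤ Module.finrank k B := by
    have h1 := Submodule.finrank_sup_add_finrank_inf_eq V₁ (LinearMap.range g)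
    have h2 := Submodule.finrank_le (V₁ ⊔ LinearMap.range g)
    have h3 := LinearMap.finrank_range_add_finrank_ker g
    have h4 := LinearMap.finrank_range_add_finrank_ker (g.domRestrict B)
    have h5 : LinearMap.range (g.domRestrict B) = V₁ ⊓ LinearMap.range g := by
      rw [LinearMap.range_domRestrict, Submodule.map_comap_eq, inf_comm]
    have h6 : Module.finrank k (LinearMap.ker (g.domRestrict B)) = Module.finrank k (LinearMap.ker g) := by
      rw [LinearMap.ker_domRestrict]
      exact (Submodule.comapSubtypeEquivOfLe (p := LinearMap.ker g) (q := B) (fun x hx => show g x ∈ V₁ from (LinearMap.mem_ker.mp hx).symm ▸ V₁.zero_mem)).finrank_eq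
    rw [h5, h6] at h4
    omega
  suffices key : ∀ m : ℕ, ∀ A : Submodule k E₂, A ≤ B → Module.finrank k A + m ≤ Module.finrank k B →
      ∃ W, A ≤ W ∧ W ≤ B ∧ Module.finrank k W = Module.finrank k A + m by
    obtain ⟨W, hW1, hW2, hW3⟩ := key (Module.finrank k V₁ - Module.finrank k A) A hAB (by omega)
    exact ⟨W, by omega, hW1, Submodule.map_le_iff_le_comap.mpr hW2⟩
  intro m
  induction m with
  | zero => exact fun A h _ => ⟨A, le_rfl, h, by simp⟩
  | succ m ih =>
    intro A h hle
    obtain ⟨x, hxB, hxA⟩ := SetLike.exists_of_lt (lt_of_le_of_ne h fun e => by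
      subst e; omega)
    have hd : Module.finrank k (A ⊔ k ∙ x : Submodule k E₂) = Module.finrank k A + 1 := by
      have h1 := Submodule.finrank_sup_add_finrank_inf_eq A (k ∙ x)
      have hx0 : x ≠ 0 := fun e => hxA (e ▸ A.zero_mem)
      rw [finrank_span_singleton hx0] at h1
      have h2 : A ⊓ (k ∙ x) = ⊥ := disjoint_iff.mp ((Submodule.disjoint_span_singleton' hx0).mpr hxA)
      rw [h2, finrank_bot] at h1
      omega
    obtain ⟨W, hW1, hW2, hW3⟩ := ih (A ⊔ k ∙ x) (sup_le h ((Submodule.span_singleton_le_iff_mem _ _).mpr hxB))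
      (by omega)
    exact ⟨W, le_sup_left.trans hW1, hW2, by omega⟩

end Groth.Agent.S13926
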