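import Groth.Statements.S13928
import Groth.Agent.Lib.LinkExact10.Main

set_option autoImplicit false
universe u
open W4c1limliniiii

namespace Groth.Agent.S13928

open AlgebraicGeometry CategoryTheory in
/-- Let k be a field, 0 < r < d, and for i < n let f_i, g_i be linear maps forward and backward between
the i-th and (i+1)-st of n + 1 copies of k^d forming a linked Grassmannian over the point Spec k:
for a single scalar s every composite f_i ∘ g_i and g_i ∘ f_i is multiplication by s; rank f_i +
rank g_i ≥ d for each i; and for consecutive indices the image of f_i meets the kernel of f_{i+1}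
only in 0 and the image of g_{i+1} meets the kernel of g_i only in 0. Suppose the k-scheme X
represents the linked Grassmannian functor of rank-r sub-bundles (bijections, compatible with base
change on each Grassmannian component, between k-morphisms Spec A → X and tuples of submodules V_i
of A^d with locally free quotients of rank d − r carried into one another by the f_i and g_i). Then
every irreducible component of the underlying space of X has topological Krull dimension r(d − r).
(The published statement is about every fibre of a linked Grassmannian over an integral
Cohen–Macaulay base; a fibre is the linked Grassmannian over the residue field, which is the case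
stated here.) -/
theorem result (k : Type u) [Field k]
    (d r n : ℕ) (hr : 0 < r) (hrd : r < d) (f g : Fin n → ((Fin d → k) →ₗ[k] (Fin d → k)))
    (s : k) (hI : ∀ i, (f i).comp (g i) = s • LinearMap.id ∧ (g i).comp (f i) = s • LinearMap.id)
    (hII : ∀ i, d ≤ Module.finrank k (LinearMap.range (f i)) + Module.finrank k (LinearMap.range (g i)))
    (hIII : ∀ i j : Fin n, i.val + 1 = j.val →
      LinearMap.range (f i) ⊓ LinearMap.ker (f j) = ⊥ ∧
        LinearMap.range (g j) ⊓ LinearMap.ker (g i) = ⊥)
    (X : Over (Spec (CommRingCat.of k)))
    (e : ∀ A : CommAlgCat.{u} k,
      (Over.mk (Spec.map (CommRingCat.ofHom (algebraMap k A))) ⟶ X) ≃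
        W4c1limliniiii.LGPoints k d r n f g A)
    (he : ∀ (A B : CommAlgCat.{u} k) (φ : A ⟶ B)
      (x : Over.mk (Spec.map (CommRingCat.ofHom (algebraMap k A))) ⟶ X)
      (x' : Over.mk (Spec.map (CommRingCat.ofHom (algebraMap k B))) ⟶ X),
      x'.left = Spec.map (CommRingCat.ofHom φ.hom.toRingHom) ≫ x.left →
        ∀ i, (e B x').1 i = Module.Grassmannian.map φ.hom ((e A x).1 i)) :
    ∀ Z ∈ irreducibleComponents ↥X.left, topologicalKrullDim ↥Z = (r * (d - r) : ℕ) := by
  exact fun Z hZ => GrothLib.LinkExact10.dim_component he hrd.le hI (GrothLib.LinkExact10.lhyp_field hI hII hIII) hZ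


end Groth.Agent.S13928
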