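import Groth.Statements.S13934
import Groth.Agent.Lib.Euler.Divisor
import Groth.Agent.Lib.CurveMult.RankTwo
import Groth.Agent.Lib.Euler.InvHom
import Groth.Agent.Lib.Euler.RankAdd

set_option autoImplicit false
universe u
open CategoryTheory CategoryTheory.Limits AlgebraicGeometry
open W4c1limliniiii

namespace Groth.Agent.S13934

/-- On a smooth proper integral curve over an algebraically closed field (any characteristic), let 0 → L
→ E → M → 0 be a short exact sequence of O_X-modules with E finite locally free of rank 2 and degree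
0, L and M invertible and deg L > 0 (so M is det E ⊗ L⁻¹). Then: every invertible sheaf N admitting
a non-zero map N → E has deg N ≤ deg L, so L is the line bundle of maximal degree in E; every
invertible subsheaf N of E of positive degree with invertible quotient E/N coincides with L (some
isomorphism N ≅ L commutes with the inclusions); and E is not an extension of two invertible sheaves
of degree 0. Degrees are χ(−) minus rank times χ(O_X). (The published lemma is stated on a curve of
genus 2 in characteristic p; its argument uses neither, and this row assumes neither.) -/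
theorem result (k : Type u) [Field k] [IsAlgClosed k] (X : Scheme.{u}) [X.Over (Spec (CommRingCat.of k))]
    [IsIntegral X] [IsProper (X ↘ Spec (CommRingCat.of k))] [Smooth (X ↘ Spec (CommRingCat.of k))]
    (hdim : topologicalKrullDim X = 1)
    (S : ShortComplex X.Modules) (hS : S.ShortExact)
    (hE : FlatMod.IsFinLocFreeOfRank 2 S.X₂) (hE0 : Curv2.deg k X S.X₂ 2 = 0)
    (hL : PicF.IsInvertible S.X₁) (hM : PicF.IsInvertible S.X₃) (hpos : 0 < Curv2.deg k X S.X₁ 1) :
    (∀ (N : X.Modules), PicF.IsInvertible N → ∀ j : N ⟶ S.X₂, j ≠ 0 →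
        Curv2.deg k X N 1 ≤ Curv2.deg k X S.X₁ 1) ∧
    (∀ (N : X.Modules), PicF.IsInvertible N → ∀ (j : N ⟶ S.X₂), Mono j →
        PicF.IsInvertible (cokernel j) → 0 < Curv2.deg k X N 1 → ∃ φ : N ≅ S.X₁, φ.hom ≫ S.f = j) ∧
    (∀ (N N' : X.Modules), PicF.IsInvertible N → PicF.IsInvertible N' →
        Curv2.deg k X N 1 = 0 → Curv2.deg k X N' 1 = 0 →
        ∀ (a : N ⟶ S.X₂) (b : S.X₂ ⟶ N') (w : a ≫ b = 0), ¬ (ShortComplex.mk a b w).ShortExact) := by
  have hd : topologicalKrullDim X ≤ 1 := hdim.le
  haveI := hS.mono_f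
  haveI := hS.epi_g
  have hsum : Curv2.deg k X S.X₂ 2 = Curv2.deg k X S.X₁ 1 + Curv2.deg k X S.X₃ 1 :=
    GrothLib.Euler.deg_additive k hS (GrothLib.Euler.isFinLocFreeOfRank_one' hL) hE
      (GrothLib.Euler.isFinLocFreeOfRank_one' hM)
  -- maps of positive degree land in the sub-bundle
  have key : ∀ (N : X.Modules), PicF.IsInvertible N → ∀ j : N ⟶ S.X₂,
      -Curv2.deg k X S.X₁ 1 < Curv2.deg k X N 1 → ∃ φ : N ⟶ S.X₁, φ ≫ S.f = j := by
    intro N hN j hlt
    have h0 : j ≫ S.g = 0 := by
      by_contra h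
      obtain ⟨q, hq, -⟩ := GrothLib.Euler.deg_le_of_ne_zero k hd hN hM h
      omega
    exact ⟨hS.exact.lift j h0, hS.exact.lift_f j h0⟩
  refine ⟨fun N hN j hj => ?_, fun N hN j hjm hcok hpos' => ?_, fun N N' hN hN' hN0 hN0' a b w hab => ?_⟩
  · by_contra hlt
    obtain ⟨φ, hφ⟩ := key N hN j (by omega)
    obtain ⟨q, hq, -⟩ := GrothLib.Euler.deg_le_of_ne_zero k hd hN hL
      (φ := φ) (fun h => hj (by rw [← hφ, h, zero_comp]))
    omega
  · obtain ⟨φ, hφ⟩ := key N hN j (by omega)
    haveI := hjm
    let T : ShortComplex X.Modules := ShortComplex.mk j (cokernel.π j) (cokernel.condition j)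
    have hT : T.ShortExact := { exact := ShortComplex.exact_of_g_is_cokernel _ (cokernelIsCokernel j) }
    have hTsum : Curv2.deg k X S.X₂ 2 = Curv2.deg k X N 1 + Curv2.deg k X (cokernel j) 1 :=
      GrothLib.Euler.deg_additive k hT (GrothLib.Euler.isFinLocFreeOfRank_one' hN) hE
        (GrothLib.Euler.isFinLocFreeOfRank_one' hcok)
    have h0 : S.f ≫ T.g = 0 := by
      by_contra h
      obtain ⟨q, hq, -⟩ := GrothLib.Euler.deg_le_of_ne_zero k hd hL hcok h
      omega
    let ψ : S.X₁ ⟶ N := hT.exact.lift S.f h0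
    have hψ : ψ ≫ j = S.f := hT.exact.lift_f S.f h0
    refine ⟨⟨φ, ψ, ?_, ?_⟩, hφ⟩
    · rw [← cancel_mono j, Category.assoc, hψ, hφ, Category.id_comp]
    · rw [← cancel_mono S.f, Category.assoc, hφ, hψ, Category.id_comp]
  · haveI : Mono a := hab.mono_f
    have h0 : S.f ≫ b = 0 := by
      by_contra h
      obtain ⟨q, hq, -⟩ := GrothLib.Euler.deg_le_of_ne_zero k hd hL hN' h
      omega
    let T : ShortComplex X.Modules := ShortComplex.mk a b w
    let ψ : S.X₁ ⟶ N := hab.exact.lift S.f h0
    have hψ : ψ ≫ a = S.f := hab.exact.lift_f S.f h0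
    have hne : ψ ≠ 0 := by
      intro h
      have hf0 : S.f = 0 := by rw [← hψ, h, zero_comp]
      have hz : IsZero S.X₁ := IsZero.of_mono_eq_zero S.f hf0
      exact GrothLib.CurveMult.not_isZero_of_invertible hL hz
    obtain ⟨q, hq, -⟩ := GrothLib.Euler.deg_le_of_ne_zero k hd hL hN hne
    omega

end Groth.Agent.S13934
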