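import Groth.Statements.S13935
import Groth.Agent.Lib.InsepLimit.Main

set_option autoImplicit false
universe u
open W4c1limliniiii

namespace Groth.Agent.S13935

open Polynomial in
/-- Let A be a discrete valuation ring of prime characteristic p containing a coefficient field — a
subfield k₀ ⊆ A mapping isomorphically onto the residue field k, which is algebraically closed —
with fraction field K. Let F, G ∈ A[x] have degree at most d and k-linearly independent reductions,
so that ⟨F, G⟩ is a family of pencils over Spec A; suppose F and G are coprime over K and the
generic member ⟨F, G⟩ ⊗ K is a base-point-free separable pencil of degree d with ramification index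
exactly e_i at points P_1, …, P_n ∈ A of the affine line (admissible data: 2 ≤ e_i ≤ d, ∑ (e_i − 1)
= 2d − 2, and every e_i < p), while its special member ⟨F̄, Ḡ⟩ over k is inseparable. If the
reductions P̄_i ∈ k are pairwise distinct, then they are in special position in the following sense:
for some integer m ≥ 1 with mp ≤ d and some ε ∈ {0, 1} there is a base-point-free separable pencil
over k of degree d + mp − 1 + ε with ramification index exactly e_i at P̄_i for each i and exactly
2mp − 1 + 2ε at infinity. (The companion case in which two of the sections meet in the special fibre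
is not restated.) -/
theorem result
    (p : ℕ) [Fact p.Prime] (k₀ : Type u) [Field k₀]
    (A : Type u) [CommRing A] [IsDomain A] [IsDiscreteValuationRing A] [CharP A p] [Algebra k₀ A]
    (hcoef : Function.Bijective (algebraMap k₀ (IsLocalRing.ResidueField A)))
    [IsAlgClosed (IsLocalRing.ResidueField A)]
    (K : Type u) [Field K] [Algebra A K] [IsFractionRing A K]
    (d n : ℕ) (e : Fin n → ℕ) (he : W4c1limliniiii.Admissible p d e) (hlt : ∀ i, e i < p)
    (P : Fin n → A) (F G : A[X]) (hF : F.natDegree ≤ d) (hG : G.natDegree ≤ d)
    (hind : LinearIndependent (IsLocalRing.ResidueField A)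
      ![F.map (IsLocalRing.residue A), G.map (IsLocalRing.residue A)])
    (hcop : IsCoprime (F.map (algebraMap A K)) (G.map (algebraMap A K)))
    (hgen : Submodule.span K {F.map (algebraMap A K), G.map (algebraMap A K)} ∈
      W4c1limliniiii.ramMaps d (fun i => algebraMap A K (P i)) e)
    (hinsep : ¬ W4c1limliniiii.IsSeparable
      (Submodule.span (IsLocalRing.ResidueField A)
        {F.map (IsLocalRing.residue A), G.map (IsLocalRing.residue A)}))
    (hdist : Function.Injective (fun i => IsLocalRing.residue A (P i))) :
    ∃ m ε : ℕ, 1 ≤ m ∧ m * p ≤ d ∧ ε ≤ 1 ∧
      ∃ V ∈ W4c1limliniiii.ramMaps (d + m * p - 1 + ε) (fun i => IsLocalRing.residue A (P i)) e,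
        W4c1limliniiii.HasRamIdxInf (d + m * p - 1 + ε) V (2 * m * p - 1 + 2 * ε) := by
  refine GrothLib.InsepLimit.exists_special (K := K) p
    ((algebraMap k₀ A).comp (RingEquiv.ofBijective _ hcoef).symm.toRingHom) (fun x => ?_)
    d n e he hlt P F G hF hG hind hgen hinsep hdist
  exact (RingEquiv.ofBijective _ hcoef).apply_symm_apply x

end Groth.Agent.S13935
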