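import Groth.Statements.S13936
import Mathlib.RingTheory.Kaehler.Basic

set_option autoImplicit false
universe u
open W4c1limliniiii

open scoped TensorProduct

namespace Groth.Agent.S13936

/-- Let R be a commutative ring, S_Y → S_X a homomorphism of R-algebras (an affine piece of a morphism f
: X → Y of schemes over Spec R) and σ : S_X → R an R-algebra retraction (a section of X over the
base) with kernel I. For e ≥ 1 write T^{e−1} for the augmentation ideal of the ring of principal
parts of order e − 1 (the kernel of P^{e−1} → the algebra; for e = 2 this is the module of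
differentials). Then the natural map T^{e−1}(S_Y/R) → T^{e−1}(S_X/R) takes values in I ·
T^{e−1}(S_X/R) — that is, the induced map f^*T^{e−1}_Y → T^{e−1}_X vanishes at the section σ — if
and only if every element of S_Y whose image in S_X lies in I has image in I^e, which says that the
fibre of f through σ contains the e-th order thickening of σ. (The published statement is for a
morphism of separated schemes over a base and sections over an arbitrary base change; this row is
the affine computation it reduces to.) -/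
theorem result (R SY SX : Type u)
    [CommRing R] [CommRing SY] [CommRing SX] [Algebra R SY] [Algebra R SX] [Algebra SY SX]
    [IsScalarTower R SY SX] (σ : SX →ₐ[R] R) (e : ℕ) (he : 1 ≤ e) :
    (∀ y ∈ PP16.augIdeal (e - 1) R SY,
        PP16.map (e - 1) R SY R SX y ∈
          RingHom.ker σ.toRingHom • (PP16.augIdeal (e - 1) R SX).restrictScalars SX) ↔
      (∀ b : SY, algebraMap SY SX b ∈ RingHom.ker σ.toRingHom →
        algebraMap SY SX b ∈ RingHom.ker σ.toRingHom ^ e) := by
  classical
  obtain ⟨n, rfl⟩ : ∃ n, e = n + 1 := ⟨e - 1, by omega⟩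
  show (∀ y ∈ PP16.augIdeal n R SY, PP16.map n R SY R SX y ∈ RingHom.ker σ.toRingHom • (PP16.augIdeal n R SX).restrictScalars SX) ↔ _
  let I : Ideal SX := RingHom.ker σ.toRingHom
  let D0 : Ideal (SX ⊗[R] SX) := KaehlerDifferential.ideal R SX
  let inl : SX →+* SX ⊗[R] SX := Algebra.TensorProduct.includeLeftRingHom
  let mk := Ideal.Quotient.mk (D0 ^ (n + 1))
  have htarget : ∀ y : PP16.P n R SX,
      y ∈ I • (PP16.augIdeal n R SX).restrictScalars SX ↔ y ∈ (I.map inl * D0).map mk := fun y => by
    rw [← Ideal.smul_restrictScalars, Submodule.restrictScalars_mem, smul_eq_mul, Ideal.map_mul, Ideal.map_map]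
    rfl
  -- evaluation of the first factor at the section
  let τ : SX ⊗[R] SX →ₐ[R] SX :=
    Algebra.TensorProduct.lift ((Algebra.ofId R SX).comp σ) (AlgHom.id R SX) fun _ _ => Commute.all _ _
  have hτ : ∀ a c, τ (a ⊗ₜ c) = algebraMap R SX (σ a) * c := fun a c => by simp [τ]
  have hτD0 : ∀ z ∈ D0, τ z ∈ I := by
    intro z hz
    refine (Ideal.span_le.2 ?_ : Ideal.span (Set.range fun s : SX => (1 : SX) ⊗ₜ[R] s - s ⊗ₜ[R] (1 : SX)) ≤ I.comap τ)
      (by rw [KaehlerDifferential.span_range_eq_ideal]; exact hz)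
    rintro _ ⟨s, rfl⟩
    simp [hτ, I, RingHom.mem_ker]
  constructor
  · intro h b hb
    have hgen : (1 : SY) ⊗ₜ[R] b - b ⊗ₜ[R] (1 : SY) ∈ KaehlerDifferential.ideal R SY :=
      KaehlerDifferential.one_smul_sub_smul_one_mem_ideal R b
    have h1 := (htarget _).1 (h _ (Ideal.mem_map_of_mem _ hgen))
    rw [PP16.map_mk, Ideal.mem_quotient_iff_mem_sup, map_sub, PP16.tensorMap_tmul, PP16.tensorMap_tmul, map_one] at h1
    have hker : τ ((1 : SX) ⊗ₜ[R] algebraMap SY SX b - algebraMap SY SX b ⊗ₜ[R] (1 : SX)) = algebraMap SY SX b := by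
      simp [hτ, show σ (algebraMap SY SX b) = 0 from hb]
    obtain ⟨u, hu, w, hw, e⟩ := Submodule.mem_sup.1 h1
    rw [← hker, ← e, map_add]
    refine add_mem ?_ ?_
    · have : τ u = 0 := by
        refine Submodule.mul_induction_on hu (fun x hx y hy => ?_) fun x y hx hy => by rw [map_add, hx, hy, add_zero]
        have hx' : x ∈ RingHom.ker τ := by
          refine Ideal.map_le_iff_le_comap.2 (fun i hi => ?_) hx
          show τ (i ⊗ₜ[R] (1 : SX)) = 0
          rw [hτ, show σ i = 0 from hi, map_zero, zero_mul]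
        rw [map_mul, RingHom.mem_ker.1 hx', zero_mul]
      rw [this]; exact zero_mem _
    · refine Ideal.pow_right_mono (Ideal.map_le_iff_le_comap.2 hτD0) _ ?_
      rw [← Ideal.map_pow]
      exact Ideal.mem_map_of_mem _ hw
  · intro h y hy
    rw [htarget]
    obtain ⟨z, hz, rfl⟩ := (Ideal.mem_map_iff_of_surjective _ Ideal.Quotient.mk_surjective).1 hy
    rw [PP16.map_mk]
    suffices hsub : KaehlerDifferential.ideal R SY ≤ ((I.map inl * D0).map mk).comap (mk.comp (PP16.tensorMap R SY R SX).toRingHom) from hsub hz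
    rw [← KaehlerDifferential.span_range_eq_ideal, Ideal.span_le]
    rintro _ ⟨b, rfl⟩
    rw [SetLike.mem_coe, Ideal.mem_comap, RingHom.comp_apply, Ideal.mem_quotient_iff_mem_sup]
    show PP16.tensorMap R SY R SX ((1 : SY) ⊗ₜ[R] b - b ⊗ₜ[R] (1 : SY)) ∈ I.map inl * D0 ⊔ D0 ^ (n + 1)
    rw [map_sub, PP16.tensorMap_tmul, PP16.tensorMap_tmul, map_one]
    -- shift `b` by its value at the section
    let c : SX := algebraMap SY SX (b - algebraMap R SY (σ (algebraMap SY SX b)))
    have hc : c = algebraMap SY SX b - algebraMap R SX (σ (algebraMap SY SX b)) := by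
      simp only [c, map_sub, ← IsScalarTower.algebraMap_apply]
    have hcI : c ∈ I := by
      show σ c = 0
      rw [hc, map_sub, AlgHom.commutes, Algebra.algebraMap_self, RingHom.id_apply, sub_self]
    have hce : c ∈ I ^ (n + 1) := h _ hcI
    have hrw : (1 : SX) ⊗ₜ[R] algebraMap SY SX b - algebraMap SY SX b ⊗ₜ[R] (1 : SX) = (1 : SX) ⊗ₜ[R] c - c ⊗ₜ[R] (1 : SX) := by
      rw [hc, TensorProduct.tmul_sub, TensorProduct.sub_tmul, Algebra.algebraMap_eq_smul_one (R := R) (A := SX), TensorProduct.tmul_smul,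
        TensorProduct.smul_tmul']
      abel
    rw [hrw]
    have hgens : ∀ i ∈ I, (1 : SX) ⊗ₜ[R] i ∈ D0 ⊔ I.map inl := fun i hi =>
      Submodule.mem_sup.2 ⟨(1 : SX) ⊗ₜ[R] i - i ⊗ₜ[R] (1 : SX), KaehlerDifferential.one_smul_sub_smul_one_mem_ideal R i,
        inl i, Ideal.mem_map_of_mem _ hi, sub_add_cancel _ _⟩
    have hpow : ∀ m, (D0 ⊔ I.map inl) ^ m ≤ D0 ^ m ⊔ I.map inl := by
      intro m
      induction m with
      | zero => simp
      | succ m ih =>
        rw [pow_succ, pow_succ]
        refine (Ideal.mul_mono_left ih).trans ?_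
        rw [Ideal.sup_mul, Ideal.mul_sup]
        exact sup_le (sup_le le_sup_left (Ideal.mul_le_right.trans le_sup_right |> fun h => h))
          (Ideal.mul_le_left.trans le_sup_right |> fun h => h)
    have h1 : (1 : SX) ⊗ₜ[R] c ∈ D0 ^ (n + 1) ⊔ I.map inl := by
      refine hpow _ (Ideal.pow_right_mono (Ideal.map_le_iff_le_comap.2 hgens : I.map (Algebra.TensorProduct.includeRight (R := R) (A := SX) (B := SX)) ≤ D0 ⊔ I.map inl) _ ?_)
      rw [← Ideal.map_pow]
      exact Ideal.mem_map_of_mem (Algebra.TensorProduct.includeRight (R := R) (A := SX) (B := SX)) hce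
    obtain ⟨u, hu, w, hw, e⟩ := Submodule.mem_sup.1 h1
    have hw' : w - c ⊗ₜ[R] (1 : SX) ∈ I.map inl := sub_mem hw (Ideal.mem_map_of_mem inl hcI)
    have hwD0 : w - c ⊗ₜ[R] (1 : SX) ∈ D0 := by
      have : w - c ⊗ₜ[R] (1 : SX) = ((1 : SX) ⊗ₜ[R] c - c ⊗ₜ[R] (1 : SX)) - u := by rw [← e]; abel
      rw [this]
      exact sub_mem (KaehlerDifferential.one_smul_sub_smul_one_mem_ideal R c) (Ideal.pow_le_self (Nat.succ_ne_zero n) hu)
    rw [← e, show u + w - c ⊗ₜ[R] (1 : SX) = (w - c ⊗ₜ[R] (1 : SX)) + u by abel]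
    refine Submodule.add_mem_sup ?_ hu
    -- the first factor splits the diagonal
    let m' : SX ⊗[R] SX →ₐ[R] SX := Algebra.TensorProduct.lmul' R
    have hsplit : ∀ x ∈ I.map inl, x - inl (m' x) ∈ I.map inl * D0 := by
      intro x hx
      induction hx using Submodule.span_induction with
      | mem y hy =>
        obtain ⟨i, -, rfl⟩ := hy
        simp [inl, m']
      | zero => simp
      | add a b _ _ ha hb => simpa [map_add, add_sub_add_comm] using add_mem ha hb
      | smul r a ha' ha =>
        rw [smul_eq_mul, map_mul, map_mul, show r * a - inl (m' r) * inl (m' a) = inl (m' r) * (a - inl (m' a)) + a * (r - inl (m' r)) by ring]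
        refine add_mem (Ideal.mul_mem_left _ _ ha) (Ideal.mul_mem_mul ha' ?_)
        show r - inl (m' r) ∈ RingHom.ker m'
        rw [RingHom.mem_ker, map_sub]
        simp [inl, m']
    have := hsplit _ hw'
    rwa [show m' (w - c ⊗ₜ[R] (1 : SX)) = 0 from hwD0, map_zero, sub_zero] at this


end Groth.Agent.S13936
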