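import Groth.Statements.S13937
import Mathlib.RingTheory.Polynomial.Basic
import Mathlib.Algebra.Polynomial.Div
import Mathlib.Algebra.Polynomial.RingDivision
import Mathlib.FieldTheory.Finiteness

set_option autoImplicit false
universe u
open W4c1limliniiii

namespace Groth.Agent.S13937

open Polynomial in
open Polynomial in
/-- The polynomials of degree at most `d` vanishing to order `e` at `a`. -/
noncomputable def vanish (k : Type u) [Field k] (d : ℕ) (a : k) (e : ℕ) : Submodule k k[X] :=
  Polynomial.degreeLE k d ⊓ (Ideal.span {(X - C a) ^ e}).restrictScalars k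

open Polynomial in
theorem mem_vanish {k : Type u} [Field k] {d : ℕ} {a : k} {e : ℕ} {s : k[X]} :
    s ∈ vanish k d a e ↔ s.degree ≤ d ∧ (X - C a) ^ e ∣ s := by
  simp [vanish, Polynomial.mem_degreeLE, Ideal.mem_span_singleton]

open Polynomial in
theorem dvd_iff_le {k : Type u} [Field k] {a : k} {e : ℕ} {s : k[X]} (hs : s ≠ 0) :
    (X - C a) ^ e ∣ s ↔ e ≤ rootMultiplicity a s := (le_rootMultiplicity_iff hs).symm

open Polynomial in
theorem eq_zero_of_dvd {k : Type u} [Field k] {d : ℕ} {a b : k} (hab : a ≠ b) {e f : ℕ} (hef : d < e + f) {s : k[X]}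
    (h : s ∈ vanish k d a e) (h' : s ∈ vanish k d b f) : s = 0 := by
  rw [mem_vanish] at h h'
  by_contra hs
  have hd : (X - C a) ^ e * (X - C b) ^ f ∣ s :=
    (isCoprime_X_sub_C_of_isUnit_sub (sub_ne_zero.2 hab).isUnit).pow.mul_dvd h.2 h'.2
  have := natDegree_le_of_dvd hd hs
  rw [natDegree_mul (pow_ne_zero _ (X_sub_C_ne_zero a)) (pow_ne_zero _ (X_sub_C_ne_zero b)), natDegree_pow,
    natDegree_pow, natDegree_X_sub_C, natDegree_X_sub_C, mul_one, mul_one] at this
  have := natDegree_le_of_degree_le h.1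
  omega

open Polynomial in
theorem finrank_vanish {k : Type u} [Field k] {d : ℕ} {a : k} {e : ℕ} (he : e ≤ d) :
    d - e + 1 ≤ Module.finrank k (vanish k d a e) := by
  let φ : (degreeLT k (d - e + 1)) →ₗ[k] vanish k d a e :=
    ((LinearMap.mulLeft k ((X - C a) ^ e)) ∘ₗ (degreeLT k (d - e + 1)).subtype).codRestrict _ fun s => by
      rw [mem_vanish]
      refine ⟨?_, dvd_mul_right _ _⟩
      show degree ((X - C a) ^ e * (s : k[X])) ≤ d
      have hs := mem_degreeLT.1 s.2
      rw [degree_mul, degree_pow, degree_X_sub_C]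
      rcases eq_or_ne (s : k[X]) 0 with h | h
      · simp [h]
      · rw [degree_eq_natDegree h] at hs ⊢
        have : (s : k[X]).natDegree < d - e + 1 := by exact_mod_cast hs
        simp only [nsmul_eq_mul, mul_one]
        exact_mod_cast (show e + (s : k[X]).natDegree ≤ d by omega)
  have hφ : Function.Injective φ := fun x y h => Subtype.ext
    (mul_left_cancel₀ (pow_ne_zero e (X_sub_C_ne_zero a)) (congrArg Subtype.val h))
  haveI : Module.Finite k (vanish k d a e) :=
    Module.Finite.of_injective ((degreeLTEquiv k (d + 1)).toLinearMap ∘ₗ Submodule.inclusion (fun s hs => by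
      rw [mem_degreeLT]
      exact lt_of_le_of_lt (mem_vanish.1 hs).1 (by exact_mod_cast Nat.lt_succ_self d)))
      ((degreeLTEquiv k (d + 1)).injective.comp (Submodule.inclusion_injective _))
  have := LinearMap.finrank_le_finrank_of_injective hφ
  rwa [(degreeLTEquiv k _).finrank_eq, Module.finrank_fintype_fun_eq_card, Fintype.card_fin] at this

open Polynomial in

/-- Over an algebraically closed field of characteristic p (zero allowed), fix three distinct points
P_1, P_2, P_3 of the affine line and admissible indices (2 ≤ e_i ≤ d, e_i prime to p, ∑ (e_i − 1) =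
2d − 2). The two-dimensional spaces V of polynomials of degree at most d that contain, for each i, a
non-zero member vanishing to order at least e_i at P_i (the intersection of the three Schubert
cycles in the Grassmannian of pencils) form a projective space of some dimension m ≥ 0: there is a
non-zero linear space L of pairs of polynomials such that sending a non-zero pair (F, G) ∈ L to the
span of F and G is a surjection onto that set of spaces under which two non-zero pairs have the same
image exactly when they are proportional. -/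
theorem result (k : Type u) [Field k]
    [IsAlgClosed k] (p : ℕ) [CharP k p] (d : ℕ) (P : Fin 3 → k) (hP : Function.Injective P)
    (e : Fin 3 → ℕ) (he : W4c1limliniiii.Admissible p d e) :
    ∃ L : Submodule k (k[X] × k[X]), L ≠ ⊥ ∧
      (∀ v ∈ L, v ≠ 0 →
        Submodule.span k {v.1, v.2} ≤ Polynomial.degreeLE k d ∧
          Module.finrank k (Submodule.span k {v.1, v.2}) = 2 ∧
          ∀ i, ∃ s ∈ Submodule.span k {v.1, v.2}, s ≠ 0 ∧
            e i ≤ Polynomial.rootMultiplicity (P i) s) ∧
      (∀ V : Submodule k k[X], V ≤ Polynomial.degreeLE k d → Module.finrank k V = 2 →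
        (∀ i, ∃ s ∈ V, s ≠ 0 ∧ e i ≤ Polynomial.rootMultiplicity (P i) s) →
          ∃ v ∈ L, v ≠ 0 ∧ Submodule.span k {v.1, v.2} = V) ∧
      (∀ v ∈ L, ∀ w ∈ L, v ≠ 0 → w ≠ 0 →
        Submodule.span k {v.1, v.2} = Submodule.span k {w.1, w.2} → ∃ c : k, w = c • v) := by
  classical
  obtain ⟨hbd, hsum⟩ := he
  rw [Fin.sum_univ_three] at hsum
  have hee : ∀ i j : Fin 3, i ≠ j → d < e i + e j := by
    intro i j hij
    have := (hbd 0).2.1; have := (hbd 1).2.1; have := (hbd 2).2.1
    fin_cases i <;> fin_cases j <;> simp at hij ⊢ <;> omega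
  let A : Fin 3 → Submodule k k[X] := fun i => vanish k d (P i) (e i)
  have hA : ∀ (i j : Fin 3), i ≠ j → ∀ s, s ∈ A i → s ∈ A j → s = 0 := fun i j hij s =>
    eq_zero_of_dvd (fun h => hij (hP h)) (hee i j hij)
  let L : Submodule k (k[X] × k[X]) := (A 0).prod (A 1) ⊓ (A 2).comap (LinearMap.fst k _ _ + LinearMap.snd k _ _)
  have hmem : ∀ v, v ∈ L ↔ v.1 ∈ A 0 ∧ v.2 ∈ A 1 ∧ v.1 + v.2 ∈ A 2 := fun v => by
    simp [L, Submodule.mem_prod, and_assoc]
  have hne : ∀ v ∈ L, v ≠ 0 → v.1 ≠ 0 ∧ v.2 ≠ 0 := by
    intro v hv hv0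
    obtain ⟨h0, h1, h2⟩ := (hmem v).1 hv
    constructor <;> intro h
    · rw [h, zero_add] at h2
      exact hv0 (Prod.ext h (hA 1 2 (by decide) _ h1 h2))
    · rw [h, add_zero] at h2
      exact hv0 (Prod.ext (hA 0 2 (by decide) _ h0 h2) h)
  have hind : ∀ v ∈ L, v ≠ 0 → LinearIndependent k ![v.1, v.2] := by
    intro v hv hv0
    obtain ⟨h0, h1, h2⟩ := (hmem v).1 hv
    rw [LinearIndependent.pair_iff' (hne v hv hv0).1]
    intro a h
    exact (hne v hv hv0).2 (hA 0 1 (by decide) _ (h ▸ (A 0).smul_mem a h0) h1)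
  refine ⟨L, ?_, fun v hv hv0 => ?_, fun V hV hV2 hs => ?_, fun v hv w hw hv0 hw0 hspan => ?_⟩
  · intro hbot
    let W : Submodule k k[X] := degreeLE k d
    haveI : Module.Finite k (degreeLT k (d + 1)) := Module.Finite.equiv (degreeLTEquiv k (d + 1)).symm
    haveI hWf : Module.Finite k W := by
      have : W ≤ degreeLT k (d + 1) := fun s hs => by
        rw [mem_degreeLT]
        exact lt_of_le_of_lt (mem_degreeLE.1 hs) (by exact_mod_cast Nat.lt_succ_self d)
      exact Module.Finite.of_injective (Submodule.inclusion this) (Submodule.inclusion_injective _)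
    haveI : ∀ i, Module.Finite k (A i) := fun i =>
      Module.Finite.of_injective (Submodule.inclusion (inf_le_left : A i ≤ W)) (Submodule.inclusion_injective _)
    let φ : (A 0 × A 1) × A 2 →ₗ[k] W :=
      ((((A 0).subtype ∘ₗ LinearMap.fst k _ _ + (A 1).subtype ∘ₗ LinearMap.snd k _ _) ∘ₗ LinearMap.fst k _ _) -
        (A 2).subtype ∘ₗ LinearMap.snd k _ _).codRestrict W fun x =>
          W.sub_mem (W.add_mem (x.1.1.2.1) (x.1.2.2.1)) x.2.2.1
    have hinj : Function.Injective φ := by
      rw [injective_iff_map_eq_zero]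
      intro x hx
      have hx' : (x.1.1 : k[X]) + (x.1.2 : k[X]) = (x.2 : k[X]) := sub_eq_zero.1 (congrArg Subtype.val hx)
      have hv : ((x.1.1 : k[X]), (x.1.2 : k[X])) ∈ L := (hmem _).2 ⟨x.1.1.2, x.1.2.2, hx' ▸ x.2.2⟩
      rw [hbot, Submodule.mem_bot, Prod.mk_eq_zero] at hv
      rw [hv.1, hv.2, add_zero] at hx'
      exact Prod.ext (Prod.ext (Subtype.ext hv.1) (Subtype.ext hv.2)) (Subtype.ext hx'.symm)
    have h := LinearMap.finrank_le_finrank_of_injective hinj
    rw [Module.finrank_prod, Module.finrank_prod] at h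
    have hW : Module.finrank k W ≤ d + 1 := by
      have hle : W ≤ degreeLT k (d + 1) := fun s hs => by
        rw [mem_degreeLT]
        exact lt_of_le_of_lt (mem_degreeLE.1 hs) (by exact_mod_cast Nat.lt_succ_self d)
      have := Submodule.finrank_mono hle
      rwa [(degreeLTEquiv k _).finrank_eq, Module.finrank_fintype_fun_eq_card, Fintype.card_fin] at this
    have := finrank_vanish (a := P 0) (hbd 0).2.1
    have := finrank_vanish (a := P 1) (hbd 1).2.1
    have := finrank_vanish (a := P 2) (hbd 2).2.1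
    have := (hbd 0).2.1; have := (hbd 1).2.1; have := (hbd 2).2.1
    simp only [A] at h
    omega
  · obtain ⟨h0, h1, h2⟩ := (hmem v).1 hv
    have hi := hind v hv hv0
    refine ⟨Submodule.span_le.2 (by rintro _ (rfl | rfl); exacts [h0.1, h1.1]), ?_, ?_⟩
    · have := finrank_span_eq_card hi
      rwa [Matrix.range_cons, Matrix.range_cons, Matrix.range_empty, Set.union_empty, Set.singleton_union,
        Fintype.card_fin] at this
    · have hsum' : v.1 + v.2 ≠ 0 := fun h => by
        have := (LinearIndependent.pair_iff.1 hi 1 1 (by rwa [one_smul, one_smul])).1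
        exact one_ne_zero this
      intro i
      fin_cases i
      · exact ⟨v.1, Submodule.subset_span (Or.inl rfl), (hne v hv hv0).1, (dvd_iff_le (hne v hv hv0).1).1 (mem_vanish.1 h0).2⟩
      · exact ⟨v.2, Submodule.subset_span (Or.inr rfl), (hne v hv hv0).2, (dvd_iff_le (hne v hv hv0).2).1 (mem_vanish.1 h1).2⟩
      · exact ⟨v.1 + v.2, add_mem (Submodule.subset_span (Or.inl rfl)) (Submodule.subset_span (Or.inr rfl)), hsum',
          (dvd_iff_le hsum').1 (mem_vanish.1 h2).2⟩
  · choose s hsV hs0 hse using hs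
    have hsA : ∀ i, s i ∈ A i := fun i => mem_vanish.2 ⟨mem_degreeLE.1 (hV (hsV i)), (dvd_iff_le (hs0 i)).2 (hse i)⟩
    have hi : LinearIndependent k ![s 0, s 1] := by
      rw [LinearIndependent.pair_iff' (hs0 0)]
      intro a h
      exact hs0 1 (hA 0 1 (by decide) _ (h ▸ (A 0).smul_mem a (hsA 0)) (hsA 1))
    have hVf : Module.Finite k V := Module.finite_of_finrank_eq_succ hV2
    have hspanV : Submodule.span k {s 0, s 1} = V := by
      refine Submodule.eq_of_le_of_finrank_eq (Submodule.span_le.2 (by rintro _ (rfl | rfl); exacts [hsV 0, hsV 1])) ?_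
      have := finrank_span_eq_card hi
      rw [Matrix.range_cons, Matrix.range_cons, Matrix.range_empty, Set.union_empty, Set.singleton_union,
        Fintype.card_fin] at this
      rw [this, hV2]
    obtain ⟨a, b, hab⟩ := Submodule.mem_span_pair.1 (hspanV.symm ▸ hsV 2)
    have ha : a ≠ 0 := by
      rintro rfl
      rw [zero_smul, zero_add] at hab
      exact hs0 2 (hA 1 2 (by decide) _ (hab ▸ (A 1).smul_mem b (hsA 1)) (hsA 2))
    have hb : b ≠ 0 := by
      rintro rfl
      rw [zero_smul, add_zero] at hab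
      exact hs0 2 (hA 0 2 (by decide) _ (hab ▸ (A 0).smul_mem a (hsA 0)) (hsA 2))
    refine ⟨(a • s 0, b • s 1), (hmem _).2 ⟨(A 0).smul_mem a (hsA 0), (A 1).smul_mem b (hsA 1), hab.symm ▸ hsA 2⟩,
      fun h => smul_ne_zero ha (hs0 0) (congrArg Prod.fst h), ?_⟩
    rw [← hspanV]
    simp only [Submodule.span_insert]
    rw [Submodule.span_singleton_smul_eq ha.isUnit, Submodule.span_singleton_smul_eq hb.isUnit]
  · obtain ⟨h0, h1, h2⟩ := (hmem v).1 hv
    obtain ⟨g0, g1, g2⟩ := (hmem w).1 hw
    have m1 : w.1 ∈ Submodule.span k {v.1, v.2} := hspan ▸ Submodule.subset_span (Or.inl rfl)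
    have m2 : w.2 ∈ Submodule.span k {v.1, v.2} := hspan ▸ Submodule.subset_span (Or.inr rfl)
    obtain ⟨a, b, hab⟩ := Submodule.mem_span_pair.1 m1
    obtain ⟨a', b', hab'⟩ := Submodule.mem_span_pair.1 m2
    have hb : b = 0 := by
      have : b • v.2 ∈ A 0 := by
        rw [show b • v.2 = w.1 - a • v.1 by rw [← hab, add_sub_cancel_left]]
        exact (A 0).sub_mem g0 ((A 0).smul_mem a h0)
      exact (smul_eq_zero.1 (hA 0 1 (by decide) _ this ((A 1).smul_mem b h1))).resolve_right (hne v hv hv0).2
    have ha' : a' = 0 := by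
      have : a' • v.1 ∈ A 1 := by
        rw [show a' • v.1 = w.2 - b' • v.2 by rw [← hab', add_sub_cancel_right]]
        exact (A 1).sub_mem g1 ((A 1).smul_mem b' h1)
      exact (smul_eq_zero.1 (hA 0 1 (by decide) _ ((A 0).smul_mem a' h0) this)).resolve_right (hne v hv hv0).1
    rw [hb, zero_smul, add_zero] at hab
    rw [ha', zero_smul, zero_add] at hab'
    have hd : a = b' := by
      by_contra hne'
      have : (a - b') • v.1 ∈ A 2 := by
        rw [show (a - b') • v.1 = (w.1 + w.2) - b' • (v.1 + v.2) by rw [← hab, ← hab', sub_smul, smul_add]; abel]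
        exact (A 2).sub_mem g2 ((A 2).smul_mem b' h2)
      exact smul_ne_zero (sub_ne_zero.2 hne') (hne v hv hv0).1 (hA 0 2 (by decide) _ ((A 0).smul_mem _ h0) this)
    exact ⟨a, Prod.ext hab.symm (by rw [← hab', hd]; rfl)⟩

end Groth.Agent.S13937
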