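import Groth.Statements.S1394
import Groth.Agent.Lib.DimForm6.QF
-- import your own Groth.Agent.* helpers here

set_option autoImplicit false
universe u
open FlatMor

namespace Groth.Agent.S1394

/-- Let A → B be a local homomorphism of local rings with A Noetherian, B essentially of finite type
over A, and the residue field of B finite over that of A. Let V ⊆ Spec B be an open subset
containing some prime that does not lie over the maximal ideal of A. Then V contains a prime q, not
lying over the maximal ideal of A, such that B/q is quasi-finite over A in the sense that every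
fibre ring of A → B/q is finite over the corresponding residue field of A. (The published statement
is stronger: there B/q is moreover a localization of a quasi-finite A-algebra of finite type, which
implies this.) -/
theorem result {A B : Type u} [CommRing A] [CommRing B] [IsLocalRing A] [IsLocalRing B] [IsNoetherianRing A]
    [Algebra A B] [IsLocalHom (algebraMap A B)] [Algebra.EssFiniteType A B]
    [Module.Finite (IsLocalRing.ResidueField A) (IsLocalRing.ResidueField B)]
    (V : Set (PrimeSpectrum B)) (hV : IsOpen V) (hne : ∃ q ∈ V, q.asIdeal.comap (algebraMap A B) ≠ IsLocalRing.maximalIdeal A) :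
    ∃ q ∈ V, q.asIdeal.comap (algebraMap A B) ≠ IsLocalRing.maximalIdeal A ∧ Algebra.QuasiFinite A (B ⧸ q.asIdeal) := by
    classical
    obtain ⟨q₀, hq₀V, hq₀⟩ := hne
    obtain ⟨a, ha, haq⟩ : ∃ a ∈ IsLocalRing.maximalIdeal A, algebraMap A B a ∉ q₀.asIdeal := by
      by_contra! h
      exact hq₀ ((IsLocalRing.maximalIdeal.isMaximal A).eq_of_le (Ideal.IsPrime.comap _).ne_top h).symm
    obtain ⟨_, ⟨g, rfl⟩, hgq, hgV⟩ :=
      PrimeSpectrum.isTopologicalBasis_basic_opens.exists_subset_of_mem_open hq₀V hV
    haveI : IsNoetherianRing B := Algebra.EssFiniteType.isNoetherianRing A B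
    have haB : algebraMap A B a ∈ IsLocalRing.maximalIdeal B := (map_mem_nonunits_iff (algebraMap A B) a).2 ha
    have hnil : ¬ IsNilpotent (algebraMap A B a * g) := fun hn =>
      (q₀.isPrime.mul_notMem haq hgq) (nilradical_le_prime _ hn)
    obtain ⟨q, hq, hfq, hmax⟩ := GrothLib.DimForm6.exists_coheight_one _ (Ideal.mul_mem_right g _ haB) hnil
    have hgq' : g ∉ q := fun h => hfq (q.mul_mem_left _ h)
    have haq' : algebraMap A B a ∉ q := fun h => hfq (q.mul_mem_right _ h)
    refine ⟨⟨q, hq⟩, hgV hgq', fun h => haq' ?_, ?_⟩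
    · show a ∈ q.comap (algebraMap A B)
      rw [show q.comap (algebraMap A B) = IsLocalRing.maximalIdeal A from h]
      exact ha
    show Algebra.QuasiFinite A (B ⧸ q)
    haveI := hq
    haveI : IsLocalRing (B ⧸ q) := IsLocalRing.of_surjective' (Ideal.Quotient.mk q) Ideal.Quotient.mk_surjective
    haveI : IsLocalHom (Ideal.Quotient.mk q) := IsLocalHom.of_surjective _ Ideal.Quotient.mk_surjective
    have hn : (IsLocalRing.maximalIdeal (B ⧸ q)).under A = IsLocalRing.maximalIdeal A := by
      ext c
      show algebraMap A (B ⧸ q) c ∈ IsLocalRing.maximalIdeal (B ⧸ q) ↔ _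
      rw [← Ideal.Quotient.mk_algebraMap]
      exact (map_mem_nonunits_iff (Ideal.Quotient.mk q) _).trans (map_mem_nonunits_iff (algebraMap A B) c)
    refine GrothLib.DimForm6.quasiFinite_of_closed_fibre ?_
    rw [hn]
    let J : Ideal (B ⧸ q) := (IsLocalRing.maximalIdeal A).map (algebraMap A (B ⧸ q))
    have hJ : J ≤ IsLocalRing.maximalIdeal (B ⧸ q) := Ideal.map_le_iff_le_comap.2 hn.ge
    haveI : Nontrivial ((B ⧸ q) ⧸ J) := Ideal.Quotient.nontrivial_iff.2 fun h =>
      (IsLocalRing.maximalIdeal.isMaximal (B ⧸ q)).ne_top (top_le_iff.1 (h ▸ hJ))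
    haveI : IsLocalRing ((B ⧸ q) ⧸ J) := IsLocalRing.of_surjective' (Ideal.Quotient.mk J) Ideal.Quotient.mk_surjective
    haveI : IsLocalHom (Ideal.Quotient.mk J) := IsLocalHom.of_surjective _ Ideal.Quotient.mk_surjective
    let π : B →+* (B ⧸ q) ⧸ J := (Ideal.Quotient.mk J).comp (Ideal.Quotient.mk q)
    have hπ : Function.Surjective π := Ideal.Quotient.mk_surjective.comp Ideal.Quotient.mk_surjective
    haveI : IsLocalHom π := IsLocalHom.of_surjective π hπ
    haveI : IsArtinianRing ((B ⧸ q) ⧸ J) := by
      rw [isArtinianRing_iff_isNoetherianRing_krullDimLE_zero]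
      refine ⟨inferInstance, Ring.krullDimLE_zero_iff.2 fun r hr => ?_⟩
      haveI := hr
      have hle : q ≤ r.comap π := fun y hy => by
        rw [Ideal.mem_comap, RingHom.comp_apply, Ideal.Quotient.eq_zero_iff_mem.2 hy, map_zero]; exact zero_mem r
      have har : algebraMap A B a ∈ r.comap π := by
        rw [Ideal.mem_comap, RingHom.comp_apply, Ideal.Quotient.mk_algebraMap, Ideal.Quotient.eq_zero_iff_mem.2 (show _ ∈ J from Ideal.mem_map_of_mem _ ha)]
        exact zero_mem r
      have h2 := hmax (r.comap π) inferInstance (lt_of_le_not_ge hle fun h => haq' (h har))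
      have h3 : (IsLocalRing.maximalIdeal B).map π = r := by rw [← h2, Ideal.map_comap_of_surjective π hπ]
      exact h3 ▸ (Ideal.map_eq_top_or_isMaximal_of_surjective π hπ
        (IsLocalRing.maximalIdeal.isMaximal B)).resolve_left (h3.symm ▸ hr.ne_top)
    haveI : Module.Finite A (IsLocalRing.ResidueField A) :=
      Module.Finite.of_surjective (Algebra.linearMap A (IsLocalRing.ResidueField A)) IsLocalRing.residue_surjective
    haveI : Module.Finite A (IsLocalRing.ResidueField B) :=
      Module.Finite.trans (IsLocalRing.ResidueField A) (IsLocalRing.ResidueField B)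
    haveI : Module.Finite A (((B ⧸ q) ⧸ J) ⧸ Ring.jacobson ((B ⧸ q) ⧸ J)) := by
      rw [IsLocalRing.ringJacobson_eq_maximalIdeal]
      let ρ : IsLocalRing.ResidueField B →+* ((B ⧸ q) ⧸ J) ⧸ IsLocalRing.maximalIdeal ((B ⧸ q) ⧸ J) :=
        IsLocalRing.ResidueField.map π
      refine Module.Finite.of_surjective
        ({ ρ with commutes' := fun c => rfl } : IsLocalRing.ResidueField B →ₐ[A] _).toLinearMap fun y => ?_
      obtain ⟨y, rfl⟩ := Ideal.Quotient.mk_surjective y
      obtain ⟨y, rfl⟩ := hπ y
      exact ⟨IsLocalRing.residue B y, rfl⟩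
    haveI : Module.Finite A ((B ⧸ q) ⧸ J) :=
      IsSemiprimaryRing.finite_of_isArtinian A ((B ⧸ q) ⧸ J) ((B ⧸ q) ⧸ J)
    infer_instance

end Groth.Agent.S1394
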