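import Groth.Statements.S1395
import Groth.Agent.Lib.TrivVal4.Main
-- import your own Groth.Agent.* helpers here

set_option autoImplicit false
universe u
open FlatMor

namespace Groth.Agent.S1395

open AlgebraicGeometry CategoryTheory Limits in
/-- Over a valuation ring A consider a proper, flat morphism of finite presentation f : X → Spec A and
an invertible O_X-module L. If L is trivial on the generic fibre, the closed fibre is integral, and
the global functions of the generic fibre are just the fraction field (the residue field of the
generic point), then L is trivial. -/
theorem result {A : Type u} [CommRing A] [IsDomain A] [ValuationRing A] {X : Scheme.{u}}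
    (f : X ⟶ Spec (CommRingCat.of A)) [IsProper f] [Flat f] [LocallyOfFinitePresentation f] (L : X.Modules) (hL : PicF.IsInvertible L)
    (htriv : Nonempty ((Scheme.Modules.pullback (f.fiberι (genericPoint ↑(Spec (CommRingCat.of A))))).obj L ≅
      Coh.structureModule (f.fiber (genericPoint ↑(Spec (CommRingCat.of A))))))
    (hint : IsIntegral (f.fiber (IsLocalRing.closedPoint A)))
    (h0 : Function.Bijective ((f.fiberToSpecResidueField (genericPoint ↑(Spec (CommRingCat.of A)))).appTop)) :
    Nonempty (L ≅ Coh.structureModule X) := by
  haveI := hint
  haveI := GrothLib.TrivVal4.isIntegral_total f
  exact GrothLib.TrivVal4.nonempty_iso_structureModule f L hL htriv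

end Groth.Agent.S1395
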