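import Groth.Statements.S13951
import Groth.Agent.Lib.FibCard28.ConnFibre
import Groth.Agent.Lib.Unibranch.Unramified

set_option autoImplicit false
universe u
open TateLoc

namespace Groth.Agent.S13951

open CategoryTheory AlgebraicGeometry CategoryTheory.Limits in
/-- Let S be a reduced scheme and I a finite locally free commutative S-group scheme (finite, flat, of
finite presentation) whose fibres over all points of S are connected. Then the restriction of the
sheaf of points of I from the big fppf site of S to the small etale site of S is the zero sheaf. -/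
theorem result (S : Scheme.{u}) [IsReduced S]
    (I : Over S) [GrpObj I] [IsCommMonObj I] [IsFinite I.hom] [Flat I.hom] [LocallyOfFinitePresentation I.hom]
    (hconn : ∀ s : S, ConnectedSpace ↥(I.hom.fiber s)) :
    IsZero ((BigSite.resEt Scheme.fppfPrecoverage S).obj (CGrpSh.pts Scheme.fppfPrecoverage I)) := by
  rw [IsZero.iff_id_eq_zero]
  apply Sheaf.hom_ext
  ext U x
  haveI : Etale U.unop.hom := U.unop.prop
  haveI : IsReduced U.unop.left := GrothLib.Unibranch.isReduced_of_etale (Y := S) U.unop.hom
  haveI : IsReduced ((EtFppf.a S).obj U.unop).left := ‹IsReduced U.unop.left›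
  haveI : Subsingleton ((EtFppf.a S).obj U.unop ⟶ I) := ⟨fun f g => by
    exact Over.OverMorphism.ext (GrothLib.FibCard28.hom_eq_of_connectedFibres I.hom (MonObj.one (X := I)).left
      (Over.w (MonObj.one (X := I))) hconn f.left g.left ((Over.w f).trans (Over.w g).symm))⟩
  haveI : Subsingleton (BigSite.sect Scheme.fppfPrecoverage (CGrpSh.pts Scheme.fppfPrecoverage I) ((EtFppf.a S).obj U.unop)) :=
    ⟨fun a b => ULift.ext a b (congrArg Additive.ofMul (Subsingleton.elim (α := (EtFppf.a S).obj U.unop ⟶ I) a.down.toMul b.down.toMul))⟩
  exact Subsingleton.elim (α := BigSite.sect Scheme.fppfPrecoverage (CGrpSh.pts Scheme.fppfPrecoverage I) ((EtFppf.a S).obj U.unop)) _ _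

end Groth.Agent.S13951
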