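import Groth.Statements.S13953
import Mathlib

set_option autoImplicit false
universe u
open TateLoc

namespace Groth.Agent.S13953

/-- Let (R_i) be a family of local commutative rings and R = ∏ R_i. Any open cover of Spec R can be
refined by one coming from a finite partition of the index set: there is a map c from the index set
to a finite set such that, for each value m, the basic open subset of Spec R defined by the
idempotent which is 1 at the indices with c i = m and 0 elsewhere (this open is the spectrum of the
product of the R_i over that class) is contained in some member of the cover. -/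
theorem result {ι : Type u} (R : ι → Type u)
    [∀ i, CommRing (R i)] [∀ i, IsLocalRing (R i)] {J : Type u}
    (U : J → TopologicalSpace.Opens (PrimeSpectrum (∀ i, R i))) (hU : ⨆ j, U j = ⊤) :
    ∃ (n : ℕ) (c : ι → Fin n), ∀ m : Fin n, ∃ j : J,
      PrimeSpectrum.basicOpen (fun i => if c i = m then (1 : R i) else 0) ≤ U j := by
  classical
  let e : Set ι → ∀ i, R i := fun S i => if i ∈ S then 1 else 0
  have key : ∀ M : Ideal (∀ i, R i), M.IsMaximal → ∃ (S : Set ι) (j : J), e S ∉ M ∧
      PrimeSpectrum.basicOpen (e S) ≤ U j := by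
    intro M hM
    have hMU : (⟨M, hM.isPrime⟩ : PrimeSpectrum (∀ i, R i)) ∈ ⨆ j, U j := by rw [hU]; trivial
    obtain ⟨j, hj⟩ := TopologicalSpace.Opens.mem_iSup.1 hMU
    obtain ⟨_, ⟨h, rfl⟩, hmem, hsub⟩ := PrimeSpectrum.isTopologicalBasis_basic_opens.exists_subset_of_mem_open
      hj (U j).2
    set S : Set ι := {i | IsUnit (h i)} with hS
    refine ⟨S, j, fun hSM => ?_, ?_⟩
    · have hhM : h ∉ M := hmem
      obtain ⟨a, m, hm, ham⟩ := hM.exists_inv hhM
      refine hM.ne_top ((Ideal.eq_top_iff_one M).2 ?_)
      let b : ∀ i, R i := fun i => if hi : IsUnit (m i) then ((hi.unit⁻¹ : (R i)ˣ) : R i) else 0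
      have hone : (1 : ∀ i, R i) = e S + (1 - e S) * b * m := by
        funext i
        simp only [e, Pi.add_apply, Pi.mul_apply, Pi.sub_apply, Pi.one_apply]
        by_cases hi : i ∈ S
        · simp [hi]
        · have hmi : IsUnit (m i) := by
            rcases IsLocalRing.isUnit_or_isUnit_of_add_one (congrFun ham i) with hu | hu
            · exact absurd (isUnit_of_mul_isUnit_right hu) hi
            · exact hu
          simp [hi, b, hmi]
      rw [hone]
      exact M.add_mem hSM (M.mul_mem_left _ hm)
    · refine le_trans ?_ (fun x hx => hsub hx)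
      intro x hx
      have hdvd : e S = (fun i => if hi : IsUnit (h i) then ((hi.unit⁻¹ : (R i)ˣ) : R i) else 0) * h := by
        funext i
        simp only [e, Pi.mul_apply]
        by_cases hi : IsUnit (h i)
        · simp [hS, hi]
        · simp [hS, hi]
      intro hh
      exact hx (by rw [hdvd]; exact x.asIdeal.mul_mem_left _ hh)
  choose S j hS hle using key
  have hspan : Ideal.span (Set.range fun M : {M : Ideal (∀ i, R i) // M.IsMaximal} => e (S M.1 M.2)) = ⊤ := by
    by_contra hne
    obtain ⟨M, hM, hle'⟩ := Ideal.exists_le_maximal _ hne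
    exact hS M hM (hle' (Ideal.subset_span ⟨⟨M, hM⟩, rfl⟩))
  obtain ⟨c, hc⟩ := Finsupp.mem_span_range_iff_exists_finsupp.1
    (show (1 : ∀ i, R i) ∈ Submodule.span (∀ i, R i)
      (Set.range fun M : {M : Ideal (∀ i, R i) // M.IsMaximal} => e (S M.1 M.2)) from
      by show _ ∈ Ideal.span _; rw [hspan]; exact Submodule.mem_top)
  simp only [smul_eq_mul] at hc
  have hcov : ∀ i, ∃ M ∈ c.support, i ∈ S M.1 M.2 := by
    intro i
    by_contra hn
    push Not at hn
    have := congrFun hc i
    rw [Finsupp.sum, Finset.sum_apply, Finset.sum_eq_zero (fun M hM => by simp [e, hn M hM]),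
      Pi.one_apply] at this
    exact zero_ne_one this
  choose F hF hFi using hcov
  let eq := c.support.equivFin
  refine ⟨c.support.card, fun i => eq ⟨F i, hF i⟩, fun m => ⟨j _ (eq.symm m).1.2, ?_⟩⟩
  refine le_trans ?_ (hle _ (eq.symm m).1.2)
  intro x hx hh
  apply hx
  have : (fun i => if eq ⟨F i, hF i⟩ = m then (1 : R i) else 0) =
      (fun i => if eq ⟨F i, hF i⟩ = m then (1 : R i) else 0) * e (S _ (eq.symm m).1.2) := by
    funext i
    simp only [Pi.mul_apply]
    by_cases hi : eq ⟨F i, hF i⟩ = m
    · subst hi
      have hmem := (show ∀ M, M = F i → i ∈ S M.1 M.2 from fun M e' => e' ▸ hFi i)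
        (eq.symm (eq ⟨F i, hF i⟩)).1 (by rw [Equiv.symm_apply_apply])
      simp only [e, if_pos hmem]
      simp
    · simp [hi]
  rw [this]
  exact x.asIdeal.mul_mem_left _ hh

end Groth.Agent.S13953
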