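import Groth.Statements.S13958
import Mathlib

set_option autoImplicit false
universe u
open TateLoc

namespace Groth.Agent.S13958

open CategoryTheory in
/-- Let A' be a finitely generated abelian group (written multiplicatively, discrete) and A a subgroup.
If the image of x ∈ A' in the profinite completion of A' lies in the image of the profinite
completion of A under the map induced by the inclusion, then x ∈ A. (The published statement says
that the square formed by the two completion maps and the two inclusions is Cartesian; given the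
injectivity of the induced map on completions, which holds here, that amounts to this membership
criterion.) -/
theorem result (A' : Type u) [CommGroup A'] [Group.FG A']
    (A : Subgroup A') (x : A')
    (hx : ProfiniteGrp.ProfiniteCompletion.etaFn (GrpCat.of A') x ∈
      Set.range ⇑(ProfiniteGrp.profiniteCompletion.map (GrpCat.ofHom A.subtype)).hom) :
    x ∈ A := by
  classical
  by_contra hxA
  obtain ⟨Q₀, _, _, ψ, hψA, hψx⟩ : ∃ (Q₀ : Type) (_ : CommGroup Q₀) (_ : Finite Q₀) (ψ : A' →* Q₀),
      (∀ a ∈ A, ψ a = 1) ∧ ψ x ≠ 1 := by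
    haveI : AddGroup.FG (Additive (A' ⧸ A)) := by
      rw [← GroupFG.iff_add_fg]; infer_instance
    obtain ⟨n, ι, hι, p, hp, e, ⟨eq⟩⟩ := AddCommGroup.equiv_free_prod_directSum_zmod (Additive (A' ⧸ A))
    obtain ⟨y, hyd⟩ : ∃ y, y = eq (Additive.ofMul (QuotientGroup.mk' A x)) := ⟨_, rfl⟩
    have hy : y ≠ 0 := fun h => hxA (by
      have := eq.injective ((hyd.symm.trans h).trans (map_zero eq).symm)
      exact (QuotientGroup.eq_one_iff x).1 (congrArg Additive.toMul this))
    have hD : Finite (DirectSum ι fun i => ZMod (p i ^ e i)) := by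
      haveI : ∀ i, NeZero (p i ^ e i) := fun i => ⟨pow_ne_zero _ (hp i).ne_zero⟩
      exact Finite.of_equiv _ DFinsupp.equivFunOnFintype.symm
    have mk : ∀ {M : Type} [AddCommGroup M] [Finite M] (χ : (Fin n →₀ ℤ) × (DirectSum ι fun i => ZMod (p i ^ e i)) →+ M), χ y ≠ 0 →
        ∃ (Q₀ : Type) (_ : CommGroup Q₀) (_ : Finite Q₀) (ψ : A' →* Q₀), (∀ a ∈ A, ψ a = 1) ∧ ψ x ≠ 1 := by
      intro M _ _ χ hχ
      refine ⟨Multiplicative M, inferInstance, inferInstance,
        (AddMonoidHom.toMultiplicativeRight (χ.comp eq.toAddMonoidHom)).comp (QuotientGroup.mk' A), ?_, fun h => hχ ?_⟩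
      · intro a ha
        rw [MonoidHom.comp_apply, QuotientGroup.mk'_apply, (QuotientGroup.eq_one_iff a).2 ha, map_one]
      · have h' := congrArg Multiplicative.toAdd h
        simp only [toAdd_one] at h'
        simpa [hyd] using! h'
    by_cases hy2 : y.2 = 0
    · have hy1 : y.1 ≠ 0 := fun h => hy (show y = 0 from Prod.ext_iff.2 ⟨h, hy2⟩)
      obtain ⟨i, hi⟩ := Finsupp.ne_iff.1 hy1
      set c := (y.1 i).natAbs + 1
      refine mk (((Int.castAddHom (ZMod c)).comp (Finsupp.applyAddHom i)).comp (AddMonoidHom.fst _ _)) ?_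
      intro h
      have hdvd : (c : ℤ) ∣ y.1 i := (ZMod.intCast_zmod_eq_zero_iff_dvd _ _).1 h
      have := Int.natAbs_dvd_natAbs.2 hdvd
      rw [Int.natAbs_natCast] at this
      have h0 : 0 < (y.1 i).natAbs := Int.natAbs_pos.2 hi
      have := Nat.le_of_dvd h0 this
      omega
    · exact mk (AddMonoidHom.snd _ _) hy2
  let H : FiniteIndexNormalSubgroup (GrpCat.of A') :=
    { toSubgroup := ψ.ker
      isFiniteIndex' := (haveI : Finite (GrpCat.of A' ⧸ ψ.ker) := Finite.of_equiv _ (QuotientGroup.quotientKerEquivRange ψ).symm.toEquiv; Subgroup.finiteIndex_of_finite_quotient)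
      isNormal' := inferInstance }
  obtain ⟨z, hz⟩ := hx
  have hcont : Continuous fun w => ((ProfiniteGrp.profiniteCompletion.map (GrpCat.ofHom A.subtype)).hom w).1 H :=
    ((continuous_apply H).comp continuous_subtype_val).comp
      (ProfiniteGrp.profiniteCompletion.map (GrpCat.ofHom A.subtype)).hom.continuous_toFun
  have heq : (fun w => ((ProfiniteGrp.profiniteCompletion.map (GrpCat.ofHom A.subtype)).hom w).1 H) = fun _ => 1 := by
    refine (ProfiniteGrp.ProfiniteCompletion.denseRange (GrpCat.of A)).equalizer hcont continuous_const ?_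
    funext a
    have h1 := ConcreteCategory.congr_hom
      (ProfiniteGrp.ProfiniteCompletion.lift_eta
        (GrpCat.ofHom A.subtype ≫ ProfiniteGrp.ProfiniteCompletion.eta (GrpCat.of A'))) a
    show ((ProfiniteGrp.profiniteCompletion.map (GrpCat.ofHom A.subtype)).hom
      (ProfiniteGrp.ProfiniteCompletion.etaFn _ a)).1 H = 1
    refine (congrArg (fun w => w.1 H) h1).trans ?_
    exact (QuotientGroup.eq_one_iff _).2 (hψA _ a.2)
  have h2 := congrFun heq z
  simp only [hz] at h2
  exact hψx ((QuotientGroup.eq_one_iff x).1 h2)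

end Groth.Agent.S13958
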