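import Groth.Statements.S1396
import Groth.Agent.Lib.IndQA.Basic

set_option autoImplicit false
universe u
open FlatMor

namespace Groth.Agent.S1396

open AlgebraicGeometry CategoryTheory Limits in
/-- (1) ⇔ (4): a morphism f : X → Y is ind-quasi-affine (the preimage of every affine open is a scheme
all of whose quasi-compact opens are quasi-affine) if and only if for every quasi-compact
quasi-separated open V of Y and every quasi-compact open U of the preimage of V, the induced
morphism U → V is quasi-affine (quasi-compact with quasi-affine preimages of affine opens). -/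
theorem result {X Y : Scheme.{u}} (f : X ⟶ Y) :
    MoreMor.IsIndQuasiAffineHom f ↔ ∀ (V : Y.Opens), IsCompact (V : Set ↑Y) → IsQuasiSeparated (V : Set ↑Y) →
      ∀ (U : X.Opens) (hUV : U ≤ f ⁻¹ᵁ V), IsCompact (U : Set ↑X) → MoreMor.IsQuasiAffineHom (f.resLE V U hUV) := by
  rw [GrothLib.IndQA.indQA_iff]
  constructor
  · intro h V hVc hVs U hle hU
    haveI : QuasiSeparatedSpace (V : Scheme.{u}) :=
      (isQuasiSeparated_iff_quasiSeparatedSpace _ V.2).mp hVs
    haveI : CompactSpace (U : Scheme.{u}) := isCompact_iff_compactSpace.mp hU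
    refine ⟨inferInstance, fun W hW => ?_⟩
    rw [GrothLib.IndQA.qa_image_iff U.ι]
    refine h (V.ι ''ᵁ W) (hW.image_of_isOpenImmersion V.ι) _ ?_ ?_
    · rintro _ ⟨y, hy, rfl⟩
      refine ⟨f.resLE V U hle y, hy, ?_⟩
      exact congr($(Scheme.Hom.resLE_comp_ι f hle) y)
    · rw [Scheme.Hom.coe_image]
      exact ((f.resLE V U hle).isCompact_preimage hW.isCompact).image U.ι.continuous
  · intro h V hV U hle hU
    haveI : IsAffine (V : Scheme.{u}) := hV
    have := (h V hV.isCompact hV.isQuasiSeparated U hle hU).2 ⊤ (isAffineOpen_top _)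
    rw [Scheme.Hom.preimage_top] at this
    exact (GrothLib.IndQA.qa_top_iff _).mp this

end Groth.Agent.S1396
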