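import Groth.Statements.S13963
import Mathlib

set_option autoImplicit false
universe u
open TateLoc

namespace Groth.Agent.S13963

/-- Let A' → A → A'' be continuous homomorphisms of locally compact, second-countable, Hausdorff abelian
topological groups which form a short exact sequence of abstract groups (the first injective, the
second surjective, image equal to kernel). If A' and A'' are compact, then A is compact. -/
theorem result (A' A A'' : Type u)
    [AddCommGroup A'] [TopologicalSpace A'] [IsTopologicalAddGroup A'] [SecondCountableTopology A'] [T2Space A']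
    [CompactSpace A']
    [AddCommGroup A] [TopologicalSpace A] [IsTopologicalAddGroup A] [LocallyCompactSpace A]
    [SecondCountableTopology A] [T2Space A]
    [AddCommGroup A''] [TopologicalSpace A''] [IsTopologicalAddGroup A''] [SecondCountableTopology A''] [T2Space A'']
    [CompactSpace A'']
    (f : A' →+ A) (g : A →+ A'') (hf : Continuous f) (hg : Continuous g)
    (hinj : Function.Injective f) (hsurj : Function.Surjective g) (hex : g.ker = f.range) :
    CompactSpace A := by
  have : LocallyCompactSpace A'' := inferInstance
  have : SigmaCompactSpace A := inferInstance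
  have hopen : IsOpenMap g := AddMonoidHom.isOpenMap_of_sigmaCompact g hsurj hg
  have hnb : ∀ a : A, ∃ K : Set A, IsCompact K ∧ K ∈ nhds a := fun a => exists_compact_mem_nhds a
  choose K hK hKn using hnb
  obtain ⟨t, ht⟩ := isCompact_univ.elim_finite_subcover (fun a : A => g '' interior (K a))
    (fun a => hopen _ isOpen_interior) (fun y _ => by
      obtain ⟨a, rfl⟩ := hsurj y
      exact Set.mem_iUnion.2 ⟨a, a, mem_interior_iff_mem_nhds.2 (hKn a), rfl⟩)
  have hC : IsCompact ((fun q : A × A' => q.1 + f q.2) '' ((⋃ a ∈ t, K a) ×ˢ Set.univ)) :=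
    ((t.isCompact_biUnion fun a _ => hK a).prod isCompact_univ).image (by fun_prop)
  refine ⟨?_⟩
  convert hC using 1
  refine (Set.eq_univ_of_forall fun x => ?_).symm
  obtain ⟨a, hat, z, hz, hzx⟩ : ∃ a ∈ t, ∃ z ∈ interior (K a), g z = g x := by
    have := ht (Set.mem_univ (g x))
    simpa using this
  have hmem : x - z ∈ f.range := by
    rw [← hex, AddMonoidHom.mem_ker, map_sub, hzx, sub_self]
  obtain ⟨w, hw⟩ := hmem
  exact ⟨(z, w), ⟨Set.mem_iUnion₂.2 ⟨a, hat, interior_subset hz⟩, trivial⟩, by
    show z + f w = x
    rw [hw, add_sub_cancel z x]⟩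

end Groth.Agent.S13963
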