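import Groth.Agent.Lib.ArtFun.T1Smooth
import Groth.Agent.Lib.ArtFun.Criteria
import Groth.Agent.Lib.ArtFun.Hull
import Groth.Statements.S13971
-- import your own Groth.Agent.* helpers here

set_option autoImplicit false
universe u v
open CategoryTheory
open ArtFun

namespace Groth.Agent.S13971

/-- Let k be a field of characteristic zero and F a deformation functor on Artinian local k-algebras
with residue field k — F(k) is a point and the comparison map F(A₁ ×_A A₂) → F(A₁) ×_{F(A)} F(A₂) is
bijective whenever A₂ → A is surjective — whose tangent space F(k[ε]) is finite-dimensional. Suppose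
that for every object A and every surjective morphism q : A'' → A' between split square-zero
extensions of A (A' and A'' come with retractions onto A whose kernels have square zero and with
sections from A, and q commutes with the retractions and the sections), the map F(q) : F(A'') →
F(A') is surjective. Then F is unobstructed: F(B) → F(A) is surjective for every surjective B → A.
(The published statement is for deformation categories, with the hypothesis that, for every object
over A, the functor M ↦ {isomorphism classes of its liftings to A ⊕ M} on finite A-modules carries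
surjections to surjections; this row is the case of a category fibred in sets, for which a split
square-zero extension of A is A ⊕ M with M the kernel, a finite A-module, and that hypothesis is the
displayed surjectivity.) -/
theorem result {k : Type u} [Field k] [CharZero k]
    (F : ArtFun.Art k k ⥤ Type v) [ArtFun.TangentStr F]
    (h0 : ArtFun.H0 F)
    (hRS : (∀ ⦃B A A' A'' : ArtFun.Art k k⦄ (p' : B ⟶ A') (p'' : B ⟶ A'') (f' : A' ⟶ A) (f'' : A'' ⟶ A)
        (h : ArtFun.Art.IsFibreProd p' p'' f' f''), Function.Surjective f'' → Function.Bijective (ArtFun.cmp F h)))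
    (hfin : ArtFun.Hfin F)
    (hT1 : ∀ ⦃A A' A'' : ArtFun.Art k k⦄ (π' : A' ⟶ A) (i' : A ⟶ A') (π'' : A'' ⟶ A) (i'' : A ⟶ A'')
        (q : A'' ⟶ A'), i' ≫ π' = 𝟙 A → i'' ≫ π'' = 𝟙 A →
        RingHom.ker π'.toAlgHom * RingHom.ker π'.toAlgHom = ⊥ →
        RingHom.ker π''.toAlgHom * RingHom.ker π''.toAlgHom = ⊥ →
        q ≫ π' = π'' → i'' ≫ q = i' → Function.Surjective q → Function.Surjective (F.map q)) :
    ArtFun.IsSmoothFunctor F := by
  obtain ⟨⟨R, ξ, hξ⟩⟩ := GrothLib.ArtFun.hasHull_of_conditions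
    (GrothLib.ArtFun.simpleRoots_of_surjective fun c => ⟨c, rfl⟩) h0
    (fun _ _ _ _ p' p'' f' f'' h hf => (hRS p' p'' f' f'' h hf).2)
    (fun _ _ p' p'' h => hRS p' p'' _ _ h (GrothLib.ArtFun.toBase_surjective _)) hfin
  rw [GrothLib.ArtFun.isSmoothFunctor_iff_of_versal h0 ξ hξ.1]
  obtain ⟨n, π, hπ, hJ⟩ := GrothLib.ArtFun.exists_presentation_field R
  have hinj : Function.Injective π := by
    refine GrothLib.ArtFun.injective_of_t1Lifting π hπ hJ
      fun A M M' _ _ _ _ _ _ _ _ _ _ _ _ _ _ _ _ f hf φ => ?_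
    let q : GrothLib.ArtFun.tszArt A M' ⟶ GrothLib.ArtFun.tszArt A M :=
      Art.homMk (GrothLib.ArtFun.tszLin f) (AlgHom.ext fun x =>
        congrArg A.res (GrothLib.ArtFun.fst_tszLin f x))
    have hq : Function.Surjective q := by
      intro x
      obtain ⟨m, hm⟩ := hf (TrivSqZeroExt.snd (x : TrivSqZeroExt A M))
      refine ⟨(TrivSqZeroExt.inl (TrivSqZeroExt.fst (x : TrivSqZeroExt A M)) + TrivSqZeroExt.inr m :
        TrivSqZeroExt A M'), TrivSqZeroExt.ext ?_ ?_⟩
      · exact (GrothLib.ArtFun.fst_tszLin f _).trans (by simp)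
      · exact (GrothLib.ArtFun.snd_tszLin f _).trans (by simp [hm])
    let φ' : HomSet R.carrier R.res (GrothLib.ArtFun.tszArt A M) :=
      ⟨φ, GrothLib.ArtFun.algHom_res_unique _ _⟩
    obtain ⟨y, hy⟩ := hT1 (GrothLib.ArtFun.tszFst A M) (GrothLib.ArtFun.tszInl A M)
      (GrothLib.ArtFun.tszFst A M') (GrothLib.ArtFun.tszInl A M') q
      (GrothLib.ArtFun.hom_ext_apply fun a => rfl) (GrothLib.ArtFun.hom_ext_apply fun a => rfl)
      (GrothLib.ArtFun.tsz_ker_sq A M) (GrothLib.ArtFun.tsz_ker_sq A M')
      (GrothLib.ArtFun.hom_ext_apply fun a => GrothLib.ArtFun.fst_tszLin f a)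
      (GrothLib.ArtFun.hom_ext_apply fun a => TrivSqZeroExt.ext
        ((GrothLib.ArtFun.fst_tszLin f _).trans rfl)
        ((GrothLib.ArtFun.snd_tszLin f _).trans (map_zero f))) hq (ξ.app _ φ')
    obtain ⟨ψ, hψ, -⟩ := hξ.1 q hq φ' y hy
    refine ⟨ψ.1, fun r => ?_⟩
    have e : GrothLib.ArtFun.tszLin f (ψ.1 r) = φ r :=
      DFunLike.congr_fun (congrArg Subtype.val hψ) r
    exact ⟨(GrothLib.ArtFun.fst_tszLin f _).symm.trans (congrArg TrivSqZeroExt.fst e),
      (GrothLib.ArtFun.snd_tszLin f _).symm.trans (congrArg TrivSqZeroExt.snd e)⟩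
  intro B A μ hμ φ
  obtain ⟨ψ, hψ⟩ := GrothLib.ArtFun.isSmoothFunctor_hR_ps n (R.res.comp π) μ hμ
    (GrothLib.ArtFun.homSetPull π rfl φ)
  obtain ⟨φ', hφ'⟩ := GrothLib.ArtFun.exists_homSet_of_ker π hπ (res := R.res) rfl ψ
    fun x hx => by
      rw [RingHom.mem_ker, ← map_zero π] at hx
      rw [hinj hx, map_zero]
  refine ⟨φ', GrothLib.ArtFun.homSet_ext fun r => ?_⟩
  obtain ⟨s, rfl⟩ := hπ r
  exact (congrArg μ (DFunLike.congr_fun (congrArg Subtype.val hφ') s)).trans
    (DFunLike.congr_fun (congrArg Subtype.val hψ) s)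

end Groth.Agent.S13971
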