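import Groth.Statements.S13972
import Groth.Agent.Lib.KoszulNil4.Basic
import Mathlib

set_option autoImplicit false
universe u
open LCI

namespace Groth.Agent.S13972

/-- Let A' be an Artinian local ring, I a proper ideal of A', A = A'/I, R' a Noetherian A'-algebra flat
over A' and R = R'/IR'. Let f₁, …, f_r ∈ R be a Koszul-regular sequence (its Koszul complex is
acyclic in nonzero degrees) such that R/(f₁, …, f_r) is flat over A. Then: (1) for every choice of
lifts f'₁, …, f'_r ∈ R' of the f_i, the quotient R'/(f'₁, …, f'_r) is flat over A' and f'₁, …, f'_r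
is a Koszul-regular sequence in R'; (2) if J' ⊆ R' is an ideal with R'/J' flat over A' whose image
in R is the ideal (f₁, …, f_r), then J' is generated by any lifts f'₁, …, f'_r ∈ J' of the f_i. (The
published statement takes R' = R₀ ⊗_Λ A' for a flat Λ-algebra R₀ and a surjection A' → A of Artinian
local Λ-algebras; this row assumes only that R' is Noetherian and flat over A' and that I is a
proper ideal, which is what its proof uses. Regularity of a sequence is taken there in every
localization at a prime containing the ideal it generates, which over a Noetherian ring is the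
Koszul-acyclicity used in the proof and stated here.) -/
theorem result
    {A' : Type u} [CommRing A'] [IsLocalRing A'] [IsArtinianRing A'] (I : Ideal A') (hI : I ≠ ⊤)
    {R' : Type u} [CommRing R'] [Algebra A' R'] [IsNoetherianRing R'] [Module.Flat A' R']
    (r : ℕ) (f : Fin r → R' ⧸ I.map (algebraMap A' R'))
    (hf : LCI.IsKoszulRegularSeq (R' ⧸ I.map (algebraMap A' R')) (List.ofFn f))
    [Module.Flat (A' ⧸ I) ((R' ⧸ I.map (algebraMap A' R')) ⧸ Ideal.span (Set.range f))] :
    (∀ f' : Fin r → R', (∀ i, Ideal.Quotient.mk (I.map (algebraMap A' R')) (f' i) = f i) →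
        Module.Flat A' (R' ⧸ Ideal.span (Set.range f')) ∧ LCI.IsKoszulRegularSeq R' (List.ofFn f')) ∧
    (∀ (J' : Ideal R'), Module.Flat A' (R' ⧸ J') →
        J'.map (Ideal.Quotient.mk (I.map (algebraMap A' R'))) = Ideal.span (Set.range f) →
        ∀ f' : Fin r → R', (∀ i, f' i ∈ J') →
          (∀ i, Ideal.Quotient.mk (I.map (algebraMap A' R')) (f' i) = f i) →
          J' = Ideal.span (Set.range f')) := by
  obtain ⟨n, hn⟩ : IsNilpotent I := by
    obtain ⟨n, hn⟩ := IsArtinianRing.isNilpotent_jacobson_bot (R := A')
    exact ⟨n, le_bot_iff.1 ((Ideal.pow_right_mono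
      ((IsLocalRing.le_maximalIdeal hI).trans (IsLocalRing.maximalIdeal_le_jacobson _)) n).trans hn.le)⟩
  have part1 : ∀ f' : Fin r → R', (∀ i, Ideal.Quotient.mk (I.map (algebraMap A' R')) (f' i) = f i) →
      Module.Flat A' (R' ⧸ Ideal.span (Set.range f')) ∧ LCI.IsKoszulRegularSeq R' (List.ofFn f') := by
    intro f' hf'
    have hl : (List.ofFn f').map (Ideal.Quotient.mk (I.map (algebraMap A' R'))) = List.ofFn f := by
      rw [List.map_ofFn]; exact congrArg _ (funext hf')
    have hs : ∀ {T : Type u} [CommRing T] (g : Fin r → T), Ideal.ofList (List.ofFn g) = Ideal.span (Set.range g) :=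
      fun g => congrArg Ideal.span (Set.ext fun x => by simp [List.mem_ofFn])
    obtain ⟨h1, h2⟩ := GrothLib.KoszulNil4.regular_and_flat n A' R' I hn (List.ofFn f') (by rw [hl]; exact hf)
      (by rw [hl, hs]; infer_instance)
    exact ⟨by rw [← hs]; exact h2, h1⟩
  refine ⟨part1, fun J' hflat hJ' f' hmem hf' => ?_⟩
  haveI := hflat
  set K := Ideal.span (Set.range f')
  have hKJ : K ≤ J' := Ideal.span_le.2 (by rintro _ ⟨i, rfl⟩; exact hmem i)
  refine le_antisymm ?_ hKJ
  have key : J' ≤ K ⊔ I.map (algebraMap A' R') * J' := by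
    intro x hx
    have h1 : Ideal.Quotient.mk (I.map (algebraMap A' R')) x ∈ K.map (Ideal.Quotient.mk (I.map (algebraMap A' R'))) := by
      rw [Ideal.map_span, ← Set.range_comp, show (Ideal.Quotient.mk (I.map (algebraMap A' R')) ∘ f') = f from funext hf',
        ← hJ']
      exact Ideal.mem_map_of_mem _ hx
    obtain ⟨y, hy, hxy⟩ := (Ideal.mem_map_iff_of_surjective _ Ideal.Quotient.mk_surjective).1 h1
    have h2 : x - y ∈ I.map (algebraMap A' R') := Ideal.Quotient.eq.1 hxy.symm
    have h3 := GrothLib.KoszulNil4.mem_smul_of_mem_map I J' (J'.sub_mem hx (hKJ hy)) h2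
    simpa using Submodule.add_mem_sup hy h3
  have hiter : ∀ m : ℕ, J' ≤ K ⊔ (I.map (algebraMap A' R')) ^ m * J' := by
    intro m
    induction m with
    | zero => simp
    | succ m ih =>
      refine ih.trans (sup_le le_sup_left ?_)
      calc (I.map (algebraMap A' R')) ^ m * J'
          ≤ (I.map (algebraMap A' R')) ^ m * (K ⊔ I.map (algebraMap A' R') * J') := Ideal.mul_mono_right key
        _ ≤ K ⊔ (I.map (algebraMap A' R')) ^ (m + 1) * J' := by
            rw [Ideal.mul_sup, pow_succ, mul_assoc]
            exact sup_le_sup_right Ideal.mul_le_right _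
  exact (hiter n).trans (by rw [← Ideal.map_pow, hn]; simp)

end Groth.Agent.S13972
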