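import Groth.Statements.S13975
import Groth.Agent.Lib.DefAut26.Art

set_option autoImplicit false
universe u
open CategoryTheory CategoryTheory.Limits AlgebraicGeometry
open Deform

namespace Groth.Agent.S13975

/-- Let k be a field and X₀ a locally Noetherian k-scheme, and let X_ε be the trivial first-order
deformation X₀ ×_k Spec k[ε], presented by a cartesian square with projections q : X_ε → X₀ and p :
X_ε → Spec k[ε], together with the closed immersion i : X₀ → X_ε over ε = 0 which is a section of q.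
Then the infinitesimal automorphisms of X₀ — automorphisms of X_ε over Spec k[ε] that restrict to
the identity of X₀ along i — form a group isomorphic to the additive group of derivations
Der_k(O_{X₀}, O_{X₀}) = Hom_{O_{X₀}}(Ω_{X₀/k}, O_{X₀}): there is a bijection taking composition to
addition. -/
theorem result (k : Type u) [Field k]
    (X₀ : Scheme.{u}) [IsLocallyNoetherian X₀] (x : X₀ ⟶ Spec (CommRingCat.of k))
    (Xε : Scheme.{u}) (q : Xε ⟶ X₀) (p : Xε ⟶ Spec (CommRingCat.of (DualNumber k)))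
    (hsq : IsPullback q p x (Spec.map (CommRingCat.ofHom (algebraMap k (DualNumber k)))))
    (i : X₀ ⟶ Xε) (hiq : i ≫ q = 𝟙 X₀)
    (hip : i ≫ p = x ≫ Spec.map (CommRingCat.ofHom (TrivSqZeroExt.fstHom k k k).toRingHom)) :
    ∃ e : {φ : Xε ≅ Xε // φ.hom ≫ p = p ∧ i ≫ φ.hom = i} ≃ (Omega.sheaf x ⟶ Coh.structureModule X₀),
      ∀ φ ψ χ : {φ : Xε ≅ Xε // φ.hom ≫ p = p ∧ i ≫ φ.hom = i},
        φ.1 ≪≫ ψ.1 = χ.1 → e χ = e φ + e ψ := by
  haveI : QuasiSeparated x := inferInstance
  let A : ArtFun.Art k k := ArtFun.Art.dual k k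
  have hflat : Flat p := MorphismProperty.of_isPullback (P := @Flat) hsq (GrothLib.DefGlue19.flat_specPt x)
  have hcomp : Spec.map (CommRingCat.ofHom (TrivSqZeroExt.fstHom k k k).toRingHom) ≫
      Spec.map (CommRingCat.ofHom (algebraMap k (DualNumber k))) = 𝟙 _ := by
    rw [← Spec.map_comp, ← Spec.map_id]
    congr 1
  have hpb₀ : IsPullback i x p (Spec.map (CommRingCat.ofHom (TrivSqZeroExt.fstHom k k k).toRingHom)) :=
    IsPullback.of_right (by
      rw [hiq, hcomp]
      exact IsPullback.of_horiz_isIso ⟨by simp⟩) hip hsq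
  have hpb : IsPullback i x p (ArtFun.Art.specRes A) := hpb₀
  let ξ : ArtFun.DefSch X₀ x A := ⟨Xε, p, hflat, i, hpb⟩
  let t : A := (DualNumber.eps : DualNumber k)
  have ht0 : t ≠ 0 := fun h => one_ne_zero (congrArg TrivSqZeroExt.snd h : (1 : k) = 0)
  have hfst : ∀ a : DualNumber k, TrivSqZeroExt.fst a = 0 → a = algebraMap k (DualNumber k)
      (TrivSqZeroExt.snd a) * DualNumber.eps := by
    intro a ha
    refine TrivSqZeroExt.ext ?_ ?_ <;> simp [ha, TrivSqZeroExt.algebraMap_eq_inl']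
  have ht : t ∈ IsLocalRing.maximalIdeal A.carrier :=
    (GrothLib.ArtFun.res_eq_zero_iff (A := A)).1 (show TrivSqZeroExt.fst (DualNumber.eps : DualNumber k) = 0 from rfl)
  have htm : ∀ a ∈ IsLocalRing.maximalIdeal A.carrier, a * t = 0 := fun a ha => by
    have h0 := hfst a ((GrothLib.ArtFun.res_eq_zero_iff (A := A)).2 ha)
    obtain ⟨a', rfl⟩ : ∃ a' : DualNumber k, a' = a := ⟨a, rfl⟩
    show a' * (DualNumber.eps : DualNumber k) = 0
    rw [h0, mul_assoc, DualNumber.eps_mul_eps, mul_zero]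
  have hker : RingHom.ker (ArtFun.Art.toBase A).toAlgHom = Ideal.span {t} := by
    ext a
    rw [RingHom.mem_ker, Ideal.mem_span_singleton']
    refine ⟨fun ha => ⟨_, (hfst a ha).symm⟩, ?_⟩
    rintro ⟨b, rfl⟩
    obtain ⟨b', rfl⟩ : ∃ b' : DualNumber k, b' = b := ⟨b, rfl⟩
    show TrivSqZeroExt.fst (b' * (DualNumber.eps : DualNumber k)) = 0
    exact (TrivSqZeroExt.fst_mul _ _).trans (mul_zero _)
  have hS := GrothLib.DefAut26.setup ξ t ht0 ht htm
  obtain ⟨E, hE⟩ := GrothLib.DefAut26.exists_equiv hS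
  have htriv : ∀ φ : {φ : Xε ≅ Xε // φ.hom ≫ p = p ∧ i ≫ φ.hom = i}, GrothLib.DefAut26.Triv t p i φ.1.hom := fun φ => by
    let e : ξ.Iso ξ := ⟨φ.1, φ.2.1, φ.2.2⟩
    refine GrothLib.DefAut26.triv_of_baseChange (ArtFun.Art.toBase A) A.res_surjective hker e ?_
    haveI : IsIso (ξ.baseChange (ArtFun.Art.toBase A)).i :=
      (ξ.baseChange (ArtFun.Art.toBase A)).isPullback.isIso_fst_of_isIso
    rw [← cancel_epi (ξ.baseChange (ArtFun.Art.toBase A)).i, (e.baseChange _).i_hom, Category.comp_id]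
  let F : {φ : Xε ≅ Xε // φ.hom ≫ p = p ∧ i ≫ φ.hom = i} ≃ {e : Xε ⟶ Xε // GrothLib.DefAut26.Triv t p i e} :=
    { toFun := fun φ => ⟨φ.1.hom, htriv φ⟩
      invFun := fun e =>
        haveI := GrothLib.DefAut26.isIso_of_triv hS e.2
        ⟨asIso e.1, e.2.hom_f, e.2.closed⟩
      left_inv := fun φ => Subtype.ext (CategoryTheory.Iso.ext rfl)
      right_inv := fun e => Subtype.ext rfl }
  exact ⟨F.trans E, fun φ ψ χ h => hE (F φ) (F ψ) (F χ) (congrArg CategoryTheory.Iso.hom h)⟩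

end Groth.Agent.S13975
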