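import Groth.Agent.Lib.ArtFun.ObsSpan
import Groth.Statements.S13978
-- import your own Groth.Agent.* helpers here

set_option autoImplicit false
universe u v
open CategoryTheory
open scoped TensorProduct
open ArtFun ArtFun.ObsTheory

namespace Groth.Agent.S13978

/-- For obstruction theories of functors in the vector-space form, let k be a field, F a functor on
Artinian local k-algebras with residue field k and (V, ω) an obstruction theory for F — for each
surjection p : C' → C whose kernel J is killed by the maximal ideal and each u ∈ F(C) an obstruction
ω(p, u) ∈ V ⊗_k J, zero exactly when u lifts, and compatible with replacing C' → C by C'/K → C for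
ideals K ≤ J. Let Ω ⊆ V be the subspace spanned by the obstructions along tiny extensions (those p
whose kernel is one-dimensional), transported into V by the isomorphisms V ⊗ J ≅ V coming from
linear isomorphisms J ≅ k. Then for every p and u the obstruction ω(p, u) lies in the image of Ω ⊗_k
J → V ⊗_k J. (The published statement is for deformation categories and obstruction theories
functorial along all morphisms of extensions; this row assumes functoriality along quotients C'/K
only, which is all its proof uses, and no condition on F.) -/
theorem result {k : Type u} [Field k]
    {F : ArtFun.Art k k ⥤ Type v} {V : Type u} [AddCommGroup V] [Module k V]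
    (T : ArtFun.ObsTheory F V) {C' C : ArtFun.Art k k} (p : C' ⟶ C) (hp : ArtFun.Art.IsSemismallExt p)
    (u : F.obj C) :
    T.obs p hp u ∈ LinearMap.range (LinearMap.rTensor (↥(RingHom.ker p.toAlgHom))
      (Submodule.span k {v : V | ∃ (B' B : ArtFun.Art k k) (t : B' ⟶ B) (ht : ArtFun.Art.IsSmallExt t)
          (w : F.obj B) (φ : ↥(RingHom.ker t.toAlgHom) ≃ₗ[k] k),
          v = TensorProduct.rid k V (LinearMap.lTensor V φ.toLinearMap (T.obs t ht.isSemismallExt w))}).subtype) := by
  refine GrothLib.ArtFun.mem_range_rTensor_of_forall_contract _ _ fun l => ?_
  by_cases hl : l = 0
  · subst hl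
    simp
  · obtain ⟨B', t, ht, φ, hφ⟩ := GrothLib.ArtFun.exists_tiny_contract T p hp u l hl
    exact Submodule.subset_span ⟨B', C, t, ht, u, φ, hφ⟩

end Groth.Agent.S13978
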