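import Groth.Statements.S1398
import Groth.Agent.Lib.IndQA.Basic

set_option autoImplicit false
universe u
open FlatMor

namespace Groth.Agent.S1398

open AlgebraicGeometry CategoryTheory Limits in
/-- An immersion is ind-quasi-affine, and so is any quasi-affine morphism. -/
theorem result {X Y : Scheme.{u}} (f : X ⟶ Y) :
    (IsImmersion f → MoreMor.IsIndQuasiAffineHom f) ∧ (MoreMor.IsQuasiAffineHom f → MoreMor.IsIndQuasiAffineHom f) := by
  refine ⟨fun _ => GrothLib.IndQA.indQA_of_isImmersion f, fun h => ?_⟩
  exact (GrothLib.IndQA.indQA_iff f).mpr fun V hV U hle hU =>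
    GrothLib.IndQA.qa_mono (h.2 V hV) hU hle

end Groth.Agent.S1398
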