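import Groth.Statements.S13982
import Groth.Agent.Lib.NodeDeform2.Algebra
import Groth.Agent.Lib.Ample.ProjMap


set_option autoImplicit false
set_option linter.all false
set_option maxHeartbeats 800000
set_option backward.isDefEq.respectTransparency false
universe u
open CategoryTheory CategoryTheory.Limits AlgebraicGeometry
open Curves

namespace Groth.Agent.S13982


theorem smooth1_opensRange {X Y : Scheme.{u}} (f : X ⟶ Y) {Z : Scheme.{u}} (ι : Z ⟶ X) [IsOpenImmersion ι]
    (h : SmoothOfRelativeDimension 1 (ι ≫ f)) : SmoothOfRelativeDimension 1 (ι.opensRange.ι ≫ f) := by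
  rw [← Scheme.Hom.isoOpensRange_inv_comp, Category.assoc, MorphismProperty.cancel_left_of_respectsIso (P := @SmoothOfRelativeDimension 1)]
  exact h


/-- The implication its proof establishes. Let Λ be a complete Noetherian local ring of Krull dimension
1 and u ∈ Λ an element whose radical ideal is the maximal ideal (a system of parameters). Let f : X
→ Spec Λ be proper and flat with X locally Noetherian, and let P be a finite set of points of X over
the closed point of Spec Λ such that: (a) at every point of the closed fibre outside P the morphism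
f is smooth of relative dimension 1 on an open neighbourhood (the closed fibre is a curve, smooth
away from P), and (b) for every p ∈ P the completion of the local ring O_{X,p} is isomorphic,
compatibly with the maps from Λ, to Λ[[x, y]]/(xy − u) (p is a node of the closed fibre deformed by
the parameter u). Then f is smooth of relative dimension 1 on an open neighbourhood of every point
of X that does not lie over the closed point. (The published statement asserts that a flat
projective family over Λ with a prescribed projective nodal closed fibre exists and that it is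
smooth over the punctured spectrum away from the closed fibre; this row states the smoothness
implication for a given proper flat family, with smoothness of the closed fibre away from P put on
f, which for flat f is equivalent to smoothness of the fibre there.) -/
theorem result
    (Λ : Type u) [CommRing Λ] [IsLocalRing Λ] [IsNoetherianRing Λ]
    [IsAdicComplete (IsLocalRing.maximalIdeal Λ) Λ] (hdim : ringKrullDim Λ = 1)
    (u : Λ) (hu : (Ideal.span {u}).radical = IsLocalRing.maximalIdeal Λ)
    (X : Scheme.{u}) [IsLocallyNoetherian X] (f : X ⟶ Spec (CommRingCat.of Λ)) [IsProper f] [Flat f]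
    (P : Finset X) (hP : ∀ p ∈ P, f.base p = IsLocalRing.closedPoint Λ)
    (hsm : ∀ q : X, f.base q = IsLocalRing.closedPoint Λ → q ∉ P →
      ∃ U : X.Opens, q ∈ U ∧ SmoothOfRelativeDimension 1 (U.ι ≫ f))
    (hnode : ∀ p ∈ P, ∃ e : AdicCompletion (IsLocalRing.maximalIdeal (X.presheaf.stalk p)) (X.presheaf.stalk p) ≃+*
        (MvPowerSeries (Fin 2) Λ ⧸ Ideal.span {MvPowerSeries.X 0 * MvPowerSeries.X 1 - MvPowerSeries.C u}),
      ∀ c : Λ, e (algebraMap (X.presheaf.stalk p) _ (((X.presheaf.germ ⊤ p trivial).hom.comp (Coh.toGlobal f)) c)) =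
        Ideal.Quotient.mk _ (MvPowerSeries.C c)) :
    ∀ q : X, f.base q ≠ IsLocalRing.closedPoint Λ →
      ∃ U : X.Opens, q ∈ U ∧ SmoothOfRelativeDimension 1 (U.ι ≫ f) := by
  classical
  intro q hq
  by_contra hbad
  have hum : u ∈ IsLocalRing.maximalIdeal Λ := hu ▸ Ideal.le_radical (Ideal.mem_span_singleton_self u)
  have hΛ : ∀ p p' : Ideal Λ, p.IsPrime → p'.IsPrime → p ≤ p' → u ∉ p' → p = p' := by
    intro p p' hp hp' hle hu'
    by_contra hne
    have h1 : p < p' := lt_of_le_of_ne hle hne
    have h2 : p' < IsLocalRing.maximalIdeal Λ :=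
      lt_of_le_of_ne (IsLocalRing.le_maximalIdeal hp'.ne_top) fun e => hu' (e ▸ hum)
    have h3 := Ideal.height_add_one_le_of_lt_of_isPrime h1
    have h4 := Ideal.height_add_one_le_of_lt_of_isPrime h2
    have h5 : (1 : ℕ∞) + 1 ≤ (IsLocalRing.maximalIdeal Λ).height :=
      (add_le_add_left (le_add_self.trans h3) 1).trans h4
    have h6 : ((IsLocalRing.maximalIdeal Λ).height : WithBot ℕ∞) = ((1 : ℕ∞) : WithBot ℕ∞) :=
      (IsLocalRing.maximalIdeal_height_eq_ringKrullDim).trans hdim
    rw [WithBot.coe_inj.1 h6] at h5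
    norm_num at h5
  -- the bad locus is closed
  let N : Set X := {x | ¬ ∃ U : X.Opens, x ∈ U ∧ SmoothOfRelativeDimension 1 (U.ι ≫ f)}
  have hN : IsClosed N := by
    rw [← isOpen_compl_iff, isOpen_iff_forall_mem_open]
    intro x hx
    obtain ⟨U, hxU, hU⟩ := not_not.1 hx
    exact ⟨U, fun y hy h => h ⟨U, hy, hU⟩, U.2, hxU⟩
  have hcl : IsClosed (f.base '' closure {q}) := Scheme.Hom.isClosedMap f _ isClosed_closure
  obtain ⟨p, hpq, hpc⟩ : IsLocalRing.closedPoint Λ ∈ f.base '' closure {q} :=
    (IsLocalRing.specializes_closedPoint (f.base q)).mem_closed hcl ⟨q, subset_closure rfl, rfl⟩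
  have hpN : p ∈ N := closure_minimal (Set.singleton_subset_iff.2 hbad) hN hpq
  have hpP : p ∈ P := by
    by_contra h
    exact hpN (hsm p hpc h)
  have hspec : q ⤳ p := specializes_iff_mem_closure.2 hpq
  -- the affine chart
  obtain ⟨U, hU, hpU, -⟩ := exists_isAffineOpen_mem_and_subset (X := X) (U := ⊤) (x := p) trivial
  have hqU : q ∈ U := hspec.mem_open U.2 hpU
  let φ : CommRingCat.of Λ ⟶ Γ(X, U) :=
    CommRingCat.ofHom (ProjUP.toGlobal f) ≫ X.presheaf.map (homOfLE le_top).op
  have hφ : Spec.map φ = hU.fromSpec ≫ f := by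
    rw [Spec.map_comp, ← hU.fromSpec_toSpecΓ, Category.assoc]
    exact congrArg (hU.fromSpec ≫ ·) (GrothLib.Ample.ProjMap.eq_toSpecΓ_toGlobal f).symm
  haveI hft : LocallyOfFiniteType (Spec.map φ) := by rw [hφ]; infer_instance
  haveI hfl : Flat (Spec.map φ) := by rw [hφ]; infer_instance
  have hft' : φ.hom.FiniteType := (HasRingHomProperty.Spec_iff (P := @LocallyOfFiniteType)).1 hft
  have hfl' : φ.hom.Flat := (HasRingHomProperty.Spec_iff (P := @Flat)).1 hfl
  letI : Algebra Λ Γ(X, U) := φ.hom.toAlgebra
  haveI : Algebra.FiniteType Λ Γ(X, U) := hft'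
  haveI : Module.Flat Λ Γ(X, U) := hfl'
  haveI : Algebra.FinitePresentation Λ Γ(X, U) := Algebra.FinitePresentation.of_finiteType.1 inferInstance
  letI : Algebra Γ(X, U) (X.presheaf.stalk p) := (X.presheaf.germ U p hpU).hom.toAlgebra
  letI : Algebra Λ (X.presheaf.stalk p) := ((X.presheaf.germ U p hpU).hom.comp φ.hom).toAlgebra
  haveI : IsScalarTower Λ Γ(X, U) (X.presheaf.stalk p) := IsScalarTower.of_algebraMap_eq fun _ => rfl
  let P' := hU.primeIdealOf ⟨p, hpU⟩
  haveI : IsLocalization.AtPrime (X.presheaf.stalk p) P'.asIdeal := hU.isLocalization_stalk ⟨p, hpU⟩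
  have hcomm : ∀ c : Λ, algebraMap Λ (X.presheaf.stalk p) c =
      ((X.presheaf.germ ⊤ p trivial).hom.comp (Coh.toGlobal f)) c := fun c =>
    TopCat.Presheaf.germ_res_apply X.presheaf (homOfLE le_top) p hpU (ProjUP.toGlobal f c)
  have hR : GrothLib.NodeDeform2.HasNodeCompletion (Λ := Λ) (X.presheaf.stalk p) u := by
    obtain ⟨e, he⟩ := hnode p hpP
    exact ⟨e, fun c => by rw [hcomm c]; exact he c⟩
  let q' := hU.primeIdealOf ⟨q, hqU⟩
  have hP' : hU.fromSpec P' = p := hU.fromSpec_primeIdealOf ⟨p, hpU⟩
  have hq' : hU.fromSpec q' = q := hU.fromSpec_primeIdealOf ⟨q, hqU⟩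
  have hle : q'.asIdeal ≤ P'.asIdeal := by
    refine (PrimeSpectrum.le_iff_specializes q' P').2 (hU.fromSpec.isOpenEmbedding.isEmbedding.isInducing.specializes_iff.1 ?_)
    rw [hP', hq']
    exact hspec
  have huq : algebraMap Λ Γ(X, U) u ∉ q'.asIdeal := by
    intro h
    apply hq
    have h2 : f.base q = PrimeSpectrum.comap φ.hom q' := by
      conv_lhs => rw [← hq']
      exact (congrArg (fun g : Spec Γ(X, U) ⟶ Spec (CommRingCat.of Λ) => g.base q') hφ).symm
    rw [h2]
    refine PrimeSpectrum.ext (le_antisymm (IsLocalRing.le_maximalIdeal (Ideal.IsPrime.ne_top inferInstance)) ?_)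
    show IsLocalRing.maximalIdeal Λ ≤ _
    rw [← hu, Ideal.IsPrime.radical_le_iff inferInstance, Ideal.span_singleton_le_iff_mem]
    exact h
  obtain ⟨g, hg, hss⟩ := GrothLib.NodeDeform2.exists_standardSmooth_near hum hΛ P'.asIdeal hR q'.asIdeal hle huq
  let ι := Spec.map (CommRingCat.ofHom (algebraMap Γ(X, U) (Localization.Away g))) ≫ hU.fromSpec
  haveI : IsOpenImmersion (Spec.map (CommRingCat.ofHom (algebraMap Γ(X, U) (Localization.Away g)))) :=
    IsOpenImmersion.of_isLocalization g
  refine hbad ⟨ι.opensRange, ?_, smooth1_opensRange f ι ?_⟩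
  · have : q' ∈ Set.range (PrimeSpectrum.comap (algebraMap Γ(X, U) (Localization.Away g))) := by
      rw [PrimeSpectrum.localization_away_comap_range (Localization.Away g) g]
      exact hg
    obtain ⟨z, hz⟩ := this
    exact ⟨z, (congrArg hU.fromSpec.base hz).trans hq'⟩
  · rw [Category.assoc, ← hφ, ← Spec.map_comp, HasRingHomProperty.Spec_iff (P := @SmoothOfRelativeDimension 1)]
    refine RingHom.locally_of RingHom.isStandardSmoothOfRelativeDimension_respectsIso _ ?_
    have e : (φ ≫ CommRingCat.ofHom (algebraMap Γ(X, U) (Localization.Away g))).hom =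
        algebraMap Λ (Localization.Away g) := by
      rw [CommRingCat.hom_comp, CommRingCat.hom_ofHom]
      exact (IsScalarTower.algebraMap_eq Λ Γ(X, U) (Localization.Away g)).symm
    rw [e, RingHom.isStandardSmoothOfRelativeDimension_algebraMap]
    exact hss

end Groth.Agent.S13982
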