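import Groth.Statements.S13983
import Groth.Agent.Lib.HypDef26.Hyp

set_option autoImplicit false
universe u
open CategoryTheory CategoryTheory.Limits AlgebraicGeometry
open LefPen

namespace Groth.Agent.S13983

/-- Let k be a field and Z₀ = V(F) ⊂ Pⁿ_k a smooth hypersurface of degree d ≥ 1, n ≥ 2 (F a nonzero
form), with (n, d) not one of the exceptional pairs n = 2, d ≥ 5 and n = 3, d = 4. Then every
infinitesimal deformation of Z₀ is a hypersurface deformation: for every local Artinian k-algebra A
with residue field k and every deformation ξ of Z₀ over A (a scheme flat over Spec A with a morphism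
from Z₀ making it the closed fibre), there is an element of the local Hilbert functor of Z₀ ⊂ Pⁿ_k
at A — a closed subscheme of Pⁿ_k ×_k Spec A, flat over Spec A, restricting to Z₀ over the closed
point — whose underlying deformation of Z₀ is isomorphic to ξ over Spec A and under Z₀. (In the
exceptional cases this fails already over k[ε].) -/
theorem result (k : Type u) [Field k] (n d : ℕ)
    (hn : 2 ≤ n) (hd : 1 ≤ d) (F : LefPen.Form n k d) (hF : F ≠ 0)
    [Smooth ((LefPen.hypIdeal F).subschemeι ≫ CohB1.ProjSpace.toSpec n k)]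
    (hnd : ¬ ((n = 2 ∧ 5 ≤ d) ∨ (n = 3 ∧ d = 4)))
    (A : ArtFun.Art k k)
    (ξ : ArtFun.DefSch (LefPen.hypIdeal F).subscheme
      (ArtFun.subOver (CohB1.ProjSpace.toSpec n k) (LefPen.hypIdeal F)) A) :
    ∃ I : (ArtFun.localHilb (CohB1.ProjSpace n k) (CohB1.ProjSpace.toSpec n k) (LefPen.hypIdeal F)).obj A,
      Nonempty (ArtFun.DefSch.Iso (ArtFun.objectOf I) ξ) := by
  exact GrothLib.HypDef26.exists_localHilb hn hd F hF hnd ξ

end Groth.Agent.S13983
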