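import Groth.Statements.S13987
import Groth.Agent.Lib.CohGab9.Basic

set_option autoImplicit false
universe u
open CategoryTheory CategoryTheory.Limits AlgebraicGeometry
open CohGab

namespace Groth.Agent.S13987

/-- Let X be a Noetherian scheme, Z ⊆ X a closed subset and U = X ∖ Z. Then restriction to U induces an
equivalence between the quotient abelian category Coh(X)/Coh_Z(X) (coherent modules modulo those
supported in Z) and Coh(U): the restriction functor Coh(X) ⥤ Coh(U) is a localization functor for
the class of morphisms of coherent O_X-modules whose kernel and cokernel (taken in O_X-modules) have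
support contained in Z. The hypothesis that restriction to U preserves coherence always holds and is
carried only to form the functor between the full subcategories. (The published statement is about
coherent sheaves twisted by a class in the second etale cohomology group of the units of the
structure sheaf; this row is its case of the trivial class, ordinary coherent sheaves.) -/
theorem result (X : Scheme.{u}) [IsNoetherian X]
    (U : X.Opens)
    (hres : ∀ M : X.Modules, Coh.IsCoh M → Coh.IsCoh ((Scheme.Modules.restrictFunctor U.ι).obj M)) :
    (ObjectProperty.lift (fun N : (↑U : Scheme.{u}).Modules => Coh.IsCoh N)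
        (ObjectProperty.ι (fun M : X.Modules => Coh.IsCoh M) ⋙ Scheme.Modules.restrictFunctor U.ι)
        (fun M => hres M.obj M.property)).IsLocalization
      (fun (A B : ObjectProperty.FullSubcategory (fun M : X.Modules => Coh.IsCoh M)) (f : A ⟶ B) =>
        CohB1.support (kernel f.hom) ⊆ (↑U : Set X)ᶜ ∧
          CohB1.support (cokernel f.hom) ⊆ (↑U : Set X)ᶜ) := by
  let P : ObjectProperty X.Modules := fun M : X.Modules => Coh.IsCoh M
  refine GrothLib.CohGab9.isLocalization_of_roofs _ _ (fun A B f => ?_) (fun G => ?_) (fun A B g => ?_)
    (fun A B φ ψ h => ?_)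
  · refine Iff.trans ?_ (isIso_iff_of_reflects_iso _ (ObjectProperty.ι _)).symm.symm
    exact (GrothLib.CohGab9.isIso_restrict_iff_support f.hom U).symm
  · obtain ⟨G', hG', ⟨e⟩⟩ := GrothLib.CohGab9.exists_extension U G.obj G.property
    exact ⟨⟨G', hG'⟩, ⟨ObjectProperty.isoMk _ e⟩⟩
  · obtain ⟨M, hM, s, f, hs, hf⟩ := GrothLib.CohGab9.exists_roof U A.property B.property g.hom
    refine ⟨⟨M, hM⟩, ObjectProperty.homMk s, ObjectProperty.homMk f, ?_, ObjectProperty.hom_ext _ hf⟩
    exact (isIso_iff_of_reflects_iso _ (ObjectProperty.ι _)).mp hs
  · let d : A.obj ⟶ B.obj := φ.hom - ψ.hom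
    have hd : (Scheme.Modules.restrictFunctor U.ι).map d = 0 := by
      haveI : (Scheme.Modules.restrictFunctor U.ι).PreservesZeroMorphisms := inferInstance
      haveI : (Scheme.Modules.restrictFunctor U.ι).Additive := (Scheme.Modules.restrictAdjunction U.ι).left_adjoint_additive
      rw [Functor.map_sub, sub_eq_zero]
      exact congrArg (fun k => k.hom) h
    refine ⟨⟨Limits.kernel d, GrothLib.QCoh.isCoh_kernel d A.property B.property⟩, ObjectProperty.homMk (Limits.kernel.ι d), ?_, ?_⟩
    · refine (isIso_iff_of_reflects_iso _ (ObjectProperty.ι _)).mp ?_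
      show IsIso ((Scheme.Modules.restrictFunctor U.ι).map (Limits.kernel.ι d))
      haveI : IsIso (Limits.kernel.ι ((Scheme.Modules.restrictFunctor U.ι).map d))  :=
        ⟨Limits.kernel.lift _ (𝟙 _) (by rw [Category.id_comp, hd]),
          by rw [← cancel_mono (Limits.kernel.ι _), Category.assoc, Limits.kernel.lift_ι, Category.comp_id, Category.id_comp],
          Limits.kernel.lift_ι _ _ _⟩
      rw [← Limits.kernelComparison_comp_ι]
      infer_instance
    · refine ObjectProperty.hom_ext _ ?_
      show Limits.kernel.ι d ≫ φ.hom = Limits.kernel.ι d ≫ ψ.hom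
      rw [← sub_eq_zero, ← Preadditive.comp_sub]
      exact Limits.kernel.condition d

end Groth.Agent.S13987
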