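import Groth.Statements.S13988
import Groth.Agent.Lib.QCoh.Center9
import Groth.Agent.Lib.CMReg.StructureMain

set_option autoImplicit false
universe u
open CategoryTheory AlgebraicGeometry
open CohGab

namespace Groth.Agent.S13988

/-- Let X be a Noetherian scheme. The canonical ring map from the global functions Γ(X, O_X) to the
centre of the category of coherent O_X-modules (the endomorphisms of its identity functor), sending
r to multiplication by r, is bijective: for every natural endomorphism φ of the identity functor of
Coh(X) there is a unique global function r such that, for every coherent module M, φ_M is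
multiplication by r (compared as maps of the underlying abelian sheaves). (The published result
builds a ringed space from Coh(X) — irreducible Serre subcategories of finite type, with the centres
of the categories Coh(U) as structure sheaf — and proves it isomorphic to X, for coherent sheaves
twisted by a class in the cohomological Brauer group and with X over a field, a hypothesis its proof
does not use; this row is the ring-theoretic content of that isomorphism on global sections, for the
trivial class; applied to the open subschemes of X it gives the statement on every open.) -/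
theorem result (X : Scheme.{u}) [IsNoetherian X]
    (φ : 𝟭 (ObjectProperty.FullSubcategory (fun M : X.Modules => Coh.IsCoh M)) ⟶ 𝟭 (ObjectProperty.FullSubcategory (fun M : X.Modules => Coh.IsCoh M))) :
    ∃! r : Coh.Γtop X, ∀ M : ObjectProperty.FullSubcategory (fun M : X.Modules => Coh.IsCoh M),
      (SheafOfModules.toSheaf X.ringCatSheaf).map (φ.app M).hom = Coh.smulAb M.obj r := by
  have hO : Coh.IsCoh (Coh.structureModule X) := GrothLib.CMReg.isCoh_structure
  let ψ : ∀ M : X.Modules, Coh.IsCoh M → (M ⟶ M) := fun M hM =>
    (φ.app (⟨M, hM⟩ : ObjectProperty.FullSubcategory (fun M : X.Modules => Coh.IsCoh M))).hom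
  have hnat : ∀ (M N : X.Modules) (hM : Coh.IsCoh M) (hN : Coh.IsCoh N) (g : M ⟶ N), g ≫ ψ N hN = ψ M hM ≫ g :=
    fun M N hM hN g => congrArg (fun k => k.hom) (φ.naturality (X := (⟨M, hM⟩ : ObjectProperty.FullSubcategory (fun M : X.Modules => Coh.IsCoh M)))
      (Y := ⟨N, hN⟩) (ObjectProperty.homMk g))
  let r : Coh.Γtop X := (ψ _ hO).app ⊤ (1 : Γ(X, ⊤))
  have hres : ∀ U : X.Opens, (show Γ(X, U) from (ψ _ hO).app U (1 : Γ(X, U))) =
      (X.presheaf.map (homOfLE (le_top : U ≤ ⊤)).op).hom (show Γ(X, ⊤) from r) := fun U => by
    refine Eq.trans ?_ (GrothLib.QCoh.map_app (ψ _ hO) (homOfLE (le_top : U ≤ ⊤)) (1 : Γ(X, ⊤))).symm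
    exact congrArg ((ψ _ hO).app U) (map_one (X.presheaf.map (homOfLE (le_top : U ≤ ⊤)).op).hom).symm
  refine ⟨r, fun M => ?_, fun r' h => ?_⟩
  · ext U m
    show (ψ M.obj M.property).app U.unop (show Γ(M.obj, U.unop) from m) = _
    rw [GrothLib.QCoh.natural_app_eq_smul ψ hnat hO M.obj M.property U.unop, hres]
    rfl
  · have h1 := congrArg (fun k => k.hom.app (Opposite.op ⊤) (1 : Γ(X, ⊤)))
      (h (⟨Coh.structureModule X, hO⟩ : ObjectProperty.FullSubcategory (fun M : X.Modules => Coh.IsCoh M)))
    have h2 : r = (show Γ(X, ⊤) from Coh.resTop X (Opposite.op ⊤) r') * (1 : Γ(X, ⊤)) := h1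
    rw [mul_one] at h2
    rw [h2]
    show r' = (X.presheaf.map _).hom r'
    rw [show (homOfLE (le_top : (⊤ : X.Opens) ≤ ⊤)).op = 𝟙 _ from rfl, CategoryTheory.Functor.map_id]
    rfl

end Groth.Agent.S13988
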