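import Groth.Statements.S13989
import Mathlib
-- import your own Groth.Agent.* helpers here

set_option autoImplicit false
universe v u v' u' v'' u''
open CategoryTheory CategoryTheory.Limits
open CohGab

namespace Groth.Agent.S13989

section
open CategoryTheory CategoryTheory.Limits

variable {A A' : Type u} [Category.{v} A] [Abelian A] [Category.{v} A'] [Abelian A']
  (i : A' ⥤ A) [i.Full] [i.Faithful] [PreservesFiniteLimits i] [PreservesFiniteColimits i]
  (J : ObjectProperty A) [J.IsSerreClass] [(J.inverseImage i).IsSerreClass]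

lemma isoModSerre_of_map {X Y : A'} (a : X ⟶ Y) (h : J.isoModSerre (i.map a)) :
    (J.inverseImage i).isoModSerre a := by
  rw [ObjectProperty.isoModSerre_iff, ObjectProperty.monoModSerre_iff, ObjectProperty.epiModSerre_iff] at h ⊢
  exact ⟨J.prop_of_iso (PreservesKernel.iso i a).symm h.1, J.prop_of_iso (PreservesCokernel.iso i a).symm h.2⟩

omit [i.Full] [i.Faithful] [PreservesFiniteLimits i] [PreservesFiniteColimits i] [(J.inverseImage i).IsSerreClass] in
lemma prop_image_iff {X I Y : A} (p : X ⟶ I) (m : I ⟶ Y) [Epi p] [Mono m] :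
    J (Abelian.image (p ≫ m)) ↔ J I := by
  haveI := strongEpi_of_epi p
  exact J.prop_iff_of_iso (Abelian.imageIsoImage (p ≫ m) ≪≫ (image.isoStrongEpiMono p m rfl).symm)

lemma map_eq_of_map_eq {Q : Type u'} [Category.{v'} Q] (L : A ⥤ Q) [L.IsLocalization J.isoModSerre]
    {Q' : Type u''} [Category.{v''} Q'] (L' : A' ⥤ Q') [L'.IsLocalization (J.inverseImage i).isoModSerre]
    {X Y : A'} (f g : X ⟶ Y) (h : L.map (i.map f) = L.map (i.map g)) : L'.map f = L'.map g := by
  haveI : PreservesBinaryBiproducts i := preservesBinaryBiproducts_of_preservesBinaryProducts i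
  haveI : i.Additive := Functor.additive_of_preservesBinaryBiproducts i
  rw [MorphismProperty.map_eq_iff_precomp L J.isoModSerre] at h
  obtain ⟨Z, s, hs, hsfg⟩ := h
  have hJ : J (Abelian.image (i.map (f - g))) := (ObjectProperty.exists_isoModSerre_comp_eq_zero_iff J _).1
    ⟨Z, s, hs, by rw [i.map_sub, Preadditive.comp_sub, hsfg, sub_self]⟩
  have hJ' : (J.inverseImage i) (Abelian.image (f - g)) := by
    have e : i.map (f - g) = i.map (Abelian.factorThruImage (f - g)) ≫ i.map (Abelian.image.ι (f - g)) := by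
      rw [← i.map_comp, Abelian.image.fac]
    simp only [e] at hJ
    exact (prop_image_iff J _ _).1 hJ
  obtain ⟨Z', s', hs', h'⟩ := (ObjectProperty.exists_isoModSerre_comp_eq_zero_iff (J.inverseImage i) (f - g)).2 hJ'
  rw [MorphismProperty.map_eq_iff_precomp L' (J.inverseImage i).isoModSerre]
  exact ⟨Z', s', hs', by rwa [Preadditive.comp_sub, sub_eq_zero] at h'⟩

omit [(J.inverseImage i).IsSerreClass] [PreservesFiniteColimits i] in
lemma exists_kernel_model {M : A'} {C : A} (π : i.obj M ⟶ C) (hC : i.essImage C) :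
    ∃ (M' : A') (a : M' ⟶ M) (θ : kernel π ≅ i.obj M'), θ.hom ≫ i.map a = kernel.ι π := by
  obtain ⟨c, ⟨ε⟩⟩ := hC
  let π' : M ⟶ c := i.preimage (π ≫ ε.inv)
  refine ⟨kernel π', kernel.ι π',
    (kernelCompMono π ε.inv).symm ≪≫ kernelIsoOfEq (i.map_preimage _).symm ≪≫ (PreservesKernel.iso i π').symm, ?_⟩
  simp [kernelCompMono]
  exact kernel.lift_ι _ _ _

omit [(J.inverseImage i).IsSerreClass] [PreservesFiniteLimits i] in
lemma exists_cokernel_model {N : A'} {T : A} (m : T ⟶ i.obj N) (hT : i.essImage T) :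
    ∃ (N' : A') (b : N ⟶ N') (θ : cokernel m ≅ i.obj N'), cokernel.π m ≫ θ.hom = i.map b := by
  obtain ⟨c, ⟨ε⟩⟩ := hT
  let m' : c ⟶ N := i.preimage (ε.hom ≫ m)
  refine ⟨cokernel m', cokernel.π m',
    (cokernelEpiComp ε.hom m).symm ≪≫ cokernelIsoOfEq (i.map_preimage _).symm ≪≫ (PreservesCokernel.iso i m').symm, ?_⟩
  simp [cokernelEpiComp]
  exact π_comp_cokernelComparison _ _

lemma exists_factor
    (hsub : ∀ (M : A') (N : A) (f : N ⟶ i.obj M), Mono f → J N → i.essImage N)
    (hquot : ∀ (M : A') (N : A) (p : i.obj M ⟶ N), Epi p → J N → i.essImage N)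
    {Q : Type u'} [Category.{v'} Q] (L : A ⥤ Q) [L.IsLocalization J.isoModSerre]
    {M N : A'} {Z : A} (s : Z ⟶ i.obj M) (hs : J.isoModSerre s) (f : Z ⟶ i.obj N) :
    ∃ (M' N' : A') (a : M' ⟶ M) (b : N ⟶ N') (g : M' ⟶ N'),
      (J.inverseImage i).isoModSerre a ∧ (J.inverseImage i).isoModSerre b ∧
      L.map (i.map a) ≫ (Localization.isoOfHom L J.isoModSerre s hs).inv ≫ L.map f ≫ L.map (i.map b) =
        L.map (i.map g) := by
  let p := Abelian.factorThruImage s
  have hp : J.isoModSerre p := ObjectProperty.monoModSerre.isoModSerre_factorThruImage hs.1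
  have hinc : J.isoModSerre (Abelian.image.ι s) := ObjectProperty.epiModSerre.isoModSerre_image_ι hs.2
  obtain ⟨M', a, θ, hθ⟩ := exists_kernel_model i (cokernel.π s) (hquot M _ (cokernel.π s) inferInstance hs.2)
  let g₀ : kernel p ⟶ i.obj N := kernel.ι p ≫ f
  have hT : J (Abelian.image g₀) := J.prop_of_epi (Abelian.factorThruImage g₀) hp.1
  obtain ⟨N', b, θ', hθ'⟩ := exists_cokernel_model i (Abelian.image.ι g₀)
    (hsub N _ (Abelian.image.ι g₀) inferInstance hT)
  let q := cokernel.π (Abelian.image.ι g₀)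
  have hq : J.isoModSerre q := by
    rw [ObjectProperty.isoModSerre_iff_of_epi, ObjectProperty.monoModSerre_iff]
    exact J.prop_of_iso (IsLimit.conePointUniqueUpToIso (t := Fork.ofι (kernel.ι q) (by simp))
      (Abelian.monoIsKernelOfCokernel (f := Abelian.image.ι g₀) (Cofork.ofπ (cokernel.π (Abelian.image.ι g₀)) (by simp)) (cokernelIsCokernel (Abelian.image.ι g₀)))
      (kernelIsKernel q)) hT
  have hfq : kernel.ι p ≫ f ≫ q = 0 := by
    rw [← Category.assoc]
    change g₀ ≫ q = 0
    conv_lhs => arg 1; rw [← Abelian.image.fac g₀]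
    rw [Category.assoc, cokernel.condition, comp_zero]
  let d : Abelian.image s ⟶ cokernel (Abelian.image.ι g₀) := Abelian.epiDesc p (f ≫ q) hfq
  have hd : p ≫ d = f ≫ q := Abelian.comp_epiDesc _ _ _
  refine ⟨M', N', a, b, i.preimage (θ.inv ≫ d ≫ θ'.hom),
    isoModSerre_of_map i J a ?_, isoModSerre_of_map i J b ?_, ?_⟩
  · rw [show i.map a = θ.inv ≫ Abelian.image.ι s from by rw [Iso.eq_inv_comp]; exact hθ]
    exact J.isoModSerre.comp_mem _ _ (J.isoModSerre_of_isIso _) hinc
  · rw [← hθ']
    exact J.isoModSerre.comp_mem _ _ hq (J.isoModSerre_of_isIso _)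
  · haveI : IsIso (L.map p) := Localization.inverts L J.isoModSerre p hp
    rw [show i.map a = θ.inv ≫ Abelian.image.ι s from by rw [Iso.eq_inv_comp]; exact hθ,
      i.map_preimage, ← hθ']
    simp only [L.map_comp, Category.assoc]
    rw [cancel_epi (L.map θ.inv), ← cancel_epi (L.map p)]
    simp only [← L.map_comp_assoc, p, Abelian.image.fac, Localization.isoOfHom_hom_inv_id_assoc, hd]
    simp only [L.map_comp, Category.assoc]
    rfl

end

/-- Let A be an abelian category, A' a full abelian subcategory (given as a fully faithful exact functor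
i : A' ⥤ A) and J a Serre subcategory of A, with J' = J ∩ A' (the preimage of J under i, a Serre
subcategory of A'). Assume that every subobject and every quotient object, in A, of an object of A'
which belongs to J belongs to A' (lies in the essential image of i). Then the functor A'/J' ⥤ A/J
induced between the quotient categories is fully faithful: for L : A ⥤ Q and L' : A' ⥤ Q'
localization functors at the morphisms whose kernel and cokernel lie in J, resp. J', every functor Φ
: Q' ⥤ Q with L' ⋙ Φ ≅ i ⋙ L is full and faithful. -/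
theorem result
    {A A' : Type u} [Category.{v} A] [Abelian A] [Category.{v} A'] [Abelian A']
    (i : A' ⥤ A) [i.Full] [i.Faithful] [PreservesFiniteLimits i] [PreservesFiniteColimits i]
    (J : ObjectProperty A) [J.IsSerreClass] [(J.inverseImage i).IsSerreClass]
    (hsub : ∀ (M : A') (N : A) (f : N ⟶ i.obj M), Mono f → J N → i.essImage N)
    (hquot : ∀ (M : A') (N : A) (p : i.obj M ⟶ N), Epi p → J N → i.essImage N)
    {Q : Type u'} [Category.{v'} Q] (L : A ⥤ Q) [L.IsLocalization J.isoModSerre]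
    {Q' : Type u''} [Category.{v''} Q'] (L' : A' ⥤ Q') [L'.IsLocalization (J.inverseImage i).isoModSerre]
    (Φ : Q' ⥤ Q) (e : L' ⋙ Φ ≅ i ⋙ L) : Φ.Full ∧ Φ.Faithful := by
  haveI : L'.EssSurj := Localization.essSurj L' (J.inverseImage i).isoModSerre
  let W' := (J.inverseImage i).isoModSerre
  have hW' : ∀ {X Y : A'} (a : X ⟶ Y), W' a → IsIso (L.map (i.map a)) := fun {X Y} a ha => by
    haveI := Localization.inverts L' W' a ha
    exact (NatIso.isIso_map_iff e a).1 (inferInstanceAs (IsIso (Φ.map (L'.map a))))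
  constructor
  · constructor
    intro P R φ
    let M := L'.objPreimage P
    let N := L'.objPreimage R
    let εM := L'.objObjPreimageIso P
    let εN := L'.objObjPreimageIso R
    let ψ : L.obj (i.obj M) ⟶ L.obj (i.obj N) :=
      e.inv.app M ≫ Φ.map εM.hom ≫ φ ≫ Φ.map εN.inv ≫ e.hom.app N
    obtain ⟨fr, hfr⟩ := Localization.exists_rightFraction L J.isoModSerre ψ
    obtain ⟨M', N', a, b, g, ha, hb, hg⟩ := exists_factor i J hsub hquot L fr.s fr.hs fr.f
    haveI := hW' a ha
    haveI := hW' b hb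
    haveI := Localization.inverts L' W' a ha
    haveI := Localization.inverts L' W' b hb
    refine ⟨εM.inv ≫ inv (L'.map a) ≫ L'.map g ≫ inv (L'.map b) ≫ εN.hom, ?_⟩
    have hψ : L.map (i.map a) ≫ ψ ≫ L.map (i.map b) = L.map (i.map g) := by
      rw [hfr]
      simpa [MorphismProperty.RightFraction.map, Localization.isoOfHom] using hg
    have key : Φ.map (L'.map a) ≫ (Φ.map εM.hom ≫ φ ≫ Φ.map εN.inv) ≫ Φ.map (L'.map b) = Φ.map (L'.map g) := by
      have hn : ∀ {X Y : A'} (c : X ⟶ Y), Φ.map (L'.map c) = e.hom.app X ≫ L.map (i.map c) ≫ e.inv.app Y :=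
        fun {X Y} c => by
          have := e.hom.naturality c
          rw [Functor.comp_map, Functor.comp_map] at this
          rw [← reassoc_of% this, Iso.hom_inv_id_app]
          exact (Category.comp_id _).symm
      rw [hn a, hn b, hn g, ← hψ]
      simp only [ψ, Category.assoc]
    haveI : IsIso (Φ.map (L'.map a)) := inferInstance
    haveI : IsIso (Φ.map (L'.map b)) := inferInstance
    simp only [Functor.map_comp, Functor.map_inv]
    rw [← key]
    simp
  · constructor
    intro P R φ₁ φ₂ h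
    let M := L'.objPreimage P
    let N := L'.objPreimage R
    let εM := L'.objObjPreimageIso P
    let εN := L'.objObjPreimageIso R
    suffices εM.hom ≫ φ₁ ≫ εN.inv = εM.hom ≫ φ₂ ≫ εN.inv by simpa using this
    obtain ⟨r₁, h₁⟩ := Localization.exists_rightFraction L' W' (εM.hom ≫ φ₁ ≫ εN.inv)
    obtain ⟨r₂, h₂⟩ := Localization.exists_rightFraction L' W' (L'.map r₁.s ≫ εM.hom ≫ φ₂ ≫ εN.inv)
    have e₁ : L'.map r₁.s ≫ εM.hom ≫ φ₁ ≫ εN.inv = L'.map r₁.f := by
      rw [h₁, MorphismProperty.RightFraction.map_s_comp_map]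
    have e₂ : L'.map r₂.s ≫ L'.map r₁.s ≫ εM.hom ≫ φ₂ ≫ εN.inv = L'.map r₂.f := by
      rw [h₂, MorphismProperty.RightFraction.map_s_comp_map]
    haveI := Localization.inverts L' W' r₁.s r₁.hs
    haveI := Localization.inverts L' W' r₂.s r₂.hs
    rw [← cancel_epi (L'.map r₁.s), ← cancel_epi (L'.map r₂.s), e₁, e₂, ← L'.map_comp]
    apply map_eq_of_map_eq i J L L'
    have hΦ : Φ.map (L'.map (r₂.s ≫ r₁.f)) = Φ.map (L'.map r₂.f) := by
      rw [L'.map_comp, ← e₁, ← e₂]
      simp only [Functor.map_comp, h]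
    have n₁ := e.hom.naturality (r₂.s ≫ r₁.f)
    have n₂ := e.hom.naturality r₂.f
    rw [← cancel_epi (e.hom.app _)]
    exact n₁.symm.trans ((congrArg (· ≫ e.hom.app _) hΦ).trans n₂)

end Groth.Agent.S13989
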