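import Groth.Statements.S1399
import Groth.Agent.Lib.IndQA.Basic

set_option autoImplicit false
universe u
open FlatMor

namespace Groth.Agent.S1399

open AlgebraicGeometry CategoryTheory Limits in
/-- If g ∘ f is ind-quasi-affine then so is f. -/
theorem result {X Y Z : Scheme.{u}} (f : X ⟶ Y) (g : Y ⟶ Z) (h : MoreMor.IsIndQuasiAffineHom (f ≫ g)) :
    MoreMor.IsIndQuasiAffineHom f := by
  exact GrothLib.IndQA.indQA_of_comp f g h

end Groth.Agent.S1399
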