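import Groth.Statements.S13992
import Groth.Agent.Lib.PlanarExt.Planar

set_option autoImplicit false
universe u
open CategoryTheory
open CAlg

namespace Groth.Agent.S13992

/-- Let S be a regular local ring of Krull dimension two, f a non-zero element of S and R the quotient
of S by f, assumed reduced (the local ring of a reduced planar curve singularity). Let M and N be
finitely generated R-modules, each admitting a non-zero-divisor in the maximal ideal of R,
annihilated by ideals I and J respectively, where I + J contains a power of the maximal ideal. Then
Ext²_R(M, N) = 0. (The published statement is global: Ext²(F, F') = 0 for torsion-free coherent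
sheaves F and F' on a reduced projective curve over a characteristic-zero algebraically closed
field, supported on subcurves with no common irreducible component that meet only at points with
planar singularities; this row is the vanishing on stalks to which it reduces, stated over an
arbitrary two-dimensional regular local ring.) -/
theorem result (S : Type u) [CommRing S] [IsRegularLocalRing S] (hS : ringKrullDim S = 2) (f : S) (hf : f ≠ 0) (R : Type u) [CommRing R] [IsLocalRing R] [IsReduced R] (π : S →+* R) (hπ : Function.Surjective π) (hker : RingHom.ker π = Ideal.span {f}) (I J : Ideal R) (n : ℕ) (hIJ : IsLocalRing.maximalIdeal R ^ n ≤ I ⊔ J) (M N : Type u) [AddCommGroup M] [Module R M] [Module.Finite R M] [AddCommGroup N] [Module R N] [Module.Finite R N] (hI : I ≤ Module.annihilator R M) (hJ : J ≤ Module.annihilator R N) (x : R) (hx : x ∈ IsLocalRing.maximalIdeal R) (hxM : IsSMulRegular M x) (y : R) (hy : y ∈ IsLocalRing.maximalIdeal R) (hyN : IsSMulRegular N y) : Subsingleton (Abelian.Ext (ModuleCat.of R M) (ModuleCat.of R N) 2) := by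
  obtain ⟨f₁, hf₁, hkill, hN, -⟩ := GrothLib.PlanarExt.exists_split π hS hf hπ hker I J hIJ hI hJ hx hxM hy hyN
  obtain ⟨a, A, B, p, hp, hAp, hBA⟩ := GrothLib.PlanarExt.exists_presentation π hS hπ hx hxM hf₁ hkill
  exact GrothLib.PlanarExt.subsingleton_ext_two A B p _ hp hAp hBA hN

end Groth.Agent.S13992
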