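import Groth.Statements.S13993
import Mathlib
import Groth.Agent.Lib.NodeExt.Basic
import Groth.Agent.Lib.AdicFS.PowerSeries
-- import your own Groth.Agent.* helpers here

set_option autoImplicit false
universe u
open CategoryTheory
open CAlg

namespace Groth.Agent.S13993

/-- Let k be a field and A = k[[x,y]]/(xy) the complete local ring of a node, with branch rings A/(y)
and A/(x) viewed as A-modules. Then the first Ext group Ext¹_A(A/(y), A/(x)) has dimension one over
k. (The published statement is for the local ring at a node of a reduced curve over an algebraically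
closed field of characteristic zero, a node being a point whose complete local ring is A; this row
states the case of the complete local ring A itself, over an arbitrary field.) -/
theorem result (k : Type u) [Field k] : Module.finrank k (Abelian.Ext (ModuleCat.of (MvPowerSeries (Fin 2) k ⧸ Ideal.span {(MvPowerSeries.X (0 : Fin 2) : MvPowerSeries (Fin 2) k) * MvPowerSeries.X (1 : Fin 2)}) ((MvPowerSeries (Fin 2) k ⧸ Ideal.span {(MvPowerSeries.X (0 : Fin 2) : MvPowerSeries (Fin 2) k) * MvPowerSeries.X (1 : Fin 2)}) ⧸ Ideal.span {Ideal.Quotient.mk (Ideal.span {(MvPowerSeries.X (0 : Fin 2) : MvPowerSeries (Fin 2) k) * MvPowerSeries.X (1 : Fin 2)}) (MvPowerSeries.X (1 : Fin 2))})) (ModuleCat.of (MvPowerSeries (Fin 2) k ⧸ Ideal.span {(MvPowerSeries.X (0 : Fin 2) : MvPowerSeries (Fin 2) k) * MvPowerSeries.X (1 : Fin 2)}) ((MvPowerSeries (Fin 2) k ⧸ Ideal.span {(MvPowerSeries.X (0 : Fin 2) : MvPowerSeries (Fin 2) k) * MvPowerSeries.X (1 : Fin 2)}) ⧸ Ideal.span {Ideal.Quotient.mk (Ideal.span {(MvPowerSeries.X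 (0 : Fin 2) : MvPowerSeries (Fin 2) k) * MvPowerSeries.X (1 : Fin 2)}) (MvPowerSeries.X (0 : Fin 2))})) 1) = 1 := by
  classical
  set P := MvPowerSeries (Fin 2) k
  set J : Ideal P := Ideal.span {(MvPowerSeries.X (0 : Fin 2) : MvPowerSeries (Fin 2) k) * MvPowerSeries.X (1 : Fin 2)} with hJ
  set x : P ⧸ J := Ideal.Quotient.mk J (MvPowerSeries.X (0 : Fin 2)) with hx
  set y : P ⧸ J := Ideal.Quotient.mk J (MvPowerSeries.X (1 : Fin 2)) with hy
  have hxy : x * y = 0 := by
    rw [hx, hy, ← map_mul, Ideal.Quotient.eq_zero_iff_mem]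
    exact Ideal.subset_span rfl
  have hXne : (MvPowerSeries.X (1 : Fin 2) : P) ≠ 0 := fun h => by
    have := congrArg (MvPowerSeries.coeff (Finsupp.single (1 : Fin 2) 1)) h
    rw [MvPowerSeries.coeff_index_single_self_X, map_zero] at this
    exact one_ne_zero this
  have hann : ∀ a, y * a = 0 → ∃ c, a = x * c := fun a ha => by
    obtain ⟨f, rfl⟩ := Ideal.Quotient.mk_surjective a
    rw [hy, ← map_mul, Ideal.Quotient.eq_zero_iff_mem, hJ, Ideal.mem_span_singleton] at ha
    obtain ⟨g, hg⟩ := ha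
    refine ⟨Ideal.Quotient.mk J g, ?_⟩
    rw [hx, ← map_mul, mul_left_cancel₀ hXne
      (show MvPowerSeries.X (1 : Fin 2) * f = MvPowerSeries.X (1 : Fin 2) * (MvPowerSeries.X (0 : Fin 2) * g) by
        rw [hg]; ring)]
  obtain ⟨e⟩ := GrothLib.NodeExt.nonempty_ext_equiv hxy hann
  rw [GrothLib.NodeExt.finrank_ext_eq (k := k) e]
  refine finrank_eq_one (Ideal.Quotient.mk _ 1) ?_ fun z => ?_
  · intro h0
    rw [Ideal.Quotient.eq_zero_iff_mem] at h0
    have hle : Ideal.span {x, y} ≠ ⊤ := by
      have h1 : ∀ p ∈ J, MvPowerSeries.constantCoeff p = 0 := fun p hp => by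
        rw [hJ, Ideal.mem_span_singleton] at hp
        obtain ⟨q, rfl⟩ := hp
        rw [map_mul, map_mul, MvPowerSeries.constantCoeff_X, zero_mul, zero_mul]
      refine ne_top_of_le_ne_top (RingHom.ker_ne_top (Ideal.Quotient.lift J MvPowerSeries.constantCoeff h1)) ?_
      rw [Ideal.span_le]
      rintro _ (rfl | rfl) <;> exact MvPowerSeries.constantCoeff_X _
    exact hle ((Ideal.eq_top_iff_one _).2 h0)
  · obtain ⟨a, rfl⟩ := Ideal.Quotient.mk_surjective z
    obtain ⟨f, rfl⟩ := Ideal.Quotient.mk_surjective a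
    refine ⟨MvPowerSeries.constantCoeff f, ?_⟩
    have hm : f - MvPowerSeries.C (MvPowerSeries.constantCoeff f) ∈
        RingHom.ker (MvPowerSeries.constantCoeff : P →+* k) := by
      rw [RingHom.mem_ker, map_sub, MvPowerSeries.constantCoeff_C, sub_self]
    rw [GrothLib.AdicFS.ker_constantCoeff, GrothLib.AdicFS.varsIdeal, MvPolynomial.idealOfVars,
      Ideal.map_span] at hm
    have hm' := Ideal.mem_map_of_mem (Ideal.Quotient.mk J) hm
    rw [Ideal.map_span] at hm'
    have hle : Ideal.span ((Ideal.Quotient.mk J) '' ((algebraMap (MvPolynomial (Fin 2) k) P) ''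
        Set.range MvPolynomial.X)) ≤ Ideal.span {x, y} := by
      rw [Ideal.span_le]
      rintro _ ⟨_, ⟨_, ⟨i, rfl⟩, rfl⟩, rfl⟩
      rw [MvPowerSeries.algebraMap_apply', Algebra.algebraMap_self, MvPowerSeries.map_id, RingHom.id_apply,
        MvPolynomial.coe_X]
      fin_cases i
      · exact Ideal.subset_span (Or.inl rfl)
      · exact Ideal.subset_span (Or.inr rfl)
    have h2 := hle hm'
    rw [map_sub, ← Ideal.Quotient.eq] at h2
    rw [h2, map_one, Algebra.smul_def, mul_one]
    rfl

end Groth.Agent.S13993
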