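import Groth.Statements.S13995
import Mathlib.RingTheory.Ideal.KrullsHeightTheorem
import Mathlib.RingTheory.Support
import Mathlib.RingTheory.LocalProperties.Reduced
import Mathlib.LinearAlgebra.FiniteDimensional.Lemmas
import Mathlib.RingTheory.Ideal.AssociatedPrime.Finiteness

set_option autoImplicit false
universe u
open CAlg

namespace Groth.Agent.S13995

/-- Let R be a reduced Noetherian ring, M a finitely generated R-module all of whose associated primes
are minimal primes of R and whose localization at each minimal prime p is one-dimensional over the
field R_p, and let g : M → Q be a surjection onto a finitely generated R-module Q all of whose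
associated primes are minimal primes of R. Then the kernel of g is the intersection, over the
minimal primes p of R lying in the support of Q, of the kernels of the localization maps M → M_p.
(The published statement is for a torsion-free coherent sheaf F of uniform rank one on a reduced
connected projective curve over a characteristic-zero algebraically closed field: its non-zero
torsion-free quotients are exactly the maximal torsion-free quotients F_D of the restrictions of F
to subcurves D; this row is the corresponding statement for modules over a reduced Noetherian ring,
a subcurve being a set of minimal primes, and identifies each torsion-free quotient with F_D for D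
the set of generic points of its support.) -/
theorem result (R : Type u) [CommRing R] [IsNoetherianRing R] [IsReduced R] (M : Type u) [AddCommGroup M] [Module R M] [Module.Finite R M] (hM : associatedPrimes R M ⊆ minimalPrimes R) (hrk : ∀ p : PrimeSpectrum R, p.asIdeal ∈ minimalPrimes R → Module.finrank (Localization.AtPrime p.asIdeal) (LocalizedModule p.asIdeal.primeCompl M) = 1) (Q : Type u) [AddCommGroup Q] [Module R Q] [Module.Finite R Q] (hQ : associatedPrimes R Q ⊆ minimalPrimes R) (g : M →ₗ[R] Q) (hg : Function.Surjective g) : LinearMap.ker g = ⨅ p ∈ {p : PrimeSpectrum R | p.asIdeal ∈ minimalPrimes R ∧ p ∈ Module.support R Q}, LinearMap.ker (LocalizedModule.mkLinearMap p.asIdeal.primeCompl M) := by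
    ext x
    simp only [Submodule.mem_iInf, LinearMap.mem_ker]
    constructor
    · rintro hx p ⟨hmin, hsupp⟩
      let P := p.asIdeal
      have : Nontrivial (LocalizedModule P.primeCompl Q) := hsupp
      have hfield : IsField (Localization.AtPrime P) := by
        have : Ring.KrullDimLE 0 (Localization.AtPrime P) := by
          rw [Ring.krullDimLE_iff, IsLocalization.AtPrime.ringKrullDim_eq_height P,
            Ideal.height_eq_zero_iff.2 hmin]
          simp
        exact Ring.KrullDimLE.isField_of_isReduced
      let _ : Field (Localization.AtPrime P) := hfield.toField
      let gp : LocalizedModule P.primeCompl M →ₗ[Localization.AtPrime P] LocalizedModule P.primeCompl Q :=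
        LocalizedModule.map P.primeCompl g
      have hgs : Function.Surjective gp := LocalizedModule.map_surjective _ g hg
      have hinj : Function.Injective gp := by
        rw [← LinearMap.ker_eq_bot]
        by_contra hne
        have h1 := LinearMap.finrank_range_add_finrank_ker gp
        have h2 : Module.finrank (Localization.AtPrime P) (LocalizedModule P.primeCompl M) = 1 := hrk p hmin
        rw [LinearMap.range_eq_top.2 hgs, finrank_top, h2] at h1
        have h3 : 0 < Module.finrank (Localization.AtPrime P) (LocalizedModule P.primeCompl Q) :=
          Module.finrank_pos
        have h4 : 0 < Module.finrank (Localization.AtPrime P) (LinearMap.ker gp) :=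
          Nat.pos_of_ne_zero fun h0 => hne (Submodule.finrank_eq_zero.1 h0)
        omega
      apply hinj
      rw [map_zero, LocalizedModule.mkLinearMap_apply]
      show LocalizedModule.map P.primeCompl g (LocalizedModule.mk x 1) = 0
      rw [LocalizedModule.map_mk, hx, LocalizedModule.zero_mk]
    · intro h
      by_contra hne
      obtain ⟨P, hP, hle⟩ := exists_le_isAssociatedPrime_of_isNoetherianRing R (g x) hne
      have hass : P ∈ associatedPrimes R Q := hP
      have hmin : P ∈ minimalPrimes R := hQ hass
      let p : PrimeSpectrum R := ⟨P, hP.isPrime⟩
      have : p.asIdeal.IsPrime := p.isPrime
      have hsupp : p ∈ Module.support R Q := Module.mem_support_iff_exists_annihilator.2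
        ⟨g x, fun r hr => hle (by simpa [Submodule.mem_colon_singleton, Submodule.mem_annihilator_span_singleton] using hr)⟩
      have h0 := h p ⟨hmin, hsupp⟩
      obtain ⟨c, hc⟩ := (IsLocalizedModule.eq_zero_iff p.asIdeal.primeCompl (LocalizedModule.mkLinearMap p.asIdeal.primeCompl M)).1 h0
      refine c.2 (hle ?_)
      rw [Submodule.mem_colon_singleton, Submodule.mem_bot, ← map_smul, ← Submonoid.smul_def, hc, map_zero]

end Groth.Agent.S13995
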