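import Groth.Statements.S13996
import Mathlib.RingTheory.Regular.IsSMulRegular
import Mathlib.RingTheory.Ideal.AssociatedPrime.Finiteness
import Mathlib.RingTheory.Ideal.Height
import Mathlib.RingTheory.Nilpotent.Lemmas
-- import your own Groth.Agent.* helpers here

set_option autoImplicit false
universe u
open CAlg

namespace Groth.Agent.S13996

/-- Let R be a reduced Noetherian local ring of Krull dimension one with maximal ideal m, and M a
non-zero finitely generated R-module. Then M is torsion-free in the sense that no element of m which
is a non-zero-divisor on R is a zero-divisor on M, if and only if M has depth one, i.e. some element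
of m is a non-zero-divisor on M. (The published statement is for a non-zero coherent sheaf F on a
connected reduced projective curve over a characteristic-zero algebraically closed field and asserts
the equivalence of: F torsion-free in the above sense at every closed point; F pure of dimension
one; depth of F_p equal to one at every closed point p. This row is the equivalence of the first and
third conditions at a single closed point p with F_p ≠ 0; at points outside the support the third
condition as published cannot hold, so the row assumes the stalk non-zero.) -/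
theorem result (R : Type u) [CommRing R] [IsLocalRing R] [IsNoetherianRing R] [IsReduced R] (hdim : ringKrullDim R = 1) (M : Type u) [AddCommGroup M] [Module R M] [Module.Finite R M] [Nontrivial M] : (∀ r : R, r ∈ IsLocalRing.maximalIdeal R → IsSMulRegular R r → IsSMulRegular M r) ↔ (∃ x : R, x ∈ IsLocalRing.maximalIdeal R ∧ IsSMulRegular M x) := by
  haveI hT := associatedPrimes.finite R M
  constructor
  · intro h
    have hfin : (minimalPrimes R).Finite := minimalPrimes.finite_of_isNoetherianRing R
    have hns : ¬ (IsLocalRing.maximalIdeal R : Set R) ⊆ ⋃ P ∈ minimalPrimes R, (P : Set R) := by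
      intro hsub
      obtain ⟨P, hP, hle⟩ := ((IsLocalRing.maximalIdeal R).subset_union_prime_finite hfin (f := id) 0 0
        fun _ hP _ _ => hP.1.1).1 hsub
      haveI := hP.1.1
      have h1 : (IsLocalRing.maximalIdeal R).height ≤ 0 :=
        (Ideal.height_mono (J := P) hle).trans_eq (Ideal.height_eq_zero_iff.mpr hP)
      have h2 := IsLocalRing.maximalIdeal_height_eq_ringKrullDim (R := R)
      rw [hdim, nonpos_iff_eq_zero.mp h1] at h2
      exact absurd h2 (by decide)
    obtain ⟨r, hr, hr'⟩ := Set.not_subset.mp hns
    have hreg : IsSMulRegular R r := by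
      refine (isSMulRegular_iff_right_eq_zero_of_smul).mpr fun a ha => ?_
      have : a ∈ nilradical R := by
        rw [nilradical_eq_sInf, Ideal.mem_sInf]
        intro P hP
        haveI : P.IsPrime := hP
        obtain ⟨Q, hQ, hQP⟩ := Ideal.exists_minimalPrimes_le (I := (⊥ : Ideal R)) (J := P) bot_le
        refine hQP ((hQ.1.1.mem_or_mem (show r * a ∈ Q from by rw [show r * a = r • a from rfl, ha]; exact Q.zero_mem)).resolve_left
          fun h => hr' (Set.mem_biUnion hQ h))
      rwa [nilradical_eq_zero, Ideal.zero_eq_bot, Submodule.mem_bot] at this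
    exact ⟨r, hr, h r hr hreg⟩
  · rintro ⟨x, hxm, hx⟩ r hr hreg
    by_contra hcon
    have hmem : r ∈ ⋃ P ∈ associatedPrimes R M, (P : Set R) := by
      rw [biUnion_associatedPrimes_eq_compl_regular]; exact hcon
    obtain ⟨P, hP, hrP⟩ := Set.mem_iUnion₂.mp hmem
    haveI := hP.isPrime
    have hPm : P ≠ IsLocalRing.maximalIdeal R := by
      rintro rfl
      have : x ∈ ⋃ P ∈ associatedPrimes R M, (P : Set R) := Set.mem_biUnion hP hxm
      rw [biUnion_associatedPrimes_eq_compl_regular] at this
      exact this hx
    haveI hm : (IsLocalRing.maximalIdeal R).IsPrime := inferInstance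
    have h2 := IsLocalRing.maximalIdeal_height_eq_ringKrullDim (R := R)
    rw [hdim] at h2
    have h2' : (IsLocalRing.maximalIdeal R).height ≤ ((1 : ℕ) : ℕ∞) := by
      refine le_of_eq ?_
      exact_mod_cast h2
    have h1 : P.height < ((1 : ℕ) : ℕ∞) := Ideal.height_le_iff.mp h2' P hP.isPrime
      (lt_of_le_of_ne (IsLocalRing.le_maximalIdeal hP.isPrime.ne_top) hPm)
    have hPmin : P ∈ minimalPrimes R := Ideal.height_eq_zero_iff.mp (ENat.lt_one_iff_eq_zero.mp (by exact_mod_cast h1))
    obtain ⟨a, ha, hra⟩ : ∃ a, a ∈ nonZeroDivisors R ∧ a = r := ⟨r, by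
      refine mem_nonZeroDivisors_iff.mpr ⟨fun y hy => ?_, fun y hy => ?_⟩
      · exact hreg.right_eq_zero_of_smul hy
      · exact hreg.right_eq_zero_of_smul (show r • y = 0 by rw [smul_eq_mul, mul_comm, hy]), rfl⟩
    exact Set.disjoint_left.mp (Ideal.disjoint_nonZeroDivisors_of_mem_minimalPrimes hPmin) hrP (hra ▸ ha)

end Groth.Agent.S13996
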