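import Groth.Statements.S14000
import Groth.Agent.Lib.KProj.Equiv
import Groth.Agent.Lib.DCxRing.FaithfullyFlat
import Groth.Agent.Lib.KProj.FinProj
import Groth.Agent.Lib.DCxRing.LBase
import Mathlib.RingTheory.Spectrum.Prime.FreeLocus

set_option autoImplicit false
universe u
open Perf

namespace Groth.Agent.S14000

open CategoryTheory CategoryTheory.Limits in
/-- Let A be a commutative ring and P a strictly perfect complex over A, that is a cochain complex of
finitely generated projective A-modules which is zero outside a finite set s of degrees. Suppose the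
cohomological support of P has positive codimension: for every minimal prime q of A and every degree
i the localization at q of the cohomology module H^i(P) is zero. Then the Euler characteristic of P
vanishes identically: at every prime of A the alternating sum over i ∈ s of the ranks of the P^i is
zero. -/
theorem result {A : Type u} [CommRing A]
    (P : CochainComplex (ModuleCat.{u} A) ℤ) (s : Finset ℤ)
    (hP : ∀ i : ℤ, Module.Finite A (P.X i) ∧ Module.Projective A (P.X i))
    (hs : ∀ i : ℤ, i ∉ s → IsZero (P.X i))
    (hsupp : ∀ q : PrimeSpectrum A, q.asIdeal ∈ minimalPrimes A →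
      ∀ i : ℤ, Subsingleton (LocalizedModule q.asIdeal.primeCompl (P.homology i))) :
    ∀ x : PrimeSpectrum A,
      (s.sum fun i => ((i.negOnePow : ℤˣ) : ℤ) * (Module.rankAtStalk (R := A) (P.X i) x : ℤ)) = 0 := by
  intro x
  obtain ⟨q, hq, hqx⟩ := Ideal.exists_minimalPrimes_le (I := (⊥ : Ideal A)) (J := x.asIdeal) bot_le
  have := hq.1.1
  let y : PrimeSpectrum A := ⟨q, hq.1.1⟩
  have hy : y.asIdeal ∈ minimalPrimes A := hq
  have hsp : y ⤳ x := (PrimeSpectrum.le_iff_specializes y x).1 hqx
  have hr : ∀ i, Module.rankAtStalk (R := A) (P.X i) x = Module.rankAtStalk (R := A) (P.X i) y := fun i => by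
    have := (hP i).1
    have := (hP i).2
    have := Module.finitePresentation_of_projective A (P.X i)
    have hl := Module.isLocallyConstant_rankAtStalk (R := A) (M := P.X i)
    exact (hsp.mem_open (hl.isOpen_fiber (Module.rankAtStalk (R := A) (P.X i) x)) rfl).symm
  simp only [hr]
  let B := Localization.AtPrime q
  let ψ := algebraMap A B
  let PB : CategoryTheory.ObjectProperty (ModuleCat.{u} B) := fun M => Module.Finite B M ∧ Module.Projective B M
  have hres : GrothLib.KProj.Resolving PB := GrothLib.KProj.resolving_finProj B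
  let L : CochainComplex (ModuleCat.{u} B) ℤ := (GrothLib.DR.bc ψ).obj P
  have hv : ∀ i, i ∉ s → IsZero (L.X i) := fun i hi =>
    (ModuleCat.extendScalars.{u, u, u} ψ).map_isZero (hs i hi)
  have hfp : ∀ i, PB (L.X i) := fun i => GrothLib.DR.termwiseFiniteProjective_bc ψ hP i
  have hB : GrothLib.KProj.Bdd PB L := by
    obtain ⟨a, ha⟩ := s.bddBelow
    obtain ⟨b, hb⟩ := s.bddAbove
    refine ⟨⟨a, b, fun i hi => hv i fun his => ?_⟩, hfp⟩
    have := ha his
    have := hb his
    omega
  have hac : L.Acyclic := fun i => by
    haveI := GrothLib.DR.preservesFiniteLimits_extendScalars ψ (GrothLib.DR.flat_algebraMap (A := A) (B := B))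
    haveI : PreservesFiniteColimits (ModuleCat.extendScalars.{u, u, u} ψ) :=
      PreservesColimitsOfSize.preservesFiniteColimits.{0, 0} _
    rw [HomologicalComplex.exactAt_iff_isZero_homology]
    refine IsZero.of_iso ?_ ((P.sc i).mapHomologyIso (ModuleCat.extendScalars.{u, u, u} ψ))
    refine @ModuleCat.isZero_of_subsingleton _ _ _ ?_
    have := hsupp y hy i
    have : Subsingleton (TensorProduct A B (P.sc i).homology) :=
      (LocalizedModule.equivTensorProduct y.asIdeal.primeCompl (P.homology i)).symm.toEquiv.subsingleton
    exact (GrothLib.KProj.nonempty_extendScalars_equiv (P.sc i).homology).some.toEquiv.subsingleton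
  obtain ⟨r, hr'⟩ := GrothLib.KProj.exists_rankHom (B := B)
  have h0 := congrArg r (GrothLib.KProj.chi_acyclic hres hB hac)
  rw [GrothLib.KProj.chi, finsum_eq_sum_of_support_subset (s := s) _ (fun i hi => by
    by_contra hc
    exact hi ((congrArg _ (GrothLib.K0Sub.clSub_isZero (hv i hc))).trans (smul_zero _))), map_sum, map_zero] at h0
  rw [← h0]
  refine Finset.sum_congr rfl fun i _ => ?_
  rw [map_zsmul, smul_eq_mul, hr' _ (hfp i), Module.rankAtStalk_eq_finrank_tensorProduct]
  exact congrArg (fun n : ℕ => ((i.negOnePow : ℤˣ) : ℤ) * (n : ℤ))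
    (GrothLib.KProj.nonempty_extendScalars_equiv (B := B) (P.X i)).some.finrank_eq.symm

end Groth.Agent.S14000
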