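import Groth.Statements.S14001
import Groth.Agent.Lib.KDer.Heart
import Groth.Agent.Lib.KoszulFwd
import Groth.Agent.Lib.OX.KoszulOrth
import Groth.Agent.Lib.DCxRing.Regular
import Groth.Agent.Lib.DerCat.HomologyDevissage
import Mathlib.RingTheory.Ideal.AssociatedPrime.Finiteness
import Mathlib.RingTheory.Support

set_option autoImplicit false
universe u
open CategoryTheory
attribute [local instance] HasDerivedCategory.standard
open KZero

namespace Groth.Agent.S14001

/-- Let R be a Noetherian local ring whose maximal ideal is generated by an R-regular sequence f_1, …,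
f_n. Let K_0 be the Grothendieck group of the full triangulated subcategory of D(R) consisting of
the perfect complexes all of whose cohomology modules are supported at the closed point (the perfect
complexes acyclic off the closed point): the free abelian group on these objects modulo the
relations of distinguished triangles with all three vertices in the subcategory. Then K_0 is
generated by the class of the Koszul complex of f_1, …, f_n. -/
theorem result (R : Type u) [CommRing R]
    [IsNoetherianRing R] [IsLocalRing R] (fs : List R) (hreg : RingTheory.Sequence.IsRegular R fs)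
    (hgen : Ideal.ofList fs = IsLocalRing.maximalIdeal R) :
    AddSubgroup.closure
        {KZero.clTr (fun K : Dual.D R => DRing.IsPerfect R K ∧
            ∀ i : ℤ, Module.support R (Dual.HD R K i) ⊆ {IsLocalRing.closedPoint R})
          (DRing.toD (Koszul.koszul R fs))} = ⊤ := by
  let m : PrimeSpectrum R := IsLocalRing.closedPoint R
  let P : ObjectProperty (ModuleCat.{u} R) := fun M => Module.Finite R M ∧ Module.support R M ⊆ {m}
  let Q : ObjectProperty (Dual.D R) := fun K => DRing.IsPerfect R K ∧
    ∀ i : ℤ, Module.support R (Dual.HD R K i) ⊆ {IsLocalRing.closedPoint R}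
  have hzP : ∀ Z : ModuleCat.{u} R, CategoryTheory.Limits.IsZero Z → P Z := fun Z hZ => by
    have := ModuleCat.subsingleton_of_isZero hZ
    exact ⟨inferInstance, by simp [Module.support_eq_empty]⟩
  have hi : P.IsClosedUnderIsomorphisms := ⟨fun e h => ⟨have := h.1; Module.Finite.equiv e.toLinearEquiv,
    e.toLinearEquiv.support_eq.symm.le.trans h.2⟩⟩
  have hz : P.ContainsZero := ⟨⟨_, CategoryTheory.Limits.isZero_zero _, hzP _ (CategoryTheory.Limits.isZero_zero _)⟩⟩
  have hk : P.IsClosedUnderKernels := ⟨fun M hM => by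
    obtain ⟨f, k, hk, hf⟩ := hM
    refine P.prop_of_iso ((CategoryTheory.Limits.kernelIsKernel f).conePointUniqueUpToIso hk) ?_
    have := hf.1.1
    have hinj := (ModuleCat.mono_iff_injective (CategoryTheory.Limits.kernel.ι f)).1 inferInstance
    exact ⟨Module.Finite.of_injective _ hinj, (Module.support_subset_of_injective _ hinj).trans hf.1.2⟩⟩
  -- the residue field is the Koszul complex
  let k₀ : ModuleCat.{u} R := ModuleCat.of R (R ⧸ Ideal.ofList fs)
  obtain ⟨eK⟩ : Nonempty (DRing.toD (Koszul.koszul R fs) ≅ (DerivedCategory.singleFunctor (ModuleCat.{u} R) 0).obj k₀) := by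
    have hreg' := GrothLib.KoszulFwd.isKoszulRegularSeq_of_isWeaklyRegular fs hreg.toIsWeaklyRegular
    have hH : ∀ i : ℤ, i ≠ 0 → CategoryTheory.Limits.IsZero ((DerivedCategory.homologyFunctor (ModuleCat.{u} R) i).obj
        (DRing.toD (Koszul.koszul R fs))) := fun i h => (hreg' i h).of_iso (GrothLib.DR.homologyIso _ i)
    haveI : (DRing.toD (Koszul.koszul R fs)).IsGE 0 := (DerivedCategory.isGE_iff _ 0).2 fun i hi => hH i (by omega)
    haveI : (DRing.toD (Koszul.koszul R fs)).IsLE 0 := (DerivedCategory.isLE_iff _ 0).2 fun i hi => hH i (by omega)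
    obtain ⟨e⟩ := GrothLib.DerTrunc.nonempty_iso_single (DRing.toD (Koszul.koszul R fs)) 0
    obtain ⟨e₀⟩ := GrothLib.KoszulFwd.nonempty_homology_zero_iso (LinearMap.id : Module.Dual R R) fs
    have hl : fs.map (LinearMap.id : Module.Dual R R) = fs := by simp
    rw [show GrothLib.KoszulColon.kc (LinearMap.id : Module.Dual R R) fs = Koszul.koszul R fs from congrArg _ hl, hl] at e₀
    exact ⟨e ≪≫ (DerivedCategory.singleFunctor (ModuleCat.{u} R) 0).mapIso
      (GrothLib.DR.homologyIso _ 0 ≪≫ e₀)⟩
  have hk₀ : DRing.IsPerfect R ((DerivedCategory.singleFunctor (ModuleCat.{u} R) 0).obj k₀) :=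
    GrothLib.DR.isPerfect_of_iso eK (GrothLib.DR.isPerfect_koszul fs)
  have hPk₀ : P k₀ := ⟨inferInstanceAs (Module.Finite R (R ⧸ Ideal.ofList fs)), by
    show Module.support R (R ⧸ Ideal.ofList fs) ⊆ {m}
    rw [Module.support_eq_zeroLocus, Ideal.annihilator_quotient, hgen]
    intro p hp
    exact PrimeSpectrum.ext (IsLocalRing.eq_maximalIdeal ((IsLocalRing.maximalIdeal.isMaximal R).eq_of_le p.isPrime.ne_top hp ▸
      IsLocalRing.maximalIdeal.isMaximal R))⟩
  -- modules of finite length
  have key : ∀ (M : Type u) [AddCommGroup M] [Module R M] [Module.Finite R M], Module.support R M ⊆ {m} →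
      DRing.IsPerfect R ((DerivedCategory.singleFunctor (ModuleCat.{u} R) 0).obj (ModuleCat.of R M)) ∧
        KZero.clSub P (ModuleCat.of R M) ∈ AddSubgroup.closure {KZero.clSub P k₀} := by
    intro M _ _ _
    refine IsNoetherianRing.induction_on_isQuotientEquivQuotientPrime R
      (motive := fun N _ _ _ => Module.support R N ⊆ {m} →
        DRing.IsPerfect R ((DerivedCategory.singleFunctor (ModuleCat.{u} R) 0).obj (ModuleCat.of R N)) ∧
          KZero.clSub P (ModuleCat.of R N) ∈ AddSubgroup.closure {KZero.clSub P k₀}) ‹_› ?_ ?_ ?_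
    · intro N _ _ _ _ _
      have hN : CategoryTheory.Limits.IsZero (ModuleCat.of R N) := ModuleCat.isZero_of_subsingleton _
      exact ⟨GrothLib.DR.isPerfect_of_isZero (Functor.map_isZero _ hN),
        (GrothLib.K0Sub.clSub_isZero (P := P) hN).symm ▸ zero_mem _⟩
    · intro N _ _ _ p e hs
      have hp : p.asIdeal = Ideal.ofList fs := by
        have h1 : p ∈ Module.support R (R ⧸ p.asIdeal) := by
          rw [Module.support_eq_zeroLocus, Ideal.annihilator_quotient]
          exact fun x hx => hx
        have h2 : p = m := hs (e.support_eq.symm ▸ h1)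
        rw [h2, hgen]; rfl
      let e' : ModuleCat.of R N ≅ k₀ := (e.trans (Submodule.quotEquivOfEq _ _ hp)).toModuleIso
      refine ⟨GrothLib.DR.isPerfect_of_iso ((DerivedCategory.singleFunctor _ 0).mapIso e').symm hk₀, ?_⟩
      rw [GrothLib.KDer.clSub_congr e']
      exact AddSubgroup.subset_closure rfl
    · intro N₁ _ _ _ N₂ _ _ _ N₃ _ _ _ f g hf hg hfg h₁ h₃ hs
      have s₁ := (Module.support_subset_of_injective f hf).trans hs
      have s₃ := (Module.support_subset_of_surjective g hg).trans hs
      let T := ShortComplex.mk (ModuleCat.ofHom f) (ModuleCat.ofHom g) (ModuleCat.hom_ext hfg.linearMap_comp_eq_zero)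
      have hT : T.ShortExact :=
        { exact := (ShortComplex.ShortExact.moduleCat_exact_iff_function_exact T).2 hfg
          mono_f := (ModuleCat.mono_iff_injective _).2 hf
          epi_g := (ModuleCat.epi_iff_surjective _).2 hg }
      refine ⟨(GrothLib.DR.isPerfect_triangle _ hT.singleTriangle_distinguished).2.1 (h₁ s₁).1 (h₃ s₃).1, ?_⟩
      rw [GrothLib.K0Sub.clSub_add (P := P) hT ⟨inferInstanceAs (Module.Finite R N₁), s₁⟩
        ⟨inferInstanceAs (Module.Finite R N₂), hs⟩ ⟨inferInstanceAs (Module.Finite R N₃), s₃⟩]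
      exact add_mem (h₁ s₁).2 (h₃ s₃).2
  have hQ : ∀ K, Q K ↔ (∀ i, P ((DerivedCategory.homologyFunctor (ModuleCat.{u} R) i).obj K)) ∧
      ∃ a b : ℤ, K.IsGE a ∧ K.IsLE b := by
    refine fun K => ⟨fun h => ⟨fun i => ⟨GrothLib.DR.finite_homology_of_isPerfect h.1 i, h.2 i⟩, ?_⟩, fun h => ⟨?_, fun i => (h.1 i).2⟩⟩
    · obtain ⟨E, a, b, hv, -, ⟨α⟩⟩ := h.1
      have hH : ∀ i : ℤ, i < a ∨ b < i → CategoryTheory.Limits.IsZero
          ((DerivedCategory.homologyFunctor (ModuleCat.{u} R) i).obj K) := fun i hi =>
        CategoryTheory.Limits.IsZero.of_iso (ShortComplex.isZero_homology_of_isZero_X₂ _ (hv i hi))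
          ((DerivedCategory.homologyFunctor _ i).mapIso α.symm ≪≫ GrothLib.DR.homologyIso E i)
      exact ⟨a, b, (DerivedCategory.isGE_iff _ a).2 fun i hi => hH i (Or.inl hi),
        (DerivedCategory.isLE_iff _ b).2 fun i hi => hH i (Or.inr hi)⟩
    · obtain ⟨hP, a, b, ha, hb⟩ := h
      exact GrothLib.DerTrunc.prop_of_homology_zero (DRing.IsPerfect R)
        (fun e h => GrothLib.DR.isPerfect_of_iso e h) (fun _ h => GrothLib.DR.isPerfect_of_isZero h)
        (fun _ n h => GrothLib.DR.isPerfect_shift h n) (fun T hT => (GrothLib.DR.isPerfect_triangle T hT).2.1)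
        (b + 1 - a).toNat K a ha (DerivedCategory.TStructure.t.isLE_of_le K b _ (by omega))
        fun i => have := (hP i).1; (key _ (hP i).2).1
  obtain ⟨φ, hφ⟩ := GrothLib.KDer.exists_equiv (P := P) Q hQ
  show AddSubgroup.closure {KZero.clTr Q (DRing.toD (Koszul.koszul R fs))} = ⊤
  have hQi : Q.IsClosedUnderIsomorphisms := ⟨fun e h => ⟨GrothLib.DR.isPerfect_of_iso e h.1, fun i =>
    ((DerivedCategory.homologyFunctor _ i).mapIso e).toLinearEquiv.support_eq.symm.le.trans (h.2 i)⟩⟩
  have hQ0 : open scoped ZeroObject in Q (0 : Dual.D R) := ⟨GrothLib.DR.isPerfect_of_isZero (CategoryTheory.Limits.isZero_zero _), fun i =>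
    (hzP _ ((DerivedCategory.homologyFunctor _ i).map_isZero (CategoryTheory.Limits.isZero_zero _))).2⟩
  rw [GrothLib.KDer.clTr_iso hQ0 eK, ← hφ k₀ hPk₀, eq_top_iff]
  intro y _
  obtain ⟨x, rfl⟩ := φ.surjective y
  have hx : x ∈ AddSubgroup.closure {KZero.clSub P k₀} := by
    obtain ⟨x, rfl⟩ := QuotientAddGroup.mk_surjective x
    induction x using FreeAbelianGroup.induction_on with
    | zero => exact zero_mem _
    | of M => exact have := M.2.1; GrothLib.K0Sub.clSub_eq_mk M.2 ▸ (key M.1 M.2.2).2
    | neg x h => exact neg_mem (h (by trivial))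
    | add x y hx hy => exact add_mem (hx (by trivial)) (hy (by trivial))
  have := AddSubgroup.mem_map_of_mem φ.toAddMonoidHom hx
  rwa [AddMonoidHom.map_closure, Set.image_singleton] at this

end Groth.Agent.S14001
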