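import Groth.Statements.S14003
import Groth.Agent.Lib.QCoh.Devissage
import Groth.Agent.Lib.QCoh.SupportExact
import Groth.Agent.Lib.K0Sub.Basic
import Groth.Agent.Lib.OX.CohClass
import Mathlib.RingTheory.Length
import Mathlib.RingTheory.SimpleModule.Basic

set_option autoImplicit false
universe u
open CategoryTheory AlgebraicGeometry
open KZero

namespace Groth.Agent.S14003

/-- Let X be a Noetherian scheme and Y' a closed subset; write K_0 for the Grothendieck group of the
abelian category of coherent O_X-modules with support in Y' (free abelian group on its objects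
modulo the relations of short exact sequences). Let (F_a) be a family of such modules such that for
every irreducible closed subset Z ⊆ Y' with generic point ζ there is an index a with the support of
F_a contained in Z and the stalk of F_a at ζ of length one over the local ring (a one-dimensional
vector space over the residue field). Then the classes of the F_a generate K_0. (The published
statement omits the condition that the support of F_a lie in Z; without it the claim fails already
for the spectrum of a product of two fields, where the modules k_1 ⊕ k_2 ⊕ k_2 and k_1 ⊕ k_1 ⊕ k_2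
have one-dimensional stalks at the two points but their classes generate a subgroup of index 3 in
K_0 = ℤ².) -/
theorem result (X : Scheme.{u}) [IsNoetherian X]
    (Y' : Set X) (hY' : IsClosed Y') {ι : Type u} (F : ι → X.Modules)
    (hF : ∀ a : ι, Coh.IsCoh (F a) ∧ CohB1.support (F a) ⊆ Y')
    (hgen : ∀ (Z : Set X), IsClosed Z → IsIrreducible Z → Z ⊆ Y' → ∀ y : X, closure ({y} : Set X) = Z →
      ∃ a : ι, CohB1.support (F a) ⊆ Z ∧ Module.length (X.presheaf.stalk y) ((F a).presheaf.stalk y) = 1) :
    AddSubgroup.closure (Set.range fun a : ι =>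
        KZero.clSub (fun G : X.Modules => Coh.IsCoh G ∧ CohB1.support G ⊆ Y') (F a)) = ⊤ := by
  set P : ObjectProperty X.Modules := fun G : X.Modules => Coh.IsCoh G ∧ CohB1.support G ⊆ Y' with hPdef
  set H := AddSubgroup.closure (Set.range fun a : ι => KZero.clSub P (F a))
  let R : X.Modules → Prop := fun M => Coh.IsCoh M ∧ CohB1.support M ⊆ Y' ∧ KZero.clSub P M ∈ H
  have iso : ∀ M N : X.Modules, Nonempty (M ≅ N) → R M → R N := fun M N ⟨e⟩ ⟨hc, hs, hH⟩ => by
    have hc' : Coh.IsCoh N := GrothLib.QCoh.isCoh_of_iso e hc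
    have hs' : CohB1.support N ⊆ Y' := (GrothLib.QCoh.support_eq_of_iso e).symm.le.trans hs
    refine ⟨hc', hs', ?_⟩
    have h := GrothLib.K0Sub.clSub_add (P := P) (GrothLib.K0Sub.shortExact_kernel e.hom)
      ⟨GrothLib.QCoh.isCoh_kernel _ hc hc', (GrothLib.QCoh.support_subset_of_mono (CategoryTheory.Limits.kernel.ι e.hom)).trans hs⟩ ⟨hc, hs⟩ ⟨hc', hs'⟩
    change KZero.clSub P M = _ + KZero.clSub P N at h
    rw [GrothLib.K0Sub.clSub_isZero (CategoryTheory.Limits.isZero_kernel_of_mono e.hom), zero_add] at h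
    rwa [← h]
  have zero : ∀ M : X.Modules, CategoryTheory.Limits.IsZero M → R M := fun M hM =>
    ⟨GrothLib.OX.isCoh_of_isZero hM,
      fun x hx => (hx (ModuleCat.subsingleton_of_isZero ((GrothLib.OX.stalk x).map_isZero hM))).elim,
      (GrothLib.K0Sub.clSub_isZero (P := P) hM).symm ▸ zero_mem H⟩
  have key : ∀ M, Coh.IsCoh M → CohB1.support M ⊆ Y' → R M := by
    refine GrothLib.QCoh.devissage R iso zero (fun S hS c₁ c₂ c₃ => ?_) Y' fun Z i _ _ hi => ?_
    · have := hS.mono_f
      have := hS.epi_g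
      refine ⟨fun h₁ h₂ => ?_, fun h₁ h₃ => ?_, fun h₂ h₃ => ?_⟩
      · have hs := (GrothLib.QCoh.support_subset_of_epi S.g).trans h₂.2.1
        refine ⟨c₃, hs, ?_⟩
        have h := GrothLib.K0Sub.clSub_add (P := P) hS ⟨c₁, h₁.2.1⟩ ⟨c₂, h₂.2.1⟩ ⟨c₃, hs⟩
        rw [eq_sub_of_add_eq' h.symm]
        exact sub_mem h₂.2.2 h₁.2.2
      · have hs := (GrothLib.QCoh.support_subset_union hS).trans (Set.union_subset h₁.2.1 h₃.2.1)
        refine ⟨c₂, hs, ?_⟩
        rw [GrothLib.K0Sub.clSub_add (P := P) hS ⟨c₁, h₁.2.1⟩ ⟨c₂, hs⟩ ⟨c₃, h₃.2.1⟩]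
        exact add_mem h₁.2.2 h₃.2.2
      · have hs := (GrothLib.QCoh.support_subset_of_mono S.f).trans h₂.2.1
        refine ⟨c₁, hs, ?_⟩
        have h := GrothLib.K0Sub.clSub_add (P := P) hS ⟨c₁, hs⟩ ⟨c₂, h₂.2.1⟩ ⟨c₃, h₃.2.1⟩
        rw [eq_sub_of_add_eq h.symm]
        exact sub_mem h₂.2.2 h₃.2.2
    · have hy : closure ({i (genericPoint Z)} : Set X) = Set.range i := GrothLib.QCoh.closure_singleton_eq_range i
      obtain ⟨a, ha, hlen⟩ := hgen (Set.range i) i.isClosedEmbedding.isClosed_range
        (hy ▸ isIrreducible_singleton.closure) hi _ hy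
      obtain ⟨I, hI, ⟨e⟩⟩ := isSimpleModule_iff_quot_maximal.1 (Module.length_eq_one_iff.1 hlen)
      refine ⟨F a, (hF a).1, ha, ⟨e.trans (Submodule.quotEquivOfEq _ _ (IsLocalRing.eq_maximalIdeal hI))⟩,
        (hF a).1, (hF a).2, AddSubgroup.subset_closure ⟨a, rfl⟩⟩
  refine eq_top_iff.2 fun x _ => ?_
  obtain ⟨x, rfl⟩ := QuotientAddGroup.mk_surjective x
  induction x using FreeAbelianGroup.induction_on with
  | zero => exact zero_mem _
  | of M => exact GrothLib.K0Sub.clSub_eq_mk M.2 ▸ (key M.1 M.2.1 M.2.2).2.2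
  | neg x h => exact neg_mem (h trivial)
  | add x y hx hy => exact add_mem (hx trivial) (hy trivial)

end Groth.Agent.S14003
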