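import Groth.Statements.S14004
import Groth.Agent.Lib.FSchSys.Levels
import Mathlib.AlgebraicGeometry.Morphisms.SmoothFiber
-- import your own Groth.Agent.* helpers here

set_option autoImplicit false
universe u
open CategoryTheory AlgebraicGeometry
open FSch

namespace Groth.Agent.S14004

open CategoryTheory CategoryTheory.Limits AlgebraicGeometry

/-- Formal schemes are modelled as ℕ-indexed systems of thickenings. Let 𝔛 and 𝔜 be locally Noetherian
adic formal systems and f : 𝔛 ⟶ 𝔜 an adic morphism (every square X_n → X_{n+1}, Y_n → Y_{n+1}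
cartesian) all of whose levels f_n : X_n ⟶ Y_n are flat. Then f is smooth, in the sense that every
level f_n is smooth, if and only if the bottom level f_0 is smooth. -/
theorem result (𝔛 𝔜 : FSch.Sys.{u})
    (h𝔛 : 𝔛.IsLocNoethFormal) (h𝔜 : 𝔜.IsLocNoethFormal) (f : 𝔛 ⟶ 𝔜) (hf : FSch.IsAdicHom f)
    (hflat : ∀ n : ℕ, Flat ((f : FSch.Hom 𝔛 𝔜).app n)) :
    (∀ n : ℕ, AlgebraicGeometry.Smooth ((f : FSch.Hom 𝔛 𝔜).app n)) ↔
      AlgebraicGeometry.Smooth ((f : FSch.Hom 𝔛 𝔜).app 0) := by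
  refine ⟨fun h => h 0, fun h0 n => ?_⟩
  have hs := GrothLib.FSchSys.isPullback_toX f hf n
  have := GrothLib.FSchSys.isClosedImmersion_toX h𝔜.1 n
  have := GrothLib.FSchSys.surjective_toX h𝔜.1 n
  have := h𝔜.2.2 n
  have := hflat n
  have : LocallyOfFiniteType ((f : FSch.Hom 𝔛 𝔜).app n) :=
    GrothLib.FSchSys.locallyOfFiniteType_of_isPullback hs
      (GrothLib.FSchSys.exists_ker_toX_ideal_pow h𝔜.1 h𝔜.2.1 n)
  have : LocallyOfFinitePresentation ((f : FSch.Hom 𝔛 𝔜).app n) :=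
    LocallyOfFinitePresentation.iff_locallyOfFiniteType.mpr ‹_›
  refine Smooth.of_smooth_fiberToSpecResidueField _ fun y => ?_
  obtain ⟨y₀, rfl⟩ := (𝔜.toX n).surjective y
  have : IsIso ((𝔜.toX n).residueFieldMap y₀) := by
    rw [ConcreteCategory.isIso_iff_bijective]
    refine ⟨RingHom.injective ((𝔜.toX n).residueFieldMap y₀).hom, fun z => ?_⟩
    obtain ⟨w, rfl⟩ := (𝔜.X 0).residue_surjective y₀ z
    obtain ⟨v, rfl⟩ := (𝔜.toX n).stalkMap_surjective y₀ w
    exact ⟨(𝔜.X n).residue _ v, congr($(Scheme.residue_residueFieldMap (𝔜.toX n) y₀) v)⟩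
  let c := (𝔜.X n).fromSpecResidueField (𝔜.toX n y₀)
  let g := inv (Spec.map ((𝔜.toX n).residueFieldMap y₀)) ≫ (𝔜.X 0).fromSpecResidueField y₀
  have hc : g ≫ 𝔜.toX n = c := by
    simp only [g, c, Category.assoc, IsIso.inv_comp_eq]
    exact (Scheme.Hom.SpecMap_residueFieldMap_fromSpecResidueField _ _).symm
  have outer := IsPullback.of_hasPullback ((f : FSch.Hom 𝔛 𝔜).app n) c
  let l := hs.lift (pullback.fst ((f : FSch.Hom 𝔛 𝔜).app n) c)
    (pullback.snd _ _ ≫ g) (by rw [Category.assoc, hc]; exact pullback.condition)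
  have key : IsPullback l (pullback.snd ((f : FSch.Hom 𝔛 𝔜).app n) c)
      ((f : FSch.Hom 𝔛 𝔜).app 0) g := by
    refine IsPullback.of_right ?_ (hs.lift_snd _ _ _) hs
    rw [hs.lift_fst, hc]
    exact outer
  exact MorphismProperty.of_isPullback (P := @AlgebraicGeometry.Smooth) key h0

end Groth.Agent.S14004
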