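import Groth.Statements.S14005
import Mathlib.AlgebraicGeometry.Properties
import Mathlib.Topology.Sober
import Mathlib.Topology.NoetherianSpace
-- import your own Groth.Agent.* helpers here

set_option autoImplicit false
universe u
open CategoryTheory AlgebraicGeometry
open CohTop

namespace Groth.Agent.S14005

/-- Take a scheme X with a locally Noetherian underlying topological space, F a sheaf of abelian groups
on X, x a point of X and s an element of the stalk F_x. Then the following are equivalent: (i) s is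
the germ of a section t over some open neighbourhood U of x whose support in U is contained in the
closure of {x} (that is, s belongs to the subgroup Γ_x(F) of F_x); (ii) for every generization y ≠ x
of x the image of s under the cospecialisation map F_x → F_y is zero (that is, viewed as a global
section of the inverse image of F on Spec O_{X,x}, s is supported at the closed point). -/
theorem result {X : Scheme.{u}}
    (hX : ∀ x : X, ∃ U : X.Opens, x ∈ U ∧ TopologicalSpace.NoetherianSpace U)
    (F : TopCat.Sheaf AddCommGrpCat.{u} X.carrier) (x : X) (s : F.presheaf.stalk x) :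
    (∃ (U : X.Opens) (hx : x ∈ U) (t : F.presheaf.obj (Opposite.op U)),
        F.presheaf.germ U x hx t = s ∧
          ∀ (u : X) (hu : u ∈ U), F.presheaf.germ U u hu t ≠ 0 → u ∈ closure ({x} : Set X)) ↔
      ∀ (y : X) (h : y ⤳ x), y ≠ x → F.presheaf.stalkSpecializes h s = 0 := by
  classical
  constructor
  · rintro ⟨U, hx, t, rfl, hsupp⟩ y hy hne
    rw [TopCat.Presheaf.germ_stalkSpecializes_apply]
    by_contra h
    exact hne (hy.antisymm (specializes_iff_mem_closure.2 (hsupp y (hy.mem_open U.isOpen hx) h))).eq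
  · intro h
    obtain ⟨U₀, hx₀, hN⟩ := hX x
    obtain ⟨V, hxV, t₀, rfl⟩ := F.presheaf.exists_germ_eq s
    let U : X.Opens := U₀ ⊓ V
    have hxU : x ∈ U := ⟨hx₀, hxV⟩
    let t := F.presheaf.map (homOfLE (inf_le_right : U ≤ V)).op t₀
    have hgt : F.presheaf.germ U x hxU t = F.presheaf.germ V x hxV t₀ :=
      TopCat.Presheaf.germ_res_apply _ _ _ hxU t₀
    have : TopologicalSpace.NoetherianSpace U :=
      @Topology.IsInducing.noetherianSpace _ _ _ _ hN _
        (Topology.IsEmbedding.inclusion (inf_le_left : U ≤ U₀)).isInducing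
    let S : Set U := {u | F.presheaf.germ U u.1 u.2 t ≠ 0}
    have hS : IsClosed S := by
      refine isOpen_compl_iff.1 (isOpen_iff_forall_mem_open.2 fun u hu => ?_)
      have hu0 : F.presheaf.germ U u.1 u.2 t = F.presheaf.germ U u.1 u.2 0 := by
        rw [map_zero]; exact not_not.1 hu
      obtain ⟨W, hW, i, j, e⟩ := F.presheaf.germ_eq u.1 u.2 u.2 t 0 hu0
      refine ⟨Subtype.val ⁻¹' (W : Set X), fun z hz => not_not.2 ?_, W.isOpen.preimage continuous_subtype_val, hW⟩
      refine (TopCat.Presheaf.germ_res_apply F.presheaf i z.1 hz t).symm.trans ?_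
      rw [e, map_zero, map_zero]
    obtain ⟨C, hCfin, hCcl, hCirr, hSC⟩ :=
      TopologicalSpace.NoetherianSpace.exists_finite_set_isClosed_irreducible hS
    let bad : Set (Set U) := {c | c ∈ C ∧ (⟨x, hxU⟩ : U) ∉ c}
    have hbad : IsClosed (⋃₀ bad) := by
      rw [Set.sUnion_eq_biUnion]
      exact (hCfin.subset fun c hc => hc.1).isClosed_biUnion fun c hc => hCcl c hc.1
    let U' : X.Opens := ⟨Subtype.val '' (⋃₀ bad)ᶜ, U.isOpen.isOpenMap_subtype_val _ hbad.isOpen_compl⟩
    have hU' : U' ≤ U := fun z ⟨z', _, e⟩ => e ▸ z'.2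
    have hxU' : x ∈ U' := ⟨⟨x, hxU⟩, fun ⟨c, hc, hxc⟩ => hc.2 hxc, rfl⟩
    refine ⟨U', hxU', F.presheaf.map (homOfLE hU').op t,
      (TopCat.Presheaf.germ_res_apply _ _ _ hxU' t).trans hgt, fun u hu hne => ?_⟩
    obtain ⟨u', hu', rfl⟩ := hu
    have huS : u' ∈ S := fun h0 => hne ((TopCat.Presheaf.germ_res_apply _ _ _ _ t).trans h0)
    obtain ⟨c, hc, huc⟩ : u' ∈ ⋃₀ C := hSC ▸ huS
    have hxc : (⟨x, hxU⟩ : U) ∈ c := by
      by_contra hxc
      exact hu' ⟨c, ⟨hc, hxc⟩, huc⟩
    have hirr : IsIrreducible (Subtype.val '' c : Set X) :=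
      (hCirr c hc).image _ continuous_subtype_val.continuousOn
    obtain ⟨g, hg⟩ := QuasiSober.sober hirr.closure isClosed_closure
    have hgx : g ⤳ x := hg.specializes (subset_closure ⟨_, hxc, rfl⟩)
    have hgU : g ∈ U := hgx.mem_open U.isOpen hxU
    have hgc : (⟨g, hgU⟩ : U) ∈ c :=
      (hCcl c hc).closure_eq ▸ closure_subtype.2 hg.mem
    have hgS : (⟨g, hgU⟩ : U) ∈ S := hSC ▸ ⟨c, hc, hgc⟩
    have hgeq : g = x := by
      by_contra hne'
      have := h g hgx hne'
      rw [← hgt, TopCat.Presheaf.germ_stalkSpecializes_apply] at this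
      exact hgS this
    rw [← hgeq, hg]
    exact subset_closure ⟨_, huc, rfl⟩

end Groth.Agent.S14005
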