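import Groth.Statements.S14007
import Groth.Agent.Lib.KDer.Heart
import Groth.Agent.Lib.OX.RegularPerfect
import Groth.Agent.Lib.DerCat.HomologyDevissage
import Groth.Agent.Lib.QCoh.SupportExact
import Groth.Agent.Lib.QCoh.Devissage
import Groth.Agent.Lib.OX.CohClass

set_option autoImplicit false
universe u
open CategoryTheory AlgebraicGeometry
attribute [local instance] HasDerivedCategory.standard
open KZero

namespace Groth.Agent.S14007

/-- Let X be a Noetherian scheme and Y' ⊆ X a closed subset, and suppose that every coherent O_X-module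
with support in Y', viewed in degree 0, is a perfect object of D(O_X). Write K_0(C) for the
Grothendieck group of the abelian category C of coherent O_X-modules supported in Y' (objects modulo
short exact sequences) and K_0(D) for that of the full triangulated subcategory D of D(O_X) on the
perfect complexes all of whose cohomology sheaves are supported in Y' (objects modulo distinguished
triangles with vertices in D). Then the homomorphism K_0(C) → K_0(D) induced by G ↦ G[0] is an
isomorphism: there is an isomorphism of groups carrying the class of every G in C to the class of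
G[0]. -/
theorem result (X : Scheme.{u}) [IsNoetherian X]
    (Y' : Set X) (hY' : IsClosed Y')
    (hperf : ∀ G : X.Modules, Coh.IsCoh G → CohB1.support G ⊆ Y' → DCoh.IsPerfect (DCoh.inD X G)) :
    ∃ φ : KZero.K0sub (fun G : X.Modules => Coh.IsCoh G ∧ CohB1.support G ⊆ Y') ≃+
        KZero.K0tr (fun K : DCoh.D X => DCoh.IsPerfect K ∧ ∀ i : ℤ, CohB1.support (DCoh.HD K i) ⊆ Y'),
      ∀ G : X.Modules, Coh.IsCoh G → CohB1.support G ⊆ Y' →
        φ (KZero.clSub (fun G : X.Modules => Coh.IsCoh G ∧ CohB1.support G ⊆ Y') G) =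
          KZero.clTr (fun K : DCoh.D X => DCoh.IsPerfect K ∧ ∀ i : ℤ, CohB1.support (DCoh.HD K i) ⊆ Y')
            (DCoh.inD X G) := by
  let P : ObjectProperty X.Modules := fun G => Coh.IsCoh G ∧ CohB1.support G ⊆ Y'
  have hi : P.IsClosedUnderIsomorphisms := ⟨fun e h => ⟨GrothLib.QCoh.isCoh_of_iso e h.1,
    (GrothLib.QCoh.support_eq_of_iso e).symm.le.trans h.2⟩⟩
  have hz : P.ContainsZero := ⟨⟨_, CategoryTheory.Limits.isZero_zero X.Modules, GrothLib.OX.isCoh_of_isZero (CategoryTheory.Limits.isZero_zero X.Modules),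
    fun x hx => (hx (ModuleCat.subsingleton_of_isZero ((GrothLib.OX.stalk x).map_isZero (CategoryTheory.Limits.isZero_zero X.Modules)))).elim⟩⟩
  have hk : P.IsClosedUnderKernels := ⟨fun M hM => by
    obtain ⟨f, k, hk, hf⟩ := hM
    exact P.prop_of_iso ((CategoryTheory.Limits.kernelIsKernel f).conePointUniqueUpToIso hk)
      ⟨GrothLib.QCoh.isCoh_kernel f hf.1.1 hf.2.1,
        (GrothLib.QCoh.support_subset_of_mono (CategoryTheory.Limits.kernel.ι f)).trans hf.1.2⟩⟩
  have hQ : ∀ K : DCoh.D X, (DCoh.IsPerfect K ∧ ∀ i : ℤ, CohB1.support (DCoh.HD K i) ⊆ Y') ↔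
      (∀ i, P ((DerivedCategory.homologyFunctor X.Modules i).obj K)) ∧ ∃ a b : ℤ, K.IsGE a ∧ K.IsLE b := by
    refine fun K => ⟨fun h => ?_, fun h => ⟨?_, fun i => (h.1 i).2⟩⟩
    · obtain ⟨hc, hb⟩ := GrothLib.OX.isCohD_and_bounded_of_isPerfect h.1
      exact ⟨fun i => ⟨hc i, h.2 i⟩, hb⟩
    · obtain ⟨hP, a, b, ha, hb⟩ := h
      exact GrothLib.DerTrunc.prop_of_homology_zero (DCoh.IsPerfect (X := X))
        (fun e h => GrothLib.OX.isPerfect_of_iso h e) (fun _ h => GrothLib.OX.isPerfect_of_isZero_obj h)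
        (fun _ n h => GrothLib.OX.isPerfect_shift h n) (fun T hT => (GrothLib.OX.isPerfect_triangle hT).2.1)
        (b + 1 - a).toNat K a ha (DerivedCategory.TStructure.t.isLE_of_le K b _ (by omega))
        fun i => hperf _ (hP i).1 (hP i).2
  obtain ⟨φ, hφ⟩ := GrothLib.KDer.exists_equiv (P := P)
    (fun K : DCoh.D X => DCoh.IsPerfect K ∧ ∀ i : ℤ, CohB1.support (DCoh.HD K i) ⊆ Y') hQ
  exact ⟨φ, fun G hG hs => hφ G ⟨hG, hs⟩⟩

end Groth.Agent.S14007
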