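import Groth.Statements.S1401
import Groth.Agent.Lib.IndQA.Basic
import Groth.Agent.S1127
-- import your own Groth.Agent.* helpers here

set_option autoImplicit false
universe u
open FlatMor

namespace Groth.Agent.S1401

open AlgebraicGeometry CategoryTheory Limits in
/-- Let S' → S be flat, surjective and quasi-compact and let f' be the base change of f : X → S to S'.
If f' is ind-quasi-affine then so is f. -/
theorem result {X S X' S' : Scheme.{u}} (f : X ⟶ S) (f' : X' ⟶ S') (g' : X' ⟶ X) (g : S' ⟶ S)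
    [Flat g] [Surjective g] [QuasiCompact g] (hc : IsPullback g' f' f g) (hf' : MoreMor.IsIndQuasiAffineHom f') : MoreMor.IsIndQuasiAffineHom f := by
  rw [GrothLib.IndQA.indQA_iff]
  intro V hV U hle hU
  haveI : IsAffine (V : Scheme.{u}) := hV
  haveI : CompactSpace (U : Scheme.{u}) := isCompact_iff_compactSpace.mp hU
  let u₀ := f.resLE V U hle
  haveI : QuasiCompact u₀ := HasAffineProperty.iff_of_isAffine.mpr (inferInstance : CompactSpace (U : Scheme.{u}))
  let gV := pullback.fst V.ι g
  have hgV : (@Surjective ⊓ @Flat ⊓ @QuasiCompact : MorphismProperty Scheme.{u}) gV :=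
    ⟨⟨MorphismProperty.pullback_fst _ _ ‹_›, MorphismProperty.pullback_fst _ _ ‹_›⟩, MorphismProperty.pullback_fst _ _ ‹_›⟩
  have big : IsPullback (pullback.fst U.ι g') (pullback.snd U.ι g' ≫ f') (u₀ ≫ V.ι) g := by
    rw [show u₀ ≫ V.ι = U.ι ≫ f from Scheme.Hom.resLE_comp_ι f hle]
    exact (IsPullback.of_hasPullback U.ι g').paste_vert hc
  let q : pullback U.ι g' ⟶ pullback V.ι g :=
    pullback.lift (pullback.fst U.ι g' ≫ u₀) (pullback.snd U.ι g' ≫ f') ((Category.assoc _ _ _).trans big.w)
  have sq : IsPullback q (pullback.fst U.ι g') gV u₀ := by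
    refine IsPullback.of_right (h₁₂ := pullback.snd V.ι g) (h₂₂ := V.ι) (v₁₃ := g) ?_ (pullback.lift_fst _ _ _)
      (IsPullback.of_hasPullback V.ι g).flip
    rw [pullback.lift_snd]
    exact big.flip
  haveI : QuasiCompact q := MorphismProperty.of_isPullback (P := @QuasiCompact) sq.flip ‹QuasiCompact u₀›
  have hq : MoreMor.IsIndQuasiAffineHom q := by
    refine GrothLib.IndQA.indQA_of_comp q (pullback.snd V.ι g) ?_
    rw [pullback.lift_snd]
    exact GrothLib.IndQA.indQA_comp _ _ (GrothLib.IndQA.indQA_of_isImmersion _) hf'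
  have hqa : Mor2.IsQuasiAffine q := ⟨inferInstance, fun W hW =>
    (GrothLib.IndQA.indQA_iff q).mp hq W hW _ le_rfl (q.isCompact_preimage hW.isCompact)⟩
  haveI := Groth.Agent.S1127.result.{u}
  have h := MorphismProperty.of_isPullback_of_descendsAlong
    (P := (fun _ _ f => Mor2.IsQuasiAffine f : MorphismProperty Scheme.{u})) sq hgV hqa
  haveI := h.2 ⊤ (isAffineOpen_top _)
  exact Scheme.IsQuasiAffine.of_isImmersion
    ((U : Scheme.{u}).topIso.inv ≫ ((U : Scheme.{u}).isoOfEq (show (⊤ : (U : Scheme.{u}).Opens) = u₀ ⁻¹ᵁ ⊤ from rfl)).hom)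

end Groth.Agent.S1401
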