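import Groth.Statements.S14010
import Groth.Agent.Lib.ProEtS.AdicP

set_option autoImplicit false
set_option linter.style.haveILetI false
set_option backward.isDefEq.respectTransparency.types false
open CategoryTheory CategoryTheory.Limits AlgebraicGeometry Opposite
universe u
open EtModW

namespace Groth.Agent.S14010

/-- Let X be a scheme, Λ a commutative ring, I a finitely generated ideal of Λ and F a sheaf of
Λ-modules on the small pro-étale site of X. Call F an I-adic pro-étale sheaf when there is a
compatible tower of quotient maps F ⟶ Q_n modulo I^(n+1) (Q_n = F/I^(n+1)F) such that every Q_n is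
isomorphic to the pro-étale pullback ε⁻¹ of a constructible sheaf of Λ-modules on the small étale
site and the canonical map F ⟶ lim_n Q_n is an isomorphism. Then F is an I-adic pro-étale sheaf if
and only if F is isomorphic to lim_n ε⁻¹G_n for some I-adic inverse system (G_n) of constructible
étale sheaves of Λ-modules (I^(n+1) G_n = 0, transition maps quotient maps modulo I^(n+1)).
(Continuity of the inclusion of the étale site into the pro-étale site is carried as a binder.) -/
theorem result
    (Λ : Type (u + 1)) [CommRing Λ] (I : Ideal Λ) (hI : I.FG)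
    (X : Scheme.{u}) [ProEtS.EpsCont X] (F : EtModW.ModP Λ X) :
    (∃ (Q : ℕᵒᵖ ⥤ EtModW.ModP Λ X) (p : (Functor.const ℕᵒᵖ).obj F ⟶ Q),
        (∀ n : ℕ, ARSys.IsQuot (I ^ (n + 1)) (p.app (op n))) ∧
        (∀ n : ℕ, ∃ E : EtModW.Mod Λ X, EtModW.IsConstructible Λ E ∧
          Nonempty ((EtModW.epsPullMod Λ X).obj E ≅ Q.obj (op n))) ∧
        IsIso (limit.lift Q (Cone.mk F p))) ↔
      ∃ G : ARSys.PS (EtModW.Mod Λ X), ARSys.IsAdic I G ∧
        (∀ n : ℕ, EtModW.IsConstructible Λ (G.obj (op n))) ∧
        Nonempty (limit (G ⋙ EtModW.epsPullMod Λ X) ≅ F) := by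
  exact GrothLib.AdicP.isAdicP_iff hI F

end Groth.Agent.S14010
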