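import Groth.Statements.S14011
import Groth.Agent.Lib.ProEtS.AdicP

set_option autoImplicit false
set_option linter.style.haveILetI false
set_option backward.isDefEq.respectTransparency.types false
open CategoryTheory CategoryTheory.Limits AlgebraicGeometry Opposite
universe u
open EtModW

namespace Groth.Agent.S14011

/-- Let X be a scheme, Λ a commutative ring and I a finitely generated ideal of Λ. The functor which
sends an inverse system (G_n) of sheaves of Λ-modules on the small étale site of X to the pro-étale
sheaf lim_n ε⁻¹G_n is full and faithful on the full subcategory of I-adic systems (I^(n+1) G_n = 0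
and every transition map is a quotient map modulo I^(n+1)). Constructibility of the members is not
needed for this part. (Continuity of the inclusion of the étale site into the pro-étale site is
carried as a binder.) -/
theorem result
    (Λ : Type (u + 1)) [CommRing Λ] (I : Ideal Λ) (hI : I.FG)
    (X : Scheme.{u}) [ProEtS.EpsCont X] :
    (ObjectProperty.ι (fun G : ARSys.PS (EtModW.Mod Λ X) => ARSys.IsAdic I G) ⋙
        ((Functor.whiskeringRight ℕᵒᵖ (EtModW.Mod Λ X) (EtModW.ModP Λ X)).obj (EtModW.epsPullMod Λ X) ⋙ lim)).Full ∧
    (ObjectProperty.ι (fun G : ARSys.PS (EtModW.Mod Λ X) => ARSys.IsAdic I G) ⋙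
        ((Functor.whiskeringRight ℕᵒᵖ (EtModW.Mod Λ X) (EtModW.ModP Λ X)).obj (EtModW.epsPullMod Λ X) ⋙ lim)).Faithful := by
  refine ⟨⟨fun {A B} φ => ?_⟩, ⟨fun {A B} u v h => ?_⟩⟩
  · obtain ⟨u, hu⟩ := (GrothLib.AdicP.full_faithful_limEps hI A.property B.property.1).2 φ
    exact ⟨ObjectProperty.homMk u, hu⟩
  · exact ObjectProperty.hom_ext _ ((GrothLib.AdicP.full_faithful_limEps hI A.property B.property.1).1 h)

end Groth.Agent.S14011
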