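import Groth.Statements.S14015
import Groth.Agent.Lib.ProEtS.AdicPExtension

set_option autoImplicit false
set_option linter.style.haveILetI false
set_option backward.isDefEq.respectTransparency.types false
open CategoryTheory CategoryTheory.Limits AlgebraicGeometry Opposite
universe u
open EtModW

namespace Groth.Agent.S14015

/-- Let X be a Noetherian scheme, Λ a Noetherian commutative ring and I = (a) a principal ideal of Λ. In
a short exact sequence 0 ⟶ F ⟶ G ⟶ H ⟶ 0 of sheaves of Λ-modules on the small pro-étale site of X,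
if F and H are I-adic pro-étale sheaves (each has a compatible tower of quotient maps modulo I^(n+1)
whose targets are isomorphic to pro-étale pullbacks of constructible étale sheaves of Λ-modules, and
the canonical map to the limit of the tower is an isomorphism) then so is G: I-adic pro-étale
sheaves are stable under extensions. (The published statement allows an arbitrary ideal of the
Noetherian coefficient ring and reduces completeness to the principal case through a lemma on
completeness with respect to each of finitely many generators separately; this row states the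
principal case, for which the argument is self-contained. Continuity of the inclusion of the étale
site into the pro-étale site is carried as a binder.) -/
theorem result
    (Λ : Type (u + 1)) [CommRing Λ] [IsNoetherianRing Λ] (a : Λ)
    (X : Scheme.{u}) [IsNoetherian X] [ProEtS.EpsCont X]
    (S : ShortComplex (EtModW.ModP Λ X)) (hS : S.ShortExact)
    (h₁ : (∃ (Q : ℕᵒᵖ ⥤ EtModW.ModP Λ X) (p : (Functor.const ℕᵒᵖ).obj S.X₁ ⟶ Q),
        (∀ n : ℕ, ARSys.IsQuot ((Ideal.span {a}) ^ (n + 1)) (p.app (op n))) ∧
        (∀ n : ℕ, ∃ E : EtModW.Mod Λ X, EtModW.IsConstructible Λ E ∧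
          Nonempty ((EtModW.epsPullMod Λ X).obj E ≅ Q.obj (op n))) ∧
        IsIso (limit.lift Q (Cone.mk S.X₁ p))))
    (h₃ : (∃ (Q : ℕᵒᵖ ⥤ EtModW.ModP Λ X) (p : (Functor.const ℕᵒᵖ).obj S.X₃ ⟶ Q),
        (∀ n : ℕ, ARSys.IsQuot ((Ideal.span {a}) ^ (n + 1)) (p.app (op n))) ∧
        (∀ n : ℕ, ∃ E : EtModW.Mod Λ X, EtModW.IsConstructible Λ E ∧
          Nonempty ((EtModW.epsPullMod Λ X).obj E ≅ Q.obj (op n))) ∧
        IsIso (limit.lift Q (Cone.mk S.X₃ p)))) :
    (∃ (Q : ℕᵒᵖ ⥤ EtModW.ModP Λ X) (p : (Functor.const ℕᵒᵖ).obj S.X₂ ⟶ Q),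
      (∀ n : ℕ, ARSys.IsQuot ((Ideal.span {a}) ^ (n + 1)) (p.app (op n))) ∧
      (∀ n : ℕ, ∃ E : EtModW.Mod Λ X, EtModW.IsConstructible Λ E ∧
        Nonempty ((EtModW.epsPullMod Λ X).obj E ≅ Q.obj (op n))) ∧
      IsIso (limit.lift Q (Cone.mk S.X₂ p))) := by
  exact (GrothLib.AdicP.isAdicP_iff' _).2 (GrothLib.AdicP.isAdicP_extension hS
    ((GrothLib.AdicP.isAdicP_iff' _).1 h₁) ((GrothLib.AdicP.isAdicP_iff' _).1 h₃))

end Groth.Agent.S14015
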