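import Groth.Statements.S14016
import Groth.Agent.Lib.ProEtS.EpsDerived
import Groth.Agent.Lib.DerCat.DimShiftRD

set_option autoImplicit false
open CategoryTheory CategoryTheory.Limits AlgebraicGeometry Opposite
universe u
open ProEtS

namespace Groth.Agent.S14016

/-- Let X be a scheme and S a weak Serre subcategory of the abelian sheaves on the small étale site of
X, i.e. a property of objects holding for a zero object and closed under kernels, cokernels and
extensions. Then the essential image of S under the pullback ε⁻¹ to the small pro-étale site (the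
abelian pro-étale sheaves isomorphic to ε⁻¹G for some G satisfying S) is again a weak Serre
subcategory, now of the abelian sheaves on the small pro-étale site of X. (Continuity of the
inclusion of the étale site into the pro-étale site is carried as a binder.) -/
theorem result
    (X : Scheme.{u}) [ProEtS.EpsCont X]
    (S : ObjectProperty (EtCoh.Ab X)) [WSerre.IsWeakSerre S] :
    WSerre.IsWeakSerre (fun F : ProEtS.AbP X => ∃ G : EtCoh.Ab X, S G ∧ Nonempty ((ProEtS.epsPull X).obj G ≅ F)) := by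
  haveI := fun G => GrothLib.ProEtS.isIso_epsAdj_unit (X := X) G
  haveI : IsIso (ProEtS.epsAdj X).unit := NatIso.isIso_of_isIso_app _
  haveI := (ProEtS.epsAdj X).fullyFaithfulLOfIsIsoUnit.full
  haveI := (ProEtS.epsAdj X).fullyFaithfulLOfIsIsoUnit.faithful
  haveI := GrothLib.ProEtS.preservesFiniteLimits_epsPull X
  haveI := (ProEtS.epsAdj X).leftAdjoint_preservesColimits.{0, 0}
  let L := ProEtS.epsPull X
  let R := ProEtS.epsPush X
  have hc : ∀ {F : ProEtS.AbP X} {G : EtCoh.Ab X}, (L.obj G ≅ F) → IsIso ((ProEtS.epsAdj X).counit.app F) := by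
    intro F G e
    haveI : IsIso ((ProEtS.epsAdj X).counit.app ((ProEtS.epsPull X).obj G)) :=
      IsIso.of_isIso_fac_left ((ProEtS.epsAdj X).left_triangle_components G)
    exact (NatTrans.isIso_app_iff_of_iso (ProEtS.epsAdj X).counit e).1 ‹_›
  have hK : ∀ {F F' : ProEtS.AbP X} (f : F ⟶ F') {G G' : EtCoh.Ab X}, (L.obj G ≅ F) → (L.obj G' ≅ F') →
      ∃ g : G ⟶ G', Nonempty (L.obj (kernel g) ≅ kernel f) ∧ Nonempty (L.obj (cokernel g) ≅ cokernel f) := by
    intro F F' f G G' e e'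
    refine ⟨L.preimage (e.hom ≫ f ≫ e'.inv), ⟨PreservesKernel.iso L _ ≪≫ kernel.mapIso _ _ e e' (by simp)⟩,
      ⟨PreservesCokernel.iso L _ ≪≫ cokernel.mapIso _ _ e e' (by simp)⟩⟩
  refine { exists_zero := ?_, kernels_le := ?_, cokernels_le := ?_, prop_X₂_of_shortExact := ?_ }
  · obtain ⟨Z, hZ, hSZ⟩ := ObjectProperty.ContainsZero.exists_zero (P := S)
    exact ⟨L.obj Z, L.map_isZero hZ, Z, hSZ, ⟨Iso.refl _⟩⟩
  · rintro K ⟨f, k, hk, ⟨⟨G, hG, ⟨e⟩⟩, ⟨G', hG', ⟨e'⟩⟩⟩⟩
    obtain ⟨g, ⟨i⟩, -⟩ := hK f e e'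
    exact ⟨kernel g, S.prop_of_isLimit_kernelFork (limit.isLimit (parallelPair g 0)) hG hG',
      ⟨i ≪≫ (kernelIsKernel f).conePointUniqueUpToIso hk⟩⟩
  · rintro K ⟨f, k, hk, ⟨⟨G, hG, ⟨e⟩⟩, ⟨G', hG', ⟨e'⟩⟩⟩⟩
    obtain ⟨g, -, ⟨i⟩⟩ := hK f e e'
    exact ⟨cokernel g, S.prop_of_isColimit_cokernelCofork (colimit.isColimit (parallelPair g 0)) hG hG',
      ⟨i ≪≫ (cokernelIsCokernel f).coconePointUniqueUpToIso hk⟩⟩
  · rintro T hT ⟨A, hA, ⟨a⟩⟩ ⟨B, hB, ⟨b⟩⟩
    have hR : (T.map R).ShortExact := GrothLib.HomGamma.shortExact_map_of_isZero R hT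
      ((GrothLib.ProEtS.isZero_RepsPush_epsPull 0 A).of_iso ((R.rightDerived 1).mapIso a.symm))
    have hLR := GrothLib.ProEtS.shortExact_map_epsPull hR
    haveI := hc a
    haveI := hc b
    let φ : (T.map R).map L ⟶ T :=
      { τ₁ := (ProEtS.epsAdj X).counit.app T.X₁
        τ₂ := (ProEtS.epsAdj X).counit.app T.X₂
        τ₃ := (ProEtS.epsAdj X).counit.app T.X₃
        comm₁₂ := ((ProEtS.epsAdj X).counit.naturality T.f).symm
        comm₂₃ := ((ProEtS.epsAdj X).counit.naturality T.g).symm }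
    haveI : IsIso φ.τ₁ := hc a
    haveI : IsIso φ.τ₃ := hc b
    have h2 : IsIso φ.τ₂ := ShortComplex.isIso₂_of_shortExact_of_isIso₁₃ φ hLR hT
    exact ⟨R.obj T.X₂, S.prop_X₂_of_shortExact hR
      (S.prop_of_iso (asIso ((ProEtS.epsAdj X).unit.app A) ≪≫ R.mapIso a) hA)
      (S.prop_of_iso (asIso ((ProEtS.epsAdj X).unit.app B) ≪≫ R.mapIso b) hB), ⟨@asIso _ _ _ _ φ.τ₂ h2⟩⟩

end Groth.Agent.S14016
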