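import Groth.Statements.S14017
import Groth.Agent.Lib.ProEtS.WCMod

set_option autoImplicit false
set_option linter.style.haveILetI false
set_option backward.isDefEq.respectTransparency.types false
open CategoryTheory CategoryTheory.Limits AlgebraicGeometry Opposite
universe u
open EtModW

namespace Groth.Agent.S14017

/-- Let X be a scheme, Λ a commutative ring and I a finitely generated ideal of Λ; let F be a sheaf of
Λ-modules on the small pro-étale site of X and p : F ⟶ Q a quotient map modulo I (Q is killed by I
and every morphism out of F killed by I factors uniquely through p, so Q = F/IF); let U be a weakly
contractible object of the pro-étale site. Then the map on sections F(U) → Q(U) is surjective and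
its kernel is exactly the submodule I·F(U): sections over a weakly contractible object commute with
forming IF and F/IF. (The published lemma is for sheaves of Λ-modules on an arbitrary site and a
weakly contractible object of it; this row states the case of the small pro-étale site of a scheme.) -/
theorem result
    (Λ : Type (u + 1)) [CommRing Λ] (I : Ideal Λ) (hI : I.FG)
    (X : Scheme.{u}) (F Q : EtModW.ModP Λ X) (p : F ⟶ Q) (hp : ARSys.IsQuot I p)
    (U : X.ProEt) (hU : ProEtS.IsWC U) :
    Function.Surjective (p.hom.app (op U)).hom ∧
      LinearMap.ker (p.hom.app (op U)).hom = I • (⊤ : Submodule Λ (F.obj.obj (op U))) := by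
  exact (GrothLib.AdicModule.isQuot_iff _).1 (GrothLib.ProEtS.isQuot_evalP hI hp hU)

end Groth.Agent.S14017
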