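import Groth.Statements.S14018
import Mathlib.CategoryTheory.Sites.LocallySurjective
import Mathlib.CategoryTheory.Sites.Limits
import Mathlib.CategoryTheory.Limits.Types.Limits
-- import your own Groth.Agent.* helpers here

set_option autoImplicit false
open CategoryTheory CategoryTheory.Limits Opposite
universe w v u
open CohSite

namespace Groth.Agent.S14018
theorem Types.exists_of_isLimit_aux (G : ℕᵒᵖ ⥤ Type w) (c : Cone G) (hc : IsLimit c)
    (z : ∀ k, G.obj (op k)) (hz : ∀ a b (hab : a ≤ b), G.map (homOfLE hab).op (z b) = z a) :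
    ∃ y : c.pt, ∀ k, c.π.app (op k) y = z k := by
  have hs : (fun j : ℕᵒᵖ => z j.unop) ∈ G.sections := by
    intro i j f
    have hij : j.unop ≤ i.unop := leOfHom f.unop
    have : f = (homOfLE hij).op := Subsingleton.elim _ _
    rw [this]
    exact hz _ _ hij
  refine ⟨(Types.isLimitEquivSections hc).symm ⟨_, hs⟩, fun k => ?_⟩
  exact Types.isLimitEquivSections_symm_apply hc ⟨_, hs⟩ (op k)


/-- Let (C, J) be a site with enough weakly contractible objects — every object V has a covering sieve
all of whose arrows factor through some weakly contractible object, an object U being weakly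
contractible when every epimorphism of sheaves of sets (valued in a fixed universe) is surjective on
sections over U. Then the topos of sheaves of sets is replete: if (F_n) is an inverse system of
sheaves of sets indexed by ℕ with every transition map F_(n+1) ⟶ F_n an epimorphism, then each
projection lim_n F_n ⟶ F_n is an epimorphism; the limit is taken as any limit cone. (The small
pro-étale site of a scheme is such a site.) -/
theorem result
    {C : Type u} [Category.{v} C] (J : GrothendieckTopology C)
    (hwc : ∀ V : C, ∃ S : Sieve V, S ∈ J V ∧ ∀ ⦃W : C⦄ (f : W ⟶ V), S.arrows f →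
      ∃ (U : C) (g : W ⟶ U) (h : U ⟶ V), (∀ (A B : Sheaf J (Type w)) (ψ : A ⟶ B), Epi ψ → Function.Surjective (ψ.hom.app (op U))) ∧ g ≫ h = f)
    (F : ℕᵒᵖ ⥤ Sheaf J (Type w))
    (hF : ∀ n : ℕ, Epi (F.map (homOfLE (Nat.le_succ n)).op))
    (c : Cone F) (hc : IsLimit c) (n : ℕ) :
    Epi (c.π.app (op n)) := by
  classical
  haveI : Sheaf.IsLocallySurjective (c.π.app (op n)) := by
    refine ⟨fun {V} s => ?_⟩
    obtain ⟨S, hS, hS'⟩ := hwc V
    refine J.superset_covering ?_ hS
    intro W f hf
    obtain ⟨U, g, h, hU, rfl⟩ := hS' f hf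
    let G := F ⋙ sheafToPresheaf J (Type w) ⋙ (evaluation Cᵒᵖ (Type w)).obj (op U)
    have hc' : IsLimit ((sheafToPresheaf J (Type w) ⋙ (evaluation Cᵒᵖ (Type w)).obj (op U)).mapCone c) :=
      isLimitOfPreserves _ hc
    have hG : ∀ k : ℕ, Function.Surjective (G.map (homOfLE (Nat.le_succ k)).op) :=
      fun k => hU _ _ _ (hF k)
    choose lift hlift using hG
    let x : G.obj (op n) := (F.obj (op n)).obj.map h.op s
    let z : ∀ k : ℕ, G.obj (op k) := fun k => Nat.rec (motive := fun k => G.obj (op k))
      (G.map (homOfLE (Nat.zero_le n)).op x)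
      (fun k zk => if hk : k + 1 ≤ n then G.map (homOfLE hk).op x else lift k zk) k
    have hz0 : ∀ k (hk : k ≤ n), z k = G.map (homOfLE hk).op x := by
      intro k hk
      cases k with
      | zero => rfl
      | succ k => exact dif_pos hk
    have hzs : ∀ k, G.map (homOfLE (Nat.le_succ k)).op (z (k + 1)) = z k := by
      intro k
      by_cases hk : k + 1 ≤ n
      · rw [hz0 _ hk, hz0 k (by omega), ← Functor.map_comp_apply]
        rfl
      · have : z (k + 1) = lift k (z k) := dif_neg hk
        rw [this]
        exact hlift k (z k)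
    have hz : ∀ a b (hab : a ≤ b), G.map (homOfLE hab).op (z b) = z a := by
      intro a b hab
      induction b, hab using Nat.le_induction with
      | base =>
        rw [show (homOfLE (le_refl a)).op = 𝟙 (op a) from rfl]
        exact FunctorToTypes.map_id_apply G _
      | succ b hab ih =>
        rw [show (homOfLE (Nat.le_succ_of_le hab)).op =
          (homOfLE (Nat.le_succ b)).op ≫ (homOfLE hab).op from rfl, Functor.map_comp_apply, hzs b]
        exact ih
    obtain ⟨y, hy⟩ := Types.exists_of_isLimit_aux G _ hc' z hz
    refine ⟨c.pt.obj.map g.op y, ?_⟩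
    refine (NatTrans.naturality_apply (c.π.app (op n)).hom g.op y).trans ?_
    rw [op_comp, Functor.map_comp_apply]
    refine congrArg _ ?_
    refine (hy n).trans ?_
    rw [hz0 n le_rfl, show (homOfLE (le_refl n)).op = 𝟙 (op n) from rfl]
    exact FunctorToTypes.map_id_apply G _
  exact Sheaf.epi_of_isLocallySurjective _

end Groth.Agent.S14018
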