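import Groth.Statements.S6292
import Mathlib.RingTheory.FiniteLength
import Mathlib.RingTheory.HopkinsLevitzki

set_option autoImplicit false
universe u
open CAlg

namespace Groth.Agent.S6292

/-- A finite module killed by a power of a finitely generated ideal with artinian quotient is
noetherian and artinian. -/
theorem isNoetherian_isArtinian {R : Type*} [CommRing R] (I : Ideal R) (hI : I.FG)
    [IsArtinianRing (R ⧸ I)] (n : ℕ) :
    ∀ (M : Type*) [AddCommGroup M] [Module R M] [Module.Finite R M],
      I ^ n • (⊤ : Submodule R M) = ⊥ → IsNoetherian R M ∧ IsArtinian R M := by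
  induction n with
  | zero =>
    intro M _ _ _ h
    rw [pow_zero, Ideal.one_eq_top, Submodule.top_smul] at h
    haveI : Subsingleton M := subsingleton_of_forall_eq 0 fun x =>
      (Submodule.mem_bot R).1 (h ▸ Submodule.mem_top (x := x))
    exact ⟨inferInstance, inferInstance⟩
  | succ n ih =>
    intro M _ _ _ h
    let N : Submodule R M := I • ⊤
    haveI : Module.Finite R N := Module.Finite.iff_fg.2 (Submodule.FG.smul hI Module.Finite.fg_top)
    have h1 : I ^ n • (⊤ : Submodule R N) = ⊥ := by
      apply Submodule.map_injective_of_injective N.injective_subtype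
      rw [Submodule.map_smul'', Submodule.map_top, Submodule.range_subtype, Submodule.map_bot]
      rw [← h, pow_succ, Submodule.mul_smul]
    obtain ⟨hN1, hN2⟩ := ih N h1
    have ht : Module.IsTorsionBySet R (M ⧸ N) I := Module.isTorsionBySet_quotient_ideal_smul M I
    letI := ht.module
    haveI : Module.Finite (R ⧸ I) (M ⧸ N) := Module.Finite.of_restrictScalars_finite R _ _
    haveI : IsArtinian R (M ⧸ N) :=
      (ht.semilinearMap.isArtinian_iff_of_bijective Function.bijective_id).2 inferInstance
    haveI : IsNoetherian R (M ⧸ N) :=
      (ht.semilinearMap.isNoetherian_iff_of_bijective Function.bijective_id).2 inferInstance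
    exact ⟨(isNoetherian_iff_submodule_quotient N).2 ⟨hN1, inferInstance⟩,
      (isArtinian_iff_submodule_quotient N).2 ⟨hN2, inferInstance⟩⟩


/-- Let R be a ring and m ⊆ R a finitely generated maximal ideal (for instance R Noetherian). If M is a
finite R-module with mⁿM = 0 for some n, then M has finite length. -/
theorem result {R : Type u} [CommRing R] (m : Ideal R) [m.IsMaximal] (hm : m.FG) (M : Type u) [AddCommGroup M] [Module R M] [Module.Finite R M] (n : ℕ) (hn : m ^ n • (⊤ : Submodule R M) = ⊥) : IsFiniteLength R M :=
  isFiniteLength_iff_isNoetherian_isArtinian.2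
    (haveI : IsArtinianRing (R ⧸ m) := by
       letI := Ideal.Quotient.field m; infer_instance
     isNoetherian_isArtinian m hm n M hn)

end Groth.Agent.S6292
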