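import Groth.Statements.S14020
import Groth.Agent.S6292

set_option autoImplicit false
universe u
open CAlg

namespace Groth.Agent.S14020

/-- Let R be a commutative ring and I a finitely generated ideal such that the quotient ring R/I is
artinian. Then R/I^n is artinian for every n. -/
theorem result
    (R : Type u) [CommRing R] (I : Ideal R) (hI : I.FG) [IsArtinianRing (R ⧸ I)] (n : ℕ) :
    IsArtinianRing (R ⧸ I ^ n) := by
  have h := (Groth.Agent.S6292.isNoetherian_isArtinian I hI n (R ⧸ I ^ n) (by
    rw [eq_bot_iff]
    refine Submodule.smul_le.2 fun r hr x _ => ?_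
    obtain ⟨x, rfl⟩ := Ideal.Quotient.mk_surjective x
    rw [Submodule.mem_bot, Algebra.smul_def, Ideal.Quotient.algebraMap_eq, ← map_mul,
      Ideal.Quotient.eq_zero_iff_mem]
    exact Ideal.mul_mem_right _ _ hr)).2
  exact isArtinian_of_tower R h

end Groth.Agent.S14020
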