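import Groth.Statements.S14021
import Groth.Agent.Lib.ModConstr.AdicStrata
import Groth.Agent.Lib.ProEtS.EpsPull
import Groth.Agent.Lib.ProEtS.AdicP

set_option autoImplicit false
set_option linter.style.haveILetI false
set_option backward.isDefEq.respectTransparency.types false
open CategoryTheory CategoryTheory.Limits AlgebraicGeometry Opposite
universe u
open EtModW

namespace Groth.Agent.S14021

/-- Let X be a Noetherian scheme, Λ a Noetherian commutative ring, I an ideal of Λ and F an I-adic
pro-étale sheaf of Λ-modules on X, given with its tower of quotient maps F ⟶ Q_n modulo I^(n+1)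
(each Q_n isomorphic to the pro-étale pullback of a constructible étale sheaf of Λ-modules, and F ⟶
lim_n Q_n an isomorphism). Then there is a finite partition of X into locally closed strata, the
images of immersions g_i : T_i ⟶ X, such that F is lisse on every stratum: for all i and n the
pullback of Q_n to the small pro-étale site of T_i is isomorphic to the pro-étale pullback of a
finite-type locally constant sheaf of Λ-modules on the small étale site of T_i. (Continuity of the
inclusions of étale into pro-étale sites and of the base-change functors between pro-étale sites is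
carried as binders.) -/
theorem result
    (Λ : Type (u + 1)) [CommRing Λ] [IsNoetherianRing Λ] (I : Ideal Λ)
    (X : Scheme.{u}) [IsNoetherian X] [∀ T : Scheme.{u}, ProEtS.EpsCont T]
    [∀ (T : Scheme.{u}) (g : T ⟶ X), ProEtS.PCont g]
    (F : EtModW.ModP Λ X) (Q : ℕᵒᵖ ⥤ EtModW.ModP Λ X) (p : (Functor.const ℕᵒᵖ).obj F ⟶ Q)
    (hQ : ∀ n : ℕ, ARSys.IsQuot (I ^ (n + 1)) (p.app (op n)))
    (hc : ∀ n : ℕ, ∃ E : EtModW.Mod Λ X, EtModW.IsConstructible Λ E ∧
      Nonempty ((EtModW.epsPullMod Λ X).obj E ≅ Q.obj (op n)))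
    (hlim : IsIso (limit.lift Q (Cone.mk F p))) :
    ∃ (m : ℕ) (T : Fin m → Scheme.{u}) (g : ∀ i, T i ⟶ X),
      (∀ i, IsImmersion (g i)) ∧
      Pairwise (fun i j => Disjoint (Set.range (fun t => (g i).base t)) (Set.range (fun t => (g j).base t))) ∧
      (⋃ i, Set.range (fun t => (g i).base t)) = Set.univ ∧
      ∀ (i : Fin m) (n : ℕ), ∃ E : EtModW.Mod Λ (T i), EtModW.IsFTLocConst Λ E ∧
          Nonempty ((EtModW.epsPullMod Λ (T i)).obj E ≅ (((ProEtS.bcP (g i)).sheafPullback (ModuleCat.{u + 1} Λ) (Scheme.ProEt.topology X) (Scheme.ProEt.topology (T i)))).obj (Q.obj (op n))) := by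
  obtain ⟨G, hG, ⟨e⟩⟩ := GrothLib.AdicP.exists_system (fun E => EtModW.IsConstructible Λ E) Q hc
  haveI := (GrothLib.ProEtS.full_faithful_epsPullMod (X := X) (Λ := Λ)).1
  haveI := (GrothLib.ProEtS.full_faithful_epsPullMod (X := X) (Λ := Λ)).2
  have hGA : ARSys.IsAdic I G := GrothLib.AdicP.isAdic_of_map (EtModW.epsPullMod Λ X)
    (GrothLib.AdicP.isAdic_of_iso e.symm (GrothLib.AdicP.isAdic_of_tower p hQ))
  obtain ⟨m, T, g, h₁, h₂, h₃, h₄⟩ := GrothLib.ModConstr.exists_strata_flc_adic hGA (hG 0)
  refine ⟨m, T, g, h₁, h₂, h₃, fun i n => ⟨_, h₄ i n, ?_⟩⟩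
  obtain ⟨c⟩ := GrothLib.ProEtS.nonempty_pullEpsIso (g i) Λ
  exact ⟨c.app (G.obj (op n)) ≪≫ ((ProEtS.bcP (g i)).sheafPullback (ModuleCat.{u + 1} Λ) _ _).mapIso (e.app (op n))⟩

end Groth.Agent.S14021
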