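import Groth.Statements.S14022
import Groth.Agent.Lib.ModConstr.AdicStrata
import Groth.Agent.Lib.ProEtS.EpsPull
import Groth.Agent.Lib.ProEtS.AdicP

set_option autoImplicit false
set_option linter.style.haveILetI false
set_option backward.isDefEq.respectTransparency.types false
open CategoryTheory CategoryTheory.Limits AlgebraicGeometry Opposite
universe u
open EtModW

namespace Groth.Agent.S14022

/-- Let X be a Noetherian scheme, Λ a Noetherian commutative ring, I an ideal of Λ and F an I-adic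
pro-étale sheaf of Λ-modules on X, given with its tower of quotient maps F ⟶ Q_n modulo I^(n+1)
(each Q_n isomorphic to the pro-étale pullback of a constructible étale sheaf of Λ-modules, and F ⟶
lim_n Q_n an isomorphism). Then there is a dense open subscheme U of X on which F is lisse: for
every n the pullback of Q_n to the small pro-étale site of U is isomorphic to the pro-étale pullback
of a finite-type locally constant sheaf of Λ-modules on the small étale site of U. (Continuity of
the inclusions of étale into pro-étale sites and of the base-change functors between pro-étale sites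
is carried as binders.) -/
theorem result
    (Λ : Type (u + 1)) [CommRing Λ] [IsNoetherianRing Λ] (I : Ideal Λ)
    (X : Scheme.{u}) [IsNoetherian X] [∀ T : Scheme.{u}, ProEtS.EpsCont T]
    [∀ (T : Scheme.{u}) (g : T ⟶ X), ProEtS.PCont g]
    (F : EtModW.ModP Λ X) (Q : ℕᵒᵖ ⥤ EtModW.ModP Λ X) (p : (Functor.const ℕᵒᵖ).obj F ⟶ Q)
    (hQ : ∀ n : ℕ, ARSys.IsQuot (I ^ (n + 1)) (p.app (op n)))
    (hc : ∀ n : ℕ, ∃ E : EtModW.Mod Λ X, EtModW.IsConstructible Λ E ∧
      Nonempty ((EtModW.epsPullMod Λ X).obj E ≅ Q.obj (op n)))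
    (hlim : IsIso (limit.lift Q (Cone.mk F p))) :
    ∃ U : X.Opens, Dense (U : Set X) ∧
      ∀ n : ℕ, ∃ E : EtModW.Mod Λ (↑U), EtModW.IsFTLocConst Λ E ∧
          Nonempty ((EtModW.epsPullMod Λ (↑U)).obj E ≅ (((ProEtS.bcP U.ι).sheafPullback (ModuleCat.{u + 1} Λ) (Scheme.ProEt.topology X) (Scheme.ProEt.topology (↑U)))).obj (Q.obj (op n))) := by
  obtain ⟨G, hG, ⟨e⟩⟩ := GrothLib.AdicP.exists_system (fun E => EtModW.IsConstructible Λ E) Q hc
  haveI := (GrothLib.ProEtS.full_faithful_epsPullMod (X := X) (Λ := Λ)).1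
  haveI := (GrothLib.ProEtS.full_faithful_epsPullMod (X := X) (Λ := Λ)).2
  have hGA : ARSys.IsAdic I G := GrothLib.AdicP.isAdic_of_map (EtModW.epsPullMod Λ X)
    (GrothLib.AdicP.isAdic_of_iso e.symm (GrothLib.AdicP.isAdic_of_tower p hQ))
  obtain ⟨U, h₁, h₂⟩ := GrothLib.ModConstr.exists_dense_open_flc_adic hGA (hG 0)
  refine ⟨U, h₁, fun n => ⟨_, h₂ n, ?_⟩⟩
  obtain ⟨c⟩ := GrothLib.ProEtS.nonempty_pullEpsIso U.ι Λ
  exact ⟨c.app (G.obj (op n)) ≪≫ ((ProEtS.bcP U.ι).sheafPullback (ModuleCat.{u + 1} Λ) _ _).mapIso (e.app (op n))⟩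

end Groth.Agent.S14022
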