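import Groth.Statements.S14023
import Mathlib.CategoryTheory.Limits.FunctorCategory.EpiMono
import Mathlib.CategoryTheory.Abelian.FunctorCategory
import Mathlib.CategoryTheory.Limits.Shapes.FiniteProducts
import Mathlib.CategoryTheory.Preadditive.Injective.Basic

set_option autoImplicit false
open CategoryTheory CategoryTheory.Limits Opposite
universe v u
open ARSys

namespace Groth.Agent.S14023

section
variable {A : Type u} [Category.{v} A] [Abelian A]

/-- The system cofreely generated by a family of objects. -/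
noncomputable def cofree (I : ℕ → A) : ℕᵒᵖ ⥤ A where
  obj n := ∏ᶜ fun i : Fin (n.unop + 1) => I i
  map {a b} φ := Pi.lift fun i => Pi.π (fun j : Fin (a.unop + 1) => I j)
    (Fin.castLE (Nat.succ_le_succ (leOfHom φ.unop)) i)
  map_id a := by
    ext i
    simp
  map_comp φ ψ := by
    ext i
    simp
    rfl

/-- The projections of the cofree system. -/
noncomputable def cπ (I : ℕ → A) (n : ℕᵒᵖ) (m : ℕ) (h : m ≤ n.unop) : (cofree I).obj n ⟶ I m :=
  Pi.π (fun j : Fin (n.unop + 1) => I j) ⟨m, Nat.lt_succ_of_le h⟩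

theorem cext {I : ℕ → A} {n : ℕᵒᵖ} {Z : A} {f g : Z ⟶ (cofree I).obj n}
    (h : ∀ (m : ℕ) (hm : m ≤ n.unop), f ≫ cπ I n m hm = g ≫ cπ I n m hm) : f = g :=
  Pi.hom_ext f g fun i => h i (Nat.le_of_lt_succ i.2)

theorem map_cπ (I : ℕ → A) {a b : ℕᵒᵖ} (φ : a ⟶ b) (m : ℕ) (h : m ≤ b.unop) :
    (cofree I).map φ ≫ cπ I b m h = cπ I a m (h.trans (leOfHom φ.unop)) :=
  Pi.lift_π _ _

/-- A morphism into the cofree system. -/
noncomputable def toCofree {I : ℕ → A} {X : ℕᵒᵖ ⥤ A} (h : ∀ m : ℕ, X.obj (Opposite.op m) ⟶ I m) :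
    X ⟶ cofree I where
  app n := Pi.lift fun i : Fin (n.unop + 1) => X.map (homOfLE (Nat.le_of_lt_succ i.2)).op ≫ h i
  naturality a b φ := cext fun m hm => by
    rw [Category.assoc, Category.assoc, map_cπ]
    refine (congrArg (X.map φ ≫ ·) (Pi.lift_π _ _)).trans ?_
    refine Eq.trans ?_ (Eq.symm (Pi.lift_π
      (fun i : Fin (a.unop + 1) => X.map (homOfLE (Nat.le_of_lt_succ i.2)).op ≫ h i)
      ⟨m, Nat.lt_succ_of_le (hm.trans (leOfHom φ.unop))⟩))
    rw [← Category.assoc, ← X.map_comp]
    rfl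

theorem toCofree_cπ {I : ℕ → A} {X : ℕᵒᵖ ⥤ A} (h : ∀ m : ℕ, X.obj (Opposite.op m) ⟶ I m) (n : ℕᵒᵖ)
    (m : ℕ) (hm : m ≤ n.unop) : (toCofree h).app n ≫ cπ I n m hm = X.map (homOfLE hm).op ≫ h m :=
  Pi.lift_π _ _

theorem cofree_injective (I : ℕ → A) [∀ n, Injective (I n)] : Injective (cofree I) := by
  constructor
  intro X Y g f hf
  let h : ∀ m : ℕ, Y.obj (Opposite.op m) ⟶ I m := fun m =>
    haveI : Mono (f.app (Opposite.op m)) := inferInstance
    Injective.factorThru (g.app (Opposite.op m) ≫ cπ I (Opposite.op m) m le_rfl) (f.app _)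
  have hh : ∀ m, f.app (Opposite.op m) ≫ h m = g.app (Opposite.op m) ≫ cπ I (Opposite.op m) m le_rfl :=
    fun m => Injective.comp_factorThru _ _
  refine ⟨toCofree h, ?_⟩
  ext n : 2
  refine cext fun m hm => ?_
  rw [NatTrans.comp_app, Category.assoc, toCofree_cπ, ← f.naturality_assoc, hh, g.naturality_assoc, map_cπ]

/-- The skyscraper system at zero. -/
noncomputable def sky (b : A) : ℕᵒᵖ ⥤ A where
  obj n := ∏ᶜ fun _ : PLift (n.unop = 0) => b
  map {m n} φ := Pi.lift fun _ => if h : m.unop = 0 then Pi.π (fun _ : PLift (m.unop = 0) => b) ⟨h⟩ else 0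
  map_id a := by
    refine Pi.hom_ext _ _ fun h => ?_
    rw [Pi.lift_π, dif_pos h.down, Category.id_comp]
  map_comp {a b' c} φ ψ := by
    refine Pi.hom_ext _ _ fun h => ?_
    rw [Pi.lift_π, Category.assoc, Pi.lift_π]
    by_cases hb : b'.unop = 0
    · rw [dif_pos hb, Pi.lift_π]
    · rw [dif_neg hb, comp_zero, dif_neg]
      intro ha
      exact hb (Nat.le_zero.mp (ha ▸ leOfHom φ.unop))

/-- The projection of the skyscraper. -/
noncomputable def sπ (b : A) (n : ℕᵒᵖ) (h : n.unop = 0) : (sky b).obj n ⟶ b :=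
  Pi.π (fun _ : PLift (n.unop = 0) => b) ⟨h⟩

theorem sext {b : A} {n : ℕᵒᵖ} {Z : A} {f g : Z ⟶ (sky b).obj n}
    (h : ∀ hn : n.unop = 0, f ≫ sπ b n hn = g ≫ sπ b n hn) : f = g :=
  Pi.hom_ext f g fun i => h i.down

theorem map_sπ (b : A) {m n : ℕᵒᵖ} (φ : m ⟶ n) (hn : n.unop = 0) :
    (sky b).map φ ≫ sπ b n hn = if h : m.unop = 0 then sπ b m h else 0 :=
  Pi.lift_π _ _

theorem injective_obj_zero (I : ℕᵒᵖ ⥤ A) [Injective I] : Injective (I.obj (Opposite.op 0)) := by
  constructor
  intro b c g f hf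
  let gh : sky b ⟶ I :=
    { app := fun n =>
        if h : n.unop = 0 then sπ b n h ≫ g ≫ I.map (homOfLE (show n.unop ≤ 0 by omega)).op else 0
      naturality := fun m n φ => by
        by_cases hm : m.unop = 0
        · have hn : n.unop = 0 := Nat.le_zero.mp (hm ▸ leOfHom φ.unop)
          rw [dif_pos hn, dif_pos hm, ← Category.assoc, map_sπ, dif_pos hm, Category.assoc, Category.assoc,
            ← I.map_comp]
          rfl
        · rw [dif_neg hm, zero_comp]
          by_cases hn : n.unop = 0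
          · rw [dif_pos hn, ← Category.assoc, map_sπ, dif_neg hm, zero_comp]
          · rw [dif_neg hn, comp_zero] }
  let fh : sky b ⟶ sky c :=
    { app := fun n => Pi.lift fun h : PLift (n.unop = 0) => sπ b n h.down ≫ f
      naturality := fun m n φ => sext fun hn => by
        rw [Category.assoc, Category.assoc, map_sπ]
        refine (congrArg ((sky b).map φ ≫ ·) (Pi.lift_π _ _)).trans ?_
        rw [← Category.assoc, map_sπ]
        by_cases hm : m.unop = 0
        · rw [dif_pos hm, dif_pos hm]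
          exact (Pi.lift_π (fun h : PLift (m.unop = 0) => sπ b m h.down ≫ f) ⟨hm⟩).symm
        · rw [dif_neg hm, dif_neg hm, zero_comp, comp_zero] }
  have hfh : ∀ n (hn : n.unop = 0), fh.app n ≫ sπ c n hn = sπ b n hn ≫ f := fun n hn => Pi.lift_π _ _
  haveI : ∀ n, Mono (fh.app n) := fun n => by
    refine ⟨fun {Z} a a' e => sext fun hn => ?_⟩
    rw [← cancel_mono f, Category.assoc, Category.assoc, ← hfh n hn, ← Category.assoc, e, Category.assoc]
  haveI : Mono fh := NatTrans.mono_of_mono_app fh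
  obtain ⟨k, hk⟩ := Injective.factors gh fh
  have hk0 : fh.app (Opposite.op 0) ≫ k.app (Opposite.op 0) = gh.app (Opposite.op 0) :=
    congrArg (fun t => NatTrans.app t (Opposite.op 0)) hk
  let jb : b ⟶ (sky b).obj (Opposite.op 0) := Pi.lift fun _ => 𝟙 b
  let jc : c ⟶ (sky c).obj (Opposite.op 0) := Pi.lift fun _ => 𝟙 c
  have hjb : ∀ hn, jb ≫ sπ b (Opposite.op 0) hn = 𝟙 b := fun hn => Pi.lift_π _ _
  have hjc : ∀ hn, jc ≫ sπ c (Opposite.op 0) hn = 𝟙 c := fun hn => Pi.lift_π _ _
  refine ⟨jc ≫ k.app (Opposite.op 0), ?_⟩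
  have e : f ≫ jc = jb ≫ fh.app (Opposite.op 0) := sext fun hn => by
    rw [Category.assoc, Category.assoc, hjc, hfh, ← Category.assoc, hjb, Category.comp_id, Category.id_comp]
  rw [← Category.assoc, e, Category.assoc, hk0]
  have e0 : gh.app (Opposite.op 0) = sπ b (Opposite.op 0) rfl ≫ g ≫
      I.map (homOfLE (le_refl 0)).op := by simp [gh]
  rw [e0, ← Category.assoc, hjb, Category.id_comp]
  show g ≫ I.map (𝟙 _) = g
  rw [I.map_id, Category.comp_id]

end

/-- For an abelian category A, the category of inverse systems (A_n)_n indexed by ℕ, i.e. of functors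
ℕᵒᵖ ⥤ A, has enough injectives if and only if A has enough injectives. (The second assertion of the
published proposition, describing the injective systems, is not part of this row.) -/
theorem result
    (A : Type u) [Category.{v} A] [Abelian A] :
    EnoughInjectives (ℕᵒᵖ ⥤ A) ↔ EnoughInjectives A := by
  constructor
  · intro hE
    constructor
    intro a
    obtain ⟨⟨J, hJ, f, hf⟩⟩ := hE.presentation ((Functor.const ℕᵒᵖ).obj a)
    haveI := hJ
    haveI := hf
    haveI : Mono (f.app (Opposite.op 0)) := inferInstance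
    exact ⟨⟨J.obj (Opposite.op 0), injective_obj_zero J, f.app (Opposite.op 0), inferInstance⟩⟩
  · intro hE
    constructor
    intro X
    let I : ℕ → A := fun n => Injective.under (X.obj (Opposite.op n))
    let η : X ⟶ cofree I := toCofree fun m => Injective.ι (X.obj (Opposite.op m))
    haveI : ∀ n, Mono (η.app n) := fun n => by
      haveI : Mono (η.app n ≫ cπ I n n.unop le_rfl) := by
        show Mono ((toCofree _).app n ≫ _)
        rw [toCofree_cπ, show X.map (homOfLE (le_refl n.unop)).op = 𝟙 _ from X.map_id n, Category.id_comp]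
        infer_instance
      exact mono_of_mono _ (cπ I n n.unop le_rfl)
    haveI : Mono η := NatTrans.mono_of_mono_app η
    exact ⟨⟨cofree I, cofree_injective I, η, inferInstance⟩⟩

end Groth.Agent.S14023
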