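import Groth.Statements.S14029
import Groth.Agent.SubTerm25.Basic
import Mathlib.CategoryTheory.Sites.Pullback
-- import your own Groth.Agent.* helpers here

set_option autoImplicit false
open CategoryTheory CategoryTheory.Limits Opposite
universe v u
open CohSite

namespace Groth.Agent.S14029

/-- Let (C, J) be a site and U an object such that every object has at most one morphism to U; assume
extension by the empty set j_! from sheaves of sets on the localized site C/U to sheaves of sets on
C exists (through sheafification on C and left Kan extensions along C/U → C). If V is weakly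
contractible in C — every epimorphism of sheaves of sets on C is surjective on sections over V —
then for any morphism a : V ⟶ U the object V → U of C/U is weakly contractible in C/U: every
epimorphism of sheaves of sets on C/U is surjective on sections over it. Hence C/U has enough weakly
contractible objects when C does. -/
theorem result
    {C : Type u} [Category.{v} C] (J : GrothendieckTopology C) (U : C)
    (hU : ∀ W : C, Subsingleton (W ⟶ U))
    [HasWeakSheafify J (Type (max u v))]
    [∀ (P : (Over U)ᵒᵖ ⥤ Type (max u v)), (Over.forget U).op.HasLeftKanExtension P]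
    (V : C) (hV : (∀ (A B : Sheaf J (Type (max u v))) (ψ : A ⟶ B), Epi ψ → Function.Surjective (ψ.hom.app (op V)))) (a : V ⟶ U) :
    ∀ (A B : Sheaf (J.over U) (Type (max u v))) (ψ : A ⟶ B), Epi ψ →
      Function.Surjective (ψ.hom.app (op (Over.mk a))) := by
  have : ∀ P : (Over U)ᵒᵖ ⥤ Type (max u v), (Over.forget U).op.HasPointwiseRightKanExtension P := fun P X =>
    (inferInstance : Limits.HasLimit (StructuredArrow.proj X (Over.forget U).op ⋙ P))
  have := GrothLib.SubTerm25.isIso_unit J U (Type (max u v)) hU
  intro A B ψ hψ b
  let adj := (Over.forget U).sheafAdjunctionContinuous (Type (max u v)) (J.over U) J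
  let L := (Over.forget U).sheafPullback (Type (max u v)) (J.over U) J
  have : L.PreservesEpimorphisms := Functor.preservesEpimorphisms_of_adjunction adj
  obtain ⟨c, hc⟩ := hV _ _ (L.map ψ) inferInstance ((adj.unit.app B).hom.app (Opposite.op (Over.mk a)) b)
  refine ⟨(inv (adj.unit.app A)).hom.app (Opposite.op (Over.mk a)) c, ?_⟩
  have h1 : inv (adj.unit.app A) ≫ ψ = ((Over.forget U).sheafPushforwardContinuous (Type (max u v)) (J.over U) J).map (L.map ψ) ≫
      inv (adj.unit.app B) := by
    rw [IsIso.inv_comp_eq, ← Category.assoc, IsIso.eq_comp_inv]
    exact adj.unit.naturality ψ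
  have h2 := ConcreteCategory.congr_hom (NatTrans.congr_app (congrArg (fun g : _ ⟶ B => g.hom) h1) (Opposite.op (Over.mk a))) c
  refine h2.trans ?_
  change (inv (adj.unit.app B)).hom.app (Opposite.op (Over.mk a)) ((L.map ψ).hom.app (Opposite.op V) c) = b
  rw [hc]
  exact ConcreteCategory.congr_hom
    (NatTrans.congr_app (congrArg (fun g : B ⟶ B => g.hom) (IsIso.hom_inv_id (adj.unit.app B))) (Opposite.op (Over.mk a))) b

end Groth.Agent.S14029
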