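import Groth.Statements.S1403
import Groth.Agent.Lib.DimForm6.Dim

set_option autoImplicit false
universe u
open FlatMor

namespace Groth.Agent.S1403

/-- Let A → B be an injective local homomorphism of local domains with B essentially of finite type and
flat over A. Then dim(B / m_A B) + trdeg_{κ(A)} κ(B) = trdeg_A B; all three quantities are finite
here, and the statement gives them as natural numbers d, e with d + e the transcendence degree of B
over A. -/
theorem result {A B : Type u} [CommRing A] [CommRing B] [IsDomain A] [IsDomain B] [IsLocalRing A] [IsLocalRing B]
    [Algebra A B] [IsLocalHom (algebraMap A B)] [FaithfulSMul A B] [Algebra.EssFiniteType A B] [Module.Flat A B] :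
    ∃ d e : ℕ, ringKrullDim (B ⧸ Ideal.map (algebraMap A B) (IsLocalRing.maximalIdeal A)) = d ∧
      Algebra.trdeg (IsLocalRing.ResidueField A) (IsLocalRing.ResidueField B) = e ∧ Algebra.trdeg A B = (d + e : ℕ) := by
  exact GrothLib.DimForm6.dim_add_trdeg_of_flat

end Groth.Agent.S1403
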