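import Groth.Statements.S14030
import Groth.Agent.Lib.ProEtS.ExtZeroMod

set_option autoImplicit false
set_option linter.style.haveILetI false
set_option backward.isDefEq.respectTransparency.types false
open CategoryTheory CategoryTheory.Limits AlgebraicGeometry Opposite
universe u
open EtModW

namespace Groth.Agent.S14030

/-- Let X be a scheme, Λ a commutative ring, I an ideal of Λ and j : U ⟶ X a quasi-compact open
immersion. Assume that extension by zero along j on the small étale sites sends constructible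
sheaves of Λ-modules on U to constructible sheaves on X (a standard fact, carried here as a
hypothesis). Let F be an I-adic pro-étale sheaf of Λ-modules on U: F has a compatible tower of
quotient maps F ⟶ Q_n modulo I^(n+1), each Q_n isomorphic to the pro-étale pullback of a
constructible étale sheaf, and the canonical map F ⟶ lim_n Q_n is an isomorphism. Then the extension
by zero j_!F on the small pro-étale site of X is again an I-adic pro-étale sheaf. (Continuity of the
inclusions of étale into pro-étale sites and of composition with j on both sites, and the existence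
of the étale extension by zero as a left adjoint, are carried as binders.) -/
theorem result
    (Λ : Type (u + 1)) [CommRing Λ] (I : Ideal Λ)
    {U X : Scheme.{u}} (j : U ⟶ X) [IsOpenImmersion j] [QuasiCompact j] [hje : Etale j] [WeaklyEtale j]
    [ProEtS.EpsCont U] [ProEtS.EpsCont X] [ProEtS.JPCont j]
    [(MorphismProperty.Over.map (P := EtCoh.etaleMP.{u}) ⊤ (f := j) hje).IsContinuous U.smallEtaleTopology X.smallEtaleTopology]
    [((MorphismProperty.Over.map (P := EtCoh.etaleMP.{u}) ⊤ (f := j) hje).sheafPushforwardContinuous (ModuleCat.{u + 1} Λ) U.smallEtaleTopology X.smallEtaleTopology).IsRightAdjoint]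
    (hext : ∀ E : EtModW.Mod Λ U, EtModW.IsConstructible Λ E →
      EtModW.IsConstructible Λ (((MorphismProperty.Over.map (P := EtCoh.etaleMP.{u}) ⊤ (f := j) hje).sheafPullback (ModuleCat.{u + 1} Λ) U.smallEtaleTopology X.smallEtaleTopology).obj E))
    (F : EtModW.ModP Λ U)
    (hF : (∃ (Q : ℕᵒᵖ ⥤ EtModW.ModP Λ U) (p : (Functor.const ℕᵒᵖ).obj F ⟶ Q),
        (∀ n : ℕ, ARSys.IsQuot (I ^ (n + 1)) (p.app (op n))) ∧
        (∀ n : ℕ, ∃ E : EtModW.Mod Λ U, EtModW.IsConstructible Λ E ∧
          Nonempty ((EtModW.epsPullMod Λ U).obj E ≅ Q.obj (op n))) ∧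
        IsIso (limit.lift Q (Cone.mk F p)))) :
    (∃ (Q : ℕᵒᵖ ⥤ EtModW.ModP Λ X) (p : (Functor.const ℕᵒᵖ).obj (((ProEtS.compP j).sheafPullback (ModuleCat.{u + 1} Λ) (Scheme.ProEt.topology U) (Scheme.ProEt.topology X)).obj F) ⟶ Q),
      (∀ n : ℕ, ARSys.IsQuot (I ^ (n + 1)) (p.app (op n))) ∧
      (∀ n : ℕ, ∃ E : EtModW.Mod Λ X, EtModW.IsConstructible Λ E ∧
        Nonempty ((EtModW.epsPullMod Λ X).obj E ≅ Q.obj (op n))) ∧
      IsIso (limit.lift Q (Cone.mk (((ProEtS.compP j).sheafPullback (ModuleCat.{u + 1} Λ) (Scheme.ProEt.topology U) (Scheme.ProEt.topology X)).obj F) p))) := by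
  obtain ⟨Q, p, hQ, hc, hlim⟩ := hF
  let G := GrothLib.ProEtS.extZeroM j Λ
  let adj := GrothLib.ProEtS.extZeroMAdj j Λ
  haveI : G.Additive := adj.left_adjoint_additive
  let p' : (Functor.const ℕᵒᵖ).obj (G.obj F) ⟶ Q ⋙ G :=
    { app := fun n => G.map (p.app n)
      naturality := fun a b f => by
        show 𝟙 _ ≫ G.map (p.app b) = G.map (p.app a) ≫ G.map (Q.map f)
        rw [← G.map_comp, Category.id_comp]
        refine congrArg G.map ?_
        exact (Category.id_comp _).symm.trans (p.naturality f) }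
  refine ⟨Q ⋙ G, p', fun n => GrothLib.ProEtS.isQuot_map_leftAdjoint adj (hQ n), fun n => ?_, ?_⟩
  · obtain ⟨E, hE, ⟨e⟩⟩ := hc n
    obtain ⟨e'⟩ := GrothLib.ProEtS.nonempty_extZeroM_eps_iso (Λ := Λ) j (hje := hje)
    exact ⟨_, hext E hE, ⟨e'.app E ≪≫ G.mapIso e⟩⟩
  · exact GrothLib.ProEtS.isIso_lift_extZeroM j p hlim p' (fun n => rfl)

end Groth.Agent.S14030
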