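import Groth.Statements.S14032
import Mathlib.RingTheory.TensorProduct.Basic
import Mathlib.RingTheory.Noetherian.Nilpotent
import Mathlib.LinearAlgebra.TensorProduct.Quotient
import Mathlib.Tactic.Ring
import Mathlib.Tactic.Abel
import Mathlib.RingTheory.Ideal.Quotient.Operations

set_option autoImplicit false
universe u v
open W4c1frobunstiva

namespace Groth.Agent.S14032

open TensorProduct in
/-- Let R be a commutative Noetherian ring with nilradical n, M an R-module and r a natural number. Then
M is NR-free of rank r — generated by r elements such that every linear relation among them has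
nilpotent coefficients — if and only if (R/n) ⊗_R M is free of rank r over R/n, in the sense of
admitting a basis indexed by r elements. (The published statement assumes M finitely generated and
also gives the converse when R is local; over a Noetherian ring the nilradical is nilpotent, the
case used here, and finite generation is not needed.) -/
theorem result (R : Type u) [CommRing R]
    [IsNoetherianRing R] (M : Type v) [AddCommGroup M] [Module R M] (r : ℕ) :
    W4c1frobunstiva.IsNRFree R M r ↔
      Nonempty (Module.Basis (Fin r) (R ⧸ nilradical R) ((R ⧸ nilradical R) ⊗[R] M)) := by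
  classical
  let π : M →ₗ[R] (R ⧸ (nilradical R)) ⊗[R] M := TensorProduct.mk R (R ⧸ (nilradical R)) M 1
  have hπ : Function.Surjective π := fun t => by
    induction t using TensorProduct.induction_on with
    | zero => exact ⟨0, map_zero _⟩
    | tmul q x =>
      obtain ⟨q, rfl⟩ := Ideal.Quotient.mk_surjective q
      refine ⟨q • x, ?_⟩
      show 1 ⊗ₜ (q • x) = _
      rw [← TensorProduct.smul_tmul, Algebra.smul_def, mul_one]
      rfl
    | add t t' ht ht' =>
      obtain ⟨x, rfl⟩ := ht
      obtain ⟨y, rfl⟩ := ht'
      exact ⟨x + y, map_add _ _ _⟩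
  have hker : ∀ x, π x = 0 → x ∈ (nilradical R) • (⊤ : Submodule R M) := fun x hx => by
    have h := congrArg (TensorProduct.quotTensorEquivQuotSMul M (nilradical R)) hx
    rw [map_zero] at h
    simpa [π, Submodule.Quotient.mk_eq_zero] using h
  have hsm : ∀ (q : R) (x : M), Ideal.Quotient.mk (nilradical R) q • π x = π (q • x) := fun q x => by
    rw [map_smul, ← IsScalarTower.algebraMap_smul (R ⧸ (nilradical R)) q (π x)]
    rfl
  constructor
  · rintro ⟨m, hm, hrel⟩
    refine ⟨Module.Basis.mk (v := fun i => π (m i)) ?_ ?_⟩
    · rw [Fintype.linearIndependent_iff]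
      intro c hc j
      choose q hq using fun i => Ideal.Quotient.mk_surjective (c i)
      have h0 : π (∑ i, q i • m i) = 0 := by
        rw [map_sum, ← hc]
        exact Finset.sum_congr rfl fun i _ => by rw [← hq i, hsm]
      have h1 := hker _ h0
      rw [← hm] at h1
      obtain ⟨d, hd, hde⟩ : ∃ d : Fin r → R, (∀ i, d i ∈ (nilradical R)) ∧ ∑ i, d i • m i = ∑ i, q i • m i := by
        obtain ⟨d, hd, hde⟩ := Submodule.mem_ideal_smul_span_iff_exists_sum (nilradical R) m _ |>.mp h1
        exact ⟨fun i => d i, hd, by rw [← hde, Finsupp.sum_fintype]; exact fun i => zero_smul R _⟩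
      have h2 : IsNilpotent (q j - d j) := hrel (fun i => q i - d i) (by
        simp only [sub_smul, Finset.sum_sub_distrib, hde, sub_self]) j
      rw [← hq j, Ideal.Quotient.eq_zero_iff_mem, show q j = (q j - d j) + d j by ring]
      exact add_mem (mem_nilradical.mpr h2) (hd j)
    · rintro t -
      obtain ⟨x, rfl⟩ := hπ t
      obtain ⟨c, rfl⟩ := (Submodule.mem_span_range_iff_exists_fun R).mp (hm ▸ Submodule.mem_top : x ∈ _)
      rw [map_sum]
      exact Submodule.sum_mem _ fun i _ => by
        rw [← hsm]; exact Submodule.smul_mem _ _ (Submodule.subset_span ⟨i, rfl⟩)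
  · rintro ⟨b⟩
    choose m hm using fun i => hπ (b i)
    refine ⟨m, ?_, fun a ha i => ?_⟩
    · let N := Submodule.span R (Set.range m)
      have h1 : ∀ k : ℕ, (⊤ : Submodule R M) ≤ N ⊔ (nilradical R) ^ k • ⊤ := fun k => by
        induction k with
        | zero => simp
        | succ k ih =>
          have h0 : (⊤ : Submodule R M) ≤ N ⊔ (nilradical R) • ⊤ := fun x _ => by
            choose c hc using fun i => Ideal.Quotient.mk_surjective (b.repr (π x) i)
            refine Submodule.mem_sup.mpr ⟨∑ i, c i • m i, ?_, x - ∑ i, c i • m i, hker _ ?_, by abel⟩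
            · exact Submodule.sum_mem _ fun i _ => Submodule.smul_mem _ _ (Submodule.subset_span ⟨i, rfl⟩)
            · rw [map_sub, map_sum, sub_eq_zero]
              conv_lhs => rw [← b.sum_repr (π x)]
              exact Finset.sum_congr rfl fun i _ => by rw [← hsm, hm, hc]
          refine h0.trans (sup_le le_sup_left ?_)
          calc (nilradical R) • (⊤ : Submodule R M) ≤ (nilradical R) • (N ⊔ (nilradical R) ^ k • ⊤) := smul_mono_right _ ih
            _ = (nilradical R) • N ⊔ (nilradical R) ^ (k + 1) • ⊤ := by rw [Submodule.smul_sup, pow_succ', mul_smul]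
            _ ≤ N ⊔ (nilradical R) ^ (k + 1) • ⊤ := sup_le_sup_right Submodule.smul_le_right _
      obtain ⟨k, hk⟩ := IsNoetherianRing.isNilpotent_nilradical R
      refine top_le_iff.mp ((h1 k).trans ?_)
      rw [show (nilradical R) ^ k = 0 from hk]
      simp [N]
    · have h0 : ∑ j, Ideal.Quotient.mk (nilradical R) (a j) • b j = 0 := by
        rw [← map_zero π, ← ha, map_sum]
        exact Finset.sum_congr rfl fun j _ => by rw [← hm, hsm]
      exact mem_nilradical.mp (Ideal.Quotient.eq_zero_iff_mem.mp
        (Fintype.linearIndependent_iff.mp b.linearIndependent _ h0 i))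

end Groth.Agent.S14032
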