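import Groth.Statements.S14033
import Mathlib

set_option autoImplicit false
universe u v
open W4c1frobunstiva

namespace Groth.Agent.S14033

open DualNumber Pointwise in
theorem smul_decomp {R : Type u} [CommRing R] {M : Type v}
    [AddCommGroup M] [Module R[ε] M] [Module R M] [IsScalarTower R R[ε] M] (z : R[ε]) (x : M) :
    z • x = TrivSqZeroExt.fst z • x + TrivSqZeroExt.snd z • ((ε : R[ε]) • x) := by
  have h : z = TrivSqZeroExt.fst z • (1 : R[ε]) + TrivSqZeroExt.snd z • (ε : R[ε]) := by
    ext <;> simp [TrivSqZeroExt.fst_one, TrivSqZeroExt.snd_one]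
  conv_lhs => rw [h]
  rw [add_smul, smul_assoc, smul_assoc, one_smul]

open DualNumber Pointwise in
/-- Let R be a commutative ring, R[ε] its ring of dual numbers (ε² = 0), M an R[ε]-module and r a
natural number. Then M is free of rank r over R[ε] (admits a basis of r elements) if and only if the
R-modules M/εM and εM are both free of rank r. (The published statement concerns a coherent sheaf on
the product of a scheme S with Spec ℤ[ε] and local freeness of rank r; that assertion is local, and
this row is its form over one ring, with no finiteness assumption on M and no hypothesis on R.) -/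
theorem result (R : Type u) [CommRing R] (M : Type v)
    [AddCommGroup M] [Module R[ε] M] [Module R M] [IsScalarTower R R[ε] M] (r : ℕ) :
    Nonempty (Module.Basis (Fin r) R[ε] M) ↔
      (Nonempty (Module.Basis (Fin r) R (M ⧸ ((ε : R[ε]) • (⊤ : Submodule R[ε] M)))) ∧
        Nonempty (Module.Basis (Fin r) R (((ε : R[ε]) • (⊤ : Submodule R[ε] M)).restrictScalars R))) := by
  set N : Submodule R[ε] M := (ε : R[ε]) • (⊤ : Submodule R[ε] M)
  have hmem : ∀ x, x ∈ N ↔ ∃ y, (ε : R[ε]) • y = x := fun x => by
    rw [Submodule.mem_smul_pointwise_iff_exists]; simp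
  have heps : ∀ x : M, (ε : R[ε]) • ((ε : R[ε]) • x) = 0 := fun x => by
    rw [← mul_smul, DualNumber.eps_mul_eps, zero_smul]
  have hmk : ∀ (c : R) (x : M), (Submodule.Quotient.mk (c • x) : M ⧸ N) = c • Submodule.Quotient.mk x :=
    fun _ _ => rfl
  constructor
  · rintro ⟨b⟩
    constructor
    · refine ⟨Module.Basis.mk (v := fun i => (Submodule.Quotient.mk (b i) : M ⧸ N)) ?_ ?_⟩
      · rw [Fintype.linearIndependent_iff]
        intro c hc i
        have hsum : (∑ i, c i • b i) ∈ N := by
          rw [← Submodule.Quotient.mk_eq_zero, ← Submodule.mkQ_apply, map_sum, ← hc]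
          rfl
        obtain ⟨y, hy⟩ := (hmem _).mp hsum
        have h0 : ∀ j, (ε : R[ε]) * b.repr y j = c j • (1 : R[ε]) := by
          intro j
          have := congrArg (fun x => b.repr x j) hy
          simp only [map_smul, Finsupp.smul_apply, smul_eq_mul] at this
          rw [this]
          have : (∑ i, c i • b i) = ∑ i, (c i • (1 : R[ε])) • b i := by simp [smul_assoc]
          rw [this, Module.Basis.repr_sum_self]
        have := congrArg TrivSqZeroExt.fst (h0 i)
        simpa [TrivSqZeroExt.fst_one] using this.symm
      · rintro x -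
        obtain ⟨x, rfl⟩ := Submodule.Quotient.mk_surjective N x
        rw [← b.sum_repr x, ← Submodule.mkQ_apply, map_sum]
        refine Submodule.sum_mem _ fun i _ => ?_
        rw [smul_decomp, map_add]
        refine Submodule.add_mem _ ?_ ?_
        · rw [Submodule.mkQ_apply, hmk]
          exact Submodule.smul_mem _ _ (Submodule.subset_span ⟨i, rfl⟩)
        · rw [Submodule.mkQ_apply, (Submodule.Quotient.mk_eq_zero N).mpr]
          · exact Submodule.zero_mem _
          · exact Submodule.smul_of_tower_mem N _ ((hmem _).mpr ⟨_, rfl⟩)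
    · let v : Fin r → N.restrictScalars R := fun i => ⟨(ε : R[ε]) • b i, (hmem _).mpr ⟨_, rfl⟩⟩
      refine ⟨Module.Basis.mk (v := v) ?_ ?_⟩
      · rw [Fintype.linearIndependent_iff]
        intro c hc i
        have h := congrArg (fun z : N.restrictScalars R => b.repr (z : M) i) hc
        have hsum : ((∑ j, c j • v j : N.restrictScalars R) : M) = ∑ j, (c j • (ε : R[ε])) • b j := by
          simp [v, smul_assoc]
        simp only [hsum, Module.Basis.repr_sum_self, Submodule.coe_zero, map_zero, Finsupp.zero_apply] at h
        simpa using congrArg TrivSqZeroExt.snd h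
      · rintro ⟨x, hx⟩ -
        obtain ⟨y, rfl⟩ := (hmem x).mp hx
        have : (⟨(ε : R[ε]) • y, hx⟩ : N.restrictScalars R) =
            ∑ i, TrivSqZeroExt.fst (b.repr y i) • v i := by
          apply Subtype.ext
          simp only [v, Submodule.coe_sum, Submodule.coe_smul_of_tower]
          conv_lhs => rw [← b.sum_repr y, Finset.smul_sum]
          refine Finset.sum_congr rfl fun i _ => ?_
          rw [smul_decomp (b.repr y i), smul_add, smul_comm (ε : R[ε]) (TrivSqZeroExt.snd _), heps,
            smul_zero, add_zero, smul_comm]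
        rw [this]
        exact Submodule.sum_mem _ fun i _ => Submodule.smul_mem _ _ (Submodule.subset_span ⟨i, rfl⟩)
  · rintro ⟨⟨e⟩, ⟨e'⟩⟩
    choose m hm using fun i => Submodule.Quotient.mk_surjective N (e i)
    have hdec : ∀ x : M, ∃ (a : Fin r → R) (y : M), x = (∑ i, a i • m i) + (ε : R[ε]) • y := by
      intro x
      refine ⟨fun i => e.repr (Submodule.Quotient.mk x) i, ?_⟩
      obtain ⟨y, hy⟩ := (hmem (x - ∑ i, e.repr (Submodule.Quotient.mk x) i • m i)).mp (by
        rw [← Submodule.Quotient.mk_eq_zero, Submodule.Quotient.mk_sub, sub_eq_zero,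
          ← Submodule.mkQ_apply N (∑ _, _), map_sum]
        conv_lhs => rw [← e.sum_repr (Submodule.Quotient.mk x)]
        exact Finset.sum_congr rfl fun i _ => by rw [Submodule.mkQ_apply, hmk, hm])
      exact ⟨y, by rw [hy, add_sub_cancel]⟩
    let v : Fin r → N.restrictScalars R := fun i => ⟨(ε : R[ε]) • m i, (hmem _).mpr ⟨_, rfl⟩⟩
    have hv : ⊤ ≤ Submodule.span R (Set.range v) := by
      rintro ⟨x, hx⟩ -
      obtain ⟨y, rfl⟩ := (hmem x).mp hx
      obtain ⟨a, z, hy⟩ := hdec y
      have : (⟨(ε : R[ε]) • y, hx⟩ : N.restrictScalars R) = ∑ i, a i • v i := by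
        apply Subtype.ext
        simp only [v, Submodule.coe_sum, Submodule.coe_smul_of_tower]
        rw [hy, smul_add, heps, add_zero, Finset.smul_sum]
        exact Finset.sum_congr rfl fun i _ => smul_comm _ _ _
      rw [this]
      exact Submodule.sum_mem _ fun i _ => Submodule.smul_mem _ _ (Submodule.subset_span ⟨i, rfl⟩)
    have hind : LinearIndependent R v := by
      cases subsingleton_or_nontrivial R
      · rw [Fintype.linearIndependent_iff]
        exact fun _ _ _ => Subsingleton.elim _ _
      · haveI := Module.Finite.of_basis e'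
        have h := basisOfTopLeSpanOfCardEqFinrank v hv (by rw [Module.finrank_eq_card_basis e'])
        have h' := (basisOfTopLeSpanOfCardEqFinrank v hv (by rw [Module.finrank_eq_card_basis e'])).linearIndependent
        rwa [coe_basisOfTopLeSpanOfCardEqFinrank] at h'
    refine ⟨Module.Basis.mk (v := m) ?_ ?_⟩
    · rw [Fintype.linearIndependent_iff]
      intro c hc
      have h1 : ∀ i, TrivSqZeroExt.fst (c i) = 0 := by
        refine Fintype.linearIndependent_iff.mp e.linearIndependent _ ?_
        have := congrArg N.mkQ hc
        rw [map_zero, map_sum] at this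
        rw [← this]
        refine Finset.sum_congr rfl fun i _ => ?_
        rw [smul_decomp (c i), map_add, Submodule.mkQ_apply, Submodule.mkQ_apply,
          (Submodule.Quotient.mk_eq_zero N).mpr (Submodule.smul_of_tower_mem N _ ((hmem _).mpr ⟨_, rfl⟩)),
          add_zero, hmk, hm]
      have h2 : ∀ i, TrivSqZeroExt.snd (c i) = 0 := by
        refine Fintype.linearIndependent_iff.mp hind _ ?_
        apply Subtype.ext
        simp only [v, Submodule.coe_sum, Submodule.coe_smul_of_tower, Submodule.coe_zero]
        rw [← hc]
        refine Finset.sum_congr rfl fun i _ => ?_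
        rw [smul_decomp (c i), h1, zero_smul, zero_add]
      exact fun i => TrivSqZeroExt.ext (by simp [h1]) (by simp [h2])
    · rintro x -
      obtain ⟨a, y, rfl⟩ := hdec x
      obtain ⟨a', z, rfl⟩ := hdec y
      rw [smul_add, heps, add_zero, Finset.smul_sum]
      refine Submodule.add_mem _ (Submodule.sum_mem _ fun i _ => ?_) (Submodule.sum_mem _ fun i _ => ?_)
      · exact Submodule.smul_of_tower_mem _ _ (Submodule.subset_span ⟨i, rfl⟩)
      · exact Submodule.smul_mem _ _ (Submodule.smul_of_tower_mem _ _ (Submodule.subset_span ⟨i, rfl⟩))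

end Groth.Agent.S14033
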