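import Groth.Prelude.Def_W4c1frobunstivaNR
import Mathlib

set_option autoImplicit false
universe u
open W4c1frobunstiva

namespace Groth.Agent.S14034

lemma exists_ker_basis {R : Type u} [CommRing R] [IsLocalRing R] [IsNoetherianRing R] {N : Type u} [AddCommGroup N] [Module R N]
    [Module.Free R N] [Module.Finite R N] {r t : ℕ} (ht : Module.finrank R N = t) (ψ : (Fin r → R) →ₗ[R] N)
    (hψ : Function.Surjective ψ) : t ≤ r ∧ Nonempty (Module.Basis (Fin (r - t)) R (LinearMap.ker ψ)) := by
  obtain ⟨σ, hσ⟩ := Module.projective_lifting_property ψ LinearMap.id hψ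
  let p : (Fin r → R) →ₗ[R] LinearMap.ker ψ := (LinearMap.id - σ.comp ψ).codRestrict _ fun v => by
    have := LinearMap.congr_fun hσ (ψ v)
    simp only [LinearMap.comp_apply, LinearMap.id_apply] at this
    simp [LinearMap.mem_ker, this]
  have hp : p.comp (LinearMap.ker ψ).subtype = LinearMap.id := LinearMap.ext fun v => Subtype.ext (by
    simp [p, LinearMap.mem_ker.1 v.2])
  haveI : Module.Projective R (LinearMap.ker ψ) := Module.Projective.of_split _ _ hp
  haveI : Module.Free R (LinearMap.ker ψ) := Module.free_of_flat_of_isLocalRing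
  let e : (Fin r → R) ≃ₗ[R] LinearMap.ker ψ × N := LinearEquiv.ofLinear (p.prod ψ)
    ((LinearMap.ker ψ).subtype.coprod σ)
    (by
      have h1 : ∀ w, ψ (σ w) = w := fun w => LinearMap.congr_fun hσ w
      apply LinearMap.prod_ext
      · ext v <;> simp [p, LinearMap.mem_ker.1 v.2]
      · ext v <;> simp [p, h1])
    (LinearMap.ext fun v => by simp [p])
  have hr : r = Module.finrank R (LinearMap.ker ψ) + t := by
    rw [← ht, ← Module.finrank_prod, ← e.finrank_eq, Module.finrank_fin_fun]
  exact ⟨by omega, ⟨Module.finBasisOfFinrankEq R _ (by omega)⟩⟩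

lemma isNRFree_of_basis {R M : Type u} [CommRing R] [AddCommGroup M] [Module R M] {n : ℕ}
    (b : Module.Basis (Fin n) R M) : W4c1frobunstiva.IsNRFree R M n :=
  ⟨b, b.span_eq, fun a ha i => by
    rw [Fintype.linearIndependent_iff.1 b.linearIndependent a ha i]; exact IsNilpotent.zero⟩


/-- Let R be a Noetherian local ring and f an element of R whose annihilator consists of nilpotent
elements (a f = 0 forces a nilpotent), r, s and l ≤ s natural numbers, N the quotient of the free
module R^s by the submodule spanned by f e_1, …, f e_l (e_i the standard basis vectors), and φ : R^r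
→ N a surjective linear map. Then the kernel of φ is NR-free of rank r + l − s: it is generated by r
+ l − s elements every linear relation among which has nilpotent coefficients; and when l = 0 the
kernel is free of rank r − s. (The published statement takes R Noetherian with irreducible spectrum
and R_red a domain, not necessarily local, and f arbitrary. Over the coordinate ring of the real
2-sphere the kernel of (x, y, z) : R³ → R is not free, and over k[x, y]/(y², xy) localised at (x, y)
with f = y the kernel of R → R/(y) is spanned by y with the non-nilpotent relation x·y = 0. The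
published argument uses that the kernel of a surjection of free modules is free, true over a local
ring, and that a f = 0 forces a nilpotent, which is the hypothesis taken here; it holds when R_red
is a domain and f is not nilpotent, and also for f = ε in A[ε] with A a domain, so primality of the
nilradical is not assumed.) -/
theorem result (R : Type u)
    [CommRing R] [IsNoetherianRing R] [IsLocalRing R] (f : R)
    (hann : ∀ a : R, a * f = 0 → IsNilpotent a) (r s l : ℕ) (hls : l ≤ s)
    (φ : (Fin r → R) →ₗ[R]
      ((Fin s → R) ⧸ Submodule.span R (Set.range fun i : Fin l => (Pi.single (Fin.castLE hls i) f : Fin s → R))))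
    (hφ : Function.Surjective φ) :
    W4c1frobunstiva.IsNRFree R (LinearMap.ker φ) (r + l - s) ∧
      (l = 0 → Nonempty (Module.Basis (Fin (r - s)) R (LinearMap.ker φ))) := by
  classical
  let W := Submodule.span R (Set.range fun i : Fin l => (Pi.single (Fin.castLE hls i) f : Fin s → R))
  refine ⟨?_, fun hl => ?_⟩
  swap
  · subst hl
    have hW0 : W = ⊥ := by simp only [W, Set.range_eq_empty, Submodule.span_empty]
    let e : ((Fin s → R) ⧸ W) ≃ₗ[R] (Fin s → R) := Submodule.quotEquivOfEqBot W hW0
    obtain ⟨-, ⟨b⟩⟩ := exists_ker_basis (Module.finrank_fin_fun R) (e.toLinearMap.comp φ) (e.surjective.comp hφ)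
    exact ⟨b.map (LinearEquiv.ofEq _ _ (by rw [LinearMap.ker_comp, LinearEquiv.ker, Submodule.comap_bot]))⟩
  by_cases hf : IsUnit f
  · let ι : Fin (s - l) → Fin s := fun i => ⟨l + i, by omega⟩
    let π : (Fin s → R) →ₗ[R] (Fin (s - l) → R) := LinearMap.funLeft R R ι
    have hπ : Function.Surjective π := LinearMap.funLeft_surjective_of_injective _ _ _
      fun i j h => by simpa [ι, Fin.ext_iff] using h
    have hker : LinearMap.ker π = W := by
      refine le_antisymm (fun v hv => ?_) (Submodule.span_le.2 ?_)
      · have hv' : v = ∑ i : Fin l, ((hf.unit⁻¹ : Rˣ) * v (Fin.castLE hls i) : R) •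
            (Pi.single (Fin.castLE hls i) f : Fin s → R) := by
          funext j
          rw [Finset.sum_apply]
          by_cases hj : (j : ℕ) < l
          · have hjc : Fin.castLE hls ⟨j, hj⟩ = j := Fin.ext rfl
            rw [Finset.sum_eq_single (⟨j, hj⟩ : Fin l), hjc, Pi.smul_apply, Pi.single_eq_same, smul_eq_mul,
              mul_right_comm, IsUnit.val_inv_mul, one_mul]
            · intro b _ hb
              rw [Pi.smul_apply, Pi.single_eq_of_ne (show j ≠ Fin.castLE hls b from fun h => hb (Fin.ext (show b.val = j.val from (congrArg Fin.val h).symm))),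
                smul_zero]
            · simp
          · rw [Finset.sum_eq_zero fun b _ => by
              rw [Pi.smul_apply, Pi.single_eq_of_ne (fun h => hj (by
                rw [h]; exact b.2)), smul_zero]]
            have := congrFun (LinearMap.mem_ker.1 hv) ⟨j - l, by omega⟩
            simpa [π, ι, LinearMap.funLeft_apply, Nat.add_sub_cancel' (not_lt.1 hj)] using this
        rw [hv']
        exact Submodule.sum_mem _ fun i _ => Submodule.smul_mem _ _ (Submodule.subset_span ⟨i, rfl⟩)
      · rintro _ ⟨i, rfl⟩
        refine LinearMap.mem_ker.2 (funext fun j => ?_)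
        simp only [π, LinearMap.funLeft_apply, Pi.zero_apply]
        exact Pi.single_eq_of_ne (fun h => by
          have := congrArg Fin.val h
          simp [ι] at this
          omega) _
    let e : ((Fin s → R) ⧸ W) ≃ₗ[R] (Fin (s - l) → R) :=
      (Submodule.quotEquivOfEq _ _ hker.symm).trans (π.quotKerEquivOfSurjective hπ)
    obtain ⟨hle, ⟨b⟩⟩ := exists_ker_basis (Module.finrank_fin_fun R) (e.toLinearMap.comp φ) (e.surjective.comp hφ)
    have hn : r - (s - l) = r + l - s := by omega
    exact isNRFree_of_basis ((b.map (LinearEquiv.ofEq _ _ (by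
      rw [LinearMap.ker_comp, LinearEquiv.ker, Submodule.comap_bot]))).reindex (finCongr hn))
  obtain ⟨ψ, hψ⟩ := Module.projective_lifting_property W.mkQ φ W.mkQ_surjective
  have hfm : f ∈ IsLocalRing.maximalIdeal R := (IsLocalRing.mem_maximalIdeal f).2 hf
  have hψs : Function.Surjective ψ := by
    rw [← LinearMap.range_eq_top]
    refine top_le_iff.1 (Submodule.le_of_le_smul_of_le_jacobson_bot (I := IsLocalRing.maximalIdeal R)
      (IsNoetherian.noetherian _) (IsLocalRing.maximalIdeal_le_jacobson ⊥) fun v _ => ?_)
    obtain ⟨a, ha⟩ := hφ (W.mkQ v)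
    have h1 : v - ψ a ∈ W := by
      rw [← Submodule.ker_mkQ W, LinearMap.mem_ker, map_sub, ← ha, ← hψ]
      simp
    rw [← add_sub_cancel (ψ a) v]
    refine Submodule.add_mem_sup (LinearMap.mem_range_self ψ a) ?_
    refine Submodule.span_le.2 ?_ h1
    rintro _ ⟨i, rfl⟩
    have hsm : (Pi.single (Fin.castLE hls i) f : Fin s → R) = f • Pi.single (Fin.castLE hls i) (1 : R) := by
      rw [← Pi.single_smul, smul_eq_mul, mul_one]
    show (Pi.single (Fin.castLE hls i) f : Fin s → R) ∈ _
    rw [hsm]
    exact Submodule.smul_mem_smul hfm Submodule.mem_top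
  obtain ⟨hsr, ⟨b⟩⟩ := exists_ker_basis (Module.finrank_fin_fun R) ψ hψs
  choose u hu using fun i : Fin l => hψs (Pi.single (Fin.castLE hls i) (1 : R))
  have hmem : ∀ v, v ∈ LinearMap.ker φ ↔ ψ v ∈ W := fun v => by
    rw [LinearMap.mem_ker, ← hψ, LinearMap.comp_apply, Submodule.mkQ_apply, Submodule.Quotient.mk_eq_zero]
  have hψu : ∀ i, ψ (f • u i) = Pi.single (Fin.castLE hls i) f := fun i => by
    rw [map_smul, hu, ← Pi.single_smul, smul_eq_mul, mul_one]
  let m : Fin (r - s) ⊕ Fin l → LinearMap.ker φ := Sum.elim
    (fun j => ⟨(b j : Fin r → R), (hmem _).2 (by rw [LinearMap.mem_ker.1 (b j).2]; exact W.zero_mem)⟩)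
    (fun i => ⟨f • u i, (hmem _).2 (by rw [hψu]; exact Submodule.subset_span ⟨i, rfl⟩)⟩)
  let ec : Fin (r - s) ⊕ Fin l ≃ Fin (r + l - s) := finSumFinEquiv.trans (finCongr (by omega))
  refine ⟨m ∘ ec.symm, ?_, fun a ha i => ?_⟩
  · rw [Set.range_comp, ec.symm.surjective.range_eq, Set.image_univ, eq_top_iff]
    rintro ⟨v, hv⟩ -
    obtain ⟨c, hc⟩ := (Submodule.mem_span_range_iff_exists_fun R).1 ((hmem v).1 hv)
    have hk : v - ∑ i, c i • (f • u i) ∈ LinearMap.ker ψ := by
      rw [LinearMap.mem_ker, map_sub, map_sum, ← hc]
      simp [hψu]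
    have hrepr := congrArg (fun z : LinearMap.ker ψ => (z : Fin r → R)) (b.sum_repr ⟨_, hk⟩)
    simp only [Submodule.coe_sum, SetLike.val_smul] at hrepr
    have hvsum : (⟨v, hv⟩ : LinearMap.ker φ) =
        ∑ j, b.repr ⟨_, hk⟩ j • m (Sum.inl j) + ∑ i, c i • m (Sum.inr i) := by
      apply Subtype.ext
      simp only [Submodule.coe_add, Submodule.coe_sum, SetLike.val_smul, m, Sum.elim_inl, Sum.elim_inr]
      rw [hrepr, sub_add_cancel]
    rw [hvsum]
    exact Submodule.add_mem _ (Submodule.sum_mem _ fun j _ => Submodule.smul_mem _ _ (Submodule.subset_span ⟨_, rfl⟩))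
      (Submodule.sum_mem _ fun j _ => Submodule.smul_mem _ _ (Submodule.subset_span ⟨_, rfl⟩))
  · have h0 : ∑ x : Fin (r - s) ⊕ Fin l, a (ec x) • m x = 0 := by
      rw [← ha]
      exact Fintype.sum_equiv ec _ _ fun x => by simp
    rw [Fintype.sum_sum_type] at h0
    have h1 := congrArg (fun z : LinearMap.ker φ => (z : Fin r → R)) h0
    simp only [Submodule.coe_add, Submodule.coe_sum, SetLike.val_smul, m, Sum.elim_inl, Sum.elim_inr,
      ZeroMemClass.coe_zero] at h1
    have h2 := congrArg ψ h1
    simp only [map_add, map_sum, map_zero, map_smul ψ (a _) _] at h2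
    simp only [LinearMap.mem_ker.1 (b _).2, smul_zero, Finset.sum_const_zero, zero_add, hψu] at h2
    have hc : ∀ i : Fin l, a (ec (Sum.inr i)) * f = 0 := fun i => by
      have h3 := congrFun h2 (Fin.castLE hls i)
      rw [Finset.sum_apply, Finset.sum_eq_single i] at h3
      · simpa using h3
      · intro j _ hj
        rw [Pi.smul_apply, Pi.single_eq_of_ne (show Fin.castLE hls i ≠ Fin.castLE hls j from
          fun h => hj (Fin.castLE_injective hls h).symm), smul_zero]
      · simp
    obtain ⟨x, rfl⟩ := ec.surjective i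
    rcases x with j | j
    · simp only [smul_smul, hc, zero_smul, Finset.sum_const_zero, add_zero] at h1
      have hli : ∑ j, a (ec (Sum.inl j)) • b j = 0 := Subtype.ext (by simpa using h1)
      rw [Fintype.linearIndependent_iff.1 b.linearIndependent _ hli j]
      exact IsNilpotent.zero
    · exact hann _ (hc j)

end Groth.Agent.S14034
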