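import Groth.Statements.S14038
import Mathlib

set_option autoImplicit false
universe u
open W4c1frobunstiva

namespace Groth.Agent.S14038

theorem X_pow_eq_mul_unit {k : Type u} [Field k] {f : PowerSeries k} (hf : f ≠ 0) :
    ∃ (n : ℕ) (c : PowerSeries k), IsUnit c ∧ f = PowerSeries.X ^ n * c :=
  ⟨f.order.toNat, f.divXPowOrder, PowerSeries.isUnit_divided_by_X_pow_order hf,
    PowerSeries.X_pow_order_mul_divXPowOrder.symm⟩

theorem exists_reduced {k : Type u} [Field k] {r : ℕ} (M : Matrix (Fin r) (Fin r) (PowerSeries k))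
    (hM : M.det ≠ 0) :
    ∃ (e : Fin r → ℕ) (N : Matrix (Fin r) (Fin r) (PowerSeries k)),
      IsUnit N ∧ (∀ i, (N * M) i i = PowerSeries.X ^ e i) ∧ (∀ i j, j < i → (N * M) i j = 0) ∧
        ∀ i j, i < j → ∀ n, e j ≤ n → PowerSeries.coeff n ((N * M) i j) = 0 := by
  classical
  let R := PowerSeries k
  let L : Submodule R (Fin r → R) := LinearMap.range M.vecMulLinear
  have hex : ∀ i : Fin r, ∃ n : ℕ, ∃ x ∈ L, (∀ j, j < i → x j = 0) ∧ x i = PowerSeries.X ^ n := by
    intro i
    obtain ⟨n, c, hc, hdet⟩ := X_pow_eq_mul_unit hM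
    obtain ⟨d, hd⟩ := hc.exists_left_inv
    have hrow : ∀ j, (Matrix.vecMul (M.adjugate i) M) j = if i = j then M.det else 0 := by
      intro j
      have := congrFun (congrFun (Matrix.adjugate_mul M) i) j
      rw [Matrix.smul_apply, Matrix.one_apply, smul_eq_mul, mul_ite, mul_one, mul_zero] at this
      exact this
    refine ⟨n, d • Matrix.vecMul (M.adjugate i) M, L.smul_mem d ⟨_, rfl⟩, fun j hj => ?_, ?_⟩
    · rw [Pi.smul_apply, hrow, if_neg hj.ne', smul_zero]
    · rw [Pi.smul_apply, hrow, if_pos rfl, smul_eq_mul, hdet, mul_left_comm, hd, mul_one]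
  let e : Fin r → ℕ := fun i => Nat.find (hex i)
  choose b hbL hb0 hbe using fun i => Nat.find_spec (hex i)
  have hdvd : ∀ i, ∀ x ∈ L, (∀ j, j < i → x j = 0) → ∃ q, x i = q * PowerSeries.X ^ e i := by
    intro i x hx hx0
    rcases eq_or_ne (x i) 0 with h | h
    · exact ⟨0, by rw [h, zero_mul]⟩
    obtain ⟨n, c, hc, hxc⟩ := X_pow_eq_mul_unit h
    obtain ⟨d, hd⟩ := hc.exists_left_inv
    have hle : e i ≤ n := Nat.find_min' (hex i) ⟨d • x, L.smul_mem d hx, fun j hj => by
      rw [Pi.smul_apply, hx0 j hj, smul_zero], by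
      rw [Pi.smul_apply, smul_eq_mul, hxc, mul_left_comm, hd, mul_one]⟩
    refine ⟨c * PowerSeries.X ^ (n - e i), ?_⟩
    rw [hxc, mul_assoc, ← pow_add, Nat.sub_add_cancel hle, mul_comm]
  have hred : ∀ (i : Fin r) (m : ℕ), ∃ x ∈ L, (∀ j, j < i → x j = 0) ∧ x i = PowerSeries.X ^ e i ∧
      ∀ j : Fin r, i < j → j.val < m → ∀ n, e j ≤ n → PowerSeries.coeff n (x j) = 0 := by
    intro i m
    induction m with
    | zero => exact ⟨b i, hbL i, hb0 i, hbe i, fun j _ h => absurd h (Nat.not_lt_zero _)⟩
    | succ m ih =>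
      obtain ⟨x, hx, hx0, hxe, hxr⟩ := ih
      by_cases hm : i.val < m ∧ m < r
      · let J : Fin r := ⟨m, hm.2⟩
        let q : R := PowerSeries.mk fun n => PowerSeries.coeff (n + e J) (x J)
        have hiJ : i < J := hm.1
        refine ⟨x - q • b J, L.sub_mem hx (L.smul_mem q (hbL J)), fun j hj => ?_, ?_, ?_⟩
        · simp [hx0 j hj, hb0 J j (hj.trans hiJ)]
        · simp [hxe, hb0 J i hiJ]
        · intro j hij hjm n hn
          rcases lt_or_eq_of_le (Nat.lt_succ_iff.mp hjm) with h | h
          · simp only [Pi.sub_apply, Pi.smul_apply, hb0 J j h, smul_zero, sub_zero]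
            exact hxr j hij h n hn
          · obtain rfl : j = J := Fin.ext h
            rw [Pi.sub_apply, Pi.smul_apply, smul_eq_mul, hbe J, map_sub, PowerSeries.coeff_mul_X_pow',
              if_pos hn, PowerSeries.coeff_mk, Nat.sub_add_cancel hn, sub_self]
      · refine ⟨x, hx, hx0, hxe, fun j hij hjm n hn => hxr j hij ?_ n hn⟩
        have h1 : i.val < j.val := hij
        have h2 := j.2
        by_contra h3
        exact hm ⟨by omega, by omega⟩
  choose H hHL hH0 hHe hHr using fun i => hred i r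
  choose N hN using hHL
  have hspan : ∀ (m : ℕ) (i : ℕ), r ≤ i + m → ∀ x ∈ L, (∀ j : Fin r, j.val < i → x j = 0) →
      x ∈ Submodule.span R (Set.range H) := by
    intro m
    induction m with
    | zero =>
      intro i hi x _ hx0
      rw [show x = 0 from funext fun j => hx0 j (lt_of_lt_of_le j.2 hi)]
      exact zero_mem _
    | succ m ih =>
      intro i hi x hx hx0
      by_cases hir : i < r
      · obtain ⟨q, hq⟩ := hdvd ⟨i, hir⟩ x hx fun j hj => hx0 j hj
        have h1 : x - q • H ⟨i, hir⟩ ∈ Submodule.span R (Set.range H) := by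
          refine ih (i + 1) (by omega) _ (L.sub_mem hx (L.smul_mem q ⟨N _, hN _⟩)) fun j hj => ?_
          rcases lt_or_eq_of_le (Nat.lt_succ_iff.mp hj) with h | h
          · simp [hx0 j h, hH0 ⟨i, hir⟩ j h]
          · obtain rfl : j = ⟨i, hir⟩ := Fin.ext h
            simp [hq, hHe]
        have h2 := add_mem h1 (Submodule.smul_mem _ q (Submodule.subset_span ⟨⟨i, hir⟩, rfl⟩))
        rwa [sub_add_cancel] at h2
      · rw [show x = 0 from funext fun j => hx0 j (lt_of_lt_of_le j.2 (by omega))]
        exact zero_mem _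
  let Nm : Matrix (Fin r) (Fin r) R := Matrix.of N
  let Hm : Matrix (Fin r) (Fin r) R := Matrix.of H
  have hNM : Nm * M = Hm := by
    refine Matrix.ext fun i j => ?_
    exact congrFun (hN i) j
  have hback : ∀ i, ∃ c : Fin r → R, Matrix.vecMul c Hm = M i := by
    intro i
    have hMi : M i ∈ L := ⟨Pi.single i 1, Matrix.single_one_vecMul i M⟩
    obtain ⟨c, hc⟩ := (Submodule.mem_span_range_iff_exists_fun R).mp (hspan r 0 (by omega) (M i) hMi fun j hj => absurd hj (Nat.not_lt_zero _))
    exact ⟨c, by rw [Matrix.vecMul_eq_sum]; exact hc⟩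
  choose C hC using hback
  have hCH : Matrix.of C * Hm = M := Matrix.ext fun i j => congrFun (hC i) j
  have hCN : Matrix.det (Matrix.of C * Nm) = 1 := by
    refine mul_right_cancel₀ hM ?_
    rw [one_mul, ← Matrix.det_mul, Matrix.mul_assoc, hNM, hCH]
  refine ⟨e, Nm, ?_, ?_, ?_, ?_⟩
  · rw [Matrix.isUnit_iff_isUnit_det]
    exact IsUnit.of_mul_eq_one _ (by rw [mul_comm, ← Matrix.det_mul, hCN])
  · intro i; rw [hNM]; exact hHe i
  · intro i j hij; rw [hNM]; exact hH0 i j hij
  · intro i j hij n hn; rw [hNM]; exact hHr i j hij j.2 n hn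

theorem reduced_unique {k : Type u} [Field k] {r : ℕ} (H H' U V : Matrix (Fin r) (Fin r) (PowerSeries k))
    (hVU : V * U = 1) (hU : U * H = H') (e e' : Fin r → ℕ)
    (hd : ∀ i, H i i = PowerSeries.X ^ e i) (hz : ∀ i j, j < i → H i j = 0)
    (hr : ∀ i j, i < j → ∀ n, e j ≤ n → PowerSeries.coeff n (H i j) = 0)
    (hd' : ∀ i, H' i i = PowerSeries.X ^ e' i) (hz' : ∀ i j, j < i → H' i j = 0)
    (hr' : ∀ i j, i < j → ∀ n, e' j ≤ n → PowerSeries.coeff n (H' i j) = 0) : H = H' := by
  classical
  let R := PowerSeries k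
  have hX : ∀ n : ℕ, (PowerSeries.X : R) ^ n ≠ 0 := fun n => pow_ne_zero n PowerSeries.X_ne_zero
  have tri : ∀ (U H H' : Matrix (Fin r) (Fin r) R) (e : Fin r → ℕ), U * H = H' →
      (∀ i, H i i = PowerSeries.X ^ e i) → (∀ i j, j < i → H i j = 0) → (∀ i j, j < i → H' i j = 0) →
      ∀ (m : ℕ) (i j : Fin r), j.val < m → j < i → U i j = 0 := by
    intro U H H' e hU hd hz hz' m
    induction m with
    | zero => intro i j h; exact absurd h (Nat.not_lt_zero _)
    | succ m ih =>
      intro i j hjm hji
      have h := congrFun (congrFun hU i) j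
      rw [hz' i j hji, Matrix.mul_apply, Finset.sum_eq_single j] at h
      · rw [hd j] at h
        exact (mul_eq_zero.mp h).resolve_right (hX _)
      · intro l _ hl
        rcases lt_or_gt_of_ne hl with hlt | hgt
        · rw [ih i l (lt_of_lt_of_le (show l.val < j.val from hlt) (by omega)) (hlt.trans hji), zero_mul]
        · rw [hz l j hgt, mul_zero]
      · intro h; exact absurd (Finset.mem_univ j) h
  have hUt : ∀ i j, j < i → U i j = 0 := fun i j h => tri U H H' e hU hd hz hz' r i j j.2 h
  have hV : V * H' = H := by rw [← hU, ← Matrix.mul_assoc, hVU, Matrix.one_mul]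
  have hVt : ∀ i j, j < i → V i j = 0 := fun i j h => tri V H' H e' hV hd' hz' hz r i j j.2 h
  have hdiag : ∀ i, U i i * PowerSeries.X ^ e i = PowerSeries.X ^ e' i ∧
      V i i * PowerSeries.X ^ e' i = PowerSeries.X ^ e i := by
    intro i
    constructor
    · rw [← hd i, ← hd' i, ← congrFun (congrFun hU i) i, Matrix.mul_apply, Finset.sum_eq_single i]
      · intro l _ hl
        rcases lt_or_gt_of_ne hl with hlt | hgt
        · rw [hUt i l hlt, zero_mul]
        · rw [hz l i hgt, mul_zero]
      · intro h; exact absurd (Finset.mem_univ i) h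
    · rw [← hd i, ← hd' i, ← congrFun (congrFun hV i) i, Matrix.mul_apply, Finset.sum_eq_single i]
      · intro l _ hl
        rcases lt_or_gt_of_ne hl with hlt | hgt
        · rw [hVt i l hlt, zero_mul]
        · rw [hz' l i hgt, mul_zero]
      · intro h; exact absurd (Finset.mem_univ i) h
  have hee : e = e' := funext fun i => by
    obtain ⟨h1, h2⟩ := hdiag i
    have hle : ∀ (c : R) (a b : ℕ), c * PowerSeries.X ^ a = PowerSeries.X ^ b → a ≤ b := by
      intro c a b h
      by_contra hab
      have := congrArg (PowerSeries.coeff b) h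
      rw [PowerSeries.coeff_mul_X_pow', if_neg hab, PowerSeries.coeff_X_pow_self] at this
      exact zero_ne_one this
    exact le_antisymm (hle _ _ _ h1) (hle _ _ _ h2)
  subst hee
  have hU1 : ∀ i, U i i = 1 := fun i => mul_right_cancel₀ (hX (e i)) (by rw [(hdiag i).1, one_mul])
  have hU0 : ∀ (m : ℕ) (i j : Fin r), j.val < m → i < j → U i j = 0 := by
    intro m
    induction m with
    | zero => intro i j h; exact absurd h (Nat.not_lt_zero _)
    | succ m ih =>
      intro i j hjm hij
      have h := congrFun (congrFun hU i) j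
      rw [Matrix.mul_apply, Finset.sum_eq_add i j hij.ne] at h
      · rw [hU1 i, one_mul, hd j] at h
        refine PowerSeries.ext fun n => ?_
        have hn := congrArg (PowerSeries.coeff (n + e j)) h
        rw [map_add, hr i j hij _ (by omega), hr' i j hij _ (by omega), zero_add,
          PowerSeries.coeff_mul_X_pow] at hn
        rw [hn, map_zero]
      · rintro l _ ⟨hli, hlj⟩
        rcases lt_or_gt_of_ne hlj with hlt | hgt
        · rcases lt_or_gt_of_ne hli with hlt' | hgt'
          · rw [hUt i l hlt', zero_mul]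
          · rw [ih i l (lt_of_lt_of_le (show l.val < j.val from hlt) (by omega)) hgt', zero_mul]
        · rw [hz l j hgt, mul_zero]
      · intro h; exact absurd (Finset.mem_univ i) h
      · intro h; exact absurd (Finset.mem_univ j) h
  have : U = 1 := by
    refine Matrix.ext fun i j => ?_
    rcases lt_trichotomy i j with h | rfl | h
    · rw [hU0 r i j j.2 h, Matrix.one_apply_ne h.ne]
    · rw [hU1, Matrix.one_apply_eq]
    · rw [hUt i j h, Matrix.one_apply_ne h.ne']
  rw [← hU, this, Matrix.one_mul]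

/-- Let k be a field and M a square matrix of size r over the formal power series ring k[[t]] with
non-zero determinant. Call a matrix H over k[[t]] row-reduced when it is upper triangular, each
diagonal entry is a power t^{e_i} of the variable, and every entry above the diagonal in column j is
a polynomial of degree less than e_j (all its coefficients in degrees ≥ e_j vanish). Then there is
exactly one row-reduced H obtainable from M by left multiplication with an invertible matrix over
k[[t]]. (The published statement takes k algebraically closed; the row-reduction argument needs only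
a field.) -/
theorem result (k : Type u) [Field k] (r : ℕ)
    (M : Matrix (Fin r) (Fin r) (PowerSeries k)) (hM : M.det ≠ 0) :
    ∃! H : Matrix (Fin r) (Fin r) (PowerSeries k),
      (∃ e : Fin r → ℕ, (∀ i, H i i = PowerSeries.X ^ e i) ∧ (∀ i j, j < i → H i j = 0) ∧
        (∀ i j, i < j → ∀ n, e j ≤ n → PowerSeries.coeff n (H i j) = 0)) ∧
      ∃ N : Matrix (Fin r) (Fin r) (PowerSeries k), IsUnit N ∧ N * M = H := by
  obtain ⟨e, N, hN, hd, hz, hr⟩ := exists_reduced M hM
  refine ⟨N * M, ⟨⟨e, hd, hz, hr⟩, N, hN, rfl⟩, ?_⟩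
  rintro H' ⟨⟨e', hd', hz', hr'⟩, N', hN', hH'⟩
  obtain ⟨u, rfl⟩ := hN
  obtain ⟨u', rfl⟩ := hN'
  refine (reduced_unique _ H' ((u' : Matrix _ _ _) * ((u⁻¹ : _ˣ) : Matrix _ _ _))
    ((u : Matrix _ _ _) * ((u'⁻¹ : _ˣ) : Matrix _ _ _)) ?_ ?_ e e' hd hz hr hd' hz' hr').symm
  · rw [Matrix.mul_assoc, Units.inv_mul_cancel_left, Units.mul_inv]
  · rw [Matrix.mul_assoc, Units.inv_mul_cancel_left, hH']

end Groth.Agent.S14038
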