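import Groth.Statements.S14040
import Groth.Agent.Lib.AlgMisc.FibreReduced

set_option autoImplicit false
universe u v
open W4c1frobunstiva

namespace Groth.Agent.S14040

open TensorProduct in
/-- Let A be a discrete valuation ring and B a Noetherian A-algebra such that the nilradical of B is
prime and meets the image of A only in 0 — the spectrum of B is irreducible and its generic point
lies over the generic point of A. If every fibre ring κ(p) ⊗_A B, p a prime of A, is reduced, then B
is reduced and flat over A. (Affine form of the statement for a dominant morphism from an
irreducible scheme to the spectrum of a discrete valuation ring with reduced fibres. The published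
statement also covers a scheme that is already reduced and does not assume it locally Noetherian;
this row treats reduced fibres with B Noetherian, without which the square-zero extension A ⊕
Frac(A)/A is a counterexample.) -/
theorem result (A : Type u) [CommRing A]
    [IsDomain A] [IsDiscreteValuationRing A] (B : Type v) [CommRing B] [Algebra A B]
    [IsNoetherianRing B] (hirr : (nilradical B).IsPrime)
    (hdom : (nilradical B).comap (algebraMap A B) = ⊥)
    (hfib : ∀ p : PrimeSpectrum A, IsReduced (p.asIdeal.ResidueField ⊗[A] B)) :
    IsReduced B ∧ Module.Flat A B := by
  haveI := hirr
  have htf : Module.IsTorsionFree A (B ⧸ nilradical B) := by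
    haveI : IsDomain (B ⧸ nilradical B) := Ideal.Quotient.isDomain _
    haveI : FaithfulSMul A (B ⧸ nilradical B) := (faithfulSMul_iff_algebraMap_injective _ _).mpr (by
      rw [injective_iff_map_eq_zero]
      intro a ha
      have h1 : a ∈ (nilradical B).comap (algebraMap A B) :=
        (Ideal.Quotient.eq_zero_iff_mem (I := nilradical B) (a := algebraMap A B a)).mp ha
      rwa [hdom, Ideal.mem_bot] at h1)
    infer_instance
  haveI : Module.Flat A (B ⧸ nilradical B) := inferInstance
  haveI hred := GrothLib.AlgMisc.isReduced_of_flat_reduction (A := A) hfib
  have h0 : nilradical B = ⊥ := nilradical_eq_zero B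
  exact ⟨hred, Module.Flat.of_linearEquiv (((Submodule.quotEquivOfEqBot _ h0).restrictScalars A).symm)⟩

end Groth.Agent.S14040
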