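import Groth.Statements.S14043
import Mathlib.RingTheory.OrzechProperty
import Mathlib.LinearAlgebra.Matrix.NonsingularInverse
import Mathlib.RingTheory.Nilpotent.Basic

set_option autoImplicit false
universe u v
open W4c1frobunstiva

namespace Groth.Agent.S14043

open Matrix

/-- Two generating families of `r` elements of an NR-free module: the coordinates matrix is invertible. -/
theorem exists_unit {R : Type u} [CommRing R] {M : Type v} [AddCommGroup M] [Module R M] {r : ℕ}
    (e m : Fin r → M) (he : W4c1frobunstiva.IsNRBasis R M e) (hm : Submodule.span R (Set.range m) = ⊤) :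
    ∃ A : Matrix (Fin r) (Fin r) R, IsUnit A ∧ ∀ j, m j = ∑ i, A j i • e i := by
  classical
  choose A hA using fun j => (Submodule.mem_span_range_iff_exists_fun R).mp (he.1 ▸ Submodule.mem_top : m j ∈ _)
  choose B hB using fun j => (Submodule.mem_span_range_iff_exists_fun R).mp (hm ▸ Submodule.mem_top : e j ∈ _)
  let A' : Matrix (Fin r) (Fin r) R := Matrix.of A
  let B' : Matrix (Fin r) (Fin r) R := Matrix.of B
  have hnil : ∀ j l, IsNilpotent ((B' * A' - 1) j l) := fun j => he.2 _ (by
    simp only [Matrix.sub_apply, Matrix.mul_apply, sub_smul, Finset.sum_sub_distrib, Finset.sum_smul, mul_smul]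
    rw [Finset.sum_comm]
    simp only [A', B', Matrix.of_apply, ← Finset.smul_sum, hA, hB, Matrix.one_apply, ite_smul, one_smul,
      zero_smul, Finset.sum_ite_eq, Finset.mem_univ, if_true, sub_self])
  have hdet : IsUnit (B' * A').det := by
    let q := Ideal.Quotient.mk (nilradical R)
    have hq : q (B' * A').det = 1 := by
      rw [RingHom.map_det, show q.mapMatrix (B' * A') = 1 from ?_, det_one]
      ext j l
      have h1 := Ideal.Quotient.eq_zero_iff_mem.mpr (mem_nilradical.mpr (hnil j l))
      rw [Matrix.sub_apply, map_sub, sub_eq_zero] at h1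
      rw [RingHom.mapMatrix_apply, Matrix.map_apply, h1, Matrix.one_apply, Matrix.one_apply]
      split <;> simp
    have hn : IsNilpotent ((B' * A').det - 1) := by
      rw [← mem_nilradical, ← Ideal.Quotient.eq_zero_iff_mem, map_sub, hq, map_one, sub_self]
    simpa using IsNilpotent.isUnit_add_one hn
  rw [det_mul, IsUnit.mul_iff] at hdet
  exact ⟨A', (Matrix.isUnit_iff_isUnit_det _).mpr hdet.2, fun j => (hA j).symm⟩

/-- Let R be a commutative Noetherian ring, M an R-module that is NR-free of rank r — generated by some
r elements all of whose linear relations have nilpotent coefficients — and m, m' two generating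
families of M, each indexed by the same finite set of size r. Then some invertible r × r matrix T
over R expresses m' in terms of m, m'_j = Σ_i T_{ji} m_i; reducing modulo the nilradical n, such a T
induces the change-of-basis matrix between the bases of M/nM given by the images of m and m' (an
r-element generating family of M is itself an NR-basis), so only the existence of an invertible T is
asserted here. (T is not unique.) -/
theorem result (R : Type u) [CommRing R]
    [IsNoetherianRing R] (M : Type v) [AddCommGroup M] [Module R M] (r : ℕ)
    (hM : W4c1frobunstiva.IsNRFree R M r) (m m' : Fin r → M)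
    (hm : Submodule.span R (Set.range m) = ⊤) (hm' : Submodule.span R (Set.range m') = ⊤) :
    ∃ T : Matrix (Fin r) (Fin r) R, IsUnit T ∧ ∀ j, m' j = ∑ i, T j i • m i := by
  obtain ⟨e, he⟩ := hM
  obtain ⟨A, hAu, hA⟩ := exists_unit e m he hm
  obtain ⟨A', hA'u, hA'⟩ := exists_unit e m' he hm'
  obtain ⟨U, rfl⟩ := hAu
  refine ⟨A' * ((U⁻¹ : (Matrix (Fin r) (Fin r) R)ˣ) : Matrix _ _ R), hA'u.mul (Units.isUnit _), fun j => ?_⟩
  simp only [hA', hA, Finset.smul_sum, smul_smul]
  rw [Finset.sum_comm]
  simp only [← Finset.sum_smul, ← Matrix.mul_apply, mul_assoc, Units.inv_mul, mul_one]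

end Groth.Agent.S14043
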