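import Groth.Statements.S14044
import Mathlib.RingTheory.PowerSeries.Order
import Mathlib.RingTheory.PowerSeries.Inverse
import Mathlib.LinearAlgebra.Matrix.NonsingularInverse
import Mathlib.LinearAlgebra.Matrix.Block

set_option autoImplicit false
universe u
open W4c1frobunstiva

namespace Groth.Agent.S14044

open PowerSeries in
theorem exists_hermite {k : Type u} [Field k] {r : ℕ} (M : Matrix (Fin r) (Fin r) (PowerSeries k))
    (hM : M.det ≠ 0) :
    ∃ (N : Matrix (Fin r) (Fin r) (PowerSeries k)) (e : Fin r → ℕ), IsUnit N ∧
      (∀ i, (N * M) i i = X ^ e i) ∧ (∀ i j, j < i → (N * M) i j = 0) ∧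
      (∀ i j, i < j → ∀ n, e j ≤ n → coeff n ((N * M) i j) = 0) := by
  classical
  let L : Submodule (PowerSeries k) (Fin r → PowerSeries k) := LinearMap.range M.vecMulLinear
  let S : Fin r → ℕ → Prop := fun i n => ∃ x ∈ L, (∀ l, l < i → x l = 0) ∧ x i = X ^ n
  have hX : ∀ i (x : Fin r → PowerSeries k), x ∈ L → (∀ l, l < i → x l = 0) → x i ≠ 0 →
      S i (x i).order.toNat := by
    intro i x hx hz hxi
    obtain ⟨w, hw⟩ : IsUnit (divXPowOrder (x i)) := by
      rw [isUnit_iff_constantCoeff, isUnit_iff_ne_zero, ne_eq, constantCoeff_divXPowOrder_eq_zero_iff]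
      exact hxi
    refine ⟨(↑w⁻¹ : PowerSeries k) • x, L.smul_mem _ hx, fun l hl => by simp [hz l hl], ?_⟩
    rw [Pi.smul_apply, smul_eq_mul]
    conv_lhs => arg 2; rw [← X_pow_order_mul_divXPowOrder (f := x i), ← hw]
    rw [mul_left_comm, Units.inv_mul, mul_one]
  have hS : ∀ i, ∃ n, S i n := by
    intro i
    refine ⟨_, hX i (M.det • (Pi.single i 1 : Fin r → PowerSeries k)) ⟨M.adjugate i, ?_⟩
      (fun l hl => by simp [Pi.single_eq_of_ne (ne_of_lt hl)]) (by simpa using hM)⟩
    show Matrix.vecMul (M.adjugate i) M = _
    funext j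
    have := congrFun (congrFun (Matrix.adjugate_mul M) i) j
    rw [Matrix.mul_apply] at this
    simp only [Matrix.vecMul, dotProduct]
    rw [this]
    simp [Matrix.one_apply, Pi.single_apply, eq_comm]
  let e : Fin r → ℕ := fun i => Nat.find (hS i)
  have hdvd : ∀ i (x : Fin r → PowerSeries k), x ∈ L → (∀ l, l < i → x l = 0) → X ^ e i ∣ x i := by
    intro i x hx hz
    by_cases hxi : x i = 0
    · simp [hxi]
    · exact (pow_dvd_pow X (Nat.find_min' (hS i) (hX i x hx hz hxi))).trans (X_pow_order_dvd)
  have hb : ∀ (i : Fin r) (s : ℕ), ∃ x ∈ L, (∀ l, l < i → x l = 0) ∧ x i = X ^ e i ∧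
      ∀ j : Fin r, i < j → j.val < s → ∀ n, e j ≤ n → coeff n (x j) = 0 := by
    intro i s
    induction s with
    | zero =>
      obtain ⟨x, hx, hz, hd⟩ := Nat.find_spec (hS i)
      exact ⟨x, hx, hz, hd, fun j _ hj => absurd hj (Nat.not_lt_zero _)⟩
    | succ s ih =>
      obtain ⟨x, hx, hz, hd, hr⟩ := ih
      by_cases hs : i.val < s ∧ s < r
      · obtain ⟨y, hy, hyz, hyd⟩ := Nat.find_spec (hS ⟨s, hs.2⟩)
        let c : PowerSeries k := PowerSeries.mk fun n => coeff (n + e ⟨s, hs.2⟩) (x ⟨s, hs.2⟩)
        refine ⟨x - c • y, L.sub_mem hx (L.smul_mem _ hy), fun l hl => ?_, ?_, fun j hij hjs n hn => ?_⟩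
        · simp [hz l hl, hyz l (lt_trans hl hs.1)]
        · simp [hd, hyz i hs.1]
        · rcases Nat.lt_succ_iff_lt_or_eq.1 hjs with h | h
          · simpa [hyz j h] using hr j hij h n hn
          · obtain rfl : j = ⟨s, hs.2⟩ := Fin.ext h
            rw [Pi.sub_apply, Pi.smul_apply, smul_eq_mul, hyd, map_sub, mul_comm, coeff_X_pow_mul',
              if_pos hn, coeff_mk, Nat.sub_add_cancel hn, sub_self]
      · refine ⟨x, hx, hz, hd, fun j hij hjs n hn => hr j hij ?_ n hn⟩
        rcases Nat.lt_succ_iff_lt_or_eq.1 hjs with h | h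
        · exact h
        · exact absurd ⟨h ▸ hij, h ▸ j.isLt⟩ hs
  choose b hbL hbz hbd hbr using fun i => hb i r
  have hspan : ∀ (m : ℕ) (x : Fin r → PowerSeries k), x ∈ L → (∀ l : Fin r, l.val + m < r → x l = 0) →
      x ∈ Submodule.span (PowerSeries k) (Set.range b) := by
    intro m
    induction m with
    | zero =>
      intro x _ hz
      rw [show x = 0 from funext fun l => hz l (by simp)]
      exact zero_mem _
    | succ m ih =>
      intro x hx hz
      by_cases hmr : r < m + 1
      · exact ih x hx fun l hl => hz l (by omega)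
      · have hi : r - (m + 1) < r := by omega
        obtain ⟨c, hc⟩ := hdvd ⟨r - (m + 1), hi⟩ x hx fun l hl => hz l (by
          have : l.val < r - (m + 1) := hl
          omega)
        have := ih (x - c • b ⟨r - (m + 1), hi⟩) (L.sub_mem hx (L.smul_mem _ (hbL _))) fun l hl => by
          rcases lt_or_eq_of_le (show l.val ≤ r - (m + 1) by omega) with h | h
          · simp [hz l (by omega), hbz ⟨r - (m + 1), hi⟩ l h]
          · obtain rfl : l = ⟨r - (m + 1), hi⟩ := Fin.ext h
            simp [hbd, hc, mul_comm]
        simpa using add_mem this (Submodule.smul_mem _ c (Submodule.subset_span ⟨⟨r - (m + 1), hi⟩, rfl⟩))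
  choose N hN using fun i => hbL i
  have hNM : ∀ i j, (Matrix.of N * M) i j = b i j := fun i j => by
    rw [Matrix.mul_apply, ← hN i]; rfl
  have hMb : ∀ i, ∃ c : Fin r → PowerSeries k, ∑ l, c l • b l = M i := fun i =>
    Submodule.mem_span_range_iff_exists_fun (PowerSeries k) |>.1 (hspan r (M i) ⟨Pi.single i 1, by
      show Matrix.vecMul (Pi.single i 1) M = M i
      exact Matrix.single_one_vecMul i M⟩ fun l hl => by omega)
  choose C hC using hMb
  refine ⟨Matrix.of N, e, ?_, fun i => (hNM i i).trans (hbd i), fun i j h => (hNM i j).trans (hbz i j h),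
    fun i j h n hn => by rw [hNM]; exact hbr i j h j.isLt n hn⟩
  have h1 : Matrix.of C * (Matrix.of N * M) = M := by
    ext i j : 1
    rw [Matrix.mul_apply]
    simp only [hNM, Matrix.of_apply]
    conv_rhs => rw [← hC i]
    simp [Finset.sum_apply]
  have h2 := congrArg Matrix.det h1
  rw [Matrix.det_mul, Matrix.det_mul, ← mul_assoc] at h2
  rw [Matrix.isUnit_iff_isUnit_det]
  exact .of_mul_eq_one_right _ (mul_right_cancel₀ hM (h2.trans (one_mul _).symm))

open PowerSeries in
theorem exists_column {k : Type u} [Field k] (p : ℕ) {r : ℕ} (B : Matrix (Fin r) (Fin r) (PowerSeries k))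
    (e : Fin r → ℕ) (hd : ∀ i, B i i = X ^ e i) (hz : ∀ i j, j < i → B i j = 0) (j : Fin r) (m : ℕ) :
    ∃ q : Fin r → PowerSeries k, (∀ l n, coeff n (q l) ≠ 0 → l < j ∧ p ∣ n ∧ e l + n < e j) ∧
      (∀ l : Fin r, l.val + m < r → q l = 0) ∧
      ∀ i : Fin r, r ≤ i.val + m → i < j → ∀ n, e i + n < e j → p ∣ n →
        coeff (e i + n) (B i j + ∑ l, B i l * q l) = 0 := by
  classical
  induction m with
  | zero => exact ⟨0, fun l n h => absurd (by simp) h, fun l _ => rfl, fun i hi => absurd hi (by omega)⟩
  | succ m ih =>
    obtain ⟨q, hq, hq0, hqc⟩ := ih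
    by_cases hs : m + 1 ≤ r ∧ r - (m + 1) < j.val
    · let s : Fin r := ⟨r - (m + 1), by omega⟩
      let v := B s j + ∑ l, B s l * q l
      let d : PowerSeries k := PowerSeries.mk fun n => if p ∣ n ∧ e s + n < e j then - coeff (e s + n) v else 0
      have hqs : q s = 0 := hq0 s (show r - (m + 1) + m < r by omega)
      have hval : s.val = r - (m + 1) := rfl
      refine ⟨q + Pi.single s d, fun l n h => ?_, fun l hl => ?_, fun i hi hij n hn hpn => ?_⟩
      · by_cases hls : l = s
        · subst hls
          simp only [Pi.add_apply, hqs, zero_add, Pi.single_eq_same, d, coeff_mk] at h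
          by_cases hc : p ∣ n ∧ e s + n < e j
          · exact ⟨hs.2, hc⟩
          · rw [if_neg hc] at h; exact absurd rfl h
        · simp only [Pi.add_apply, Pi.single_eq_of_ne hls, add_zero] at h
          exact hq l n h
      · have hls : l ≠ s := fun h => by subst h; omega
        simp only [Pi.add_apply, Pi.single_eq_of_ne hls, add_zero]
        exact hq0 l (by omega)
      · have hsum : ∑ l, B i l * (q + Pi.single s d : Fin r → PowerSeries k) l = (∑ l, B i l * q l) + B i s * d := by
          simp [mul_add, Finset.sum_add_distrib, Pi.single_apply, mul_ite, Finset.sum_ite_eq']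
        rw [hsum, ← add_assoc, map_add]
        by_cases his : i = s
        · subst his
          rw [hd, add_comm (e s) n, coeff_X_pow_mul, add_comm n (e s)]
          simp only [d, coeff_mk, if_pos (And.intro hpn hn)]
          exact add_neg_cancel _
        · have : i.val ≠ s.val := fun h => his (Fin.ext h)
          have hsi : s < i := show r - (m + 1) < i.val by omega
          rw [hz i s hsi, zero_mul, map_zero, add_zero]
          exact hqc i (by omega) hij n hn hpn
    · refine ⟨q, hq, fun l hl => hq0 l (by omega), fun i hi hij n hn hpn => hqc i ?_ hij n hn hpn⟩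
      have : i.val < j.val := hij
      have := j.isLt
      omega


/-- Let k be a field, p a prime number and M a square matrix of size r over k[[t]] with non-zero
determinant. Allowing, besides invertible row operations over k[[t]], invertible column operations
by matrices with entries in k[[t^p]] (power series whose coefficients vanish in all degrees not
divisible by p), M can be brought to a row-reduced form — upper triangular, diagonal entries
t^{e_i}, entries above the diagonal in column j polynomials of degree less than e_j — in which in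
addition the (i, j) entry (i < j) has no term in a degree that is at least e_i and congruent to e_i
modulo p. (Existence only; the form is not unique. The published statement asks that no term in any
degree congruent to e_i modulo p remain; the published reduction — adding k[[t^p]]-multiples of
column i to column j — removes exactly the terms of degree at least e_i, which is what is asserted
here. The published statement takes k algebraically closed of characteristic p, where k[[t^p]] is
the ring of p-th powers; neither assumption is used.) -/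
theorem result (k : Type u)
    [Field k] (p : ℕ) [Fact p.Prime] (r : ℕ) (M : Matrix (Fin r) (Fin r) (PowerSeries k))
    (hM : M.det ≠ 0) :
    ∃ (N P : Matrix (Fin r) (Fin r) (PowerSeries k)) (e : Fin r → ℕ), IsUnit N ∧ IsUnit P ∧
      (∀ i j n, ¬ p ∣ n → PowerSeries.coeff n (P i j) = 0) ∧
      (∀ i, (N * M * P) i i = PowerSeries.X ^ e i) ∧ (∀ i j, j < i → (N * M * P) i j = 0) ∧
      (∀ i j, i < j → ∀ n, (e j ≤ n ∨ (e i ≤ n ∧ n % p = e i % p)) →
        PowerSeries.coeff n ((N * M * P) i j) = 0) := by
  classical
  obtain ⟨N, e, hN, hd, hz, hdeg⟩ := exists_hermite M hM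
  choose q hq hq0 hqc using fun j => exists_column p (N * M) e hd hz j r
  let P : Matrix (Fin r) (Fin r) (PowerSeries k) := 1 + Matrix.of fun l j => q j l
  have hqz : ∀ l j, j ≤ l → q j l = 0 := fun l j hlj => PowerSeries.ext fun n => by
    by_contra h
    rw [map_zero] at h
    exact absurd (hq j l n h).1 (not_lt.2 hlj)
  have hB : ∀ i j, (N * M * P) i j = (N * M) i j + ∑ l, (N * M) i l * q j l := fun i j => by
    rw [Matrix.mul_add, Matrix.mul_one, Matrix.add_apply, Matrix.mul_apply]; rfl
  refine ⟨N, P, e, hN, ?_, fun i j n hn => ?_, fun i => ?_, fun i j hji => ?_, fun i j hij n hn => ?_⟩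
  · rw [Matrix.isUnit_iff_isUnit_det, Matrix.det_of_isUpperTriangular (fun i j (h : j < i) => by
      simp [P, Matrix.one_apply_ne (ne_of_gt h), hqz i j h.le])]
    simp [P, hqz]
  · have h0 : PowerSeries.coeff n (q j i) = 0 := by
      by_contra h
      exact hn (hq j i n h).2.1
    simp only [P]
    rw [Matrix.add_apply, map_add, Matrix.of_apply, h0, add_zero, Matrix.one_apply]
    split
    · rw [PowerSeries.coeff_one, if_neg]
      rintro rfl
      exact hn (dvd_zero p)
    · simp
  · rw [hB, Finset.sum_eq_zero, add_zero, hd]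
    intro l _
    rcases lt_or_ge l i with h | h
    · rw [hz i l h, zero_mul]
    · rw [hqz l i h, mul_zero]
  · rw [hB, Finset.sum_eq_zero, add_zero, hz i j hji]
    intro l _
    rcases lt_or_ge l i with h | h
    · rw [hz i l h, zero_mul]
    · rw [hqz l j (hji.le.trans h), mul_zero]
  · rw [hB]
    rcases le_or_gt (e j) n with h | h
    · rw [map_add, hdeg i j hij n h, zero_add, map_sum]
      refine Finset.sum_eq_zero fun l _ => ?_
      rw [PowerSeries.coeff_mul]
      refine Finset.sum_eq_zero fun ab hab => ?_
      rw [Finset.HasAntidiagonal.mem_antidiagonal] at hab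
      by_contra hne
      obtain ⟨hlj, -, hlt⟩ := hq j l ab.2 (right_ne_zero_of_mul hne)
      rcases lt_trichotomy i l with h' | h' | h'
      · rcases le_or_gt (e l) ab.1 with h'' | h''
        · exact left_ne_zero_of_mul hne (hdeg i l h' ab.1 h'')
        · omega
      · subst h'
        have := left_ne_zero_of_mul hne
        rw [hd, PowerSeries.coeff_X_pow] at this
        simp only [ne_eq, ite_eq_right_iff, one_ne_zero, imp_false, not_not] at this
        omega
      · exact left_ne_zero_of_mul hne (by rw [hz i l h', map_zero])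
    · rcases hn with hn | ⟨hn, hmod⟩
      · omega
      · have := hqc j i (by omega) hij (n - e i) (by omega) ((Nat.modEq_iff_dvd' hn).1 hmod.symm)
        rwa [Nat.add_sub_cancel' hn] at this

end Groth.Agent.S14044
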