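import Groth.Statements.S14046
import Mathlib.RingTheory.Flat.Equalizer
import Mathlib.LinearAlgebra.TensorProduct.RightExactness
import Mathlib.Tactic.Abel
import Mathlib.Tactic.Ring
import Mathlib.Tactic.LinearCombination
import Mathlib.LinearAlgebra.TensorProduct.Prod

set_option autoImplicit false
universe u v w
open W4c1frobunstiva

namespace Groth.Agent.S14046

open TensorProduct in
/-- Let R → A be a homomorphism of commutative rings and I, J ideals of A with I ∩ J = 0 — so that A is
the fibre product of A/I and A/J over A/(I + J), i.e. Spec A is the union of the two closed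
subschemes in the strong sense — and suppose A/(I + J) is flat over R. Then this persists under
every base change: for every commutative R-algebra R', the ideals generated by I and J in R' ⊗_R A
again meet in 0. (This is the ideal-theoretic, affine form of the base-change step; the exact
sequence of unit sheaves deduced from it in the published statement — restriction of units to a
closed subscheme being surjective locally — is not restated. Without flatness of A/(I + J) the
conclusion fails: for A = k[x, y]/(xy) over R = k[u] with u ↦ x + y, I = (x) and J = (y), the base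
change to R/(u) gives k[x]/(x²), in which both ideals become (x).) -/
theorem result (R : Type u) (A : Type v)
    [CommRing R] [CommRing A] [Algebra R A] (I J : Ideal A) (hIJ : I ⊓ J = ⊥)
    [Module.Flat R (A ⧸ (I ⊔ J))] (R' : Type w) [CommRing R'] [Algebra R R'] :
    I.map (Algebra.TensorProduct.includeRight : A →ₐ[R] R' ⊗[R] A) ⊓
      J.map (Algebra.TensorProduct.includeRight : A →ₐ[R] R' ⊗[R] A) = ⊥ := by
  refine le_bot_iff.mp fun x hx => ?_
  let a : A →ₗ[R] (A ⧸ I) := (Ideal.Quotient.mkₐ R I).toLinearMap
  let b : A →ₗ[R] (A ⧸ J) := (Ideal.Quotient.mkₐ R J).toLinearMap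
  let g : ((A ⧸ I) × (A ⧸ J)) →ₗ[R] (A ⧸ (I ⊔ J)) :=
    ((Ideal.Quotient.factorₐ R le_sup_left).toLinearMap).comp (LinearMap.fst R _ _) -
      ((Ideal.Quotient.factorₐ R le_sup_right).toLinearMap).comp (LinearMap.snd R _ _)
  let i := a.prod b
  have hg : Function.Surjective g := fun z => by
    obtain ⟨z, rfl⟩ := Ideal.Quotient.mk_surjective z
    exact ⟨(Ideal.Quotient.mk I z, 0), by simp [g]⟩
  have hi : Function.Injective i := fun y z h => by
    rw [← sub_eq_zero, ← Submodule.mem_bot A, ← hIJ]
    exact ⟨Ideal.Quotient.eq.mp (congrArg Prod.fst h), Ideal.Quotient.eq.mp (congrArg Prod.snd h)⟩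
  have hig : Function.Exact i g := fun y => by
    constructor
    · obtain ⟨u, v⟩ := y
      obtain ⟨u, rfl⟩ := Ideal.Quotient.mk_surjective u
      obtain ⟨v, rfl⟩ := Ideal.Quotient.mk_surjective v
      intro h
      have h1 : u - v ∈ I ⊔ J := Ideal.Quotient.eq.mp (sub_eq_zero.mp (by simpa [g] using h))
      obtain ⟨p, hp, q, hq, hpq⟩ := Submodule.mem_sup.mp h1
      refine ⟨u - p, Prod.ext ?_ ?_⟩
      · exact Ideal.Quotient.eq.mpr (by simpa using neg_mem hp)
      · exact Ideal.Quotient.eq.mpr (by rwa [show u - p - v = q by linear_combination -hpq])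
    · rintro ⟨y, rfl⟩
      simp [g, i, a, b]
  have hinj := LinearMap.lTensor_injective_of_exact_of_flat g hg i hi hig R'
  have hker : ∀ K : Ideal A, ∀ y ∈ K.map (Algebra.TensorProduct.includeRight : A →ₐ[R] R' ⊗[R] A),
      Algebra.TensorProduct.map (AlgHom.id R R') (Ideal.Quotient.mkₐ R K) y = 0 := fun K y hy => by
    have : K.map (Algebra.TensorProduct.includeRight : A →ₐ[R] R' ⊗[R] A) ≤
        RingHom.ker (Algebra.TensorProduct.map (AlgHom.id R R') (Ideal.Quotient.mkₐ R K)) :=
      Ideal.map_le_iff_le_comap.mpr fun z hz => by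
        show Algebra.TensorProduct.map (AlgHom.id R R') (Ideal.Quotient.mkₐ R K) (1 ⊗ₜ z) = 0
        simp [Ideal.Quotient.eq_zero_iff_mem.mpr hz]
    exact this hy
  rw [Submodule.mem_bot]
  refine hinj ?_
  rw [map_zero]
  refine (TensorProduct.prodRight R R R' (A ⧸ I) (A ⧸ J)).injective ?_
  rw [map_zero]
  have e : ∀ y : R' ⊗[R] A, TensorProduct.prodRight R R R' (A ⧸ I) (A ⧸ J) (i.lTensor R' y) =
      (a.lTensor R' y, b.lTensor R' y) := fun y => by
    induction y using TensorProduct.induction_on with
    | zero => simp only [map_zero]; rfl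
    | tmul r z => simp [i]
    | add y z hy hz => simp only [map_add, hy, hz, Prod.mk_add_mk]
  rw [e]
  refine Prod.ext ?_ ?_
  · exact hker I x hx.1
  · exact hker J x hx.2

end Groth.Agent.S14046
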