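import Groth.Statements.S14047
import Groth.Agent.Lib.NodeOpen11.FittUnr
import Groth.Agent.Lib.NodeOpen11.Locus
import Groth.Agent.Lib.OmegaLocal4.Affine
import Groth.Agent.Lib.EtBasicB.OverField

set_option autoImplicit false
universe u
open CategoryTheory AlgebraicGeometry
open W4c1frobunstiva

namespace Groth.Agent.S14047

set_option backward.isDefEq.respectTransparency false


/-- Let f : X → B be a proper family of nodal curves — flat, locally of finite presentation, each fibre
having all its irreducible components of dimension one and at worst nodes as singularities. Let Ω be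
an O_X-module equipped with a universal B-derivation (a sheaf of relative differentials of X over B)
and let Z be the closed subscheme of X cut out by the first Fitting ideal sheaf of Ω, the singular
locus of f. Then the composite Z → X → B is finite and formally unramified, so unramified. -/
theorem result {X B : Scheme.{u}}
    (f : X ⟶ B) (hf : Curv2.IsNodalFamily f) [IsProper f] (Ω : X.Modules) (d : OmegaSh.Der f Ω)
    (hd : OmegaSh.IsUniversal d) :
    IsFinite ((Fitt.sheafIdeal Ω 1).subschemeι ≫ f) ∧
      FormallyUnramified ((Fitt.sheafIdeal Ω 1).subschemeι ≫ f) := by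
  haveI := hf.1
  haveI := hf.2.1
  haveI := GrothLib.OmegaLocal4.isQuasicoherent hd
  have hM : CohB1.IsFT Ω := by
    refine GrothLib.QCoh.isFiniteType_of_moduleFinite Ω (fun c : GrothLib.NodeOpen11.AffChart f => c.U.1)
      ?_ (fun c => c.U.2) fun c => ?_
    · exact TopologicalSpace.IsOpenCover.mk (eq_top_iff.mpr fun x _ => TopologicalSpace.Opens.mem_iSup.mpr
        ((GrothLib.NodeOpen11.exists_affChart x).imp fun c h => h))
    · letI := c.algebra
      haveI : Algebra.FiniteType Γ(B, c.V.1) Γ(X, c.U.1) :=
        HasRingHomProperty.appLE @LocallyOfFiniteType f inferInstance c.V c.U c.le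
      obtain ⟨e⟩ := GrothLib.OmegaLocal4.nonempty_sections hd c.U.2 c.V.2 c.le
      exact Module.Finite.equiv e.symm
  have hfib := fun s => (hf.2.2 s).1
  have hgood : ∀ x, x ∈ GrothLib.NodeOpen11.goodSet f := fun x =>
    (GrothLib.NodeOpen11.atWorstNodal_iff_subset f hfib (f x)).1 (hf.2.2 (f x)).2 x rfl
  have hu : FormallyUnramified ((Fitt.sheafIdeal Ω 1).subschemeι ≫ f) :=
    (GrothLib.NodeOpen11.formallyUnramified_fittingSubscheme_iff Ω hM
      (fun c => GrothLib.OmegaLocal4.nonempty_sections hd c.U.2 c.V.2 c.le)).2
      (GrothLib.NodeOpen11.ram_eq_empty hfib hgood)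
  haveI := hu
  haveI : LocallyQuasiFinite ((Fitt.sheafIdeal Ω 1).subschemeι ≫ f) :=
    GrothLib.EtBasicB.locallyQuasiFinite_of_unramified _
  exact ⟨IsFinite.of_isProper_of_locallyQuasiFinite _, hu⟩

end Groth.Agent.S14047
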