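import Groth.Statements.S14048
import Mathlib.Algebra.Polynomial.Taylor
import Mathlib.RingTheory.TensorProduct.Maps
import Mathlib.Data.Rat.Lemmas
import Mathlib.Data.Nat.Prime.Infinite
import Mathlib.Tactic.Ring
import Mathlib.Data.Nat.Factors
import Mathlib.RingTheory.Int.Basic
import Mathlib.Tactic.LinearCombination
-- import your own Groth.Agent.* helpers here

set_option autoImplicit false
universe u
open TensorProduct
open CAlg

namespace Groth.Agent.S14048

/-- Rationals with denominator prime to p. -/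
def pIntegral (p : ℕ) : Subring ℚ where
  carrier := {q | ∃ n : ℕ, n.Coprime p ∧ ∃ z : ℤ, (n : ℚ) * q = z}
  zero_mem' := ⟨1, Nat.coprime_one_left p, 0, by simp⟩
  one_mem' := ⟨1, Nat.coprime_one_left p, 1, by simp⟩
  add_mem' := by
    rintro a b ⟨m, hm, x, hx⟩ ⟨n, hn, y, hy⟩
    exact ⟨m * n, hm.mul_left hn, n * x + m * y, by push_cast; linear_combination (n : ℚ) * hx + (m : ℚ) * hy⟩
  mul_mem' := by
    rintro a b ⟨m, hm, x, hx⟩ ⟨n, hn, y, hy⟩
    refine ⟨m * n, hm.mul_left hn, x * y, ?_⟩
    push_cast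
    rw [← hx, ← hy]
    ring
  neg_mem' := by
    rintro a ⟨m, hm, x, hx⟩
    exact ⟨m, hm, -x, by push_cast; linear_combination -hx⟩

/-- Let A be an integral domain in which 2 is invertible and let t be an element of A, so that Spec A is
a scheme over the affine line Spec ℤ[1/2][t]. Assume that (1) the ℚ-algebra map ℚ[X] → ℚ ⊗_ℤ A
sending X to 1 ⊗ t is bijective (the map Spec A → Spec ℤ[1/2][t] becomes an isomorphism after base
change to ℚ); (2) every prime number is invertible in A/(t) (the fibre over t = 0 is of pure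
characteristic zero); and (3) there is a ring homomorphism s : A → ℤ[1/2] with s(t) = 1 (the fibre
over t = 1 admits a section). Then A is not Noetherian. -/
theorem result (A : Type u) [CommRing A]
    [IsDomain A] (h2 : IsUnit (2 : A)) (t : A)
    (h1 : Function.Bijective (Polynomial.aeval (R := ℚ) ((1 : ℚ) ⊗ₜ[ℤ] t : ℚ ⊗[ℤ] A)))
    (h0 : ∀ p : ℕ, p.Prime → IsUnit ((p : ℕ) : A ⧸ Ideal.span ({t} : Set A)))
    (s : A →+* Localization.Away (2 : ℤ)) (hs : s t = 1) :
    ¬ IsNoetherianRing A := by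
  classical
  intro hN
  let e := AlgEquiv.ofBijective (Polynomial.aeval (R := ℚ) ((1 : ℚ) ⊗ₜ[ℤ] t : ℚ ⊗[ℤ] A)) h1
  let φ : A →+* Polynomial ℚ := e.symm.toRingHom.comp
    (Algebra.TensorProduct.includeRight : A →ₐ[ℤ] ℚ ⊗[ℤ] A).toRingHom
  have hφt : φ t = Polynomial.X := by
    show e.symm ((1 : ℚ) ⊗ₜ[ℤ] t) = _
    rw [AlgEquiv.symm_apply_eq]
    simp [e]
  -- the value at 1 is given by the section
  have h20 : IsUnit ((Int.castRingHom ℚ) (2 : ℤ)) := by simp
  let ι : Localization.Away (2 : ℤ) →+* ℚ := IsLocalization.Away.lift (2 : ℤ) h20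
  let τ : A →ₐ[ℤ] ℚ := (ι.comp s).toIntAlgHom
  let L : (ℚ ⊗[ℤ] A) →ₐ[ℚ] ℚ := Algebra.TensorProduct.lift (AlgHom.id ℚ ℚ) τ (fun _ _ => mul_comm _ _)
  have hL : L.comp e.toAlgHom = Polynomial.aeval (1 : ℚ) := by
    apply Polynomial.algHom_ext
    simp [e, L, τ, hs]
  have hev : ∀ a, (φ a).eval 1 = ι (s a) := by
    intro a
    rw [← Polynomial.coe_aeval_eq_eval, ← hL]
    show L (e (e.symm ((1 : ℚ) ⊗ₜ[ℤ] a))) = _
    rw [AlgEquiv.apply_symm_apply]
    simp [L, τ]
  -- Taylor expansion at 1
  let T : A →+* Polynomial ℚ := (Polynomial.taylorEquiv (1 : ℚ)).toRingHom.comp φ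
  have hT0 : ∀ a, (T a).coeff 0 = ι (s a) := fun a => by
    show (Polynomial.taylor 1 (φ a)).coeff 0 = _
    rw [Polynomial.taylor_coeff_zero, hev]
  obtain ⟨G, hG⟩ := (RingHom.ker s).fg_of_isNoetherianRing
  let D : ℕ := ∏ g ∈ G, ∏ i ∈ (T g).support, ((T g).coeff i).den
  obtain ⟨p, hpD, hp⟩ := Nat.exists_infinite_primes (max (D + 1) 3)
  have hpD' : D + 1 ≤ p := le_trans (le_max_left _ _) hpD
  have hp3 : 3 ≤ p := le_trans (le_max_right _ _) hpD
  haveI := Fact.mk hp
  have hgen : ∀ g ∈ G, ∀ i, (T g).coeff i ∈ pIntegral p := by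
    intro g hg i
    by_cases hi : i ∈ (T g).support
    · refine ⟨((T g).coeff i).den, ?_, ((T g).coeff i).num, by simp [mul_comm]⟩
      rw [Nat.coprime_comm, hp.coprime_iff_not_dvd]
      intro hdvd
      have hD : 0 < D := Finset.prod_pos fun g _ => Finset.prod_pos fun i _ => Rat.den_pos _
      have : ((T g).coeff i).den ∣ D :=
        dvd_trans (Finset.dvd_prod_of_mem (fun i => ((T g).coeff i).den) hi)
          (Finset.dvd_prod_of_mem (fun g => ∏ i ∈ (T g).support, ((T g).coeff i).den) hg)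
      have := Nat.le_of_dvd hD (dvd_trans hdvd this)
      omega
    · rw [Polynomial.notMem_support_iff.1 hi]; exact zero_mem _
  have hsec : ∀ a, ι (s a) ∈ pIntegral p := by
    intro a
    obtain ⟨k, z, hz⟩ : ∃ (k : ℕ) (z : ℤ), s a * (2 : Localization.Away (2 : ℤ)) ^ k = z := by
      obtain ⟨⟨z, ⟨_, k, rfl⟩⟩, h⟩ := IsLocalization.surj (Submonoid.powers (2 : ℤ)) (s a)
      exact ⟨k, z, by simpa using h⟩
    refine ⟨2 ^ k, Nat.Coprime.pow_left _ (Nat.prime_two.coprime_iff_not_dvd.2 fun h => by have := (Nat.prime_dvd_prime_iff_eq Nat.prime_two hp).1 h; omega), z, ?_⟩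
    have := congrArg ι hz
    simp only [map_mul, map_pow, map_ofNat, map_intCast] at this
    push_cast
    rw [mul_comm]; exact this
  have key : ∀ k a, (T a).coeff k ∈ pIntegral p := by
    intro k
    induction k using Nat.strong_induction_on with
    | _ k ih =>
      intro a
      rcases Nat.eq_zero_or_pos k with rfl | hk
      · rw [hT0]; exact hsec a
      obtain ⟨j, z, hz⟩ : ∃ (k : ℕ) (z : ℤ), s a * (2 : Localization.Away (2 : ℤ)) ^ k = z := by
        obtain ⟨⟨z, ⟨_, k, rfl⟩⟩, h⟩ := IsLocalization.surj (Submonoid.powers (2 : ℤ)) (s a)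
        exact ⟨k, z, by simpa using h⟩
      obtain ⟨u, hu⟩ := h2.exists_right_inv
      have hmem : a - (z : A) * u ^ j ∈ Ideal.span (G : Set A) := by
        rw [show Ideal.span (G : Set A) = RingHom.ker s from hG, RingHom.mem_ker, map_sub, map_mul, map_intCast, map_pow, ← hz,
          mul_assoc, ← mul_pow]
        have : (2 : Localization.Away (2 : ℤ)) * s u = 1 := by
          rw [← map_ofNat s 2, ← map_mul, hu, map_one]
        rw [this, one_pow, mul_one, sub_self]
      have hu' : T u = Polynomial.C (2 : ℚ)⁻¹ := by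
        have h : (2 : Polynomial ℚ) * T u = 1 := by
          rw [← map_ofNat T 2, ← map_mul, hu, map_one]
        calc T u = Polynomial.C (2 : ℚ)⁻¹ * ((2 : Polynomial ℚ) * T u) := by
              rw [← mul_assoc, ← map_ofNat Polynomial.C 2, ← map_mul]; norm_num
          _ = _ := by rw [h, mul_one]
      obtain ⟨b, -, hb⟩ := (Submodule.mem_span_finset).1 hmem
      have ha : T a = T ((z : A) * u ^ j) + ∑ g ∈ G, T (b g) * T g := by
        simp only [← map_mul, ← map_sum, ← map_add]
        exact congrArg T (by simpa [add_comm] using (sub_eq_iff_eq_add.1 hb.symm))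
      have hc : (T ((z : A) * u ^ j)).coeff k = 0 := by
        simp only [map_mul, map_intCast, map_pow, hu']
        rw [← map_pow, ← Polynomial.C_eq_intCast, ← map_mul, Polynomial.coeff_C_of_ne_zero (by omega)]
      rw [ha, Polynomial.coeff_add, hc, zero_add, Polynomial.finsetSum_coeff]
      refine Subring.sum_mem _ fun g hg => ?_
      rw [Polynomial.coeff_mul]
      refine Subring.sum_mem _ fun x hx => ?_
      have hx' := Finset.mem_antidiagonal.1 hx
      rcases Nat.eq_zero_or_pos x.2 with h0 | hpos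
      · have hg0 : (T g).coeff 0 = 0 := by
          rw [hT0, show s g = 0 from RingHom.mem_ker.1 (hG ▸ Submodule.subset_span hg), map_zero]
        rw [h0, hg0, mul_zero]; exact zero_mem _
      · exact mul_mem (ih x.1 (by omega) _) (hgen g hg _)
  -- but 1/p is a value at t = 0
  obtain ⟨c, hc⟩ := (h0 p hp).exists_right_inv
  obtain ⟨a, rfl⟩ := Ideal.Quotient.mk_surjective c
  have hmem : (p : A) * a - 1 ∈ Ideal.span ({t} : Set A) := by
    rw [← Ideal.Quotient.eq, map_mul, map_natCast, map_one]; exact hc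
  obtain ⟨b, hb⟩ := Ideal.mem_span_singleton'.1 hmem
  have h0' : (φ a).eval 0 ∈ pIntegral p := by
    have : (φ a).eval 0 = (T a).eval (-1) := by
      show _ = (Polynomial.taylor 1 (φ a)).eval (-1)
      rw [Polynomial.taylor_eval]; norm_num
    rw [this, Polynomial.eval_eq_sum, Polynomial.sum_def]
    exact Subring.sum_mem _ fun i _ => mul_mem (key i a) (pow_mem (neg_mem (one_mem _)) _)
  have hpa : (p : ℚ) * (φ a).eval 0 = 1 := by
    have := congrArg (fun x => (φ x).eval 0) hb
    simp [hφt] at this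
    linear_combination -this
  obtain ⟨n, hn, w, hw⟩ := h0'
  have h3 : (n : ℤ) = p * w := by
    have : (n : ℚ) = (p : ℚ) * w := by rw [← hw]; linear_combination -(n : ℚ) * hpa
    exact_mod_cast this
  have : p ∣ n := Int.natCast_dvd_natCast.1 ⟨w, h3⟩
  exact (hp.coprime_iff_not_dvd.1 hn.symm) this

end Groth.Agent.S14048
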