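import Groth.Statements.S14049

set_option autoImplicit false
universe u
open CategoryTheory AlgebraicGeometry
open LocStr

namespace Groth.Agent.S14049

theorem surjective_of_surjective_mod_sq {A B : Type*} [CommRing A] [CommRing B] (J : Ideal A)
    (hJ : ∃ n, J ^ n = ⊥) (φ : B →+* A) (h : ∀ a, ∃ b, a - φ b ∈ J ^ 2) : Function.Surjective φ := by
  have key : ∀ k, ∀ a, ∃ b, a - φ b ∈ J ^ (k + 2) := by
    intro k
    induction k with
    | zero => exact h
    | succ k ih =>
      have hstep : ∀ x ∈ J ^ (k + 2), ∃ b, x - φ b ∈ J ^ (k + 3) := by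
        intro x hx
        rw [pow_succ] at hx
        induction hx using Submodule.mul_induction_on' with
        | mem_mul_mem u hu v hv =>
          obtain ⟨bu, hbu⟩ := ih u
          obtain ⟨bv, hbv⟩ := h v
          refine ⟨bu * bv, ?_⟩
          have e : u * v - φ (bu * bv) = u * (v - φ bv) + (φ bv - v) * (u - φ bu) + v * (u - φ bu) := by
            rw [map_mul]; ring
          rw [e]
          have h1 : (φ bv - v) ∈ J := by
            have := Ideal.pow_le_self (by norm_num : (2:ℕ) ≠ 0) hbv
            simpa using J.neg_mem this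
          refine add_mem (add_mem ?_ ?_) ?_
          · rw [show k + 3 = (k + 1) + 2 from rfl, pow_add]
            exact Ideal.mul_mem_mul hu hbv
          · rw [pow_succ']
            exact Ideal.mul_mem_mul h1 hbu
          · rw [pow_succ']
            exact Ideal.mul_mem_mul hv hbu
        | add u _ v _ hu hv =>
          obtain ⟨bu, hbu⟩ := hu
          obtain ⟨bv, hbv⟩ := hv
          refine ⟨bu + bv, ?_⟩
          rw [map_add, show u + v - (φ bu + φ bv) = (u - φ bu) + (v - φ bv) by ring]
          exact add_mem hbu hbv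
      intro a
      obtain ⟨b, hb⟩ := ih a
      obtain ⟨c, hc⟩ := hstep _ hb
      exact ⟨b + c, by rwa [map_add, ← sub_sub]⟩
  obtain ⟨n, hn⟩ := hJ
  intro a
  obtain ⟨b, hb⟩ := key n a
  rw [pow_add, hn, Ideal.bot_mul, Ideal.mem_bot, sub_eq_zero] at hb
  exact ⟨b, hb.symm⟩

/-- For schemes. Let f : X → Y be a morphism of schemes and let I be a quasi-coherent sheaf of ideals on
X which is nilpotent (some power of I is zero). Let X₁ ⊆ X be the closed subscheme defined by I².
Then f is a closed immersion as soon as the composite X₁ → X → Y is one. (The published statement is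
the same assertion for a morphism of algebraic stacks; it is stated here for schemes.) -/
theorem result (X Y : Scheme.{u}) (f : X ⟶ Y)
    (I : X.IdealSheafData) (hI : IsNilpotent I)
    (h : IsClosedImmersion ((I ^ 2).subschemeι ≫ f)) :
    IsClosedImmersion f := by
  obtain ⟨n, hn⟩ := hI
  set ι₂ := (I ^ 2).subschemeι
  have hn1 : I ^ (n + 1) = 0 := by rw [pow_succ, hn, zero_mul]
  have hsupp : (I ^ 2).support = ⊤ := by
    rw [Scheme.IdealSheafData.support_pow I 2 (by norm_num), ← Scheme.IdealSheafData.support_pow_succ (I := I) n,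
      hn1, Scheme.IdealSheafData.zero_eq_bot, Scheme.IdealSheafData.support_bot]
  have hhom : IsHomeomorph ι₂.base := by
    rw [isHomeomorph_iff_isEmbedding_surjective]
    refine ⟨ι₂.isClosedEmbedding.isEmbedding, fun x => ?_⟩
    have : x ∈ Set.range ι₂.base := by
      show x ∈ Set.range (I ^ 2).subschemeι
      rw [Scheme.IdealSheafData.range_subschemeι, hsupp]
      trivial
    exact this
  have hce : Topology.IsClosedEmbedding f.base := by
    have h1 : Topology.IsClosedEmbedding (f.base ∘ ι₂.base) := by
      simpa using (ι₂ ≫ f).isClosedEmbedding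
    have h2 := h1.comp hhom.homeomorph.symm.isClosedEmbedding
    have h3 : (f.base ∘ ι₂.base) ∘ hhom.homeomorph.symm = f.base := by
      funext x
      exact congrArg f.base (hhom.homeomorph.apply_symm_apply x)
    rwa [h3] at h2
  have : IsAffineHom f := isAffineHom_of_isInducing f hce.isInducing hce.isClosed_range
  refine isClosedImmersion_iff_isAffineHom.mpr ⟨inferInstance, fun V hV => ?_⟩
  let U : X.affineOpens := ⟨f ⁻¹ᵁ V, hV.preimage f⟩
  have hcomp : Function.Surjective ((ι₂.app U.1).hom ∘ (f.app V).hom) := by
    have := Scheme.Hom.app_surjective (ι₂ ≫ f) V hV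
    rw [Scheme.Hom.comp_app] at this
    exact this
  refine surjective_of_surjective_mod_sq (I.ideal U) ⟨n + 1, ?_⟩ (f.app V).hom fun a => ?_
  · have := congrArg (fun J : X.IdealSheafData => J.ideal U) hn1
    simpa using this
  · obtain ⟨b, hb⟩ := hcomp ((ι₂.app U.1).hom a)
    refine ⟨b, ?_⟩
    have hk := Scheme.IdealSheafData.ker_subschemeι_app (I ^ 2) U
    rw [show I.ideal U ^ 2 = (I ^ 2).ideal U from rfl, ← hk, RingHom.mem_ker, map_sub, sub_eq_zero]
    exact hb.symm

end Groth.Agent.S14049
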