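import Groth.Statements.S14050
import Groth.Agent.Lib.Smoothing.Approx.Basic
import Groth.Agent.Lib.Smoothing.Approx.Functor
import Groth.Agent.Lib.Smoothing.Approx.GRing

set_option autoImplicit false
universe u
open CategoryTheory CategoryTheory.Limits
open Hensel

namespace Groth.Agent.S14050

/-- Let A be a G-ring, that is a Noetherian ring whose local rings have regular completion maps (for
instance a quasi-excellent ring), let I be an ideal such that (A, I) is a henselian pair, and let Â
be the I-adic completion of A. Let F be a functor from A-algebras (commutative rings under A) to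
sets which preserves filtered colimits, let ξ ∈ F(Â) and n ≥ 0. Then there is η ∈ F(A) such that η
and ξ have the same image in F(A/I^(n+1)). Here π is the A-algebra map Â → A/I^(n+1), pinned by its
underlying ring map, and ρ is the structure map A → A/I^(n+1). (The published statement is for a
limit-preserving contravariant functor on all schemes over Spec A; only its values on affine schemes
enter, and those form a functor on A-algebras preserving filtered colimits, which is the form stated
here.) -/
theorem result (A : Type u) [CommRing A]
    (I : Ideal A) [HenselianRing A I] (hG : CAlg.IsGRing A)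
    (F : Under (CommRingCat.of A) ⥤ Type u)
    (hF : ∀ (J : Type u) [SmallCategory J] [IsFiltered J], PreservesColimitsOfShape J F)
    (n : ℕ)
    (π : Under.mk (CommRingCat.ofHom (algebraMap A (AdicCompletion I A))) ⟶
      Under.mk (CommRingCat.ofHom (algebraMap A (A ⧸ I ^ (n + 1)))))
    (hπ : π.right = CommRingCat.ofHom
      (AdicCompletion.evalₐ I (n + 1) : AdicCompletion I A →ₐ[A] A ⧸ I ^ (n + 1)).toRingHom)
    (ρ : Under.mk (𝟙 (CommRingCat.of A)) ⟶
      Under.mk (CommRingCat.ofHom (algebraMap A (A ⧸ I ^ (n + 1)))))
    (ξ : F.obj (Under.mk (CommRingCat.ofHom (algebraMap A (AdicCompletion I A))))) :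
    ∃ η : F.obj (Under.mk (𝟙 (CommRingCat.of A))), F.map ρ η = F.map π ξ := by
  refine Smoothing.Approx.exists_map_eq (AdicCompletion.evalₐ I (n + 1)) ?_ F hF π hπ ρ ξ
  intro C _ _ hC φ
  haveI := hC
  haveI := hG.1
  obtain ⟨ψ, hψ⟩ := Smoothing.Approx.exists_algHom_approx I (Smoothing.Approx.isRegularHom_adicCompletion hG I) C φ (n + 1)
  exact ⟨ψ, fun c => AlgHom.congr_fun hψ c⟩

end Groth.Agent.S14050
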