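import Groth.Statements.S14051
import Mathlib
import Groth.Agent.Lib.GradedGen

set_option autoImplicit false
universe u
open CAlg

namespace Groth.Agent.S14051

/-- Let A be a commutative ℕ-graded algebra over a base ring R which is generated by A_1 as an
A_0-algebra, written as A_{n+1} = A_1 · A_n for every n, and let M be a graded A-module: an A-module
with R-submodules M_n giving a direct-sum decomposition and A_i · M_j ⊆ M_{i+j}. If M is spanned
over A by a set of homogeneous elements all of degree at most n₀, then for every n ≥ n₀ and every k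
≥ 0 the degree-(n+k) part of M is A_k · M_n. -/
theorem result
    (R : Type u) [CommRing R] (A : Type u) [CommRing A] [Algebra R A]
    (𝒜 : ℕ → Submodule R A) [GradedAlgebra 𝒜]
    (hA : ∀ n : ℕ, 𝒜 (n + 1) = 𝒜 1 * 𝒜 n)
    (M : Type u) [AddCommGroup M] [Module R M] [Module A M] [IsScalarTower R A M]
    (ℳ : ℕ → Submodule R M) [DirectSum.Decomposition ℳ] [SetLike.GradedSMul 𝒜 ℳ]
    (s : Set M) (n₀ : ℕ) (hs : ∀ y ∈ s, ∃ d : ℕ, d ≤ n₀ ∧ y ∈ ℳ d)
    (hspan : Submodule.span A s = ⊤)
    (n k : ℕ) (hn : n₀ ≤ n) :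
    ℳ (n + k) = 𝒜 k • ℳ n :=
  H2GradedGen.piece_eq_smul 𝒜 ℳ hA s n₀ hs hspan n k hn

end Groth.Agent.S14051
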