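import Groth.Statements.S14052
import Mathlib
import Groth.Agent.Lib.GradedGen

set_option autoImplicit false
universe u
open CAlg

namespace Groth.Agent.S14052

/-- Let A be a commutative ℕ-graded algebra over a base ring R with A_{n+1} = A_1 · A_n for every n (A
is generated by A_1 over A_0), and let S be a commutative ℕ-graded A-algebra, the structure map
sending A_i into S_i, which is a finite A-module. Let s be a finite set of homogeneous elements
spanning S as an A-module, all of degree at most n₀, with n₀ > 0. Then (1) S_{n+k} = S_k · S_n for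
all n ≥ n₀ and k ≥ 0, and (2) for every d ≥ n₀ the d-th Veronese subring of S is generated by S_d
over S_0, that is S_{md} = (S_d)^m for every m > 0. -/
theorem result
    (R : Type u) [CommRing R] (A : Type u) [CommRing A] [Algebra R A]
    (𝒜 : ℕ → Submodule R A) [GradedAlgebra 𝒜] (hA : ∀ n : ℕ, 𝒜 (n + 1) = 𝒜 1 * 𝒜 n)
    (S : Type u) [CommRing S] [Algebra R S] [Algebra A S] [IsScalarTower R A S]
    (𝒮 : ℕ → Submodule R S) [GradedAlgebra 𝒮]
    (hAS : ∀ (i : ℕ) (a : A), a ∈ 𝒜 i → algebraMap A S a ∈ 𝒮 i)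
    [Module.Finite A S]
    (s : Set S) (hsfin : s.Finite) (n₀ : ℕ) (hn₀ : 0 < n₀)
    (hs : ∀ y ∈ s, ∃ d : ℕ, d ≤ n₀ ∧ y ∈ 𝒮 d) (hspan : Submodule.span A s = ⊤) :
    (∀ n k : ℕ, n₀ ≤ n → 𝒮 (n + k) = 𝒮 k * 𝒮 n) ∧
      (∀ d : ℕ, n₀ ≤ d → ∀ m : ℕ, 0 < m → 𝒮 (m * d) = 𝒮 d ^ m) := by
  have : SetLike.GradedSMul 𝒜 𝒮 := ⟨fun {i j} {a x} ha hx => by
    rw [Algebra.smul_def]; exact SetLike.mul_mem_graded (hAS i a ha) hx⟩
  have h1 : ∀ n k : ℕ, n₀ ≤ n → 𝒮 (n + k) = 𝒮 k * 𝒮 n := fun n k hn => by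
    refine le_antisymm ?_ (Submodule.mul_le.2 fun a ha b hb => ?_)
    · rw [H2GradedGen.piece_eq_smul 𝒜 𝒮 hA s n₀ hs hspan n k hn]
      refine Submodule.smul_le.2 fun a ha b hb => ?_
      rw [Algebra.smul_def]
      exact Submodule.mul_mem_mul (hAS k a ha) hb
    · rw [add_comm]; exact SetLike.mul_mem_graded ha hb
  refine ⟨h1, fun d hd m hm => ?_⟩
  induction m, hm using Nat.le_induction with
  | base => simp
  | succ m hm ih =>
    rw [add_mul, one_mul, h1 (m * d) d (hd.trans (Nat.le_mul_of_pos_left d hm)), ih, pow_succ']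

end Groth.Agent.S14052
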