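import Groth.Statements.S14053
import Mathlib.RingTheory.GradedAlgebra.Basic
import Mathlib.Algebra.MvPolynomial.Eval
import Mathlib.LinearAlgebra.FiniteDimensional.Basic
import Mathlib.Algebra.Algebra.Operations
import Mathlib.Algebra.BigOperators.Fin
import Mathlib.Tactic.Ring
-- import your own Groth.Agent.* helpers here

set_option autoImplicit false
universe u
open CAlg

namespace Groth.Agent.S14053

theorem exists_le_sum_eq {ι : Type*} [DecidableEq ι] (s : Finset ι) (q : ι → ℕ) :
    ∀ K, K ≤ ∑ i ∈ s, q i → ∃ q' : ι → ℕ, (∀ i, q' i ≤ q i) ∧ ∑ i ∈ s, q' i = K := by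
  induction s using Finset.induction_on with
  | empty => exact fun K hK => ⟨fun _ => 0, fun _ => Nat.zero_le _, by simp at hK ⊢; omega⟩
  | @insert a s ha ih =>
    intro K hK
    rw [Finset.sum_insert ha] at hK
    obtain ⟨q', h1, h2⟩ := ih (K - min K (q a)) (by omega)
    refine ⟨Function.update q' a (min K (q a)), fun i => ?_, ?_⟩
    · rcases eq_or_ne i a with rfl | h
      · simp
      · simp [h, h1 i]
    · rw [Finset.sum_insert ha, Function.update_self,
        Finset.sum_congr rfl (fun i hi => Function.update_of_ne (ne_of_mem_of_not_mem hi ha) _ _), h2]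
      omega

theorem monomial_mem {k R ι : Type*} [CommSemiring k] [CommRing R] [Algebra k R] [Fintype ι]
    (ℛ : ℕ → Submodule k R) [GradedAlgebra ℛ] (v : ι → R) (w : ι → ℕ)
    (hv : ∀ i, v i ∈ ℛ (w i)) (hw : ∀ i, w i ∣ 6) (e : ℕ)
    (he : ∑ i, w i * (6 / w i - 1) ≤ e) :
    ∀ (m : ℕ) (a : ι → ℕ), ∑ i, a i * w i = (m + 1) * (6 * e) →
      ∏ i, v i ^ a i ∈ ℛ (6 * e) ^ (m + 1) := by
  classical
  have hmem : ∀ b : ι → ℕ, ∏ i, v i ^ b i ∈ ℛ (∑ i, b i * w i) := fun b =>
    SetLike.prod_mem_graded ℛ _ _ fun i _ => by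
      simpa using SetLike.pow_mem_graded (b i) (hv i)
  intro m
  induction m with
  | zero =>
    intro a ha
    rw [pow_one]
    have h := hmem a
    rwa [ha, Nat.zero_add, one_mul] at h
  | succ m ih =>
    intro a ha
    have hc : ∀ i, 6 / w i * w i = 6 := fun i => Nat.div_mul_cancel (hw i)
    have hcpos : ∀ i, 0 < 6 / w i := fun i => by
      have := hc i
      rcases Nat.eq_zero_or_pos (6 / w i) with h | h
      · rw [h, zero_mul] at this; omega
      · exact h
    let r : ι → ℕ := fun i => a i % (6 / w i)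
    let q : ι → ℕ := fun i => a i / (6 / w i)
    have hsplit : ∀ i, a i * w i = r i * w i + q i * 6 := fun i => by
      conv_lhs => rw [← Nat.mod_add_div (a i) (6 / w i)]
      rw [add_mul, mul_comm (6 / w i), mul_assoc, hc i]
    have hRQ : ∑ i, r i * w i + (∑ i, q i) * 6 = (m + 1 + 1) * (6 * e) := by
      rw [← ha, Finset.sum_mul, ← Finset.sum_add_distrib]
      exact Finset.sum_congr rfl fun i _ => (hsplit i).symm
    have hR : ∑ i, r i * w i ≤ e := le_trans (Finset.sum_le_sum fun i _ => by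
      rw [mul_comm]
      exact Nat.mul_le_mul_left _ (by have := Nat.mod_lt (a i) (hcpos i); simp only [r]; omega)) he
    obtain ⟨K, hK⟩ : ∃ K, ∑ i, r i * w i + K * 6 = 6 * e := by
      refine ⟨e - ((m + 1 + 1) * e - ∑ i, q i), ?_⟩
      have h' : (m + 1 + 1) * (6 * e) = 6 * ((m + 1 + 1) * e) := by ring
      omega
    have hKle : K ≤ ∑ i, q i := by
      have h' : (m + 1 + 1) * (6 * e) = 6 * e + (m + 1) * (6 * e) := by ring
      omega
    obtain ⟨q', hq', hq's⟩ := exists_le_sum_eq Finset.univ q K hKle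
    let b : ι → ℕ := fun i => r i + q' i * (6 / w i)
    have hb : ∀ i, b i ≤ a i := fun i => by
      have h1 := Nat.mul_le_mul_right (6 / w i) (hq' i)
      have h2 := Nat.mod_add_div (a i) (6 / w i)
      simp only [b, r, q] at h1 ⊢
      rw [mul_comm] at h2
      omega
    have hbdeg : ∑ i, b i * w i = 6 * e := by
      rw [← hK, ← hq's, Finset.sum_mul, ← Finset.sum_add_distrib]
      exact Finset.sum_congr rfl fun i _ => by simp only [b]; rw [add_mul, mul_assoc, hc i]
    have hprod : ∏ i, v i ^ a i = (∏ i, v i ^ (a i - b i)) * ∏ i, v i ^ b i := by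
      rw [← Finset.prod_mul_distrib]
      exact Finset.prod_congr rfl fun i _ => by rw [← pow_add, Nat.sub_add_cancel (hb i)]
    rw [hprod, pow_succ]
    refine Submodule.mul_mem_mul (ih _ ?_) (hbdeg ▸ hmem b)
    have h' : (m + 1 + 1) * (6 * e) = 6 * e + (m + 1) * (6 * e) := by ring
    have hsum : ∑ i, (a i - b i) * w i + ∑ i, b i * w i = ∑ i, a i * w i := by
      rw [← Finset.sum_add_distrib]
      exact Finset.sum_congr rfl fun i _ => by rw [← add_mul, Nat.sub_add_cancel (hb i)]
    omega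

/-- Let k be a field and R a commutative ℕ-graded k-algebra with R_0 = k · 1 which is generated as a
k-algebra by R_1, R_2 and R_3, each a finite-dimensional k-vector space, of dimensions d_1, d_2,
d_3. Then for every natural number e ≥ 5 d_1 + 4 d_2 + 3 d_3 the (6e)-th Veronese subring of R is
generated in degree one over k: R_{6em} = (R_{6e})^m for every m > 0. -/
theorem result
    (k : Type u) [Field k] (R : Type u) [CommRing R] [Algebra k R]
    (ℛ : ℕ → Submodule k R) [GradedAlgebra ℛ]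
    (h0 : ℛ 0 = 1)
    (hgen : Algebra.adjoin k ((ℛ 1 : Set R) ∪ (ℛ 2 : Set R) ∪ (ℛ 3 : Set R)) = ⊤)
    [Module.Finite k (ℛ 1)] [Module.Finite k (ℛ 2)] [Module.Finite k (ℛ 3)]
    (e : ℕ) (he : 5 * Module.finrank k (ℛ 1) + 4 * Module.finrank k (ℛ 2) + 3 * Module.finrank k (ℛ 3) ≤ e)
    (m : ℕ) (hm : 0 < m) :
    ℛ (m * (6 * e)) = ℛ (6 * e) ^ m := by
  classical
  obtain ⟨m, rfl⟩ : ∃ m', m = m' + 1 := ⟨m - 1, by omega⟩
  refine le_antisymm ?_ ?_
  · let d1 := Module.finrank k (ℛ 1)
    let d2 := Module.finrank k (ℛ 2)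
    let d3 := Module.finrank k (ℛ 3)
    let B1 := Module.finBasis k (ℛ 1)
    let B2 := Module.finBasis k (ℛ 2)
    let B3 := Module.finBasis k (ℛ 3)
    let v : Fin d1 ⊕ Fin d2 ⊕ Fin d3 → R :=
      Sum.elim (fun i => (B1 i : R)) (Sum.elim (fun i => (B2 i : R)) (fun i => (B3 i : R)))
    let w : Fin d1 ⊕ Fin d2 ⊕ Fin d3 → ℕ := Sum.elim (fun _ => 1) (Sum.elim (fun _ => 2) (fun _ => 3))
    have hv : ∀ i, v i ∈ ℛ (w i) := by
      rintro (i | i | i)
      · exact (B1 i).2
      · exact (B2 i).2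
      · exact (B3 i).2
    have hw : ∀ i, w i ∣ 6 := by
      rintro (i | i | i) <;> simp [w]
    have he' : ∑ i, w i * (6 / w i - 1) ≤ e := by
      simp [w, Fintype.sum_sum_type]
      omega
    have htop : (⊤ : Subalgebra k R) ≤ Algebra.adjoin k (Set.range v) := by
      rw [← hgen, Algebra.adjoin_le_iff]
      have key : ∀ (n l : ℕ) (Bn : Module.Basis (Fin l) k (ℛ n)),
          (∀ i, (Bn i : R) ∈ Set.range v) → (ℛ n : Set R) ⊆ Algebra.adjoin k (Set.range v) := by
        intro n l Bn hBn x hx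
        have hle : ℛ n ≤ (Algebra.adjoin k (Set.range v)).toSubmodule := by
          rw [← (ℛ n).map_subtype_top, ← Bn.span_eq, Submodule.map_span, Submodule.span_le]
          rintro _ ⟨_, ⟨i, rfl⟩, rfl⟩
          exact Algebra.subset_adjoin (hBn i)
        exact hle hx
      exact Set.union_subset (Set.union_subset (key 1 _ B1 fun i => ⟨Sum.inl i, rfl⟩)
        (key 2 _ B2 fun i => ⟨Sum.inr (Sum.inl i), rfl⟩)) (key 3 _ B3 fun i => ⟨Sum.inr (Sum.inr i), rfl⟩)
    intro x hx
    have hxa : x ∈ Algebra.adjoin k (Set.range v) := htop Algebra.mem_top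
    rw [Algebra.adjoin_range_eq_range_aeval] at hxa
    obtain ⟨f, hf⟩ := hxa
    replace hf : MvPolynomial.aeval v f = x := hf
    subst hf
    have hxp := GradedRing.proj_apply ℛ ((m + 1) * (6 * e)) (MvPolynomial.aeval v f)
    erw [DirectSum.decompose_of_mem_same ℛ hx] at hxp
    show MvPolynomial.aeval v f ∈ ℛ (6 * e) ^ (m + 1)
    rw [← hxp, f.as_sum, map_sum, map_sum]
    refine Submodule.sum_mem _ fun a _ => ?_
    rw [MvPolynomial.aeval_monomial, Finsupp.prod_fintype _ _ (fun i => pow_zero _), ← Algebra.smul_def]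
    have hmem : MvPolynomial.coeff a f • ∏ i, v i ^ a i ∈ ℛ (∑ i, a i * w i) := by
      refine Submodule.smul_mem _ _ (SetLike.prod_mem_graded ℛ _ _ fun i _ => ?_)
      simpa using SetLike.pow_mem_graded (a i) (hv i)
    rw [GradedRing.proj_apply]
    by_cases hdeg : ∑ i, a i * w i = (m + 1) * (6 * e)
    · rw [← hdeg, DirectSum.decompose_of_mem_same ℛ hmem]
      exact Submodule.smul_mem _ _ (monomial_mem ℛ v w hv hw e he' m _ hdeg)
    · rw [DirectSum.decompose_of_mem_ne ℛ hmem hdeg]
      exact zero_mem _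
  · clear hgen he hm
    induction m with
    | zero => rw [pow_one, zero_add, one_mul]
    | succ m ih =>
      rw [pow_succ, Submodule.mul_le]
      intro a ha b hb
      rw [add_mul (m + 1) 1, one_mul]
      exact SetLike.mul_mem_graded (ih ha) hb

end Groth.Agent.S14053
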