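import Groth.Statements.S14054
import Groth.Agent.Lib.CMReg.GenKoszul
import Groth.Agent.Lib.Euler.Coh
import Groth.Agent.Lib.Euler.Basic

set_option autoImplicit false
universe u
open CategoryTheory CategoryTheory.Limits AlgebraicGeometry TopologicalSpace
open Variety

namespace Groth.Agent.S14054

/-- Let X be a proper scheme over a field k, L a globally generated invertible O_X-module with tensor
inverse M, r = dim_k H⁰(X, L), and b ≥ 1 an integer such that H^q(X, L^{⊗(b−q)}) = 0 whenever 1 ≤ q
≤ r − 1, where for q > b the module L^{⊗(b−q)} is the tensor power M^{⊗(q−b)}. Then the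
multiplication map H⁰(X, L^{⊗b}) ⊗ H⁰(X, L) → H⁰(X, L^{⊗(b+1)}) is surjective. The map is written as
the canonical map from the global sections of the sectionwise tensor product presheaf of L^{⊗b} and
L (these are H⁰(L^{⊗b}) ⊗ H⁰(L), tensor over the global functions) to the global sections of its
sheafification L^{⊗b} ⊗ L = L^{⊗(b+1)}. The base field is arbitrary. -/
theorem result (k : Type u) [Field k]
    (X : Scheme.{u}) [X.Over (Spec (CommRingCat.of k))] [IsProper (X ↘ (Spec (CommRingCat.of k)))]
    (L : X.Modules) (hL : PicF.IsInvertible L) (hgg : Curv2.IsGloballyGenerated L)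
    (M : X.Modules) (hM : ClSub.IsInverseOf M L)
    (b : ℕ) (hb : 1 ≤ b)
    (hvan₁ : ∀ q : ℕ, 1 ≤ q → q ≤ b → q < Module.finrank k (Coh.HH X L 0) →
      Subsingleton (Coh.HH X (CohB1.tensorPow L (b - q)) q))
    (hvan₂ : ∀ q : ℕ, b < q → q < Module.finrank k (Coh.HH X L 0) →
      Subsingleton (Coh.HH X (CohB1.tensorPow M (q - b)) q)) :
    Function.Surjective
      ((toSheafify (Opens.grothendieckTopology X) (CohB1.tensorPre (CohB1.tensorPow L b) L).presheaf).app
        (Opposite.op ⊤)) := by
  haveI := GrothLib.Euler.isNoetherian_of_proper k (X := X)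
  haveI : FiniteDimensional k (Coh.HH X L 0) :=
    GrothLib.Euler.finiteDimensional_HH k (GrothLib.Euler.isCoh_of_isInvertible hL) 0
  exact GrothLib.CMReg.surjective_mul_of_vanishing k hL hgg hM b hvan₁ hvan₂

end Groth.Agent.S14054
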