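import Groth.Statements.S14055
import Groth.Agent.Lib.SurfRR28.Canonical

set_option autoImplicit false
universe u
open CategoryTheory CategoryTheory.Limits AlgebraicGeometry TopologicalSpace
open Surf

namespace Groth.Agent.S14055

/-- Let k be an algebraically closed field and X a smooth surface over k: an integral scheme, proper and
smooth over k, of dimension 2; let W be its canonical module, a second exterior power of Ω_{X/k}.
For an invertible module L and an integral closed one-dimensional subscheme C ⊆ X write (L·C) =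
χ(O_C ⊗ L) − χ(O_C). If W is nef, that is (W·C) ≥ 0 for every such C, then X is minimal: it contains
no (−1)-curve, where a (−1)-curve is taken, through its numerical characterization, to be an
integral closed one-dimensional subscheme E with H¹(E, O_E) = 0 and (O_X(E)·E) = −1, O_X(E) being a
tensor inverse of the ideal sheaf of E. -/
theorem result (k : Type u) [Field k] [IsAlgClosed k] (X : Scheme.{u})
    [X.Over (Spec (CommRingCat.of k))] [IsProper (X ↘ (Spec (CommRingCat.of k)))] [Smooth (X ↘ (Spec (CommRingCat.of k)))]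
    [IsIntegral X] (hdim : topologicalKrullDim X = 2)
    (W : X.Modules) (hW : ExtPow.IsExtPow 2 (Omega.sheaf (X ↘ (Spec (CommRingCat.of k)))) W)
    (hnef : (∀ C : X.IdealSheafData, IsIntegral C.subscheme → topologicalKrullDim (C.support : Set X) = 1 →
      0 ≤ Curv2.euler k X (CohB1.tensorMod (ClSub.quotMod C) W) - Curv2.euler k X (ClSub.quotMod C))) :
    (∀ (E : X.IdealSheafData) (N : X.Modules), IsIntegral E.subscheme →
      topologicalKrullDim (E.support : Set X) = 1 → ClSub.IsInverseOf N (ClSub.idealMod E) →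
      Subsingleton (Coh.HH E.subscheme (Coh.structureModule E.subscheme) 1) →
      Curv2.euler k X (CohB1.tensorMod (ClSub.quotMod E) N) - Curv2.euler k X (ClSub.quotMod E) ≠ -1) := by
  intro E N hEi hEd hN hh1 heq
  have hd : topologicalKrullDim X = ((2 : ℕ) : WithBot ℕ∞) := hdim
  obtain ⟨A, hA⟩ := GrothLib.Goodman.exists_ample_of_smooth_surface k hd
  have hW' := GrothLib.SurfRR28.isInvertible_W k hd hW
  have hI := GrothLib.HodgeIndex.inv_curve k hd hEi hEd
  obtain ⟨N₀, hN₀i, hN₀c⟩ : ∃ (N₀ : X.Modules) (h : PicF.IsInvertible N₀), GrothLib.Cube.clsMod h = GrothLib.HodgeIndex.cCl E :=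
    ⟨_, GrothLib.HodgeIndex.isInv_rep _, GrothLib.HodgeIndex.cls_rep _⟩
  haveI := GrothLib.Euler.isNoetherian_of_proper (X := X) k
  obtain ⟨eN⟩ : Nonempty (N ≅ N₀) := by
    obtain ⟨a⟩ := hN
    have hc : GrothLib.HodgeIndex.cCl E = (GrothLib.Cube.clsMod hI)⁻¹ := by rw [GrothLib.HodgeIndex.cCl, dif_pos hI]
    obtain ⟨b⟩ : Nonempty (CohB1.tensorMod N₀ (ClSub.idealMod E) ≅ Coh.structureModule X) :=
      (GrothLib.Cube.clsMod_eq_one_iff (GrothLib.Ample.isInvertible_tensorMod hN₀i hI)).1
        (by rw [GrothLib.Cube.clsMod_tensorMod hN₀i hI, hN₀c, hc, inv_mul_cancel])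
    haveI := GrothLib.FundIso27.isEquivalence_tensor hI
    exact ⟨(GrothLib.Euler.tF (ClSub.idealMod E)).preimageIso (a ≪≫ b.symm)⟩
  obtain ⟨c, ⟨ec⟩⟩ := GrothLib.Ample.exists_cocycle hN₀i
  have hNi : PicF.IsInvertible N := c.isInvertible_of_iso (eN ≪≫ ec)
  rw [GrothLib.HodgeIndex.euler_sub_eq_isect k hd hEi hEd hNi, (GrothLib.Cube.clsMod_eq_iff hNi hN₀i).2 ⟨eN⟩, hN₀c] at heq
  have hnW := hnef E hEi hEd
  rw [GrothLib.HodgeIndex.euler_sub_eq_isect k hd hEi hEd hW', GrothLib.HodgeIndex.isect_comm] at hnW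
  have hadj := GrothLib.SurfRR28.adjunction_isect k hd hA hW E hEi hEd
  rw [GrothLib.SurfRR28.euler_quotMod_curve k E hEi hEd, heq] at hadj
  letI : E.subscheme.Over (Spec (CommRingCat.of k)) := ⟨E.subschemeι ≫ X ↘ Spec (CommRingCat.of k)⟩
  have hg : Curv2.genus k E.subscheme = 0 := Module.finrank_zero_of_subsingleton
  omega

end Groth.Agent.S14055
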