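import Groth.Statements.S14056
import Groth.Agent.Lib.PlaneBlow28.NegCurve
import Groth.Agent.Lib.SurfRR28.Curve

set_option autoImplicit false
universe u
open CategoryTheory CategoryTheory.Limits AlgebraicGeometry TopologicalSpace
open Surf

namespace Groth.Agent.S14056

/-- Let k be an algebraically closed field and X a smooth surface over k: an integral scheme, proper and
smooth over k, of dimension 2; let W be its canonical module, a second exterior power of Ω_{X/k}.
For an invertible module L and an integral closed one-dimensional subscheme C ⊆ X write (L·C) =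
χ(O_C ⊗ L) − χ(O_C). Suppose that X has non-negative Kodaira dimension, that is some tensor power
W^{⊗m} with m > 0 has a nonzero global section, and that X is minimal: it contains no (−1)-curve,
where a (−1)-curve is taken, through its numerical characterization, to be an integral closed
one-dimensional subscheme E with H¹(E, O_E) = 0 and (O_X(E)·E) = −1, O_X(E) being a tensor inverse
of the ideal sheaf of E. Then W is nef: (W·C) ≥ 0 for every integral closed one-dimensional C ⊆ X.
(Together with the first assertion: under non-negative Kodaira dimension, X is minimal if and only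
if W is nef.) -/
theorem result (k : Type u) [Field k] [IsAlgClosed k] (X : Scheme.{u})
    [X.Over (Spec (CommRingCat.of k))] [IsProper (X ↘ (Spec (CommRingCat.of k)))] [Smooth (X ↘ (Spec (CommRingCat.of k)))]
    [IsIntegral X] (hdim : topologicalKrullDim X = 2)
    (W : X.Modules) (hW : ExtPow.IsExtPow 2 (Omega.sheaf (X ↘ (Spec (CommRingCat.of k)))) W)
    (m : ℕ) (hm : 0 < m) (hsec : Nontrivial (Coh.HH X (CohB1.tensorPow W m) 0))
    (hmin : (∀ (E : X.IdealSheafData) (N : X.Modules), IsIntegral E.subscheme →
      topologicalKrullDim (E.support : Set X) = 1 → ClSub.IsInverseOf N (ClSub.idealMod E) →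
      Subsingleton (Coh.HH E.subscheme (Coh.structureModule E.subscheme) 1) →
      Curv2.euler k X (CohB1.tensorMod (ClSub.quotMod E) N) - Curv2.euler k X (ClSub.quotMod E) ≠ -1)) :
    (∀ C : X.IdealSheafData, IsIntegral C.subscheme → topologicalKrullDim (C.support : Set X) = 1 →
      0 ≤ Curv2.euler k X (CohB1.tensorMod (ClSub.quotMod C) W) - Curv2.euler k X (ClSub.quotMod C)) := by
  obtain ⟨hs2, n, ι, hι, hιc⟩ := GrothLib.SurfRR28.exists_embedding k X hdim
  haveI := hι
  have hA := GrothLib.HodgeIndex.isAmple_hyperplane ι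
  have hWi := GrothLib.SurfRR28.isInvertible_W k hdim hW
  intro C hCi hCd
  obtain ⟨N, hNi, hN⟩ := GrothLib.Kodaira.exists_inverse (GrothLib.HodgeIndex.inv_curve k hdim hCi hCd)
  rw [GrothLib.PlaneBlow28.deg_curve k hdim hCi hCd hWi]
  by_contra hneg
  push Not at hneg
  have hne := hmin C N hCi hCd hN
  rw [GrothLib.PlaneBlow28.deg_inverse k hdim hCi hCd hN hNi] at hne
  have hz : GrothLib.PlaneBlow28.h k 0 (GrothLib.Cube.clsMod hWi ^ m) ≠ 0 := fun h0 => by
    rw [← GrothLib.Cube.clsMod_tensorPow hWi] at h0
    haveI := hsec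
    exact not_subsingleton (Coh.HH X (CohB1.tensorPow W m) 0)
      ((GrothLib.PlaneBlow28.subsingleton_iff k (GrothLib.Ample.isInvertible_tensorPow hWi m) 0).2 h0)
  have hpow : GrothLib.HodgeIndex.isect k (GrothLib.Cube.clsMod hWi ^ m) (GrothLib.HodgeIndex.cCl C) < 0 := by
    rw [GrothLib.HodgeIndex.isect_pow_left k hdim.le]
    exact mul_neg_of_pos_of_neg (by exact_mod_cast hm) hneg
  have hsq := GrothLib.PlaneBlow28.sq_neg_of_neg_on_effective k hdim hCi hCd hz hpow
  have hadj := GrothLib.SurfRR28.adjunction_isect k hdim hA hW C hCi hCd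
  rw [GrothLib.HodgeIndex.isect_comm k (GrothLib.HodgeIndex.cCl C) (GrothLib.Cube.clsMod _),
    GrothLib.SurfRR28.euler_quotMod_curve k C hCi hCd] at hadj
  letI : C.subscheme.Over (Spec (CommRingCat.of k)) := ⟨C.subschemeι ≫ X ↘ Spec (CommRingCat.of k)⟩
  haveI : IsProper (C.subscheme ↘ Spec (CommRingCat.of k)) :=
    inferInstanceAs (IsProper (C.subschemeι ≫ X ↘ Spec (CommRingCat.of k)))
  have hg : Curv2.genus k C.subscheme = 0 := by omega
  haveI := GrothLib.Euler.isNoetherian_of_proper (X := C.subscheme) k
  haveI := GrothLib.Euler.finiteDimensional_HH k (GrothLib.Kleiman.isCoh_O (X := C.subscheme) k) 1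
  exact hne (Module.finrank_zero_iff.1 hg) (by omega)

end Groth.Agent.S14056
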