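import Groth.Statements.S14057
import Groth.Agent.Lib.PlaneBlow28.NegCurve
import Groth.Agent.Lib.SurfRR28.Curve

set_option autoImplicit false
universe u
open CategoryTheory CategoryTheory.Limits AlgebraicGeometry TopologicalSpace
open Surf

namespace Groth.Agent.S14057

/-- Let k be an algebraically closed field and X a smooth surface over k: an integral scheme, proper and
smooth over k, of dimension 2; let W be its canonical module, a second exterior power of Ω_{X/k}.
For an invertible module L and an integral closed one-dimensional subscheme C ⊆ X write (L·C) =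
χ(O_C ⊗ L) − χ(O_C), and (W·W) for the self-intersection number of W (the alternating sum χ(O_X) −
2χ(W) + χ(W ⊗ W)). Suppose W is nef and (W·W) > 0. Then W is ample if and only if X contains no
(−2)-curve, where a (−2)-curve is taken, through its numerical characterization, to be an integral
closed one-dimensional subscheme E with H¹(E, O_E) = 0 and (O_X(E)·E) = −2, O_X(E) being a tensor
inverse of the ideal sheaf of E. (The published statement is for a minimal surface of general type;
its proof uses exactly that the canonical module is nef with positive self-intersection, which is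
how the hypothesis is written here.) -/
theorem result (k : Type u) [Field k] [IsAlgClosed k] (X : Scheme.{u})
    [X.Over (Spec (CommRingCat.of k))] [IsProper (X ↘ (Spec (CommRingCat.of k)))] [Smooth (X ↘ (Spec (CommRingCat.of k)))]
    [IsIntegral X] (hdim : topologicalKrullDim X = 2)
    (W : X.Modules) (hW : ExtPow.IsExtPow 2 (Omega.sheaf (X ↘ (Spec (CommRingCat.of k)))) W)
    (hnef : (∀ C : X.IdealSheafData, IsIntegral C.subscheme → topologicalKrullDim (C.support : Set X) = 1 →
      0 ≤ Curv2.euler k X (CohB1.tensorMod (ClSub.quotMod C) W) - Curv2.euler k X (ClSub.quotMod C)))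
    (hpos : 0 < FGA.intNum k X 2 ![W, W] (Coh.structureModule X)) :
    CohB1.IsAmple W ↔
    (∀ (E : X.IdealSheafData) (N : X.Modules), IsIntegral E.subscheme →
      topologicalKrullDim (E.support : Set X) = 1 → ClSub.IsInverseOf N (ClSub.idealMod E) →
      Subsingleton (Coh.HH E.subscheme (Coh.structureModule E.subscheme) 1) →
      Curv2.euler k X (CohB1.tensorMod (ClSub.quotMod E) N) - Curv2.euler k X (ClSub.quotMod E) ≠ -2) := by
  obtain ⟨hs2, n, ι, hι, hιc⟩ := GrothLib.SurfRR28.exists_embedding k X hdim
  haveI := hι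
  have hA := GrothLib.HodgeIndex.isAmple_hyperplane ι
  have hWi := GrothLib.SurfRR28.isInvertible_W k hdim hW
  rw [GrothLib.SurfRR28.intNum_eq_isect' k hdim.le hWi hWi] at hpos
  constructor
  · intro hamp E N hEi hEd hN hg heq
    obtain ⟨N', hNi, ⟨e⟩⟩ := GrothLib.Kodaira.exists_inverse (GrothLib.HodgeIndex.inv_curve k hdim hEi hEd)
    have hNinv : PicF.IsInvertible N :=
      (haveI := GrothLib.Euler.isNoetherian_of_proper (X := X) k; GrothLib.ArSurf29.isInvertible_of_isInverseOf (GrothLib.IdealModSec.isEffCartier_of_isInvertible (GrothLib.HodgeIndex.inv_curve k hdim hEi hEd)) hN)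
    rw [GrothLib.PlaneBlow28.deg_inverse k hdim hEi hEd hN hNinv] at heq
    have h1 := GrothLib.HodgeIndex.isect_ample_curve_pos k hdim hEi hEd hamp
    have hadj := GrothLib.SurfRR28.adjunction_isect k hdim hA hW E hEi hEd
    rw [GrothLib.HodgeIndex.isect_comm k (GrothLib.HodgeIndex.cCl E) (GrothLib.Cube.clsMod _),
      GrothLib.SurfRR28.euler_quotMod_curve k E hEi hEd, heq] at hadj
    letI : E.subscheme.Over (Spec (CommRingCat.of k)) := ⟨E.subschemeι ≫ X ↘ Spec (CommRingCat.of k)⟩
    have hg0 : Curv2.genus k E.subscheme = 0 := Module.finrank_zero_of_subsingleton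
    omega
  · intro hno
    refine GrothLib.PlaneBlow28.isAmple_of_curves k hdim hWi hpos fun C hCi hCd => ?_
    have h0 := hnef C hCi hCd
    rw [GrothLib.PlaneBlow28.deg_curve k hdim hCi hCd hWi] at h0
    by_contra hle
    have hz : GrothLib.HodgeIndex.isect k (GrothLib.Cube.clsMod hWi) (GrothLib.HodgeIndex.cCl C) = 0 := by omega
    have hsq := GrothLib.HodgeIndex.sq_nonpos_of_orth_pic k hdim hA hpos hz
    have hsq' : GrothLib.HodgeIndex.isect k (GrothLib.HodgeIndex.cCl C) (GrothLib.HodgeIndex.cCl C) ≠ 0 := fun e => by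
      have h1 := GrothLib.HodgeIndex.isect_eq_zero_of_orth k hdim hA hpos hz e.ge (GrothLib.Cube.clsMod hA.1)
      have h2 := GrothLib.HodgeIndex.isect_ample_curve_pos k hdim hCi hCd hA
      rw [GrothLib.HodgeIndex.isect_comm] at h1
      omega
    obtain ⟨N, hNi, hN⟩ := GrothLib.Kodaira.exists_inverse (GrothLib.HodgeIndex.inv_curve k hdim hCi hCd)
    have hne := hno C N hCi hCd hN
    rw [GrothLib.PlaneBlow28.deg_inverse k hdim hCi hCd hN hNi] at hne
    have hadj := GrothLib.SurfRR28.adjunction_isect k hdim hA hW C hCi hCd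
    rw [GrothLib.HodgeIndex.isect_comm k (GrothLib.HodgeIndex.cCl C) (GrothLib.Cube.clsMod _), hz,
      GrothLib.SurfRR28.euler_quotMod_curve k C hCi hCd] at hadj
    letI : C.subscheme.Over (Spec (CommRingCat.of k)) := ⟨C.subschemeι ≫ X ↘ Spec (CommRingCat.of k)⟩
    haveI : IsProper (C.subscheme ↘ Spec (CommRingCat.of k)) :=
      inferInstanceAs (IsProper (C.subschemeι ≫ X ↘ Spec (CommRingCat.of k)))
    have hg : Curv2.genus k C.subscheme = 0 := by omega
    haveI := GrothLib.Euler.isNoetherian_of_proper (X := C.subscheme) k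
    haveI := GrothLib.Euler.finiteDimensional_HH k (GrothLib.Kleiman.isCoh_O (X := C.subscheme) k) 1
    exact hne (Module.finrank_zero_iff.1 hg) (by omega)

end Groth.Agent.S14057
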