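import Groth.Statements.S14059
import Groth.Agent.S7822
import Groth.Agent.Lib.NoethTop.KrullDim
import Groth.Agent.Lib.RedSmooth.Basic
-- import your own Groth.Agent.* helpers here

set_option autoImplicit false
universe u
open CategoryTheory MonoidalCategory CartesianMonoidalCategory MonObj GrpObj AlgebraicGeometry
open GrpSch

namespace Groth.Agent.S14059

section
open TopologicalSpace

theorem bij_germ_aux (k : Type u) [Field k] [IsAlgClosed k] {X : Scheme.{u}} (f : X ⟶ Spec (CommRingCat.of k))
    [LocallyOfFiniteType f] [IsReduced X] [DiscreteTopology X] (g : X) :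
    letI : X.Over (Spec (CommRingCat.of k)) := ⟨f⟩
    Function.Bijective (Curv2.stalkMap k X g) := by
  letI : X.Over (Spec (CommRingCat.of k)) := ⟨f⟩
  obtain ⟨_, ⟨V, hV, rfl⟩, hgV, hVs⟩ :=
    X.isBasis_affineOpens.exists_subset_of_mem_open (Set.mem_singleton g) (isOpen_discrete _)
  haveI : Subsingleton V := ⟨fun a b => Subtype.ext ((hVs a.2).trans (hVs b.2).symm)⟩
  haveI : Subsingleton (PrimeSpectrum Γ(X, V)) :=
    (hV.isoSpec.inv.homeomorph).injective.subsingleton
  let φ : k →+* Γ(X, V) := (X.presheaf.map (homOfLE (le_top : V ≤ ⊤)).op).hom.comp (Coh.toGlobal f)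
  have hφ : φ.FiniteType := by
    have h := LocallyOfFiniteType.finiteType_appLE f (isAffineOpen_top _) hV (le_top : V ≤ ⊤)
    have hs : (RingHom.FiniteType (Scheme.ΓSpecIso (CommRingCat.of k)).inv.hom) :=
      RingHom.FiniteType.of_surjective _ (ConcreteCategory.bijective_of_isIso
        (Scheme.ΓSpecIso (CommRingCat.of k)).inv).2
    exact h.comp hs
  have hne : Nontrivial Γ(X, V) := (X.presheaf.germ V g hgV).hom.domain_nontrivial
  have hf : IsField Γ(X, V) := by
    haveI : Unique (PrimeSpectrum Γ(X, V)) := uniqueOfSubsingleton
      ⟨_, (IsLocalRing.maximalIdeal.isMaximal (X.presheaf.stalk g)).isPrime.comap (X.presheaf.germ V g hgV).hom⟩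
    obtain ⟨m, hm⟩ := Ideal.exists_maximal Γ(X, V)
    have hm0 : m = ⊥ := by
      rw [eq_bot_iff]
      intro a ha
      refine (?_ : IsNilpotent a).eq_zero
      rw [nilpotent_iff_mem_prime]
      intro J hJ
      have : (⟨m, hm.isPrime⟩ : PrimeSpectrum Γ(X, V)) = ⟨J, hJ⟩ := Subsingleton.elim _ _
      rw [← show m = J from congrArg PrimeSpectrum.asIdeal this]
      exact ha
    subst hm0
    exact Ring.isField_iff_maximal_bot.mpr hm
  have hbij : Function.Bijective φ := by
    letI := hf.toField
    letI : Algebra k Γ(X, V) := φ.toAlgebra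
    haveI : Algebra.FiniteType k Γ(X, V) := hφ
    haveI : Module.Finite k Γ(X, V) := finite_of_finite_type_of_isJacobsonRing k Γ(X, V)
    exact IsAlgClosed.algebraMap_bijective_of_isIntegral
  have hgerm : Function.Bijective (X.presheaf.germ V g hgV).hom := by
    refine ⟨?_, fun s => ?_⟩
    · letI := hf.toField
      exact RingHom.injective _
    · obtain ⟨W, hW, t, rfl⟩ := TopCat.Presheaf.exists_germ_eq X.presheaf s
      have hVW : V ≤ W := fun x hx => by rw [Set.mem_singleton_iff.mp (hVs hx)]; exact hW
      exact ⟨X.presheaf.map (homOfLE hVW).op t, TopCat.Presheaf.germ_res_apply X.presheaf _ g hgV t⟩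
  have e : ⇑(Curv2.stalkMap k X g) = (X.presheaf.germ V g hgV).hom ∘ φ := by
    funext c
    exact (TopCat.Presheaf.germ_res_apply X.presheaf (homOfLE (le_top : V ≤ ⊤)) g hgV (Coh.toGlobal f c)).symm
  rw [e]
  exact hgerm.comp hbij

end


/-- Let k be an algebraically closed field and G a group scheme of finite type over k, with unit point e
(the image of the unit section). Then the tangent space of G at e is zero, that is the cotangent
space m_e/m_e² of the local ring O_{G,e} vanishes, if and only if G is isomorphic over k to a finite
disjoint union of copies of Spec k, stated as: the underlying space of G is finite and discrete and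
the structure map k → O_{G,g} is bijective for every point g. (The published statement is over an
arbitrary field; the group scheme of cube roots of unity over the rationals has zero tangent space
at the unit but a point with residue field larger than the base field, and the printed argument
translates by rational points, so the base field is taken algebraically closed here.) -/
theorem result (k : Type u) [Field k] [IsAlgClosed k]
    (G : Over (Spec (CommRingCat.of k))) [GrpObj G] [LocallyOfFiniteType G.hom] [QuasiCompact G.hom]
    (e : G.left) (he : e ∈ Set.range (η[G]).left.base) :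
    letI : G.left.Over (Spec (CommRingCat.of k)) := ⟨G.hom⟩
    Subsingleton (IsLocalRing.CotangentSpace (G.left.presheaf.stalk e)) ↔
      (Finite G.left ∧ DiscreteTopology G.left ∧
        ∀ g : G.left, Function.Bijective (Curv2.stalkMap k G.left g)) := by
  obtain ⟨x, rfl⟩ := he
  obtain rfl : x = IsLocalRing.closedPoint k := Subsingleton.elim (α := PrimeSpectrum k) _ _
  letI : G.left.Over (Spec (CommRingCat.of k)) := ⟨G.hom⟩
  constructor
  · intro hsub
    obtain ⟨hdim, hsm, -⟩ := Groth.Agent.S7822.result k G
    have h0 : Module.finrank (IsLocalRing.ResidueField (G.left.presheaf.stalk (η[G].left (IsLocalRing.closedPoint k))))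
        (IsLocalRing.CotangentSpace (G.left.presheaf.stalk (η[G].left (IsLocalRing.closedPoint k)))) = 0 :=
      haveI := hsub; Module.finrank_zero_of_subsingleton
    rw [h0] at hdim hsm
    haveI : IsLocallyNoetherian G.left := LocallyOfFiniteType.isLocallyNoetherian G.hom
    haveI : CompactSpace G.left := QuasiCompact.compactSpace_of_compactSpace G.hom
    haveI : IsNoetherian G.left := {}
    obtain ⟨hfin, hdisc⟩ := GrothLib.NoethTop.finite_discrete_of_dim_le_zero (X := G.left) hdim
    haveI : Nonempty G.left := ⟨η[G].left (IsLocalRing.closedPoint k)⟩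
    haveI : Nonempty (TopologicalSpace.IrreducibleCloseds G.left) := ⟨⟨closure {η[G].left (IsLocalRing.closedPoint k)}, isIrreducible_singleton.closure, isClosed_closure⟩⟩
    haveI : Smooth G.hom := hsm.2 (le_antisymm hdim (by exact Order.krullDim_nonneg))
    haveI : IsReduced G.left := GrothLib.RedSmooth.isReduced_of_smooth G.hom
    exact ⟨hfin, hdisc, fun g => bij_germ_aux k G.hom g⟩
  · rintro ⟨-, -, hb⟩
    have hf : IsField (G.left.presheaf.stalk ((η[G]).left.base (IsLocalRing.closedPoint k))) :=
      MulEquiv.isField (Field.toIsField k) (RingEquiv.ofBijective _ (hb _)).symm.toMulEquiv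
    rw [IsLocalRing.CotangentSpace, Ideal.cotangent_subsingleton_iff, IsLocalRing.isField_iff_maximalIdeal_eq.mp hf]
    exact IsIdempotentElem.zero


end Groth.Agent.S14059
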