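import Groth.Statements.S14060
import Mathlib.CategoryTheory.Sites.GlobalSections
import Mathlib.Algebra.Category.Grp.Ulift
import Mathlib.Algebra.Homology.DerivedCategory.Ext.ExactSequences
import Groth.Agent.Lib.Cohom.Basic

set_option autoImplicit false
universe u
open CategoryTheory CategoryTheory.Limits TopologicalSpace
open CohTop

namespace Groth.Agent.S14060

/-- Let X be a topological space, r ≥ 1 an integer and 0 → F_r → ⋯ → F_2 → F_1 → F_0 → 0 an exact
sequence of sheaves of abelian groups on X, presented as a chain complex F of abelian sheaves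
indexed by the natural numbers whose differential F_r → F_{r−1} is a monomorphism, whose
differential F_1 → F_0 is an epimorphism of sheaves, and which is exact at F_j for 1 ≤ j ≤ r − 1
(for r = 1 the single map F_1 → F_0 is mono and epi). Assume the sheaf cohomology groups H^{j−1}(X,
F_j) vanish for 2 ≤ j ≤ r. Then the map on global sections F_1(X) → F_0(X) is surjective. (The
instance hypothesis that the category of abelian sheaves on X has Ext groups in the universe of X
holds for every X, abelian sheaves on a space forming a Grothendieck abelian category; it is the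
setting in which sheaf cohomology is defined.) -/
theorem result (X : TopCat.{u})
    [HasExt.{u} (Sheaf (Opens.grothendieckTopology X) AddCommGrpCat.{u})]
    (r : ℕ) (hr : 1 ≤ r)
    (F : ChainComplex (Sheaf (Opens.grothendieckTopology X) AddCommGrpCat.{u}) ℕ)
    (hmono : Mono (F.d r (r - 1))) (hepi : Epi (F.d 1 0))
    (hex : ∀ j : ℕ, 1 ≤ j → j < r → F.ExactAt j)
    (hvan : ∀ j : ℕ, 2 ≤ j → j ≤ r → Subsingleton (Sheaf.H (F.X j) (j - 1))) :
    Function.Surjective ((F.d 1 0).hom.app (Opposite.op ⊤)) := by
  classical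
  obtain ⟨r, rfl⟩ : ∃ r', r = r' + 1 := ⟨r - 1, by omega⟩
  let C := constantSheaf (Opens.grothendieckTopology X) AddCommGrpCat.{u} |>.obj (AddCommGrpCat.of (ULift ℤ))
  let c : ∀ G : Sheaf (Opens.grothendieckTopology X) AddCommGrpCat.{u}, (C ⟶ G) ≃+ G.obj.obj (Opposite.op ⊤) := fun G =>
    ((constantSheafAdj (Opens.grothendieckTopology X) AddCommGrpCat.{u}
      (Limits.isTerminalTop (α := TopologicalSpace.Opens X))).homAddEquiv
        (AddCommGrpCat.of (ULift ℤ)) G).trans (AddCommGrpCat.uliftZMultiplesAddEquiv _)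
  have hc : ∀ {G G' : Sheaf (Opens.grothendieckTopology X) AddCommGrpCat.{u}} (φ : C ⟶ G) (g : G ⟶ G'),
      c G' (φ ≫ g) = g.hom.app (Opposite.op ⊤) (c G φ) := fun φ g => rfl
  let K : ℕ → Sheaf (Opens.grothendieckTopology X) AddCommGrpCat.{u} := fun j => Limits.kernel (F.d j (j - 1))
  have key : ∀ e j : ℕ, j + e = r → 1 ≤ j → Subsingleton (Abelian.Ext.{u} C (K j) j) := by
    intro e
    induction e with
    | zero =>
      intro j hj hj1
      obtain rfl : j = r := by omega
      have hE : Subsingleton (Abelian.Ext.{u} C (F.X (j + 1)) j) := hvan (j + 1) (by omega) le_rfl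
      let l := Limits.kernel.lift (F.d j (j - 1)) (F.d (j + 1) j) (F.d_comp_d _ _ _)
      haveI : Epi l := by
        have h := hex j hj1 (by omega)
        rw [HomologicalComplex.exactAt_iff' F (j + 1) j (j - 1) (by simp) (ComplexShape.next_eq' (ComplexShape.down ℕ) (show (ComplexShape.down ℕ).Rel j (j - 1) by simp; omega)),
          ShortComplex.exact_iff_epi_kernel_lift] at h
        exact h
      haveI : Mono (F.d (j + 1) j) := by simpa using hmono
      haveI : Mono (l ≫ Limits.kernel.ι (F.d j (j - 1))) := by rw [Limits.kernel.lift_ι]; infer_instance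
      haveI : Mono l := mono_of_mono l (Limits.kernel.ι (F.d j (j - 1)))
      haveI : IsIso l := isIso_of_mono_of_epi l
      refine subsingleton_of_forall_eq 0 fun x => ?_
      have hx : x = (x.comp (Abelian.Ext.mk₀ (inv l)) (add_zero j)).comp (Abelian.Ext.mk₀ l) (add_zero j) := by
        rw [Abelian.Ext.comp_assoc_of_second_deg_zero, Abelian.Ext.mk₀_comp_mk₀, IsIso.inv_hom_id, Abelian.Ext.comp_mk₀_id]
      rw [hx, Subsingleton.elim (x.comp (Abelian.Ext.mk₀ (inv l)) (add_zero j)) 0, Abelian.Ext.zero_comp]
    | succ e ih =>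
      intro j hj hj1
      have h1 := ih (j + 1) (by omega) (by omega)
      have hE : Subsingleton (Abelian.Ext.{u} C (F.X (j + 1)) j) := hvan (j + 1) (by omega) (by omega)
      let l := Limits.kernel.lift (F.d j (j - 1)) (F.d (j + 1) j) (F.d_comp_d _ _ _)
      haveI : Epi l := by
        have h := hex j hj1 (by omega)
        rw [HomologicalComplex.exactAt_iff' F (j + 1) j (j - 1) (by simp) (ComplexShape.next_eq' (ComplexShape.down ℕ) (show (ComplexShape.down ℕ).Rel j (j - 1) by simp; omega)),
          ShortComplex.exact_iff_epi_kernel_lift] at h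
        exact h
      let S := ShortComplex.mk (Limits.kernel.ι (F.d (j + 1) ((j + 1) - 1))) l (by
        rw [← cancel_mono (Limits.kernel.ι (F.d j (j - 1))), Category.assoc, Limits.kernel.lift_ι, Limits.zero_comp]
        exact Limits.kernel.condition (F.d (j + 1) j))
      have hS : S.ShortExact := by
        refine { exact := ?_ }
        refine ShortComplex.exact_of_f_is_kernel _ (Limits.KernelFork.IsLimit.ofι' _ _ fun k hk =>
          ⟨Limits.kernel.lift (F.d (j + 1) ((j + 1) - 1)) k (by
            have : k ≫ F.d (j + 1) j = 0 := by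
              rw [← Limits.kernel.lift_ι (F.d j (j - 1)) (F.d (j + 1) j) (F.d_comp_d _ _ _), ← Category.assoc, hk, Limits.zero_comp]
            exact this), Limits.kernel.lift_ι _ _ _⟩)
      refine subsingleton_of_forall_eq 0 fun x => ?_
      obtain ⟨y, hy⟩ := Abelian.Ext.covariant_sequence_exact₃ C hS x rfl
        (@Subsingleton.elim _ h1 _ _)
      rw [← hy, Subsingleton.elim y 0, Abelian.Ext.zero_comp]
  let S := ShortComplex.mk (Limits.kernel.ι (F.d 1 0)) (F.d 1 0) (Limits.kernel.condition _)
  haveI : Epi (F.d 1 0) := hepi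
  have hS : S.ShortExact := { exact := ShortComplex.exact_of_f_is_kernel _ (Limits.kernelIsKernel _) }
  have hK : Subsingleton (Abelian.Ext.{u} C (K 1) 1) := by
    rcases Nat.eq_zero_or_pos r with hr0 | hr0
    · subst hr0
      haveI : Mono (F.d 1 0) := by simpa using hmono
      have hz : Limits.IsZero (K 1) := Limits.isZero_kernel_of_mono (F.d 1 0)
      refine subsingleton_of_forall_eq 0 fun x => ?_
      rw [← Abelian.Ext.comp_mk₀_id x, hz.eq_of_src (𝟙 _) 0, Abelian.Ext.mk₀_zero, Abelian.Ext.comp_zero]
    · exact key (r - 1) 1 (by omega) le_rfl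
  intro t
  obtain ⟨y, hy⟩ := Abelian.Ext.covariant_sequence_exact₃ C hS
    (Abelian.Ext.mk₀ ((c (F.X 0)).symm t)) (zero_add 1) (@Subsingleton.elim _ hK _ _)
  obtain ⟨ψ, rfl⟩ := (Abelian.Ext.mk₀_bijective _ _).surjective y
  rw [Abelian.Ext.mk₀_comp_mk₀] at hy
  refine ⟨c (F.X 1) ψ, ?_⟩
  rw [← hc, (Abelian.Ext.mk₀_bijective _ _).injective hy, AddEquiv.apply_symm_apply]

end Groth.Agent.S14060
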