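import Groth.Statements.S14064
import Groth.Agent.Lib.NefGrowth.IntNum
import Groth.Agent.Lib.Cube.Seesaw
import Groth.Agent.Lib.Euler.Section
import Groth.Agent.Lib.Rigidity.Relative.Field

set_option autoImplicit false
set_option linter.all false
universe u
open CategoryTheory CategoryTheory.Limits AlgebraicGeometry TopologicalSpace
open Surf

namespace Groth.Agent.S14064

/-- Fix a field k, an integral proper k-scheme X, and an invertible O_X-module L with tensor inverse M.
Suppose that L^{⊗j} has a nonzero global section for every j ≥ 4 and that no tensor power L^{⊗j}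
with j ≥ 1 is isomorphic to O_X. Then H⁰(X, M^{⊗i}) = 0 for every i ≥ 1: the negative powers of L
have no nonzero global sections. (The published statement is for the canonical module of a minimal
surface of general type over an algebraically closed field, where the fourth and higher powers are
globally generated by a deep result quoted without proof, and non-triviality of the positive powers
comes from bigness; the published deduction of this part uses exactly the two hypotheses carried
here, on an integral proper X.) -/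
theorem result (k : Type u) [Field k]
    (X : Scheme.{u}) [X.Over (Spec (CommRingCat.of k))] [IsProper (X ↘ (Spec (CommRingCat.of k)))] [IsIntegral X]
    (L M : X.Modules) (hL : PicF.IsInvertible L) (hM : ClSub.IsInverseOf M L)
    (hsec : ∀ j : ℕ, 4 ≤ j → Nontrivial (Coh.HH X (CohB1.tensorPow L j) 0))
    (hnt : ∀ j : ℕ, 1 ≤ j → IsEmpty (CohB1.tensorPow L j ≅ Coh.structureModule X))
    (i : ℕ) (hi : 1 ≤ i) :
    Subsingleton (Coh.HH X (CohB1.tensorPow M i) 0) := by
  by_contra hne
  rw [not_subsingleton_iff_nontrivial] at hne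
  have hfield : IsField Γ(X, ⊤) :=
    GrothLib.Rigidity.isField_appTop_of_universallyClosed (X ↘ (Spec (CommRingCat.of k)))
  obtain ⟨hMinv, hmul⟩ := GrothLib.NefGrowth.cls_inverse hL hM
  have hsec' : ∀ (N : X.Modules) (hN : PicF.IsInvertible N), Nontrivial (Coh.HH X N 0) →
      ∃ U : X.Opens, GrothLib.Cube.HasSec (GrothLib.Cube.clsMod hN) U ∧ U ≠ ⊥ := by
    intro N hN h
    obtain ⟨s, hs⟩ := GrothLib.Euler.exists_ne_zero_section h
    obtain ⟨c, ⟨e⟩⟩ := GrothLib.Ample.exists_cocycle hN
    let a : c.sect 1 ⊤ := e.hom.app ⊤ s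
    have ha : a ≠ 0 := fun h0 => hs (by
      have h1 : e.inv.app ⊤ (e.hom.app ⊤ s) = 0 := (congrArg (e.inv.app ⊤) h0).trans (map_zero _)
      have h2 := congr(($(e.hom_inv_id)).app ⊤ s)
      exact h2.symm.trans h1)
    exact ⟨c.locus a, ⟨c, a, (GrothLib.Cube.clsMod_eq hN e).symm, rfl⟩, GrothLib.Cube.locus_ne_bot c ha⟩
  obtain ⟨U, hU, hU0⟩ := hsec' _ (GrothLib.Ample.isInvertible_tensorPow hL (4 * i)) (hsec (4 * i) (by omega))
  obtain ⟨V, hV, hV0⟩ := hsec' _ (GrothLib.Ample.isInvertible_tensorPow hMinv i) hne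
  rw [GrothLib.Cube.clsMod_tensorPow hL] at hU; rw [GrothLib.Cube.clsMod_tensorPow hMinv] at hV
  have h4 := GrothLib.Cube.hasSec_mul hU
    (GrothLib.Cube.hasSec_mul (GrothLib.Cube.hasSec_mul hV hV) (GrothLib.Cube.hasSec_mul hV hV))
  simp only [← pow_add, inf_idem] at h4
  rw [show i + i + (i + i) = 4 * i by ring, ← mul_pow, mul_comm, hmul, one_pow] at h4
  rcases GrothLib.Cube.eq_bot_or_top_of_isField hfield h4 with h | h
  · have hne' : ∀ {W : X.Opens}, W ≠ ⊥ → (W : Set X).Nonempty := fun hW => by
      by_contra hh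
      exact hW ((TopologicalSpace.Opens.not_nonempty_iff_eq_bot _).1 hh)
    obtain ⟨q, hq⟩ := nonempty_preirreducible_inter U.isOpen V.isOpen (hne' hU0) (hne' hV0)
    exact absurd (show q ∈ U ⊓ V from hq) (by rw [h]; exact id)
  · have hUtop : U = ⊤ := top_le_iff.1 (h.ge.trans inf_le_left)
    obtain ⟨c, a, hc, hloc⟩ := hU
    have htriv : GrothLib.Cube.clsMod (GrothLib.Ample.isInvertible_tensorPow hL (4 * i)) = 1 := by
      rw [GrothLib.Cube.clsMod_tensorPow hL, ← hc, GrothLib.Cube.cls_eq_one_iff]
      exact ⟨a, hloc.trans hUtop⟩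
    obtain ⟨e⟩ := (GrothLib.Cube.clsMod_eq_one_iff _).1 htriv
    exact (hnt (4 * i) (by omega)).false e

end Groth.Agent.S14064
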