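import Groth.Statements.S14065
import Groth.Agent.Lib.CurveMult.OmegaField
import Groth.Agent.Lib.CurveMult.DegHom
import Groth.Agent.Lib.ConnH0.Basic
import Groth.Agent.Lib.Euler.Section
import Groth.Agent.Lib.NegVan7.Main

set_option autoImplicit false
set_option linter.all false
universe u
open CategoryTheory CategoryTheory.Limits AlgebraicGeometry TopologicalSpace
open Curves

namespace Groth.Agent.S14065

/-- Let k be an algebraically closed field and C a smooth projective connected curve over k — an
integral scheme, proper and smooth over k, of dimension 1 — of genus g = dim_k H¹(C, O_C) with g ≥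
2, and let T be the tangent module of C, a tensor inverse of the module of differentials Ω_{C/k}.
Then dim_k H¹(C, T) = 3g − 3. (The published proof makes this computation, together with the
vanishing of H⁰(C, T), to find the dimension of the tangent space of the moduli stack of genus-g
curves at C; only the dimension of H¹(C, T) is stated here.) -/
theorem result (k : Type u) [Field k] [IsAlgClosed k]
    (C : Scheme.{u}) [C.Over (Spec (CommRingCat.of k))] [IsProper (C ↘ (Spec (CommRingCat.of k)))] [Smooth (C ↘ (Spec (CommRingCat.of k)))] [IsIntegral C]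
    (hdim : topologicalKrullDim C = 1) (g : ℕ) (hg : Curv2.genus k C = g) (h2 : 2 ≤ g)
    (T : C.Modules) (hT : ClSub.IsInverseOf T (Omega.sheaf (C ↘ (Spec (CommRingCat.of k))))) :
    Module.finrank k (Coh.HH C T 1) = 3 * g - 3 := by
  have hd : topologicalKrullDim C ≤ 1 := hdim.le
  haveI := GrothLib.CurveRR.regCurve_of_smooth (C ↘ Spec (CommRingCat.of k)) hdim
  have h0 := GrothLib.ConnH0.finrank_H0_eq_one k (X := C)
  let Om := Omega.sheaf (C ↘ Spec (CommRingCat.of k))
  have hO : PicF.IsInvertible Om := GrothLib.CurveMult.OmegaField.isInvertible k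
  obtain ⟨-, hdO⟩ := GrothLib.CurveMult.OmegaField.finrank_deg_omega k hdim h0
  obtain ⟨e⟩ := hT
  have hTi : PicF.IsInvertible T := GrothLib.NegVan7.isInvertible_of_inverse k hO
    ⟨(((GrothLib.OX.tensorBraiding (X := C)).app Om).app T).symm ≪≫ e⟩
  have hdT : Curv2.deg k C T 1 = 2 - 2 * (g : ℤ) := by
    have h := GrothLib.CurveMult.deg_tensorMod k hd hTi hO
    rw [GrothLib.Euler.deg_of_iso k e, GrothLib.Euler.deg_structure k, hdO, hg] at h
    omega
  have hh0 : Module.finrank k (Coh.HH C T 0) = 0 := by
    rcases subsingleton_or_nontrivial (Coh.HH C T 0) with h | h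
    · exact Module.finrank_zero_of_subsingleton
    · exact absurd (GrothLib.Euler.section_data k hd hTi h).1 (by omega)
  haveI := (GrothLib.Euler.isCoh_of_isInvertible hTi).1
  have h1 := GrothLib.Euler.euler_eq_sub (X := C) k hd T
  have h2 := GrothLib.Euler.euler_structure (X := C) k hd
  rw [h0, hg] at h2
  simp only [Curv2.deg, Nat.cast_one, one_mul] at hdT
  omega

end Groth.Agent.S14065
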