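import Groth.Statements.S14066
import Groth.Agent.S7676
import Groth.Agent.Lib.ProjSum8.Basic
import Groth.Agent.Lib.GradedAlg.ProjMap
import Groth.Agent.Lib.Ample.ProjMap

set_option autoImplicit false
universe u
open CategoryTheory CategoryTheory.Limits AlgebraicGeometry TopologicalSpace
open Variety

namespace Groth.Agent.S14066

open MvPolynomial in
/-- A coordinate linear subspace. -/
theorem exists_coordSubspace (k : Type u) [Field k] (a b N : ℕ) (e : Fin (N + 1) ≃ Fin (a + 1) ⊕ Fin (b + 1)) :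
    ∃ j : CohB1.ProjSpace a k ⟶ CohB1.ProjSpace N k, IsClosedImmersion j ∧
      j ≫ CohB1.ProjSpace.toSpec N k = CohB1.ProjSpace.toSpec a k ∧
      ∀ (p : CohB1.ProjSpace a k) (y : Fin (b + 1)),
        (MvPolynomial.X (e.symm (.inr y)) : MvPolynomial (Fin (N + 1)) k) ∈
          (show ProjectiveSpectrum (CohB1.polyGrading N k) from j p).asHomogeneousIdeal := by
  classical
  let g : Fin (N + 1) → MvPolynomial (Fin (a + 1)) k := fun i => Sum.elim X (fun _ => 0) (e i)
  have hg : ∀ i, (g i).IsHomogeneous 1 := fun i => by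
    show (Sum.elim X (fun _ => 0) (e i)).IsHomogeneous 1
    rcases e i with x | x
    · exact isHomogeneous_X k x
    · exact isHomogeneous_zero _ _ _
  let φ : MvPolynomial (Fin (N + 1)) k →ₐ[k] MvPolynomial (Fin (a + 1)) k := aeval g
  let ψ : CohB1.polyGrading N k →+*ᵍ CohB1.polyGrading a k :=
    { φ.toRingHom with
      map_mem := fun {i x} hx => by
        have h := MvPolynomial.IsHomogeneous.aeval (n := 1) (show x.IsHomogeneous i from hx) g hg
        rw [one_mul] at h
        exact h }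
  have hψs : Function.Surjective ψ := fun x => by
    refine ⟨rename (fun i => e.symm (.inl i)) x, ?_⟩
    show aeval g (rename (fun i => e.symm (.inl i)) x) = x
    rw [aeval_rename]
    refine (congrFun (congrArg DFunLike.coe (?_ : aeval (g ∘ fun i => e.symm (.inl i)) = AlgHom.id k _)) x)
    refine MvPolynomial.algHom_ext fun i => ?_
    simp [g]
  have hψ := Groth.Agent.S7676.irrelevant_le_map (CohB1.polyGrading N k) (CohB1.polyGrading a k) ψ hψs
  refine ⟨Proj.map ψ hψ, GrothLib.GradedAlg.isClosedImmersion_map ψ hψ hψs, ?_, fun p y => ?_⟩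
  · show Proj.map ψ hψ ≫ Proj.toSpecZero (CohB1.polyGrading N k) ≫ _ = Proj.toSpecZero _ ≫ _
    rw [← Category.assoc, GrothLib.RelProjK.map_toSpecZero, Category.assoc, ← Spec.map_comp]
    congr 2
    refine CommRingCat.hom_ext (RingHom.ext fun r => Subtype.ext ?_)
    exact φ.commutes r
  · show ψ (MvPolynomial.X (e.symm (.inr y))) ∈
      (show ProjectiveSpectrum (CohB1.polyGrading a k) from p).asHomogeneousIdeal.toIdeal
    rw [show ψ (MvPolynomial.X (e.symm (.inr y))) = 0 by
      show aeval g _ = 0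
      simp [g]]
    exact zero_mem _

/-- Let k be a field, and let X₁ and X₂ be k-schemes with closed immersions i₁ : X₁ → P^n_k and i₂ : X₂
→ P^m_k over k. Then there is a closed immersion of the disjoint union X₁ ⨿ X₂ into P^{n+m+1}_k over
k, that is, compatible with the structure morphism of the coproduct induced by those of X₁ and X₂.
(Stated as the step of the published proof showing that a disjoint union of two projective k-schemes
is projective.) -/
theorem result (k : Type u) [Field k] (n m : ℕ)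
    (X₁ X₂ : Scheme.{u}) [X₁.Over (Spec (CommRingCat.of k))] [X₂.Over (Spec (CommRingCat.of k))]
    (i₁ : X₁ ⟶ CohB1.ProjSpace n k) [IsClosedImmersion i₁] (h₁ : i₁ ≫ CohB1.ProjSpace.toSpec n k = X₁ ↘ (Spec (CommRingCat.of k)))
    (i₂ : X₂ ⟶ CohB1.ProjSpace m k) [IsClosedImmersion i₂] (h₂ : i₂ ≫ CohB1.ProjSpace.toSpec m k = X₂ ↘ (Spec (CommRingCat.of k))) :
    ∃ j : X₁ ⨿ X₂ ⟶ CohB1.ProjSpace (n + m + 1) k, IsClosedImmersion j ∧
      j ≫ CohB1.ProjSpace.toSpec (n + m + 1) k = coprod.desc (X₁ ↘ (Spec (CommRingCat.of k))) (X₂ ↘ (Spec (CommRingCat.of k))) := by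
  let e : Fin (n + m + 1 + 1) ≃ Fin (n + 1) ⊕ Fin (m + 1) :=
    (finCongr (by omega)).trans finSumFinEquiv.symm
  obtain ⟨j₁, _, hj₁, h1⟩ := exists_coordSubspace k n m (n + m + 1) e
  obtain ⟨j₂, _, hj₂, h2⟩ := exists_coordSubspace k m n (n + m + 1) (e.trans (Equiv.sumComm _ _))
  refine ⟨coprod.desc (i₁ ≫ j₁) (i₂ ≫ j₂), GrothLib.ProjSum8.isClosedImmersion_coprod_desc _ _ ?_, ?_⟩
  · intro x y hxy
    have hq := h1 (i₁ x)
    have hq' := h2 (i₂ y)
    rw [show j₂ (i₂ y) = j₁ (i₁ x) from hxy.symm] at hq'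
    obtain ⟨i, hi⟩ := TopologicalSpace.Opens.mem_iSup.mp
      ((GrothLib.Ample.ProjMap.iSup_basicOpen_X (n + m + 1) k).ge
        (TopologicalSpace.Opens.mem_top (j₁ (i₁ x))))
    refine hi ?_
    rcases hei : e i with a | b
    · have : (e.trans (Equiv.sumComm _ _)).symm (.inr a) = i := by
        simp [Equiv.symm_apply_eq, hei]
      exact this ▸ hq' a
    · have : e.symm (.inr b) = i := by simp [Equiv.symm_apply_eq, hei]
      exact this ▸ hq b
  · ext <;> simp [coprod.inl_desc, coprod.inr_desc, Category.assoc, hj₁, hj₂, h₁, h₂]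

end Groth.Agent.S14066
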