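import Groth.Statements.S1407
import Groth.Agent.Lib.CMMor6.BaseChange
-- import your own Groth.Agent.* helpers here

set_option autoImplicit false
universe u
open FlatMor

namespace Groth.Agent.S1407

open AlgebraicGeometry CategoryTheory Limits in
/-- Let Y' → Y be flat, locally of finite presentation and surjective and f' the base change of f : X →
Y. Then f has locally Noetherian fibres and is Cohen–Macaulay at every point if and only if the same
holds for f'. -/
theorem result {X Y X' Y' : Scheme.{u}} (f : X ⟶ Y) (f' : X' ⟶ Y') (g' : X' ⟶ X) (g : Y' ⟶ Y) [Flat g] [LocallyOfFinitePresentation g] [Surjective g]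
    (hc : IsPullback g' f' f g) :
    ((∀ y : Y, IsLocallyNoetherian (f.fiber y)) ∧ ∀ x : X, MoreMor.IsCMAt f x) ↔
      (∀ y' : Y', IsLocallyNoetherian (f'.fiber y')) ∧ ∀ x' : X', MoreMor.IsCMAt f' x' := by
    constructor
    · rintro ⟨hN, hf⟩
      refine ⟨fun y' => (GrothLib.Misc6.fibre_iff hc y').2 (hN _), fun x' => ?_⟩
      have h := hf (g' x')
      rw [GrothLib.CMMor6.isCMAt_iff] at h ⊢
      exact ⟨GrothLib.CMMor6.flat_stalkMap_baseChange hc x' h.1,
        (GrothLib.CMMor6.isCMAt_baseChange_iff hN hc x').2 h.2⟩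
    · rintro ⟨hN', hf'⟩
      have hN : ∀ y : Y, IsLocallyNoetherian (f.fiber y) := fun y => by
        obtain ⟨y', rfl⟩ := g.surjective y
        exact (GrothLib.Misc6.fibre_iff hc y').1 (hN' y')
      refine ⟨hN, fun x => ?_⟩
      haveI : Surjective g' := MorphismProperty.of_isPullback (P := @Surjective) hc.flip inferInstance
      obtain ⟨x', rfl⟩ := g'.surjective x
      have h := hf' x'
      rw [GrothLib.CMMor6.isCMAt_iff] at h ⊢
      exact ⟨GrothLib.CMMor6.flat_stalkMap_descend hc x' (Flat.stalkMap g _) h.1,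
        (GrothLib.CMMor6.isCMAt_baseChange_iff hN hc x').1 h.2⟩

end Groth.Agent.S1407
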