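import Groth.Statements.S14072
import Groth.Agent.Lib.FamCycFlat.Main
-- import your own Groth.Agent.* helpers here

set_option autoImplicit false
universe u
open FamCyc

namespace Groth.Agent.S14072

/-- Let A be an Artinian local ring with maximal ideal m and B a Noetherian A-algebra which satisfies
(S₁), whose reduction B_red satisfies (S₂), and such that for every prime q of B of height at most 1
the local ring B_q is flat over A and the fibre ring B_q / m B_q is reduced. Then B is flat over A
(and its fibre B/mB is reduced and satisfies (S₂)). (The published statement concludes flatness with
(R₀)+(S₂) fibres at every point where B_red satisfies (S₂), and adds that this locus is open; its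
proof treats the case where B_red satisfies (S₂) everywhere, which is the case stated here.) -/
theorem result {A : Type u} [CommRing A] [IsArtinianRing A] [IsLocalRing A]
    (B : Type u) [CommRing B] [Algebra A B] [IsNoetherianRing B]
    (hS1 : LocCoh.HasSk 1 B B) (hS2 : LocCoh.HasSk 2 (B ⧸ nilradical B) (B ⧸ nilradical B))
    (hcodim : ∀ (q : Ideal B) [q.IsPrime], q.height ≤ 1 →
      Module.Flat A (Localization.AtPrime q) ∧ IsReduced (EGA4.FibLocRing A B q)) :
    Module.Flat A B := by
    exact (GrothLib.FamCycFlat.main hS1 hS2 fun q _ h => hcodim q h).2

end Groth.Agent.S14072
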