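import Groth.Statements.S14077
import Groth.Agent.Lib.FamDesc6.Main
-- import your own Groth.Agent.* helpers here

set_option autoImplicit false
open CategoryTheory CategoryTheory.Limits AlgebraicGeometry
universe u
open FamCyc

namespace Groth.Agent.S14077

open GrothLib.FamDesc6 in
theorem ker_comap_eq {P X : Scheme.{u}} {P₀ X₀ : Scheme.{u}} {ι : P₀ ⟶ P} {m : P₀ ⟶ X₀} {π : P ⟶ X} {i₀ : X₀ ⟶ X}
    [IsClosedImmersion ι] [IsClosedImmersion i₀] (h : IsPullback ι m π i₀) (Z : X₀.IdealSheafData) :
    (Z.map i₀).comap π = (Z.comap m).map ι := by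
  have h1 : IsPullback (Z.comap m).subschemeι ((Z.comapIso m).hom ≫ pullback.snd m Z.subschemeι) m Z.subschemeι :=
    IsPullback.of_iso_pullback ⟨by rw [← Z.comapIso_hom_fst m, Category.assoc, pullback.condition, Category.assoc]⟩
      (Z.comapIso m) (Z.comapIso_hom_fst m) rfl
  have h2 := h1.flip.paste_vert h.flip
  show (Z.subschemeι ≫ i₀).ker.comap π = ((Z.comap m).subschemeι ≫ ι).ker
  rw [← Scheme.IdealSheafData.ker_fst_of_isClosedImmersion, ← h2.flip.isoPullback_hom_fst,
    Scheme.Hom.ker_comp_of_isIso]

theorem map_comap_of_isClosedImmersion {P₀ P : Scheme.{u}} (ι : P₀ ⟶ P) [IsClosedImmersion ι]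
    (W : P.IdealSheafData) : (W.comap ι).map ι = W ⊔ ι.ker := by
  refine le_antisymm ?_ (sup_le (W.le_map_comap ι)
    (by rw [← Scheme.IdealSheafData.map_bot]; exact Scheme.IdealSheafData.map_mono ι bot_le))
  let T := W ⊔ ι.ker
  have hT : ι.ker ≤ T.subschemeι.ker := by rw [T.ker_subschemeι]; exact le_sup_right
  let a := IsClosedImmersion.lift ι T.subschemeι hT
  have ha : a ≫ ι = T.subschemeι := IsClosedImmersion.lift_fac _ _ _
  have hk : a.ker.map ι = T := by rw [Scheme.IdealSheafData.map_ker, ha, T.ker_subschemeι]
  calc (W.comap ι).map ι ≤ a.ker.map ι := Scheme.IdealSheafData.map_mono ι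
        (Scheme.IdealSheafData.le_map_iff_comap_le.1 (hk.symm ▸ le_sup_left))
    _ = T := hk

/-- Let p : X ⟶ S be flat and locally of finite presentation and g : G ⟶ S proper and smooth with
geometrically connected fibres. Let S₀ ⟶ S be the closed subscheme defined by the nilradical, X₀ = X
×_S S₀, and Z₀ a closed subscheme of X₀, locally of finite presentation and flat over S₀. Let W be a
closed subscheme of X ×_S G, flat and locally of finite presentation over G, whose preimage in (X
×_S G) ×_S S₀ coincides with the preimage of Z₀. Then there is exactly one closed subscheme Z of X,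
flat and locally of finite presentation over S, whose preimage in X₀ is Z₀ and whose preimage in X
×_S G is W. (The published statement allows locally closed subschemes and asks W ⟶ G to be flat and
finitely presented only over a schematically dense open subset containing all points of relative
codimension one over Z₀; this row states the case where that open subset is all of W and the
subschemes are closed.) -/
theorem result {S X G : Scheme.{u}}
    (p : X ⟶ S) [Flat p] [LocallyOfFinitePresentation p]
    (g : G ⟶ S) [IsProper g] [Smooth g] [GeometricallyConnected g]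
    (Z₀ : (pullback p S.nilradical.subschemeι).IdealSheafData)
    [Flat (Z₀.subschemeι ≫ pullback.snd p S.nilradical.subschemeι)]
    [LocallyOfFinitePresentation (Z₀.subschemeι ≫ pullback.snd p S.nilradical.subschemeι)]
    (W : (pullback p g).IdealSheafData)
    [Flat (W.subschemeι ≫ pullback.snd p g)] [LocallyOfFinitePresentation (W.subschemeι ≫ pullback.snd p g)]
    (hW : W.comap (pullback.fst (pullback.fst p g ≫ p) S.nilradical.subschemeι) =
      Z₀.comap (pullback.map (pullback.fst p g ≫ p) S.nilradical.subschemeι p S.nilradical.subschemeι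
        (pullback.fst p g) (𝟙 _) (𝟙 S) (Category.comp_id _)
        ((Category.comp_id _).trans (Category.id_comp _).symm))) :
    ∃! Z : X.IdealSheafData, Flat (Z.subschemeι ≫ p) ∧ LocallyOfFinitePresentation (Z.subschemeι ≫ p) ∧
      Z.comap (pullback.fst p S.nilradical.subschemeι) = Z₀ ∧ Z.comap (pullback.fst p g) = W := by
  let i₀ := pullback.fst p S.nilradical.subschemeι
  let π := pullback.fst p g
  let ι := pullback.fst (π ≫ p) S.nilradical.subschemeι
  let m := pullback.map (π ≫ p) S.nilradical.subschemeι p S.nilradical.subschemeι π (𝟙 _) (𝟙 S) (Category.comp_id _)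
    ((Category.comp_id _).trans (Category.id_comp _).symm)
  haveI : IsProper π := MorphismProperty.pullback_fst p g inferInstance
  haveI : Smooth π := MorphismProperty.pullback_fst p g inferInstance
  haveI : GeometricallyConnected π := MorphismProperty.pullback_fst p g inferInstance
  have hw : W.subschemeι ≫ π ≫ p = (W.subschemeι ≫ pullback.snd p g) ≫ g := by
    rw [pullback.condition, Category.assoc]
  haveI hWf : Flat (W.subschemeι ≫ π ≫ p) := by rw [hw]; infer_instance
  haveI hWp : LocallyOfFinitePresentation (W.subschemeι ≫ π ≫ p) := by rw [hw]; infer_instance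
  have hm2 : m ≫ pullback.snd p S.nilradical.subschemeι = pullback.snd (π ≫ p) S.nilradical.subschemeι := by
    exact (pullback.lift_snd _ _ _).trans (Category.comp_id _)
  have hsq : IsPullback ι m π i₀ := by
    refine (IsPullback.of_right (h₁₂ := pullback.snd p S.nilradical.subschemeι) (v₁₁ := ι) ?_ (pullback.lift_fst _ _ _)
      (IsPullback.of_hasPullback p S.nilradical.subschemeι).flip).flip
    rw [hm2]
    exact (IsPullback.of_hasPullback (π ≫ p) S.nilradical.subschemeι).flip
  have hker : ι.ker = S.nilradical.comap (π ≫ p) := by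
    rw [Scheme.IdealSheafData.ker_fst_of_isClosedImmersion, Scheme.IdealSheafData.ker_subschemeι]
  have hZ₁ : (Z₀.map i₀).comap π = W ⊔ S.nilradical.comap (π ≫ p) := by
    rw [ker_comap_eq hsq, ← hW, map_comap_of_isClosedImmersion, hker]
  have hZ : (W.map π).comap π = W := GrothLib.FamDesc6.comap_map_eq p π W (Z₀.map i₀) hZ₁
  have hlfp : LocallyOfFinitePresentation W.subschemeι := GrothLib.FamDesc6.lfp_subschemeι p π W
  let Z := W.map π
  have hfst : LocallyOfFinitePresentation (pullback.fst π Z.subschemeι) := by
    have hcl : LocallyOfFinitePresentation (Z.comap π).subschemeι := by rw [hZ]; exact hlfp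
    rw [← Scheme.IdealSheafData.comapIso_inv_subschemeι]
    infer_instance
  have hι : LocallyOfFinitePresentation Z.subschemeι :=
    GrothLib.AlgSp.fppfDescends_lfp Z.subschemeι π (pullback.snd π Z.subschemeι) (pullback.fst π Z.subschemeι)
      (IsPullback.of_hasPullback π Z.subschemeι).flip inferInstance inferInstance inferInstance hfst
  have hfl : Flat (Z.subschemeι ≫ p) := by
    haveI : Flat (pullback.snd π Z.subschemeι) := MorphismProperty.pullback_snd π _ inferInstance
    haveI : Surjective (pullback.snd π Z.subschemeι) := MorphismProperty.pullback_snd π _ inferInstance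
    haveI : Flat (pullback.snd π Z.subschemeι ≫ Z.subschemeι ≫ p) := by
      have hcl : Flat ((Z.comap π).subschemeι ≫ π ≫ p) := by rw [hZ]; exact hWf
      rw [← Category.assoc, ← pullback.condition, Category.assoc,
        ← Scheme.IdealSheafData.comapIso_inv_subschemeι, Category.assoc]
      infer_instance
    exact GrothLib.FamDesc6.flat_of_comp_of_flat_surjective (pullback.snd π Z.subschemeι) (Z.subschemeι ≫ p)
  refine ⟨Z, ⟨hfl, inferInstance, ?_, hZ⟩, fun Z' h => ?_⟩
  · haveI : Smooth m := MorphismProperty.of_isPullback hsq ‹Smooth π›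
    haveI : Flat m := inferInstance
    haveI : LocallyOfFinitePresentation m := MorphismProperty.of_isPullback hsq inferInstance
    haveI : Surjective m := MorphismProperty.of_isPullback hsq inferInstance
    refine GrothLib.FamDesc6.eq_of_comap_eq m ?_
    rw [← Scheme.IdealSheafData.comap_comp, ← hsq.w, Scheme.IdealSheafData.comap_comp, hZ]
    exact hW
  · exact GrothLib.FamDesc6.eq_of_comap_eq π (h.2.2.2.trans hZ.symm)

end Groth.Agent.S14077
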