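import Groth.Statements.S14078
import Groth.Agent.S1353

set_option autoImplicit false
open CategoryTheory CategoryTheory.Limits AlgebraicGeometry
universe u
open FamCyc

namespace Groth.Agent.S14078

set_option backward.isDefEq.respectTransparency false


/-- Let f : X ⟶ S be a morphism of schemes locally of finite type, i : Z ⟶ X an immersion such that Z ⟶
S is locally quasi-finite, and z a point of Z. Then there are an étale morphism g : T ⟶ S and an
open subscheme U of X ×_S T such that the preimage U ×_X Z of Z in U is finite over T and contains a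
point u over z whose residue field extension κ(z) → κ(u) is an isomorphism, u being moreover the
only point of U ×_X Z in its fibre over T. (The published statement covers algebraic spaces X, with
U ⟶ X ×_S T étale in general and an open subspace when X is a scheme; this row is the scheme case.) -/
theorem result {Z X S : Scheme.{u}} (f : X ⟶ S)
    [LocallyOfFiniteType f] (i : Z ⟶ X) [IsImmersion i] [LocallyQuasiFinite (i ≫ f)] (z : Z) :
    ∃ (T : Scheme.{u}) (g : T ⟶ S) (U : (pullback f g).Opens)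
      (u : ↥(pullback (U.ι ≫ pullback.fst f g) i)),
      Etale g ∧
      IsFinite (pullback.fst (U.ι ≫ pullback.fst f g) i ≫ U.ι ≫ pullback.snd f g) ∧
      (pullback.snd (U.ι ≫ pullback.fst f g) i).base u = z ∧
      IsIso ((pullback.snd (U.ι ≫ pullback.fst f g) i).residueFieldMap u) ∧
      ∀ u' : ↥(pullback (U.ι ≫ pullback.fst f g) i),
        (pullback.fst (U.ι ≫ pullback.fst f g) i ≫ U.ι ≫ pullback.snd f g).base u' =
          (pullback.fst (U.ι ≫ pullback.fst f g) i ≫ U.ι ≫ pullback.snd f g).base u → u' = u := by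
  obtain ⟨T, g, t, hg, V, v, hvV, hfin, hvt, huniq, hvz, hres⟩ :=
    Groth.Agent.S1353.result (i ≫ f) z ((i ≫ f).quasiFiniteAt z)
  let m : pullback (i ≫ f) g ⟶ pullback f g :=
    pullback.lift (pullback.fst _ _ ≫ i) (pullback.snd _ _) (by rw [Category.assoc]; exact pullback.condition)
  have sq : IsPullback m (pullback.fst (i ≫ f) g) (pullback.fst f g) i := by
    refine IsPullback.of_right ?_ (pullback.lift_fst _ _ _) (IsPullback.of_hasPullback f g).flip
    rw [pullback.lift_snd]
    exact (IsPullback.of_hasPullback (i ≫ f) g).flip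
  haveI : IsImmersion m :=
    MorphismProperty.of_isPullback (P := @IsImmersion) sq.flip inferInstance
  obtain ⟨U', hU'o, hU'⟩ := m.isEmbedding.isInducing.isOpen_iff.mp V.isOpen
  let U : (pullback f g).Opens := ⟨U', hU'o⟩
  have hV : V = m ⁻¹ᵁ U := TopologicalSpace.Opens.ext hU'.symm
  subst hV
  let e := ((isPullback_morphismRestrict m U).paste_vert sq).isoPullback
  have he1 : e.hom ≫ pullback.fst (U.ι ≫ pullback.fst f g) i = m ∣_ U := IsPullback.isoPullback_hom_fst _
  have he2 : e.hom ≫ pullback.snd (U.ι ≫ pullback.fst f g) i = (m ⁻¹ᵁ U).ι ≫ pullback.fst (i ≫ f) g :=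
    IsPullback.isoPullback_hom_snd _
  have he3 : pullback.fst (U.ι ≫ pullback.fst f g) i ≫ U.ι ≫ pullback.snd f g =
      e.inv ≫ (m ⁻¹ᵁ U).ι ≫ pullback.snd (i ≫ f) g := by
    rw [← cancel_epi e.hom, ← Category.assoc, he1, ← Category.assoc, morphismRestrict_ι, Iso.hom_inv_id_assoc,
      Category.assoc, pullback.lift_snd]
  refine ⟨T, g, U, e.hom ⟨v, hvV⟩, hg.1, ?_, ?_, ?_, fun u' hu' => ?_⟩
  · rw [he3]
    infer_instance
  · change (e.hom ≫ pullback.snd (U.ι ≫ pullback.fst f g) i) ⟨v, hvV⟩ = z
    rw [he2]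
    exact hvz
  · have h1 : IsIso (((m ⁻¹ᵁ U).ι ≫ pullback.fst (i ≫ f) g).residueFieldMap ⟨v, hvV⟩) := by
      rw [Scheme.residueFieldMap_comp]
      haveI : IsIso ((pullback.fst (i ≫ f) g).residueFieldMap ((m ⁻¹ᵁ U).ι ⟨v, hvV⟩)) :=
        (ConcreteCategory.isIso_iff_bijective _).mpr hres
      infer_instance
    rw [← he2, Scheme.residueFieldMap_comp] at h1
    haveI := h1
    exact IsIso.of_isIso_comp_right _ (e.hom.residueFieldMap ⟨v, hvV⟩)
  · have key : ∀ w, (pullback.fst (U.ι ≫ pullback.fst f g) i ≫ U.ι ≫ pullback.snd f g) w =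
        pullback.snd (i ≫ f) g ((m ⁻¹ᵁ U).ι (e.inv w)) := fun w => by
      rw [he3]
      rfl
    have hinv : e.inv (e.hom ⟨v, hvV⟩) = ⟨v, hvV⟩ := by
      change (e.hom ≫ e.inv) ⟨v, hvV⟩ = _
      rw [Iso.hom_inv_id]
      rfl
    rw [key, key, hinv] at hu'
    have h2 : e.inv u' = ⟨v, hvV⟩ := Subtype.ext (huniq _ (e.inv u').2 (hu'.trans hvt))
    rw [← h2]
    change u' = (e.inv ≫ e.hom) u'
    rw [Iso.inv_hom_id]
    rfl

end Groth.Agent.S14078
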