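import Groth.Statements.S14080
import Mathlib

set_option autoImplicit false
universe u
open ArSing

namespace Groth.Agent.S14080

open PowerSeries in
/-- An algebra endomorphism of power series is determined by the image of the variable. -/
theorem algHom_eq {k : Type*} [CommRing k] {F G : PowerSeries k →ₐ[k] PowerSeries k}
    (h0 : constantCoeff (F X) = 0) (h : F X = G X) (f : PowerSeries k) : F f = G f := by
  rw [← sub_eq_zero]
  ext N
  obtain ⟨w, hw⟩ := X_dvd_iff.2 h0
  have hp : ∀ p : Polynomial k, F p = G p := fun p => by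
    induction p using Polynomial.induction_on with
    | C a => rw [Polynomial.coe_C]; exact (F.commutes a).trans (G.commutes a).symm
    | add p q hp hq => rw [Polynomial.coe_add, map_add, map_add, hp, hq]
    | monomial n a _ =>
      rw [Polynomial.coe_mul, Polynomial.coe_pow, Polynomial.coe_C, Polynomial.coe_X, map_mul,
        map_mul, map_pow, map_pow, h]
      exact congrArg (· * G X ^ (n + 1)) ((F.commutes a).trans (G.commutes a).symm)
  conv_lhs => rw [eq_X_pow_mul_shift_add_trunc (N + 1) f]
  rw [map_add, map_add, map_mul, map_mul, map_pow, map_pow, hp, add_sub_add_right_eq_sub, ← h,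
    ← mul_sub, hw, mul_pow, mul_assoc, coeff_X_pow_mul', if_neg (by omega), map_zero]

open PowerSeries in
theorem coeff_one_subst {k : Type*} [CommRing k] {s : PowerSeries k} (h0 : constantCoeff s = 0) :
    coeff 1 (s.subst s) = coeff 1 s * coeff 1 s := by
  obtain ⟨w, rfl⟩ := X_dvd_iff.2 h0
  have hS := HasSubst.of_constantCoeff_zero' h0
  rw [subst_mul hS, subst_X hS, mul_assoc, coeff_succ_X_mul, coeff_succ_X_mul, coeff_zero_eq_constantCoeff,
    map_mul]
  congr 1
  rw [← coeff_zero_eq_constantCoeff_apply, coeff_subst' hS, finsum_eq_single _ 0]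
  · simp
  · intro d hd
    simp [mul_pow, coeff_X_pow_mul', hd]



/-- Let k be a field in which 2 is invertible and σ an involutive k-algebra automorphism of the power
series ring k[[t]], with ξ the coefficient of t in σ(t). Then ξ^2 = 1, the k-algebra endomorphism φ
with φ(t) = (t + ξ σ(t))/2 is an automorphism, and φ⁻¹ σ φ is the automorphism t ↦ ξ t. (The
published statement is over an algebraically closed field of characteristic prime to 2; only the
invertibility of 2 is used, so any field with 2 ≠ 0 is allowed here.) -/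
theorem result (k : Type u) [Field k] (h2 : (2 : k) ≠ 0)
    (σ : PowerSeries k ≃ₐ[k] PowerSeries k) (hσ : ∀ f, σ (σ f) = f) :
    (PowerSeries.coeff 1 (σ PowerSeries.X)) ^ 2 = 1 ∧
    ∃ φ : PowerSeries k ≃ₐ[k] PowerSeries k,
      φ PowerSeries.X = PowerSeries.C (2⁻¹ : k) *
        (PowerSeries.X + PowerSeries.C (PowerSeries.coeff 1 (σ PowerSeries.X)) * σ PowerSeries.X) ∧
      ∀ f, φ.symm (σ (φ f)) = PowerSeries.rescale (PowerSeries.coeff 1 (σ PowerSeries.X)) f := by
  set s := σ PowerSeries.X with hs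
  have hs0 : PowerSeries.constantCoeff s = 0 := by
    by_contra h
    refine (fun h : IsUnit (PowerSeries.X : PowerSeries k) => by simpa using PowerSeries.isUnit_iff_constantCoeff.1 h) ?_
    rw [← σ.symm_apply_apply PowerSeries.X]
    exact (PowerSeries.isUnit_iff_constantCoeff.2 (isUnit_iff_ne_zero.2 h)).map σ.symm
  have hss : PowerSeries.HasSubst s := PowerSeries.HasSubst.of_constantCoeff_zero' hs0
  set ξ := PowerSeries.coeff 1 s with hξ
  have hσ' : ∀ f, σ f = PowerSeries.subst s f := fun f => by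
    have := algHom_eq (F := σ.toAlgHom) (G := PowerSeries.substAlgHom hss) (by simpa using hs0)
      (by simp [PowerSeries.substAlgHom_X, hs]) f
    simpa [PowerSeries.coe_substAlgHom] using this
  have hξ2 : ξ ^ 2 = 1 := by
    have h := congrArg (PowerSeries.coeff 1) (hσ PowerSeries.X)
    rw [← hs, hσ', PowerSeries.coeff_one_X, coeff_one_subst hs0, ← hξ] at h
    rw [sq]; exact h
  refine ⟨hξ2, ?_⟩
  set u := PowerSeries.C (2⁻¹ : k) * (PowerSeries.X + PowerSeries.C ξ * s) with hu
  have hu0 : PowerSeries.constantCoeff u = 0 := by simp [hu, hs0]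
  have hu1 : PowerSeries.coeff 1 u = 1 := by
    rw [hu, PowerSeries.coeff_C_mul, map_add, PowerSeries.coeff_one_X, PowerSeries.coeff_C_mul, ← hξ,
      ← sq, hξ2]
    field_simp
    norm_num
  have hU : IsUnit (PowerSeries.coeff 1 u) := hu1 ▸ isUnit_one
  set v := u.substInvOfIsUnit hU with hv
  have huS : PowerSeries.HasSubst u := PowerSeries.HasSubst.of_constantCoeff_zero' hu0
  have hv0 : PowerSeries.constantCoeff v = 0 := PowerSeries.constantCoeff_substInvOfIsUnit u hU
  have hvS : PowerSeries.HasSubst v := PowerSeries.HasSubst.of_constantCoeff_zero' hv0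
  let Φ : PowerSeries k →ₐ[k] PowerSeries k := PowerSeries.substAlgHom huS
  let Ψ : PowerSeries k →ₐ[k] PowerSeries k := PowerSeries.substAlgHom hvS
  have hΦX : Φ PowerSeries.X = u := PowerSeries.substAlgHom_X huS
  have hΨX : Ψ PowerSeries.X = v := PowerSeries.substAlgHom_X hvS
  have h12 : ∀ f, Φ (Ψ f) = f := algHom_eq (F := Φ.comp Ψ) (G := AlgHom.id k _)
    (by rw [AlgHom.comp_apply, hΨX]; simp [Φ, PowerSeries.coe_substAlgHom,
      hv, PowerSeries.subst_substInvOfIsUnit_left _ hu0]) (by
      rw [AlgHom.comp_apply, hΨX]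
      simp [Φ, PowerSeries.coe_substAlgHom, hv, PowerSeries.subst_substInvOfIsUnit_left _ hu0])
  have h21 : ∀ f, Ψ (Φ f) = f := algHom_eq (F := Ψ.comp Φ) (G := AlgHom.id k _)
    (by rw [AlgHom.comp_apply, hΦX]; simp [Ψ, PowerSeries.coe_substAlgHom,
      hv, PowerSeries.subst_substInvOfIsUnit_right _ hu0]) (by
      rw [AlgHom.comp_apply, hΦX]
      simp [Ψ, PowerSeries.coe_substAlgHom, hv, PowerSeries.subst_substInvOfIsUnit_right _ hu0])
  let φ : PowerSeries k ≃ₐ[k] PowerSeries k :=
    AlgEquiv.ofAlgHom Φ Ψ (AlgHom.ext h12) (AlgHom.ext h21)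
  refine ⟨φ, hΦX, fun f => ?_⟩
  rw [AlgEquiv.symm_apply_eq]
  have hC : ∀ c : k, σ (PowerSeries.C c) = PowerSeries.C c := fun c => σ.commutes c
  have hσu : σ u = PowerSeries.C ξ * u := by
    rw [hu, map_mul, map_add, map_mul, hC, hC, hσ PowerSeries.X]
    have hξC : PowerSeries.C ξ * PowerSeries.C ξ = (1 : PowerSeries k) := by
      rw [← map_mul, ← sq, hξ2, map_one]
    linear_combination (-(PowerSeries.C (2⁻¹ : k)) * s) * hξC
  show σ (Φ f) = Φ (PowerSeries.rescale ξ f)
  rw [← PowerSeries.coe_rescaleAlgHom]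
  refine algHom_eq (F := σ.toAlgHom.comp Φ) (G := Φ.comp (PowerSeries.rescaleAlgHom ξ)) ?_ ?_ f
  · show PowerSeries.constantCoeff (σ (Φ PowerSeries.X)) = 0
    rw [hΦX, hσu, map_mul, hu0, mul_zero]
  · show σ (Φ PowerSeries.X) = Φ (PowerSeries.rescaleAlgHom ξ PowerSeries.X)
    rw [hΦX, hσu, show PowerSeries.rescaleAlgHom ξ PowerSeries.X = PowerSeries.rescale ξ PowerSeries.X from
      congrFun (congrArg DFunLike.coe (PowerSeries.coe_rescaleAlgHom ξ)) _, PowerSeries.rescale_X, map_mul, hΦX]
    exact congrArg (· * u) (Φ.commutes ξ).symm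

end Groth.Agent.S14080
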