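import Groth.Statements.S14081
import Mathlib
import Groth.Agent.Ar2.Small

set_option autoImplicit false
universe u
open ArSing

namespace Groth.Agent.S14081

open Groth.Agent.Ar2


/-- Over an algebraically closed field k of characteristic prime to 2 and to r+1, with r even, every
non-trivial k-algebra involution σ of A_r = k[[x,y]]/(y^2 - x^(r+1)) is conjugate, by a k-algebra
automorphism φ of A_r, to the involution x ↦ x, y ↦ -y (that is, φ⁻¹σφ fixes the class of x and
negates the class of y). -/
theorem result (k : Type u) [Field k] [IsAlgClosed k] (r : ℕ)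
    (h2 : (2 : k) ≠ 0) (hr : ((r + 1 : ℕ) : k) ≠ 0) (hev : Even r)
    (σ : ArSing.ring k r ≃ₐ[k] ArSing.ring k r) (hσ : ∀ a, σ (σ a) = a) (hne : σ ≠ AlgEquiv.refl) :
    ∃ φ : ArSing.ring k r ≃ₐ[k] ArSing.ring k r,
      φ.symm (σ (φ (ArSing.x k r))) = ArSing.x k r ∧
      φ.symm (σ (φ (ArSing.y k r))) = -ArSing.y k r := by
  rcases Nat.eq_zero_or_pos r with rfl | hpos
  · exact smooth_involution h2 σ hσ hne
  obtain ⟨j, rfl⟩ := hev
  obtain ⟨φ, a, β, ha, hβ, haN, hx, hy⟩ := normal_form h2 (show 2 ≤ j + j by omega) σ hσ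
  obtain rfl : a = 1 := by
    rcases sq_eq_one_iff.1 ha with h | h
    · exact h
    · exfalso
      rw [h, (show Odd (j + j + 1) from ⟨j, by omega⟩).neg_one_pow] at haN
      exact h2 (by linear_combination -haN)
  rw [one_smul] at hx
  rcases sq_eq_one_iff.1 hβ with rfl | rfl
  · exfalso
    rw [one_smul] at hy
    refine hne (AlgEquiv.ext fun z => ?_)
    obtain ⟨q, rfl⟩ := φ.surjective z
    have h : φ.trans σ = φ := aut_ext
      (by rw [AlgEquiv.trans_apply]; exact φ.symm.injective (by rw [hx, AlgEquiv.symm_apply_apply]))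
      (by rw [AlgEquiv.trans_apply]; exact φ.symm.injective (by rw [hy, AlgEquiv.symm_apply_apply]))
    exact DFunLike.congr_fun h q
  · exact ⟨φ, hx, hy.trans (neg_one_smul k (ArSing.y k (j + j)))⟩

end Groth.Agent.S14081
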