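import Groth.Statements.S14082
import Mathlib
import Groth.Agent.Ar2.Small

set_option autoImplicit false
universe u
open ArSing

namespace Groth.Agent.S14082

open Groth.Agent.Ar2


/-- Over an algebraically closed field k of characteristic prime to 2 and to r+1, with r odd and r ≥ 3,
every non-trivial k-algebra involution σ of A_r = k[[x,y]]/(y^2 - x^(r+1)) is conjugate, by a
k-algebra automorphism φ of A_r, to one of the three involutions (x, y) ↦ (x, -y), (x, y) ↦ (-x, y),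
(x, y) ↦ (-x, -y). -/
theorem result (k : Type u) [Field k] [IsAlgClosed k] (r : ℕ)
    (h2 : (2 : k) ≠ 0) (hr : ((r + 1 : ℕ) : k) ≠ 0) (hodd : Odd r) (h3 : 3 ≤ r)
    (σ : ArSing.ring k r ≃ₐ[k] ArSing.ring k r) (hσ : ∀ a, σ (σ a) = a) (hne : σ ≠ AlgEquiv.refl) :
    ∃ φ : ArSing.ring k r ≃ₐ[k] ArSing.ring k r,
      (φ.symm (σ (φ (ArSing.x k r))) = ArSing.x k r ∧ φ.symm (σ (φ (ArSing.y k r))) = -ArSing.y k r) ∨
      (φ.symm (σ (φ (ArSing.x k r))) = -ArSing.x k r ∧ φ.symm (σ (φ (ArSing.y k r))) = ArSing.y k r) ∨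
      (φ.symm (σ (φ (ArSing.x k r))) = -ArSing.x k r ∧ φ.symm (σ (φ (ArSing.y k r))) = -ArSing.y k r) := by
  obtain ⟨φ, a, β, ha, hβ, haN, hx, hy⟩ := normal_form h2 (show 2 ≤ r by omega) σ hσ
  rcases sq_eq_one_iff.1 ha with rfl | rfl <;> rcases sq_eq_one_iff.1 hβ with rfl | rfl
  · exfalso
    rw [one_smul] at hx hy
    refine hne (AlgEquiv.ext fun z => ?_)
    obtain ⟨q, rfl⟩ := φ.surjective z
    have h : φ.trans σ = φ := aut_ext
      (by rw [AlgEquiv.trans_apply]; exact φ.symm.injective (by rw [hx, AlgEquiv.symm_apply_apply]))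
      (by rw [AlgEquiv.trans_apply]; exact φ.symm.injective (by rw [hy, AlgEquiv.symm_apply_apply]))
    exact DFunLike.congr_fun h q
  · exact ⟨φ, Or.inl ⟨hx.trans (one_smul k _), hy.trans (neg_one_smul k (ArSing.y k r))⟩⟩
  · exact ⟨φ, Or.inr (Or.inl ⟨hx.trans (neg_one_smul k (ArSing.x k r)), hy.trans (one_smul k _)⟩)⟩
  · exact ⟨φ, Or.inr (Or.inr
      ⟨hx.trans (neg_one_smul k (ArSing.x k r)), hy.trans (neg_one_smul k (ArSing.y k r))⟩)⟩

end Groth.Agent.S14082
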