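import Groth.Statements.S14083
import Mathlib
import Groth.Agent.Ar2.Small

set_option autoImplicit false
universe u
open ArSing

namespace Groth.Agent.S14083

open Groth.Agent.Ar2


/-- Over an algebraically closed field k of characteristic different from 2, every non-trivial k-algebra
involution σ of the node algebra A_1 = k[[x,y]]/(y^2 - x^2) is conjugate, by a k-algebra
automorphism φ of A_1, to one of the three involutions (x, y) ↦ (x, -y), (x, y) ↦ (-x, -y), (x, y) ↦
(y, x). -/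
theorem result (k : Type u) [Field k] [IsAlgClosed k]
    (h2 : (2 : k) ≠ 0)
    (σ : ArSing.ring k 1 ≃ₐ[k] ArSing.ring k 1) (hσ : ∀ a, σ (σ a) = a) (hne : σ ≠ AlgEquiv.refl) :
    ∃ φ : ArSing.ring k 1 ≃ₐ[k] ArSing.ring k 1,
      (φ.symm (σ (φ (ArSing.x k 1))) = ArSing.x k 1 ∧ φ.symm (σ (φ (ArSing.y k 1))) = -ArSing.y k 1) ∨
      (φ.symm (σ (φ (ArSing.x k 1))) = -ArSing.x k 1 ∧ φ.symm (σ (φ (ArSing.y k 1))) = -ArSing.y k 1) ∨
      (φ.symm (σ (φ (ArSing.x k 1))) = ArSing.y k 1 ∧ φ.symm (σ (φ (ArSing.y k 1))) = ArSing.x k 1) := by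
  exact node_involution h2 σ hσ hne

end Groth.Agent.S14083
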