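import Groth.Statements.S14085
import Mathlib.RingTheory.Flat.Stability
import Groth.Agent.Lib.BlowUp.FlatSub
-- import your own Groth.Agent.* helpers here

set_option autoImplicit false
universe u
open FlatMor

namespace Groth.Agent.S14085

/-- Let R be a ring, A and B flat R-algebras, I an ideal of A and B → A/I an injective finite flat map
of R-algebras. Then the fibre product ring B ×_{A/I} A, realised as the subalgebra of B × A of pairs
with equal image in A/I, is flat over R. (This is the affine statement behind flatness over the base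
of the pushout of a closed immersion along a finite flat morphism.) -/
theorem result (R A B : Type u) [CommRing R] [CommRing A] [CommRing B]
    [Algebra R A] [Algebra R B] [Module.Flat R A] [Module.Flat R B] (I : Ideal A)
    [Algebra B (A ⧸ I)] [IsScalarTower R B (A ⧸ I)] [Module.Finite B (A ⧸ I)] [Module.Flat B (A ⧸ I)]
    (hinj : Function.Injective (algebraMap B (A ⧸ I))) :
    Module.Flat R ↥(AlgHom.equalizer ((IsScalarTower.toAlgHom R B (A ⧸ I)).comp (AlgHom.fst R B A))
          ((Ideal.Quotient.mkₐ R I).comp (AlgHom.snd R B A))) := by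
  let q : (B × A) →ₗ[R] A ⧸ I := ((IsScalarTower.toAlgHom R B (A ⧸ I)).comp (AlgHom.fst R B A)).toLinearMap -
    ((Ideal.Quotient.mkₐ R I).comp (AlgHom.snd R B A)).toLinearMap
  haveI : Module.Flat R (A ⧸ I) := Module.Flat.trans R B (A ⧸ I)
  haveI : Module.Flat R (B × A) := GrothLib.BlowUp.flat_of_exact (LinearMap.inl R B A) LinearMap.inl_injective
    (LinearMap.snd R B A) LinearMap.snd_surjective Function.Exact.inl_snd
  refine GrothLib.BlowUp.flat_of_exact_left (AlgHom.equalizer _ _).val.toLinearMap Subtype.val_injective q ?surj ?exact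
  case exact =>
    intro x
    simp only [q, LinearMap.sub_apply, sub_eq_zero]
    exact ⟨fun h => ⟨⟨x, h⟩, rfl⟩, fun ⟨y, hy⟩ => hy ▸ y.2⟩
  case surj =>
    intro c
    obtain ⟨a, ha⟩ := Ideal.Quotient.mk_surjective (-c)
    exact ⟨(0, a), by simp [q, ha]⟩

end Groth.Agent.S14085
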