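import Groth.Statements.S14086
import Mathlib.RingTheory.Flat.Equalizer
import Mathlib.RingTheory.Flat.Rank
import Mathlib.RingTheory.Flat.Stability
-- import your own Groth.Agent.* helpers here

set_option autoImplicit false
universe u
open FlatMor

namespace Groth.Agent.S14086

/-- Let R be a ring, A and B flat R-algebras, I an ideal of A, B → A/I an injective finite flat map of
R-algebras and P = B ×_{A/I} A the fibre product ring (pairs in B × A with equal image in A/I). For
any R-algebra R' the base change R' ⊗_R P maps injectively to R' ⊗_R A, and any b' in R' ⊗_R B and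
a' in R' ⊗_R A with the same image in R' ⊗_R (A/I) are the two components of some element of R' ⊗_R
P; that is, R' ⊗_R P is the fibre product of R' ⊗_R B and R' ⊗_R A over R' ⊗_R (A/I). -/
theorem result (R A B R' : Type u) [CommRing R] [CommRing A]
    [CommRing B] [CommRing R'] [Algebra R A] [Algebra R B] [Algebra R R'] [Module.Flat R A] [Module.Flat R B]
    (I : Ideal A) [Algebra B (A ⧸ I)] [IsScalarTower R B (A ⧸ I)] [Module.Finite B (A ⧸ I)] [Module.Flat B (A ⧸ I)]
    (hinj : Function.Injective (algebraMap B (A ⧸ I))) :
    Function.Injective (Algebra.TensorProduct.map (AlgHom.id R' R')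
        ((AlgHom.snd R B A).comp (AlgHom.equalizer ((IsScalarTower.toAlgHom R B (A ⧸ I)).comp (AlgHom.fst R B A))
          ((Ideal.Quotient.mkₐ R I).comp (AlgHom.snd R B A))).val)) ∧
    ∀ (b : TensorProduct R R' B) (a : TensorProduct R R' A),
      Algebra.TensorProduct.map (AlgHom.id R' R') (IsScalarTower.toAlgHom R B (A ⧸ I)) b =
        Algebra.TensorProduct.map (AlgHom.id R' R') (Ideal.Quotient.mkₐ R I) a →
      ∃ x : TensorProduct R R' ↥(AlgHom.equalizer ((IsScalarTower.toAlgHom R B (A ⧸ I)).comp (AlgHom.fst R B A))
          ((Ideal.Quotient.mkₐ R I).comp (AlgHom.snd R B A))),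
        Algebra.TensorProduct.map (AlgHom.id R' R') ((AlgHom.fst R B A).comp (AlgHom.equalizer ((IsScalarTower.toAlgHom R B (A ⧸ I)).comp (AlgHom.fst R B A))
          ((Ideal.Quotient.mkₐ R I).comp (AlgHom.snd R B A))).val) x = b ∧
        Algebra.TensorProduct.map (AlgHom.id R' R') ((AlgHom.snd R B A).comp (AlgHom.equalizer ((IsScalarTower.toAlgHom R B (A ⧸ I)).comp (AlgHom.fst R B A))
          ((Ideal.Quotient.mkₐ R I).comp (AlgHom.snd R B A))).val) x = a := by
  let fB := IsScalarTower.toAlgHom R B (A ⧸ I)
  let fA := Ideal.Quotient.mkₐ R I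
  let E := AlgHom.equalizer (fB.comp (AlgHom.fst R B A)) (fA.comp (AlgHom.snd R B A))
  let q : (B × A) →ₗ[R] A ⧸ I := (fB.comp (AlgHom.fst R B A)).toLinearMap - (fA.comp (AlgHom.snd R B A)).toLinearMap
  haveI : Module.Flat R (A ⧸ I) := Module.Flat.trans R B (A ⧸ I)
  have hq : Function.Surjective q := fun c => by
    obtain ⟨a, ha⟩ := Ideal.Quotient.mk_surjective (-c)
    exact ⟨(0, a), by simp [q, fA, ha]⟩
  have hE : Function.Exact E.val.toLinearMap q := fun x => by
    simp only [q, LinearMap.sub_apply, sub_eq_zero]
    exact ⟨fun h => ⟨⟨x, h⟩, rfl⟩, fun ⟨y, hy⟩ => hy ▸ y.2⟩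
  have hinjE : Function.Injective (E.val.toLinearMap.lTensor R') :=
    LinearMap.lTensor_injective_of_exact_of_flat q hq _ Subtype.val_injective hE R'
  have hex := lTensor_exact R' hE hq
  have hmap : ∀ {C D : Type u} [CommRing C] [CommRing D] [Algebra R C] [Algebra R D] (φ : C →ₐ[R] D)
      (z : TensorProduct R R' C), Algebra.TensorProduct.map (AlgHom.id R' R') φ z = φ.toLinearMap.lTensor R' z := by
    intro C D _ _ _ _ φ z
    induction z using TensorProduct.induction_on with
    | zero => simp
    | add u v hu hv => rw [map_add, map_add, hu, hv]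
    | tmul r c => simp
  have hdec : ∀ z : TensorProduct R R' (B × A),
      (LinearMap.inl R B A).lTensor R' ((LinearMap.fst R B A).lTensor R' z) +
        (LinearMap.inr R B A).lTensor R' ((LinearMap.snd R B A).lTensor R' z) = z := fun z => by
    induction z using TensorProduct.induction_on with
    | zero => simp
    | add u v hu hv =>
      conv_rhs => rw [← hu, ← hv]
      simp only [map_add]
      abel
    | tmul r c => simp [← TensorProduct.tmul_add]
  have hqz : ∀ z : TensorProduct R R' (B × A), q.lTensor R' z =
      fB.toLinearMap.lTensor R' ((LinearMap.fst R B A).lTensor R' z) -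
        fA.toLinearMap.lTensor R' ((LinearMap.snd R B A).lTensor R' z) := fun z => by
    induction z using TensorProduct.induction_on with
    | zero => simp
    | add u v hu hv => simp only [map_add, hu, hv]; abel
    | tmul r c => simp [q, TensorProduct.tmul_sub]
  haveI : Module.FaithfullyFlat B (A ⧸ I) :=
    Module.FaithfullyFlat.of_comap_surjective (PrimeSpectrum.comap_surjective_iff_injective_of_finite.mpr hinj)
  have hB : Function.Injective (fB.toLinearMap.lTensor R') := by
    let e := TensorProduct.AlgebraTensorModule.cancelBaseChange R B B (A ⧸ I) R'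
    have h1 := Module.FaithfullyFlat.tensorProduct_mk_injective (A := B) (B := A ⧸ I) (TensorProduct R B R')
    have key : ∀ w : TensorProduct R B R', fB.toLinearMap.lTensor R' (TensorProduct.comm R B R' w) =
        TensorProduct.comm R (A ⧸ I) R' (e ((1 : A ⧸ I) ⊗ₜ[B] w)) := fun w => by
      induction w using TensorProduct.induction_on with
      | zero => simp
      | add u v hu hv => simp only [map_add, TensorProduct.tmul_add, hu, hv]
      | tmul b r => simp [e, fB, Algebra.smul_def]
    intro z₁ z₂ h
    obtain ⟨w₁, rfl⟩ := (TensorProduct.comm R B R').surjective z₁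
    obtain ⟨w₂, rfl⟩ := (TensorProduct.comm R B R').surjective z₂
    rw [key, key] at h
    exact congrArg _ (h1 (e.injective ((TensorProduct.comm R (A ⧸ I) R').injective h)))
  refine ⟨?_, fun b a hba => ?_⟩
  · rw [injective_iff_map_eq_zero]
    intro x hx
    rw [hmap] at hx
    apply hinjE
    rw [map_zero, ← hdec (E.val.toLinearMap.lTensor R' x)]
    have h0 := congrArg (· ) (hex.apply_apply_eq_zero x)
    have hs : (LinearMap.snd R B A).lTensor R' (E.val.toLinearMap.lTensor R' x) = 0 := by
      rw [← LinearMap.lTensor_comp_apply]; exact hx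
    simp only [hqz, hs, map_zero, sub_zero] at h0
    rw [hs, hB (h0.trans (map_zero _).symm), map_zero, map_zero, add_zero]
  · rw [hmap, hmap] at hba
    let z := (LinearMap.inl R B A).lTensor R' b + (LinearMap.inr R B A).lTensor R' a
    have hf : (LinearMap.fst R B A).lTensor R' z = b := by
      simp only [z, map_add, ← LinearMap.lTensor_comp_apply, LinearMap.fst_comp_inl, LinearMap.fst_comp_inr,
        LinearMap.lTensor_id, LinearMap.id_apply, LinearMap.lTensor_zero, LinearMap.zero_apply, add_zero]
    have hs : (LinearMap.snd R B A).lTensor R' z = a := by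
      simp only [z, map_add, ← LinearMap.lTensor_comp_apply, LinearMap.snd_comp_inl, LinearMap.snd_comp_inr,
        LinearMap.lTensor_id, LinearMap.id_apply, LinearMap.lTensor_zero, LinearMap.zero_apply, zero_add]
    obtain ⟨x, hx⟩ := (hex z).mp (by rw [hqz, hf, hs, sub_eq_zero]; exact hba)
    refine ⟨x, ?_, ?_⟩
    · rw [hmap, ← hf, ← hx, ← LinearMap.lTensor_comp_apply]
      rfl
    · rw [hmap, ← hs, ← hx, ← LinearMap.lTensor_comp_apply]
      rfl

end Groth.Agent.S14086
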