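import Groth.Statements.S14087
import Mathlib


set_option autoImplicit false
set_option linter.all false
set_option synthInstance.maxHeartbeats 200000
set_option maxHeartbeats 1000000
universe u
open ArSing

namespace Groth.Agent.S14087

theorem finrank_trunc (k : Type u) [Field k] (n : ℕ) :
    Module.finrank k (Polynomial k ⧸ Ideal.span {(Polynomial.X : Polynomial k) ^ n}) = n := by
  rw [finrank_quotient_span_eq_natDegree, Polynomial.natDegree_X_pow]


open Polynomial in
/-- Over an algebraically closed field k, if B = k[t]/(t^n) with n ≥ 1 is flat over a k-subalgebra A ⊆ B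
(a finite flat extension of pointed finite algebras with curvilinear top), then A is curvilinear
too: A is isomorphic as a k-algebra to k[t]/(t^m) for some m. -/
theorem result (k : Type u) [Field k] [IsAlgClosed k]
    (n : ℕ) (hn : 0 < n)
    (A : Subalgebra k (Polynomial k ⧸ Ideal.span {(X : Polynomial k) ^ n}))
    [Module.Flat A (Polynomial k ⧸ Ideal.span {(X : Polynomial k) ^ n})] :
    ∃ m : ℕ, Nonempty (A ≃ₐ[k] (Polynomial k ⧸ Ideal.span {(X : Polynomial k) ^ m})) := by
  classical
  let t : Polynomial k ⧸ (Ideal.span {(X : Polynomial k) ^ n}) := Ideal.Quotient.mk (Ideal.span {(X : Polynomial k) ^ n}) X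
  have hfinB : Module.finrank k (Polynomial k ⧸ (Ideal.span {(X : Polynomial k) ^ n})) = n := finrank_trunc k n
  haveI : Module.Finite k (Polynomial k ⧸ (Ideal.span {(X : Polynomial k) ^ n})) := Module.finite_of_finrank_pos (by omega)
  let π : (Polynomial k ⧸ (Ideal.span {(X : Polynomial k) ^ n})) →ₐ[k] k := Ideal.Quotient.liftₐ (Ideal.span {(X : Polynomial k) ^ n}) (Polynomial.aeval (0 : k)) (by
    intro p hp
    obtain ⟨q, rfl⟩ := Ideal.mem_span_singleton'.1 hp
    rw [map_mul, map_pow, Polynomial.aeval_X, zero_pow hn.ne', mul_zero])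
  have hπ : ∀ p, π (Ideal.Quotient.mk (Ideal.span {(X : Polynomial k) ^ n}) p) = p.coeff 0 := fun p => by
    show Polynomial.aeval (0 : k) p = _
    rw [Polynomial.coeff_zero_eq_aeval_zero]
  have htn : t ^ n = 0 := by
    rw [← map_pow]; exact Ideal.Quotient.eq_zero_iff_mem.2 (Ideal.subset_span rfl)
  have ht0 : ∀ i < n, t ^ i ≠ 0 := fun i hi h => by
    rw [← map_pow, Ideal.Quotient.eq_zero_iff_mem, Ideal.mem_span_singleton, Polynomial.X_pow_dvd_iff] at h
    have := h i hi
    rw [Polynomial.coeff_X_pow_self] at this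
    exact one_ne_zero this
  have hunit : ∀ b, π b ≠ 0 → IsUnit b := by
    intro b hb
    obtain ⟨p, rfl⟩ := Ideal.Quotient.mk_surjective b
    rw [hπ] at hb
    rw [← p.X_mul_divX_add, map_add, map_mul]
    exact IsNilpotent.isUnit_add_right_of_commute
      ⟨n, by rw [mul_pow, show Ideal.Quotient.mk (Ideal.span {(X : Polynomial k) ^ n}) X ^ n = 0 from htn, zero_mul]⟩
      (((isUnit_iff_ne_zero.2 hb).map Polynomial.C).map (Ideal.Quotient.mk (Ideal.span {(X : Polynomial k) ^ n}))) (Commute.all _ _)
  have hval : ∀ b : Polynomial k ⧸ (Ideal.span {(X : Polynomial k) ^ n}), b ≠ 0 → ∃ j v, j < n ∧ IsUnit v ∧ b = t ^ j * v := by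
    intro b hb
    obtain ⟨p, rfl⟩ := Ideal.Quotient.mk_surjective b
    have hp : p ≠ 0 := fun h => hb (by rw [h, map_zero])
    obtain ⟨q, hq, hq0⟩ := Polynomial.exists_eq_pow_rootMultiplicity_mul_and_not_dvd p hp 0
    rw [Polynomial.C_0, sub_zero] at hq hq0
    generalize Polynomial.rootMultiplicity 0 p = j at hq
    subst hq
    refine ⟨j, Ideal.Quotient.mk (Ideal.span {(X : Polynomial k) ^ n}) q, ?_, hunit _ ?_, by rw [map_mul, map_pow]⟩
    · by_contra h
      exact hb (by
        rw [map_mul, map_pow, show Ideal.Quotient.mk (Ideal.span {(X : Polynomial k) ^ n}) X = t from rfl, pow_eq_zero_of_le (not_lt.1 h) htn, zero_mul])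
    · rw [hπ]
      exact fun h => hq0 (Polynomial.X_dvd_iff.2 h)
  have hπt : ∀ j v, IsUnit v → (π (t ^ j * v) = 0 ↔ j ≠ 0) := by
    intro j v hv
    rw [map_mul, map_pow, show π t = 0 by rw [hπ]; exact Polynomial.coeff_X_zero,
      (hv.map π).mul_left_eq_zero]
    constructor
    · rintro h rfl
      rw [pow_zero] at h; exact one_ne_zero h
    · exact fun h => zero_pow h
  by_cases hbot : ∀ a : A, π a = 0 → a = 0
  · refine ⟨1, ⟨(AlgEquiv.ofBijective ?_ ?_).symm⟩⟩
    · exact (Algebra.ofId k A).comp (Ideal.Quotient.liftₐ _ (Polynomial.aeval (0 : k)) (by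
        intro p hp
        obtain ⟨q, rfl⟩ := Ideal.mem_span_singleton'.1 hp
        rw [map_mul, map_pow, Polynomial.aeval_X, pow_one, mul_zero]))
    · constructor
      · rw [injective_iff_map_eq_zero]
        intro p hp
        obtain ⟨p, rfl⟩ := Ideal.Quotient.mk_surjective p
        rw [Ideal.Quotient.eq_zero_iff_mem, pow_one, Ideal.mem_span_singleton, Polynomial.X_dvd_iff,
          Polynomial.coeff_zero_eq_aeval_zero]
        have h := congrArg (fun a : A => π a) hp
        simpa using h
      · intro a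
        refine ⟨algebraMap k _ (π a), ?_⟩
        rw [AlgHom.commutes]
        refine (sub_eq_zero.1 (hbot (a - algebraMap k A (π a)) ?_)).symm
        push_cast
        simp
  push Not at hbot
  obtain ⟨a₀, ha₀, ha₀'⟩ := hbot
  obtain ⟨j₀, v₀, hj₀, hv₀, he₀⟩ := hval (a₀ : Polynomial k ⧸ (Ideal.span {(X : Polynomial k) ^ n})) (by simpa using ha₀')
  let P : ℕ → Prop := fun j => j < n ∧ ∃ v, IsUnit v ∧ ∃ a : A, π a = 0 ∧ (a : Polynomial k ⧸ (Ideal.span {(X : Polynomial k) ^ n})) = t ^ j * v
  have hP : ∃ j, P j := ⟨j₀, hj₀, v₀, hv₀, a₀, ha₀, he₀⟩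
  obtain ⟨hdn, u, hu, f, hfπ, hf⟩ := Nat.find_spec hP
  set d := Nat.find hP with hddef
  have hd0 : d ≠ 0 := (hπt d u hu).1 (hf ▸ hfπ)
  have hker : ∀ a : A, π a = 0 → ∃ w, (a : Polynomial k ⧸ (Ideal.span {(X : Polynomial k) ^ n})) = t ^ d * w := by
    intro a ha
    by_cases h0 : (a : Polynomial k ⧸ (Ideal.span {(X : Polynomial k) ^ n})) = 0
    · exact ⟨0, by rw [h0, mul_zero]⟩
    obtain ⟨j, v, hj, hv, he⟩ := hval _ h0
    have hle : d ≤ j := Nat.find_min' hP ⟨hj, v, hv, a, ha, he⟩
    exact ⟨t ^ (j - d) * v, by rw [← mul_assoc, ← pow_add, Nat.add_sub_cancel' hle, he]⟩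
  -- the rank is at least `d`
  haveI : Module.Finite k A :=
    Module.Finite.of_injective A.val.toLinearMap Subtype.val_injective
  haveI : IsArtinianRing A := IsArtinianRing.of_finite k A
  haveI : IsNoetherianRing A := inferInstance
  haveI hlocA : IsLocalRing A := by
    refine IsLocalRing.of_unique_max_ideal ⟨RingHom.ker (π.comp A.val).toRingHom, ?_, ?_⟩
    · exact RingHom.ker_isMaximal_of_surjective _ fun c => ⟨algebraMap k A c, (π.comp A.val).commutes c⟩
    · intro M hM
      refine (hM.eq_of_le (RingHom.ker_ne_top _) fun a ha => ?_)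
      by_contra h
      apply hM.ne_top
      obtain ⟨w, hw⟩ : ∃ w, (a : Polynomial k ⧸ (Ideal.span {(X : Polynomial k) ^ n})) - algebraMap k _ (π a) = t ^ d * w := by
        obtain ⟨w, hw⟩ := hker (a - algebraMap k A (π a)) (by simp)
        exact ⟨w, by simpa using hw⟩
      have hnil : IsNilpotent (a - algebraMap k A (π a)) := ⟨n, Subtype.ext (by
        show ((a : Polynomial k ⧸ (Ideal.span {(X : Polynomial k) ^ n})) - algebraMap k _ (π a)) ^ n = 0
        rw [hw, mul_pow, ← pow_mul, mul_comm, pow_eq_zero_of_le (Nat.le_mul_of_pos_left n (by omega)) htn, mul_zero])⟩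
      refine M.eq_top_of_isUnit_mem ha ?_
      have := hnil.isUnit_add_right_of_commute ((isUnit_iff_ne_zero.2 h).map (algebraMap k A)) (Commute.all _ _)
      simpa using this
  haveI : Module.Finite A (Polynomial k ⧸ (Ideal.span {(X : Polynomial k) ^ n})) := Module.Finite.of_restrictScalars_finite k A _
  haveI : Module.Free A (Polynomial k ⧸ (Ideal.span {(X : Polynomial k) ^ n})) := Module.free_of_flat_of_isLocalRing
  have hmul : Module.finrank k A * Module.finrank A (Polynomial k ⧸ (Ideal.span {(X : Polynomial k) ^ n})) = n := by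
    rw [Module.finrank_mul_finrank, hfinB]
  have hr : d ≤ Module.finrank A (Polynomial k ⧸ (Ideal.span {(X : Polynomial k) ^ n})) := by
    let ψ : (Polynomial k ⧸ (Ideal.span {(X : Polynomial k) ^ n})) →ₐ[k] Polynomial k ⧸ Ideal.span {(X : Polynomial k) ^ d} :=
      Ideal.Quotient.factorₐ k (Ideal.span_singleton_le_span_singleton.2 (pow_dvd_pow X hdn.le))
    have hψs : Function.Surjective ψ := Ideal.Quotient.factor_surjective (Ideal.span_singleton_le_span_singleton.2 (pow_dvd_pow X hdn.le))
    let b := Module.Free.chooseBasis A (Polynomial k ⧸ (Ideal.span {(X : Polynomial k) ^ n}))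
    have htd : ψ t ^ d = 0 := by
      show Ideal.Quotient.mk _ X ^ d = 0
      rw [← map_pow]; exact Ideal.Quotient.eq_zero_iff_mem.2 (Ideal.subset_span rfl)
    have hψa : ∀ a : A, ψ a = algebraMap k _ (π a) := fun a => by
      obtain ⟨w, hw⟩ := hker (a - algebraMap k A (π a)) (by simp)
      have h := congrArg ψ hw
      rw [map_mul, map_pow, htd, zero_mul] at h
      simpa [sub_eq_zero] using h
    have hspan : Submodule.span k (Set.range fun i => ψ (b i)) = ⊤ := by
      refine eq_top_iff.2 fun y _ => ?_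
      obtain ⟨y, rfl⟩ := hψs y
      rw [← b.sum_repr y, map_sum]
      refine Submodule.sum_mem _ fun i _ => ?_
      rw [Subalgebra.smul_def, smul_eq_mul, map_mul, hψa, ← Algebra.smul_def]
      exact Submodule.smul_mem _ _ (Submodule.subset_span ⟨i, rfl⟩)
    have h := finrank_range_le_card (R := k) (fun i => ψ (b i))
    rw [Set.finrank, hspan, finrank_top] at h
    rw [finrank_trunc k d] at h
    rwa [Module.finrank_eq_card_chooseBasisIndex]
  -- powers of `f`
  have hD : ∃ D, n ≤ d * D := ⟨n, Nat.le_mul_of_pos_left n (by omega)⟩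
  set D := Nat.find hD
  have hfD : f ^ D = 0 := Subtype.ext (by
    show (f : Polynomial k ⧸ (Ideal.span {(X : Polynomial k) ^ n})) ^ D = 0
    rw [hf, mul_pow, ← pow_mul, pow_eq_zero_of_le (Nat.find_spec hD) htn, zero_mul])
  let φ : (Polynomial k ⧸ Ideal.span {(X : Polynomial k) ^ D}) →ₐ[k] A :=
    Ideal.Quotient.liftₐ _ (Polynomial.aeval f) (by
      intro p hp
      obtain ⟨q, rfl⟩ := Ideal.mem_span_singleton'.1 hp
      rw [map_mul, map_pow, Polynomial.aeval_X, hfD, mul_zero])
  have hφ : Function.Injective φ := by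
    rw [injective_iff_map_eq_zero]
    intro p hp
    obtain ⟨p, rfl⟩ := Ideal.Quotient.mk_surjective p
    rw [Ideal.Quotient.eq_zero_iff_mem, Ideal.mem_span_singleton]
    by_cases hp0 : p = 0
    · rw [hp0]; exact dvd_zero _
    obtain ⟨q, hq, hq0⟩ := Polynomial.exists_eq_pow_rootMultiplicity_mul_and_not_dvd p hp0 0
    rw [Polynomial.C_0, sub_zero] at hq hq0
    generalize Polynomial.rootMultiplicity 0 p = j at hq
    subst hq
    refine (pow_dvd_pow X ?_).trans (dvd_mul_right _ q)
    refine Nat.find_min' hD ?_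
    by_contra hlt
    have h : ((Polynomial.aeval f (X ^ j * q) : A) : Polynomial k ⧸ (Ideal.span {(X : Polynomial k) ^ n})) = 0 := by
      rw [show Polynomial.aeval f (X ^ j * q) = 0 from hp]; rfl
    rw [map_mul, map_pow, Polynomial.aeval_X] at h
    rw [Subalgebra.coe_mul, Subalgebra.coe_pow] at h
    rw [hf, mul_pow, ← pow_mul, mul_assoc] at h
    have hq' : IsUnit ((Polynomial.aeval f q : A) : Polynomial k ⧸ (Ideal.span {(X : Polynomial k) ^ n})) := by
      refine hunit _ ?_
      rw [show π ((Polynomial.aeval f q : A) : Polynomial k ⧸ (Ideal.span {(X : Polynomial k) ^ n})) = (π.comp A.val) (Polynomial.aeval f q) from rfl,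
        ← Polynomial.aeval_algHom_apply, show (π.comp A.val) f = 0 from hfπ, ← Polynomial.coeff_zero_eq_aeval_zero]
      exact fun h => hq0 (Polynomial.X_dvd_iff.2 h)
    exact ht0 (d * j) (not_le.1 hlt) (((hu.pow j).mul hq').mul_left_eq_zero.1 h)
  have hDA : D ≤ Module.finrank k A := by
    rw [← finrank_trunc k D]
    exact LinearMap.finrank_le_finrank_of_injective (f := φ.toLinearMap) hφ
  have heq : Module.finrank k A = D := by
    refine le_antisymm ?_ hDA
    have h1 := Nat.mul_le_mul_left (Module.finrank k A) hr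
    rw [hmul] at h1
    exact Nat.le_of_mul_le_mul_right (h1.trans ((Nat.find_spec hD).trans (mul_comm d D).le)) (by omega)
  refine ⟨D, ⟨(AlgEquiv.ofBijective φ ⟨hφ, ?_⟩).symm⟩⟩
  haveI : Module.Finite k (Polynomial k ⧸ Ideal.span {(X : Polynomial k) ^ D}) :=
    Module.finite_of_finrank_pos (by
      rw [finrank_trunc k D]
      exact Nat.pos_of_ne_zero fun h => by
        have := Nat.find_spec hD
        rw [show Nat.find hD = 0 from h] at this
        omega)
  exact (LinearMap.injective_iff_surjective_of_finrank_eq_finrank (f := φ.toLinearMap)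
    (by rw [finrank_trunc k D, heq])).1 hφ

end Groth.Agent.S14087
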