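import Groth.Statements.S14088
import Mathlib
-- import your own Groth.Agent.* helpers here

set_option autoImplicit false
universe u
open ArSing

namespace Groth.Agent.S14088

/-- The identity behind the torus-equivariant classes h_i = h_0 + i τ of the coordinate hyperplanes of a
projective space of binary forms, stated in an arbitrary commutative ring: for n ≤ m, (h_0 ⋯
h_(n-1))^2 · h_n ⋯ h_(m-1) equals the sum over s = 0, …, n of (-1)^s s! (n choose s) (m choose s)
τ^s h_0 ⋯ h_(m+n-s-1), where h_i = h + i τ. (The published statement is in the equivariant Chow ring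
of that projective space; only the relations h_i = h_j + (j - i) τ are used, so it holds in any
commutative ring.) -/
theorem result (A : Type u) [CommRing A] (h τ : A) (n m : ℕ) (hnm : n ≤ m) :
    (∏ i ∈ Finset.range n, (h + (i : A) * τ) ^ 2) * ∏ i ∈ Finset.Ico n m, (h + (i : A) * τ) =
      ∑ s ∈ Finset.range (n + 1), (-1 : A) ^ s * (Nat.factorial s : A) * (Nat.choose n s : A) *
        (Nat.choose m s : A) * τ ^ s * ∏ i ∈ Finset.range (m + n - s), (h + (i : A) * τ) := by
  classical
  let P : ℕ → A := fun N ↦ ∏ i ∈ Finset.range N, (h + (i : A) * τ)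
  let c : ℕ → ℕ → A := fun n s ↦ (-1 : A) ^ s * (Nat.factorial s : A) * (Nat.choose n s : A) * (Nat.choose m s : A)
  show _ = ∑ s ∈ Finset.range (n + 1), c n s * τ ^ s * P (m + n - s)
  induction n with
  | zero => simp [c, P]
  | succ n ih =>
    have hl : (∏ i ∈ Finset.range (n + 1), (h + (i : A) * τ) ^ 2) * ∏ i ∈ Finset.Ico (n + 1) m, (h + (i : A) * τ) =
        ((∏ i ∈ Finset.range n, (h + (i : A) * τ) ^ 2) * ∏ i ∈ Finset.Ico n m, (h + (i : A) * τ)) * (h + (n : A) * τ) := by
      rw [Finset.prod_range_succ, Finset.prod_eq_prod_Ico_succ_bot (show n < m by omega)]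
      ring
    rw [hl, ih (by omega), Finset.sum_mul]
    have hstep : ∀ s ∈ Finset.range (n + 1), c n s * τ ^ s * P (m + n - s) * (h + (n : A) * τ) =
        c n s * τ ^ s * P (m + (n + 1) - s) - c n s * ((m - s : ℕ) : A) * τ ^ (s + 1) * P (m + n - s) := by
      intro s hs
      have hs' := Finset.mem_range.mp hs
      have hP : P (m + (n + 1) - s) = P (m + n - s) * (h + ((m + n - s : ℕ) : A) * τ) := by
        rw [show m + (n + 1) - s = (m + n - s) + 1 by omega]
        exact Finset.prod_range_succ _ _
      rw [hP, show (m + n - s : ℕ) = n + (m - s) by omega]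
      push_cast; ring
    rw [Finset.sum_congr rfl hstep, Finset.sum_sub_distrib]
    have hc : ∀ s, c n (s + 1) - c n s * ((m - s : ℕ) : A) = c (n + 1) (s + 1) := fun s ↦ by
      have h2 : ((Nat.choose m s : ℕ) : A) * ((m - s : ℕ) : A) = (Nat.choose m (s + 1) : A) * ((s : A) + 1) := by
        exact_mod_cast congrArg (Nat.cast (R := A)) (Nat.choose_succ_right_eq m s).symm
      simp only [c, Nat.choose_succ_succ, Nat.factorial_succ, pow_succ]
      push_cast
      linear_combination (-((-1 : A) ^ s * (s.factorial : A) * (n.choose s : A))) * h2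
    rw [Finset.sum_range_succ' (fun s ↦ c (n + 1) s * τ ^ s * P (m + (n + 1) - s)) (n + 1)]
    simp only [← hc, sub_mul, Finset.sum_sub_distrib]
    rw [Finset.sum_range_succ (fun s ↦ c n (s + 1) * τ ^ (s + 1) * P (m + (n + 1) - (s + 1))) n,
      Finset.sum_range_succ' (fun s ↦ c n s * τ ^ s * P (m + (n + 1) - s)) n]
    have e0 : c (n + 1) 0 = c n 0 := by simp [c]
    have e1 : c n (n + 1) = 0 := by simp [c]
    simp only [Nat.add_sub_add_right, show ∀ s, m + (n + 1) - (s + 1) = m + n - s from fun s ↦ by omega, e0, e1]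
    ring

end Groth.Agent.S14088
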