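import Groth.Statements.S14089
import Groth.Agent.Lib.BlowUp.FlatBase
import Groth.Agent.Lib.BlowUp.RelCartier
import Groth.Agent.Lib.Nagata6.Proper
import Groth.Agent.Lib.BlowUp.Universal

set_option autoImplicit false
universe u
open CategoryTheory AlgebraicGeometry
open BlowUp

namespace Groth.Agent.S14089

/-- Let f : X → S be flat, proper and of finite presentation, 𝓘 a quasi-coherent ideal of finite type on
X with V(𝓘^m) flat over S for all m ≥ 1, and b : X' → X a blowing up of X in 𝓘. Then X' is flat and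
proper over S, and blowing up commutes with every base change T → S: if X_T = X ×_S T and X'_T = X'
×_X X_T, the projection X'_T → X_T is a blowing up of X_T in the inverse image of 𝓘. (The published
statement puts no finiteness condition on the ideal; for S = X the spectrum of an infinite product
of fields and 𝓘 the ideal of finitely supported sequences every V(𝓘^m) is flat, yet the blow-up is a
non-quasi-compact open subscheme, not proper — so the ideal is taken of finite type here, and finite
presentation of X' over S is not asserted.) -/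
theorem result {X X' S T XT XT' : Scheme.{u}}
    (f : X ⟶ S) [Flat f] [IsProper f] [LocallyOfFinitePresentation f]
    (𝓘 : X.IdealSheafData) (hft : BlowUp.IsFiniteTypeIdeal 𝓘)
    (hfl : ∀ m : ℕ, 1 ≤ m → Flat ((𝓘 ^ m).subschemeι ≫ f))
    (b : X' ⟶ X) (hb : BlowUp.IsBlowUp b 𝓘)
    (g : T ⟶ S) (pX : XT ⟶ X) (fT : XT ⟶ T) (hX : IsPullback pX fT f g)
    (pX' : XT' ⟶ X') (bT : XT' ⟶ XT) (hX' : IsPullback pX' bT b pX) :
    Flat (b ≫ f) ∧ IsProper (b ≫ f) ∧ BlowUp.IsBlowUp bT (𝓘.comap pX) := by
  have hflat : ∀ n : ℕ, Flat ((𝓘 ^ (n + 1)).subschemeι ≫ f) := fun n => hfl _ (Nat.succ_pos n)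
  haveI : Flat ((𝓘.comap b).subschemeι ≫ b ≫ f) := GrothLib.BlowUp.flat_exceptional f 𝓘 hflat b hb
  haveI : IsProper b := GrothLib.Nagata6.isProper_of_isBlowUp hft hb
  refine ⟨?_, inferInstance, ?_, fun Y h hh => ?_⟩
  · refine GrothLib.BlowUp.flat_of_flat_off hb.1 fun x hx => ?_
    set W : X'.Opens := (𝓘.comap b).support.compl
    have hW : Flat (W.ι ≫ b) :=
      GrothLib.BlowUp.flat_ι_comp_of_le hb (Set.disjoint_left.2 fun y hy => hy)
    have hW' : Flat (W.ι ≫ b ≫ f) := by rw [← Category.assoc]; infer_instance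
    let z : W.toScheme := ⟨x, hx⟩
    have := Flat.stalkMap (W.ι ≫ b ≫ f) z
    rw [Scheme.Hom.stalkMap_comp] at this
    erw [CommRingCat.hom_comp] at this
    let e := RingEquiv.ofBijective _ (ConcreteCategory.bijective_of_isIso (W.ι.stalkMap z))
    have h2 := RingHom.Flat.comp this (RingHom.Flat.of_bijective (f := e.symm.toRingHom) e.symm.bijective)
    have he : ((b ≫ f).stalkMap (W.ι z)).hom =
        e.symm.toRingHom.comp ((W.ι.stalkMap z).hom.comp ((b ≫ f).stalkMap (W.ι z)).hom) :=
      RingHom.ext fun r => (e.symm_apply_apply _).symm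
    show ((b ≫ f).stalkMap (W.ι z)).hom.Flat
    rw [he]
    exact h2
  · rw [← Scheme.IdealSheafData.comap_comp, ← hX'.w, Scheme.IdealSheafData.comap_comp]
    exact GrothLib.BlowUp.isEffCartierIdeal_comap_baseChange (hX'.paste_vert hX) hb.1
  · rw [← Scheme.IdealSheafData.comap_comp] at hh
    obtain ⟨k, hk, huniq⟩ := hb.2 Y (h ≫ pX) hh
    refine ⟨hX'.lift k h hk, hX'.lift_snd _ _ _, fun m hm => ?_⟩
    refine hX'.hom_ext ?_ (by rw [hX'.lift_snd]; exact hm)
    rw [hX'.lift_fst]
    refine huniq _ ?_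
    show (m ≫ pX') ≫ b = h ≫ pX
    rw [Category.assoc, hX'.w, ← Category.assoc, hm]

end Groth.Agent.S14089
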