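import Groth.Statements.S1409
import Mathlib
-- import your own Groth.Agent.* helpers here

set_option autoImplicit false
universe u
open FlatMor

namespace Groth.Agent.S1409

/-- Let (R_i) be a directed system of commutative rings whose transition maps are faithfully flat, with
colimit R. Then, counting in the extended natural numbers, the minimal primes of R are exactly as
numerous as the supremum over i of the count of minimal primes of R_i. -/
theorem result {ι : Type u} [Preorder ι] [IsDirected ι (· ≤ ·)] [Nonempty ι] (G : ι → Type u) [∀ i, CommRing (G i)]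
    (f : ∀ i j, i ≤ j → G i →+* G j) [DirectedSystem G fun i j h => f i j h]
    (hf : ∀ i j (h : i ≤ j), letI := (f i j h).toAlgebra
      Module.FaithfullyFlat (G i) (G j)) :
    (minimalPrimes (Ring.DirectLimit G fun i j h => ⇑(f i j h))).encard = ⨆ i, (minimalPrimes (G i)).encard := by
  classical
  let R := Ring.DirectLimit G fun i j h => ⇑(f i j h)
  let of : ∀ i, G i →+* R := fun i => Ring.DirectLimit.of G (fun i j h => ⇑(f i j h)) i
  have hof : ∀ i j (h : i ≤ j) (x : G i), of j (f i j h x) = of i x := fun i j h x => Ring.DirectLimit.of_f h x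
  have crit : ∀ {A : Type u} [CommRing A] (p : Ideal A), p ∈ minimalPrimes A → ∀ x ∈ p,
      ∃ y, y ∉ p ∧ ∃ n : ℕ, y * x ^ n = 0 := by
    intro A _ p hp x hx
    by_contra hne
    push Not at hne
    have := hp.1.1
    let S : Submonoid A :=
      { carrier := {z | ∃ y, y ∉ p ∧ ∃ n : ℕ, z = y * x ^ n}
        one_mem' := ⟨1, fun h => hp.1.1.ne_top ((Ideal.eq_top_iff_one _).2 h), 0, by simp⟩
        mul_mem' := by
          rintro a b ⟨y, hy, n, rfl⟩ ⟨y', hy', n', rfl⟩
          exact ⟨y * y', fun h => (hp.1.1.mem_or_mem h).elim hy hy', n + n', by ring⟩ }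
    obtain ⟨q, hq, -, hqS⟩ := Ideal.exists_le_prime_disjoint (⊥ : Ideal A) S
      (Set.disjoint_left.2 fun z hz hzS => by
        obtain ⟨y, hy, n, rfl⟩ := hzS
        exact hne y hy n hz)
    have hqp : q ≤ p := fun z hz => by
      by_contra hzp
      exact Set.disjoint_left.1 hqS hz ⟨z, hzp, 0, by simp⟩
    exact Set.disjoint_left.1 hqS (hp.2 ⟨hq, bot_le⟩ hqp hx)
      ⟨1, fun h => hp.1.1.ne_top ((Ideal.eq_top_iff_one _).2 h), 1, by simp⟩
  have hA : ∀ i, ∀ q ∈ minimalPrimes R, q.comap (of i) ∈ minimalPrimes (G i) := by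
    intro i q hq
    have := hq.1.1
    refine ⟨⟨Ideal.IsPrime.comap _, bot_le⟩, fun p ⟨hp, _⟩ hle x hx => ?_⟩
    obtain ⟨Y, hY, n, hn⟩ := crit q hq _ hx
    obtain ⟨j₀, y₀, rfl⟩ := Ring.DirectLimit.exists_of Y
    obtain ⟨j, hj₀, hij⟩ := exists_ge_ge j₀ i
    have h0 : of j (f j₀ j hj₀ y₀ * f i j hij (x ^ n)) = 0 := by
      rw [map_mul, hof, hof, map_pow]; exact hn
    obtain ⟨k, hjk, hk⟩ := Ring.DirectLimit.of.zero_exact h0
    letI := (f i k (hij.trans hjk)).toAlgebra
    have : Module.FaithfullyFlat (G i) (G k) := hf i k (hij.trans hjk)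
    have hrel : ∑ s : Fin 1, (fun _ => x ^ n) s • (fun _ => f j k hjk (f j₀ j hj₀ y₀)) s = (0 : G k) := by
      rw [Fin.sum_univ_one, Algebra.smul_def, RingHom.algebraMap_toAlgebra,
        ← DirectedSystem.map_map' (fun a b h => f a b h) hij hjk (x ^ n), ← map_mul, mul_comm]
      exact hk
    obtain ⟨m, a, z, hy, ha⟩ := Module.Flat.isTrivialRelation_of_sum_smul_eq_zero (R := G i) (M := G k) (f := fun _ : Fin 1 => x ^ n) hrel
    have hmem : ∃ t, a 0 t ∉ q.comap (of i) := by
      by_contra hne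
      push Not at hne
      refine hY ?_
      show of j₀ y₀ ∈ q
      rw [← hof j₀ j hj₀, ← hof j k hjk, show f j k hjk (f j₀ j hj₀ y₀) = _ from hy 0, map_sum]
      refine Ideal.sum_mem _ fun t _ => ?_
      rw [Algebra.smul_def, RingHom.algebraMap_toAlgebra, map_mul, hof]
      exact q.mul_mem_right _ (hne t)
    obtain ⟨t, ht⟩ := hmem
    have h2 : x ^ n * a 0 t = 0 := by simpa using ha t
    exact hp.mem_of_pow_mem n ((hp.mem_or_mem (h2 ▸ p.zero_mem)).resolve_right fun h => ht (hle h))
  have hB : ∀ i, ∀ p ∈ minimalPrimes (G i), ∃ q ∈ minimalPrimes R, q.comap (of i) = p := by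
    intro i p hp
    have := hp.1.1
    obtain ⟨Q, hQ, -, hQd⟩ := Ideal.exists_le_prime_disjoint (⊥ : Ideal R) (p.primeCompl.map (of i))
      (Set.disjoint_left.2 fun z hz hzS => by
        obtain ⟨s, hs, rfl⟩ := hzS
        obtain ⟨k, hk, hk0⟩ := Ring.DirectLimit.of.zero_exact (show of i s = 0 from hz)
        letI := (f i k hk).toAlgebra
        have : Module.FaithfullyFlat (G i) (G k) := hf i k hk
        have hinj : Function.Injective (algebraMap (G i) (G k)) := FaithfulSMul.algebraMap_injective _ _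
        exact hs ((hinj (hk0.trans (map_zero _).symm)) ▸ p.zero_mem))
    have hle : Q.comap (of i) ≤ p := fun z hz => by
      by_contra hzp
      exact Set.disjoint_left.1 hQd hz ⟨z, hzp, rfl⟩
    obtain ⟨q, hq, hqQ⟩ := Ideal.exists_minimalPrimes_le (I := ⊥) (J := Q) bot_le
    have := hq.1.1
    exact ⟨q, hq, le_antisymm ((Ideal.comap_mono hqQ).trans hle)
      (hp.2 ⟨Ideal.IsPrime.comap _, bot_le⟩ ((Ideal.comap_mono hqQ).trans hle))⟩
  refine le_antisymm ?_ (iSup_le fun i => ?_)
  · by_contra hlt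
    obtain ⟨N, hN⟩ := ENat.ne_top_iff_exists.1 (ne_top_of_lt (lt_of_not_ge hlt))
    rw [← hN] at hlt
    have hN1 : ((N + 1 : ℕ) : ℕ∞) ≤ (minimalPrimes R).encard := by
      have := Order.add_one_le_of_lt (lt_of_not_ge hlt)
      simpa using this
    obtain ⟨T, hT, hTc⟩ := Set.exists_subset_encard_eq hN1
    have hTf : T.Finite := Set.finite_of_encard_eq_coe hTc
    have hsep : ∀ a : Ideal R × Ideal R, ∃ i, a.1 ≠ a.2 → a.1.comap (of i) ≠ a.2.comap (of i) := by
      intro a
      by_cases h : a.1 = a.2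
      · exact ⟨Classical.arbitrary ι, fun h' => absurd h h'⟩
      · obtain ⟨z, hz⟩ := not_forall.1 (mt Ideal.ext h)
        obtain ⟨i, y, rfl⟩ := Ring.DirectLimit.exists_of z
        exact ⟨i, fun _ heq => hz (Ideal.ext_iff.1 heq y)⟩
    choose idx hidx using hsep
    obtain ⟨k, hk⟩ := Finset.exists_le ((hTf.toFinset ×ˢ hTf.toFinset).image idx)
    have hinj : Set.InjOn (fun q : Ideal R => q.comap (of k)) T := by
      intro a ha b hb hab
      by_contra hne
      refine hidx (a, b) hne (Ideal.ext fun y => ?_)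
      have h := Ideal.ext_iff.1 hab (f (idx (a, b)) k (hk _ (Finset.mem_image_of_mem idx
        (Finset.mk_mem_product (hTf.mem_toFinset.2 ha) (hTf.mem_toFinset.2 hb)))) y)
      simp only [Ideal.mem_comap, hof] at h
      exact h
    have h1 : T.encard ≤ (minimalPrimes (G k)).encard :=
      (hinj.encard_image).symm.le.trans (Set.encard_le_encard (Set.image_subset_iff.2 fun q hq => hA k q (hT hq)))
    have h2 : ((N + 1 : ℕ) : ℕ∞) ≤ (N : ℕ∞) :=
      hTc ▸ h1.trans (hN ▸ le_iSup (fun i => (minimalPrimes (G i)).encard) k)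
    exact absurd (Nat.cast_le.1 h2) (by omega)
  · refine le_trans (Set.encard_le_encard fun p hp => ?_) (Set.encard_image_le (fun q : Ideal R => q.comap (of i)) (minimalPrimes R))
    obtain ⟨q, hq, hqp⟩ := hB i p hp
    exact ⟨q, hq, hqp⟩

end Groth.Agent.S1409
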