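import Groth.Statements.S14090
import Groth.Agent.Lib.BlowUp.Affine

set_option autoImplicit false
universe u
open CategoryTheory AlgebraicGeometry
open BlowUp

namespace Groth.Agent.S14090

/-- Let A → B be an injective ring homomorphism and I an ideal of A such that the ideal I·B of B is
contained in the image of I (so I is an ideal of B as well) and I·B is generated by one
nonzerodivisor of B (I is free of rank one over B). Then Spec B → Spec A is a blowing up of Spec A
in I. (This is the affine statement behind recovering a pair (X̃, D̃), D̃ an effective Cartier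
divisor finite flat over D, as the blow-up of the pushout X̃ ⨿_D̃ D along D.) -/
theorem result (A B : Type u) [CommRing A] [CommRing B] [Algebra A B]
    (hinj : Function.Injective (algebraMap A B)) (I : Ideal A)
    (hIB : (Ideal.map (algebraMap A B) I : Set B) ⊆ algebraMap A B '' (I : Set A))
    (f : B) (hf : f ∈ nonZeroDivisors B) (hgen : Ideal.map (algebraMap A B) I = Ideal.span {f}) :
    BlowUp.IsBlowUp (Spec.map (CommRingCat.ofHom (algebraMap A B))) (Curv2.idealSheaf A I) := by
  obtain ⟨a₀, ha₀, hfa⟩ : f ∈ algebraMap A B '' (I : Set A) :=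
    hIB (by rw [hgen]; exact Ideal.mem_span_singleton_self f)
  have hsq : ∀ x ∈ I, ∀ y ∈ I, ∃ z ∈ I, x * y = a₀ * z := by
    intro x hx y hy
    obtain ⟨c, hc⟩ := Ideal.mem_span_singleton.mp (hgen.le (Ideal.mem_map_of_mem (algebraMap A B) hy))
    obtain ⟨z, hz, hzz⟩ := hIB (show algebraMap A B x * c ∈ Ideal.map (algebraMap A B) I from
      Ideal.mul_mem_right _ _ (Ideal.mem_map_of_mem _ hx))
    exact ⟨z, hz, hinj (by rw [map_mul, map_mul, hzz, hfa, hc]; ring)⟩
  have hb : ∀ b : B, ∃ x : A, x ∈ I ∧ algebraMap A B x = f * b := fun b => by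
    obtain ⟨x, hx, hxe⟩ := hIB (show f * b ∈ Ideal.map (algebraMap A B) I by
      rw [hgen]; exact Ideal.mem_span_singleton.mpr ⟨b, rfl⟩)
    exact ⟨x, hx, hxe⟩
  choose β hβI hβ using hb
  have hgen₀ : ∀ {C : Type u} [CommRing C] (φ : A →+* C) (a : I), GrothLib.BlowUp.IsGen φ a →
      φ a₀ ∈ nonZeroDivisors C ∧ I.map φ = Ideal.span {φ a₀} := by
    intro C _ φ a ha
    obtain ⟨z, hz, hzz⟩ := hsq _ a.2 _ a.2
    obtain ⟨c, hc⟩ := Ideal.mem_span_singleton.mp (ha.2.le (Ideal.mem_map_of_mem φ hz))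
    have e : φ a = φ a₀ * c := by
      refine (mul_cancel_right_mem_nonZeroDivisors ha.1).mp ?_
      rw [← map_mul, hzz, map_mul, hc]; ring
    have h1 := ha.1
    rw [e] at h1
    refine ⟨(mul_mem_nonZeroDivisors.mp h1).1, le_antisymm ?_
      ((Ideal.span_singleton_le_iff_mem _).mpr (Ideal.mem_map_of_mem φ ha₀))⟩
    rw [ha.2, Ideal.span_singleton_le_span_singleton]
    exact ⟨c, e⟩
  have hex : ∀ {C : Type u} [CommRing C] (φ : A →+* C) (a : I), GrothLib.BlowUp.IsGen φ a →
      ∃ ψ : B →+* C, ψ.comp (algebraMap A B) = φ := by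
    intro C _ φ a ha
    obtain ⟨hn, he⟩ := hgen₀ φ a ha
    have hd : ∀ b, ∃ c, φ (β b) = φ a₀ * c := fun b =>
      Ideal.mem_span_singleton.mp (he.le (Ideal.mem_map_of_mem φ (hβI b)))
    choose χ hχ using hd
    have key : ∀ (b : B) (x : A) (c : C), algebraMap A B x = f * b → φ x = φ a₀ * c → χ b = c := by
      intro b x c h1 h2
      have : x = β b := hinj (h1.trans (hβ b).symm)
      exact (mul_cancel_left_mem_nonZeroDivisors hn).mp ((hχ b).symm.trans (this ▸ h2))
    have hA : ∀ r : A, χ (algebraMap A B r) = φ r := fun r =>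
      key _ (a₀ * r) _ (by rw [map_mul, hfa]) (map_mul φ _ _)
    refine ⟨{ toFun := χ, map_one' := ?_, map_mul' := ?_, map_zero' := ?_, map_add' := ?_ },
      RingHom.ext hA⟩
    · simpa using hA 1
    · intro b₁ b₂
      refine (mul_cancel_left_mem_nonZeroDivisors hn).mp ((mul_cancel_left_mem_nonZeroDivisors hn).mp ?_)
      have hxy : β b₁ * β b₂ = a₀ * β (b₁ * b₂) := hinj (by
        rw [map_mul, map_mul, hβ, hβ, hβ, hfa]; ring)
      have h2 := congrArg φ hxy
      rw [map_mul, map_mul, hχ, hχ, hχ] at h2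
      rw [← h2]; ring
    · simpa using hA 0
    · intro b₁ b₂
      exact key _ (β b₁ + β b₂) _ (by rw [map_add, hβ, hβ]; ring) (by rw [map_add, hχ, hχ]; ring)
  have huniq' : ∀ {C : Type u} [CommRing C] (φ : A →+* C) (a : I), GrothLib.BlowUp.IsGen φ a →
      ∀ h h' : Spec (CommRingCat.of C) ⟶ Spec (CommRingCat.of B),
        h ≫ Spec.map (CommRingCat.ofHom (algebraMap A B)) = Spec.map (CommRingCat.ofHom φ) →
        h' ≫ Spec.map (CommRingCat.ofHom (algebraMap A B)) = Spec.map (CommRingCat.ofHom φ) → h = h' := by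
    intro C _ φ a ha h h' hh hh'
    have ev : ∀ (k : Spec (CommRingCat.of C) ⟶ Spec (CommRingCat.of B)),
        k ≫ Spec.map (CommRingCat.ofHom (algebraMap A B)) = Spec.map (CommRingCat.ofHom φ) →
        ∀ b, φ a₀ * (Spec.preimage k).hom b = φ (β b) := by
      intro k hk b
      have h1 : CommRingCat.ofHom (algebraMap A B) ≫ Spec.preimage k = CommRingCat.ofHom φ :=
        Spec.map_injective (by rw [Spec.map_comp, Spec.map_preimage, hk])
      have h2 : ∀ r, (Spec.preimage k).hom (algebraMap A B r) = φ r := fun r =>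
        congrArg (fun m : CommRingCat.of A ⟶ CommRingCat.of C => m.hom r) h1
      rw [← h2, ← h2, ← map_mul, hfa, hβ]
    rw [← Spec.map_preimage h, ← Spec.map_preimage h']
    refine congrArg Spec.map (CommRingCat.hom_ext (RingHom.ext fun b => ?_))
    exact (mul_cancel_left_mem_nonZeroDivisors (hgen₀ φ a ha).1).mp
      ((ev h hh b).trans (ev h' hh' b).symm)
  have hI : Curv2.idealSheaf A I = GrothLib.BlowUp.idealSheaf I := rfl
  rw [hI]
  refine ⟨?_, fun T g hg => ?_⟩
  · rw [GrothLib.BlowUp.comap_idealSheaf, hgen]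
    exact GrothLib.BlowUp.isEffCartierIdeal_span_singleton hf
  choose V φ a hxV hV ha using GrothLib.BlowUp.exists_isGen_near g hg
  choose ψ hψ using fun x => hex (φ x) (a x) (ha x)
  have huniq : ∀ {T' : Scheme.{u}} (g' : T' ⟶ Spec (CommRingCat.of A)),
      BlowUp.IsEffCartierIdeal ((GrothLib.BlowUp.idealSheaf I).comap g') →
      ∀ h h' : T' ⟶ Spec (CommRingCat.of B),
        h ≫ Spec.map (CommRingCat.ofHom (algebraMap A B)) = g' →
        h' ≫ Spec.map (CommRingCat.ofHom (algebraMap A B)) = g' → h = h' := by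
    intro T' g' hg' h h' hh hh'
    choose V' φ' a' hxV' hV' ha' using GrothLib.BlowUp.exists_isGen_near g' hg'
    refine Scheme.Cover.hom_ext (Scheme.openCoverOfIsOpenCover T' (fun x => (V' x).1)
      (top_unique fun x _ => TopologicalSpace.Opens.mem_iSup.mpr ⟨x, hxV' x⟩)) _ _ fun x => ?_
    show (V' x).1.ι ≫ h = (V' x).1.ι ≫ h'
    rw [← cancel_epi (V' x).2.isoSpec.inv, IsAffineOpen.isoSpec_inv_ι_assoc,
      IsAffineOpen.isoSpec_inv_ι_assoc]
    exact huniq' (φ' x) (a' x) (ha' x) _ _ (by rw [Category.assoc, hh, hV'])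
      (by rw [Category.assoc, hh', hV'])
  let 𝒰 : T.OpenCover := Scheme.openCoverOfIsOpenCover T (fun x => (V x).1)
    (top_unique fun x _ => TopologicalSpace.Opens.mem_iSup.mpr ⟨x, hxV x⟩)
  let k : ∀ x : T, (V x).1.toScheme ⟶ Spec (CommRingCat.of B) := fun x =>
    (V x).2.isoSpec.hom ≫ Spec.map (CommRingCat.ofHom (ψ x))
  have hk : ∀ x, k x ≫ Spec.map (CommRingCat.ofHom (algebraMap A B)) = (V x).1.ι ≫ g := fun x => by
    rw [Category.assoc, ← Spec.map_comp, ← CommRingCat.ofHom_comp, hψ, ← hV, ← Category.assoc,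
      IsAffineOpen.isoSpec_hom_fromSpec]
  have compat : ∀ x y : T, Limits.pullback.fst (V x).1.ι (V y).1.ι ≫ k x =
      Limits.pullback.snd (V x).1.ι (V y).1.ι ≫ k y := by
    intro x y
    refine huniq ((Limits.pullback.fst (V x).1.ι (V y).1.ι ≫ (V x).1.ι) ≫ g) ?_ _ _ ?_ ?_
    · rw [Scheme.IdealSheafData.comap_comp]
      exact GrothLib.BlowUp.isEffCartierIdeal_comap_of_flat _ hg
    · simp only [Category.assoc, hk]
    · simp only [Category.assoc, hk, Limits.pullback.condition_assoc]
  have hglue : 𝒰.glueMorphisms k compat ≫ Spec.map (CommRingCat.ofHom (algebraMap A B)) = g := by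
    refine 𝒰.hom_ext _ _ fun x => ?_
    rw [Scheme.Cover.ι_glueMorphisms_assoc]
    exact hk x
  exact ⟨𝒰.glueMorphisms k compat, hglue, fun k' hk' => huniq g hg _ _ hk' hglue⟩

end Groth.Agent.S14090
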