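import Groth.Statements.S14091
import Mathlib

set_option autoImplicit false
universe u
open ArSing

namespace Groth.Agent.S14091

open Polynomial in
/-- Over an algebraically closed field k, a finite local k-algebra B whose cotangent space m/m^2 has
dimension at most one over the residue field is isomorphic, as a k-algebra, to k[t]/(t^n) with n =
dim_k B (curvilinear pointed algebras of degree n have a single isomorphism class). -/
theorem result (k B : Type u) [Field k] [IsAlgClosed k]
    [CommRing B] [IsLocalRing B] [Algebra k B] [Module.Finite k B]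
    (hcurv : Module.finrank (IsLocalRing.ResidueField B) (IsLocalRing.CotangentSpace B) ≤ 1) :
    Nonempty (B ≃ₐ[k] (Polynomial k ⧸ Ideal.span {(X : Polynomial k) ^ Module.finrank k B})) := by
  classical
  haveI : IsArtinianRing B := IsArtinianRing.of_finite k B
  obtain ⟨t, ht⟩ := ((IsLocalRing.finrank_cotangentSpace_le_one_iff (R := B)).1 hcurv).principal
  rw [Ideal.submodule_span_eq] at ht
  have hres : Function.Bijective (algebraMap k (IsLocalRing.ResidueField B)) := by
    haveI : Module.Finite k (IsLocalRing.ResidueField B) :=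
      Module.Finite.of_surjective (IsScalarTower.toAlgHom k B (IsLocalRing.ResidueField B)).toLinearMap
        IsLocalRing.residue_surjective
    haveI : Algebra.IsIntegral k (IsLocalRing.ResidueField B) := Algebra.IsIntegral.of_finite k _
    exact IsAlgClosed.algebraMap_bijective_of_isIntegral
  let φ : Polynomial k →ₐ[k] B := Polynomial.aeval t
  have hstep : ∀ (j : ℕ) (b : B), ∃ (p : Polynomial k) (c : B), b = φ p + t ^ j * c := by
    intro j
    induction j with
    | zero => exact fun b => ⟨0, b, by simp⟩
    | succ j ih =>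
      intro b
      obtain ⟨p, c, rfl⟩ := ih b
      obtain ⟨a, ha⟩ := hres.2 (IsLocalRing.residue B c)
      have hm : c - algebraMap k B a ∈ IsLocalRing.maximalIdeal B := by
        rw [← IsLocalRing.residue_eq_zero_iff, map_sub, ← ha]
        exact sub_self _
      rw [ht, Ideal.mem_span_singleton'] at hm
      obtain ⟨d, hd⟩ := hm
      exact ⟨p + Polynomial.C a * Polynomial.X ^ j, d, by
        simp only [φ, map_add, map_mul, map_pow, Polynomial.aeval_C, Polynomial.aeval_X]
        linear_combination (-(t ^ j)) * hd⟩
  obtain ⟨N, hN⟩ : IsNilpotent t := by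
    obtain ⟨N, hN⟩ := IsArtinianRing.isNilpotent_jacobson_bot (R := B)
    refine ⟨N, ?_⟩
    have htm : t ∈ (⊥ : Ideal B).jacobson := by
      rw [IsLocalRing.jacobson_eq_maximalIdeal ⊥ bot_ne_top, ht]
      exact Ideal.mem_span_singleton_self t
    have h2 := Ideal.pow_mem_pow htm N
    rwa [hN] at h2
  have hsurj : Function.Surjective φ := fun b => by
    obtain ⟨p, c, rfl⟩ := hstep N b
    exact ⟨p, by simp [hN]⟩
  obtain ⟨p, hp⟩ := (IsPrincipalIdealRing.principal (RingHom.ker φ)).principal
  rw [Ideal.submodule_span_eq] at hp
  have hX : (Polynomial.X : Polynomial k) ^ N ∈ RingHom.ker φ :=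
    RingHom.mem_ker.2 (by rw [map_pow, Polynomial.aeval_X, hN])
  rw [hp, Ideal.mem_span_singleton] at hX
  obtain ⟨j, -, hassoc⟩ := (dvd_prime_pow Polynomial.prime_X N).1 hX
  have hker : RingHom.ker φ = Ideal.span {(Polynomial.X : Polynomial k) ^ j} := by
    rw [hp, Ideal.span_singleton_eq_span_singleton]
    exact hassoc
  have e : (Polynomial k ⧸ Ideal.span {(Polynomial.X : Polynomial k) ^ j}) ≃ₐ[k] B :=
    (Ideal.quotientEquivAlgOfEq k hker.symm).trans (Ideal.quotientKerAlgEquivOfSurjective hsurj)
  have hj : Module.finrank k B = j := by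
    rw [← e.toLinearEquiv.finrank_eq, finrank_quotient_span_eq_natDegree]
    simp
  rw [hj]
  exact ⟨e.symm⟩

end Groth.Agent.S14091
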