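import Groth.Statements.S14093
import Mathlib
import Groth.Agent.Ar2.Fixed

set_option autoImplicit false
universe u
open ArSing

namespace Groth.Agent.S14093

open Groth.Agent.Ar2


/-- For an algebraically closed field k of characteristic prime to 2 and to r+1 and the involution σ of
A_r = k[[x,y]]/(y^2 - x^(r+1)) with σ(x) = x, σ(y) = -y: the invariant subalgebra is k[[x]] (the
image of t ↦ x from k[[t]]), the inclusion k[[x]] → A_r is faithfully flat (flat, and the maximal
ideal of k[[t]] does not generate the unit ideal of A_r), and the fixed locus (the closed subscheme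
cut out by all σ(a) - a) is a Cartier divisor of length r + 1, i.e. its ideal is generated by one
nonzerodivisor and the quotient has length r + 1. -/
theorem result (k : Type u) [Field k] [IsAlgClosed k] (r : ℕ)
    (h2 : (2 : k) ≠ 0) (hr : ((r + 1 : ℕ) : k) ≠ 0)
    (σ : ArSing.ring k r ≃ₐ[k] ArSing.ring k r) (hx : σ (ArSing.x k r) = ArSing.x k r)
    (hy : σ (ArSing.y k r) = -ArSing.y k r) :
    (∀ a : ArSing.ring k r, σ a = a ↔ a ∈ (ArSing.xMap k r).range) ∧
    ((ArSing.xMap k r).toRingHom.Flat ∧
      Ideal.map (ArSing.xMap k r) (IsLocalRing.maximalIdeal (PowerSeries k)) ≠ ⊤) ∧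
    (∃ g : ArSing.ring k r, g ∈ nonZeroDivisors (ArSing.ring k r) ∧
      Ideal.span (Set.range fun a : ArSing.ring k r => σ a - a) = Ideal.span {g}) ∧
    Module.length (ArSing.ring k r)
      (ArSing.ring k r ⧸ Ideal.span (Set.range fun a : ArSing.ring k r => σ a - a)) = r + 1 := by
  obtain ⟨hfix, hspan⟩ := neg_y_fixed h2 σ hx hy
  refine ⟨hfix, ⟨?_, ?_⟩, ⟨ArSing.y k r, y_mem_nonZeroDivisors, hspan⟩, ?_⟩
  · refine flat_of_basis _ (ArSing.y k r) ⟨fun p q h => ?_, fun a => ⟨(fst a, snd a), repr_eq a⟩⟩
    have h1 := congrArg fst h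
    have h2' := congrArg snd h
    simp at h1 h2'
    exact Prod.ext h1 h2'
  · intro htop
    have h1 : Ideal.map (ArSing.xMap k r) (IsLocalRing.maximalIdeal (PowerSeries k)) ≤
        IsLocalRing.maximalIdeal (ArSing.ring k r) := by
      rw [Ideal.map_le_iff_le_comap, PowerSeries.maximalIdeal_eq_span_X,
        Ideal.span_singleton_le_iff_mem, Ideal.mem_comap, xMap_X]
      exact x_mem_max
    rw [htop, top_le_iff] at h1
    exact (IsLocalRing.maximalIdeal.isMaximal _).ne_top h1
  · rw [hspan]
    exact ord_y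

end Groth.Agent.S14093
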