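import Groth.Statements.S14094
import Mathlib
import Groth.Agent.Ar2.Fixed

set_option autoImplicit false
universe u
open ArSing

namespace Groth.Agent.S14094

open Groth.Agent.Ar2


/-- K algebraically closed of characteristic prime to 2 and to r+1, r = 2m - 1 with m ≥ 2, σ the
involution x ↦ -x, y ↦ y of A_r = k[[x,y]]/(y^2 - x^(r+1)), and φ : A_(m-1) → A_r the k-algebra map
x ↦ x^2, y ↦ y. Then the invariant subalgebra of σ is the image of φ (so A_r^σ ≅ A_(m-1)), φ is
faithfully flat (flat, and the maximal ideal of A_(m-1) does not generate the unit ideal), and the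
fixed locus of σ is a Cartier divisor of length 2: its ideal, generated by the elements σ(a) - a, is
generated by one nonzerodivisor and has quotient of length 2. -/
theorem result (k : Type u) [Field k] [IsAlgClosed k] (m r : ℕ)
    (hm : 2 ≤ m) (hr : r = 2 * m - 1) (h2 : (2 : k) ≠ 0) (hr1 : ((r + 1 : ℕ) : k) ≠ 0)
    (σ : ArSing.ring k r ≃ₐ[k] ArSing.ring k r) (hx : σ (ArSing.x k r) = -ArSing.x k r)
    (hy : σ (ArSing.y k r) = ArSing.y k r)
    (φ : ArSing.ring k (m - 1) →ₐ[k] ArSing.ring k r) (hφx : φ (ArSing.x k (m - 1)) = ArSing.x k r ^ 2)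
    (hφy : φ (ArSing.y k (m - 1)) = ArSing.y k r) :
    (∀ a : ArSing.ring k r, σ a = a ↔ a ∈ φ.range) ∧
    (φ.toRingHom.Flat ∧ ∀ I : Ideal (ArSing.ring k (m - 1)), I.IsMaximal → Ideal.map φ I ≠ ⊤) ∧
    (∃ g : ArSing.ring k r, g ∈ nonZeroDivisors (ArSing.ring k r) ∧ Ideal.span (Set.range fun a : ArSing.ring k r => σ a - a) = Ideal.span {g}) ∧
    Module.length (ArSing.ring k r) (ArSing.ring k r ⧸ Ideal.span (Set.range fun a : ArSing.ring k r => σ a - a)) = 2 := by
  have hc : ∀ z, fst (σ z) = PowerSeries.rescale (-1 : k) (fst z) ∧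
      snd (σ z) = PowerSeries.rescale (-1 : k) (snd z) := fun z => by
    simpa using apply_eq σ.toAlgHom (a := -1) (b := 1)
      (hx.trans (neg_one_smul k (ArSing.x k r)).symm) (hy.trans (one_smul k _).symm) z
  have hφ : ∀ f, φ (ArSing.xMap k (m - 1) f) = ArSing.xMap k r (sqv f) := fun f =>
    DFunLike.congr_fun (psHom_ext (F := φ.comp (ArSing.xMap k (m - 1)))
      (G := (ArSing.xMap k r).comp sqv) (by simp [xMap_X, hφx, sqv_X])) f
  have hφz : ∀ z, φ z = ArSing.xMap k r (sqv (fst z)) + ArSing.y k r * ArSing.xMap k r (sqv (snd z)) :=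
    fun z => by conv_lhs => rw [← repr_eq z, map_add, map_mul, hφy, hφ, hφ]
  have hI : Ideal.span (Set.range fun a => σ a - a) = Ideal.span {ArSing.x k r} := by
    refine le_antisymm ?_ ?_
    · rw [Ideal.span_le]
      rintro _ ⟨a, rfl⟩
      change σ a - a ∈ Ideal.span {ArSing.x k r}
      rw [mem_span_x_iff]
      simp only [fst_sub, snd_sub, (hc a).1, (hc a).2, PowerSeries.X_dvd_iff, map_sub,
        ← PowerSeries.coeff_zero_eq_constantCoeff_apply, PowerSeries.coeff_rescale, pow_zero,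
        one_mul, sub_self, and_self]
    · rw [Ideal.span_singleton_le_iff_mem]
      have := Ideal.mul_mem_left (Ideal.span (Set.range fun a => σ a - a))
        (algebraMap k _ (-2⁻¹)) (Ideal.subset_span ⟨ArSing.x k r, rfl⟩)
      have e : algebraMap k (ArSing.ring k r) (2⁻¹) + algebraMap k _ (2⁻¹) = 1 := by
        rw [← map_add, show (2⁻¹ + 2⁻¹ : k) = 1 by field_simp; norm_num, map_one]
      convert this using 1
      simp only [hx, map_neg]
      linear_combination -(ArSing.x k r) * e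
  refine ⟨fun a => ⟨fun h => ?_, ?_⟩, ⟨?_, ?_⟩, ⟨ArSing.x k r, x_mem_nonZeroDivisors, hI⟩, ?_⟩
  · obtain ⟨g₁, hg₁⟩ := (rescale_eq_self_iff h2 _).1 ((hc a).1.symm.trans (by rw [h]))
    obtain ⟨g₂, hg₂⟩ := (rescale_eq_self_iff h2 _).1 ((hc a).2.symm.trans (by rw [h]))
    exact ⟨ArSing.xMap k _ g₁ + ArSing.y k _ * ArSing.xMap k _ g₂, by
      simp only [AlgHom.toRingHom_eq_coe, RingHom.coe_coe]
      rw [hφz]; simp [← hg₁, ← hg₂, repr_eq]⟩
  · rintro ⟨z, rfl⟩
    refine comps_ext ?_ ?_
    · rw [(hc _).1]; simp [hφz, rescale_sqv]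
    · rw [(hc _).2]; simp [hφz, rescale_sqv]
  · refine flat_of_basis _ (ArSing.x k r) ⟨fun p q h => ?_, fun a => ?_⟩
    · have key : ∀ a b a' b' : PowerSeries k, sqv a + PowerSeries.X * sqv b =
          sqv a' + PowerSeries.X * sqv b' → a = a' ∧ b = b' := by
        intro a b a' b' h
        have h' := congrArg (PowerSeries.rescale (-1 : k)) h
        simp only [map_add, map_mul, rescale_sqv, rescale_X_neg] at h'
        have h2' : (2 : PowerSeries k) ≠ 0 := fun e =>
          h2 (by simpa [map_ofNat] using congrArg PowerSeries.constantCoeff e)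
        exact ⟨sqv_injective (mul_left_cancel₀ h2' (by linear_combination h + h')),
          sqv_injective (mul_left_cancel₀ (mul_ne_zero h2' PowerSeries.X_ne_zero)
            (by linear_combination h - h'))⟩
      have h1 := congrArg fst h
      have h2' := congrArg snd h
      simp [hφz] at h1 h2'
      obtain ⟨e1, e2⟩ := key _ _ _ _ h1
      obtain ⟨e3, e4⟩ := key _ _ _ _ h2'
      exact Prod.ext (comps_ext e1 e3) (comps_ext e2 e4)
    · obtain ⟨a₀, a₁, ha⟩ := sqv_split (fst a)
      obtain ⟨b₀, b₁, hb⟩ := sqv_split (snd a)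
      refine ⟨(ArSing.xMap k _ a₀ + ArSing.y k _ * ArSing.xMap k _ b₀,
        ArSing.xMap k _ a₁ + ArSing.y k _ * ArSing.xMap k _ b₁), comps_ext ?_ ?_⟩
      · simp [hφz, ha]
      · simp [hφz, hb]
  · intro I hI' htop
    have h1 : Ideal.map φ I ≤ IsLocalRing.maximalIdeal (ArSing.ring k r) := by
      rw [IsLocalRing.eq_maximalIdeal hI']
      refine map_max_le φ _ ?_ ?_
      · rw [hφx]; exact Ideal.pow_mem_of_mem _ x_mem_max 2 two_pos
      · rw [hφy]; exact y_mem_max
    rw [htop, top_le_iff] at h1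
    exact (IsLocalRing.maximalIdeal.isMaximal _).ne_top h1
  · rw [hI]
    exact ord_x

end Groth.Agent.S14094
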