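import Groth.Statements.S14095
import Mathlib
import Groth.Agent.Ar2.Fixed

set_option autoImplicit false
universe u
open ArSing

namespace Groth.Agent.S14095

open Groth.Agent.Ar2


/-- K algebraically closed of characteristic prime to 2 and to r+1, r = 2m - 1 with m ≥ 1, σ the
involution x ↦ -x, y ↦ -y of A_r = k[[x,y]]/(y^2 - x^(r+1)), and φ : A_m → A_r the k-algebra map x ↦
x^2, y ↦ xy. Then the invariant subalgebra of σ is the image of φ and φ is injective (so A_r^σ ≅
A_m), φ is not flat, and the fixed locus of σ is the reduced closed point and is not a Cartier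
divisor: the ideal generated by the elements σ(a) - a has quotient of length 1 and is not generated
by one nonzerodivisor. -/
theorem result (k : Type u) [Field k] [IsAlgClosed k] (m r : ℕ)
    (hm : 1 ≤ m) (hr : r = 2 * m - 1) (h2 : (2 : k) ≠ 0) (hr1 : ((r + 1 : ℕ) : k) ≠ 0)
    (σ : ArSing.ring k r ≃ₐ[k] ArSing.ring k r) (hx : σ (ArSing.x k r) = -ArSing.x k r)
    (hy : σ (ArSing.y k r) = -ArSing.y k r)
    (φ : ArSing.ring k m →ₐ[k] ArSing.ring k r) (hφx : φ (ArSing.x k m) = ArSing.x k r ^ 2)
    (hφy : φ (ArSing.y k m) = ArSing.x k r * ArSing.y k r) :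
    (∀ a : ArSing.ring k r, σ a = a ↔ a ∈ φ.range) ∧ Function.Injective φ ∧
    ¬ φ.toRingHom.Flat ∧
    Module.length (ArSing.ring k r) (ArSing.ring k r ⧸ Ideal.span (Set.range fun a : ArSing.ring k r => σ a - a)) = 1 ∧
    ¬ (∃ g : ArSing.ring k r, g ∈ nonZeroDivisors (ArSing.ring k r) ∧ Ideal.span (Set.range fun a : ArSing.ring k r => σ a - a) = Ideal.span {g}) := by
  have hr1 : 1 ≤ r := by omega
  have hc : ∀ z, fst (σ z) = PowerSeries.rescale (-1 : k) (fst z) ∧
      snd (σ z) = -PowerSeries.rescale (-1 : k) (snd z) := fun z => by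
    simpa using apply_eq σ.toAlgHom (a := -1) (b := -1)
      (hx.trans (neg_one_smul k (ArSing.x k r)).symm) (hy.trans (neg_one_smul k (ArSing.y k r)).symm) z
  have hφ : ∀ f, φ (ArSing.xMap k m f) = ArSing.xMap k r (sqv f) := fun f =>
    DFunLike.congr_fun (psHom_ext (F := φ.comp (ArSing.xMap k m))
      (G := (ArSing.xMap k r).comp sqv) (by simp [xMap_X, hφx, sqv_X])) f
  have hφz : ∀ z, φ z = ArSing.xMap k r (sqv (fst z)) +
      ArSing.y k r * ArSing.xMap k r (PowerSeries.X * sqv (snd z)) :=
    fun z => by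
      conv_lhs => rw [← repr_eq z, map_add, map_mul, hφy, hφ, hφ]
      rw [map_mul (ArSing.xMap k r) PowerSeries.X, xMap_X]
      ring
  have hI : Ideal.span (Set.range fun a => σ a - a) = IsLocalRing.maximalIdeal (ArSing.ring k r) := by
    have e : algebraMap k (ArSing.ring k r) (2⁻¹) + algebraMap k _ (2⁻¹) = 1 := by
      rw [← map_add, show (2⁻¹ + 2⁻¹ : k) = 1 by field_simp; norm_num, map_one]
    refine le_antisymm ?_ ?_
    · rw [Ideal.span_le]
      rintro _ ⟨a, rfl⟩
      refine mem_max_iff.2 ?_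
      simp only [fst_sub, (hc a).1, map_sub, ← PowerSeries.coeff_zero_eq_constantCoeff_apply,
        PowerSeries.coeff_rescale, pow_zero, one_mul, sub_self]
    · rw [max_eq_span, Ideal.span_le]
      refine Set.pair_subset ?_ ?_
      · have := Ideal.mul_mem_left (Ideal.span (Set.range fun a => σ a - a))
          (algebraMap k _ (-2⁻¹)) (Ideal.subset_span ⟨ArSing.x k r, rfl⟩)
        rw [SetLike.mem_coe]
        convert this using 1
        simp only [hx, map_neg]
        linear_combination -(ArSing.x k r) * e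
      · have := Ideal.mul_mem_left (Ideal.span (Set.range fun a => σ a - a))
          (algebraMap k _ (-2⁻¹)) (Ideal.subset_span ⟨ArSing.y k r, rfl⟩)
        rw [SetLike.mem_coe]
        convert this using 1
        simp only [hy, map_neg]
        linear_combination -(ArSing.y k r) * e
  refine ⟨fun a => ⟨fun h => ?_, ?_⟩, ?_, ?_, ?_, ?_⟩
  · obtain ⟨g₁, hg₁⟩ := (rescale_eq_self_iff h2 _).1 ((hc a).1.symm.trans (by rw [h]))
    obtain ⟨g₂, hg₂⟩ := (rescale_eq_neg_iff h2 (snd a)).1 (by
      have := (hc a).2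
      rw [h] at this
      linear_combination this)
    exact ⟨ArSing.xMap k _ g₁ + ArSing.y k _ * ArSing.xMap k _ g₂, by
      simp only [AlgHom.toRingHom_eq_coe, RingHom.coe_coe]
      rw [hφz]; simp only [fst_add, snd_add, fst_xMap, snd_xMap, fst_mul, snd_mul, fst_y, snd_y, zero_mul, mul_zero, one_mul, zero_add, add_zero, ← hg₁, ← hg₂, repr_eq]⟩
  · rintro ⟨z, rfl⟩
    refine comps_ext ?_ ?_
    · rw [(hc _).1]; simp [hφz, rescale_sqv]
    · rw [(hc _).2]; simp [hφz, rescale_sqv, rescale_X_neg]
  · intro a b h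
    have h1 := congrArg fst h
    have h2' := congrArg snd h
    simp [hφz, PowerSeries.X_ne_zero] at h1 h2'
    exact comps_ext (sqv_injective h1) (sqv_injective h2')
  · intro hflat
    obtain ⟨κ, a, z, hz, ha⟩ := flat_relation φ.toRingHom hflat ![ArSing.x k m, ArSing.y k m]
      ![ArSing.y k r, -ArSing.x k r] (by
        simp only [Fin.sum_univ_two, Matrix.cons_val_zero, Matrix.cons_val_one,
          AlgHom.toRingHom_eq_coe, RingHom.coe_coe, hφx, hφy]
        ring)
    have hy2 : ArSing.y k r ∈ IsLocalRing.maximalIdeal (ArSing.ring k r) ^ 2 := by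
      have e : ArSing.y k r = ∑ j, φ (a 0 j) * z j := hz 0
      rw [e]
      refine sum_mem fun j _ => ?_
      have hj : ArSing.x k m * a 0 j + ArSing.y k m * a 1 j = 0 := by
        simpa [Fin.sum_univ_two, mul_comm] using ha j
      have h1 := congrArg fst hj
      have h3 := congrArg snd hj
      simp at h1 h3
      have hmem : a 0 j ∈ IsLocalRing.maximalIdeal (ArSing.ring k m) := by
        rw [mem_max_iff]
        have h4 : fst (a 0 j) + PowerSeries.X ^ m * snd (a 1 j) = 0 :=
          (mul_eq_zero.1 (show PowerSeries.X * (fst (a 0 j) + PowerSeries.X ^ m * snd (a 1 j)) = 0 by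
            linear_combination h1)).resolve_left PowerSeries.X_ne_zero
        have := congrArg PowerSeries.constantCoeff h4
        simpa [zero_pow (show m ≠ 0 by omega)] using this
      have hle : Ideal.map φ (IsLocalRing.maximalIdeal (ArSing.ring k m)) ≤
          IsLocalRing.maximalIdeal (ArSing.ring k r) ^ 2 := by
        refine map_max_le φ _ ?_ ?_
        · rw [hφx]; exact Ideal.pow_mem_pow x_mem_max 2
        · rw [hφy, pow_two]; exact Ideal.mul_mem_mul x_mem_max y_mem_max
      exact Ideal.mul_mem_right _ _ (hle (Ideal.mem_map_of_mem φ hmem))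
    have := coeff_snd_eq_zero hr1 hy2 (show 0 + 1 < 2 by norm_num)
    simp at this
  · rw [hI]
    exact Module.length_eq_one_iff.2
      (isSimpleModule_iff_isCoatom.2 (IsLocalRing.maximalIdeal.isMaximal _).out)
  · rintro ⟨g, -, hg⟩
    rw [hI] at hg
    have hxg : ArSing.x k r ∈ Ideal.span {g} := hg ▸ x_mem_max
    have hyg : ArSing.y k r ∈ Ideal.span {g} := hg ▸ y_mem_max
    have hgm : g ∈ IsLocalRing.maximalIdeal (ArSing.ring k r) := hg ▸ Ideal.mem_span_singleton_self g
    obtain ⟨α, hα⟩ := Ideal.mem_span_singleton'.1 hxg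
    obtain ⟨β, hβ⟩ := Ideal.mem_span_singleton'.1 hyg
    obtain ⟨g', hg'⟩ := PowerSeries.X_dvd_iff.2 (mem_max_iff.1 hgm)
    have e1 := congrArg (fun a => PowerSeries.coeff 1 (fst a)) hα
    have e2 := congrArg (fun a => PowerSeries.constantCoeff (snd a)) hα
    have e4 := congrArg (fun a => PowerSeries.constantCoeff (snd a)) hβ
    simp only [fst_mul, snd_mul, map_add, map_mul, hg', fst_x, snd_x, snd_y, map_one, map_zero,
      PowerSeries.constantCoeff_X, PowerSeries.coeff_one_X, zero_mul, mul_zero, add_zero,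
      PowerSeries.coeff_X_pow_mul', show ¬ r + 1 ≤ 1 by omega, if_false] at e1 e2 e4
    rw [show fst α * (PowerSeries.X * g') = PowerSeries.X * (fst α * g') by ring,
      PowerSeries.coeff_succ_X_mul, PowerSeries.coeff_zero_eq_constantCoeff_apply, map_mul] at e1
    rcases mul_eq_zero.1 e2 with h | h
    · rw [h, zero_mul] at e1; exact zero_ne_one e1
    · rw [h, mul_zero] at e4; exact zero_ne_one e4

end Groth.Agent.S14095
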