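import Groth.Statements.S14096
import Mathlib
import Groth.Agent.Ar2.Fixed

set_option autoImplicit false
universe u
open ArSing

namespace Groth.Agent.S14096

open Groth.Agent.Ar2


/-- K algebraically closed of characteristic ≠ 2, σ the involution of the node algebra A_1 =
k[[x,y]]/(y^2 - x^2) exchanging x and y, and φ : A_1 → A_1 the k-algebra map with φ(x + y) = x + y
and φ(y - x) = (y - x)^2 (in the branch coordinates u = x + y, v = y - x with uv = 0: u ↦ u, v ↦
v^2). Then the invariant subalgebra of σ is the image of φ and φ is injective (so A_1^σ ≅ A_1), and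
the fixed locus of σ is the branch v = 0: the ideal generated by the elements σ(a) - a is the ideal
(y - x), a minimal prime ideal generated by a zero-divisor (so not a Cartier divisor). Moreover φ is
not flat. (The published statement asserts that this extension is faithfully flat; it is not: as a
module over the invariant subalgebra B = k[[u,w]]/(uw), w = v^2, A_1 is B ⊕ (B/uB)·v, and B/uB is
not flat over B — equivalently the fibre length jumps from 1 on the branch w = 0 to 2 at the closed
point.) -/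
theorem result (k : Type u) [Field k] [IsAlgClosed k]
    (h2 : (2 : k) ≠ 0)
    (σ : ArSing.ring k 1 ≃ₐ[k] ArSing.ring k 1) (hx : σ (ArSing.x k 1) = ArSing.y k 1)
    (hy : σ (ArSing.y k 1) = ArSing.x k 1)
    (φ : ArSing.ring k 1 →ₐ[k] ArSing.ring k 1) (hφu : φ (ArSing.x k 1 + ArSing.y k 1) = ArSing.x k 1 + ArSing.y k 1)
    (hφv : φ (ArSing.y k 1 - ArSing.x k 1) = (ArSing.y k 1 - ArSing.x k 1) ^ 2) :
    (∀ a : ArSing.ring k 1, σ a = a ↔ a ∈ φ.range) ∧ Function.Injective φ ∧
    Ideal.span (Set.range fun a : ArSing.ring k 1 => σ a - a) = Ideal.span {ArSing.y k 1 - ArSing.x k 1} ∧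
    (ArSing.y k 1 - ArSing.x k 1) ∉ nonZeroDivisors (ArSing.ring k 1) ∧
    Ideal.span {ArSing.y k 1 - ArSing.x k 1} ∈ minimalPrimes (ArSing.ring k 1) ∧
    ¬ φ.toRingHom.Flat := by
  obtain ⟨hPs, hMs, hPt, hMt⟩ := br_gens (k := k)
  have h2' : (2 : PowerSeries k) ≠ 0 := fun e =>
    h2 (by simpa [map_ofNat] using congrArg PowerSeries.constantCoeff e)
  have hmul : (ArSing.y k 1 + ArSing.x k 1) * (ArSing.y k 1 - ArSing.x k 1) = 0 := by
    rw [← sq_sub_sq, y_sq', sub_self]
  have e : algebraMap k (ArSing.ring k 1) (2⁻¹) + algebraMap k _ (2⁻¹) = 1 := by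
    rw [← map_add, show (2⁻¹ + 2⁻¹ : k) = 1 by field_simp; norm_num, map_one]
  have hC : PowerSeries.C (2⁻¹ : k) * 2 = 1 := by
    rw [← map_ofNat (PowerSeries.C : k →+* PowerSeries k), ← map_mul, inv_mul_cancel₀ h2, map_one]
  have hσP : ∀ a, brP (σ a) = brP a := DFunLike.congr_fun
    (hom_ext_ps (F := brP.comp σ.toAlgHom) (G := brP) (by simp [hx, brP_apply]) (by simp [hy, brP_apply]))
  have hσM : ∀ a, brM (σ a) = PowerSeries.rescale (-1 : k) (brM a) := DFunLike.congr_fun
    (hom_ext_ps (F := brM.comp σ.toAlgHom) (G := (rescaleA (-1 : k)).comp brM)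
      (by simp [hx, brM_apply]) (by simp [hy, brM_apply]))
  have hφx' : φ (ArSing.x k 1) = algebraMap k _ (2⁻¹) *
      ((ArSing.y k 1 + ArSing.x k 1) - (ArSing.y k 1 - ArSing.x k 1) ^ 2) := by
    conv_lhs => rw [show ArSing.x k 1 = algebraMap k _ (2⁻¹) *
      ((ArSing.x k 1 + ArSing.y k 1) - (ArSing.y k 1 - ArSing.x k 1)) by
        linear_combination -(ArSing.x k 1) * e]
    rw [map_mul, AlgHom.commutes, map_sub, hφu, hφv]
    ring
  have hφy' : φ (ArSing.y k 1) = algebraMap k _ (2⁻¹) *
      ((ArSing.y k 1 + ArSing.x k 1) + (ArSing.y k 1 - ArSing.x k 1) ^ 2) := by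
    conv_lhs => rw [show ArSing.y k 1 = algebraMap k _ (2⁻¹) *
      ((ArSing.x k 1 + ArSing.y k 1) + (ArSing.y k 1 - ArSing.x k 1)) by
        linear_combination -(ArSing.y k 1) * e]
    rw [map_mul, AlgHom.commutes, map_add, hφu, hφv]
    ring
  have hCc : ∀ B : ArSing.ring k 1 →ₐ[k] PowerSeries k,
      B (algebraMap k _ (2⁻¹)) = PowerSeries.C 2⁻¹ := fun B => by rw [AlgHom.commutes]; rfl
  have hBy : brP (ArSing.y k 1) = PowerSeries.X ∧ brP (ArSing.x k 1) = PowerSeries.X ∧
      brM (ArSing.y k 1) = -PowerSeries.X ∧ brM (ArSing.x k 1) = PowerSeries.X := by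
    simp [brP_apply, brM_apply]
  have hφP : ∀ a, brP (φ a) = brP a := DFunLike.congr_fun
    (hom_ext_ps (F := brP.comp φ) (G := brP)
      (by rw [AlgHom.comp_apply, hφx', map_mul, map_sub, map_pow, hPs, hPt, hCc, hBy.2.1]
          linear_combination PowerSeries.X * hC)
      (by rw [AlgHom.comp_apply, hφy', map_mul, map_add, map_pow, hPs, hPt, hCc, hBy.1]
          linear_combination PowerSeries.X * hC))
  let L : PowerSeries k →ₐ[k] PowerSeries k := sqv.comp (rescaleA (-2 : k))
  have hLX : L PowerSeries.X = -2 * PowerSeries.X ^ 2 := by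
    simp only [L, AlgHom.comp_apply, rescaleA_apply, PowerSeries.rescale_X, map_mul, sqv_X]
    congr 1
    exact (sqv.commutes (-2 : k)).trans (by simp [map_ofNat])
  have hφM : ∀ a, brM (φ a) = L (brM a) := DFunLike.congr_fun
    (hom_ext_ps (F := brM.comp φ) (G := L.comp brM)
      (by rw [AlgHom.comp_apply, AlgHom.comp_apply, hφx', map_mul, map_sub, map_pow, hMs, hMt, hCc,
            hBy.2.2.2, hLX]
          linear_combination (-2 * PowerSeries.X ^ 2) * hC)
      (by rw [AlgHom.comp_apply, AlgHom.comp_apply, hφy', map_mul, map_add, map_pow, hMs, hMt, hCc,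
            hBy.2.2.1, map_neg, hLX]
          linear_combination (2 * PowerSeries.X ^ 2) * hC))
  have hLinj : Function.Injective L := by
    refine sqv_injective.comp fun f g h => ?_
    ext n
    have := congrArg (PowerSeries.coeff n) h
    simpa [h2] using this
  have hσx : (fun a => σ a - a) (ArSing.x k 1) = ArSing.y k 1 - ArSing.x k 1 := by simp [hx]
  refine ⟨fun a => ⟨fun h => ?_, ?_⟩, ?_, ?_, ?_, ?_, ?_⟩
  · obtain ⟨g, hg⟩ := (rescale_eq_self_iff h2 _).1 ((hσM a).symm.trans (by rw [h]))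
    set Q := PowerSeries.rescale (-2⁻¹ : k) g
    have hLQ : L Q = brM a := by
      have hn : (-2⁻¹ : k) * -2 = 1 := by rw [neg_mul_neg, inv_mul_cancel₀ h2]
      simp only [L, Q, AlgHom.comp_apply, rescaleA_apply, PowerSeries.rescale_rescale, hn]
      rw [hg, PowerSeries.rescale_one]
      rfl
    obtain ⟨d, hd⟩ := PowerSeries.X_dvd_iff.2 (show PowerSeries.constantCoeff (brP a - Q) = 0 by
      have h1 := congrArg (PowerSeries.coeff 0) hg
      rw [coeff_sqv, if_pos (dvd_zero 2), Nat.zero_div] at h1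
      have h0 : PowerSeries.coeff 0 Q = PowerSeries.coeff 0 g := by simp [Q, PowerSeries.coeff_rescale]
      rw [← PowerSeries.coeff_zero_eq_constantCoeff_apply, map_sub, h0, ← h1]
      simp [brP_apply, brM_apply])
    refine ⟨ArSing.xMap k 1 (PowerSeries.C 2⁻¹ * (brP a + Q)) +
      ArSing.y k 1 * ArSing.xMap k 1 (PowerSeries.C 2⁻¹ * d), ?_⟩
    simp only [AlgHom.toRingHom_eq_coe, RingHom.coe_coe]
    refine br_ext h2 ?_ ?_
    · rw [hφP]
      conv_lhs => rw [brP_apply]
      simp
      linear_combination -(PowerSeries.C (2⁻¹ : k)) * hd + (brP a) * hC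
    · rw [hφM, ← hLQ]
      congr 1
      rw [brM_apply]
      simp
      linear_combination (PowerSeries.C (2⁻¹ : k)) * hd + Q * hC
  · rintro ⟨z, rfl⟩
    refine br_ext h2 ?_ ?_
    · rw [hσP]
    · rw [hσM]
      simp only [AlgHom.toRingHom_eq_coe, RingHom.coe_coe, hφM]
      exact rescale_sqv _
  · intro a b h
    exact br_ext h2 (by rw [← hφP, h, hφP]) (hLinj (by rw [← hφM, h, hφM]))
  · refine le_antisymm ?_ ?_
    · rw [Ideal.span_le]
      rintro _ ⟨a, rfl⟩
      have h0 : brP (σ a - a) = 0 := by rw [map_sub, hσP, sub_self]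
      change σ a - a ∈ Ideal.span {ArSing.y k 1 - ArSing.x k 1}
      rw [eq_mul_of_brP h0]
      exact Ideal.mul_mem_left _ _ (Ideal.mem_span_singleton_self _)
    · rw [Ideal.span_singleton_le_iff_mem]
      exact Ideal.subset_span ⟨_, hσx⟩
  · intro h
    have h0 := (mem_nonZeroDivisors_iff_right.1 h) _ hmul
    rw [h0, map_zero] at hPs
    exact mul_ne_zero h2' PowerSeries.X_ne_zero hPs.symm
  · have hker : Ideal.span {ArSing.y k 1 - ArSing.x k 1} = RingHom.ker (brP (k := k)) := by
      refine le_antisymm ((Ideal.span_singleton_le_iff_mem _).2 hPt) fun a ha => ?_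
      rw [eq_mul_of_brP ha]
      exact Ideal.mul_mem_left _ _ (Ideal.mem_span_singleton_self _)
    haveI hprime : (Ideal.span {ArSing.y k 1 - ArSing.x k 1}).IsPrime := by
      rw [hker]; exact RingHom.ker_isPrime _
    refine ⟨⟨hprime, bot_le⟩, fun p ⟨hp, _⟩ hle => ?_⟩
    rw [Ideal.span_singleton_le_iff_mem]
    refine (hp.mem_or_mem (show _ * _ ∈ p by rw [hmul]; exact zero_mem p)).resolve_left fun hs => ?_
    have := hle hs
    rw [hker, RingHom.mem_ker, hPs] at this
    exact mul_ne_zero h2' PowerSeries.X_ne_zero this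
  · intro hflat
    set t := ArSing.y k 1 - ArSing.x k 1
    set s := ArSing.y k 1 + ArSing.x k 1
    have hφs : φ s = s := by rw [show s = ArSing.x k 1 + ArSing.y k 1 from add_comm _ _, hφu]
    obtain ⟨κ, a, z, hz, ha⟩ := flat_relation φ.toRingHom hflat ![s] ![t] (by
      simp only [Fin.sum_univ_one, Matrix.cons_val_zero, AlgHom.toRingHom_eq_coe, RingHom.coe_coe, hφs]
      exact hmul)
    have ht : t ∈ Ideal.span {t ^ 2} := by
      have e' : t = ∑ j, φ (a 0 j) * z j := hz 0
      refine Eq.subst (motive := fun w => w ∈ Ideal.span {t ^ 2}) e'.symm (Ideal.sum_mem _ fun j _ => ?_)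
      have hj : s * a 0 j = 0 := by simpa [mul_comm] using ha j
      have h1 : brP (a 0 j) = 0 := by
        have := congrArg brP hj
        rw [map_mul, hPs, map_zero] at this
        exact (mul_eq_zero.1 this).resolve_left (mul_ne_zero h2' PowerSeries.X_ne_zero)
      refine Ideal.mul_mem_right _ _ ?_
      rw [eq_mul_of_brP h1, map_mul]
      simp only [t, hφv]
      exact Ideal.mul_mem_left _ _ (Ideal.mem_span_singleton_self _)
    obtain ⟨c, hc⟩ := Ideal.mem_span_singleton'.1 ht
    have hu : IsUnit (1 - c * t) := IsLocalRing.isUnit_one_sub_self_of_mem_nonunits _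
      (Ideal.mul_mem_left _ _ (sub_mem (y_mem_max (k := k) (r := 1)) (x_mem_max (k := k) (r := 1))))
    have : t = 0 := hu.mul_right_eq_zero.1 (by linear_combination -hc)
    rw [this, map_zero] at hMt
    exact mul_ne_zero h2' PowerSeries.X_ne_zero (neg_eq_zero.1 hMt.symm)

end Groth.Agent.S14096
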