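import Groth.Statements.S14097
import Mathlib
-- import your own Groth.Agent.* helpers here

set_option autoImplicit false
universe u
open ArSing

namespace Groth.Agent.S14097

/-- In any commutative ring, if h_0, …, h_(k-1) (k ≥ 2) and τ satisfy h_i^2 + τ h_i = 0, then ∏_(i ≤
k-2) (h_i + h_(i+1) + τ) = Σ_(j ≤ k-1) τ^(k-1-j) e_j(h), e_j the elementary symmetric functions.
(The published statement is the resulting formula for the class of the small diagonal in the Chow
ring of (P^1)^k, where the h_i are the hyperplane classes of the factors and satisfy these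
relations; only the ring identity is asserted here.) -/
theorem result (A : Type u) [CommRing A] (k : ℕ) (hk : 2 ≤ k) (τ : A)
    (h : ℕ → A) (hrel : ∀ i, i < k → h i ^ 2 + τ * h i = 0) :
    ∏ i ∈ Finset.range (k - 1), (h i + h (i + 1) + τ) =
      ∑ j ∈ Finset.range k, τ ^ (k - 1 - j) * (((Finset.range k).val.map h).esymm j) := by
  classical
  let H : ℕ → Multiset A := fun k ↦ (Finset.range k).val.map h
  let S : ℕ → A := fun k ↦ ∑ j ∈ Finset.range k, τ ^ (k - 1 - j) * (H k).esymm j
  let E : ℕ → A := fun k ↦ ∏ i ∈ Finset.range k, h i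
  have hcons : ∀ n, H (n + 1) = h n ::ₘ H n := fun n ↦ by
    simp [H, Finset.range_val, Multiset.range_succ]
  have hesymm : ∀ (n j : ℕ), (H (n + 1)).esymm (j + 1) = (H n).esymm (j + 1) + h n * (H n).esymm j := fun n j ↦ by
    simp only [hcons, Multiset.esymm, Multiset.powersetCard_cons, Multiset.map_add, Multiset.sum_add, Multiset.map_map,
      Function.comp_def, Multiset.prod_cons, Multiset.sum_map_mul_left]
  have hzero : ∀ n, (H n).esymm 0 = 1 := fun n ↦ by simp [Multiset.esymm]
  have htop : ∀ n, (H n).esymm n = E n := fun n ↦ by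
    have hc : Multiset.card (H n) = n := by simp [H]
    have hd : ∀ s : Multiset A, s.esymm (Multiset.card s) = s.prod := fun s ↦ by simp [Multiset.esymm]
    have := hd (H n); rw [hc] at this
    rw [this]; rfl
  have hrec : ∀ n, S (n + 1) = (τ + h n) * S n + E n := fun n ↦ by
    have hT : τ * S n + E n = τ ^ n + ∑ j ∈ Finset.range n, τ ^ (n - 1 - j) * (H n).esymm (j + 1) := by
      have h1 : τ * S n + E n = ∑ j ∈ Finset.range (n + 1), τ ^ (n - j) * (H n).esymm j := by
        rw [Finset.sum_range_succ, Nat.sub_self, pow_zero, one_mul, htop, Finset.mul_sum]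
        congr 1
        refine Finset.sum_congr rfl fun j hj ↦ ?_
        rw [← mul_assoc, ← pow_succ']
        congr 2
        have := Finset.mem_range.mp hj; omega
      rw [h1, Finset.sum_range_succ', hzero, Nat.sub_zero, mul_one, add_comm]
      congr 1
      exact Finset.sum_congr rfl fun j _ ↦ by rw [show n - (j + 1) = n - 1 - j by omega]
    show ∑ j ∈ Finset.range (n + 1), τ ^ (n + 1 - 1 - j) * (H (n + 1)).esymm j = _
    rw [Finset.sum_range_succ', hzero, Nat.add_sub_cancel, Nat.sub_zero, mul_one, add_mul, add_right_comm, hT, add_comm, add_assoc]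
    congr 1
    rw [Finset.mul_sum, ← Finset.sum_add_distrib]
    exact Finset.sum_congr rfl fun j _ ↦ by rw [hesymm, show n - (j + 1) = n - 1 - j by omega]; ring
  have hlast : ∀ n, n + 1 ≤ k → h n * S (n + 1) = E (n + 1) := fun n hn ↦ by
    rw [hrec, mul_add, ← mul_assoc, show h n * (τ + h n) = 0 by linear_combination hrel n (by omega), zero_mul, zero_add]
    show h n * E n = ∏ i ∈ Finset.range (n + 1), h i
    rw [Finset.prod_range_succ, mul_comm]
  have main : ∀ n, n + 1 ≤ k → ∏ i ∈ Finset.range n, (h i + h (i + 1) + τ) = S (n + 1) := by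
    intro n
    induction n with
    | zero => intro _; simp [S, hzero]
    | succ n ih =>
      intro hn
      rw [Finset.prod_range_succ, ih (by omega), hrec (n + 1)]
      linear_combination hlast n (by omega)
  have := main (k - 1) (by omega)
  rw [Nat.sub_add_cancel (by omega : 1 ≤ k)] at this
  exact this

end Groth.Agent.S14097
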