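import Groth.Statements.S14099
import Groth.Agent.Lib.Pushout6.BaseChange
import Groth.Agent.Lib.BlowUp.FlatSub
import Groth.Agent.Lib.BlowUp.IdealComap
import Groth.Agent.Lib.BlowUp.Universal
import Mathlib.AlgebraicGeometry.Morphisms.Finite

set_option autoImplicit false
universe u
open CategoryTheory AlgebraicGeometry
open BlowUp

namespace Groth.Agent.S14099

open GrothLib.BlowUp CategoryTheory CategoryTheory.Limits

theorem alg_exists_unique {A B C : Type u} [CommRing A] [CommRing B] [CommRing C]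
    (g : A →+* B) (ψ : A →+* C) (I : Ideal A) (hinj : ∀ x ∈ I, g x = 0 → x = 0)
    (hex : ∀ (b : B), ∀ x ∈ I, ∃ y ∈ I, g y = b * g x)
    (hC : ∃ c ∈ nonZeroDivisors C, I.map ψ = Ideal.span {c}) :
    ∃! h : B →+* C, h.comp g = ψ := by
  obtain ⟨c, hc, hIc⟩ := hC
  have cancel : ∀ {u v : C}, u * c = v * c → u = v := fun {u v} h =>
    sub_eq_zero.1 ((mul_right_mem_nonZeroDivisors_eq_zero_iff hc).1 (by rw [sub_mul, h, sub_self]))
  have hext : ∀ u v : C, (∀ x ∈ I, u * ψ x = v * ψ x) → u = v := fun u v h => by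
    refine cancel ?_
    have hle : I.map ψ ≤ LinearMap.ker (LinearMap.mulLeft C (u - v)) := by
      rw [Ideal.map_le_iff_le_comap]
      intro x hx
      show (u - v) * ψ x = 0
      rw [sub_mul, h x hx, sub_self]
    have h0 : (u - v) * c = 0 := hle (hIc.ge (Ideal.mem_span_singleton_self c))
    rw [sub_mul, sub_eq_zero] at h0
    exact h0
  have hq : ∀ b : B, ∃ q : C, ∀ x ∈ I, ∀ y ∈ I, g y = b * g x → ψ y = q * ψ x := by
    intro b
    have hs : Ideal.map ψ I ≤
        { carrier := {z | ∃ w : C, ∀ x ∈ I, ∀ y ∈ I, g y = b * g x → ψ y * z = w * ψ x}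
          add_mem' := fun {z z'} ⟨w, hw⟩ ⟨w', hw'⟩ => ⟨w + w', fun x hx y hy he => by
            rw [mul_add, add_mul, hw x hx y hy he, hw' x hx y hy he]⟩
          zero_mem' := ⟨0, fun x hx y hy he => by rw [mul_zero, zero_mul]⟩
          smul_mem' := fun r z ⟨w, hw⟩ => ⟨r * w, fun x hx y hy he => by
            rw [smul_eq_mul, mul_left_comm, hw x hx y hy he, mul_assoc]⟩ } := by
      rw [Ideal.map_le_iff_le_comap]
      intro x₀ hx₀
      obtain ⟨y₀, hy₀, he₀⟩ := hex b x₀ hx₀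
      refine ⟨ψ y₀, fun x hx y hy he => ?_⟩
      rw [← map_mul, ← map_mul]
      congr 1
      refine sub_eq_zero.1 (hinj _ (sub_mem (I.mul_mem_right _ hy) (I.mul_mem_right _ hy₀)) ?_)
      rw [map_sub, map_mul, map_mul, he, he₀]
      ring
    obtain ⟨w, hw⟩ := hs (hIc.ge (Ideal.mem_span_singleton_self c))
    have hwc : w ∈ Ideal.span {c} := by
      obtain ⟨e, he⟩ : ∃ e : C, w * c = e * c * c := by
        have hle : I.map ψ ≤ Submodule.comap (LinearMap.mulLeft C w) (Ideal.span {c * c}) := by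
          rw [Ideal.map_le_iff_le_comap]
          intro x hx
          obtain ⟨y, hy, he⟩ := hex b x hx
          have h1 : ψ y ∈ Ideal.span {c} := hIc ▸ Ideal.mem_map_of_mem ψ hy
          obtain ⟨r, hr⟩ := Ideal.mem_span_singleton'.1 h1
          show w * ψ x ∈ Ideal.span {c * c}
          rw [← hw x hx y hy he, ← hr, mul_assoc]
          exact Ideal.mul_mem_left _ _ (Ideal.mem_span_singleton_self _)
        obtain ⟨e, he⟩ := Ideal.mem_span_singleton'.1
          (show w * c ∈ Ideal.span {c * c} from hle (hIc.ge (Ideal.mem_span_singleton_self c)))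
        exact ⟨e, by rw [← he, mul_assoc]⟩
      exact Ideal.mem_span_singleton'.2 ⟨e, (cancel he).symm⟩
    obtain ⟨q, rfl⟩ := Ideal.mem_span_singleton'.1 hwc
    exact ⟨q, fun x hx y hy he => cancel (by rw [hw x hx y hy he]; ring)⟩
  choose q hq using hq
  have key : ∀ (b : B) (u : C), (∀ x ∈ I, ∃ y ∈ I, g y = b * g x ∧ ψ y = u * ψ x) → q b = u :=
    fun b u h => hext _ _ fun x hx => by
      obtain ⟨y, hy, he, hu⟩ := h x hx
      rw [← hu, hq b x hx y hy he]
  have qg : ∀ a, q (g a) = ψ a := fun a =>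
    key _ _ fun x hx => ⟨a * x, I.mul_mem_left _ hx, map_mul _ _ _, map_mul _ _ _⟩
  refine ⟨{ toFun := q
            map_one' := by rw [← map_one g, qg, map_one]
            map_zero' := by rw [← map_zero g, qg, map_zero]
            map_add' := fun b b' => key _ _ fun x hx => by
              obtain ⟨y, hy, he⟩ := hex b x hx
              obtain ⟨y', hy', he'⟩ := hex b' x hx
              exact ⟨y + y', add_mem hy hy', by rw [map_add, he, he', add_mul],
                by rw [map_add, hq b x hx y hy he, hq b' x hx y' hy' he', add_mul]⟩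
            map_mul' := fun b b' => key _ _ fun x hx => by
              obtain ⟨y', hy', he'⟩ := hex b' x hx
              obtain ⟨y, hy, he⟩ := hex b y' hy'
              exact ⟨y, hy, by rw [he, he', mul_assoc],
                by rw [hq b y' hy' y hy he, hq b' x hx y' hy' he', mul_assoc]⟩ },
    RingHom.ext qg, fun h hh => RingHom.ext fun b => (key b (h b) fun x hx => ?_).symm⟩
  obtain ⟨y, hy, he⟩ := hex b x hx
  exact ⟨y, hy, he, by rw [← hh, RingHom.comp_apply, RingHom.comp_apply, he, map_mul]⟩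

/-- On the affine open `V` sections of the ideal `I` are the sections of the ideal `K` upstairs. -/
structure Good {X Y : Scheme.{u}} (f : X ⟶ Y) [IsAffineHom f] (I : Y.IdealSheafData) (K : X.IdealSheafData)
    (V : Y.affineOpens) : Prop where
  inj : ∀ x ∈ I.ideal V, f.app V.1 x = 0 → x = 0
  mem : ∀ x ∈ I.ideal V, f.app V.1 x ∈ K.ideal ⟨f ⁻¹ᵁ V.1, V.2.preimage f⟩
  surj : ∀ k ∈ K.ideal ⟨f ⁻¹ᵁ V.1, V.2.preimage f⟩, ∃ x ∈ I.ideal V, f.app V.1 x = k

variable {X Y : Scheme.{u}} {f : X ⟶ Y} [IsAffineHom f] {I : Y.IdealSheafData} {K : X.IdealSheafData}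

theorem Good.comap_eq {V : Y.affineOpens} (h : Good f I K V) :
    (I.comap f).ideal ⟨f ⁻¹ᵁ V.1, V.2.preimage f⟩ = K.ideal ⟨f ⁻¹ᵁ V.1, V.2.preimage f⟩ := by
  rw [ideal_comap_eq_map I f V ⟨f ⁻¹ᵁ V.1, V.2.preimage f⟩ le_rfl, ← Scheme.Hom.app_eq_appLE]
  refine le_antisymm (Ideal.map_le_iff_le_comap.2 fun x hx => h.mem x hx) fun k hk => ?_
  obtain ⟨x, hx, rfl⟩ := h.surj k hk
  exact Ideal.mem_map_of_mem _ hx

theorem exists_unique_hom_local {V : Y.affineOpens} (hV : Good f I K V) {T : Scheme.{u}}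
    (g : T ⟶ Y) (W : T.affineOpens) (hW : W.1 ≤ g ⁻¹ᵁ V.1)
    (hc : GrothLib.BlowUp.CartierOn (I.comap g) W) :
    ∃! k : Spec Γ(T, W.1) ⟶ X, k ≫ f = W.2.fromSpec ≫ g := by
  obtain ⟨c, hc, hce⟩ := hc
  have hV' := V.2.preimage f
  rw [ideal_comap_eq_map _ g V W hW] at hce
  obtain ⟨h, hh, huniq⟩ := alg_exists_unique (f.app V.1).hom (g.appLE V.1 W.1 hW).hom (I.ideal V)
    hV.inj (fun b x hx => hV.surj _ (Ideal.mul_mem_left _ b (hV.mem x hx))) ⟨c, hc, hce⟩
  have hfac : ∀ h' : Γ(X, f ⁻¹ᵁ V.1) ⟶ Γ(T, W.1),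
      (Spec.map h' ≫ hV'.fromSpec) ≫ f = Spec.map (f.app V.1 ≫ h') ≫ V.2.fromSpec := fun h' => by
    rw [Category.assoc, ← IsAffineOpen.SpecMap_appLE_fromSpec f V.2 hV' le_rfl,
      Scheme.Hom.app_eq_appLE, Spec.map_comp, Category.assoc]
  refine ⟨Spec.map (CommRingCat.ofHom h) ≫ hV'.fromSpec, ?_, fun k hk => ?_⟩
  · show _ ≫ f = _
    rw [hfac, ← IsAffineOpen.SpecMap_appLE_fromSpec g V.2 W.2 hW]
    congr 2
    exact CommRingCat.hom_ext hh
  · have hr : Set.range k ⊆ Set.range hV'.fromSpec := by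
      rintro _ ⟨z, rfl⟩
      rw [hV'.range_fromSpec]
      show f (k z) ∈ V.1
      rw [← Scheme.Hom.comp_apply, hk, Scheme.Hom.comp_apply]
      exact hW (W.2.range_fromSpec.le ⟨z, rfl⟩)
    obtain ⟨l, hl⟩ : ∃ l, l ≫ hV'.fromSpec = k :=
      ⟨IsOpenImmersion.lift _ k hr, IsOpenImmersion.lift_fac _ _ _⟩
    obtain ⟨l', rfl⟩ := Spec.map_surjective l
    subst hl
    have h1 : f.app V.1 ≫ l' = g.appLE V.1 W.1 hW := by
      rw [hfac, ← IsAffineOpen.SpecMap_appLE_fromSpec g V.2 W.2 hW, cancel_mono] at hk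
      exact Spec.map_injective hk
    rw [← huniq l'.hom (congrArg CommRingCat.Hom.hom h1)]
    rfl

theorem isBlowUp_of_good (hgood : ∀ y : Y, ∃ V : Y.affineOpens, y ∈ V.1 ∧ Good f I K V)
    (hcar : BlowUp.IsEffCartierIdeal (I.comap f)) : BlowUp.IsBlowUp f I := by
  refine ⟨hcar, fun T g hg => ?_⟩
  have hloc : ∀ t : T, ∃ (V : Y.affineOpens) (W : T.affineOpens), t ∈ W.1 ∧ Good f I K V ∧ W.1 ≤ g ⁻¹ᵁ V.1 ∧
      GrothLib.BlowUp.CartierOn (I.comap g) W := fun t => by
    obtain ⟨V, htV, hV⟩ := hgood (g t)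
    obtain ⟨W, htW, hWV, hW⟩ := exists_cartierOn_le hg (W := g ⁻¹ᵁ V.1) (x := t) htV
    exact ⟨V, W, htW, hV, hWV, hW⟩
  have huniq : ∀ {T' : Scheme.{u}} (i : T' ⟶ T) [IsOpenImmersion i] (k k' : T' ⟶ X),
      k ≫ f = i ≫ g → k' ≫ f = i ≫ g → k = k' := by
    intro T' i _ k k' hk hk'
    have hl : ∀ t : T', ∃ W : T'.affineOpens, t ∈ W.1 ∧ W.2.fromSpec ≫ k = W.2.fromSpec ≫ k' := fun t => by
      obtain ⟨V, htV, hV⟩ := hgood (g (i t))
      have hg' : BlowUp.IsEffCartierIdeal (I.comap (i ≫ g)) := by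
        rw [Scheme.IdealSheafData.comap_comp]
        exact isEffCartierIdeal_comap_of_flat i hg
      obtain ⟨W, htW, hWV, hW⟩ := exists_cartierOn_le hg' (W := (i ≫ g) ⁻¹ᵁ V.1) (x := t) htV
      exact ⟨W, htW, (exists_unique_hom_local hV (i ≫ g) W hWV hW).unique
        (by rw [Category.assoc, hk]) (by rw [Category.assoc, hk'])⟩
    choose W htW hW using hl
    refine (T'.openCoverOfIsOpenCover (fun t => (W t).1) ?_).hom_ext _ _ fun t => ?_
    · exact top_unique fun t _ => TopologicalSpace.Opens.mem_iSup.2 ⟨t, htW t⟩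
    · show (W t).1.ι ≫ k = (W t).1.ι ≫ k'
      rw [← cancel_epi (W t).2.isoSpec.inv]
      have h := hW t
      rwa [← (W t).2.isoSpec_inv_ι, Category.assoc, Category.assoc] at h
  choose V W htW hV hWV hW using hloc
  have hk : ∀ t, ∃ k : (W t).1.toScheme ⟶ X, k ≫ f = (W t).1.ι ≫ g := fun t => by
    obtain ⟨k, hk, -⟩ := exists_unique_hom_local (hV t) g (W t) (hWV t) (hW t)
    refine ⟨(W t).2.isoSpec.hom ≫ k, ?_⟩
    rw [Category.assoc, hk, ← Category.assoc, (W t).2.isoSpec_hom_fromSpec]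
  choose k hk using hk
  let 𝒰 := T.openCoverOfIsOpenCover (fun t => (W t).1)
    (top_unique fun t _ => TopologicalSpace.Opens.mem_iSup.2 ⟨t, htW t⟩)
  have hagree : ∀ s t, pullback.fst (𝒰.f s) (𝒰.f t) ≫ k s = pullback.snd (𝒰.f s) (𝒰.f t) ≫ k t := fun s t => by
    refine huniq (pullback.fst (𝒰.f s) (𝒰.f t) ≫ 𝒰.f s) _ _ ?_ ?_
    · rw [Category.assoc, Category.assoc]; exact congrArg (pullback.fst (𝒰.f s) (𝒰.f t) ≫ ·) (hk s)
    · rw [pullback.condition, Category.assoc, Category.assoc]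
      exact congrArg (pullback.snd (𝒰.f s) (𝒰.f t) ≫ ·) (hk t)
  refine ⟨𝒰.glueMorphisms k hagree, ?_, fun k' hk' => ?_⟩
  · refine 𝒰.hom_ext _ _ fun t => ?_
    rw [Scheme.Cover.ι_glueMorphisms_assoc]
    exact hk t
  · refine huniq (𝟙 T) _ _ (by simpa using hk') ?_
    rw [Category.id_comp]
    refine 𝒰.hom_ext _ _ fun t => ?_
    rw [Scheme.Cover.ι_glueMorphisms_assoc]
    exact hk t

theorem good_of_chart {Xt Dt D P : Scheme.{u}} {ι : Dt ⟶ Xt} [IsClosedImmersion ι] {h : Dt ⟶ D} {b : Xt ⟶ P}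
    [IsAffineHom b] {j : D ⟶ P} [IsClosedImmersion j] [IsIntegralHom h] (hP : IsPushout ι h b j)
    (O : P.Opens) {x : P} (hx : x ∈ O) :
    ∃ V : P.affineOpens, x ∈ V.1 ∧ V.1 ≤ O ∧ Good b j.ker ι.ker V := by
  have hC := GrothLib.Pushout6.covered_of_isAffineHom_left hP.w
  let e := GrothLib.Pushout6.objIso hC hP
  obtain ⟨c, hxc, hcO⟩ := GrothLib.Pushout6.exists_chart_le (e.hom ⁻¹ᵁ O) (x := e.inv x) (by
    show e.hom (e.inv x) ∈ O
    rw [← Scheme.Hom.comp_apply, e.inv_hom_id]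
    exact hx)
  let w := GrothLib.Pushout6.chartι c ≫ e.hom
  let V : P.affineOpens := ⟨w.opensRange, isAffineOpen_opensRange w⟩
  have hxV : x ∈ V.1 := by
    obtain ⟨z, hz⟩ := hxc
    exact ⟨z, (congrArg e.hom hz).trans (by rw [← Scheme.Hom.comp_apply, e.inv_hom_id]; rfl)⟩
  have hVO : V.1 ≤ O := by
    rintro _ ⟨z, rfl⟩
    exact hcO ⟨z, rfl⟩
  have hU : b ⁻¹ᵁ V.1 = c.U :=
    TopologicalSpace.Opens.ext (GrothLib.Pushout6.preimage_range_left hC hP c)
  have hV : j ⁻¹ᵁ V.1 = c.V :=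
    TopologicalSpace.Opens.ext (GrothLib.Pushout6.preimage_range_right hC hP c)
  obtain ⟨η, hη⟩ := Spec.map_surjective (IsOpenImmersion.lift V.2.fromSpec w
    (by rw [V.2.range_fromSpec]; exact subset_rfl))
  have hηw : Spec.map η ≫ V.2.fromSpec = w := by rw [hη, IsOpenImmersion.lift_fac]
  haveI : IsIso η := by
    have hi : IsOpenImmersion (Spec.map η) := by rw [hη]; infer_instance
    have hs : Function.Surjective (Spec.map η) := fun z => by
      obtain ⟨z', hz'⟩ : V.2.fromSpec z ∈ Set.range w := by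
        have := V.2.range_fromSpec.le ⟨z, rfl⟩
        exact this
      refine ⟨z', V.2.fromSpec.isOpenEmbedding.injective ?_⟩
      rw [← hz', ← Scheme.Hom.comp_apply, hηw]
    haveI : Surjective (Spec.map η) := ⟨hs⟩
    haveI : IsIso (Spec.map η) := (isIso_iff_isOpenImmersion_and_epi_base _).2 ⟨hi, (TopCat.epi_iff_surjective _).2 hs⟩
    have : IsIso (Scheme.Spec.map η.op) := ‹IsIso (Spec.map η)›
    have := isIso_of_reflects_iso η.op Scheme.Spec
    exact isIso_of_op η
  have hg : η ≫ c.g = b.appLE V.1 c.U hU.ge := by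
    apply Spec.map_injective
    rw [← cancel_mono V.2.fromSpec, IsAffineOpen.SpecMap_appLE_fromSpec b V.2 c.hU hU.ge, Spec.map_comp,
      Category.assoc, hηw, ← GrothLib.Pushout6.inl_objIso hC hP, ← Category.assoc c.hU.fromSpec,
      GrothLib.Pushout6.fromSpec_inl, Category.assoc]
    rfl
  have hf : η ≫ c.f = j.appLE V.1 c.V hV.ge := by
    apply Spec.map_injective
    rw [← cancel_mono V.2.fromSpec, IsAffineOpen.SpecMap_appLE_fromSpec j V.2 c.hV hV.ge, Spec.map_comp,
      Category.assoc, hηw, ← GrothLib.Pushout6.inr_objIso hC hP, ← Category.assoc c.hV.fromSpec,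
      GrothLib.Pushout6.fromSpec_inr, Category.assoc]
    rfl
  have happb : b.app V.1 = b.appLE V.1 c.U hU.ge ≫ Xt.presheaf.map (eqToHom hU).op := by
    rw [Scheme.Hom.appLE_map, Scheme.Hom.app_eq_appLE]
  have happj : j.app V.1 = j.appLE V.1 c.V hV.ge ≫ D.presheaf.map (eqToHom hV).op := by
    rw [Scheme.Hom.appLE_map, Scheme.Hom.app_eq_appLE]
  have happi : c.p = Xt.presheaf.map (eqToHom hU).op ≫ ι.app (b ⁻¹ᵁ V.1) ≫
      Dt.presheaf.map (eqToHom (congrArg (ι ⁻¹ᵁ ·) hU.symm)).op := by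
    rw [Scheme.Hom.app_eq_appLE, Scheme.Hom.appLE_map, Scheme.Hom.map_appLE, GrothLib.Pushout6.Chart.p]
  have hle : (j.ker).comap b ≤ ι.ker := by
    rw [← Scheme.IdealSheafData.le_map_iff_comap_le, Scheme.IdealSheafData.map_ker, hP.w]
    exact Scheme.Hom.le_ker_comp _ _
  refine ⟨V, hxV, hVO, ⟨fun y hy hy0 => ?_, fun y hy => ?_, fun k hk => ?_⟩⟩
  · rw [Scheme.Hom.ker_apply, RingHom.mem_ker] at hy
    rw [happb, hg.symm] at hy0
    rw [happj, hf.symm] at hy
    have h1 : η y = 0 := c.fibreSquare.inj _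
      ((map_eq_zero_iff _ (ConcreteCategory.bijective_of_isIso (D.presheaf.map (eqToHom hV).op)).1).1 hy)
      ((map_eq_zero_iff _ (ConcreteCategory.bijective_of_isIso (Xt.presheaf.map (eqToHom hU).op)).1).1 hy0)
    exact (map_eq_zero_iff _ (ConcreteCategory.bijective_of_isIso η).1).1 h1
  · refine hle _ ?_
    rw [ideal_comap_eq_map j.ker b V ⟨b ⁻¹ᵁ V.1, V.2.preimage b⟩ le_rfl, ← Scheme.Hom.app_eq_appLE]
    exact Ideal.mem_map_of_mem _ hy
  · rw [Scheme.Hom.ker_apply, RingHom.mem_ker] at hk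
    obtain ⟨k', rfl⟩ := (ConcreteCategory.bijective_of_isIso (Xt.presheaf.map (eqToHom hU).op)).2 k
    have h2 : c.p k' = 0 := by
      rw [happi]
      show Dt.presheaf.map _ (ι.app _ (Xt.presheaf.map (eqToHom hU).op k')) = 0
      rw [hk, map_zero]
    obtain ⟨r, hr1, hr2⟩ := c.exists_f_zero h2
    obtain ⟨y, rfl⟩ := (ConcreteCategory.bijective_of_isIso η).2 r
    refine ⟨y, ?_, ?_⟩
    · rw [Scheme.Hom.ker_apply, RingHom.mem_ker, happj, ← hf]
      show D.presheaf.map (eqToHom hV).op (c.f (η y)) = 0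
      rw [hr1, map_zero]
    · rw [happb, ← hg]
      show Xt.presheaf.map (eqToHom hU).op (c.g (η y)) = _
      rw [hr2]

theorem flat_quot_pow {R A B : Type u} [CommRing R] [CommRing A] [CommRing B] (ρ : R →+* A) (g : A →+* B)
    (I : Ideal A) (K : Ideal B) (hinj : ∀ x ∈ I, g x = 0 → x = 0) (hmem : ∀ x ∈ I, g x ∈ K)
    (hsurj : ∀ k ∈ K, ∃ x ∈ I, g x = k) {n : ℕ} (hn : 1 ≤ n)
    (h1 : ((Ideal.Quotient.mk I).comp ρ).Flat) (h2 : ((Ideal.Quotient.mk (K ^ n)).comp (g.comp ρ)).Flat)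
    (h3 : ((Ideal.Quotient.mk K).comp (g.comp ρ)).Flat) :
    ((Ideal.Quotient.mk (I ^ n)).comp ρ).Flat := by
  have hpow : ∀ m, 1 ≤ m → ∀ z ∈ K ^ m, ∃ x ∈ I ^ m, g x = z := fun m hm => by
    induction m, hm using Nat.le_induction with
    | base => simpa only [pow_one] using hsurj
    | succ m hm ih =>
      intro z hz
      rw [pow_succ] at hz
      induction hz using Submodule.mul_induction_on' with
      | mem_mul_mem u hu v hv =>
        obtain ⟨x, hx, rfl⟩ := ih u hu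
        obtain ⟨y, hy, rfl⟩ := hsurj v hv
        exact ⟨x * y, by rw [pow_succ]; exact Ideal.mul_mem_mul hx hy, map_mul g x y⟩
      | add u hu v hv h h' =>
        obtain ⟨x, hx, rfl⟩ := h
        obtain ⟨y, hy, rfl⟩ := h'
        exact ⟨x + y, add_mem hx hy, map_add g x y⟩
  have hle : I ^ n ≤ I := Ideal.pow_le_self (by omega)
  have hKle : K ^ n ≤ K := Ideal.pow_le_self (by omega)
  have hIK : I ≤ K.comap g := fun x hx => hmem x hx
  have hIKn : I ^ n ≤ (K ^ n).comap g := (Ideal.pow_right_mono hIK n).trans (Ideal.le_comap_pow g n)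
  letI : Algebra R A := ρ.toAlgebra
  letI : Algebra R B := (g.comp ρ).toAlgebra
  haveI : Module.Flat R (A ⧸ I) := RingHom.flat_algebraMap_iff.1 h1
  haveI : Module.Flat R (B ⧸ K ^ n) := RingHom.flat_algebraMap_iff.1 h2
  haveI : Module.Flat R (B ⧸ K) := RingHom.flat_algebraMap_iff.1 h3
  let gA : A →ₐ[R] B := { g with commutes' := fun _ => rfl }
  refine RingHom.flat_algebraMap_iff.2 (GrothLib.Pushout6.flat_of_fibreSquare
    (f := Ideal.Quotient.factorₐ R hle) (g := Ideal.quotientMapₐ (K ^ n) gA hIKn)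
    (q := Ideal.quotientMapₐ K gA hIK) (p := Ideal.Quotient.factorₐ R hKle) ⟨?_, ?_, ?_, ?_⟩)
  · refine RingHom.ext fun x => ?_
    obtain ⟨x, rfl⟩ := Ideal.Quotient.mk_surjective x
    rfl
  · intro x hx hx'
    obtain ⟨x, rfl⟩ := Ideal.Quotient.mk_surjective x
    have hxI : x ∈ I := Ideal.Quotient.eq_zero_iff_mem.1 hx
    obtain ⟨y, hy, hgy⟩ := hpow n hn (g x) (Ideal.Quotient.eq_zero_iff_mem.1 hx')
    rw [Ideal.Quotient.eq_zero_iff_mem]
    rwa [← sub_eq_zero.1 (hinj (y - x) (sub_mem (hle hy) hxI) (by rw [map_sub, hgy, sub_self]))]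
  · intro u v huv
    obtain ⟨u, rfl⟩ := Ideal.Quotient.mk_surjective u
    obtain ⟨v, rfl⟩ := Ideal.Quotient.mk_surjective v
    have : g u - v ∈ K := Ideal.Quotient.eq.1 huv
    obtain ⟨y, hy, hgy⟩ := hsurj _ this
    refine ⟨Ideal.Quotient.mk (I ^ n) (u - y), ?_, ?_⟩
    · exact Ideal.Quotient.eq.2 (by simpa using hy)
    · exact congrArg (Ideal.Quotient.mk (K ^ n)) (show g (u - y) = v by rw [map_sub, hgy, sub_sub_cancel])
  · exact Ideal.Quotient.factor_surjective hKle

/-- Let ι : D̃ → X̃ be a closed immersion whose ideal is effective Cartier, h : D̃ → D finite flat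
surjective, all flat over a scheme S, and let (ι, h, b : X̃ → X, j : D → X) be a pushout of schemes
with b affine and j a closed immersion, X carrying the induced morphism to S. Then the closed
subschemes of X defined by the powers I_D^n, n ≥ 1, are flat over S (so blowing up X in I_D commutes
with base change), b is a blowing up of X in I_D, and the inverse image ideal of I_D along b is the
ideal of D̃: the pair (X̃, D̃) is recovered from (X, D) by blowing up. (The published statement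
assumes all three schemes proper, flat and finitely presented over S and D̃ → D only finite flat,
takes for X the pushout built affine-locally from fibre products of rings — for which X̃ → X is
affine and D → X a closed immersion — and also asserts that X is proper and finitely presented over
S; this row assumes only flatness over S and D̃ → D surjective, takes such a pushout as given, and
does not assert properness or finite presentation of X. The affineness of X̃ → X cannot be dropped: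
the affine line with doubled origin, with its two origins pinched to one point, has the affine line
itself as pushout in the category of schemes, and the line is its own blowing up at the origin.) -/
theorem result {S Xt Dt D X : Scheme.{u}}
    (ι : Dt ⟶ Xt) [IsClosedImmersion ι] (hι : BlowUp.IsEffCartierIdeal ι.ker)
    (h : Dt ⟶ D) [IsFinite h] [Flat h] [Surjective h]
    (b : Xt ⟶ X) [IsAffineHom b] (j : D ⟶ X) [IsClosedImmersion j] (hP : IsPushout ι h b j)
    (sX : X ⟶ S) [Flat (b ≫ sX)] [Flat (j ≫ sX)] [Flat (ι ≫ b ≫ sX)] :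
    (∀ n : ℕ, 1 ≤ n → Flat ((j.ker ^ n).subschemeι ≫ sX)) ∧
    BlowUp.IsBlowUp b j.ker ∧ j.ker.comap b = ι.ker := by
  have hgood : ∀ (O : X.Opens) (x : X), x ∈ O → ∃ V : X.affineOpens, x ∈ V.1 ∧ V.1 ≤ O ∧ Good b j.ker ι.ker V :=
    fun O x hx => good_of_chart hP O hx
  have heq : j.ker.comap b = ι.ker := by
    choose V hxV hVO hV using fun x : X => hgood ⊤ x trivial
    refine Scheme.IdealSheafData.ext_of_iSup_eq_top (fun x => (⟨b ⁻¹ᵁ (V x).1, (V x).2.preimage b⟩ : Xt.affineOpens))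
      (top_unique fun x _ => TopologicalSpace.Opens.mem_iSup.2 ⟨b x, hxV (b x)⟩) fun x => ?_
    exact (hV x).comap_eq
  have hj1 : Flat (j.ker.subschemeι ≫ sX) := by
    have : Flat (j.toImage ≫ j.ker.subschemeι ≫ sX) := by
      rw [← Category.assoc]
      show Flat ((j.toImage ≫ j.imageι) ≫ sX)
      rw [Scheme.Hom.toImage_imageι]
      infer_instance
    exact (MorphismProperty.cancel_left_of_respectsIso @Flat j.toImage _).1 this
  have hι1 : Flat (ι.ker.subschemeι ≫ b ≫ sX) := by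
    have : Flat (ι.toImage ≫ ι.ker.subschemeι ≫ b ≫ sX) := by
      rw [← Category.assoc]
      show Flat ((ι.toImage ≫ ι.imageι) ≫ b ≫ sX)
      rw [Scheme.Hom.toImage_imageι]
      infer_instance
    exact (MorphismProperty.cancel_left_of_respectsIso @Flat ι.toImage _).1 this
  have hpow : ∀ n : ℕ, 1 ≤ n → BlowUp.IsEffCartierIdeal (ι.ker ^ n) ∧ Flat ((ι.ker ^ n).subschemeι ≫ b ≫ sX) := by
    intro n hn
    induction n, hn using Nat.le_induction with
    | base => rw [pow_one]; exact ⟨hι, hι1⟩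
    | succ n hn ih =>
      rw [pow_succ]
      haveI := ih.2
      exact ⟨GrothLib.BlowUp.isEffCartierIdeal_mul ih.1 hι, GrothLib.BlowUp.relEffCartier_mul ih.1 hι⟩
  refine ⟨fun n hn => ?_, isBlowUp_of_good (K := ι.ker) (fun x => ?_) (heq ▸ hι), heq⟩
  · refine GrothLib.BlowUp.flat_of_forall_exists sX (j.ker ^ n) fun x => ?_
    obtain ⟨U, hU, -⟩ := GrothLib.BlowUp.exists_affine_mem_le (W := (⊤ : S.Opens)) (x := sX x) trivial
    obtain ⟨V, hxV, hVU, hV⟩ := hgood (sX ⁻¹ᵁ U.1) x hU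
    refine ⟨U, V, hVU, hxV, ?_⟩
    let W : Xt.affineOpens := ⟨b ⁻¹ᵁ V.1, V.2.preimage b⟩
    have hWU : W.1 ≤ (b ≫ sX) ⁻¹ᵁ U.1 := fun y hy => hVU hy
    have hcomp : (b.app V.1).hom.comp (sX.appLE U.1 V.1 hVU).hom = ((b ≫ sX).appLE U.1 W.1 hWU).hom := by
      rw [← Scheme.Hom.appLE_comp_appLE b sX U.1 V.1 W.1 hVU le_rfl, Scheme.Hom.app_eq_appLE]
      rfl
    haveI := (hpow n hn).2
    have h2 := GrothLib.BlowUp.flat_quot_of_flat (b ≫ sX) (ι.ker ^ n) U W hWU
    have h3 := GrothLib.BlowUp.flat_quot_of_flat (b ≫ sX) ι.ker U W hWU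
    rw [← hcomp] at h2 h3
    rw [Scheme.IdealSheafData.ideal_pow, Pi.pow_apply] at h2 ⊢
    exact flat_quot_pow _ (b.app V.1).hom (j.ker.ideal V) (ι.ker.ideal W) hV.inj hV.mem hV.surj hn
      (GrothLib.BlowUp.flat_quot_of_flat sX j.ker U V hVU) h2 h3
  · obtain ⟨V, hxV, -, hV⟩ := hgood ⊤ x trivial
    exact ⟨V, hxV, hV⟩

end Groth.Agent.S14099
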