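import Groth.Statements.S1410
import Groth.Agent.Lib.H1Fib29.Global

set_option autoImplicit false
universe u
open FlatMor

namespace Groth.Agent.S1410

open AlgebraicGeometry CategoryTheory Limits in
/-- Let f : X → Y be proper with every fibre of dimension at most 1 and with H^1(X_y, O) = 0 for all y,
and assume O_Y → f_* O_X is surjective (checked on affine opens). Then for every base change f' : X'
→ Y' of f, O_{Y'} → f'_* O_{X'} is surjective on every affine open of Y'. -/
theorem result {X Y : Scheme.{u}} (f : X ⟶ Y) [IsProper f]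
    (hdim : ∀ y : Y, topologicalKrullDim ↑(f.fiber y) ≤ 1) (hH1 : ∀ y : Y, Subsingleton (Coh.HH (f.fiber y) (Coh.structureModule (f.fiber y)) 1))
    (hsurj : ∀ U : Y.Opens, IsAffineOpen U → Function.Surjective (f.app U))
    {X' Y' : Scheme.{u}} (f' : X' ⟶ Y') (g' : X' ⟶ X) (g : Y' ⟶ Y) (hc : IsPullback g' f' f g) :
    ∀ U' : Y'.Opens, IsAffineOpen U' → Function.Surjective (f'.app U') := by
  intro U' hU'
  haveI : IsProper f' := MorphismProperty.of_isPullback hc ‹IsProper f›
  haveI := GrothLib.H1Fib29.isQuasicoherent_structure Y'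
  haveI := GrothLib.H1Fib29.isQuasicoherent_structure X'
  haveI := GrothLib.QCoh.isQuasicoherent_pushforward f' (Coh.structureModule X')
  haveI : Epi (ClSub.unitToPush f') := by
    have key : ∀ y' : Y', ∃ W : Y'.Opens, IsAffineOpen W ∧ y' ∈ W ∧ Function.Surjective (f'.app W) := fun y' => by
      obtain ⟨V, hV, hyV, -⟩ := exists_isAffineOpen_mem_and_subset (x := g y') (U := (⊤ : Y.Opens)) trivial
      obtain ⟨W, hW, hyW, hWV⟩ := exists_isAffineOpen_mem_and_subset (x := y') (U := g ⁻¹ᵁ V) hyV
      exact ⟨W, hW, hyW, GrothLib.H1Fib29.surjective_app_baseChange f hdim hH1 hsurj f' g' g hc hV hW hWV⟩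
    choose W hW hyW hs using key
    refine Abelian.epi_of_cokernel_π_eq_zero _ (GrothLib.RLpsi8.TopDegree.hom_eq_zero
      (cokernel.π (ClSub.unitToPush f')) W hW (fun y => ⟨y, hyW y⟩) fun y t => ?_)
    obtain ⟨s, rfl⟩ := hs y t
    exact congrArg (fun m : Coh.structureModule Y' ⟶ _ => m.app _ s) (cokernel.condition (ClSub.unitToPush f'))
  have hS : (ShortComplex.mk (kernel.ι (ClSub.unitToPush f')) (ClSub.unitToPush f')
      (kernel.condition _)).ShortExact := { exact := ShortComplex.exact_kernel _ }
  haveI : (kernel (ClSub.unitToPush f')).IsQuasicoherent := GrothLib.QCoh.isQuasicoherent_kernel _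
  exact GrothLib.QCoh.app_surjective_of_isAffineOpen hS hU'

end Groth.Agent.S1410
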