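import Groth.Statements.S14101
import Mathlib
import Groth.Agent.S2073

set_option autoImplicit false
universe u w
open CAlg

namespace Groth.Agent.S14101

/-- Primes `p` modulo which some element is nilpotent but non-zero. -/
def bad (A : Type u) [CommRing A] : Set ℕ :=
  {p | p.Prime ∧ ∃ (a : A) (k : ℕ), (p : A) ∣ a ^ k ∧ ¬ (p : A) ∣ a}

theorem finite_torsion_primes {R : Type u} [CommRing R] [IsNoetherianRing R] (M : Type u)
    [AddCommGroup M] [Module R M] [Module.Finite R M] :
    {p : ℕ | p.Prime ∧ ∃ m : M, m ≠ 0 ∧ (p : R) • m = 0}.Finite := by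
  refine ((associatedPrimes.finite R M).biUnion (t := fun Q => {p : ℕ | p.Prime ∧ (p : R) ∈ Q}) ?_).subset ?_
  · intro Q hQ
    refine Set.Subsingleton.finite fun p hp q hq => ?_
    by_contra hne
    have hco : IsCoprime (p : R) (q : R) := ((Nat.coprime_primes hp.1 hq.1).mpr hne).cast
    obtain ⟨x, y, hxy⟩ := hco
    exact hQ.isPrime.ne_top ((Ideal.eq_top_iff_one _).mpr
      (hxy ▸ add_mem (Q.mul_mem_left x hp.2) (Q.mul_mem_left y hq.2)))
  · rintro p ⟨hp, m, hm, hpm⟩
    have h : (p : R) ∈ ⋃ Q ∈ associatedPrimes R M, (Q : Set R) := by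
      rw [biUnion_associatedPrimes_eq_zero_divisors]
      exact ⟨m, hm, hpm⟩
    obtain ⟨Q, hQ, hpQ⟩ := Set.mem_iUnion₂.mp h
    exact Set.mem_iUnion₂.mpr ⟨Q, hQ, hp, hpQ⟩

theorem trace_dvd {B K : Type w} {S L : Type u} [CommRing B] [IsDomain B] [IsIntegrallyClosed B] [CommRing S]
    [Algebra B S] [Module.Finite B S] [Field K] [Algebra B K] [IsFractionRing B K] [Field L] [Algebra K L]
    [Algebra B L] [IsScalarTower B K L] [Algebra S L] [IsScalarTower B S L] [FiniteDimensional K L]
    [Algebra.IsSeparable K L] {p : ℕ} (hp : p.Prime) (hpB : Prime (p : B)) (x : S) (k : ℕ)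
    (hx : (p : S) ∣ x ^ k) : ∃ t : B, Algebra.trace K L (algebraMap S L x) = algebraMap B K (p * t) := by
  classical
  let E := AlgebraicClosure K
  let O := integralClosure B E
  obtain ⟨w, hw⟩ := hx
  have hint : IsIntegral B (algebraMap S L x) := (Algebra.IsIntegral.isIntegral x).map (IsScalarTower.toAlgHom B S L)
  obtain ⟨t, ht⟩ := IsIntegrallyClosed.isIntegral_iff.mp (Algebra.isIntegral_trace (L := K) hint)
  suffices h : (p : B) ∣ t by
    obtain ⟨c, rfl⟩ := h
    exact ⟨c, ht.symm⟩
  let z : (L →ₐ[K] E) → O := fun σ =>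
    ⟨σ (algebraMap S L x), hint.map (σ.restrictScalars B)⟩
  have hz : ∀ σ, z σ ^ p ^ k ∈ Ideal.span {(p : O)} := fun σ => by
    refine Ideal.mem_span_singleton.mpr (dvd_trans ?_ (pow_dvd_pow (z σ) (Nat.lt_pow_self hp.one_lt).le))
    refine ⟨⟨σ (algebraMap S L w), ((Algebra.IsIntegral.isIntegral w).map (IsScalarTower.toAlgHom B S L)).map (σ.restrictScalars B)⟩, ?_⟩
    refine Subtype.ext ?_
    show σ (algebraMap S L x) ^ k = ((p : O) : E) * σ (algebraMap S L w)
    rw [← map_pow, ← map_pow, hw, map_mul, map_mul, map_natCast, map_natCast]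
    simp
  have hsum : (∑ σ, z σ) ^ p ^ k ∈ Ideal.span {(p : O)} := by
    by_cases htop : Ideal.span {(p : O)} = ⊤
    · rw [htop]; trivial
    have : Nontrivial (O ⧸ Ideal.span {(p : O)}) := Ideal.Quotient.nontrivial_iff.mpr htop
    have hc : CharP (O ⧸ Ideal.span {(p : O)}) p := by
      refine (CharP.charP_iff_prime_eq_zero hp).mpr ?_
      rw [← map_natCast (Ideal.Quotient.mk (Ideal.span {(p : O)})), Ideal.Quotient.eq_zero_iff_mem]
      exact Ideal.mem_span_singleton_self _
    have : Fact p.Prime := ⟨hp⟩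
    rw [← Ideal.Quotient.eq_zero_iff_mem, map_pow, map_sum, sum_pow_char_pow]
    refine Finset.sum_eq_zero fun σ _ => ?_
    rw [← map_pow, Ideal.Quotient.eq_zero_iff_mem]
    exact hz σ
  obtain ⟨u, hu⟩ := Ideal.mem_span_singleton.mp hsum
  have hu' : algebraMap B E t ^ p ^ k = (p : E) * (u : E) := by
    have h1 := congrArg Subtype.val hu
    simp only [SubmonoidClass.coe_pow, AddSubmonoidClass.coe_finsetSum, MulMemClass.coe_mul, z] at h1
    rw [IsScalarTower.algebraMap_apply B K E, ht, trace_eq_sum_embeddings (E := E), h1]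
    simp
  refine hpB.dvd_of_dvd_pow (n := p ^ k) ?_
  have hpK : algebraMap B K (p : B) ≠ 0 :=
    (map_ne_zero_iff _ (IsFractionRing.injective B K)).mpr hpB.ne_zero
  have hpE : (p : E) ≠ 0 := by
    rw [← map_natCast (algebraMap K E), ← map_natCast (algebraMap B K)]
    exact (map_ne_zero _).mpr hpK
  have hq : IsIntegral B (algebraMap B K (t ^ p ^ k) / algebraMap B K (p : B)) := by
    refine (isIntegral_algHom_iff (IsScalarTower.toAlgHom B K E) (algebraMap K E).injective).mp ?_
    rw [IsScalarTower.coe_toAlgHom', map_div₀, ← IsScalarTower.algebraMap_apply, ← IsScalarTower.algebraMap_apply,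
      map_pow, hu', map_natCast, mul_div_cancel_left₀ _ hpE]
    exact u.2
  obtain ⟨c, hc⟩ := IsIntegrallyClosed.isIntegral_iff.mp hq
  refine ⟨c, IsFractionRing.injective B K ?_⟩
  rw [map_mul, hc, mul_div_cancel₀ _ hpK]

theorem exists_mul_dvd (B : Type w) (S : Type u) [CommRing B] [IsDomain B] [IsIntegrallyClosed B] [CharZero B]
    [CommRing S] [IsDomain S] [Algebra B S] [Module.Finite B S] [FaithfulSMul B S] :
    ∃ D : S, D ≠ 0 ∧ ∀ p : ℕ, p.Prime → Prime (p : B) → ∀ (a : S) (k : ℕ), (p : S) ∣ a ^ k → (p : S) ∣ D * a := by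
  classical
  let K := FractionRing B
  let L := FractionRing S
  let _ : Algebra K L := FractionRing.liftAlgebra B L
  have : CharZero K := charZero_of_injective_algebraMap (IsFractionRing.injective B K)
  have hrep : ∀ x : L, ∃ (b : B) (s : S), b ≠ 0 ∧ algebraMap B L b * x = algebraMap S L s := fun x => by
    obtain ⟨s, ⟨s', hs'⟩, rfl⟩ := IsLocalization.exists_mk'_eq (nonZeroDivisors S) x
    obtain ⟨b, hb, u, hu⟩ := (Algebra.IsIntegral.isIntegral (R := B) s').isAlgebraic.exists_nonzero_dvd hs'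
    refine ⟨b, u * s, hb, ?_⟩
    rw [IsScalarTower.algebraMap_apply B S L, hu, map_mul, map_mul, mul_comm (algebraMap S L s'), mul_assoc,
      IsLocalization.mk'_spec'_mk]
  obtain ⟨n, g, hg⟩ := Module.Finite.exists_fin (R := B) (M := S)
  have hspan : Submodule.span K (Set.range fun i => algebraMap S L (g i)) = ⊤ := by
    refine eq_top_iff.mpr fun x _ => ?_
    obtain ⟨b, s, hb, hbx⟩ := hrep x
    have hs : algebraMap S L s ∈ Submodule.span K (Set.range fun i => algebraMap S L (g i)) := by
      refine Submodule.span_le_restrictScalars B K _ ?_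
      rw [show (Set.range fun i => algebraMap S L (g i)) =
        (IsScalarTower.toAlgHom B S L).toLinearMap '' Set.range g from Set.range_comp _ g, ← Submodule.map_span, hg]
      exact ⟨s, trivial, rfl⟩
    have hbK : algebraMap B K b ≠ 0 := (map_ne_zero_iff _ (IsFractionRing.injective B K)).mpr hb
    have hx : x = (algebraMap B K b)⁻¹ • algebraMap S L s := by
      rw [← hbx, eq_inv_smul_iff₀ hbK, algebraMap_smul, Algebra.smul_def]
    rw [hx]
    exact Submodule.smul_mem _ _ hs
  have : FiniteDimensional K L := ⟨⟨Finset.univ.image fun i => algebraMap S L (g i), by simpa using hspan⟩⟩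
  let T : L →ₗ[K] (Fin n → K) := LinearMap.pi fun i => Algebra.traceForm K L (algebraMap S L (g i))
  have hT : LinearMap.ker T = ⊥ := by
    refine eq_bot_iff.mpr fun x hx => ?_
    have h1 : Algebra.traceForm K L x = 0 := LinearMap.ext_on_range hspan fun i => by
      have := congrFun hx i
      simp only [T, LinearMap.pi_apply, Algebra.traceForm_apply, Pi.zero_apply] at this
      simpa [Algebra.traceForm_apply, mul_comm] using this
    exact (Submodule.mem_bot K).mpr ((traceForm_nondegenerate K L).1 x fun y => LinearMap.congr_fun h1 y)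
  obtain ⟨π, hπ⟩ := T.exists_leftInverse_of_injective hT
  choose b s hb hbs using fun j : Fin n => hrep (π (Pi.single j 1))
  refine ⟨algebraMap B S (∏ j, b j), ?_, fun p hp hpB a k hak => ?_⟩
  · rw [Ne, map_eq_zero_iff _ (FaithfulSMul.algebraMap_injective B S)]
    exact Finset.prod_ne_zero_iff.mpr fun j _ => hb j
  choose t ht using fun i => trace_dvd (K := K) (L := L) hp hpB (g i * a) k
    (by rw [mul_pow]; exact dvd_mul_of_dvd_right hak _)
  refine ⟨∑ j, algebraMap B S (t j * ∏ l ∈ Finset.univ.erase j, b l) * s j, IsFractionRing.injective S L ?_⟩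
  have hTa : T (algebraMap S L a) = ∑ j, (algebraMap B K (p * t j)) • Pi.single j 1 := by
    rw [← pi_eq_sum_univ' fun j => algebraMap B K (p * t j)]
    funext i
    rw [← ht i, map_mul]
    rfl
  have ha : algebraMap S L a = π (T (algebraMap S L a)) := (LinearMap.congr_fun hπ _).symm
  rw [map_mul, ha, hTa, map_sum, Finset.mul_sum, map_mul, map_natCast, map_sum, Finset.mul_sum]
  refine Finset.sum_congr rfl fun j _ => ?_
  rw [map_smul, algebraMap_smul, Algebra.smul_def, map_mul (algebraMap S L), ← hbs,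
    ← IsScalarTower.algebraMap_apply, ← IsScalarTower.algebraMap_apply, map_mul, map_mul, map_natCast,
    ← Finset.mul_prod_erase _ _ (Finset.mem_univ j), map_mul]
  ring

/-- `ℤ` in an arbitrary universe. -/
def ZU : Type u := ULift.{u} ℤ

noncomputable instance : CommRing ZU.{u} := inferInstanceAs (CommRing (ULift.{u} ℤ))

theorem finite_bad_domain (A : Type u) [CommRing A] [IsDomain A] [Algebra.FiniteType ℤ A] :
    (bad A).Finite := by
  by_cases hinj : Function.Injective (algebraMap ℤ A)
  swap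
  · rw [injective_iff_map_eq_zero] at hinj
    push Not at hinj
    obtain ⟨n, hn, hn0⟩ := hinj
    refine (Nat.divisors n.natAbs).finite_toSet.subset ?_
    rintro p ⟨hp, a, k, -, hna⟩
    refine Finset.mem_coe.mpr (Nat.mem_divisors.mpr ⟨?_, Int.natAbs_ne_zero.mpr hn0⟩)
    by_contra hdvd
    obtain ⟨x, y, hxy⟩ : IsCoprime (p : ℤ) n := by
      rw [Int.isCoprime_iff_nat_coprime, Int.natAbs_natCast]
      exact (hp.coprime_iff_not_dvd).mpr hdvd
    refine hna (IsUnit.dvd (IsUnit.of_mul_eq_one (algebraMap ℤ A x) ?_))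
    have := congrArg (algebraMap ℤ A) hxy
    rw [map_add, map_mul, map_mul, hn, mul_zero, add_zero, map_one, map_natCast] at this
    rwa [mul_comm]
  have : CharZero A := charZero_of_injective_algebraMap hinj
  let R := ZU.{u}
  let _ : Algebra R A := ((algebraMap ℤ A).comp (ULift.ringEquiv : ULift.{u} ℤ ≃+* ℤ).toRingHom).toAlgebra
  have hinjR : Function.Injective (algebraMap R A) := fun a b hab => ULift.ext _ _ (hinj hab)
  have : IsScalarTower ℤ R A := .of_algebraMap_eq' (RingHom.ext_int _ _)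
  have : Algebra.FiniteType R A := Algebra.FiniteType.of_restrictScalars_finiteType ℤ R A
  have : IsDomain R := hinjR.isDomain
  obtain ⟨d, y, S, hy, hyS, hSfg, hint, f, hf, hden⟩ := Groth.Agent.S2073.result (R := R) (S := A) hinjR
  let P := MvPolynomial (Fin d) ℤ
  let φ : P →ₐ[ℤ] A := MvPolynomial.aeval y
  let φS : P →ₐ[ℤ] S := MvPolynomial.aeval fun i => ⟨y i, hyS i⟩
  have hφS : ∀ q, (φS q : A) = φ q := fun q => by
    show ((S.val.restrictScalars ℤ).comp φS) q = φ q
    exact AlgHom.congr_fun (MvPolynomial.algHom_ext fun i => by simp only [AlgHom.comp_apply, φ, φS, MvPolynomial.aeval_X]; rfl) q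
  let e : P →+* MvPolynomial (Fin d) R := MvPolynomial.map (algebraMap ℤ R)
  have hφe : ∀ q, φ q = MvPolynomial.aeval (R := R) y (e q) := fun q => by
    exact (MvPolynomial.aeval_map_algebraMap R y q).symm
  have hφinj : Function.Injective φ := fun a b hab => by
    rw [hφe, hφe] at hab
    exact MvPolynomial.map_injective _ (fun m n h => hinj (by rw [IsScalarTower.algebraMap_apply ℤ R A, h, ← IsScalarTower.algebraMap_apply])) (hy hab)
  let _ : Algebra P S := φS.toRingHom.toAlgebra
  let _ : Algebra P A := φ.toRingHom.toAlgebra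
  let gY : P →+* Algebra.adjoin R (Set.range y) := φ.toRingHom.codRestrict _ fun q => by
    rw [Algebra.adjoin_range_eq_range_aeval]; exact ⟨e q, (hφe q).symm⟩
  have hgY : Function.Surjective gY := by
    rintro ⟨x, hx⟩
    rw [Algebra.adjoin_range_eq_range_aeval] at hx
    obtain ⟨q, rfl⟩ := hx
    obtain ⟨q', rfl⟩ := MvPolynomial.map_surjective (algebraMap ℤ R) (fun r => ⟨r.down, rfl⟩) q
    exact ⟨q', Subtype.ext (hφe q')⟩
  let _ : Algebra P (Algebra.adjoin R (Set.range y)) := gY.toAlgebra
  have : IsScalarTower P (Algebra.adjoin R (Set.range y)) A := .of_algebraMap_eq fun _ => rfl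
  have : IsScalarTower P S A := .of_algebraMap_eq fun q => (hφS q).symm
  have : Algebra.IsIntegral P (Algebra.adjoin R (Set.range y)) :=
    ⟨RingHom.isIntegral_of_surjective (algebraMap P (Algebra.adjoin R (Set.range y))) hgY⟩
  have : Algebra.IsIntegral P S := ⟨fun s => (isIntegral_algHom_iff (IsScalarTower.toAlgHom P S A)
    Subtype.val_injective).mp (isIntegral_trans _ (hint s s.2))⟩
  have : Algebra.FiniteType R S := (Subalgebra.fg_iff_finiteType S).mp hSfg
  have : Algebra.FiniteType ℤ R := Algebra.FiniteType.of_surjective (Algebra.ofId ℤ R) fun r => ⟨r.down, rfl⟩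
  have : Algebra.FiniteType ℤ S := Algebra.FiniteType.trans (inferInstance : Algebra.FiniteType ℤ R) (inferInstance : Algebra.FiniteType R S)
  have : IsScalarTower ℤ P S := .of_algebraMap_eq fun n => (φS.commutes n).symm
  have : Algebra.FiniteType P S := Algebra.FiniteType.of_restrictScalars_finiteType ℤ P S
  have : Module.Finite P S := Algebra.IsIntegral.finite
  have : FaithfulSMul P S := (faithfulSMul_iff_algebraMap_injective P S).mpr fun a b hab =>
    hφinj (by rw [← hφS, ← hφS]; exact congrArg Subtype.val hab)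
  obtain ⟨D, hD, hDp⟩ := exists_mul_dvd P S
  have : IsNoetherianRing S := Algebra.FiniteType.isNoetherianRing ℤ S
  refine ((Nat.divisors f.down.natAbs).finite_toSet.union
    (finite_torsion_primes (S ⧸ Ideal.span {D}) (R := S))).subset ?_
  rintro p ⟨hp, a, k, hak, hna⟩
  by_contra hnot
  simp only [Set.mem_union, Finset.mem_coe, Nat.mem_divisors, Set.mem_setOf_eq, not_or, not_and,
    not_exists] at hnot
  obtain ⟨hpf, htor⟩ := hnot
  have hf0 : f.down.natAbs ≠ 0 := Int.natAbs_ne_zero.mpr fun h => hf (ULift.ext _ _ h)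
  have hpf' : ¬ p ∣ f.down.natAbs := fun h => hpf h hf0
  obtain ⟨u, v, huv⟩ : IsCoprime (p : ℤ) f.down := by
    rw [Int.isCoprime_iff_nat_coprime, Int.natAbs_natCast]
    exact (hp.coprime_iff_not_dvd).mpr hpf'
  set F : A := algebraMap R A f
  obtain ⟨b, hb⟩ := hak
  obtain ⟨N, hN⟩ := hden a
  obtain ⟨M, hM⟩ := hden b
  simp only [Algebra.smul_def, map_pow] at hN hM
  have hFS : F ∈ S := S.algebraMap_mem f
  let a' : S := ⟨F ^ (N + M) * a, by rw [pow_add, mul_comm (F ^ N), mul_assoc]; exact mul_mem (pow_mem hFS _) hN⟩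
  have hak' : (p : S) ∣ a' ^ (k + 1) := by
    refine ⟨⟨F ^ ((N + M) * k + N) * (F ^ M * b) * a, ?_⟩, ?_⟩
    · rw [pow_add, show F ^ ((N + M) * k) * F ^ N * (F ^ M * b) * a = F ^ ((N + M) * k) * (F ^ M * b) * (F ^ N * a) by ring]
      exact mul_mem (mul_mem (pow_mem hFS _) hM) hN
    · refine Subtype.ext ?_
      simp only [a', SubmonoidClass.coe_pow, MulMemClass.coe_mul]
      push_cast
      rw [mul_pow, ← pow_mul, pow_succ a, hb]
      ring
  have hpP : Prime (p : P) := by
    rw [← map_natCast (MvPolynomial.C : ℤ →+* P)]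
    exact (MvPolynomial.prime_C_iff (σ := Fin d)).mpr (Nat.prime_iff_prime_int.mp hp)
  obtain ⟨w, hw⟩ := hDp p hp hpP a' (k + 1) hak'
  obtain ⟨c, hc⟩ : D ∣ w := by
    by_contra hDw
    refine htor hp (Ideal.Quotient.mk _ w) (fun h0 => hDw (Ideal.mem_span_singleton.mp (Ideal.Quotient.eq_zero_iff_mem.mp h0))) ?_
    show Ideal.Quotient.mk _ ((p : S) * w) = 0
    rw [Ideal.Quotient.eq_zero_iff_mem, ← hw]
    exact Ideal.mem_span_singleton.mpr (dvd_mul_right D a')
  have hac : a' = (p : S) * c := mul_left_cancel₀ hD (by rw [hw, hc]; ring)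
  have h1 : (p : A) ∣ F ^ (N + M) * a := ⟨c, by
    have := congrArg Subtype.val hac
    simpa [a'] using this⟩
  have hFu : (p : A) ∣ (F * algebraMap ℤ A v - 1) := by
    refine ⟨- algebraMap ℤ A u, ?_⟩
    have h2 := congrArg (algebraMap ℤ A) huv
    have hFd : F = algebraMap ℤ A f.down := rfl
    rw [map_add, map_mul, map_mul, map_one, map_natCast] at h2
    rw [hFd]
    linear_combination h2
  refine hna ?_
  rw [← Ideal.mem_span_singleton, ← Ideal.Quotient.eq_zero_iff_mem] at h1 hFu ⊢
  rw [map_sub, map_mul, map_one, sub_eq_zero] at hFu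
  rw [map_mul, map_pow] at h1
  exact (IsUnit.mul_right_eq_zero ((IsUnit.of_mul_eq_one _ hFu).pow _)).mp h1

/-- Affine form — let A be a reduced commutative ring of finite type over ℤ. Then for all but finitely
many prime numbers p the reduction A/pA is reduced. (The published statement is for a reduced scheme
of finite type over ℤ; such a scheme has a finite affine open cover, so the affine form carries the
same content.) -/
theorem result
    (A : Type u) [CommRing A] [Algebra.FiniteType ℤ A] [IsReduced A] :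
    {p : ℕ | p.Prime ∧ ¬ IsReduced (A ⧸ Ideal.span {(p : A)})}.Finite := by
  classical
  have : IsNoetherianRing A := Algebra.FiniteType.isNoetherianRing ℤ A
  let ι := {P : Ideal A // P ∈ minimalPrimes A}
  have : Finite ι := (Ideal.finite_minimalPrimes_of_isNoetherianRing A ⊥).to_subtype
  let ψ : A →ₗ[A] (∀ P : ι, A ⧸ P.1) := LinearMap.pi fun P => Submodule.mkQ P.1
  have hψ : Function.Injective ψ := by
    rw [← LinearMap.ker_eq_bot, eq_bot_iff]
    intro x hx
    have : x ∈ nilradical A := by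
      rw [nilradical, Ideal.zero_eq_bot, ← Ideal.sInf_minimalPrimes, Submodule.mem_sInf]
      exact fun P hP => (Submodule.Quotient.mk_eq_zero _).mp (congrFun hx ⟨P, hP⟩)
    rwa [nilradical_eq_zero, Ideal.zero_eq_bot] at this
  have hfin : ∀ P : ι, (bad (A ⧸ P.1)).Finite := fun P => by
    have := (P.2.1.1 : P.1.IsPrime)
    have : @Algebra.FiniteType ℤ (A ⧸ P.1) _ _ (Ring.toIntAlgebra _) :=
      Algebra.FiniteType.of_surjective (Ideal.Quotient.mk P.1).toIntAlgHom Ideal.Quotient.mk_surjective
    exact finite_bad_domain _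
  refine ((Set.finite_iUnion hfin).union
    (finite_torsion_primes ((∀ P : ι, A ⧸ P.1) ⧸ LinearMap.range ψ) (R := A))).subset ?_
  rintro p ⟨hp, hnr⟩
  rw [← Ideal.isRadical_iff_quotient_reduced, Ideal.isRadical_iff_pow_one_lt (k := 2) one_lt_two] at hnr
  push Not at hnr
  obtain ⟨a, ha2, ha⟩ := hnr
  rw [Ideal.mem_span_singleton] at ha ha2
  by_contra hnot
  simp only [Set.mem_union, Set.mem_iUnion, not_or, not_exists] at hnot
  obtain ⟨hgood, htor⟩ := hnot
  have hdiv : ∀ P : ι, ∃ z : A ⧸ P.1, Ideal.Quotient.mk P.1 a = (p : A ⧸ P.1) * z := fun P => by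
    by_contra h
    refine hgood P ⟨hp, Ideal.Quotient.mk P.1 a, 2, ?_, h⟩
    rw [← map_pow, ← map_natCast (Ideal.Quotient.mk P.1)]
    exact map_dvd _ ha2
  choose z hz using hdiv
  have hpz : (p : A) • z = ψ a := funext fun P => by
    rw [Pi.smul_apply, Algebra.smul_def, Ideal.Quotient.algebraMap_eq, map_natCast, ← hz P]
    rfl
  have hz0 : (Submodule.Quotient.mk z : (∀ P : ι, A ⧸ P.1) ⧸ LinearMap.range ψ) = 0 := by
    by_contra hne
    exact htor ⟨hp, _, hne, (Submodule.Quotient.mk_eq_zero _).mpr ⟨a, hpz.symm⟩⟩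
  obtain ⟨c, hc⟩ := (Submodule.Quotient.mk_eq_zero _).mp hz0
  exact ha ⟨c, hψ (by rw [← hpz, ← hc, ← map_smul, smul_eq_mul])⟩

end Groth.Agent.S14101
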