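import Groth.Statements.S14102
import Groth.Agent.Lib.KillHom.Basic

set_option autoImplicit false
universe w u
open DCoh

namespace Groth.Agent.S14102

open CategoryTheory MonoidalCategory in
/-- Affine form — let A be a Noetherian commutative ring, K a bounded cochain complex of finitely
generated projective A-modules and J an ideal of A that annihilates every cohomology module of K.
Then for some natural number n and every positive integer m, the map J^(n+m) ⊗_A K → J^m ⊗_A K
induced by the inclusion of ideals is zero in the derived category of A-modules. (The published
statement is for a perfect complex on a noetherian scheme or formal scheme with the derived tensor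
product; over an affine scheme a perfect complex is represented by a bounded complex of finitely
generated projective modules, for which the derived tensor product with J^m is the termwise tensor
product used here.) -/
theorem result
    (A : Type u) [CommRing A] [IsNoetherianRing A] [HasDerivedCategory.{w} (ModuleCat.{u} A)]
    (K : CochainComplex (ModuleCat.{u} A) ℤ) (a b : ℤ)
    (hK : ∀ q : ℤ, q < a ∨ b < q → Limits.IsZero (K.X q))
    (hfin : ∀ q : ℤ, Module.Finite A (K.X q)) (hproj : ∀ q : ℤ, Module.Projective A (K.X q))
    (J : Ideal A) (hJ : ∀ q : ℤ, ∀ x ∈ J, ∀ c : ↑(K.homology q), x • c = 0) :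
    ∃ n : ℕ, ∀ m : ℕ, 0 < m →
      DerivedCategory.Q.map
        ((NatTrans.mapHomologicalComplex
          ((curriedTensor (ModuleCat.{u} A)).map
            (ModuleCat.ofHom (Submodule.inclusion (p := J ^ (n + m)) (p' := J ^ m)
              (Ideal.pow_le_pow_right (Nat.le_add_left m n)))))
          (ComplexShape.up ℤ)).app K) = 0 := by
  obtain ⟨n, hn⟩ := GrothLib.KillHom.exists_pow_map_eq_zero J K a b hK hfin
    (fun q => have := hproj q; inferInstance) hJ
  exact ⟨n, fun m _ => hn m⟩

end Groth.Agent.S14102
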