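import Groth.Statements.S14104
-- import your own Groth.Agent.* helpers here
import Groth.Agent.Lib.DimCut.FibreStalk


set_option autoImplicit false
universe u
open CategoryTheory CategoryTheory.Limits AlgebraicGeometry Opposite TopologicalSpace
open CInt

namespace Groth.Agent.S14104

/-- Let f : X → S be a flat morphism of locally Noetherian schemes, Y a closed subset of X and d a
natural number. If for every point y of Y the local ring at y of the fibre of f through y has depth
at least d (the depth of O_{X_s} along Y_s is at least d for every s), then for every y ∈ Y the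
local ring O_{X,y} has depth at least d (the depth of O_X along Y is at least d). -/
theorem result {X S : Scheme.{u}} [IsLocallyNoetherian X] [IsLocallyNoetherian S]
    (f : X ⟶ S) [Flat f] (Y : Set ↥X) (hY : IsClosed Y) (d : ℕ)
    (h : ∀ y : ↥X, y ∈ Y → (d : ℕ∞) ≤ LocCoh.depth ↑(CInt.fiberStalk f y) ↑(CInt.fiberStalk f y)) :
    ∀ y : ↥X, y ∈ Y → (d : ℕ∞) ≤ LocCoh.depth ↑(X.presheaf.stalk y) ↑(X.presheaf.stalk y) := by
  intro y hy
  exact GrothLib.DimCut.depth_stalk_ge f y d (h y hy)

end Groth.Agent.S14104
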