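import Groth.Statements.S14105
-- import your own Groth.Agent.* helpers here
import Groth.Agent.Lib.DimCut.FibreStalk


set_option autoImplicit false
universe u
open CategoryTheory CategoryTheory.Limits AlgebraicGeometry Opposite TopologicalSpace
open CInt

namespace Groth.Agent.S14105

/-- Let f : X → S be a morphism and g : S' → S a base change, with X, S, S' and X' = X ×_S S' locally
Noetherian, and let Y be a closed subset of X with preimage Y' under the projection X' → X. Writing
the codimension of a closed subset relative to a morphism as the infimum, over its points, of the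
Krull dimension of the local ring of the fibre through that point: the codimension of Y' relative to
X' → S' is at least the codimension of Y relative to f, and the two are equal when the projection X'
→ X maps Y' onto Y. -/
theorem result {X S S' : Scheme.{u}} (f : X ⟶ S) (g : S' ⟶ S)
    [IsLocallyNoetherian X] [IsLocallyNoetherian S] [IsLocallyNoetherian S']
    [IsLocallyNoetherian (pullback f g)] (Y : Set ↥X) (hY : IsClosed Y) :
    ((⨅ y : Y, ringKrullDim ↑(CInt.fiberStalk f y.1)) ≤
      ⨅ y' : (fun x' => (pullback.fst f g) x') ⁻¹' Y,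
        ringKrullDim ↑(CInt.fiberStalk (pullback.snd f g) y'.1)) ∧
    (Y ⊆ Set.range (pullback.fst f g).base →
      (⨅ y' : (fun x' => (pullback.fst f g) x') ⁻¹' Y,
        ringKrullDim ↑(CInt.fiberStalk (pullback.snd f g) y'.1)) =
        ⨅ y : Y, ringKrullDim ↑(CInt.fiberStalk f y.1)) := by
  have hiso : ∀ s' : S', IsPullback
      (pullback.map _ _ _ _ (pullback.fst f g) (Spec.map (g.residueFieldMap s')) g
        pullback.condition.symm (by simp) :
        (pullback.snd f g).fiber s' ⟶ f.fiber (g s'))
      ((pullback.snd f g).fiberToSpecResidueField s') (f.fiberToSpecResidueField (g s'))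
      (Spec.map (g.residueFieldMap s')) := fun s' =>
    isPullback_fiberToSpecResidueField_of_isPullback (IsPullback.of_hasPullback f g) s'
  have hcompat : ∀ (s' : S') (z : (pullback.snd f g).fiber s'),
      f.fiberι (g s') ((pullback.map _ _ _ _ (pullback.fst f g) (Spec.map (g.residueFieldMap s')) g
        pullback.condition.symm (by simp) : (pullback.snd f g).fiber s' ⟶ f.fiber (g s')) z) =
      pullback.fst f g ((pullback.snd f g).fiberι s' z) := fun s' z => by
    exact congrArg (fun φ : (pullback.snd f g).fiber s' ⟶ X => φ z) (pullback.lift_fst _ _ _)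
  have hle : (⨅ y : Y, ringKrullDim ↑(CInt.fiberStalk f y.1)) ≤
      ⨅ y' : (fun x' => (pullback.fst f g) x') ⁻¹' Y,
        ringKrullDim ↑(CInt.fiberStalk (pullback.snd f g) y'.1) := by
    refine le_iInf fun ⟨x', hx'⟩ => (iInf_le _ (⟨pullback.fst f g x', hx'⟩ : Y)).trans ?_
    let s' := pullback.snd f g x'
    let a := (pullback.snd f g).asFiber x'
    let q : (pullback.snd f g).fiber s' ⟶ f.fiber (g s') :=
      pullback.map _ _ _ _ (pullback.fst f g) (Spec.map (g.residueFieldMap s')) g
        pullback.condition.symm (by simp)
    haveI : Flat (Spec.map (g.residueFieldMap s')) := by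
      rw [HasRingHomProperty.Spec_iff (P := @Flat)]
      letI := (g.residueFieldMap s').hom.toAlgebra
      exact inferInstanceAs (Module.Flat (S.residueField (g s')) (S'.residueField s'))
    haveI : Flat q := MorphismProperty.of_isPullback (hiso s').flip ‹_›
    have hq : f.fiberι (g s') (q a) = pullback.fst f g x' :=
      (hcompat s' a).trans (congrArg _ ((pullback.snd f g).fiberι_asFiber x'))
    haveI := GrothLib.DimCut.isNoetherianRing_stalk_fiber f _ (q a)
    haveI := GrothLib.DimCut.isNoetherianRing_stalk_fiber (pullback.snd f g) _ a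
    exact (GrothLib.DimCut.dim_stalk_fiber_eq f _ (q a) hq).ge.trans
      (GrothLib.DimCut.dim_stalk_le_of_flat q a)
  refine ⟨hle, fun hY' => le_antisymm (le_iInf fun ⟨y, hy⟩ => ?_) hle⟩
  obtain ⟨x', rfl⟩ := hY' hy
  let s' := pullback.snd f g x'
  let a := (pullback.snd f g).asFiber x'
  let q : (pullback.snd f g).fiber s' ⟶ f.fiber (g s') :=
    pullback.map _ _ _ _ (pullback.fst f g) (Spec.map (g.residueFieldMap s')) g
      pullback.condition.symm (by simp)
  have hq : f.fiberι (g s') (q a) = pullback.fst f g x' :=
    (hcompat s' a).trans (congrArg _ ((pullback.snd f g).fiberι_asFiber x'))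
  obtain ⟨z, -, hz, hdim⟩ := GrothLib.DimCut.exists_specializes_dim_le q a
    (GrothLib.DimCut.isNoetherianRing_stalk_fiber _ _)
    (GrothLib.DimCut.isNoetherianRing_stalk_fiber _ _)
  have hgz : pullback.fst f g ((pullback.snd f g).fiberι s' z) = pullback.fst f g x' :=
    ((hcompat s' z).symm.trans (congrArg _ hz)).trans hq
  refine (iInf_le _ (⟨(pullback.snd f g).fiberι s' z, show _ ∈ Y from Set.mem_of_eq_of_mem hgz hy⟩ :
    (fun x' => (pullback.fst f g) x') ⁻¹' Y)).trans ?_
  rw [← GrothLib.DimCut.dim_stalk_fiber_eq _ _ z rfl]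
  exact hdim.trans_eq (GrothLib.DimCut.dim_stalk_fiber_eq f _ (q a) hq)

end Groth.Agent.S14105
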