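import Groth.Statements.S14109
-- import your own Groth.Agent.* helpers here
import Groth.Agent.Lib.DimCut.FibreStalk


set_option autoImplicit false
universe u
open CategoryTheory CategoryTheory.Limits AlgebraicGeometry Opposite TopologicalSpace
open CInt

namespace Groth.Agent.S14109

/-- Let f : X → S and g : X' → X be morphisms of locally Noetherian schemes with g surjective, Y a
closed subset of X and Y' its preimage under g. Then the codimension of Y' relative to the composite
X' → S (the infimum over y' ∈ Y' of the Krull dimension of the local ring at y' of the fibre of that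
composite through y') is at most the codimension of Y relative to f (the same infimum over y ∈ Y for
the fibres of f). -/
theorem result {X X' S : Scheme.{u}} [IsLocallyNoetherian X]
    [IsLocallyNoetherian X'] [IsLocallyNoetherian S] (f : X ⟶ S) (g : X' ⟶ X) [Surjective g]
    (Y : Set ↥X) (hY : IsClosed Y) :
    (⨅ y' : (fun x' => g x') ⁻¹' Y, ringKrullDim ↑(CInt.fiberStalk (g ≫ f) y'.1)) ≤
      ⨅ y : Y, ringKrullDim ↑(CInt.fiberStalk f y.1) := by
  refine le_iInf fun ⟨y, hy⟩ => ?_
  obtain ⟨x', hx'⟩ := g.surjective y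
  subst hx'
  let q := CInt.fiberMap g f (f (g x'))
  let a : (g ≫ f).fiber (f (g x')) := (g ≫ f).asFiber x'
  have hq : f.fiberι (f (g x')) (q a) = g x' := by
    rw [← Scheme.Hom.comp_apply, GrothLib.DimCut.fiberMap_fiberι, Scheme.Hom.comp_apply]
    exact congrArg g ((g ≫ f).fiberι_asFiber x')
  obtain ⟨z, -, hz, hdim⟩ := GrothLib.DimCut.exists_specializes_dim_le q a
    (GrothLib.DimCut.isNoetherianRing_stalk_fiber _ _)
    (GrothLib.DimCut.isNoetherianRing_stalk_fiber _ _)
  have hgz : g ((g ≫ f).fiberι (f (g x')) z) = g x' := by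
    rw [← Scheme.Hom.comp_apply, ← GrothLib.DimCut.fiberMap_fiberι, Scheme.Hom.comp_apply]
    exact (congrArg _ hz).trans hq
  refine (iInf_le _ (⟨(g ≫ f).fiberι (f (g x')) z, show _ ∈ Y from Set.mem_of_eq_of_mem hgz hy⟩ : (fun x' => g x') ⁻¹' Y)).trans ?_
  rw [← GrothLib.DimCut.dim_stalk_fiber_eq _ _ z rfl]
  exact hdim.trans_eq (GrothLib.DimCut.dim_stalk_fiber_eq f _ (q a) hq)

end Groth.Agent.S14109
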