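import Groth.Statements.S1411
import Groth.Agent.Lib.DimForm6.QF
import Groth.Agent.Lib.HorizFib6.Scheme
-- import your own Groth.Agent.* helpers here

set_option autoImplicit false
set_option linter.style.haveILetI false
universe u
open FlatMor

namespace Groth.Agent.S1411

open AlgebraicGeometry CategoryTheory Limits in
/-- Let f : X → S be locally of finite type with S locally Noetherian, x a point closed in its fibre,
and U an open of X containing a point x' specializing to x with f x' ≠ f x. Then there is a closed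
subscheme Z of X passing through x such that Z → S is quasi-finite at x and Z contains a point z ∈ U
with z ⤳ x and f z ≠ f x. -/
theorem result {X S : Scheme.{u}} (f : X ⟶ S) [LocallyOfFiniteType f] [IsLocallyNoetherian S] (x : X)
    (hcl : IsClosed (Subtype.val ⁻¹' {x} : Set ↑(f ⁻¹' {f x}))) (U : X.Opens) (hx' : ∃ x' : X, x' ∈ U ∧ x' ⤳ x ∧ f x' ≠ f x) :
    ∃ (I : X.IdealSheafData) (z₀ x₀ : ↑I.subscheme), I.subschemeι x₀ = x ∧ (I.subschemeι ≫ f).QuasiFiniteAt x₀ ∧
      I.subschemeι z₀ ∈ U ∧ I.subschemeι z₀ ⤳ x ∧ f (I.subschemeι z₀) ≠ f x := by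
    classical
    obtain ⟨x', hx'U, hx'x, hfx'⟩ := hx'
    let A := S.presheaf.stalk (f x)
    let B := X.presheaf.stalk x
    letI : Algebra A B := (f.stalkMap x).hom.toAlgebra
    haveI : IsLocalHom (algebraMap A B) := inferInstanceAs (IsLocalHom (f.stalkMap x).hom)
    haveI : Algebra.EssFiniteType A B := LocallyOfFiniteType.stalkMap f x
    haveI : IsNoetherianRing B := Algebra.EssFiniteType.isNoetherianRing A B
    -- primes of the stalk versus generalisations
    have hmem : ∀ (q : Spec B) (y : X) (hy : X.fromSpecStalk x q = y) (hyx : y ⤳ x) (a : A),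
        a ∈ RingHom.ker (GrothLib.HorizFib6.evalGen (hyx.map f.continuous)) ↔ algebraMap A B a ∈ q.asIdeal := by
      intro q y hy hyx a
      rw [← show RingHom.ker (GrothLib.HorizFib6.evalGen hyx) = q.asIdeal from
        GrothLib.SuppDim6.ker_toResidue_eq x q hy hyx, RingHom.mem_ker, RingHom.mem_ker]
      show _ ↔ ((GrothLib.HorizFib6.evalGen hyx).comp (f.stalkMap x).hom) a = 0
      rw [GrothLib.HorizFib6.evalGen_stalkMap, RingHom.comp_apply, map_eq_zero_iff _ (f.residueFieldMap y).hom.injective]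
    have hclosedpt : ∀ (s : S) (h : s ⤳ f x), s = f x →
        RingHom.ker (GrothLib.HorizFib6.evalGen h) = IsLocalRing.maximalIdeal A := fun s h hs =>
      GrothLib.SuppDim6.ker_toResidue_eq (f x) (IsLocalRing.closedPoint A)
        (Scheme.fromSpecStalk_closedPoint.trans hs.symm) h
    obtain ⟨q₀, hq₀⟩ := X.range_fromSpecStalk.ge hx'x
    obtain ⟨a, ha, haq⟩ : ∃ a ∈ IsLocalRing.maximalIdeal A, algebraMap A B a ∉ q₀.asIdeal := by
      by_contra! h
      obtain ⟨w, hw⟩ := S.range_fromSpecStalk.ge (hx'x.map f.continuous)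
      have h1 : IsLocalRing.maximalIdeal A ≤ w.asIdeal := fun a ha => by
        rw [← GrothLib.SuppDim6.ker_toResidue_eq (f x) w hw (hx'x.map f.continuous)]
        exact (hmem q₀ x' hq₀ hx'x a).2 (h a ha)
      refine hfx' ?_
      rw [← hw, show w = IsLocalRing.closedPoint A from PrimeSpectrum.ext
        ((le_antisymm h1 (IsLocalRing.le_maximalIdeal w.isPrime.ne_top)).symm), Scheme.fromSpecStalk_closedPoint]
    obtain ⟨_, ⟨g, rfl⟩, hgq, hgV⟩ := PrimeSpectrum.isTopologicalBasis_basic_opens.exists_subset_of_mem_open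
      (show q₀ ∈ (X.fromSpecStalk x) ⁻¹' (U : Set X) by rw [Set.mem_preimage, hq₀]; exact hx'U) (U.2.preimage (X.fromSpecStalk x).continuous)
    have haB : algebraMap A B a ∈ IsLocalRing.maximalIdeal B := (map_mem_nonunits_iff (algebraMap A B) a).2 ha
    have hnil : ¬ IsNilpotent (algebraMap A B a * g) := fun hn =>
      (q₀.isPrime.mul_notMem haq hgq) (nilradical_le_prime _ hn)
    obtain ⟨q, hq, hfq, hmax⟩ := GrothLib.DimForm6.exists_coheight_one _ (Ideal.mul_mem_right g _ haB) hnil
    have hgq' : g ∉ q := fun h => hfq (q.mul_mem_left _ h)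
    have haq' : algebraMap A B a ∉ q := fun h => hfq (q.mul_mem_right _ h)
    let z : X := X.fromSpecStalk x ⟨q, hq⟩
    have hzx : z ⤳ x := X.range_fromSpecStalk.le ⟨_, rfl⟩
    have hfz : f z ≠ f x := fun h => haq' ((hmem ⟨q, hq⟩ z rfl hzx a).1 (hclosedpt _ _ h ▸ ha))
    let I : X.IdealSheafData := Scheme.IdealSheafData.vanishingIdeal ⟨closure {z}, isClosed_closure⟩
    have hrange : Set.range I.subschemeι = closure {z} := by
      rw [Scheme.IdealSheafData.range_subschemeι, Scheme.IdealSheafData.coe_support_vanishingIdeal]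
      rfl
    obtain ⟨z₀, hz₀⟩ : z ∈ Set.range I.subschemeι := hrange ▸ subset_closure rfl
    obtain ⟨x₀, hx₀⟩ : x ∈ Set.range I.subschemeι := hrange ▸ hzx.mem_closure
    refine ⟨I, z₀, x₀, hx₀, ?_, hz₀ ▸ hgV hgq', hz₀ ▸ hzx, hz₀ ▸ hfz⟩
    rw [Scheme.Hom.quasiFiniteAt_iff_isOpen_singleton_asFiber]
    let h := I.subschemeι ≫ f
    let j := h.fiberι (h x₀) ≫ I.subschemeι
    have hj : Topology.IsEmbedding j := I.subschemeι.isEmbedding.comp (h.fiberι _).isEmbedding
    let w := h.asFiber x₀
    have hjw : j w = x := by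
      show I.subschemeι (h.fiberι _ (h.asFiber x₀)) = x
      rw [Scheme.Hom.fiberι_asFiber]
      exact hx₀
    have hfj : ∀ v, f (j v) = f x := fun v => by
      have h1 : h (h.fiberι (h x₀) v) = h x₀ := (h.range_fiberι _).le ⟨v, rfl⟩
      rw [← hx₀]
      exact h1
    have hgen : ∀ v, v ⤳ w → v = w := fun v hv => hj.injective <| by
      rw [hjw]
      have hvx : j v ⤳ x := hjw ▸ hv.map j.continuous
      have hzv : z ⤳ j v := by
        rw [specializes_iff_mem_closure, ← hrange]
        exact ⟨_, rfl⟩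
      obtain ⟨p, hp⟩ := X.range_fromSpecStalk.ge hvx
      have hqp : q ≤ p.asIdeal := (PrimeSpectrum.le_iff_specializes ⟨q, hq⟩ p).2 <| (X.fromSpecStalk x).isEmbedding.isInducing.specializes_iff.1 <| by
        rw [hp]
        exact hzv
      have hap : algebraMap A B a ∈ p.asIdeal :=
        (hmem p _ hp hvx a).1 (hclosedpt _ _ (hfj v) ▸ ha)
      have hpm := hmax p.asIdeal p.isPrime (lt_of_le_not_ge hqp fun h => haq' (h hap))
      rw [← hp, show p = IsLocalRing.closedPoint B from PrimeSpectrum.ext hpm, Scheme.fromSpecStalk_closedPoint]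
    have hwcl : IsClosed ({w} : Set (h.fiber (h x₀))) := by
      refine isClosed_of_closure_subset fun v hv => ?_
      have hxv : x ⤳ j v := hjw ▸ (specializes_iff_mem_closure.2 hv).map j.continuous
      have h2 : (⟨j v, hfj v⟩ : ↑(f ⁻¹' {f x})) ∈ (Subtype.val ⁻¹' {x} : Set ↑(f ⁻¹' {f x})) := by
        have h3 : (⟨x, rfl⟩ : ↑(f ⁻¹' {f x})) ⤳ ⟨j v, hfj v⟩ := (subtype_specializes_iff _ _).2 hxv
        exact h3.mem_closed hcl rfl
      exact hj.injective (h2.trans hjw.symm)
    haveI : LocallyOfFiniteType (h.fiberToSpecResidueField (h x₀)) :=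
      MorphismProperty.pullback_snd h (S.fromSpecResidueField _) inferInstance
    haveI : IsLocallyNoetherian (h.fiber (h x₀)) :=
      LocallyOfFiniteType.isLocallyNoetherian (h.fiberToSpecResidueField (h x₀))
    obtain ⟨W, hW, hwW, -⟩ := exists_isAffineOpen_mem_and_subset (show w ∈ (⊤ : (h.fiber (h x₀)).Opens) from trivial)
    haveI : IsNoetherianRing Γ(h.fiber (h x₀), W) := IsLocallyNoetherian.component_noetherian ⟨W, hW⟩
    haveI : TopologicalSpace.NoetherianSpace (W : Set (h.fiber (h x₀))) :=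
      (TopologicalSpace.noetherianSpace_set_iff _).2 <| (TopologicalSpace.noetherianSpace_set_iff _).1
        (noetherianSpace_of_isAffineOpen W hW)
    haveI : QuasiSober (W : Set (h.fiber (h x₀))) := W.2.isOpenEmbedding_subtypeVal.quasiSober
    have hWopen : IsOpen ({⟨w, hwW⟩} : Set (W : Set (h.fiber (h x₀)))) := by
      let T : Set (W : Set (h.fiber (h x₀))) :=
        ⋃ C ∈ {C ∈ irreducibleComponents (W : Set (h.fiber (h x₀))) | (⟨w, hwW⟩ : (W : Set (h.fiber (h x₀)))) ∉ C}, C
      have hT : IsClosed T := (TopologicalSpace.NoetherianSpace.finite_irreducibleComponents.subset fun C hC => hC.1).isClosed_biUnion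
        fun C hC => isClosed_of_mem_irreducibleComponents C hC.1
      suffices ({⟨w, hwW⟩} : Set (W : Set (h.fiber (h x₀)))) = Tᶜ from this ▸ hT.isOpen_compl
      refine Set.Subset.antisymm ?_ fun v hv => ?_
      · rintro _ rfl
        simp [T]
      · obtain ⟨C, hC, hvC⟩ : ∃ C ∈ irreducibleComponents (W : Set (h.fiber (h x₀))), v ∈ C :=
          ⟨irreducibleComponent v, irreducibleComponent_mem_irreducibleComponents v, mem_irreducibleComponent⟩
        have hwC : (⟨w, hwW⟩ : (W : Set (h.fiber (h x₀)))) ∈ C := by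
          by_contra hwC
          exact hv (Set.mem_biUnion ⟨hC, hwC⟩ hvC)
        have hgC := hC.1.isGenericPoint_genericPoint (isClosed_of_mem_irreducibleComponents C hC)
        have h1 : hC.1.genericPoint = ⟨w, hwW⟩ :=
          Subtype.ext (hgen _ ((hgC.specializes hwC).map continuous_subtype_val))
        have h2 : (⟨w, hwW⟩ : (W : Set (h.fiber (h x₀)))) ⤳ v := h1 ▸ hgC.specializes hvC
        exact Subtype.ext ((h2.map continuous_subtype_val).mem_closed hwcl rfl)
    have h5 := W.2.isOpenMap_subtype_val _ hWopen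
    rw [Set.image_singleton] at h5
    exact h5

end Groth.Agent.S1411
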