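import Groth.Statements.S14110
-- import your own Groth.Agent.* helpers here
import Groth.Agent.Lib.DimCut.FibreStalk


set_option autoImplicit false
universe u
open CategoryTheory CategoryTheory.Limits AlgebraicGeometry Opposite TopologicalSpace
open CInt

namespace Groth.Agent.S14110

/-- Let f : X → S and g : X' → X be morphisms of locally Noetherian schemes with f a Cohen–Macaulay
morphism (flat, every local ring of every fibre a Cohen–Macaulay local ring) and g flat, Y a closed
subset of X and Y' its preimage under g. Then the codimension of Y relative to f (the infimum over y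
∈ Y of the Krull dimension of the local ring at y of the fibre of f through y) is at most the
codimension of Y' relative to the composite X' → S. -/
theorem result {X X' S : Scheme.{u}} [IsLocallyNoetherian X]
    [IsLocallyNoetherian X'] [IsLocallyNoetherian S] (f : X ⟶ S) [Flat f]
    (hCM : ∀ x : ↥X, LocCoh.IsCohenMacaulayLocalRing ↑(CInt.fiberStalk f x)) (g : X' ⟶ X) [Flat g]
    (Y : Set ↥X) (hY : IsClosed Y) :
    (⨅ y : Y, ringKrullDim ↑(CInt.fiberStalk f y.1)) ≤
      ⨅ y' : (fun x' => g x') ⁻¹' Y, ringKrullDim ↑(CInt.fiberStalk (g ≫ f) y'.1) := by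
  refine le_iInf fun ⟨x', hx'⟩ => (iInf_le _ (⟨g x', hx'⟩ : Y)).trans ?_
  let q := CInt.fiberMap g f (f (g x'))
  haveI : Flat q := MorphismProperty.of_isPullback (GrothLib.DimCut.isPullback_fiberMap g f _) ‹_›
  let a : (g ≫ f).fiber (f (g x')) := (g ≫ f).asFiber x'
  have hq : f.fiberι (f (g x')) (q a) = g x' := by
    rw [← Scheme.Hom.comp_apply, GrothLib.DimCut.fiberMap_fiberι, Scheme.Hom.comp_apply]
    exact congrArg g ((g ≫ f).fiberι_asFiber x')
  haveI := GrothLib.DimCut.isNoetherianRing_stalk_fiber f _ (q a)
  haveI := GrothLib.DimCut.isNoetherianRing_stalk_fiber (g ≫ f) _ a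
  exact (GrothLib.DimCut.dim_stalk_fiber_eq f _ (q a) hq).ge.trans
    (GrothLib.DimCut.dim_stalk_le_of_flat q a)

end Groth.Agent.S14110
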