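import Groth.Statements.S14113
import Groth.Agent.Lib.OX.AffineHomotopy
import Groth.Agent.Lib.FilRep19.Main

set_option autoImplicit false
universe u
open CategoryTheory CategoryTheory.Limits AlgebraicGeometry Opposite TopologicalSpace
attribute [local instance] HasDerivedCategory.standard
open DCoh

namespace Groth.Agent.S14113

/-- Let X be an affine scheme and E a bounded above cochain complex of finite locally free O_X-modules
(a strictly pseudo-coherent complex). Then E is acyclic if and only if the identity of E is null
homotopic. -/
theorem result {X : Scheme.{u}} [IsAffine X]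
    (E : CochainComplex X.Modules ℤ) (b : ℤ) (hEb : ∀ i : ℤ, b < i → IsZero (E.X i))
    (hE : ∀ i : ℤ, FlatMod.IsFinLocFree (E.X i)) :
    E.Acyclic ↔ Nonempty (Homotopy (𝟙 E) 0) := by
  refine ⟨fun h => (GrothLib.AffineHom22.htpyEqDer_affine E E b hEb hE
      fun i => GrothLib.Euler.isQuasicoherent_of_isFinLocFree (hE i)).2 _ ?_, fun ⟨h⟩ => ?_⟩
  · have hz : IsZero (DerivedCategory.Q.obj E) := GrothLib.FilRep19.isZero_Q_of_acyclic E h
    exact hz.eq_of_src _ _
  · exact fun i => (HomologicalComplex.exactAt_iff_isZero_homology _ _).2
      ((IsZero.iff_id_eq_zero _).2 (by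
        rw [← HomologicalComplex.homologyMap_id, h.homologyMap_eq i, HomologicalComplex.homologyMap_zero]))

end Groth.Agent.S14113
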