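import Groth.Statements.S14117
import Mathlib

set_option autoImplicit false
universe u v w
open SuperComm

namespace Groth.Agent.S14117

/-- Let R be a commutative ring and M a finitely ℤ-graded R-module with finitely many nonzero graded
pieces, each finite free, presented as a finite family of finite free R-modules M_i with integer
degrees deg i (the piece of degree n being the product of the M_i with deg i = n); an endomorphism φ
of the total module Π_i M_i has degree a when its (i, j) block vanishes unless deg j = deg i + a;
the supertrace of an endomorphism is the trace of its composite with the grading involution ε = Σ_i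
(-1)^{deg i} pr_i. If φ has degree a ≠ 0 then its supertrace vanishes. (The published statement
allows the graded pieces to be finitely generated projective; this row takes them finite free, where
the trace is the ordinary trace of a free module.) -/
theorem result {R : Type u} [CommRing R] {ι : Type v} [Fintype ι] [DecidableEq ι]
    (deg : ι → ℤ) (M : ι → Type w) [∀ i, AddCommGroup (M i)] [∀ i, Module R (M i)]
    [∀ i, Module.Free R (M i)] [∀ i, Module.Finite R (M i)]
    (a : ℤ) (ha : a ≠ 0) (φ : (Π k, M k) →ₗ[R] (Π k, M k))
    (hφ : ∀ i j : ι, deg j ≠ deg i + a → (LinearMap.proj j) ∘ₗ φ ∘ₗ (LinearMap.single R M i) = 0) :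
    LinearMap.trace R (Π k, M k) ((∑ i : ι, (LinearMap.single R M i) ∘ₗ (((-1 : R) ^ (deg i).natAbs) • (LinearMap.proj i : (Π k, M k) →ₗ[R] M i))) ∘ₗ φ) = 0 := by
  classical
  have htr : ∀ T : (Π k, M k) →ₗ[R] (Π k, M k), LinearMap.trace R (Π k, M k) T =
      ∑ i, LinearMap.trace R (M i) (LinearMap.proj i ∘ₗ T ∘ₗ LinearMap.single R M i) := by
    intro T
    have hT : T = ∑ i, (T ∘ₗ LinearMap.single R M i) ∘ₗ LinearMap.proj i := by
      refine LinearMap.ext fun v => ?_
      simp only [LinearMap.sum_apply, LinearMap.comp_apply, LinearMap.proj_apply]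
      rw [← map_sum]
      congr 1
      exact (Finset.univ_sum_single v).symm
    conv_lhs => rw [hT]
    rw [map_sum]
    exact Finset.sum_congr rfl fun i _ => LinearMap.trace_comp_comm' _ _
  rw [htr]
  refine Finset.sum_eq_zero fun i _ => ?_
  have : (LinearMap.proj i : (Π k, M k) →ₗ[R] M i) ∘ₗ
      ((∑ l : ι, (LinearMap.single R M l) ∘ₗ (((-1 : R) ^ (deg l).natAbs) •
        (LinearMap.proj l : (Π k, M k) →ₗ[R] M l))) ∘ₗ φ) ∘ₗ LinearMap.single R M i = 0 := by
    refine LinearMap.ext fun v => ?_
    have h0 := LinearMap.congr_fun (hφ i i (by omega)) v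
    simp only [LinearMap.comp_apply, LinearMap.proj_apply, LinearMap.zero_apply] at h0
    simp only [LinearMap.comp_apply, LinearMap.sum_apply, LinearMap.smul_apply, LinearMap.proj_apply,
      LinearMap.zero_apply, LinearMap.coe_single, Finset.sum_apply, Finset.sum_pi_single,
      Finset.mem_univ, if_true]
    simp only [LinearMap.coe_single] at h0
    rw [h0, smul_zero]
  rw [this, map_zero]

end Groth.Agent.S14117
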