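import Groth.Statements.S14118
import Mathlib

set_option autoImplicit false
universe u v w
open SuperComm

namespace Groth.Agent.S14118

/-- Let R be a commutative ring and M a finitely ℤ-graded R-module with finitely many nonzero graded
pieces, each finite free, presented as a finite family of finite free R-modules M_i with integer
degrees deg i (the piece of degree n being the product of the M_i with deg i = n); an endomorphism φ
of the total module Π_i M_i has degree a when its (i, j) block vanishes unless deg j = deg i + a;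
the supertrace of an endomorphism is the trace of its composite with the grading involution ε = Σ_i
(-1)^{deg i} pr_i. If φ and ψ have degrees a and b, the supertrace of the supercommutator φψ -
(-1)^{ab} ψφ vanishes. (The published statement allows the graded pieces to be finitely generated
projective; this row takes them finite free, where the trace is the ordinary trace of a free
module.) -/
theorem result {R : Type u} [CommRing R] {ι : Type v} [Fintype ι] [DecidableEq ι]
    (deg : ι → ℤ) (M : ι → Type w) [∀ i, AddCommGroup (M i)] [∀ i, Module R (M i)]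
    [∀ i, Module.Free R (M i)] [∀ i, Module.Finite R (M i)]
    (a b : ℤ) (φ ψ : (Π k, M k) →ₗ[R] (Π k, M k))
    (hφ : ∀ i j : ι, deg j ≠ deg i + a → (LinearMap.proj j) ∘ₗ φ ∘ₗ (LinearMap.single R M i) = 0)
    (hψ : ∀ i j : ι, deg j ≠ deg i + b → (LinearMap.proj j) ∘ₗ ψ ∘ₗ (LinearMap.single R M i) = 0) :
    LinearMap.trace R (Π k, M k)
      ((∑ i : ι, (LinearMap.single R M i) ∘ₗ (((-1 : R) ^ (deg i).natAbs) • (LinearMap.proj i : (Π k, M k) →ₗ[R] M i))) ∘ₗ (φ ∘ₗ ψ - ((-1 : R) ^ (a * b).natAbs) • (ψ ∘ₗ φ))) = 0 := by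
  classical
  have htr : ∀ T : (Π k, M k) →ₗ[R] (Π k, M k), LinearMap.trace R (Π k, M k) T =
      ∑ i, LinearMap.trace R (M i) (LinearMap.proj i ∘ₗ T ∘ₗ LinearMap.single R M i) := by
    intro T
    have hT : T = ∑ i, (T ∘ₗ LinearMap.single R M i) ∘ₗ LinearMap.proj i := by
      refine LinearMap.ext fun v => ?_
      simp only [LinearMap.sum_apply, LinearMap.comp_apply, LinearMap.proj_apply]
      rw [← map_sum]
      congr 1
      exact (Finset.univ_sum_single v).symm
    conv_lhs => rw [hT]
    rw [map_sum]
    exact Finset.sum_congr rfl fun i _ => LinearMap.trace_comp_comm' _ _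
  have hstr : ∀ T : (Π k, M k) →ₗ[R] (Π k, M k), LinearMap.trace R (Π k, M k)
      ((∑ l : ι, (LinearMap.single R M l) ∘ₗ (((-1 : R) ^ (deg l).natAbs) •
        (LinearMap.proj l : (Π k, M k) →ₗ[R] M l))) ∘ₗ T) =
      ∑ i, (-1 : R) ^ (deg i).natAbs *
        LinearMap.trace R (M i) (LinearMap.proj i ∘ₗ T ∘ₗ LinearMap.single R M i) := by
    intro T
    rw [htr]
    refine Finset.sum_congr rfl fun i _ => ?_
    rw [← smul_eq_mul, ← map_smul]
    congr 1
    refine LinearMap.ext fun v => ?_
    simp only [LinearMap.comp_apply, LinearMap.sum_apply, LinearMap.smul_apply, LinearMap.proj_apply,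
      LinearMap.coe_single, Finset.sum_apply, Finset.sum_pi_single, Finset.mem_univ, if_true]
  let blk : ((Π k, M k) →ₗ[R] (Π k, M k)) → ∀ i j : ι, M j →ₗ[R] M i := fun T i j =>
    LinearMap.proj i ∘ₗ T ∘ₗ LinearMap.single R M j
  have hcomp : ∀ (S T : (Π k, M k) →ₗ[R] (Π k, M k)) (i : ι),
      blk (S ∘ₗ T) i i = ∑ j, blk S i j ∘ₗ blk T j i := by
    intro S T i
    refine LinearMap.ext fun v => ?_
    simp only [blk, LinearMap.sum_apply, LinearMap.comp_apply, LinearMap.proj_apply]
    conv_lhs => rw [← Finset.univ_sum_single (T (LinearMap.single R M i v)), map_sum, Finset.sum_apply]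
    simp only [LinearMap.coe_single]
  rw [hstr]
  have e : ∀ i, LinearMap.proj i ∘ₗ (φ ∘ₗ ψ - ((-1 : R) ^ (a * b).natAbs) • (ψ ∘ₗ φ)) ∘ₗ
      LinearMap.single R M i = blk (φ ∘ₗ ψ) i i - ((-1 : R) ^ (a * b).natAbs) • blk (ψ ∘ₗ φ) i i :=
    fun i => by
      simp only [blk, LinearMap.sub_comp, LinearMap.smul_comp, LinearMap.comp_sub, LinearMap.comp_smul]
  simp only [e, map_sub, map_smul, smul_eq_mul, mul_sub, Finset.sum_sub_distrib, hcomp, map_sum,
    Finset.mul_sum]
  rw [sub_eq_zero]
  conv_rhs => rw [Finset.sum_comm]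
  refine Finset.sum_congr rfl fun i _ => Finset.sum_congr rfl fun j _ => ?_
  rw [LinearMap.trace_comp_comm' (blk ψ j i) (blk φ i j)]
  by_cases h0 : blk φ i j = 0
  · simp [h0]
  by_cases h1 : blk ψ j i = 0
  · simp [h1]
  have ea : deg i = deg j + a := by_contra fun h => h0 (hφ j i h)
  have eb : deg j = deg i + b := by_contra fun h => h1 (hψ i j h)
  rw [← mul_assoc, ← pow_add]
  congr 1
  apply neg_one_pow_congr
  rw [ea, show b = -a by omega, Nat.even_add, Int.natAbs_even, Int.natAbs_even, Int.natAbs_even,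
    Int.even_add, mul_neg, even_neg, Int.even_mul, or_self]

end Groth.Agent.S14118
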