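import Groth.Statements.S7449
import Mathlib
import Groth.Agent.Lib.NagataCurve.Criteria

set_option autoImplicit false
set_option backward.isDefEq.respectTransparency false
universe u
open CategoryTheory AlgebraicGeometry
open Lim

namespace Groth.Agent.S7449

/-- Let `S` be a Nagata scheme, `X`, `Y` locally of finite type over `S` and `f : X → Y` a quasi-compact
morphism over `S`. Then `f` is universally closed if and only if for every commutative diagram `U →
X`, `C → Y` over `S` where `C` is a normal integral scheme of finite type over `S`, `c ∈ C` is a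
closed point whose local ring `A = O_{C,c}` has dimension `1` and `U = C ∖ {c}`, there is a morphism
`Spec A → X` making the square `Spec K → X`, `Spec A → Y` (with `K = Frac A`, `Spec K → X` through
`U`, `Spec A → Y` through `C`) commute. -/
theorem result (S : Scheme.{u}) (hS : ∀ W : S.affineOpens, CAlg.IsNagata Γ(S, W))
    {X Y : Scheme.{u}} (p : X ⟶ S) (q : Y ⟶ S) [LocallyOfFiniteType p] [LocallyOfFiniteType q] (f : X ⟶ Y)
    (hf : f ≫ q = p) [QuasiCompact f] :
    UniversallyClosed f ↔
      ∀ (C : Scheme.{u}) (r : C ⟶ S) [IsIntegral C] [LocallyOfFiniteType r] [QuasiCompact r],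
        (∀ x : C, IsIntegrallyClosed (C.presheaf.stalk x)) →
        ∀ (c : C), IsClosed ({c} : Set C) → ringKrullDim (C.presheaf.stalk c) = 1 →
        ∀ (U : C.Opens), (U : Set C) = {c}ᶜ →
        ∀ (u : (U : Scheme.{u}) ⟶ X) (g : C ⟶ Y), g ≫ q = r → u ≫ f = U.ι ≫ g →
        ∀ (k : Spec (CommRingCat.of (FractionRing (C.presheaf.stalk c))) ⟶ (U : Scheme.{u})),
          k ≫ U.ι = Spec.map (CommRingCat.ofHom (algebraMap (C.presheaf.stalk c)
            (FractionRing (C.presheaf.stalk c)))) ≫ C.fromSpecStalk c →
        ∃ l : Spec (C.presheaf.stalk c) ⟶ X, l ≫ f = C.fromSpecStalk c ≫ g ∧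
          Spec.map (CommRingCat.ofHom (algebraMap (C.presheaf.stalk c) (FractionRing (C.presheaf.stalk c)))) ≫ l =
            k ≫ u := by
  constructor
  · intro hU C r _ _ _ hn c _ hdim U _ u g _ huf k hk
    have := GrothLib.NagataCurve.valuationRing_stalk hS r c (hn c) hdim
    exact GrothLib.DVRDom.exists_lift_of_existence (R := C.presheaf.stalk c) (K := FractionRing (C.presheaf.stalk c))
      ((UniversallyClosed.eq_valuativeCriterion.{u}).le _ _ _ hU).1 (k ≫ u) (C.fromSpecStalk c ≫ g)
      (by rw [Category.assoc, huf, ← Category.assoc, hk, Category.assoc])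
  · intro H
    exact GrothLib.UCTest.universallyClosed_of_affineSpace f fun n =>
      GrothLib.NagataCurve.isClosedMap_pullback hS p q f hf H _

end Groth.Agent.S7449
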