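import Groth.Statements.S14120
import Mathlib
import Groth.Agent.Lib.RLpsi8.ExcellentNagata
import Groth.Agent.S7449

set_option autoImplicit false
universe u
open CategoryTheory AlgebraicGeometry
open ValCrit

namespace Groth.Agent.S14120

/-- For schemes, let every affine open of the base `S` have excellent coordinate ring, let `g : Y ⟶ S`
be locally of finite type and `f : X ⟶ Y` quasi-compact and locally of finite type. Then the
existence part of the valuative criterion for `f` over discrete valuation rings (every commutative
square `Spec K ⟶ X`, `Spec R ⟶ Y` with `R` a discrete valuation ring and `K` its fraction field has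
a lift `Spec R ⟶ X`) holds as soon as it holds for the squares whose ring `R` is essentially of
finite type over `S`, i.e. `Spec R ⟶ Y ⟶ S` factors through some affine open `U` of `S` by a ring
map `Γ(S, U) ⟶ R` that is essentially of finite type; and conversely. (The published statement is
for algebraic spaces and treats existence and uniqueness together; this row is the existence half
for schemes.) -/
theorem result (S : Scheme.{u})
    (hS : ∀ U : S.affineOpens, EGA4.IsExcellent Γ(S, U.1))
    {X Y : Scheme.{u}} (f : X ⟶ Y) (g : Y ⟶ S)
    [QuasiCompact f] [LocallyOfFiniteType f] [LocallyOfFiniteType g] :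
    (∀ sq : ValuativeCommSq f, IsDiscreteValuationRing sq.R → sq.commSq.HasLift) ↔
    (∀ sq : ValuativeCommSq f, IsDiscreteValuationRing sq.R →
      (∃ (U : S.affineOpens) (φ : Γ(S, U.1) ⟶ CommRingCat.of sq.R),
        Spec.map φ ≫ U.2.fromSpec = sq.i₂ ≫ g ∧ φ.hom.EssFiniteType) →
      sq.commSq.HasLift) := by
  refine ⟨fun h sq hR _ => h sq hR, fun h => ?_⟩
  have hN : ∀ W : S.affineOpens, CAlg.IsNagata Γ(S, W) := fun W =>
    GrothLib.RLpsi8.isNagata_of_isExcellent (hS W)
  haveI : UniversallyClosed f := by
    refine (Groth.Agent.S7449.result S hN (f ≫ g) g f rfl).2 ?_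
    intro C r _ _ _ hn c _ hdim U _ u gC hgC huf k hk
    haveI := GrothLib.NagataCurve.valuationRing_stalk hN r c (hn c) hdim
    haveI := GrothLib.NagataCurve.isLocallyNoetherian_of_nagata hN r
    haveI : IsNoetherianRing (C.presheaf.stalk c) := inferInstance
    have hnf : ¬ IsField (C.presheaf.stalk c) := fun hf => by
      rw [ringKrullDim_eq_zero_of_isField hf] at hdim
      exact zero_ne_one hdim
    haveI : IsPrincipalIdealRing (C.presheaf.stalk c) := IsPrincipalIdealRing.of_isNoetherianRing_of_isBezout
    haveI : IsDiscreteValuationRing (C.presheaf.stalk c) :=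
      { not_a_field' := fun h0 => hnf (IsLocalRing.isField_iff_maximalIdeal_eq.2 h0) }
    let sq : ValuativeCommSq f := GrothLib.RLpsi8.mkValSq f (C.presheaf.stalk c) (k ≫ u)
      (C.fromSpecStalk c ≫ gC) (by
        rw [Category.assoc, huf, ← Category.assoc, hk, Category.assoc])
    obtain ⟨W, φ, hφ, hφe⟩ := GrothLib.RLpsi8.exists_essFiniteType_stalk r c
    haveI : sq.commSq.HasLift := h sq inferInstance ⟨W, φ, by
      rw [hφ, ← hgC]
      exact (Category.assoc _ _ _).symm, hφe⟩
    exact ⟨sq.commSq.lift, sq.commSq.fac_right, sq.commSq.fac_left⟩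
  intro sq _
  exact ((UniversallyClosed.eq_valuativeCriterion.{u}).le _ _ _ ‹UniversallyClosed f›).1 sq

end Groth.Agent.S14120
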