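import Groth.Statements.S7450
import Mathlib
import Groth.Agent.Lib.NagataCurve.Criteria

set_option autoImplicit false
set_option backward.isDefEq.respectTransparency false
universe u
open CategoryTheory AlgebraicGeometry
open Lim

namespace Groth.Agent.S7450

/-- Assume `S` is a Nagata scheme and `f : X → Y` is a morphism over `S` between schemes `X`, `Y` that
are locally of finite type over `S`. Then `f` is separated exactly when the following holds. Take
any normal integral scheme `C` of finite type over `S` and a closed point `c ∈ C` such that the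
local ring `A = O_{C,c}` is one-dimensional, put `U = C ∖ {c}`, and consider any commutative diagram
of `S`-schemes formed by `U → X` and `C → Y`. Then at most one morphism `Spec A → X` makes the
square with `Spec K → X` and `Spec A → Y` commute. -/
theorem result (S : Scheme.{u}) (hS : ∀ W : S.affineOpens, CAlg.IsNagata Γ(S, W))
    {X Y : Scheme.{u}} (p : X ⟶ S) (q : Y ⟶ S) [LocallyOfFiniteType p] [LocallyOfFiniteType q] (f : X ⟶ Y)
    (hf : f ≫ q = p) :
    IsSeparated f ↔
      ∀ (C : Scheme.{u}) (r : C ⟶ S) [IsIntegral C] [LocallyOfFiniteType r] [QuasiCompact r],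
        (∀ x : C, IsIntegrallyClosed (C.presheaf.stalk x)) →
        ∀ (c : C), IsClosed ({c} : Set C) → ringKrullDim (C.presheaf.stalk c) = 1 →
        ∀ (U : C.Opens), (U : Set C) = {c}ᶜ →
        ∀ (u : (U : Scheme.{u}) ⟶ X) (g : C ⟶ Y), g ≫ q = r → u ≫ f = U.ι ≫ g →
        ∀ (k : Spec (CommRingCat.of (FractionRing (C.presheaf.stalk c))) ⟶ (U : Scheme.{u})),
          k ≫ U.ι = Spec.map (CommRingCat.ofHom (algebraMap (C.presheaf.stalk c)
            (FractionRing (C.presheaf.stalk c)))) ≫ C.fromSpecStalk c →
        ∀ l l' : Spec (C.presheaf.stalk c) ⟶ X,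
          l ≫ f = C.fromSpecStalk c ≫ g →
          Spec.map (CommRingCat.ofHom (algebraMap (C.presheaf.stalk c) (FractionRing (C.presheaf.stalk c)))) ≫ l =
            k ≫ u →
          l' ≫ f = C.fromSpecStalk c ≫ g →
          Spec.map (CommRingCat.ofHom (algebraMap (C.presheaf.stalk c) (FractionRing (C.presheaf.stalk c)))) ≫ l' =
            k ≫ u → l = l' := by
  constructor
  · intro _ C r _ _ _ hn c _ hdim U _ u g _ _ k _ l l' hl hlk hl' hlk'
    have := GrothLib.NagataCurve.valuationRing_stalk hS r c (hn c) hdim
    exact GrothLib.DVRDom.eq_of_isSeparated (R := C.presheaf.stalk c) (K := FractionRing (C.presheaf.stalk c)) f l l' (hl.trans hl'.symm) (hlk.trans hlk'.symm)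
  · intro H
    exact ⟨IsClosedImmersion.of_isPreimmersion _ (GrothLib.NagataCurve.isClosed_range_diagonal hS p q f hf H)⟩

end Groth.Agent.S7450
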