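import Groth.Statements.S14122
import Mathlib.LinearAlgebra.FreeModule.PID
import Mathlib.LinearAlgebra.Matrix.Basis
import Mathlib.RingTheory.Localization.Module

set_option autoImplicit false
universe u
open ValCrit

namespace Groth.Agent.S14122

open Matrix in
theorem exists_basis {R K : Type u} [CommRing R] [IsDomain R] [IsPrincipalIdealRing R] [Field K] [Algebra R K]
    [IsFractionRing R K] (N : ℕ) (G : Subgroup (GL (Fin N) K)) [Finite G] :
    ∃ P : GL (Fin N) K, ∀ g ∈ G, ∃ A : Matrix (Fin N) (Fin N) R,
      A.map (algebraMap R K) = ((P⁻¹ * g * P : GL (Fin N) K) : Matrix (Fin N) (Fin N) K) := by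
  classical
  let w : G × Fin N → (Fin N → K) := fun p => ((p.1 : GL (Fin N) K) : Matrix (Fin N) (Fin N) K) *ᵥ Pi.single p.2 1
  let L : Submodule R (Fin N → K) := Submodule.span R (Set.range w)
  haveI : Module.Finite R L := Module.Finite.iff_fg.2 (Submodule.fg_span (Set.finite_range w))
  haveI : Module.IsTorsionFree R K := IsFractionRing.injective R K |> fun h =>
    Module.IsTorsionFree.of_smul_eq_zero fun r x hrx => by
      rw [Algebra.smul_def, mul_eq_zero, map_eq_zero_iff _ h] at hrx
      exact hrx
  haveI : Module.Free R L := inferInstance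
  let ι := Module.Free.ChooseBasisIndex R L
  let b : Module.Basis ι R L := Module.Free.chooseBasis R L
  have hli : LinearIndependent R fun i => ((b i : L) : Fin N → K) :=
    b.linearIndependent.map' L.subtype L.ker_subtype
  have hliK : LinearIndependent K fun i => ((b i : L) : Fin N → K) :=
    (LinearIndependent.iff_fractionRing R K).1 hli
  have hsp : ∀ j : Fin N, (Pi.single j 1 : Fin N → K) ∈ L :=
    fun j => Submodule.subset_span ⟨(⟨1, G.one_mem⟩, j), by show (1 : Matrix (Fin N) (Fin N) K) *ᵥ _ = _; exact Matrix.one_mulVec _⟩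
  have hspan : ⊤ ≤ Submodule.span K (Set.range fun i => ((b i : L) : Fin N → K)) := by
    rw [← (Pi.basisFun K (Fin N)).span_eq, Submodule.span_le]
    rintro - ⟨j, rfl⟩
    rw [Pi.basisFun_apply]
    have h1 : (Pi.single j 1 : Fin N → K) = ∑ i, b.repr ⟨_, hsp j⟩ i • ((b i : L) : Fin N → K) :=
      (congrArg L.subtype (b.sum_repr ⟨_, hsp j⟩)).symm.trans ((map_sum L.subtype _ _).trans
        (Finset.sum_congr rfl fun i _ => map_smul L.subtype _ _))
    rw [h1]
    refine Submodule.sum_mem _ fun i _ => ?_
    rw [← algebraMap_smul K]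
    exact Submodule.smul_mem _ _ (Submodule.subset_span ⟨i, rfl⟩)
  let bK : Module.Basis ι K (Fin N → K) := Module.Basis.mk hliK hspan
  let e : Fin N ≃ ι := (Pi.basisFun K (Fin N)).indexEquiv bK
  let b' : Module.Basis (Fin N) R L := b.reindex e.symm
  let c : Module.Basis (Fin N) K (Fin N → K) := bK.reindex e.symm
  have hc : ∀ i, c i = ((b' i : L) : Fin N → K) := fun i => by simp [c, b', bK]
  let P : Matrix (Fin N) (Fin N) K := (Pi.basisFun K (Fin N)).toMatrix c
  haveI : Invertible P := (Pi.basisFun K (Fin N)).invertibleToMatrix c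
  let Pu : GL (Fin N) K := unitOfInvertible P
  have hP : ∀ i j, P i j = c j i := fun i j => by simp [P, Module.Basis.toMatrix_apply]
  refine ⟨Pu, fun g hg => ?_⟩
  have hinv : ∀ v ∈ L, (g : Matrix (Fin N) (Fin N) K) *ᵥ v ∈ L := by
    intro v hv
    have hle : L ≤ L.comap ((Matrix.mulVecLin (g : Matrix (Fin N) (Fin N) K)).restrictScalars R) := by
      refine Submodule.span_le.2 ?_
      rintro - ⟨⟨x, j⟩, rfl⟩
      refine Submodule.subset_span ⟨(⟨g, hg⟩ * x, j), ?_⟩
      show (((g * (x : GL (Fin N) K)) : GL (Fin N) K) : Matrix (Fin N) (Fin N) K) *ᵥ _ =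
        (g : Matrix (Fin N) (Fin N) K) *ᵥ (((x : GL (Fin N) K) : Matrix (Fin N) (Fin N) K) *ᵥ _)
      rw [Units.val_mul, Matrix.mulVec_mulVec]
    exact hle hv
  let A : Matrix (Fin N) (Fin N) R := Matrix.of fun i j => b'.repr ⟨_, hinv _ (b' j).2⟩ i
  refine ⟨A, ?_⟩
  have key : (g : Matrix (Fin N) (Fin N) K) * P = P * A.map (algebraMap R K) := by
    ext k j
    have h1 : (g : Matrix (Fin N) (Fin N) K) *ᵥ ((b' j : L) : Fin N → K) =
        ∑ i, A i j • ((b' i : L) : Fin N → K) := by
      exact (congrArg L.subtype (b'.sum_repr ⟨_, hinv _ (b' j).2⟩)).symm.trans ((map_sum L.subtype _ _).trans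
        (Finset.sum_congr rfl fun i _ => map_smul L.subtype _ _))
    have h3 := congrFun h1 k
    simp only [Matrix.mulVec, dotProduct, Finset.sum_apply, Pi.smul_apply, Algebra.smul_def] at h3
    simp only [Matrix.mul_apply, Matrix.map_apply, hP, hc]
    rw [h3]
    exact Finset.sum_congr rfl fun i _ => mul_comm _ _
  rw [Units.val_mul, Units.val_mul]
  show A.map (algebraMap R K) = ((Pu⁻¹ : GL (Fin N) K) : Matrix (Fin N) (Fin N) K) * (g : Matrix (Fin N) (Fin N) K) * P
  rw [Matrix.mul_assoc, key, ← Matrix.mul_assoc, show P = (Pu : Matrix (Fin N) (Fin N) K) from rfl,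
    Units.inv_mul, Matrix.one_mul]

/-- Let `R` be a discrete valuation ring with fraction field `K` and `g ∈ GL_N(K)` an element of finite
order. Then after passing to a finite extension `K'` of `K` and a discrete valuation ring `R'` of
`K'` dominating `R`, the element `g` becomes conjugate in `GL_N(K')` to an element of `GL_N(R')`.
(The published statement is that the classifying stack of `GL_N` over the integers satisfies a
valuative condition, for discrete valuation rings essentially of finite type over the integers, on
extending finite-order generic automorphisms along nearby modifications; since vector bundles over a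
discrete valuation ring are trivial, that condition is this conjugacy statement for such rings, and
this row states it for every discrete valuation ring, as the printed argument gives.) -/
theorem result
    (R : Type u) [CommRing R] [IsDomain R] [IsDiscreteValuationRing R]
    (K : Type u) [Field K] [Algebra R K] [IsFractionRing R K]
    (N : ℕ) (g : GL (Fin N) K) (hg : IsOfFinOrder g) :
    ∃ (R' : Type u) (_ : CommRing R') (_ : IsDomain R') (_ : IsDiscreteValuationRing R')
      (K' : Type u) (_ : Field K') (_ : Algebra R' K') (_ : IsFractionRing R' K')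
      (_ : Algebra R R') (_ : Algebra K K') (_ : Algebra R K')
      (_ : IsScalarTower R R' K') (_ : IsScalarTower R K K')
      (_ : Module.Finite K K') (_ : IsLocalHom (algebraMap R R'))
      (h : GL (Fin N) K') (g' : GL (Fin N) R'),
      h * Matrix.GeneralLinearGroup.map (algebraMap K K') g * h⁻¹ =
        Matrix.GeneralLinearGroup.map (algebraMap R' K') g' := by
  haveI := hg.finite_zpowers.to_subtype
  obtain ⟨P, hP⟩ := exists_basis (R := R) N (Subgroup.zpowers g)
  obtain ⟨A, hA⟩ := hP g (Subgroup.mem_zpowers g)
  obtain ⟨B, hB⟩ := hP g⁻¹ (Subgroup.inv_mem _ (Subgroup.mem_zpowers g))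
  have hinj : Function.Injective fun M : Matrix (Fin N) (Fin N) R => M.map (algebraMap R K) :=
    Matrix.map_injective (IsFractionRing.injective R K)
  have hAB : A * B = 1 := hinj (by
    simp only [Matrix.map_mul, hA, hB, ← Units.val_mul, Matrix.map_one _ (map_zero _) (map_one _)]
    rw [← Units.val_one]
    exact congrArg Units.val (by group))
  have hBA : B * A = 1 := hinj (by
    simp only [Matrix.map_mul, hA, hB, ← Units.val_mul, Matrix.map_one _ (map_zero _) (map_one _)]
    rw [← Units.val_one]
    exact congrArg Units.val (by group))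
  refine ⟨R, inferInstance, inferInstance, inferInstance, K, inferInstance, inferInstance, inferInstance,
    Algebra.id R, Algebra.id K, inferInstance, inferInstance, inferInstance, inferInstance,
    ⟨fun _ h => h⟩, P⁻¹, ⟨A, B, hAB, hBA⟩, ?_⟩
  refine Units.ext ?_
  show _ = A.map (algebraMap R K)
  rw [hA, inv_inv]
  rfl

end Groth.Agent.S14122
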