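import Groth.Statements.S14123
import Mathlib.RingTheory.Polynomial.Eisenstein.Basic
import Mathlib.RingTheory.AdjoinRoot
import Mathlib.RingTheory.DiscreteValuationRing.TFAE
import Mathlib.RingTheory.Algebraic.Integral
import Mathlib.RingTheory.Polynomial.UniqueFactorization
import Mathlib.RingTheory.GradedAlgebra.Basic
import Mathlib.LinearAlgebra.Finsupp.LinearCombination
import Mathlib.RingTheory.Ideal.GoingUp
import Mathlib.Tactic.FieldSimp
import Mathlib.Tactic.Linarith

set_option autoImplicit false
set_option linter.style.haveILetI false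

universe u v
open GmQuot

namespace Groth.Agent.S14123

theorem finite_fraction (R K R' K' : Type*) [CommRing R] [Field K] [Algebra R K] [CommRing R'] [IsDomain R']
    [Algebra R R'] [Module.Finite R R'] [Field K'] [Algebra R' K'] [IsFractionRing R' K'] [Algebra R K']
    [IsScalarTower R R' K'] [Algebra K K'] [IsScalarTower R K K'] : Module.Finite K K' := by
  obtain ⟨s, hs⟩ := (Module.Finite.fg_top (R := R) (M := R'))
  have hint : ∀ z : R', IsIntegral K (algebraMap R' K' z) := fun z =>
    (IsIntegral.of_finite R z).algebraMap.tower_top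
  let T := Algebra.adjoin K ((algebraMap R' K') '' (s : Set R'))
  have hin : ∀ z : R', algebraMap R' K' z ∈ T := fun z => by
    have hz : z ∈ Submodule.span R (s : Set R') := by rw [hs]; trivial
    induction hz using Submodule.span_induction with
    | mem y hy => exact Algebra.subset_adjoin ⟨y, hy, rfl⟩
    | zero => rw [map_zero]; exact zero_mem _
    | add p q _ _ hp hq => rw [map_add]; exact add_mem hp hq
    | smul c p _ hp =>
      rw [Algebra.smul_def, map_mul, ← IsScalarTower.algebraMap_apply R R' K', IsScalarTower.algebraMap_apply R K K']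
      exact mul_mem (Subalgebra.algebraMap_mem _ _) hp
  have htop : T = ⊤ := eq_top_iff.2 fun z _ => by
    obtain ⟨p, q, -, rfl⟩ := IsFractionRing.div_surjective (A := R') z
    rw [div_eq_mul_inv]
    exact mul_mem (hin p) (Subalgebra.inv_mem_of_algebraic _ (x := ⟨_, hin q⟩) (hint q).isAlgebraic)
  refine Module.finite_def.2 ?_
  rw [← Algebra.top_toSubmodule, ← htop]
  exact fg_adjoin_of_finite (s.finite_toSet.image _) (by rintro _ ⟨y, -, rfl⟩; exact hint y)


/-- Let `A = ⊕_{d ∈ ℤ} A_d` be a graded commutative ring whose ideal `I₊` generated by the homogeneous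
elements of positive degree is finitely generated, `R` a discrete valuation ring with fraction field
`K`, and `φ : A → R` a ring map with `φ(I₊) ≠ 0` and `φ(I₊)` inside the maximal ideal. Then after a
finite extension `K'/K` and a discrete valuation ring `R'` of `K'` dominating `R` there are a
nonzero non-unit `ϖ ∈ R'` and a ring map `g : A → R'` with `g(a) ϖ^d = φ(a)` for every homogeneous
`a` of degree `d` (so `g` is `φ` rescaled through the grading by `ϖ`), such that `g(I₊) R' = R'`.
(The published statement is phrased for the quotient stack of `Spec A` by the multiplicative group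
and its closed substack cut out by `I₊`, in a setting where `A` is Noetherian, being of finite type
over a Noetherian base: an `R`-point whose closed point lies in that substack and whose generic
point does not admits, after a finite extension, an elementary modification avoiding the substack;
this row is the graded-ring statement the printed argument proves, assuming only that `I₊` is
finitely generated, which is all that argument uses, and with `ϖ` not required to be a uniformizer.) -/
theorem result
    {A : Type u} [CommRing A] (𝒜 : ℤ → AddSubgroup A) [GradedRing 𝒜]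
    (hfg : (Ideal.span {a : A | ∃ d : ℤ, 0 < d ∧ a ∈ 𝒜 d}).FG)
    (R : Type v) [CommRing R] [IsDomain R] [IsDiscreteValuationRing R]
    (K : Type v) [Field K] [Algebra R K] [IsFractionRing R K]
    (φ : A →+* R)
    (hle : Ideal.map φ (Ideal.span {a : A | ∃ d : ℤ, 0 < d ∧ a ∈ 𝒜 d}) ≤ IsLocalRing.maximalIdeal R)
    (hne : Ideal.map φ (Ideal.span {a : A | ∃ d : ℤ, 0 < d ∧ a ∈ 𝒜 d}) ≠ ⊥) :
    ∃ (R' : Type v) (_ : CommRing R') (_ : IsDomain R') (_ : IsDiscreteValuationRing R')
      (K' : Type v) (_ : Field K') (_ : Algebra R' K') (_ : IsFractionRing R' K')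
      (_ : Algebra R R') (_ : Algebra K K') (_ : Algebra R K')
      (_ : IsScalarTower R R' K') (_ : IsScalarTower R K K')
      (_ : Module.Finite K K') (_ : IsLocalHom (algebraMap R R'))
      (ϖ : R') (g : A →+* R'),
      ϖ ≠ 0 ∧ ϖ ∈ IsLocalRing.maximalIdeal R' ∧
      (∀ (d : ℤ) (a : A), a ∈ 𝒜 d →
        algebraMap R' K' (g a) * algebraMap R' K' ϖ ^ d = algebraMap R K' (φ a)) ∧
      Ideal.map g (Ideal.span {a : A | ∃ d : ℤ, 0 < d ∧ a ∈ 𝒜 d}) = ⊤ := by
  classical
  obtain ⟨π, hπ⟩ := IsDiscreteValuationRing.exists_irreducible R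
  have hm : IsLocalRing.maximalIdeal R = Ideal.span {π} := hπ.maximalIdeal_eq
  obtain ⟨S, hS, hspan⟩ := Submodule.fg_span_iff_fg_span_finset_subset _ |>.1 hfg
  have hS' : ∀ s ∈ S, ∃ d : ℤ, 0 < d ∧ s ∈ 𝒜 d := fun s hs => hS hs
  let S₁ := S.filter fun s => φ s ≠ 0
  have hne₁ : S₁.Nonempty := by
    by_contra h
    rw [Finset.not_nonempty_iff_eq_empty, Finset.filter_eq_empty_iff] at h
    push Not at h
    refine hne ?_
    rw [show Ideal.span {a : A | ∃ d : ℤ, 0 < d ∧ a ∈ 𝒜 d} = Ideal.span (S : Set A) from hspan, Ideal.map_span,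
      Ideal.span_eq_bot]
    rintro _ ⟨s, hs, rfl⟩
    simpa using h hs
  have hv : ∀ s ∈ S₁, ∃ (v : ℕ) (u : Rˣ), φ s = u * π ^ v := fun s hs =>
    IsDiscreteValuationRing.eq_unit_mul_pow_irreducible (Finset.mem_filter.1 hs).2 hπ
  choose! v u hvu using hv
  choose! deg hdeg hmem using hS'
  obtain ⟨s₀, hs₀, hmin⟩ := Finset.exists_min_image S₁ (fun s => (v s : ℚ) / (deg s : ℚ)) hne₁
  have hs₀S : s₀ ∈ S := (Finset.mem_filter.1 hs₀).1
  let b : ℕ := (deg s₀).toNat
  have hb : 0 < b := by have := hdeg s₀ hs₀S; omega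
  let a : ℕ := v s₀
  have ha : 0 < a := by
    by_contra h
    have h0 : φ s₀ ∈ IsLocalRing.maximalIdeal R :=
      hle (Ideal.mem_map_of_mem φ (Ideal.subset_span ⟨deg s₀, hdeg s₀ hs₀S, hmem s₀ hs₀S⟩))
    rw [hvu s₀ hs₀, show v s₀ = 0 from Nat.eq_zero_of_not_pos h, pow_zero, mul_one] at h0
    exact IsLocalRing.notMem_maximalIdeal.2 (u s₀).isUnit h0
  -- the totally ramified extension
  let f : Polynomial R := Polynomial.X ^ b - Polynomial.C π
  have hfm : f.Monic := Polynomial.monic_X_pow_sub_C π hb.ne'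
  have hfirr : Irreducible f := by
    refine Polynomial.IsEisensteinAt.irreducible (𝓟 := Ideal.span {π}) ⟨?_, ?_, ?_⟩
      ((Ideal.span_singleton_prime hπ.ne_zero).2 hπ.prime) hfm.isPrimitive ?_
    · rw [hfm.leadingCoeff, Ideal.mem_span_singleton]
      exact fun h => hπ.not_isUnit (isUnit_of_dvd_one h)
    · intro n hn
      rw [Polynomial.natDegree_X_pow_sub_C] at hn
      simp only [f, Polynomial.coeff_sub, Polynomial.coeff_X_pow, if_neg (Nat.ne_of_lt hn), zero_sub, neg_mem_iff]
      rw [Polynomial.coeff_C]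
      split_ifs with h0
      · exact Ideal.mem_span_singleton_self π
      · exact zero_mem _
    · rw [show f.coeff 0 = -π by simp [f, hb.ne], neg_mem_iff, Ideal.span_singleton_pow, Ideal.mem_span_singleton, sq]
      intro ⟨c, hc⟩
      exact hπ.not_isUnit (IsUnit.of_mul_eq_one c (mul_left_cancel₀ hπ.ne_zero (by rw [mul_one]; linear_combination -hc)))
    · rw [Polynomial.natDegree_X_pow_sub_C]; exact hb
  let R' := AdjoinRoot f
  haveI : IsDomain R' := AdjoinRoot.isDomain_of_prime hfirr.prime
  let x : R' := AdjoinRoot.root f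
  have hx : x ^ b = algebraMap R R' π := by
    have h := AdjoinRoot.eval₂_root f
    simp only [f, Polynomial.eval₂_sub, Polynomial.eval₂_X_pow, Polynomial.eval₂_C, sub_eq_zero] at h
    exact h
  haveI hfinR : Module.Finite R R' := hfm.finite_adjoinRoot
  haveI : IsNoetherianRing R' := IsNoetherianRing.of_finite R R'
  have hinj : Function.Injective (algebraMap R R') := AdjoinRoot.of.injective_of_degree_ne_zero (by
    rw [Polynomial.degree_X_pow_sub_C hb]; exact_mod_cast hb.ne')
  let ev : R' →ₐ[R] IsLocalRing.ResidueField R := AdjoinRoot.liftAlgHom f (Algebra.ofId R _) 0 (by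
    simp [f, zero_pow hb.ne', hm, Algebra.ofId_apply, IsLocalRing.ResidueField.algebraMap_eq,
      IsLocalRing.residue_eq_zero_iff, Ideal.mem_span_singleton_self])
  have hevx : ev x = 0 := AdjoinRoot.liftAlgHom_root _ _ _ _
  have hdecomp : ∀ z : R', ∃ (c : R) (y : R'), z = algebraMap R R' c + x * y := by
    intro z
    induction z using AdjoinRoot.induction_on with
    | ih q =>
      refine ⟨q.coeff 0, AdjoinRoot.mk f q.divX, ?_⟩
      conv_lhs => rw [← Polynomial.X_mul_divX_add q]
      rw [map_add, map_mul, AdjoinRoot.mk_X, AdjoinRoot.mk_C, add_comm, AdjoinRoot.algebraMap_eq]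
  have hker : RingHom.ker ev = Ideal.span {x} := by
    refine le_antisymm (fun z hz => ?_) ((Ideal.span_singleton_le_iff_mem _).2 hevx)
    obtain ⟨c, y, rfl⟩ := hdecomp z
    rw [RingHom.mem_ker, map_add, map_mul, hevx, zero_mul, add_zero, AlgHom.commutes,
      IsLocalRing.ResidueField.algebraMap_eq, IsLocalRing.residue_eq_zero_iff, hm, Ideal.mem_span_singleton] at hz
    obtain ⟨c', rfl⟩ := hz
    rw [Ideal.mem_span_singleton, map_mul, ← hx]
    exact dvd_add (Dvd.dvd.mul_right (dvd_pow_self x hb.ne') _) (dvd_mul_right x y)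
  have hmax : (Ideal.span {x}).IsMaximal := by
    rw [← hker]
    refine RingHom.ker_isMaximal_of_surjective _ fun z => ?_
    obtain ⟨c, rfl⟩ := IsLocalRing.residue_surjective z
    exact ⟨algebraMap R R' c, ev.commutes c⟩
  have huniq : ∀ M : Ideal R', M.IsMaximal → M = Ideal.span {x} := fun M hM => by
    haveI := hM
    have h1 : (M.comap (algebraMap R R')).IsMaximal := Ideal.isMaximal_comap_of_isIntegral_of_isMaximal M
    have h2 : π ∈ M.comap (algebraMap R R') := by
      rw [IsLocalRing.eq_maximalIdeal h1, hm]; exact Ideal.mem_span_singleton_self π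
    rw [Ideal.mem_comap, ← hx] at h2
    exact (hmax.eq_of_le hM.ne_top ((Ideal.span_singleton_le_iff_mem _).2 (hM.isPrime.mem_of_pow_mem _ h2))).symm
  haveI hloc : IsLocalRing R' := IsLocalRing.of_unique_max_ideal ⟨_, hmax, huniq⟩
  have hmR' : IsLocalRing.maximalIdeal R' = Ideal.span {x} := huniq _ (IsLocalRing.maximalIdeal.isMaximal R')
  have hx0 : x ≠ 0 := by
    intro h
    rw [h, zero_pow hb.ne', eq_comm, map_eq_zero_iff _ hinj] at hx
    exact hπ.ne_zero hx
  haveI : IsDiscreteValuationRing R' := by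
    have hnf : ¬ IsField R' := by
      rw [IsLocalRing.isField_iff_maximalIdeal_eq, hmR', Ideal.span_singleton_eq_bot]; exact hx0
    exact ((IsDiscreteValuationRing.TFAE R' hnf).out 4 0).1 (show Submodule.IsPrincipal (IsLocalRing.maximalIdeal R') from ⟨⟨x, hmR'⟩⟩)
  let K' := FractionRing R'
  letI algRK' : Algebra R K' := inferInstance
  haveI : IsScalarTower R R' K' := inferInstance
  have hinjK : Function.Injective (algebraMap R K') := by
    rw [IsScalarTower.algebraMap_eq R R' K']
    exact (IsFractionRing.injective R' K').comp hinj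
  letI algKK' : Algebra K K' := (IsFractionRing.lift hinjK).toAlgebra
  haveI : IsScalarTower R K K' := IsScalarTower.of_algebraMap_eq fun r => (IsFractionRing.lift_algebraMap hinjK r).symm
  haveI hfinK : Module.Finite K K' := finite_fraction R K R' K'
  haveI : IsLocalHom (algebraMap R R') := ⟨fun r hr => by
    by_contra h
    have h1 : r ∈ IsLocalRing.maximalIdeal R := h
    rw [hm, Ideal.mem_span_singleton] at h1
    have h2 : x ∣ algebraMap R R' r := (dvd_pow_self x hb.ne').trans (hx ▸ map_dvd _ h1)
    exact IsLocalRing.notMem_maximalIdeal.2 hr (by rw [hmR', Ideal.mem_span_singleton]; exact h2)⟩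
  have hgen : ∀ s ∈ S, x ^ (a * (deg s).toNat) ∣ algebraMap R R' (φ s) := by
    intro s hs
    by_cases h0 : φ s = 0
    · rw [h0, map_zero]; exact dvd_zero _
    have hs₁ : s ∈ S₁ := Finset.mem_filter.2 ⟨hs, h0⟩
    have h := hmin s hs₁
    have hd0 : (0 : ℚ) < deg s₀ := by exact_mod_cast hdeg s₀ hs₀S
    have hd1 : (0 : ℚ) < deg s := by exact_mod_cast hdeg s hs
    rw [div_le_div_iff₀ hd0 hd1] at h
    have hle' : a * (deg s).toNat ≤ b * v s := by
      have h' : (v s₀ : ℤ) * deg s ≤ (v s : ℤ) * deg s₀ := by exact_mod_cast h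
      zify
      simp only [a, b, Int.toNat_of_nonneg (hdeg s hs).le, Int.toNat_of_nonneg (hdeg s₀ hs₀S).le]
      linarith
    rw [hvu s hs₁, map_mul, map_pow, ← hx, ← pow_mul]
    exact Dvd.dvd.mul_left (pow_dvd_pow x hle') _
  have hdiv : ∀ n : ℕ, ∀ z ∈ 𝒜 n, x ^ (a * n) ∣ algebraMap R R' (φ z) := by
    intro n
    induction n using Nat.strong_induction_on with
    | _ n ih =>
      intro z hz
      rcases Nat.eq_zero_or_pos n with rfl | hn
      · simp
      have hzs : z ∈ Submodule.span A (S : Set A) :=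
        hspan.le (Ideal.subset_span ⟨n, by exact_mod_cast hn, hz⟩)
      obtain ⟨g, -, hg⟩ := Submodule.mem_span_finset.1 hzs
      have e : z = ∑ s ∈ S, (DirectSum.decompose 𝒜 (g s) ((n : ℤ) - deg s) : A) * s := by
        conv_lhs => rw [← DirectSum.decompose_of_mem_same 𝒜 hz, ← hg]
        rw [DirectSum.decompose_sum, DFinsupp.finsetSum_apply, AddSubmonoidClass.coe_finsetSum]
        refine Finset.sum_congr rfl fun s hs => ?_
        rw [smul_eq_mul, ← DirectSum.coe_decompose_mul_add_of_right_mem 𝒜 (hmem s hs), sub_add_cancel]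
      rw [e, map_sum, map_sum]
      refine Finset.dvd_sum fun s hs => ?_
      rw [map_mul, map_mul]
      have hds := hdeg s hs
      by_cases hd : (n : ℤ) - deg s ≤ 0
      · exact Dvd.dvd.mul_left ((pow_dvd_pow x (Nat.mul_le_mul_left a (by omega))).trans (hgen s hs)) _
      · obtain ⟨m, hm'⟩ : ∃ m : ℕ, (n : ℤ) - deg s = m := ⟨_, (Int.toNat_of_nonneg (by omega)).symm⟩
        rw [show n = m + (deg s).toNat by omega, mul_add, pow_add]
        refine mul_dvd_mul (ih m (by omega) _ ?_) (hgen s hs)
        rw [show ((m + (deg s).toNat : ℕ) : ℤ) - deg s = m by omega]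
        exact SetLike.coe_mem _
  let w : R' := x ^ a
  have hw : (algebraMap R' K' w) ≠ 0 := by
    rw [Ne, map_eq_zero_iff _ (IsFractionRing.injective R' K')]; exact pow_ne_zero _ hx0
  let F : ∀ d : ℤ, 𝒜 d →+ K' := fun d =>
    (AddMonoidHom.mulRight ((algebraMap R' K' w) ^ (-d))).comp
      (((algebraMap R K').comp φ).toAddMonoidHom.comp (𝒜 d).subtype)
  let G : A →+* K' := (DirectSum.toSemiring F (by simp [F]) (fun {i j} p q => by
      simp only [F, AddMonoidHom.comp_apply, AddMonoidHom.coe_mulRight, RingHom.toAddMonoidHom_eq_coe,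
        AddMonoidHom.coe_coe, RingHom.comp_apply, AddSubgroup.coe_subtype]
      change algebraMap R K' (φ ((p : A) * q)) * _ = _
      rw [map_mul, map_mul, neg_add,
        zpow_add₀ hw]
      ring)).comp (DirectSum.decomposeRingEquiv 𝒜).toRingHom
  have hG : ∀ (d : ℤ) (z : A), z ∈ 𝒜 d → G z = algebraMap R K' (φ z) * (algebraMap R' K' w) ^ (-d) := by
    intro d z hz
    simp only [G, RingHom.comp_apply]
    rw [show (DirectSum.decomposeRingEquiv 𝒜).toRingHom z = DirectSum.decompose 𝒜 z from rfl,
      DirectSum.decompose_of_mem 𝒜 hz, DirectSum.toSemiring_of]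
    rfl
  have hrange : ∀ z : A, ∃ r : R', algebraMap R' K' r = G z := fun z => by
    induction z using DirectSum.Decomposition.inductionOn 𝒜 with
    | zero => exact ⟨0, by simp⟩
    | homogeneous m =>
      rename_i d
      rw [hG d _ m.2]
      rcases le_or_gt d 0 with hd | hd
      · refine ⟨algebraMap R R' (φ m) * w ^ (-d).toNat, ?_⟩
        rw [map_mul, map_pow, ← IsScalarTower.algebraMap_apply R R' K', ← zpow_natCast, Int.toNat_of_nonneg (by omega)]
      · obtain ⟨n, rfl⟩ := Int.eq_ofNat_of_zero_le hd.le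
        obtain ⟨r, hr⟩ := hdiv n m m.2
        refine ⟨r, ?_⟩
        rw [IsScalarTower.algebraMap_apply R R' K', hr, map_mul, pow_mul, map_pow, zpow_neg, zpow_natCast]
        rw [mul_comm (_ * _), ← mul_assoc, inv_mul_cancel₀ (pow_ne_zero n hw), one_mul]
    | add p q hp hq =>
      obtain ⟨r, hr⟩ := hp
      obtain ⟨r', hr'⟩ := hq
      exact ⟨r + r', by rw [map_add, map_add, hr, hr']⟩
  choose g₀ hg₀ using hrange
  have hinj' := IsFractionRing.injective R' K'
  let g : A →+* R' :=
    { toFun := g₀
      map_one' := hinj' (by rw [hg₀, map_one, map_one])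
      map_mul' := fun p q => hinj' (by rw [hg₀, map_mul, map_mul, hg₀, hg₀])
      map_zero' := hinj' (by rw [hg₀, map_zero, map_zero])
      map_add' := fun p q => hinj' (by rw [hg₀, map_add, map_add, hg₀, hg₀]) }
  refine ⟨R', inferInstance, inferInstance, inferInstance, K', inferInstance, inferInstance, inferInstance,
    inferInstance, algKK', algRK', inferInstance, inferInstance, hfinK, inferInstance, w, g, pow_ne_zero _ hx0, ?_,
    fun d z hz => ?_, ?_⟩
  · rw [hmR', Ideal.mem_span_singleton]; exact dvd_pow_self x ha.ne'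
  · change algebraMap R' K' (g₀ z) * _ = _
    rw [hg₀, hG d z hz, mul_assoc, ← zpow_add₀ hw, neg_add_cancel, zpow_zero, mul_one]
  · refine Ideal.eq_top_of_isUnit_mem _ (Ideal.mem_map_of_mem g
      (Ideal.subset_span ⟨deg s₀, hdeg s₀ hs₀S, hmem s₀ hs₀S⟩)) ?_
    have e : g₀ s₀ = algebraMap R R' (u s₀) := hinj' (by
      rw [hg₀, hG _ _ (hmem s₀ hs₀S), hvu s₀ hs₀, IsScalarTower.algebraMap_apply R R' K', map_mul, map_pow, ← hx,
        show deg s₀ = (b : ℤ) from (Int.toNat_of_nonneg (hdeg s₀ hs₀S).le).symm, zpow_neg, zpow_natCast,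
        ← map_pow, map_mul, show (x ^ b) ^ v s₀ = w ^ b from pow_right_comm x b (v s₀),
        mul_inv_cancel_right₀ (by rw [map_pow]; exact pow_ne_zero _ hw)])
    change IsUnit (g₀ s₀)
    rw [e]
    exact (u s₀).isUnit.map _


end Groth.Agent.S14123
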