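import Groth.Statements.S14128
import Groth.Agent.Lib.HilbSam.ComplexAcyclic
import Groth.Agent.Lib.CMFree.FiniteFlat

set_option autoImplicit false
universe u
open CategoryTheory CategoryTheory.Limits
open LocAlg

namespace Groth.Agent.S14128

/-- Let R be a regular local ring of Krull dimension g and M = (M^0 → M^1 → ⋯ → M^g) a perfect complex
over R, here a cochain complex of finitely generated free R-modules indexed by ℕ with M^i = 0 for i
> g, such that every cohomology module H^i(M) has finite length. Then H^i(M) = 0 for all i < g, so
that M has cohomology at most in degree g. -/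
theorem result (R : Type u) [CommRing R]
    [IsRegularLocalRing R] (g : ℕ) (hg : ringKrullDim R = g) (M : CochainComplex (ModuleCat.{u} R) ℕ)
    (hbd : ∀ i, g < i → IsZero (M.X i)) (hfree : ∀ i, Module.Free R (M.X i) ∧ Module.Finite R (M.X i))
    (hfl : ∀ i, IsFiniteLength R (M.homology i)) (i : ℕ) (hi : i < g) :
    IsZero (M.homology i) := by
  obtain ⟨rs, h1, h2, h3⟩ := GrothLib.CMFree.exists_weaklyRegular_of_isRegularLocalRing R
  have := GrothLib.CMFree.isCohenMacaulayLocalRing_of_weaklyRegular R rs h1 h2 h3.ge
  have hdep : LocCoh.depth R R = g := by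
    have := LocCoh.IsCohenMacaulayLocalRing.supportDim_eq_depth (R := R)
    rw [Module.supportDim_self_eq_ringKrullDim, hg] at this
    exact_mod_cast this.symm
  exact GrothLib.HilbSam.isZero_homology_of_lt_depth M hdep hfree hfl i hi

end Groth.Agent.S14128
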