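import Groth.Statements.S1413
import Groth.Agent.Lib.WeakEtale.Basic
-- import your own Groth.Agent.* helpers here

set_option autoImplicit false
universe u
open FlatMor

namespace Groth.Agent.S1413

open AlgebraicGeometry CategoryTheory Limits in
/-- Let X → Y → Z be morphisms with X → Y flat and surjective and with the diagonal of X over Z flat.
Then the diagonal of Y over Z is flat. -/
theorem result {X Y Z : Scheme.{u}} (f : X ⟶ Y) (g : Y ⟶ Z) [Flat f] [Surjective f] [Flat (pullback.diagonal (f ≫ g))] :
    Flat (pullback.diagonal g) := by
  haveI : Flat (f ≫ pullback.diagonal g) := by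
    rw [pullback.comp_diagonal]
    refine MorphismProperty.comp_mem _ _ _ inferInstance ?_
    exact MorphismProperty.pullbackMap (P := @Flat) inferInstance inferInstance rfl rfl
  exact GrothLib.WeakEtale.flat_of_comp_flat_surjective f _

end Groth.Agent.S1413
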