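import Groth.Statements.S14132
-- import your own Groth.Agent.* helpers here
import Groth.Agent.Lib.FMBC15.Transpose

set_option autoImplicit false
universe u
open CategoryTheory CategoryTheory.Limits MonoidalCategory CartesianMonoidalCategory MonObj GrpObj AlgebraicGeometry
attribute [local instance] HasDerivedCategory.standard
open AbVar

namespace Groth.Agent.S14132

/-- Let k be a field, A and B abelian varieties over k (proper smooth k-group schemes with geometrically
connected fibres), f : A → B a homomorphism, (A^t, φ_A) and (B^t, φ_B) given dual abelian varieties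
for the fppf topology (both abelian varieties), P_A on A ×_k A^t and P_B on B ×_k B^t invertible
modules whose classes are Poincaré classes, and f^t : B^t → A^t the transpose of f with respect to
these duals. Write Φ_{P_A} = Rpr_{2,*}(Lpr_1^*(−) ⊗^L P_A) : D(O_A) → D(O_{A^t}) and similarly
Φ_{P_B}; the derived functors involved are assumed to exist. Then, restricted to objects of D(O_A)
with quasi-coherent cohomology sheaves, Φ_{P_B} ∘ Rf_* is isomorphic to L(f^t)^* ∘ Φ_{P_A}
(existence of an isomorphism of functors). -/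
theorem result (k : Type u) [Field k]
    (A At B Bt : Over (Spec (CommRingCat.of k))) [GrpObj A] [IsProper A.hom] [Smooth A.hom] [GeometricallyConnected A.hom]
    [GrpObj At] [IsProper At.hom] [Smooth At.hom] [GeometricallyConnected At.hom]
    [GrpObj B] [IsProper B.hom] [Smooth B.hom] [GeometricallyConnected B.hom]
    [GrpObj Bt] [IsProper Bt.hom] [Smooth Bt.hom] [GeometricallyConnected Bt.hom]
    (φA : ∀ T : Over (Spec (CommRingCat.of k)), PicF.Cl (PicF.XT A.hom T) → (T ⟶ At))
    (hφA : AbDual.IsDualAV Scheme.fppfPrecoverage A At φA)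
    (φB : ∀ T : Over (Spec (CommRingCat.of k)), PicF.Cl (PicF.XT B.hom T) → (T ⟶ Bt))
    (hφB : AbDual.IsDualAV Scheme.fppfPrecoverage B Bt φB)
    (PA : (pullback A.hom At.hom).Modules) (hPA : PicF.IsInvertible PA)
    (hPAξ : AbDual.IsPoincareCl A At φA (PicF.cl PA))
    (PB : (pullback B.hom Bt.hom).Modules) (hPB : PicF.IsInvertible PB)
    (hPBξ : AbDual.IsPoincareCl B Bt φB (PicF.cl PB))
    (f : A ⟶ B) [IsMonHom f] (ft : Bt ⟶ At) (hft : AbDual.IsTranspose f φA φB ft)
    [DCoh.HasLpull (pullback.fst A.hom At.hom)] [DCoh.HasLTensorMod PA] [DCoh.HasRpush (pullback.snd A.hom At.hom)]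
    [DCoh.HasLpull (pullback.fst B.hom Bt.hom)] [DCoh.HasLTensorMod PB] [DCoh.HasRpush (pullback.snd B.hom Bt.hom)]
    [DCoh.HasRpush f.left] [DCoh.HasLpull ft.left] :
    Nonempty (ObjectProperty.ι (DCoh.IsQCohD (X := A.left)) ⋙ DCoh.Rpush f.left ⋙ (DCoh.Lpull (pullback.fst B.hom Bt.hom) ⋙ DCoh.LTensorMod PB ⋙ DCoh.Rpush (pullback.snd B.hom Bt.hom)) ≅
      ObjectProperty.ι (DCoh.IsQCohD (X := A.left)) ⋙ (DCoh.Lpull (pullback.fst A.hom At.hom) ⋙ DCoh.LTensorMod PA ⋙ DCoh.Rpush (pullback.snd A.hom At.hom)) ⋙ DCoh.Lpull ft.left) := by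
  haveI : DCoh.HasLpull (CartesianMonoidalCategory.fst A At).left := ‹DCoh.HasLpull (pullback.fst A.hom At.hom)›
  haveI : DCoh.HasRpush (CartesianMonoidalCategory.snd A At).left := ‹DCoh.HasRpush (pullback.snd A.hom At.hom)›
  haveI : DCoh.HasLTensorMod (X := (A ⊗ At).left) PA := ‹DCoh.HasLTensorMod PA›
  haveI : DCoh.HasLpull (CartesianMonoidalCategory.fst B Bt).left := ‹DCoh.HasLpull (pullback.fst B.hom Bt.hom)›
  haveI : DCoh.HasRpush (CartesianMonoidalCategory.snd B Bt).left := ‹DCoh.HasRpush (pullback.snd B.hom Bt.hom)›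
  haveI : DCoh.HasLTensorMod (X := (B ⊗ Bt).left) PB := ‹DCoh.HasLTensorMod PB›
  exact GrothLib.FMBC15.nonempty_pushforward_transpose (PA := PA) (PB := PB) hφA hPA hPAξ hPB hPBξ f ft hft

end Groth.Agent.S14132
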