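import Groth.Statements.S14137
import Groth.Agent.Lib.Euler.Slope

set_option autoImplicit false
universe u
open CategoryTheory CategoryTheory.Limits AlgebraicGeometry
open VBCurve

namespace Groth.Agent.S14137

/-- Let C be a smooth proper geometrically connected curve over a field k (proper, smooth and
geometrically connected over k, of dimension one), and E a finite locally free O_C-module of rank r
≥ 1 which is stable: for every finite locally free submodule G of E of rank r' ≥ 1 whose inclusion
is not an isomorphism one has deg G · r < deg E · r', the degree of a rank-n locally free module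
being χ(G) − n·χ(O_C) (stability tested on proper submodules, equivalent to the definition through
quotient bundles). Then every nonzero endomorphism of E is an isomorphism, i.e. End(E) is a division
ring. (Over an algebraically closed field it follows that End(E) = k; that consequence is not
restated.) -/
theorem result (k : Type u) [Field k] (X : Scheme.{u}) [X.Over (Spec (CommRingCat.of k))]
    [IsProper (X ↘ Spec (CommRingCat.of k))] [Smooth (X ↘ Spec (CommRingCat.of k))]
    [GeometricallyConnected (X ↘ Spec (CommRingCat.of k))] (hdim : topologicalKrullDim ↥X = 1)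
    (r : ℕ) (hr : 0 < r) (E : X.Modules) (hE : FlatMod.IsFinLocFreeOfRank r E)
    (hEst : (∀ (G : X.Modules) (r' : ℕ) (i : G ⟶ E), Mono i → 0 < r' → FlatMod.IsFinLocFreeOfRank r' G → (¬ IsIso i) →
      Curv2.deg k X G r' * (r : ℤ) < Curv2.deg k X E r * (r' : ℤ)))
    (f : E ⟶ E) (hf : f ≠ 0) : IsIso f := by
  haveI : ConnectedSpace X :=
    GeometricallyConnected.connectedSpace_of_subsingleton (f := X ↘ Spec (CommRingCat.of k))
  haveI := GrothLib.Euler.isIntegral_of_smooth_connected k (X ↘ Spec (CommRingCat.of k))
  have hpid := GrothLib.Euler.isPrincipalIdealRing_stalk_of_smooth (X ↘ Spec (CommRingCat.of k)) hdim.le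
  refine GrothLib.Euler.isIso_of_ne_zero_endo k hdim.le hpid hr hE (fun G r' i hi hr' hlt hG => ?_) f hf
  refine hEst G r' i hi hr' hG fun hiso => hlt.ne ?_
  have := GrothLib.Euler.grank_of_iso (asIso i)
  rwa [GrothLib.Euler.grank_of_locFree hG, GrothLib.Euler.grank_of_locFree hE] at this

end Groth.Agent.S14137
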