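import Groth.Statements.S14138
import Groth.Agent.Lib.CurveMult.SlopeSplit
import Groth.Agent.Lib.CurveMult.HyperAff

set_option autoImplicit false
universe u
open CategoryTheory CategoryTheory.Limits AlgebraicGeometry
open VBCurve

namespace Groth.Agent.S14138

/-- Let C be a smooth proper geometrically connected curve over a field k (proper, smooth and
geometrically connected over k, of dimension one) of genus one, i.e. dim_k H^1(C, O_C) = 1, and E a
finite locally free O_C-module of rank r ≥ 1 which is indecomposable: E is nonzero and whenever E ≅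
E₁ ⊕ E₂ one of the summands is zero. Then E is semistable: for every finite locally free submodule G
of E of rank r' ≥ 1 one has deg G · r ≤ deg E · r', the degree of a rank-n locally free module being
χ(G) − n·χ(O_C). (The published statement is for an elliptic curve; its proof, that the
Harder–Narasimhan filtration splits, uses only genus one, so no rational point is assumed here.) -/
theorem result (k : Type u) [Field k] (X : Scheme.{u}) [X.Over (Spec (CommRingCat.of k))]
    [IsProper (X ↘ Spec (CommRingCat.of k))] [Smooth (X ↘ Spec (CommRingCat.of k))]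
    [GeometricallyConnected (X ↘ Spec (CommRingCat.of k))] (hdim : topologicalKrullDim ↥X = 1)
    (hg : Curv2.genus k X = 1)
    (r : ℕ) (hr : 0 < r) (E : X.Modules) (hE : FlatMod.IsFinLocFreeOfRank r E)
    (hind : ¬ IsZero E ∧ ∀ (E₁ E₂ : X.Modules), Nonempty (E ≅ E₁ ⊞ E₂) → IsZero E₁ ∨ IsZero E₂) :
    (∀ (G : X.Modules) (r' : ℕ) (i : G ⟶ E), Mono i → 0 < r' → FlatMod.IsFinLocFreeOfRank r' G →
      Curv2.deg k X G r' * (r : ℤ) ≤ Curv2.deg k X E r * (r' : ℤ)) := by
  haveI : ConnectedSpace X :=
    GeometricallyConnected.connectedSpace_of_subsingleton (X ↘ Spec (CommRingCat.of k))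
  haveI := GrothLib.Euler.isIntegral_of_smooth_connected k (X ↘ Spec (CommRingCat.of k))
  haveI := GrothLib.CurveRR.regCurve_of_smooth (X ↘ Spec (CommRingCat.of k)) hdim
  exact GrothLib.CurveMult.subLe_of_indecomposable_genus_one k
    (GrothLib.CurveMult.finrank_H0_eq_one_of_geometricallyConnected k) hg hr hE hind.2

end Groth.Agent.S14138
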