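import Groth.Statements.S14140
-- import your own Groth.Agent.* helpers here
import Groth.Agent.Lib.Poincare.PicZeroSurjCor
import Groth.Agent.Lib.Poincare.TensorInv
import Groth.Agent.S12002

set_option autoImplicit false
universe u
open CategoryTheory CategoryTheory.Limits MonoidalCategory CartesianMonoidalCategory MonObj GrpObj AlgebraicGeometry
open AbVar

namespace Groth.Agent.S14140

/-- Let k be an algebraically closed field, A an abelian variety over k (a proper smooth k-group scheme
with geometrically connected fibres), L an ample invertible O_A-module with an inverse L' (L ⊗ L' ≅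
O_A), and M an invertible O_A-module in Pic⁰(A), meaning that t_x^*M ≅ M for every k-rational point
x of A, where t_x : A → A is the translation by x (the product of the identity and the constant map
x in the group Hom(A, A)). Then there is a k-rational point x of A with M ≅ t_x^*L ⊗ L'. -/
theorem result (k : Type u) [Field k] [IsAlgClosed k]
    (A : Over (Spec (CommRingCat.of k))) [GrpObj A] [IsProper A.hom] [Smooth A.hom] [GeometricallyConnected A.hom]
    (L L' : A.left.Modules) (hLa : CohB1.IsAmple L) (hLL' : Nonempty (CohB1.tensorMod L L' ≅ Coh.structureModule A.left))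
    (M : A.left.Modules) (hM : PicF.IsInvertible M)
    (hM0 : ∀ x : 𝟙_ (Over (Spec (CommRingCat.of k))) ⟶ A, Nonempty ((Scheme.Modules.pullback (𝟙 A * (toUnit A ≫ x)).left).obj M ≅ M)) :
    ∃ x : 𝟙_ (Over (Spec (CommRingCat.of k))) ⟶ A,
      Nonempty (M ≅ CohB1.tensorMod ((Scheme.Modules.pullback (𝟙 A * (toUnit A ≫ x)).left).obj L) L') := by
  haveI : GeometricallyIntegral A.hom := GrothLib.Dual.geometricallyIntegral_of_abScheme A
  obtain ⟨e⟩ := hLL'
  have hx := GrothLib.Cube.hasCls_clsMod hLa.1
  have hx' := GrothLib.Cube.hasCls_clsMod (GrothLib.Seesaw26.isInvertible_of_tensor_iso e hLa.1)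
  have hy := GrothLib.Cube.hasCls_clsMod hM
  have h1 := (hx.tensor hx').eq (GrothLib.Cube.hasCls_structureModule _) ⟨e⟩
  obtain ⟨a, ha⟩ := GrothLib.PicZeroSurj.exists_translate
    (by rw [GrothLib.PicZeroSurj.setOf_pull_transl_eq hx]; exact Groth.Agent.S12002.result k A L hLa)
    (GrothLib.PicZeroSurj.invariant_of_iso hy hM0)
  refine ⟨a, hy.iso ((hx.pullback _).tensor hx') ?_⟩
  show _ = GrothLib.Cube.pull (GrothLib.Cube.transl a).left _ * _
  rw [ha, mul_right_comm, h1, _root_.one_mul]

end Groth.Agent.S14140
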