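import Groth.Statements.S14141
-- import your own Groth.Agent.* helpers here
import Mathlib
import Groth.Agent.Lib.Rigidity.Relative.Descent

set_option autoImplicit false
universe u
open CategoryTheory CategoryTheory.Limits AlgebraicGeometry
open AbSch

namespace Groth.Agent.S14141

/-- Let S be a connected Noetherian scheme, f : X → S a proper flat morphism such that for every point s
of S the natural map κ(s) → H^0(X_s, O_{X_s}) on global sections of the fibre is bijective, g : Y →
S a separated morphism and π : X → Y a morphism over S. If for some point s of S the restriction of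
π to the fibre X_s is constant, i.e. factors through the projection X_s → Spec κ(s), then π is
constant over all of S: it factors as f followed by a section S → Y of g. (The published statement
is for arbitrary Noetherian S with the conclusion over the connected component of s; this row
assumes S connected, the reduction made in the first line of the printed proof.) -/
theorem result {X Y S : Scheme.{u}} [IsNoetherian S] [ConnectedSpace ↥S]
    (f : X ⟶ S) [IsProper f] [Flat f]
    (hfib : ∀ s : ↥S, Function.Bijective (algebraMap (S.residueField s) Γ(f.fiber s, ⊤)))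
    (g : Y ⟶ S) [IsSeparated g] (π : X ⟶ Y) (hπ : π ≫ g = f) (s : ↥S)
    (hs : ∃ y : Spec (S.residueField s) ⟶ Y, f.fiberι s ≫ π = f.fiberToSpecResidueField s ≫ y) :
    ∃ σ : S ⟶ Y, σ ≫ g = 𝟙 S ∧ π = f ≫ σ := by
  have hbij : ∀ t : S, Function.Bijective (f.fiberToSpecResidueField t).appTop := by
    intro t
    have h := (hfib t).comp (Scheme.ΓSpecIso (S.residueField t)).commRingCatIsoToRingEquiv.bijective
    convert h using 1
    funext a
    obtain ⟨a, rfl⟩ :=
      (Scheme.ΓSpecIso (S.residueField t)).commRingCatIsoToRingEquiv.symm.surjective a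
    simp only [Function.comp_apply, RingEquiv.apply_symm_apply]
    rfl
  have : Surjective f := ⟨fun t ↦ by
    by_contra hne
    have : IsEmpty (f.fiber t) := ⟨fun z ↦ hne ⟨f.fiberι t z, by
      have : (f.fiberι t) z ∈ Set.range (f.fiberι t) := ⟨z, rfl⟩
      rw [Scheme.Hom.range_fiberι] at this
      exact this⟩⟩
    have : Subsingleton Γ(f.fiber t, ⊤) := inferInstance
    exact one_ne_zero (α := S.residueField t) ((hfib t).1 (Subsingleton.elim _ _))⟩
  have : GrothLib.Rigidity.FibrewiseConst f := .of_bijective f hbij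
  obtain ⟨W, hWc, hW, k, hk⟩ :=
    GrothLib.Rigidity.exists_isClopen_factor f (𝟙 S) g π (by simp [hπ])
  obtain ⟨y, hy⟩ := hs
  have hsW : s ∈ W := by
    rw [← hW]
    rintro _ ⟨a, ha, rfl⟩ _ ⟨b, hb, rfl⟩
    obtain ⟨a, rfl⟩ : a ∈ Set.range (f.fiberι s) := by rw [Scheme.Hom.range_fiberι]; exact ha
    obtain ⟨b, rfl⟩ : b ∈ Set.range (f.fiberι s) := by rw [Scheme.Hom.range_fiberι]; exact hb
    rw [← Scheme.Hom.comp_apply, ← Scheme.Hom.comp_apply, hy, Scheme.Hom.comp_apply,
      Scheme.Hom.comp_apply, Subsingleton.elim (f.fiberToSpecResidueField s a)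
        (f.fiberToSpecResidueField s b)]
  have hWtop : W = ⊤ := TopologicalSpace.Opens.ext
    (IsClopen.eq_univ ⟨hWc, W.2⟩ ⟨s, hsW⟩)
  subst hWtop
  let σ : S ⟶ Y := S.topIso.inv ≫ k
  have hσ : π = f ≫ σ := by
    have hepi : Epi (f ⁻¹ᵁ ⊤).ι := by
      rw [show (f ⁻¹ᵁ ⊤).ι = X.topIso.hom from rfl]
      infer_instance
    rw [← cancel_epi (f ⁻¹ᵁ ⊤).ι, hk]
    show _ = (f ⁻¹ᵁ ⊤).ι ≫ f ≫ S.topIso.inv ≫ k
    rw [← morphismRestrict_ι_assoc, ← Scheme.topIso_hom, Iso.hom_inv_id_assoc]
  refine ⟨σ, ?_, hσ⟩
  have h0 : f ≫ σ ≫ g = f ≫ 𝟙 S := by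
    rw [← Category.assoc, ← hσ, hπ, Category.comp_id]
  exact (cancel_epi f).mp h0

end Groth.Agent.S14141
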