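import Groth.Statements.S14150
-- import your own Groth.Agent.* helpers here
import Groth.Agent.Lib.AbTors.TorsEquiv

set_option autoImplicit false
universe u
open CategoryTheory CategoryTheory.Limits MonoidalCategory CartesianMonoidalCategory MonObj GrpObj AlgebraicGeometry
open AbVar

namespace Groth.Agent.S14150

/-- Let k be an algebraically closed field, A an abelian variety over k (a proper smooth k-group scheme
with geometrically connected fibres) of dimension g, and n ≥ 1 an integer invertible in k. Then the
group A[n](k) of k-rational points of A killed by n is isomorphic to (ℤ/n)^{2g} (existence of a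
group isomorphism; the group of k-points is written multiplicatively). -/
theorem result (k : Type u) [Field k] [IsAlgClosed k]
    (A : Over (Spec (CommRingCat.of k))) [GrpObj A] [IsProper A.hom] [Smooth A.hom] [GeometricallyConnected A.hom] [IsCommMonObj A]
    (g : ℕ) (hg : topologicalKrullDim ↥A.left = g) (n : ℕ) (hn : 0 < n) (hnk : IsUnit (n : k)) :
    Nonempty (AbDual.torsPts A n (𝟙_ (Over (Spec (CommRingCat.of k)))) ≃* Multiplicative (Fin (2 * g) → ZMod n)) := by
  haveI : GeometricallyIntegral A.hom := GrothLib.Rigidity.geometricallyIntegral_of_smooth A
  exact GrothLib.AbTors.nonempty_torsPts_equiv A (Ω := k) (𝟙 _) hg hnk.ne_zero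

end Groth.Agent.S14150
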