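import Groth.Statements.S14152
import Groth.Agent.Lib.CurveRR.Special

set_option autoImplicit false
universe u
open CategoryTheory CategoryTheory.Limits AlgebraicGeometry
open Curves

namespace Groth.Agent.S14152

/-- Let k be an algebraically closed field and C a smooth proper integral curve over k (proper and
smooth over k, integral, of dimension one) of genus g ≥ 1, where g = dim_k H^1(C, O_C). Then for
every natural number r ≤ g there is an invertible O_C-module L of degree r, the degree being χ(L) −
χ(O_C), with dim_k H^0(C, L) = 1. (The published statement gives a non-empty open set of r-tuples of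
points (x_i) with h^0(O(Σ x_i)) = 1 and is placed in a chapter working in characteristic 0; the
existence of one such divisor, stated here, is what the row records, and the printed argument does
not use the characteristic.) -/
theorem result (k : Type u) [Field k] [IsAlgClosed k]
    (X : Scheme.{u}) [X.Over (Spec (CommRingCat.of k))] [IsIntegral X]
    [IsProper (X ↘ Spec (CommRingCat.of k))] [Smooth (X ↘ Spec (CommRingCat.of k))]
    (hdim : topologicalKrullDim ↥X = 1) (g : ℕ) (hg : Curv2.genus k X = g) (hg1 : 1 ≤ g)
    (r : ℕ) (hr : r ≤ g) :
    ∃ L : X.Modules, PicF.IsInvertible L ∧ Curv2.deg k X L 1 = (r : ℤ) ∧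
      Module.finrank k (Coh.HH X L 0) = 1 := by
  haveI := GrothLib.CurveRR.regCurve_of_smooth (X ↘ Spec (CommRingCat.of k)) hdim
  have h0' := GrothLib.CurveRR.finrank_H0_structure_eq_one k (X := X)
  have hK := GrothLib.CurveRR.isFunctionField k h0'
  obtain ⟨C, hC⟩ := GrothLib.FunFld.exists_isCanonical hK
  have hG := GrothLib.CurveRR.genus_eq k h0'
  obtain ⟨E, -, hd, hl⟩ := GrothLib.CurveRR.FF.exists_effective_ell_one hK r (by omega)
  exact ⟨GrothLib.CurveRR.oD k E, GrothLib.CurveRR.isInvertible_oD k E,
    by rw [GrothLib.CurveRR.deg_oD, hd], by rw [GrothLib.CurveRR.finrank_H0_oD, hl]⟩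

end Groth.Agent.S14152
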