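import Groth.Statements.S14155
import Groth.Agent.Lib.CurveMult.GenusOneStable
import Groth.Agent.Lib.CurveMult.SlopeSplit

set_option autoImplicit false
universe u
open CategoryTheory CategoryTheory.Limits AlgebraicGeometry
open VBCurve

namespace Groth.Agent.S14155

set_option backward.isDefEq.respectTransparency false


/-- Let k be an algebraically closed field, X a smooth proper integral curve over k (proper and smooth
over k, integral, of dimension one) of genus one, i.e. dim_k H^1(X, O_X) = 1 (an elliptic curve once
a base point is chosen), and F a finite locally free O_X-module of rank r ≥ 1 which is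
indecomposable (nonzero, and in any decomposition F ≅ F₁ ⊕ F₂ one summand is zero), of degree d =
χ(F) − r·χ(O_X). Then F is stable — deg G · r < d · r' for every finite locally free submodule G of
F of rank r' ≥ 1 whose inclusion is not an isomorphism — if and only if gcd(d, r) = 1. (The
published corollary also identifies stability with simplicity in two senses; those equivalences are
not restated.) -/
theorem result (k : Type u) [Field k] [IsAlgClosed k]
    (X : Scheme.{u}) [X.Over (Spec (CommRingCat.of k))] [IsIntegral X]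
    [IsProper (X ↘ Spec (CommRingCat.of k))] [Smooth (X ↘ Spec (CommRingCat.of k))]
    (hdim : topologicalKrullDim ↥X = 1) (hg : Curv2.genus k X = 1)
    (r : ℕ) (hr : 0 < r) (F : X.Modules) (hF : FlatMod.IsFinLocFreeOfRank r F)
    (hind : ¬ IsZero F ∧ ∀ (F₁ F₂ : X.Modules), Nonempty (F ≅ F₁ ⊞ F₂) → IsZero F₁ ∨ IsZero F₂) :
    (∀ (G : X.Modules) (r' : ℕ) (i : G ⟶ F), Mono i → 0 < r' → FlatMod.IsFinLocFreeOfRank r' G → (¬ IsIso i) →
      Curv2.deg k X G r' * (r : ℤ) < Curv2.deg k X F r * (r' : ℤ)) ↔ Int.gcd (Curv2.deg k X F r) (r : ℤ) = 1 := by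
  haveI := GrothLib.CurveRR.regCurve_of_smooth (X ↘ Spec (CommRingCat.of k)) hdim
  haveI := GrothLib.Euler.isNoetherian_of_proper (X := X) k
  have hFc := GrothLib.Euler.isCoh_of_isFinLocFree (GrothLib.FinCov.isFinLocFree_of_rank hF)
  constructor
  · intro h
    refine GrothLib.CurveMult.gcd_eq_one_of_subLt k hg r hr F hF fun G r' i hi hr' hlt hG => h G r' i hi hr' hG fun hiso => ?_
    have := (GrothLib.Euler.grank_of_iso (asIso i)).trans (GrothLib.Euler.grank_of_locFree hF)
    rw [GrothLib.Euler.grank_of_locFree hG] at this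
    omega
  · intro hgcd G r' i hi hr' hG hiso
    haveI := hi
    have hss := GrothLib.CurveMult.subLe_of_indecomposable_genus_one k
      (GrothLib.CurveRR.finrank_H0_structure_eq_one k (X := X)) hg hr hF hind.2
    refine lt_of_le_of_ne (hss G r' i hi hr' hG) fun heq => ?_
    have hle : r' ≤ r := by
      have := GrothLib.Euler.grank_le_of_mono i hFc
      rwa [GrothLib.Euler.grank_of_locFree hG, GrothLib.Euler.grank_of_locFree hF] at this
    have hdvd : (r : ℤ) ∣ (r' : ℤ) :=
      Int.dvd_of_dvd_mul_right_of_gcd_one ⟨Curv2.deg k X G r', by rw [← heq]; ring⟩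
        (by rw [Int.gcd_comm]; exact hgcd)
    have hrr : r' = r := le_antisymm hle (Nat.le_of_dvd hr' (Int.natCast_dvd_natCast.1 hdvd))
    subst hrr
    have h2 := GrothLib.Euler.degree_le_of_mono k hdim.le i
      (GrothLib.Euler.isCoh_of_isFinLocFree (GrothLib.FinCov.isFinLocFree_of_rank hG)) hFc
      (by rw [GrothLib.Euler.grank_of_locFree hG, GrothLib.Euler.grank_of_locFree hF])
    refine hiso (h2.2 ?_)
    rw [← GrothLib.Euler.deg_eq_degree k hG, ← GrothLib.Euler.deg_eq_degree k hF]
    exact mul_right_cancel₀ (by exact_mod_cast hr.ne') heq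

end Groth.Agent.S14155
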