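import Groth.Statements.S14160
-- import your own Groth.Agent.* helpers here
import Groth.Agent.Lib.PolSym15.Sym
import Groth.Agent.Lib.Cube.AbScheme
import Groth.Agent.Lib.Cube.MulFinite

set_option autoImplicit false
universe u
open CategoryTheory CategoryTheory.Limits MonoidalCategory CartesianMonoidalCategory MonObj AlgebraicGeometry
open AgPol

namespace Groth.Agent.S14160

/-- Let S be a locally Noetherian scheme, A a projective abelian scheme over S of relative dimension g
with commutative group law, (At, φ) a commutative group scheme with data presenting it as the dual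
of A for the fppf topology, ξ a Poincaré class on A ×_S At, and k ≥ 1. If lam₁, lam₂ : A ⟶ At are
polarisations such that ξ pulls back to the same class on A along the graphs of lam₁ ^ k and of lam₂
^ k (powers in the group of A-valued points of At), then lam₁ = lam₂. (The published statement
claims uniqueness among all homomorphisms into the dual; on the square E × E of an elliptic curve
with its product principal polarisation lam₀, the homomorphism α(x, y) = lam₀(y, −x) has lam₀ + α ≠
lam₀ while the graphs of k·lam₀ and k·(lam₀ + α) pull the Poincaré class back to isomorphic sheaves,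
so this row asks lam₁, lam₂ to be polarisations, which is the case the printed argument covers; k =
0 is excluded since both pull backs are then along the unit section.) -/
theorem result (S : Scheme.{u}) [IsLocallyNoetherian S] (A At : Over S) [GrpObj A] [IsCommMonObj A]
    [GrpObj At] [IsCommMonObj At] (g : ℕ) (hA : AgPol.IsAbSch A g) (hproj : RelProj.IsProjective A.hom)
    (φ : AgPol.DualMap A At) (hdual : AbDual.IsDualAV Scheme.fppfPrecoverage A At φ)
    (ξ : PicF.Cl (PicF.XT A.hom At)) (hξ : AbDual.IsPoincareCl A At φ ξ) (k : ℕ) (hk : 1 ≤ k)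
    (lam₁ lam₂ : A ⟶ At) (h₁ : AgPol.IsPolarization A At φ lam₁) (h₂ : AgPol.IsPolarization A At φ lam₂)
    (heq : PicF.pullCl (pullback.lift (𝟙 A.left) (lam₁ ^ k).left ((Category.id_comp A.hom).trans (Over.w (lam₁ ^ k)).symm)) ξ = PicF.pullCl (pullback.lift (𝟙 A.left) (lam₂ ^ k).left ((Category.id_comp A.hom).trans (Over.w (lam₂ ^ k)).symm)) ξ) :
    lam₁ = lam₂ := by
  haveI := hA.smooth
  haveI := hA.proper
  haveI := hA.geomConnected
  haveI := GrothLib.Dual.geometricallyIntegral_of_abScheme A
  obtain ⟨P, hP, hPi, hPt⟩ := id hξ.1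
  subst hP
  have hcP := GrothLib.Cube.hasCls_clsMod (X := (A ⊗ At).left) (L := P) hPi
  have hx := GrothLib.PolSym15.isUniv_of_isPoincareCl hcP hξ
  haveI : IsMonHom lam₁ := h₁.1
  haveI : IsMonHom lam₂ := h₂.1
  set x := GrothLib.Cube.clsMod (X := (A ⊗ At).left) (L := P) hPi
  have hpow : ∀ (lam : A ⟶ At) (n : ℕ), GrothLib.PolSym15.pair x (𝟙 A) (lam ^ n) =
      GrothLib.PolSym15.pair x (𝟙 A) lam ^ n := by
    intro lam n
    induction n with
    | zero => rw [pow_zero, pow_zero, GrothLib.PolSym15.pair_one_right hx hdual]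
    | succ m ih => rw [pow_succ, pow_succ, GrothLib.PolSym15.pair_mul_right hx hdual, ih]
  have hxy : GrothLib.PolSym15.pair x (𝟙 A) (lam₁ ^ k) = GrothLib.PolSym15.pair x (𝟙 A) (lam₂ ^ k) :=
    GrothLib.Dual.cls_eq_of_cl_eq (hcP.pullback (lift (𝟙 A) (lam₁ ^ k)).left) (hcP.pullback (lift (𝟙 A) (lam₂ ^ k)).left) heq
  rw [hpow, hpow] at hxy
  have h2 := GrothLib.PolSym15.pow_eq_of_graph_pow_eq hdual hx lam₁ lam₂ h₁ h₂ k hxy
  have hd : lam₁ ^ (k + k) = lam₂ ^ (k + k) := by
    rw [pow_add, pow_add, ← _root_.mul_pow, ← _root_.mul_pow]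
    exact h2
  haveI : Flat A.hom := inferInstance
  haveI : LocallyOfFinitePresentation A.hom := inferInstance
  haveI : GeometricallyReduced A.hom := inferInstance
  obtain ⟨hfin, hfl, hsur⟩ := GrothLib.Cube.isogeny_pow_relative A (show k + k ≠ 0 by omega)
  haveI := hfin; haveI := hfl; haveI := hsur
  haveI : Epi ((𝟙 A : A ⟶ A) ^ (k + k)).left := Flat.epi_of_flat_of_surjective _
  haveI : Epi ((𝟙 A : A ⟶ A) ^ (k + k)) := Functor.epi_of_epi_map (Over.forget S) ‹_›
  refine (cancel_epi ((𝟙 A : A ⟶ A) ^ (k + k))).1 ?_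
  rw [MonObj.pow_comp, MonObj.pow_comp, Category.id_comp, Category.id_comp, hd]

end Groth.Agent.S14160
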