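import Groth.Statements.S14164
-- import your own Groth.Agent.* helpers here
import Groth.Agent.Lib.AbVanish15.Basic

set_option autoImplicit false
universe u
open CategoryTheory CategoryTheory.Limits MonoidalCategory CartesianMonoidalCategory MonObj AlgebraicGeometry
open AgPol

namespace Groth.Agent.S14164

/-- Let S be a locally Noetherian scheme, A a projective abelian scheme over S of relative dimension g
with structure morphism π, and L an invertible module on A which is ample relative to π. Then R^i
π_* L = 0 for every i ≥ 1 (right derived functors of the direct image on modules), and π_* L is a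
finite locally free module on S. -/
theorem result (S : Scheme.{u}) [IsLocallyNoetherian S]
    (A : Over S) [GrpObj A] (g : ℕ) (hA : AgPol.IsAbSch A g) (hproj : RelProj.IsProjective A.hom)
    [HasInjectiveResolutions A.left.Modules]
    (L : A.left.Modules) (hL : PicF.IsInvertible L) (hample : RelAmple.IsRelAmple A.hom L) :
    (∀ i : ℕ, 1 ≤ i → IsZero ((Coh.Rpush A.hom i).obj L)) ∧
      FlatMod.IsFinLocFree ((Coh.push A.hom).obj L) := by
  haveI := hA.smooth
  haveI := hA.proper
  haveI := hA.geomConnected
  exact GrothLib.AbVanish15.rpush_zero_push_finLocFree A hample

end Groth.Agent.S14164
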