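import Groth.Statements.S14170
import Groth.Agent.Lib.PtsReg5.Main
-- import your own Groth.Agent.* helpers here

set_option autoImplicit false
universe u
open CategoryTheory CategoryTheory.Limits AlgebraicGeometry
open Variety

namespace Groth.Agent.S14170

/-- Let k be an algebraically closed field of characteristic zero (the published statement is over the
complex numbers; this row allows any algebraically closed field of characteristic zero), N ≥ 0, and
i : X → P^N_k a closed immersion with X finite as a set, say with t points (a zero-dimensional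
closed subscheme supported at t distinct points). Suppose μ : X → ℕ is such that for every point x
the maximal ideal of the local ring O_{X,x} satisfies m_x^(μ(x)+1) = 0 (so μ(x) bounds the largest
exponent with a nonzero power). Then H^1(P^N_k, I_X(j)) = 0 for every integer j ≥ Σ_x μ(x) + t - 1,
where I_X is the ideal sheaf of i viewed as an O-module; and I_X is (Σ_x μ(x) + t)-regular. -/
theorem result (k : Type u) [Field k] [IsAlgClosed k] [CharZero k]
    (N : ℕ) (X : Scheme.{u}) (i : X ⟶ CohB1.ProjSpace N k) [IsClosedImmersion i] [Finite X]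
    (μ : X → ℕ) (hμ : ∀ x : X, IsLocalRing.maximalIdeal (X.presheaf.stalk x) ^ (μ x + 1) = ⊥) :
    (∀ j : ℤ, (∑ᶠ x : X, (μ x : ℤ)) + (Nat.card X : ℤ) - 1 ≤ j →
      Subsingleton (Coh.HH (CohB1.ProjSpace N k)
        (CohB1.tensorMod (ClSub.idealMod i.ker) (Twist.twistProjSpace N k j)) 1)) ∧
    Curv2.IsMRegular k N (ClSub.idealMod i.ker) ((∑ᶠ x : X, (μ x : ℤ)) + (Nat.card X : ℤ)) := by
  have h := GrothLib.PtsReg5.regular_idealMod X i μ hμ
  exact ⟨fun j hj => GrothLib.CMReg.propagate (GrothLib.RegPow.isCoh_idealMod i.ker) _ h 1 j le_rfl (by omega), h⟩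

end Groth.Agent.S14170
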