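import Groth.Statements.S14175
import Mathlib.GroupTheory.OrderOfElement

set_option autoImplicit false
universe u v w
open GalCoh

namespace Groth.Agent.S14175

/-- Let G be a finite cyclic group generated by t, let m be a natural number dividing the order of G,
and let ρ be a linear representation of G on a module V over a commutative ring k such that m·V = 0
and every element of G whose m-th power is the identity acts trivially on V. Then evaluating a
crossed homomorphism at t induces a bijection from the first cohomology of G with values in V
(crossed homomorphisms f, i.e. f(gh) = ρ(g)f(h) + f(g), modulo the principal ones g ↦ ρ(g)x − x)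
onto the coinvariants V_G (the quotient of V by the span of all ρ(g)v − v): the class of f(t) in V_G
vanishes exactly when f is principal, and every class of V_G is the class of f(t) for some crossed
homomorphism f. The bijection depends on the choice of the generator t. -/
theorem result
    {k : Type u} {G : Type v} {V : Type w} [CommRing k] [Group G] [Finite G]
    [AddCommGroup V] [Module k V] (ρ : Representation k G V)
    (t : G) (ht : ∀ g : G, g ∈ Subgroup.zpowers t)
    (m : ℕ) (hm : m ∣ Nat.card G) (htors : ∀ v : V, m • v = 0)
    (htriv : ∀ g : G, g ^ m = 1 → ∀ v : V, ρ g v = v) :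
    (∀ f : G → V, (∀ g h : G, f (g * h) = ρ g (f h) + f g) →
        (Representation.Coinvariants.mk ρ (f t) = 0 ↔ ∃ x : V, ∀ g : G, f g = ρ g x - x)) ∧
    (∀ v : V, ∃ f : G → V, (∀ g h : G, f (g * h) = ρ g (f h) + f g) ∧
        Representation.Coinvariants.mk ρ (f t) = Representation.Coinvariants.mk ρ v) := by
  constructor
  · intro f hf
    constructor
    · intro h0
      rw [Representation.Coinvariants.mk_eq_zero] at h0
      have hle : Representation.Coinvariants.ker ρ ≤ LinearMap.range (ρ t - 1) := by
        refine Submodule.span_le.2 ?_
        rintro _ ⟨⟨g, v⟩, rfl⟩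
        obtain ⟨i, hi⟩ : g ∈ Submonoid.powers t := mem_powers_iff_mem_zpowers.2 (ht g)
        refine ⟨∑ j ∈ Finset.range i, ρ (t ^ j) v, ?_⟩
        simp only at hi ⊢
        rw [← hi, LinearMap.sub_apply, Module.End.one_apply, map_sum, ← Finset.sum_sub_distrib]
        rw [Finset.sum_congr rfl (fun j _ => show ρ t (ρ (t ^ j) v) - ρ (t ^ j) v
          = ρ (t ^ (j + 1)) v - ρ (t ^ j) v by rw [pow_succ', map_mul, Module.End.mul_apply])]
        rw [Finset.sum_range_sub (fun j => ρ (t ^ j) v), pow_zero, map_one, Module.End.one_apply]
      obtain ⟨x, hx⟩ := hle h0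
      have hx' : ρ t x - x = f t := by simpa using hx
      refine ⟨x, fun g => ?_⟩
      have hone : f 1 = 0 := by
        have h := hf 1 1
        simpa using h
      let H : Subgroup G :=
        { carrier := {g | f g = ρ g x - x}
          one_mem' := by simp [hone]
          mul_mem' := fun {a b} ha hb => by
            simp only [Set.mem_setOf_eq] at ha hb ⊢
            rw [hf, ha, hb, map_sub, map_mul, Module.End.mul_apply]
            abel
          inv_mem' := fun {a} ha => by
            simp only [Set.mem_setOf_eq] at ha ⊢
            have h := hf a⁻¹ a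
            rw [inv_mul_cancel, hone, ha, map_sub, ← Module.End.mul_apply, ← map_mul,
              inv_mul_cancel, map_one, Module.End.one_apply] at h
            rw [eq_neg_of_add_eq_zero_right h.symm]
            abel }
      exact (Subgroup.zpowers_le.2 (show t ∈ H from hx'.symm)) (ht g)
    · rintro ⟨x, hx⟩
      rw [Representation.Coinvariants.mk_eq_zero, hx]
      exact Representation.Coinvariants.sub_mem_ker t x
  · intro v
    have hn : orderOf t = Nat.card G := by
      rw [← Nat.card_zpowers, show Subgroup.zpowers t = ⊤ from eq_top_iff.2 fun g _ => ht g,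
        Subgroup.card_top]
    let S : ℕ → V := fun i => ∑ j ∈ Finset.range i, ρ (t ^ j) v
    have hSadd : ∀ a b, S (a + b) = ρ (t ^ a) (S b) + S a := by
      intro a b
      simp only [S]
      rw [Finset.sum_range_add, map_sum, add_comm]
      simp [pow_add]
    obtain ⟨d, hd⟩ := hm
    have hSn : S (Nat.card G) = 0 := by
      have htd : ∀ w, ρ (t ^ d) w = w :=
        htriv _ (by rw [← pow_mul, mul_comm, ← hd, pow_card_eq_one'])
      have : ∀ j, S (j * d) = j • S d := by
        intro j
        induction j with
        | zero => simp [S]
        | succ j ih => rw [add_mul, one_mul, add_comm, hSadd, ih, htd, succ_nsmul]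
      rw [hd, this, htors]
    have hSmul : ∀ a q, S (a + Nat.card G * q) = S a := by
      intro a q
      induction q with
      | zero => simp
      | succ q ih => rw [Nat.mul_succ, ← add_assoc, hSadd, hSn, map_zero, zero_add, ih]
    have hwd : ∀ a b, t ^ a = t ^ b → S a = S b := by
      intro a b hab
      rw [pow_eq_pow_iff_modEq, hn] at hab
      rw [← Nat.mod_add_div a (Nat.card G), ← Nat.mod_add_div b (Nat.card G), hSmul, hSmul, hab]
    have hpow : ∀ g : G, ∃ i : ℕ, t ^ i = g := fun g =>
      (Submonoid.mem_powers_iff _ _).1 (mem_powers_iff_mem_zpowers.2 (ht g))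
    choose c hc using hpow
    refine ⟨fun g => S (c g), fun g h => ?_, ?_⟩
    · show S (c (g * h)) = ρ g (S (c h)) + S (c g)
      rw [hwd (c (g * h)) (c g + c h) (by rw [pow_add, hc, hc, hc]), hSadd, hc]
    · show Representation.Coinvariants.mk ρ (S (c t)) = _
      rw [hwd (c t) 1 (by rw [hc, pow_one])]
      simp [S]

end Groth.Agent.S14175
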