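import Groth.Statements.S14176
import Mathlib.GroupTheory.FiniteAbelian.Duality
import Mathlib.GroupTheory.SpecificGroups.Cyclic
import Mathlib.Analysis.Complex.Basic
import Mathlib.RingTheory.RootsOfUnity.Complex
import Mathlib.Analysis.Complex.Polynomial.Basic
import Mathlib.FieldTheory.IsAlgClosed.Basic
import Mathlib.Topology.Algebra.Group.Quotient
import Mathlib.GroupTheory.Torsion
import Mathlib.RingTheory.RootsOfUnity.AlgebraicallyClosed
import Mathlib.Topology.Algebra.ClopenNhdofOne
import Mathlib.Tactic.Group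

set_option autoImplicit false
universe u
open Pi1

namespace Groth.Agent.S14176

open W4c1etcurveeff2 in
theorem separates {Q : Type*} [CommGroup Q] [Finite Q] {n : ℕ} [NeZero n] (hQ : ∀ q : Q, q ^ n = 1) {q : Q}
    (hq : q ≠ 1) : ∃ χ : Q →* Multiplicative (ZMod n), χ q ≠ 1 := by
  have : NeZero ((Monoid.exponent Q : ℕ) : ℂ) := ⟨Nat.cast_ne_zero.2 (Monoid.exponent_ne_zero_of_finite)⟩
  obtain ⟨φ, hφ⟩ := CommGroup.exists_apply_ne_one_of_hasEnoughRootsOfUnity Q ℂ hq
  have hmem : ∀ x, φ x ∈ rootsOfUnity n ℂ := fun x => by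
    rw [mem_rootsOfUnity, ← map_pow, hQ, map_one]
  let e : rootsOfUnity n ℂ ≃* Multiplicative (ZMod n) := mulEquivOfCyclicCardEq (by
    rw [Complex.card_rootsOfUnity, Nat.card_congr Multiplicative.toAdd, Nat.card_zmod])
  exact ⟨e.toMonoidHom.comp (φ.codRestrict _ hmem), fun h => hφ (congrArg Subtype.val (e.map_eq_one_iff.1 h))⟩

theorem card_hom {Q : Type*} [CommGroup Q] [Finite Q] {n : ℕ} [NeZero n] (hQ : ∀ q : Q, q ^ n = 1) :
    Nat.card (Q →* Multiplicative (ZMod n)) = Nat.card Q := by
  have : NeZero ((Monoid.exponent Q : ℕ) : ℂ) := ⟨Nat.cast_ne_zero.2 (Monoid.exponent_ne_zero_of_finite)⟩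
  have hmem : ∀ (φ : Q →* ℂˣ) x, φ x ∈ rootsOfUnity n ℂ := fun φ x => by
    rw [mem_rootsOfUnity, ← map_pow, hQ, map_one]
  let e : rootsOfUnity n ℂ ≃* Multiplicative (ZMod n) := mulEquivOfCyclicCardEq (by
    rw [Complex.card_rootsOfUnity, Nat.card_congr Multiplicative.toAdd, Nat.card_zmod])
  let E : (Q →* ℂˣ) ≃ (Q →* Multiplicative (ZMod n)) :=
    { toFun := fun φ => e.toMonoidHom.comp (φ.codRestrict _ (hmem φ))
      invFun := fun χ => (rootsOfUnity n ℂ).subtype.comp (e.symm.toMonoidHom.comp χ)
      left_inv := fun φ => MonoidHom.ext fun x => by simp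
      right_inv := fun χ => MonoidHom.ext fun x => by simp }
  rw [← Nat.card_congr E]
  exact Nat.card_congr (CommGroup.monoidHom_mulEquiv_of_hasEnoughRootsOfUnity Q ℂ).some.toEquiv

open W4c1etcurveeff2

/-- Let G be a topological group in which some finite subset generates a dense subgroup, let n ≥ 1, and
let S be the closure of the subgroup generated by all n-th powers and all commutators. Write D for
the group of continuous homomorphisms from G to the discrete cyclic group ℤ/n, that is,
homomorphisms with open kernel (the first cohomology of G with coefficients in the trivial module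
ℤ/n), and D^∨ for its ℤ/n-dual, the group of homomorphisms D → ℤ/n. Then: S is carried onto itself
by every group automorphism of G that is a homeomorphism; an element g of G lies in S exactly when
every element of D kills g, and every element of D^∨ is evaluation at some element of G, so that
evaluation identifies G/S with D^∨; and S is the only closed normal subgroup H of G with G/H
isomorphic to D^∨. (The published statement is for a topologically finitely generated group, calls S
characteristic and does not restrict the competing subgroups H; this row asks the automorphisms to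
be homeomorphisms and H to be closed, which is what the argument uses: for the integers with the
p-adic topology times a cyclic group of prime order q ≠ p, the subgroup qℤ × ℤ/q is normal, not
closed, and has quotient isomorphic to D^∨ ≅ ℤ/q, while S = ℤ × 0.) -/
theorem result
    {G : Type u} [Group G] [TopologicalSpace G] [IsTopologicalGroup G]
    (s : Finset G) (hs : Dense ((Subgroup.closure (s : Set G) : Subgroup G) : Set G))
    (n : ℕ) [NeZero n] (S : Subgroup G) (hS : S = powCommClosure G n) :
    (∀ φ : G ≃* G, Continuous φ → Continuous φ.symm → S.map φ.toMonoidHom = S) ∧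
    (∀ g : G, g ∈ S ↔
        ∀ χ : G →* Multiplicative (ZMod n), IsOpen ((χ.ker : Subgroup G) : Set G) → χ g = 1) ∧
    (∀ F : ContChar G n →* Multiplicative (ZMod n), ∃ g : G,
        ∀ χ : ContChar G n, F χ = (χ.1 : G →* Multiplicative (ZMod n)) g) ∧
    (∀ (H : Subgroup G) [H.Normal], IsClosed (H : Set G) →
        Nonempty (G ⧸ H ≃* (ContChar G n →* Multiplicative (ZMod n))) → H = S) := by
  set P : Subgroup G := Subgroup.closure (Set.range fun g : G => g ^ n) ⊔ commutator G with hP
  have hSP : S = P.topologicalClosure := hS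
  have hPS : P ≤ S := hSP ▸ P.le_topologicalClosure
  have hclosed : IsClosed (S : Set G) := hSP ▸ P.isClosed_topologicalClosure
  haveI hn : S.Normal := ⟨fun a ha g => by
    have h1 : g * a * g⁻¹ * a⁻¹ ∈ S := hPS (Subgroup.mem_sup_right (Subgroup.commutator_mem_commutator trivial trivial))
    simpa using S.mul_mem h1 ha⟩
  have hcommS : ∀ a b : G ⧸ S, a * b = b * a := by
    intro a b
    obtain ⟨a, rfl⟩ := QuotientGroup.mk_surjective a
    obtain ⟨b, rfl⟩ := QuotientGroup.mk_surjective b
    rw [← QuotientGroup.mk_mul, ← QuotientGroup.mk_mul, QuotientGroup.eq]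
    rw [show (a * b)⁻¹ * (b * a) = b⁻¹ * a⁻¹ * b⁻¹⁻¹ * a⁻¹⁻¹ by group]
    exact hPS (Subgroup.mem_sup_right (Subgroup.commutator_mem_commutator trivial trivial))
  letI : CommGroup (G ⧸ S) := { (inferInstance : Group (G ⧸ S)) with mul_comm := hcommS }
  have hQ : ∀ q : G ⧸ S, q ^ n = 1 := by
    intro q
    obtain ⟨g, rfl⟩ := QuotientGroup.mk_surjective q
    rw [← QuotientGroup.mk_pow, QuotientGroup.eq_one_iff]
    exact hPS (Subgroup.mem_sup_left (Subgroup.subset_closure ⟨g, rfl⟩))
  let Γ := (Subgroup.closure (s : Set G)).map (QuotientGroup.mk' S)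
  haveI : Group.FG Γ := by
    rw [Group.fg_iff_subgroup_fg]
    classical
    exact ⟨s.image (QuotientGroup.mk' S), by simp [Γ, MonoidHom.map_closure]⟩
  haveI hΓ : Finite Γ := CommGroup.finite_of_fg_torsion Γ fun x =>
    isOfFinOrder_iff_pow_eq_one.2 ⟨n, Nat.pos_of_ne_zero (NeZero.ne n), Subtype.ext (hQ x)⟩
  haveI : IsClosed (S : Set G) := hclosed
  have hclΓ : (Γ : Set (G ⧸ S)) = Set.univ := by
    have h1 : IsClosed (Γ : Set (G ⧸ S)) := (Set.toFinite (Γ : Set (G ⧸ S))).isClosed
    have h2 : Dense (Γ : Set (G ⧸ S)) :=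
      (QuotientGroup.mk_surjective.denseRange (f := (QuotientGroup.mk : G → G ⧸ S))).dense_image
        QuotientGroup.continuous_mk hs
    rw [← h1.closure_eq, h2.closure_eq]
  haveI : Finite (G ⧸ S) := by
    rw [← Set.finite_univ_iff, ← hclΓ]
    exact Set.toFinite _
  have hopen : IsOpen (S : Set G) := by
    haveI : S.FiniteIndex := Subgroup.finiteIndex_of_finite_quotient
    exact Subgroup.isOpen_of_isClosed_of_finiteIndex S hclosed
  have hkerS : ∀ χ : G →* Multiplicative (ZMod n), IsOpen ((χ.ker : Subgroup G) : Set G) → S ≤ χ.ker := by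
    intro χ hχ
    rw [hSP]
    refine P.topologicalClosure_minimal (sup_le ?_ (Abelianization.commutator_subset_ker χ)) ?_
    · rw [Subgroup.closure_le]
      rintro _ ⟨g, rfl⟩
      show χ (g ^ n) = 1
      rw [map_pow]
      refine Multiplicative.toAdd.injective ?_
      simp
    · exact (⟨χ.ker, hχ⟩ : OpenSubgroup G).isClosed
  let L : (G ⧸ S →* Multiplicative (ZMod n)) ≃* ContChar G n :=
    { toFun := fun f => ⟨f.comp (QuotientGroup.mk' S), Subgroup.isOpen_mono (fun x hx => by
        rw [MonoidHom.mem_ker, MonoidHom.comp_apply, QuotientGroup.mk'_apply, (QuotientGroup.eq_one_iff x).2 hx, map_one]) hopen⟩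
      invFun := fun χ => QuotientGroup.lift S χ.1 (hkerS χ.1 χ.2)
      left_inv := fun f => MonoidHom.ext fun q => by
        obtain ⟨g, rfl⟩ := QuotientGroup.mk_surjective q; rfl
      right_inv := fun χ => Subtype.ext (MonoidHom.ext fun g => rfl)
      map_mul' := fun f f' => rfl }
  let ev : G ⧸ S →* ((G ⧸ S →* Multiplicative (ZMod n)) →* Multiplicative (ZMod n)) :=
    { toFun := fun q => ⟨⟨fun f => f q, rfl⟩, fun f f' => rfl⟩
      map_one' := MonoidHom.ext fun f => map_one f
      map_mul' := fun q q' => MonoidHom.ext fun f => map_mul f q q' }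
  haveI : Finite (G ⧸ S →* Multiplicative (ZMod n)) := Finite.of_injective _ DFunLike.coe_injective
  haveI : Finite ((G ⧸ S →* Multiplicative (ZMod n)) →* Multiplicative (ZMod n)) :=
    Finite.of_injective _ DFunLike.coe_injective
  have hev : Function.Bijective ev := by
    have hinj : Function.Injective ev := (injective_iff_map_eq_one ev).2 fun q hq => by
      by_contra h
      obtain ⟨χ, hχ⟩ := separates hQ h
      exact hχ (DFunLike.congr_fun hq χ)
    refine hinj.bijective_of_nat_card_le ?_
    rw [card_hom (fun f => MonoidHom.ext fun q => by rw [MonoidHom.pow_apply, ← map_pow, hQ, map_one, MonoidHom.one_apply]),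
      card_hom hQ]
  refine ⟨fun φ hφ hφs => ?_, fun g => ⟨fun hg χ hχ => hkerS χ hχ hg, fun h => ?_⟩, fun F => ?_, ?_⟩
  · have key : ∀ φ : G ≃* G, Continuous φ → S.map φ.toMonoidHom ≤ S := by
      intro φ hφ
      rw [Subgroup.map_le_iff_le_comap]
      conv_lhs => rw [hSP]
      refine P.topologicalClosure_minimal (sup_le ?_ ?_) (hclosed.preimage hφ)
      · rw [Subgroup.closure_le]
        rintro _ ⟨g, rfl⟩
        show φ (g ^ n) ∈ S
        rw [map_pow]
        exact hPS (Subgroup.mem_sup_left (Subgroup.subset_closure ⟨φ g, rfl⟩))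
      · rw [← Subgroup.map_le_iff_le_comap, commutator_def, Subgroup.map_commutator]
        exact (Subgroup.commutator_mono le_top le_top).trans (le_sup_right.trans hPS)
    refine le_antisymm (key φ hφ) fun x hx => ⟨φ.symm x, key φ.symm hφs ⟨x, hx, rfl⟩, by simp⟩
  · rw [← QuotientGroup.eq_one_iff]
    by_contra hne
    obtain ⟨χ, hχ⟩ := separates hQ hne
    exact hχ (h (L χ).1 (L χ).2)
  · obtain ⟨q, hq⟩ := hev.2 (F.comp L.toMonoidHom)
    obtain ⟨g, rfl⟩ := QuotientGroup.mk_surjective q
    refine ⟨g, fun χ => ?_⟩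
    have := DFunLike.congr_fun hq (L.symm χ)
    simp only [MonoidHom.comp_apply, MulEquiv.coe_toMonoidHom, MulEquiv.apply_symm_apply] at this
    exact this.symm
  · rintro H hHn hH ⟨e⟩
    have hpow : ∀ q : G ⧸ H, q ^ n = 1 := fun q => e.injective (by
      rw [map_pow, map_one]
      exact MonoidHom.ext fun f => Multiplicative.toAdd.injective (by simp))
    have hcomm : ∀ a b : G ⧸ H, a * b = b * a := fun a b => e.injective (by rw [map_mul, map_mul, mul_comm])
    have hle : S ≤ H := by
      rw [hSP]
      refine P.topologicalClosure_minimal (sup_le ?_ ?_) hH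
      · rw [Subgroup.closure_le]
        rintro _ ⟨g, rfl⟩
        show g ^ n ∈ H
        rw [← QuotientGroup.eq_one_iff, QuotientGroup.mk_pow, hpow]
      · rw [commutator_def, Subgroup.commutator_le]
        intro a _ b _
        rw [← QuotientGroup.eq_one_iff, commutatorElement_def, QuotientGroup.mk_mul, QuotientGroup.mk_mul, QuotientGroup.mk_mul,
          hcomm (a : G ⧸ H) b, QuotientGroup.mk_inv, QuotientGroup.mk_inv, mul_inv_cancel_right, mul_inv_cancel]
    refine le_antisymm ?_ hle
    have hcard : Nat.card (G ⧸ H) = Nat.card (G ⧸ S) := by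
      rw [Nat.card_congr e.toEquiv, ← Nat.card_congr (MulEquiv.monoidHomCongrLeft L).toEquiv,
        ← Nat.card_congr (Equiv.ofBijective ev hev)]
    let π : G ⧸ S →* G ⧸ H := QuotientGroup.map S H (MonoidHom.id G) hle
    have hπ : Function.Surjective π := fun y => by
      obtain ⟨g, rfl⟩ := QuotientGroup.mk_surjective y
      exact ⟨QuotientGroup.mk g, rfl⟩
    haveI : Finite (G ⧸ H) := Finite.of_surjective π hπ
    have hb := hπ.bijective_of_nat_card_le hcard.ge
    intro x hx
    rw [← QuotientGroup.eq_one_iff]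
    refine hb.1 ?_
    rw [map_one, QuotientGroup.map_mk, MonoidHom.id_apply, QuotientGroup.eq_one_iff]
    exact hx

end Groth.Agent.S14176
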