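import Groth.Statements.S14177
import Mathlib

set_option autoImplicit false
universe u v w
open scoped nonZeroDivisors
open EtAlg

namespace Groth.Agent.S14177

open Polynomial
open scoped nonZeroDivisors

set_option maxHeartbeats 1000000

/-- An element killing all differentials when adjoining an `n`-th root. -/
theorem kill {A B : Type*} [CommRing A] [CommRing B] [Algebra A B] (n : ℕ) (hn0 : n ≠ 0) (hn : IsUnit (n : A))
    (β : B) (a : A) (hβ : β ^ n = algebraMap A B a) (q r : A[X]) (hqr : X ^ n - C a = q * r)
    (hq : aeval β q = 0) (hc : aeval β (derivative q) ∈ conductor A β) (y : Ω[B⁄A]) :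
    (a ^ 2) • y = 0 := by
  obtain ⟨v, hv⟩ := hn.exists_left_inv
  let d := KaehlerDifferential.D A B
  have hdβ : a • d β = 0 := by
    have h1 : ((n : A) • (β ^ (n - 1) • d β)) = 0 := by
      have h0 : d (β ^ n) = 0 := by rw [hβ]; exact d.map_algebraMap a
      rw [Derivation.leibniz_pow] at h0
      rwa [Nat.cast_smul_eq_nsmul]
    have h2 := congrArg (fun z => v • z) h1
    simp only [smul_zero, smul_smul, hv, one_smul] at h2
    rw [← algebraMap_smul B a (d β), ← hβ, show β ^ n = β * β ^ (n - 1) from by rw [← pow_succ', Nat.sub_add_cancel (Nat.pos_of_ne_zero hn0)],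
      mul_smul, h2, smul_zero]
  suffices h : ∀ b, (a ^ 2) • d b = 0 by
    have hy : y ∈ Submodule.span B (Set.range d) := by rw [KaehlerDifferential.span_range_derivation]; trivial
    induction hy using Submodule.span_induction with
    | mem x hx => obtain ⟨b, rfl⟩ := hx; exact h b
    | zero => exact smul_zero _
    | add x z _ _ hx hz => rw [smul_add, hx, hz, add_zero]
    | smul c x _ hx => rw [smul_comm, hx, smul_zero]
  intro b
  have hd : ∀ P : A[X], a • d (aeval β P) = 0 := fun P => by
    rw [Derivation.map_aeval, smul_comm, hdβ, smul_zero]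
  obtain ⟨P, hP⟩ : ∃ P : A[X], aeval β P = aeval β (derivative q) * b := by
    have := (mem_conductor_iff).1 hc b
    rwa [Algebra.adjoin_singleton_eq_range_aeval, AlgHom.mem_range] at this
  have h3 : aeval β (derivative q) • (a • d b) = 0 := by
    have h4 := hd P
    rw [hP, Derivation.leibniz, smul_add, smul_comm a b, hd, smul_zero, add_zero, smul_comm] at h4
    exact h4
  have h5 : (n : B) * β ^ (n - 1) = aeval β (derivative q) * aeval β r := by
    have h6 := congrArg (fun p => aeval β (derivative p)) hqr
    simpa [derivative_mul, derivative_X_pow, hq] using h6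
  have h7 : ((n : B) * β ^ (n - 1)) • (a • d b) = 0 := by
    rw [h5, mul_comm, mul_smul, h3, smul_zero]
  have h8 : ((n : B) * β ^ n) • (a • d b) = 0 := by
    rw [show (n : B) * β ^ n = β * ((n : B) * β ^ (n - 1)) from by rw [mul_left_comm, ← pow_succ', Nat.sub_add_cancel (Nat.pos_of_ne_zero hn0)],
      mul_smul, h7, smul_zero]
  rw [hβ, ← map_natCast (algebraMap A B), ← map_mul, algebraMap_smul, smul_smul] at h8
  calc (a ^ 2) • d b = (v * ((n : A) * a * a)) • d b := by
        congr 1
        rw [← mul_assoc v, ← mul_assoc v, hv, one_mul, sq]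
    _ = 0 := by rw [mul_smul, h8, smul_zero]


/-- Let A be a Dedekind domain with fraction field K, let n be a natural number invertible in A, let f
be a nonzero element of K whose principal fractional ideal is the n-th power of a fractional ideal I
(the divisor of f is n times a divisor), and let L = K(α) be a field extension of K generated by a
single element α with α^n = f. Then the integral closure of A in L is finite and étale over A. (The
published statement is for the normalisation of an integral smooth curve over a perfect field in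
such an extension of its function field; this row states the same for any Dedekind domain, the case
the local argument covers.) -/
theorem result
    {A : Type u} {K : Type v} {L : Type w} [CommRing A] [IsDedekindDomain A]
    [Field K] [Algebra A K] [IsFractionRing A K]
    [Field L] [Algebra K L] [Algebra A L] [IsScalarTower A K L]
    (n : ℕ) (hn : IsUnit (n : A)) (f : K) (hf : f ≠ 0)
    (I : FractionalIdeal A⁰ K) (hI : FractionalIdeal.spanSingleton A⁰ f = I ^ n)
    (α : L) (hα : α ^ n = algebraMap K L f) (hgen : IntermediateField.adjoin K {α} = ⊤) :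
    Algebra.Etale A (integralClosure A L) ∧ Module.Finite A (integralClosure A L) := by
  classical
  have hn0 : n ≠ 0 := fun h => by simp [h] at hn
  have hnK : (n : K) ≠ 0 := by
    rw [← map_natCast (algebraMap A K)]
    exact (hn.map (algebraMap A K)).ne_zero
  have hnpos := Nat.pos_of_ne_zero hn0
  have hαsep : IsSeparable K α := Separable.of_dvd (separable_X_pow_sub_C f hnK hf)
    (minpoly.dvd K α (by simp [hα]))
  have hαint : IsIntegral K α := hαsep.isIntegral
  haveI : FiniteDimensional K L := by
    haveI := IntermediateField.adjoin.finiteDimensional hαint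
    rw [hgen] at this
    exact IntermediateField.topEquiv.toLinearEquiv.finiteDimensional
  haveI : Algebra.IsSeparable K L := by
    have := (IntermediateField.isSeparable_adjoin_simple_iff_isSeparable K L).2 hαsep
    rw [hgen] at this
    exact AlgEquiv.Algebra.isSeparable IntermediateField.topEquiv
  haveI hfin : Module.Finite A (integralClosure A L) := IsIntegralClosure.finite A K L (integralClosure A L)
  haveI := IsIntegralClosure.isDedekindDomain A K L (integralClosure A L)
  have hinjAL : Function.Injective (algebraMap A L) := by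
    rw [IsScalarTower.algebraMap_eq A K L]
    exact (algebraMap K L).injective.comp (IsFractionRing.injective A K)
  haveI : Module.IsTorsionFree A (integralClosure A L) := by
    rw [Module.isTorsionFree_iff_algebraMap_injective]
    exact fun x y h => hinjAL (congrArg Subtype.val h)
  haveI : Algebra.FinitePresentation A (integralClosure A L) := Algebra.FinitePresentation.of_finiteType.1 inferInstance
  haveI : Algebra.FormallyUnramified A (integralClosure A L) := by
    refine ⟨⟨fun y z => ?_⟩⟩
    suffices h : ∀ y : Ω[integralClosure A L⁄A], y = 0 by rw [h y, h z]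
    intro y
    by_contra hy
    obtain ⟨m, hm, hle⟩ := Ideal.exists_le_maximal (LinearMap.ker (LinearMap.toSpanSingleton A _ y))
      (fun h => hy (by simpa using (Ideal.eq_top_iff_one _).1 h))
    have hI0 : I ≠ 0 := fun h => by
      rw [h, zero_pow hn0] at hI
      exact hf (FractionalIdeal.spanSingleton_eq_zero_iff.1 hI)
    -- a local generator of `I⁻¹`
    obtain ⟨g, hg, hgm⟩ : ∃ g ∈ I⁻¹, g ∉ I⁻¹ * (m : FractionalIdeal A⁰ K) := by
      by_contra! hcon
      have h1 : I * I⁻¹ ≤ I * (I⁻¹ * (m : FractionalIdeal A⁰ K)) := by gcongr; exact hcon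
      rw [← mul_assoc, mul_inv_cancel₀ hI0, one_mul] at h1
      exact hm.ne_top (top_unique ((FractionalIdeal.coeIdeal_le_coeIdeal K).1 (by rwa [FractionalIdeal.coeIdeal_top])))
    have hg0 : g ≠ 0 := fun h => hgm (h ▸ Submodule.zero_mem _)
    have hJ1 : FractionalIdeal.spanSingleton A⁰ g * I ≤ 1 := by
      calc _ ≤ I⁻¹ * I := by gcongr; exact FractionalIdeal.spanSingleton_le_iff_mem.2 hg
        _ = 1 := inv_mul_cancel₀ hI0
    obtain ⟨J, hJ⟩ := FractionalIdeal.le_one_iff_exists_coeIdeal.1 hJ1
    have hJn : ((J ^ n : Ideal A) : FractionalIdeal A⁰ K) = FractionalIdeal.spanSingleton A⁰ (g ^ n * f) := by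
      rw [FractionalIdeal.coeIdeal_pow, hJ, mul_pow, FractionalIdeal.spanSingleton_pow, ← hI,
        FractionalIdeal.spanSingleton_mul_spanSingleton]
    obtain ⟨a, haJ, ha⟩ := (FractionalIdeal.mem_coeIdeal A⁰).1 (hJn.symm ▸ FractionalIdeal.mem_spanSingleton_self A⁰ (g ^ n * f))
    have ham : a ∉ m := fun h => by
      have h1 : (J ^ n : Ideal A) ≤ m := by
        rw [← FractionalIdeal.coeIdeal_le_coeIdeal K, hJn, FractionalIdeal.spanSingleton_le_iff_mem, ← ha]
        exact FractionalIdeal.mem_coeIdeal_of_mem _ h
      have h2 : J ≤ m := hm.isPrime.le_of_pow_le h1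
      apply hgm
      rw [← FractionalIdeal.spanSingleton_le_iff_mem]
      calc FractionalIdeal.spanSingleton A⁰ g = (FractionalIdeal.spanSingleton A⁰ g * I) * I⁻¹ := by
            rw [mul_assoc, mul_inv_cancel₀ hI0, mul_one]
        _ ≤ (m : FractionalIdeal A⁰ K) * I⁻¹ := by
            rw [← hJ]; gcongr
        _ = _ := mul_comm _ _
    have hβa : (algebraMap K L g * α) ^ n = algebraMap A L a := by
      rw [mul_pow, hα, ← map_pow, ← map_mul, ← ha, ← IsScalarTower.algebraMap_apply]
    have hβint : IsIntegral A (algebraMap K L g * α) :=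
      IsIntegral.of_pow hnpos (hβa ▸ isIntegral_algebraMap)
    let β : integralClosure A L := ⟨algebraMap K L g * α, hβint⟩
    have hβ : β ^ n = algebraMap A (integralClosure A L) a := Subtype.ext hβa
    have htop : Algebra.adjoin K {algebraMap (integralClosure A L) L β} = ⊤ := by
      have h1 : Algebra.adjoin K {α} = ⊤ := by
        rw [← IntermediateField.adjoin_simple_toSubalgebra_of_isAlgebraic hαint.isAlgebraic, hgen, IntermediateField.top_toSubalgebra]
      rw [eq_top_iff, ← h1, Algebra.adjoin_le_iff, Set.singleton_subset_iff, SetLike.mem_coe]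
      have h2 : α = g⁻¹ • algebraMap (integralClosure A L) L β := by
        show α = g⁻¹ • (algebraMap K L g * α)
        rw [Algebra.smul_def, ← mul_assoc, ← map_mul, inv_mul_cancel₀ hg0, map_one, one_mul]
      rw [h2]
      exact Subalgebra.smul_mem _ (Algebra.subset_adjoin (Set.mem_singleton _)) _
    have hAβ : IsIntegral A β := IsIntegralClosure.isIntegral A L β
    obtain ⟨r, hr⟩ := minpoly.isIntegrallyClosed_dvd hAβ (p := X ^ n - C a) (by simp [hβ])
    have hc : aeval β (derivative (minpoly A β)) ∈ conductor A β := by
      have h1 := Ideal.mem_span_singleton_self (aeval β (derivative (minpoly A β)))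
      rw [← conductor_mul_differentIdeal A K L β htop] at h1
      exact Ideal.mul_le_left h1
    refine ham (hm.isPrime.mem_of_pow_mem 2 (hle ?_))
    exact kill n hn0 hn β a hβ _ r hr (minpoly.aeval _ _) hc y
  exact ⟨Algebra.Etale.of_formallyUnramified_of_flat, hfin⟩


end Groth.Agent.S14177
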