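import Groth.Statements.S14178
import Mathlib.FieldTheory.KummerExtension
import Mathlib.RingTheory.DedekindDomain.Factorization
import Mathlib.RingTheory.UniqueFactorizationDomain.Multiplicity
import Mathlib.Algebra.Polynomial.Splits
-- import your own Groth.Agent.* helpers here

set_option autoImplicit false
universe u v w
open scoped nonZeroDivisors
open EtAlg

namespace Groth.Agent.S14178

/-- Let A be a Dedekind domain with fraction field K, let n be a natural number invertible in A such
that K contains a primitive n-th root of unity, let f be a nonzero element of K and I an invertible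
fractional ideal of A with (f) = I^n whose class in the ideal class group of A has order exactly n
(the divisor of f is n times a divisor whose class has order n), and let L = K(α) be a field
extension of K generated by a single element α with α^n = f. Then L is Galois over K of degree n
with cyclic Galois group. (The published statement is for an integral smooth curve over a perfect
field containing a primitive n-th root of unity, with the Picard group of the curve in place of the
class group; this row states it for any Dedekind domain.) -/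
theorem result
    {A : Type u} {K : Type v} {L : Type w} [CommRing A] [IsDedekindDomain A]
    [Field K] [Algebra A K] [IsFractionRing A K]
    [Field L] [Algebra K L]
    (n : ℕ) (hn : IsUnit (n : A)) (ζ : K) (hζ : IsPrimitiveRoot ζ n) (f : K) (hf : f ≠ 0)
    (I : (FractionalIdeal A⁰ K)ˣ) (hI : FractionalIdeal.spanSingleton A⁰ f = (I : FractionalIdeal A⁰ K) ^ n)
    (hord : orderOf (ClassGroup.mk K I) = n)
    (α : L) (hα : α ^ n = algebraMap K L f) (hgen : IntermediateField.adjoin K {α} = ⊤) :
    IsGalois K L ∧ IsCyclic (L ≃ₐ[K] L) ∧ Module.finrank K L = n := by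
  classical
  have hn0 : n ≠ 0 := by
    rintro rfl
    simp at hn
  have hn' : 0 < n := Nat.pos_of_ne_zero hn0
  haveI : NeZero n := ⟨hn0⟩
  have hint : IsIntegral K α := ⟨Polynomial.X ^ n - Polynomial.C f, Polynomial.monic_X_pow_sub_C f hn0, by
    simp [hα]⟩
  have hα0 : α ≠ 0 := by
    rintro rfl
    rw [zero_pow hn0] at hα
    exact hf ((map_eq_zero _).1 hα.symm)
  haveI hfd : FiniteDimensional K L := by
    haveI := IntermediateField.adjoin.finiteDimensional hint
    rw [hgen] at this
    exact Module.Finite.equiv (IntermediateField.topEquiv (F := K) (E := L)).toLinearEquiv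
  have hdeg : Module.finrank K L = (minpoly K α).natDegree := by
    rw [← IntermediateField.adjoin.finrank hint, hgen, IntermediateField.finrank_top']
  set ζL := algebraMap K L ζ
  have hζL : IsPrimitiveRoot ζL n := hζ.map_of_injective (algebraMap K L).injective
  have hdvd : minpoly K α ∣ Polynomial.X ^ n - Polynomial.C f := minpoly.dvd K α (by simp [hα])
  set P := (minpoly K α).map (algebraMap K L) with hP
  have hspl : P.Splits := by
    refine Polynomial.Splits.of_dvd ?_ ?_ (Polynomial.map_dvd _ hdvd)
    · rw [Polynomial.map_sub, Polynomial.map_pow, Polynomial.map_X, Polynomial.map_C]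
      exact X_pow_sub_C_splits_of_isPrimitiveRoot hζL hα
    · exact Polynomial.map_ne_zero (Polynomial.X_pow_sub_C_ne_zero hn' f)
  have hroots : ∀ r ∈ P.roots, ∃ z : K, r = algebraMap K L z * α := by
    intro r hr
    have h0 : (Polynomial.X ^ n - Polynomial.C f : Polynomial K).eval₂ (algebraMap K L) r = 0 := by
      rw [← Polynomial.eval_map]
      exact Polynomial.eval_eq_zero_of_dvd_of_eval_eq_zero (Polynomial.map_dvd _ hdvd)
        (Polynomial.isRoot_of_mem_roots hr)
    simp [sub_eq_zero] at h0
    obtain ⟨i, -, hi⟩ := hζL.eq_pow_of_pow_eq_one (ξ := r / α) (by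
      rw [div_pow, h0, hα, div_self (by rw [← hα]; exact pow_ne_zero _ hα0)])
    exact ⟨ζ ^ i, by rw [map_pow]; rw [hi, div_mul_cancel₀ _ hα0]⟩
  have hprod : ∀ s : Multiset L, (∀ r ∈ s, ∃ z : K, r = algebraMap K L z * α) →
      ∃ z : K, s.prod = algebraMap K L z * α ^ s.card := by
    intro s
    induction s using Multiset.induction_on with
    | empty => exact fun _ => ⟨1, by simp⟩
    | cons a s ih =>
      intro h
      obtain ⟨z, hz⟩ := h a (Multiset.mem_cons_self a s)
      obtain ⟨w, hw⟩ := ih fun r hr => h r (Multiset.mem_cons_of_mem hr)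
      exact ⟨z * w, by rw [Multiset.prod_cons, Multiset.card_cons, hz, hw, pow_succ, map_mul]; ring⟩
  obtain ⟨z, hz⟩ := hprod _ hroots
  have hc0 := hspl.coeff_zero_eq_prod_roots_of_monic ((minpoly.monic hint).map _)
  rw [hP, Polynomial.coeff_map, ← hP, hz, ← hspl.natDegree_eq_card_roots, hP,
    Polynomial.natDegree_map] at hc0
  set m := (minpoly K α).natDegree with hm
  have hc : (minpoly K α).coeff 0 ≠ 0 := minpoly.coeff_zero_ne_zero hint hα0
  have hz0 : z ≠ 0 := fun h => hc ((map_eq_zero (algebraMap K L)).1 (by rw [hc0, h]; simp))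
  obtain ⟨g, hg⟩ : ∃ g : K, α ^ m = algebraMap K L g := by
    refine ⟨(minpoly K α).coeff 0 / ((-1) ^ m * z), ?_⟩
    rw [map_div₀, hc0, map_mul, map_pow, map_neg, map_one]
    field_simp [map_eq_zero, hz0]
  have hgf : g ^ n = f ^ m := (algebraMap K L).injective (by
    rw [map_pow, map_pow, ← hg, ← hα, ← pow_mul, ← pow_mul, mul_comm])
  have hg0 : g ≠ 0 := fun h => pow_ne_zero m hf (by rw [← hgf, h, zero_pow hn0])
  -- torsion-freeness of fractional ideals
  have hIg : (I : FractionalIdeal A⁰ K) ^ m = FractionalIdeal.spanSingleton A⁰ g := by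
    set J := (I : FractionalIdeal A⁰ K) ^ m * FractionalIdeal.spanSingleton A⁰ g⁻¹ with hJ
    have hJn : J ^ n = 1 := by
      rw [hJ, mul_pow, ← pow_mul, mul_comm m n, pow_mul, ← hI, FractionalIdeal.spanSingleton_pow,
        FractionalIdeal.spanSingleton_pow, FractionalIdeal.spanSingleton_mul_spanSingleton, inv_pow,
        hgf, mul_inv_cancel₀ (pow_ne_zero m hf), FractionalIdeal.spanSingleton_one]
    obtain ⟨a, b, ha, hab⟩ := FractionalIdeal.exists_eq_spanSingleton_mul J
    have haK : algebraMap A K a ≠ 0 := by simpa using ha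
    have hb : (b : FractionalIdeal A⁰ K) = FractionalIdeal.spanSingleton A⁰ (algebraMap A K a) * J := by
      rw [hab, ← mul_assoc, FractionalIdeal.spanSingleton_mul_spanSingleton, mul_inv_cancel₀ haK,
        FractionalIdeal.spanSingleton_one, one_mul]
    have hbn : b ^ n = Ideal.span {a} ^ n := by
      apply FractionalIdeal.coeIdeal_injective (K := K)
      simp only [FractionalIdeal.coeIdeal_pow, hb, mul_pow, hJn, mul_one,
        FractionalIdeal.coeIdeal_span_singleton]
    have hba : b = Ideal.span {a} := dvd_antisymm
      ((UniqueFactorizationMonoid.pow_dvd_pow_iff_dvd hn0).1 (dvd_of_eq hbn))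
      ((UniqueFactorizationMonoid.pow_dvd_pow_iff_dvd hn0).1 (dvd_of_eq hbn.symm))
    have hJ1 : J = 1 := by
      rw [hab, hba, FractionalIdeal.coeIdeal_span_singleton,
        FractionalIdeal.spanSingleton_mul_spanSingleton, inv_mul_cancel₀ haK,
        FractionalIdeal.spanSingleton_one]
    calc (I : FractionalIdeal A⁰ K) ^ m
        = J * FractionalIdeal.spanSingleton A⁰ g := by
          rw [hJ, mul_assoc, FractionalIdeal.spanSingleton_mul_spanSingleton, inv_mul_cancel₀ hg0,
            FractionalIdeal.spanSingleton_one, mul_one]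
      _ = _ := by rw [hJ1, one_mul]
  have hnm : n ∣ m := by
    rw [← hord]
    refine orderOf_dvd_of_pow_eq_one ?_
    rw [← map_pow, ClassGroup.mk_eq_one_iff, Units.val_pow_eq_pow_val, hIg, FractionalIdeal.coe_spanSingleton]
    exact ⟨⟨g, rfl⟩⟩
  have hle : m ≤ n := by
    have := Polynomial.natDegree_le_of_dvd hdvd (Polynomial.X_pow_sub_C_ne_zero hn' f)
    rwa [Polynomial.natDegree_X_pow_sub_C] at this
  have hmn : m = n := le_antisymm hle (Nat.le_of_dvd (minpoly.natDegree_pos hint) hnm)
  have hfin : Module.finrank K L = n := hdeg.trans hmn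
  have hirr : Irreducible (Polynomial.X ^ n - Polynomial.C f) := by
    rw [Polynomial.eq_of_monic_of_dvd_of_natDegree_le (minpoly.monic hint)
      (Polynomial.monic_X_pow_sub_C f hn0) hdvd (by rw [Polynomial.natDegree_X_pow_sub_C]; omega)]
    exact minpoly.irreducible hint
  have hK : (primitiveRoots (Module.finrank K L) K).Nonempty :=
    ⟨ζ, by rw [hfin]; exact (mem_primitiveRoots hn').2 hζ⟩
  have hsf : Polynomial.IsSplittingField K L (Polynomial.X ^ n - Polynomial.C f) := by
    have := isSplittingField_X_pow_sub_C_of_root_adjoin_eq_top hK (a := f) (α := α)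
      (by rw [hfin, hα]) hgen
    rwa [hfin] at this
  have hζ' : (primitiveRoots n K).Nonempty := ⟨ζ, (mem_primitiveRoots hn').2 hζ⟩
  exact ⟨isGalois_of_isSplittingField_X_pow_sub_C hζ' hirr L,
    isCyclic_of_isSplittingField_X_pow_sub_C hζ' hirr L, hfin⟩

end Groth.Agent.S14178
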