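import Groth.Statements.S14179
import Groth.Agent.Lib.HpullIntegral18.Basic
import Groth.Agent.Lib.NormFib.Birational
import Groth.Agent.Lib.CharRing.Nagata
import Groth.Agent.Lib.N2.FiniteType
import Groth.Agent.Lib.GalCd.BrCurve
import Groth.Agent.Lib.CdBr2.Torsion
-- import your own Groth.Agent.* helpers here

set_option autoImplicit false
universe u
open CategoryTheory CategoryTheory.Limits AlgebraicGeometry
open EtCore

namespace Groth.Agent.S14179

/-- Let k be an algebraically closed field, X an integral curve over k (separated and of finite type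
over k, of dimension one) and ν : X^ν ⟶ X its normalization, and let n ≥ 1 be invertible in k. Then
pulling back along ν induces a bijection from H²(X, μ_n) onto H²(X^ν, ν⁻¹μ_n) (étale cohomology;
ν⁻¹μ_n is the sheaf of n-th roots of unity of X^ν). (The published statement allows any curve over
k; this row takes X integral. Exactness of pullback of abelian sheaves and the quasi-compactness and
quasi-separatedness of Spec K(X) ⟶ X always hold; the binders are only needed to form the map and
the normalization.) -/
theorem result
    (k : Type u) [Field k] [IsAlgClosed k] (X : Scheme.{u}) (f : X ⟶ Spec (CommRingCat.of k))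
    [IsSeparated f] [LocallyOfFiniteType f] [QuasiCompact f] [IsIntegral X]
    (hdim : topologicalKrullDim X = 1)
    [QuasiCompact (X.fromSpecStalk (genericPoint X))] [QuasiSeparated (X.fromSpecStalk (genericPoint X))]
    [PreservesFiniteLimits (EtCoh.pull (Curv2.normalizationι X))]
    (n : ℕ) (hn : 1 ≤ n) (hnk : (n : k) ≠ 0) :
    Function.Bijective (EtCore.Hpull (Curv2.normalizationι X) (EtCoh.mu X n) 2) := by
  haveI : CompactSpace X := QuasiCompact.compactSpace_of_compactSpace f
  haveI : IsLocallyNoetherian X := LocallyOfFiniteType.isLocallyNoetherian f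
  haveI : AlgebraicGeometry.IsNoetherian X := {}
  have hN : ∀ U : X.affineOpens, CAlg.IsNagata Γ(X, (U : X.Opens)) := fun U => by
    obtain ⟨φ, hφ⟩ := Spec.map_surjective (U.2.fromSpec ≫ f)
    letI : Algebra k Γ(X, (U : X.Opens)) := φ.hom.toAlgebra
    haveI : Algebra.FiniteType k Γ(X, (U : X.Opens)) := by
      have h1 : LocallyOfFiniteType (Spec.map φ) := hφ ▸ inferInstance
      exact HasRingHomProperty.Spec_iff.mp h1
    exact GrothLib.N2.isNagata_of_finiteType (GrothLib.CharRing.isNagata_field (K := k)) _
  have hfin := GrothLib.NormFib.isFinite_of_nagata hN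
  haveI := hfin
  obtain ⟨V, hV, hiso⟩ := GrothLib.NormFib.exists_isIso_of_finite hfin
  haveI := hiso
  have hη : genericPoint X ∈ V := by
    obtain ⟨y, hy⟩ := hV
    exact (genericPoint_specializes y).mem_open V.2 hy
  haveI : Surjective (Curv2.normalizationι X) := ⟨fun x => by
    have hr : genericPoint X ∈ Set.range (Curv2.normalizationι X) := by
      obtain ⟨z, hz⟩ := ((Curv2.normalizationι X) ∣_ V).surjective ⟨genericPoint X, hη⟩
      exact ⟨z.1, (morphismRestrict_base_coe (Curv2.normalizationι X) V z).symm.trans (congrArg Subtype.val hz)⟩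
    exact (genericPoint_specializes x).mem_closed (Curv2.normalizationι X).isClosedMap.isClosed_range hr⟩
  refine GrothLib.HpullIntegral18.Hpull_bijective (Curv2.normalizationι X)
    (fun x hx => GrothLib.GalCd.isSepClosed_residueField_of_closed f x hx) V (fun x hx => ?_) _ 2 le_rfl
  exact (GrothLib.GalCd.maximal_of_not_isClosed hdim.le x hx _ (genericPoint_specializes x)) ▸ hη

end Groth.Agent.S14179
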