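import Groth.Statements.S14181
import Mathlib.Algebra.BigOperators.GroupWithZero.Action

set_option autoImplicit false
universe u
open CategoryTheory
open GalCoh

namespace Groth.Agent.S14181

/-- Let G be a group with a finite normal subgroup P, k a commutative ring and A a k-linear
representation of G such that multiplication by the order of P is a bijection of A. Then the
inflation map on 1-cocycles (crossed homomorphisms) Z¹(G/P, A^P) → Z¹(G, A) has a k-linear left
inverse. (The published statement is for the inertia group of a Galois cover of smooth curves at a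
point, its normal Sylow p-subgroup P and a module of n-torsion with n prime to p; the argument uses
only that the order of P acts invertibly, which is the hypothesis taken here.) -/
theorem result
    {k G : Type u} [CommRing k] [Group G] (A : Rep.{u} k G) (P : Subgroup G) [P.Normal] [Finite P]
    (hP : Function.Bijective fun a : A => (Nat.card P : k) • a) :
    ∃ r : ModuleCat.of k (groupCohomology.cocycles₁ A) ⟶
        ModuleCat.of k (groupCohomology.cocycles₁ (A.quotientToInvariants P)),
      (groupCohomology.mapCocycles₁ (QuotientGroup.mk' P) (Rep.ofHom (A.ρ.quotientToInvariants_lift P)) :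
          ModuleCat.of k (groupCohomology.cocycles₁ (A.quotientToInvariants P)) ⟶
            ModuleCat.of k (groupCohomology.cocycles₁ A)) ≫ r = 𝟙 _ := by
  have : Fintype P := Fintype.ofFinite P
  let e : A ≃ₗ[k] A := LinearEquiv.ofBijective ((Nat.card P : k) • LinearMap.id) hP
  have he : ∀ a : A, e a = (Nat.card P : k) • a := fun a => rfl
  -- the averaged element
  let S : groupCohomology.cocycles₁ A →ₗ[k] A :=
    e.symm.toLinearMap ∘ₗ (∑ p : P, LinearMap.proj (p : G)) ∘ₗ (groupCohomology.cocycles₁ A).subtype
  have hSe : ∀ f : groupCohomology.cocycles₁ A, e (S f) = ∑ p : P, f.1 (p : G) := by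
    intro f
    simp [S]
  let F : groupCohomology.cocycles₁ A →ₗ[k] (G → A) :=
    { toFun := fun f g => f.1 g + A.ρ g (S f) - S f
      map_add' := fun f f' => by
        funext g
        simp only [Submodule.coe_add, Pi.add_apply, map_add]
        abel
      map_smul' := fun c f => by
        funext g
        simp only [Submodule.coe_smul, Pi.smul_apply, map_smul, RingHom.id_apply]
        simp [smul_add, smul_sub] }
  have hF : ∀ f g, F f g = f.1 g + A.ρ g (S f) - S f := fun f g => rfl
  have hmul : ∀ f g h, F f (g * h) = A.ρ g (F f h) + F f g := by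
    intro f g h
    rw [hF, hF, hF, (groupCohomology.mem_cocycles₁_iff f.1).1 f.2 g h, map_sub, map_add,
      map_mul, Module.End.mul_apply]
    abel
  have hP0 : ∀ f, ∀ q : P, F f q = 0 := by
    intro f q
    apply e.injective
    rw [map_zero, hF, map_sub, map_add]
    have h1 : e (A.ρ q (S f)) = A.ρ q (e (S f)) := by rw [he, he, map_smul]
    have h2 : ∑ p : P, f.1 (p : G) = A.ρ q (∑ p : P, f.1 (p : G)) + e (f.1 q) := by
      calc ∑ p : P, f.1 (p : G) = ∑ p : P, f.1 ((q * p : P) : G) :=
            (Equiv.sum_comp (Equiv.mulLeft q) fun p : P => f.1 (p : G)).symm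
        _ = ∑ p : P, (A.ρ q (f.1 (p : G)) + f.1 q) :=
            Finset.sum_congr rfl fun p _ => by
              rw [Subgroup.coe_mul]
              exact (groupCohomology.mem_cocycles₁_iff f.1).1 f.2 q p
        _ = _ := by
              rw [Finset.sum_add_distrib, map_sum, Finset.sum_const, Finset.card_univ, he,
                Nat.cast_smul_eq_nsmul, Nat.card_eq_fintype_card]
    rw [h1, hSe]
    nth_rw 2 [h2]
    abel
  have hout : ∀ f (g : G), F f ((g : G ⧸ P).out) = F f g := by
    intro f g
    obtain ⟨q, hq⟩ := QuotientGroup.mk_out_eq_mul P g
    rw [hq, hmul, hP0, map_zero, zero_add]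
  have hinv : ∀ f g, F f g ∈ Representation.invariants (A.ρ.comp P.subtype) := by
    intro f g q
    show A.ρ (q : G) (F f g) = F f g
    have h : g⁻¹ * q * g ∈ P := by
      have := Subgroup.Normal.conj_mem ‹P.Normal› q q.2 g⁻¹
      simpa using this
    have h1 := hmul f q g
    rw [hP0, add_zero, show (q : G) * g = g * ((⟨_, h⟩ : P) : G) by simp [mul_assoc], hmul, hP0,
      map_zero, zero_add] at h1
    exact h1.symm
  let R : groupCohomology.cocycles₁ A →ₗ[k] groupCohomology.cocycles₁ (A.quotientToInvariants P) :=
    LinearMap.codRestrict _
      { toFun := fun f q => ⟨F f q.out, hinv f q.out⟩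
        map_add' := fun f f' => by
          funext q
          exact Subtype.ext (congr_fun (map_add F f f') q.out)
        map_smul' := fun c f => by
          funext q
          exact Subtype.ext (congr_fun (map_smul F c f) q.out) }
      (fun f => by
        rw [groupCohomology.mem_cocycles₁_iff]
        intro q q'
        induction q using QuotientGroup.induction_on with
        | H g =>
        induction q' using QuotientGroup.induction_on with
        | H g' =>
        refine Subtype.ext ?_
        show F f ((g : G ⧸ P) * (g' : G ⧸ P)).out = A.ρ g (F f (g' : G ⧸ P).out) + F f (g : G ⧸ P).out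
        rw [← QuotientGroup.mk_mul, hout, hout, hout, hmul])
  refine ⟨ModuleCat.ofHom R, ?_⟩
  apply ModuleCat.hom_ext
  refine LinearMap.ext fun z => groupCohomology.cocycles₁_ext fun q => Subtype.ext ?_
  induction q using QuotientGroup.induction_on with
  | H g =>
  set f := (groupCohomology.mapCocycles₁ (QuotientGroup.mk' P)
    (Rep.ofHom (A.ρ.quotientToInvariants_lift P)) :
      ModuleCat.of k (groupCohomology.cocycles₁ (A.quotientToInvariants P)) ⟶
        ModuleCat.of k (groupCohomology.cocycles₁ A)) z with hf
  show F f (g : G ⧸ P).out = (z.1 g).1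
  rw [hout, hF]
  have hS : S f = 0 := by
    apply e.injective
    rw [hSe, map_zero]
    refine Finset.sum_eq_zero fun p _ => ?_
    show (z.1 (QuotientGroup.mk' P (p : G))).1 = 0
    rw [show QuotientGroup.mk' P (p : G) = 1 from (QuotientGroup.eq_one_iff _).2 p.2]
    exact congr(Subtype.val $(groupCohomology.cocycles₁_map_one z))
  rw [hS, map_zero, add_zero, sub_zero]
  rfl

end Groth.Agent.S14181
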