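import Groth.Statements.S14182
import Groth.Agent.Lib.LocSymB.PicMod

set_option autoImplicit false
universe u
open CategoryTheory AlgebraicGeometry
open LocSym

namespace Groth.Agent.S14182

open W4c1etcurveeff2 in
/-- Let k be an algebraically closed field and X a smooth proper integral curve over k (structure
morphism c, dimension one); divisors are finitely supported integer-valued functions on the k-points
and ord_x is the valuation at x. Let m be a reduced modulus (every multiplicity at most 1) with
support S, Pic the group of divisors modulo divisors of nonzero rational functions, and Pic_m the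
group of divisors vanishing on S modulo divisors of nonzero rational functions congruent to 1 modulo
m. Then: the natural map Pic_m → Pic is surjective; a class of Pic_m maps to zero exactly when it is
the class of the divisor of a nonzero rational function having a nonzero value at every point of S;
and for every family of nonzero scalars (v_x) there is a nonzero rational function g with value v_x
at each x ∈ S, the class of whose divisor in Pic_m vanishes exactly when the v_x for x ∈ S are all
equal. (So the kernel is (kˣ)^S modulo the diagonal kˣ, the short exact sequence 0 → (kˣ)^S/kˣ →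
Pic_m → Pic → 0; the same then holds for the degree-zero parts.) -/
theorem result
    (k : Type u) [Field k] [IsAlgClosed k] (X : Scheme.{u}) [IsIntegral X]
    (c : X ⟶ Spec (CommRingCat.of k)) [IsProper c] [Smooth c] (hdim : topologicalKrullDim X = 1)
    (m : LocSym.Pt c →₀ ℕ) (hm : ∀ x : LocSym.Pt c, m x ≤ 1) :
    Function.Surjective (picModToPic c m) ∧
    (∀ y : PicMod c m, picModToPic c m y = 0 ↔
      ∃ (g : X.functionField) (D : divAway c m) (v : LocSym.Pt c → kˣ),
        IsDivOf c (D : LocSym.Pt c →₀ ℤ) g ∧ (∀ x ∈ m.support, LocSym.HasValueAt x g (v x : k)) ∧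
        y = (QuotientAddGroup.mk D : PicMod c m)) ∧
    (∀ v : LocSym.Pt c → kˣ, ∃ (g : X.functionField) (D : divAway c m),
        IsDivOf c (D : LocSym.Pt c →₀ ℤ) g ∧ (∀ x ∈ m.support, LocSym.HasValueAt x g (v x : k)) ∧
        ((QuotientAddGroup.mk D : PicMod c m) = 0 ↔ ∃ a : kˣ, ∀ x ∈ m.support, v x = a)) := by
  letI : X.Over (Spec (CommRingCat.of k)) := ⟨c⟩
  haveI : IsProper (X ↘ Spec (CommRingCat.of k)) := ‹IsProper c›
  haveI : GrothLib.CurveRR.RegCurve X := GrothLib.CurveRR.regCurve_of_smooth c hdim
  refine ⟨GrothLib.LocSymB.surjective_picModToPic m, fun y => ⟨fun hy => ?_, ?_⟩, fun v => ?_⟩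
  · obtain ⟨g, v, hg, rfl⟩ := GrothLib.LocSymB.exists_of_picModToPic_eq_zero m hy
    exact ⟨g, ⟨_, hg.mem_divAway m⟩, v, (GrothLib.LocSymB.isDivOf_iff _ g).2 ⟨hg.1, rfl⟩, hg.2, rfl⟩
  · rintro ⟨g, D, v, hD, hv, rfl⟩
    exact (QuotientAddGroup.eq_zero_iff _).2 (AddSubgroup.subset_closure ⟨g, hD⟩)
  · obtain ⟨g, hg⟩ := GrothLib.LocSymB.exists_hasVals m v
    exact ⟨g, ⟨_, hg.mem_divAway m⟩, (GrothLib.LocSymB.isDivOf_iff _ g).2 ⟨hg.1, rfl⟩, hg.2,
      GrothLib.LocSymB.cls_eq_zero_iff m hm hg⟩

end Groth.Agent.S14182
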