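import Groth.Statements.S14184
import Groth.Agent.Lib.LocSymB.Symbols

set_option autoImplicit false
universe u
open CategoryTheory AlgebraicGeometry
open LocSym

namespace Groth.Agent.S14184

/-- Let k be an algebraically closed field and X a smooth proper integral curve over k (structure
morphism c, dimension one); points are k-points and ord_x is the valuation at x. Let n ≥ 1, let Z be
a finite set of points, let f₁, f₂ be nonzero rational functions and D₁, D₁′, D₂ divisors (finitely
supported integer-valued functions on points) with n·D₁ = div(f₁) + D₁′, D₁′ supported on Z, n·D₂ =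
div(f₂), f₂ taking the value 1 at every point of Z, and div(f₁) and D₂ with disjoint supports. Let
v₁(x) ∈ kˣ be the value of f₁ at each point of the support of D₂ and v₂(x) ∈ kˣ the value of f₂ at
each point of the support of D₁. Then the quotient of ∏_x v₁(x)^{D₂(x)} by ∏_x v₂(x)^{D₁(x)} is an
n-th root of unity: its n-th power is 1. (This quotient f₁(D₂)/f₂(D₁) is the generalised Weil
pairing of the classes of (D₁, D₁′, f₁) and D₂; the published statement also normalises f₁, f₂ at a
base point, which is not needed for this assertion.) -/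
theorem result
    (k : Type u) [Field k] [IsAlgClosed k] (X : Scheme.{u}) [IsIntegral X]
    (c : X ⟶ Spec (CommRingCat.of k)) [IsProper c] [Smooth c] (hdim : topologicalKrullDim X = 1)
    (n : ℕ) (hn : 1 ≤ n) (Z : Finset (LocSym.Pt c))
    (f₁ f₂ : X.functionField) (hf₁ : f₁ ≠ 0) (hf₂ : f₂ ≠ 0)
    (D₁ D₁' D₂ : LocSym.Pt c →₀ ℤ)
    (hD₁ : ∀ x : LocSym.Pt c, (n : ℤ) * D₁ x = x.ord f₁ + D₁' x) (hD₁' : D₁'.support ⊆ Z)
    (hD₂ : ∀ x : LocSym.Pt c, (n : ℤ) * D₂ x = x.ord f₂)
    (hf₂Z : ∀ x ∈ Z, LocSym.HasValueAt x f₂ 1)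
    (hdisj : ∀ x : LocSym.Pt c, x.ord f₁ = 0 ∨ D₂ x = 0)
    (v₁ v₂ : LocSym.Pt c → kˣ)
    (hv₁ : ∀ x ∈ D₂.support, LocSym.HasValueAt x f₁ (v₁ x : k))
    (hv₂ : ∀ x ∈ D₁.support, LocSym.HasValueAt x f₂ (v₂ x : k)) :
    ((D₂.prod fun x e => v₁ x ^ e) / (D₁.prod fun x e => v₂ x ^ e)) ^ n = 1 := by
  classical
  letI : X.Over (Spec (CommRingCat.of k)) := ⟨c⟩
  haveI : IsProper (X ↘ Spec (CommRingCat.of k)) := ‹IsProper c›
  haveI : GrothLib.CurveRR.RegCurve X := GrothLib.CurveRR.regCurve_of_smooth c hdim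
  have hn0 : (n : ℤ) ≠ 0 := by omega
  have hz : ∀ x : LocSym.Pt c, D₂ x = 0 → x.ord f₂ = 0 := fun x h => by
    have := hD₂ x
    rw [h, mul_zero] at this
    omega
  have hval1 : ∀ x ∈ Z, GrothLib.LocSymB.valFun f₂ x = 1 := fun x hx =>
    GrothLib.LocSymB.valFun_eq hf₂ (a := 1) (by rw [Units.val_one]; exact hf₂Z x hx)
  have h := GrothLib.LocSymB.reciprocity hf₁ hf₂ (fun x => (hdisj x).imp_right (hz x))
    (GrothLib.LocSymB.valFun f₁) (GrothLib.LocSymB.valFun f₂)
    (fun x hx => GrothLib.LocSymB.valFun_spec hf₁ hx) (fun x hx => GrothLib.LocSymB.valFun_spec hf₂ hx)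
    D₂.support (D₁.support ∪ Z)
    (fun x hx => Finsupp.mem_support_iff.2 fun h => hx (hz x h))
    (fun x hx => by
      rw [Finset.mem_union, Finsupp.mem_support_iff]
      by_cases h : D₁ x = 0
      · refine Or.inr (hD₁' (Finsupp.mem_support_iff.2 fun h' => hx ?_))
        have := hD₁ x
        rw [h, h', mul_zero, add_zero] at this
        exact this.symm
      · exact Or.inl h)
  rw [div_pow, div_eq_one, Finsupp.prod, Finsupp.prod, ← Finset.prod_pow, ← Finset.prod_pow]
  refine (Finset.prod_congr rfl fun x hx => ?_).trans (h.trans ?_)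
  · rw [← zpow_natCast, ← zpow_mul, GrothLib.LocSymB.valFun_eq hf₁ (hv₁ x hx), mul_comm, hD₂]
    rfl
  · rw [← Finset.prod_subset Finset.subset_union_left fun x hxu hx => by
      rw [hval1 x ((Finset.mem_union.1 hxu).resolve_left hx), one_zpow]]
    refine Finset.prod_congr rfl fun x hx => ?_
    have hv := GrothLib.LocSymB.valFun_eq hf₂ (hv₂ x hx)
    rw [← zpow_natCast, ← zpow_mul, mul_comm (D₁ x), hD₁ x, hv]
    by_cases hxZ : x ∈ Z
    · rw [← hv, hval1 x hxZ, one_zpow, one_zpow]
    · rw [show D₁' x = 0 from by_contra fun h => hxZ (hD₁' (Finsupp.mem_support_iff.2 h)), add_zero]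
      rfl

end Groth.Agent.S14184
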