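import Groth.Statements.S14188
import Groth.Agent.Lib.GenExtend6.Basic
import Groth.Agent.Lib.SchDense.Basic
-- import your own Groth.Agent.* helpers here

set_option autoImplicit false
universe u
open CategoryTheory CategoryTheory.Limits AlgebraicGeometry
open FlatMor

namespace Groth.Agent.S14188

/-- Let T be an integral scheme with generic point η, let Y and Z be schemes flat over T with Z
separated over T, and let ψ : Y_η → Z be a T-morphism from the generic fibre Y_η = Y ×_T Spec
O_{T,η} (equivalently, an η-morphism Y_η → Z_η). Let gr : Y_η → Y ×_T Z be the graph of ψ, the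
morphism whose components are the projection Y_η → Y and ψ, and let Γ ⊆ Y ×_T Z be the
scheme-theoretic image of gr (the schematic closure of the graph). Then ψ extends to a T-morphism φ
: Y → Z, meaning that the composite Y_η → Y → Z is ψ, if and only if the composite of the inclusion
Γ → Y ×_T Z with the first projection is an isomorphism Γ ≅ Y. -/
theorem result (T Y Z : Scheme.{u}) [IsIntegral T]
    (pY : Y ⟶ T) (pZ : Z ⟶ T) [Flat pY] [Flat pZ] [IsSeparated pZ]
    (ψ : pullback pY (T.fromSpecStalk (genericPoint T)) ⟶ Z)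
    (hψ : ψ ≫ pZ = pullback.fst pY (T.fromSpecStalk (genericPoint T)) ≫ pY)
    (gr : pullback pY (T.fromSpecStalk (genericPoint T)) ⟶ pullback pY pZ)
    (hgr₁ : gr ≫ pullback.fst pY pZ = pullback.fst pY (T.fromSpecStalk (genericPoint T)))
    (hgr₂ : gr ≫ pullback.snd pY pZ = ψ) :
    (∃ φ : Y ⟶ Z, φ ≫ pZ = pY ∧ pullback.fst pY (T.fromSpecStalk (genericPoint T)) ≫ φ = ψ) ↔
      IsIso (gr.imageι ≫ pullback.fst pY pZ) := by
  have hι : IsSchemeTheoreticallyDominant (pullback.fst pY (T.fromSpecStalk (genericPoint T))) := inferInstance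
  constructor
  · rintro ⟨φ, hφ1, hφ2⟩
    let Γ := pullback.lift (𝟙 Y) φ (by rw [Category.id_comp, hφ1] : 𝟙 Y ≫ pY = φ ≫ pZ)
    have hΓ : Γ ≫ pullback.fst pY pZ = 𝟙 Y := pullback.lift_fst _ _ _
    have : IsClosedImmersion (Γ ≫ pullback.fst pY pZ) := by rw [hΓ]; infer_instance
    have : IsClosedImmersion Γ := IsClosedImmersion.of_comp Γ (pullback.fst pY pZ)
    have hgr : gr = pullback.fst pY (T.fromSpecStalk (genericPoint T)) ≫ Γ := by
      apply pullback.hom_ext
      · rw [Category.assoc, hΓ, Category.comp_id, hgr₁]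
      · rw [Category.assoc, pullback.lift_snd, hφ2, hgr₂]
    have hker : Γ.ker ≤ gr.imageι.ker := by
      rw [Scheme.IdealSheafData.ker_subschemeι, hgr]
      exact Scheme.Hom.le_ker_comp _ _
    have hl := IsClosedImmersion.lift_fac Γ gr.imageι hker
    have heq : IsClosedImmersion.lift Γ gr.imageι hker = gr.imageι ≫ pullback.fst pY pZ := by
      conv_rhs => rw [← hl]
      rw [Category.assoc, hΓ, Category.comp_id]
    have : IsClosedImmersion (IsClosedImmersion.lift Γ gr.imageι hker ≫ Γ) := by rw [hl]; infer_instance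
    have : IsClosedImmersion (IsClosedImmersion.lift Γ gr.imageι hker) := IsClosedImmersion.of_comp _ Γ
    rw [← heq]
    exact GrothLib.SchDense.isIso_of_factor _ (pullback.fst pY (T.fromSpecStalk (genericPoint T))) gr.toImage
      (by rw [heq, ← Category.assoc, Scheme.Hom.toImage_imageι, hgr₁])
  · intro h
    refine ⟨inv (gr.imageι ≫ pullback.fst pY pZ) ≫ gr.imageι ≫ pullback.snd pY pZ, ?_, ?_⟩
    · rw [Category.assoc, Category.assoc, ← pullback.condition, IsIso.inv_comp_eq, Category.assoc]
    · have hf : pullback.fst pY (T.fromSpecStalk (genericPoint T)) = gr.toImage ≫ (gr.imageι ≫ pullback.fst pY pZ) := by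
        rw [← Category.assoc, Scheme.Hom.toImage_imageι, hgr₁]
      conv_lhs => rw [hf]
      rw [Category.assoc, IsIso.hom_inv_id_assoc, ← Category.assoc, Scheme.Hom.toImage_imageι, hgr₂]

end Groth.Agent.S14188
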