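import Groth.Statements.S14189
import Groth.Agent.Lib.GenExtend6.Basic
import Groth.Agent.Lib.SchDense.Basic
-- import your own Groth.Agent.* helpers here

set_option autoImplicit false
universe u
open CategoryTheory CategoryTheory.Limits AlgebraicGeometry
open FlatMor

namespace Groth.Agent.S14189

/-- Let T be an integral scheme with generic point η, let Y and Z be schemes flat over T with Z
separated over T, and let ψ : Y_η → Z be a T-morphism from the generic fibre Y_η = Y ×_T Spec
O_{T,η}. Let g : T' → T be flat, surjective and quasi-compact, and let φ' : Y_{T'} → Z_{T'} be a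
T'-morphism which agrees with ψ over T' ×_T η, in the sense that on Y_{T'} ×_Y Y_η = Y ×_T T' ×_T
Spec O_{T,η} the composite of the first projection with φ' and with Z_{T'} → Z equals the composite
of the second projection with ψ. Then ψ extends to a T-morphism φ : Y → Z, one whose composite with
Y_η → Y is ψ. (The published statement is an equivalence and also records that an extension, when it
exists, is unique; the converse direction, that an extension over T base-changes to such a φ' over
any such T', is immediate, and this row states the existence direction only.) -/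
theorem result (T Y Z T' : Scheme.{u}) [IsIntegral T]
    (pY : Y ⟶ T) (pZ : Z ⟶ T) [Flat pY] [Flat pZ] [IsSeparated pZ]
    (ψ : pullback pY (T.fromSpecStalk (genericPoint T)) ⟶ Z)
    (hψ : ψ ≫ pZ = pullback.fst pY (T.fromSpecStalk (genericPoint T)) ≫ pY)
    (g : T' ⟶ T) [Flat g] [Surjective g] [QuasiCompact g]
    (φ' : pullback pY g ⟶ pullback pZ g) (hφ' : φ' ≫ pullback.snd pZ g = pullback.snd pY g)
    (hagree : pullback.fst (pullback.fst pY g) (pullback.fst pY (T.fromSpecStalk (genericPoint T))) ≫ φ' ≫ pullback.fst pZ g =
      pullback.snd (pullback.fst pY g) (pullback.fst pY (T.fromSpecStalk (genericPoint T))) ≫ ψ) :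
    ∃ φ : Y ⟶ Z, φ ≫ pZ = pY ∧ pullback.fst pY (T.fromSpecStalk (genericPoint T)) ≫ φ = ψ := by
  let j := T.fromSpecStalk (genericPoint T)
  let a := pullback.fst pY g
  let χ := φ' ≫ pullback.fst pZ g
  have hχ : χ ≫ pZ = a ≫ pY := by
    simp only [χ, a, Category.assoc]
    rw [pullback.condition, reassoc_of% hφ', ← pullback.condition]
  have hag : pullback.fst a (pullback.fst pY j) ≫ χ = pullback.snd a (pullback.fst pY j) ≫ ψ := hagree
  have hcompat : ∀ {W : Scheme.{u}} (p q : W ⟶ pullback pY g) [Flat (p ≫ a)], p ≫ a = q ≫ a → p ≫ χ = q ≫ χ := by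
    intro W p q _ hpq
    refine GrothLib.SchDense.ext_of_schDominant pZ
      (by rw [Category.assoc p χ pZ, Category.assoc q χ pZ, hχ, reassoc_of% hpq])
      (pullback.fst (p ≫ a) (pullback.fst pY j)) ?_
    have key : ∀ r : W ⟶ pullback pY g, r ≫ a = p ≫ a →
        pullback.fst (p ≫ a) (pullback.fst pY j) ≫ r ≫ χ = pullback.snd (p ≫ a) (pullback.fst pY j) ≫ ψ := by
      intro r hr
      let m : pullback (p ≫ a) (pullback.fst pY j) ⟶ pullback a (pullback.fst pY j) :=
        pullback.lift (pullback.fst _ _ ≫ r) (pullback.snd _ _) (by rw [Category.assoc, hr, pullback.condition])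
      have h1 : pullback.fst (p ≫ a) (pullback.fst pY j) ≫ r = m ≫ pullback.fst _ _ := (pullback.lift_fst _ _ _).symm
      rw [← Category.assoc, h1, Category.assoc, hag, ← Category.assoc, pullback.lift_snd]
    rw [key p rfl, key q hpq.symm]
  have : Flat a := inferInstance
  have : Surjective a := inferInstance
  have : QuasiCompact a := inferInstance
  refine ⟨EffectiveEpi.desc a χ fun {W} p q hpq => ?_, ?_, ?_⟩
  · have h2 := hcompat (pullback.fst a a) (pullback.snd a a) pullback.condition
    calc p ≫ χ = (pullback.lift p q hpq ≫ pullback.fst a a) ≫ χ := by rw [pullback.lift_fst]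
      _ = (pullback.lift p q hpq ≫ pullback.snd a a) ≫ χ := by rw [Category.assoc, h2, ← Category.assoc]
      _ = q ≫ χ := by rw [pullback.lift_snd]
  · rw [← cancel_epi a, EffectiveEpi.fac_assoc, hχ]
  · rw [← cancel_epi (pullback.snd a (pullback.fst pY j)), ← reassoc_of% (pullback.condition (f := a) (g := pullback.fst pY j)),
      EffectiveEpi.fac, hag]

end Groth.Agent.S14189
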