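import Groth.Statements.S14190
import Groth.Agent.Lib.ArSurf29.DualReflexive
import Mathlib.RingTheory.DiscreteValuationRing.Basic

set_option autoImplicit false
universe u
open CategoryTheory CategoryTheory.Limits AlgebraicGeometry Opposite
open Models

namespace Groth.Agent.S14190

/-- Let R be a discrete valuation ring with fraction field K, let C be a proper K-curve which is smooth
of relative dimension 1 and geometrically connected over K, and let X be a model of C over R (flat
and of finite type over R with generic fibre C) which is proper over R and normal; so X is a proper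
relative curve over R, integral of dimension 2. Let (ω, tr) be a 1-dualizing pair for X over R: ω is
a quasi-coherent O_X-module and tr : H¹(X, ω) → R an R-linear map such that φ ↦ tr ∘ H¹(φ) is a
bijection from Hom(F, ω) onto Hom_R(H¹(X, F), R) for every quasi-coherent F (such a pair is a
relative dualizing sheaf of X over R with its trace, and is unique up to isomorphism). Let U ⊆ X be
an open subscheme whose complement is a finite set of closed points of X (these lie in the closed
fibre and have codimension 2). Then the canonical map from ω to the direct image of its restriction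
to U is an isomorphism: for every open V ⊆ X the restriction map ω(V) → ω(V ∩ U) is bijective. (The
published statement is for a relative curve which need not be proper and for the relative dualizing
sheaf of duality theory; this row takes X proper over R, where a 1-dualizing pair in the above
global-sections sense determines that sheaf up to isomorphism.) -/
theorem result (R : Type u) [CommRing R] [IsDomain R] [IsDiscreteValuationRing R]
    (X C : Scheme.{u}) [X.Over (Spec (CommRingCat.of R))]
    (f : C ⟶ Spec (CommRingCat.of (FractionRing R)))
    [SmoothOfRelativeDimension 1 f] [IsProper f] [GeometricallyConnected f]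
    (hX : Models.IsModel R X (X ↘ Spec (CommRingCat.of R)) C f)
    [IsProper (X ↘ Spec (CommRingCat.of R))] (hn : Pi1.IsNormalScheme X)
    (ω : X.Modules) (tr : Coh.HH X ω 1 →ₗ[R] R) (hω : Canon.IsRDualOver R X 1 ω tr)
    (U : X.Opens) (hfin : ((U : Set X)ᶜ).Finite) (hcl : ∀ x : X, x ∉ U → IsClosed ({x} : Set X))
    (V : X.Opens) :
    Function.Bijective (ω.presheaf.map (homOfLE (inf_le_left : V ⊓ U ≤ V)).op).hom := by
  let p := X ↘ Spec (CommRingCat.of R)
  haveI : IsLocallyNoetherian X := LocallyOfFiniteType.isLocallyNoetherian p
  haveI : CompactSpace X := QuasiCompact.compactSpace_of_compactSpace p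
  haveI : IsNoetherian X := {}
  obtain ⟨π, hπ⟩ := IsDiscreteValuationRing.exists_irreducible R
  refine GrothLib.ArSurf29.dual_restrict_bijective ω tr hω U hfin hcl π hπ.ne_zero (fun x hx => ?_) V
  intro hxb
  have hc : IsClosed ({p.base x} : Set (Spec (CommRingCat.of R))) := by
    rw [← Set.image_singleton]
    exact p.isClosedMap _ (hcl x hx)
  have hm := (PrimeSpectrum.isClosed_singleton_iff_isMaximal (p.base x)).1 hc
  have heq : (p.base x).asIdeal = IsLocalRing.maximalIdeal R := IsLocalRing.eq_maximalIdeal hm
  have h1 : X.basicOpen (p.appTop ((Scheme.ΓSpecIso (CommRingCat.of R)).inv π)) =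
      p ⁻¹ᵁ (PrimeSpectrum.basicOpen π) := by
    rw [← Scheme.preimage_basicOpen_top, basicOpen_eq_of_affine']
    simp
  have h2 : p.base x ∈ PrimeSpectrum.basicOpen π := h1.le hxb
  exact h2 (heq.ge ((IsLocalRing.mem_maximalIdeal π).2 hπ.not_isUnit))

end Groth.Agent.S14190
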