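import Groth.Statements.S14191
import Groth.Agent.Lib.DualFree20.CurveNum
import Groth.Agent.Lib.DualFree20.Pair
import Groth.Agent.Lib.DualFree20.Setup
import Groth.Agent.Lib.K0Sub.Localization

set_option autoImplicit false
set_option maxHeartbeats 1000000
set_option linter.style.haveILetI false
set_option backward.isDefEq.respectTransparency false
universe u
open CategoryTheory CategoryTheory.Limits AlgebraicGeometry Opposite
open Models

namespace Groth.Agent.S14191

/-- Let R be a discrete valuation ring with fraction field K, let C be a proper K-curve which is smooth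
of relative dimension 1 and geometrically connected over K, and let X be a model of C over R (flat
and of finite type over R with generic fibre C) which is proper over R and normal; so X is a proper
relative curve over R. Let (ω, tr) be a 1-dualizing pair for X over R: ω is a quasi-coherent
O_X-module and tr : H¹(X, ω) → R an R-linear map such that φ ↦ tr ∘ H¹(φ) is a bijection from Hom(F,
ω) onto Hom_R(H¹(X, F), R) for every quasi-coherent F. Suppose that H¹(X, O_X) is a free R-module,
which for such X says that X → Spec R is cohomologically flat in dimension 0. Then H¹(X, ω) is a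
free R-module and its rank equals the rank of the free R-module H⁰(X, O_X); that is, H¹(X, ω) is
R-dual to H⁰(X, O_X) up to isomorphism. (The published statement is phrased for the relative
dualizing sheaf of duality theory and its higher direct image R¹f_*; over the affine base Spec R a
1-dualizing pair in the above global-sections sense determines that sheaf up to isomorphism, and
local freeness of R¹f_* is freeness of H¹.) -/
theorem result (R : Type u) [CommRing R] [IsDomain R] [IsDiscreteValuationRing R]
    (X C : Scheme.{u}) [X.Over (Spec (CommRingCat.of R))]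
    (f : C ⟶ Spec (CommRingCat.of (FractionRing R)))
    [SmoothOfRelativeDimension 1 f] [IsProper f] [GeometricallyConnected f]
    (hX : Models.IsModel R X (X ↘ Spec (CommRingCat.of R)) C f)
    [IsProper (X ↘ Spec (CommRingCat.of R))] (hn : Pi1.IsNormalScheme X)
    (ω : X.Modules) (tr : Coh.HH X ω 1 →ₗ[R] R) (hω : Canon.IsRDualOver R X 1 ω tr)
    (hcf : Module.Free R (Coh.HH X (Coh.structureModule X) 1)) :
    Module.Free R (Coh.HH X ω 1) ∧
      Module.finrank R (Coh.HH X ω 1) = Module.finrank R (Coh.HH X (Coh.structureModule X) 0) := by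
  let p := X ↘ Spec (CommRingCat.of R)
  obtain ⟨hfl, -, -, g, hg⟩ := hX
  haveI : IsLocallyNoetherian X := LocallyOfFiniteType.isLocallyNoetherian p
  haveI : CompactSpace X := QuasiCompact.compactSpace_of_compactSpace p
  haveI : IsNoetherian X := {}
  haveI : Smooth f := SmoothOfRelativeDimension.smooth 1 f
  haveI : ConnectedSpace C := GeometricallyConnected.connectedSpace_of_subsingleton f
  haveI : IsIntegral C := GrothLib.Euler.isIntegral_of_smooth_connected (FractionRing R) f
  have hdim : topologicalKrullDim C = 1 := by
    simpa using GrothLib.CotTangent.topologicalKrullDim_integral_of_smoothOfRelativeDimension f 1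
  haveI : GrothLib.CurveRR.RegCurve C := GrothLib.CurveRR.regCurve_of_smooth f hdim
  letI : C.Over (Spec (CommRingCat.of (FractionRing R))) := ⟨f⟩
  haveI : IsProper (C ↘ Spec (CommRingCat.of (FractionRing R))) := ‹IsProper f›
  let Xo : Over (Spec (CommRingCat.of R)) := Over.mk p
  haveI : Flat Xo.hom := hfl
  haveI : IsProper Xo.hom := ‹IsProper (X ↘ Spec (CommRingCat.of R))›
  haveI : IsLocallyNoetherian Xo.left := ‹IsLocallyNoetherian X›
  have hfib : ∀ y, topologicalKrullDim ↥(p.fiber y) ≤ ((1 : ℕ) : WithBot ℕ∞) := fun y =>
    GrothLib.DualFree20.dim_fiber_le_one (X := Xo) (g := g) hg hn hdim.le y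
  have hcoh : Coh.IsCoh ω := GrothLib.DualFree20.isCoh_of_pair hω hfib
  obtain ⟨ϖ, hϖ⟩ := IsDiscreteValuationRing.exists_irreducible R
  have htf : ∀ x : Coh.HH X ω 1, ϖ • x = 0 → x = 0 := fun x hx =>
    GrothLib.DualFree20.eq_zero_of_smul hω ϖ hϖ.ne_zero hfib hcoh hcf x hx
  haveI := GrothLib.ProjCoh.moduleFinite_HH R ω hcoh 1
  haveI : Module.IsTorsionFree R (Coh.HH X ω 1) := ⟨fun r hr => by
    obtain ⟨n, u, rfl⟩ := IsDiscreteValuationRing.eq_unit_mul_pow_irreducible hr.ne_zero hϖ
    refine (isSMulRegular_iff_right_eq_zero_of_smul ..).2 fun x hx => ?_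
    rw [mul_smul, u.isUnit.smul_eq_zero] at hx
    clear hr
    induction n with
    | zero => simpa using hx
    | succ n ih =>
      rw [pow_succ', mul_smul] at hx
      exact ih (htf _ hx)⟩
  refine ⟨Module.free_of_finite_type_torsion_free', ?_⟩
  haveI : IsOpenImmersion g := GrothLib.ArSurf29.isOpenImmersion_generic (X := Xo) hg
  haveI : IsLocallyNoetherian C := LocallyOfFiniteType.isLocallyNoetherian f
  let W := (Scheme.Modules.restrictFunctor g).obj ω
  have hW : Coh.IsCoh W := GrothLib.Cohom.isCoh_restrict ω hcoh g
  have key : ∀ F : X.Modules, Coh.IsCoh F →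
      Module.finrank (FractionRing R)
        (Coh.HH C (RefHull.homSh ((Scheme.Modules.restrictFunctor g).obj F) W) 0) =
      Module.finrank R (Coh.HH X F 1) := by
    intro F hF
    obtain ⟨e⟩ := GrothLib.DualFree20.nonempty_homSh_restrict g hF hcoh
    have hH : Coh.IsCoh (RefHull.homSh F ω) :=
      GrothLib.HomSh.isCoh_homSh (GrothLib.HomSh.hasRel_of_isCoh hF) hcoh
    haveI := hH.1
    rw [← GrothLib.DualFree20.finrank_H0_homSh hω F hF,
      ← (GrothLib.Euler.hhEquiv (A := FractionRing R) e 0).finrank_eq]
    exact GrothLib.DualFree20.finrank_HH_restrict (X := Xo) hg (RefHull.homSh F ω) 0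
  have hdual : ∀ G : C.Modules, Coh.IsCoh G →
      Module.finrank (FractionRing R) (Coh.HH C (RefHull.homSh G W) 0) =
        Module.finrank (FractionRing R) (Coh.HH C G 1) := by
    intro G hG
    obtain ⟨F, hF, ⟨e⟩⟩ := GrothLib.K0Sub.exists_extension g G hG
    haveI := hF.1
    let F' := (Scheme.Modules.restrictFunctor g).obj F
    letI := @GrothLib.LocFreeHom.hasSheafHom
    obtain ⟨a⟩ := GrothLib.LM28.nonempty_homSh_iso_coh G W hG hW
    obtain ⟨b⟩ := GrothLib.LM28.nonempty_homSh_iso_coh F' W (GrothLib.Cohom.isCoh_restrict F hF g) hW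
    rw [(GrothLib.Euler.hhEquiv (A := FractionRing R)
        (a ≪≫ GrothLib.LocFreeHom.iHomCongr e (Iso.refl W) ≪≫ b.symm) 0).finrank_eq, key F hF,
      ← (GrothLib.Euler.hhEquiv (A := FractionRing R) e 1).finrank_eq,
      (GrothLib.Euler.hhEquiv (A := FractionRing R) ((Scheme.Modules.restrictFunctorIsoPullback g).app F) 1).finrank_eq]
    exact (GrothLib.DualFree20.finrank_HH_restrict (X := Xo) hg F 1).symm
  rw [← key ω hcoh, GrothLib.DualFree20.finrank_end_eq (FractionRing R) hW hdual]
  haveI := GrothLib.Cohom.isQuasicoherent_structureModule X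
  rw [← (GrothLib.Euler.hhEquiv (A := FractionRing R) (GrothLib.OX.pullUnitIso g) 0).finrank_eq]
  exact GrothLib.DualFree20.finrank_HH_restrict (X := Xo) hg (Coh.structureModule X) 0

end Groth.Agent.S14191
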