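import Groth.Statements.S14192
import Mathlib.RingTheory.PowerSeries.Exp
import Mathlib.RingTheory.PowerSeries.Derivative
import Mathlib.RingTheory.PowerSeries.Substitution
import Mathlib.Tactic.LinearCombination
-- import your own Groth.Agent.* helpers here

set_option autoImplicit false
open PowerSeries
open StackCount

namespace Groth.Agent.S14192

/-- Let R = Σ_n r_n X^n be a Laurent polynomial with integer coefficients and q > 1 an integer. In the
ring of formal power series in t over ℚ, the exponential of Σ_{v ≥ 1} R(q^v) t^v / v equals the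
finite product Π_n (1 - q^n t)^(-r_n). Stated here with denominators cleared: the exponential series
multiplied by Π_{n : r_n > 0} (1 - q^n t)^(r_n) equals Π_{n : r_n < 0} (1 - q^n t)^(-r_n) (each
factor 1 - q^n t is a unit, so this is equivalent). -/
theorem result (R : LaurentPolynomial ℤ) (q : ℤ) (hq : 1 < q) :
    (PowerSeries.exp ℚ).subst
        (PowerSeries.mk fun v : ℕ => if v = 0 then (0 : ℚ)
          else (R.coeff.sum fun (n : ℤ) (r : ℤ) => (r : ℚ) * (q : ℚ) ^ (n * (v : ℤ))) / (v : ℚ))
      * ∏ n ∈ R.coeff.support, (1 - PowerSeries.C ((q : ℚ) ^ n) * PowerSeries.X) ^ (R.coeff n).toNat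
    = ∏ n ∈ R.coeff.support, (1 - PowerSeries.C ((q : ℚ) ^ n) * PowerSeries.X) ^ (-(R.coeff n)).toNat := by
  classical
  let d := PowerSeries.derivative ℚ
  let geo : ℚ → PowerSeries ℚ := fun c => PowerSeries.mk fun v => c ^ (v + 1)
  let lin : ℚ → PowerSeries ℚ := fun c => 1 - PowerSeries.C c * PowerSeries.X
  have hgeo : ∀ c, geo c * lin c = PowerSeries.C c := by
    intro c
    ext (_ | v)
    · simp [geo, lin, PowerSeries.coeff_zero_eq_constantCoeff_apply, PowerSeries.constantCoeff_mk]
    · rw [show geo c * lin c = geo c - PowerSeries.C c * (geo c * PowerSeries.X) by simp only [lin]; ring]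
      rw [map_sub, PowerSeries.coeff_C_mul, PowerSeries.coeff_succ_mul_X, PowerSeries.coeff_C]
      simp [geo, pow_succ]; ring
  have hlin : ∀ (c : ℚ) (m : ℕ), d (lin c ^ m) = (-(m : PowerSeries ℚ) * geo c) * lin c ^ m := by
    intro c m
    induction m with
    | zero => simp [d]
    | succ m ih =>
      rw [pow_succ, Derivation.leibniz, ih, smul_eq_mul, smul_eq_mul]
      have h1 : d (lin c) = -PowerSeries.C c := by
        ext v
        simp only [d, PowerSeries.coeff_derivative, lin, map_sub, PowerSeries.coeff_C_mul, map_neg,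
          PowerSeries.coeff_C, PowerSeries.coeff_X, PowerSeries.coeff_one]
        rcases v with _ | v <;> simp
      rw [h1, ← hgeo c]
      push_cast
      ring
  have hprod : ∀ (s : Finset ℤ) (e : ℤ → ℕ),
      d (∏ n ∈ s, lin ((q : ℚ) ^ n) ^ e n) =
        (∑ n ∈ s, -(e n : PowerSeries ℚ) * geo ((q : ℚ) ^ n)) * ∏ n ∈ s, lin ((q : ℚ) ^ n) ^ e n := by
    intro s e
    induction s using Finset.induction_on with
    | empty => simp [d]
    | insert n s hn ih =>
      rw [Finset.prod_insert hn, Finset.sum_insert hn, Derivation.leibniz, ih, hlin, smul_eq_mul, smul_eq_mul]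
      ring
  have huniq : ∀ (φ F G : PowerSeries ℚ), d F = φ * F → d G = φ * G →
      PowerSeries.constantCoeff F = PowerSeries.constantCoeff G → F = G := by
    intro φ F G hF hG h0
    rw [← sub_eq_zero]
    have hH : d (F - G) = φ * (F - G) := by rw [map_sub, hF, hG, mul_sub]
    ext v
    rw [map_zero]
    induction v using Nat.strong_induction_on with
    | _ v ih =>
      rcases v with _ | v
      · rw [PowerSeries.coeff_zero_eq_constantCoeff_apply, map_sub, h0, sub_self]
      · have h1 := congrArg (PowerSeries.coeff v) hH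
        simp only [d, PowerSeries.coeff_derivative, PowerSeries.coeff_mul] at h1
        rw [Finset.sum_eq_zero (fun p hp => by
          rw [ih p.2 (by have := Finset.HasAntidiagonal.mem_antidiagonal.mp hp; omega), mul_zero])] at h1
        exact (mul_eq_zero.mp h1).resolve_right (by positivity)
  set f := PowerSeries.mk fun v : ℕ => if v = 0 then (0 : ℚ)
          else (R.coeff.sum fun (n : ℤ) (r : ℤ) => (r : ℚ) * (q : ℚ) ^ (n * (v : ℤ))) / (v : ℚ) with hf
  have hf0 : PowerSeries.constantCoeff f = 0 := by simp [hf]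
  have hsub := PowerSeries.HasSubst.of_constantCoeff_zero' hf0
  have hdf : d f = ∑ n ∈ R.coeff.support, ((R.coeff n : ℤ) : PowerSeries ℚ) * geo ((q : ℚ) ^ n) := by
    ext v
    simp only [d, PowerSeries.coeff_derivative, hf, PowerSeries.coeff_mk, Nat.succ_ne_zero, if_false, map_sum]
    rw [show ((v + 1 : ℕ) : ℚ) = (v : ℚ) + 1 by push_cast; rfl]
    rw [div_mul_cancel₀ _ (by positivity), Finsupp.sum]
    refine Finset.sum_congr rfl fun n _ => ?_
    rw [show ((R.coeff n : ℤ) : PowerSeries ℚ) = PowerSeries.C ((R.coeff n : ℤ) : ℚ) from (map_intCast _ _).symm,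
      PowerSeries.coeff_C_mul, PowerSeries.coeff_mk, zpow_mul, zpow_natCast]
  have hc0 : ∀ (e : ℤ → ℕ), PowerSeries.constantCoeff (∏ n ∈ R.coeff.support, lin ((q : ℚ) ^ n) ^ e n) = 1 := by
    intro e
    simp [map_prod, map_pow, lin]
  refine huniq (∑ n ∈ R.coeff.support, -((-(R.coeff n)).toNat : PowerSeries ℚ) * geo ((q : ℚ) ^ n)) _ _ ?_
    (hprod _ _) ?_
  · have hE : d ((PowerSeries.exp ℚ).subst f) = d f * (PowerSeries.exp ℚ).subst f := by
      simp only [d]
      rw [PowerSeries.derivative_subst hsub, PowerSeries.derivative_exp, mul_comm]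
    rw [Derivation.leibniz, hE, hdf, smul_eq_mul, smul_eq_mul]
    have hp2 := hprod R.coeff.support fun n => (R.coeff n).toNat
    simp only [lin] at hp2
    rw [hp2]
    have hs : (∑ n ∈ R.coeff.support, ((R.coeff n : ℤ) : PowerSeries ℚ) * geo ((q : ℚ) ^ n)) +
        ∑ n ∈ R.coeff.support, -((R.coeff n).toNat : PowerSeries ℚ) * geo ((q : ℚ) ^ n) =
        ∑ n ∈ R.coeff.support, -((-(R.coeff n)).toNat : PowerSeries ℚ) * geo ((q : ℚ) ^ n) := by
      rw [← Finset.sum_add_distrib]
      refine Finset.sum_congr rfl fun n _ => ?_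
      have := congrArg (fun z : ℤ => (z : PowerSeries ℚ)) (Int.toNat_sub_toNat_neg (R.coeff n))
      push_cast at this
      rw [← this]; ring
    rw [← hs]
    ring
  · rw [map_mul, hc0]
    have h1 : PowerSeries.constantCoeff ((PowerSeries.exp ℚ).subst f) = 1 := by
      have h2 : PowerSeries.constantCoeff ((PowerSeries.exp ℚ - 1).subst f) = 0 :=
        PowerSeries.constantCoeff_subst_eq_zero hf0 _ (by simp)
      rw [PowerSeries.subst_sub hsub, map_sub, sub_eq_zero] at h2
      rw [h2, show (1 : PowerSeries ℚ) = PowerSeries.C 1 from (map_one _).symm, PowerSeries.subst_C]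
      simp
    rw [h1, one_mul, hc0]

end Groth.Agent.S14192
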