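import Groth.Statements.S14194
import Groth.Agent.Lib.ChainRep.Basic
-- import your own Groth.Agent.* helpers here

set_option autoImplicit false
universe u
open W4c1btstackcounts
open StackCount

namespace Groth.Agent.S14194

/-- Let k be a field and d_1, …, d_r sizes (given as a function d on the naturals; only d_1, …, d_r
matter). The group Π_j GL_{d_j}(k) acts on chains of matrices f_i of size d_{i+1} × d_i (1 ≤ i < r)
by f_i ↦ g_{i+1} f_i g_i^(-1). Sending a chain to the array a_{i,j} = dim (f_{j-1} ⋯ f_i)(k^{d_i})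
(1 ≤ i ≤ j ≤ r) is constant on orbits, takes values in the set of admissible arrays (a_{j,j} = d_j;
a_{i,j} ≤ a_{i+1,j} for i < j; a_{i,j+1} ≤ a_{i,j} for j < r; a_{i,j} - a_{i-1,j} ≥ a_{i,j+1} -
a_{i-1,j+1} for 1 < i ≤ j < r), separates orbits, and reaches every admissible array: it is a
bijection from the orbit set onto the admissible arrays. (The published statement also asserts that,
when k is Galois over a subfield, the bijection is compatible with the Galois group acting entrywise
on matrices and trivially on arrays; this row omits that clause.) -/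
theorem result (k : Type u) [Field k] (d : ℕ → ℕ) (r : ℕ) :
    (∀ (g : (j : ℕ) → Matrix.GeneralLinearGroup (Fin (d j)) k)
        (f : (i : ℕ) → Matrix (Fin (d (i + 1))) (Fin (d i)) k) (i j : ℕ),
        1 ≤ i → i ≤ j → j ≤ r → rankArray (conj g f) i j = rankArray f i j) ∧
    (∀ f : (i : ℕ) → Matrix (Fin (d (i + 1))) (Fin (d i)) k, IsRankArray d r (rankArray f)) ∧
    (∀ f f' : (i : ℕ) → Matrix (Fin (d (i + 1))) (Fin (d i)) k,
        (∀ i j : ℕ, 1 ≤ i → i ≤ j → j ≤ r → rankArray f i j = rankArray f' i j) →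
        ∃ g : (j : ℕ) → Matrix.GeneralLinearGroup (Fin (d j)) k,
          ∀ i : ℕ, 1 ≤ i → i + 1 ≤ r → conj g f i = f' i) ∧
    (∀ a : ℕ → ℕ → ℕ, IsRankArray d r a →
        ∃ f : (i : ℕ) → Matrix (Fin (d (i + 1))) (Fin (d i)) k,
          ∀ i j : ℕ, 1 ≤ i → i ≤ j → j ≤ r → rankArray f i j = a i j) := by
  refine ⟨fun g f i j _ hij _ => ?_, GrothLib.ChainRep.isRankArray (r := r), fun f f' h => ?_,
    GrothLib.ChainRep.exists_of_isRankArray r⟩
  · let φ : (j : ℕ) → (Fin (d j) → k) ≃ₗ[k] (Fin (d j) → k) := fun j =>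
      (Matrix.GeneralLinearGroup.toLin (g j)).toLinearEquiv
    refine GrothLib.ChainRep.rankArray_eq_of_iso φ (fun j x => ?_) hij
    simp [φ, conj, Matrix.toLin'_apply, Matrix.GeneralLinearGroup.toLin, LinearMap.GeneralLinearGroup.toLinearEquiv,
      Matrix.mulVec_mulVec, mul_assoc]
  · obtain ⟨φ, hφ⟩ := GrothLib.ChainRep.exists_iso r h
    let g : (j : ℕ) → Matrix.GeneralLinearGroup (Fin (d j)) k := fun j =>
      ⟨LinearMap.toMatrix' (φ j).toLinearMap, LinearMap.toMatrix' (φ j).symm.toLinearMap,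
        by rw [← LinearMap.toMatrix'_comp]; simp,
        by rw [← LinearMap.toMatrix'_comp]; simp⟩
    refine ⟨g, fun i hi hir => Matrix.toLin'.injective (LinearMap.ext fun x => ?_)⟩
    simp only [conj, g, Units.inv_mk, Matrix.toLin'_mul, Matrix.toLin'_toMatrix', LinearMap.comp_apply,
      LinearEquiv.coe_coe]
    rw [← hφ i hi hir, LinearEquiv.apply_symm_apply]


end Groth.Agent.S14194
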