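import Groth.Statements.S14195
import Groth.Agent.Lib.FrobH1.Basic
-- import your own Groth.Agent.* helpers here

set_option autoImplicit false
universe u v
open StackCount

namespace Groth.Agent.S14195

/-- Let k be a finite field, k̄ an algebraic closure, Γ = Aut(k̄/k) with the Krull topology and π ∈ Γ
the Frobenius x ↦ x^(#k). Let A be a group on which Γ acts by group automorphisms, with open
stabilisers, such that every element of A lies in a finite Γ-stable subgroup. Then z ↦ z(π) is a
bijection from the locally constant 1-cocycles Γ → A (the continuous cocycles for discrete A) onto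
A, and two such cocycles z, z' are cohomologous if and only if z'(π) = g · z(π) · (π g)^(-1) for
some g in A; hence it induces a bijection of the continuous first cohomology set with the quotient
of A by the twisted conjugation g · x = g x (π g)^(-1). (The published statement takes A to be the
group of k̄-points of a smooth algebraic group over k with its Galois action; this row assumes only
the two properties of that action which the proof uses.) -/
theorem result (k : Type u) [Field k] [Finite k]
    (π : AlgebraicClosure k ≃ₐ[k] AlgebraicClosure k)
    (hπ : ∀ x : AlgebraicClosure k, π x = x ^ Nat.card k)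
    (A : Type v) [Group A] [MulDistribMulAction (AlgebraicClosure k ≃ₐ[k] AlgebraicClosure k) A]
    (hcont : ∀ a : A, IsOpen {σ : AlgebraicClosure k ≃ₐ[k] AlgebraicClosure k | σ • a = a})
    (hfin : ∀ a : A, ∃ H : Subgroup A, (H : Set A).Finite ∧ a ∈ H ∧
      ∀ (σ : AlgebraicClosure k ≃ₐ[k] AlgebraicClosure k) (x : A), x ∈ H → σ • x ∈ H) :
    Function.Bijective
        (fun z : GpH1.OneCocycleLC (AlgebraicClosure k ≃ₐ[k] AlgebraicClosure k) A => z.1 π) ∧
      ∀ z z' : GpH1.OneCocycleLC (AlgebraicClosure k ≃ₐ[k] AlgebraicClosure k) A,
        z.cl = z'.cl ↔ ∃ g : A, z'.1 π = g * z.1 π * (π • g)⁻¹ := by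
  exact GrothLib.FrobH1.result hπ hcont hfin


end Groth.Agent.S14195
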