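import Groth.Statements.S14196
import Groth.Agent.Lib.QuotPts13.Fiber
import Groth.Agent.Lib.SchPoints.AlgClosed
import Mathlib.AlgebraicGeometry.Sites.Etale
-- import your own Groth.Agent.* helpers here

set_option autoImplicit false
universe u
open CategoryTheory MonoidalCategory CartesianMonoidalCategory AlgebraicGeometry
open StackCount

namespace Groth.Agent.S14196

/-- Let k be a finite field with algebraic closure k̄, G a smooth affine algebraic group over k acting
on a variety X over k (reduced, of finite type), and [X/G] the quotient stack whose objects over a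
k-scheme T are G-torsors P → T, locally trivial for the étale topology and taken to be schemes, with
a G-equivariant morphism P → X. Write T̄ = Spec k̄ over Spec k. Then: every object of the fibre
category of [X/G] over T̄ admits a section T̄ → P of its torsor; for objects A, B over T̄ with
chosen sections t_A, t_B, A and B are isomorphic in the fibre over T̄ if and only if the k̄-points
t_B φ_B and t_A φ_A of X lie in one G(k̄)-orbit (there is g ∈ G(T̄) with g · (t_A φ_A) = t_B φ_B);
and every k̄-point of X is of the form t φ_A. Hence the isomorphism classes of [X/G](k̄) correspond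
bijectively to the G(k̄)-orbits in X(k̄). (The published statement allows any smooth algebraic group
G; this row takes G affine, so that every torsor is a scheme.) -/
theorem result (k : Type u) [Field k] [Finite k]
    (G : Over (Spec (CommRingCat.of k))) [GrpObj G] [Smooth G.hom] [IsAffineHom G.hom]
    (X : Over (Spec (CommRingCat.of k))) [LocallyOfFiniteType X.hom] [QuasiCompact X.hom]
    [IsReduced X.left] (aX : AlgGrp.Action G X) :
    (∀ A : (AlgSt.QuotObj.forget Scheme.etalePrecoverage G aX).Fiber (Over.mk (Spec.map (CommRingCat.ofHom (algebraMap k (AlgebraicClosure k)))) : Over (Spec (CommRingCat.of k))),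
        ∃ t : (Over.mk (Spec.map (CommRingCat.ofHom (algebraMap k (AlgebraicClosure k)))) : Over (Spec (CommRingCat.of k))) ⟶ A.1.P, t ≫ A.1.π = eqToHom A.2.symm) ∧
    (∀ (A B : (AlgSt.QuotObj.forget Scheme.etalePrecoverage G aX).Fiber (Over.mk (Spec.map (CommRingCat.ofHom (algebraMap k (AlgebraicClosure k)))) : Over (Spec (CommRingCat.of k))))
        (tA : (Over.mk (Spec.map (CommRingCat.ofHom (algebraMap k (AlgebraicClosure k)))) : Over (Spec (CommRingCat.of k))) ⟶ A.1.P) (tB : (Over.mk (Spec.map (CommRingCat.ofHom (algebraMap k (AlgebraicClosure k)))) : Over (Spec (CommRingCat.of k))) ⟶ B.1.P),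
        tA ≫ A.1.π = eqToHom A.2.symm → tB ≫ B.1.π = eqToHom B.2.symm →
        (Nonempty (A ≅ B) ↔
          ∃ g : (Over.mk (Spec.map (CommRingCat.ofHom (algebraMap k (AlgebraicClosure k)))) : Over (Spec (CommRingCat.of k))) ⟶ G,
            CartesianMonoidalCategory.lift g (tA ≫ A.1.φ) ≫ aX.act = tB ≫ B.1.φ)) ∧
    (∀ x : (Over.mk (Spec.map (CommRingCat.ofHom (algebraMap k (AlgebraicClosure k)))) : Over (Spec (CommRingCat.of k))) ⟶ X,
        ∃ (A : (AlgSt.QuotObj.forget Scheme.etalePrecoverage G aX).Fiber (Over.mk (Spec.map (CommRingCat.ofHom (algebraMap k (AlgebraicClosure k)))) : Over (Spec (CommRingCat.of k)))) (t : (Over.mk (Spec.map (CommRingCat.ofHom (algebraMap k (AlgebraicClosure k)))) : Over (Spec (CommRingCat.of k))) ⟶ A.1.P),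
          t ≫ A.1.π = eqToHom A.2.symm ∧ t ≫ A.1.φ = x) := by
  classical
  refine ⟨fun A => ?_, fun A B tA tB hA hB => ?_, fun x => ?_⟩
  · obtain ⟨⟨T, P, act, π, cart, hloc, φ, eqv⟩, hT⟩ := A
    change T = _ at hT
    subst hT
    obtain ⟨R, hR, hsec⟩ := hloc
    obtain ⟨I, U, f, rfl⟩ := R.exists_eq_ofArrows
    have hR' := (Scheme.ofArrows_mem_precoverage_iff (P := @Etale) (S := Spec (CommRingCat.of (AlgebraicClosure k))) (f := f)).1 hR
    obtain ⟨i, u, hu⟩ := hR'.1 (IsLocalRing.closedPoint (AlgebraicClosure k))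
    haveI : Etale (f i) := hR'.2 i
    haveI : LocallyOfFiniteType (f i) := inferInstance
    haveI : Nonempty (U i) := ⟨u⟩
    obtain ⟨s, hs⟩ := hsec (f i) (Presieve.ofArrows.mk i)
    obtain ⟨x, hx⟩ := GrothLib.SchPoints.exists_section (Ω := AlgebraicClosure k) (f i)
    have h1 : (x ≫ s) ≫ π.left = 𝟙 _ := by
      rw [Category.assoc]
      exact (congrArg (x ≫ ·) hs).trans hx
    refine ⟨Over.homMk (x ≫ s) ?_, Over.OverMorphism.ext h1⟩
    show (x ≫ s) ≫ P.hom = _
    rw [← Over.w π, ← Category.assoc, h1]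
    exact Category.id_comp _
  · obtain ⟨a⟩ := GrothLib.QuotPts13.exists_iso_tr (ξ := A) tA hA
    obtain ⟨b⟩ := GrothLib.QuotPts13.exists_iso_tr (ξ := B) tB hB
    refine Iff.trans ?_ (GrothLib.QuotPts13.nonempty_iso_iff (K := Scheme.etalePrecoverage) (aX := aX) (tB ≫ B.1.φ) (tA ≫ A.1.φ))
    exact ⟨fun ⟨e⟩ => ⟨(a ≪≫ e ≪≫ b.symm).symm⟩, fun ⟨e⟩ => ⟨a.symm ≪≫ e.symm ≪≫ b⟩⟩
  · refine ⟨GrothLib.QuotPts13.tr Scheme.etalePrecoverage aX x, GrothLib.QuotSt.unitSec _, ?_, ?_⟩
    · exact (CartesianMonoidalCategory.lift_snd _ _).trans rfl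
    · exact GrothLib.QuotSt.unitSec_whiskerLeft_act aX x


end Groth.Agent.S14196
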