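import Groth.Statements.S14197
import Groth.Agent.Lib.FrobTors13.Fibre
-- import your own Groth.Agent.* helpers here

set_option autoImplicit false
universe u
open CategoryTheory MonoidalCategory CartesianMonoidalCategory AlgebraicGeometry
open StackCount

namespace Groth.Agent.S14197

/-- Let k be a finite field with algebraic closure k̄, G a smooth affine algebraic group over k acting
on a variety X over k, [X/G] the quotient stack of G-torsors (schemes, locally trivial for the étale
topology) with an equivariant morphism to X, and k' ⊆ k̄ a subfield finite over k; write T̄ = Spec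
k̄ and T' = Spec k' over Spec k, with ι : T̄ → T' the structure map. Let A be an object of [X/G]
over T̄, t a section of its torsor and x = t φ_A the corresponding k̄-point of X. Then A has a model
over k' — there are an object B of [X/G] over T' and a morphism A → B of [X/G] lying over ι (so A is
the pull-back of B) — if and only if the G(k̄)-orbit of x is fixed by Gal(k̄/k'): for every
k'-algebra automorphism σ of k̄, with s : T̄ → T̄ the induced morphism, there is g ∈ G(T̄) with g ·
x = s x. (The published statement allows any smooth algebraic group G; this row takes G affine, so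
that torsors are schemes. Together with the classification of the isomorphism classes over k̄ by
G(k̄)-orbits of k̄-points, this says that the class of A in G(k̄)∖X(k̄) has a representative defined
over k' exactly when it is Galois-fixed.) -/
theorem result (k : Type u) [Field k] [Finite k]
    (G : Over (Spec (CommRingCat.of k))) [GrpObj G] [Smooth G.hom] [IsAffineHom G.hom]
    (X : Over (Spec (CommRingCat.of k))) [LocallyOfFiniteType X.hom] [QuasiCompact X.hom]
    [IsReduced X.left] (aX : AlgGrp.Action G X)
    (k' : IntermediateField k (AlgebraicClosure k)) [FiniteDimensional k k']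
    (ι : (Over.mk (Spec.map (CommRingCat.ofHom (algebraMap k (AlgebraicClosure k)))) : Over (Spec (CommRingCat.of k))) ⟶ (Over.mk (Spec.map (CommRingCat.ofHom (algebraMap k k'))) : Over (Spec (CommRingCat.of k))))
    (hι : ι.left = Spec.map (CommRingCat.ofHom (algebraMap k' (AlgebraicClosure k))))
    (A : (AlgSt.QuotObj.forget Scheme.etalePrecoverage G aX).Fiber (Over.mk (Spec.map (CommRingCat.ofHom (algebraMap k (AlgebraicClosure k)))) : Over (Spec (CommRingCat.of k)))) (t : (Over.mk (Spec.map (CommRingCat.ofHom (algebraMap k (AlgebraicClosure k)))) : Over (Spec (CommRingCat.of k))) ⟶ A.1.P) (ht : t ≫ A.1.π = eqToHom A.2.symm) :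
    (∃ (B : AlgSt.QuotObj Scheme.etalePrecoverage G aX) (hB : B.base = (Over.mk (Spec.map (CommRingCat.ofHom (algebraMap k k'))) : Over (Spec (CommRingCat.of k))))
        (h : A.1 ⟶ B), h.base = eqToHom A.2 ≫ ι ≫ eqToHom hB.symm) ↔
    (∀ (σ : AlgebraicClosure k ≃ₐ[k'] AlgebraicClosure k) (s : (Over.mk (Spec.map (CommRingCat.ofHom (algebraMap k (AlgebraicClosure k)))) : Over (Spec (CommRingCat.of k))) ⟶ (Over.mk (Spec.map (CommRingCat.ofHom (algebraMap k (AlgebraicClosure k)))) : Over (Spec (CommRingCat.of k)))),
        s.left = Spec.map (CommRingCat.ofHom σ.toRingEquiv.toRingHom) →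
        ∃ g : (Over.mk (Spec.map (CommRingCat.ofHom (algebraMap k (AlgebraicClosure k)))) : Over (Spec (CommRingCat.of k))) ⟶ G,
          CartesianMonoidalCategory.lift g (t ≫ A.1.φ) ≫ aX.act = s ≫ t ≫ A.1.φ) := by
  classical
  set_option backward.isDefEq.respectTransparency false in
  set_option backward.isDefEq.respectTransparency.types false in
    haveI : Finite k' := Module.finite_of_finite k
    have hι' : ι = GrothLib.FrobTors13.res k' (AlgebraicClosure k) := Over.OverMorphism.ext hι
    constructor
    · rintro ⟨B, hB, h, hb⟩ σ s hs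
      have hs' : s = GrothLib.FrobTors13.gal k' (AlgebraicClosure k) σ := Over.OverMorphism.ext hs
      have hq : (t ≫ h.top) ≫ B.π = ι ≫ eqToHom hB.symm := by
        rw [Category.assoc, h.cart.w, hb, reassoc_of% ht]
        simp
      have hsι : s ≫ ι = ι := by rw [hs', hι']; exact GrothLib.FrobTors13.gal_res _ _ σ
      obtain ⟨g, hg⟩ := GrothLib.FrobTors13.exists_sm B.act B.cart (x := s ≫ t ≫ h.top) (y := t ≫ h.top)
        (by rw [Category.assoc, hq, reassoc_of% hsι])
      refine ⟨g, ?_⟩
      have := congrArg (fun m => m ≫ B.φ) hg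
      rw [GrothLib.FrobTors13.sm_comp B.act B.eqv, Category.assoc, Category.assoc, Category.assoc, h.wφ] at this
      exact this
    · intro H
      obtain ⟨σ, hσ⟩ := GrothLib.FrobTors13.exists_frob k' (AlgebraicClosure k)
      obtain ⟨g, hg⟩ := H σ (GrothLib.FrobTors13.gal k' (AlgebraicClosure k) σ) rfl
      obtain ⟨ξ, p, hp, -, hpx⟩ := GrothLib.FrobTors13.exists_obj (aX := aX) hσ g (t ≫ A.1.φ) hg.symm
      obtain ⟨i⟩ := GrothLib.QuotPts13.exists_iso_tr (ξ := A) t ht
      let f : (GrothLib.QuotPts13.tr Scheme.etalePrecoverage aX (t ≫ A.1.φ)).1 ⟶ ξ.1 :=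
        GrothLib.QuotSt.homOfPoint ⟨_, ⟨t ≫ A.1.φ⟩⟩ ξ.1 p hpx
      refine ⟨ξ.1, ξ.2, i.inv.1 ≫ f, ?_⟩
      haveI := i.inv.2
      have e : i.inv.1.base = _ :=
        CategoryTheory.IsHomLift.fac' (AlgSt.QuotSt Scheme.etalePrecoverage G aX).p (𝟙 (SGA7.pt (K := k) (AlgebraicClosure k))) i.inv.1
      rw [AlgSt.QuotObj.comp_base, e, hι']
      have hp1 : p ≫ ξ.1.π ≫ eqToHom ξ.2 = GrothLib.FrobTors13.res k' (AlgebraicClosure k) := hp.1
      change _ ≫ p ≫ ξ.1.π = _
      rw [← cancel_mono (eqToHom ξ.2)]
      simp only [Category.assoc, hp1, eqToHom_trans, eqToHom_refl, Category.comp_id]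


end Groth.Agent.S14197
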