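import Groth.Statements.S1420
import Groth.Agent.Lib.Weight.Positive

set_option autoImplicit false
universe u
open FlatMor

namespace Groth.Agent.S1420

open AlgebraicGeometry CategoryTheory Limits in
/-- A locally quasi-finite morphism with a weighting taking only positive values is universally open. -/
theorem result {X Y : Scheme.{u}} (f : X ⟶ Y) [LocallyQuasiFinite f] [LocallyOfFiniteType f] (w : ↑X → ℤ) (hw : MoreMor.IsWeighting f w) (hpos : ∀ x, 0 < w x) :
    UniversallyOpen f := by
  refine ⟨?_⟩
  intro X' Y' i₁ i₂ f' hsq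
  haveI : LocallyQuasiFinite f' := MorphismProperty.of_isPullback hsq.flip ‹LocallyQuasiFinite f›
  haveI : LocallyOfFiniteType f' := MorphismProperty.of_isPullback hsq.flip ‹LocallyOfFiniteType f›
  refine GrothLib.Weight.isOpenMap_of_positive (w := w ∘ ⇑i₁) ?_ (fun x ↦ hpos _)
  intro V e _ U hU
  exact ((GrothLib.Weight.Piece.ofOpens e U hU).of_isPullback hsq.flip).isLocallyConstant' hw

end Groth.Agent.S1420
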