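import Groth.Statements.S14201
import Groth.Agent.Lib.ASBun21.Split

set_option autoImplicit false
universe u
open CategoryTheory CategoryTheory.Limits AlgebraicGeometry
open ASBun

namespace Groth.Agent.S14201

/-- Let A be a central simple algebra of degree n ≥ 1 over a field k (of dimension n² over k), X a
proper k-scheme which is the Severi–Brauer scheme of A (for every commutative k-algebra R its
R-points over k are, naturally in R, the left ideals of R ⊗_k A with projective quotient of rank n²
− n), K an algebraic closure of k and e a K-isomorphism X_K ≅ P^{n−1}_K, along which O_e(j) denotes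
the pullback of the twisting sheaf O(j). Let E be an indecomposable finite locally free O_X-module
(nonzero, and in any decomposition as a direct sum one summand is zero) which is absolutely split:
E_K is isomorphic to a finite direct sum of invertible O_{X_K}-modules. Then E is absolutely
rank-one-isotypical of twisting type: E_K ≅ O_e(j)^{⊕r} for some integer j and some r ≥ 1. (The
published statement writes j = j₀ + ap with p the period of A and 0 ≤ j₀ < p, and E as the
indecomposable module of type O(j₀) twisted by the descent of O(ap); the classification content is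
the existence of j, whose uniqueness for X of positive dimension is not asserted here.) -/
theorem result (k : Type u) [Field k] (A : Type u) [Ring A] [Algebra k A]
    [Algebra.IsCentral k A] [IsSimpleRing A] (n : ℕ) (hn : 0 < n)
    (hA : Module.finrank k A = n * n) {X : Scheme.{u}} (f : X ⟶ Spec (CommRingCat.of k))
    [IsProper f] (hX : BrSev.IsSBOf k A (n * n - n) f)
    (K : Type u) [Field K] [Algebra k K] [IsAlgClosure k K] (e : BrSev.Splitting f K (n - 1))
    (E : X.Modules) (hE : FlatMod.IsFinLocFree E)
    (hEi : (¬ IsZero E ∧ ∀ M₁ M₂ : X.Modules, Nonempty (E ≅ M₁ ⊞ M₂) → IsZero M₁ ∨ IsZero M₂))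
    (s : ℕ) (Ls : Fin s → (BrSev.bc f K).Modules) (hLs : ∀ i, PicF.IsInvertible (Ls i))
    (hsplit : Nonempty (BrSev.bcMod f K E ≅ ∐ Ls)) :
    ∃ (j : ℤ) (r : ℕ), 0 < r ∧ BrSev.IsTwPow e j r E := by
  obtain ⟨hs⟩ := hsplit
  haveI : HasFiniteBiproducts X.Modules := Abelian.hasFiniteBiproducts
  exact GrothLib.ASBun21.isTwPow_of_mem e hE hLs hs (l := [E])
    ((isoBiprodZero (isZero_zero X.Modules)) : E ≅ _) (fun a ha => List.mem_singleton.1 ha ▸ hEi)
    (List.mem_singleton_self E)

end Groth.Agent.S14201
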