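import Groth.Statements.S14202
import Groth.Agent.Lib.ASBun21.Dual
import Groth.Agent.Lib.GrTilde.Mul
import Groth.Agent.Lib.Ample.ProjSections
import Groth.Agent.Lib.ProjDim.Const
import Groth.Prelude.Def_PicLoc
set_option backward.isDefEq.respectTransparency false

set_option autoImplicit false
universe u
open CategoryTheory CategoryTheory.Limits AlgebraicGeometry
open ASBun

namespace Groth.Agent.S14202

open CategoryTheory CategoryTheory.Limits AlgebraicGeometry MvPolynomial GrothLib in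
theorem h1poly (n : ℕ) (R : Type u) [CommRing R] (p : Proj (CohB1.polyGrading n R)) :
    ∃ f : MvPolynomial (Fin (n + 1)) R, f ∈ CohB1.polyGrading n R 1 ∧ f ∉ p.asHomogeneousIdeal := by
  obtain ⟨i, hi⟩ := (Ample.ProjMap.pcoc n R).exists_mem p
  exact ⟨X i.down, Ample.ProjMap.X_mem i.down, hi⟩

open GrothLib in
theorem le_multiplicity (k : Type u) [Field k] {X : Scheme.{u}}
    (f : X ⟶ Spec (CommRingCat.of k)) [IsProper f] (n : ℕ)
    (K : Type u) [Field K] [Algebra k K] [IsAlgClosure k K] (e : BrSev.Splitting f K n) (i j : ℤ) (hij : i + j = 0)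
    (W W' : X.Modules) (hW : FlatMod.IsFinLocFree W) (hW' : FlatMod.IsFinLocFree W') (hW0 : ¬ IsZero W)
    (hW'i : ASBun21.Indec W') (r r' : ℕ) (hr : 0 < r) (hWt : BrSev.IsTwPow e i r W)
    (hW't : BrSev.IsTwPow e j r' W') : r' ≤ r := by
  obtain ⟨a⟩ := hWt
  obtain ⟨b⟩ := hW't
  haveI : IsAlgClosed K := IsAlgClosure.isAlgClosed k
  haveI : Algebra.IsAlgebraic k K := IsAlgClosure.isAlgebraic
  haveI : IsIntegral (CohB1.ProjSpace n K) := ProjDim.isIntegral_proj K n
  haveI : Nonempty (BrSev.bc f K) := ⟨e.iso.inv (Classical.arbitrary _)⟩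
  haveI : IsIntegral (BrSev.bc f K) := isIntegral_of_isOpenImmersion e.iso.hom
  letI := ASBun21.overBC f K
  haveI : IsProper ((BrSev.bc f K) ↘ Spec (CommRingCat.of K)) :=
    MorphismProperty.pullback_snd f _ ‹IsProper f›
  have hi := PicLoc.isInvertible_pullback e.iso.hom (GrTilde.isInvertible_twist (h1poly n K) i)
  have hj := PicLoc.isInvertible_pullback e.iso.hom (GrTilde.isInvertible_twist (h1poly n K) j)
  have hji : ASBun21.Indec (e.twist j) :=
    ASBun21.indec_of_scalar (K := K) (ASBun21.not_isZero_of_isInvertible hj) fun φ => ASBun21.exists_eq_smul (K := K) hj φ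
  obtain ⟨t⟩ := GrTilde.nonempty_twist_tensor_twist (h1poly n K) i j
  obtain ⟨z⟩ := GrTilde.nonempty_structureModule_iso_twist_zero (CohB1.polyGrading n K)
  let P := Scheme.Modules.pullback e.iso.hom
  let φ : ((DCoh.tensorBi (X := BrSev.bc f K)).obj (e.twist i)).obj (e.twist j) ≅
      Coh.structureModule (BrSev.bc f K) :=
    (OX.pullTensorIso e.iso.hom _ _).symm ≪≫ P.mapIso (t ≪≫ eqToIso (by rw [hij]) ≪≫ z.symm) ≪≫
      OX.pullUnitIso e.iso.hom
  exact ASBun21.le_of_inverse_types f K hW hW0 hW' hW'i hi hj hji φ hr a b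

/-- Let X be a scheme proper over a field k, K an algebraic closure of k, e a K-isomorphism X_K ≅ P^n_K
with O_e(j) the pullback of O(j) along e, and j an integer. If W and W' are indecomposable finite
locally free O_X-modules (nonzero, and in any decomposition as a direct sum one summand is zero)
with W_K ≅ O_e(j)^{⊕r} and W'_K ≅ O_e(−j)^{⊕r'} for some r, r' ≥ 1, then r = r': the indecomposable
modules of types O(j) and O(−j) have the same rank (W' is isomorphic to the dual of W). -/
theorem result (k : Type u) [Field k] {X : Scheme.{u}}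
    (f : X ⟶ Spec (CommRingCat.of k)) [IsProper f] (n : ℕ)
    (K : Type u) [Field K] [Algebra k K] [IsAlgClosure k K] (e : BrSev.Splitting f K n) (j : ℤ)
    (W W' : X.Modules) (hW : FlatMod.IsFinLocFree W) (hW' : FlatMod.IsFinLocFree W')
    (hWi : (¬ IsZero W ∧ ∀ M₁ M₂ : X.Modules, Nonempty (W ≅ M₁ ⊞ M₂) → IsZero M₁ ∨ IsZero M₂))
    (hW'i : (¬ IsZero W' ∧ ∀ M₁ M₂ : X.Modules, Nonempty (W' ≅ M₁ ⊞ M₂) → IsZero M₁ ∨ IsZero M₂))
    (r r' : ℕ) (hr : 0 < r) (hr' : 0 < r') (hWt : BrSev.IsTwPow e j r W)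
    (hW't : BrSev.IsTwPow e (-j) r' W') : r = r' := by
  exact le_antisymm
    (le_multiplicity k f n K e (-j) j (by omega) W' W hW' hW hW'i.1 hWi r' r hr' hW't hWt)
    (le_multiplicity k f n K e j (-j) (by omega) W W' hW hW' hWi.1 hW'i r r' hr hWt hW't)

end Groth.Agent.S14202
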