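import Groth.Statements.S14204
import Groth.Agent.Lib.OX.PullbackTensor
import Groth.Agent.Lib.OX.Tensor
import Groth.Agent.Lib.GrTilde.Mul
import Groth.Agent.Lib.Ample.ProjSections
set_option backward.isDefEq.respectTransparency false

set_option autoImplicit false
universe u
open CategoryTheory CategoryTheory.Limits AlgebraicGeometry
open ASBun

namespace Groth.Agent.S14204

open CategoryTheory CategoryTheory.Limits AlgebraicGeometry MvPolynomial GrothLib in
theorem h1poly (n : ℕ) (R : Type u) [CommRing R] (p : Proj (CohB1.polyGrading n R)) :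
    ∃ f : MvPolynomial (Fin (n + 1)) R, f ∈ CohB1.polyGrading n R 1 ∧ f ∉ p.asHomogeneousIdeal := by
  obtain ⟨i, hi⟩ := (Ample.ProjMap.pcoc n R).exists_mem p
  exact ⟨X i.down, Ample.ProjMap.X_mem i.down, hi⟩

open CategoryTheory CategoryTheory.Limits AlgebraicGeometry in
/-- the product of two powers -/
noncomputable def powTensor {Y : Scheme.{u}} (A B : Y.Modules) (r s : ℕ) :
    ((DCoh.tensorBi (X := Y)).obj (BrSev.pow A r)).obj (BrSev.pow B s) ≅
      BrSev.pow (((DCoh.tensorBi (X := Y)).obj A).obj B) (r * s) :=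
  haveI : PreservesColimitsOfSize.{0, 0} ((DCoh.tensorBi (X := Y)).flip.obj (BrSev.pow B s)) :=
    preservesColimitsOfSize_shrink.{0, u, 0, u} _
  haveI : PreservesColimitsOfSize.{0, 0} ((DCoh.tensorBi (X := Y)).obj A) :=
    preservesColimitsOfSize_shrink.{0, u, 0, u} _
  PreservesCoproduct.iso ((DCoh.tensorBi (X := Y)).flip.obj (BrSev.pow B s)) (fun _ : Fin r => A) ≪≫
    Sigma.mapIso (fun _ => PreservesCoproduct.iso ((DCoh.tensorBi (X := Y)).obj A) (fun _ : Fin s => B)) ≪≫
    sigmaSigmaIso (fun _ : Fin r => Fin s) (fun _ _ => ((DCoh.tensorBi (X := Y)).obj A).obj B) ≪≫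
    @Sigma.whiskerEquiv _ _ _ _ (fun _ => ((DCoh.tensorBi (X := Y)).obj A).obj B) (fun _ : Fin (r * s) => ((DCoh.tensorBi (X := Y)).obj A).obj B) ((Equiv.sigmaEquivProd (Fin r) (Fin s)).trans finProdFinEquiv) (fun _ => Iso.refl _) _ _

/-- Let X be a scheme over a field k, K a field extension of k, e a K-isomorphism X_K ≅ P^n_K with
O_e(j) the pullback of O(j) along e, and W, W' two O_X-modules with W_K ≅ O_e(j)^{⊕r} and W'_K ≅
O_e(l)^{⊕s} for integers j, l and natural numbers r, s. Then the tensor product W ⊗_{O_X} W'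
satisfies (W ⊗ W')_K ≅ O_e(j + l)^{⊕rs}: the tensor product of absolutely rank-one-isotypical
modules of twisting types O(j) and O(l) is absolutely rank-one-isotypical of type O(j + l), in
particular absolutely split. (The published statement is for the indecomposable modules of types
O(j) and O(l) on a Severi–Brauer variety with K an algebraic closure; the argument uses only the
displayed decompositions.) -/
theorem result (k : Type u) [Field k] {X : Scheme.{u}}
    (f : X ⟶ Spec (CommRingCat.of k)) (n : ℕ)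
    (K : Type u) [Field K] [Algebra k K] (e : BrSev.Splitting f K n) (j l : ℤ) (r s : ℕ)
    (W W' : X.Modules) (hWt : BrSev.IsTwPow e j r W) (hW't : BrSev.IsTwPow e l s W') :
    BrSev.IsTwPow e (j + l) (r * s) (CohB1.tensorMod W W') := by
  obtain ⟨a⟩ := hWt
  obtain ⟨b⟩ := hW't
  obtain ⟨t⟩ := GrothLib.GrTilde.nonempty_twist_tensor_twist (h1poly n K) j l
  let T := DCoh.tensorBi (X := BrSev.bc f K)
  exact ⟨GrothLib.OX.pullTensorIso (BrSev.proj f K) W W' ≪≫
    (T.mapIso a).app _ ≪≫ (T.obj _).mapIso b ≪≫ powTensor _ _ r s ≪≫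
      Sigma.mapIso fun _ => (GrothLib.OX.pullTensorIso e.iso.hom _ _).symm ≪≫
        (Scheme.Modules.pullback e.iso.hom).mapIso t⟩

end Groth.Agent.S14204
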