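import Groth.Statements.S14205
import Groth.Agent.Lib.BrauerEquiv.Period

set_option autoImplicit false
universe u v
open scoped TensorProduct
open Brauer

namespace Groth.Agent.S14205

open GrothLib

/-- Let A be a finite-dimensional central simple algebra over a field k with period p: p is the least
positive integer for which the p-fold tensor power of A over k is a full matrix algebra over k. Then
for every r ≥ 1 the r-fold tensor power of A has period p / gcd(p, r) (the order of the r-th
multiple of an element of order p). -/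
theorem result (k : Type u) [Field k] (A : Type v) [Ring A] [Algebra k A]
    [Algebra.IsCentral k A] [IsSimpleRing A] [FiniteDimensional k A] (p : ℕ)
    (hp : CSAGal.IsPeriod k A p) (r : ℕ) (hr : 0 < r) :
    CSAGal.IsPeriod k (CSAGal.tpow k A r) (p / Nat.gcd p r) := by
  obtain ⟨_, _, _⟩ := BrauerEquiv.csa_tpow (k := k) A r
  have key : ∀ e : ℕ, Curves.Splits k (CSAGal.tpow k (CSAGal.tpow k A r) e) k ↔
      p / Nat.gcd p r ∣ e := by
    intro e
    rw [BrauerEquiv.splits_tpow_iff]
    have h1 : BrauerEquiv.BEq k (CSAGal.tpow k (CSAGal.tpow k A r) e) k ↔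
        BrauerEquiv.BEq k (CSAGal.tpow k A (r * e)) k :=
      ⟨(BrauerEquiv.beq_tpow_tpow r e).symm.trans, (BrauerEquiv.beq_tpow_tpow r e).trans⟩
    rw [h1, BrauerEquiv.period_dvd_iff hp]
    have hg : 0 < Nat.gcd p r := Nat.gcd_pos_of_pos_left r hp.1
    constructor
    · intro h
      refine (Nat.coprime_div_gcd_div_gcd hg).dvd_of_dvd_mul_left (Nat.dvd_of_mul_dvd_mul_left hg ?_)
      rwa [Nat.mul_div_cancel' (Nat.gcd_dvd_left p r), ← mul_assoc,
        Nat.mul_div_cancel' (Nat.gcd_dvd_right p r)]
    · rintro ⟨c, rfl⟩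
      refine ⟨r / Nat.gcd p r * c, ?_⟩
      calc r * (p / Nat.gcd p r * c)
          = (Nat.gcd p r * (r / Nat.gcd p r)) * (p / Nat.gcd p r * c) := by
            rw [Nat.mul_div_cancel' (Nat.gcd_dvd_right p r)]
        _ = (Nat.gcd p r * (p / Nat.gcd p r)) * (r / Nat.gcd p r * c) := by ring
        _ = p * (r / Nat.gcd p r * c) := by rw [Nat.mul_div_cancel' (Nat.gcd_dvd_left p r)]
  have hpos : 0 < p / Nat.gcd p r :=
    Nat.div_pos (Nat.gcd_le_left r hp.1) (Nat.gcd_pos_of_pos_left r hp.1)
  exact ⟨hpos, (key _).2 dvd_rfl, fun e' h0 hlt hs =>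
    absurd (Nat.le_of_dvd h0 ((key e').1 hs)) (not_le.2 hlt)⟩

end Groth.Agent.S14205
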