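import Groth.Statements.S14211
import Groth.Agent.Lib.BrauerEquiv.Period
import Groth.Agent.Lib.BrauerEquiv.Quaternion

set_option autoImplicit false
universe u v
open scoped TensorProduct
open Brauer

namespace Groth.Agent.S14211

open GrothLib

/-- Let k be a field in which 2 ≠ 0 and A a finite-dimensional central simple k-algebra. Then A has
period 2 and index 2 (its Severi–Brauer variety has type (2, 2, 2m)) if and only if A is isomorphic
over k to a matrix algebra M_m(Q), m ≥ 1, over a quaternion algebra Q = (a, b)_k (the k-algebra with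
basis 1, i, j, ij, i² = a, j² = b, ij = −ji) which is a division ring; moreover such a quaternion
algebra is unique up to k-isomorphism. -/
theorem result (k : Type u) [Field k] (h2 : (2 : k) ≠ 0)
    (A : Type v) [Ring A] [Algebra k A] [Algebra.IsCentral k A] [IsSimpleRing A]
    [FiniteDimensional k A] :
    ((CSAGal.IsPeriod k A 2 ∧ CSAGal.IsIndex k A 2) ↔
      ∃ (a b : k) (m : ℕ), 0 < m ∧ (∀ x : QuaternionAlgebra k a 0 b, x ≠ 0 → IsUnit x) ∧
        Nonempty (A ≃ₐ[k] Matrix (Fin m) (Fin m) (QuaternionAlgebra k a 0 b))) ∧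
    (∀ (a b a' b' : k) (m m' : ℕ),
      (∀ x : QuaternionAlgebra k a 0 b, x ≠ 0 → IsUnit x) →
      (∀ x : QuaternionAlgebra k a' 0 b', x ≠ 0 → IsUnit x) →
      Nonempty (A ≃ₐ[k] Matrix (Fin m) (Fin m) (QuaternionAlgebra k a 0 b)) →
      Nonempty (A ≃ₐ[k] Matrix (Fin m') (Fin m') (QuaternionAlgebra k a' 0 b')) →
      Nonempty (QuaternionAlgebra k a 0 b ≃ₐ[k] QuaternionAlgebra k a' 0 b')) := by
  refine ⟨⟨fun ⟨_, hi⟩ => ?_, ?_⟩, ?_⟩
  · obtain ⟨-, m, D, _, _, hm, hD, ⟨e⟩⟩ := hi
    have : Nonempty (Fin m) := ⟨⟨0, hm⟩⟩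
    have : Algebra.IsCentral k (Matrix (Fin m) (Fin m) D) := CSA.isCentral_of_algEquiv e
    have : Algebra.IsCentral k D := CSAExtra.isCentral_of_matrix k (Fin m)
    have : FiniteDimensional k D := Module.finite_of_finrank_pos (by rw [hD]; norm_num)
    obtain ⟨a, b, ⟨f⟩⟩ := BrauerEquiv.exists_quaternion h2 D (by rw [hD]; norm_num)
    refine ⟨a, b, m, hm, fun x hx => ?_, ⟨e.trans f.symm.mapMatrix⟩⟩
    have := (Ne.isUnit (a := f x) (by simpa using hx)).map f.symm
    simpa using this
  · rintro ⟨a, b, m, hm, hunit, ⟨e⟩⟩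
    let Q := QuaternionAlgebra k a 0 b
    have : Nontrivial Q := Module.nontrivial_of_finrank_pos (R := k)
      (by rw [QuaternionAlgebra.finrank_eq_four]; norm_num)
    let : DivisionRing Q :=
      DivisionRing.ofIsUnitOrEqZero fun x => (em (x = 0)).symm.imp (hunit x) id
    have : FiniteDimensional k Q := Module.finite_of_finrank_pos
      (by rw [QuaternionAlgebra.finrank_eq_four]; norm_num)
    have hQ : CSAGal.IsIndex k Q 2 := BrauerEquiv.isIndex_of_division Q Q
      (CyclicAlg.matrixOne k Q).symm (by rw [QuaternionAlgebra.finrank_eq_four]; norm_num)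
    have hAQ : BrauerEquiv.BEq k A Q := BrauerEquiv.BEq.of_matrix_equiv hm.ne' e
    obtain ⟨d, hd⟩ := BrauerEquiv.exists_isIndex (k := k) A
    obtain rfl : d = 2 := BrauerEquiv.index_unique_of_division hAQ hd hQ
    refine ⟨⟨two_pos, (BrauerEquiv.splits_tpow_iff 2).2 (BrauerEquiv.beq_tpow_index hd),
      fun e' h0 hlt hs => ?_⟩, hd⟩
    obtain rfl : e' = 1 := by omega
    have h1 := BrauerEquiv.isIndex_one_of_beq_k
      (BrauerEquiv.beq_tpow_one.symm.trans ((BrauerEquiv.splits_tpow_iff 1).1 hs))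
    have := BrauerEquiv.index_unique_of_division (BrauerEquiv.BEq.refl A) hd h1
    omega
  · intro a b a' b' m m' hu hu' ⟨e⟩ ⟨e'⟩
    have : Nontrivial (QuaternionAlgebra k a 0 b) := Module.nontrivial_of_finrank_pos (R := k)
      (by rw [QuaternionAlgebra.finrank_eq_four]; norm_num)
    have : Nontrivial (QuaternionAlgebra k a' 0 b') := Module.nontrivial_of_finrank_pos (R := k)
      (by rw [QuaternionAlgebra.finrank_eq_four]; norm_num)
    let : DivisionRing (QuaternionAlgebra k a 0 b) :=
      DivisionRing.ofIsUnitOrEqZero fun x => (em (x = 0)).symm.imp (hu x) id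
    let : DivisionRing (QuaternionAlgebra k a' 0 b') :=
      DivisionRing.ofIsUnitOrEqZero fun x => (em (x = 0)).symm.imp (hu' x) id
    have : FiniteDimensional k (QuaternionAlgebra k a 0 b) := Module.finite_of_finrank_pos
      (by rw [QuaternionAlgebra.finrank_eq_four]; norm_num)
    have : NeZero m := ⟨fun h => by subst h; exact not_subsingleton A e.toEquiv.subsingleton⟩
    have : NeZero m' := ⟨fun h => by subst h; exact not_subsingleton A e'.toEquiv.subsingleton⟩
    exact CSA.divisionRing_unique (e.symm.trans e')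

end Groth.Agent.S14211
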