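import Groth.Statements.S14212
import Groth.Agent.Lib.ASBun21.K0Gen

set_option autoImplicit false
universe u
open CategoryTheory CategoryTheory.Limits AlgebraicGeometry
open ASBun

namespace Groth.Agent.S14212

/-- Let A be a central simple algebra of degree n ≥ 1 over a field k (of dimension n² over k), X a
proper k-scheme which is the Severi–Brauer scheme of A (for every commutative k-algebra R its
R-points over k are, naturally in R, the left ideals of R ⊗_k A with projective quotient of rank n²
− n), K an algebraic closure of k and e a K-isomorphism X_K ≅ P^{n−1}_K, along which O_e(j) denotes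
the pullback of the twisting sheaf O(j). Then the Grothendieck group of finite locally free
O_X-modules (the free abelian group on them modulo [M₂] − [M₁] − [M₃] for every short exact sequence
0 → M₁ → M₂ → M₃ → 0 of O_X-modules with finite locally free terms) is spanned over ℤ by the classes
of the indecomposable finite locally free modules W (nonzero, and in any decomposition as a direct
sum one summand is zero) with W_K ≅ O_e(−j)^{⊕r} for some j ≥ 0 and r ≥ 1. (The published statement
speaks of the duals of the indecomposable modules of types O(j), j ≥ 0, which are these modules, and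
of the Grothendieck group of coherent modules, which for this smooth X is that of locally free
ones.) -/
theorem result (k : Type u) [Field k] (A : Type u) [Ring A] [Algebra k A]
    [Algebra.IsCentral k A] [IsSimpleRing A] (n : ℕ) (hn : 0 < n)
    (hA : Module.finrank k A = n * n) {X : Scheme.{u}} (f : X ⟶ Spec (CommRingCat.of k))
    [IsProper f] (hX : BrSev.IsSBOf k A (n * n - n) f)
    (K : Type u) [Field K] [Algebra k K] [IsAlgClosure k K] (e : BrSev.Splitting f K (n - 1)) :
    AddSubgroup.closure {c : KZero.K0sub (fun M : X.Modules => FlatMod.IsFinLocFree M) |
        ∃ (W : X.Modules) (j : ℕ) (r : ℕ), FlatMod.IsFinLocFree W ∧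
          (¬ IsZero W ∧ ∀ M₁ M₂ : X.Modules, Nonempty (W ≅ M₁ ⊞ M₂) → IsZero M₁ ∨ IsZero M₂) ∧
          0 < r ∧ BrSev.IsTwPow e (-(j : ℤ)) r W ∧
          c = KZero.clSub (fun M : X.Modules => FlatMod.IsFinLocFree M) W} = ⊤ := by
  exact GrothLib.ASBun21.negGen_eq_top e

end Groth.Agent.S14212
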