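import Groth.Statements.S14213
import Groth.Agent.Lib.ASBun21.AbsSplit

set_option autoImplicit false
universe u
open CategoryTheory CategoryTheory.Limits AlgebraicGeometry
open ASBun

namespace Groth.Agent.S14213

/-- Let A be a central simple algebra of degree n ≥ 1 over a field k (of dimension n² over k), X a
proper k-scheme which is the Severi–Brauer scheme of A (for every commutative k-algebra R its
R-points over k are, naturally in R, the left ideals of R ⊗_k A with projective quotient of rank n²
− n), K an algebraic closure of k and e a K-isomorphism X_K ≅ P^{n−1}_K, along which O_e(j) denotes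
the pullback of the twisting sheaf O(j); let p be the period of A (the least p ≥ 1 for which the
p-fold tensor power of A is a full matrix algebra over k) and E a finite locally free O_X-module.
Then E is absolutely split (E_K is isomorphic to a finite direct sum of invertible O_{X_K}-modules)
if and only if the cohomology groups H^i(X, E ⊗ L ⊗ W) vanish for all 0 < i < n − 1 = dim X, all
integers a, all invertible O_X-modules L with L_K ≅ O_e(ap), all integers 0 ≤ j < p and all
indecomposable finite locally free O_X-modules W (nonzero, and in any decomposition as a direct sum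
one summand is zero) with W_K ≅ O_e(j)^{⊕r} for some r ≥ 1. -/
theorem result (k : Type u) [Field k] (A : Type u) [Ring A] [Algebra k A]
    [Algebra.IsCentral k A] [IsSimpleRing A] (n : ℕ) (hn : 0 < n)
    (hA : Module.finrank k A = n * n) {X : Scheme.{u}} (f : X ⟶ Spec (CommRingCat.of k))
    [IsProper f] (hX : BrSev.IsSBOf k A (n * n - n) f)
    (K : Type u) [Field K] [Algebra k K] [IsAlgClosure k K] (e : BrSev.Splitting f K (n - 1))
    (p : ℕ) (hp : CSAGal.IsPeriod k A p) (E : X.Modules) (hE : FlatMod.IsFinLocFree E) :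
    (∃ (s : ℕ) (Ls : Fin s → (BrSev.bc f K).Modules), (∀ i, PicF.IsInvertible (Ls i)) ∧
        Nonempty (BrSev.bcMod f K E ≅ ∐ Ls)) ↔
      (∀ (i : ℕ), 0 < i → i + 1 < n → ∀ (a : ℤ) (L : X.Modules), PicF.IsInvertible L →
        BrSev.IsTwPow e (a * (p : ℤ)) 1 L → ∀ (j : ℤ), 0 ≤ j → j < (p : ℤ) →
        ∀ (W : X.Modules), FlatMod.IsFinLocFree W →
        (¬ IsZero W ∧ ∀ M₁ M₂ : X.Modules, Nonempty (W ≅ M₁ ⊞ M₂) → IsZero M₁ ∨ IsZero M₂) →
        ∀ (r : ℕ), 0 < r → BrSev.IsTwPow e j r W →
        Subsingleton (Coh.HH X (CohB1.tensorMod (CohB1.tensorMod E L) W) i)) := by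
  haveI : FiniteDimensional k A := Module.finite_of_finrank_pos (hA ▸ Nat.mul_pos hn hn)
  letI : X.Over (Spec (CommRingCat.of k)) := ⟨f⟩
  haveI : IsProper (X ↘ Spec (CommRingCat.of k)) := ‹IsProper f›
  constructor
  · rintro ⟨s, Ls, hLs, ⟨h⟩⟩ i hi hin a L hL hLt j _ _ W hW _ r _ hWt
    exact GrothLib.ASBun21.subsingleton_of_absSplit e hE
      (GrothLib.Euler.isFinLocFree_of_isInvertible hL) hW hLs h hLt hWt hi (by omega)
  · intro hv
    refine GrothLib.ASBun21.absSplit_of_vanish e hE fun h1 i d hi hin => ?_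
    have hp0 : (p : ℤ) ≠ 0 := by exact_mod_cast hp.1.ne'
    obtain ⟨W, r, hW, hWi, hr, hWt⟩ := GrothLib.ASBun21.exists_indec_twPow e (d % (p : ℤ))
    obtain ⟨L, r', hL, hLi, hr', hLt⟩ := GrothLib.ASBun21.exists_indec_twPow e (d / (p : ℤ) * (p : ℤ))
    have hidx := GrothLib.ASBun21.isIndex_of_isTwPow hn hA hX e _ hL hLi hr' hLt
    have hr1 : r' = 1 := GrothLib.ASBun21.index_tpow_eq_one
      ((GrothLib.BrauerEquiv.period_dvd_iff hp _).2 (Int.natCast_dvd.1 (dvd_mul_left _ _))) hidx
    subst hr1
    have hLv := GrothLib.ASBun21.isInvertible_of_isTwPow_one e hL hLt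
    have h := hv i hi (by omega) (d / (p : ℤ)) L hLv hLt (d % (p : ℤ)) (Int.emod_nonneg d hp0)
      (Int.emod_lt_of_pos d (by exact_mod_cast hp.1)) W hW hWi r hr hWt
    obtain ⟨q⟩ := GrothLib.ASBun21.nonempty_toP_triple e (E := E) hLt hWt
    rw [Int.ediv_mul_add_emod] at q
    haveI := GrothLib.Euler.isNoetherian_of_proper (X := X) k
    refine GrothLib.ASBun21.subsingleton_of_pow (K := K) hr (GrothLib.CMReg.subsingleton_of_iso q ?_)
    exact (GrothLib.ASBun21.subsingleton_iff_toP e (GrothLib.Euler.isCoh_of_isFinLocFree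
      (GrothLib.OX.isFinLocFree_tensor (GrothLib.OX.isFinLocFree_tensor hE hL) hW)) i).1 h

end Groth.Agent.S14213
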