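import Groth.Statements.S14216
import Groth.Agent.Lib.ASBun21.TautCor

set_option autoImplicit false
universe u
open CategoryTheory CategoryTheory.Limits AlgebraicGeometry
open ASBun

namespace Groth.Agent.S14216

open CategoryTheory CategoryTheory.Limits AlgebraicGeometry in
theorem nonempty_iso_split {X : Scheme.{u}} (l : List X.Modules) (P : X.Modules → Bool) :
    Nonempty (GrothLib.ASBun21.lsum l ≅
      (∐ (l.filter P).get) ⊞ (∐ (l.filter fun a => !P a).get)) := by
  obtain ⟨a⟩ := GrothLib.ASBun21.nonempty_lsum_perm (List.filter_append_perm P l).symm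
  obtain ⟨b⟩ := GrothLib.ASBun21.nonempty_lsum_append (l.filter P) (l.filter fun a => !P a)
  obtain ⟨c⟩ := GrothLib.ASBun21.nonempty_coprod_lsum (l.filter P).get
  obtain ⟨d⟩ := GrothLib.ASBun21.nonempty_coprod_lsum (l.filter fun a => !P a).get
  exact ⟨a ≪≫ b ≪≫ biprod.mapIso (eqToIso (by rw [List.ofFn_get]) ≪≫ c.symm) (eqToIso (by rw [List.ofFn_get]) ≪≫ d.symm)⟩
open CategoryTheory CategoryTheory.Limits AlgebraicGeometry in

/-- Let A be a central simple algebra of degree n ≥ 1 over a field k (of dimension n² over k), X a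
proper k-scheme which is the Severi–Brauer scheme of A (for every commutative k-algebra R its
R-points over k are, naturally in R, the left ideals of R ⊗_k A with projective quotient of rank n²
− n), K an algebraic closure of k and e a K-isomorphism X_K ≅ P^{n−1}_K, along which O_e(j) denotes
the pullback of the twisting sheaf O(j); suppose A has index 2 (A is a matrix algebra over a
division ring of dimension 4 over k). Let E be a finite locally free O_X-module which is absolutely
split: E_K is isomorphic to a finite direct sum of invertible O_{X_K}-modules. Then E ≅ (L_1 ⊕ ⋯ ⊕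
L_s) ⊕ (M_1 ⊕ ⋯ ⊕ M_t) where each L_i is an invertible O_X-module with (L_i)_K ≅ O_e(2a_i) and each
M_i is an indecomposable finite locally free O_X-module (nonzero, and in any decomposition as a
direct sum one summand is zero) of rank 2 with (M_i)_K ≅ O_e(2b_i + 1)^{⊕2}, for integers a_i, b_i.
(The published statement also records that s, t and the a_i, b_j are unique, which is the
Krull–Schmidt uniqueness and is not restated here.) -/
theorem result (k : Type u) [Field k] (A : Type u) [Ring A] [Algebra k A]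
    [Algebra.IsCentral k A] [IsSimpleRing A] (n : ℕ) (hn : 0 < n)
    (hA : Module.finrank k A = n * n) {X : Scheme.{u}} (f : X ⟶ Spec (CommRingCat.of k))
    [IsProper f] (hX : BrSev.IsSBOf k A (n * n - n) f)
    (K : Type u) [Field K] [Algebra k K] [IsAlgClosure k K] (e : BrSev.Splitting f K (n - 1))
    (hi : CSAGal.IsIndex k A 2) (E : X.Modules) (hE : FlatMod.IsFinLocFree E)
    (s₀ : ℕ) (Ns : Fin s₀ → (BrSev.bc f K).Modules) (hNs : ∀ i, PicF.IsInvertible (Ns i))
    (hsplit : Nonempty (BrSev.bcMod f K E ≅ ∐ Ns)) :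
    ∃ (s t : ℕ) (Ls : Fin s → X.Modules) (Ms : Fin t → X.Modules) (a : Fin s → ℤ) (b : Fin t → ℤ),
      (∀ i, PicF.IsInvertible (Ls i) ∧ BrSev.IsTwPow e (2 * a i) 1 (Ls i)) ∧
      (∀ i, FlatMod.IsFinLocFree (Ms i) ∧
        (¬ IsZero (Ms i) ∧ ∀ M₁ M₂ : X.Modules, Nonempty ((Ms i) ≅ M₁ ⊞ M₂) → IsZero M₁ ∨ IsZero M₂) ∧
        BrSev.IsTwPow e (2 * b i + 1) 2 (Ms i)) ∧
      Nonempty (E ≅ (∐ Ls) ⊞ (∐ Ms)) := by
  classical
  haveI : FiniteDimensional k A := Module.finite_of_finrank_pos (hA ▸ Nat.mul_pos hn hn)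
  obtain ⟨hsplit⟩ := hsplit
  obtain ⟨l, ⟨el⟩, hl⟩ := GrothLib.ASBun21.exists_decomp_twPow e hE hNs hsplit
  letI : X.Over (Spec (CommRingCat.of k)) := ⟨f⟩
  haveI : IsProper (X ↘ Spec (CommRingCat.of k)) := ‹IsProper f›
  have h2 := GrothLib.BrauerEquiv.beq_tpow_index hi
  have key : ∀ W ∈ l, (∃ a : ℤ, PicF.IsInvertible W ∧ BrSev.IsTwPow e (2 * a) 1 W) ∨
      ∃ b : ℤ, BrSev.IsTwPow e (2 * b + 1) 2 W := fun W hWl => by
    obtain ⟨hW, hWi, j, r, hr, hWt⟩ := hl W hWl
    have h := GrothLib.ASBun21.isIndex_of_isTwPow hn hA hX e j hW hWi hr hWt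
    rcases Int.even_or_odd' j with ⟨a, rfl | rfl⟩
    · have h1 : r = 1 := GrothLib.ASBun21.index_tpow_eq_one
        (by rw [Int.natAbs_mul]; exact GrothLib.BrauerEquiv.beq_tpow_mul h2 _) h
      subst h1
      exact Or.inl ⟨a, GrothLib.ASBun21.isInvertible_of_isTwPow_one e hW hWt, hWt⟩
    · obtain ⟨_, _, _⟩ := GrothLib.BrauerEquiv.csa_tpow (k := k) A 1
      have hA1 : CSAGal.IsIndex k (CSAGal.tpow k A 1) 2 :=
        GrothLib.BrauerEquiv.isIndex_congr GrothLib.BrauerEquiv.beq_tpow_one.symm hi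
      have h1 : r = 2 := GrothLib.ASBun21.index_tpow_eq_of_dvd two_pos h2
        (Or.inl (by omega)) h hA1
      subst h1
      exact Or.inr ⟨a, hWt⟩
  let P : X.Modules → Bool := fun W => decide (∃ a : ℤ, PicF.IsInvertible W ∧ BrSev.IsTwPow e (2 * a) 1 W)
  have hP : ∀ i, ∃ a : ℤ, PicF.IsInvertible ((l.filter P).get i) ∧ BrSev.IsTwPow e (2 * a) 1 ((l.filter P).get i) :=
    fun i => of_decide_eq_true (List.mem_filter.1 (List.get_mem (l.filter P) i)).2
  have hQ : ∀ i, FlatMod.IsFinLocFree ((l.filter fun a => !P a).get i) ∧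
      GrothLib.ASBun21.Indec ((l.filter fun a => !P a).get i) ∧
      ∃ b : ℤ, BrSev.IsTwPow e (2 * b + 1) 2 ((l.filter fun a => !P a).get i) := fun i => by
    obtain ⟨hm, hn'⟩ := List.mem_filter.1 (List.get_mem (l.filter fun a => !P a) i)
    refine ⟨(hl _ hm).1, (hl _ hm).2.1, (key _ hm).resolve_left fun h => ?_⟩
    simp only [P, Bool.not_eq_true', decide_eq_false_iff_not] at hn'
    exact hn' h
  choose a ha1 ha2 using hP
  choose hM1 hM2 b hb using hQ
  obtain ⟨s⟩ := nonempty_iso_split l P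
  exact ⟨_, _, _, _, a, b, fun i => ⟨ha1 i, ha2 i⟩, fun i => ⟨hM1 i, hM2 i, hb i⟩, ⟨el ≪≫ s⟩⟩

end Groth.Agent.S14216
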