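import Groth.Statements.S14253
import Groth.Agent.Lib.PerfUH.Ring
import Groth.Agent.S0415
import Groth.Agent.Lib.AssPts.Points
import Mathlib.AlgebraicGeometry.ResidueField
import Mathlib.FieldTheory.PurelyInseparable.Basic

set_option autoImplicit false
universe u
open CategoryTheory AlgebraicGeometry
open PerfSch

namespace Groth.Agent.S14253

open GrothLib.WeakAss (primeAt notMem_primeAt_iff)

/-- The p-th power iterates are injective on sections of a perfect scheme. -/
theorem pow_injective {p : ℕ} {X : Scheme.{u}} (hX : PerfSch.IsPerfect p X) (U : X.Opens) (n : ℕ) :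
    Function.Injective fun s : Γ(X, U) => s ^ p ^ n := by
  induction n with
  | zero => intro a b h; simpa using h
  | succ n ih =>
    intro a b h
    refine ih ((hX U).2.1 ?_)
    simpa [← pow_mul, ← pow_succ] using h

theorem pow_surjective {p : ℕ} {X : Scheme.{u}} (hX : PerfSch.IsPerfect p X) (U : X.Opens) (n : ℕ)
    (b : Γ(X, U)) : ∃ a : Γ(X, U), a ^ p ^ n = b := by
  induction n with
  | zero => exact ⟨b, by simp⟩
  | succ n ih =>
    obtain ⟨a, ha⟩ := ih
    obtain ⟨a', ha'⟩ := (hX U).2.2 a
    exact ⟨a', by rw [pow_succ', pow_mul, show a' ^ p = a from ha', ha]⟩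

theorem bijective_app {p : ℕ} [Fact p.Prime] {X Y : Scheme.{u}} (f : X ⟶ Y) [IsIntegralHom f]
    [UniversallyInjective f] [Surjective f]
    (hX : PerfSch.IsPerfect p X) (hY : PerfSch.IsPerfect p Y) (V : Y.Opens) (hV : IsAffineOpen V) :
    Function.Bijective (f.app V) := by
  have hU : IsAffineOpen (f ⁻¹ᵁ V) := hV.preimage f
  constructor
  · rw [injective_iff_map_eq_zero]
    intro a ha
    have h0 : Y.basicOpen a = ⊥ := by
      refine TopologicalSpace.Opens.ext (Set.eq_empty_iff_forall_notMem.mpr fun y hy => ?_)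
      obtain ⟨x, rfl⟩ := f.surjective y
      have : x ∈ f ⁻¹ᵁ Y.basicOpen a := hy
      rw [Scheme.preimage_basicOpen, ha, Scheme.basicOpen_zero] at this
      exact this
    obtain ⟨n, hn⟩ := (Scheme.isNilpotent_iff_basicOpen_eq_bot_of_isCompact hV.isCompact a).mpr h0
    refine pow_injective hY V n ?_
    show a ^ p ^ n = 0 ^ p ^ n
    rw [zero_pow (pow_ne_zero _ (Fact.out : p.Prime).ne_zero), ← Nat.sub_add_cancel
      (Nat.lt_pow_self (Fact.out : p.Prime).one_lt (n := n)).le, pow_add, hn, mul_zero]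
  intro b
  by_cases hB : Nontrivial Γ(X, f ⁻¹ᵁ V)
  swap
  · have : Subsingleton Γ(X, f ⁻¹ᵁ V) := not_nontrivial_iff_subsingleton.mp hB
    exact ⟨0, Subsingleton.elim _ _⟩
  have hint : (f.app V).hom.IsIntegral := f.isIntegral_app V hV
  algebraize [(f.app V).hom]
  have : CharP Γ(X, f ⁻¹ᵁ V) p := by
    obtain ⟨q, hq⟩ := CharP.exists Γ(X, f ⁻¹ᵁ V)
    have hdvd := (CharP.cast_eq_zero_iff Γ(X, f ⁻¹ᵁ V) q p).mp (hX _).1
    rcases (Nat.dvd_prime (Fact.out : p.Prime)).mp hdvd with h | h
    · subst h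
      exact absurd hq (fun h => CharP.false_of_nontrivial_of_char_one (R := Γ(X, f ⁻¹ᵁ V)))
    · exact h ▸ hq
  have hev : ∀ (x : X) (hx : x ∈ f ⁻¹ᵁ V) (c : Γ(X, f ⁻¹ᵁ V)),
      X.evaluation _ x hx c = 0 ↔ c ∈ primeAt x hx := fun x hx c => by
    rw [Scheme.evaluation_eq_zero_iff_notMem_basicOpen, ← notMem_primeAt_iff (hx := hx), not_not]
  have hcomap : ∀ (x : X) (hx : x ∈ f ⁻¹ᵁ V),
      (primeAt x hx).comap (f.app V).hom = primeAt (f x) hx := fun x hx => by
    have := GrothLib.AssPts.comap_primeAt f (le_refl (f ⁻¹ᵁ V)) hx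
    rwa [show f.appLE V (f ⁻¹ᵁ V) le_rfl = f.app V from (Scheme.Hom.app_eq_appLE _).symm] at this
  obtain ⟨n, a, ha⟩ := GrothLib.PerfUH.exists_pow_mem (A := Γ(Y, V)) (B := Γ(X, f ⁻¹ᵁ V)) p
    (fun Q Q' hQ hQ' e => by
      obtain ⟨x, hx, rfl⟩ := GrothLib.AssPts.exists_point hU Q hQ
      obtain ⟨x', hx', rfl⟩ := GrothLib.AssPts.exists_point hU Q' hQ'
      simp only [RingHom.algebraMap_toAlgebra, hcomap] at e
      have := f.injective (GrothLib.AssPts.primeAt_injective hV hx hx' e)
      subst this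
      rfl)
    (fun Q hQ c => by
      obtain ⟨x, hx, rfl⟩ := GrothLib.AssPts.exists_point hU Q hQ
      have hpi : (f.residueFieldMap x).hom.IsPurelyInseparable :=
        ((tfae_universallyInjective f).out 0 2 (a := UniversallyInjective f) (b := Function.Injective f ∧
          ∀ x, (f.residueFieldMap x).hom.IsPurelyInseparable) rfl rfl).mp inferInstance |>.2 x
      algebraize [(f.residueFieldMap x).hom]
      have hp0 : (p : Y.residueField (f x)) = 0 := by
        rw [← map_natCast (Y.evaluation V (f x) hx).hom, (hY V).1, map_zero]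
      have : CharP (Y.residueField (f x)) p := by
        obtain ⟨q, hq⟩ := CharP.exists (Y.residueField (f x))
        have hdvd := (CharP.cast_eq_zero_iff _ q p).mp hp0
        rcases (Nat.dvd_prime (Fact.out : p.Prime)).mp hdvd with h | h
        · subst h
          exact absurd hq (fun h => CharP.false_of_nontrivial_of_char_one (R := Y.residueField (f x)))
        · exact h ▸ hq
      obtain ⟨e, z, hz⟩ := IsPurelyInseparable.pow_mem (Y.residueField (f x)) p (X.evaluation _ x hx c)
      obtain ⟨z', rfl⟩ := Y.residue_surjective (f x) z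
      let _ := TopCat.Presheaf.algebra_section_stalk Y.presheaf (⟨f x, hx⟩ : V)
      have := hV.isLocalization_stalk ⟨f x, hx⟩
      obtain ⟨⟨a, s⟩, has⟩ := IsLocalization.surj (hV.primeIdealOf ⟨f x, hx⟩).asIdeal.primeCompl z'
      have hs : f x ∈ Y.basicOpen (s : Γ(Y, V)) := (Scheme.mem_basicOpen _ _ (f x) hx).mpr
        (IsLocalization.map_units (Y.presheaf.stalk (f x)) s)
      refine ⟨e, a, s, ?_, ?_⟩
      · rw [RingHom.algebraMap_toAlgebra, notMem_primeAt_iff, ← Scheme.preimage_basicOpen]
        exact hs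
      · rw [← hev]
        simp only [RingHom.algebraMap_toAlgebra, map_sub, map_mul, map_pow]
        rw [← Scheme.evaluation_naturality_apply f x hx, ← Scheme.evaluation_naturality_apply f x hx,
          ← hz, RingHom.algebraMap_toAlgebra, sub_eq_zero]
        show f.residueFieldMap x (Y.residue (f x) (Y.presheaf.germ V (f x) hx s)) * f.residueFieldMap x _ =
          f.residueFieldMap x (Y.residue (f x) (Y.presheaf.germ V (f x) hx a))
        rw [← map_mul, ← map_mul, mul_comm]
        exact congrArg (fun t => f.residueFieldMap x (Y.residue (f x) t)) has)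
    b
  obtain ⟨a', rfl⟩ := pow_surjective hY V n a
  refine ⟨a', pow_injective hX _ n ?_⟩
  show (f.app V a') ^ p ^ n = b ^ p ^ n
  rw [← map_pow]
  exact ha

/-- A universal homeomorphism f : X ⟶ Y between perfect schemes of prime characteristic p (on every open
of X and of Y, p = 0 in the ring of sections and the p-th power map is bijective) is an isomorphism. -/
theorem result (p : ℕ) [Fact p.Prime] {X Y : Scheme.{u}} (f : X ⟶ Y)
    (hX : PerfSch.IsPerfect p X) (hY : PerfSch.IsPerfect p Y) (hf : FlatMor.IsUnivHomeo f) : IsIso f := by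
  obtain ⟨_, _, _⟩ := (Groth.Agent.S0415.result f).mp hf
  refine (HasAffineProperty.iff_of_iSup_eq_top (P := MorphismProperty.isomorphisms Scheme)
    (fun V : Y.affineOpens => V) (iSup_affineOpens_eq_top _)).mpr fun V => ⟨V.2.preimage f, ?_⟩
  have : IsIso (f.app (V.1.ι ''ᵁ ⊤)) := (ConcreteCategory.isIso_iff_bijective _).mpr
    (bijective_app f hX hY (V.1.ι ''ᵁ ⊤) (by rw [Scheme.Opens.ι_image_top]; exact V.2))
  simp only [morphismRestrict_appTop, eqToHom_op, eqToHom_map]
  refine IsIso.comp_isIso' this ?_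
  generalize_proofs h1 h2 h3 h4
  exact (eqToIso (by assumption)).isIso_hom

end Groth.Agent.S14253
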