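import Groth.Statements.S14256
import Mathlib

set_option autoImplicit false
universe u
open FrobAlg

namespace Groth.Agent.S14256

/-- Let p be a prime, φ : A → B a map of commutative rings of characteristic p, i : A → A' and j : B →
B' perfect closures (A', B' perfect rings of characteristic p, every element of A' resp. B' has a
p^n-th power in the image of i resp. j, the kernels of i and j consist of nilpotent elements), and
φ' : A' → B' the induced map, φ' ∘ i = j ∘ φ. Then φ is integral if and only if φ' is integral. (The
published statement is that a morphism of schemes over the prime field is integral exactly when its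
perfection is; this row is its affine case, to which the published proof reduces.) -/
theorem result (p : ℕ) [Fact p.Prime]
    {A B A' B' : Type u} [CommRing A] [CommRing B] [CommRing A'] [CommRing B']
    [CharP A p] [CharP B p] [CharP A' p] [CharP B' p] [PerfectRing A' p] [PerfectRing B' p]
    (φ : A →+* B) (i : A →+* A') (j : B →+* B') [IsPerfectClosure i p] [IsPerfectClosure j p]
    (φ' : A' →+* B') (hφ : φ'.comp i = j.comp φ) : φ.IsIntegral ↔ φ'.IsIntegral := by
  have hcomm : ∀ a, φ' (i a) = j (φ a) := fun a => by rw [← RingHom.comp_apply, hφ, RingHom.comp_apply]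
  constructor
  · intro h x
    obtain ⟨n, b, hb⟩ := IsPRadical.pow_mem j p x
    obtain ⟨P, hP, hPb⟩ := h b
    have hjb : φ'.IsIntegralElem (j b) := by
      refine ⟨P.map i, hP.map i, ?_⟩
      rw [Polynomial.eval₂_map, hφ, ← Polynomial.hom_eval₂, hPb, map_zero]
    rw [hb] at hjb
    letI := φ'.toAlgebra
    exact IsIntegral.of_pow (pow_pos (Nat.Prime.pos Fact.out) n) hjb
  · intro h b
    obtain ⟨P, hP, hPb⟩ := h (j b)
    classical
    choose N a ha using fun c : A' => IsPRadical.pow_mem i p c
    let M := (Finset.range (P.natDegree + 1)).sup fun t => N (P.coeff t)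
    let a' : ℕ → A := fun t => a (P.coeff t) ^ p ^ (M - N (P.coeff t))
    have ha' : ∀ t ≤ P.natDegree, i (a' t) = P.coeff t ^ p ^ M := by
      intro t ht
      have hle : N (P.coeff t) ≤ M :=
        Finset.le_sup (f := fun t => N (P.coeff t)) (Finset.mem_range.2 (by omega))
      rw [map_pow, ha, ← pow_mul, ← pow_add, Nat.add_sub_cancel' hle]
    let Q : Polynomial A := Polynomial.X ^ P.natDegree +
      ∑ t ∈ Finset.range P.natDegree, Polynomial.C (a' t) * Polynomial.X ^ t
    have hQ : Q.Monic := Polynomial.monic_X_pow_add (by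
      refine (Polynomial.degree_sum_le _ _).trans_lt ((Finset.sup_lt_iff (WithBot.bot_lt_coe _)).2 fun t ht => ?_)
      exact (Polynomial.degree_C_mul_X_pow_le _ _).trans_lt (WithBot.coe_lt_coe.2 (Finset.mem_range.1 ht)))
    have hPb' : (j b) ^ P.natDegree + ∑ t ∈ Finset.range P.natDegree, φ' (P.coeff t) * (j b) ^ t = 0 := by
      rw [Polynomial.eval₂_eq_sum_range, Finset.sum_range_succ, hP.coeff_natDegree, map_one, one_mul] at hPb
      rw [add_comm]; exact hPb
    have hker : j (Polynomial.eval₂ φ (b ^ p ^ M) Q) = 0 := by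
      have hp := congrArg (fun z => z ^ p ^ M) hPb'
      simp only [add_pow_char_pow, sum_pow_char_pow, zero_pow (pow_ne_zero M (Nat.Prime.ne_zero Fact.out)),
        mul_pow] at hp
      simp only [Q, Polynomial.eval₂_add, Polynomial.eval₂_X_pow, Polynomial.eval₂_finset_sum,
        Polynomial.eval₂_mul, Polynomial.eval₂_C, map_add, map_pow, map_sum, map_mul, ← hcomm]
      rw [← hp, ← pow_mul, ← pow_mul, mul_comm]
      refine congrArg₂ _ rfl (Finset.sum_congr rfl fun t ht => ?_)
      rw [ha' t (Finset.mem_range.1 ht).le, map_pow, ← pow_mul, ← pow_mul, mul_comm (p ^ M)]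
    obtain ⟨m, hm⟩ := mem_pNilradical.1 (IsPRadical.ker_le j p hker)
    letI := φ.toAlgebra
    refine IsIntegral.of_pow (pow_pos (Nat.Prime.pos (Fact.out : p.Prime)) M) ?_
    by_cases hd : P.natDegree = 0
    · have h0 : Polynomial.eval₂ φ (b ^ p ^ M) Q = 1 := by simp [Q, hd]
      rw [h0, one_pow] at hm
      have : Subsingleton B := subsingleton_of_zero_eq_one hm.symm
      rw [Subsingleton.elim (b ^ p ^ M) 0]; exact isIntegral_zero
    refine ⟨Q ^ p ^ m, hQ.pow _, ?_⟩
    rw [Polynomial.eval₂_pow]
    exact hm

end Groth.Agent.S14256
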