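import Groth.Statements.S14257
import Groth.Agent.Lib.Frob.PerfEtale
-- import your own Groth.Agent.* helpers here

set_option autoImplicit false
universe u
open TensorProduct
open FrobAlg

namespace Groth.Agent.S14257

/-- Let p be a prime, A a commutative ring of characteristic p, B an etale A-algebra of characteristic
p, A → A' and B → B' perfect closures (A', B' perfect rings of characteristic p, every element of A'
resp. B' has a p^n-th power in the image of A resp. B, and the structure maps have kernels
consisting of nilpotent elements), B' viewed as an A-algebra through B, and φ' : A' → B' a map of
A-algebras. Then the natural map A' ⊗_A B → B', a ⊗ b ↦ φ'(a) b, is bijective. (The published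
statement is for an etale morphism X → Y of schemes over the prime field, where X_perf → X ×_Y
Y_perf is an isomorphism; this row is the affine case.) -/
theorem result (p : ℕ) [Fact p.Prime]
    (A B A' B' : Type u) [CommRing A] [CommRing B] [CommRing A'] [CommRing B']
    [CharP A p] [CharP B p] [CharP A' p] [CharP B' p] [PerfectRing A' p] [PerfectRing B' p]
    [Algebra A B] [Algebra.Etale A B] [Algebra A A'] [Algebra B B'] [Algebra A B'] [IsScalarTower A B B']
    [IsPerfectClosure (algebraMap A A') p] [IsPerfectClosure (algebraMap B B') p]
    (φ' : A' →ₐ[A] B') :
    Function.Bijective (Algebra.TensorProduct.lift φ' (IsScalarTower.toAlgHom A B B')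
      (fun a b => Commute.all (φ' a) (IsScalarTower.toAlgHom A B B' b))) := by
  exact GrothLib.Frob.bijective_lift p A B A' B' φ'

end Groth.Agent.S14257
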