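import Groth.Statements.S14262
import Mathlib

set_option autoImplicit false
universe u
open FrobAlg

namespace Groth.Agent.S14262

/-- Let p be a prime, A a perfect ring of characteristic p and f ∈ A. The radical of the principal ideal
(f) — equivalently the ideal generated by all p^n-th roots of f, n ≥ 0 — is a flat A-module. -/
theorem result (p : ℕ) [Fact p.Prime] (A : Type u) [CommRing A]
    [CharP A p] [PerfectRing A p] (f : A) :
    Module.Flat A ((Ideal.span {f}).radical) := by
  refine Module.Flat.of_forall_isTrivialRelation fun {l r x} hrel => ?_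
  classical
  have hx : ∀ i, ∃ n, ((x i : A)) ^ p ^ n ∈ Ideal.span {f} := fun i => by
    obtain ⟨m, hm⟩ := (x i).2
    obtain ⟨n, hn⟩ : ∃ n, m ≤ p ^ n := ⟨m, (Nat.lt_pow_self (Fact.out : p.Prime).one_lt).le⟩
    exact ⟨n, Ideal.pow_mem_of_pow_mem _ hm hn⟩
  choose n hn using hx
  let N := Finset.univ.sup n
  have hN : ∀ i, ∃ a, (x i : A) = a * (iterateFrobeniusEquiv A p N).symm f := by
    intro i
    have h : (x i : A) ^ p ^ N ∈ Ideal.span {f} :=
      Ideal.pow_mem_of_pow_mem _ (hn i)
        (Nat.pow_le_pow_right (Fact.out : p.Prime).pos (Finset.le_sup (Finset.mem_univ i)))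
    obtain ⟨b, hb⟩ := Ideal.mem_span_singleton'.1 h
    refine ⟨(iterateFrobeniusEquiv A p N).symm b, (iterateFrobeniusEquiv A p N).injective ?_⟩
    rw [map_mul, RingEquiv.apply_symm_apply, RingEquiv.apply_symm_apply, hb, iterateFrobeniusEquiv_def]
  choose a ha using hN
  set g := (iterateFrobeniusEquiv A p N).symm f with hg
  set g' := (frobeniusEquiv A p).symm g with hg'
  have hgg : g' ^ p = g := by rw [hg', ← frobeniusEquiv_def, RingEquiv.apply_symm_apply]
  set e := ∑ i, r i * a i with he
  have heg : e * g = 0 := by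
    have h := congrArg (Subtype.val) hrel
    simp only [AddSubmonoidClass.coe_finsetSum, SetLike.val_smul, smul_eq_mul, ZeroMemClass.coe_zero] at h
    rw [he, Finset.sum_mul, ← h]
    exact Finset.sum_congr rfl fun i _ => by rw [ha i, mul_assoc]
  have heg' : e * g' = 0 := by
    have h := congrArg (frobeniusEquiv A p).symm heg
    rw [map_mul, map_zero, ← hg'] at h
    have hr : ((frobeniusEquiv A p).symm e) ^ p = e := by rw [← frobeniusEquiv_def, RingEquiv.apply_symm_apply]
    rw [← hr, ← pow_sub_one_mul (Fact.out : p.Prime).ne_zero, mul_assoc, h, mul_zero]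
  have hy : g' ∈ (Ideal.span {f}).radical := by
    refine ⟨p ^ (N + 1), ?_⟩
    rw [pow_succ', pow_mul, hgg, hg, ← iterateFrobeniusEquiv_def, RingEquiv.apply_symm_apply]
    exact Ideal.mem_span_singleton_self f
  refine ⟨1, fun i _ => a i * g' ^ (p - 1), fun _ => ⟨g', hy⟩, fun i => ?_, fun _ => ?_⟩
  · apply Subtype.ext
    rw [Fin.sum_univ_one]
    change (x i : A) = (a i * g' ^ (p - 1)) * g'
    rw [mul_assoc, ← pow_succ, Nat.sub_add_cancel (Fact.out : p.Prime).one_le, hgg, ha i]
  · rw [← Finset.sum_congr rfl (fun i _ => mul_assoc (r i) (a i) _), ← Finset.sum_mul, ← he,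
      ← mul_pow_sub_one (show p - 1 ≠ 0 by have := (Fact.out : p.Prime).one_lt; omega) g',
      ← mul_assoc, heg', zero_mul]

end Groth.Agent.S14262
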