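import Groth.Statements.S14269
import Groth.Agent.Lib.Conn1.VDimCovers
-- import your own Groth.Agent.* helpers here

set_option autoImplicit false
universe u
open Pi1

namespace Groth.Agent.S14269

open AlgebraicGeometry CategoryTheory CategoryTheory.Limits in
/-- Let A be a Noetherian local ring of virtual dimension at least 2, the virtual dimension being
expressed through a presentation of the adic completion of A as a quotient S/I of a complete regular
local ring S of Krull dimension d by an ideal I generated by a finite set of at most d - 2 elements.
Then the restriction functor from finite etale covers of Spec A to finite etale covers of the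
punctured spectrum is fully faithful, and the punctured spectrum is connected. (The published
statement also records the surjectivity of the induced map on etale fundamental groups, which is the
usual reformulation of full faithfulness and is not restated here.) -/
theorem result (A : Type u) [CommRing A] [IsNoetherianRing A] [IsLocalRing A]
    (S : Type u) [CommRing S] [IsRegularLocalRing S] [IsAdicComplete (IsLocalRing.maximalIdeal S) S]
    (d : ℕ) (hd : ringKrullDim S = d) (s : Finset S) (hs : s.card + 2 ≤ d)
    (e : AdicCompletion (IsLocalRing.maximalIdeal A) A ≃+* S ⧸ Ideal.span (s : Set S)) :
    ((FEt.restrict (FEt.puncturedSpec A).ι).Full ∧ (FEt.restrict (FEt.puncturedSpec A).ι).Faithful) ∧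
      ConnectedSpace ↥(FEt.puncturedSpec A : Scheme.{u}) := by
  have h := GrothLib.Conn1.punctConn_of_vdim (A := A) S hd s hs e
  exact ⟨GrothLib.Conn1.fullyFaithful_puncturedSpec h, GrothLib.Conn1.connectedSpace_puncturedSpec h⟩

end Groth.Agent.S14269
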