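import Groth.Statements.S14270
import Groth.Agent.FewEq21.Deviation

set_option autoImplicit false
universe u
open Pi1

namespace Groth.Agent.S14270

open AlgebraicGeometry CategoryTheory CategoryTheory.Limits in
/-- Let A be a Noetherian local ring of virtual dimension at least 3, expressed through a presentation
of the adic completion of A as a quotient S/I of a complete regular local ring S of Krull dimension
d by an ideal I generated by a finite set of at most d - 3 elements. Then restriction from finite
etale covers of Spec A to finite etale covers of the punctured spectrum is an equivalence of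
categories (Zariski-Nagata purity for rings of virtual dimension at least 3). (The published
statement also records the isomorphism of etale fundamental groups, which is the usual reformulation
of the equivalence and is not restated here.) -/
theorem result (A : Type u) [CommRing A] [IsNoetherianRing A] [IsLocalRing A]
    (S : Type u) [CommRing S] [IsRegularLocalRing S] [IsAdicComplete (IsLocalRing.maximalIdeal S) S]
    (d : ℕ) (hd : ringKrullDim S = d) (s : Finset S) (hs : s.card + 3 ≤ d)
    (e : AdicCompletion (IsLocalRing.maximalIdeal A) A ≃+* S ⧸ Ideal.span (s : Set S)) :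
    (FEt.restrict (FEt.puncturedSpec A).ι).IsEquivalence := by
  let A' := AdicCompletion (IsLocalRing.maximalIdeal A) A
  haveI : IsNoetherianRing A' := GrothLib.AdicExtra.isNoetherianRing_adicCompletion _
  haveI : Nontrivial (S ⧸ Ideal.span (s : Set S)) := e.symm.toEquiv.nontrivial
  let π : S →+* A' := e.symm.toRingHom.comp (Ideal.Quotient.mk _)
  have hπ : Function.Surjective π := e.symm.surjective.comp Ideal.Quotient.mk_surjective
  have hker : RingHom.ker π = Ideal.ofList s.toList := by
    rw [GrothLib.FewEq21.ofList_toList, RingHom.ker_comp_of_injective _ e.symm.injective, Ideal.mk_ker]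
  have hm : ∀ y ∈ s.toList, y ∈ IsLocalRing.maximalIdeal S := fun y hy =>
    IsLocalRing.le_maximalIdeal (RingHom.ker_ne_top π) (hker.ge (Ideal.subset_span hy))
  haveI : IsLocalRing (S ⧸ Ideal.ofList s.toList) :=
    GrothLib.SGA2Para.isLocalRing_quotient _ (Ideal.span_le.2 hm)
  have h := GrothLib.FewEq21.punctEquiv_completion S s.toList hm (by
    rw [hd, Finset.length_toList]
    exact_mod_cast hs) A' π hπ hker
  obtain ⟨ec⟩ : Nonempty (AdicCompletion (IsLocalRing.maximalIdeal A') A' ≃+* A') := by
    haveI : IsAdicComplete (IsLocalRing.maximalIdeal A') A' := by
      rw [AdicCompletion.maximalIdeal_eq_map]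
      exact AdicCompletion.isAdicComplete_self _ (IsNoetherian.noetherian _)
    exact ⟨(AdicCompletion.ofAlgEquiv (IsLocalRing.maximalIdeal A')).toRingEquiv.symm⟩
  exact GrothLib.PunctPure21.isEquivalence_ι
    (GrothLib.FewEq21.isPurePair_of_completion A (GrothLib.FewEq21.punctEquiv_of_ringEquiv ec h))

end Groth.Agent.S14270
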