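import Groth.Statements.S14272
import Groth.Agent.Lib.Depth.HartogsGen
-- import your own Groth.Agent.* helpers here

set_option autoImplicit false
universe u
open FlatPur

namespace Groth.Agent.S14272

namespace Aux

open CategoryTheory AlgebraicGeometry TopologicalSpace

variable {X Y : Scheme.{u}}

theorem homOfLE_appTop_bijective {V W : X.Opens} (h : V ≤ W)
    (hb : Function.Bijective (X.presheaf.map (homOfLE h).op)) :
    Function.Bijective (X.homOfLE h).appTop := by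
  have key : ∀ {W' V' : X.Opens} (h' : V' ≤ W'), W' = W → V' = V →
      Function.Bijective (X.presheaf.map (homOfLE h').op) := by
    rintro _ _ h' rfl rfl; exact hb
  rw [Scheme.homOfLE_appTop]
  exact key _ W.ι_image_top V.ι_image_top

theorem range_subset (U V : X.Opens) : Set.range ((V.ι ⁻¹ᵁ U).ι ≫ V.ι) ⊆ Set.range U.ι := by
  rintro _ ⟨w, rfl⟩
  rw [Scheme.Opens.range_ι]
  exact w.2

theorem isSchematicallyDense_preimage {U : X.Opens} (h : CInt.IsSchematicallyDense U) (V : X.Opens) :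
    CInt.IsSchematicallyDense (V.ι ⁻¹ᵁ U) := by
  intro T
  have key : ∀ {A B : X.Opens} (h' : B ≤ A), B = A ⊓ U →
      Function.Injective (X.presheaf.map (homOfLE h').op) := by
    rintro A _ h' rfl; exact h A
  have hle : V.ι ''ᵁ (T ⊓ V.ι ⁻¹ᵁ U) ≤ V.ι ''ᵁ T := Scheme.Hom.image_mono _ inf_le_left
  exact key hle (by
    ext x
    constructor
    · rintro ⟨w, ⟨hwT, hwU⟩, rfl⟩; exact ⟨⟨w, hwT, rfl⟩, hwU⟩
    · rintro ⟨⟨w, hwT, rfl⟩, hU⟩; exact ⟨w, ⟨hwT, hU⟩, rfl⟩)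

theorem iSup_preimage (U : X.Opens) : ⨆ W : X.affineOpens, U.ι ⁻¹ᵁ W.1 = ⊤ := by
  rw [← Scheme.Hom.preimage_iSup, iSup_affineOpens_eq_top, Scheme.Hom.preimage_top]

theorem exists_lift (f : Y ⟶ X) [IsAffineHom f] (W : X.Opens) (hW : IsAffineOpen W) {T : Scheme.{u}}
    (j : T ⟶ W) [IsIso j.appTop] (t : T ⟶ Y) (ht : t ≫ f = j ≫ W.ι) :
    ∃ s : (W : Scheme.{u}) ⟶ Y, s ≫ f = W.ι ∧ j ≫ s = t := by
  have : IsAffine W.toScheme := hW
  have : IsAffine (f ⁻¹ᵁ W).toScheme := hW.preimage f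
  let t' : T ⟶ (f ⁻¹ᵁ W : Scheme.{u}) := IsOpenImmersion.lift (f ⁻¹ᵁ W).ι t (by
    rintro _ ⟨w, rfl⟩
    rw [Scheme.Opens.range_ι]
    show f (t w) ∈ W
    rw [← Scheme.Hom.comp_apply, ht]
    exact (j w).2)
  let s₀ : (W : Scheme.{u}) ⟶ (f ⁻¹ᵁ W : Scheme.{u}) :=
    W.toScheme.toSpecΓ ≫ Spec.map (t'.appTop ≫ inv j.appTop) ≫ (f ⁻¹ᵁ W).toScheme.isoSpec.inv
  have hs₀ : j ≫ s₀ = t' := by
    show j ≫ _ ≫ _ ≫ _ = _
    rw [Scheme.toSpecΓ_naturality_assoc, ← Spec.map_comp_assoc, Category.assoc, IsIso.inv_hom_id,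
      Category.comp_id, ← Scheme.toSpecΓ_naturality_assoc]
    simp [Scheme.isoSpec]
  have hf : s₀ ≫ (f ∣_ W) = 𝟙 _ := by
    refine ext_of_isAffine ?_
    have h1 : j ≫ s₀ ≫ (f ∣_ W) = j ≫ 𝟙 _ := by
      rw [reassoc_of% hs₀, Category.comp_id, ← cancel_mono W.ι, Category.assoc, morphismRestrict_ι]
      erw [IsOpenImmersion.lift_fac_assoc]
      exact ht
    have h2 := congrArg Scheme.Hom.appTop h1
    rw [Scheme.Hom.comp_appTop, Scheme.Hom.comp_appTop j (𝟙 _), cancel_mono] at h2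
    exact h2
  refine ⟨s₀ ≫ (f ⁻¹ᵁ W).ι, ?_, ?_⟩
  · rw [Category.assoc, ← morphismRestrict_ι, reassoc_of% hf]
  · rw [reassoc_of% hs₀]
    exact IsOpenImmersion.lift_fac _ _ _

theorem exists_glue (s : ∀ W : X.affineOpens, (W.1 : Scheme.{u}) ⟶ Y)
    (h : ∀ i j : X.affineOpens, X.homOfLE (inf_le_left : i.1 ⊓ j.1 ≤ i.1) ≫ s i =
      X.homOfLE (inf_le_right : i.1 ⊓ j.1 ≤ j.1) ≫ s j) :
    ∃ σ : X ⟶ Y, ∀ W : X.affineOpens, W.1.ι ≫ σ = s W := by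
  let 𝒰 : X.OpenCover := X.openCoverOfIsOpenCover (fun W : X.affineOpens => W.1) (iSup_affineOpens_eq_top X)
  refine ⟨𝒰.glueMorphisms s fun i j => ?_, fun W => 𝒰.ι_glueMorphisms s _ W⟩
  have e : Limits.pullback.fst i.1.ι j.1.ι ≫ i.1.ι = Limits.pullback.snd i.1.ι j.1.ι ≫ j.1.ι := Limits.pullback.condition
  let m : Limits.pullback i.1.ι j.1.ι ⟶ (i.1 ⊓ j.1 : X.Opens) :=
    IsOpenImmersion.lift (i.1 ⊓ j.1).ι (Limits.pullback.fst i.1.ι j.1.ι ≫ i.1.ι) (by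
      rintro _ ⟨w, rfl⟩
      rw [Scheme.Opens.range_ι]
      refine ⟨(Limits.pullback.fst i.1.ι j.1.ι w).2, ?_⟩
      rw [e]
      exact (Limits.pullback.snd i.1.ι j.1.ι w).2)
  have h1 : Limits.pullback.fst i.1.ι j.1.ι = m ≫ X.homOfLE inf_le_left := by
    rw [← cancel_mono i.1.ι, Category.assoc, Scheme.homOfLE_ι, IsOpenImmersion.lift_fac]
  have h2 : Limits.pullback.snd i.1.ι j.1.ι = m ≫ X.homOfLE inf_le_right := by
    rw [← cancel_mono j.1.ι, Category.assoc, Scheme.homOfLE_ι, IsOpenImmersion.lift_fac, e]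
  show Limits.pullback.fst i.1.ι j.1.ι ≫ s i = Limits.pullback.snd i.1.ι j.1.ι ≫ s j
  rw [h1, h2, Category.assoc, Category.assoc, h]

end Aux

open AlgebraicGeometry CategoryTheory CategoryTheory.Limits in
/-- Let X be a scheme and U an open subscheme whose inclusion is quasi-compact, such that for every
point z of X outside U the maximal ideal of O_{X,z} contains two elements forming a weakly regular
sequence on that local ring. Then for every X-scheme Y that is affine and of finite presentation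
over X, the restriction map from X-sections of Y to U-sections of Y is bijective: every morphism U
-> Y over X extends uniquely to a section X -> Y. -/
theorem result (X : Scheme.{u}) (U : X.Opens) [QuasiCompact U.ι]
    (hZ : ∀ z : X, z ∉ U → ∃ a b : X.presheaf.stalk z, a ∈ IsLocalRing.maximalIdeal (X.presheaf.stalk z) ∧
      b ∈ IsLocalRing.maximalIdeal (X.presheaf.stalk z) ∧ RingTheory.Sequence.IsWeaklyRegular (X.presheaf.stalk z) [a, b])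
    (Y : Scheme.{u}) (f : Y ⟶ X) [IsAffineHom f] [LocallyOfFinitePresentation f]
    (t : (U : Scheme.{u}) ⟶ Y) (ht : t ≫ f = U.ι) :
    ∃! s : X ⟶ Y, s ≫ f = 𝟙 X ∧ U.ι ≫ s = t := by
  have hd := GrothLib.Depth.isSchematicallyDense_of_depthOneGen (GrothLib.Depth.DepthTwoGen.one hZ)
  have hres : ∀ (W : X.Opens), IsAffineOpen W → IsIso (X.homOfLE (inf_le_left : W ⊓ U ≤ W)).appTop := by
    intro W hW
    rw [ConcreteCategory.isIso_iff_bijective]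
    exact Aux.homOfLE_appTop_bijective _ (⟨hd W, GrothLib.Depth.res_surjective_of_depthTwoGen hZ hW⟩)
  have key : ∀ W : X.affineOpens, ∃ s : (W.1 : Scheme.{u}) ⟶ Y, s ≫ f = W.1.ι ∧
      X.homOfLE (inf_le_left : W.1 ⊓ U ≤ W.1) ≫ s = X.homOfLE inf_le_right ≫ t := by
    intro W
    have := hres W.1 W.2
    exact Aux.exists_lift f W.1 W.2 (X.homOfLE inf_le_left) (X.homOfLE inf_le_right ≫ t)
      (by rw [Category.assoc, ht, Scheme.homOfLE_ι, Scheme.homOfLE_ι])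
  choose s hs hst using key
  let 𝒰 : X.OpenCover := X.openCoverOfIsOpenCover (fun W : X.affineOpens => W.1) (iSup_affineOpens_eq_top X)
  have hcompat : ∀ i j : X.affineOpens, X.homOfLE (inf_le_left : i.1 ⊓ j.1 ≤ i.1) ≫ s i =
      X.homOfLE (inf_le_right : i.1 ⊓ j.1 ≤ j.1) ≫ s j := by
    intro i j
    refine GrothLib.SchDense.ext_of_isSchematicallyDense f (by simp [hs])
      (Aux.isSchematicallyDense_preimage hd _) ?_
    have e : ∀ (k : X.affineOpens) (hk : i.1 ⊓ j.1 ≤ k.1),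
        ((i.1 ⊓ j.1).ι ⁻¹ᵁ U).ι ≫ X.homOfLE hk ≫ s k =
          IsOpenImmersion.lift U.ι (((i.1 ⊓ j.1).ι ⁻¹ᵁ U).ι ≫ (i.1 ⊓ j.1).ι)
            (Aux.range_subset _ _) ≫ t := by
      intro k hk
      let m : ((i.1 ⊓ j.1).ι ⁻¹ᵁ U : Scheme.{u}) ⟶ (k.1 ⊓ U : X.Opens) :=
        IsOpenImmersion.lift (k.1 ⊓ U).ι (((i.1 ⊓ j.1).ι ⁻¹ᵁ U).ι ≫ (i.1 ⊓ j.1).ι)
          (by rintro _ ⟨w, rfl⟩; rw [Scheme.Opens.range_ι]; exact ⟨hk w.1.2, w.2⟩)
      have hm : m ≫ (k.1 ⊓ U).ι = ((i.1 ⊓ j.1).ι ⁻¹ᵁ U).ι ≫ (i.1 ⊓ j.1).ι := IsOpenImmersion.lift_fac _ _ _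
      have h1 : ((i.1 ⊓ j.1).ι ⁻¹ᵁ U).ι ≫ X.homOfLE hk = m ≫ X.homOfLE inf_le_left := by
        rw [← cancel_mono k.1.ι, Category.assoc, Category.assoc, Scheme.homOfLE_ι, Scheme.homOfLE_ι, hm]
      rw [reassoc_of% h1, hst, ← Category.assoc]
      congr 1
      rw [← cancel_mono U.ι, IsOpenImmersion.lift_fac, Category.assoc, Scheme.homOfLE_ι, hm]
    exact (e i inf_le_left).trans (e j inf_le_right).symm
  obtain ⟨σ, hσ⟩ := Aux.exists_glue s hcompat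
  have huniq : ∀ a b : X ⟶ Y, a ≫ f = 𝟙 X → b ≫ f = 𝟙 X → U.ι ≫ a = U.ι ≫ b → a = b :=
    fun a b ha hb h => GrothLib.SchDense.ext_of_isSchematicallyDense f (ha.trans hb.symm) hd h
  have hσf : σ ≫ f = 𝟙 X := 𝒰.hom_ext _ _ fun i => by
    rw [Category.comp_id]
    show i.1.ι ≫ σ ≫ f = i.1.ι
    rw [← Category.assoc, hσ, hs]
  have hσU : U.ι ≫ σ = t := by
    refine (U.toScheme.openCoverOfIsOpenCover (fun W : X.affineOpens => U.ι ⁻¹ᵁ W.1)
      (Aux.iSup_preimage U)).hom_ext _ _ fun i => ?_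
    show (U.ι ⁻¹ᵁ i.1).ι ≫ U.ι ≫ σ = (U.ι ⁻¹ᵁ i.1).ι ≫ t
    let m : (U.ι ⁻¹ᵁ i.1 : Scheme.{u}) ⟶ (i.1 ⊓ U : X.Opens) :=
      IsOpenImmersion.lift (i.1 ⊓ U).ι ((U.ι ⁻¹ᵁ i.1).ι ≫ U.ι)
        (by rintro _ ⟨w, rfl⟩; rw [Scheme.Opens.range_ι]; exact ⟨w.2, w.1.2⟩)
    have h1 : (U.ι ⁻¹ᵁ i.1).ι ≫ U.ι = m ≫ X.homOfLE inf_le_left ≫ i.1.ι := by
      rw [Scheme.homOfLE_ι, IsOpenImmersion.lift_fac]
    have h2 : (U.ι ⁻¹ᵁ i.1).ι = m ≫ X.homOfLE inf_le_right := by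
      rw [← cancel_mono U.ι, Category.assoc, Scheme.homOfLE_ι, IsOpenImmersion.lift_fac]
    rw [reassoc_of% h1, hσ, hst, reassoc_of% h2]
  exact ⟨σ, ⟨hσf, hσU⟩, fun b hb => huniq b σ hb.1 hσf (hb.2.trans hσU.symm)⟩


end Groth.Agent.S14272
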