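import Groth.Statements.S14274
import Groth.Agent.Lib.Torsor21.HartogsQC
import Groth.Agent.Lib.Torsor21.RationalSection

set_option backward.isDefEq.respectTransparency false
set_option backward.isDefEq.respectTransparency.types false

set_option autoImplicit false
universe u
open scoped CategoryTheory.Obj
open NonAbH1

namespace Groth.Agent.S14274

open AlgebraicGeometry CategoryTheory CategoryTheory.Limits MonoidalCategory in
/-- Let X be a scheme, G a finite locally free X-group scheme (finite, flat and locally of finite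
presentation over X, not necessarily commutative), and U an open subscheme of X whose inclusion is
quasi-compact, such that for every point z of X outside U the local ring of X at z is regular of
Krull dimension at least 2. Let Q₁ and Q₂ be fppf G-torsors over X. Then every U-morphism between
their base changes to U that is equivariant for the base-changed group is the base change of a
unique G-equivariant X-morphism Q₁ -> Q₂. (With the essential-surjectivity row this is the statement
that pullback is an equivalence from G-torsors over X to torsors over U under the base change of G.) -/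
theorem result {X : Scheme.{u}} (G : Over X) [GrpObj G]
    [IsFinite G.hom] [Flat G.hom] [LocallyOfFinitePresentation G.hom]
    (U : X.Opens) [QuasiCompact U.ι]
    (hZ : ∀ z : X, z ∉ U → IsRegularLocalRing (X.presheaf.stalk z) ∧ (2 : WithBot ℕ∞) ≤ ringKrullDim (X.presheaf.stalk z))
    (Q₁ Q₂ : Over X) (a₁ : AlgGrp.Action G Q₁) (a₂ : AlgGrp.Action G Q₂)
    (h₁ : NonAbH1.IsTorsorFor Scheme.fppfPrecoverage a₁) (h₂ : NonAbH1.IsTorsorFor Scheme.fppfPrecoverage a₂)
    (h' : (Over.pullback U.ι).obj Q₁ ⟶ (Over.pullback U.ι).obj Q₂)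
    (hh' : (Functor.LaxMonoidal.μ (Over.pullback U.ι) G Q₁ ≫ (Over.pullback U.ι).map a₁.act) ≫ h' =
      ((Over.pullback U.ι).obj G ◁ h') ≫ (Functor.LaxMonoidal.μ (Over.pullback U.ι) G Q₂ ≫ (Over.pullback U.ι).map a₂.act)) :
    ∃! h : Q₁ ⟶ Q₂, a₁.act ≫ h = (G ◁ h) ≫ a₂.act ∧ (Over.pullback U.ι).map h = h' := by
  haveI : IsFinite Q₁.hom := GrothLib.Torsor21.isFinite_hom h₁
  haveI : IsFinite Q₂.hom := GrothLib.Torsor21.isFinite_hom h₂
  haveI : MorphismProperty.DescendsAlong @Flat (@Surjective ⊓ @Flat ⊓ @QuasiCompact : MorphismProperty Scheme.{u}) :=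
    HasRingHomProperty.descendsAlong_flat (P := @Flat) GrothLib.AlgSp.codescendsAlong_flat
  haveI : Flat Q₁.hom :=
    GrothLib.Torsor21.property (P := @Flat.{u}) (GrothLib.Torsor21.isTorsorFor_fpqc h₁) inferInstance
  haveI : IsFinite (G ⊗ Q₁).hom := inferInstanceAs (IsFinite (pullback.fst G.hom Q₁.hom ≫ G.hom))
  haveI : Flat (G ⊗ Q₁).hom := inferInstanceAs (Flat (pullback.fst G.hom Q₁.hom ≫ G.hom))
  obtain ⟨hinj, hsurj⟩ := GrothLib.HartogsQC.bijective_pullback_map hZ Q₁ Q₂
  obtain ⟨h, hh : (Over.pullback U.ι).map h = h'⟩ := hsurj h'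
  refine ⟨h, ⟨(GrothLib.HartogsQC.bijective_pullback_map hZ (G ⊗ Q₁) Q₂).1 ?_, hh⟩,
    fun y hy => hinj (hy.2.trans hh.symm)⟩
  simp only [Functor.map_comp]
  rw [← cancel_epi (Functor.LaxMonoidal.μ (Over.pullback U.ι) G Q₁), ← Functor.LaxMonoidal.μ_natural_right_assoc,
    hh, ← Category.assoc]
  exact hh'

end Groth.Agent.S14274
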