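import Groth.Statements.S14275
import Mathlib
import Groth.Agent.Lib.BddTors.Basic
-- import your own Groth.Agent.* helpers here

set_option autoImplicit false
universe u
open CAlg

namespace Groth.Agent.S14275

open RingTheory.Sequence in
/-- Let A be a commutative ring, a an element of A with a-adic completion A^, and a_1, ..., a_n a weakly
regular sequence on A such that for each i = 0, ..., n the quotient A/(a_1, ..., a_i) has bounded
a-power torsion (some fixed power of a kills every element killed by a power of a). Then the images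
of a_1, ..., a_n form a weakly regular sequence on A^, and the canonical map from A^ to the a-adic
completion of A/(a_1, ..., a_n) is surjective with kernel the ideal generated by the images of a_1,
..., a_n. -/
theorem result (A : Type u) [CommRing A] (a : A) (rs : List A)
    (hreg : IsWeaklyRegular A rs)
    (hbd : ∀ i ≤ rs.length, ∃ N : ℕ, ∀ x : A ⧸ Ideal.ofList (rs.take i), (∃ m : ℕ, a ^ m • x = 0) → a ^ N • x = 0) :
    IsWeaklyRegular (AdicCompletion (Ideal.span {a}) A)
        (rs.map (algebraMap A (AdicCompletion (Ideal.span {a}) A))) ∧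
      Function.Surjective (AdicCompletion.map (Ideal.span {a}) (Ideal.ofList rs).mkQ) ∧
      LinearMap.ker (AdicCompletion.map (Ideal.span {a}) (Ideal.ofList rs).mkQ) =
        (Ideal.ofList rs).map (algebraMap A (AdicCompletion (Ideal.span {a}) A)) := by
  classical
  set I := Ideal.span ({a} : Set A) with hI
  set ι := algebraMap A (AdicCompletion I A) with hι
  have hsurj : ∀ J : Ideal A, Function.Surjective (AdicCompletion.map I J.mkQ) := fun J =>
    AdicCompletion.map_surjective I J.mkQ_surjective
  -- regularity at each step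
  have hstep : ∀ i (h : i < rs.length), ∀ y : A ⧸ Ideal.ofList (rs.take i), rs[i] • y = 0 → y = 0 := by
    intro i h y hy
    obtain ⟨y, rfl⟩ := Submodule.mkQ_surjective _ y
    have h1 := hreg.regular_mod_prev i h
    have e : ((Ideal.ofList (rs.take i)) • (⊤ : Submodule A A)) = Ideal.ofList (rs.take i) := by
      rw [smul_eq_mul, Ideal.mul_top]
    rw [e] at h1
    exact h1.right_eq_zero_of_smul hy
  have htake : ∀ i (h : i < rs.length), Ideal.ofList (rs.take (i + 1)) =
      Ideal.ofList (rs.take i) ⊔ Ideal.span {rs[i]} := by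
    intro i h
    rw [List.take_succ_eq_append_getElem h, Ideal.ofList_append, Ideal.ofList_singleton]
  have hle : ∀ i (h : i < rs.length), Ideal.ofList (rs.take i) ≤ Ideal.ofList (rs.take (i + 1)) := by
    intro i h; rw [htake i h]; exact le_sup_left
  have hker : ∀ i (h : i < rs.length), ∀ m : A ⧸ Ideal.ofList (rs.take i),
      Submodule.factor (hle i h) m = 0 ↔ ∃ z, rs[i] • z = m := by
    intro i h m
    obtain ⟨m, rfl⟩ := Submodule.mkQ_surjective _ m
    rw [Submodule.factor_mk]
    simp only [Submodule.mkQ_apply, Submodule.Quotient.mk_eq_zero]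
    rw [htake i h, Submodule.mem_sup]
    constructor
    · rintro ⟨c, hc, d, hd, rfl⟩
      obtain ⟨z, rfl⟩ := Ideal.mem_span_singleton'.1 hd
      refine ⟨Submodule.mkQ _ z, ?_⟩
      rw [Submodule.mkQ_apply, ← Submodule.Quotient.mk_smul, Submodule.Quotient.eq, smul_eq_mul]
      convert (Ideal.ofList (rs.take i)).neg_mem hc using 1
      ring
    · rintro ⟨z, hz⟩
      obtain ⟨z, rfl⟩ := Submodule.mkQ_surjective _ z
      rw [Submodule.mkQ_apply, ← Submodule.Quotient.mk_smul, Submodule.Quotient.eq, smul_eq_mul] at hz
      exact ⟨m - rs[i] * z, by simpa using (Ideal.ofList (rs.take i)).neg_mem hz, rs[i] * z,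
        Ideal.mem_span_singleton'.2 ⟨z, mul_comm _ _⟩, sub_add_cancel _ _⟩
  -- scalar action
  have hsmul : ∀ (r : A) (f : AdicCompletion I A), ι r * f = r • f := fun r f => (Algebra.smul_def r f).symm
  have hmapsmul : ∀ (J : Ideal A) (r : A) (f : AdicCompletion I A),
      AdicCompletion.map I J.mkQ (r • f) = r • AdicCompletion.map I J.mkQ f := fun J r f =>
    ((AdicCompletion.map I J.mkQ).restrictScalars A).map_smul r f
  have hkernel : ∀ i, i ≤ rs.length →
      LinearMap.ker (AdicCompletion.map I (Ideal.ofList (rs.take i)).mkQ) = (Ideal.ofList (rs.take i)).map ι := by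
    intro i
    induction i with
    | zero =>
      intro _
      have h0 : (Ideal.ofList (rs.take 0)) = ⊥ := by simp
      have hb : Function.Bijective (Ideal.ofList (rs.take 0)).mkQ :=
        ⟨by rw [← LinearMap.ker_eq_bot, Submodule.ker_mkQ, h0], Submodule.mkQ_surjective _⟩
      let e := LinearEquiv.ofBijective _ hb
      rw [show (Ideal.ofList (rs.take 0)).map ι = ⊥ by rw [h0, Ideal.map_bot]]
      refine LinearMap.ker_eq_bot.2 ?_
      exact (AdicCompletion.congr I e).injective
    | succ i ih =>
      intro hi
      have hi' : i < rs.length := hi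
      have ih := ih hi'.le
      rw [htake i hi', Ideal.map_sup, ← ih, show Ideal.map ι (Ideal.span {rs[i]}) = Ideal.span {ι rs[i]} by rw [Ideal.map_span, Set.image_singleton]]
      have hcomp : ∀ f, AdicCompletion.map I (Ideal.ofList (rs.take (i + 1))).mkQ f =
          AdicCompletion.map I (Submodule.factor (hle i hi'))
            (AdicCompletion.map I (Ideal.ofList (rs.take i)).mkQ f) := by
        intro f
        rw [AdicCompletion.map_comp_apply, Submodule.factor_comp_mk]
      obtain ⟨N, hN⟩ := hbd (i + 1) hi
      refine le_antisymm (fun f hf => ?_) ?_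
      · rw [LinearMap.mem_ker] at hf
        rw [← htake i hi'] at hf
        rw [hcomp] at hf
        obtain ⟨z, hz⟩ := GrothLib.BddTors.exists_smul_eq_of_map_eq_zero a (Submodule.factor (hle i hi'))
          (hker i hi') (hstep i hi') hN (Submodule.factor_surjective _) _ hf
        obtain ⟨z, rfl⟩ := hsurj _ z
        refine Submodule.mem_sup.2 ⟨f - rs[i] • z, ?_, rs[i] • z, ?_, sub_add_cancel _ _⟩
        · rw [LinearMap.mem_ker, map_sub, hmapsmul, hz, sub_self]
        · exact Ideal.mem_span_singleton'.2 ⟨z, by rw [mul_comm, hsmul]⟩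
      · rw [← htake i hi']
        refine sup_le (fun f hf => ?_) ?_
        · replace hf := LinearMap.mem_ker.1 hf
          refine LinearMap.mem_ker.2 ?_
          rw [hcomp, hf, map_zero]
        · refine Ideal.span_le.2 (Set.singleton_subset_iff.2 ?_)
          show AdicCompletion.map I _ (ι rs[i]) = 0
          rw [hι, AdicCompletion.algebraMap_apply, AdicCompletion.map_of]
          rw [show (Ideal.ofList (rs.take (i + 1))).mkQ (algebraMap A A rs[i]) = 0 from
            (Submodule.Quotient.mk_eq_zero _).2 (by rw [htake i hi']; exact Submodule.mem_sup_right (Ideal.mem_span_singleton_self _)), map_zero]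
  refine ⟨?_, hsurj _, ?_⟩
  swap
  · have hfin : ∀ l, l = rs.take rs.length →
        LinearMap.ker (AdicCompletion.map I (Ideal.ofList l).mkQ) = (Ideal.ofList l).map ι := by
      rintro l rfl
      exact hkernel rs.length le_rfl
    exact hfin rs List.take_length.symm
  rw [RingTheory.Sequence.isWeaklyRegular_iff_Fin]
  intro i
  have hi : (i : ℕ) < rs.length := by simpa using i.2
  set J := Ideal.ofList ((rs.map ι).take i) with hJ
  have hJe : (J • (⊤ : Submodule (AdicCompletion I A) (AdicCompletion I A))) = (Ideal.ofList (rs.take i)).map ι := by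
    rw [smul_eq_mul, Ideal.mul_top, hJ, Ideal.map_ofList, List.map_take]
  rw [isSMulRegular_quotient_iff_mem_of_smul_mem]
  intro f hf
  rw [hJe] at hf ⊢
  rw [← hkernel i hi.le] at hf ⊢
  replace hf := LinearMap.mem_ker.1 hf
  refine LinearMap.mem_ker.2 ?_
  have hget : (rs.map ι)[i] = ι rs[(i : ℕ)] := by simp
  rw [hget, smul_eq_mul, hsmul, hmapsmul] at hf
  obtain ⟨N, hN⟩ := hbd (i + 1) hi
  exact GrothLib.BddTors.smul_injective a (Submodule.factor (hle i hi)) (hker i hi) (hstep i hi) hN _ hf

end Groth.Agent.S14275
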