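import Groth.Statements.S14277
import Groth.Agent.Lib.FrobTors13.Twists
import Mathlib.AlgebraicGeometry.Sites.Fpqc
-- import your own Groth.Agent.* helpers here

set_option autoImplicit false
universe u
open CategoryTheory AlgebraicGeometry
open NonAbH1

namespace Groth.Agent.S14277

section Bridge

set_option backward.isDefEq.respectTransparency false
set_option backward.isDefEq.respectTransparency.types false

open CategoryTheory CategoryTheory.Limits AlgebraicGeometry MonoidalCategory CartesianMonoidalCategory MonObj GrothLib.FrobTors13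

variable {k : Type u} [Field k] {G : Over (Spec (CommRingCat.of k))} [GrpObj G]

/-- The morphism to the point. -/
noncomputable def toPt (Y : Over (Spec (CommRingCat.of k))) : Y ⟶ SGA7.pt (K := k) k :=
  Over.homMk Y.hom (by
    show Y.hom ≫ Spec.map (CommRingCat.ofHom (algebraMap k k)) = Y.hom
    rw [Algebra.algebraMap_self, CommRingCat.ofHom_id, Spec.map_id, Category.comp_id])

theorem toPt_unique {Y : Over (Spec (CommRingCat.of k))} (a b : Y ⟶ SGA7.pt (K := k) k) : a = b := by
  ext1
  have ha := Over.w a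
  have hb := Over.w b
  simp only [Over.mk_hom, Algebra.algebraMap_self, CommRingCat.ofHom_id, Spec.map_id, Category.comp_id] at ha hb
  exact ha.trans hb.symm

theorem cartOf {Y : Over (Spec (CommRingCat.of k))} {a : AlgGrp.Action G Y} (h : NonAbH1.IsPseudoTorsorSch a) :
    IsPullback a.act (snd G Y) (toPt Y) (toPt Y) := by
  haveI : IsIso (lift a.act (snd G Y)) := h
  refine IsPullback.of_isLimit (PullbackCone.IsLimit.mk (toPt_unique _ _)
    (fun s => lift s.fst s.snd ≫ inv (lift a.act (snd G Y))) (fun s => ?_) (fun s => ?_) fun s m h1 h2 => ?_)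
  · rw [Category.assoc]
    conv_rhs => rw [← lift_fst s.fst s.snd]
    congr 1
    rw [IsIso.inv_comp_eq, lift_fst]
  · rw [Category.assoc]
    conv_rhs => rw [← lift_snd s.fst s.snd]
    congr 1
    rw [IsIso.inv_comp_eq, lift_snd]
  · rw [IsIso.eq_comp_inv]
    apply CartesianMonoidalCategory.hom_ext
    · rw [Category.assoc, lift_fst, lift_fst]; exact h1
    · rw [Category.assoc, lift_snd, lift_snd]; exact h2

theorem equivIso_ext {Y Y' : Over (Spec (CommRingCat.of k))} {a : AlgGrp.Action G Y} {a' : AlgGrp.Action G Y'}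
    {x y : NonAbH1.EquivIso a a'} (h : x.iso = y.iso) : x = y := by
  cases x; cases y; cases h; rfl

variable [Finite k] {kb : Type u} [Field kb] [Algebra k kb] [IsAlgClosed kb] [Algebra.IsAlgebraic k kb]
  [LocallyOfFiniteType G.hom] [IsAffineHom G.hom]
  {σ : kb ≃ₐ[k] kb} (hσ : ∀ x : kb, σ x = x ^ Nat.card k)

theorem exists_point (P : NonAbH1.TorsorSch G Scheme.fppfPrecoverage) :
    ∃ p : SGA7.Pts kb P.X, IsFin k p := by
  obtain ⟨R, hR, hsec⟩ := P.isTorsor.2
  obtain ⟨I, U, f, rfl⟩ := R.exists_eq_ofArrows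
  rw [Scheme.fppfPrecoverage, Scheme.ofArrows_mem_precoverage_iff] at hR
  obtain ⟨i, hi⟩ := hR.1 (IsLocalRing.closedPoint k)
  haveI : LocallyOfFinitePresentation (f i) := (hR.2 i).2
  obtain ⟨s, hs⟩ := hsec (f i) (Presieve.ofArrows.mk i)
  haveI : Subsingleton ↥(Spec (CommRingCat.of k)) := inferInstanceAs (Subsingleton (PrimeSpectrum k))
  obtain ⟨x, hx⟩ := GrothLib.SchPoints.exists_lift (f i) (Spec.map (CommRingCat.ofHom (algebraMap k kb))) (by
    convert hi using 1)
  haveI : LocallyOfFiniteType (Over.mk (f i)).hom := inferInstanceAs (LocallyOfFiniteType (f i))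
  exact ⟨(Over.homMk x hx : SGA7.pt (K := k) kb ⟶ Over.mk (f i)) ≫ Over.homMk s hs,
    (isFin_of_lft _).comp _⟩

include hσ in
theorem exists_torsorSch (g : SGA7.Pts kb G) :
    ∃ (P : NonAbH1.TorsorSch G Scheme.fppfPrecoverage) (p : SGA7.Pts kb P.X),
      IsFin k p ∧ σ • p = sm P.act g p := by
  obtain ⟨Q, a, π, cart, p, -, -, ⟨K, hK, p₀, hp₀⟩, hg⟩ := exists_torsor (L := k) hσ g
  have hps : NonAbH1.IsPseudoTorsorSch a := by
    let pb : IsPullback (fst Q Q) (snd Q Q) π π :=
      IsPullback.of_isLimit (PullbackCone.IsLimit.mk (toPt_unique _ _) (fun s => lift s.fst s.snd)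
        (fun s => lift_fst _ _) (fun s => lift_snd _ _) fun s m h1 h2 => by
          apply CartesianMonoidalCategory.hom_ext <;> simp [h1, h2])
    have e : lift a.act (snd G Q) = (cart.isoIsPullback _ _ pb).hom := by
      apply CartesianMonoidalCategory.hom_ext <;> simp
    show IsIso (lift a.act (snd G Q))
    rw [e]
    infer_instance
  haveI : Module.Finite k K := hK
  haveI : LocallyOfFinitePresentation (SGA7.pt (K := k) K).hom := by
    show LocallyOfFinitePresentation (Spec.map (CommRingCat.ofHom (algebraMap k K)))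
    rw [HasRingHomProperty.Spec_iff (P := @LocallyOfFinitePresentation)]
    exact RingHom.finitePresentation_algebraMap.mpr (Algebra.FinitePresentation.of_finiteType.mp inferInstance)
  haveI : Flat (SGA7.pt (K := k) K).hom := GrothLib.GalForms21.flat_pt
  haveI : Surjective (SGA7.pt (K := k) K).hom := GrothLib.GalForms21.surjective_pt
  exact ⟨⟨Q, a, hps, Presieve.singleton (SGA7.pt (K := k) K).hom,
    (SGA7.pt (K := k) K).hom.singleton_mem_fppfPrecoverage, by
      rintro S' f ⟨⟩
      exact ⟨p₀.left, Over.w p₀⟩⟩, p, ⟨K, hK, p₀, hp₀⟩, hg⟩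

include hσ in
theorem exists_isoEquiv {P Q : NonAbH1.TorsorSch G Scheme.fppfPrecoverage} {p : SGA7.Pts kb P.X}
    (hp : IsFin k p) {q : SGA7.Pts kb Q.X} (hq : IsFin k q) {g g' : SGA7.Pts kb G}
    (hg : σ • p = sm P.act g p) (hg' : σ • q = sm Q.act g' q) :
    Nonempty (NonAbH1.EquivIso P.act Q.act ≃
      {h : SGA7.Pts kb G // g * h = (σ • h) * g'}) := by
  have cP := cartOf P.isTorsor.1
  have cQ := cartOf Q.isTorsor.1
  have hf : ∀ f : NonAbH1.EquivIso P.act Q.act, ∃ h, sm Q.act h q = p ≫ f.iso.hom ∧ g * h = (σ • h) * g' := by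
    intro f
    obtain ⟨h, hh⟩ := exists_sm Q.act cQ (x := p ≫ f.iso.hom) (y := q) (toPt_unique _ _)
    refine ⟨h, hh, sm_cancel Q.act cQ (x := q) ?_⟩
    rw [mul_sm, hh, ← sm_comp P.act f.comm, ← hg, GalTw.pts_smul_def, Category.assoc, ← hh, comp_sm,
      show SGA7.specAut σ ≫ q = _ from hg', mul_sm]
    rfl
  choose F hF1 hF2 using hf
  refine ⟨Equiv.ofBijective (fun f => ⟨F f, hF2 f⟩) ⟨fun f f' e => ?_, fun ⟨h, hh⟩ => ?_⟩⟩
  · have e' : F f = F f' := congrArg Subtype.val e
    have h1 := hF1 f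
    rw [e', hF1 f'] at h1
    have := eqv_ext (L := k) hσ P.act cP Q.act (toPt_unique (p ≫ toPt _) _) hp f.comm f'.comm h1.symm
    obtain ⟨i, hi⟩ := f
    obtain ⟨i', hi'⟩ := f'
    obtain rfl : i = i' := Iso.ext this
    rfl
  · obtain ⟨e, ⟨he, hpe⟩, -⟩ := existsUnique_eqv_geom (L := k) hσ P.act cP Q.act (q := sm Q.act h q)
      (toPt_unique (p ≫ toPt _) _) hp
      (by
        obtain ⟨K, hK, ⟨h', hh'⟩, ⟨q', hq'⟩⟩ := (isFin_of_lft (L := k) h).common hq
        exact ⟨K, hK, sm Q.act h' q', by rw [comp_sm, hh', hq']⟩)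
      ⟨g, hg, by
        rw [comp_sm, show gal k kb σ ≫ q = _ from hg', ← mul_sm, ← mul_sm]
        exact congrArg (fun u => sm Q.act u q) hh.symm⟩
    obtain ⟨e', ⟨he', hqe⟩, -⟩ := existsUnique_eqv_geom (L := k) hσ Q.act cQ P.act (q := sm P.act h⁻¹ p)
      (toPt_unique (q ≫ toPt _) _) hq
      (by
        obtain ⟨K, hK, ⟨h', hh'⟩, ⟨p', hp'⟩⟩ := (isFin_of_lft (L := k) h⁻¹).common hp
        exact ⟨K, hK, sm P.act h' p', by rw [comp_sm, hh', hp']⟩)
      ⟨g', hg', by
        rw [comp_sm, show gal k kb σ ≫ p = _ from hg, ← mul_sm, ← mul_sm]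
        refine congrArg (fun u => sm P.act u p) ?_
        show σ • h⁻¹ * g = g' * h⁻¹
        rw [smul_inv', inv_mul_eq_iff_eq_mul, ← _root_.mul_assoc, ← hh, mul_inv_cancel_right]⟩
    have hee : e ≫ e' = 𝟙 P.X := by
      refine eqv_ext (L := k) hσ P.act cP P.act (toPt_unique (p ≫ toPt _) _) hp ?_ (by simp) ?_
      · rw [reassoc_of% he, he', MonoidalCategory.whiskerLeft_comp_assoc]
      · rw [← Category.assoc, hpe, sm_comp Q.act he', hqe, ← mul_sm, mul_inv_cancel, one_sm, Category.comp_id]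
    have hee' : e' ≫ e = 𝟙 Q.X := by
      refine eqv_ext (L := k) hσ Q.act cQ Q.act (toPt_unique (q ≫ toPt _) _) hq ?_ (by simp) ?_
      · rw [reassoc_of% he', he, MonoidalCategory.whiskerLeft_comp_assoc]
      · rw [← Category.assoc, hqe, sm_comp P.act he, hpe, ← mul_sm, inv_mul_cancel, one_sm, Category.comp_id]
    refine ⟨⟨⟨e, e', hee, hee'⟩, he⟩, Subtype.ext (sm_cancel Q.act cQ (x := q) ?_)⟩
    rw [hF1]
    exact hpe

open CategoryTheory AlgebraicGeometry in
/-- A finite scheme over a finite field has finitely many points in a field algebraic over it. -/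
theorem finite_geom_pts {k : Type u} [Field k] [Finite k] (G : Over (Spec (CommRingCat.of k))) [IsFinite G.hom]
    (Ω : Type u) [Field Ω] [Algebra k Ω] : Finite (SGA7.pt (K := k) Ω ⟶ G) := by
  classical
  haveI : IsAffine G.left := isAffine_of_isAffineHom G.hom
  let φ := (Scheme.ΓSpecIso (CommRingCat.of k)).inv ≫ G.hom.appTop
  letI : Algebra k Γ(G.left, ⊤) := φ.hom.toAlgebra
  haveI : Module.Finite k Γ(G.left, ⊤) := by
    have h1 : G.hom.appTop.hom.Finite := G.hom.finite_appTop
    exact h1.comp (RingHom.Finite.of_surjective _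
      (ConcreteCategory.bijective_of_isIso (Scheme.ΓSpecIso (CommRingCat.of k)).inv).2)
  haveI : Finite (Γ(G.left, ⊤) →ₐ[k] Ω) := by
    haveI : Finite Γ(G.left, ⊤) := Module.finite_of_finite k
    refine Finite.of_injective (β := ∀ a : Γ(G.left, ⊤), ((minpoly k a).rootSet Ω : Set Ω))
      (fun f a => ⟨f a, (Polynomial.mem_rootSet_of_ne (minpoly.ne_zero (Algebra.IsIntegral.isIntegral a))).2
        (by rw [Polynomial.aeval_algHom_apply, minpoly.aeval, map_zero])⟩)
      fun f f' h => AlgHom.ext fun a => congrArg Subtype.val (congrFun h a)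
  have key : G.left.isoSpec.hom ≫ Spec.map φ = G.hom := by
    rw [Spec.map_comp, Scheme.isoSpec_hom_naturality_assoc, Scheme.isoSpec_hom, toSpecΓ_SpecMap_ΓSpecIso_inv,
      Category.comp_id]
  refine Finite.of_injective (β := Γ(G.left, ⊤) →ₐ[k] Ω)
    (fun x => ⟨(Spec.preimage (x.left ≫ G.left.isoSpec.hom)).hom, fun c => ?_⟩) fun x y h => ?_
  · have : φ ≫ Spec.preimage (x.left ≫ G.left.isoSpec.hom) = CommRingCat.ofHom (algebraMap k Ω) := by
      apply Spec.map_injective
      rw [Spec.map_comp, Spec.map_preimage, Category.assoc, key]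
      exact Over.w x
    exact congr($this c)
  · have h' := congrArg Spec.map (CommRingCat.hom_ext (congrArg (fun f : Γ(G.left, ⊤) →ₐ[k] Ω => f.toRingHom) h) :
      Spec.preimage (x.left ≫ G.left.isoSpec.hom) = Spec.preimage (y.left ≫ G.left.isoSpec.hom))
    rw [Spec.map_preimage, Spec.map_preimage, cancel_mono] at h'
    exact Over.OverMorphism.ext h'


theorem h1Sch_mass (k : Type u) [Field k] [Finite k]
    (G : Over (Spec (CommRingCat.of k))) [GrpObj G] [IsFinite G.hom] :
    Finite (NonAbH1.H1Sch G Scheme.fppfPrecoverage) ∧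
      ∑ᶠ ξ : NonAbH1.H1Sch G Scheme.fppfPrecoverage,
        ((Nat.card (NonAbH1.EquivIso (Quot.out ξ).act (Quot.out ξ).act) : ℚ))⁻¹ = 1 := by
  classical
  let kb := AlgebraicClosure k
  haveI : Algebra.IsAlgebraic k kb := AlgebraicClosure.isAlgebraic k
  obtain ⟨σ, hσ⟩ := exists_frob k kb
  haveI : Finite (SGA7.Pts kb G) := by
    haveI := finite_geom_pts G kb
    infer_instance
  haveI : Finite (TwB G σ) := inferInstanceAs (Finite (SGA7.Pts kb G))
  choose P p hp hg using fun b : TwB G σ => exists_torsorSch hσ b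
  have hom : ∀ b b' : TwB G σ, Nonempty (NonAbH1.EquivIso (P b).act (P b').act ≃
      {h : SGA7.Pts kb G // h • b' = b}) := fun b b' => by
    obtain ⟨e⟩ := exists_isoEquiv hσ (hp b) (hp b') (hg b) (hg b')
    refine ⟨e.trans (Equiv.subtypeEquivRight fun h => ?_)⟩
    show _ ↔ (σ • h) * (show SGA7.Pts kb G from b') * h⁻¹ = (show SGA7.Pts kb G from b)
    rw [mul_inv_eq_iff_eq_mul]
    exact eq_comm
  let r := fun P Q : NonAbH1.TorsorSch G Scheme.fppfPrecoverage => Nonempty (NonAbH1.EquivIso P.act Q.act)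
  have hr : Equivalence r :=
    ⟨fun A => ⟨⟨Iso.refl _, by simp⟩⟩,
     fun ⟨f⟩ => ⟨⟨f.iso.symm, by
        rw [Iso.symm_hom, Iso.comp_inv_eq, Category.assoc, f.comm, ← MonoidalCategory.whiskerLeft_comp_assoc]
        simp⟩⟩,
     fun ⟨f⟩ ⟨f'⟩ => ⟨⟨f.iso ≪≫ f'.iso, by
        rw [Iso.trans_hom, reassoc_of% f.comm, f'.comm, MonoidalCategory.whiskerLeft_comp_assoc]⟩⟩⟩
  let e : _root_.Quotient (MulAction.orbitRel (SGA7.Pts kb G) (TwB G σ)) →
      NonAbH1.H1Sch G Scheme.fppfPrecoverage :=
    Quotient.lift (fun b => (P b).cl) (by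
      rintro b b' ⟨h, hh⟩
      obtain ⟨E⟩ := hom b b'
      exact Quot.sound ⟨E.symm ⟨h, hh⟩⟩)
  have hrep : ∀ c, r (Quot.out (e ⟦c⟧)) (P c) := fun c =>
    hr.eqvGen_iff.1 (Quot.eqvGen_exact (Quot.out_eq (e ⟦c⟧)))
  have he : Function.Bijective e := by
    constructor
    · intro q q'
      induction q, q' using Quotient.inductionOn₂ with
      | h b b' =>
        intro h
        obtain ⟨f⟩ := hr.eqvGen_iff.1 (Quot.eqvGen_exact h)
        obtain ⟨E⟩ := hom b b'
        exact Quotient.sound ⟨(E f).1, (E f).2⟩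
    · intro c
      induction c using Quot.ind with
      | mk A =>
        obtain ⟨a, ha⟩ := exists_point (kb := kb) A
        obtain ⟨g, hga⟩ := exists_sm A.act (cartOf A.isTorsor.1) (x := σ • a) (y := a) (toPt_unique _ _)
        obtain ⟨E⟩ := exists_isoEquiv hσ (hp (toB g)) ha (hg (toB g)) hga.symm
        exact ⟨⟦toB g⟧, Quot.sound ⟨E.symm ⟨1, by
          rw [smul_one, _root_.mul_one, _root_.one_mul]; rfl⟩⟩⟩
  refine ⟨Finite.of_surjective e he.2, ?_⟩
  letI := Fintype.ofFinite (_root_.Quotient (MulAction.orbitRel (SGA7.Pts kb G) (TwB G σ)))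
  rw [← finsum_comp_equiv (Equiv.ofBijective e he), finsum_eq_sum_of_fintype]
  refine Eq.trans (Finset.sum_congr rfl fun q _ => ?_)
    ((sum_orbits_inv_stab (Γ := SGA7.Pts kb G) (M := TwB G σ)).trans ?_)
  · refine congrArg (fun n : ℕ => (n : ℚ)⁻¹) ?_
    obtain ⟨f⟩ : r (Quot.out (Equiv.ofBijective e he q)) (P q.out) := by
      have := hrep q.out
      rwa [Quotient.out_eq] at this
    obtain ⟨E⟩ := hom q.out q.out
    refine (Nat.card_congr ?_).trans (Nat.card_congr E)
    refine
      { toFun := fun x => ⟨f.iso.symm ≪≫ x.iso ≪≫ f.iso, ?_⟩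
        invFun := fun y => ⟨f.iso ≪≫ y.iso ≪≫ f.iso.symm, ?_⟩
        left_inv := fun x => equivIso_ext (by ext1; simp)
        right_inv := fun y => equivIso_ext (by ext1; simp) }
    · have hs : (P q.out).act.act ≫ f.iso.inv = (G ◁ f.iso.inv) ≫ (Quot.out (Equiv.ofBijective e he q)).act.act := by
        rw [Iso.comp_inv_eq, Category.assoc, f.comm, ← MonoidalCategory.whiskerLeft_comp_assoc]
        simp
      simp only [Iso.trans_hom, Iso.symm_hom, reassoc_of% hs, reassoc_of% x.comm, f.comm,
        MonoidalCategory.whiskerLeft_comp, Category.assoc]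
    · have hs : (P q.out).act.act ≫ f.iso.inv = (G ◁ f.iso.inv) ≫ (Quot.out (Equiv.ofBijective e he q)).act.act := by
        rw [Iso.comp_inv_eq, Category.assoc, f.comm, ← MonoidalCategory.whiskerLeft_comp_assoc]
        simp
      simp only [Iso.trans_hom, Iso.symm_hom, reassoc_of% f.comm, reassoc_of% y.comm, hs,
        MonoidalCategory.whiskerLeft_comp, Category.assoc]
  · show (Nat.card (SGA7.Pts kb G) : ℚ) / (Nat.card (SGA7.Pts kb G) : ℚ) = 1
    exact div_self (Nat.cast_ne_zero.2 Nat.card_pos.ne')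

end Bridge


/-- Let k be a finite field and G a group scheme finite and étale over Spec k. Then the set of
isomorphism classes of G-torsors over Spec k is finite, and the sum over these classes ξ of
1/#Aut(ξ) equals 1, where Aut(ξ) is the (finite) group of G-equivariant automorphisms over k of a
torsor in the class ξ. A torsor is a k-scheme with an action of G which is a pseudo-torsor and
acquires sections on the members of some fppf covering family of Spec k; for such G these are the
nonempty finite étale pseudo-torsors, and the étale topology gives the same classes. The term of a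
class whose automorphism group were infinite would count as 0 by the convention Nat.card = 0. -/
theorem result
    (k : Type u) [Field k] [Finite k]
    (G : Over (Spec (CommRingCat.of k))) [GrpObj G] [IsFinite G.hom] [Etale G.hom] :
    Finite (NonAbH1.H1Sch G Scheme.fppfPrecoverage) ∧
      ∑ᶠ ξ : NonAbH1.H1Sch G Scheme.fppfPrecoverage,
        ((Nat.card (NonAbH1.EquivIso (Quot.out ξ).act (Quot.out ξ).act) : ℚ))⁻¹ = 1 := by
  exact h1Sch_mass k G


end Groth.Agent.S14277
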