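import Groth.Statements.S14285
import Groth.Agent.S11468
set_option backward.isDefEq.respectTransparency false
set_option backward.isDefEq.respectTransparency.types false


set_option autoImplicit false
universe u
open CategoryTheory AlgebraicGeometry
open EllLift

namespace Groth.Agent.S14285

/-- Let R be a complete Noetherian local ring with maximal ideal m and residue field k = R/m, g : X →
Spec R a proper and flat morphism, and i : X₀ → X the fibre of g over the closed point, i.e. a
pullback of g along Spec k → Spec R, with structure map f₀ : X₀ → Spec k. If the induced ring map k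
→ Γ(X₀, O_{X₀}) is bijective, then so is R → Γ(X, O_X). -/
theorem result (R : Type u) [CommRing R]
    [IsLocalRing R] [IsNoetherianRing R] [IsAdicComplete (IsLocalRing.maximalIdeal R) R]
    (X X₀ : Scheme.{u}) (g : X ⟶ Spec (CommRingCat.of R)) [IsProper g] [Flat g]
    (i : X₀ ⟶ X) (f₀ : X₀ ⟶ Spec (CommRingCat.of (R ⧸ IsLocalRing.maximalIdeal R)))
    (hsq : IsPullback i f₀ g
      (Spec.map (CommRingCat.ofHom (Ideal.Quotient.mk (IsLocalRing.maximalIdeal R)))))
    (h0 : Function.Bijective ((Scheme.ΓSpecIso (CommRingCat.of (R ⧸ IsLocalRing.maximalIdeal R))).inv ≫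
      f₀.appTop)) :
    Function.Bijective ((Scheme.ΓSpecIso (CommRingCat.of R)).inv ≫ g.appTop) := by
  let m := IsLocalRing.maximalIdeal R
  have : IsLocallyNoetherian X := LocallyOfFiniteType.isLocallyNoetherian g
  let φ : CommRingCat.of R ⟶ Γ(X, ⊤) := (Scheme.ΓSpecIso (CommRingCat.of R)).inv ≫ g.appTop
  let mk' : ∀ n : ℕ, CommRingCat.of R ⟶ CommRingCat.of (R ⧸ m ^ (n + 1)) := fun n => CommRingCat.ofHom (Ideal.Quotient.mk _)
  let T : ℕ → Scheme.{u} := fun n => Limits.pullback g (Spec.map (mk' n))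
  let ψ : ∀ n, Γ(X, ⊤) ⟶ Γ(T n, ⊤) := fun n => (Limits.pullback.fst g (Spec.map (mk' n))).appTop
  let χ : ∀ n, CommRingCat.of (R ⧸ m ^ (n + 1)) ⟶ Γ(T n, ⊤) := fun n =>
    (Scheme.ΓSpecIso _).inv ≫ (Limits.pullback.snd g (Spec.map (mk' n))).appTop
  have hcomm : ∀ n (r : R), ψ n (φ r) = χ n (Ideal.Quotient.mk _ r) := by
    intro n r
    have h1 : φ ≫ ψ n = mk' n ≫ χ n := by
      simp only [φ, ψ, χ, Category.assoc]
      rw [← Scheme.Hom.comp_appTop, Limits.pullback.condition, Scheme.Hom.comp_appTop,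
        Scheme.ΓSpecIso_inv_naturality_assoc]
    exact congr($(h1) r)
  have hχ : ∀ n, Function.Bijective (χ n) := by
    intro n
    have hle : m ^ (n + 1) ≤ m := Ideal.pow_le_self n.succ_ne_zero
    have : Nontrivial (R ⧸ m ^ (n + 1)) := Ideal.Quotient.nontrivial_iff.2 fun h =>
      (IsLocalRing.maximalIdeal.isMaximal R).ne_top (top_le_iff.1 (h ▸ hle))
    have : IsLocalRing (R ⧸ m ^ (n + 1)) := IsLocalRing.of_surjective' _ Ideal.Quotient.mk_surjective
    have hmax : IsLocalRing.maximalIdeal (R ⧸ m ^ (n + 1)) = m.map (Ideal.Quotient.mk _) :=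
      (IsLocalRing.map_maximalIdeal_of_surjective _ Ideal.Quotient.mk_surjective).symm
    have : IsArtinianRing (R ⧸ m ^ (n + 1)) := (isArtinianRing_iff_isNilpotent_maximalIdeal _).2
      ⟨n + 1, by rw [hmax, ← Ideal.map_pow]; exact Ideal.map_quotient_self _⟩
    let q : R ⧸ m →+* (R ⧸ m ^ (n + 1)) ⧸ IsLocalRing.maximalIdeal (R ⧸ m ^ (n + 1)) :=
      Ideal.Quotient.lift m ((Ideal.Quotient.mk _).comp (Ideal.Quotient.mk _)) fun a ha => by
        rw [RingHom.comp_apply, Ideal.Quotient.eq_zero_iff_mem, hmax]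
        exact Ideal.mem_map_of_mem _ ha
    have hq : Function.Bijective q := by
      have : (IsLocalRing.maximalIdeal R).IsMaximal := inferInstance
      let _ := Ideal.Quotient.field (IsLocalRing.maximalIdeal R)
      refine ⟨RingHom.injective (R := R ⧸ IsLocalRing.maximalIdeal R) q, fun z => ?_⟩
      obtain ⟨w, rfl⟩ := Ideal.Quotient.mk_surjective z
      obtain ⟨r, rfl⟩ := Ideal.Quotient.mk_surjective w
      exact ⟨Ideal.Quotient.mk _ r, rfl⟩
    have : IsIso (CommRingCat.ofHom q) := (ConcreteCategory.isIso_iff_bijective _).2 hq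
    let pC := Spec.map (CommRingCat.ofHom (Ideal.Quotient.mk (IsLocalRing.maximalIdeal (R ⧸ m ^ (n + 1)))))
    let f₁ := f₀ ≫ inv (Spec.map (CommRingCat.ofHom q))
    have hsq1 : IsPullback i f₁ g (pC ≫ Spec.map (mk' n)) := by
      refine hsq.of_iso (Iso.refl _) (Iso.refl _) (asIso (inv (Spec.map (CommRingCat.ofHom q)))) (Iso.refl _)
        (by simp) (by simp [f₁]) (by simp) ?_
      simp only [Iso.refl_hom, Category.comp_id, asIso_hom, pC, mk', ← Spec.map_comp, IsIso.eq_inv_comp]
      rfl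
    have hX : IsPullback (Limits.pullback.fst g (Spec.map (mk' n))) (Limits.pullback.snd g (Spec.map (mk' n))) g
        (Spec.map (mk' n)) := IsPullback.of_hasPullback _ _
    have hsq2 := IsPullback.of_right' hsq1 hX
    refine Groth.Agent.S11468.result (R ⧸ m ^ (n + 1)) (T n) X₀ (Limits.pullback.snd g (Spec.map (mk' n))) _ f₁ hsq2 ?_
    have e : (Scheme.ΓSpecIso (CommRingCat.of ((R ⧸ m ^ (n + 1)) ⧸ IsLocalRing.maximalIdeal (R ⧸ m ^ (n + 1))))).inv ≫
        f₁.appTop = inv (CommRingCat.ofHom q) ≫ (Scheme.ΓSpecIso (CommRingCat.of (R ⧸ m))).inv ≫ f₀.appTop := by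
      rw [IsIso.eq_inv_comp, Scheme.ΓSpecIso_inv_naturality_assoc, ← Scheme.Hom.comp_appTop]
      congr 2
      simp [f₁]
    rw [e]
    exact h0.comp (ConcreteCategory.bijective_of_isIso (inv (CommRingCat.ofHom q)))
  have hzero : ∀ s : Γ(X, ⊤), (∀ n, ψ n s = 0) → s = 0 := by
    intro s hs
    have hc : ∀ x : X, g x = IsLocalRing.closedPoint R → X.presheaf.germ ⊤ x trivial s = 0 := by
      intro x hx
      let ρ : CommRingCat.of R ⟶ X.presheaf.stalk x := φ ≫ X.presheaf.germ ⊤ x trivial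
      have hρ : X.fromSpecStalk x ≫ g = Spec.map ρ := by
        apply AlgebraicGeometry.ext_to_Spec
        change (Scheme.ΓSpecIso (CommRingCat.of R)).inv ≫ (X.fromSpecStalk x ≫ g).appTop =
          (Scheme.ΓSpecIso (CommRingCat.of R)).inv ≫ (Spec.map ρ).appTop
        rw [← Scheme.ΓSpecIso_inv_naturality, Scheme.Hom.comp_appTop, Scheme.fromSpecStalk_appTop]
        simp [ρ, φ]
      have hmem : ∀ a ∈ m, ρ a ∈ IsLocalRing.maximalIdeal (X.presheaf.stalk x) := by
        intro a ha
        have h1 : (X.fromSpecStalk x ≫ g) (IsLocalRing.closedPoint (X.presheaf.stalk x)) = IsLocalRing.closedPoint R := by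
          rw [Scheme.Hom.comp_apply, Scheme.fromSpecStalk_closedPoint, hx]
        rw [hρ] at h1
        have h2 : (IsLocalRing.maximalIdeal (X.presheaf.stalk x)).comap ρ.hom = m := congrArg PrimeSpectrum.asIdeal h1
        rw [← h2] at ha
        exact ha
      rw [← Ideal.mem_bot, ← Ideal.iInf_pow_eq_bot_of_isLocalRing (IsLocalRing.maximalIdeal (X.presheaf.stalk x))
        (IsLocalRing.maximalIdeal.isMaximal _).ne_top, Ideal.mem_iInf]
      intro k
      refine Ideal.pow_le_pow_right (Nat.le_succ k) ?_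
      let J := IsLocalRing.maximalIdeal (X.presheaf.stalk x) ^ (k + 1)
      let π : X.presheaf.stalk x ⟶ CommRingCat.of (X.presheaf.stalk x ⧸ J) := CommRingCat.ofHom (Ideal.Quotient.mk J)
      let ρ' : CommRingCat.of (R ⧸ m ^ (k + 1)) ⟶ CommRingCat.of (X.presheaf.stalk x ⧸ J) :=
        CommRingCat.ofHom (Ideal.Quotient.lift _ ((Ideal.Quotient.mk J).comp ρ.hom) fun a ha => by
          rw [RingHom.comp_apply, Ideal.Quotient.eq_zero_iff_mem]
          exact Ideal.pow_right_mono (Ideal.map_le_iff_le_comap.2 hmem) (k + 1)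
            (Ideal.map_pow ρ.hom m (k + 1) ▸ Ideal.mem_map_of_mem _ ha))
      let l : Spec (CommRingCat.of (X.presheaf.stalk x ⧸ J)) ⟶ T k :=
        Limits.pullback.lift (Spec.map π ≫ X.fromSpecStalk x) (Spec.map ρ') (by
          rw [Category.assoc, hρ, ← Spec.map_comp, ← Spec.map_comp]
          rfl)
      have e : (Spec.map π ≫ X.fromSpecStalk x).appTop s = 0 := by
        rw [show Spec.map π ≫ X.fromSpecStalk x = l ≫ Limits.pullback.fst g (Spec.map (mk' k)) from
          (Limits.pullback.lift_fst _ _ _).symm, Scheme.Hom.comp_appTop, CommRingCat.comp_apply]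
        exact (congrArg _ (hs k)).trans (map_zero _)
      have key : (Spec.map π ≫ X.fromSpecStalk x).appTop = X.presheaf.germ ⊤ x trivial ≫ π ≫ (Scheme.ΓSpecIso _).inv := by
        rw [Scheme.ΓSpecIso_inv_naturality, Scheme.Hom.comp_appTop, Scheme.fromSpecStalk_appTop]
        simp
      rw [key] at e
      exact Ideal.Quotient.eq_zero_iff_mem.1 ((map_eq_zero_iff _ (ConcreteCategory.bijective_of_isIso
        (Scheme.ΓSpecIso (CommRingCat.of (X.presheaf.stalk x ⧸ J))).inv).1).1 e)
    refine TopCat.Presheaf.section_ext X.sheaf ⊤ s 0 fun x _ => ?_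
    obtain ⟨x₀, hx₀, hgx⟩ : ∃ x₀, x₀ ∈ closure ({x} : Set X) ∧ g x₀ = IsLocalRing.closedPoint R := by
      have hcl : IsClosed (g '' closure {x}) := g.isClosedMap _ isClosed_closure
      exact (IsLocalRing.specializes_closedPoint (g x)).mem_closed hcl ⟨x, subset_closure rfl, rfl⟩
    have hsp : x ⤳ x₀ := specializes_iff_mem_closure.2 hx₀
    change X.presheaf.germ ⊤ x _ s = X.presheaf.germ ⊤ x _ 0
    rw [map_zero, ← TopCat.Presheaf.germ_stalkSpecializes_apply X.presheaf (U := ⊤) (hy := trivial) hsp s, hc x₀ hgx, map_zero]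
  constructor
  · refine (injective_iff_map_eq_zero _).2 fun r hr => ?_
    refine IsHausdorff.haus (I := m) inferInstance r fun n => ?_
    have h1 : ψ n (φ r) = 0 := by rw [show φ r = 0 from hr, map_zero]
    rw [hcomm, map_eq_zero_iff _ (hχ n).1, Ideal.Quotient.eq_zero_iff_mem] at h1
    rw [SModEq.zero, smul_eq_mul, Ideal.mul_top]
    exact Ideal.pow_le_pow_right (Nat.le_succ n) h1
  · intro s
    have hex : ∀ n, ∃ r : R, χ n (Ideal.Quotient.mk _ r) = ψ n s := fun n => by
      obtain ⟨w, hw⟩ := (hχ n).2 (ψ n s)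
      obtain ⟨r, rfl⟩ := Ideal.Quotient.mk_surjective w
      exact ⟨r, hw⟩
    choose r hr using hex
    have hstep : ∀ a b, a ≤ b → r a - r b ∈ m ^ (a + 1) := by
      intro a b hab
      have hle : m ^ (b + 1) ≤ m ^ (a + 1) := Ideal.pow_le_pow_right (Nat.succ_le_succ hab)
      let t : T a ⟶ T b := Limits.pullback.map _ _ _ _ (𝟙 X) (Spec.map (CommRingCat.ofHom (Ideal.Quotient.factor hle))) (𝟙 _)
        (by simp) (by
          rw [Category.comp_id, ← Spec.map_comp]
          rfl)
      have h1 : ψ b ≫ t.appTop = ψ a := by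
        simp only [ψ, ← Scheme.Hom.comp_appTop, t, Limits.pullback.lift_fst, Category.comp_id]
      have h2 : χ b ≫ t.appTop = CommRingCat.ofHom (Ideal.Quotient.factor hle) ≫ χ a := by
        simp only [χ, Category.assoc, Scheme.ΓSpecIso_inv_naturality_assoc, ← Scheme.Hom.comp_appTop, t,
          Limits.pullback.lift_snd]
      have h3 : t.appTop (χ b (Ideal.Quotient.mk _ (r b))) = ψ a s := by rw [hr b]; exact congr($(h1) s)
      have h4 : t.appTop (χ b (Ideal.Quotient.mk _ (r b))) = χ a (Ideal.Quotient.mk _ (r b)) :=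
        congr($(h2) (Ideal.Quotient.mk _ (r b)))
      exact Ideal.Quotient.eq.1 ((hχ a).1 ((hr a).trans (h3.symm.trans h4)))
    obtain ⟨L, hL⟩ := IsPrecomplete.prec (I := m) inferInstance (f := r) fun {a b} hab => by
      rw [SModEq.sub_mem, smul_eq_mul, Ideal.mul_top]
      exact Ideal.pow_le_pow_right (Nat.le_succ a) (hstep a b hab)
    refine ⟨L, sub_eq_zero.1 (hzero _ fun n => ?_)⟩
    change ψ n (φ L - s) = 0
    rw [map_sub, hcomm, ← hr n, ← map_sub, ← map_sub, Ideal.Quotient.eq_zero_iff_mem.2 ?_, map_zero]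
    have h1 : r (n + 1) - L ∈ m ^ (n + 1) := by
      have := hL (n + 1)
      rwa [SModEq.sub_mem, smul_eq_mul, Ideal.mul_top] at this
    have h2 := hstep n (n + 1) n.le_succ
    have : L - r n = -(r (n + 1) - L) - (r n - r (n + 1)) := by ring
    rw [this]
    exact (m ^ (n + 1)).sub_mem ((m ^ (n + 1)).neg_mem h1) h2

end Groth.Agent.S14285
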