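import Groth.Statements.S14294
import Mathlib

set_option autoImplicit false
universe u v
open PtDeg

namespace Groth.Agent.S14294

/-- Let A and G be abelian groups, written additively, and f : A → G a map which is pointed of degree 2,
that is f(x+y+z) + f(x) + f(y) + f(z) = f(x+y) + f(x+z) + f(y+z) for all x, y, z in A. If an integer
n satisfies n·x = 0 for every x in A, then 2n·f(x) = 0 for every x in A, and if moreover n is odd
then n·f(x) = 0 for every x in A. -/
theorem result {A : Type u} {G : Type v} [AddCommGroup A] [AddCommGroup G]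
    (f : A → G) (hf : ∀ x y z : A, f (x + y + z) + f x + f y + f z = f (x + y) + f (x + z) + f (y + z))
    (n : ℤ) (hn : ∀ x : A, n • x = 0) :
    (∀ x : A, (2 * n) • f x = 0) ∧ (Odd n → ∀ x : A, n • f x = 0) := by
  have h0 : f 0 = 0 := by
    have h := hf 0 0 0
    simp only [add_zero] at h
    simpa using h
  have hrec : ∀ (m : ℤ) x, f ((m + 1) • x) + f ((m - 1) • x) = 2 • f (m • x) + f x + f (-x) := by
    intro m x
    have h := hf (m • x) x (-x)
    rw [add_neg_cancel_right, add_neg_cancel, h0, add_zero, ← sub_eq_add_neg] at h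
    rw [add_smul, sub_smul, one_smul, ← h, two_smul]
  have hform : ∀ (m : ℤ) x,
      f (m • x) = (m * (m + 1) / 2) • f x + (m * (m - 1) / 2) • f (-x) := by
    intro m x
    have hm : ∀ q : ℤ, 2 ∣ q * (q + 1) := fun q => (Int.even_mul_succ_self q).two_dvd
    suffices ∀ m : ℤ, (f (m • x) = (m * (m + 1) / 2) • f x + (m * (m - 1) / 2) • f (-x)) ∧
        f ((m + 1) • x) = ((m + 1) * (m + 1 + 1) / 2) • f x + ((m + 1) * (m + 1 - 1) / 2) • f (-x)
      from (this m).1
    intro m
    induction m using Int.induction_on with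
    | zero => simp [h0]
    | succ k ih =>
      refine ⟨ih.2, ?_⟩
      have h := hrec (k + 1) x
      rw [show ((k : ℤ) + 1 - 1) = k by ring, ih.1, ih.2, ← eq_sub_iff_add_eq] at h
      obtain ⟨a, ha⟩ := hm (k - 1)
      obtain ⟨b, hb⟩ := hm k
      obtain ⟨c, hc⟩ := hm (k + 1)
      obtain ⟨d, hd⟩ := hm (k + 2)
      rw [h, show ((k : ℤ) + 1) * (k + 1 + 1) = 2 * c by linarith,
        show ((k : ℤ) + 1) * (k + 1 - 1) = 2 * b by linarith,
        show (k : ℤ) * (k + 1) = 2 * b by linarith, show (k : ℤ) * (k - 1) = 2 * a by linarith,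
        show ((k : ℤ) + 1 + 1) * (k + 1 + 1 + 1) = 2 * d by linarith,
        show ((k : ℤ) + 1 + 1) * (k + 1 + 1 - 1) = 2 * c by linarith]
      simp only [Int.mul_ediv_cancel_left _ (two_ne_zero : (2 : ℤ) ≠ 0)]
      rw [show d = 2 * c - b + 1 by linarith, show c = 2 * b - a + 1 by linarith]
      module
    | pred k ih =>
      refine ⟨?_, by rw [sub_add_cancel]; exact ih.1⟩
      have h := hrec (-k) x
      rw [ih.1, ih.2, ← eq_sub_iff_add_eq'] at h
      obtain ⟨a, ha⟩ := hm (-k - 2)
      obtain ⟨b, hb⟩ := hm (-k - 1)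
      obtain ⟨c, hc⟩ := hm (-k)
      obtain ⟨d, hd⟩ := hm (-k + 1)
      rw [h, show (-(k : ℤ) + 1) * (-k + 1 + 1) = 2 * d by linarith,
        show (-(k : ℤ) + 1) * (-k + 1 - 1) = 2 * c by linarith,
        show -(k : ℤ) * (-k + 1) = 2 * c by linarith, show -(k : ℤ) * (-k - 1) = 2 * b by linarith,
        show (-(k : ℤ) - 1) * (-k - 1 + 1) = 2 * b by linarith,
        show (-(k : ℤ) - 1) * (-k - 1 - 1) = 2 * a by linarith]
      simp only [Int.mul_ediv_cancel_left _ (two_ne_zero : (2 : ℤ) ≠ 0)]
      rw [show a = 2 * b - c + 1 by linarith, show d = 2 * c - b + 1 by linarith]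
      module
  obtain ⟨a, ha⟩ := (Int.even_mul_succ_self n).two_dvd
  obtain ⟨b, hb⟩ : 2 ∣ n * (n - 1) := (Int.even_mul_pred_self n).two_dvd
  have e1 : ∀ y, a • f y + b • f (-y) = 0 := by
    intro y
    have h := hform n y
    rw [hn, h0, ha, hb, Int.mul_ediv_cancel_left _ (two_ne_zero : (2 : ℤ) ≠ 0),
      Int.mul_ediv_cancel_left _ (two_ne_zero : (2 : ℤ) ≠ 0)] at h
    exact h.symm
  have e2 : ∀ y, (a + n) • f y + a • f (-y) = 0 := by
    intro y
    have h := hform (n + 1) y
    rw [add_smul, hn, zero_add, one_smul, show (n + 1) * (n + 1 + 1) = 2 * (a + n + 1) by linarith,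
      show (n + 1) * (n + 1 - 1) = 2 * a by linarith,
      Int.mul_ediv_cancel_left _ (two_ne_zero : (2 : ℤ) ≠ 0),
      Int.mul_ediv_cancel_left _ (two_ne_zero : (2 : ℤ) ≠ 0), add_smul, one_smul] at h
    linear_combination (norm := module) -h
  have hab : a = b + n := by linarith
  have e3 : ∀ x, n • f x + n • f (-x) = 0 := fun x => by
    subst hab
    linear_combination (norm := module) e2 x - e1 x
  have e4 : ∀ x, n • f x - n • f (-x) = 0 := fun x => by
    subst hab
    have h := e1 (-x)
    rw [neg_neg] at h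
    linear_combination (norm := module) e1 x - h
  refine ⟨fun x => by linear_combination (norm := module) e3 x + e4 x, fun hodd x => ?_⟩
  obtain ⟨k, rfl⟩ := hodd
  have hb' : b = (2 * k + 1) * k := by linarith
  have h := e1 x
  rw [hab, hb'] at h
  linear_combination (norm := module) h - k • e3 x

end Groth.Agent.S14294
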