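import Groth.Statements.S14295
import Mathlib
import Groth.Agent.S14294

set_option autoImplicit false
universe u v
open PtDeg

namespace Groth.Agent.S14295

/-- Let A and G be abelian groups, written additively, and f : A → G a map which is pointed of degree 2,
that is f(x+y+z) + f(x) + f(y) + f(z) = f(x+y) + f(x+z) + f(y+z) for all x, y, z in A. Then for
every integer n and every x in A one has f(n·x) = (n(n+1)/2)·f(x) + (n(n−1)/2)·f(−x) (the two
coefficients are the integers n(n+1)/2 and n(n−1)/2). -/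
theorem result {A : Type u} {G : Type v} [AddCommGroup A] [AddCommGroup G]
    (f : A → G) (hf : ∀ x y z : A, f (x + y + z) + f x + f y + f z = f (x + y) + f (x + z) + f (y + z))
    (n : ℤ) (x : A) :
    f (n • x) = (n * (n + 1) / 2) • f x + (n * (n - 1) / 2) • f (-x) := by
  have h0 : f 0 = 0 := by
    have h := hf 0 0 0
    simp only [add_zero] at h
    simpa using h
  have hrec : ∀ (m : ℤ), f ((m + 1) • x) + f ((m - 1) • x) = 2 • f (m • x) + f x + f (-x) := by
    intro m
    have h := hf (m • x) x (-x)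
    rw [add_neg_cancel_right, add_neg_cancel, h0, add_zero, ← sub_eq_add_neg] at h
    rw [add_smul, sub_smul, one_smul, ← h, two_smul]
  have hm : ∀ q : ℤ, 2 ∣ q * (q + 1) := fun q => (Int.even_mul_succ_self q).two_dvd
  suffices ∀ m : ℤ, (f (m • x) = (m * (m + 1) / 2) • f x + (m * (m - 1) / 2) • f (-x)) ∧
      f ((m + 1) • x) = ((m + 1) * (m + 1 + 1) / 2) • f x + ((m + 1) * (m + 1 - 1) / 2) • f (-x)
    from (this n).1
  intro m
  induction m using Int.induction_on with
  | zero => simp [h0]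
  | succ k ih =>
    refine ⟨ih.2, ?_⟩
    have h := hrec (k + 1)
    rw [show ((k : ℤ) + 1 - 1) = k by ring, ih.1, ih.2, ← eq_sub_iff_add_eq] at h
    obtain ⟨a, ha⟩ := hm (k - 1)
    obtain ⟨b, hb⟩ := hm k
    obtain ⟨c, hc⟩ := hm (k + 1)
    obtain ⟨d, hd⟩ := hm (k + 2)
    rw [h, show ((k : ℤ) + 1) * (k + 1 + 1) = 2 * c by linarith,
      show ((k : ℤ) + 1) * (k + 1 - 1) = 2 * b by linarith,
      show (k : ℤ) * (k + 1) = 2 * b by linarith, show (k : ℤ) * (k - 1) = 2 * a by linarith,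
      show ((k : ℤ) + 1 + 1) * (k + 1 + 1 + 1) = 2 * d by linarith,
      show ((k : ℤ) + 1 + 1) * (k + 1 + 1 - 1) = 2 * c by linarith]
    simp only [Int.mul_ediv_cancel_left _ (two_ne_zero : (2 : ℤ) ≠ 0)]
    rw [show d = 2 * c - b + 1 by linarith, show c = 2 * b - a + 1 by linarith]
    module
  | pred k ih =>
    refine ⟨?_, by rw [sub_add_cancel]; exact ih.1⟩
    have h := hrec (-k)
    rw [ih.1, ih.2, ← eq_sub_iff_add_eq'] at h
    obtain ⟨a, ha⟩ := hm (-k - 2)
    obtain ⟨b, hb⟩ := hm (-k - 1)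
    obtain ⟨c, hc⟩ := hm (-k)
    obtain ⟨d, hd⟩ := hm (-k + 1)
    rw [h, show (-(k : ℤ) + 1) * (-k + 1 + 1) = 2 * d by linarith,
      show (-(k : ℤ) + 1) * (-k + 1 - 1) = 2 * c by linarith,
      show -(k : ℤ) * (-k + 1) = 2 * c by linarith, show -(k : ℤ) * (-k - 1) = 2 * b by linarith,
      show (-(k : ℤ) - 1) * (-k - 1 + 1) = 2 * b by linarith,
      show (-(k : ℤ) - 1) * (-k - 1 - 1) = 2 * a by linarith]
    simp only [Int.mul_ediv_cancel_left _ (two_ne_zero : (2 : ℤ) ≠ 0)]
    rw [show a = 2 * b - c + 1 by linarith, show d = 2 * c - b + 1 by linarith]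
    module

end Groth.Agent.S14295
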