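import Groth.Statements.S14297
import Mathlib.Topology.ContinuousMap.StoneWeierstrass
import Mathlib.Topology.UrysohnsLemma
import Mathlib.Topology.CompactOpen
import Mathlib.MeasureTheory.Constructions.Pi
import Mathlib.MeasureTheory.Integral.Prod
import Mathlib.MeasureTheory.Group.Integral

set_option autoImplicit false
universe u
open MeasureTheory
open PtDeg

namespace Groth.Agent.S14297

variable {G : Type u} [AddCommGroup G] [TopologicalSpace G] [IsTopologicalAddGroup G]
  [CompactSpace G] [T2Space G] [MeasurableSpace G] [BorelSpace G]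

omit [AddCommGroup G] [IsTopologicalAddGroup G] in
/-- continuous functions on a finite power of `G` are measurable for the product σ-algebra -/
lemma measurable_of_continuous {n : ℕ} {f : (Fin n → G) → ℝ} (hf : Continuous f) : Measurable f := by
  let A : Subalgebra ℝ C(Fin n → G, ℝ) :=
    { carrier := {h | Measurable h}
      mul_mem' := fun {a b} ha hb => by simpa using ha.mul hb
      add_mem' := fun {a b} ha hb => by simpa using ha.add hb
      algebraMap_mem' := fun r => by
        show Measurable fun _ => _
        exact measurable_const }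
  have hA : A.SeparatesPoints := by
    intro x y hxy
    obtain ⟨i, hi⟩ := Function.ne_iff.1 hxy
    obtain ⟨φ, h0, h1, -⟩ := exists_continuous_zero_one_of_isClosed (isClosed_singleton (x := x i))
      (isClosed_singleton (x := y i)) (Set.disjoint_singleton.2 hi)
    refine ⟨φ ∘ fun z => z i, ⟨φ.comp ⟨fun z => z i, continuous_apply i⟩, ?_, rfl⟩, ?_⟩
    · exact φ.continuous.measurable.comp (measurable_pi_apply i)
    · simp [h0 (Set.mem_singleton _), h1 (Set.mem_singleton _)]
  have hcl : IsClosed (A : Set C(Fin n → G, ℝ)) := isSeqClosed_iff_isClosed.1 fun h h' hh hl =>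
    measurable_of_tendsto_metrizable hh
      (tendsto_pi_nhds.2 fun z => ((continuous_eval_const z).tendsto h').comp hl)
  have := ContinuousMap.subalgebra_topologicalClosure_eq_top_of_separatesPoints A hA
  have h : (⟨f, hf⟩ : C(Fin n → G, ℝ)) ∈ A.topologicalClosure := by rw [this]; trivial
  rwa [← SetLike.mem_coe, Subalgebra.topologicalClosure_coe, hcl.closure_eq] at h

variable (μ : Measure G) [μ.IsAddHaarMeasure] [IsProbabilityMeasure μ]

/-- the product measure -/
noncomputable abbrev P (n : ℕ) : Measure (Fin n → G) := Measure.pi fun _ : Fin n => μ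

omit [AddCommGroup G] [IsTopologicalAddGroup G] [μ.IsAddHaarMeasure] in
lemma integrable {n : ℕ} {f : (Fin n → G) → ℝ} (hf : Continuous f) : Integrable f (P μ n) := by
  obtain ⟨C, hC⟩ := (isCompact_range hf).isBounded.exists_norm_le
  exact Integrable.of_bound (measurable_of_continuous hf).aestronglyMeasurable C
    (Filter.Eventually.of_forall fun x => hC _ ⟨x, rfl⟩)

omit [AddCommGroup G] [IsTopologicalAddGroup G] [μ.IsAddHaarMeasure] in
lemma fubini {n : ℕ} {f : (Fin (n + 1) → G) → ℝ} (hf : Continuous f) :
    ∫ u, f u ∂P μ (n + 1) = ∫ c, ∫ u, f (Fin.cons c u) ∂P μ n ∂μ ∧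
    ∫ u, f u ∂P μ (n + 1) = ∫ u, ∫ c, f (Fin.cons c u) ∂μ ∂P μ n ∧
    Integrable (fun c => ∫ u, f (Fin.cons c u) ∂P μ n) μ := by
  have he := measurePreserving_piFinSuccAbove (fun _ : Fin (n + 1) => μ) 0
  let e := MeasurableEquiv.piFinSuccAbove (fun _ : Fin (n + 1) => G) 0
  have hi : Integrable (fun z => f (e.symm z)) (μ.prod (P μ n)) := by
    have := integrable μ hf
    rw [← (he.symm e).integrable_comp_emb e.symm.measurableEmbedding] at this
    exact this
  have h0 : ∫ u, f u ∂P μ (n + 1) = ∫ z, f (e.symm z) ∂μ.prod (P μ n) :=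
    ((he.symm e).integral_comp e.symm.measurableEmbedding f).symm
  have hs : ∀ c u, e.symm (c, u) = Fin.cons c u := fun c u => Fin.insertNth_zero' c u
  refine ⟨?_, ?_, ?_⟩
  · rw [h0, integral_prod _ hi]; simp only [hs]
  · rw [h0, integral_prod_symm _ hi]; simp only [hs]
  · simpa only [hs] using hi.integral_prod_left

omit [AddCommGroup G] [IsTopologicalAddGroup G] [MeasurableSpace G] [BorelSpace G] [T2Space G] in
lemma continuous_integral_param {X Y : Type u} [TopologicalSpace X] [TopologicalSpace Y]
    [CompactSpace Y] [MeasurableSpace Y] (ν : Measure Y) [IsProbabilityMeasure ν]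
    {f : X × Y → ℝ} (hf : Continuous f) (hi : ∀ h : C(Y, ℝ), Integrable h ν) :
    Continuous fun x => ∫ y, f (x, y) ∂ν := by
  have hL : LipschitzWith 1 fun h : C(Y, ℝ) => ∫ y, h y ∂ν := by
    refine LipschitzWith.of_dist_le_mul fun h h' => ?_
    rw [NNReal.coe_one, one_mul, dist_eq_norm, ← integral_sub (hi h) (hi h')]
    refine (norm_integral_le_of_norm_le_const (C := dist h h') (Filter.Eventually.of_forall fun y => ?_)).trans
      (le_of_eq ?_)
    · exact ((h - h').norm_coe_le_norm y).trans_eq (dist_eq_norm h h').symm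
    · simp
  exact hL.continuous.comp (ContinuousMap.curry ⟨f, hf⟩).continuous

omit [AddCommGroup G] [IsTopologicalAddGroup G] [μ.IsAddHaarMeasure] in
lemma continuous_int {n : ℕ} {f : (Fin (n + 1) → G) → ℝ} (hf : Continuous f) :
    Continuous fun g => ∫ u, f (Fin.cons g u) ∂P μ n :=
  continuous_integral_param (P μ n) (f := fun p => f (Fin.cons p.1 p.2))
    (hf.comp (Continuous.finCons (A := fun _ => G) continuous_fst continuous_snd)) fun h => integrable μ h.continuous

/-- recursive form of the deviation, with the empty subset included -/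
def D : (n : ℕ) → (G → ℝ) → (Fin n → G) → ℝ
  | 0, F, _ => F 0
  | n + 1, F, x => D n F (Fin.tail x) - D n (fun g => F (g + x 0)) (Fin.tail x)

omit [TopologicalSpace G] [IsTopologicalAddGroup G] [CompactSpace G] [T2Space G] [MeasurableSpace G]
  [BorelSpace G] in
lemma D_eq_sum (n : ℕ) : ∀ (F : G → ℝ) (x : Fin n → G),
    D n F x = ∑ I ∈ (Finset.univ : Finset (Fin n)).powerset, (-1 : ℝ) ^ I.card * F (∑ i ∈ I, x i) := by
  induction n with
  | zero => intro F x; simp [D]
  | succ n ih =>
    intro F x
    have hp : ∀ (e : Fin n ↪ Fin (n + 1)) (s : Finset (Fin n)),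
        (s.map e).powerset = s.powerset.map ⟨Finset.map e, Finset.map_injective e⟩ := by
      intro e s
      ext t
      simp only [Finset.mem_powerset, Finset.mem_map, Function.Embedding.coeFn_mk,
        Finset.subset_map_iff]
      grind
    rw [D, ih, ih, Fin.univ_succ, Finset.cons_eq_insert, Finset.sum_powerset_insert (by simp), hp,
      Finset.sum_map, Finset.sum_map, sub_eq_add_neg, ← Finset.sum_neg_distrib]
    congr 1
    · refine Finset.sum_congr rfl fun t _ => ?_
      simp [Fin.tail]
    · refine Finset.sum_congr rfl fun t _ => ?_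
      have h0 : (0 : Fin (n + 1)) ∉ t.map ⟨Fin.succ, Fin.succ_injective _⟩ := by simp
      simp only [Function.Embedding.coeFn_mk, Finset.card_insert_of_notMem h0, Finset.sum_insert h0,
        Finset.card_map, Finset.sum_map, Fin.tail, pow_succ]
      rw [add_comm (x 0)]
      ring

omit [MeasurableSpace G] [BorelSpace G] [CompactSpace G] [T2Space G] in
lemma continuous_D (n : ℕ) : ∀ {F : G → ℝ}, Continuous F → Continuous fun p : G × (Fin n → G) =>
    D n (fun g => F (g + p.1)) p.2 := by
  intro F hF
  simp only [D_eq_sum]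
  fun_prop

omit [MeasurableSpace G] [BorelSpace G] [CompactSpace G] [T2Space G] in
lemma continuous_D' (n : ℕ) {F : G → ℝ} (hF : Continuous F) : Continuous (D n F) := by
  have : D n F = fun x => D n F x := rfl
  rw [this]
  simp only [D_eq_sum]
  fun_prop

/-- the mean of a deviation -/
lemma integral_D (n : ℕ) : ∀ (F : G → ℝ), Continuous F →
    ∫ u, D (n + 1) F u ∂P μ (n + 1) = F 0 - ∫ g, F g ∂μ := by
  induction n with
  | zero =>
    intro F hF
    rw [(fubini μ (continuous_D' 1 hF)).1]
    simp only [D, Fin.cons_zero, zero_add, integral_const, probReal_univ, one_smul]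
    rw [integral_sub (integrable_const _)]
    · simp
    · exact hF.integrable_of_hasCompactSupport (HasCompactSupport.of_compactSpace F)
  | succ n ih =>
    intro F hF
    have hF' : ∀ c, Continuous fun g => F (g + c) := fun c => by fun_prop
    rw [(fubini μ (continuous_D' (n + 2) hF)).1]
    have h : ∀ c, ∫ u, D (n + 2) F (Fin.cons c u) ∂P μ (n + 1) = F 0 - F c := by
      intro c
      have e : ∀ u, D (n + 2) F (Fin.cons c u) =
          D (n + 1) F u - D (n + 1) (fun g => F (g + c)) u := fun u => by
        rw [D, Fin.tail_cons, Fin.cons_zero]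
      simp only [e]
      rw [integral_sub (integrable μ (continuous_D' _ hF)) (integrable μ (continuous_D' _ (hF' c))),
        ih F hF, ih _ (hF' c), integral_add_right_eq_self (fun g => F g) c, zero_add]
      ring
    simp only [h]
    rw [integral_sub (integrable_const _)
      (hF.integrable_of_hasCompactSupport (HasCompactSupport.of_compactSpace F))]
    simp

/-- `ψ` is a cocycle in each pair of variables -/
def Coc {n : ℕ} (ψ : (Fin n → G) → ℝ) : Prop :=
  ∀ (i j : Fin n), i ≠ j → ∀ (x : Fin n → G) (a b c : G),
      ψ (Function.update (Function.update x i (a + b)) j c) + ψ (Function.update (Function.update x i a) j b) =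
        ψ (Function.update (Function.update x i a) j (b + c)) + ψ (Function.update (Function.update x i b) j c)

/-- averaging over all but the first variable -/
noncomputable def av (n : ℕ) (ψ : (Fin (n + 1) → G) → ℝ) (g : G) : ℝ :=
  ∫ u, ψ (Fin.cons g u) ∂P μ n

theorem recover (m : ℕ) : ∀ (ψ : (Fin (m + 1) → G) → ℝ), Continuous ψ → Coc ψ → ∀ x,
    ψ x = -(D (m + 1) (av μ m ψ) x - av μ m ψ 0) := by
  induction m with
  | zero =>
    intro ψ _ _ x
    simp only [av, D, zero_add]
    rw [neg_sub, sub_sub_self]
    have hx : ∀ u : Fin 0 → G, ψ (Fin.cons (x 0) u) = ψ x := fun u => by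
      congr 1; ext i; fin_cases i; rfl
    simp [hx, probReal_univ]
  | succ m ih =>
    intro ψ hψc hψ x
    let ins : G → (Fin (m + 1) → G) → Fin (m + 2) → G := fun c y => Fin.insertNth 1 c y
    let φ : (Fin (m + 1) → G) → ℝ := fun y => ∫ c, ψ (ins c y) ∂μ
    have hins : Continuous fun p : (Fin (m + 1) → G) × G => ψ (ins p.2 p.1) :=
      hψc.comp (Continuous.finInsertNth (A := fun _ => G) 1 continuous_snd continuous_fst)
    have hiG : ∀ h : C(G, ℝ), Integrable h μ := fun h =>
      h.continuous.integrable_of_hasCompactSupport (HasCompactSupport.of_compactSpace h)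
    have hφc : Continuous φ := continuous_integral_param μ hins hiG
    have hi : ∀ y, Integrable (fun c => ψ (ins c y)) μ := fun y =>
      hiG ⟨fun c => ψ (ins c y), hins.comp (continuous_const.prodMk continuous_id)⟩
    have hφ : Coc φ := by
      intro i j hij y a b c
      simp only [φ]
      rw [← integral_add (hi _) (hi _), ← integral_add (hi _) (hi _)]
      refine integral_congr_ae (Filter.Eventually.of_forall fun d => ?_)
      simp only [ins, Fin.insertNth_update]
      exact hψ _ _ (fun e => hij (Fin.succAbove_right_injective e)) _ a b c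
    have hav : av μ m φ = av μ (m + 1) ψ := by
      funext g
      simp only [av, φ]
      rw [(fubini μ (f := fun u => ψ (Fin.cons g u)) (hψc.comp (Continuous.finCons (A := fun _ => G) continuous_const continuous_id))).2.1]
      refine integral_congr_ae (Filter.Eventually.of_forall fun u => ?_)
      refine integral_congr_ae (Filter.Eventually.of_forall fun c => congrArg ψ ?_)
      simp only [ins]
      rw [Fin.insertNth_eq_iff]
      refine ⟨rfl, funext fun i => ?_⟩
      refine Fin.cases ?_ (fun i => ?_) i
      · simp [Fin.removeNth_apply]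
      · simp [Fin.removeNth_apply, Fin.succAbove_of_le_castSucc, Fin.le_def]
    -- the cocycle relation integrated over the second variable
    have key : ψ x = φ (Fin.cons (x 0) (Fin.tail (Fin.tail x))) + φ (Fin.cons (x 1) (Fin.tail (Fin.tail x))) -
        φ (Fin.cons (x 0 + x 1) (Fin.tail (Fin.tail x))) := by
      have h : ∀ c, ψ (ins c (Fin.cons (x 0 + x 1) (Fin.tail (Fin.tail x)))) + ψ x =
          ψ (ins (x 1 + c) (Fin.cons (x 0) (Fin.tail (Fin.tail x)))) +
            ψ (ins c (Fin.cons (x 1) (Fin.tail (Fin.tail x)))) := by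
        intro c
        have e : ∀ g d, ins d (Fin.cons g (Fin.tail (Fin.tail x))) =
            Function.update (Function.update x 0 g) 1 d := by
          intro g d
          funext i
          refine Fin.cases ?_ (fun i => ?_) i
          · rw [Function.update_of_ne (by simp [Fin.ext_iff]), Function.update_self]
            have h1 : (1 : Fin (m + 2)).succAbove 0 = 0 :=
              Fin.succAbove_ne_zero_zero (by simp [Fin.ext_iff])
            have h2 := Fin.insertNth_apply_succAbove (α := fun _ : Fin (m + 2) => G) 1 d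
              (Fin.cons g (Fin.tail (Fin.tail x))) 0
            rw [h1] at h2
            exact h2
          · refine Fin.cases ?_ (fun i => ?_) i
            · simp [ins, Fin.succ_zero_eq_one]
            · have h1 : i.succ.succ = (1 : Fin (m + 2)).succAbove i.succ := by
                rw [Fin.succAbove_of_le_castSucc]
                simp [Fin.le_def]
              rw [Function.update_of_ne (by simp [Fin.ext_iff]), Function.update_of_ne (Fin.succ_ne_zero _)]
              simp only [ins]
              rw [h1, Fin.insertNth_apply_succAbove, Fin.cons_succ, ← h1]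
              rfl
        have h2 := hψ 0 1 (by simp [Fin.ext_iff]) x (x 0) (x 1) c
        rw [Function.update_eq_self, Function.update_eq_self, ← e, ← e (x 1)] at h2
        rw [h2]
        congr 2
        rw [e, Function.update_eq_self]
      have hi' : Integrable (fun c => ψ (ins (x 1 + c) (Fin.cons (x 0) (Fin.tail (Fin.tail x))))) μ :=
        hiG ⟨_, (hins.comp (continuous_const.prodMk (continuous_const.add continuous_id)))⟩
      have h3 := integral_congr_ae (μ := μ) (Filter.Eventually.of_forall h)
      rw [integral_add (hi _) (integrable_const _), integral_add hi' (hi _),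
        integral_add_left_eq_self (fun c => ψ (ins c (Fin.cons (x 0) (Fin.tail (Fin.tail x))))) (x 1)]
        at h3
      simp only [integral_const, probReal_univ, one_smul] at h3
      simp only [φ]
      linarith
    rw [key, ih φ hφc hφ, ih φ hφc hφ, ih φ hφc hφ, hav]
    simp only [D, Fin.tail_cons, Fin.cons_zero]
    rw [show Fin.tail x 0 = x 1 from rfl]
    simp only [zero_add, add_assoc, add_comm (x 1) (x 0)]
    ring

/-- Let G be a compact Hausdorff commutative topological group, written additively, μ its Haar measure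
of total mass 1, m ≥ 1 an integer and ψ : G^{m+1} → ℝ a continuous function which is a 2-cocycle
with respect to every pair of variables: for all positions i ≠ j, every point x of G^{m+1} and all
a, b, c in G, writing x[i ↦ a, j ↦ c] for x with its i-th coordinate replaced by a and its j-th by
c, one has ψ(x[i ↦ a+b, j ↦ c]) + ψ(x[i ↦ a, j ↦ b]) = ψ(x[i ↦ a, j ↦ b+c]) + ψ(x[i ↦ b, j ↦ c]).
Let φ : G → ℝ be φ(g) = (−1)^m ∫_{G^m} ψ(g, u_1, …, u_m) dμ^{⊗m}(u). Then ψ is the (m+1)-st
deviation of φ, namely ψ(x) = Σ_{∅ ≠ I ⊆ {0,…,m}} (−1)^{m+1+|I|} φ(Σ_{i ∈ I} x_i) for every x; φ is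
continuous; and φ is the unique continuous function G → ℝ with this property. -/
theorem result {G : Type u} [AddCommGroup G] [TopologicalSpace G] [IsTopologicalAddGroup G] [CompactSpace G] [T2Space G]
    [MeasurableSpace G] [BorelSpace G] (μ : MeasureTheory.Measure G) [μ.IsAddHaarMeasure] [MeasureTheory.IsProbabilityMeasure μ]
    (m : ℕ) (hm : 1 ≤ m) (ψ : (Fin (m + 1) → G) → ℝ) (hψc : Continuous ψ)
    (hψ : ∀ (i j : Fin (m + 1)), i ≠ j → ∀ (x : Fin (m + 1) → G) (a b c : G),
      ψ (Function.update (Function.update x i (a + b)) j c) + ψ (Function.update (Function.update x i a) j b) =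
        ψ (Function.update (Function.update x i a) j (b + c)) + ψ (Function.update (Function.update x i b) j c)) :
    (∀ x : Fin (m + 1) → G,
      ψ x = ∑ I ∈ ((Finset.univ : Finset (Fin (m + 1))).powerset.erase ∅),
        (-1 : ℝ) ^ (m + 1 + I.card) * ((-1 : ℝ) ^ m *
          ∫ u, ψ (Fin.cons (∑ i ∈ I, x i) u) ∂(MeasureTheory.Measure.pi (fun _ : Fin m => μ)))) ∧
    Continuous (fun g : G => (-1 : ℝ) ^ m * ∫ u, ψ (Fin.cons g u) ∂(MeasureTheory.Measure.pi (fun _ : Fin m => μ))) ∧
    (∀ φ : G → ℝ, Continuous φ → (∀ x : Fin (m + 1) → G,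
      ψ x = ∑ I ∈ ((Finset.univ : Finset (Fin (m + 1))).powerset.erase ∅), (-1 : ℝ) ^ (m + 1 + I.card) * φ (∑ i ∈ I, x i)) →
      φ = fun g => (-1 : ℝ) ^ m * ∫ u, ψ (Fin.cons g u) ∂(MeasureTheory.Measure.pi (fun _ : Fin m => μ))) := by
  have hsum : ∀ (F : G → ℝ) (x : Fin (m + 1) → G),
      ∑ I ∈ ((Finset.univ : Finset (Fin (m + 1))).powerset.erase ∅),
        (-1 : ℝ) ^ (m + 1 + I.card) * F (∑ i ∈ I, x i) = (-1) ^ (m + 1) * (D (m + 1) F x - F 0) := by
    intro F x
    rw [D_eq_sum, ← Finset.sum_erase_add _ _ (Finset.empty_mem_powerset _), Finset.card_empty,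
      pow_zero, one_mul, Finset.sum_empty, add_sub_cancel_right, Finset.mul_sum]
    exact Finset.sum_congr rfl fun I _ => by rw [pow_add]; ring
  have hneg : (-1 : ℝ) ^ m * (-1) ^ m = 1 := by rw [← mul_pow]; norm_num
  refine ⟨fun x => ?_, (continuous_int μ hψc).const_smul ((-1 : ℝ) ^ m), fun φ hφc hφ => ?_⟩
  · rw [hsum (fun g => (-1 : ℝ) ^ m * ∫ u, ψ (Fin.cons g u) ∂Measure.pi fun _ => μ) x,
      recover μ m ψ hψc hψ x]
    have hD : ∀ (n : ℕ) (c : ℝ) (F : G → ℝ) (y : Fin n → G), D n (fun g => c * F g) y = c * D n F y := by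
      intro n c F y
      simp only [D_eq_sum, Finset.mul_sum]
      exact Finset.sum_congr rfl fun I _ => by ring
    rw [hD, pow_succ]
    change -(D (m + 1) (av μ m ψ) x - av μ m ψ 0) = (-1) ^ m * -1 *
      ((-1) ^ m * D (m + 1) (av μ m ψ) x - (-1) ^ m * av μ m ψ 0)
    linear_combination (D (m + 1) (av μ m ψ) x - av μ m ψ 0) * hneg
  · funext g
    obtain ⟨k, rfl⟩ : ∃ k, m = k + 1 := ⟨m - 1, by omega⟩
    have hsh : Continuous fun h => φ (h + g) := by fun_prop
    have e : ∀ u, ψ (Fin.cons g u) =
        (-1) ^ (k + 1 + 1) * (D (k + 1) φ u - D (k + 1) (fun h => φ (h + g)) u - φ 0) := fun u => by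
      rw [hφ, hsum, D, Fin.tail_cons, Fin.cons_zero]
    simp only [e]
    rw [integral_const_mul, integral_sub (f := fun u => D (k + 1) φ u - D (k + 1) (fun h => φ (h + g)) u)
        (g := fun _ => φ 0) ((integrable μ (continuous_D' _ hφc)).sub
        (integrable μ (continuous_D' _ hsh))) (integrable_const _),
      integral_sub (integrable μ (continuous_D' _ hφc)) (integrable μ (continuous_D' _ hsh)),
      integral_D μ k φ hφc, integral_D μ k _ hsh, integral_add_right_eq_self (fun g => φ g) g,
      integral_const, probReal_univ, one_smul, zero_add, pow_succ _ (k + 1)]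
    linear_combination -(φ g) * hneg

end Groth.Agent.S14297
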