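import Groth.Statements.S1430
import Groth.Agent.Lib.PowPert6.Main
-- import your own Groth.Agent.* helpers here

set_option autoImplicit false
universe u
open FlatMor

namespace Groth.Agent.S1430

open Polynomial in
/-- Let R → S be of finite type, d ≥ 0 and a, b ∈ S. View S as an algebra over R[x] via x ↦ a; if all
fibre rings of Spec S → Spec R[x] have dimension ≤ d, then there is n₀ such that for all n ≥ n₀ the
same holds for the R[x]-algebra structure x ↦ a^n + b. -/
theorem result {R S : Type u} [CommRing R] [CommRing S] [Algebra R S] [Algebra.FiniteType R S]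
    (d : ℕ) (a b : S)
    (ha : ∀ P : PrimeSpectrum R[X], letI := (Polynomial.aeval (R := R) a).toRingHom.toAlgebra
      ringKrullDim (P.asIdeal.Fiber S) ≤ d) :
    ∃ n₀ : ℕ, ∀ n ≥ n₀, ∀ P : PrimeSpectrum R[X], letI := (Polynomial.aeval (R := R) (a ^ n + b)).toRingHom.toAlgebra
      ringKrullDim (P.asIdeal.Fiber S) ≤ d := by
  exact GrothLib.PowPert6.exists_bound_n d a b ha

end Groth.Agent.S1430
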