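import Groth.Statements.S14302
import Groth.Agent.Lib.SplitRed1.MulLqf
import Groth.Agent.Lib.SplitRed1.MulFlat
import Groth.Agent.Lib.NeronIsog24.Dim
import Groth.Agent.Lib.CartTorsor.StabDim
import Groth.Agent.Lib.Depth.HartogsHom
import Groth.Agent.Lib.GrpSchField.SepPoint
import Groth.Agent.Lib.AlgSp.HenselPoint
import Groth.Agent.Lib.Neutral.Open
import Groth.Agent.Lib.Chev28.ConnValuation
-- import your own Groth.Agent.* helpers here

set_option autoImplicit false
set_option backward.isDefEq.respectTransparency false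
set_option maxHeartbeats 2000000
universe u
open CategoryTheory CategoryTheory.Limits MonoidalCategory CartesianMonoidalCategory MonObj GrpObj AlgebraicGeometry
open GrpSch

namespace Groth.Agent.S14302

open GrothLib in
/-- Power maps on smooth groups without additive subgroups are flat. -/
theorem flat_pow {S : Scheme.{u}} (A : Over S) [GrpObj A] [IsCommMonObj A] [Smooth A.hom] [IsSeparated A.hom]
    [QuasiCompact A.hom] (hA : SGA7.FibresUnipotentRankZero A) {n : ℕ} (hn : n ≠ 0) :
    LocallyQuasiFinite ((𝟙 A : A ⟶ A) ^ n).left ∧ Flat ((𝟙 A : A ⟶ A) ^ n).left := by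
  let f : A ⟶ A := 𝟙 A ^ n
  have hq : LocallyQuasiFinite f.left := by
    rw [GrothLib.SplitRed1.locallyQuasiFinite_iff_geomFibre]
    intro s
    haveI : Smooth (Red.geomFibre s A).hom := MorphismProperty.pullback_snd _ _ ‹Smooth A.hom›
    haveI : QuasiCompact (Red.geomFibre s A).hom := MorphismProperty.pullback_snd _ _ ‹QuasiCompact A.hom›
    haveI : IsCommMonObj (Red.geomFibre s A) := Functor.isCommMonObj_obj
    exact GrothLib.SplitRed1.lqf_pow_of_noGa _ (hA s) hn
  refine ⟨hq, ?_⟩
  haveI := hq
  haveI : Smooth (f.left ≫ A.hom) := by rw [Over.w]; infer_instance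
  refine GrothLib.NeronIsog24.flat_of_lqf f.left A.hom fun x => ?_
  simp only [Over.w]
  let s := A.hom x
  let Z := Red.bc (S.fromSpecResidueField s) A
  haveI : LocallyOfFiniteType Z.hom := MorphismProperty.pullback_snd _ _ inferInstance
  have hc : IsPullback (pullback.fst A.hom (S.fromSpecResidueField s)) Z.hom A.hom (S.fromSpecResidueField s) :=
    IsPullback.of_hasPullback _ _
  have key : ∀ y : A.left, A.hom y = s → FlatMor.fibreDimAt A.hom y = topologicalKrullDim Z.left := by
    intro y hy
    obtain ⟨z, hz, -⟩ := Scheme.Pullback.exists_preimage_pullback (f := A.hom) (g := S.fromSpecResidueField s) y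
      (IsLocalRing.closedPoint (S.residueField s)) (by rw [hy, Scheme.fromSpecResidueField_apply])
    haveI : Subsingleton ↥(Spec (S.residueField s)) := inferInstance
    rw [← GrothLib.CartTorsor.localDim_eq_dim Z z,
      ← GrothLib.AlgSp.fibreDimAt_eq_localDim_of_subsingleton Z.hom z, GrothLib.AlgSp.fibreDimAt_of_isPullback hc z, hz]
  rw [key x rfl, key (f.left x) (by rw [← Scheme.Hom.comp_apply, Over.w])]

open GrothLib in
/-- In the component of any point of a fibre there is a geometric torsion point. -/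
theorem exists_torsion_geom {S : Scheme.{u}} (A : Over S) [GrpObj A] [IsCommMonObj A] [Smooth A.hom] [IsSeparated A.hom]
    [QuasiCompact A.hom] (s : S) (hs : SGA7.FibreUnipotentRankZero s A) {n : ℕ} (hn : n ≠ 0) (a : A.left)
    (ha : A.hom a = s)
    (hΦ : ∀ b, A.hom b = s → ((𝟙 A : A ⟶ A) ^ n).left b ∈ connectedComponentIn (A.hom ⁻¹' {s}) (η[A].left s)) :
    ∃ b : A.left, b ∈ connectedComponentIn (A.hom ⁻¹' {s}) a ∧ ((𝟙 A : A ⟶ A) ^ n).left b = η[A].left s := by
  obtain ⟨A₀, _, i, hi, hio, hrange, hsm, hqc⟩ := GrothLib.Neutral.exists_neutralPart A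
  haveI := hi; haveI := hio; haveI := hsm; haveI := hqc
  haveI : Mono i := Over.mono_of_mono_left i
  haveI : IsCommMonObj A₀ := by
    rw [isCommMonObj_iff_isMulCommutative]
    exact fun X => ⟨⟨fun a b => by rw [← cancel_mono i, MonObj.mul_comp, MonObj.mul_comp, _root_.mul_comm]⟩⟩
  have hconn : ∀ t : S, ConnectedSpace ↥(Red.bc (S.fromSpecResidueField t) A₀).left := fun t => by
    have e : i.left '' (A₀.hom ⁻¹' {t}) = connectedComponentIn (A.hom ⁻¹' {t}) (η[A].left t) := by
      ext y
      constructor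
      · rintro ⟨z, hz, rfl⟩
        have h1 : i.left z ∈ SGA3x.neutralSet A := hrange ▸ Set.mem_range_self z
        have h2 : A.hom (i.left z) = t := by rw [← Scheme.Hom.comp_apply, Over.w]; exact hz
        rwa [GrothLib.Neutral.mem_neutralSet_iff, h2] at h1
      · intro hy
        have h2 : A.hom y = t := connectedComponentIn_subset (A.hom ⁻¹' {t}) _ hy
        have h1 : y ∈ SGA3x.neutralSet A := by rw [GrothLib.Neutral.mem_neutralSet_iff, h2]; exact hy
        obtain ⟨z, rfl⟩ : y ∈ Set.range i.left := hrange ▸ h1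
        refine ⟨z, ?_, rfl⟩
        rw [← Scheme.Hom.comp_apply, Over.w] at h2
        exact h2
    have hc : _root_.IsConnected (A₀.hom ⁻¹' {t}) := by
      refine ⟨⟨η[A₀].left t, GrothLib.Neutral.hom_unit A₀ t⟩, ?_⟩
      rw [← i.left.isOpenEmbedding.isInducing.isPreconnected_image, e]
      exact isPreconnected_connectedComponentIn
    rw [← A₀.hom.range_fiberι] at hc
    haveI : ConnectedSpace (Set.range (A₀.hom.fiberι t)) := Subtype.connectedSpace hc
    exact (A₀.hom.fiberι t).isEmbedding.toHomeomorph.symm.surjective.connectedSpace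
      (A₀.hom.fiberι t).isEmbedding.toHomeomorph.symm.continuous
  let L := AlgebraicClosure (S.residueField s)
  let c := Red.geomPt s
  let G := Red.geomFibre s A
  let G₀ := Red.geomFibre s A₀
  let ic : G₀ ⟶ G := (Over.pullback c).map i
  haveI : Smooth G.hom := MorphismProperty.pullback_snd A.hom c ‹Smooth A.hom›
  haveI : Smooth G₀.hom := MorphismProperty.pullback_snd A₀.hom c hsm
  haveI : QuasiCompact G₀.hom := MorphismProperty.pullback_snd A₀.hom c hqc
  haveI : IsSeparated G.hom := MorphismProperty.pullback_snd A.hom c ‹IsSeparated A.hom›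
  haveI : IsCommMonObj G := Functor.isCommMonObj_obj
  haveI : IsCommMonObj G₀ := Functor.isCommMonObj_obj
  haveI : ConnectedSpace G₀.left := GrothLib.SplitRed1.connectedSpace_geomFibre A₀ hconn s
  have sqi := GrothLib.SplitRed1.isPullback_map c i
  haveI hico : IsOpenImmersion ic.left := MorphismProperty.of_isPullback sqi hio
  haveI : IsMonHom ic := inferInstanceAs (IsMonHom ((Over.pullback c).map i))
  let pr := pullback.fst A.hom c
  have hpr : ∀ z, pr z ∈ A.hom ⁻¹' {s} := fun z => by
    show A.hom (pr z) = s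
    rw [← Scheme.Hom.comp_apply, pullback.condition, Scheme.Hom.comp_apply, GrothLib.SplitRed1.geomPt_apply]
  obtain ⟨z, hz, -⟩ := Scheme.Pullback.exists_preimage_pullback (f := A.hom) (g := c) a
    (IsLocalRing.closedPoint L) (ha.trans (GrothLib.SplitRed1.geomPt_apply s _).symm)
  haveI : QuasiCompact G.hom := MorphismProperty.pullback_snd A.hom c ‹QuasiCompact A.hom›
  haveI : IsLocallyNoetherian G.left := LocallyOfFiniteType.isLocallyNoetherian G.hom
  haveI : CompactSpace G.left := QuasiCompact.compactSpace_of_compactSpace G.hom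
  haveI : IsNoetherian G.left := ⟨⟩
  haveI : Finite (_root_.ConnectedComponents ↥G.left) := GrothLib.Chev28.finite_connectedComponents ↥G.left
  haveI : T1Space (_root_.ConnectedComponents ↥G.left) := TotallyDisconnectedSpace.t1Space
  let V : G.left.Opens := ⟨connectedComponent z, by
    rw [← connectedComponents_preimage_singleton]
    exact (isOpen_discrete _).preimage ConnectedComponents.continuous_coe⟩
  haveI : Nonempty (V : Scheme.{u}) := ⟨⟨z, mem_connectedComponent⟩⟩
  obtain ⟨q₁, hq₁⟩ := GrothLib.GrpSchField.exists_section_of_smooth (V.ι ≫ G.hom)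
  let q : 𝟙_ (Over (Spec (CommRingCat.of L))) ⟶ G := Over.homMk (q₁ ≫ V.ι) (by rw [Category.assoc]; exact hq₁)
  let pt : ↥(Spec (CommRingCat.of L)) := IsLocalRing.closedPoint L
  have hqz : pr (q.left pt) ∈ connectedComponentIn (A.hom ⁻¹' {s}) a := by
    refine ((isPreconnected_connectedComponent (x := z)).image _ pr.continuous.continuousOn).subset_connectedComponentIn
      ⟨z, mem_connectedComponent, hz⟩ ?_ ⟨q.left pt, (q₁ pt).2, rfl⟩
    rintro _ ⟨w, -, rfl⟩
    exact hpr w
  let fG : G ⟶ G := 𝟙 G ^ n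
  haveI : IsMonHom fG := GrothLib.GrpDeligne.isMonHom_pow (𝟙 G) n
  have hfG : fG.left ≫ pr = pr ≫ ((𝟙 A : A ⟶ A) ^ n).left := by
    rw [show fG = (Over.pullback c).map ((𝟙 A : A ⟶ A) ^ n) from (GrothLib.SplitRed1.geomFibre_map_pow A n s).symm]
    exact pullback.lift_fst _ _ _
  have hqn : pr ((q ≫ fG).left pt) ∈ Set.range i.left := by
    show (fG.left ≫ pr) (q.left pt) ∈ Set.range i.left
    rw [hfG, Scheme.Hom.comp_apply]
    have h1 := hΦ _ (hpr (q.left pt))
    rw [hrange]
    show ((𝟙 A : A ⟶ A) ^ n).left (pr (q.left pt)) ∈ SGA3x.neutralSet A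
    rw [GrothLib.Neutral.mem_neutralSet_iff,
      show A.hom (((𝟙 A : A ⟶ A) ^ n).left (pr (q.left pt))) = s from connectedComponentIn_subset (A.hom ⁻¹' {s}) _ h1]
    exact h1
  have hin : Set.range (q ≫ fG).left ⊆ Set.range ic.left := by
    rintro _ ⟨p', rfl⟩
    rw [Subsingleton.elim (α := PrimeSpectrum L) p' pt]
    exact (GrothLib.GITQuot.range_eq_preimage sqi.flip).ge hqn
  let r : 𝟙_ (Over (Spec (CommRingCat.of L))) ⟶ G₀ := Over.homMk (IsOpenImmersion.lift ic.left (q ≫ fG).left hin) (by
    rw [← Over.w ic, ← Category.assoc, IsOpenImmersion.lift_fac]; exact Over.w (q ≫ fG))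
  have hr : r ≫ ic = q ≫ fG := Over.OverMorphism.ext (IsOpenImmersion.lift_fac _ _ _)
  have hga : ∀ v : Red.Ga (Spec (CommRingCat.of L)) ⟶ G₀, IsMonHom v → IsClosedImmersion v.left → False := by
    intro v hv hvc
    haveI := hv; haveI := hvc
    haveI : IsClosedImmersion ic.left :=
      IsClosedImmersion.of_isPreimmersion _ (GrothLib.GrpSchField.isClosed_range_of_isLocallyClosed ic
        ic.left.isOpenEmbedding.isOpen_range.isLocallyClosed)
    exact hs (v ≫ ic) inferInstance (inferInstanceAs (IsClosedImmersion (v.left ≫ ic.left)))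
  let f₀ : G₀ ⟶ G₀ := 𝟙 G₀ ^ n
  haveI : Surjective f₀.left := GrothLib.SplitRed1.surjective_pow hn G₀ hga
  obtain ⟨y, hy⟩ := f₀.left.surjective (r.left pt)
  haveI : Nonempty ↥(pullback f₀.left r.left) := by
    obtain ⟨w, -, -⟩ := Scheme.Pullback.exists_preimage_pullback (f := f₀.left) (g := r.left) y pt hy
    exact ⟨w⟩
  let Wn : Over (Spec (CommRingCat.of L)) := Over.mk (pullback.snd f₀.left r.left)
  haveI : LocallyOfFiniteType f₀.left := by
    have : LocallyOfFiniteType (f₀.left ≫ G₀.hom) := by rw [Over.w f₀]; infer_instance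
    exact locallyOfFiniteType_of_comp f₀.left G₀.hom
  haveI : LocallyOfFiniteType Wn.hom := MorphismProperty.pullback_snd f₀.left r.left ‹LocallyOfFiniteType f₀.left›
  haveI : JacobsonSpace Wn.left := LocallyOfFiniteType.jacobsonSpace Wn.hom
  obtain ⟨w, -, hw⟩ : ∃ w : Wn.left, w ∈ Set.univ ∧ w ∈ closedPoints Wn.left :=
    nonempty_inter_closedPoints ⟨Classical.arbitrary (↥(pullback f₀.left r.left)), trivial⟩ isClosed_univ.isLocallyClosed
  let σ := pointOfClosedPoint (K := L) Wn.hom w hw
  have hσ : σ ≫ Wn.hom = 𝟙 _ := pointOfClosedPoint_comp Wn.hom w hw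
  let y' : 𝟙_ (Over (Spec (CommRingCat.of L))) ⟶ G₀ := Over.homMk (σ ≫ pullback.fst f₀.left r.left) (by
    rw [← Over.w f₀, Category.assoc, pullback.condition_assoc, ← Category.assoc]
    erw [hσ]
    erw [Category.id_comp]
    exact Over.w r)
  have hy' : y' ≫ f₀ = r := by
    apply Over.OverMorphism.ext
    show (σ ≫ pullback.fst f₀.left r.left) ≫ f₀.left = r.left
    rw [Category.assoc, pullback.condition, ← Category.assoc]
    erw [hσ]
    exact Category.id_comp _
  let b' : 𝟙_ (Over (Spec (CommRingCat.of L))) ⟶ G := q * (y'⁻¹ ≫ ic)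
  have hb' : b' ^ n = 1 := by
    have h1 : (y'⁻¹ ≫ ic) ^ n = ((y' ≫ f₀) ≫ ic)⁻¹ := by
      rw [GrpObj.inv_comp, inv_pow, ← MonObj.pow_comp]
      congr 2
      rw [MonObj.comp_pow, Category.comp_id]
    have h2 : q ^ n = q ≫ fG := by rw [MonObj.comp_pow, Category.comp_id]
    rw [mul_pow, h1, hy', hr, h2, mul_inv_cancel]
  refine ⟨pr (b'.left pt), ?_, ?_⟩
  · let m : G₀ ⟶ G := (toUnit G₀ ≫ q) * ic
    have hm1 : η[G₀] ≫ m = q := by
      rw [MonObj.comp_mul, IsMonHom.one_hom ic, ← Category.assoc, toUnit_unique (η[G₀] ≫ toUnit G₀) (𝟙 _),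
        Category.id_comp, show (η[G] : 𝟙_ _ ⟶ G) = 1 by rw [Hom.one_def, toUnit_unit, Category.id_comp], _root_.mul_one]
    have hm2 : y'⁻¹ ≫ m = b' := by
      rw [MonObj.comp_mul, ← Category.assoc, toUnit_unique (y'⁻¹ ≫ toUnit G₀) (𝟙 _), Category.id_comp]
    rw [connectedComponentIn_eq hqz]
    refine (isPreconnected_range (pr.continuous.comp m.left.continuous)).subset_connectedComponentIn
      ⟨η[G₀].left pt, ?_⟩ ?_ ⟨(y'⁻¹).left pt, ?_⟩
    · show pr (m.left (η[G₀].left pt)) = pr (q.left pt)
      rw [← hm1]; rfl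
    · rintro _ ⟨w', rfl⟩
      exact hpr _
    · show pr (m.left ((y'⁻¹).left pt)) = pr (b'.left pt)
      rw [← hm2]; rfl
  · rw [← Scheme.Hom.comp_apply, ← hfG, Scheme.Hom.comp_apply]
    show pr ((b' ≫ fG).left pt) = η[A].left s
    rw [show b' ≫ fG = η[G] by rw [MonObj.comp_pow, Category.comp_id, hb', Hom.one_def, toUnit_unit, Category.id_comp]]
    refine Eq.trans (congr($(GrothLib.Neutral.unit_fst A c) pt)) ?_
    rw [Scheme.Hom.comp_apply]
    exact congrArg _ (GrothLib.SplitRed1.geomPt_apply s pt)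

/-- Let R be a Noetherian normal local domain, S = Spec R with closed point s, and A → S a semi-stable
S-group scheme (commutative, smooth, separated and of finite type over S, no geometric fibre
containing a closed subgroup isomorphic to the additive group). Let U ⊆ S be a big open subscheme
(the local ring of S at every point outside U has depth at least 2) and n ≥ 1 an integer killing the
group of connected components of the special fibre: multiplication by n on A maps every point of A_s
into the connected component of the unit section inside A_s. Assume that for every algebraically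
closed field Ω with an injective ring map R → Ω, every point c of A with values in Spec Ω over S
satisfying c^n = 1 is obtained from a section u of A over U with u^n = 1 by composing with a
morphism Spec Ω → U over S. Then for every point a of the special fibre A_s there is a section u of
A over S with u^n = 1 whose value at s lies in the connected component of a inside A_s. (The
published lemma takes n killing the component groups of the fibres at the points outside U; this row
assumes it for the special fibre, which is the hypothesis its proof uses.) -/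
theorem result (R : Type u) [CommRing R] [IsDomain R]
    [IsNoetherianRing R] [IsLocalRing R] [IsIntegrallyClosed R]
    (A : Over (Spec (CommRingCat.of R))) [GrpObj A] [IsCommMonObj A] [Smooth A.hom] [IsSeparated A.hom] [QuasiCompact A.hom]
    (hA : SGA7.FibresUnipotentRankZero A)
    (U : (Spec (CommRingCat.of R)).Opens)
    (hU : ∀ x : ↥(Spec (CommRingCat.of R)), x ∉ U →
      2 ≤ LocCoh.depth ((Spec (CommRingCat.of R)).presheaf.stalk x) ((Spec (CommRingCat.of R)).presheaf.stalk x))
    (n : ℕ) (hn : 1 ≤ n)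
    (hΦ : ∀ a ∈ SGA7.specialFibreSet R A,
      ((𝟙 A) ^ n).left.base a ∈ connectedComponentIn (SGA7.specialFibreSet R A) (η[A].left.base (IsLocalRing.closedPoint R)))
    (hR1 : ∀ (Ω : Type u) [Field Ω] [IsAlgClosed Ω] [Algebra R Ω], Function.Injective (algebraMap R Ω) →
      ∀ c : Over.mk (Spec.map (CommRingCat.ofHom (algebraMap R Ω))) ⟶ A, c ^ n = 1 →
        ∃ (v : Over.mk U.ι ⟶ A) (g : Spec (CommRingCat.of Ω) ⟶ (U : Scheme.{u})),
          v ^ n = 1 ∧ g ≫ U.ι = Spec.map (CommRingCat.ofHom (algebraMap R Ω)) ∧ g ≫ v.left = c.left) :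
    ∀ a ∈ SGA7.specialFibreSet R A,
      ∃ u : 𝟙_ (Over (Spec (CommRingCat.of R))) ⟶ A, u ^ n = 1 ∧ a ∈ SGA7.secComp R A u := by
  let cpt : Spec (CommRingCat.of R) := IsLocalRing.closedPoint R
  have hn0 : n ≠ 0 := by omega
  intro a ha
  obtain ⟨b, hbcomp, hbn⟩ := exists_torsion_geom A cpt (hA cpt) hn0 a ha (fun x hx => hΦ x hx)
  let f : A ⟶ A := 𝟙 A ^ n
  obtain ⟨hq, hflat⟩ := flat_pow A hA hn0
  haveI : LocallyQuasiFinite f.left := hq
  haveI : Flat f.left := hflat
  let E := pullback f.left η[A].left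
  let e : E ⟶ A.left := pullback.fst f.left η[A].left
  let p : E ⟶ Spec (CommRingCat.of R) := pullback.snd f.left η[A].left
  haveI : LocallyOfFiniteType f.left := by
    have : LocallyOfFiniteType (f.left ≫ A.hom) := by rw [Over.w f]; infer_instance
    exact locallyOfFiniteType_of_comp f.left A.hom
  haveI : IsSeparated f.left := by
    have : IsSeparated (f.left ≫ A.hom) := by rw [Over.w f]; infer_instance
    exact IsSeparated.of_comp f.left A.hom
  haveI : QuasiCompact f.left := by
    have : QuasiCompact (f.left ≫ A.hom) := by rw [Over.w f]; infer_instance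
    exact QuasiCompact.of_comp f.left A.hom
  haveI : Flat p := MorphismProperty.pullback_snd _ _ ‹Flat f.left›
  haveI : LocallyQuasiFinite p := MorphismProperty.pullback_snd _ _ ‹LocallyQuasiFinite f.left›
  haveI : LocallyOfFiniteType p := MorphismProperty.pullback_snd _ _ ‹LocallyOfFiniteType f.left›
  haveI : IsSeparated p := MorphismProperty.pullback_snd _ _ ‹IsSeparated f.left›
  haveI : QuasiCompact p := MorphismProperty.pullback_snd _ _ ‹QuasiCompact f.left›
  haveI : IsClosedImmersion η[A].left := by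
    haveI : IsClosedImmersion (η[A].left ≫ A.hom) := by
      rw [show η[A].left ≫ A.hom = 𝟙 _ from Over.w η[A]]; infer_instance
    exact IsClosedImmersion.of_comp η[A].left A.hom
  haveI : IsClosedImmersion e := MorphismProperty.pullback_fst _ _ ‹IsClosedImmersion η[A].left›
  have hep : e ≫ A.hom = p := by
    rw [← Over.w f, pullback.condition_assoc]
    erw [Over.w η[A]]
    exact Category.comp_id _
  obtain ⟨b₁, hb₁, hpb⟩ := Scheme.Pullback.exists_preimage_pullback (f := f.left) (g := η[A].left) b cpt hbn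
  let ξ : Spec (CommRingCat.of R) := (⟨⊥, Ideal.isPrime_bot⟩ : PrimeSpectrum R)
  obtain ⟨w, hwb, hwξ⟩ := Flat.generalizingMap p
    (show ξ ⤳ p b₁ from (PrimeSpectrum.le_iff_specializes _ (p b₁)).mp (bot_le (a := (p b₁).asIdeal)))
  let Ω := AlgebraicClosure (E.residueField w)
  let cE : Spec (CommRingCat.of Ω) ⟶ E :=
    Spec.map (CommRingCat.ofHom (algebraMap (E.residueField w) Ω)) ≫ E.fromSpecResidueField w
  obtain ⟨θ, hθ⟩ := Spec.map_surjective (cE ≫ p)
  letI : Algebra R Ω := θ.hom.toAlgebra
  have hcE : cE (IsLocalRing.closedPoint Ω) = w := by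
    rw [Scheme.Hom.comp_apply]
    exact Scheme.fromSpecResidueField_apply w _
  have hinj : Function.Injective (algebraMap R Ω) := by
    rw [injective_iff_map_eq_zero]
    intro r hr
    have h1 : r ∈ ((Spec.map θ) (IsLocalRing.closedPoint Ω)).asIdeal := by
      show θ.hom r ∈ (IsLocalRing.closedPoint Ω).asIdeal
      rw [show θ.hom r = 0 from hr]
      exact Ideal.zero_mem _
    rw [hθ, Scheme.Hom.comp_apply, hcE, show p w = ξ from hwξ] at h1
    exact h1
  let cA : Over.mk (Spec.map (CommRingCat.ofHom (algebraMap R Ω))) ⟶ A := Over.homMk (cE ≫ e) (by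
    rw [Category.assoc, hep]
    exact hθ.symm)
  have hcA : cA ^ n = 1 := by
    rw [show cA ^ n = cA ≫ f by rw [MonObj.comp_pow, Category.comp_id]]
    apply Over.OverMorphism.ext
    show (cE ≫ e) ≫ f.left = _
    rw [Category.assoc, pullback.condition, Hom.one_def, Over.comp_left, ← Category.assoc]
    congr 1
    exact hθ.symm
  obtain ⟨v, g, hv, hg, hgv⟩ := hR1 Ω hinj cA hcA
  let vE : (U : Scheme.{u}) ⟶ E := pullback.lift v.left U.ι (by
    rw [← Over.comp_left, show v ≫ f = v ^ n by rw [MonObj.comp_pow, Category.comp_id], hv, Hom.one_def, Over.comp_left]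
    rfl)
  have hgw : vE (g (IsLocalRing.closedPoint Ω)) = w := by
    apply e.isClosedEmbedding.injective
    refine Eq.trans ?_ (congrArg e hcE)
    rw [← Scheme.Hom.comp_apply, ← Scheme.Hom.comp_apply, ← Scheme.Hom.comp_apply cE]
    have h1 : (g ≫ vE) ≫ e = cE ≫ e := by
      rw [Category.assoc, show vE ≫ e = v.left from pullback.lift_fst _ _ _]
      exact hgv
    rw [← Category.assoc]
    exact congrArg (fun m : Spec (CommRingCat.of Ω) ⟶ A.left => m (IsLocalRing.closedPoint Ω)) h1
  let j := p.toNormalization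
  let π := p.fromNormalization
  have hjπ : j ≫ π = p := p.toNormalization_fromNormalization
  haveI : IsOpenImmersion j := by
    haveI : Surjective p.quasiFiniteLocus.ι := ⟨fun x =>
      ⟨⟨x, by rw [p.quasiFiniteLocus_eq_top]; trivial⟩, rfl⟩⟩
    haveI : IsIso p.quasiFiniteLocus.ι := (isIso_iff_isOpenImmersion_and_surjective _).mpr ⟨inferInstance, inferInstance⟩
    haveI : IsOpenImmersion (p.quasiFiniteLocus.ι ≫ j) := inferInstanceAs (IsOpenImmersion (p.quasiFiniteLocus.ι ≫ p.toNormalization))
    rw [show j = inv p.quasiFiniteLocus.ι ≫ p.quasiFiniteLocus.ι ≫ j by rw [IsIso.inv_hom_id_assoc]]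
    infer_instance
  haveI : IsAffine p.normalization := isAffine_of_isAffineHom π
  have hU2 : GrothLib.Depth.DepthTwoOutside U := hU
  obtain ⟨σ, hσ, -⟩ := GrothLib.Depth.existsUnique_extension hU2 (vE ≫ j)
  have hσπ : σ ≫ π = 𝟙 _ := (GrothLib.Depth.existsUnique_extension hU2 U.ι).unique (by
    simp only [← Category.assoc, hσ]
    rw [Category.assoc, hjπ]
    exact pullback.lift_snd _ _ _) (Category.comp_id _)
  haveI : IsClosedImmersion σ := by
    haveI : IsClosedImmersion (σ ≫ π) := by rw [hσπ]; infer_instance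
    exact IsClosedImmersion.of_comp σ π
  have hjb : j b₁ ∈ Set.range σ := by
    refine (hwb.map j.continuous).mem_closed σ.isClosedEmbedding.isClosed_range ⟨U.ι (g (IsLocalRing.closedPoint Ω)), ?_⟩
    rw [← Scheme.Hom.comp_apply, hσ, Scheme.Hom.comp_apply, hgw]
  obtain ⟨r, hr⟩ := hjb
  have hrc : r = cpt := by
    have h := congrArg π hr
    rw [← Scheme.Hom.comp_apply, hσπ, ← Scheme.Hom.comp_apply, hjπ] at h
    exact h.trans hpb
  subst hrc
  have hsub : Set.range σ ⊆ Set.range j :=
    GrothLib.AlgSp.range_subset_of_closedPoint σ j.opensRange ⟨b₁, hr.symm⟩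
  let σE := IsOpenImmersion.lift j σ hsub
  have hσE : σE ≫ j = σ := IsOpenImmersion.lift_fac _ _ _
  have hσp : σE ≫ p = 𝟙 _ := by rw [← hjπ, ← Category.assoc, hσE, hσπ]
  let u : 𝟙_ (Over (Spec (CommRingCat.of R))) ⟶ A := Over.homMk (σE ≫ e) (by rw [Category.assoc, hep]; exact hσp)
  refine ⟨u, ?_, ?_⟩
  · rw [show u ^ n = u ≫ f by rw [MonObj.comp_pow, Category.comp_id]]
    apply Over.OverMorphism.ext
    show (σE ≫ e) ≫ f.left = _
    rw [Category.assoc, pullback.condition, ← Category.assoc]
    erw [hσp]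
    rw [Hom.one_def, toUnit_unit, Category.id_comp]
    rfl
  · have hσb : σE cpt = b₁ := by
      apply j.isOpenEmbedding.injective
      rw [← Scheme.Hom.comp_apply, hσE, hr]
    show a ∈ connectedComponentIn (A.hom ⁻¹' {cpt}) ((σE ≫ e) cpt)
    rw [Scheme.Hom.comp_apply, hσb, hb₁, ← connectedComponentIn_eq hbcomp]
    exact mem_connectedComponentIn ha

end Groth.Agent.S14302
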