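import Groth.Statements.S14303
import Groth.Agent.Lib.SplitRed1.IsogTor
import Groth.Agent.Lib.SplitRed1.DualProper
import Groth.Agent.Lib.NeronIsog24.Main
import Groth.Agent.Lib.GrpDeligne.AbVar
-- import your own Groth.Agent.* helpers here

set_option autoImplicit false
set_option backward.isDefEq.respectTransparency false
set_option maxHeartbeats 2000000
universe u
open CategoryTheory CategoryTheory.Limits MonoidalCategory CartesianMonoidalCategory MonObj GrpObj AlgebraicGeometry
open GrpSch

namespace Groth.Agent.S14303

/-- Let R be a discrete valuation ring with fraction field K and S = Spec R; let A → S be a semi-stable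
S-group scheme (commutative, smooth, separated and of finite type over S, no geometric fibre
containing a closed subgroup isomorphic to the additive group) whose generic fibre A_K is an abelian
variety (proper over K and connected); let A^t → S be a commutative S-group scheme which is a Néron
model of its generic fibre A^t_K, and let dual data φ present A^t_K as the dual of A_K for the fppf
topology. Let L be an invertible module on A_K whose associated homomorphism λ_K : A_K → A^t_K has
finite kernel (L is non-degenerate), and let λ : A → A^t be an S-morphism inducing λ_K on generic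
fibres (it exists and is unique by the Néron property). Then λ is flat and locally quasi-finite; in
particular its kernel, the closed subgroup K_S(L) of A, is flat and quasi-finite over S. (The
published statement assumes A only smooth of finite type with semi-stability as an extra hypothesis,
takes L rigidified, and also asserts that λ is surjective on neutral components; that assertion is
not stated here.) -/
theorem result
    (R K : Type u) [CommRing R] [IsDomain R] [IsDiscreteValuationRing R] [Field K] [Algebra R K] [IsFractionRing R K]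
    (A : Over (Spec (CommRingCat.of R))) [GrpObj A] [IsCommMonObj A] [Smooth A.hom] [IsSeparated A.hom] [QuasiCompact A.hom]
    (hA : SGA7.FibresUnipotentRankZero A)
    (hprop : IsProper ((SGA7.genFib R K).obj A).hom) (hconn : ConnectedSpace ↥(((SGA7.genFib R K).obj A).left))
    (At : Over (Spec (CommRingCat.of R))) [GrpObj At] [IsCommMonObj At] (hAt : SGA7.IsNeron R K At)
    (φ : AgPol.DualMap ((SGA7.genFib R K).obj A) ((SGA7.genFib R K).obj At))
    (hdual : AbDual.IsDualAV Scheme.fppfPrecoverage ((SGA7.genFib R K).obj A) ((SGA7.genFib R K).obj At) φ)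
    (L : (((SGA7.genFib R K).obj A).left).Modules) (hL : PicF.IsInvertible L)
    (lamK : (SGA7.genFib R K).obj A ⟶ (SGA7.genFib R K).obj At)
    (hlamK : AgPol.IsLambda ((SGA7.genFib R K).obj A) ((SGA7.genFib R K).obj At) φ L lamK)
    (hfin : ∀ (N : Over (Spec (CommRingCat.of K))) (i : N ⟶ (SGA7.genFib R K).obj A), AlgGrp.IsKernel i lamK → IsFinite N.hom)
    (lam : A ⟶ At) (hlam : (SGA7.genFib R K).map lam = lamK) :
    Flat lam.left ∧ LocallyQuasiFinite lam.left := by
  obtain ⟨hs, hsep, hq, hext⟩ := hAt
  haveI := hs; haveI := hsep; haveI := hq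
  let P := SGA7.genFib R K
  let j := Spec.map (CommRingCat.ofHom (algebraMap R K))
  haveI := hprop
  haveI : Smooth (P.obj A).hom := MorphismProperty.pullback_snd A.hom j ‹Smooth A.hom›
  haveI : Smooth (P.obj At).hom := MorphismProperty.pullback_snd At.hom j hs
  haveI : IsSeparated (P.obj At).hom := MorphismProperty.pullback_snd At.hom j hsep
  haveI : QuasiCompact (P.obj At).hom := MorphismProperty.pullback_snd At.hom j hq
  haveI : GeometricallyConnected (P.obj A).hom :=
    GrothLib.Neutral.geometricallyConnected_of_point (P.obj A).hom η[P.obj A].left (Over.w η[P.obj A])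
  haveI : GeometricallyIntegral (P.obj A).hom := GrothLib.Dual.geometricallyIntegral_of_abScheme (P.obj A)
  haveI : IsCommMonObj (P.obj A) := Functor.isCommMonObj_obj
  haveI : IsCommMonObj (P.obj At) := Functor.isCommMonObj_obj
  obtain ⟨hp, hgi⟩ := GrothLib.SplitRed1.DualProper.isProper_dual hdual
  haveI := hp; haveI := hgi
  have hpsi := GrothLib.SplitRed1.DualProper.eq_psi_of_isLambda hL hlamK
  obtain ⟨hmon, hisog⟩ : IsMonHom lamK ∧ SGA7.IsIsogenyOver lamK := by
    rw [hpsi]
    exact GrothLib.SplitRed1.DualProper.isogeny_of_finite_kernel hdual _ (hpsi ▸ hfin)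
  haveI := hmon
  haveI : IsMonHom lam := by
    haveI : IsMonHom (P.map lam) := by rw [hlam]; exact hmon
    refine ⟨?_, ?_⟩
    · refine (hext (MonoidalCategoryStruct.tensorUnit _) (inferInstanceAs (Smooth (𝟙 (Spec (CommRingCat.of R)))))).1 ?_
      show P.map (η[A] ≫ lam) = P.map η[At]
      rw [Functor.map_comp, ← cancel_epi (Functor.LaxMonoidal.ε P), ← Category.assoc]
      exact IsMonHom.one_hom (f := P.map lam)
    · have hsm : Smooth (A ⊗ A).hom := by
        rw [← Over.w (fst A A)]
        haveI : Smooth (fst A A).left := inferInstanceAs (Smooth (pullback.fst A.hom A.hom))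
        infer_instance
      refine (hext _ hsm).1 ?_
      show P.map (μ[A] ≫ lam) = P.map (MonoidalCategoryStruct.tensorHom lam lam ≫ μ[At])
      rw [Functor.map_comp, Functor.map_comp, ← cancel_epi (Functor.LaxMonoidal.μ P A A), ← Category.assoc,
        ← Functor.LaxMonoidal.μ_natural_assoc]
      exact IsMonHom.mul_hom (f := P.map lam)
  obtain ⟨hlamfin, hlamflat⟩ := GrothLib.NeronIsog24.isogeny_field lamK hisog
  haveI := hlamfin
  haveI := hisog.1
  obtain ⟨n, g, hn, hgm, hgn, -⟩ :=
    GrothLib.GrpDeligne.exists_dual_hom_of_surjective (P.obj A) (P.obj At) lamK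
  haveI : QuasiCompact lam.left := by
    haveI : QuasiCompact (lam.left ≫ At.hom) := by rw [Over.w lam]; infer_instance
    exact QuasiCompact.of_comp lam.left At.hom
  haveI : LocallyOfFiniteType lam.left := by
    have : LocallyOfFiniteType (lam.left ≫ At.hom) := by rw [Over.w lam]; infer_instance
    exact locallyOfFiniteType_of_comp lam.left At.hom
  have hlqf : LocallyQuasiFinite lam.left := by
    refine LocallyQuasiFinite.of_finite_preimage_singleton _ fun y => ?_
    obtain ⟨z, hz⟩ := GrothLib.SplitRed1.exists_geom_point At y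
    let c := Red.geomPt (At.hom y)
    let L' := AlgebraicClosure ((Spec (CommRingCat.of R)).residueField (At.hom y))
    obtain ⟨ℓ, hℓp, hℓL, hℓn⟩ : ∃ ℓ : ℕ, ℓ.Prime ∧ (ℓ : L') ≠ 0 ∧ ℓ.Coprime n := by
      obtain ⟨p, hp1, hp2⟩ := Nat.exists_infinite_primes (n + 1)
      obtain ⟨q, hq1, hq2⟩ := Nat.exists_infinite_primes (p + 1)
      by_cases hp0 : (p : L') = 0
      · refine ⟨q, hq2, fun hq0 => ?_, hq2.coprime_iff_not_dvd.2 fun h => by
          have := Nat.le_of_dvd hn h; omega⟩
        have h1 := Nat.dvd_gcd ((ringChar.spec L' p).1 hp0) ((ringChar.spec L' q).1 hq0)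
        rw [show Nat.gcd p q = 1 from (Nat.coprime_primes hp2 hq2).2 (by omega)] at h1
        exact CharP.ringChar_ne_one (R := L') (Nat.dvd_one.1 h1)
      · exact ⟨p, hp2, hp0, hp2.coprime_iff_not_dvd.2 fun h => by
          have := Nat.le_of_dvd hn h; omega⟩
    let t : Spec (CommRingCat.of R) := (⟨⊥, Ideal.isPrime_bot⟩ : PrimeSpectrum R)
    have ht : ∀ s, t ⤳ s := fun s =>
      (PrimeSpectrum.le_iff_specializes _ s).mp (bot_le (a := s.asIdeal))
    have hgen : ∀ a : A.left, A.hom a = t → lam.left a = η[At].left t → ((𝟙 A : A ⟶ A) ^ ℓ).left a = η[A].left t →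
        a = η[A].left t := by
      intro a ha hau hap
      let F := A.left.residueField a
      let b : Spec (CommRingCat.of F) ⟶ Spec (CommRingCat.of R) := A.left.fromSpecResidueField a ≫ A.hom
      let x : Over.mk b ⟶ A := Over.homMk (A.left.fromSpecResidueField a) rfl
      have hpt : x.left (IsLocalRing.closedPoint F) = a := Scheme.fromSpecResidueField_apply a _
      have hxu : x ≫ lam = 1 := GrothLib.SplitRed1.eq_one_of_apply_eq b _ t (by
        rw [Over.comp_left, Scheme.Hom.comp_apply, hpt, hau])
      have hxℓ : x ^ ℓ = 1 := by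
        refine GrothLib.SplitRed1.eq_one_of_apply_eq b _ t ?_
        rw [show x ^ ℓ = x ≫ (𝟙 A : A ⟶ A) ^ ℓ by rw [MonObj.comp_pow, Category.comp_id], Over.comp_left,
          Scheme.Hom.comp_apply, hpt, hap]
      have hba : b (IsLocalRing.closedPoint F) = t :=
        (Scheme.Hom.comp_apply _ _ _).trans ((congrArg A.hom (Scheme.fromSpecResidueField_apply a _)).trans ha)
      obtain ⟨q, hq⟩ := GrothLib.SplitRed1.exists_factor_generic K b (by
        rw [hba]
        intro h
        exact IsDiscreteValuationRing.not_a_field R (congrArg PrimeSpectrum.asIdeal h).symm)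
      let i : (Over.map j).obj (Over.mk q) ⟶ Over.mk b := Over.homMk (𝟙 _) (by
        show 𝟙 _ ≫ b = q ≫ j
        rw [Category.id_comp, hq])
      let e := GrothLib.DiagGrp.bcPointMulEquiv j A (Over.mk q)
      let y := e (i ≫ x)
      have hy : y ≫ lamK = 1 := by
        rw [← hlam]
        show GrothLib.DiagGrp.bcPoint j A (Over.mk q) (i ≫ x) ≫ (Over.pullback j).map lam = 1
        rw [← GrothLib.DiagGrp.bcPoint_comp_right, Category.assoc, hxu, MonObj.comp_one]
        exact map_one (GrothLib.DiagGrp.bcPointMulEquiv j At (Over.mk q))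
      have hyn : y ^ n = 1 := by
        rw [show y ^ n = y ≫ ((𝟙 (P.obj A) : P.obj A ⟶ P.obj A) ^ n) by rw [MonObj.comp_pow, Category.comp_id],
          ← hgn, ← Category.assoc, hy]
        haveI : IsMonHom g := hgm
        rw [MonObj.one_comp]
      have hxn : x ^ n = 1 := by
        have h1 : i ≫ (x ^ n) = 1 := by
          rw [MonObj.comp_pow]
          exact e.injective ((map_pow e _ n).trans (hyn.trans (map_one e).symm))
        refine Over.OverMorphism.ext ?_
        have h2 : (x ^ n).left = (1 : (Over.map j).obj (Over.mk q) ⟶ A).left := by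
          rw [← h1, Over.comp_left]
          exact (Category.id_comp _).symm
        rw [h2, Hom.one_def, Hom.one_def, Over.comp_left, Over.comp_left]
        congr 1
        exact hq.symm
      have hx1 : x = 1 := by
        have := pow_gcd_eq_one.2 ⟨hxℓ, hxn⟩
        rwa [hℓn, pow_one] at this
      have h3 : x.left (IsLocalRing.closedPoint F) = η[A].left (b (IsLocalRing.closedPoint F)) := by
        rw [hx1, Hom.one_def, Over.comp_left]
        rfl
      rw [hpt, hba] at h3
      exact h3
    have sq := GrothLib.SplitRed1.isPullback_map c lam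
    let ψ := (Over.pullback c).map lam
    haveI : QuasiCompact ψ.left := MorphismProperty.of_isPullback sq ‹QuasiCompact lam.left›
    haveI : LocallyQuasiFinite ψ.left := GrothLib.SplitRed1.lqf_geomFibre_prime lam t ht c hℓp hℓL hgen
      (fun v hv hvc => hA (At.hom y) v hv hvc)
    refine ((ψ.left.finite_preimage_singleton z).image (pullback.fst A.hom c)).subset fun x hx => ?_
    obtain ⟨w, hw₁, hw₂⟩ := GrothLib.GITQuot.exists_preimage_isPullback sq x z ((Set.mem_singleton_iff.1 hx).trans hz.symm)
    exact ⟨w, hw₂, hw₁⟩
  refine ⟨?_, hlqf⟩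
  -- flatness
  let P' := Neron.genericFibre R
  let θ : Spec (CommRingCat.of (FractionRing R)) ⟶ Spec (CommRingCat.of K) :=
    Spec.map (CommRingCat.ofHom (FractionRing.algEquiv R K).symm.toAlgHom.toRingHom)
  have hθ : θ ≫ j = Neron.genPt R := by
    rw [← Spec.map_comp, ← CommRingCat.ofHom_comp]
    congr 2
    ext x
    exact (FractionRing.algEquiv R K).symm.commutes x
  let gA : (P'.obj At).left ⟶ (P.obj At).left :=
    pullback.lift (pullback.fst At.hom (Neron.genPt R)) (pullback.snd At.hom (Neron.genPt R) ≫ θ)
      (by rw [Category.assoc, hθ]; exact pullback.condition)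
  have sqF := GrothLib.SplitRed1.isPullback_map (Neron.genPt R) lam
  have sqK := GrothLib.SplitRed1.isPullback_map j lam
  rw [show pullback.fst At.hom (Neron.genPt R) = gA ≫ pullback.fst At.hom j from (pullback.lift_fst _ _ _).symm] at sqF
  have sq' := IsPullback.of_right' sqF sqK
  haveI : LocallyQuasiFinite (P'.map lam).left := MorphismProperty.of_isPullback sq' (by
    show LocallyQuasiFinite (P.map lam).left
    rw [hlam]; infer_instance)
  haveI : Flat (P'.map lam).left := MorphismProperty.of_isPullback sq' (by
    show Flat (P.map lam).left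
    rw [hlam]; exact hlamflat)
  haveI : Smooth (lam.left ≫ At.hom) := by rw [Over.w]; infer_instance
  exact GrothLib.NeronIsog24.flat_of_lqf lam.left At.hom fun x => by
    simpa only [Over.w] using GrothLib.NeronIsog24.fibreDimAt_eq R A At lam x

end Groth.Agent.S14303
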