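import Groth.Statements.S14305
import Mathlib

set_option autoImplicit false
universe u v
open PtDeg

namespace Groth.Agent.S14305

/-- Let A and G be abelian groups, written additively, f : A → G a map and n ≥ 1. For k ≥ 0 the k-th
deviation of f is the map A^k → G, (y_1, …, y_k) ↦ Σ_{∅ ≠ I ⊆ {1,…,k}} (−1)^{k+|I|} f(Σ_{i ∈ I}
y_i). Then f is pointed of degree n, meaning that its (n+1)-st deviation vanishes identically, if
and only if its n-th deviation is additive in each variable separately (with the other variables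
fixed). -/
theorem result {A : Type u} {G : Type v} [AddCommGroup A] [AddCommGroup G]
    (f : A → G) (n : ℕ) (hn : 1 ≤ n) :
    (∀ x : Fin (n + 1) → A, ∑ I ∈ ((Finset.univ : Finset (Fin (n + 1))).powerset.erase ∅), ((-1 : ℤ) ^ (n + 1 + I.card)) • f (∑ i ∈ I, x i) = 0) ↔
      (∀ (j : Fin n) (y : Fin n → A) (a b : A),
        ∑ I ∈ ((Finset.univ : Finset (Fin n)).powerset.erase ∅), ((-1 : ℤ) ^ (n + I.card)) • f (∑ i ∈ I, (Function.update y j (a + b)) i) =
          ∑ I ∈ ((Finset.univ : Finset (Fin n)).powerset.erase ∅), ((-1 : ℤ) ^ (n + I.card)) • f (∑ i ∈ I, (Function.update y j a) i) + ∑ I ∈ ((Finset.univ : Finset (Fin n)).powerset.erase ∅), ((-1 : ℤ) ^ (n + I.card)) • f (∑ i ∈ I, (Function.update y j b) i)) := by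
  classical
  let Δ : ∀ {m : ℕ}, (A → G) → (Fin m → A) → G := fun {m} g y =>
    ∑ I ∈ (Finset.univ : Finset (Fin m)).powerset, ((-1 : ℤ) ^ (m + I.card)) • g (∑ i ∈ I, y i)
  have hD : ∀ m (g : A → G) (y : Fin m → A),
      (∑ I ∈ ((Finset.univ : Finset (Fin m)).powerset.erase ∅),
        ((-1 : ℤ) ^ (m + I.card)) • g (∑ i ∈ I, y i)) = Δ g y - ((-1 : ℤ) ^ m) • g 0 := by
    intro m g y
    rw [eq_sub_iff_add_eq, add_comm]
    have := Finset.add_sum_erase _ (fun I => ((-1 : ℤ) ^ (m + I.card)) • g (∑ i ∈ I, y i))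
      (Finset.empty_mem_powerset (Finset.univ : Finset (Fin m)))
    simpa [Δ] using this
  have hcons : ∀ m (g : A → G) (y : Fin m → A) (b : A),
      Δ g (Fin.cons b y : Fin (m + 1) → A) = Δ (fun z => g (b + z)) y - Δ g y := by
    intro m g y b
    have hpow : ((Finset.univ : Finset (Fin m)).map ⟨Fin.succ, Fin.succ_injective m⟩).powerset =
        (Finset.univ : Finset (Fin m)).powerset.map
          (Finset.mapEmbedding ⟨Fin.succ, Fin.succ_injective m⟩).toEmbedding := by
      ext I
      simp only [Finset.mem_powerset, Finset.mem_map, RelEmbedding.coe_toEmbedding,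
        Finset.mapEmbedding_apply, Finset.subset_map_iff, Finset.subset_univ, true_and]
      exact exists_congr fun _ => eq_comm
    simp only [Δ]
    rw [Fin.univ_succ, Finset.cons_eq_insert, Finset.sum_powerset_insert (by simp)]
    rw [hpow, Finset.sum_map, Finset.sum_map, ← Finset.sum_sub_distrib, ← Finset.sum_add_distrib]
    refine Finset.sum_congr rfl fun I _ => ?_
    have h0 : (0 : Fin (m + 1)) ∉ I.map ⟨Fin.succ, Fin.succ_injective m⟩ := by simp
    simp only [RelEmbedding.coe_toEmbedding, Finset.mapEmbedding_apply, Finset.sum_insert h0,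
      Finset.sum_map, Function.Embedding.coeFn_mk, Fin.cons_succ, Fin.cons_zero,
      Finset.card_insert_of_notMem h0, Finset.card_map]
    rw [show m + 1 + (I.card + 1) = (m + I.card) + 1 + 1 by omega,
      show m + 1 + I.card = (m + I.card) + 1 by omega]
    simp only [pow_succ, mul_neg_one, neg_neg, neg_smul]
    abel
  have hins : ∀ m (g : A → G) (y : Fin m → A) (j : Fin m) (c : A),
      Δ g (Function.update y j c) =
        (∑ I ∈ ((Finset.univ : Finset (Fin m)).erase j).powerset,
          ((-1 : ℤ) ^ (m + I.card)) • g (∑ i ∈ I, y i)) -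
        ∑ I ∈ ((Finset.univ : Finset (Fin m)).erase j).powerset,
          ((-1 : ℤ) ^ (m + I.card)) • g (c + ∑ i ∈ I, y i) := by
    intro m g y j c
    simp only [Δ]
    conv_lhs => rw [← Finset.insert_erase (Finset.mem_univ j),
      Finset.sum_powerset_insert (Finset.notMem_erase j _)]
    rw [← Finset.sum_add_distrib, ← Finset.sum_sub_distrib]
    refine Finset.sum_congr rfl fun I hI => ?_
    have hjI : j ∉ I := fun h => Finset.notMem_erase j _ (Finset.mem_powerset.1 hI h)
    rw [Finset.sum_insert hjI, Finset.card_insert_of_notMem hjI, Function.update_self,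
      Finset.sum_update_of_notMem hjI, ← add_assoc, pow_succ, mul_neg_one, neg_smul, ← sub_eq_add_neg]
  have key : ∀ (j : Fin n) (y : Fin n → A) (a b : A),
      Δ f (Fin.cons b (Function.update y j a) : Fin (n + 1) → A) - ((-1 : ℤ) ^ (n + 1)) • f 0 =
      (Δ f (Function.update y j (a + b)) - ((-1 : ℤ) ^ n) • f 0) -
      ((Δ f (Function.update y j a) - ((-1 : ℤ) ^ n) • f 0) +
        (Δ f (Function.update y j b) - ((-1 : ℤ) ^ n) • f 0)) := by
    intro j y a b
    rw [hcons, hins n (fun z => f (b + z)) y j a, hins n f y j a, hins n f y j (a + b), hins n f y j b,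
      pow_succ, mul_neg_one, neg_smul]
    have hc : ∀ z, b + (a + z) = a + b + z := fun z => by abel
    simp only [hc]
    abel
  simp only [hD]
  constructor
  · intro h j y a b
    have := (key j y a b).symm.trans (h _)
    exact sub_eq_zero.1 this
  · intro h x
    have hj : 0 < n := hn
    have hx : x = Fin.cons (x 0) (Function.update (Fin.tail x) ⟨0, hj⟩ (Fin.tail x ⟨0, hj⟩)) := by
      rw [Function.update_eq_self, Fin.cons_self_tail]
    rw [hx, key, h, sub_self]

end Groth.Agent.S14305
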