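import Groth.Statements.S14309
import Mathlib


set_option autoImplicit false
universe u v w x y
open CAlg

namespace Groth.Agent.S14309

lemma decomp {R : Type u} [CommRing R] {σ : Type y} (w : MvPolynomial (Option σ) R) :
    ∃ (p0 : MvPolynomial σ R) (w1 : MvPolynomial (Option σ) R),
      w = MvPolynomial.rename Option.some p0 + MvPolynomial.X none * w1 := by
  induction w using MvPolynomial.induction_on with
  | C a => exact ⟨MvPolynomial.C a, 0, by simp⟩
  | add p q hp hq =>
    obtain ⟨a, b, rfl⟩ := hp
    obtain ⟨c, d, rfl⟩ := hq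
    exact ⟨a + c, b + d, by rw [map_add]; ring⟩
  | mul_X p i hp =>
    obtain ⟨a, b, rfl⟩ := hp
    cases i with
    | none => exact ⟨0, MvPolynomial.rename Option.some a + MvPolynomial.X none * b, by simp; ring⟩
    | some i =>
      exact ⟨a * MvPolynomial.X i, b * MvPolynomial.X (some i), by
        rw [map_mul, MvPolynomial.rename_X]; ring⟩


/-- Let R be a commutative ring; A, B, C commutative R-algebras; i : A → B and j : A → C jointly
injective R-algebra maps; c a non-zero-divisor of B; u : C → B/(c) a ring map with u ∘ j equal to i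
followed by reduction modulo c; ζ in A with i ζ = c and j ζ = 0; η : R[X_σ, Z] → A an R-algebra map
with η(Z) = ζ; a : R[Y_τ] → B a surjective R-algebra map; η_Z : R[X_σ, Z] → R[Y_τ] a surjective
R-algebra map with a ∘ η_Z = i ∘ η. Fix c̃ in R[Y_τ] with a(c̃) = c, a family (p_h) generating the
kernel of the composite R[X_σ] → R[X_σ, Z] → A → C, a family (q'_h) generating the kernel of a
together with lifts q_h along η_Z, a family (v_h) generating the kernel of η_Z, and elements g'_h of
R[Y_τ] with η_Z(p_h) + g'_h c̃ in the ideal (q'_h), together with lifts g_h along η_Z. Then the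
kernel of η is the ideal generated by the elements Z q_h, Z v_h and p_h + Z g_h. (The published
statement is for the rings of cycle classes, with coefficients ℤ[1/6], of a smooth quotient stack, a
smooth closed substack whose normal bundle has top Chern class c a non-zero-divisor, and the open
complement; this row states the ring-theoretic content for any such square of commutative rings in
which A embeds in B × C.) -/
theorem result
    {R : Type u} [CommRing R] {A : Type v} {B : Type w} {C : Type x}
    [CommRing A] [CommRing B] [CommRing C] [Algebra R A] [Algebra R B] [Algebra R C]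
    (i : A →ₐ[R] B) (j : A →ₐ[R] C)
    (hinj : ∀ t : A, i t = 0 → j t = 0 → t = 0)
    (c : B) (hc : c ∈ nonZeroDivisors B) (u : C →+* B ⧸ Ideal.span ({c} : Set B))
    (hu : ∀ t : A, u (j t) = Ideal.Quotient.mk (Ideal.span ({c} : Set B)) (i t))
    (ζ : A) (hiζ : i ζ = c) (hjζ : j ζ = 0)
    {σ τ ιp ιq ιv : Type y}
    (η : MvPolynomial (Option σ) R →ₐ[R] A) (hη : η (MvPolynomial.X none) = ζ)
    (a : MvPolynomial τ R →ₐ[R] B) (ha : Function.Surjective a)
    (ηZ : MvPolynomial (Option σ) R →ₐ[R] MvPolynomial τ R)
    (hcomm : ∀ t, a (ηZ t) = i (η t)) (hηZ : Function.Surjective ηZ)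
    (cZ : MvPolynomial τ R) (hcZ : a cZ = c)
    (p : ιp → MvPolynomial σ R)
    (hp : Ideal.span (Set.range p) =
      RingHom.ker ((j.comp η).comp (MvPolynomial.rename (Option.some : σ → Option σ))))
    (q' : ιq → MvPolynomial τ R) (hq' : Ideal.span (Set.range q') = RingHom.ker a)
    (q : ιq → MvPolynomial (Option σ) R) (hq : ∀ h, ηZ (q h) = q' h)
    (v : ιv → MvPolynomial (Option σ) R) (hv : Ideal.span (Set.range v) = RingHom.ker ηZ)
    (g' : ιp → MvPolynomial τ R)
    (hg' : ∀ h, ηZ (MvPolynomial.rename (Option.some : σ → Option σ) (p h)) + g' h * cZ ∈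
      Ideal.span (Set.range q'))
    (g : ιp → MvPolynomial (Option σ) R) (hg : ∀ h, ηZ (g h) = g' h) :
    RingHom.ker η = Ideal.span
      (Set.range (fun h : ιq => MvPolynomial.X none * q h) ∪
        Set.range (fun h : ιv => MvPolynomial.X none * v h) ∪
        Set.range (fun h : ιp =>
          MvPolynomial.rename (Option.some : σ → Option σ) (p h) + MvPolynomial.X none * g h)) := by
  apply le_antisymm
  · intro w hw
    rw [RingHom.mem_ker] at hw
    obtain ⟨p0, w1, rfl⟩ := decomp w
    have h1 : p0 ∈ Ideal.span (Set.range p) := by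
      rw [hp, RingHom.mem_ker]
      have := congrArg j hw
      simpa [hη, hjζ] using this
    obtain ⟨r, hr⟩ := (Finsupp.mem_span_range_iff_exists_finsupp (R := MvPolynomial σ R)).1 h1
    let w2 := w1 - r.sum fun h a => MvPolynomial.rename Option.some a * g h
    let S := Ideal.span
      (Set.range (fun h : ιq => MvPolynomial.X none * q h) ∪
        Set.range (fun h : ιv => MvPolynomial.X none * v h) ∪
        Set.range (fun h : ιp =>
          MvPolynomial.rename (Option.some : σ → Option σ) (p h) + MvPolynomial.X none * g h))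
    change _ ∈ S
    have hdec : MvPolynomial.rename Option.some p0 + MvPolynomial.X none * w1 =
        (r.sum fun h a => MvPolynomial.rename Option.some a *
          (MvPolynomial.rename (Option.some : σ → Option σ) (p h) + MvPolynomial.X none * g h)) +
        MvPolynomial.X none * w2 := by
      simp only [w2, ← hr, Finsupp.sum, smul_eq_mul, map_sum, map_mul, mul_sub, Finset.mul_sum, mul_add,
        Finset.sum_add_distrib, mul_left_comm]
      ring
    rw [hdec] at hw ⊢
    have hsum : (r.sum fun h a => MvPolynomial.rename Option.some a *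
        (MvPolynomial.rename (Option.some : σ → Option σ) (p h) + MvPolynomial.X none * g h)) ∈ S :=
      Ideal.sum_mem _ fun h _ => Ideal.mul_mem_left _ _ (Ideal.subset_span (Or.inr ⟨h, rfl⟩))
    have hkerP : ∀ h, i (η (MvPolynomial.rename (Option.some : σ → Option σ) (p h) +
        MvPolynomial.X none * g h)) = 0 := fun h => by
      have := hg' h
      rw [hq', RingHom.mem_ker] at this
      rw [map_add η, map_add i, map_mul η, map_mul i, hη, hiζ, ← hcomm, ← hcomm (g h), hg,
        ← this, map_add, map_mul, hcZ]
      ring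
    have h2 : c * a (ηZ w2) = 0 := by
      have := congrArg i hw
      rw [map_add η, map_add i, map_mul η, map_mul i, hη, hiζ, map_zero, ← hcomm w2] at this
      rw [Finsupp.sum, map_sum, map_sum,
        Finset.sum_eq_zero fun h _ => by rw [map_mul η, map_mul i, hkerP h, mul_zero], zero_add]
        at this
      exact this
    have h3 : ηZ w2 ∈ Ideal.span (Set.range q') := by
      rw [hq', RingHom.mem_ker]
      exact (mul_left_mem_nonZeroDivisors_eq_zero_iff hc).1 h2
    have hq2 : Ideal.span (Set.range q') = (Ideal.span (Set.range q)).map ηZ := by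
      rw [Ideal.map_span, ← Set.range_comp]
      congr 2
      funext h
      exact (hq h).symm
    rw [hq2] at h3
    obtain ⟨y, hy, hye⟩ := (Ideal.mem_map_iff_of_surjective _ hηZ).1 h3
    have hd : w2 - y ∈ Ideal.span (Set.range v) := by
      rw [hv, RingHom.mem_ker, map_sub, hye, sub_self]
    have e : ∀ (κ : Type y) (F : κ → MvPolynomial (Option σ) R), (∀ h, MvPolynomial.X none * F h ∈ S) →
        ∀ z ∈ Ideal.span (Set.range F), MvPolynomial.X none * z ∈ S := fun κ F hF z hz => by
      have : Ideal.span (Set.range F) ≤ Submodule.comap (LinearMap.lsmul (MvPolynomial (Option σ) R) (MvPolynomial (Option σ) R) (MvPolynomial.X none)) S :=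
        Ideal.span_le.2 (by rintro _ ⟨h, rfl⟩; exact hF h)
      exact this hz
    refine S.add_mem hsum ?_
    rw [show w2 = y + (w2 - y) by ring, mul_add]
    exact S.add_mem (e ιq q (fun h => Ideal.subset_span (Or.inl (Or.inl ⟨h, rfl⟩))) _ hy)
      (e ιv v (fun h => Ideal.subset_span (Or.inl (Or.inr ⟨h, rfl⟩))) _ hd)
  · rw [Ideal.span_le]
    rintro _ ((⟨h, rfl⟩ | ⟨h, rfl⟩) | ⟨h, rfl⟩)
    · refine hinj _ ?_ (by simp [hη, hjζ])
      have : q' h ∈ RingHom.ker a := hq' ▸ Ideal.subset_span ⟨h, rfl⟩
      rw [RingHom.mem_ker] at this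
      simp [hη, ← hcomm, hq, this]
    · refine hinj _ ?_ (by simp [hη, hjζ])
      have : v h ∈ RingHom.ker ηZ := hv ▸ Ideal.subset_span ⟨h, rfl⟩
      rw [RingHom.mem_ker] at this
      simp [hη, ← hcomm, this]
    · refine hinj _ ?_ ?_
      · have := hg' h
        rw [hq', RingHom.mem_ker, map_add, map_mul, hcomm, hcZ, ← hg h, hcomm] at this
        simp [hη, hiζ]
        linear_combination this
      · have : p h ∈ RingHom.ker ((j.comp η).comp (MvPolynomial.rename (Option.some : σ → Option σ))) :=
          hp ▸ Ideal.subset_span ⟨h, rfl⟩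
        rw [RingHom.mem_ker] at this
        simpa [hη, hjζ] using this

end Groth.Agent.S14309
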