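import Groth.Statements.S14310
import Groth.Agent.Lib.PlaneGerm.Square

set_option autoImplicit false
universe u
open ArSing

namespace Groth.Agent.S14310

open GrothLib.PlaneGerm

/-- Let k be an algebraically closed field, f a polynomial in two variables x = X_0, y = X_1 over k, and
a a point of k². The quotient of the power series ring k[[x,y]] by the polynomial f recentred at a
(which is the completed local ring at a of the plane curve f = 0) is isomorphic as a k-algebra to
k[[x,y]]/(y^2) if and only if f = g^2 h for polynomials g and h with h(a) ≠ 0, g(a) = 0 and some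
first partial derivative of g non-zero at a. (The published statement asks for the component through
a to be the square of a smooth plane curve; only smoothness at a matters and is what is stated here
— for the square of a nodal cubic the completed local ring at a smooth point of the cubic is still
k[[x,y]]/(y^2). No hypothesis on the characteristic of k is imposed; the published setting assumes a
characteristic different from 2, 3, 5 and 7, which the argument does not use.) -/
theorem result
    {k : Type u} [Field k] [IsAlgClosed k] (f : MvPolynomial (Fin 2) k) (a : Fin 2 → k) :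
    Nonempty ((MvPowerSeries (Fin 2) k ⧸ Ideal.span
        ({(MvPolynomial.aeval (fun i : Fin 2 => MvPolynomial.X i + MvPolynomial.C (a i)) f).toMvPowerSeries} :
          Set (MvPowerSeries (Fin 2) k))) ≃ₐ[k]
      (MvPowerSeries (Fin 2) k ⧸ Ideal.span ({MvPowerSeries.X 1 ^ 2} : Set (MvPowerSeries (Fin 2) k)))) ↔
    ∃ g h : MvPolynomial (Fin 2) k, f = g ^ 2 * h ∧ MvPolynomial.eval a h ≠ 0 ∧ MvPolynomial.eval a g = 0 ∧
      ∃ i : Fin 2, MvPolynomial.eval a (MvPolynomial.pderiv i g) ≠ 0 := by
  classical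
  rw [← recentre_eq, show (recentre a f).toMvPowerSeries = germ a f from rfl]
  constructor
  · rintro ⟨e⟩
    obtain ⟨w, hw0, hwl, hw, hA⟩ := associated_sq_of_equiv e
    obtain ⟨u, hu⟩ := hA.symm
    have hf0 : f ≠ 0 := fun h => by
      have h1 : germ a f = 0 := by rw [← germHom_apply, h, map_zero]
      rw [h1] at hu
      exact mul_ne_zero (pow_ne_zero 2 hw.ne_zero) u.ne_zero hu
    have branch : ∀ F : MvPolynomial (Fin 2) k, F ≠ 0 → w ∣ germ a F →
        ∃ q, Irreducible q ∧ q ∣ F ∧ w ∣ germ a q := by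
      intro F hF hwF
      obtain ⟨S, hS, hSa⟩ := WfDvdMonoid.exists_factors F hF
      have h1 : w ∣ germHom a S.prod := hwF.trans (map_dvd (germHom a) hSa.symm.dvd)
      rw [map_multiset_prod] at h1
      obtain ⟨b, hb, hwb⟩ := hw.exists_mem_multiset_dvd h1
      obtain ⟨q, hq, rfl⟩ := Multiset.mem_map.1 hb
      exact ⟨q, hS q hq, (Multiset.dvd_prod hq).trans hSa.dvd, hwb⟩
    have hw2 : w ∣ germ a f := ⟨w * u, by rw [← hu]; ring⟩
    obtain ⟨q, hq, ⟨f1, rfl⟩, hwq⟩ := branch f hf0 hw2
    obtain ⟨v, hv⟩ := hwq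
    have hwv : ¬ w ∣ v := by
      rintro ⟨z, rfl⟩
      obtain ⟨i, hi⟩ := exists_pderiv_ne_zero hq
      refine not_dvd_pderiv hq.ne_zero hi (dvd_of_common_branch a hw hq ⟨w * z, hv⟩ ?_)
      rw [← pderiv_germ, hv, Derivation.leibniz, Derivation.leibniz]
      exact dvd_add ⟨_, rfl⟩ ((Dvd.intro z rfl).mul_right _)
    have e1 : w * (w * u) = w * (v * germ a f1) := by
      rw [← mul_assoc, ← mul_assoc, ← pow_two, hu, germ_mul, hv]
    have e2 : w * u = v * germ a f1 := mul_left_cancel₀ hw.ne_zero e1
    have hwf1 : w ∣ germ a f1 := (hw.dvd_or_dvd ⟨u, e2.symm⟩).resolve_left hwv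
    have hf1 : f1 ≠ 0 := right_ne_zero_of_mul hf0
    obtain ⟨q', hq', hdq', hwq'⟩ := branch f1 hf1 hwf1
    obtain ⟨h, rfl⟩ := (dvd_of_common_branch a hw hq ⟨v, hv⟩ hwq').trans hdq'
    have e3 : (u : MvPowerSeries (Fin 2) k) = v * v * germ a h := by
      refine mul_left_cancel₀ hw.ne_zero ?_
      rw [e2, germ_mul, hv]; ring
    have hunit : IsUnit (v * v * germ a h) := e3 ▸ u.isUnit
    rw [IsUnit.mul_iff, IsUnit.mul_iff] at hunit
    obtain ⟨i, hi⟩ := hwl
    refine ⟨q, h, by ring, ?_, ?_, i, ?_⟩
    · rw [← constantCoeff_germ]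
      exact (MvPowerSeries.isUnit_iff_constantCoeff.1 hunit.2).ne_zero
    · rw [← constantCoeff_germ, hv, map_mul, hw0, zero_mul]
    · rw [← lin_germ, hv, lin_mul, hw0, zero_mul]
      simpa [hi] using (MvPowerSeries.isUnit_iff_constantCoeff.1 hunit.1.1).ne_zero
  · rintro ⟨g, h, rfl, hh, hg, i, hi⟩
    obtain ⟨φ, hφ⟩ := equiv_X_of_lin ((constantCoeff_germ a g).trans hg) (i := i) (by rwa [lin_germ])
    refine nonempty_equiv_of_aut φ (u := germ a h) (MvPowerSeries.isUnit_iff_constantCoeff.2 ?_) ?_
    · rw [constantCoeff_germ]; exact isUnit_iff_ne_zero.2 hh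
    · rw [germ_mul, germ_pow, map_pow, hφ, mul_comm]

end Groth.Agent.S14310
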