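import Groth.Statements.S14311
import Groth.Agent.Lib.PlaneGerm.AType

set_option autoImplicit false
universe u
open ArSing

namespace Groth.Agent.S14311

open GrothLib.PlaneGerm GrothLib.Morse Groth.Agent.Ar2

/-- Let k be an algebraically closed field in which 2 ≠ 0, f a polynomial in x = X_0, y = X_1 over k and
a a zero of f in k². Then the gradient and all second partial derivatives of f vanish at a if and
only if the completed local ring k[[x,y]]/(f recentred at a) of the plane curve f = 0 at a is
isomorphic as a k-algebra neither to k[[x,y]]/(y^2 - x^(n+1)) for any natural number n nor to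
k[[x,y]]/(y^2). (Here n = 0, a smooth point, is allowed; with n ≥ 1 only, as in the published
definition of an A-singularity, the equivalence fails at smooth points of the curve. Only 2 ≠ 0 is
assumed of the characteristic; the published setting assumes a characteristic different from 2, 3, 5
and 7.) -/
theorem result
    {k : Type u} [Field k] [IsAlgClosed k] (h2 : (2 : k) ≠ 0) (f : MvPolynomial (Fin 2) k) (a : Fin 2 → k)
    (hfa : MvPolynomial.eval a f = 0) :
    ((∀ i : Fin 2, MvPolynomial.eval a (MvPolynomial.pderiv i f) = 0) ∧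
      ∀ i j : Fin 2, MvPolynomial.eval a (MvPolynomial.pderiv i (MvPolynomial.pderiv j f)) = 0) ↔
    ¬ ((∃ n : ℕ, Nonempty ((MvPowerSeries (Fin 2) k ⧸ Ideal.span
        ({(MvPolynomial.aeval (fun i : Fin 2 => MvPolynomial.X i + MvPolynomial.C (a i)) f).toMvPowerSeries} :
          Set (MvPowerSeries (Fin 2) k))) ≃ₐ[k] ArSing.ring k n)) ∨
        Nonempty ((MvPowerSeries (Fin 2) k ⧸ Ideal.span
        ({(MvPolynomial.aeval (fun i : Fin 2 => MvPolynomial.X i + MvPolynomial.C (a i)) f).toMvPowerSeries} :
          Set (MvPowerSeries (Fin 2) k))) ≃ₐ[k]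
          (MvPowerSeries (Fin 2) k ⧸ Ideal.span ({MvPowerSeries.X 1 ^ 2} : Set (MvPowerSeries (Fin 2) k))))) := by
  have key : ∀ (F : MvPowerSeries (Fin 2) k),
      (∀ e : Fin 2 →₀ ℕ, e.degree < 3 → MvPowerSeries.coeff e F = 0) →
      MvPowerSeries.coeff (Finsupp.single 1 2) F = 0 := fun F hF => hF _ (by simp)
  rw [← recentre_eq, show (recentre a f).toMvPowerSeries = germ a f from rfl]
  constructor
  · rintro ⟨h1, h2'⟩ hiso
    have h3 : OrdGE 3 (germ a f) := by
      have hl : ∀ i, lin i (germ a f) = 0 := fun i => by rw [lin_germ]; exact h1 i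
      have hq : ∀ i j : Fin 2, MvPowerSeries.coeff (Finsupp.single i 1 + Finsupp.single j 1) (germ a f) = 0 := by
        intro i j
        have := h2' i j
        rw [eval_pderiv_pderiv] at this
        refine (mul_eq_zero.1 this).resolve_right ?_
        rcases eq_or_ne i j with rfl | hij
        · simpa [one_add_one_eq_two] using h2
        · simp [hij]
      intro e he
      have hs : e 0 + e 1 ≤ 2 := by
        rw [Finsupp.degree_eq_sum, Fin.sum_univ_two] at he; omega
      rw [← ex_self e]
      rcases (show (e 0 = 0 ∧ e 1 = 0) ∨ (e 0 = 1 ∧ e 1 = 0) ∨ (e 0 = 0 ∧ e 1 = 1) ∨ (e 0 = 2 ∧ e 1 = 0) ∨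
        (e 0 = 1 ∧ e 1 = 1) ∨ (e 0 = 0 ∧ e 1 = 2) by omega) with
        ⟨ha, hb⟩ | ⟨ha, hb⟩ | ⟨ha, hb⟩ | ⟨ha, hb⟩ | ⟨ha, hb⟩ | ⟨ha, hb⟩ <;> rw [ha, hb]
      · simp only [ex, Finsupp.single_zero, add_zero]
        exact (MvPowerSeries.coeff_zero_eq_constantCoeff_apply _).trans ((constantCoeff_germ a f).trans hfa)
      · simpa [ex, lin] using hl 0
      · simpa [ex, lin] using hl 1
      · simpa [ex, ← Finsupp.single_add] using hq 0 0
      · simpa [ex] using hq 0 1
      · simpa [ex, ← Finsupp.single_add] using hq 1 1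
    rcases hiso with ⟨n, ⟨e⟩⟩ | he
    · have := key _ (mem_pow_iff.1 (mem_pow_of_equiv e (mem_pow_iff.2 h3)))
      rw [ArSing.eqn, map_sub, MvPowerSeries.coeff_X_pow, MvPowerSeries.coeff_X_pow, if_pos rfl, if_neg] at this
      · simp at this
      · simp [Finsupp.ext_iff, Fin.forall_fin_two]
    · obtain ⟨e⟩ := he
      have := key _ (mem_pow_iff.1 (mem_pow_of_equiv e (mem_pow_iff.2 h3)))
      rw [MvPowerSeries.coeff_X_pow, if_pos rfl] at this
      exact one_ne_zero this
  · intro hiso
    have h3 : OrdGE 3 (germ a f) := by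
      by_contra h3
      exact hiso (exists_type h2 (recentre a f) ((constantCoeff_germ a f).trans hfa) h3)
    refine ⟨fun i => ?_, fun i j => ?_⟩
    · rw [← lin_germ]
      exact h3 _ (by simp)
    · rw [eval_pderiv_pderiv, h3 _ (by rw [map_add]; simp), zero_mul]

end Groth.Agent.S14311
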