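import Groth.Statements.S14312
import Groth.Agent.Lib.SingCount1.Basic
-- import your own Groth.Agent.* helpers here

set_option autoImplicit false
universe u
open Curves

namespace Groth.Agent.S14312

/-- Over an algebraically closed field k, a reduced plane quartic — the zero locus in the projective
plane of a square-free homogeneous polynomial f of degree 4 in three variables — has at most 6
singular points, a singular point being a point of the projective plane at which f and its three
first partial derivatives vanish. (No hypothesis on the characteristic of k is imposed here. The
further assertions describing the quartics with exactly 5 or exactly 6 singular points are not part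
of this row.) -/
theorem result
    {k : Type u} [Field k] [IsAlgClosed k] (f : MvPolynomial (Fin 3) k)
    (hf : f.IsHomogeneous 4) (hred : Squarefree f) :
    ∃ s : Finset (Projectivization k (Fin 3 → k)), s.card ≤ 6 ∧
      ∀ p : Projectivization k (Fin 3 → k),
        MvPolynomial.eval p.rep f = 0 →
          (∀ i : Fin 3, MvPolynomial.eval p.rep (MvPolynomial.pderiv i f) = 0) → p ∈ s := by
  obtain ⟨s, hs, hmem⟩ := GrothLib.SingCount1.singular_card_le hf (by norm_num) hred
  exact ⟨s, by omega, hmem⟩

end Groth.Agent.S14312
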