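import Groth.Statements.S2122
import Groth.Agent.Lib.OX.PullbackTensor
import Groth.Agent.Lib.InvExt.Gen
import Groth.Agent.Lib.AssPts.Flat
import Mathlib.RingTheory.PicardGroup

set_option autoImplicit false
universe u
open CategoryTheory AlgebraicGeometry
open Mor Opposite

namespace Groth.Agent.S2122

open TensorProduct GrothLib in
theorem bijective_smul_of_unit {R : Type u} [CommRing R] [IsLocalRing R] {A B : Type u} [AddCommGroup A]
    [Module R A] [AddCommGroup B] [Module R B] (e : A ⊗[R] B ≃ₗ[R] R) (a : A) (b : B)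
    (h : IsUnit (e (a ⊗ₜ b))) : Function.Bijective fun c : R => c • a := by
  have : Module.Invertible R A := Module.Invertible.left e
  have : Module.Free R A := Module.free_of_flat_of_isLocalRing
  obtain ⟨f⟩ := (Module.Invertible.free_iff_linearEquiv).1 this
  have key : ∀ c : R, e ((c • a) ⊗ₜ b) = c * e (a ⊗ₜ b) := fun c => by
    rw [← TensorProduct.smul_tmul', map_smul, smul_eq_mul]
  have ha : IsUnit (f a) := by
    have h1 : a = f a • f.symm 1 := f.injective (by simp)
    rw [h1, ← TensorProduct.smul_tmul', map_smul, smul_eq_mul] at h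
    exact isUnit_of_mul_isUnit_left h
  refine ⟨fun c d hcd => ?_, fun m => ⟨f m * ↑ha.unit⁻¹, f.injective ?_⟩⟩
  · refine h.mul_right_cancel ?_
    rw [← key, ← key]
    exact congrArg (fun z => e (z ⊗ₜ b)) hcd
  · simp [mul_assoc]

open TensorProduct in
theorem exists_tmul_isUnit {R : Type u} [CommRing R] [IsLocalRing R] {A B : Type u} [AddCommGroup A]
    [Module R A] [AddCommGroup B] [Module R B] (e : A ⊗[R] B ≃ₗ[R] R) : ∃ a b, IsUnit (e (a ⊗ₜ b)) := by
  by_contra hne
  push Not at hne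
  have : ∀ z : A ⊗[R] B, ¬ IsUnit (e z) := fun z => by
    induction z using TensorProduct.induction_on with
    | zero => simp
    | tmul a b => exact hne a b
    | add z w hz hw => rw [map_add]; exact IsLocalRing.nonunits_add hz hw
  exact this (e.symm 1) (by simp)

open GrothLib in
theorem isGen_of_stalk {X : Scheme.{u}} (L : X.Modules) (V : X.Opens) (l : Γ(L, V))
    (h : ∀ (y : X) (hy : y ∈ V), Function.Bijective
      fun c : X.presheaf.stalk y => c • OX.germ (DCoh.toP.obj L) V hy l) : InvExt.IsGen L V l := by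
  intro W hW
  let r := InvExt.mres L hW l
  have hg : ∀ {T : X.Opens} (hT : T ≤ W) (c : Γ(X, T)) (y : X) (hy : y ∈ T),
      OX.germ (DCoh.toP.obj L) T hy (c • InvExt.mres L (hT.trans hW) l) =
        X.presheaf.germ T y hy c • OX.germ (DCoh.toP.obj L) V (hW (hT hy)) l := fun hT c y hy =>
    (OX.germ_smul' (DCoh.toP.obj L) _ hy c _).trans (congrArg (_ • ·) (OX.germ_map (DCoh.toP.obj L) (homOfLE (hT.trans hW)) hy l))
  have hinj : ∀ {T : X.Opens} (hT : T ≤ W), Function.Injective
      fun c : Γ(X, T) => c • InvExt.mres L (hT.trans hW) l := fun {T} hT c d hcd =>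
    TopCat.Presheaf.section_ext X.sheaf T c d fun y hy => (h y (hW (hT hy))).1
      ((hg hT c y hy).symm.trans ((congrArg (OX.germ (DCoh.toP.obj L) T hy) hcd).trans (hg hT d y hy)))
  refine ⟨hinj le_rfl, fun m => ?_⟩
  have hloc : ∀ y : W, ∃ (T : X.Opens) (hT : T ≤ W), (y : X) ∈ T ∧ ∃ c : Γ(X, T),
      c • InvExt.mres L (hT.trans hW) l = InvExt.mres L hT m := fun ⟨y, hy⟩ => by
    obtain ⟨γ, hγ⟩ := (h y (hW hy)).2 (OX.germ (DCoh.toP.obj L) W hy m)
    obtain ⟨T, hyT, c, rfl⟩ := X.presheaf.exists_germ_eq γ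
    let c' := InvExt.fres X (inf_le_left : T ⊓ W ≤ T) c
    have hc' : X.presheaf.germ (T ⊓ W) y ⟨hyT, hy⟩ c' = X.presheaf.germ T y hyT c :=
      TopCat.Presheaf.germ_res_apply X.presheaf _ _ _ _
    have he : OX.germ (DCoh.toP.obj L) (T ⊓ W) ⟨hyT, hy⟩ (c' • InvExt.mres L (inf_le_right.trans hW) l) =
        OX.germ (DCoh.toP.obj L) W hy m :=
      ((hg inf_le_right c' y ⟨hyT, hy⟩).trans (congrArg (· • _) hc')).trans hγ
    obtain ⟨S, hyS, i, j, hij⟩ := TopCat.Presheaf.germ_eq (OX.prs (DCoh.toP.obj L)) y _ hy _ m he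
    refine ⟨S, j.le, hyS, InvExt.fres X i.le c', ?_⟩
    rw [← InvExt.mres_mres L (inf_le_right.trans hW) i.le, ← InvExt.mres_smul]
    exact hij
  choose T hT hyT c hc using hloc
  have hcov : W ≤ ⨆ y, T y := fun y hy => TopologicalSpace.Opens.mem_iSup.2 ⟨⟨y, hy⟩, hyT _⟩
  obtain ⟨g, hg', -⟩ := X.sheaf.existsUnique_gluing' T W (fun y => homOfLE (hT y)) hcov c (by
    intro i j
    refine hinj (inf_le_left.trans (hT i)) ?_
    have hi := congrArg (InvExt.mres L (inf_le_left : T i ⊓ T j ≤ T i)) (hc i)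
    have hj := congrArg (InvExt.mres L (inf_le_right : T i ⊓ T j ≤ T j)) (hc j)
    rw [InvExt.mres_smul, InvExt.mres_mres, InvExt.mres_mres] at hi hj
    exact hi.trans hj.symm)
  let g' : Γ(X, W) := g
  refine ⟨g', TopCat.Sheaf.eq_of_locally_eq' ⟨L.presheaf, L.isSheaf⟩ T W
    (fun y => homOfLE (hT y)) hcov _ _ fun y => ?_⟩
  show InvExt.mres L (hT y) (g' • InvExt.mres L hW l) = InvExt.mres L (hT y) m
  rw [InvExt.mres_smul, InvExt.mres_mres, ← hc y]
  exact congrArg (· • _) (hg' y)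

/-- On a scheme X, if an O_X-module L admits an O_X-module N with L ⊗ N ≅ O_X, then L is invertible:
locally on X it is isomorphic to O_X (locally free of rank one). -/
theorem result {X : Scheme.{u}} (L N : X.Modules)
    (e : CohB1.tensorMod L N ≅ Coh.structureModule X) : PicF.IsInvertible L := by
  refine GrothLib.InvExt.isInvertible_of_gens fun x => ?_
  let σ := fun y : X => (GrothLib.OX.stalkTensorBiIso y L N).symm ≪≫ (GrothLib.OX.stalk y).mapIso e
  let ε := fun y : X => (GrothLib.AssPts.exists_stalk_unit_equiv y).some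
  let E := fun y : X => (σ y).toLinearEquiv.trans (ε y).symm
  obtain ⟨a, b, hab⟩ := exists_tmul_isUnit (E x)
  obtain ⟨U, hx, l, n, rfl, rfl⟩ :=
    GrothLib.OX.germ_exists₂ (DCoh.toP.obj L) (DCoh.toP.obj N) a b
  let t : Γ(X, U) := (DCoh.toP.map e.hom).app (op U) (GrothLib.OX.tmulSec L N U l n)
  have hE : ∀ (y : X) (hy : y ∈ U),
      IsUnit (E y (GrothLib.OX.germ (DCoh.toP.obj L) U hy l ⊗ₜ GrothLib.OX.germ (DCoh.toP.obj N) U hy n)) ↔
        IsUnit (X.presheaf.germ U y hy t) := fun y hy => by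
    let one := GrothLib.OX.germ (DCoh.toP.obj (Coh.structureModule X)) U hy (1 : Γ(X, U))
    have hmul : ∀ (T : X.Opens) (hyT : y ∈ T) (m : Γ(X, T)),
        GrothLib.OX.germ (DCoh.toP.obj (Coh.structureModule X)) T hyT m = X.presheaf.germ T y hyT m • one := by
      intro T hyT m
      let i : T ⊓ U ⟶ T := homOfLE inf_le_left
      let j : T ⊓ U ⟶ U := homOfLE inf_le_right
      refine (GrothLib.OX.germ_map (DCoh.toP.obj (Coh.structureModule X)) i ⟨hyT, hy⟩ m).symm.trans ?_
      rw [← TopCat.Presheaf.germ_res_apply X.presheaf i y ⟨hyT, hy⟩ m]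
      refine Eq.trans ?_ (congrArg (_ • ·) (GrothLib.OX.germ_map (DCoh.toP.obj (Coh.structureModule X)) j ⟨hyT, hy⟩ (1 : Γ(X, U))))
      refine Eq.trans ?_ (GrothLib.OX.germ_smul' (DCoh.toP.obj (Coh.structureModule X)) _ _ _ _)
      refine congrArg _ ?_
      show X.presheaf.map i.op m = X.presheaf.map i.op m * X.presheaf.map j.op 1
      rw [map_one, mul_one]
    have h1 : (σ y).toLinearEquiv
        (GrothLib.OX.germ (DCoh.toP.obj L) U hy l ⊗ₜ GrothLib.OX.germ (DCoh.toP.obj N) U hy n) =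
        X.presheaf.germ U y hy t • one := by
      refine ((congrArg ((GrothLib.OX.stalk y).map e.hom).hom ((congrArg (GrothLib.OX.stalkTensorBiIso y L N).inv.hom
        (GrothLib.OX.stalkTensorBiIso_germ y L N U hy l n).symm).trans
        (ConcreteCategory.congr_hom (GrothLib.OX.stalkTensorBiIso y L N).hom_inv_id _))).trans ?_)
      exact (GrothLib.OX.stalkPre_map_germ (DCoh.toP.map e.hom) U hy _).trans (hmul U hy t)
    obtain ⟨c, hc⟩ : ∃ c, c * (ε y).symm one = 1 := by
      obtain ⟨T, hyT, m, hm⟩ := GrothLib.OX.germ_exists (DCoh.toP.obj (Coh.structureModule X)) ((ε y) 1)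
      refine ⟨X.presheaf.germ T y hyT m, ?_⟩
      have := congrArg (ε y).symm ((hmul T hyT m).symm.trans hm)
      exact ((map_smul (ε y).symm _ one).symm.trans this).trans ((ε y).symm_apply_apply 1)
    have h2 : E y (GrothLib.OX.germ (DCoh.toP.obj L) U hy l ⊗ₜ GrothLib.OX.germ (DCoh.toP.obj N) U hy n) =
        X.presheaf.germ U y hy t * (ε y).symm one :=
      (congrArg (ε y).symm h1).trans (map_smul (ε y).symm _ one)
    rw [h2, IsUnit.mul_iff]
    exact ⟨And.left, fun h => ⟨h, IsUnit.of_mul_eq_one _ ((mul_comm _ _).trans hc)⟩⟩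
  refine ⟨X.basicOpen t, GrothLib.InvExt.mres L (X.basicOpen_le t) l,
    (X.mem_basicOpen t x hx).2 ((hE x hx).1 hab), isGen_of_stalk L _ _ fun y hy => ?_⟩
  have hyU : y ∈ U := X.basicOpen_le t hy
  have hb := bijective_smul_of_unit (E y) _ _ ((hE y hyU).2 ((X.mem_basicOpen t y hyU).1 hy))
  have hgl : GrothLib.OX.germ (DCoh.toP.obj L) (X.basicOpen t) hy (GrothLib.InvExt.mres L (X.basicOpen_le t) l) =
      GrothLib.OX.germ (DCoh.toP.obj L) U hyU l :=
    GrothLib.OX.germ_map (DCoh.toP.obj L) (homOfLE (X.basicOpen_le t)) hy l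
  show Function.Bijective fun c : X.presheaf.stalk y => c • GrothLib.OX.germ (DCoh.toP.obj L) (X.basicOpen t) hy _
  rw [hgl]
  exact hb

end Groth.Agent.S2122
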