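import Groth.Statements.S14313
import Groth.Agent.Lib.HodgeIndex.NegCurves
import Groth.Agent.Lib.HodgeIndex.IdealLe
import Groth.Agent.S2122

set_option autoImplicit false
set_option linter.all false
universe u
open CategoryTheory CategoryTheory.Limits AlgebraicGeometry TopologicalSpace
open Surf

namespace Groth.Agent.S14313

/-- Let k be an algebraically closed field, S a smooth projective surface over k (integral, proper and
smooth over k, of dimension 2), f : S → C a surjective k-morphism onto a smooth projective curve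
(integral, proper and smooth over k, of dimension 1) and F = f⁻¹(p) the fibre over a closed point p,
with O_S(F) a tensor inverse of its ideal sheaf. Let D be a divisor (L = O_S(D) an invertible
module), Z_1 ≥ Z_2 ≥ ⋯ ≥ Z_n ≥ Z_{n+1} = 0 effective Cartier divisors (ideal sheaves I_1 ⊆ I_2 ⊆ ⋯ ⊆
I_{n+1} = O_S) and μ_1 > μ_2 > ⋯ > μ_n > μ_{n+1} = 0 rational numbers such that every N_i = D − Z_i
− μ_i F (1 ≤ i ≤ n + 1) is a nef ℚ-divisor: (D·Γ) − (Z_i·Γ) − μ_i (F·Γ) ≥ 0 for every integral curve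
Γ ⊆ S, where (L·Γ) = χ(O_Γ ⊗ L) − χ(O_Γ) and (Z_i·Γ) = −(I_i·Γ). Put d_i = N_i·F = (D·F) − (Z_i·F) −
μ_i (F·F). Then D² ≥ Σ_{i=1}^{n} (d_i + d_{i+1})(μ_i − μ_{i+1}); here (L·M) = χ(O_S) − χ(L) − χ(M) +
χ(L ⊗ M) for invertible L, M, packaged as FGA.intNum. (Indices run over Fin (n+1), position i
standing for i + 1.) (The published statement is for the chapter's fibration, with connected fibres,
semi-stable and relatively minimal, over an algebraically closed field of positive characteristic;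
this row asks only that f be surjective and allows any algebraically closed field.) -/
theorem result (k : Type u) [Field k] [IsAlgClosed k]
    (S : Scheme.{u}) [S.Over (Spec (CommRingCat.of k))] [IsProper (S ↘ (Spec (CommRingCat.of k)))]
    [Smooth (S ↘ (Spec (CommRingCat.of k)))] [IsIntegral S] (hdim : topologicalKrullDim S = 2)
    (C : Scheme.{u}) [C.Over (Spec (CommRingCat.of k))] [IsProper (C ↘ (Spec (CommRingCat.of k)))]
    [Smooth (C ↘ (Spec (CommRingCat.of k)))] [IsIntegral C] (hdimC : topologicalKrullDim C = 1)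
    (f : S ⟶ C) [f.IsOver (Spec (CommRingCat.of k))] [Surjective f]
    (p : C) (hp : IsClosed ({p} : Set C))
    (LF : S.Modules) (hLF : ClSub.IsInverseOf LF (ClSub.idealMod (f.fiberι p).ker))
    (L : S.Modules) (hL : PicF.IsInvertible L)
    (n : ℕ) (Z : Fin (n + 1) → S.IdealSheafData) (hZ : ∀ i, FGA.IsEffCartier (Z i))
    (hZmono : Monotone Z) (hZlast : Z (Fin.last n) = ⊤)
    (μ : Fin (n + 1) → ℚ) (hμ : StrictAnti μ) (hμlast : μ (Fin.last n) = 0)
    (hnef : ∀ (i : Fin (n + 1)) (Γ : S.IdealSheafData), IsIntegral Γ.subscheme →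
      topologicalKrullDim (Γ.support : Set S) = 1 →
      (0 : ℚ) ≤ ((Curv2.euler k S (CohB1.tensorMod (ClSub.quotMod Γ) L) - Curv2.euler k S (ClSub.quotMod Γ)) : ℚ) + ((Curv2.euler k S (CohB1.tensorMod (ClSub.quotMod Γ) (ClSub.idealMod (Z i))) - Curv2.euler k S (ClSub.quotMod Γ)) : ℚ)
        - μ i * ((Curv2.euler k S (CohB1.tensorMod (ClSub.quotMod Γ) LF) - Curv2.euler k S (ClSub.quotMod Γ)) : ℚ)) :
    (Finset.univ.sum fun i : Fin n =>
        (((FGA.intNum k S 2 ![L, LF] (Coh.structureModule S) : ℚ) + (FGA.intNum k S 2 ![ClSub.idealMod (Z i.castSucc), LF] (Coh.structureModule S) : ℚ) - μ i.castSucc * (FGA.intNum k S 2 ![LF, LF] (Coh.structureModule S) : ℚ))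
          + ((FGA.intNum k S 2 ![L, LF] (Coh.structureModule S) : ℚ) + (FGA.intNum k S 2 ![ClSub.idealMod (Z i.succ), LF] (Coh.structureModule S) : ℚ) - μ i.succ * (FGA.intNum k S 2 ![LF, LF] (Coh.structureModule S) : ℚ)))
        * (μ i.castSucc - μ i.succ)) ≤ (FGA.intNum k S 2 ![L, L] (Coh.structureModule S) : ℚ) := by
  haveI := GrothLib.Euler.isNoetherian_of_proper (X := S) k
  have hd : topologicalKrullDim S = ((2 : ℕ) : WithBot ℕ∞) := hdim
  obtain ⟨H, hH⟩ := GrothLib.Goodman.exists_ample_of_smooth_surface k hd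
  obtain ⟨eF⟩ := hLF
  have hLFi : PicF.IsInvertible LF := Groth.Agent.S2122.result _ _ eF
  have hEZ : ∀ i, PicF.IsInvertible (ClSub.idealMod (Z i)) := fun i =>
    GrothLib.HodgeIndex.invertible_of_effCartier (hZ i)
  obtain ⟨F, hF⟩ : ∃ F, F = GrothLib.Cube.clsMod hLFi := ⟨_, rfl⟩
  obtain ⟨a, ha⟩ : ∃ a : Fin (n + 1) → GrothLib.Cube.Pic S,
      ∀ i, a i = GrothLib.Cube.clsMod hL * GrothLib.Cube.clsMod (hEZ i) := ⟨_, fun _ => rfl⟩
  have hint : ∀ {A B : S.Modules} (hA : PicF.IsInvertible A) (hB : PicF.IsInvertible B),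
      FGA.intNum k S 2 ![A, B] (Coh.structureModule S) =
        GrothLib.HodgeIndex.isect k (GrothLib.Cube.clsMod hA) (GrothLib.Cube.clsMod hB) :=
    fun hA hB => GrothLib.HodgeIndex.intNum_eq_isect k hd.le hH hA hB
  -- nefness on curves
  have hdeg : ∀ i y, GrothLib.Snapper.IsTop 1 y →
      0 ≤ GrothLib.HodgeIndex.deg k y (a i) - μ i * GrothLib.HodgeIndex.deg k y F := fun i y hy => by
    have hs : topologicalKrullDim ((GrothLib.HodgeIndex.curveIdeal y).support : Set S) = 1 := by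
      rw [← (GrothLib.HodgeIndex.curveIdeal y).range_subschemeι, GrothLib.Snapper.range_pt y]
      exact hy
    have e : ∀ {A : S.Modules} (hA : PicF.IsInvertible A),
        ((Curv2.euler k S (CohB1.tensorMod (ClSub.quotMod (GrothLib.HodgeIndex.curveIdeal y)) A) -
          Curv2.euler k S (ClSub.quotMod (GrothLib.HodgeIndex.curveIdeal y)) : ℤ) : ℚ) =
          GrothLib.HodgeIndex.deg k y (GrothLib.Cube.clsMod hA) := fun {A} hA => by
      rw [GrothLib.HodgeIndex.euler_sub_eq_mixed k hA, GrothLib.HodgeIndex.deg_eq_mixed k hA]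
    rw [ha, GrothLib.Goodman.deg_mul k hy, hF, ← e hL, ← e (hEZ i), ← e hLFi]
    have h := hnef i _ (GrothLib.Snapper.isIntegral_pt y) hs
    push_cast at h ⊢
    linarith
  -- the squares
  obtain ⟨Q, hQ⟩ : ∃ Q : Fin (n + 1) → ℚ, ∀ i, Q i = (GrothLib.HodgeIndex.isect k (a i) (a i) : ℚ) -
      2 * μ i * (GrothLib.HodgeIndex.isect k (a i) F : ℚ) + μ i ^ 2 * (GrothLib.HodgeIndex.isect k F F : ℚ) :=
    ⟨_, fun _ => rfl⟩
  have hstep : ∀ i : Fin n,
      ((GrothLib.HodgeIndex.isect k (a i.castSucc) F : ℚ) - μ i.castSucc * (GrothLib.HodgeIndex.isect k F F : ℚ) +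
        ((GrothLib.HodgeIndex.isect k (a i.succ) F : ℚ) - μ i.succ * (GrothLib.HodgeIndex.isect k F F : ℚ))) *
        (μ i.castSucc - μ i.succ) ≤ Q i.succ - Q i.castSucc := fun i => by
    obtain ⟨w, hw⟩ : ∃ w, w = GrothLib.Cube.clsMod (hEZ i.succ) * (GrothLib.Cube.clsMod (hEZ i.castSucc))⁻¹ :=
      ⟨_, rfl⟩
    have hpl : GrothLib.Kodaira.PLe (1 : GrothLib.Cube.Pic S) w := by
      have h := (GrothLib.HodgeIndex.pLe_idealMod (hZmono i.castSucc_le_succ) (hEZ i.castSucc)
        (hEZ i.succ)).mul_right (GrothLib.Cube.clsMod (hEZ i.castSucc))⁻¹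
      rwa [mul_inv_cancel, ← hw] at h
    have haw : a i.succ = a i.castSucc * w := by rw [ha, ha, hw, mul_assoc, mul_left_comm (GrothLib.Cube.clsMod (hEZ i.castSucc)),
      mul_inv_cancel, mul_one]
    have h0 := GrothLib.HodgeIndex.sum_isect_nonneg k hd (ι := Fin 3) ![1, 1, -(μ i.castSucc + μ i.succ)]
      ![a i.castSucc, a i.succ, F] (fun y hy => by
        have h1 := hdeg i.castSucc y hy
        have h2 := hdeg i.succ y hy
        simp [Fin.sum_univ_three]
        linarith) hpl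
    simp only [Fin.sum_univ_three, Matrix.cons_val_zero, Matrix.cons_val_one, Matrix.cons_val_two,
      Matrix.head_cons, Matrix.tail_cons, Matrix.cons_val] at h0
    rw [hQ, hQ]
    have eBF : GrothLib.HodgeIndex.isect k (a i.succ) F =
        GrothLib.HodgeIndex.isect k (a i.castSucc) F + GrothLib.HodgeIndex.isect k w F := by
      rw [haw, GrothLib.HodgeIndex.isect_mul_left k hd.le]
    have eBB : GrothLib.HodgeIndex.isect k (a i.succ) (a i.succ) = GrothLib.HodgeIndex.isect k (a i.castSucc) (a i.castSucc) +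
        GrothLib.HodgeIndex.isect k (a i.castSucc) w + GrothLib.HodgeIndex.isect k (a i.succ) w := by
      rw [haw]
      simp only [GrothLib.HodgeIndex.isect_mul_left k hd.le, GrothLib.HodgeIndex.isect_mul_right k hd.le,
        GrothLib.HodgeIndex.isect_comm k w (a i.castSucc)]
    rw [GrothLib.HodgeIndex.isect_comm k F w] at h0
    rw [eBF, eBB]
    push_cast
    linear_combination h0
  have hμ0 : ∀ i, 0 ≤ μ i := fun i => hμlast ▸ hμ.antitone (Fin.le_last i)
  have hQ0 : 0 ≤ Q 0 := by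
    obtain ⟨p, q, hq, hpq⟩ : ∃ p q : ℕ, 0 < q ∧ μ 0 * q = p := by
      refine ⟨(μ 0).num.toNat, (μ 0).den, (μ 0).den_pos, ?_⟩
      have h : (((μ 0).num.toNat : ℕ) : ℚ) = ((μ 0).num : ℚ) := by
        exact_mod_cast Int.toNat_of_nonneg (Rat.num_nonneg.2 (hμ0 0))
      rw [h, Rat.mul_den_eq_num]
    have h := GrothLib.HodgeIndex.sq_nonneg_of_deg k hd hH (x := a 0 ^ q * (F ^ p)⁻¹) fun y hy => by
      have hp : ∀ (x : GrothLib.Cube.Pic S) (m : ℕ),
          GrothLib.HodgeIndex.deg k y (x ^ m) = m * GrothLib.HodgeIndex.deg k y x := fun x m => by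
        induction m with
        | zero => simp [GrothLib.Goodman.deg_one k hy]
        | succ m ih => rw [pow_succ, GrothLib.Goodman.deg_mul k hy, ih]; push_cast; ring
      rw [GrothLib.Goodman.deg_mul k hy, GrothLib.Goodman.deg_inv k hy, hp, hp, ← hpq]
      have := mul_nonneg (Nat.cast_nonneg (α := ℚ) q) (hdeg 0 y hy)
      linarith
    simp only [GrothLib.HodgeIndex.isect_mul_left k hd.le, GrothLib.HodgeIndex.isect_mul_right k hd.le,
      GrothLib.HodgeIndex.isect_inv_left k hd.le, GrothLib.HodgeIndex.isect_inv_right k hd.le,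
      GrothLib.HodgeIndex.isect_pow_left k hd.le, GrothLib.HodgeIndex.isect_pow_right k hd.le,
      GrothLib.HodgeIndex.isect_comm k F (a 0)] at h
    have h' : (0 : ℚ) ≤ ((q : ℤ) * ((q : ℤ) * GrothLib.HodgeIndex.isect k (a 0) (a 0)) +
        -((q : ℤ) * ((p : ℤ) * GrothLib.HodgeIndex.isect k (a 0) F)) +
        (-((p : ℤ) * ((q : ℤ) * GrothLib.HodgeIndex.isect k (a 0) F)) +
          -(-((p : ℤ) * ((p : ℤ) * GrothLib.HodgeIndex.isect k F F)))) : ℤ) := by exact_mod_cast (show (0 : ℤ) ≤ _ by linarith)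
    push_cast at h'
    rw [← hpq] at h'
    rw [hQ]
    have hq2 : (0 : ℚ) < (q : ℚ) * q := by positivity
    refine nonneg_of_mul_nonneg_right ?_ hq2
    linarith
  have hlast : Q (Fin.last n) = (FGA.intNum k S 2 ![L, L] (Coh.structureModule S) : ℚ) := by
    have hz : GrothLib.Cube.clsMod (hEZ (Fin.last n)) = 1 := by
      generalize hEZ (Fin.last n) = h
      revert h
      rw [hZlast]
      exact fun h => GrothLib.HodgeIndex.cls_idealMod_top h
    rw [hQ, hμlast, hint hL hL, ha, hz, mul_one]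
    ring
  have htel : ∑ i : Fin n, (Q i.succ - Q i.castSucc) = Q (Fin.last n) - Q 0 := by
    rw [Finset.sum_sub_distrib]
    have h1 := Fin.sum_univ_succ Q
    have h2 := Fin.sum_univ_castSucc Q
    linarith
  refine le_trans (Finset.sum_le_sum fun i _ => le_trans (le_of_eq ?_) (hstep i)) ?_
  · rw [hint hL hLFi, hint (hEZ i.castSucc) hLFi, hint (hEZ i.succ) hLFi, hint hLFi hLFi, ← hF, ha, ha,
      GrothLib.HodgeIndex.isect_mul_left k hd.le, GrothLib.HodgeIndex.isect_mul_left k hd.le]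
    push_cast
    ring
  · rw [htel, hlast]
    linarith

end Groth.Agent.S14313
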