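import Groth.Statements.S14314
import Groth.Agent.Lib.HodgeIndex.Pullback
import Groth.Agent.Lib.HodgeIndex.IdealMul
import Groth.Agent.S2122
import Groth.Agent.Lib.CurveLocus.Smooth

set_option autoImplicit false
set_option linter.all false
universe u
open CategoryTheory CategoryTheory.Limits AlgebraicGeometry TopologicalSpace
open Surf

namespace Groth.Agent.S14314

/-- Let k be an algebraically closed field, S a smooth projective surface over k (integral, proper and
smooth over k, of dimension 2), f : S → C a surjective k-morphism onto a smooth projective curve and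
F = f⁻¹(p) the fibre over a closed point p, with O_S(F) a tensor inverse of its ideal sheaf. Let
D_1, D_2 be numerically equivalent divisors (invertible modules L_1, L_2 with (L_1·Γ) = (L_2·Γ) for
every integral curve Γ ⊆ S, where (L·Γ) = χ(O_Γ ⊗ L) − χ(O_Γ)), μ_1 ≥ μ_2 rational numbers and Z_1,
Z_2 effective Cartier divisors with common part Z, that is Z_i = Z + Y_i with Z, Y_1, Y_2 effective
Cartier divisors and Y_1, Y_2 without common component (Y_1 ∩ Y_2 finite); in terms of ideal sheaves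
I_{Z_i} = I_Z · I_{Y_i}. If N_i = D_i − Z_i − μ_i F is nef for i = 1, 2, that is (D_i·Γ) +
(I_{Z_i}·Γ) − μ_i (F·Γ) ≥ 0 for every integral curve Γ, then N = D_2 − Z − μ_2 F is nef. (The
published statement is for the chapter's fibration over an algebraically closed field of positive
characteristic; this row asks only that f be surjective and allows any algebraically closed field.) -/
theorem result (k : Type u) [Field k] [IsAlgClosed k]
    (S : Scheme.{u}) [S.Over (Spec (CommRingCat.of k))] [IsProper (S ↘ (Spec (CommRingCat.of k)))]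
    [Smooth (S ↘ (Spec (CommRingCat.of k)))] [IsIntegral S] (hdim : topologicalKrullDim S = 2)
    (C : Scheme.{u}) [C.Over (Spec (CommRingCat.of k))] [IsProper (C ↘ (Spec (CommRingCat.of k)))]
    [Smooth (C ↘ (Spec (CommRingCat.of k)))] [IsIntegral C] (hdimC : topologicalKrullDim C = 1)
    (f : S ⟶ C) [f.IsOver (Spec (CommRingCat.of k))] [Surjective f]
    (p : C) (hp : IsClosed ({p} : Set C))
    (LF : S.Modules) (hLF : ClSub.IsInverseOf LF (ClSub.idealMod (f.fiberι p).ker))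
    (L₁ L₂ : S.Modules) (hL₁ : PicF.IsInvertible L₁) (hL₂ : PicF.IsInvertible L₂)
    (hnum : ∀ Γ : S.IdealSheafData, IsIntegral Γ.subscheme → topologicalKrullDim (Γ.support : Set S) = 1 →
      (Curv2.euler k S (CohB1.tensorMod (ClSub.quotMod Γ) L₁) - Curv2.euler k S (ClSub.quotMod Γ)) = (Curv2.euler k S (CohB1.tensorMod (ClSub.quotMod Γ) L₂) - Curv2.euler k S (ClSub.quotMod Γ)))
    (μ₁ μ₂ : ℚ) (hμ : μ₂ ≤ μ₁)
    (Z Y₁ Y₂ Z₁ Z₂ : S.IdealSheafData) (hZ : FGA.IsEffCartier Z) (hY₁ : FGA.IsEffCartier Y₁) (hY₂ : FGA.IsEffCartier Y₂)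
    (hZ₁ : Z₁ = Z * Y₁) (hZ₂ : Z₂ = Z * Y₂) (hY : ((Y₁ ⊔ Y₂).support : Set S).Finite)
    (hnef₁ : (∀ Γ : S.IdealSheafData, IsIntegral Γ.subscheme → topologicalKrullDim (Γ.support : Set S) = 1 →
      (0 : ℚ) ≤ ((Curv2.euler k S (CohB1.tensorMod (ClSub.quotMod Γ) L₁) - Curv2.euler k S (ClSub.quotMod Γ)) : ℚ) + ((Curv2.euler k S (CohB1.tensorMod (ClSub.quotMod Γ) (ClSub.idealMod Z₁)) - Curv2.euler k S (ClSub.quotMod Γ)) : ℚ)
        - μ₁ * ((Curv2.euler k S (CohB1.tensorMod (ClSub.quotMod Γ) LF) - Curv2.euler k S (ClSub.quotMod Γ)) : ℚ)))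
    (hnef₂ : (∀ Γ : S.IdealSheafData, IsIntegral Γ.subscheme → topologicalKrullDim (Γ.support : Set S) = 1 →
      (0 : ℚ) ≤ ((Curv2.euler k S (CohB1.tensorMod (ClSub.quotMod Γ) L₂) - Curv2.euler k S (ClSub.quotMod Γ)) : ℚ) + ((Curv2.euler k S (CohB1.tensorMod (ClSub.quotMod Γ) (ClSub.idealMod Z₂)) - Curv2.euler k S (ClSub.quotMod Γ)) : ℚ)
        - μ₂ * ((Curv2.euler k S (CohB1.tensorMod (ClSub.quotMod Γ) LF) - Curv2.euler k S (ClSub.quotMod Γ)) : ℚ))) :
    (∀ Γ : S.IdealSheafData, IsIntegral Γ.subscheme → topologicalKrullDim (Γ.support : Set S) = 1 →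
      (0 : ℚ) ≤ ((Curv2.euler k S (CohB1.tensorMod (ClSub.quotMod Γ) L₂) - Curv2.euler k S (ClSub.quotMod Γ)) : ℚ) + ((Curv2.euler k S (CohB1.tensorMod (ClSub.quotMod Γ) (ClSub.idealMod Z)) - Curv2.euler k S (ClSub.quotMod Γ)) : ℚ)
        - μ₂ * ((Curv2.euler k S (CohB1.tensorMod (ClSub.quotMod Γ) LF) - Curv2.euler k S (ClSub.quotMod Γ)) : ℚ)) := by
  haveI := GrothLib.Euler.isNoetherian_of_proper (X := S) k
  haveI : JacobsonSpace S := LocallyOfFiniteType.jacobsonSpace (S ↘ Spec (CommRingCat.of k))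
  have hd : topologicalKrullDim S = ((2 : ℕ) : WithBot ℕ∞) := hdim
  obtain ⟨eF⟩ := hLF
  have hLFi : PicF.IsInvertible LF := Groth.Agent.S2122.result _ _ eF
  have hFi : PicF.IsInvertible (ClSub.idealMod (f.fiberι p).ker) :=
    Groth.Agent.S2122.result _ _ ((((GrothLib.OX.tensorBraiding (X := S)).app LF).app (ClSub.idealMod (f.fiberι p).ker) :) ≪≫ eF)
  have hcF : GrothLib.Cube.clsMod hLFi = (GrothLib.Cube.clsMod hFi)⁻¹ := by
    rw [eq_inv_iff_mul_eq_one, ← GrothLib.Cube.clsMod_tensorMod hLFi hFi, GrothLib.Cube.clsMod_eq_one_iff]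
    exact ⟨eF⟩
  have hP := GrothLib.HodgeIndex.isInvertible_point (k := k) hdimC hp
  haveI := isClosed_singleton_iff_isClosedImmersion.1 hp
  have hFnonneg : ∀ y, GrothLib.Snapper.IsTop 1 y → 0 ≤ GrothLib.HodgeIndex.deg k y (GrothLib.Cube.clsMod hLFi) := by
    intro y hy
    rw [hcF]
    by_cases hfy : f y = p
    · rw [GrothLib.Goodman.deg_inv k hy, GrothLib.HodgeIndex.cls_fibre f hp hP hFi,
        (GrothLib.HodgeIndex.deg_pullback k f (comp_over f _) hP hy).1 ?_, neg_zero]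
      rw [hfy]
      exact GrothLib.HodgeIndex.not_isTop_of_isClosed hp
    · refine GrothLib.HodgeIndex.deg_effCartier_nonneg k hd hFi hy ?_
      rw [Scheme.Hom.support_ker, Scheme.Hom.range_fiberι, (hp.preimage f.continuous).closure_eq]
      exact hfy
  intro Γ hΓ hΓd
  haveI := hΓ
  have hy : GrothLib.Snapper.IsTop 1 (Γ.subschemeι (genericPoint Γ.subscheme)) :=
    GrothLib.HodgeIndex.isTop_of_curve k hΓd
  have e : ∀ {A : S.Modules} (hA : PicF.IsInvertible A),
      ((Curv2.euler k S (CohB1.tensorMod (ClSub.quotMod Γ) A) : ℚ) - (Curv2.euler k S (ClSub.quotMod Γ) : ℚ)) =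
        GrothLib.HodgeIndex.deg k (Γ.subschemeι (genericPoint Γ.subscheme)) (GrothLib.Cube.clsMod hA) := fun {A} hA => by
    rw [← GrothLib.HodgeIndex.euler_sub_eq_deg k hd hA Γ]
    push_cast
    rfl
  have iZ := GrothLib.HodgeIndex.invertible_of_effCartier hZ
  have i₁ := GrothLib.HodgeIndex.invertible_of_effCartier hY₁
  have i₂ := GrothLib.HodgeIndex.invertible_of_effCartier hY₂
  have iZ₁ : PicF.IsInvertible (ClSub.idealMod (Z * Y₁)) :=
    GrothLib.ParaPair.isInvertible_of_iso (GrothLib.HodgeIndex.nonempty_idealMod_mul iZ i₁).some.symm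
      (GrothLib.Ample.isInvertible_tensorMod iZ i₁)
  have iZ₂ : PicF.IsInvertible (ClSub.idealMod (Z * Y₂)) :=
    GrothLib.ParaPair.isInvertible_of_iso (GrothLib.HodgeIndex.nonempty_idealMod_mul iZ i₂).some.symm
      (GrothLib.Ample.isInvertible_tensorMod iZ i₂)
  have n₁ := hnef₁ Γ hΓ hΓd
  have n₂ := hnef₂ Γ hΓ hΓd
  have hn : ((Curv2.euler k S (CohB1.tensorMod (ClSub.quotMod Γ) L₁) : ℚ) - (Curv2.euler k S (ClSub.quotMod Γ) : ℚ)) =
      ((Curv2.euler k S (CohB1.tensorMod (ClSub.quotMod Γ) L₂) : ℚ) - (Curv2.euler k S (ClSub.quotMod Γ) : ℚ)) := by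
    exact_mod_cast hnum Γ hΓ hΓd
  subst hZ₁ hZ₂
  push_cast at n₁ n₂ ⊢
  rw [e hL₁, e iZ₁, e hLFi, GrothLib.HodgeIndex.cls_idealMod_mul iZ₁ iZ i₁, GrothLib.Goodman.deg_mul k hy] at n₁
  rw [e hL₂, e iZ₂, e hLFi, GrothLib.HodgeIndex.cls_idealMod_mul iZ₂ iZ i₂, GrothLib.Goodman.deg_mul k hy] at n₂
  rw [e hL₁, e hL₂] at hn
  rw [e hL₂, e iZ, e hLFi]
  have hF0 := mul_nonneg (sub_nonneg.2 hμ) (hFnonneg _ hy)
  by_cases h2 : Γ.subschemeι (genericPoint Γ.subscheme) ∈ (Y₂.support : Set S)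
  · have h1 : Γ.subschemeι (genericPoint Γ.subscheme) ∉ (Y₁.support : Set S) := fun h1 => by
      have hc := GrothLib.CurveLocus.isClosed_singleton_of_finite (Y₁ ⊔ Y₂).support.isClosed hY
        (x := Γ.subschemeι (genericPoint Γ.subscheme)) (by rw [Scheme.IdealSheafData.support_sup]; exact ⟨h1, h2⟩)
      exact GrothLib.HodgeIndex.not_isTop_of_isClosed hc hy
    have hpos := GrothLib.HodgeIndex.deg_effCartier_nonneg k hd i₁ hy h1
    rw [GrothLib.Goodman.deg_inv k hy] at hpos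
    linarith
  · have hpos := GrothLib.HodgeIndex.deg_effCartier_nonneg k hd i₂ hy h2
    rw [GrothLib.Goodman.deg_inv k hy] at hpos
    linarith

end Groth.Agent.S14314
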