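import Groth.Statements.S14315
-- import your own Groth.Agent.* helpers here
import Groth.Agent.Lib.CurvePoints.Basic
import Groth.Agent.Lib.CurveRR.Places
import Groth.Agent.Lib.CurveMult.GGCurve
import Groth.Agent.Lib.CurveMult.Drop
import Groth.Agent.Lib.LocProp.Stalk
import Groth.Agent.Lib.LocProp.BaseChangeDescent
import Groth.Agent.Lib.EtLocal.PointFibre
import Groth.Agent.Lib.GenericSmooth.Basic
import Groth.Agent.Lib.Euler.Basic

set_option autoImplicit false
set_option maxHeartbeats 1600000
set_option linter.style.haveILetI false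
set_option backward.isDefEq.respectTransparency false
universe u
open CategoryTheory CategoryTheory.Limits AlgebraicGeometry TopologicalSpace
open Surf

namespace Groth.Agent.S14315

/-- Let k be an algebraically closed field, S a smooth projective surface over k (integral, proper and
smooth over k, of dimension 2), f : S → C a surjective k-morphism onto a smooth projective curve C
(integral, proper and smooth over k, of dimension 1), and ψ : C' → C a finite k-morphism from
another smooth projective curve C' which is unramified at every point of C' lying over a point of C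
whose fibre of f is not smooth. Then S ×_C C' is smooth over k. (The published statement takes ψ
separable and f the chapter's generically smooth semi-stable fibration with connected fibres over an
algebraically closed field of positive characteristic; this row assumes only f surjective and ψ
finite, over any algebraically closed field.) -/
theorem result (k : Type u) [Field k] [IsAlgClosed k]
    (S : Scheme.{u}) [S.Over (Spec (CommRingCat.of k))] [IsProper (S ↘ (Spec (CommRingCat.of k)))]
    [Smooth (S ↘ (Spec (CommRingCat.of k)))] [IsIntegral S] (hdim : topologicalKrullDim S = 2)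
    (C : Scheme.{u}) [C.Over (Spec (CommRingCat.of k))] [IsProper (C ↘ (Spec (CommRingCat.of k)))]
    [Smooth (C ↘ (Spec (CommRingCat.of k)))] [IsIntegral C] (hdimC : topologicalKrullDim C = 1)
    (f : S ⟶ C) [f.IsOver (Spec (CommRingCat.of k))] [Surjective f]
    (C' : Scheme.{u}) [C'.Over (Spec (CommRingCat.of k))] [IsProper (C' ↘ (Spec (CommRingCat.of k)))]
    [Smooth (C' ↘ (Spec (CommRingCat.of k)))] [IsIntegral C'] (hdimC' : topologicalKrullDim C' = 1)
    (ψ : C' ⟶ C) [ψ.IsOver (Spec (CommRingCat.of k))] [IsFinite ψ]
    (hψ : ∀ c : C', ¬ Smooth (f.fiberToSpecResidueField (ψ.base c)) →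
      ∃ U : C'.Opens, c ∈ U ∧ FormallyUnramified (U.ι ≫ ψ)) :
    Smooth (pullback.snd f ψ ≫ (C' ↘ (Spec (CommRingCat.of k)))) := by
  have hg : ∀ x : C, IsIntegrallyClosed (C.presheaf.stalk x) := by
    intro x
    haveI := GrothLib.CurveRR.regCurve_of_smooth (C ↘ Spec (CommRingCat.of k)) hdimC
    by_cases hx : x = genericPoint C
    · subst hx
      exact (inferInstanceAs (IsIntegrallyClosed C.functionField))
    · haveI := GrothLib.CurveRR.RegCurve.dvr x hx
      infer_instance
  haveI := GrothLib.Euler.isNoetherian_of_proper (X := C) k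
  haveI := GrothLib.Euler.isNoetherian_of_proper (X := S) k
  haveI := GrothLib.Euler.isNoetherian_of_proper (X := C') k
  have hef : f (genericPoint S) = genericPoint C :=
    GrothLib.GenericSmooth.map_genericPoint_of_denseRange f f.surjective.denseRange
  haveI : Flat f := GrothLib.CurvePoints.flat_of_dominant hdimC.le hg f hef
  have heψ : ψ (genericPoint C') = genericPoint C := by
    by_contra hne
    have hcl : IsClosed ({ψ (genericPoint C')} : Set C) := (GrothLib.CurvePoints.isClosed_singleton_iff hdimC).2 hne
    have hall : ∀ y : C', ψ y = ψ (genericPoint C') := fun y => by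
      have h1 : ψ y ∈ closure (ψ '' {genericPoint C'}) :=
        image_closure_subset_closure_image ψ.continuous ⟨y, (genericPoint_spec C').symm ▸ Set.mem_univ y, rfl⟩
      rwa [Set.image_singleton, hcl.closure_eq, Set.mem_singleton_iff] at h1
    haveI := GrothLib.CurveRR.regCurve_of_smooth (C' ↘ Spec (CommRingCat.of k)) hdimC'
    have hfin : (Set.univ : Set C').Finite := (ψ.finite_preimage_singleton (ψ (genericPoint C'))).subset fun y _ => hall y
    have hclosed : IsClosed ({y : C' | y ≠ genericPoint C'}) := by
      rw [← Set.biUnion_of_singleton {y : C' | y ≠ genericPoint C'}]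
      exact (hfin.subset (Set.subset_univ _)).isClosed_biUnion fun y hy =>
        (GrothLib.CurvePoints.isClosed_singleton_iff hdimC').2 hy
    obtain ⟨x, hxW, hx, -, -⟩ := GrothLib.CurveMult.exists_regular_mem k hdimC'
      (W := ⟨_, hclosed.isOpen_compl⟩) (show genericPoint C' ∈ ({y : C' | y ≠ genericPoint C'})ᶜ from fun h => h rfl)
    exact hxW hx
  haveI : Flat ψ := GrothLib.CurvePoints.flat_of_dominant hdimC.le hg ψ heψ
  have hf' : f ≫ (C ↘ Spec (CommRingCat.of k)) = S ↘ Spec (CommRingCat.of k) := comp_over f _
  have hψ' : ψ ≫ (C ↘ Spec (CommRingCat.of k)) = C' ↘ Spec (CommRingCat.of k) := comp_over ψ _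
  haveI : LocallyOfFiniteType f := by
    haveI : LocallyOfFiniteType (f ≫ (C ↘ Spec (CommRingCat.of k))) := by rw [hf']; infer_instance
    exact locallyOfFiniteType_of_comp f (C ↘ Spec (CommRingCat.of k))
  haveI : LocallyOfFinitePresentation f := inferInstance
  set P := pullback.snd f ψ ≫ (C' ↘ Spec (CommRingCat.of k))
  refine Scheme.Hom.smoothLocus_eq_top_iff.1 (eq_top_iff.2 fun z _ => (GrothLib.LocProp.smooth_nhd_iff P z).1 ?_)
  have hw : f (pullback.fst f ψ z) = ψ (pullback.snd f ψ z) := by
    rw [← Scheme.Hom.comp_apply, pullback.condition, Scheme.Hom.comp_apply]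
  by_cases h : Smooth (f.fiberToSpecResidueField (f (pullback.fst f ψ z)))
  · haveI := h
    have h1 := GrothLib.EtLocal.smooth_nhd_of_flat_of_fibre_nhd f (pullback.fst f ψ z) (Flat.stalkMap f _)
      (f.asFiber _) (f.fiberι_asFiber _) ⟨⊤, trivial, inferInstance⟩
    obtain ⟨U, hzU, hU⟩ := GrothLib.LocProp.nhd_of_isPullback (W := @Smooth) (IsPullback.of_hasPullback f ψ) z h1
    haveI := hU
    refine ⟨U, hzU, ?_⟩
    rw [show U.ι ≫ P = (U.ι ≫ pullback.snd f ψ) ≫ (C' ↘ Spec (CommRingCat.of k)) from (Category.assoc _ _ _).symm]
    infer_instance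
  · obtain ⟨U, hcU, hU⟩ := hψ (pullback.snd f ψ z) (by rw [hw] at h; exact h)
    haveI := hU
    haveI : Etale (U.ι ≫ ψ) := Etale.of_formallyUnramified_of_flat _
    obtain ⟨V, hzV, hV⟩ := GrothLib.LocProp.nhd_of_isPullback (W := @Etale) (IsPullback.of_hasPullback f ψ).flip z
      ⟨U, hcU, inferInstance⟩
    haveI := hV
    refine ⟨V, hzV, ?_⟩
    rw [show V.ι ≫ P = (V.ι ≫ pullback.fst f ψ) ≫ (S ↘ Spec (CommRingCat.of k)) by
      rw [← hf', Category.assoc, ← Category.assoc (pullback.fst f ψ), pullback.condition, Category.assoc, hψ']]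
    infer_instance

end Groth.Agent.S14315
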