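import Groth.Statements.S14316
-- import your own Groth.Agent.* helpers here
import Groth.Agent.Lib.KummerCov28.Main
import Groth.Agent.Lib.CurveMult.HyperAff

set_option autoImplicit false
set_option maxHeartbeats 1600000
set_option linter.style.haveILetI false
set_option backward.isDefEq.respectTransparency false
universe u
open CategoryTheory CategoryTheory.Limits AlgebraicGeometry TopologicalSpace
open Curves

namespace Groth.Agent.S14316

/-- Rank-one case. Let k be an algebraically closed field, C a smooth projective curve over k (integral,
proper and smooth over k, of dimension 1), E an invertible O_C-module of positive degree χ(E) −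
χ(O_C) > 0, and T ⊆ C a finite set of points. Then there are a smooth projective curve C' over k and
a finite k-morphism ψ : C' → C which is generically unramified (separable) and unramified at every
point lying over T, such that H⁰(C', ψ^*E) ≠ 0. (This is the rank-one step of the published lemma,
which is stated for locally free E of any rank and positive degree modulo a good base extension for
a fibration over C, the extension being required unramified over the images of the singular fibres;
here that finite set is an arbitrary finite set T. The steps for higher rank are not restated. The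
published statement works over an algebraically closed field of positive characteristic; this row
allows any algebraically closed field.) -/
theorem result (k : Type u) [Field k] [IsAlgClosed k]
    (C : Scheme.{u}) [C.Over (Spec (CommRingCat.of k))] [IsProper (C ↘ (Spec (CommRingCat.of k)))]
    [Smooth (C ↘ (Spec (CommRingCat.of k)))] [IsIntegral C] (hdimC : topologicalKrullDim C = 1)
    (E : C.Modules) (hE : PicF.IsInvertible E) (hdeg : 0 < Curv2.deg k C E 1)
    (T : Set C) (hT : T.Finite) :
    ∃ (C' : Scheme.{u}) (_ : C'.Over (Spec (CommRingCat.of k))) (ψ : C' ⟶ C),
      IsProper (C' ↘ (Spec (CommRingCat.of k))) ∧ Smooth (C' ↘ (Spec (CommRingCat.of k))) ∧ IsIntegral C' ∧ topologicalKrullDim C' = 1 ∧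
      ψ.IsOver (Spec (CommRingCat.of k)) ∧ IsFinite ψ ∧
      (∃ U : C'.Opens, (U : Set C').Nonempty ∧ FormallyUnramified (U.ι ≫ ψ)) ∧
      (∀ c : C', ψ.base c ∈ T → ∃ U : C'.Opens, c ∈ U ∧ FormallyUnramified (U.ι ≫ ψ)) ∧
      Nontrivial (Coh.HH C' ((Scheme.Modules.pullback ψ).obj E) 0) := by
  haveI := GrothLib.CurveRR.regCurve_of_smooth (C ↘ Spec (CommRingCat.of k)) hdimC
  exact GrothLib.KummerCov28.exists_cover k (GrothLib.CurveRR.finrank_H0_structure_eq_one k) E hE hdeg T hT

end Groth.Agent.S14316
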