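import Groth.Statements.S14330
import Groth.Agent.Lib.Depth.HartogsModExt
import Groth.Agent.Lib.InvExt.Gen
import Groth.Agent.Lib.WeakAss.Basic
import Groth.Agent.Lib.Euler.Coh
import Groth.Agent.Lib.FiniteQuot.DepthDescent
import Groth.Agent.Lib.SchDense.CIntDense
import Mathlib.RingTheory.Regular.Flat
import Mathlib.AlgebraicGeometry.Morphisms.Flat
-- import your own Groth.Agent.* helpers here

set_option autoImplicit false
universe u
open CategoryTheory CategoryTheory.Limits AlgebraicGeometry Opposite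
open GrpSch

namespace Groth.Agent.S14330

namespace Aux

open RingTheory.Sequence
open scoped TensorProduct

theorem stalk_bijective {A : Scheme.{u}} {L : A.Modules} {V : A.Opens} {e : Γ(L, V)}
    (he : GrothLib.InvExt.IsGen L V e) {x : A} (hx : x ∈ V) :
    Function.Bijective (fun c : A.presheaf.stalk x => c • L.presheaf.germ V x hx e) := by
  have key : ∀ {W : A.Opens} (hW : W ≤ V) (hxW : x ∈ W) (c : Γ(A, W)),
      A.presheaf.germ W x hxW c • L.presheaf.germ V x hx e =
        L.presheaf.germ W x hxW (c • GrothLib.InvExt.mres L hW e) := fun {W} hW hxW c => by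
    rw [GrothLib.WeakAss.germ_smul hxW, TopCat.Presheaf.germ_res_apply]
  constructor
  · intro c d h
    obtain ⟨W₁, hx₁, c, rfl⟩ := TopCat.Presheaf.exists_germ_eq A.presheaf c
    obtain ⟨W₂, hx₂, d, rfl⟩ := TopCat.Presheaf.exists_germ_eq A.presheaf d
    let W := W₁ ⊓ W₂ ⊓ V
    have hxW : x ∈ W := ⟨⟨hx₁, hx₂⟩, hx⟩
    have h1 : W ≤ W₁ := inf_le_left.trans inf_le_left
    have h2 : W ≤ W₂ := inf_le_left.trans inf_le_right
    dsimp only at h
    rw [← TopCat.Presheaf.germ_res_apply A.presheaf (homOfLE h1) x hxW c,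
      ← TopCat.Presheaf.germ_res_apply A.presheaf (homOfLE h2) x hxW d,
      key inf_le_right hxW, key inf_le_right hxW] at h
    obtain ⟨T, hxT, iU, iV, e'⟩ := TopCat.Presheaf.germ_eq L.presheaf x hxW hxW _ _ h
    rw [Subsingleton.elim iV iU] at e'
    change GrothLib.InvExt.mres L iU.le _ = GrothLib.InvExt.mres L iU.le _ at e'
    rw [GrothLib.InvExt.mres_smul, GrothLib.InvExt.mres_smul, GrothLib.InvExt.mres_mres] at e'
    rw [← TopCat.Presheaf.germ_res_apply A.presheaf (homOfLE h1) x hxW c,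
      ← TopCat.Presheaf.germ_res_apply A.presheaf (homOfLE h2) x hxW d,
      ← TopCat.Presheaf.germ_res_apply A.presheaf iU x hxT, ← TopCat.Presheaf.germ_res_apply A.presheaf iU x hxT]
    exact congrArg _ (he.smul_left_injective _ e')
  · intro μ
    obtain ⟨W₁, hx₁, m, rfl⟩ := TopCat.Presheaf.exists_germ_eq L.presheaf μ
    obtain ⟨c, hc⟩ := he.exists_smul_eq (inf_le_right : W₁ ⊓ V ≤ V)
      (GrothLib.InvExt.mres L (inf_le_left : W₁ ⊓ V ≤ W₁) m)
    refine ⟨A.presheaf.germ (W₁ ⊓ V) x ⟨hx₁, hx⟩ c, ?_⟩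
    dsimp only
    rw [key inf_le_right ⟨hx₁, hx⟩, ← hc]
    exact TopCat.Presheaf.germ_res_apply L.presheaf _ _ _ _

theorem depth_two {S A : Scheme.{u}} [IsLocallyNoetherian S] (L : A.Modules) (hL : PicF.IsInvertible L)
    (f : A ⟶ S) [Flat f] [LocallyOfFiniteType f] {x : A}
    (h : 2 ≤ LocCoh.depth (S.presheaf.stalk (f x)) (S.presheaf.stalk (f x))) :
    (2 : ℕ∞) ≤ LocCoh.depth (A.presheaf.stalk x) (L.presheaf.stalk x) := by
  obtain ⟨V, e, hx, he⟩ := GrothLib.InvExt.exists_gen_nhd hL x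
  let φ : A.presheaf.stalk x ≃+ L.presheaf.stalk x :=
    AddEquiv.ofBijective (AddMonoidHom.mk' (fun c : A.presheaf.stalk x => c • L.presheaf.germ V x hx e)
      fun a b => add_smul a b _) (stalk_bijective he hx)
  have hd : LocCoh.depth (A.presheaf.stalk x) (A.presheaf.stalk x) =
      LocCoh.depth (A.presheaf.stalk x) (L.presheaf.stalk x) := by
    unfold LocCoh.depth
    rw [GrothLib.FiniteQuot.idealDepth_congr (RingEquiv.refl (A.presheaf.stalk x)) φ
      (fun r c => mul_smul r c (L.presheaf.germ V x hx e))]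
    congr 1
    exact Ideal.map_id _
  rw [← hd]
  let R := S.presheaf.stalk (f x)
  let B := A.presheaf.stalk x
  have hflat : (f.stalkMap x).hom.Flat := Flat.stalkMap f x
  let _ : Algebra R B := (f.stalkMap x).hom.toAlgebra
  have : Module.Flat R B := hflat
  have hneR : IsLocalRing.maximalIdeal R • (⊤ : Submodule R R) ≠ ⊤ := by
    rw [smul_eq_mul, Ideal.mul_top]; exact (IsLocalRing.maximalIdeal.isMaximal R).ne_top
  have hneB : IsLocalRing.maximalIdeal B • (⊤ : Submodule B B) ≠ ⊤ := by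
    rw [smul_eq_mul, Ideal.mul_top]; exact (IsLocalRing.maximalIdeal.isMaximal B).ne_top
  obtain ⟨rs, hlen, hmem, hreg⟩ := (GrothLib.Depth.le_idealDepth_iff_exists _ hneR 2).mp h
  refine (GrothLib.Depth.le_idealDepth_iff_exists _ hneB 2).mpr
    ⟨rs.map (algebraMap R B), by simp [hlen], ?_, IsWeaklyRegular.of_flat hreg⟩
  simp only [List.mem_map]
  rintro _ ⟨r, hr, rfl⟩
  exact map_nonunit (f.stalkMap x).hom r (hmem r hr)

theorem structure_injective {S A : Scheme.{u}} [IsLocallyNoetherian S] (f : A ⟶ S) [Flat f]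
    {V : S.Opens} (hV : CInt.IsSchematicallyDense V) (O : A.Opens) :
    Function.Injective (A.presheaf.map (homOfLE (inf_le_left : O ⊓ f ⁻¹ᵁ V ≤ O)).op) := by
  rw [injective_iff_map_eq_zero]
  intro s hs
  refine TopCat.Presheaf.section_ext A.sheaf O s 0 fun y hy => ?_
  obtain ⟨T, hT, hyT⟩ : ∃ T : S.Opens, IsAffineOpen T ∧ f y ∈ T := by
    obtain ⟨_, ⟨T, hT, rfl⟩, hyT, -⟩ :=
      S.isBasis_affineOpens.exists_subset_of_mem_open (Set.mem_univ (f y)) isOpen_univ
    exact ⟨T, hT, hyT⟩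
  obtain ⟨Y, hY, hyY, hYsub⟩ : ∃ Y : A.Opens, IsAffineOpen Y ∧ y ∈ Y ∧ Y ≤ O ⊓ f ⁻¹ᵁ T := by
    obtain ⟨_, ⟨Y, hY, rfl⟩, hyY, hY'⟩ :=
      A.isBasis_affineOpens.exists_subset_of_mem_open (show y ∈ O ⊓ f ⁻¹ᵁ T from ⟨hy, hyT⟩) (O ⊓ f ⁻¹ᵁ T).2
    exact ⟨Y, hY, hyY, hY'⟩
  have hle : Y ≤ f ⁻¹ᵁ T := hYsub.trans inf_le_right
  have : IsNoetherianRing Γ(S, T) := IsLocallyNoetherian.component_noetherian ⟨T, hT⟩
  let R := Γ(S, T)
  let B := Γ(A, Y)
  have hflat : (f.appLE T Y hle).hom.Flat := Flat.flat_appLE f hT hY hle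
  let _ : Algebra R B := (f.appLE T Y hle).hom.toAlgebra
  have : Module.Flat R B := hflat
  let K : Set R := {g | S.basicOpen g ≤ V}
  obtain ⟨gen, hgen⟩ := (inferInstance : IsNoetherian R R).noetherian (Ideal.span K)
  let sY : B := A.presheaf.map (homOfLE (hYsub.trans inf_le_left)).op s
  have hsY : sY = 0 → A.presheaf.germ O y hy s = A.presheaf.germ O y hy 0 := fun h => by
    rw [← TopCat.Presheaf.germ_res_apply A.presheaf (homOfLE (hYsub.trans inf_le_left)) y hyY s]
    show A.presheaf.germ Y y hyY sY = _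
    rw [h, map_zero, map_zero]
  refine hsY ?_
  -- each element of `K` kills a power on `sY`
  have hloc : ∀ g ∈ K, ∃ n : ℕ, f.appLE T Y hle g ^ n * sY = 0 := by
    intro g hg
    let g' := f.appLE T Y hle g
    have := hY.isLocalization_basicOpen g'
    have hsub : A.basicOpen g' ≤ O ⊓ f ⁻¹ᵁ V := by
      refine le_inf ((A.basicOpen_le g').trans (hYsub.trans inf_le_left)) ?_
      show A.basicOpen (f.appLE T Y hle g) ≤ _
      rw [Scheme.Hom.appLE, CommRingCat.comp_apply, Scheme.basicOpen_res, ← Scheme.preimage_basicOpen]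
      exact inf_le_right.trans (fun z hz => hg hz)
    have h0 : algebraMap B Γ(A, A.basicOpen g') sY = algebraMap B Γ(A, A.basicOpen g') 0 := by
      rw [map_zero]
      show A.presheaf.map (homOfLE (A.basicOpen_le g')).op (A.presheaf.map (homOfLE _).op s) = 0
      rw [← CommRingCat.comp_apply, ← Functor.map_comp, ← op_comp, homOfLE_comp,
        ← homOfLE_comp hsub inf_le_left, op_comp, Functor.map_comp, CommRingCat.comp_apply, hs, map_zero]
    obtain ⟨⟨_, n, rfl⟩, hn⟩ := (IsLocalization.eq_iff_exists (.powers g') _).mp h0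
    exact ⟨n, by simpa using hn⟩
  have hKgen : ∀ g ∈ gen, ∃ n : ℕ, f.appLE T Y hle g ^ n * sY = 0 := by
    intro g hg
    have hg' : g ∈ Ideal.span K := hgen.le (Submodule.subset_span hg)
    have : g ∈ Ideal.radical (LinearMap.ker (LinearMap.toSpanSingleton R B sY)) := by
      refine (Ideal.span_le.mpr fun k hk => ?_) hg'
      obtain ⟨n, hn⟩ := hloc k hk
      exact ⟨n, by rw [LinearMap.mem_ker, LinearMap.toSpanSingleton_apply, Algebra.smul_def, map_pow]; exact hn⟩
    obtain ⟨n, hn⟩ := this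
    rw [LinearMap.mem_ker, LinearMap.toSpanSingleton_apply, Algebra.smul_def, map_pow] at hn
    exact ⟨n, hn⟩
  choose n hn using hKgen
  let φ : R →ₗ[R] (gen → R) := LinearMap.pi fun g => LinearMap.lsmul R R (g.1 ^ n g.1 g.2)
  have hφ : Function.Injective φ := by
    rw [injective_iff_map_eq_zero]
    intro r hr
    refine hV T ?_
    rw [map_zero]
    refine TopCat.Presheaf.section_ext S.sheaf (T ⊓ V) _ _ fun z hz => ?_
    obtain ⟨d, hdle, hzd⟩ := hT.exists_basicOpen_le (⟨z, hz.2⟩ : V) hz.1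
    obtain ⟨g, hg, hzg⟩ : ∃ g ∈ gen, z ∈ S.basicOpen g := by
      by_contra hne
      push Not at hne
      have hd : d ∈ GrothLib.WeakAss.primeAt z hz.1 := by
        refine (Submodule.span_le.mpr fun g hg => ?_) (hgen.ge (Ideal.subset_span hdle))
        by_contra hgp
        exact hne g hg (GrothLib.WeakAss.notMem_primeAt_iff.mp hgp)
      exact GrothLib.WeakAss.notMem_primeAt_iff.mpr hzd hd
    have h0 : g ^ n g hg * r = 0 := congrFun hr ⟨g, hg⟩
    show S.presheaf.germ _ z hz (S.presheaf.map _ r) = S.presheaf.germ _ z hz 0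
    rw [TopCat.Presheaf.germ_res_apply, map_zero]
    have := congrArg (S.presheaf.germ T z hz.1) h0
    rw [map_mul, map_pow, map_zero] at this
    exact (((Scheme.mem_basicOpen _ g z hz.1).mp hzg).pow _).mul_right_eq_zero.mp this
  classical
  have hφB := Module.Flat.lTensor_preserves_injective_linearMap (M := B) φ hφ
  have h1 : φ.lTensor B (sY ⊗ₜ[R] 1) = 0 := by
    refine (TensorProduct.piScalarRight R R B gen).injective ?_
    rw [map_zero, LinearMap.lTensor_tmul, TensorProduct.piScalarRight_apply,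
      TensorProduct.piScalarRightHom_tmul]
    funext g
    show (φ 1 g) • sY = 0
    rw [show φ 1 g = g.1 ^ n g.1 g.2 from mul_one _, Algebra.smul_def, map_pow]
    exact hn g.1 g.2
  have h2 : sY ⊗ₜ[R] (1 : R) = 0 := hφB (h1.trans (map_zero _).symm)
  simpa using congrArg (TensorProduct.rid R B) h2

theorem injective_of_gen {S A : Scheme.{u}} [IsLocallyNoetherian S] (L : A.Modules) (hL : PicF.IsInvertible L)
    (f : A ⟶ S) [Flat f] {V : S.Opens} (hV : CInt.IsSchematicallyDense V) (W : S.Opens) :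
    Function.Injective (L.val.map (homOfLE (inf_le_left : f ⁻¹ᵁ W ⊓ f ⁻¹ᵁ V ≤ f ⁻¹ᵁ W)).op) := by
  intro s t hst
  refine TopCat.Presheaf.section_ext ⟨L.presheaf, L.isSheaf⟩ _ s t fun y hy => ?_
  obtain ⟨T, e, hyT, he⟩ := GrothLib.InvExt.exists_gen_nhd hL y
  let O := f ⁻¹ᵁ W ⊓ T
  obtain ⟨c, hc⟩ := he.exists_smul_eq (inf_le_right : O ≤ T) (GrothLib.InvExt.mres L (inf_le_left : O ≤ f ⁻¹ᵁ W) s)
  obtain ⟨d, hd⟩ := he.exists_smul_eq (inf_le_right : O ≤ T) (GrothLib.InvExt.mres L (inf_le_left : O ≤ f ⁻¹ᵁ W) t)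
  have hst' := congrArg (GrothLib.InvExt.mres L (inf_le_inf_right (f ⁻¹ᵁ V) (inf_le_left : O ≤ f ⁻¹ᵁ W)))
    (show GrothLib.InvExt.mres L (inf_le_left : f ⁻¹ᵁ W ⊓ f ⁻¹ᵁ V ≤ f ⁻¹ᵁ W) s =
      GrothLib.InvExt.mres L inf_le_left t from hst)
  have h1 := congrArg (GrothLib.InvExt.mres L (inf_le_left : O ⊓ f ⁻¹ᵁ V ≤ O)) hc
  have h2 := congrArg (GrothLib.InvExt.mres L (inf_le_left : O ⊓ f ⁻¹ᵁ V ≤ O)) hd
  have hle : O ⊓ f ⁻¹ᵁ V ≤ f ⁻¹ᵁ W := inf_le_left.trans inf_le_left
  have a1 : GrothLib.InvExt.mres L hle s = _ :=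
    (GrothLib.InvExt.mres_mres L _ _ s).symm.trans (h1.trans ((GrothLib.InvExt.mres_smul L _ c _).trans
      (congrArg _ (GrothLib.InvExt.mres_mres L _ _ e))))
  have a2 : GrothLib.InvExt.mres L hle t = _ :=
    (GrothLib.InvExt.mres_mres L _ _ t).symm.trans (h2.trans ((GrothLib.InvExt.mres_smul L _ d _).trans
      (congrArg _ (GrothLib.InvExt.mres_mres L _ _ e))))
  have a3 : GrothLib.InvExt.mres L hle s = GrothLib.InvExt.mres L hle t :=
    (GrothLib.InvExt.mres_mres L _ _ s).symm.trans (hst'.trans (GrothLib.InvExt.mres_mres L _ _ t))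
  have hcd : c = d :=
    structure_injective f hV O (he.smul_left_injective _ ((a1.symm.trans a3).trans a2))
  show L.presheaf.germ _ y hy s = L.presheaf.germ _ y hy t
  rw [← TopCat.Presheaf.germ_res_apply L.presheaf (homOfLE (inf_le_left : O ≤ f ⁻¹ᵁ W)) y ⟨hy, hyT⟩ s,
    ← TopCat.Presheaf.germ_res_apply L.presheaf (homOfLE (inf_le_left : O ≤ f ⁻¹ᵁ W)) y ⟨hy, hyT⟩ t]
  exact congrArg _ (hc.trans ((hcd ▸ rfl : _ = _).trans hd.symm))

end Aux

/-- Let S be a locally Noetherian scheme, f : A → S a smooth morphism, L an invertible O_A-module and V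
an open subscheme of S; for an open W of S consider the restriction of sections of L from f⁻¹(W) to
f⁻¹(W) ∩ f⁻¹(V), that is the component over W of the natural map f_*L → j_*j^*(f_*L), j : V → S the
inclusion. If V is schematically dense in S, all these restrictions are injective. If V is a big
open of S, meaning that the local ring of S at every point outside V has depth at least 2, all these
restrictions are bijective. (The published statement is for a semi-stable group scheme A; its proof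
uses only the smoothness of A over S and the local freeness of L, which are the hypotheses kept
here.) -/
theorem result {S A : Scheme.{u}} [IsLocallyNoetherian S]
    (f : A ⟶ S) [Smooth f] (L : A.Modules) (hL : PicF.IsInvertible L) (V : S.Opens) :
    (CInt.IsSchematicallyDense V →
      ∀ W : S.Opens, Function.Injective (L.val.map (homOfLE (inf_le_left : f ⁻¹ᵁ W ⊓ f ⁻¹ᵁ V ≤ f ⁻¹ᵁ W)).op)) ∧
    ((∀ x : S, x ∉ V → 2 ≤ LocCoh.depth (S.presheaf.stalk x) (S.presheaf.stalk x)) →
      ∀ W : S.Opens, Function.Bijective (L.val.map (homOfLE (inf_le_left : f ⁻¹ᵁ W ⊓ f ⁻¹ᵁ V ≤ f ⁻¹ᵁ W)).op)) := by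
  refine ⟨fun hV W => Aux.injective_of_gen L hL f hV W, fun hV W => ?_⟩
  have hc := GrothLib.Euler.isCoh_of_isInvertible hL
  have := hc.1
  have := hc.2
  have : IsLocallyNoetherian A := LocallyOfFiniteType.isLocallyNoetherian f
  exact GrothLib.Depth.mres_bijective (M := L) (U := f ⁻¹ᵁ V)
    (fun x hx => Aux.depth_two L hL f (hV _ hx)) (f ⁻¹ᵁ W)


end Groth.Agent.S14330
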