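import Groth.Statements.S14337
import Mathlib
-- import your own Groth.Agent.* helpers here

set_option autoImplicit false
universe u
open scoped TensorProduct
open CAlg

namespace Groth.Agent.S14337

/-- Let B be a Noetherian ring, K and K' finitely generated flat B-modules and φ : K → K' a B-linear
map; for a prime y of B write κ(y) for its residue field and φ_y for the base change κ(y) ⊗ K → κ(y)
⊗ K'. If the cokernel K'/Im φ is a projective (locally free) B-module, then Im φ is projective, and
the formation of Im φ commutes with every base change: for every commutative B-algebra B' the map B'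
⊗ Im φ → B' ⊗ K' induced by the inclusion is injective and its range is the range of the base change
B' ⊗ K → B' ⊗ K' of φ. -/
theorem result (B : Type u) [CommRing B] [IsNoetherianRing B] (K K' : Type u) [AddCommGroup K] [Module B K] [Module.Finite B K] [Module.Flat B K] [AddCommGroup K'] [Module B K'] [Module.Finite B K'] [Module.Flat B K'] (φ : K →ₗ[B] K') (hc : Module.Projective B (K' ⧸ LinearMap.range φ)) : Module.Projective B ↥(LinearMap.range φ) ∧ ∀ (B' : Type u) [CommRing B'] [Algebra B B'], Function.Injective ((LinearMap.range φ).subtype.baseChange B') ∧ LinearMap.range ((LinearMap.range φ).subtype.baseChange B') = LinearMap.range (φ.baseChange B') := by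
  have hs : Function.Surjective (LinearMap.range φ).mkQ := Submodule.mkQ_surjective _
  obtain ⟨g, hg⟩ := Module.projective_lifting_property (LinearMap.range φ).mkQ LinearMap.id hs
  have hKp : Module.Projective B K' :=
    have := Module.finitePresentation_of_finite B K'
    Module.Flat.projective_of_finitePresentation
  let s : K' →ₗ[B] ↥(LinearMap.range φ) :=
    LinearMap.codRestrict _ (LinearMap.id - g ∘ₗ (LinearMap.range φ).mkQ) fun x => by
      rw [← Submodule.Quotient.mk_eq_zero]
      have := LinearMap.congr_fun hg (Submodule.Quotient.mk x)
      simp only [LinearMap.comp_apply, LinearMap.id_apply, Submodule.mkQ_apply] at this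
      simp only [LinearMap.sub_apply, LinearMap.id_apply, LinearMap.comp_apply, Submodule.mkQ_apply,
        Submodule.Quotient.mk_sub, this, sub_self]
  have hsi : s ∘ₗ (LinearMap.range φ).subtype = LinearMap.id := by
    ext ⟨x, hx⟩
    have h0 : (Submodule.Quotient.mk x : K' ⧸ LinearMap.range φ) = 0 :=
      (Submodule.Quotient.mk_eq_zero _).2 hx
    simp [s, h0]
  refine ⟨Module.Projective.of_split _ s hsi, fun B' _ _ => ⟨?_, ?_⟩⟩
  · intro x y hxy
    have := congrArg (s.baseChange B') hxy
    rwa [← LinearMap.comp_apply, ← LinearMap.comp_apply, ← LinearMap.baseChange_comp, hsi,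
      LinearMap.baseChange_id, LinearMap.id_apply, LinearMap.id_apply] at this
  · have e : φ.baseChange B' =
        (LinearMap.range φ).subtype.baseChange B' ∘ₗ φ.rangeRestrict.baseChange B' := by
      rw [← LinearMap.baseChange_comp]; rfl
    rw [e, LinearMap.range_comp_of_range_eq_top]
    rw [LinearMap.range_eq_top, LinearMap.baseChange_eq_ltensor]
    exact LinearMap.lTensor_surjective _ φ.surjective_rangeRestrict

end Groth.Agent.S14337
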