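import Groth.Statements.S14338
import Mathlib
import Groth.Agent.Lib.FlatCx.Coker
import Groth.Agent.S6266

set_option autoImplicit false
universe u
open CAlg

namespace Groth.Agent.S14338

/-- Let B be a Noetherian ring, K and K' finitely generated flat B-modules and φ : K → K' a B-linear
map; for a prime y of B write κ(y) for its residue field and φ_y for the base change κ(y) ⊗ K → κ(y)
⊗ K'. Assume B is reduced and the number dim_{κ(y)} Im(φ_y) is the same for all primes y of B. Then
the cokernel K'/Im φ and the image Im φ are projective (locally free) B-modules. -/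
theorem result (B : Type u) [CommRing B] [IsNoetherianRing B] (K K' : Type u) [AddCommGroup K] [Module B K] [Module.Finite B K] [Module.Flat B K] [AddCommGroup K'] [Module B K'] [Module.Finite B K'] [Module.Flat B K'] (φ : K →ₗ[B] K') [IsReduced B] (hconst : ∃ c : ℕ, ∀ y : PrimeSpectrum B, Module.finrank y.asIdeal.ResidueField ↥(LinearMap.range (φ.baseChange y.asIdeal.ResidueField)) = c) : Module.Projective B (K' ⧸ LinearMap.range φ) ∧ Module.Projective B ↥(LinearMap.range φ) := by
  haveI : Module.Projective B K' := GrothLib.FlatCx.projective_of_finite_flat K'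
  haveI := Module.finitePresentation_of_projective B K'
  obtain ⟨c, hc⟩ := hconst
  have hlc : IsLocallyConstant (fun x : PrimeSpectrum B => Module.finrank x.asIdeal.ResidueField
      (TensorProduct B x.asIdeal.ResidueField (K' ⧸ LinearMap.range φ))) := by
    refine (IsLocallyConstant.iff_eventually_eq _).2 fun z => ?_
    filter_upwards [GrothLib.FlatCx.eventually_finrank_fiber_eq (A := B) (P := K') z] with x h2
    have e3 := GrothLib.FlatCx.finrank_fiber_coker_add φ x
    have e4 := GrothLib.FlatCx.finrank_fiber_coker_add φ z
    have hx : GrothLib.FlatCx.fiberRank φ x = c := hc x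
    have hz : GrothLib.FlatCx.fiberRank φ z = c := hc z
    omega
  haveI hQ : Module.Projective B (K' ⧸ LinearMap.range φ) := by
    exact ((Groth.Agent.S6266.result B (K' ⧸ LinearMap.range φ)).2 ⟨inferInstance, hlc⟩).2
  refine ⟨hQ, ?_⟩
  obtain ⟨s, hs⟩ := Module.projective_lifting_property (LinearMap.range φ).mkQ LinearMap.id
    (Submodule.mkQ_surjective _)
  have hmem : ∀ x : K', x - s ((LinearMap.range φ).mkQ x) ∈ LinearMap.range φ := fun x => by
    rw [← Submodule.Quotient.mk_eq_zero, Submodule.Quotient.mk_sub, sub_eq_zero]
    exact (LinearMap.congr_fun hs _).symm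
  let r : K' →ₗ[B] LinearMap.range φ :=
    (LinearMap.id - s ∘ₗ (LinearMap.range φ).mkQ).codRestrict _ hmem
  refine Module.Projective.of_split (LinearMap.range φ).subtype r (LinearMap.ext fun x => Subtype.ext ?_)
  show (x : K') - s ((LinearMap.range φ).mkQ x) = x
  rw [Submodule.mkQ_apply, (Submodule.Quotient.mk_eq_zero _).2 x.2, map_zero, sub_zero]

end Groth.Agent.S14338
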