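import Groth.Statements.S1434
import Groth.Agent.Lib.Misc6.Small
import Groth.Agent.Lib.Thickening.Affine
-- import your own Groth.Agent.* helpers here

set_option autoImplicit false
universe u
open FlatMor

namespace Groth.Agent.S1434

open AlgebraicGeometry CategoryTheory Limits in
/-- Part (1), for a closed subscheme: let Z ⊂ X be the closed subscheme cut out by an ideal sheaf I and
Z' the one cut out by I², its first order infinitesimal neighbourhood. Given a first order
thickening T → T', a morphism a : T → Z and a morphism b : T' → X compatible with them, there is a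
unique morphism T' → Z' through which b factors (compatibility with a is then automatic). -/
theorem result {X T T' : Scheme.{u}} (I : X.IdealSheafData) (t : T ⟶ T') (ht : MoreMor.IsFirstOrderThickening t)
    (a : T ⟶ I.subscheme) (b : T' ⟶ X) (w : a ≫ I.subschemeι = t ≫ b) :
    ∃! a' : T' ⟶ (I ^ 2).subscheme, a' ≫ (I ^ 2).subschemeι = b := by
  obtain ⟨⟨h1, h2⟩, h3⟩ := ht
  have hle : I ≤ (t ≫ b).ker := by
    rw [← w]
    refine le_trans (le_of_eq I.ker_subschemeι.symm) ?_
    exact Scheme.Hom.le_ker_comp a I.subschemeι
  have hI := GrothLib.Misc6.ker_comp_sq_le t h3 b hle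
  refine ⟨IsClosedImmersion.lift (I ^ 2).subschemeι b (by rw [Scheme.IdealSheafData.ker_subschemeι]; exact hI),
    IsClosedImmersion.lift_fac _ _ _, fun a' ha' => ?_⟩
  rw [← cancel_mono (I ^ 2).subschemeι, ha', IsClosedImmersion.lift_fac]

end Groth.Agent.S1434
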