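import Groth.Statements.S14340
import Groth.Agent.Lib.CurveMult.HyperPowers

set_option autoImplicit false
universe u
open CategoryTheory CategoryTheory.Limits AlgebraicGeometry
open Curves

namespace Groth.Agent.S14340

set_option backward.isDefEq.respectTransparency false


/-- Let k be a field and C a smooth proper geometrically connected curve over k (of dimension one) of
genus g = dim_k H^1(C, O_C) ≥ 2 which is hyperelliptic: there is a morphism f : C → P^1_k over k,
finite and flat of constant rank 2; let L = f^*O(1) be its g^1_2. Then for every r with 0 ≤ r ≤ g −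
1 the k-vector space H^0(C, L^{⊗r}) has dimension r + 1. (The published statement asserts that the
pullback of sections H^0(P^1_k, O(r)) → H^0(C, L^{⊗r}) is an isomorphism and takes C projective;
this row states the equivalent dimension count, that map being injective for the dominant f with
source of dimension r + 1, and takes C proper, which for curves over a field is the same.) -/
theorem result (k : Type u) [Field k] (C : Scheme.{u}) [C.Over (Spec (CommRingCat.of k))] [IsProper (C ↘ Spec (CommRingCat.of k))] [Smooth (C ↘ Spec (CommRingCat.of k))] [GeometricallyConnected (C ↘ Spec (CommRingCat.of k))] (hC : topologicalKrullDim C = 1) (g : ℕ) (hg2 : 2 ≤ g) (hg : Curv2.genus k C = g) (f : C ⟶ CohB1.ProjSpace 1 k) (hf : f ≫ CohB1.ProjSpace.toSpec 1 k = C ↘ Spec (CommRingCat.of k)) [IsFinite f] [Flat f] (hrk : ∀ y : ↥(CohB1.ProjSpace 1 k), Scheme.Hom.finrank f y = 2) (r : ℕ) (hr : r + 1 ≤ g) : Module.finrank k (Coh.HH C (CohB1.tensorPow ((Scheme.Modules.pullback f).obj (Twist.twistProjSpace 1 k 1)) r) 0) = r + 1 := by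
  haveI : ConnectedSpace C := GeometricallyConnected.connectedSpace_of_subsingleton (C ↘ Spec (CommRingCat.of k))
  haveI := GrothLib.Euler.isIntegral_of_smooth_connected k (C ↘ Spec (CommRingCat.of k))
  haveI := GrothLib.CurveRR.regCurve_of_smooth (C ↘ Spec (CommRingCat.of k)) hC
  have h0 := GrothLib.CurveMult.finrank_H0_eq_one_of_geometricallyConnected k (C := C)
  have hK := GrothLib.CurveRR.isFunctionField k h0
  have hG : FunFld.genus k C.functionField = g := (GrothLib.CurveRR.genus_eq k h0).symm.trans hg
  obtain ⟨D, ⟨e⟩, hdeg, hell⟩ := GrothLib.CurveMult.HyperPowers.exists_divisor k f hf hrk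
  obtain ⟨e'⟩ := GrothLib.CurveRR.nonempty_tensorPow_iso k e r
  rw [(GrothLib.Euler.hhEquiv (A := k) e' 0).finrank_eq, GrothLib.CurveRR.finrank_H0_oD]
  exact GrothLib.CurveMult.HyperPowers.ell_nsmul_of_deg_two hK (by omega) hdeg hell (by omega)

end Groth.Agent.S14340
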