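import Groth.Statements.S14341
import Groth.Agent.Lib.CurveMult.IdealDiv
import Groth.Agent.Lib.CurveMult.RationalPoint
import Groth.Agent.Lib.CurveMult.SlopeSplit
import Groth.Agent.Lib.CurveMult.HyperAff

set_option autoImplicit false
universe u
open CategoryTheory CategoryTheory.Limits AlgebraicGeometry
open Curves

namespace Groth.Agent.S14341

set_option backward.isDefEq.respectTransparency false


/-- Let k be a field and X a smooth proper geometrically connected curve over k (of dimension one) of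
genus dim_k H^1(X, O_X) = 1, with a k-rational point O (a closed point with residue field k); for a
k-rational point P write I_P for the ideal sheaf of the reduced point P, an invertible ideal with
inverse O_X(P). Then for every invertible O_X-module L of degree 0 there is exactly one k-rational
point P with L ⊗ I_P ≅ I_O, that is L ≅ O_X(P − O): the map P ↦ O_X(P − O) is a bijection from X(k)
onto the isomorphism classes of invertible modules of degree zero. -/
theorem result (k : Type u) [Field k] (X : Scheme.{u}) [X.Over (Spec (CommRingCat.of k))] [IsProper (X ↘ Spec (CommRingCat.of k))] [Smooth (X ↘ Spec (CommRingCat.of k))] [GeometricallyConnected (X ↘ Spec (CommRingCat.of k))] (hX : topologicalKrullDim X = 1) (hg : Curv2.genus k X = 1) (O : X) (hOc : IsClosed ({O} : Set X)) (hO : Function.Bijective (Curv2.resMap k X O)) (L : X.Modules) (hL : PicF.IsInvertible L) (hdeg : Curv2.deg k X L 1 = 0) : ∃! P : {x : X // IsClosed ({x} : Set X) ∧ Function.Bijective (Curv2.resMap k X x)}, Nonempty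 (CohB1.tensorMod L (ClSub.idealMod (Scheme.IdealSheafData.vanishingIdeal ⟨{P.1}, P.2.1⟩)) ≅ ClSub.idealMod (Scheme.IdealSheafData.vanishingIdeal ⟨{O}, hOc⟩)) := by
  classical
  haveI : ConnectedSpace X :=
    GeometricallyConnected.connectedSpace_of_subsingleton (X ↘ Spec (CommRingCat.of k))
  haveI := GrothLib.Euler.isIntegral_of_smooth_connected k (X ↘ Spec (CommRingCat.of k))
  haveI := GrothLib.CurveRR.regCurve_of_smooth (X ↘ Spec (CommRingCat.of k)) hX
  haveI := GrothLib.Euler.isNoetherian_of_proper (X := X) k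
  have h0 := GrothLib.CurveMult.finrank_H0_eq_one_of_geometricallyConnected k (C := X)
  have hK := GrothLib.CurveRR.isFunctionField k h0
  have hfg : GrothLib.FunFld.IsFG k X.functionField := hK.1
  have hG : FunFld.genus k X.functionField = 1 := (GrothLib.CurveRR.genus_eq k h0).symm.trans hg
  have hne : ∀ x : X, IsClosed ({x} : Set X) → x ≠ genericPoint X := fun x hx =>
    (GrothLib.CurvePoints.isClosed_singleton_iff hX).1 hx
  have hdeg1 : ∀ (x : X) (hx : IsClosed ({x} : Set X)), Function.Bijective (Curv2.resMap k X x) →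
      (GrothLib.CurveRR.place k (⟨x, hne x hx⟩ : GrothLib.CurveRR.CP X)).deg = 1 := by
    intro x hx hb
    obtain ⟨e⟩ := GrothLib.CurveRR.nonempty_idealMod_point_iso k (⟨x, hne x hx⟩ : GrothLib.CurveRR.CP X) hx
    have hc := GrothLib.IdealModSec.isEffCartier_of_isInvertible
      (GrothLib.RelProjK.isInvertible_of_iso e (GrothLib.CurveRR.isInvertible_oD k _))
    have h1 := GrothLib.CurveMult.deg_idealMod k hX.le hc
    rw [GrothLib.CurveMult.finrank_H0_quotMod_rational k hx hb.2, GrothLib.Euler.deg_of_iso k e,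
      GrothLib.CurveRR.deg_oD, ← Finsupp.single_neg, GrothLib.FunFld.deg_single] at h1
    omega
  let P₀ := GrothLib.CurveRR.place k (⟨O, hne O hOc⟩ : GrothLib.CurveRR.CP X)
  have hP₀ : P₀.deg = 1 := hdeg1 O hOc hO
  obtain ⟨D, ⟨eL⟩⟩ := GrothLib.CurveRR.exists_iso_oD k hL
  have hD : D.deg = 0 := by rw [← GrothLib.CurveRR.deg_oD, ← GrothLib.Euler.deg_of_iso k eL, hdeg]
  set D₀ : FunFld.Divisor k X.functionField := D + Finsupp.single P₀ 1 with hD₀def
  have hD₀ : D₀.deg = 1 := by rw [hD₀def, GrothLib.FunFld.deg_add, hD, GrothLib.FunFld.deg_single, hP₀]; norm_num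
  have hell : FunFld.ell D₀ = 1 := by
    have h := GrothLib.FunFld.ell_eq_of_deg_ge hK (D := D₀) (by rw [hG, hD₀]; norm_num)
    rw [hG, hD₀] at h
    omega
  have hcond : ∀ (x : X) (hx : IsClosed ({x} : Set X)),
      Nonempty (CohB1.tensorMod L (ClSub.idealMod (Scheme.IdealSheafData.vanishingIdeal ⟨{x}, hx⟩)) ≅
        ClSub.idealMod (Scheme.IdealSheafData.vanishingIdeal ⟨{O}, hOc⟩)) ↔
      D₀ - Finsupp.single (GrothLib.CurveRR.place k (⟨x, hne x hx⟩ : GrothLib.CurveRR.CP X)) 1 ∈
        FunFld.prinDivs k X.functionField := by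
    intro x hx
    obtain ⟨ex⟩ := GrothLib.CurveRR.nonempty_idealMod_point_iso k (⟨x, hne x hx⟩ : GrothLib.CurveRR.CP X) hx
    obtain ⟨eO⟩ := GrothLib.CurveRR.nonempty_idealMod_point_iso k (⟨O, hne O hOc⟩ : GrothLib.CurveRR.CP X) hOc
    obtain ⟨t⟩ := GrothLib.CurveRR.nonempty_tensor_iso k eL ex
    constructor
    · rintro ⟨i⟩
      have h := GrothLib.CurveMult.DivIso.sub_mem_of_iso k (t.symm ≪≫ i ≪≫ eO)
      convert h using 1
      simp only [hD₀def, P₀]
      abel
    · intro h
      obtain ⟨j⟩ := GrothLib.CurveMult.DivIso.nonempty_iso_of_sub_mem k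
        (D := D + -(Finsupp.single (GrothLib.CurveRR.place k (⟨x, hne x hx⟩ : GrothLib.CurveRR.CP X)) 1))
        (E := -(Finsupp.single P₀ 1)) (by convert h using 1; simp only [hD₀def]; abel)
      exact ⟨t ≪≫ j ≪≫ eO.symm⟩
  obtain ⟨z, hz0, -, hz⟩ := hfg.exists_of_ell_pos (D := D₀) (by omega)
  have hEdeg : (D₀ + FunFld.div k z).deg = 1 := by
    rw [GrothLib.FunFld.deg_add, hD₀, hfg.deg_div]; norm_num
  obtain ⟨P, hP⟩ := GrothLib.FunFld.exists_single_le hz (fun h => by rw [h] at hEdeg; simp at hEdeg)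
  have hPE := hfg.eq_of_le_of_deg_le hP (by
    rw [hEdeg, GrothLib.FunFld.deg_single]; have := hfg.deg_pos P; omega)
  have hPdeg : P.deg = 1 := by
    have h := congrArg FunFld.Divisor.deg hPE
    rw [GrothLib.FunFld.deg_single, hEdeg] at h
    omega
  obtain ⟨⟨x, hxη⟩, rfl⟩ := GrothLib.CurveRR.place_surjective (k := k) P
  have hx : IsClosed ({x} : Set X) := (GrothLib.CurvePoints.isClosed_singleton_iff hX).2 hxη
  have hxb : Function.Bijective (Curv2.resMap k X x) := by
    obtain ⟨e⟩ := GrothLib.CurveRR.nonempty_idealMod_point_iso k (⟨x, hxη⟩ : GrothLib.CurveRR.CP X) hx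
    have hc := GrothLib.IdealModSec.isEffCartier_of_isInvertible
      (GrothLib.RelProjK.isInvertible_of_iso e (GrothLib.CurveRR.isInvertible_oD k _))
    have h1 := GrothLib.CurveMult.deg_idealMod k hX.le hc
    rw [GrothLib.Euler.deg_of_iso k e, GrothLib.CurveRR.deg_oD, ← Finsupp.single_neg, GrothLib.FunFld.deg_single,
      ← GrothLib.CurveMult.ker_fromSpecResidueField hx, GrothLib.CurveMult.finrank_H0_quotMod_point k hx,
      hPdeg] at h1
    refine ⟨(Curv2.resMap k X x).injective, ?_⟩
    letI := Curv2.resAlgebra k X x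
    have h2 : Module.finrank k (X.residueField x : Type u) = 1 := by omega
    intro y
    obtain ⟨c, hc⟩ := (finrank_eq_one_iff_of_nonzero' (1 : (X.residueField x : Type u)) one_ne_zero).1 h2 y
    exact ⟨c, by rw [← hc, Algebra.smul_def, mul_one]; rfl⟩
  refine ⟨⟨x, hx, hxb⟩, (hcond x hx).2 ?_, ?_⟩
  · rw [GrothLib.FunFld.mem_prinDivs_iff hfg]
    exact ⟨z⁻¹, inv_ne_zero hz0, Finsupp.ext fun Q => by
      rw [hPE]
      simp only [Finsupp.sub_apply, Finsupp.add_apply, hfg.div_apply, GrothLib.FunFld.ord_inv, hD₀def]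
      ring⟩
  · rintro ⟨y, hy, hyb⟩ hiso
    obtain ⟨w, hw0, hw⟩ := (GrothLib.FunFld.mem_prinDivs_iff hfg _).1 ((hcond y hy).1 hiso)
    set Py := GrothLib.CurveRR.place k (⟨y, hne y hy⟩ : GrothLib.CurveRR.CP X) with hPy
    have hmem : ∀ v : X.functionField, v ≠ 0 → 0 ≤ D₀ + FunFld.div k v → v ∈ FunFld.L D₀ := fun v hv h =>
      (GrothLib.FunFld.mem_L_iff_ord hv).2 fun Q => by
        have := h Q
        rw [Finsupp.add_apply, hfg.div_apply] at this
        simp only [Finsupp.coe_zero, Pi.zero_apply] at this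
        omega
    have hwE : D₀ + FunFld.div k w⁻¹ = Finsupp.single Py 1 := Finsupp.ext fun Q => by
      have h := DFunLike.congr_fun hw Q
      rw [Finsupp.sub_apply, hfg.div_apply] at h
      rw [Finsupp.add_apply, hfg.div_apply, GrothLib.FunFld.ord_inv, h]
      ring
    have hwL := hmem w⁻¹ (inv_ne_zero hw0) (by rw [hwE]; exact Finsupp.single_nonneg.2 zero_le_one)
    have hzL := hmem z hz0 hz
    obtain ⟨c, hc⟩ := (finrank_eq_one_iff_of_nonzero' (⟨z, hzL⟩ : FunFld.L D₀)
      (fun h => hz0 (congrArg Subtype.val h))).1 hell ⟨w⁻¹, hwL⟩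
    have hc' : c • z = w⁻¹ := congrArg Subtype.val hc
    have hc0 : algebraMap k X.functionField c ≠ 0 := fun h => inv_ne_zero hw0 (by
      rw [← hc', Algebra.smul_def, h, zero_mul])
    have heq : (Finsupp.single Py 1 : FunFld.Divisor k X.functionField) =
        Finsupp.single (GrothLib.CurveRR.place k (⟨x, hxη⟩ : GrothLib.CurveRR.CP X)) 1 := by
      rw [← hwE, hPE, ← hc']
      congr 1
      refine Finsupp.ext fun Q => ?_
      rw [hfg.div_apply, hfg.div_apply, Algebra.smul_def, GrothLib.FunFld.ord_mul Q hc0 hz0,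
        GrothLib.FunFld.ord_const, zero_add]
    have h' := GrothLib.CurveRR.place_injective (Finsupp.single_left_injective one_ne_zero heq)
    exact Subtype.ext (congrArg (fun q : GrothLib.CurveRR.CP X => q.1) h' : y = x)

end Groth.Agent.S14341
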