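import Groth.Statements.S14343
import Groth.Agent.Lib.BlowUpBC12.Scheme

set_option autoImplicit false
universe u
open CategoryTheory CategoryTheory.Limits AlgebraicGeometry TopologicalSpace
open QuotLF

namespace Groth.Agent.S14343

/-- Let 𝓘 be a Koszul-regular quasi-coherent ideal sheaf on a scheme X (the ideal of a Koszul-regularly
immersed closed subscheme Z) and let g : X' ⟶ X be a morphism which is Tor-independent with respect
to Z ⟶ X, stated in the following equivalent form: whenever 𝓘(U) is generated on an affine open U by
a Koszul-regular sequence, the image of that sequence in Γ(X', V) is again Koszul-regular for every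
affine open V of X' lying over U (for a Koszul-regular ideal the Koszul complex of such a sequence
resolves O_Z on U, so this says exactly that the higher Tor groups of O_Z against O_{X'} vanish).
Then for every blowing-up b : B ⟶ X of X in 𝓘, the base change B ×_X X' ⟶ X' is a blowing-up of X'
in the inverse image ideal sheaf 𝓘·O_{X'} (the ideal of Z ×_X X'). Blowing-ups are taken through
their universal property. -/
theorem result {X X' B : Scheme.{u}} (𝓘 : X.IdealSheafData)
    (h𝓘 : RegImm.IsRegularIdeal .koszul 𝓘) (g : X' ⟶ X)
    (hg : ∀ (U : X.affineOpens) (rs : List Γ(X, U.1)), LCI.IsKoszulRegularSeq Γ(X, U.1) rs →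
      𝓘.ideal U = Ideal.ofList rs → ∀ (V : X'.affineOpens) (e : V.1 ≤ g ⁻¹ᵁ U.1),
        LCI.IsKoszulRegularSeq Γ(X', V.1) (rs.map fun r => (g.appLE U.1 V.1 e).hom r))
    (b : B ⟶ X) (hb : BlowUp.IsBlowUp b 𝓘) :
    BlowUp.IsBlowUp (pullback.snd b g) (𝓘.comap g) := by
  exact GrothLib.BlowUpBC12.isBlowUp_baseChange h𝓘 g hg hb

end Groth.Agent.S14343
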