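import Groth.Statements.S14345
import Groth.Agent.Lib.Fitting.Local

set_option autoImplicit false
set_option linter.all false
universe u v
open TensorProduct
open QuotLF

namespace Groth.Agent.S14345

/-- Let R be a commutative ring, M a finitely generated R-module and k ≥ 0. If for an R-algebra A the
module A ⊗_R M admits a quotient that is finite projective of constant rank k (an A-valued point of
the Quot scheme of rank-k locally free quotients of M), then every Fitting ideal Fit_j(M) with j < k
extends to the zero ideal of A; that is, the structure map of the Quot scheme of rank-k locally free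
quotients factors through the closed subscheme cut out by Fit_{k-1}(M). -/
theorem result (R : Type u) [CommRing R]
    (M : Type v) [AddCommGroup M] [Module R M] [Module.Finite R M] (k : ℕ)
    (A : Type u) [CommRing A] [Algebra R A] (N : Module.Grassmannian A (A ⊗[R] M) k)
    (j : ℕ) (hj : j < k) :
    (Fitt.ideal R M j).map (algebraMap R A) = ⊥ := by
  rw [← GrothLib.Fitting.ideal_baseChange A j, ← le_bot_iff]
  refine (GrothLib.Fitting.ideal_le_of_surjective N.toSubmodule.mkQ N.toSubmodule.mkQ_surjective j).trans ?_
  intro x hx
  rw [Ideal.mem_bot]
  refine Module.eq_zero_of_localization_maximal (fun (P : Ideal A) [P.IsMaximal] => Localization.AtPrime P)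
    (fun (P : Ideal A) [P.IsMaximal] => Algebra.linearMap A (Localization.AtPrime P)) x fun P _ => ?_
  let Q := (A ⊗[R] M) ⧸ N.toSubmodule
  haveI : Module.Free (Localization.AtPrime P) (LocalizedModule P.primeCompl Q) := Module.free_of_flat_of_isLocalRing
  have hk : Module.finrank (Localization.AtPrime P) (LocalizedModule P.primeCompl Q) = k :=
    N.rankAtStalk_eq ⟨P, inferInstance⟩
  have h := Ideal.mem_map_of_mem (algebraMap A (Localization.AtPrime P)) hx
  rw [← GrothLib.Fitting.ideal_localized P.primeCompl j,
    GrothLib.Fitting.ideal_of_basis ((Module.finBasis _ _).reindex (finCongr hk)), if_neg (by omega), Ideal.mem_bot] at h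
  simpa using h

end Groth.Agent.S14345
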