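import Groth.Statements.S14346
import Mathlib.RingTheory.Spectrum.Prime.FreeLocus
import Mathlib.RingTheory.Grassmannian

set_option autoImplicit false
universe u v
open TensorProduct
open QuotLF

namespace Groth.Agent.S14346

/-- Let R be a commutative ring, M an R-module, k ≥ 0, and A an R-algebra for which A ⊗_R M is finite
projective of constant rank k, i.e. Spec A → Spec R factors through the locally closed stratum where
M is locally free of rank k. Then A ⊗_R M has exactly one rank-k locally free quotient: the zero
submodule has finite projective quotient of constant rank k, and every submodule with such a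
quotient is zero. In other words the Quot scheme of rank-k locally free quotients of M restricted to
that stratum maps isomorphically onto it. -/
theorem result (R : Type u) [CommRing R]
    (M : Type v) [AddCommGroup M] [Module R M] (k : ℕ)
    (A : Type u) [CommRing A] [Algebra R A] [Module.Finite A (A ⊗[R] M)] [Module.Projective A (A ⊗[R] M)]
    (hk : ∀ p : PrimeSpectrum A, Module.rankAtStalk (R := A) (A ⊗[R] M) p = k) :
    (∃ N : Module.Grassmannian A (A ⊗[R] M) k, N.toSubmodule = ⊥) ∧
      ∀ N : Module.Grassmannian A (A ⊗[R] M) k, N.toSubmodule = ⊥ := by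
  have huniq : ∀ N : Module.Grassmannian A (A ⊗[R] M) k, N.toSubmodule = ⊥ := by
    intro N
    haveI := N.projective_quotient
    obtain ⟨s, hs⟩ := Module.projective_lifting_property N.toSubmodule.mkQ LinearMap.id
      N.toSubmodule.mkQ_surjective
    let π : A ⊗[R] M →ₗ[A] ↥N.toSubmodule :=
      (LinearMap.id - s.comp N.toSubmodule.mkQ).codRestrict N.toSubmodule fun x => by
        refine (Submodule.Quotient.mk_eq_zero _).1 ?_
        have := LinearMap.congr_fun hs (N.toSubmodule.mkQ x)
        simpa [sub_eq_zero] using this.symm
    have hπ : π.comp N.toSubmodule.subtype = LinearMap.id := by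
      refine LinearMap.ext fun x => Subtype.ext ?_
      have h0 : N.toSubmodule.mkQ (x : A ⊗[R] M) = 0 := (Submodule.Quotient.mk_eq_zero _).2 x.2
      show (x : A ⊗[R] M) - s (N.toSubmodule.mkQ x) = x
      rw [h0, map_zero, sub_zero]
    haveI : Module.Projective A ↥N.toSubmodule :=
      Module.Projective.of_split N.toSubmodule.subtype π hπ
    haveI : Module.Finite A ↥N.toSubmodule :=
      Module.Finite.of_surjective π fun y => ⟨y.1, LinearMap.congr_fun hπ y⟩
    rw [← Submodule.subsingleton_iff_eq_bot]
    refine (Module.rankAtStalk_eq_zero_iff_subsingleton (R := A)).1 (funext fun p => ?_)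
    have hbij : Function.Bijective (π.prod N.toSubmodule.mkQ) := by
      have hπ' : ∀ x, (π x : A ⊗[R] M) + s (N.toSubmodule.mkQ x) = x := fun x => sub_add_cancel _ _
      constructor
      · rw [injective_iff_map_eq_zero]
        intro x hx
        have := hπ' x
        rw [show π x = 0 from congrArg Prod.fst hx,
          show N.toSubmodule.mkQ x = 0 from congrArg Prod.snd hx] at this
        simpa using this.symm
      · rintro ⟨y, q⟩
        have hq : N.toSubmodule.mkQ ((y : A ⊗[R] M) + s q) = q := by
          rw [map_add, show N.toSubmodule.mkQ (s q) = q from LinearMap.congr_fun hs q]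
          simp
        refine ⟨(y : A ⊗[R] M) + s q, Prod.ext (Subtype.ext ?_) hq⟩
        show (y : A ⊗[R] M) + s q - s (N.toSubmodule.mkQ ((y : A ⊗[R] M) + s q)) = y
        rw [hq, add_sub_cancel_right]
    have h := congrFun (Module.rankAtStalk_eq_of_equiv (R := A) (M := A ⊗[R] M) (N := ↥N.toSubmodule × ((A ⊗[R] M) ⧸ N.toSubmodule)) (LinearEquiv.ofBijective (π.prod N.toSubmodule.mkQ) hbij)) p
    rw [Module.rankAtStalk_prod, Pi.add_apply, hk, N.rankAtStalk_eq] at h
    simp only [Pi.zero_apply]
    omega
  let e : ((A ⊗[R] M) ⧸ (⊥ : Submodule A (A ⊗[R] M))) ≃ₗ[A] A ⊗[R] M :=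
    Submodule.quotEquivOfEqBot ⊥ rfl
  refine ⟨⟨⟨⊥, Module.Finite.equiv e.symm, Module.Projective.of_equiv e.symm, fun p => ?_⟩, rfl⟩, huniq⟩
  rw [Module.rankAtStalk_eq_of_equiv e]; exact hk p

end Groth.Agent.S14346
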