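import Groth.Statements.S14347
import Groth.Agent.Lib.Fitting.Basic
import Mathlib.LinearAlgebra.Dimension.StrongRankCondition

set_option autoImplicit false
set_option linter.all false
universe u
open QuotLF

namespace Groth.Agent.S14347

/-- Let R be a commutative ring and σ : R^m → R^n an injective linear map with cokernel M, so that M has
a length-one resolution by finite free modules and rank δ = n − m; let K be the cokernel of the dual
map (R^n)^∨ → (R^m)^∨, which is the module Ext¹_R(M, R). Then the Fitting ideals satisfy Fit_{δ +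
j}(M) = Fit_j(K) for all j ≥ 0, and Fit_i(M) = 0 for i < δ (the degeneracy loci of M and of K agree
after the shift by δ). -/
theorem result (R : Type u) [CommRing R] (m n : ℕ)
    (σ : (Fin m → R) →ₗ[R] (Fin n → R)) (hσ : Function.Injective σ) :
    (∀ j : ℕ, Fitt.ideal R ((Fin n → R) ⧸ LinearMap.range σ) (n - m + j) =
        Fitt.ideal R (Module.Dual R (Fin m → R) ⧸ LinearMap.range σ.dualMap) j) ∧
      ∀ i : ℕ, i < n - m → Fitt.ideal R ((Fin n → R) ⧸ LinearMap.range σ) i = ⊥ := by
  classical
  let A : Fin n → Fin m → R := fun i j => σ (Pi.single j 1) i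
  let d : ℕ → Ideal R := fun p => Ideal.span {r | ∃ (e : Fin p → Fin n) (g : Fin p → Fin m), r = (Matrix.of fun a b => A (e a) (g b)).det}
  let x : Fin n → ((Fin n → R) ⧸ LinearMap.range σ) := fun i => Submodule.Quotient.mk (Pi.single i 1)
  have hx : Submodule.span R (Set.range x) = ⊤ := by
    have h : x = (LinearMap.range σ).mkQ ∘ Pi.basisFun R (Fin n) := by ext i; simp [x]
    rw [h, Set.range_comp, ← Submodule.map_span, (Pi.basisFun R (Fin n)).span_eq, Submodule.map_top,
      Submodule.range_mkQ]
  have hrelx : GrothLib.Fitting.rel (R := R) x = Submodule.span R (Set.range fun j => σ (Pi.single j 1)) := by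
    rw [show (Submodule.span R (Set.range fun j => σ (Pi.single j 1))) = LinearMap.range σ from ?_]
    · ext z
      rw [GrothLib.Fitting.mem_rel]
      have : ∑ i, z i • x i = Submodule.Quotient.mk z := by
        conv_rhs => rw [pi_eq_sum_univ' z]
        exact ((map_sum (LinearMap.range σ).mkQ _ _).trans (Finset.sum_congr rfl fun i _ => map_smul (LinearMap.range σ).mkQ _ _)).symm
      rw [this, Submodule.Quotient.mk_eq_zero]
    · rw [show (fun j => σ (Pi.single j 1)) = σ ∘ Pi.basisFun R (Fin m) from by ext j; simp, Set.range_comp,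
        ← Submodule.map_span, (Pi.basisFun R (Fin m)).span_eq, Submodule.map_top]
  have hd1 : ∀ p, GrothLib.Fitting.minors (GrothLib.Fitting.rel (R := R) x) p = d p := by
    intro p
    rw [hrelx]
    refine le_antisymm (GrothLib.Fitting.minors_span_le _ _ _ fun z e hz => ?_) (Ideal.span_le.2 ?_)
    · choose g hg using hz
      exact Ideal.subset_span ⟨e, g, by simp only [← hg]; rfl⟩
    · rintro _ ⟨e, g, rfl⟩
      exact GrothLib.Fitting.det_mem_minors (fun b => σ (Pi.single (g b) 1)) e fun b => Submodule.subset_span ⟨g b, rfl⟩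
  let y : Fin m → (Module.Dual R (Fin m → R) ⧸ LinearMap.range σ.dualMap) := fun j => Submodule.Quotient.mk (LinearMap.proj j)
  have hdual : ∀ φ : Module.Dual R (Fin m → R), φ = ∑ j, φ (Pi.single j 1) • (LinearMap.proj j : (Fin m → R) →ₗ[R] R) := by
    intro φ
    refine (Pi.basisFun R (Fin m)).ext fun l => ?_
    simp [LinearMap.sum_apply, Pi.single_apply]
  have hy : Submodule.span R (Set.range y) = ⊤ := by
    refine eq_top_iff.2 fun q _ => ?_
    obtain ⟨φ, rfl⟩ := Submodule.Quotient.mk_surjective _ q
    rw [hdual φ]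
    rw [show (Submodule.Quotient.mk (∑ j, φ (Pi.single j 1) • (LinearMap.proj j : (Fin m → R) →ₗ[R] R)) :
        Module.Dual R (Fin m → R) ⧸ LinearMap.range σ.dualMap) = ∑ j, φ (Pi.single j 1) • y j from
      (map_sum (LinearMap.range σ.dualMap).mkQ _ _).trans (Finset.sum_congr rfl fun i _ => map_smul (LinearMap.range σ.dualMap).mkQ _ _)]
    exact Submodule.sum_mem _ fun j _ => Submodule.smul_mem _ _ (Submodule.subset_span ⟨j, rfl⟩)
  have hrely : GrothLib.Fitting.rel (R := R) y = Submodule.span R (Set.range A) := by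
    ext z
    rw [GrothLib.Fitting.mem_rel]
    have : ∑ j, z j • y j = (LinearMap.range σ.dualMap).mkQ (∑ j, z j • (LinearMap.proj j : (Fin m → R) →ₗ[R] R)) := by
      rw [map_sum]; exact Finset.sum_congr rfl fun i _ => (map_smul (LinearMap.range σ.dualMap).mkQ (z i) _).symm
    rw [this, Submodule.mkQ_apply, Submodule.Quotient.mk_eq_zero, LinearMap.mem_range,
      Submodule.mem_span_range_iff_exists_fun]
    constructor
    · rintro ⟨φ, hφ⟩
      refine ⟨fun i => φ (Pi.single i 1), funext fun j => ?_⟩
      have h := LinearMap.congr_fun hφ (Pi.single j 1)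
      rw [LinearMap.dualMap_apply, pi_eq_sum_univ' (σ (Pi.single j 1)), map_sum] at h
      simpa [A, LinearMap.sum_apply, Pi.single_apply, mul_comm] using h
    · rintro ⟨c, hc⟩
      refine ⟨∑ i, c i • (LinearMap.proj i : (Fin n → R) →ₗ[R] R), ?_⟩
      refine (Pi.basisFun R (Fin m)).ext fun j => ?_
      have h := congrFun hc j
      simpa [A, LinearMap.sum_apply, Pi.single_apply] using h
  have hd2 : ∀ p, GrothLib.Fitting.minors (GrothLib.Fitting.rel (R := R) y) p = d p := by
    intro p
    rw [hrely]
    refine le_antisymm (GrothLib.Fitting.minors_span_le _ _ _ fun z g hz => ?_) (Ideal.span_le.2 ?_)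
    · choose e he using hz
      refine Ideal.subset_span ⟨e, g, ?_⟩
      rw [← Matrix.det_transpose]
      simp only [← he]; rfl
    · rintro _ ⟨e, g, rfl⟩
      rw [← Matrix.det_transpose]
      exact GrothLib.Fitting.det_mem_minors (fun b => A (e b)) g fun b => Submodule.subset_span ⟨e b, rfl⟩
  refine ⟨fun j => ?_, fun i hi => ?_⟩
  · rcases subsingleton_or_nontrivial R with h | h
    · exact Subsingleton.elim _ _
    have hmn : m ≤ n := le_of_fin_injective R σ hσ
    rw [GrothLib.Fitting.ideal_eq_minors x hx, GrothLib.Fitting.ideal_eq_minors y hy, hd1, hd2,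
      show n - (n - m + j) = m - j by omega]
  · rw [GrothLib.Fitting.ideal_eq_minors x hx, hd1, eq_bot_iff, Ideal.span_le]
    rintro _ ⟨e, g, rfl⟩
    obtain ⟨a, b, hab, hne⟩ : ∃ a b, g a = g b ∧ a ≠ b :=
      Function.not_injective_iff.1 fun hg => by
        have := Fintype.card_le_of_injective g hg
        simp at this
        omega
    exact Ideal.mem_bot.2 (Matrix.det_zero_of_column_eq hne fun l => by simp [hab])

end Groth.Agent.S14347
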