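import Groth.Statements.S14348
import Groth.Agent.Lib.DetRank12.Main

set_option autoImplicit false
set_option linter.all false
set_option maxHeartbeats 1000000
set_option backward.isDefEq.respectTransparency false
set_option backward.isDefEq.respectTransparency.types false
universe u
open CategoryTheory CategoryTheory.Limits AlgebraicGeometry TensorProduct
open QuotLF

namespace Groth.Agent.S14348

/-- Let R be a commutative ring, σ : R^m → R^(m+δ) an injective linear map with cokernel M (so M has
homological dimension ≤ 1 and rank δ) and K the cokernel of the dual map (that is, Ext¹(M, R)); let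
d ≥ δ; let Y ⊆ Spec R be the closed subscheme cut out by the Fitting ideals Fit_j(M), j < d (the
locus where M has rank at least d), and Z ⊆ Spec R the one cut out by Fit_d(M). Let B₊ and B₋ be
schemes over Spec R representing, on R-algebras A and naturally in A, the rank-d locally free
quotients of A ⊗_R M and the rank-(d−δ) locally free quotients of A ⊗_R K (the two Quot schemes),
and let Ŷ = B₊ ×_{Spec R} B₋ with its structure map to Spec R. Then the inverse image ideal sheaf of
Z on Ŷ is locally principal; and whenever c : Ŷ → Y factors the structure map through Y, if the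
inverse image ideal of Z on Ŷ is the ideal of an effective Cartier divisor then c is a blowing-up of
Y in Z ∩ Y (universal property). This is the local situation, with a chosen two-term resolution, to
which the global statement for a module of homological dimension ≤ 1 on a connected scheme reduces;
the comparison of the tautological line bundles in the blowing-up assertion and the further
assertions on reducedness and the Cohen–Macaulay property are not stated. -/
theorem result {R : Type u} [CommRing R] (m δ d : ℕ) (hd : δ ≤ d)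
    (σ : (Fin m → R) →ₗ[R] (Fin (m + δ) → R)) (hσ : Function.Injective σ)
    (Bp Bm : Over (Spec (CommRingCat.of R)))
    (ep : ∀ A : CommAlgCat.{u} R, (Over.mk (Spec.map (CommRingCat.ofHom (algebraMap R A))) ⟶ Bp) ≃ (Module.Grassmannian.functor (R := R) (M := ((Fin (m + δ) → R) ⧸ LinearMap.range σ)) d).obj A)
    (hep : ∀ (A A' : CommAlgCat.{u} R) (φ : A ⟶ A') (g : (Over.mk (Spec.map (CommRingCat.ofHom (algebraMap R A))) ⟶ Bp)) (g' : (Over.mk (Spec.map (CommRingCat.ofHom (algebraMap R A'))) ⟶ Bp)),
      g'.left = Spec.map (CommRingCat.ofHom φ.hom.toRingHom) ≫ g.left →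
        ep A' g' = (Module.Grassmannian.functor (R := R) (M := ((Fin (m + δ) → R) ⧸ LinearMap.range σ)) d).map φ (ep A g))
    (em : ∀ A : CommAlgCat.{u} R, (Over.mk (Spec.map (CommRingCat.ofHom (algebraMap R A))) ⟶ Bm) ≃ (Module.Grassmannian.functor (R := R) (M := (Module.Dual R (Fin m → R) ⧸ LinearMap.range σ.dualMap)) (d - δ)).obj A)
    (hem : ∀ (A A' : CommAlgCat.{u} R) (φ : A ⟶ A') (g : (Over.mk (Spec.map (CommRingCat.ofHom (algebraMap R A))) ⟶ Bm)) (g' : (Over.mk (Spec.map (CommRingCat.ofHom (algebraMap R A'))) ⟶ Bm)),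
      g'.left = Spec.map (CommRingCat.ofHom φ.hom.toRingHom) ≫ g.left →
        em A' g' = (Module.Grassmannian.functor (R := R) (M := (Module.Dual R (Fin m → R) ⧸ LinearMap.range σ.dualMap)) (d - δ)).map φ (em A g)) :
    Curv2.IsLocPrincipal
        ((Spec.map (CommRingCat.ofHom (Ideal.Quotient.mk (Fitt.ideal R ((Fin (m + δ) → R) ⧸ LinearMap.range σ) d)))).ker.comap
          (pullback.fst Bp.hom Bm.hom ≫ Bp.hom)) ∧
      ∀ c : pullback Bp.hom Bm.hom ⟶
          Spec (CommRingCat.of (R ⧸ ⨆ j < d, Fitt.ideal R ((Fin (m + δ) → R) ⧸ LinearMap.range σ) j)),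
        c ≫ Spec.map (CommRingCat.ofHom (Ideal.Quotient.mk (⨆ j < d, Fitt.ideal R ((Fin (m + δ) → R) ⧸ LinearMap.range σ) j))) =
            pullback.fst Bp.hom Bm.hom ≫ Bp.hom →
          BlowUp.IsEffCartierIdeal
              ((Spec.map (CommRingCat.ofHom (Ideal.Quotient.mk (Fitt.ideal R ((Fin (m + δ) → R) ⧸ LinearMap.range σ) d)))).ker.comap
                (pullback.fst Bp.hom Bm.hom ≫ Bp.hom)) →
            BlowUp.IsBlowUp c
              (Spec.map (CommRingCat.ofHom (Ideal.Quotient.mk
                ((Fitt.ideal R ((Fin (m + δ) → R) ⧸ LinearMap.range σ) d).map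
                  (Ideal.Quotient.mk (⨆ j < d, Fitt.ideal R ((Fin (m + δ) → R) ⧸ LinearMap.range σ) j)))))).ker := by
  classical
  let S : Matrix (Fin (m + δ)) (Fin m) R := Matrix.of fun i k => σ (Pi.single k 1) i
  let x : Fin (m + δ) → ((Fin (m + δ) → R) ⧸ LinearMap.range σ) := fun i => Submodule.Quotient.mk (Pi.single i 1)
  have hx : Submodule.span R (Set.range x) = ⊤ := by
    have h : x = (LinearMap.range σ).mkQ ∘ Pi.basisFun R (Fin (m + δ)) := by ext i; simp [x]
    rw [h, Set.range_comp, ← Submodule.map_span, (Pi.basisFun R (Fin (m + δ))).span_eq, Submodule.map_top,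
      Submodule.range_mkQ]
  have hrelx : GrothLib.Fitting.rel (R := R) x = GrothLib.DetRank12.cols S := by
    show _ = Submodule.span R (Set.range fun j => σ (Pi.single j 1))
    rw [show (Submodule.span R (Set.range fun j => σ (Pi.single j 1))) = LinearMap.range σ from ?_]
    · ext z
      rw [GrothLib.Fitting.mem_rel]
      have : ∑ i, z i • x i = Submodule.Quotient.mk z := by
        conv_rhs => rw [pi_eq_sum_univ' z]
        exact ((map_sum (LinearMap.range σ).mkQ _ _).trans (Finset.sum_congr rfl fun i _ => map_smul (LinearMap.range σ).mkQ _ _)).symm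
      rw [this, Submodule.Quotient.mk_eq_zero]
    · rw [show (fun j => σ (Pi.single j 1)) = σ ∘ Pi.basisFun R (Fin m) from by ext j; simp, Set.range_comp,
        ← Submodule.map_span, (Pi.basisFun R (Fin m)).span_eq, Submodule.map_top]
  let y : Fin m → (Module.Dual R (Fin m → R) ⧸ LinearMap.range σ.dualMap) := fun j => Submodule.Quotient.mk (LinearMap.proj j)
  have hdual : ∀ φ : Module.Dual R (Fin m → R), φ = ∑ j, φ (Pi.single j 1) • (LinearMap.proj j : (Fin m → R) →ₗ[R] R) := by
    intro φ
    refine (Pi.basisFun R (Fin m)).ext fun l => ?_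
    simp [LinearMap.sum_apply, Pi.single_apply]
  have hy : Submodule.span R (Set.range y) = ⊤ := by
    refine eq_top_iff.2 fun q _ => ?_
    obtain ⟨φ, rfl⟩ := Submodule.Quotient.mk_surjective _ q
    rw [hdual φ]
    rw [show (Submodule.Quotient.mk (∑ j, φ (Pi.single j 1) • (LinearMap.proj j : (Fin m → R) →ₗ[R] R)) :
        Module.Dual R (Fin m → R) ⧸ LinearMap.range σ.dualMap) = ∑ j, φ (Pi.single j 1) • y j from
      (map_sum (LinearMap.range σ.dualMap).mkQ _ _).trans (Finset.sum_congr rfl fun i _ => map_smul (LinearMap.range σ.dualMap).mkQ _ _)]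
    exact Submodule.sum_mem _ fun j _ => Submodule.smul_mem _ _ (Submodule.subset_span ⟨j, rfl⟩)
  have hrely : GrothLib.Fitting.rel (R := R) y = GrothLib.DetRank12.cols S.transpose := by
    show _ = Submodule.span R (Set.range fun i j => σ (Pi.single j 1) i)
    ext z
    rw [GrothLib.Fitting.mem_rel]
    have : ∑ j, z j • y j = (LinearMap.range σ.dualMap).mkQ (∑ j, z j • (LinearMap.proj j : (Fin m → R) →ₗ[R] R)) := by
      rw [map_sum]; exact Finset.sum_congr rfl fun i _ => (map_smul (LinearMap.range σ.dualMap).mkQ (z i) _).symm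
    rw [this, Submodule.mkQ_apply, Submodule.Quotient.mk_eq_zero, LinearMap.mem_range,
      Submodule.mem_span_range_iff_exists_fun]
    constructor
    · rintro ⟨φ, hφ⟩
      refine ⟨fun i => φ (Pi.single i 1), funext fun j => ?_⟩
      have h := LinearMap.congr_fun hφ (Pi.single j 1)
      rw [LinearMap.dualMap_apply, pi_eq_sum_univ' (σ (Pi.single j 1)), map_sum] at h
      simpa [LinearMap.sum_apply, Pi.single_apply, mul_comm] using h
    · rintro ⟨c, hc⟩
      refine ⟨∑ i, c i • (LinearMap.proj i : (Fin (m + δ) → R) →ₗ[R] R), ?_⟩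
      refine (Pi.basisFun R (Fin m)).ext fun j => ?_
      have h := congrFun hc j
      simpa [LinearMap.sum_apply, Pi.single_apply] using h
  rw [GrothLib.DetRank12.ker_specMap_mk]
  refine ⟨GrothLib.DetRank12.isLocPrincipal x hx S hrelx y hy hrely Bp Bm ep em (by omega), fun c hc hC => ?_⟩
  rw [GrothLib.DetRank12.ker_specMap_mk]
  exact GrothLib.DetRank12.isBlowUp x hx S hrelx y hy hrely Bp Bm ep em (by omega) (fun h => by omega) c hc hC

end Groth.Agent.S14348
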