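import Groth.Statements.S6281
import Mathlib.RingTheory.Flat.FaithfullyFlat.Basic
import Mathlib.LinearAlgebra.TensorProduct.Tower

set_option autoImplicit false
universe u
open CAlg

namespace Groth.Agent.S6281

open TensorProduct

/-- For an R-algebra S and an S-module M, flatness of S over R follows once M is both flat over R and
faithfully flat over S. -/
theorem result {R S : Type u} [CommRing R] [CommRing S] [Algebra R S] (M : Type u) [AddCommGroup M] [Module S M] [Module R M] [IsScalarTower R S M] [Module.Flat R M] [Module.FaithfullyFlat S M] : Module.Flat R S := by
  rw [Module.Flat.iff_lTensor_preserves_injective_linearMap]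
  intro N N' _ _ _ _ f hf
  have h : Function.Injective (f.lTensor M) :=
    Module.Flat.lTensor_preserves_injective_linearMap f hf
  let F : S ⊗[R] N →ₗ[S] S ⊗[R] N' := AlgebraTensorModule.lTensor S S f
  have e : ∀ x, AlgebraTensorModule.cancelBaseChange R S S M N' (F.lTensor M x) =
      f.lTensor M (AlgebraTensorModule.cancelBaseChange R S S M N x) := by
    intro x
    induction x using TensorProduct.induction_on with
    | zero => simp
    | add a b ha hb => simp only [map_add, ha, hb]
    | tmul m y =>
      induction y using TensorProduct.induction_on with
      | zero => simp
      | add a b ha hb => simp only [TensorProduct.tmul_add, map_add, ha, hb]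
      | tmul s n => simp [F]
  have h2 : Function.Injective (F.lTensor M) := fun a b hab =>
    (AlgebraTensorModule.cancelBaseChange R S S M N).injective (h (by rw [← e, ← e, hab]))
  exact (Module.FaithfullyFlat.lTensor_injective_iff_injective S M F).1 h2

end Groth.Agent.S6281
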