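import Groth.Statements.S14352
import Groth.Agent.Lib.UnramLoc9.Field

set_option autoImplicit false
universe u
open Mor

namespace Groth.Agent.S14352

open CategoryTheory CategoryTheory.Limits AlgebraicGeometry in
/-- A morphism of schemes f : X → S which is locally of finite presentation is unramified (formally
unramified) if and only if all its geometric fibres are reduced with discrete underlying space: for
every algebraically closed field K and every S-point Spec K → S, the fibre product X ×_S Spec K is a
reduced scheme whose topological space is discrete. -/
theorem result {X S : Scheme.{u}} (f : X ⟶ S)
    [LocallyOfFinitePresentation f] :
    FormallyUnramified f ↔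
      ∀ (K : Type u) [Field K] [IsAlgClosed K] (s : Spec (CommRingCat.of K) ⟶ S),
        IsReduced (pullback f s) ∧ DiscreteTopology ↥(pullback f s) := by
  exact GrothLib.UnramLoc9.unramified_iff_geometric f

end Groth.Agent.S14352
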