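import Groth.Statements.S14353
import Mathlib


set_option autoImplicit false
set_option linter.all false
set_option maxHeartbeats 1000000
universe u
open CategoryTheory CategoryTheory.Limits CategoryTheory.MonoidalCategory
open CAlg

namespace Groth.Agent.S14353

variable {R : Type u} [CommRing R] {N : Type u} [AddCommGroup N] [Module R N]
  {M₀ M₁ : Type u} [AddCommGroup M₀] [Module R M₀] [AddCommGroup M₁] [Module R M₁]

/-- `v ↦ ∑ v i ⊗ g eᵢ`. -/
noncomputable def lTensorPi {b : ℕ} (g : (Fin b → R) →ₗ[R] N) : (Fin b → M₀) →ₗ[R] TensorProduct R M₀ N :=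
  (g.lTensor M₀) ∘ₗ (TensorProduct.piScalarRight R R M₀ (Fin b)).symm.toLinearMap

/-- The map given by a matrix. -/
noncomputable def relMap {a b : ℕ} (c : (Fin a → R) →ₗ[R] (Fin b → R)) : (Fin a → M₀) →ₗ[R] (Fin b → M₀) :=
  (TensorProduct.piScalarRight R R M₀ (Fin b)).toLinearMap ∘ₗ c.lTensor M₀ ∘ₗ
    (TensorProduct.piScalarRight R R M₀ (Fin a)).symm.toLinearMap

theorem piScalarRight_natural {b : ℕ} (f : M₀ →ₗ[R] M₁) (z : TensorProduct R M₀ (Fin b → R)) :
    TensorProduct.piScalarRight R R M₁ (Fin b) (f.rTensor (Fin b → R) z) =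
      f.compLeft (Fin b) (TensorProduct.piScalarRight R R M₀ (Fin b) z) := by
  induction z using TensorProduct.induction_on with
  | zero => simp
  | tmul x y => funext i; simp
  | add x y hx hy => rw [map_add, map_add, map_add, map_add, hx, hy]

theorem lTensorPi_natural {b : ℕ} (g : (Fin b → R) →ₗ[R] N) (f : M₀ →ₗ[R] M₁) (v : Fin b → M₀) :
    f.rTensor N (lTensorPi g v) = lTensorPi g (f.compLeft (Fin b) v) := by
  obtain ⟨z, rfl⟩ := (TensorProduct.piScalarRight R R M₀ (Fin b)).surjective v
  rw [← piScalarRight_natural]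
  simp only [lTensorPi, LinearMap.comp_apply, LinearEquiv.coe_coe, LinearEquiv.symm_apply_apply]
  exact LinearMap.congr_fun ((LinearMap.rTensor_comp_lTensor _ f g).trans (LinearMap.lTensor_comp_rTensor _ f g).symm) z

theorem relMap_natural {a b : ℕ} (c : (Fin a → R) →ₗ[R] (Fin b → R)) (f : M₀ →ₗ[R] M₁) (v : Fin a → M₀) :
    relMap c (f.compLeft (Fin a) v) = f.compLeft (Fin b) (relMap c v) := by
  obtain ⟨z, rfl⟩ := (TensorProduct.piScalarRight R R M₀ (Fin a)).surjective v
  rw [← piScalarRight_natural]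
  simp only [relMap, LinearMap.comp_apply, LinearEquiv.coe_coe, LinearEquiv.symm_apply_apply]
  rw [← piScalarRight_natural]
  exact congrArg _ (LinearMap.congr_fun
    ((LinearMap.lTensor_comp_rTensor _ f c).trans (LinearMap.rTensor_comp_lTensor _ f c).symm) z)

theorem lTensorPi_surjective {b : ℕ} (g : (Fin b → R) →ₗ[R] N) (hg : Function.Surjective g) :
    Function.Surjective (lTensorPi (M₀ := M₀) g) :=
  (LinearMap.lTensor_surjective M₀ hg).comp (TensorProduct.piScalarRight R R M₀ (Fin b)).symm.surjective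

theorem exists_relMap {a b : ℕ} (g : (Fin b → R) →ₗ[R] N) (c : (Fin a → R) →ₗ[R] (Fin b → R))
    (hg : Function.Surjective g) (hex : Function.Exact c g) (v : Fin b → M₀) :
    lTensorPi g v = 0 ↔ ∃ u, relMap c u = v := by
  constructor
  · intro h
    obtain ⟨z, hz⟩ := (lTensor_exact M₀ hex hg ((TensorProduct.piScalarRight R R M₀ (Fin b)).symm v)).1 h
    refine ⟨TensorProduct.piScalarRight R R M₀ (Fin a) z, ?_⟩
    simp only [relMap, LinearMap.comp_apply, LinearEquiv.coe_coe, LinearEquiv.symm_apply_apply, hz,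
      LinearEquiv.apply_symm_apply]
  · rintro ⟨u, rfl⟩
    refine (lTensor_exact M₀ hex hg _).2 ⟨(TensorProduct.piScalarRight R R M₀ (Fin a)).symm u, ?_⟩
    simp only [relMap, LinearMap.comp_apply, LinearEquiv.coe_coe]
    exact (LinearEquiv.symm_apply_apply _ _).symm

theorem exists_section (V : ℕ → Type u) [∀ n, AddCommGroup (V n)] [∀ n, Module R (V n)]
    [∀ n, IsArtinian R (V n)] (f : ∀ n, V (n + 1) →ₗ[R] V n) (S : ∀ n, Set (V n))
    (W : ∀ n, Submodule R (V n)) (hne : ∀ n, ∃ x, x ∈ S n)
    (hS : ∀ n, ∀ x ∈ S n, ∀ y, y ∈ S n ↔ y - x ∈ W n) (hf : ∀ n, ∀ x ∈ S (n + 1), f n x ∈ S n) :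
    ∃ x : ∀ n, V n, (∀ n, x n ∈ S n) ∧ ∀ n, f n (x (n + 1)) = x n := by
  classical
  let F : ℕ → ∀ n, Set (V n) := fun m => Nat.rec S (fun _ Fm n => f n '' Fm (n + 1)) m
  let G : ℕ → ∀ n, Submodule R (V n) := fun m => Nat.rec W (fun _ Gm n => (Gm (n + 1)).map (f n)) m
  have hF : ∀ m n, (∃ x, x ∈ F m n) ∧ ∀ x ∈ F m n, ∀ y, y ∈ F m n ↔ y - x ∈ G m n := by
    intro m
    induction m with
    | zero => exact fun n => ⟨hne n, hS n⟩
    | succ m ih =>
      intro n
      obtain ⟨⟨x, hx⟩, hc⟩ := ih (n + 1)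
      refine ⟨⟨f n x, x, hx, rfl⟩, ?_⟩
      rintro _ ⟨z, hz, rfl⟩ y
      constructor
      · rintro ⟨z', hz', rfl⟩
        exact ⟨z' - z, (hc z hz z').1 hz', map_sub _ _ _⟩
      · rintro ⟨w, hw, hwe⟩
        exact ⟨z + w, (hc z hz _).2 (by simpa using hw), by rw [map_add, hwe, add_sub_cancel]⟩
  have hFanti : ∀ m n, F (m + 1) n ⊆ F m n := by
    intro m
    induction m with
    | zero => rintro n _ ⟨z, hz, rfl⟩; exact hf n z hz
    | succ m ih => rintro n _ ⟨z, hz, rfl⟩; exact ⟨z, ih (n + 1) hz, rfl⟩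
  have hFle : ∀ n m m', m ≤ m' → F m' n ⊆ F m n := fun n m m' h => by
    induction h with
    | refl => exact subset_rfl
    | step _ ih => exact (hFanti _ n).trans ih
  have hGle : ∀ n m, G (m + 1) n ≤ G m n := by
    intro n m w hw
    obtain ⟨⟨y, hy⟩, hc⟩ := hF (m + 1) n
    have h1 : y + w ∈ F (m + 1) n := (hc y hy _).2 (by simpa using hw)
    simpa using ((hF m n).2 y (hFanti m n hy) _).1 (hFanti m n h1)
  have hstab : ∀ n, ∃ m₀, ∀ m, m₀ ≤ m → F m n = F m₀ n := by
    intro n
    obtain ⟨m₀, hm₀⟩ := IsArtinian.monotone_stabilizes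
      (⟨fun m => OrderDual.toDual (G m n), monotone_nat_of_le_succ fun m => hGle n m⟩ :
        ℕ →o (Submodule R (V n))ᵒᵈ)
    refine ⟨m₀, fun m hm => Set.Subset.antisymm (hFle n m₀ m hm) fun z hz => ?_⟩
    obtain ⟨⟨y, hy⟩, hc⟩ := hF m n
    rw [hc y hy, show G m n = G m₀ n from (OrderDual.toDual.injective (hm₀ m hm)).symm]
    exact ((hF m₀ n).2 y (hFle n m₀ m hm hy) z).1 hz
  choose m₀ hm₀ using hstab
  have hstep : ∀ n, ∀ x ∈ F (m₀ n) n, ∃ x' ∈ F (m₀ (n + 1)) (n + 1), f n x' = x := by
    intro n x hx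
    rw [← hm₀ n (m₀ n + m₀ (n + 1) + 1) (by omega)] at hx
    obtain ⟨z, hz, rfl⟩ := hx
    exact ⟨z, hFle (n + 1) _ _ (by omega) hz, rfl⟩
  choose g hg hg' using hstep
  obtain ⟨⟨x₀, hx₀⟩, -⟩ := hF (m₀ 0) 0
  let x : ∀ n, {x : V n // x ∈ F (m₀ n) n} := fun n => Nat.rec ⟨x₀, hx₀⟩
    (fun n x => ⟨g n x.1 x.2, hg n x.1 x.2⟩) n
  exact ⟨fun n => (x n).1, fun n => hFle n 0 (m₀ n) (Nat.zero_le _) (x n).2, fun n => hg' n (x n).1 (x n).2⟩

theorem exists_limit_elt (M : ℕᵒᵖ ⥤ ModuleCat.{u} R) (x : ∀ n : ℕ, M.obj (Opposite.op n))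
    (hx : ∀ n, (M.map (homOfLE (Nat.le_succ n)).op).hom (x (n + 1)) = x n) :
    ∃ t : (limit M : ModuleCat R), ∀ n, (limit.π M (Opposite.op n)).hom t = x n := by
  have hx' : ∀ i j (h : i ≤ j), (M.map (homOfLE h).op).hom (x j) = x i := by
    intro i j h
    induction h with
    | refl => simp
    | @step j h ih =>
      rw [show (homOfLE (Nat.le.step h)).op = (homOfLE (Nat.le_succ j)).op ≫ (homOfLE h).op from rfl,
        M.map_comp, ModuleCat.hom_comp, LinearMap.comp_apply, hx j, ih]
  let c : Cone M :=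
    { pt := ModuleCat.of R R
      π :=
        { app := fun n => ModuleCat.ofHom (LinearMap.toSpanSingleton R _ (x n.unop))
          naturality := fun i j φ => by
            ext
            obtain ⟨i⟩ := i
            obtain ⟨j⟩ := j
            simp only [Functor.const_obj_map, Category.id_comp]
            show (1 : R) • x j = (M.map φ).hom ((1 : R) • x i)
            rw [one_smul, one_smul, ← hx' j i (leOfHom φ.unop)]
            rfl } }
  refine ⟨(limit.lift M c).hom (1 : R), fun n => ?_⟩
  have h := congrArg (fun φ : c.pt ⟶ M.obj (Opposite.op n) => φ.hom (1 : R)) (limit.lift_π c (Opposite.op n))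
  refine h.trans ?_
  show (1 : R) • x n = x n
  rw [one_smul]


/-- For a commutative ring R, an inverse system (M_n)_{n ∈ ℕ} of R-modules of finite length and a
finitely presented R-module N, the canonical comparison map (lim_n M_n) ⊗_R N ⟶ lim_n (M_n ⊗_R N) is
an isomorphism. (The published statement takes N = R/I for a finitely generated ideal I; the
argument covers every finitely presented N, which is the form stated here.) -/
theorem result (R : Type u) [CommRing R]
    (M : ℕᵒᵖ ⥤ ModuleCat.{u} R) (hM : ∀ n : ℕᵒᵖ, IsFiniteLength R (M.obj n))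
    (N : Type u) [AddCommGroup N] [Module R N] [Module.FinitePresentation R N] :
    IsIso (limit.post M (tensorRight (ModuleCat.of R N))) := by
  classical
  haveI hart : ∀ n : ℕ, IsArtinian R (M.obj (Opposite.op n)) := fun n =>
    (isFiniteLength_iff_isNoetherian_isArtinian.1 (hM _)).2
  obtain ⟨b, g, hg⟩ := Module.Finite.exists_fin' R N
  obtain ⟨a, c, hc⟩ := (Submodule.fg_iff_exists_fin_linearMap R (Fin b → R)).1
    (Module.FinitePresentation.fg_ker g hg)
  have hex : Function.Exact c g := LinearMap.exact_iff.2 hc.symm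
  let f : ∀ n, M.obj (Opposite.op (n + 1)) →ₗ[R] M.obj (Opposite.op n) := fun n =>
    (M.map (homOfLE (Nat.le_succ n)).op).hom
  let π : ∀ n : ℕ, (limit M : ModuleCat R) →ₗ[R] M.obj (Opposite.op n) := fun n => (limit.π M (Opposite.op n)).hom
  have hπ : ∀ n x, f n (π (n + 1) x) = π n x := fun n x => by
    exact congrArg (fun φ : limit M ⟶ M.obj (Opposite.op n) => φ.hom x) (limit.w M (homOfLE (Nat.le_succ n)).op)
  rw [ConcreteCategory.isIso_iff_bijective]
  constructor
  · intro z z' h
    rw [← sub_eq_zero]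
    set w := z - z' with hw
    have h0 : ∀ n, (π n).rTensor N w = 0 := by
      intro n
      have h1 := congrArg (fun q => (limit.π (M ⋙ tensorRight (ModuleCat.of R N)) (Opposite.op n)).hom q) h
      have hp : ∀ q, (limit.π (M ⋙ tensorRight (ModuleCat.of R N)) (Opposite.op n)).hom
          ((limit.post M (tensorRight (ModuleCat.of R N))).hom q) = (π n).rTensor N q := fun q =>
        congrArg (fun φ : (tensorRight (ModuleCat.of R N)).obj (limit M) ⟶ _ => φ.hom q)
          (limit.post_π M (tensorRight (ModuleCat.of R N)) (Opposite.op n))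
      rw [map_sub, sub_eq_zero, ← hp, ← hp]
      exact h1
    clear_value w
    obtain ⟨v, rfl⟩ := lTensorPi_surjective (M₀ := (limit M : ModuleCat R)) g hg w
    have hv : ∀ n, ∃ u, relMap c u = fun i => π n (v i) := fun n => by
      refine (exists_relMap g c hg hex _).1 ?_
      exact (lTensorPi_natural g (π n) v).symm.trans (h0 n)
    obtain ⟨u, hu, hu'⟩ := exists_section (fun n => Fin a → M.obj (Opposite.op n))
      (fun n => (f n).compLeft (Fin a))
      (fun n => {u | relMap c u = fun i => π n (v i)})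
      (fun n => LinearMap.ker (relMap c)) hv
      (fun n x hx y => by
        simp only [Set.mem_setOf_eq, LinearMap.mem_ker, map_sub, sub_eq_zero]
        rw [show _ = _ from hx])
      (fun n x hx => by
        simp only [Set.mem_setOf_eq] at hx ⊢
        rw [relMap_natural, hx]
        exact funext fun i => hπ n (v i))
    choose t ht using fun j : Fin a => exists_limit_elt M (fun n => u n j) (fun n => congrFun (hu' n) j)
    have : v = relMap c t := by
      funext i
      refine Concrete.limit_ext M _ _ fun n => ?_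
      obtain ⟨n⟩ := n
      have h := congrFun (hu n) i
      rw [show u n = (π n).compLeft (Fin a) t from funext fun j => (ht j n).symm, relMap_natural] at h
      exact h.symm
    exact (exists_relMap g c hg hex v).2 ⟨t, this.symm⟩
  · intro y
    let yn : ∀ n : ℕ, TensorProduct R (M.obj (Opposite.op n)) N := fun n =>
      (limit.π (M ⋙ tensorRight (ModuleCat.of R N)) (Opposite.op n)).hom y
    have hy : ∀ n, (f n).rTensor N (yn (n + 1)) = yn n := fun n =>
      congrArg (fun φ : limit (M ⋙ tensorRight (ModuleCat.of R N)) ⟶ _ => φ.hom y)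
        (limit.w (M ⋙ tensorRight (ModuleCat.of R N)) (homOfLE (Nat.le_succ n)).op)
    obtain ⟨u, hu, hu'⟩ := exists_section (fun n => Fin b → M.obj (Opposite.op n))
      (fun n => (f n).compLeft (Fin b))
      (fun n => {u | lTensorPi g u = yn n})
      (fun n => LinearMap.ker (lTensorPi g)) (fun n => lTensorPi_surjective g hg (yn n))
      (fun n x hx y => by
        simp only [Set.mem_setOf_eq, LinearMap.mem_ker, map_sub, sub_eq_zero]
        rw [show _ = _ from hx])
      (fun n x hx => by
        simp only [Set.mem_setOf_eq] at hx ⊢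
        rw [← hy n, ← hx]
        exact (lTensorPi_natural g (f n) x).symm)
    choose t ht using fun j : Fin b => exists_limit_elt M (fun n => u n j) (fun n => congrFun (hu' n) j)
    refine ⟨lTensorPi g t, Concrete.limit_ext _ _ _ fun n => ?_⟩
    obtain ⟨n⟩ := n
    have hp : (limit.π (M ⋙ tensorRight (ModuleCat.of R N)) (Opposite.op n)).hom
        ((limit.post M (tensorRight (ModuleCat.of R N))).hom (lTensorPi g t)) = (π n).rTensor N (lTensorPi g t) :=
      congrArg (fun φ : (tensorRight (ModuleCat.of R N)).obj (limit M) ⟶ _ => φ.hom (lTensorPi g t))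
        (limit.post_π M (tensorRight (ModuleCat.of R N)) (Opposite.op n))
    refine hp.trans ?_
    rw [lTensorPi_natural, show (π n).compLeft (Fin b) t = u n from funext fun j => ht j n]
    exact hu n

end Groth.Agent.S14353
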