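import Groth.Statements.S14355
import Mathlib.CategoryTheory.Abelian.Exact

set_option autoImplicit false
universe v u
open CategoryTheory CategoryTheory.Limits
open SpSeqMor

namespace Groth.Agent.S14355

/-- Let φ : E ⟶ E' be a morphism of E_2-cohomological spectral sequences in an abelian category, with
abutments H and H' whose filtrations are finite in each degree, and f a morphism of abutment data
over φ. Fix integers l and a₀. If E_2^{i, l-i} = 0 for i < a₀, E'_2^{i, l-i} = 0 for i > a₀ and
φ_2^{a₀, l-a₀} = 0, then f^l : H^l ⟶ H'^l is zero. (The published statement prints the two vanishing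
hypotheses at positions (i, l); the argument works on the line of total degree l, at positions (i, l
- i), which is the form stated here.) -/
theorem result (C : Type u) [Category.{v} C] [Abelian C]
    (E E' : E₂CohomologicalSpectralSequence C) (φ : E ⟶ E') (H H' : ℤ → C)
    (a : SpSeq.Abutment E H) (a' : SpSeq.Abutment E' H')
    (ha : ∀ n : ℤ, a.IsFinite n) (ha' : ∀ n : ℤ, a'.IsFinite n)
    (f : SpSeqMor.AbutHom φ a a') (l a₀ : ℤ)
    (hE : ∀ i : ℤ, i < a₀ → IsZero ((E.page 2 le_rfl).X (i, l - i)))
    (hE' : ∀ i : ℤ, a₀ < i → IsZero ((E'.page 2 le_rfl).X (i, l - i)))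
    (hφ : (φ.hom 2 le_rfl).f (a₀, l - a₀) = 0) :
    f.hom l = 0 := by
  have hzero : ∀ (F : E₂CohomologicalSpectralSequence C) (pq : ℤ × ℤ), IsZero ((F.page 2 le_rfl).X pq) →
      ∀ r (hr : 2 ≤ r), IsZero ((F.page r hr).X pq) := by
    intro F pq h r hr
    induction r, hr using Int.le_induction with
    | base => exact h
    | succ r hr ih =>
      exact (ShortComplex.exact_iff_isZero_homology _).1 (ShortComplex.exact_of_isZero_X₂ _ ih) |>.of_iso
        (F.iso r (r + 1) pq rfl hr).symm
  have hstep : ∀ (K : SpSeq.FilObj C) (p : ℤ), IsZero (K.gr p) → K.fil (p + 1) = K.fil p := fun K p h => by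
    haveI : Epi ((K.fil (p + 1)).ofLE (K.fil p) (K.anti (Int.le_add_one le_rfl))) :=
      Preadditive.epi_of_isZero_cokernel _ h
    haveI : IsIso ((K.fil (p + 1)).ofLE (K.fil p) (K.anti (Int.le_add_one le_rfl))) := isIso_of_mono_of_epi _
    exact Subobject.eq_of_comm (asIso ((K.fil (p + 1)).ofLE (K.fil p) (K.anti (Int.le_add_one le_rfl))))
      (Subobject.ofLE_arrow _)
  have hgr : ∀ (F : E₂CohomologicalSpectralSequence C) (G : ℤ → C) (b : SpSeq.Abutment F G) (i : ℤ),
      IsZero ((F.page 2 le_rfl).X (i, l - i)) → IsZero ((b.filObj l).gr i) := by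
    intro F G b i h
    have h1 := (hzero F _ h _ (b.stat (i, l - i)).1).of_iso (b.β (i, l - i)).symm
    have key : ∀ n, i + (l - i) = n → IsZero ((b.filObj n).gr i) := by
      intro n hn
      subst hn
      exact h1
    exact key l (by omega)
  have htop : (a.filObj l).fil a₀ = ⊤ := by
    obtain ⟨⟨c, hc⟩, -⟩ := ha l
    rcases le_total a₀ c with h | h
    · exact eq_top_iff.2 (hc ▸ (a.filObj l).anti h)
    · suffices ∀ i, c ≤ i → i ≤ a₀ → (a.filObj l).fil i = ⊤ from this a₀ h le_rfl
      intro i hi
      induction i, hi using Int.le_induction with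
      | base => exact fun _ => hc
      | succ i hi ih => exact fun h' => (hstep _ i (hgr E H a i (hE i (by omega)))).trans (ih (by omega))
  have hbot : (a'.filObj l).fil (a₀ + 1) = ⊥ := by
    obtain ⟨-, ⟨d, hd⟩⟩ := ha' l
    rcases le_total d (a₀ + 1) with h | h
    · exact eq_bot_iff.2 (hd ▸ (a'.filObj l).anti h)
    · suffices ∀ i, a₀ + 1 ≤ i → i ≤ d → (a'.filObj l).fil (a₀ + 1) = (a'.filObj l).fil i from (this d h le_rfl).trans hd
      intro i hi
      induction i, hi using Int.le_induction with
      | base => exact fun _ => rfl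
      | succ i hi ih => exact fun h' => (ih (by omega)).trans (hstep _ i (hgr E' H' a' i (hE' i (by omega)))).symm
  have hpage : ∀ r (hr : 2 ≤ r), (φ.hom r hr).f (a₀, l - a₀) = 0 := by
    intro r hr
    induction r, hr using Int.le_induction with
    | base => exact hφ
    | succ r hr ih =>
      have hcomm := φ.comm r (r + 1) (a₀, l - a₀) rfl hr
      have h0 : HomologicalComplex.homologyMap (φ.hom r hr) (a₀, l - a₀) = 0 := by
        change ShortComplex.homologyMap _ = 0
        have : ShortComplex.cyclesMap ((HomologicalComplex.shortComplexFunctor C _ (a₀, l - a₀)).map (φ.hom r hr)) = 0 := by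
          rw [← cancel_mono (ShortComplex.iCycles _), ShortComplex.cyclesMap_i, zero_comp]
          exact (congrArg (fun x => _ ≫ x) ih).trans comp_zero
        exact (cancel_epi (ShortComplex.homologyπ _)).1 (((ShortComplex.homologyπ_naturality _).trans
          ((congrArg (fun x => x ≫ _) this).trans zero_comp)).trans comp_zero.symm)
      rw [h0, zero_comp] at hcomm
      exact (cancel_epi (E.iso r (r + 1) (a₀, l - a₀) rfl hr).hom).1 (hcomm.symm.trans comp_zero.symm)
  have hgr0 : (f.fil l).gr a₀ = 0 := by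
    have hk : ∃ k k' : ℕ, a.rk (a₀, l - a₀) + k = a'.rk (a₀, l - a₀) + k' :=
      ⟨(max (a.rk (a₀, l - a₀)) (a'.rk (a₀, l - a₀)) - a.rk (a₀, l - a₀)).toNat,
        (max (a.rk (a₀, l - a₀)) (a'.rk (a₀, l - a₀)) - a'.rk (a₀, l - a₀)).toNat, by omega⟩
    obtain ⟨k, k', hkk⟩ := hk
    have h := f.comm (a₀, l - a₀) k k' hkk
    rw [hpage] at h
    simp only [zero_comp, comp_zero] at h
    have h2 : (f.fil (a₀ + (l - a₀))).gr a₀ = 0 := by
      exact (cancel_epi (a.β (a₀, l - a₀)).hom).1 (h.trans comp_zero.symm)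
    have key : ∀ n, a₀ + (l - a₀) = n → (f.fil n).gr a₀ = 0 := by
      intro n hn
      subst hn
      exact h2
    exact key l (by omega)
  let s : (a'.filObj l).step (a₀ + 1) ⟶ (a'.filObj l).step a₀ := (a'.filObj l).stepLE (Int.le_add_one le_rfl)
  have hs : s = 0 := by
    rw [← cancel_mono ((a'.filObj l).fil a₀).arrow, zero_comp]
    refine (Subobject.ofLE_arrow _).trans ?_
    have hb : ∀ S : Subobject (a'.filObj l).obj, S = ⊥ → S.arrow = 0 := by
      rintro _ rfl
      exact Subobject.bot_arrow
    exact hb _ hbot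
  haveI : Mono (cokernel.π s) := by
    refine Preadditive.mono_of_cancel_zero _ fun {T} x hx => ?_
    obtain ⟨g, hg⟩ : ∃ g : cokernel s ⟶ (a'.filObj l).step a₀, cokernel.π s ≫ g = 𝟙 _ :=
      ⟨cokernel.desc s (𝟙 _) (by rw [hs, zero_comp]), cokernel.π_desc _ _ _⟩
    rw [← Category.comp_id x, ← hg, ← Category.assoc, hx, zero_comp]
  have hlift : (f.fil l).lift a₀ = 0 := by
    rw [← cancel_mono (cokernel.π s), zero_comp]
    have hd : cokernel.π ((a.filObj l).stepLE (Int.le_add_one (le_refl a₀))) ≫ (f.fil l).gr a₀ =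
        (f.fil l).lift a₀ ≫ cokernel.π s := cokernel.π_desc _ _ _
    rw [← hd, hgr0]
    exact comp_zero
  have h := (f.fil l).lift_arrow a₀
  rw [hlift, zero_comp] at h
  haveI : IsIso ((a.filObj l).fil a₀).arrow := Subobject.isIso_arrow_iff_eq_top _ |>.2 htop
  exact (cancel_epi ((a.filObj l).fil a₀).arrow).1 (h.symm.trans comp_zero.symm)

end Groth.Agent.S14355
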