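import Groth.Statements.S14357
import Groth.Agent.Lib.GrTilde.QCoh
import Groth.Agent.Lib.Ample.ProjMap
import Mathlib.Algebra.MvPolynomial.Division
import Mathlib.RingTheory.MvPolynomial.Homogeneous

set_option autoImplicit false
universe u
open AlgebraicGeometry
open Proj

namespace Groth.Agent.S14357

set_option backward.isDefEq.respectTransparency false

/-- For a field k the projective line over k is not an affine scheme. (The projective line is taken here
as Proj of the polynomial ring in two variables over k with its standard grading; the book builds it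
by gluing two affine lines and identifies the two constructions later.) -/
theorem result (k : Type u) [Field k] :
    ¬ IsAffine (CohB1.ProjSpace 1 k) := by
  intro hAff
  let 𝒜 := CohB1.polyGrading 1 k
  let X0 : MvPolynomial (Fin 2) k := MvPolynomial.X 0
  let X1 : MvPolynomial (Fin 2) k := MvPolynomial.X 1
  have hX : ∀ i : Fin 2, (MvPolynomial.X i : MvPolynomial (Fin 2) k) ∈ 𝒜 1 := fun i => GrothLib.Ample.ProjMap.X_mem i
  have hprime : ∀ i : Fin 2, Prime (MvPolynomial.X i : MvPolynomial (Fin 2) k) := fun i => MvPolynomial.X_prime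
  have hndvd : ∀ i j : Fin 2, i ≠ j → ¬ (MvPolynomial.X i : MvPolynomial (Fin 2) k) ∣ MvPolynomial.X j :=
    fun i j hij h => hij (MvPolynomial.X_dvd_X.mp h)
  have hirr : ∀ i : Fin 2, (MvPolynomial.X i : MvPolynomial (Fin 2) k) ∈ HomogeneousIdeal.irrelevant 𝒜 := fun i => by
    rw [HomogeneousIdeal.mem_irrelevant_iff, GradedRing.proj_apply, DirectSum.decompose_of_mem_ne 𝒜 (hX i) one_ne_zero]
  let q : Proj 𝒜 := ⟨⟨Ideal.span {X0}, Ideal.homogeneous_span 𝒜 {X0} (by rintro _ rfl; exact ⟨1, hX 0⟩)⟩,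
    (Ideal.span_singleton_prime (MvPolynomial.X_ne_zero 0)).mpr (hprime 0),
    fun h => hndvd 0 1 (by decide) (Ideal.mem_span_singleton.mp (h (hirr 1)))⟩
  let p : Proj 𝒜 := ⟨⟨⊥, Ideal.IsHomogeneous.bot 𝒜⟩, Ideal.isPrime_bot,
    fun h => MvPolynomial.X_ne_zero 0 ((Ideal.mem_bot).mp (h (hirr 0)))⟩
  have hp : ∀ i : Fin 2, p ∈ Proj.basicOpen 𝒜 (MvPolynomial.X i : MvPolynomial (Fin 2) k) :=
    fun i h => MvPolynomial.X_ne_zero i ((Ideal.mem_bot).mp h)
  have hq : q ∉ Proj.basicOpen 𝒜 X0 := fun h => h (Ideal.mem_span_singleton_self X0)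
  have hcov : ∀ y : Proj 𝒜, y ∈ Proj.basicOpen 𝒜 X0 ∨ y ∈ Proj.basicOpen 𝒜 X1 := fun y => by
    obtain ⟨i, hi⟩ := TopologicalSpace.Opens.mem_iSup.mp
      ((GrothLib.Ample.ProjMap.iSup_basicOpen_X 1 k).ge (TopologicalSpace.Opens.mem_top y))
    fin_cases i
    · exact Or.inl hi
    · exact Or.inr hi
  obtain ⟨g, hgle, hpg⟩ := ((show IsAffineOpen (⊤ : (Proj 𝒜).Opens) from @isAffineOpen_top (Proj 𝒜) hAff)).exists_basicOpen_le (V := Proj.basicOpen 𝒜 X0) ⟨p, hp 0⟩
    (TopologicalSpace.Opens.mem_top p)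
  have hfrac : ∀ i : Fin 2, ∃ (n : ℕ) (b : MvPolynomial (Fin 2) k), b ∈ 𝒜 n ∧
      ∀ y : Proj.basicOpen 𝒜 (MvPolynomial.X i : MvPolynomial (Fin 2) k),
        GrothLib.Ample.ProjTwist.ev y (GrothLib.Ample.res (le_top : Proj.basicOpen 𝒜 (MvPolynomial.X i : MvPolynomial (Fin 2) k) ≤ ⊤) g) =
          Localization.mk b (⟨(MvPolynomial.X i) ^ n, fun hm => y.2 (y.1.isPrime.mem_of_pow_mem n hm)⟩ :
            y.1.asHomogeneousIdeal.toIdeal.primeCompl) := fun i => by
    obtain ⟨n, b, hb, h⟩ := GrothLib.GrTilde.exists_ev_eq (hX i) one_pos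
      (GrothLib.Ample.res (le_top : Proj.basicOpen 𝒜 (MvPolynomial.X i : MvPolynomial (Fin 2) k) ≤ ⊤) g)
    exact ⟨n, b, by simpa using hb, h⟩
  choose n b hb hv using hfrac
  have e01 : b 0 * X1 ^ n 1 = b 1 * X0 ^ n 0 := by
    have h0 := hv 0 ⟨p, hp 0⟩
    have h1 := hv 1 ⟨p, hp 1⟩
    rw [GrothLib.Ample.ProjTwist.ev_res] at h0 h1
    obtain ⟨c, hc⟩ := Localization.r_iff_exists.mp (Localization.mk_eq_mk_iff.mp (h0.symm.trans h1))
    have hc0 : (c : MvPolynomial (Fin 2) k) ≠ 0 := fun h => c.2 (by rw [h]; exact zero_mem _)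
    have := mul_left_cancel₀ hc0 hc
    exact (mul_comm _ _).trans (this.trans (mul_comm _ _))
  have key : ∀ i j : Fin 2, i ≠ j → b i * MvPolynomial.X j ^ n j = b j * MvPolynomial.X i ^ n i →
      ∃ r : k, b i = MvPolynomial.C r * MvPolynomial.X i ^ n i := by
    intro i j hij e
    obtain ⟨c, hc⟩ := (hprime i).pow_dvd_of_dvd_mul_right (n i)
      (fun h => hndvd i j hij ((hprime i).dvd_of_dvd_pow h)) (e ▸ Dvd.intro_left (b j) rfl : MvPolynomial.X i ^ n i ∣ b i * MvPolynomial.X j ^ n j)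
    have hd := DirectSum.decompose_of_mem_same 𝒜 (hb i)
    rw [hc, mul_comm, DirectSum.coe_decompose_mul_of_right_mem 𝒜 (n i)
      (by simpa using SetLike.pow_mem_graded (n i) (hX i) : (MvPolynomial.X i : MvPolynomial (Fin 2) k) ^ n i ∈ 𝒜 (n i)),
      if_pos le_rfl, Nat.sub_self] at hd
    refine ⟨MvPolynomial.coeff 0 ((DirectSum.decompose 𝒜 c 0 : 𝒜 0) : MvPolynomial (Fin 2) k), ?_⟩
    rw [← MvPolynomial.totalDegree_eq_zero_iff_eq_C.mp (Nat.le_zero.mp
      (MvPolynomial.IsHomogeneous.totalDegree_le (SetLike.coe_mem (DirectSum.decompose 𝒜 c 0)))), hd, hc, mul_comm]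
  obtain ⟨r, hr⟩ := key 0 1 (by decide) e01
  obtain ⟨r', hr'⟩ := key 1 0 (by decide) e01.symm
  have hrr : r = r' := by
    rw [hr, hr', show X0 = MvPolynomial.X 0 from rfl, show X1 = MvPolynomial.X 1 from rfl] at e01
    refine MvPolynomial.C_injective (Fin 2) k (mul_right_cancel₀
      (mul_ne_zero (pow_ne_zero (n 0) (MvPolynomial.X_ne_zero (0 : Fin 2))) (pow_ne_zero (n 1) (MvPolynomial.X_ne_zero (1 : Fin 2)))) ?_)
    rw [← mul_assoc, e01]; ring
  have hev : ∀ y : (⊤ : (Proj 𝒜).Opens), GrothLib.Ample.ProjTwist.ev y g = algebraMap _ _ (MvPolynomial.C r : MvPolynomial (Fin 2) k) := by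
    intro y
    have aux : ∀ (i : Fin 2) (t : k), b i = MvPolynomial.C t * MvPolynomial.X i ^ n i →
        ∀ hy : y.1 ∈ Proj.basicOpen 𝒜 (MvPolynomial.X i : MvPolynomial (Fin 2) k),
        GrothLib.Ample.ProjTwist.ev y g = algebraMap _ _ (MvPolynomial.C t : MvPolynomial (Fin 2) k) := fun i t ht hy => by
      have h := hv i ⟨y.1, hy⟩
      rw [GrothLib.Ample.ProjTwist.ev_res] at h
      refine h.trans ?_
      rw [← Localization.mk_one_eq_algebraMap, Localization.mk_eq_mk_iff, Localization.r_iff_exists]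
      exact ⟨1, by simp only [OneMemClass.coe_one, one_mul, ht]; ring⟩
    rcases hcov y.1 with hy | hy
    · exact aux 0 r hr hy
    · exact hrr ▸ aux 1 r' hr' hy
  have hiff : ∀ y : Proj 𝒜, y ∈ (Proj 𝒜).basicOpen g ↔ r ≠ 0 := by
    intro y
    rw [Scheme.mem_basicOpen _ _ y (TopologicalSpace.Opens.mem_top y)]
    rw [← isUnit_map_iff (Proj.stalkIso' 𝒜 y)]
    erw [Proj.stalkIso'_germ]
    rw [← HomogeneousLocalization.isUnit_iff_isUnit_val]
    rw [show (((show Twist.O (Opposite.op (⊤ : (Proj 𝒜).Opens)) from g).1 ⟨y, TopologicalSpace.Opens.mem_top y⟩).val) =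
      algebraMap _ _ (MvPolynomial.C r : MvPolynomial (Fin 2) k) from hev ⟨y, TopologicalSpace.Opens.mem_top y⟩]
    constructor
    · rintro h rfl
      rw [map_zero, map_zero] at h
      exact not_isUnit_zero h
    · exact fun h => ((isUnit_iff_ne_zero.mpr h).map MvPolynomial.C).map (algebraMap _ _)
  exact hq (hgle ((hiff q).mpr ((hiff p).mp hpg)))

end Groth.Agent.S14357
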