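import Groth.Statements.S14360
import Mathlib

set_option autoImplicit false
set_option backward.isDefEq.respectTransparency false
universe u
open AlgebraicGeometry
open CategoryTheory CategoryTheory.Limits
open Variety

namespace Groth.Agent.S14360

theorem isoImage_chain {X : Scheme.{u}} {U W : X.Opens} (V : (U : Scheme.{u}).Opens) (h : W ≤ U.ι ''ᵁ V) :
    X.homOfLE h ≫ (U.ι.isoImage V).inv ≫ V.ι ≫ U.ι = W.ι := by
  rw [Scheme.Hom.isoImage_inv_ι, Scheme.homOfLE_ι]

theorem comp_symm_equiv {X Y : Scheme.{u}} [IsIntegral X] [IsIntegral Y] (e : X.PartialIso Y)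
    [IsDominant e.toPartialMap.hom] :
    (e.toPartialMap.comp e.symm.toPartialMap).equiv (Scheme.PartialMap.id X) := by
  have hW : e.source ≤ (e.toPartialMap.comp e.symm.toPartialMap).domain := by
    intro x hx
    refine ⟨⟨x, hx⟩, ?_, rfl⟩
    show (e.iso.hom ≫ e.target.ι) ⟨x, hx⟩ ∈ e.target
    exact (e.iso.hom ⟨x, hx⟩).2
  refine ⟨e.source, e.dense_source, hW, le_top, ?_⟩
  let m := e.iso.hom ≫ e.target.ι
  have hm : m ∣_ e.target = (m ⁻¹ᵁ e.target).ι ≫ e.iso.hom := by
    rw [← cancel_mono e.target.ι, morphismRestrict_ι, Category.assoc]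
  show X.homOfLE hW ≫ ((Scheme.Hom.isoImage _ _).inv ≫ (m ∣_ e.target) ≫ e.iso.inv ≫ e.source.ι) =
    X.homOfLE le_top ≫ X.topIso.hom ≫ 𝟙 X
  rw [hm]
  simp only [Category.assoc, Iso.hom_inv_id_assoc, Category.comp_id]
  refine (isoImage_chain (U := e.source) (m ⁻¹ᵁ e.target) hW).trans ?_
  simp

theorem exists_data {X Y : Scheme.{u}} [IsIntegral X] [IsIntegral Y] (f : X.PartialMap Y) [IsDominant f.hom]
    (g : Y.PartialMap X) (h : (f.comp g).equiv (Scheme.PartialMap.id X)) :
    ∃ (A : Scheme.{u}) (a : A ⟶ f.domain) (a' : A ⟶ g.domain) (_ : IsOpenImmersion a),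
      a' ≫ g.domain.ι = a ≫ f.hom ∧ a' ≫ g.hom = a ≫ f.domain.ι ∧ IsDominant (a' ≫ g.domain.ι) := by
  obtain ⟨W, hW, hWl, hWr, e⟩ := h
  let c : W.toScheme ⟶ (f.hom ⁻¹ᵁ g.domain).toScheme := X.homOfLE hWl ≫ (f.domain.ι.isoImage _).inv
  have hWU : W ≤ f.domain := hWl.trans (f.domain.ι_image_le _)
  have ha : c ≫ (f.hom ⁻¹ᵁ g.domain).ι = X.homOfLE hWU := by
    rw [← cancel_mono f.domain.ι]
    simp only [c, Category.assoc]
    exact (isoImage_chain (U := f.domain) _ hWl).trans (Scheme.homOfLE_ι _ _).symm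
  refine ⟨W, X.homOfLE hWU, c ≫ (f.hom ∣_ g.domain), inferInstance, ?_, ?_, ?_⟩
  · rw [Category.assoc, morphismRestrict_ι, reassoc_of% ha]
  · have e' : X.homOfLE hWl ≫ (f.domain.ι.isoImage _).inv ≫ (f.hom ∣_ g.domain) ≫ g.hom =
        X.homOfLE hWr ≫ X.topIso.hom ≫ 𝟙 X := e
    simp only [c, Category.assoc]
    rw [e']
    simp only [Category.comp_id, Scheme.topIso_hom]
    exact (Scheme.homOfLE_ι _ _).trans (Scheme.homOfLE_ι _ _).symm
  · rw [Category.assoc, morphismRestrict_ι, reassoc_of% ha]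
    exact f.isDominant_restrict_hom W hW hWU

/-- Let X and Y be integral schemes. Then X and Y have isomorphic dense open subschemes if and only if
they are birational in the sense of rational maps, i.e. there exist dominant rational maps f : X ⤏ Y
and g : Y ⤏ X such that the composites g ∘ f and f ∘ g are the identity rational maps of X and of Y. -/
theorem result (X Y : Scheme.{u})
    [IsIntegral X] [IsIntegral Y] :
    Scheme.Birational X Y ↔
      ∃ (f : X ⤏ Y) (g : Y ⤏ X) (_ : f.IsDominant) (_ : g.IsDominant),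
        f.comp g = Scheme.RationalMap.id X ∧ g.comp f = Scheme.RationalMap.id Y := by
  constructor
  · rintro ⟨e⟩
    haveI h₁ : IsDominant e.toPartialMap.hom := by
      constructor
      show DenseRange (e.iso.hom ≫ e.target.ι)
      rw [DenseRange, Scheme.Hom.comp_base, TopCat.coe_comp, Set.range_comp,
        Set.range_eq_univ.mpr e.iso.hom.surjective, Set.image_univ, Scheme.Opens.range_ι]
      exact e.dense_target
    haveI h₂ : IsDominant e.symm.toPartialMap.hom := by
      constructor
      show DenseRange (e.iso.inv ≫ e.source.ι)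
      rw [DenseRange, Scheme.Hom.comp_base, TopCat.coe_comp, Set.range_comp,
        Set.range_eq_univ.mpr e.iso.inv.surjective, Set.image_univ, Scheme.Opens.range_ι]
      exact e.dense_source
    refine ⟨e.toRationalMap, e.symm.toRationalMap, inferInstance, inferInstance, ?_, ?_⟩
    · rw [Scheme.RationalMap.toRationalMap_comp, Scheme.RationalMap.id, Scheme.PartialMap.toRationalMap_eq_iff]
      exact comp_symm_equiv e
    · rw [Scheme.RationalMap.toRationalMap_comp, Scheme.RationalMap.id, Scheme.PartialMap.toRationalMap_eq_iff]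
      exact comp_symm_equiv e.symm
  · rintro ⟨f, g, hf, hg, h₁, h₂⟩
    obtain ⟨f, rfl⟩ := f.exists_rep
    obtain ⟨g, rfl⟩ := g.exists_rep
    haveI : IsDominant f.hom := (f.isDominant_toRationalMap_iff).mp hf
    haveI : IsDominant g.hom := (g.isDominant_toRationalMap_iff).mp hg
    rw [Scheme.RationalMap.toRationalMap_comp, Scheme.RationalMap.id, Scheme.PartialMap.toRationalMap_eq_iff] at h₁ h₂
    obtain ⟨A, a, a', _, ha₁, ha₂, _⟩ := exists_data f g h₁
    obtain ⟨B, b, b', _, hb₁, hb₂, hbd⟩ := exists_data g f h₂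
    have c₁ : pullback.snd a' b ≫ b' = pullback.fst a' b ≫ a := by
      rw [← cancel_mono f.domain.ι, Category.assoc, Category.assoc, hb₁, ← pullback.condition_assoc, ha₂]
    have c₂ : pullback.snd b' a ≫ a' = pullback.fst b' a ≫ b := by
      rw [← cancel_mono g.domain.ι, Category.assoc, Category.assoc, ha₁, ← pullback.condition_assoc, hb₂]
    let ι : pullback a' b ≅ pullback b' a :=
      { hom := pullback.lift (pullback.snd _ _) (pullback.fst _ _) c₁
        inv := pullback.lift (pullback.snd _ _) (pullback.fst _ _) c₂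
        hom_inv_id := by apply pullback.hom_ext <;> simp
        inv_hom_id := by apply pullback.hom_ext <;> simp }
    let jX := pullback.fst a' b ≫ a ≫ f.domain.ι
    let jY := pullback.fst b' a ≫ b ≫ g.domain.ι
    obtain ⟨z⟩ : Nonempty ↥(pullback b' a) := by
      haveI : Nonempty ↥A := (a' ≫ g.domain.ι).denseRange.nonempty
      obtain ⟨q, hq⟩ := (b' ≫ f.domain.ι).denseRange.exists_mem_open
        (a ≫ f.domain.ι).isOpenEmbedding.isOpen_range (Set.range_nonempty _)
      obtain ⟨p, hp⟩ := hq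
      obtain ⟨z, -, -⟩ := Scheme.Pullback.exists_preimage_pullback (f := b') (g := a) q p
        (f.domain.ι.isOpenEmbedding.injective hp.symm)
      exact ⟨z⟩
    refine ⟨⟨jX.opensRange, jX.opensRange.2.dense ?_, jY.opensRange, jY.opensRange.2.dense ?_,
      jX.isoOpensRange.symm ≪≫ ι ≪≫ jY.isoOpensRange⟩⟩
    · exact ⟨_, ι.inv z, rfl⟩
    · exact ⟨_, z, rfl⟩

end Groth.Agent.S14360
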