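import Groth.Statements.S14361
import Groth.Agent.Lib.SchImage.Reduced

set_option autoImplicit false
universe u
open AlgebraicGeometry
open SchImage

namespace Groth.Agent.S14361

/-- Let π : X → Y be a morphism of schemes with X reduced. Then the scheme-theoretic image of π is
computed affine-locally: on every affine open U of Y, the ideal of the kernel ideal sheaf of π (the
largest quasi-coherent ideal sheaf contained in the componentwise kernels) equals the ideal of those
sections over U which pull back to zero on π⁻¹(U). (The published statement allows, as an
alternative to X being reduced, that π be quasi-compact; this row is the reduced case and assumes no
quasi-compactness.) -/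
theorem result (X Y : Scheme.{u}) [IsReduced X]
    (π : X ⟶ Y) (U : Y.affineOpens) :
    π.ker.ideal U = RingHom.ker (π.app U).hom := by
  exact GrothLib.SchImage.ideal_ker π U

end Groth.Agent.S14361
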