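import Groth.Statements.S14363
import Mathlib.RingTheory.Ideal.AssociatedPrime.Basic
import Mathlib.RingTheory.Support
import Mathlib.RingTheory.Noetherian.Basic
-- import your own Groth.Agent.* helpers here

set_option autoImplicit false
universe u
open CAlg

namespace Groth.Agent.S14363

/-- Let A be a Noetherian ring and 0 → M' → M → M'' → 0 a short exact sequence of A-modules. If a prime
p of A is an associated prime of M'' and is not in the support of M', then p is an associated prime
of M. -/
theorem result (A : Type u) [CommRing A] [IsNoetherianRing A]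
    (M' M M'' : Type u) [AddCommGroup M'] [Module A M'] [AddCommGroup M] [Module A M]
    [AddCommGroup M''] [Module A M'']
    (f : M' →ₗ[A] M) (g : M →ₗ[A] M'') (hf : Function.Injective f) (hg : Function.Surjective g)
    (hfg : Function.Exact f g)
    (p : PrimeSpectrum A) (hp : p.asIdeal ∈ associatedPrimes A M'') (hsupp : p ∉ Module.support A M') :
    p.asIdeal ∈ associatedPrimes A M := by
  classical
  rw [AssociatedPrimes.mem_iff, isAssociatedPrime_iff] at hp ⊢
  obtain ⟨hprime, x, hx⟩ := hp
  refine ⟨hprime, ?_⟩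
  have hmem : ∀ r : A, r ∈ p.asIdeal ↔ r • x = 0 := fun r => by rw [hx, Submodule.mem_colon_singleton, Submodule.mem_bot]
  obtain ⟨m, rfl⟩ := hg x
  obtain ⟨S, hS⟩ := IsNoetherian.noetherian p.asIdeal
  have key : ∀ a ∈ S, ∃ s : A, s ∉ p.asIdeal ∧ s • a • m = 0 := by
    intro a ha
    have h0 : g (a • m) = 0 := by
      rw [map_smul]; exact (hmem a).1 (hS ▸ Submodule.subset_span ha)
    obtain ⟨m1, hm1⟩ := (hfg _).1 h0
    obtain ⟨s, hs, hs0⟩ := Module.notMem_support_iff'.1 hsupp m1
    exact ⟨s, hs, by rw [← hm1, ← map_smul, hs0, map_zero]⟩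
  choose! s hs hs0 using key
  let t := ∏ a ∈ S, s a
  have ht : t ∉ p.asIdeal := fun h => by
    obtain ⟨a, ha, ha2⟩ := (Ideal.IsPrime.prod_mem_iff (hp := hprime)).1 h
    exact hs a ha ha2
  refine ⟨t • m, le_antisymm ?_ ?_⟩
  · rw [← hS, Ideal.span_le]
    intro a ha
    rw [SetLike.mem_coe, Submodule.mem_colon_singleton, Submodule.mem_bot, smul_comm]
    obtain ⟨c, hc⟩ := Finset.dvd_prod_of_mem s ha
    show (∏ b ∈ S, s b) • a • m = 0
    rw [hc, mul_comm, mul_smul, hs0 a ha, smul_zero]
  · intro r hr
    rw [Submodule.mem_colon_singleton, Submodule.mem_bot, smul_smul] at hr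
    have h := congrArg g hr
    rw [map_smul, map_zero, ← hmem] at h
    exact (hprime.mem_or_mem h).resolve_right ht

end Groth.Agent.S14363
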