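import Groth.Statements.S14365
import Groth.Agent.Lib.SuppTens22.Local
import Groth.Agent.Lib.TorBC25.Class

set_option autoImplicit false
universe u
open CategoryTheory CategoryTheory.Limits AlgebraicGeometry
attribute [local instance] HasDerivedCategory.standard
open CxOX

namespace Groth.Agent.S14365

/-- Let f : X ⟶ Y be a flat morphism of finite type of Noetherian schemes, U ⊆ Y an open subscheme with
closed complement Z, Z' = f⁻¹(Z) the closed complement of f⁻¹(U), and let the derived pullback Lf^*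
: D(O_Y) ⥤ D(O_X) exist. For every K in D(O_Y) with quasi-coherent cohomology sheaves, the morphism
Lf^*(RΓ_Z(K) ⟶ K) factors through the canonical morphism RΓ_{Z'}(Lf^* K) ⟶ Lf^* K, and every
morphism Lf^* RΓ_Z(K) ⟶ RΓ_{Z'}(Lf^* K) giving such a factorisation is an isomorphism; this is the
isomorphism f^* RΓ_Z ≅ RΓ_{Z'} f^* for flat f. (Throughout, RΓ with support is the total right
derived functor of the sheaf of sections supported in the closed subset. The published statement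
derives instead the functor of sections killed by some power of a defining ideal; on complexes with
quasi-coherent cohomology sheaves over a Noetherian scheme the two derived functors agree.) -/
theorem result {X Y : Scheme.{u}} [IsNoetherian X] [IsNoetherian Y]
    (f : X ⟶ Y) [LocallyOfFiniteType f] [Flat f] (U : Y.Opens)
    [CxOX.HasRgammaZ U.ι] [CxOX.HasRgammaZ (f ⁻¹ᵁ U).ι] [DCoh.HasLpull f]
    (K : DCoh.D Y) (hK : DCoh.IsQCohD K) :
    (∃ β : (DCoh.Lpull f).obj ((CxOX.RgammaZ U.ι).obj K) ⟶ (CxOX.RgammaZ (f ⁻¹ᵁ U).ι).obj ((DCoh.Lpull f).obj K),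
        β ≫ (CxOX.RgammaZToId (f ⁻¹ᵁ U).ι).app ((DCoh.Lpull f).obj K) =
          (DCoh.Lpull f).map ((CxOX.RgammaZToId U.ι).app K)) ∧
    ∀ β : (DCoh.Lpull f).obj ((CxOX.RgammaZ U.ι).obj K) ⟶ (CxOX.RgammaZ (f ⁻¹ᵁ U).ι).obj ((DCoh.Lpull f).obj K),
        β ≫ (CxOX.RgammaZToId (f ⁻¹ᵁ U).ι).app ((DCoh.Lpull f).obj K) =
          (DCoh.Lpull f).map ((CxOX.RgammaZToId U.ι).app K) → IsIso β := by
  haveI : DCoh.HasRpush f := GrothLib.KInj.hasRightDerivedFunctor _
  obtain ⟨a⟩ := GrothLib.OX.nonempty_lpullAdj f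
  let adj := a.ofNatIsoRight (GrothLib.OX.rpushIsoRres f)
  letI := GrothLib.TorBC25.lpullCommShift f adj
  haveI := GrothLib.TorBC25.isTriangulated_lpull f adj
  obtain ⟨d, hd⟩ := GrothLib.OX.exists_rgammaZ_triangle U.ι K
  have hd' := (DCoh.Lpull f).map_distinguished _ hd
  let g := f.resLE U (f ⁻¹ᵁ U) le_rfl
  haveI : DCoh.HasLpull g := GrothLib.OX.hasLpull g
  haveI : DCoh.HasRpush g := GrothLib.KInj.hasRightDerivedFunctor _
  obtain ⟨b⟩ := GrothLib.OX.nonempty_lpullAdj g
  have hA : IsZero ((GrothLib.OX.resD (f ⁻¹ᵁ U).ι).obj ((DCoh.Lpull f).obj ((CxOX.RgammaZ U.ι).obj K))) := by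
    obtain ⟨i⟩ := GrothLib.SuppTens22.nonempty_resD_lpull_resLE f U (f ⁻¹ᵁ U) le_rfl ((CxOX.RgammaZ U.ι).obj K)
    refine IsZero.of_iso ((IsZero.iff_id_eq_zero _).2 ?_) i
    exact (b.homEquiv _ _).injective ((GrothLib.OX.isZero_resD_RgammaZ U.ι K).eq_of_src _ _)
  exact GrothLib.OX.exists_lift_isIso_RgammaZ (f ⁻¹ᵁ U).ι hd' hA
    (GrothLib.SuppTens22.isIso_unit_lpull f U (GrothLib.OX.isQCohD_resD U.ι hK))

end Groth.Agent.S14365
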