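import Groth.Statements.S14367
import Groth.Agent.Lib.SuppTens22.Basic

set_option autoImplicit false
universe u
open CategoryTheory CategoryTheory.Limits AlgebraicGeometry
attribute [local instance] HasDerivedCategory.standard
open CxOX

namespace Groth.Agent.S14367

/-- Let X be a Noetherian scheme, U ⊆ X an open subscheme with closed complement Z, F an object of
D(O_X) and E a cochain complex of O_X-modules, both with quasi-coherent cohomology sheaves vanishing
outside a bounded range of degrees, and let the derived functor − ⊗^L E on D(O_X) exist. Then the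
morphism (RΓ_Z(F)) ⊗^L E ⟶ F ⊗^L E induced by RΓ_Z(F) ⟶ F factors through the canonical morphism
RΓ_Z(F ⊗^L E) ⟶ F ⊗^L E, and every morphism (RΓ_Z(F)) ⊗^L E ⟶ RΓ_Z(F ⊗^L E) giving such a
factorisation is an isomorphism; this is the isomorphism RΓ_Z(F) ⊗^L E ≅ RΓ_Z(F ⊗^L E) (the
companion isomorphism F ⊗^L RΓ_Z(E) ≅ RΓ_Z(F ⊗^L E) differs from it by the symmetry of ⊗^L).
(Throughout, RΓ with support is the total right derived functor of the sheaf of sections supported
in the closed subset. The published statement derives instead the functor of sections killed by some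
power of a defining ideal; on complexes with quasi-coherent cohomology sheaves over a Noetherian
scheme the two derived functors agree.) -/
theorem result {X : Scheme.{u}} [IsNoetherian X] (U : X.Opens) [CxOX.HasRgammaZ U.ι]
    (F : DCoh.D X) (hF : DCoh.IsQCohD F) (a b : ℤ) (hFa : DerivedCategory.IsGE F a) (hFb : DerivedCategory.IsLE F b)
    (E : CochainComplex X.Modules ℤ) (hE : DCoh.IsQCohD (DCoh.toD X E))
    (a' b' : ℤ) (hEa : DerivedCategory.IsGE (DCoh.toD X E) a') (hEb : DerivedCategory.IsLE (DCoh.toD X E) b')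
    [DCoh.HasLTensorCx E] :
    (∃ φ : (DCoh.LTensorCx E).obj ((CxOX.RgammaZ U.ι).obj F) ⟶ (CxOX.RgammaZ U.ι).obj ((DCoh.LTensorCx E).obj F),
        φ ≫ (CxOX.RgammaZToId U.ι).app ((DCoh.LTensorCx E).obj F) =
          (DCoh.LTensorCx E).map ((CxOX.RgammaZToId U.ι).app F)) ∧
    ∀ φ : (DCoh.LTensorCx E).obj ((CxOX.RgammaZ U.ι).obj F) ⟶ (CxOX.RgammaZ U.ι).obj ((DCoh.LTensorCx E).obj F),
        φ ≫ (CxOX.RgammaZToId U.ι).app ((DCoh.LTensorCx E).obj F) =
          (DCoh.LTensorCx E).map ((CxOX.RgammaZToId U.ι).app F) → IsIso φ := by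
  haveI : QuasiCompact U.ι := inferInstance
  obtain ⟨d, hd⟩ := GrothLib.OX.exists_rgammaZ_triangle U.ι F
  obtain ⟨q, d', hd'⟩ := GrothLib.SuppTens22.exists_triangle_ltensor E hd
  have hA : IsZero ((GrothLib.OX.resD U.ι).obj ((DCoh.LTensorCx E).obj ((CxOX.RgammaZ U.ι).obj F))) := by
    haveI := GrothLib.OX.hasLTensorCx ((GrothLib.OX.resCx U.ι).obj E)
    obtain ⟨i⟩ := GrothLib.Dual22.nonempty_resD_ltensorCx U.ι E ((CxOX.RgammaZ U.ι).obj F)
    exact (GrothLib.SuppTens22.isZero_ltensor _ (GrothLib.OX.isZero_resD_RgammaZ U.ι F)).of_iso i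
  exact GrothLib.OX.exists_lift_isIso_RgammaZ U.ι hd' hA (GrothLib.SuppTens22.isIso_unit_ltensor U.ι
    (GrothLib.OX.isQCohD_Rres U.ι _ (GrothLib.OX.isQCohD_resD U.ι hF))
    (GrothLib.OX.isIso_resDAdj_unit_RR U.ι _) E hE)

end Groth.Agent.S14367
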