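import Groth.Statements.S14368
import Groth.Agent.Lib.OX.RRComp

set_option autoImplicit false
universe u
open CategoryTheory CategoryTheory.Limits AlgebraicGeometry
attribute [local instance] HasDerivedCategory.standard
open CxOX

namespace Groth.Agent.S14368

/-- Let j : X ⟶ X̄ be an open immersion of Noetherian schemes and W ⊆ X̄ an open subscheme whose closed
complement Z̄ = X̄ ∖ W is contained in j(X) (so Z̄ = j(Z) for the closed subset Z = X ∖ j⁻¹(W) of X:
this is the situation of a closed subset of X whose image in X̄ is still closed). Let Rj_* exist and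
preserve complexes with quasi-coherent cohomology, and let an adjunction j^* ⊣ Rj_* on derived
categories be given. Then for every G in D(O_X̄) with quasi-coherent cohomology sheaves the unit
RΓ_{Z̄}(G) ⟶ Rj_* j^* RΓ_{Z̄}(G) is an isomorphism; composed with Rj_* of the isomorphism j^*
RΓ_{Z̄} ≅ RΓ_Z j^* it gives the isomorphism ε : RΓ_{Z̄} ≅ Rj_* RΓ_Z j^*. (Throughout, RΓ with
support is the total right derived functor of the sheaf of sections supported in the closed subset.
The published statement derives instead the functor of sections killed by some power of a defining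
ideal; on complexes with quasi-coherent cohomology sheaves over a Noetherian scheme the two derived
functors agree.) -/
theorem result {X Xbar : Scheme.{u}} [IsNoetherian Xbar] [IsNoetherian X]
    (j : X ⟶ Xbar) [IsOpenImmersion j] (W : Xbar.Opens) (hW : (W : Set Xbar)ᶜ ⊆ Set.range j.base)
    [DCoh.HasRpush j] [CxOX.HasRgammaZ W.ι] (hj : DCoh.RpushPreservesQCoh j)
    (adj : DCoh.restrictD j ⊣ DCoh.Rpush j) (G : DCoh.D Xbar) (hG : DCoh.IsQCohD G) :
    IsIso (adj.unit.app ((CxOX.RgammaZ W.ι).obj G)) := by
  refine GrothLib.OX.isIso_unit_app_congr (GrothLib.OX.resDAdj j) adj _ ?_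
  obtain ⟨K, q, d, hK⟩ := Pretriangulated.distinguished_cocone_triangle
    ((GrothLib.OX.resDAdj j).unit.app ((CxOX.RgammaZ W.ι).obj G))
  obtain ⟨h1, h2⟩ := GrothLib.OX.isZero_resD_unit_cone j W hK (GrothLib.OX.isZero_resD_RgammaZ W.ι G)
  exact (Pretriangulated.Triangle.isZero₃_iff_isIso₁ _ hK).1 (GrothLib.OX.isZero_of_isZero_cover W.ι j (fun x => by
    rw [Scheme.Opens.range_ι]
    by_cases h : x ∈ W
    · exact Or.inl h
    · exact Or.inr (hW h)) h1 h2)

end Groth.Agent.S14368
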