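import Groth.Statements.S14369
import Groth.Agent.Lib.AffDom.IrredFibres

set_option autoImplicit false
universe u
open CategoryTheory CategoryTheory.Limits AlgebraicGeometry
open Variety

namespace Groth.Agent.S14369

/-- Let k be an algebraically closed field, X and Y schemes of finite type over k with Y irreducible,
and f : X → Y a k-morphism whose underlying continuous map is closed. Suppose that for some natural
number d the fibre of f over every closed point y of Y (the subspace of points mapping to y) is
irreducible of dimension d. Then X is irreducible and dim X = d + dim Y. (The published statement is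
for varieties, i.e. reduced separated schemes; this row assumes neither.) -/
theorem result (k : Type u) [Field k] [IsAlgClosed k]
    {X Y : Scheme.{u}} (qX : X ⟶ Spec (CommRingCat.of k)) (qY : Y ⟶ Spec (CommRingCat.of k))
    [LocallyOfFiniteType qX] [QuasiCompact qX] [LocallyOfFiniteType qY] [QuasiCompact qY]
    (f : X ⟶ Y) (hf : f ≫ qY = qX) [IrreducibleSpace ↥Y] (hcl : IsClosedMap f.base) (d : ℕ)
    (hirr : ∀ y : ↥Y, IsClosed ({y} : Set ↥Y) → IsIrreducible (f.base ⁻¹' {y}))
    (hdim : ∀ y : ↥Y, IsClosed ({y} : Set ↥Y) → topologicalKrullDim ↥(f.base ⁻¹' {y}) = d) :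
    IrreducibleSpace ↥X ∧ topologicalKrullDim ↥X = d + topologicalKrullDim ↥Y := by
  have hlf : LocallyOfFiniteType f := by
    have : LocallyOfFiniteType (f ≫ qY) := by rw [hf]; infer_instance
    exact locallyOfFiniteType_of_comp f qY
  have : IsLocallyNoetherian Y := LocallyOfFiniteType.isLocallyNoetherian qY
  have hqc : QuasiCompact f := by
    have : QuasiCompact (f ≫ qY) := by rw [hf]; infer_instance
    exact QuasiCompact.of_comp f qY
  have : IsLocallyNoetherian X := LocallyOfFiniteType.isLocallyNoetherian qX
  have : CompactSpace X := QuasiCompact.compactSpace_of_compactSpace qX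
  have : AlgebraicGeometry.IsNoetherian X := {}
  have hfib : ∀ y : Y, IsClosed ({y} : Set Y) →
      ∃ ω, f ω = y ∧ (∀ z, f z = y → ω ⤳ z) ∧ GrothLib.AffDom.ptDim ω = d := fun y hy =>
    GrothLib.AffDom.exists_generic_of_fibre f hy (hirr y hy) (hdim y hy)
  exact GrothLib.AffDom.irreducibleSpace_and_dim_of_isClosedMap qY f hcl hfib

end Groth.Agent.S14369
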