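import Groth.Statements.S14370
import Groth.Agent.Lib.AffDom.IrredFibres

set_option autoImplicit false
universe u
open CategoryTheory CategoryTheory.Limits AlgebraicGeometry
open Variety

namespace Groth.Agent.S14370

/-- Let k be an algebraically closed field, X and Y schemes of finite type over k with Y irreducible,
and f : X → Y a k-morphism. Suppose that X is pure-dimensional (every irreducible component of X has
dimension dim X) and that for some natural number d the fibre of f over every closed point y of Y
(the subspace of points mapping to y) is irreducible of dimension d. Then X is irreducible and dim X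
= d + dim Y. (The published statement is for varieties, i.e. reduced separated schemes; this row
assumes neither.) -/
theorem result (k : Type u) [Field k] [IsAlgClosed k]
    {X Y : Scheme.{u}} (qX : X ⟶ Spec (CommRingCat.of k)) (qY : Y ⟶ Spec (CommRingCat.of k))
    [LocallyOfFiniteType qX] [QuasiCompact qX] [LocallyOfFiniteType qY] [QuasiCompact qY]
    (f : X ⟶ Y) (hf : f ≫ qY = qX) [IrreducibleSpace ↥Y]
    (hpure : ∀ Z ∈ irreducibleComponents (↥X), topologicalKrullDim ↥Z = topologicalKrullDim ↥X) (d : ℕ)
    (hirr : ∀ y : ↥Y, IsClosed ({y} : Set ↥Y) → IsIrreducible (f.base ⁻¹' {y}))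
    (hdim : ∀ y : ↥Y, IsClosed ({y} : Set ↥Y) → topologicalKrullDim ↥(f.base ⁻¹' {y}) = d) :
    IrreducibleSpace ↥X ∧ topologicalKrullDim ↥X = d + topologicalKrullDim ↥Y := by
  have hlf : LocallyOfFiniteType f := by
    have : LocallyOfFiniteType (f ≫ qY) := by rw [hf]; infer_instance
    exact locallyOfFiniteType_of_comp f qY
  have : IsLocallyNoetherian Y := LocallyOfFiniteType.isLocallyNoetherian qY
  have hqc : QuasiCompact f := by
    have : QuasiCompact (f ≫ qY) := by rw [hf]; infer_instance
    exact QuasiCompact.of_comp f qY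
  have : IsLocallyNoetherian X := LocallyOfFiniteType.isLocallyNoetherian qX
  have : CompactSpace X := QuasiCompact.compactSpace_of_compactSpace qX
  have : AlgebraicGeometry.IsNoetherian X := {}
  have hfib : ∀ y : Y, IsClosed ({y} : Set Y) →
      ∃ ω, f ω = y ∧ (∀ z, f z = y → ω ⤳ z) ∧ GrothLib.AffDom.ptDim ω = d := fun y hy =>
    GrothLib.AffDom.exists_generic_of_fibre f hy (hirr y hy) (hdim y hy)
  obtain ⟨η, hη, hfη, -⟩ := GrothLib.AffDom.existsUnique_dominant_component qY f hfib
  refine GrothLib.AffDom.irreducibleSpace_and_dim qY f hfib hη hfη fun x => ?_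
  obtain ⟨η', hη', hη'x⟩ := GrothLib.LocNoeth.exists_maximal_specializes x
  have h1 := (GrothLib.AffDom.component_data qY f hfib hη).1
  have h2 := (GrothLib.AffDom.component_data qY f hfib hη').1
  have e1 : GrothLib.AffDom.ptDim η = topologicalKrullDim ↥X := hpure _ hη
  have e2 : GrothLib.AffDom.ptDim η' = topologicalKrullDim ↥X := hpure _ hη'
  obtain ⟨a, ha⟩ := GrothLib.AffDom.exists_nat_ptDim qY (f η)
  obtain ⟨b, hb⟩ := GrothLib.AffDom.exists_nat_ptDim qY (f η')
  rw [e1, ha] at h1
  rw [e2, h1, hb] at h2
  have hab : a + d = b + d := by exact_mod_cast h2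
  have hfη' : f η' = genericPoint Y := by
    refine (GrothLib.AffDom.eq_of_specializes_of_ptDim_le qY (genericPoint_specializes (f η')) ?_).symm
    rw [← hfη, ha, hb, show a = b by omega]
  obtain ⟨η₀, -, -, huniq⟩ := GrothLib.AffDom.existsUnique_dominant_component qY f hfib
  rw [huniq η hη hfη, ← huniq η' hη' hfη']
  exact hη'x

end Groth.Agent.S14370
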