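import Groth.Statements.S14371
import Groth.Agent.Lib.RegLoc.Criteria
import Mathlib.RingTheory.Ideal.Quotient.Operations
-- import your own Groth.Agent.* helpers here

set_option autoImplicit false
universe u
open CAlg

namespace Groth.Agent.S14371

/-- Let R be a regular local ring of dimension n with maximal ideal m and residue field κ, and I, J
ideals of R such that R/I and R/J are regular local rings of dimensions a and b (two subvarieties
smooth at the point). Suppose the quotient R/(I + J) is local with cotangent space m/(m² + I + J) of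
dimension a + b − n over κ (the tangent spaces of the two subvarieties meet in the expected
dimension, i.e. they intersect transversally at the point). Then R/(I + J) is a regular local ring
of dimension a + b − n; in particular I + J is a prime ideal. (The published statement is about the
local rings of a smooth variety over an algebraically closed field at a point where two smooth
closed subvarieties meet transversally, and also states the resulting equalities of tangent spaces
and of ideals; this row is the local-ring form, for an arbitrary regular local ring.) -/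
theorem result {R : Type u} [CommRing R] [IsRegularLocalRing R]
    (I J : Ideal R) [IsRegularLocalRing (R ⧸ I)] [IsRegularLocalRing (R ⧸ J)] [IsLocalRing (R ⧸ (I ⊔ J))]
    (n a b : ℕ) (hn : ringKrullDim R = n) (ha : ringKrullDim (R ⧸ I) = a) (hb : ringKrullDim (R ⧸ J) = b)
    (ht : Module.finrank (IsLocalRing.ResidueField (R ⧸ (I ⊔ J))) (IsLocalRing.CotangentSpace (R ⧸ (I ⊔ J))) + n = a + b) :
    IsRegularLocalRing (R ⧸ (I ⊔ J)) ∧ ringKrullDim (R ⧸ (I ⊔ J)) = ((a + b - n : ℕ) : WithBot ℕ∞) := by
  rw [← IsLocalRing.spanFinrank_maximalIdeal_eq_finrank_cotangentSpace] at ht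
  rw [← IsRegularLocalRing.spanFinrank_maximalIdeal] at hn ha hb
  norm_cast at hn ha hb
  obtain ⟨x, c, hc, -, hJ, hcount⟩ := GrothLib.RegLoc.exists_generators_quotient _ R hn J
  rw [hb] at hcount
  have hJc : J.spanFinrank ≤ c := GrothLib.RegLoc.spanFinrank_le_of_span _ hJ.symm
  let e : ((R ⧸ I) ⧸ J.map (Ideal.Quotient.mk I)) ≃+* R ⧸ (I ⊔ J) :=
    DoubleQuot.quotQuotEquivQuotSup I J
  have hle : J.map (Ideal.Quotient.mk I) ≤ Ring.jacobson (R ⧸ I) := by
    rw [IsLocalRing.ringJacobson_eq_maximalIdeal]
    refine IsLocalRing.le_maximalIdeal fun htop => ?_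
    have : Subsingleton ((R ⧸ I) ⧸ J.map (Ideal.Quotient.mk I)) :=
      Ideal.Quotient.subsingleton_iff.2 htop
    exact not_subsingleton (R ⧸ (I ⊔ J)) e.symm.toEquiv.subsingleton
  have h1 := ringKrullDim_le_ringKrullDim_quotient_add_spanFinrank _ hle
  rw [ringKrullDim_eq_of_ringEquiv e, ← IsRegularLocalRing.spanFinrank_maximalIdeal, ha] at h1
  obtain ⟨z, hz⟩ := GrothLib.RegLoc.exists_generators_fin J
  have h2 : (J.map (Ideal.Quotient.mk I)).spanFinrank ≤ J.spanFinrank :=
    Ideal.spanFinrank_map_le_of_fg _ (IsNoetherian.noetherian J)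
  obtain ⟨m, hm, hm'⟩ := GrothLib.RegLoc.exists_dim_eq (R := R ⧸ (I ⊔ J))
  rw [hm] at h1
  norm_cast at h1
  refine ⟨IsRegularLocalRing.of_spanFinrank_maximalIdeal_le _ ?_, ?_⟩
  · rw [hm]; norm_cast; omega
  · rw [hm]; norm_cast; omega

end Groth.Agent.S14371
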