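import Groth.Statements.S14372
import Mathlib
import Groth.Agent.Lib.CubicForm.CommonZero

set_option autoImplicit false
universe u
open Fano

namespace Groth.Agent.S14372

/-- Over an algebraically closed field k of arbitrary characteristic, let f be a homogeneous form of
degree d ≥ 2 in n + 1 variables and U a linear subspace of k^(n+1) on which f vanishes, such that at
every nonzero vector of U some partial derivative of f does not vanish (the hypersurface f = 0 in
P^n contains the r-plane P(U), r + 1 = dim U, and is smooth at every point of it). Then 2 · dim U ≤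
n + 1, i.e. r ≤ (n − 1)/2. (The published statement assumes the hypersurface smooth everywhere; this
row assumes smoothness only along P(U).) -/
theorem result (k : Type u) [Field k] [IsAlgClosed k]
    (n d : ℕ) (hd : 2 ≤ d) (f : MvPolynomial (Fin (n + 1)) k) (hf : f.IsHomogeneous d)
    (U : Submodule k (Fin (n + 1) → k)) (hU : ∀ u ∈ U, MvPolynomial.eval u f = 0)
    (hsm : ∀ u ∈ U, u ≠ 0 → ∃ i : Fin (n + 1), MvPolynomial.eval u (MvPolynomial.pderiv i f) ≠ 0) :
    2 * Module.finrank k ↥U ≤ n + 1 := by
  classical
  set r := Module.finrank k ↥U with hr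
  by_contra hlt
  push Not at hlt
  -- the gradient annihilates `U`
  have hdir : ∀ u ∈ U, ∀ w ∈ U, ∑ i, w i * MvPolynomial.eval u (MvPolynomial.pderiv i f) = 0 := by
    intro u hu w hw
    let line : Fin (n + 1) → Polynomial k := fun i => Polynomial.C (u i) + Polynomial.X * Polynomial.C (w i)
    have hev : ∀ (t : k) (q : MvPolynomial (Fin (n + 1)) k),
        (MvPolynomial.aeval line q).eval t = MvPolynomial.eval (u + t • w) q := by
      intro t q
      induction q using MvPolynomial.induction_on with
      | C a => simp
      | add p q hp hq => rw [map_add, Polynomial.eval_add, hp, hq, map_add]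
      | mul_X p i hp =>
        rw [map_mul, Polynomial.eval_mul, hp, map_mul]
        simp [line, mul_comm t]
    have hkey : ∀ q : MvPolynomial (Fin (n + 1)) k,
        (Polynomial.derivative (MvPolynomial.aeval line q)).eval 0 =
          ∑ i, w i * MvPolynomial.eval u (MvPolynomial.pderiv i q) := by
      intro q
      have he := hev 0
      simp only [zero_smul, add_zero] at he
      induction q using MvPolynomial.induction_on with
      | C a => simp
      | add p q hp hq => simp [hp, hq, mul_add, Finset.sum_add_distrib]
      | mul_X p i hp =>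
        rw [map_mul, MvPolynomial.aeval_X, Polynomial.derivative_mul, Polynomial.eval_add,
          Polynomial.eval_mul, Polynomial.eval_mul, hp, he, Finset.sum_mul]
        have h1 : (line i).eval 0 = u i := by simp [line]
        have h2 : (Polynomial.derivative (line i)).eval 0 = w i := by simp [line]
        rw [h1, h2]
        have h3 : ∀ j, w j * MvPolynomial.eval u (MvPolynomial.pderiv j (p * MvPolynomial.X i)) =
            w j * MvPolynomial.eval u (MvPolynomial.pderiv j p) * u i +
              (if j = i then MvPolynomial.eval u p * w i else 0) := by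
          intro j
          rcases eq_or_ne j i with rfl | hji
          · simp [MvPolynomial.pderiv_mul]; ring
          · simp [MvPolynomial.pderiv_mul, MvPolynomial.pderiv_X_of_ne (Ne.symm hji), hji]; ring
        simp only [h3, Finset.sum_add_distrib, Finset.sum_ite_eq', Finset.mem_univ, if_true]
    have h0 : MvPolynomial.aeval line f = 0 := by
      apply Polynomial.funext
      intro t
      rw [Polynomial.eval_zero, hev t f, hU (u + t • w) (U.add_mem hu (U.smul_mem t hw))]
    have := hkey f
    simpa [h0] using this.symm
  obtain ⟨W, hW⟩ := Submodule.exists_isCompl U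
  have hWdim : Module.finrank k W + r = n + 1 := by
    rw [add_comm, hr, Submodule.finrank_add_eq_of_isCompl hW, Module.finrank_fin_fun]
  let b := Module.finBasis k U
  let c := Module.finBasis k W
  let sub : Fin (n + 1) → MvPolynomial (Fin r) k := fun i =>
    ∑ j : Fin r, MvPolynomial.C ((b j : Fin (n + 1) → k) i) * MvPolynomial.X j
  let g : Fin (Module.finrank k W) → MvPolynomial (Fin r) k := fun l =>
    ∑ i, MvPolynomial.C ((c l : Fin (n + 1) → k) i) * MvPolynomial.aeval sub (MvPolynomial.pderiv i f)
  have hg : ∀ l, (g l).IsHomogeneous (d - 1) := by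
    intro l
    refine MvPolynomial.IsHomogeneous.sum _ _ _ fun i _ => ?_
    refine MvPolynomial.IsHomogeneous.C_mul ?_ _
    have hpd : (MvPolynomial.pderiv i f).IsHomogeneous (d - 1) := hf.pderiv
    have hsub : ∀ i, (sub i).IsHomogeneous 1 := fun i =>
      MvPolynomial.IsHomogeneous.sum _ _ _ fun j _ => (MvPolynomial.isHomogeneous_X k j).C_mul _
    simpa using hpd.aeval sub hsub
  obtain ⟨y, hy0, hy⟩ := GrothLib.CubicForm.exists_common_zero (n := r) (by omega : Module.finrank k W < r)
    g (fun _ => d - 1) (fun _ => by omega) hg
  set u : U := b.equivFun.symm y with hu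
  have hu0 : (u : Fin (n + 1) → k) ≠ 0 := fun h => hy0 (by
    have hz : u = 0 := Subtype.ext h
    rwa [hu, LinearEquiv.map_eq_zero_iff] at hz)
  have hsubu : ∀ i, MvPolynomial.eval y (sub i) = (u : Fin (n + 1) → k) i := fun i => by
    simp [sub, hu, Module.Basis.equivFun_symm_apply, Finset.sum_apply, mul_comm]
    rfl
  have hevals : ∀ q : MvPolynomial (Fin (n + 1)) k,
      MvPolynomial.eval y (MvPolynomial.aeval sub q) = MvPolynomial.eval (u : Fin (n + 1) → k) q := by
    intro q
    induction q using MvPolynomial.induction_on with
    | C a => simp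
    | add p q hp hq => rw [map_add, map_add, hp, hq, map_add]
    | mul_X p i hp =>
      rw [map_mul, map_mul, hp, MvPolynomial.aeval_X, hsubu, map_mul, MvPolynomial.eval_X]
  let L : (Fin (n + 1) → k) →ₗ[k] k :=
    ∑ i, MvPolynomial.eval (u : Fin (n + 1) → k) (MvPolynomial.pderiv i f) • LinearMap.proj i
  have hLU : U ≤ LinearMap.ker L := fun w hw => by
    have := hdir u u.2 w hw
    simpa [L, LinearMap.mem_ker, mul_comm] using this
  have hLW : W ≤ LinearMap.ker L := by
    intro w hw
    have hc : ∀ l, L (c l) = 0 := fun l => by
      have := hy l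
      simp only [g, map_sum, map_mul, MvPolynomial.eval_C, hevals] at this
      simpa [L, mul_comm] using this
    have h0 : L ∘ₗ W.subtype = 0 := c.ext fun l => hc l
    exact congr($h0 ⟨w, hw⟩)
  obtain ⟨i, hi⟩ := hsm u u.2 hu0
  have hker : LinearMap.ker L = ⊤ := top_le_iff.mp (hW.sup_eq_top ▸ sup_le hLU hLW)
  have := LinearMap.congr_fun (LinearMap.ker_eq_top.mp hker) (Pi.single i 1)
  exact hi (by simpa [L, Pi.single_apply] using this)

end Groth.Agent.S14372
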