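import Groth.Statements.S14373
import Groth.Agent.Lib.FanoSmooth.Generic

set_option autoImplicit false
set_option linter.all false
universe u
open Fano

namespace Groth.Agent.S14373

/-- Over an algebraically closed field k of arbitrary characteristic, let d ≥ 2 and let U be a linear
subspace of k^(n+1) with 2 · dim U ≤ n + 1 (an r-plane P(U) in P^n with r ≤ (n − 1)/2). Let W be the
linear space of degree-d forms in n + 1 variables vanishing on U (hypersurfaces of degree d
containing P(U)). Then a general member G of W defines a smooth hypersurface: for G outside the zero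
set of some nonzero polynomial function on W, at every nonzero vector where G vanishes some partial
derivative of G is nonzero. -/
theorem result (k : Type u) [Field k] [IsAlgClosed k]
    (n d : ℕ) (hd : 2 ≤ d) (U : Submodule k (Fin (n + 1) → k)) (hU : 2 * Module.finrank k ↥U ≤ n + 1)
    (W : Submodule k (LefPen.Form n k d)) (hW : ∀ G : LefPen.Form n k d, G ∈ W ↔ ∀ u ∈ U, MvPolynomial.eval u G.1 = 0) :
    LefPen.IsGeneric k {G : ↥W | ∀ v : Fin (n + 1) → k, v ≠ 0 → MvPolynomial.eval v G.1.1 = 0 →
      ∃ i : Fin (n + 1), MvPolynomial.eval v (MvPolynomial.pderiv i G.1.1) ≠ 0} := by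
  classical
  obtain ⟨T, hT⟩ := GrothLib.FanoSmooth.exists_adapted_basis U
  obtain ⟨P, hP, hPsm⟩ := GrothLib.FanoSmooth.exists_poly (k := k) (n := n) hd (Module.finrank k U) hU
  have hback : ∀ (G : MvPolynomial (Fin (n + 1)) k) (v : Fin (n + 1) → k),
      MvPolynomial.eval v G = MvPolynomial.eval (T.symm v)
        (MvPolynomial.aeval (GrothLib.FanoSmooth.linSub T.toLinearMap) G) := fun G v => by
    rw [GrothLib.FanoSmooth.eval_linSub]; simp
  have hhom : ∀ (T' : (Fin (n + 1) → k) →ₗ[k] (Fin (n + 1) → k)) (G : MvPolynomial (Fin (n + 1)) k),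
      G.IsHomogeneous d → (MvPolynomial.aeval (GrothLib.FanoSmooth.linSub T') G).IsHomogeneous d := fun T' G hG => by
    simpa using MvPolynomial.IsHomogeneous.aeval hG _ (GrothLib.FanoSmooth.linSub_homogeneous T')
  have hmem : ∀ G : ↥W, MvPolynomial.aeval (GrothLib.FanoSmooth.linSub T.toLinearMap) G.1.1 ∈
      Ideal.span (MvPolynomial.X '' {i : Fin (n + 1) | Module.finrank k U ≤ (i : ℕ)}) := fun G => by
    rw [GrothLib.FanoSmooth.mem_span_iff]
    intro w hw
    rw [GrothLib.FanoSmooth.eval_linSub]
    exact (hW G.1).1 G.2 _ ((hT w).2 hw)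
  have hcoef : ∀ G : ↥W, GrothLib.FanoSmooth.form (Module.finrank k U)
      (fun c : GrothLib.FanoSmooth.Kap n d (Module.finrank k U) =>
        (MvPolynomial.aeval (GrothLib.FanoSmooth.linSub T.toLinearMap) G.1.1).coeff c.1.1) =
      MvPolynomial.aeval (GrothLib.FanoSmooth.linSub T.toLinearMap) G.1.1 := fun G =>
    (GrothLib.FanoSmooth.eq_form (hhom _ _ G.1.2) (hmem G)).symm
  let e : ↥W ≃ₗ[k] (GrothLib.FanoSmooth.Kap n d (Module.finrank k U) → k) :=
    { toFun := fun G c => (MvPolynomial.aeval (GrothLib.FanoSmooth.linSub T.toLinearMap) G.1.1).coeff c.1.1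
      map_add' := fun G H => by funext c; simp
      map_smul' := fun r G => by funext c; simp
      invFun := fun a => ⟨⟨MvPolynomial.aeval (GrothLib.FanoSmooth.linSub T.symm.toLinearMap)
          (GrothLib.FanoSmooth.form (Module.finrank k U) a), hhom _ _ (GrothLib.FanoSmooth.form_homogeneous _ a)⟩,
        (hW _).2 fun u hu => by
          rw [GrothLib.FanoSmooth.eval_linSub]
          refine (GrothLib.FanoSmooth.mem_span_iff _ _).1 (GrothLib.FanoSmooth.form_mem _ a) _ ((hT _).1 ?_)
          simpa using hu⟩
      left_inv := fun G => by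
        refine Subtype.ext (Subtype.ext ?_)
        simp only
        rw [hcoef]
        refine MvPolynomial.funext fun v => ?_
        rw [GrothLib.FanoSmooth.eval_linSub, GrothLib.FanoSmooth.eval_linSub]; simp
      right_inv := fun a => by
        funext c
        have h : MvPolynomial.aeval (GrothLib.FanoSmooth.linSub T.toLinearMap)
            (MvPolynomial.aeval (GrothLib.FanoSmooth.linSub T.symm.toLinearMap)
              (GrothLib.FanoSmooth.form (Module.finrank k U) a)) = GrothLib.FanoSmooth.form (Module.finrank k U) a :=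
          MvPolynomial.funext fun v => by rw [GrothLib.FanoSmooth.eval_linSub, GrothLib.FanoSmooth.eval_linSub]; simp
        simp only [h]
        exact GrothLib.FanoSmooth.coeff_form _ a c }
  refine GrothLib.FanoGen.isGeneric_of_poly e P hP _ fun G hG v hv hGv => ?_
  obtain ⟨i, hi⟩ := hPsm (e G) hG (T.symm v) (by simpa using hv) (by
    show MvPolynomial.eval (T.symm v) (GrothLib.FanoSmooth.form (Module.finrank k U) (e G)) = 0
    rw [show GrothLib.FanoSmooth.form (Module.finrank k U) (e G) = _ from hcoef G, ← hback]
    exact hGv)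
  by_contra! hbad
  apply hi
  rw [show GrothLib.FanoSmooth.form (Module.finrank k U) (e G) = _ from hcoef G,
    GrothLib.FanoLine.pderiv_aeval, map_sum]
  refine Finset.sum_eq_zero fun l _ => ?_
  rw [map_mul, ← hback, hbad, zero_mul]

end Groth.Agent.S14373
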