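import Groth.Statements.S14374
import Groth.Agent.Lib.Discr12.Main

set_option autoImplicit false
set_option linter.all false
set_option maxHeartbeats 1000000
universe u
open Fano

namespace Groth.Agent.S14374

/-- Over an algebraically closed field k of arbitrary characteristic, let n ≥ 1 and d ≥ 2, and call a
degree-d form G in n + 1 variables singular when there is a nonzero vector v with G(v) = 0 and all
partial derivatives ∂G/∂x_i(v) = 0 (the hypersurface G = 0 in P^n has a singular point, or G = 0).
Then the singular forms are exactly the zero set of one irreducible polynomial function Δ on the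
vector space of degree-d forms: the locus of singular hypersurfaces is an irreducible hypersurface
in the parameter space. (The published statement concerns the reduced hypersurfaces in the
projective space of degree-d forms, where the singular ones form an irreducible closed subset of
codimension one, and allows every positive degree; for d = 1 no hyperplane is singular, so this row
assumes d ≥ 2, and it is stated on the affine space of all forms.) -/
theorem result (k : Type u) [Field k] [IsAlgClosed k]
    (n d : ℕ) (hn : 1 ≤ n) (hd : 2 ≤ d) :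
    ∃ Δ : ↥(Algebra.adjoin k (Set.range (fun l : Module.Dual k (LefPen.Form n k d) => (l : LefPen.Form n k d → k)))),
      Irreducible Δ ∧ ∀ G : LefPen.Form n k d,
        (∃ v : Fin (n + 1) → k, v ≠ 0 ∧ MvPolynomial.eval v G.1 = 0 ∧
          ∀ i : Fin (n + 1), MvPolynomial.eval v (MvPolynomial.pderiv i G.1) = 0) ↔ Δ.1 G = 0 := by
  classical
  haveI : Infinite k := IsAlgClosed.instInfinite
  let e := GrothLib.FanoGen.coeffs (k := k) (n := n) (d := d)
  let S := Algebra.adjoin k (Set.range (fun l : Module.Dual k (LefPen.Form n k d) => (l : LefPen.Form n k d → k)))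
  let ev₀ : MvPolynomial (GrothLib.FanoGen.Expo n d) k →ₐ[k] (LefPen.Form n k d → k) :=
    MvPolynomial.aeval fun c => fun G => e G c
  have hev : ∀ P G, ev₀ P G = MvPolynomial.eval (GrothLib.Discr12.cv n d G.1) P := fun P G => by
    have h : (Pi.evalAlgHom k (fun _ : LefPen.Form n k d => k) G).comp ev₀ =
        MvPolynomial.aeval (GrothLib.Discr12.cv n d G.1) := MvPolynomial.algHom_ext fun c => by
      simp [ev₀, e, GrothLib.Discr12.cv_eq]
    exact congr($h P)
  let ev : MvPolynomial (GrothLib.FanoGen.Expo n d) k →ₐ[k] S :=
    ev₀.codRestrict S fun P => GrothLib.FanoGen.isGeneric_of_poly.adjoin_aux e P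
  have hinj : Function.Injective ev := fun P Q h => MvPolynomial.funext fun c => by
    have h1 : ev₀ P (e.symm c) = ev₀ Q (e.symm c) := congrFun (congrArg Subtype.val h) (e.symm c)
    rwa [hev, hev, GrothLib.Discr12.cv_eq, LinearEquiv.apply_symm_apply] at h1
  have hsurj : Function.Surjective ev := by
    rintro ⟨F, hF⟩
    have hle : S ≤ ev₀.range := by
      refine Algebra.adjoin_le ?_
      rintro _ ⟨l, rfl⟩
      refine ⟨∑ c, l (e.symm (Pi.single c 1)) • MvPolynomial.X c, ?_⟩
      funext G
      simp only [ev₀, map_sum, map_smul, MvPolynomial.aeval_X, Finset.sum_apply, Pi.smul_apply]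
      show _ = l G
      conv_rhs => rw [← e.symm_apply_apply G, pi_eq_sum_univ' (e G)]
      simp only [map_sum, map_smul, smul_eq_mul]
      refine Finset.sum_congr rfl fun c _ => ?_
      show (MvPolynomial.aeval fun c => fun G => e G c) _ G = _
      rw [map_smul, MvPolynomial.aeval_X, Pi.smul_apply, smul_eq_mul, mul_comm]
    obtain ⟨P, hP⟩ := hle hF
    exact ⟨P, Subtype.ext hP⟩
  obtain ⟨f, hf, hI⟩ := GrothLib.Discr12.exists_generator (k := k) (n := n) hd
  let evE := AlgEquiv.ofBijective ev ⟨hinj, hsurj⟩
  refine ⟨ev f, (MulEquiv.irreducible_iff evE.toMulEquiv).mpr hf, fun G => ?_⟩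
  rw [show (ev f).1 G = MvPolynomial.eval (GrothLib.Discr12.cv n d G.1) f from hev f G]
  constructor
  · rintro ⟨v, hv, h0, h1⟩
    exact (GrothLib.Discr12.zero_discI_iff hd G).1 ⟨v, hv, h0, h1⟩ f (by rw [hI]; exact Ideal.mem_span_singleton_self f)
  · intro h
    obtain ⟨v, hv, h0, h1⟩ := (GrothLib.Discr12.zero_discI_iff hd G).2 fun P hP => by
      rw [hI] at hP
      obtain ⟨Q, rfl⟩ := Ideal.mem_span_singleton'.1 hP
      rw [map_mul, h, mul_zero]
    exact ⟨v, hv, h0, h1⟩

end Groth.Agent.S14374
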