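import Groth.Statements.S14375
import Groth.Agent.Lib.BaseChange.Irred

set_option autoImplicit false
universe u
open CategoryTheory CategoryTheory.Limits AlgebraicGeometry
open Variety

namespace Groth.Agent.S14375

/-- Let k be an algebraically closed field, F an irreducible scheme of finite type over k, and f : X → Y
a k-morphism of schemes of finite type over k with Y irreducible which is locally trivial with fibre
F: every point of Y has an open neighbourhood V such that f⁻¹(V) is isomorphic over V to V ×_k F.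
Then X is irreducible. (The published statement is for varieties, i.e. reduced separated schemes;
this row assumes neither.) -/
theorem result (k : Type u) [Field k] [IsAlgClosed k]
    {X Y F : Scheme.{u}} (qX : X ⟶ Spec (CommRingCat.of k)) (qY : Y ⟶ Spec (CommRingCat.of k))
    (qF : F ⟶ Spec (CommRingCat.of k))
    [LocallyOfFiniteType qX] [QuasiCompact qX] [LocallyOfFiniteType qY] [QuasiCompact qY]
    [LocallyOfFiniteType qF] [QuasiCompact qF] [IrreducibleSpace ↥F] [IrreducibleSpace ↥Y]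
    (f : X ⟶ Y) (hf : f ≫ qY = qX)
    (htriv : ∀ y : ↥Y, ∃ V : Y.Opens, y ∈ V ∧
      ∃ e : (↑(f ⁻¹ᵁ V) : Scheme.{u}) ≅ pullback (V.ι ≫ qY) qF, e.hom ≫ pullback.fst (V.ι ≫ qY) qF = f ∣_ V) :
    IrreducibleSpace ↥X := by
  letI : F.Over (Spec (CommRingCat.of k)) := ⟨qF⟩
  haveI : GeometricallyIrreducible qF := by
    show GeometricallyIrreducible (F ↘ Spec (CommRingCat.of k))
    rw [GrothLib.BaseChange.geometricallyIrreducible_iff_forall]
    intro K _ _
    rw [irreducibleSpace_def]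
    exact GrothLib.BaseChange.isIrreducible_preimage_of_isSepClosed k F K (IrreducibleSpace.isIrreducible_univ _)
  haveI : UniversallyOpen qF := inferInstance
  choose V hyV e he using htriv
  have hirr : ∀ y, IsIrreducible ((f ⁻¹ᵁ V y : X.Opens) : Set X) := by
    intro y
    haveI : Nonempty (V y) := ⟨⟨y, hyV y⟩⟩
    haveI : IrreducibleSpace (V y : Scheme.{u}) := (V y).ι.isOpenEmbedding.irreducibleSpace
    haveI : IrreducibleSpace ↥(pullback ((V y).ι ≫ qY) qF) := inferInstance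
    haveI : IrreducibleSpace (f ⁻¹ᵁ V y : Scheme.{u}) :=
      (e y).inv.homeomorph.surjective.irreducibleSpace (e y).inv.continuous
    have h := (IrreducibleSpace.isIrreducible_univ (f ⁻¹ᵁ V y : Scheme.{u})).image _ (f ⁻¹ᵁ V y).ι.continuous.continuousOn
    rwa [Set.image_univ, Scheme.Opens.range_ι] at h
  have hsurj : ∀ y : Y, ∃ x : X, f x = y := by
    intro y
    haveI : Surjective (f ∣_ V y) := by rw [← he y]; infer_instance
    obtain ⟨x, hx⟩ := (f ∣_ V y).surjective ⟨y, hyV y⟩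
    exact ⟨(f ⁻¹ᵁ V y).ι x, by rw [← Scheme.Hom.comp_apply, ← morphismRestrict_ι, Scheme.Hom.comp_apply, hx]; rfl⟩
  obtain ⟨y₀⟩ : Nonempty Y := inferInstance
  haveI : Nonempty X := ⟨(hsurj y₀).choose⟩
  haveI : PreirreducibleSpace X := ⟨fun A B hA hB ⟨a, _, ha⟩ ⟨b, _, hb⟩ => by
    obtain ⟨y, hy1, hy2⟩ := nonempty_preirreducible_inter (V (f a)).isOpen (V (f b)).isOpen ⟨f a, hyV _⟩ ⟨f b, hyV _⟩
    obtain ⟨z, rfl⟩ := hsurj y
    obtain ⟨w, hwA, hwA', hwB⟩ := (hirr (f a)).2 A (f ⁻¹ᵁ V (f b) : X.Opens) hA (f ⁻¹ᵁ V (f b)).isOpen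
      ⟨a, hyV (f a), ha⟩ ⟨z, hy1, hy2⟩
    obtain ⟨v, -, hvA, hvB⟩ := (hirr (f b)).2 A B hA hB ⟨w, hwB, hwA'⟩ ⟨b, hyV (f b), hb⟩
    exact ⟨v, trivial, hvA, hvB⟩⟩
  exact ⟨inferInstance⟩

end Groth.Agent.S14375
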