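import Groth.Statements.S14376
import Groth.Agent.Lib.SqfreeForm.Basic

set_option autoImplicit false
set_option linter.all false
universe u
open Fano

namespace Groth.Agent.S14376

/-- Over an algebraically closed field k, let n ≥ 1 and d ≥ 1. In the vector space of degree-d forms in
n + 1 variables, the forms F that are squarefree (equivalently, nonzero with (F) a radical ideal:
the reduced hypersurfaces of degree d in P^n) form a Zariski-open subset, and this subset is
nonempty. (The published statement allows projective space of every dimension n; for n = 0 and d ≥ 2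
there is no squarefree form of degree d, so this row assumes n ≥ 1.) -/
theorem result (k : Type u) [Field k] [IsAlgClosed k]
    (n d : ℕ) (hn : 1 ≤ n) (hd : 1 ≤ d) :
    LefPen.IsZOpen k {F : LefPen.Form n k d | Squarefree F.1} ∧
      ({F : LefPen.Form n k d | Squarefree F.1}).Nonempty := by
  classical
  haveI : Infinite k := IsAlgClosed.instInfinite
  have hlin : ∀ p : MvPolynomial (Fin (n + 1)) k, p.IsHomogeneous 1 → p ≠ 0 → Irreducible p := by
    intro p hp hp0
    refine MvPolynomial.irreducible_of_totalDegree_eq_one (hp.totalDegree hp0) fun x hx => ?_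
    obtain ⟨e, he⟩ := MvPolynomial.ne_zero_iff.1 hp0
    exact isUnit_iff_ne_zero.2 fun h0 => he (by have := hx e; rw [h0] at this; exact zero_dvd_iff.1 this)
  refine ⟨fun v hv => ?_, ?_⟩
  · rcases Nat.lt_or_ge d 2 with hd2 | hd2
    · obtain rfl : d = 1 := by omega
      have hv0 : (v : MvPolynomial (Fin (n + 1)) k) ≠ 0 := Squarefree.ne_zero hv
      obtain ⟨e, he⟩ := MvPolynomial.ne_zero_iff.1 hv0
      let l : Module.Dual k (LefPen.Form n k 1) :=
        (MvPolynomial.lcoeff k e).comp (CohB1.polyGrading n k 1).subtype
      refine ⟨l, Algebra.subset_adjoin ⟨l, rfl⟩, he, fun w hw => ?_⟩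
      have hw0 : (w : MvPolynomial (Fin (n + 1)) k) ≠ 0 := fun h => hw (by simp [l, h])
      exact (hlin _ ((MvPolynomial.mem_homogeneousSubmodule 1 _).1 w.2) hw0).squarefree
    · have hiff := fun F : LefPen.Form n k d =>
        GrothLib.SqfreeForm.squarefree_iff_exists_injective hd2 ((MvPolynomial.mem_homogeneousSubmodule d _).1 F.2)
      obtain ⟨c, hc⟩ := (hiff v).1 hv
      let Φ : LefPen.Form n k d →ₗ[k]
          (MvPolynomial.restrictTotalDegree (Fin (n + 1)) k (d - 2) ×
            MvPolynomial.restrictTotalDegree (Fin (n + 1)) k (d - 1)) →ₗ[k] MvPolynomial (Fin (n + 1)) k :=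
        { toFun := fun F => GrothLib.SqfreeForm.bez (Fin (n + 1)) k d c F.1
          map_add' := fun F G => LinearMap.ext fun p => by
            simp only [LinearMap.add_apply, GrothLib.SqfreeForm.bez_apply, Submodule.coe_add, map_add]
            ring
          map_smul' := fun r F => LinearMap.ext fun p => by
            simp only [LinearMap.smul_apply, GrothLib.SqfreeForm.bez_apply, Submodule.coe_smul, map_smul,
              RingHom.id_apply, smul_add, mul_smul_comm] }
      obtain ⟨f, hf, hfv, hfw⟩ := GrothLib.SqfreeForm.exists_det_function Φ v hc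
      exact ⟨f, hf, hfv, fun w hw => (hiff w).2 ⟨c, hfw w hw⟩⟩
  · obtain ⟨s, hs⟩ := Infinite.exists_superset_card_eq (∅ : Finset k) d (by simp)
    have h01 : (⟨0, by omega⟩ : Fin (n + 1)) ≠ ⟨1, by omega⟩ := by simp [Fin.ext_iff]
    set i₀ : Fin (n + 1) := ⟨0, by omega⟩
    set i₁ : Fin (n + 1) := ⟨1, by omega⟩
    let ell : k → MvPolynomial (Fin (n + 1)) k := fun a => MvPolynomial.X i₀ + MvPolynomial.C a * MvPolynomial.X i₁
    have hell : ∀ a, (ell a).IsHomogeneous 1 := fun a =>
      (MvPolynomial.isHomogeneous_X k i₀).add ((MvPolynomial.isHomogeneous_X k i₁).C_mul a)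
    have hne : ∀ a, ell a ≠ 0 := fun a h => by
      have := congrArg (MvPolynomial.eval (Pi.single i₀ (1 : k))) h
      simp [ell, h01.symm] at this
    have hir := fun a => hlin _ (hell a) (hne a)
    refine ⟨⟨∏ a ∈ s, ell a, (MvPolynomial.mem_homogeneousSubmodule d _).2 ?_⟩, ?_⟩
    · have h := MvPolynomial.IsHomogeneous.prod s ell (fun _ => 1) fun a _ => hell a
      simpa [hs.2] using h
    · show Squarefree (∏ a ∈ s, ell a)
      refine Finset.squarefree_prod_of_pairwise_isCoprime (fun a _ b _ hab => ?_) fun a _ => (hir a).squarefree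
      refine (hir a).isRelPrime_iff_not_dvd.2 fun ⟨q, hq⟩ => hab ?_
      have := congrArg (MvPolynomial.eval (Pi.single i₁ (1 : k) + Pi.single i₀ (-a))) hq
      simp [ell, h01, h01.symm] at this
      linear_combination -this

end Groth.Agent.S14376
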