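import Groth.Statements.S14378
import Groth.Agent.Lib.AffDom.IrredFibres

set_option autoImplicit false
universe u
open CategoryTheory CategoryTheory.Limits AlgebraicGeometry
open Variety

namespace Groth.Agent.S14378

/-- Let k be an algebraically closed field, X and Y schemes of finite type over k with Y irreducible,
and f : X → Y a k-morphism such that for some natural number d the fibre of f over every closed
point of Y (the subspace of points mapping to it) is irreducible of dimension d. Then (i) exactly
one irreducible component of X has dense image in Y, and (ii) each irreducible component Z of X is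
made up of whole fibres — if Z meets the fibre over a closed point then it contains it — and dim Z =
d + dim f(Z)‾, the dimension of the closure of its image. (The published assertions are for
varieties, i.e. reduced separated schemes; this row assumes neither.) -/
theorem result (k : Type u) [Field k] [IsAlgClosed k]
    {X Y : Scheme.{u}} (qX : X ⟶ Spec (CommRingCat.of k)) (qY : Y ⟶ Spec (CommRingCat.of k))
    [LocallyOfFiniteType qX] [QuasiCompact qX] [LocallyOfFiniteType qY] [QuasiCompact qY]
    (f : X ⟶ Y) (hf : f ≫ qY = qX) [IrreducibleSpace ↥Y] (d : ℕ)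
    (hirr : ∀ y : ↥Y, IsClosed ({y} : Set ↥Y) → IsIrreducible (f.base ⁻¹' {y}))
    (hdim : ∀ y : ↥Y, IsClosed ({y} : Set ↥Y) → topologicalKrullDim ↥(f.base ⁻¹' {y}) = d) :
    (∃! Z : Set ↥X, Z ∈ irreducibleComponents ↥X ∧ Dense (f.base '' Z)) ∧
      ∀ Z ∈ irreducibleComponents ↥X,
        (∀ y : ↥Y, IsClosed ({y} : Set ↥Y) → (f.base ⁻¹' {y} ∩ Z).Nonempty → f.base ⁻¹' {y} ⊆ Z) ∧
        topologicalKrullDim ↥Z = d + topologicalKrullDim ↥(closure (f.base '' Z)) := by
  have hlf : LocallyOfFiniteType f := by
    have : LocallyOfFiniteType (f ≫ qY) := by rw [hf]; infer_instance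
    exact locallyOfFiniteType_of_comp f qY
  have : IsLocallyNoetherian Y := LocallyOfFiniteType.isLocallyNoetherian qY
  have hqc : QuasiCompact f := by
    have : QuasiCompact (f ≫ qY) := by rw [hf]; infer_instance
    exact QuasiCompact.of_comp f qY
  have : IsLocallyNoetherian X := LocallyOfFiniteType.isLocallyNoetherian qX
  have : CompactSpace X := QuasiCompact.compactSpace_of_compactSpace qX
  have : AlgebraicGeometry.IsNoetherian X := {}
  have hfib : ∀ y : Y, IsClosed ({y} : Set Y) →
      ∃ ω, f ω = y ∧ (∀ z, f z = y → ω ⤳ z) ∧ GrothLib.AffDom.ptDim ω = d := fun y hy =>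
    GrothLib.AffDom.exists_generic_of_fibre f hy (hirr y hy) (hdim y hy)
  have hgen : ∀ Z ∈ irreducibleComponents ↥X, ∃ η : X, closure {η} = Z ∧ closure {η} ∈ irreducibleComponents ↥X := by
    intro Z hZ
    have h := hZ.1.isGenericPoint_genericPoint (isClosed_of_mem_irreducibleComponents Z hZ)
    exact ⟨hZ.1.genericPoint, h.def, by rw [h.def]; exact hZ⟩
  have hdense : ∀ η : X, Dense (f.base '' closure {η}) ↔ f η = genericPoint Y := by
    intro η
    rw [dense_iff_closure_eq, GrothLib.AffDom.closure_image_closure_singleton]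
    exact ⟨fun h => (IsGenericPoint.eq (show IsGenericPoint (f η) Set.univ from h) (genericPoint_spec Y)),
      fun h => h ▸ genericPoint_closure _⟩
  obtain ⟨η₀, hη₀, hfη₀, huniq⟩ := GrothLib.AffDom.existsUnique_dominant_component qY f hfib
  refine ⟨⟨closure {η₀}, ⟨hη₀, (hdense η₀).2 hfη₀⟩, ?_⟩, fun Z hZ => ?_⟩
  · rintro Z ⟨hZ, hZd⟩
    obtain ⟨η, rfl, hη⟩ := hgen Z hZ
    rw [huniq η hη ((hdense η).1 hZd)]
  · obtain ⟨η, rfl, hη⟩ := hgen Z hZ
    obtain ⟨h1, h2⟩ := GrothLib.AffDom.component_data qY f hfib hη
    refine ⟨fun y hy hne z' hz' => ?_, ?_⟩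
    · obtain ⟨z, hzy, hz⟩ := hne
      exact (h2 y hy z (specializes_iff_mem_closure.2 hz) hzy z' hz').mem_closure
    · rw [GrothLib.AffDom.closure_image_closure_singleton, add_comm]
      exact h1

end Groth.Agent.S14378
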