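import Groth.Statements.S14379
import Groth.Agent.Lib.FiniteProj.Basic
-- import your own Groth.Agent.* helpers here

set_option autoImplicit false
open scoped TensorProduct
universe u
open CAlg

namespace Groth.Agent.S14379

/-- Let V be a discrete valuation ring with residue field k and fraction field K, let R be a flat
V-algebra of finite type such that both fibre rings k ⊗_V R and K ⊗_V R have Krull dimension at most
d, let x_1, …, x_d be elements of R and let N ≥ 1 be an integer. Then there are elements y_1, …, y_d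
of the subring of R generated by the N-th powers of elements of R such that, setting f_i = x_i +
y_i, the fibre ring k ⊗_V R is finite over the polynomial ring k[T_1, …, T_d] via T_i ↦ 1 ⊗ f_i and
K ⊗_V R is finite over K[T_1, …, T_d] via T_i ↦ 1 ⊗ f_i; in other words the morphism (f_1, …, f_d)
to affine d-space over V is finite on both fibres. -/
theorem result (V : Type u) [CommRing V] [IsDomain V]
    [IsDiscreteValuationRing V] (R : Type u) [CommRing R] [Algebra V R] [Module.Flat V R]
    [Algebra.FiniteType V R] (d : ℕ)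
    (hs : ringKrullDim (IsLocalRing.ResidueField V ⊗[V] R) ≤ d)
    (hη : ringKrullDim (FractionRing V ⊗[V] R) ≤ d)
    (x : Fin d → R) (N : ℕ) (hN : 1 ≤ N) :
    ∃ y : Fin d → R, (∀ i, y i ∈ Subring.closure (Set.range fun r : R => r ^ N)) ∧
      (MvPolynomial.aeval (fun i => (1 : IsLocalRing.ResidueField V) ⊗ₜ[V] (x i + y i)) :
          MvPolynomial (Fin d) (IsLocalRing.ResidueField V) →ₐ[IsLocalRing.ResidueField V]
            IsLocalRing.ResidueField V ⊗[V] R).toRingHom.Finite ∧
      (MvPolynomial.aeval (fun i => (1 : FractionRing V) ⊗ₜ[V] (x i + y i)) :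
          MvPolynomial (Fin d) (FractionRing V) →ₐ[FractionRing V] FractionRing V ⊗[V] R).toRingHom.Finite := by
  have hpad : ∀ (k : Type u) [Field k] [Algebra V k],
      (∀ c : k, ∃ a s : V, algebraMap V k s ≠ 0 ∧ c * algebraMap V k s = algebraMap V k a) →
      ringKrullDim (k ⊗[V] R) ≤ d →
      ∃ b : Fin d → R, (MvPolynomial.aeval (fun i => (1 : k) ⊗ₜ[V] b i) :
        MvPolynomial (Fin d) k →ₐ[k] k ⊗[V] R).toRingHom.Finite := by
    intro k _ _ hfrac hdim
    rcases subsingleton_or_nontrivial (k ⊗[V] R) with hs | hn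
    · exact ⟨0, RingHom.Finite.of_surjective _ fun _ => ⟨0, Subsingleton.elim _ _⟩⟩
    obtain ⟨e, he⟩ : ∃ e : ℕ, ringKrullDim (k ⊗[V] R) = e := by
      have h0 := ringKrullDim_nonneg_of_nontrivial (R := k ⊗[V] R)
      cases hh : ringKrullDim (k ⊗[V] R) with
      | bot => rw [hh] at h0; simp at h0
      | coe n =>
        cases n with
        | top => rw [hh] at hdim; exact absurd (WithBot.coe_le_coe.1 hdim) (not_le.2 (ENat.natCast_lt_top d))
        | coe m => exact ⟨m, rfl⟩
    have hed : e ≤ d := by rw [he] at hdim; exact_mod_cast hdim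
    obtain ⟨b, hb⟩ := GrothLib.Chev28.exists_finite_aeval (A := V) (B := R) hfrac e he
    let b' : Fin d → R := fun i => if h : (i : ℕ) < e then b ⟨i, h⟩ else 0
    refine ⟨b', ?_⟩
    have hfac : (MvPolynomial.aeval (fun i => (1 : k) ⊗ₜ[V] b i) : MvPolynomial (Fin e) k →ₐ[k] k ⊗[V] R) =
        (MvPolynomial.aeval fun i => (1 : k) ⊗ₜ[V] b' i).comp (MvPolynomial.rename (Fin.castLE hed)) :=
      MvPolynomial.algHom_ext fun i => by simp [b', i.2]
    rw [hfac] at hb
    exact RingHom.Finite.of_comp_finite (f := (MvPolynomial.rename (Fin.castLE hed) :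
      MvPolynomial (Fin e) k →ₐ[k] MvPolynomial (Fin d) k).toRingHom) hb
  obtain ⟨z, hz⟩ := hpad (IsLocalRing.ResidueField V) (fun c => by
    obtain ⟨a, rfl⟩ := IsLocalRing.residue_surjective c
    exact ⟨a, 1, by simp, by simp [IsLocalRing.ResidueField.algebraMap_eq]⟩) hs
  obtain ⟨w, hw⟩ := hpad (FractionRing V) (fun c => by
    obtain ⟨a, s, hs, rfl⟩ := IsFractionRing.div_surjective (A := V) c
    have hs' : algebraMap V (FractionRing V) s ≠ 0 :=
      IsFractionRing.to_map_ne_zero_of_mem_nonZeroDivisors hs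
    exact ⟨a, s, hs', div_mul_cancel₀ _ hs'⟩) hη
  obtain ⟨π, hπ⟩ := IsDiscreteValuationRing.exists_irreducible V
  have hπk : algebraMap V (IsLocalRing.ResidueField V) π = 0 := by
    rw [IsLocalRing.ResidueField.algebraMap_eq, IsLocalRing.residue_eq_zero_iff, hπ.maximalIdeal_eq]
    exact Ideal.mem_span_singleton_self π
  have hπK : algebraMap V (FractionRing V) π ≠ 0 :=
    IsFractionRing.to_map_ne_zero_of_mem_nonZeroDivisors (mem_nonZeroDivisors_of_ne_zero hπ.ne_zero)
  obtain ⟨D₁, hD₁⟩ := GrothLib.FiniteProj.exists_finite_pow_add _ hw (fun i => (1 : FractionRing V) ⊗ₜ[V] z i)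
  let z' : Fin d → R := fun i => z i + π • w i ^ (D₁ + 1)
  have hz'k : ∀ i, (1 : IsLocalRing.ResidueField V) ⊗ₜ[V] z' i = 1 ⊗ₜ[V] z i := fun i => by
    rw [TensorProduct.tmul_add, ← TensorProduct.smul_tmul, ← Algebra.algebraMap_eq_smul_one, hπk,
      TensorProduct.zero_tmul, add_zero]
  have hz'K : (MvPolynomial.aeval (fun i => (1 : FractionRing V) ⊗ₜ[V] z' i) :
      MvPolynomial (Fin d) (FractionRing V) →ₐ[FractionRing V] FractionRing V ⊗[V] R).toRingHom.Finite := by
    have heq : (fun i => (1 : FractionRing V) ⊗ₜ[V] z' i) = fun i => (1 : FractionRing V) ⊗ₜ[V] z i +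
        algebraMap V (FractionRing V) π • ((1 : FractionRing V) ⊗ₜ[V] w i) ^ (D₁ + 1) := funext fun i => by
      rw [TensorProduct.tmul_add, Algebra.TensorProduct.tmul_pow, one_pow, algebraMap_smul, TensorProduct.tmul_smul]
    rw [heq]
    exact hD₁ _ D₁.lt_succ_self _ hπK
  obtain ⟨Ds, hDs⟩ := GrothLib.FiniteProj.exists_finite_pow_add _ hz (fun i => (1 : IsLocalRing.ResidueField V) ⊗ₜ[V] x i)
  obtain ⟨Dη, hDη⟩ := GrothLib.FiniteProj.exists_finite_pow_add _ hz'K (fun i => (1 : FractionRing V) ⊗ₜ[V] x i)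
  have hM : Ds + Dη < N * (Ds + Dη + 1) :=
    lt_of_lt_of_le (Nat.lt_succ_self _) (Nat.le_mul_of_pos_left _ hN)
  refine ⟨fun i => z' i ^ (N * (Ds + Dη + 1)), fun i => ?_, ?_, ?_⟩
  · exact Subring.subset_closure ⟨z' i ^ (Ds + Dη + 1), by simp only; rw [← pow_mul, mul_comm]⟩
  · have heq : (fun i => (1 : IsLocalRing.ResidueField V) ⊗ₜ[V] (x i + z' i ^ (N * (Ds + Dη + 1)))) = fun i =>
        (1 : IsLocalRing.ResidueField V) ⊗ₜ[V] x i +
          (1 : IsLocalRing.ResidueField V) • ((1 : IsLocalRing.ResidueField V) ⊗ₜ[V] z i) ^ (N * (Ds + Dη + 1)) :=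
      funext fun i => by
        rw [TensorProduct.tmul_add, one_smul, ← hz'k i, Algebra.TensorProduct.tmul_pow, one_pow]
    rw [heq]
    exact hDs _ (lt_of_le_of_lt (Nat.le_add_right _ _) hM) 1 one_ne_zero
  · have heq : (fun i => (1 : FractionRing V) ⊗ₜ[V] (x i + z' i ^ (N * (Ds + Dη + 1)))) = fun i =>
        (1 : FractionRing V) ⊗ₜ[V] x i +
          (1 : FractionRing V) • ((1 : FractionRing V) ⊗ₜ[V] z' i) ^ (N * (Ds + Dη + 1)) := funext fun i => by
      rw [TensorProduct.tmul_add, one_smul, Algebra.TensorProduct.tmul_pow, one_pow]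
    rw [heq]
    exact hDη _ (lt_of_le_of_lt (Nat.le_add_left _ _) hM) 1 one_ne_zero

end Groth.Agent.S14379
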