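import Groth.Statements.S1438
import Mathlib.AlgebraicGeometry.Morphisms.ClosedImmersion
import Mathlib.AlgebraicGeometry.Morphisms.Affine
import Mathlib.AlgebraicGeometry.Morphisms.Separated
-- import your own Groth.Agent.* helpers here

set_option autoImplicit false
universe u
open FlatMor

namespace Groth.Agent.S1438

open AlgebraicGeometry CategoryTheory Limits in
/-- A separated scheme with an open covering by n + 1 affine opens has affine stratification number at
most n: it admits an affine stratification with index set {0, …, n}. -/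
theorem result (X : Scheme.{u}) [X.IsSeparated] (n : ℕ) (U : Fin (n + 1) → X.Opens)
    (hU : ∀ i, IsAffineOpen (U i)) (hcov : ⨆ i, U i = ⊤) :
    MoreMor.HasAffineStratification X n := by
  classical
  have hne : ∀ x : X, (Finset.univ.filter fun i => x ∈ U i).Nonempty := fun x => by
    obtain ⟨i, hi⟩ := TopologicalSpace.Opens.mem_iSup.mp
      (show x ∈ ⨆ i, U i by rw [hcov]; trivial)
    exact ⟨i, Finset.mem_filter.mpr ⟨Finset.mem_univ _, hi⟩⟩
  let s : X → Fin (n + 1) := fun x => (Finset.univ.filter fun i => x ∈ U i).max' (hne x)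
  have hs : ∀ x, x ∈ U (s x) := fun x => (Finset.mem_filter.mp (Finset.max'_mem _ (hne x))).2
  have hmax : ∀ x i, x ∈ U i → i ≤ s x := fun x i hi =>
    Finset.le_max' (Finset.univ.filter fun j => x ∈ U j) i (Finset.mem_filter.mpr ⟨Finset.mem_univ _, hi⟩)
  refine ⟨s, fun i => ?_, fun i => ?_⟩
  · have : {x : X | s x ≤ i} = (⋃ j ∈ {j | i < j}, (U j : Set X))ᶜ := by
      ext x
      simp only [Set.mem_setOf_eq, Set.mem_compl_iff, Set.mem_iUnion, SetLike.mem_coe, not_exists]
      exact ⟨fun h j hj hx => absurd ((hmax x j hx).trans h) (not_le.mpr hj),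
        fun h => not_lt.mp fun hlt => h (s x) hlt (hs x)⟩
    rw [this]
    exact (isOpen_biUnion fun j _ => (U j).2).isClosed_compl
  · haveI : IsAffine (U i) := hU i
    let A : Set ↥(U i : Scheme.{u}) := ⋃ j ∈ {j | i < j}, (U i).ι ⁻¹' (U j : Set X)
    have hA : IsOpen A := isOpen_biUnion fun j _ => (U j).2.preimage (U i).ι.continuous
    let Z : (U i : Scheme.{u}).IdealSheafData := .vanishingIdeal ⟨Aᶜ, hA.isClosed_compl⟩
    haveI : IsAffine Z.subscheme := isAffine_of_isAffineHom Z.subschemeι
    haveI : IsAffineHom (Z.subschemeι ≫ (U i).ι) := by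
      haveI : IsAffineHom ((Z.subschemeι ≫ (U i).ι) ≫ terminal.from X) := inferInstance
      exact IsAffineHom.of_comp _ (terminal.from X)
    refine ⟨Z.subscheme, Z.subschemeι ≫ (U i).ι, inferInstance, inferInstance, inferInstance, ?_⟩
    rw [Scheme.Hom.comp_base, TopCat.coe_comp, Set.range_comp, Scheme.IdealSheafData.range_subschemeι,
      Scheme.IdealSheafData.coe_support_vanishingIdeal]
    ext x
    simp only [A, Set.mem_image, Set.mem_compl_iff, Set.mem_iUnion, Set.mem_setOf_eq,
      Set.mem_preimage, SetLike.mem_coe, not_exists, TopologicalSpace.Closeds.coe_mk]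
    constructor
    · rintro ⟨⟨y, hy⟩, h, rfl⟩
      refine le_antisymm (not_lt.mp fun hlt => h _ hlt (hs _)) (hmax _ _ hy)
    · rintro rfl
      exact ⟨⟨x, hs x⟩, fun j hj hx => absurd (hmax x j hx) (not_le.mpr hj), rfl⟩

end Groth.Agent.S1438
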