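import Groth.Statements.S14382
import Groth.Agent.Lib.KPi18.Basic
-- import your own Groth.Agent.* helpers here

set_option autoImplicit false
open CategoryTheory CategoryTheory.Limits AlgebraicGeometry Opposite
universe u
open EtCoh

namespace Groth.Agent.S14382

/-- Let P be a set of prime numbers and f : X → Y a finite étale surjective morphism of schemes, where Y
is quasi-compact and quasi-separated with finitely many connected components. Then X is
quasi-compact and quasi-separated with finitely many connected components, and Y is a K(π,1) for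
P-torsion coefficients if and only if X is; here a scheme Z is called a K(π,1) for P-torsion
coefficients when for every finite locally constant abelian sheaf F on the small étale site of Z
killed by some n ≥ 1 all of whose prime factors lie in P, every q > 0 and every class ζ in H^q(Z_ét,
F) there is a finite étale surjective g : Z' → Z with g^*ζ = 0. (Exactness of pullback of abelian
sheaves, which always holds, is carried as an instance hypothesis.) -/
theorem result (P : Set ℕ) {X Y : Scheme.{u}} (f : X ⟶ Y)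
    [IsFinite f] [Etale f] [Surjective f] [CompactSpace ↥Y] [QuasiSeparatedSpace ↥Y]
    (hconn : Finite (_root_.ConnectedComponents ↥Y)) :
    (CompactSpace ↥X ∧ QuasiSeparatedSpace ↥X ∧ Finite (_root_.ConnectedComponents ↥X)) ∧
    ((∀ (F : EtCoh.Ab Y), EtCoh.IsFiniteLocallyConstant F →
        (∃ n : ℕ, 0 < n ∧ (∀ p : ℕ, p.Prime → p ∣ n → p ∈ P) ∧ EtCoh.KilledBy n F) →
        ∀ q : ℕ, 0 < q → ∀ ζ : EtCoh.H Y F q,
          ∃ (Y' : Scheme.{u}) (g : Y' ⟶ Y), IsFinite g ∧ Etale g ∧ Surjective g ∧
            ∀ [PreservesFiniteLimits (EtCoh.pull g)], EtCore.Hpull g F q ζ = 0) ↔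
     (∀ (F : EtCoh.Ab X), EtCoh.IsFiniteLocallyConstant F →
        (∃ n : ℕ, 0 < n ∧ (∀ p : ℕ, p.Prime → p ∣ n → p ∈ P) ∧ EtCoh.KilledBy n F) →
        ∀ q : ℕ, 0 < q → ∀ ζ : EtCoh.H X F q,
          ∃ (X' : Scheme.{u}) (g : X' ⟶ X), IsFinite g ∧ Etale g ∧ Surjective g ∧
            ∀ [PreservesFiniteLimits (EtCoh.pull g)], EtCore.Hpull g F q ζ = 0)) := by
  haveI : CompactSpace X := QuasiCompact.compactSpace_of_compactSpace f
  haveI : QuasiSeparatedSpace X := quasiSeparatedSpace_of_quasiSeparated f
  refine ⟨⟨inferInstance, inferInstance, ?_⟩, ⟨?_, ?_⟩⟩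
  · haveI := hconn
    haveI : Smooth f := inferInstance
    exact GrothLib.KPi18.finite_connectedComponents f.base f.isOpenMap f.isClosedMap f.finite_preimage_singleton
  · intro hY F hF hn q hq ζ
    obtain ⟨n, hn0, hnP, hnk⟩ := hn
    refine GrothLib.KPi18.exists_kill f F q ζ fun x => ?_
    exact hY _ (GrothLib.Constructible.flc_push f F hF) ⟨n, hn0, hnP, GrothLib.KPi18.killedBy_push f hnk⟩ q hq x
  · intro hX F hF hn q hq ζ
    obtain ⟨n, hn0, hnP, hnk⟩ := hn
    haveI := GrothLib.EtDer.pullFL f
    obtain ⟨X', g, hg₁, hg₂, hg₃, hg⟩ := hX _ (GrothLib.LocConst.isFiniteLocallyConstant_pull f F hF)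
      ⟨n, hn0, hnP, GrothLib.KPi18.killedBy_pull f hnk⟩ q hq (EtCore.Hpull f F q ζ)
    haveI := hg₁; haveI := hg₂; haveI := hg₃
    refine ⟨X', g ≫ f, inferInstance, inferInstance, inferInstance, ?_⟩
    intro _
    haveI := GrothLib.EtDer.pullFL g
    exact (GrothLib.KPi18.Hpull_comp_eq_zero g f _ rfl F q ζ).2 hg

end Groth.Agent.S14382
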