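import Groth.Statements.S14383
import Groth.Agent.Lib.EtaEtale.Kill
-- import your own Groth.Agent.* helpers here

set_option autoImplicit false
open scoped TensorProduct
open AlgebraicGeometry
universe u
open CAlg

namespace Groth.Agent.S14383

/-- Let V be a discrete valuation ring of characteristic zero with uniformizer ϖ, whose residue field k
is perfect of characteristic p > 0, and let A → R be a homomorphism of V-algebras of finite type,
viewed as a morphism f : Spec R → Spec A of schemes of finite type over Spec V. Say f is η-étale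
when there is an open neighbourhood of the closed fibre of Spec R on whose generic fibre f is étale;
for affine Spec R this means: some a ∈ R with (a) + (ϖ) = R has R[1/(aϖ)] étale over A. First: if f
is η-étale then for some n ≥ 0 the submodule p^n Ω_{R/A} of the module of differentials is contained
in ϖ p^n Ω_{R/A} (that is, p^n Ω_{R/A} vanishes along the closed fibre). Conversely: if the generic
fibres Spec(K ⊗_V A) and Spec(K ⊗_V R) are both smooth over K of the same relative dimension d, K
the fraction field of V, then such an n forces f to be η-étale. (The published statement is for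
arbitrary schemes X → Y of finite type over V and also lists an intermediate equivalent condition,
that the restriction of p^n Ω_{X/Y} to the closed fibre as an abelian sheaf vanishes for some n;
this row is the case of affine schemes and states the other two conditions.) -/
theorem result (V : Type u) [CommRing V] [IsDomain V] [IsDiscreteValuationRing V] [CharZero V]
    (ϖ : V) (hϖ : Irreducible ϖ) (p : ℕ) [Fact p.Prime] [CharP (IsLocalRing.ResidueField V) p]
    [PerfectField (IsLocalRing.ResidueField V)]
    (A : Type u) [CommRing A] [Algebra V A] [Algebra.FiniteType V A]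
    (R : Type u) [CommRing R] [Algebra V R] [Algebra.FiniteType V R] [Algebra A R] [IsScalarTower V A R] :
    ((∃ a : R, Ideal.span {a} ⊔ Ideal.span {algebraMap V R ϖ} = ⊤ ∧
        ((algebraMap R (Localization.Away (a * algebraMap V R ϖ))).comp (algebraMap A R)).Etale) →
      ∃ n : ℕ, Ideal.span {((p : R)) ^ n} • (⊤ : Submodule R (Ω[R⁄A])) ≤
        Ideal.span {algebraMap V R ϖ * (p : R) ^ n} • (⊤ : Submodule R (Ω[R⁄A]))) ∧
    (∀ d : ℕ, SmoothOfRelativeDimension d
        (Spec.map (CommRingCat.ofHom (algebraMap (FractionRing V) (FractionRing V ⊗[V] A)))) →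
      SmoothOfRelativeDimension d
        (Spec.map (CommRingCat.ofHom (algebraMap (FractionRing V) (FractionRing V ⊗[V] R)))) →
      (∃ n : ℕ, Ideal.span {((p : R)) ^ n} • (⊤ : Submodule R (Ω[R⁄A])) ≤
        Ideal.span {algebraMap V R ϖ * (p : R) ^ n} • (⊤ : Submodule R (Ω[R⁄A]))) →
      ∃ a : R, Ideal.span {a} ⊔ Ideal.span {algebraMap V R ϖ} = ⊤ ∧
        ((algebraMap R (Localization.Away (a * algebraMap V R ϖ))).comp (algebraMap A R)).Etale) := by
  obtain ⟨e, u, he, hp⟩ := GrothLib.EtaEtale.exists_p_eq hϖ p
  have hpR : (p : R) = algebraMap V R (u : V) * algebraMap V R ϖ ^ e := by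
    rw [← map_pow, ← map_mul, ← hp, map_natCast]
  haveI : Algebra.FiniteType A R := Algebra.FiniteType.of_restrictScalars_finiteType V A R
  refine ⟨fun ⟨a, ha, het⟩ => ?_, fun d hA hR ⟨n, hn⟩ => ?_⟩
  · obtain ⟨c, hc⟩ := GrothLib.EtaEtale.exists_pow_smul_eq_zero_of_etale _ het
    refine ⟨c, Submodule.smul_le.2 fun z hz w _ => ?_⟩
    obtain ⟨z, rfl⟩ := Ideal.mem_span_singleton'.1 hz
    obtain ⟨x, hx, y, hy, hxy⟩ := Submodule.mem_sup.1
      ((ha ▸ Submodule.mem_top : (1 : R) ∈ Ideal.span {a} ⊔ Ideal.span {algebraMap V R ϖ}))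
    rw [Ideal.mem_span_singleton'] at hx hy
    obtain ⟨x, rfl⟩ := hx
    obtain ⟨y, rfl⟩ := hy
    obtain ⟨x', y', hxy'⟩ := (show IsCoprime a (algebraMap V R ϖ) from ⟨x, y, hxy⟩).pow_left (m := c)
    have h0 : (x' * a ^ c * (z * (p : R) ^ c)) • w = 0 := by
      have : x' * a ^ c * (z * (p : R) ^ c) =
          (x' * z * algebraMap V R (u : V) ^ c * algebraMap V R ϖ ^ ((e - 1) * c)) * (a * algebraMap V R ϖ) ^ c := by
        obtain ⟨e', rfl⟩ := Nat.exists_eq_add_of_le he
        rw [hpR, Nat.add_sub_cancel_left, mul_pow, mul_pow, ← pow_mul, pow_mul, pow_add, pow_one]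
        ring
      rw [this, mul_smul, hc, smul_zero]
    have : (z * (p : R) ^ c) • w = (y' * algebraMap V R ϖ * (z * (p : R) ^ c)) • w := by
      conv_lhs => rw [← one_mul (z * (p : R) ^ c), ← hxy', add_mul, add_smul, h0, zero_add]
    rw [this, show y' * algebraMap V R ϖ * (z * (p : R) ^ c) = y' * z * (algebraMap V R ϖ * (p : R) ^ c) by ring,
      mul_smul]
    exact Submodule.smul_mem _ _ (Submodule.smul_mem_smul (Ideal.mem_span_singleton_self _) Submodule.mem_top)
  · rw [← Ideal.span_singleton_mul_span_singleton, Submodule.mul_smul] at hn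
    obtain ⟨r, hr, hr0⟩ := Submodule.exists_sub_one_mem_and_smul_eq_zero_of_fg_of_le_smul _ _
      (Submodule.FG.smul (Submodule.fg_span_singleton _) (Module.Finite.fg_top)) hn
    obtain ⟨y, hy⟩ := Ideal.mem_span_singleton'.1 hr
    refine ⟨r, ?_, GrothLib.EtaEtale.etale_away hϖ d hA hR r (e * n + 1) fun w => ?_⟩
    · rw [← Ideal.span_insert, Ideal.eq_top_iff_one, Ideal.mem_span_pair]
      exact ⟨1, -y, by linear_combination -hy⟩
    · have h1 := hr0 ((p : R) ^ n • w) (Submodule.smul_mem_smul (Ideal.mem_span_singleton_self _) Submodule.mem_top)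
      obtain ⟨v, hv⟩ := ((u.isUnit.map (algebraMap V R)).pow n).exists_left_inv
      have : (r * algebraMap V R ϖ) ^ (e * n + 1) = (v * r ^ (e * n) * algebraMap V R ϖ) * (r * (p : R) ^ n) := by
        rw [hpR, mul_pow _ _ n, ← pow_mul, pow_succ, mul_pow]
        linear_combination (-(r ^ (e * n) * algebraMap V R ϖ ^ (e * n) * r * algebraMap V R ϖ)) * hv
      rw [this, mul_smul, mul_smul r, h1, smul_zero]

end Groth.Agent.S14383
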