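import Groth.Statements.S14384
import Mathlib
-- import your own Groth.Agent.* helpers here

set_option autoImplicit false
universe u
open CAlg

namespace Groth.Agent.S14384

/-- Let V be a discrete valuation ring of characteristic zero with uniformizer ϖ, whose residue field is
perfect of characteristic p > 0, let R be a V-algebra of finite type, x'_1, …, x'_d elements of R
defining a morphism f' from Spec R to affine d-space over V, and n ≥ 0 such that p^n Ω_{f'} vanishes
along the closed fibre, written inside Ω_{R/V} as p^n Ω_{R/V} ⊆ ϖ p^n Ω_{R/V} + Σ_i R dx'_i. If y_1,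
…, y_d lie in the subring of R generated by the p^(n+1)-th powers of elements of R, then the
morphism f = f' + (y_1, …, y_d) has the same property: p^n Ω_{R/V} ⊆ ϖ p^n Ω_{R/V} + Σ_i R d(x'_i +
y_i). -/
theorem result (V : Type u) [CommRing V] [IsDomain V] [IsDiscreteValuationRing V] [CharZero V]
    (ϖ : V) (hϖ : Irreducible ϖ) (p : ℕ) [Fact p.Prime] [CharP (IsLocalRing.ResidueField V) p]
    [PerfectField (IsLocalRing.ResidueField V)]
    (R : Type u) [CommRing R] [Algebra V R] [Algebra.FiniteType V R] (d n : ℕ) (x' : Fin d → R)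
    (hx' : Ideal.span {((p : R)) ^ n} • (⊤ : Submodule R (Ω[R⁄V])) ≤
      Ideal.span {algebraMap V R ϖ * (p : R) ^ n} • (⊤ : Submodule R (Ω[R⁄V])) ⊔
        Submodule.span R (Set.range fun i => KaehlerDifferential.D V R (x' i)))
    (y : Fin d → R) (hy : ∀ i, y i ∈ Subring.closure (Set.range fun r : R => r ^ (p ^ (n + 1)))) :
    Ideal.span {((p : R)) ^ n} • (⊤ : Submodule R (Ω[R⁄V])) ≤
      Ideal.span {algebraMap V R ϖ * (p : R) ^ n} • (⊤ : Submodule R (Ω[R⁄V])) ⊔
        Submodule.span R (Set.range fun i => KaehlerDifferential.D V R (x' i + y i)) := by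
  let M : Submodule R (Ω[R⁄V]) := Ideal.span {algebraMap V R ϖ * (p : R) ^ n} • ⊤
  have hp : algebraMap V R ϖ ∣ (p : R) := by
    have h0 : (p : V) ∈ IsLocalRing.maximalIdeal V := by
      rw [← IsLocalRing.residue_eq_zero_iff, map_natCast]
      exact CharP.cast_eq_zero _ p
    rw [Irreducible.maximalIdeal_eq hϖ, Ideal.mem_span_singleton] at h0
    simpa using map_dvd (algebraMap V R) h0
  have hmem : ∀ z : Ω[R⁄V], ((p : R) ^ (n + 1)) • z ∈ M := fun z => by
    obtain ⟨c, hc⟩ := hp
    rw [show (p : R) ^ (n + 1) = algebraMap V R ϖ * (p : R) ^ n * c by rw [pow_succ]; nth_rw 2 [hc]; ring, mul_smul]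
    exact Submodule.smul_mem_smul (Ideal.mem_span_singleton_self _) trivial
  have hD : ∀ r ∈ Subring.closure (Set.range fun r : R => r ^ (p ^ (n + 1))), KaehlerDifferential.D V R r ∈ M := by
    intro r hr
    induction hr using Subring.closure_induction with
    | mem r hr =>
      obtain ⟨s, rfl⟩ := hr
      rw [Derivation.leibniz_pow, ← Nat.cast_smul_eq_nsmul R, Nat.cast_pow]
      exact hmem _
    | zero => rw [map_zero]; exact zero_mem _
    | one => rw [Derivation.map_one_eq_zero]; exact zero_mem _
    | add a b _ _ ha hb => rw [map_add]; exact add_mem ha hb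
    | neg a _ ha => rw [map_neg]; exact neg_mem ha
    | mul a b _ _ ha hb => rw [Derivation.leibniz]; exact add_mem (M.smul_mem _ hb) (M.smul_mem _ ha)
  refine hx'.trans (sup_le le_sup_left (Submodule.span_le.2 ?_))
  rintro _ ⟨i, rfl⟩
  have h : KaehlerDifferential.D V R (x' i) = -KaehlerDifferential.D V R (y i) + KaehlerDifferential.D V R (x' i + y i) := by
    rw [map_add]; abel
  rw [SetLike.mem_coe]
  beta_reduce
  rw [h]
  exact Submodule.add_mem_sup (neg_mem (hD _ (hy i))) (Submodule.subset_span ⟨i, rfl⟩)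

end Groth.Agent.S14384
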