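import Groth.Statements.S14385
import Groth.Agent.S14379
import Groth.Agent.Lib.EtaEtale.Kill
import Groth.Agent.Lib.EtaEtale.Dim
import Groth.Agent.Lib.Grass26.Smooth
-- import your own Groth.Agent.* helpers here

set_option autoImplicit false
open scoped TensorProduct
open AlgebraicGeometry
universe u
open CAlg

namespace Groth.Agent.S14385

/-- Let V be a discrete valuation ring of characteristic zero with uniformizer ϖ, whose residue field k
is perfect of characteristic p > 0, with fraction field K; let R be a flat V-algebra of finite type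
such that the generic fibre Spec(K ⊗_V R) → Spec K is smooth of relative dimension d; and suppose
some d-tuple x' of elements of R defines a morphism f' from Spec R to affine d-space over V which is
η-étale, meaning that for some a ∈ R with (a) + (ϖ) = R the localisation R[1/(aϖ)] is étale over
V[T_1, …, T_d] via T_i ↦ x'_i (f' is étale on the generic fibre of an open neighbourhood of the
closed fibre). Then there is a d-tuple x in R whose morphism f is η-étale in the same sense and
finite on each fibre: k ⊗_V R is finite over k[T_1, …, T_d] and K ⊗_V R is finite over K[T_1, …,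
T_d] via T_i ↦ 1 ⊗ x_i. -/
theorem result (V : Type u) [CommRing V] [IsDomain V] [IsDiscreteValuationRing V] [CharZero V]
    (ϖ : V) (hϖ : Irreducible ϖ) (p : ℕ) [Fact p.Prime] [CharP (IsLocalRing.ResidueField V) p]
    [PerfectField (IsLocalRing.ResidueField V)]
    (R : Type u) [CommRing R] [Algebra V R] [Module.Flat V R] [Algebra.FiniteType V R] (d : ℕ)
    (hsm : SmoothOfRelativeDimension d
      (Spec.map (CommRingCat.ofHom (algebraMap (FractionRing V) (FractionRing V ⊗[V] R)))))
    (x' : Fin d → R) (hx' : (∃ a : R, Ideal.span {a} ⊔ Ideal.span {algebraMap V R ϖ} = ⊤ ∧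
        ((algebraMap R (Localization.Away (a * algebraMap V R ϖ))).comp
          (MvPolynomial.aeval x' : MvPolynomial (Fin d) V →ₐ[V] R).toRingHom).Etale)) :
    ∃ x : Fin d → R, (∃ a : R, Ideal.span {a} ⊔ Ideal.span {algebraMap V R ϖ} = ⊤ ∧
        ((algebraMap R (Localization.Away (a * algebraMap V R ϖ))).comp
          (MvPolynomial.aeval x : MvPolynomial (Fin d) V →ₐ[V] R).toRingHom).Etale) ∧
      (MvPolynomial.aeval (fun i => (1 : IsLocalRing.ResidueField V) ⊗ₜ[V] x i) :
          MvPolynomial (Fin d) (IsLocalRing.ResidueField V) →ₐ[IsLocalRing.ResidueField V]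
            IsLocalRing.ResidueField V ⊗[V] R).toRingHom.Finite ∧
      (MvPolynomial.aeval (fun i => (1 : FractionRing V) ⊗ₜ[V] x i) :
          MvPolynomial (Fin d) (FractionRing V) →ₐ[FractionRing V] FractionRing V ⊗[V] R).toRingHom.Finite := by
  obtain ⟨a, ha, het⟩ := hx'
  obtain ⟨c, hc⟩ : ∃ c : ℕ, ∀ w : Ω[R⁄V], (a * algebraMap V R ϖ) ^ c • w ∈
      Submodule.span R (Set.range fun i => KaehlerDifferential.D V R (x' i)) := by
    letI : Algebra (MvPolynomial (Fin d) V) R := (MvPolynomial.aeval x' : MvPolynomial (Fin d) V →ₐ[V] R).toRingHom.toAlgebra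
    haveI : IsScalarTower V (MvPolynomial (Fin d) V) R :=
      .of_algebraMap_eq fun v => ((MvPolynomial.aeval x').commutes v).symm
    haveI : Algebra.FiniteType (MvPolynomial (Fin d) V) R := Algebra.FiniteType.of_restrictScalars_finiteType V _ R
    obtain ⟨c, hc⟩ := GrothLib.EtaEtale.exists_pow_smul_eq_zero_of_etale (A := MvPolynomial (Fin d) V) _ het
    refine ⟨c, fun w => ?_⟩
    have h0 := hc (KaehlerDifferential.map V (MvPolynomial (Fin d) V) R R w)
    rw [← map_smul] at h0
    obtain ⟨z, hz⟩ := (KaehlerDifferential.exact_mapBaseChange_map V (MvPolynomial (Fin d) V) R _).1 h0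
    rw [← hz]
    clear hz h0
    induction z using TensorProduct.induction_on with
    | zero => rw [map_zero]; exact zero_mem _
    | tmul r m =>
      rw [KaehlerDifferential.mapBaseChange_tmul]
      refine Submodule.smul_mem _ _ ?_
      have hm : m ∈ Submodule.span (MvPolynomial (Fin d) V)
          (Set.range fun i => KaehlerDifferential.D V (MvPolynomial (Fin d) V) (MvPolynomial.X i)) := by
        have := (KaehlerDifferential.mvPolynomialBasis V (Fin d)).mem_span m
        simpa [Set.range, KaehlerDifferential.mvPolynomialBasis_apply] using this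
      induction hm using Submodule.span_induction with
      | mem y hy =>
        obtain ⟨i, rfl⟩ := hy
        rw [KaehlerDifferential.map_D]
        exact Submodule.subset_span ⟨i, by rw [RingHom.algebraMap_toAlgebra]; simp⟩
      | zero => rw [map_zero]; exact zero_mem _
      | add y₁ y₂ _ _ h₁ h₂ => rw [map_add]; exact add_mem h₁ h₂
      | smul f y _ hy => rw [map_smul, ← algebraMap_smul R f]; exact Submodule.smul_mem _ _ hy
    | add z₁ z₂ h₁ h₂ => rw [map_add]; exact add_mem h₁ h₂
  obtain ⟨e, u, he, hp⟩ := GrothLib.EtaEtale.exists_p_eq hϖ p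
  have hq : algebraMap V R ϖ ^ (c + 1) ∣ ((p ^ (c + 1) : ℕ) : R) := by
    rw [Nat.cast_pow, ← map_natCast (algebraMap V R) p, hp, map_mul, map_pow, mul_pow, ← pow_mul]
    exact (pow_dvd_pow _ (Nat.le_mul_of_pos_left _ he)).mul_left _
  obtain ⟨y, hy, hfs, hfη⟩ := Groth.Agent.S14379.result V R d
    (GrothLib.EtaEtale.ringKrullDim_special_le hϖ R d hsm) (GrothLib.EtaEtale.ringKrullDim_le_of_smooth d hsm)
    x' (p ^ (c + 1)) (Nat.one_le_pow _ _ (Fact.out : p.Prime).pos)
  refine ⟨fun i => x' i + y i, ?_, hfs, hfη⟩
  obtain ⟨b, hb, hbk⟩ := GrothLib.EtaEtale.exists_mem_perturb (algebraMap V R ϖ) ((p ^ (c + 1) : ℕ) : R) a c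
    (fun i => KaehlerDifferential.D V R (x' i)) (fun i => KaehlerDifferential.D V R (x' i + y i)) hq ha hc
    (fun i => by
      obtain ⟨w, hw⟩ := GrothLib.EtaEtale.exists_D_eq_natCast_smul V (p ^ (c + 1)) (hy i)
      exact ⟨-w, by rw [map_add, hw, smul_neg, sub_add_cancel_left]⟩)
  letI : Algebra (MvPolynomial (Fin d) V) R :=
    (MvPolynomial.aeval (fun i => x' i + y i) : MvPolynomial (Fin d) V →ₐ[V] R).toRingHom.toAlgebra
  haveI : IsScalarTower V (MvPolynomial (Fin d) V) R :=
    .of_algebraMap_eq fun v => ((MvPolynomial.aeval (fun i => x' i + y i)).commutes v).symm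
  have hA : SmoothOfRelativeDimension d (Spec.map (CommRingCat.ofHom
      (algebraMap (FractionRing V) (FractionRing V ⊗[V] MvPolynomial (Fin d) V)))) := by
    rw [HasRingHomProperty.Spec_iff (P := @SmoothOfRelativeDimension d)]
    refine RingHom.locally_of RingHom.isStandardSmoothOfRelativeDimension_respectsIso _ ?_
    haveI := GrothLib.Grass26.mvPolynomial_standardSmooth V d
    exact (RingHom.isStandardSmoothOfRelativeDimension_algebraMap d).2 inferInstance
  refine ⟨b, hb, GrothLib.EtaEtale.etale_away hϖ (A := MvPolynomial (Fin d) V) d hA hsm b (c + 1) fun w => ?_⟩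
  obtain ⟨w, rfl⟩ := KaehlerDifferential.map_surjective V (MvPolynomial (Fin d) V) R w
  rw [← map_smul]
  have h1 := hbk w
  generalize (b * algebraMap V R ϖ) ^ (c + 1) • w = v at h1
  induction h1 using Submodule.span_induction with
  | mem v hv =>
    obtain ⟨i, rfl⟩ := hv
    rw [KaehlerDifferential.map_D,
      show algebraMap R R (x' i + y i) = algebraMap (MvPolynomial (Fin d) V) R (MvPolynomial.X i) from
        (MvPolynomial.aeval_X (R := V) (fun i => x' i + y i) i).symm]
    exact Derivation.map_algebraMap _ _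
  | zero => rw [map_zero]
  | add v₁ v₂ _ _ h₁ h₂ => rw [map_add, h₁, h₂, add_zero]
  | smul r v _ hv => rw [map_smul, hv, smul_zero]

end Groth.Agent.S14385
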