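import Groth.Statements.S14386
import Groth.Agent.Lib.NodeDiff1.Basic
import Mathlib

set_option autoImplicit false
universe u
open CAlg

namespace Groth.Agent.S14386

open SpinCurv Polynomial GrothLib.NodeDiff1

/-- Étale over `V[T]` via `T ↦ f`: `Ω` is generated by `D f`. -/
theorem exists_smul_D {V B : Type u} [CommRing V] [CommRing B] [Algebra V B] (f : B)
    (he : (Polynomial.aeval f : V[X] →ₐ[V] B).toRingHom.Etale) (w : KaehlerDifferential V B) :
    ∃ c : B, c • KaehlerDifferential.D V B f = w := by
  algebraize [(Polynomial.aeval f : V[X] →ₐ[V] B).toRingHom]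
  have : IsScalarTower V V[X] B := IsScalarTower.of_algebraMap_eq fun r => (AlgHom.commutes _ r).symm
  have h1 := (KaehlerDifferential.exact_mapBaseChange_map V V[X] B w).1 (Subsingleton.elim _ _)
  rw [← Submodule.mem_span_singleton]
  obtain ⟨z, rfl⟩ := h1
  induction z with
  | zero => simp
  | add a b ha hb => rw [map_add]; exact add_mem ha hb
  | tmul c ω =>
    rw [KaehlerDifferential.mapBaseChange_tmul]
    refine Submodule.smul_mem _ c ?_
    have hω : ω ∈ Submodule.span V[X] (Set.range (KaehlerDifferential.D V V[X])) := by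
      rw [KaehlerDifferential.span_range_derivation]; trivial
    induction hω using Submodule.span_induction with
    | mem x hx =>
      obtain ⟨p, rfl⟩ := hx
      rw [KaehlerDifferential.map_D]
      change KaehlerDifferential.D V B (Polynomial.aeval f p) ∈ _
      rw [Derivation.map_aeval]
      exact Submodule.smul_mem _ _ (Submodule.mem_span_singleton_self _)
    | zero => simp
    | add x y _ _ hx hy => rw [map_add]; exact add_mem hx hy
    | smul p x _ hx => rw [map_smul, ← algebraMap_smul B p]; exact Submodule.smul_mem _ _ hx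

/-- A divisor of `x ^ n * y ^ n` is divisible by one of the primes `x`, `y`, or is a unit. -/
theorem dvd_or_dvd_or_isUnit {B : Type u} [CommRing B] [IsDomain B] {x y : B} (hx : Prime x) (hy : Prime y)
    {g : B} : ∀ n : ℕ, g ∣ x ^ n * y ^ n → x ∣ g ∨ y ∣ g ∨ IsUnit g
  | 0, h => Or.inr (Or.inr (isUnit_of_dvd_one (by simpa using h)))
  | n + 1, h => by
    by_contra hne
    obtain ⟨h1, h2, h3⟩ := not_or.1 hne |>.imp_right not_or.1
    obtain ⟨t, ht⟩ := h
    obtain ⟨t, rfl⟩ := (hx.dvd_or_dvd (ht ▸ Dvd.intro (x ^ n * y ^ (n + 1)) (by ring) : x ∣ g * t)).resolve_left h1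
    have ht' : x ^ n * y ^ (n + 1) = g * t := mul_left_cancel₀ hx.ne_zero (by linear_combination ht)
    obtain ⟨t, rfl⟩ := (hy.dvd_or_dvd (ht' ▸ Dvd.intro (x ^ n * y ^ n) (by ring) : y ∣ g * t)).resolve_left h2
    have ht'' : x ^ n * y ^ n = g * t := mul_left_cancel₀ hy.ne_zero (by linear_combination ht')
    exact hne (dvd_or_dvd_or_isUnit hx hy n ⟨t, ht''⟩)

theorem core {V : Type u} [CommRing V] [IsDomain V] [IsDiscreteValuationRing V]
    {ϖ : V} (hϖ : Irreducible ϖ) {h : PolyNodeRing V ϖ}
    (hh : h ∉ Ideal.span ({PolyNodeRing.x V ϖ, PolyNodeRing.y V ϖ} : Set (PolyNodeRing V ϖ)))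
    (B : Type u) [CommRing B] [Algebra (PolyNodeRing V ϖ) B] [IsLocalization.Away h B] [Algebra V B]
    [IsScalarTower V (PolyNodeRing V ϖ) B] (f : B)
    (he : ((algebraMap B (Localization.Away (algebraMap V B ϖ))).comp
      (Polynomial.aeval f : V[X] →ₐ[V] B).toRingHom).Etale) :
    (KaehlerDifferential.D V (B ⧸ Ideal.span ({algebraMap (PolyNodeRing V ϖ) B (PolyNodeRing.x V ϖ)} : Set B))
        (Ideal.Quotient.mk _ f) = 0 ∨
     KaehlerDifferential.D V (B ⧸ Ideal.span ({algebraMap (PolyNodeRing V ϖ) B (PolyNodeRing.y V ϖ)} : Set B))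
        (Ideal.Quotient.mk _ f) = 0) ∧
    (CharZero (IsLocalRing.ResidueField V) →
      ¬ (Polynomial.aeval f : V[X] →ₐ[V] B).toRingHom.QuasiFinite) := by
  classical
  -- the residue field
  have hsurj : Function.Surjective (algebraMap V (IsLocalRing.ResidueField V)) := IsLocalRing.residue_surjective
  have hker : ∀ r : V, algebraMap V (IsLocalRing.ResidueField V) r = 0 → ϖ ∣ r := fun r hr => by
    rw [IsLocalRing.ResidueField.algebraMap_eq, IsLocalRing.residue_eq_zero_iff, hϖ.maximalIdeal_eq,
      Ideal.mem_span_singleton] at hr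
    exact hr
  have hk : algebraMap V (IsLocalRing.ResidueField V) ϖ = 0 := by
    rw [IsLocalRing.ResidueField.algebraMap_eq, IsLocalRing.residue_eq_zero_iff, hϖ.maximalIdeal_eq]
    exact Ideal.mem_span_singleton_self _
  obtain ⟨x, hx⟩ : ∃ x : Fin 2 → PolyNodeRing V ϖ, ∀ i, x i = Ideal.Quotient.mk _ (MvPolynomial.X i) :=
    ⟨_, fun _ => rfl⟩
  have hxy : PolyNodeRing.x V ϖ = x 0 ∧ PolyNodeRing.y V ϖ = x 1 := ⟨(hx 0).symm, (hx 1).symm⟩
  rw [hxy.1, hxy.2] at hh ⊢
  -- reduction to the origin
  have hev : ∀ (i : Fin 2) (q : PolyNodeRing V ϖ), (pr (IsLocalRing.ResidueField V) hk i q).eval 0 = 0 →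
      q ∈ Ideal.span ({x 0, x 1} : Set (PolyNodeRing V ϖ)) := by
    intro i q hq
    obtain ⟨p, rfl⟩ := Ideal.Quotient.mk_surjective q
    have h1 : ∀ p : MvPolynomial (Fin 2) V,
        (pr (IsLocalRing.ResidueField V) hk i (Ideal.Quotient.mk _ p)).eval 0 =
          algebraMap V (IsLocalRing.ResidueField V) (MvPolynomial.constantCoeff p) ∧
        (Ideal.Quotient.mk _ p - algebraMap V (PolyNodeRing V ϖ) (MvPolynomial.constantCoeff p)) ∈
          Ideal.span ({x 0, x 1} : Set (PolyNodeRing V ϖ)) := by
      intro p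
      induction p using MvPolynomial.induction_on with
      | C r =>
        simp [pr_mk, MvPolynomial.constantCoeff_C, mk_C, IsScalarTower.algebraMap_apply V (IsLocalRing.ResidueField V) (IsLocalRing.ResidueField V)[X]]
      | add a b ha hb =>
        refine ⟨?_, ?_⟩
        · rw [map_add, map_add, eval_add, ha.1, hb.1, map_add, map_add]
        · rw [map_add, map_add, map_add, add_sub_add_comm]
          exact add_mem ha.2 hb.2
      | mul_X a l ha =>
        refine ⟨?_, ?_⟩
        · simp only [pr_mk, map_mul, eval_mul, MvPolynomial.aeval_X, MvPolynomial.constantCoeff_X, mul_zero, map_zero]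
          split_ifs <;> simp
        · rw [map_mul, map_mul, MvPolynomial.constantCoeff_X, mul_zero, map_zero, sub_zero, ← hx l]
          refine Ideal.mul_mem_left _ _ (Ideal.subset_span ?_)
          fin_cases l <;> simp
    obtain ⟨r, hr⟩ := hker _ ((h1 p).1.symm.trans hq)
    have h2 := (h1 p).2
    rw [hr, map_mul] at h2
    refine (Submodule.sub_mem_iff_left _ (Ideal.mul_mem_right _ _ ?_)).1 h2
    rw [← x_mul_x 0 1 (by decide), ← hx 0, ← hx 1]
    exact Ideal.mul_mem_right _ _ (Ideal.subset_span (Set.mem_insert _ _))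
  have hH : ∀ i, (pr (IsLocalRing.ResidueField V) hk i h).eval 0 ≠ 0 := fun i hi => hh (hev i h hi)
  have hH0 : ∀ i, pr (IsLocalRing.ResidueField V) hk i h ≠ 0 := fun i hi => hH i (by rw [hi, eval_zero])
  -- `B` is a domain
  have := isDomain_node (V := V) hϖ.ne_zero
  have hne : h ≠ 0 := fun h0 => hh (h0 ▸ zero_mem _)
  have hBdom : IsDomain B := IsLocalization.isDomain_of_le_nonZeroDivisors _
    (M := Submonoid.powers h) (powers_le_nonZeroDivisors_of_noZeroDivisors hne)
  -- the two projections
  have hproj : ∀ i j : Fin 2, i ≠ j → ∃ π : B →+* Localization.Away (pr (IsLocalRing.ResidueField V) hk i h),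
      (∀ q, π (algebraMap _ B q) = algebraMap _ _ (pr (IsLocalRing.ResidueField V) hk i q)) ∧
      Function.Surjective π ∧ ∀ b, π b = 0 → algebraMap _ B (x i) ∣ b := by
    intro i j hij
    have hu : ∀ y : Submonoid.powers h, IsUnit ((algebraMap (IsLocalRing.ResidueField V)[X]
        (Localization.Away (pr (IsLocalRing.ResidueField V) hk i h))).comp
          (pr (IsLocalRing.ResidueField V) hk i).toRingHom y) := by
      rintro ⟨y, n, rfl⟩
      simp only [RingHom.comp_apply, AlgHom.toRingHom_eq_coe, RingHom.coe_coe, map_pow]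
      exact (IsLocalization.Away.algebraMap_isUnit _).pow n
    refine ⟨IsLocalization.lift hu, fun q => IsLocalization.lift_eq hu q, fun z => ?_, fun b hb => ?_⟩
    · obtain ⟨n, P, hP⟩ := IsLocalization.Away.surj (pr (IsLocalRing.ResidueField V) hk i h) z
      obtain ⟨q, rfl⟩ := exists_pr_eq (IsLocalRing.ResidueField V) hk i j hij hsurj P
      obtain ⟨u, hu'⟩ := (IsLocalization.Away.algebraMap_isUnit (S := B) h).pow n
      refine ⟨algebraMap _ B q * ↑u⁻¹, ?_⟩
      refine ((IsLocalization.Away.algebraMap_isUnit (pr (IsLocalRing.ResidueField V) hk i h)).pow n).mul_left_inj.1 ?_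
      rw [hP]
      have : IsLocalization.lift hu ((algebraMap _ B h) ^ n) =
          (algebraMap _ (Localization.Away (pr (IsLocalRing.ResidueField V) hk i h))
            (pr (IsLocalRing.ResidueField V) hk i h)) ^ n := by
        rw [map_pow, IsLocalization.lift_eq]; rfl
      rw [← this, ← map_mul, mul_assoc, ← hu', Units.inv_mul, mul_one, IsLocalization.lift_eq]
      rfl
    · obtain ⟨n, q, hq⟩ := IsLocalization.Away.surj h b
      have h0 := congrArg (IsLocalization.lift hu) hq
      rw [map_mul, hb, zero_mul, IsLocalization.lift_eq] at h0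
      have hpq : pr (IsLocalRing.ResidueField V) hk i q = 0 :=
        (IsLocalization.injective _ (powers_le_nonZeroDivisors_of_noZeroDivisors (hH0 i))) (h0.symm.trans (map_zero _).symm)
      have hd := map_dvd (algebraMap (PolyNodeRing V ϖ) B) (dvd_of_pr_eq_zero (IsLocalRing.ResidueField V) hk i j hij hker q hpq)
      rw [← hx i, ← hq] at hd
      exact ((IsLocalization.Away.algebraMap_isUnit h).pow n).dvd_mul_right.1 hd
  have hLdom : ∀ i, IsDomain (Localization.Away (pr (IsLocalRing.ResidueField V) hk i h)) := fun i =>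
    IsLocalization.isDomain_of_le_nonZeroDivisors _ (powers_le_nonZeroDivisors_of_noZeroDivisors (hH0 i))
  have hLinj : ∀ i, Function.Injective (algebraMap (IsLocalRing.ResidueField V)[X]
      (Localization.Away (pr (IsLocalRing.ResidueField V) hk i h))) := fun i =>
    IsLocalization.injective _ (powers_le_nonZeroDivisors_of_noZeroDivisors (hH0 i))
  -- primality
  have hprime : ∀ i j : Fin 2, i ≠ j → Prime (algebraMap _ B (x i)) := by
    intro i j hij
    obtain ⟨π, hπ, -, hπk⟩ := hproj i j hij
    obtain ⟨π', hπ', -, -⟩ := hproj j i hij.symm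
    have := hLdom i
    have := hLdom j
    have h0 : π (algebraMap _ B (x i)) = 0 := by rw [hπ, hx, pr_self, map_zero]
    refine ⟨fun hz => ?_, fun hu => (hu.map π).ne_zero h0, fun a b hab => ?_⟩
    · have h1 := congrArg π' hz
      rw [hπ', map_zero, hx, pr_other _ hk j i hij.symm] at h1
      exact Polynomial.X_ne_zero (hLinj j (h1.trans (map_zero _).symm))
    · obtain ⟨c, hc⟩ := hab
      have h1 := congrArg π hc
      rw [map_mul, map_mul, h0, zero_mul] at h1
      exact (mul_eq_zero.1 h1).imp (hπk a) (hπk b)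
  -- `D f` in terms of `D x`, `D y`
  obtain ⟨a, b, hab⟩ : ∃ a b : B, a • KaehlerDifferential.D V B (algebraMap _ B (x 0)) +
      b • KaehlerDifferential.D V B (algebraMap _ B (x 1)) = KaehlerDifferential.D V B f := by
    rw [← Submodule.mem_span_pair]
    have hq : ∀ q : PolyNodeRing V ϖ, KaehlerDifferential.D V B (algebraMap _ B q) ∈
        Submodule.span B {KaehlerDifferential.D V B (algebraMap _ B (x 0)), KaehlerDifferential.D V B (algebraMap _ B (x 1))} := by
      intro q
      obtain ⟨p, rfl⟩ := Ideal.Quotient.mk_surjective q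
      induction p using MvPolynomial.induction_on with
      | C r => rw [mk_C, ← IsScalarTower.algebraMap_apply, Derivation.map_algebraMap]; exact zero_mem _
      | add p q hp hq => rw [map_add, map_add, map_add]; exact add_mem hp hq
      | mul_X p l hp =>
        rw [map_mul, map_mul, Derivation.leibniz, ← hx l]
        refine add_mem (Submodule.smul_mem _ _ (Submodule.subset_span ?_)) (Submodule.smul_mem _ _ hp)
        fin_cases l <;> simp
    obtain ⟨n, q, hnq⟩ := IsLocalization.Away.surj h f
    have h1 := hq q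
    rw [← hnq, ← map_pow, Derivation.leibniz] at h1
    have h2 := (Submodule.add_mem_iff_right _ (Submodule.smul_mem _ _ (hq _))).1 h1
    obtain ⟨u, hu⟩ := (IsLocalization.Away.algebraMap_isUnit (S := B) h).pow n
    rw [map_pow, ← hu] at h2
    have h3 := Submodule.smul_mem _ (↑u⁻¹ : B) h2
    rwa [smul_smul, Units.inv_mul, one_smul] at h3
  -- the derivation `x ↦ x, y ↦ -y`
  obtain ⟨δ, hδ⟩ : ∃ δ : Derivation V B B, ∀ i, δ (algebraMap _ B (x i)) =
      (if i = 0 then 1 else -1) * algebraMap _ B (x i) := by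
    have hrel : algebraMap _ B (x 0) * algebraMap _ B (x 1) = algebraMap V B ϖ := by
      rw [← map_mul, hx, hx, x_mul_x 0 1 (by decide), ← IsScalarTower.algebraMap_apply]
    obtain ⟨Φ, hΦ⟩ : ∃ Φ : PolyNodeRing V ϖ →ₐ[V] TrivSqZeroExt B B, ∀ i, Φ (x i) =
        TrivSqZeroExt.inl (algebraMap _ B (x i)) +
          TrivSqZeroExt.inr ((if i = 0 then 1 else -1) * algebraMap _ B (x i)) := by
      refine ⟨Ideal.Quotient.liftₐ _ (MvPolynomial.aeval (fun i => TrivSqZeroExt.inl (algebraMap _ B (x i)) +
          TrivSqZeroExt.inr ((if i = 0 then 1 else -1) * algebraMap _ B (x i)))) ?_,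
        fun i => (congrArg _ (hx i)).trans (MvPolynomial.aeval_X _ i)⟩
      intro z hz
      obtain ⟨c, rfl⟩ := Ideal.mem_span_singleton'.1 hz
      rw [map_mul, map_sub, map_mul, MvPolynomial.aeval_X, MvPolynomial.aeval_X, MvPolynomial.aeval_C]
      refine mul_eq_zero_of_right _ ?_
      ext <;> simp only [TrivSqZeroExt.algebraMap_eq_inl', TrivSqZeroExt.fst_sub, TrivSqZeroExt.snd_sub,
        TrivSqZeroExt.fst_mul, TrivSqZeroExt.snd_mul, TrivSqZeroExt.fst_add, TrivSqZeroExt.snd_add,
        TrivSqZeroExt.fst_inl, TrivSqZeroExt.snd_inl, TrivSqZeroExt.fst_inr, TrivSqZeroExt.snd_inr,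
        TrivSqZeroExt.fst_zero, TrivSqZeroExt.snd_zero, smul_eq_mul, op_smul_eq_smul, add_zero, zero_add,
        one_ne_zero, if_true, if_false, ↓reduceIte, hrel, sub_self, sub_zero]
      ring
    obtain ⟨δ, hδ⟩ := exists_derivation_of_algHom (Submonoid.powers h) Φ (fun q => by
      refine DFunLike.congr_fun (f := (TrivSqZeroExt.fstHom V B B).comp Φ)
        (g := IsScalarTower.toAlgHom V (PolyNodeRing V ϖ) B) (Ideal.Quotient.algHom_ext _ (MvPolynomial.algHom_ext fun i => ?_)) q
      show (Φ (Ideal.Quotient.mk _ (MvPolynomial.X i))).fst = algebraMap _ B (Ideal.Quotient.mk _ (MvPolynomial.X i))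
      rw [← hx i, hΦ, TrivSqZeroExt.fst_add, TrivSqZeroExt.fst_inl, TrivSqZeroExt.fst_inr, add_zero])
    exact ⟨δ, fun i => by rw [hδ, hΦ, TrivSqZeroExt.snd_add, TrivSqZeroExt.snd_inl, TrivSqZeroExt.snd_inr, zero_add]⟩
  obtain ⟨g, hg⟩ : ∃ g : B, g = a * algebraMap _ B (x 0) - b * algebraMap _ B (x 1) := ⟨_, rfl⟩
  have hgf : δ f = g := by
    rw [← δ.liftKaehlerDifferential_comp_D f, ← hab, map_add, map_smul, map_smul,
      δ.liftKaehlerDifferential_comp_D, δ.liftKaehlerDifferential_comp_D, hδ, hδ, hg]
    simp [sub_eq_add_neg]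
  -- `g` is a unit after inverting `ϖ`
  have hgdvd : ∃ N : ℕ, g ∣ algebraMap V B ϖ ^ N := by
    obtain ⟨δ', hδ'⟩ := exists_derivation_localization (B := Localization.Away (algebraMap V B ϖ))
      (Submonoid.powers (algebraMap V B ϖ)) δ
    have he' : (Polynomial.aeval (algebraMap B (Localization.Away (algebraMap V B ϖ)) f) :
        V[X] →ₐ[V] _).toRingHom.Etale := by
      rwa [show Polynomial.aeval (algebraMap B (Localization.Away (algebraMap V B ϖ)) f) =
        (IsScalarTower.toAlgHom V B (Localization.Away (algebraMap V B ϖ))).comp (Polynomial.aeval f) from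
          Polynomial.algHom_ext (by simp)]
    obtain ⟨c, hc⟩ := exists_smul_D _ he'
      (KaehlerDifferential.D V _ (algebraMap B (Localization.Away (algebraMap V B ϖ)) (algebraMap _ B (x 0))))
    have h1 := congrArg δ'.liftKaehlerDifferential hc
    rw [map_smul, δ'.liftKaehlerDifferential_comp_D, δ'.liftKaehlerDifferential_comp_D, hδ', hδ', hgf, hδ,
      if_pos rfl, one_mul, smul_eq_mul] at h1
    have hu : IsUnit (algebraMap B (Localization.Away (algebraMap V B ϖ)) g) := by
      have hw : IsUnit (algebraMap B (Localization.Away (algebraMap V B ϖ)) (algebraMap V B ϖ)) :=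
        IsLocalization.Away.algebraMap_isUnit _
      have hxy' : algebraMap V B ϖ = algebraMap _ B (x 0) * algebraMap _ B (x 1) := by
        rw [← map_mul, hx, hx, x_mul_x 0 1 (by decide), ← IsScalarTower.algebraMap_apply]
      exact isUnit_of_dvd_unit ((Dvd.intro_left c h1).trans (map_dvd _ ⟨_, hxy'⟩)) hw
    obtain ⟨v, hv⟩ := hu.exists_right_inv
    obtain ⟨n, t, ht⟩ := IsLocalization.Away.surj (algebraMap V B ϖ) v
    have h2 : algebraMap B (Localization.Away (algebraMap V B ϖ)) (g * t) =
        algebraMap B (Localization.Away (algebraMap V B ϖ)) (algebraMap V B ϖ ^ n) := by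
      rw [map_mul, ← ht, ← mul_assoc, hv, one_mul, map_pow]
    obtain ⟨⟨_, m, rfl⟩, hm⟩ := IsLocalization.exists_of_eq (M := Submonoid.powers (algebraMap V B ϖ)) h2
    exact ⟨m + n, algebraMap V B ϖ ^ m * t, by simp only at hm; rw [pow_add, ← hm]; ring⟩
  obtain ⟨π₀, hπ₀, -, hπ₀k⟩ := hproj 0 1 (by decide)
  have hgu : ¬ IsUnit g := by
    intro hu
    have h1 := hu.map π₀
    rw [hg, map_sub, map_mul, map_mul, hπ₀, hπ₀, hx, hx, pr_self, pr_other _ hk 0 1 (by decide), map_zero, mul_zero,
      zero_sub, IsUnit.neg_iff] at h1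
    obtain ⟨v, hv⟩ := (isUnit_of_mul_isUnit_right h1).exists_right_inv
    obtain ⟨n, P, hP⟩ := IsLocalization.Away.surj (pr (IsLocalRing.ResidueField V) hk 0 h) v
    have h2 : (X : (IsLocalRing.ResidueField V)[X]) * P = pr (IsLocalRing.ResidueField V) hk 0 h ^ n :=
      hLinj 0 (by rw [map_mul, ← hP, ← mul_assoc, hv, one_mul, map_pow])
    have h3 := congrArg (Polynomial.eval 0) h2
    rw [eval_mul, eval_X, zero_mul, eval_pow] at h3
    exact hH 0 (pow_eq_zero_iff'.1 h3.symm).1
  obtain ⟨N, hN⟩ := hgdvd
  rw [IsScalarTower.algebraMap_apply V (PolyNodeRing V ϖ) B ϖ, ← x_mul_x 0 1 (by decide), ← hx, ← hx,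
    map_mul, mul_pow] at hN
  obtain ⟨i, hi⟩ : ∃ i : Fin 2, algebraMap _ B (x i) ∣ g := by
    rcases dvd_or_dvd_or_isUnit (hprime 0 1 (by decide)) (hprime 1 0 (by decide)) N hN with hd | hd | hd
    · exact ⟨0, hd⟩
    · exact ⟨1, hd⟩
    · exact absurd hd hgu
  have hndvd : ∀ i j : Fin 2, i ≠ j → ¬ algebraMap _ B (x i) ∣ algebraMap _ B (x j) := by
    intro i j hij hd
    obtain ⟨π, hπ, -, -⟩ := hproj i j hij
    have h1 := map_dvd π hd
    rw [hπ, hπ, hx, hx, pr_self, pr_other _ hk i j hij, map_zero, zero_dvd_iff] at h1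
    exact Polynomial.X_ne_zero (hLinj i (h1.trans (map_zero _).symm))
  refine ⟨?_, ?_⟩
  · -- `df` vanishes on the component
    have hlift : ∀ i : Fin 2, KaehlerDifferential.D V (B ⧸ Ideal.span ({algebraMap _ B (x i)} : Set B)) (Ideal.Quotient.mk _ f) =
        Ideal.Quotient.mk (Ideal.span ({algebraMap _ B (x i)} : Set B)) a •
          KaehlerDifferential.D V (B ⧸ Ideal.span ({algebraMap _ B (x i)} : Set B)) (Ideal.Quotient.mk _ (algebraMap _ B (x 0))) +
        Ideal.Quotient.mk (Ideal.span ({algebraMap _ B (x i)} : Set B)) b •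
          KaehlerDifferential.D V (B ⧸ Ideal.span ({algebraMap _ B (x i)} : Set B)) (Ideal.Quotient.mk _ (algebraMap _ B (x 1))) := by
      intro i
      have h1 := congrArg (KaehlerDifferential.map V V B (B ⧸ Ideal.span ({algebraMap _ B (x i)} : Set B))) hab
      rw [map_add, map_smul, map_smul, KaehlerDifferential.map_D, KaehlerDifferential.map_D, KaehlerDifferential.map_D] at h1
      exact h1.symm
    have hz : ∀ i : Fin 2, Ideal.Quotient.mk (Ideal.span ({algebraMap _ B (x i)} : Set B)) (algebraMap _ B (x i)) = 0 :=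
      fun i => Ideal.Quotient.eq_zero_iff_mem.2 (Ideal.mem_span_singleton_self _)
    rw [hg] at hi
    fin_cases i
    · left
      have hb := ((hprime 0 1 (by decide)).dvd_or_dvd ((dvd_sub_right (dvd_mul_left _ a)).1 hi)).resolve_right (hndvd 0 1 (by decide))
      rw [hlift 0, hz 0, map_zero, smul_zero, zero_add, Ideal.Quotient.eq_zero_iff_mem.2 (Ideal.mem_span_singleton.2 hb), zero_smul]
    · right
      have ha := ((hprime 1 0 (by decide)).dvd_or_dvd ((dvd_sub_left (dvd_mul_left _ b)).1 hi)).resolve_right (hndvd 1 0 (by decide))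
      rw [hlift 1, hz 1, map_zero, smul_zero, add_zero, Ideal.Quotient.eq_zero_iff_mem.2 (Ideal.mem_span_singleton.2 ha), zero_smul]
  · -- contraction in residue characteristic zero
    intro hchar hqf
    obtain ⟨j, hij⟩ : ∃ j, i ≠ j := exists_ne i |>.imp fun _ h => h.symm
    obtain ⟨π, hπ, hπs, -⟩ := hproj i j hij
    have := hLdom i
    obtain ⟨e, he0, he⟩ : ∃ e : IsLocalRing.ResidueField V, e ≠ 0 ∧ ∀ q,
        π (δ (algebraMap _ B q)) =
          algebraMap _ _ (C e * X * derivative (pr (IsLocalRing.ResidueField V) hk i q)) := by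
      refine ⟨if j = 0 then 1 else -1, by split_ifs <;> simp, fun q => ?_⟩
      obtain ⟨p, rfl⟩ := Ideal.Quotient.mk_surjective q
      induction p using MvPolynomial.induction_on with
      | C r =>
        rw [mk_C, ← IsScalarTower.algebraMap_apply, Derivation.map_algebraMap, map_zero, AlgHom.commutes,
          IsScalarTower.algebraMap_apply V (IsLocalRing.ResidueField V) (IsLocalRing.ResidueField V)[X]]
        simp
      | add p q hp hq => simp only [map_add, mul_add, hp, hq]
      | mul_X p l hp =>
        simp only [map_mul, Derivation.leibniz, smul_eq_mul, map_add, hπ, hp, ← hx l, hδ, derivative_mul]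
        rcases eq_or_ne l i with rfl | hl
        · simp only [hx, pr_self, map_zero, zero_mul, mul_zero, derivative_zero, add_zero]
        · obtain rfl : l = j := by omega
          simp only [hx, pr_other _ hk i l hij, derivative_X, mul_one]
          split_ifs <;> simp <;> ring
    obtain ⟨n, q, hnq⟩ := IsLocalization.Away.surj h f
    have hgi : π g = 0 := by
      obtain ⟨t, ht⟩ := hi
      rw [ht, map_mul, hπ, hx, pr_self, map_zero, zero_mul]
    have h1 := congrArg π hnq
    have h2 := congrArg (fun b => π (δ b)) hnq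
    rw [← map_pow] at h1 h2
    simp only [Derivation.leibniz, smul_eq_mul, map_add, map_mul, hgf, hgi, mul_zero, add_zero, he, hπ] at h1 h2
    obtain ⟨c, hc⟩ := exists_eq_C_mul (pr (IsLocalRing.ResidueField V) hk i q)
      (pr (IsLocalRing.ResidueField V) hk i (h ^ n)) (by rw [map_pow]; exact pow_ne_zero _ (hH0 i)) (by
        have h4 : C e * X ≠ 0 := mul_ne_zero (by simpa using he0) X_ne_zero
        refine mul_left_cancel₀ h4 (hLinj i ?_)
        simp only [map_mul] at h2 ⊢
        rw [← h1]
        linear_combination (-algebraMap _ (Localization.Away (pr (IsLocalRing.ResidueField V) hk i h))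
          (pr (IsLocalRing.ResidueField V) hk i (h ^ n))) * h2)
    rw [hc, map_mul] at h1
    have hfc : π f = algebraMap _ _ (C c) := mul_right_cancel₀
      (fun h0 => pow_ne_zero n (hH0 i) (hLinj i (by rw [← map_pow, h0, map_zero]))) h1
    have h5 : π.comp (Polynomial.aeval f : V[X] →ₐ[V] B).toRingHom =
        (algebraMap (IsLocalRing.ResidueField V) (Localization.Away (pr (IsLocalRing.ResidueField V) hk i h))).comp
          (Polynomial.eval₂RingHom (algebraMap V (IsLocalRing.ResidueField V)) c) := by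
      refine Polynomial.ringHom_ext (fun r => ?_) ?_
      · simp only [RingHom.comp_apply, AlgHom.toRingHom_eq_coe, RingHom.coe_coe, aeval_C, Polynomial.coe_eval₂RingHom, eval₂_C]
        rw [IsScalarTower.algebraMap_apply V (PolyNodeRing V ϖ) B, hπ, AlgHom.commutes,
          IsScalarTower.algebraMap_apply V (IsLocalRing.ResidueField V) (IsLocalRing.ResidueField V)[X],
          ← IsScalarTower.algebraMap_apply]
      · simp only [RingHom.comp_apply, AlgHom.toRingHom_eq_coe, RingHom.coe_coe, aeval_X, Polynomial.coe_eval₂RingHom, eval₂_X]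
        rw [hfc, ← Polynomial.algebraMap_eq, ← IsScalarTower.algebraMap_apply]
    have h6 : ((algebraMap (IsLocalRing.ResidueField V) (Localization.Away (pr (IsLocalRing.ResidueField V) hk i h))).comp
          (Polynomial.eval₂RingHom (algebraMap V (IsLocalRing.ResidueField V)) c)).QuasiFinite :=
      h5 ▸ (RingHom.QuasiFinite.of_finite (RingHom.Finite.of_surjective π hπs)).comp hqf
    have := (RingHom.quasiFinite_algebraMap).1 h6.of_comp
    have : Module.Finite (IsLocalRing.ResidueField V) (Localization.Away (pr (IsLocalRing.ResidueField V) hk i h)) :=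
      .of_quasiFinite
    exact Polynomial.not_finite (Module.Finite.of_injective
      (IsScalarTower.toAlgHom (IsLocalRing.ResidueField V) (IsLocalRing.ResidueField V)[X]
        (Localization.Away (pr (IsLocalRing.ResidueField V) hk i h))).toLinearMap (hLinj i))

/-- Let V be a discrete valuation ring of characteristic zero with uniformizer ϖ and perfect residue
field k, let Q = V[x, y]/(xy − ϖ) be the coordinate ring of the standard semistable node over V and
P its closed point x = y = 0 of the closed fibre, let h ∈ Q with h ∉ (x, y), so that B = Q[1/h] is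
the ring of an open neighbourhood of P, and let f ∈ B define a morphism to the affine line over V
which is étale on the generic fibre: B[1/ϖ] is étale over V[T] via T ↦ f. Then df vanishes
identically on one of the two components x = 0, y = 0 of the closed fibre of Spec B: the
differential of the image of f in Ω_{(B/xB)/V} is zero or the differential of the image of f in
Ω_{(B/yB)/V} is zero. If moreover k has characteristic zero, then f contracts that component and the
morphism is not quasi-finite: V[T] → B, T ↦ f, is not a quasi-finite ring map. -/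
theorem result (V : Type u) [CommRing V] [IsDomain V] [IsDiscreteValuationRing V] [CharZero V]
    [PerfectField (IsLocalRing.ResidueField V)] (ϖ : V) (hϖ : Irreducible ϖ)
    (h : (MvPolynomial (Fin 2) V ⧸ Ideal.span {(MvPolynomial.X 0 * MvPolynomial.X 1 - MvPolynomial.C ϖ : MvPolynomial (Fin 2) V)}))
    (hh : h ∉ Ideal.span ({(Ideal.Quotient.mk (Ideal.span {(MvPolynomial.X 0 * MvPolynomial.X 1 - MvPolynomial.C ϖ : MvPolynomial (Fin 2) V)}) (MvPolynomial.X 0 : MvPolynomial (Fin 2) V)), (Ideal.Quotient.mk (Ideal.span {(MvPolynomial.X 0 * MvPolynomial.X 1 - MvPolynomial.C ϖ : MvPolynomial (Fin 2) V)}) (MvPolynomial.X 1 : MvPolynomial (Fin 2) V))} : Set (MvPolynomial (Fin 2) V ⧸ Ideal.span {(MvPolynomial.X 0 * MvPolynomial.X 1 - MvPolynomial.C ϖ : MvPolynomial (Fin 2) V)})))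
    (f : Localization.Away h)
    (hf : ((algebraMap (Localization.Away h)
        (Localization.Away (algebraMap V (Localization.Away h) ϖ))).comp
          (Polynomial.aeval f : Polynomial V →ₐ[V] Localization.Away h).toRingHom).Etale) :
    (KaehlerDifferential.D V (Localization.Away h ⧸ Ideal.span
        ({algebraMap (MvPolynomial (Fin 2) V ⧸ Ideal.span {(MvPolynomial.X 0 * MvPolynomial.X 1 - MvPolynomial.C ϖ : MvPolynomial (Fin 2) V)}) (Localization.Away h) (Ideal.Quotient.mk (Ideal.span {(MvPolynomial.X 0 * MvPolynomial.X 1 - MvPolynomial.C ϖ : MvPolynomial (Fin 2) V)}) (MvPolynomial.X 0 : MvPolynomial (Fin 2) V))} : Set (Localization.Away h)))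
        (Ideal.Quotient.mk _ f) = 0 ∨
     KaehlerDifferential.D V (Localization.Away h ⧸ Ideal.span
        ({algebraMap (MvPolynomial (Fin 2) V ⧸ Ideal.span {(MvPolynomial.X 0 * MvPolynomial.X 1 - MvPolynomial.C ϖ : MvPolynomial (Fin 2) V)}) (Localization.Away h) (Ideal.Quotient.mk (Ideal.span {(MvPolynomial.X 0 * MvPolynomial.X 1 - MvPolynomial.C ϖ : MvPolynomial (Fin 2) V)}) (MvPolynomial.X 1 : MvPolynomial (Fin 2) V))} : Set (Localization.Away h)))
        (Ideal.Quotient.mk _ f) = 0) ∧
    (CharZero (IsLocalRing.ResidueField V) →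
      ¬ (Polynomial.aeval f : Polynomial V →ₐ[V] Localization.Away h).toRingHom.QuasiFinite) :=
  core hϖ hh (Localization.Away h) f hf

end Groth.Agent.S14386
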