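import Groth.Statements.S14387
import Mathlib
import Groth.Agent.Lib.NoethTensor4.Basic
import Groth.Agent.Lib.NoethTensor4.Bound
import Groth.Agent.Lib.Hensel.Noetherian

set_option autoImplicit false
open scoped TensorProduct
universe u
open Hensel

namespace Groth.Agent.S14387

/-- Let V be a strictly henselian discrete valuation ring (henselian with separably closed residue field
k) of characteristic zero with k perfect, L an algebraically closed field algebraic over the
fraction field of V, given as a V-algebra into which V embeds, A a V-algebra of finite type, 𝔭 a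
prime ideal of A lying in the closed fibre (it contains the maximal ideal of V), and B a strict
henselization of the local ring A_𝔭. Then the spectrum of L ⊗_V B, which is the algebraic Milnor
fibre of Spec A → Spec V at a geometric point over 𝔭, has finitely many connected components; being
affine it is also quasi-compact and quasi-separated. (The published statement is for a scheme of
finite type over a henselian discrete valuation ring; this row states the affine case over a
strictly henselian V, to which it reduces.) -/
theorem result (V : Type u) [CommRing V] [IsDomain V]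
    [IsDiscreteValuationRing V] [HenselianLocalRing V] [IsSepClosed (IsLocalRing.ResidueField V)]
    [PerfectField (IsLocalRing.ResidueField V)] [CharZero V]
    (L : Type u) [Field L] [IsAlgClosed L] [Algebra V L] [FaithfulSMul V L] [Algebra.IsAlgebraic V L]
    (A : Type u) [CommRing A] [Algebra V A] [Algebra.FiniteType V A]
    (𝔭 : Ideal A) [𝔭.IsPrime] (h𝔭 : (IsLocalRing.maximalIdeal V).map (algebraMap V A) ≤ 𝔭)
    (B : Type u) [CommRing B] [IsLocalRing B] [Algebra (Localization.AtPrime 𝔭) B]
    [IsLocalHom (algebraMap (Localization.AtPrime 𝔭) B)]
    [Hensel.IsStrictHenselization (Localization.AtPrime 𝔭) B]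
    [Algebra V B] [IsScalarTower V (Localization.AtPrime 𝔭) B] :
    Finite (ConnectedComponents (PrimeSpectrum (L ⊗[V] B))) := by
  haveI : IsAlgClosed (IsLocalRing.ResidueField V) := inferInstance
  let K := FractionRing V
  letI : Algebra K L := FractionRing.liftAlgebra V L
  haveI : CharZero K := charZero_of_injective_algebraMap (R := V) (IsFractionRing.injective V K)
  haveI : Algebra.IsAlgebraic K L := Algebra.IsAlgebraic.extendScalars (IsFractionRing.injective V K)
  haveI : IsNoetherianRing A := Algebra.FiniteType.isNoetherianRing V A
  haveI : IsNoetherianRing B :=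
    (GrothLib.Hensel.IsStrictHenselization.isNoetherianRing_iff (R := Localization.AtPrime 𝔭) (S := B)).1 inferInstance
  haveI : IsLocalHom (algebraMap V B) := by
    have h1 : IsLocalHom (algebraMap V (Localization.AtPrime 𝔭)) := ⟨fun v hv => by
      by_contra hnu
      rw [IsScalarTower.algebraMap_apply V A, IsLocalization.AtPrime.isUnit_to_map_iff _ 𝔭] at hv
      exact hv (h𝔭 (Ideal.mem_map_of_mem _ hnu))⟩
    rw [IsScalarTower.algebraMap_eq V (Localization.AtPrime 𝔭) B]
    infer_instance
  haveI : IsNoetherianRing (K ⊗[V] B) := by
    letI : Algebra B (K ⊗[V] B) := Algebra.TensorProduct.rightAlgebra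
    haveI : IsLocalization (Algebra.algebraMapSubmonoid B (nonZeroDivisors V)) (K ⊗[V] B) :=
      IsLocalization.tensorRight _ _
    exact IsLocalization.isNoetherianRing (Algebra.algebraMapSubmonoid B (nonZeroDivisors V)) _ inferInstance
  haveI := GrothLib.NoethTensor4.isNoetherianRing_tensor (K := K) (L := L) (K ⊗[V] B)
    (fun Ω _ _ φ => by
      letI : Algebra V Ω := ((algebraMap K Ω).comp (algebraMap V K)).toAlgebra
      haveI : IsScalarTower V K Ω := IsScalarTower.of_algebraMap_eq fun _ => rfl
      let g : B →ₐ[V] Ω := (φ.restrictScalars V).comp Algebra.TensorProduct.includeRight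
      obtain ⟨N, hN⟩ := GrothLib.NoethTensor4.exists_finrank_le (K := K) B g
      refine ⟨N, fun F hF hfin => hN F (fun x hx => ?_) hfin⟩
      have hK : ∀ c : K, algebraMap K Ω c ∈ Subfield.closure (Set.range g) := fun c => by
        obtain ⟨a, b, -, rfl⟩ := IsFractionRing.div_surjective (A := V) c
        rw [map_div₀, ← IsScalarTower.algebraMap_apply, ← IsScalarTower.algebraMap_apply]
        exact div_mem (Subfield.subset_closure ⟨_, g.commutes a⟩) (Subfield.subset_closure ⟨_, g.commutes b⟩)
      have hle : IntermediateField.adjoin K (Set.range φ) ≤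
          (Subfield.closure (Set.range g)).toIntermediateField hK := by
        rw [IntermediateField.adjoin_le_iff]
        rintro _ ⟨z, rfl⟩
        induction z using TensorProduct.induction_on with
        | zero => rw [map_zero]; exact zero_mem _
        | tmul c b =>
          have e : φ (c ⊗ₜ b) = algebraMap K Ω c * g b := by
            rw [← φ.commutes c]
            show _ = φ (c ⊗ₜ[V] (1 : B)) * φ (1 ⊗ₜ b)
            rw [← map_mul, Algebra.TensorProduct.tmul_mul_tmul, mul_one, one_mul]
          rw [e]
          exact mul_mem (hK c) (Subfield.subset_closure ⟨b, rfl⟩)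
        | add a b ha hb => rw [map_add]; exact add_mem ha hb
      exact hle (hF hx))
  haveI : IsNoetherianRing (L ⊗[V] B) :=
    isNoetherianRing_of_ringEquiv _ (Algebra.TensorProduct.cancelBaseChange V K K L B).toRingEquiv
  haveI : Finite (irreducibleComponents (PrimeSpectrum (L ⊗[V] B))) :=
    (TopologicalSpace.NoetherianSpace.finite_irreducibleComponents).to_subtype
  have hc : ∀ x : PrimeSpectrum (L ⊗[V] B), ∃ Z : irreducibleComponents (PrimeSpectrum (L ⊗[V] B)), x ∈ Z.1 :=
    fun x => ⟨⟨irreducibleComponent x, irreducibleComponent_mem_irreducibleComponents x⟩, mem_irreducibleComponent⟩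
  refine Finite.of_surjective (fun Z : irreducibleComponents (PrimeSpectrum (L ⊗[V] B)) =>
    ConnectedComponents.mk (Classical.choose Z.2.1.nonempty)) fun c => ?_
  obtain ⟨x, rfl⟩ := ConnectedComponents.surjective_coe c
  obtain ⟨Z, hZ⟩ := hc x
  refine ⟨Z, ?_⟩
  rw [ConnectedComponents.coe_eq_coe']
  exact Z.2.1.isConnected.subset_connectedComponent hZ (Classical.choose_spec Z.2.1.nonempty)

end Groth.Agent.S14387
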