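import Groth.Statements.S14388
import Groth.Agent.Lib.ProTri.Trunc

set_option autoImplicit false
open CategoryTheory CategoryTheory.Limits
universe w v u
open CohDer

namespace Groth.Agent.S14388

/-- Let A be an abelian category, D(A) its derived category with the canonical t-structure and
truncation functors τ_{≥a}, τ_{<b}, and write τ_[a,b] = τ_{≥a} ∘ τ_{<b+1}, so that τ_[q,q] K is
H^q(K) placed in degree q. Let f : K → K' be a morphism in D(A) and q an integer such that the
induced maps H^(q-1)(K) → H^(q-1)(K') and H^q(K) → H^q(K') are both zero. Then there is a unique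
morphism L : τ_[q,q] K → τ_[q-1,q-1] K' such that τ_[q-1,q](f) : τ_[q-1,q] K → τ_[q-1,q] K' is the
composite of the canonical projection τ_[q-1,q] K → τ_[q,q] K, the morphism L, and the canonical
inclusion τ_[q-1,q-1] K' → τ_[q-1,q] K'. (Under τ_[n,n] ≅ H^n(−)[−n] the morphism L corresponds to a
morphism L_f[−q] : H^q(K)[−q] → H^(q-1)(K')[1−q].) -/
theorem result {C : Type u} [Category.{v} C] [Abelian C]
    [HasDerivedCategory.{w} C] {K K' : DerivedCategory C} (f : K ⟶ K') (q : ℤ)
    (h₁ : (DerivedCategory.homologyFunctor C (q - 1)).map f = 0)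
    (h₂ : (DerivedCategory.homologyFunctor C q).map f = 0) :
    ∃! L : ((DerivedCategory.TStructure.t (C := C)).truncGELT q (q + 1)).obj K ⟶
        ((DerivedCategory.TStructure.t (C := C)).truncGELT (q - 1) q).obj K',
      ((DerivedCategory.TStructure.t (C := C)).truncGELT (q - 1) (q + 1)).map f =
        ((DerivedCategory.TStructure.t (C := C)).natTransTruncGEOfLE (q - 1) q (sub_one_lt q).le).app
            (((DerivedCategory.TStructure.t (C := C)).truncLT (q + 1)).obj K) ≫ L ≫
          ((DerivedCategory.TStructure.t (C := C)).truncGE (q - 1)).map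
            (((DerivedCategory.TStructure.t (C := C)).natTransTruncLTOfLE q (q + 1) (lt_add_one q).le).app K') := by
  let t := DerivedCategory.TStructure.t (C := C)
  have hX1 : ((t.truncGELT (q - 1) (q + 1)).obj K).IsGE (q - 1) := t.isGE_truncGE_obj _ _ _
  have hY1 : ((t.truncGELT (q - 1) (q + 1)).obj K').IsGE (q - 1) := t.isGE_truncGE_obj _ _ _
  have : ((t.truncLT (q + 1)).obj K).IsLE q := t.isLE_truncLT_obj K (q + 1) q
  have : ((t.truncLT (q + 1)).obj K').IsLE q := t.isLE_truncLT_obj K' (q + 1) q
  have : ((t.truncLT q).obj K').IsLE (q - 1) := t.isLE_truncLT_obj K' q (q - 1)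
  have hX2 : ((t.truncGELT (q - 1) (q + 1)).obj K).IsLE q := GrothLib.ProTri.isLE_truncGE' _ _ q
  have hY2 : ((t.truncGELT (q - 1) (q + 1)).obj K').IsLE q := GrothLib.ProTri.isLE_truncGE' _ _ q
  have hA1 : ((t.truncGELT (q - 1) q).obj K').IsGE (q - 1) := t.isGE_truncGE_obj _ _ _
  have hA2 : ((t.truncGELT (q - 1) q).obj K').IsLE (q - 1) :=
    GrothLib.ProTri.isLE_truncGE' _ _ (q - 1)
  have hB1 : ((t.truncGELT q (q + 1)).obj K).IsGE q := t.isGE_truncGE_obj _ _ _
  have hB2 : ((t.truncGELT q (q + 1)).obj K).IsLE q := GrothLib.ProTri.isLE_truncGE' _ _ q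
  have hH : ∀ i, i < q + 1 → (DerivedCategory.homologyFunctor C i).map f = 0 →
      (DerivedCategory.homologyFunctor C i).map ((t.truncLT (q + 1)).map f) = 0 := by
    intro i hi h
    have := GrothLib.DerTrunc.isIso_homology_truncLTι K' (q + 1) i hi
    rw [← cancel_mono ((DerivedCategory.homologyFunctor C i).map ((t.truncLTι (q + 1)).app K')),
      ← Functor.map_comp, zero_comp]
    rw [(t.truncLTι (q + 1)).naturality f, Functor.map_comp, Functor.id_map, h, comp_zero]
  have hH' : ∀ i, q - 1 ≤ i → i < q + 1 → (DerivedCategory.homologyFunctor C i).map f = 0 →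
      (DerivedCategory.homologyFunctor C i).map ((t.truncGELT (q - 1) (q + 1)).map f) = 0 := by
    intro i hi' hi h
    have := GrothLib.DerTrunc.isIso_homology_truncGEπ ((t.truncLT (q + 1)).obj K) (q - 1) i hi'
    rw [← cancel_epi ((DerivedCategory.homologyFunctor C i).map
      ((t.truncGEπ (q - 1)).app ((t.truncLT (q + 1)).obj K))), ← Functor.map_comp, comp_zero]
    change (DerivedCategory.homologyFunctor C i).map
      (_ ≫ (t.truncGE (q - 1)).map ((t.truncLT (q + 1)).map f)) = 0
    rw [t.truncGEπ_naturality, Functor.map_comp, hH i hi h, zero_comp]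
  refine GrothLib.ProTri.existsUnique_two (q := q) _ ?_ _ ?_ _ (hH' _ le_rfl (by omega) h₁)
    (hH' _ (by omega) (by omega) h₂)
  · have := GrothLib.DerTrunc.isIso_homology_truncGEπ ((t.truncLT (q + 1)).obj K) (q - 1) q (by omega)
    have := GrothLib.DerTrunc.isIso_homology_truncGEπ ((t.truncLT (q + 1)).obj K) q q le_rfl
    refine IsIso.of_isIso_fac_left (f := (DerivedCategory.homologyFunctor C q).map
      ((t.truncGEπ (q - 1)).app ((t.truncLT (q + 1)).obj K))) (h := (DerivedCategory.homologyFunctor C q).map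
      ((t.truncGEπ q).app ((t.truncLT (q + 1)).obj K))) ?_
    rw [← Functor.map_comp, t.π_natTransTruncGEOfLE_app]
  · have := GrothLib.DerTrunc.isIso_homology_truncGEπ ((t.truncLT q).obj K') (q - 1) (q - 1) le_rfl
    have := GrothLib.DerTrunc.isIso_homology_truncGEπ ((t.truncLT (q + 1)).obj K') (q - 1) (q - 1) le_rfl
    have := GrothLib.DerTrunc.isIso_homology_truncLTι K' q (q - 1) (by omega)
    have := GrothLib.DerTrunc.isIso_homology_truncLTι K' (q + 1) (q - 1) (by omega)
    have e1 : IsIso ((DerivedCategory.homologyFunctor C (q - 1)).map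
        ((t.natTransTruncLTOfLE q (q + 1) (lt_add_one q).le).app K')) := by
      refine IsIso.of_isIso_fac_right (f := (DerivedCategory.homologyFunctor C (q - 1)).map
        ((t.truncLTι (q + 1)).app K')) (h := (DerivedCategory.homologyFunctor C (q - 1)).map
        ((t.truncLTι q).app K')) ?_
      rw [← Functor.map_comp, t.natTransTruncLTOfLE_ι_app]
    refine IsIso.of_isIso_fac_left (f := (DerivedCategory.homologyFunctor C (q - 1)).map
      ((t.truncGEπ (q - 1)).app ((t.truncLT q).obj K'))) (h := (DerivedCategory.homologyFunctor C (q - 1)).map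
      ((t.natTransTruncLTOfLE q (q + 1) (lt_add_one q).le).app K') ≫
        (DerivedCategory.homologyFunctor C (q - 1)).map
      ((t.truncGEπ (q - 1)).app ((t.truncLT (q + 1)).obj K'))) ?_
    rw [← Functor.map_comp, ← Functor.map_comp]
    exact congrArg _ (t.truncGEπ_naturality (q - 1) _)

end Groth.Agent.S14388
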