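import Groth.Statements.S14390
import Mathlib
-- import your own Groth.Agent.* helpers here

set_option autoImplicit false
open CategoryTheory CategoryTheory.Limits AlgebraicGeometry Opposite
universe u
open CAlg

namespace Groth.Agent.S14390

/-- Let V be a discrete valuation ring of characteristic zero with uniformizer ϖ, whose residue field is
perfect of characteristic p > 0, and let f : X → Y be a morphism of schemes of finite type over S =
Spec V (structure morphisms p_X = f ≫ p_Y) whose underlying continuous map is closed. Write X_η =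
p_X⁻¹(D(ϖ)) and Y_η = p_Y⁻¹(D(ϖ)) for the generic fibres, open subschemes whose complements are the
closed fibres. Suppose f is η-étale: there is an open U of X containing the closed fibre (U ∪ X_η =
X) such that the restriction of f to U ∩ X_η is étale. Then there is an open W of Y containing the
closed fibre of Y (W ∪ Y_η = Y) such that the restriction of f to f⁻¹(W) ∩ X_η is étale, i.e.
f⁻¹(W)_η → W_η is étale. -/
theorem result (V : Type u) [CommRing V] [IsDomain V]
    [IsDiscreteValuationRing V] [CharZero V] (ϖ : V) (hϖ : Irreducible ϖ) (p : ℕ) [Fact p.Prime]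
    [CharP (IsLocalRing.ResidueField V) p] [PerfectField (IsLocalRing.ResidueField V)]
    {X Y : Scheme.{u}} (pX : X ⟶ Spec (CommRingCat.of V)) (pY : Y ⟶ Spec (CommRingCat.of V))
    [LocallyOfFiniteType pX] [QuasiCompact pX] [LocallyOfFiniteType pY] [QuasiCompact pY]
    (f : X ⟶ Y) (w : f ≫ pY = pX) (hcl : IsClosedMap f.base)
    (hη : ∃ U : X.Opens, U ⊔ pX ⁻¹ᵁ (PrimeSpectrum.basicOpen ϖ : (Spec (CommRingCat.of V)).Opens) = ⊤ ∧
      Etale ((U ⊓ pX ⁻¹ᵁ (PrimeSpectrum.basicOpen ϖ : (Spec (CommRingCat.of V)).Opens)).ι ≫ f)) :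
    ∃ W : Y.Opens, W ⊔ pY ⁻¹ᵁ (PrimeSpectrum.basicOpen ϖ : (Spec (CommRingCat.of V)).Opens) = ⊤ ∧
      Etale ((f ⁻¹ᵁ W ⊓ pX ⁻¹ᵁ (PrimeSpectrum.basicOpen ϖ : (Spec (CommRingCat.of V)).Opens)).ι ≫ f) := by
  obtain ⟨U, hU, hUet⟩ := hη
  let D : (Spec (CommRingCat.of V)).Opens := PrimeSpectrum.basicOpen ϖ
  have hcov : ∀ x : X, x ∉ U → x ∈ pX ⁻¹ᵁ D := fun x hx => by
    have : x ∈ U ⊔ pX ⁻¹ᵁ D := hU ▸ trivial
    exact this.resolve_left hx
  let W : Y.Opens := ⟨(f.base '' ((U : Set X)ᶜ))ᶜ, (hcl _ U.2.isClosed_compl).isOpen_compl⟩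
  refine ⟨W, eq_top_iff.2 fun y _ => ?_, ?_⟩
  · by_cases hy : y ∈ W
    · exact Or.inl hy
    · have hy' : y ∈ f.base '' ((U : Set X)ᶜ) := not_not.1 hy
      obtain ⟨x, hx, rfl⟩ := hy'
      have h1 := hcov x hx
      rw [← w, Scheme.Hom.comp_preimage] at h1
      exact Or.inr h1
  · have hle : f ⁻¹ᵁ W ⊓ pX ⁻¹ᵁ D ≤ U ⊓ pX ⁻¹ᵁ D := fun x hx =>
      ⟨not_not.1 fun h => hx.1 ⟨x, h, rfl⟩, hx.2⟩
    rw [← X.homOfLE_ι hle, Category.assoc]
    haveI := hUet
    exact inferInstance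

end Groth.Agent.S14390
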