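import Groth.Statements.S14392
import Groth.Agent.Lib.FLCTriv18.PGroup
import Groth.Agent.Lib.TorsorFin18.LocConst
-- import your own Groth.Agent.* helpers here

set_option autoImplicit false
open CategoryTheory CategoryTheory.Limits AlgebraicGeometry Opposite
universe u
open EtCoh

namespace Groth.Agent.S14392

/-- Let p be a prime number and X a connected affine scheme of characteristic p (p = 0 in the ring of
global sections). Then X is a K(π,1) for p-torsion coefficients: for every finite locally constant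
abelian sheaf F on the small étale site of X killed by some power p^h (h ≥ 0, equivalently by an
integer n ≥ 1 whose only prime factor is p), every q > 0 and every class ζ ∈ H^q(X_ét, F), there is
a finite étale surjective morphism g : X' → X such that g^*ζ = 0 in H^q(X'_ét, g⁻¹F). (Exactness of
pullback of abelian sheaves, which always holds, is carried as an instance hypothesis.) -/
theorem result (p : ℕ) [Fact p.Prime] (X : Scheme.{u}) [IsAffine X]
    [ConnectedSpace ↥X] [CharP Γ(X, ⊤) p] (F : EtCoh.Ab X) (hF : EtCoh.IsFiniteLocallyConstant F)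
    (htor : ∃ h : ℕ, EtCoh.KilledBy (p ^ h) F) (q : ℕ) (hq : 0 < q) (ζ : EtCoh.H X F q) :
    ∃ (X' : Scheme.{u}) (g : X' ⟶ X), IsFinite g ∧ Etale g ∧ Surjective g ∧
      ∀ [PreservesFiniteLimits (EtCoh.pull g)], EtCore.Hpull g F q ζ = 0 := by
  obtain ⟨h, hh⟩ := htor
  have h0 : (p : Γ(X, ⊤)) = 0 := CharP.cast_eq_zero _ p
  rcases Nat.lt_or_ge q 2 with h1 | h2
  · obtain rfl : q = 1 := by omega
    obtain ⟨V, hV, hVs, hk⟩ := GrothLib.TorsorFin18.exists_finite_kill F hF ζ
    exact ⟨V.left, V.hom, hV, V.prop, hVs, @hk⟩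
  · obtain ⟨r, rfl⟩ : ∃ r, q = r + 2 := ⟨q - 2, by omega⟩
    obtain ⟨M, _, _, hc⟩ := GrothLib.LocConst.exists_chart_single F hF
    obtain ⟨W, hW, hWs, ⟨e⟩⟩ := GrothLib.FLCTriv18.exists_finite_cover_const hF hc
    refine ⟨W.left, W.hom, hW, W.prop, hWs, ?_⟩
    intro _
    haveI := hW
    haveI : IsAffine W.left := @isAffine_of_isAffineHom W.left X W.hom _ (inferInstanceAs (IsAffine X))
    have h0W : (p : Γ(W.left, ⊤)) = 0 := by
      have := congrArg W.hom.appTop.hom h0
      rwa [map_natCast, map_zero] at this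
    have hM : ∀ m : M, ∃ j : ℕ, p ^ j • m = 0 := fun m => by
      obtain ⟨x⟩ : Nonempty X := inferInstance
      obtain ⟨U, u, hu, a, ha⟩ := hc x
      obtain ⟨t, -⟩ := GrothLib.EtSite.exists_fib (GrothLib.EtSite.gpt x) u
        (hu.trans (GrothLib.EtSite.gpt_default x).symm)
      refine ⟨h, (ha _ _ t).1 ?_⟩
      show GrothLib.EtSite.germ _ F t (a _) = GrothLib.EtSite.germ _ F t (a 0)
      rw [map_nsmul, hh U (a m), map_zero a]
    have hW' := GrothLib.FLCTriv18.subsingleton_H_pGroup W.left p h0W r M hM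
    let E := ((EtCoh.HF W.left (r + 2)).mapIso e).addCommGroupIsoToAddEquiv
    exact E.injective (@Subsingleton.elim _ hW' _ _)

end Groth.Agent.S14392
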