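import Groth.Statements.S14397
import Mathlib.Algebra.Group.Torsion
import Mathlib.LinearAlgebra.Quotient.Basic

set_option autoImplicit false
universe u
open DualGr

namespace Groth.Agent.S14397

/-- Let (V, E) with endpoint map E → V × V be a finite multigraph (loops and parallel edges allowed; the
order of the two endpoints is an auxiliary orientation), and let D_1, …, D_n be finite sets of edges
such that every edge lies outside at least one D_i. For each i let Γ_i be the multigraph obtained by
contracting the edges of D_i, and let H₁(Γ, ℤ) → H₁(Γ_i, ℤ) be the map of cycle lattices (integer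
edge vectors with zero boundary) given by restriction to the surviving edges. Then the map H₁(Γ, ℤ)
→ ⊕_i H₁(Γ_i, ℤ) has torsion-free cokernel. (The published statement is about the connected labelled
dual graph of the closed fibre of a nodal curve, smooth outside a normal crossing divisor with
components D_1, …, D_n, over a Noetherian regular strictly local base; Γ_i is the dual graph of the
fibre over the generic point of D_i, the lattices are identified with the character groups of the
toric parts of the Picard schemes of these fibres, and the map is the generization map of character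
groups; this row states the assertion about cycle lattices, for any finite multigraph, which is what
the argument establishes.) -/
theorem result
    {V E : Type u} [Fintype V] [Fintype E] [DecidableEq V] [DecidableEq E]
    (ends : E → V × V) {n : ℕ} (D : Fin n → Finset E) (hcover : ∀ e : E, ∃ i : Fin n, e ∉ D i) :
    IsAddTorsionFree (((i : Fin n) → ↥(DualGr.cycleLattice (DualGr.ctrEnds ends (D i)))) ⧸
      LinearMap.range (LinearMap.pi fun i : Fin n => DualGr.genMap ends (D i))) := by
  classical
  refine ⟨fun k hn a b hab => ?_⟩
  obtain ⟨x, rfl⟩ := Submodule.Quotient.mk_surjective _ a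
  obtain ⟨y, rfl⟩ := Submodule.Quotient.mk_surjective _ b
  simp only at hab
  rw [← Submodule.Quotient.mk_smul, ← Submodule.Quotient.mk_smul, Submodule.Quotient.eq] at hab
  obtain ⟨γ, hγ⟩ := hab
  have hi : ∀ (i : Fin n) (e : E) (he : e ∉ D i),
      γ.1 e = (k : ℤ) * ((x i).1 ⟨e, he⟩ - (y i).1 ⟨e, he⟩) := by
    intro i e he
    have := congrFun (congrArg Subtype.val (congrFun hγ i)) ⟨e, he⟩
    simpa [DualGr.genMap, DualGr.resE, mul_sub] using this
  choose i hie using hcover
  let γ' : E → ℤ := fun e => (x (i e)).1 ⟨e, hie e⟩ - (y (i e)).1 ⟨e, hie e⟩
  have hn' : (k : ℤ) ≠ 0 := by exact_mod_cast hn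
  have hsm : γ.1 = (k : ℤ) • γ' := funext fun e => hi (i e) e (hie e)
  have hmem : γ' ∈ DualGr.cycleLattice ends := by
    have := γ.2
    rw [hsm] at this
    simp only [DualGr.cycleLattice, LinearMap.mem_ker, map_smul] at this ⊢
    exact (smul_eq_zero.mp this).resolve_left hn'
  rw [Submodule.Quotient.eq]
  refine ⟨⟨γ', hmem⟩, funext fun j => Subtype.ext (funext fun e => ?_)⟩
  refine mul_left_cancel₀ hn' ?_
  have := hi j e.1 e.2
  rw [hsm] at this
  simpa [DualGr.genMap, DualGr.resE] using this

end Groth.Agent.S14397
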