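import Groth.Statements.S14399
import Groth.Agent.Lib.ArSurf29.DegZero
import Groth.Agent.Lib.ArSurf29.NodeReduced
import Groth.Agent.Lib.ArSurf29.Horizontal

set_option autoImplicit false
universe u
open CategoryTheory AlgebraicGeometry
open SemiFact

namespace Groth.Agent.S14399

/-- Let R be a discrete valuation ring with perfect fraction field K and residue field k, and f : X →
Spec R a nodal curve (proper, flat, locally of finite presentation, geometric fibres connected with
one-dimensional irreducible components and at most ordinary double points) whose special fibre X_k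
has split singularities: every closed point of X_k either has an open neighbourhood smooth over k or
has completed local ring isomorphic over k to k[[u,v]]/(uv). Let L be an invertible O_X-module whose
pullback to the generic fibre X_K is isomorphic to the structure sheaf. If the degree over k of the
restriction of L to every irreducible component of X_k — each taken with its reduced structure, as
an integral curve over k closed-immersed in X over Spec R — is zero, then L is isomorphic to O_X.
(The published lemma states that the multidegree of generically trivial invertible modules is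
computed by the multidegree operator on Cartier vertex labellings of the labelled dual graph, and
its proof records that this multidegree map on generically trivial invertible modules is injective;
this row is that injectivity.) -/
theorem result
    (R : Type u) [CommRing R] [IsDomain R] [IsDiscreteValuationRing R]
    [PerfectField (FractionRing R)]
    {X : Scheme.{u}} (f : X ⟶ Spec (CommRingCat.of R)) [IsProper f]
    (hf : Curv2.IsNodalFamily f)
    (hconn : ∀ (L : Type u) [Field L] (t : Spec (CommRingCat.of L) ⟶ Spec (CommRingCat.of R)),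
      ConnectedSpace ↑(Limits.pullback f t))
    (hsplit : ∀ y : ↥(f.fiber (IsLocalRing.closedPoint R)), IsClosed ({y} : Set ↥(f.fiber (IsLocalRing.closedPoint R))) →
        (∃ W : (f.fiber (IsLocalRing.closedPoint R)).Opens, y ∈ W ∧ Smooth (W.ι ≫ f.fiberToSpecResidueField (IsLocalRing.closedPoint R))) ∨
        @Curv2.IsOrdDoublePt ((Spec (CommRingCat.of R)).residueField (IsLocalRing.closedPoint R)) _ ((f.fiber (IsLocalRing.closedPoint R)).presheaf.stalk y) _ (@Curv2.stalkAlgebra ((Spec (CommRingCat.of R)).residueField (IsLocalRing.closedPoint R)) _ (f.fiber (IsLocalRing.closedPoint R)) ⟨f.fiberToSpecResidueField (IsLocalRing.closedPoint R)⟩ y) _)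
    (L : X.Modules) (hL : PicF.IsInvertible L)
    (hgen : Nonempty ((Scheme.Modules.pullback (Limits.pullback.fst f (Neron.genPt R))).obj L ≅
      Coh.structureModule (Limits.pullback f (Neron.genPt R))))
    (hdeg : ∀ Γ : ArSurf.VertComp R (Over.mk f), ArSurf.inter R (Over.mk f) L Γ = 0) :
    Nonempty (L ≅ Coh.structureModule X) := by
  classical
  haveI : Flat f := hf.1
  haveI : IsLocallyNoetherian X := LocallyOfFiniteType.isLocallyNoetherian f
  haveI : IsProper (Over.mk f).hom := (inferInstance : IsProper f)
  haveI : Flat (Over.mk f).hom := (inferInstance : Flat f)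
  haveI : IsLocallyNoetherian (Over.mk f).left := (inferInstance : IsLocallyNoetherian X)
  obtain ⟨π, hπ⟩ := IsDiscreteValuationRing.exists_irreducible R
  let s : ↥(Spec (CommRingCat.of R)) := IsLocalRing.closedPoint R
  let i : f.fiber s ⟶ X := f.fiberι s
  haveI : IsClosedImmersion ((Spec (CommRingCat.of R)).fromSpecResidueField s) :=
    isClosed_singleton_iff_isClosedImmersion.1 (IsLocalRing.isClosed_singleton_closedPoint R)
  haveI : IsClosedImmersion i := MorphismProperty.pullback_fst _ _ inferInstance
  haveI : LocallyOfFiniteType (f.fiberToSpecResidueField s) := MorphismProperty.pullback_snd _ _ inferInstance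
  haveI : IsLocallyNoetherian (f.fiber s) := LocallyOfFiniteType.isLocallyNoetherian i
  haveI hfr : IsReduced (f.fiber s) := by
    refine GrothLib.ArSurf29.isReduced_of_closedPoints
      (k := (Spec (CommRingCat.of R)).residueField s) (f.fiberToSpecResidueField s) fun y hy => ?_
    rcases hsplit y hy with ⟨W, hyW, hW⟩ | h
    · haveI := hW
      haveI : IsReduced W.toScheme := GrothLib.RedSmooth.isReduced_of_smooth (W.ι ≫ f.fiberToSpecResidueField s)
      exact isReduced_of_injective (W.stalkIso ⟨y, hyW⟩).inv.hom
        (ConcreteCategory.bijective_of_isIso (W.stalkIso ⟨y, hyW⟩).inv).1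
    · exact @GrothLib.ArSurf29.isReduced_of_isOrdDoublePt _ _ _ _ (_) _ _ h
  have hkeri : i.ker = Models.specialFibreIdeal R (Over.mk f) := by
    show (Limits.pullback.fst f ((Spec (CommRingCat.of R)).fromSpecResidueField s)).ker = _
    rw [Scheme.IdealSheafData.ker_fst_of_isClosedImmersion, Models.specialFibreIdeal]
    refine congrArg (fun I => Scheme.IdealSheafData.comap I f) ?_
    refine Scheme.IdealSheafData.ext_of_isAffine ?_
    rw [Curv2.idealSheaf, Scheme.IdealSheafData.ofIdealTop_ideal, Scheme.Hom.ker_apply]
    simp only [homOfLE_refl, op_id, CategoryTheory.Functor.map_id, CommRingCat.hom_id, Ideal.map_id]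
    haveI := (IsLocalRing.maximalIdeal.isMaximal R)
    have hmax : ((IsLocalRing.maximalIdeal R).map (Scheme.ΓSpecIso (CommRingCat.of R)).inv.hom).IsMaximal :=
      (Ideal.isMaximal_map_iff_of_bijective _ (ConcreteCategory.bijective_of_isIso (Scheme.ΓSpecIso (CommRingCat.of R)).inv)).2 inferInstance
    haveI : Nontrivial Γ(Spec ((Spec (CommRingCat.of R)).residueField s), ⊤) :=
      (Scheme.ΓSpecIso ((Spec (CommRingCat.of R)).residueField s)).commRingCatIsoToRingEquiv.toEquiv.nontrivial
    haveI : Nontrivial Γ(Spec ((Spec (CommRingCat.of R)).residueField s), ((Spec (CommRingCat.of R)).fromSpecResidueField s) ⁻¹ᵁ ⊤) :=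
      ‹Nontrivial Γ(Spec ((Spec (CommRingCat.of R)).residueField s), ⊤)›
    refine (hmax.eq_of_le (RingHom.ker_ne_top _) ?_).symm
    rw [Ideal.map_le_iff_le_comap]
    intro b hb
    rw [Ideal.mem_comap, RingHom.mem_ker]
    by_contra hne
    have hfld : IsField Γ(Spec ((Spec (CommRingCat.of R)).residueField s), ⊤) :=
      (Scheme.ΓSpecIso ((Spec (CommRingCat.of R)).residueField s)).commRingCatIsoToRingEquiv.toMulEquiv.isField (Field.toIsField _)
    letI := hfld.toField
    have hu : IsUnit (((Spec (CommRingCat.of R)).fromSpecResidueField s).appTop ((Scheme.ΓSpecIso (CommRingCat.of R)).inv b)) :=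
      isUnit_iff_ne_zero.2 hne
    have hmem : IsLocalRing.closedPoint ((Spec (CommRingCat.of R)).residueField s) ∈
        ((Spec (CommRingCat.of R)).fromSpecResidueField s) ⁻¹ᵁ ((Spec (CommRingCat.of R)).basicOpen ((Scheme.ΓSpecIso (CommRingCat.of R)).inv b)) := by
      rw [Scheme.preimage_basicOpen_top, Scheme.basicOpen_of_isUnit _ hu]
      trivial
    have hmem2 : ((Spec (CommRingCat.of R)).fromSpecResidueField s) (IsLocalRing.closedPoint ((Spec (CommRingCat.of R)).residueField s)) ∈
        (Spec (CommRingCat.of R)).basicOpen ((Scheme.ΓSpecIso (CommRingCat.of R)).inv b) := hmem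
    rw [Scheme.fromSpecResidueField_apply, basicOpen_eq_of_affine] at hmem2
    exact hmem2 hb
  have hred : ∀ x ∈ Models.specialFibreSet R (Over.mk f),
      (Ideal.span {Models.stalkHom R (Over.mk f) x π}).IsRadical := by
    intro x hx
    obtain ⟨y, rfl⟩ : x ∈ Set.range i := by
      show x ∈ Set.range (f.fiberι s)
      rw [Scheme.Hom.range_fiberι]
      exact hx
    have hk : RingHom.ker (i.stalkMap y).hom = Ideal.span {Models.stalkHom R (Over.mk f) (i y) π} := by
      refine (GrothLib.ArSurf29.ker_stalkMap_eq_stalkIdeal i y).trans ?_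
      rw [hkeri, GrothLib.ArSurf29.st_fibre, hπ.maximalIdeal_eq, Ideal.map_span, Set.image_singleton]
    rw [← hk]
    intro a ha
    obtain ⟨n, hn⟩ := ha
    rw [RingHom.mem_ker] at hn ⊢
    exact IsReduced.eq_zero _ ⟨n, by rw [← map_pow]; exact hn⟩
  let eF : ↥(Models.specialFibreSet R (Over.mk f)) ≃ₜ f.fiber s := (f.fiberHomeo s).symm
  have hcomp : ∀ Z ∈ irreducibleComponents ↥(Models.specialFibreSet R (Over.mk f)), topologicalKrullDim Z = 1 := by
    intro Z hZ
    have hZ' : eF '' Z ∈ irreducibleComponents ↥(f.fiber s) := by
      refine ⟨hZ.1.image _ eF.continuous.continuousOn, fun S hS hle a ha => ⟨eF.symm a, ?_, eF.apply_symm_apply a⟩⟩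
      exact hZ.2 (hS.image _ eF.symm.continuous.continuousOn)
        (fun z hz => ⟨eF z, hle ⟨z, hz, rfl⟩, eF.symm_apply_apply z⟩) ⟨a, ha, rfl⟩
    rw [← (hf.2.2 s).1 _ hZ']
    exact (eF.image Z).isHomeomorph.topologicalKrullDim_eq
  have hconn' : _root_.IsConnected (Models.specialFibreSet R (Over.mk f)) := by
    haveI : ConnectedSpace ↥(f.fiber s) := hconn _ ((Spec (CommRingCat.of R)).fromSpecResidueField s)
    rw [isConnected_iff_connectedSpace]
    exact eF.symm.surjective.connectedSpace eF.symm.continuous
  exact GrothLib.ArSurf29.nonempty_iso_structure_of_deg_zero (X := Over.mk f) hL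
    (IsPullback.of_hasPullback f (Neron.genPt R)) hπ hred hcomp hconn' hgen hdeg

end Groth.Agent.S14399
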