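import Groth.Statements.S1440
import Groth.Agent.Lib.Constr.Basic
-- import your own Groth.Agent.* helpers here

set_option autoImplicit false
set_option linter.style.haveILetI false
universe u
open FlatMor

namespace Groth.Agent.S1440

open AlgebraicGeometry CategoryTheory Limits in
/-- Let f : X → Y be locally of finite presentation with Y quasi-compact and quasi-separated, and assume
f is completely decomposed: every point y of Y is the image of a point x at which the residue field
extension is trivial. Then there are finitely many immersions Z_i → Y of finite presentation,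
jointly surjective, such that each base change X ×_Y Z_i → Z_i admits a section. -/
theorem result {X Y : Scheme.{u}} (f : X ⟶ Y) [LocallyOfFinitePresentation f] [CompactSpace ↑Y] [QuasiSeparatedSpace ↑Y]
    (hcd : ∀ y : Y, ∃ x : X, f x = y ∧ Function.Bijective (f.residueFieldMap x)) :
    ∃ (n : ℕ) (Z : Fin n → Scheme.{u}) (z : ∀ i, Z i ⟶ Y), (∀ y : Y, ∃ i, y ∈ Set.range ⇑(z i)) ∧
      ∀ i, IsImmersion (z i) ∧ LocallyOfFinitePresentation (z i) ∧ QuasiCompact (z i) ∧ QuasiSeparated (z i) ∧
        ∃ s : Z i ⟶ pullback f (z i), s ≫ pullback.snd f (z i) = 𝟙 (Z i) := by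
    classical
    have piece : ∀ y : Y, ∃ (Z : Scheme.{u}) (z : Z ⟶ Y), y ∈ Set.range ⇑z ∧ IsImmersion z ∧
        LocallyOfFinitePresentation z ∧ QuasiCompact z ∧
        ∃ s : Z ⟶ pullback f z, s ≫ pullback.snd f z = 𝟙 Z := by
      intro y
      obtain ⟨x, rfl, hbij⟩ := hcd y
      obtain ⟨V, hV, hyV, -⟩ := exists_isAffineOpen_mem_and_subset (show f x ∈ (⊤ : Y.Opens) from trivial)
      obtain ⟨W, hW, hxW, hWV⟩ := exists_isAffineOpen_mem_and_subset (show x ∈ f ⁻¹ᵁ V from hyV)
      let φ := f.appLE V W hWV
      have hφ : φ.hom.FinitePresentation :=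
        HasRingHomProperty.appLE (P := @LocallyOfFinitePresentation) f ‹_› ⟨V, hV⟩ ⟨W, hW⟩ hWV
      let evY : Γ(Y, V) ⟶ Y.residueField (f x) := Y.presheaf.germ V (f x) hyV ≫ Y.residue (f x)
      let evX : Γ(X, W) ⟶ X.residueField x := X.presheaf.germ W x hxW ≫ X.residue x
      have hcomm : φ ≫ evX = evY ≫ f.residueFieldMap x := by
        simp only [φ, evX, evY, Category.assoc, Scheme.residue_residueFieldMap, Scheme.Hom.appLE]
        rw [TopCat.Presheaf.germ_res_assoc, Scheme.Hom.germ_stalkMap_assoc]
      let e : Y.residueField (f x) ≃+* X.residueField x := RingEquiv.ofBijective (f.residueFieldMap x).hom hbij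
      let σ : Γ(X, W) →+* Y.residueField (f x) := e.symm.toRingHom.comp evX.hom
      have hσ : σ.comp φ.hom = evY.hom := by
        ext r
        show e.symm (evX.hom (φ.hom r)) = evY.hom r
        rw [RingEquiv.symm_apply_eq]
        exact congrArg (fun m => m.hom r) hcomm
      letI : Algebra Γ(Y, V) Γ(X, W) := φ.hom.toAlgebra
      obtain ⟨n, π, hπ, hker⟩ := (hφ : Algebra.FinitePresentation Γ(Y, V) Γ(X, W))
      obtain ⟨P, hP⟩ := hker
      have hfrac : ∀ z : Y.residueField (f x), ∃ a d : Γ(Y, V), evY.hom d ≠ 0 ∧ evY.hom d * z = evY.hom a := by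
        intro z
        obtain ⟨s, rfl⟩ := Y.residue_surjective (f x) z
        haveI := hV.isLocalization_stalk ⟨f x, hyV⟩
        letI := Y.presheaf.algebra_section_stalk (⟨f x, hyV⟩ : V)
        obtain ⟨⟨a, d⟩, hd⟩ := IsLocalization.surj (hV.primeIdealOf ⟨f x, hyV⟩).asIdeal.primeCompl s
        refine ⟨a, d.1, fun h0 => ((IsLocalRing.residue_eq_zero_iff _).1 h0)
          (IsLocalization.map_units (M := (hV.primeIdealOf ⟨f x, hyV⟩).asIdeal.primeCompl) (Y.presheaf.stalk (f x)) d), ?_⟩
        show (Y.residue (f x)).hom _ * (Y.residue (f x)).hom _ = (Y.residue (f x)).hom _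
        rw [← map_mul, mul_comm]
        exact congrArg _ hd
      choose a d hd hda using fun i : Fin n => hfrac (σ (π (MvPolynomial.X i)))
      let g : Γ(Y, V) := ∏ i, d i
      let L := Localization.Away g
      have hg : IsUnit (evY.hom g) := (Ne.isUnit (by
        simp only [g, map_prod]; exact Finset.prod_ne_zero_iff.2 fun i _ => hd i))
      let ψ : L →+* Y.residueField (f x) := IsLocalization.Away.lift g hg
      have hψ : ∀ r, ψ (algebraMap Γ(Y, V) L r) = evY.hom r := IsLocalization.Away.lift_eq g hg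
      have hdu : ∀ i, IsUnit (algebraMap Γ(Y, V) L (d i)) := fun i =>
        isUnit_of_dvd_unit (map_dvd _ (Finset.dvd_prod_of_mem d (Finset.mem_univ i))) (IsLocalization.Away.algebraMap_isUnit g)
      let c : Fin n → L := fun i => algebraMap Γ(Y, V) L (a i) * ↑(hdu i).unit⁻¹
      have hc : ∀ i, ψ (c i) = σ (π (MvPolynomial.X i)) := fun i => by
        have h1 : c i * algebraMap Γ(Y, V) L (d i) = algebraMap Γ(Y, V) L (a i) := by
          simp only [c, mul_assoc, IsUnit.val_inv_mul, mul_one]
        have h2 := congrArg ψ h1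
        rw [map_mul, hψ, hψ, ← hda i, mul_comm] at h2
        exact mul_left_cancel₀ (hd i) h2
      let ev : MvPolynomial (Fin n) Γ(Y, V) →ₐ[Γ(Y, V)] L := MvPolynomial.aeval c
      have hev : ψ.comp ev.toRingHom = σ.comp π.toRingHom := by
        refine MvPolynomial.ringHom_ext (fun r => ?_) (fun i => ?_)
        · show ψ (MvPolynomial.aeval c (MvPolynomial.C r)) = σ (π (MvPolynomial.C r))
          rw [MvPolynomial.aeval_C, hψ, ← MvPolynomial.algebraMap_eq, AlgHom.commutes]
          exact (DFunLike.congr_fun hσ r).symm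
        · show ψ (MvPolynomial.aeval c (MvPolynomial.X i)) = σ (π (MvPolynomial.X i))
          rw [MvPolynomial.aeval_X, hc]
      let J : Ideal L := (RingHom.ker π.toRingHom).map ev.toRingHom
      have hJ : J.FG := Ideal.FG.map ⟨P, hP⟩ ev.toRingHom
      have hJψ : ∀ v ∈ J, ψ v = 0 := by
        intro v hv
        refine (RingHom.mem_ker).1 ((Ideal.map_le_iff_le_comap.2 fun p hp => ?_ : J ≤ RingHom.ker ψ) hv)
        rw [Ideal.mem_comap, RingHom.mem_ker, ← RingHom.comp_apply, hev, RingHom.comp_apply,
          RingHom.mem_ker.1 hp, map_zero]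
      haveI : Algebra.FinitePresentation Γ(Y, V) L := IsLocalization.Away.finitePresentation g
      haveI : Algebra.FinitePresentation Γ(Y, V) (L ⧸ J) := Algebra.FinitePresentation.quotient hJ
      let ρ : Γ(X, W) →ₐ[Γ(Y, V)] L ⧸ J :=
        (Ideal.Quotient.liftₐ (RingHom.ker π.toRingHom) ((Ideal.Quotient.mkₐ _ J).comp ev) fun p hp =>
          Ideal.Quotient.eq_zero_iff_mem.2 (Ideal.mem_map_of_mem _ hp)).comp
          (Ideal.quotientKerAlgEquivOfSurjective hπ).symm.toAlgHom
      let z : Spec (CommRingCat.of (L ⧸ J)) ⟶ Y :=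
        Spec.map (CommRingCat.ofHom (algebraMap Γ(Y, V) (L ⧸ J))) ≫ hV.fromSpec
      have himm : IsImmersion z := by
        have : z = Spec.map (CommRingCat.ofHom (Ideal.Quotient.mk J)) ≫
            Spec.map (CommRingCat.ofHom (algebraMap Γ(Y, V) L)) ≫ hV.fromSpec := by
          rw [← Spec.map_comp_assoc, ← CommRingCat.ofHom_comp]
        rw [this]
        haveI := IsClosedImmersion.spec_of_surjective (CommRingCat.ofHom (Ideal.Quotient.mk J)) Ideal.Quotient.mk_surjective
        haveI : IsOpenImmersion (Spec.map (CommRingCat.ofHom (algebraMap Γ(Y, V) L))) :=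
          IsOpenImmersion.of_isLocalization g
        infer_instance
      haveI : LocallyOfFinitePresentation (Spec.map (CommRingCat.ofHom (algebraMap Γ(Y, V) (L ⧸ J)))) :=
        (HasRingHomProperty.Spec_iff (P := @LocallyOfFinitePresentation)).2
          (RingHom.finitePresentation_algebraMap.2 inferInstance)
      haveI : QuasiCompact hV.fromSpec := inferInstance
      refine ⟨_, z, ?_, himm, inferInstance, inferInstance, ?_⟩
      · let ψT : L ⧸ J →+* Y.residueField (f x) := Ideal.Quotient.lift J ψ hJψ
        refine ⟨(Spec.map (CommRingCat.ofHom ψT)) (IsLocalRing.closedPoint (Y.residueField (f x))), ?_⟩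
        have h1 : Spec.map (CommRingCat.ofHom ψT) ≫ z = Y.fromSpecResidueField (f x) := by
          rw [← Spec.map_comp_assoc, Scheme.fromSpecResidueField, ← hV.fromSpecStalk_eq_fromSpecStalk hyV,
            IsAffineOpen.fromSpecStalk, ← Spec.map_comp_assoc]
          congr 2
          ext r
          show ψT (Ideal.Quotient.mk J (algebraMap Γ(Y, V) L r)) = evY.hom r
          exact hψ r
        show (Spec.map (CommRingCat.ofHom ψT) ≫ z) _ = f x
        rw [h1, Scheme.fromSpecResidueField_apply]
      · have h1 : (Spec.map (CommRingCat.ofHom ρ.toRingHom) ≫ hW.fromSpec) ≫ f = 𝟙 _ ≫ z := by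
          rw [Category.id_comp, Category.assoc, ← IsAffineOpen.SpecMap_appLE_fromSpec f hV hW hWV, ← Spec.map_comp_assoc]
          congr 2
          ext r
          exact ρ.commutes r
        exact ⟨pullback.lift _ _ h1, pullback.lift_snd _ _ h1⟩
    choose Z z hy himm hfp hqc hsec using piece
    have hopen : ∀ y : Y, @IsOpen ↑Y (constructibleTopology ↑Y) (Set.range ⇑(z y)) := fun y => by
      haveI := hfp y
      haveI := hqc y
      have h := (z y).isConstructible_image (Topology.IsConstructible.univ (X := ↑(Z y)))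
      rw [Set.image_univ] at h
      exact (GrothLib.Constr.isOpen_constructibleTopology_of_isConstructible h).1
    obtain ⟨t, ht⟩ := @IsCompact.elim_finite_subcover ↑Y (constructibleTopology ↑Y) Set.univ ↑Y
      (@isCompact_univ ↑Y (constructibleTopology ↑Y) GrothLib.Constr.compactSpace_constructibleTopology)
      (fun y : Y => Set.range ⇑(z y)) hopen (fun y _ => Set.mem_iUnion.2 ⟨y, hy y⟩)
    refine ⟨t.card, fun i => Z (t.equivFin.symm i), fun i => z (t.equivFin.symm i), fun y => ?_, fun i => ?_⟩
    · obtain ⟨y', hy', hmem⟩ := Set.mem_iUnion₂.1 (ht (Set.mem_univ y))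
      exact ⟨t.equivFin ⟨y', hy'⟩, show y ∈ Set.range ⇑(z (t.equivFin.symm (t.equivFin ⟨y', hy'⟩))) by rw [Equiv.symm_apply_apply]; exact hmem⟩
    · haveI := himm (t.equivFin.symm i)
      exact ⟨himm _, hfp _, hqc _, inferInstance, hsec _⟩

end Groth.Agent.S1440
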