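import Groth.Statements.S14400
import Mathlib.AlgebraicGeometry.EffectiveEpi
import Mathlib.AlgebraicGeometry.Sites.Fpqc
import Mathlib.AlgebraicGeometry.Pullbacks
import Mathlib.AlgebraicGeometry.Limits
import Mathlib.FieldTheory.Fixed
import Mathlib.FieldTheory.Galois.Basic
open CategoryTheory.Limits
open scoped TensorProduct

set_option autoImplicit false
universe u
open CategoryTheory CategoryTheory.Limits AlgebraicGeometry
open Desc

namespace Groth.Agent.S14400

/-- Let K/k be a finite Galois extension of fields, X and Y schemes over k with base changes X_K and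
Y_K, and g : X_K ⟶ Y_K a morphism over Spec K. Then g is the base change of a k-morphism f : X ⟶ Y
(that is, g followed by the projection Y_K ⟶ Y is the projection X_K ⟶ X followed by f) if and only
if g commutes with the action of every k-automorphism σ of K on X_K and on Y_K (the identity on X,
resp. Y, and Spec σ on the factor Spec K). In other words the image of the k-morphisms X ⟶ Y among
the K-morphisms X_K ⟶ Y_K is exactly the set of Galois-invariant ones. -/
theorem result (k : Type u) [Field k] (K : Type u) [Field K]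
    [Algebra k K] [FiniteDimensional k K] [IsGalois k K]
    (X Y : Scheme.{u}) [X.Over (Spec (CommRingCat.of k))] [Y.Over (Spec (CommRingCat.of k))]
    (g : Curv2.bc k X K ⟶ Curv2.bc k Y K) (hg : g ≫ Curv2.bcSnd k Y K = Curv2.bcSnd k X K) :
    (∃ f : X ⟶ Y, f ≫ (Y ↘ Spec (CommRingCat.of k)) = X ↘ Spec (CommRingCat.of k) ∧
        g ≫ Curv2.bcFst k Y K = Curv2.bcFst k X K ≫ f) ↔
      ∀ σ : K ≃ₐ[k] K, Curv2.galAct k X K σ ≫ g = g ≫ Curv2.galAct k Y K σ := by
  set p := Curv2.bcFst k X K with hp
  constructor
  · rintro ⟨f, hf, hgf⟩ σ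
    apply pullback.hom_ext
    · change (Curv2.galAct k X K σ ≫ g) ≫ Curv2.bcFst k Y K = (g ≫ Curv2.galAct k Y K σ) ≫ Curv2.bcFst k Y K
      rw [Category.assoc, Category.assoc, hgf,
        show Curv2.galAct k Y K σ ≫ Curv2.bcFst k Y K = Curv2.bcFst k Y K from (pullback.lift_fst _ _ _).trans (Category.comp_id _),
        hgf, ← Category.assoc,
        show Curv2.galAct k X K σ ≫ p = p from (pullback.lift_fst _ _ _).trans (Category.comp_id _)]
    · change (Curv2.galAct k X K σ ≫ g) ≫ Curv2.bcSnd k Y K = (g ≫ Curv2.galAct k Y K σ) ≫ Curv2.bcSnd k Y K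
      rw [Category.assoc, Category.assoc, hg,
        show Curv2.galAct k Y K σ ≫ Curv2.bcSnd k Y K = Curv2.bcSnd k Y K ≫ _ from pullback.lift_snd _ _ _,
        show Curv2.galAct k X K σ ≫ Curv2.bcSnd k X K = Curv2.bcSnd k X K ≫ _ from pullback.lift_snd _ _ _,
        reassoc_of% hg]
  · intro hequiv
    let e := Spec.map (CommRingCat.ofHom (algebraMap k K))
    have : Surjective e := ⟨fun x => ⟨IsLocalRing.closedPoint K, Subsingleton.elim (α := PrimeSpectrum k) _ _⟩⟩
    have : Flat p := inferInstanceAs (Flat (pullback.fst _ e))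
    have : Surjective p := inferInstanceAs (Surjective (pullback.fst _ e))
    have : QuasiCompact p := inferInstanceAs (QuasiCompact (pullback.fst _ e))
    -- `K ⊗ K ≅ ∏ K`
    let ψ : ∀ σ : K ≃ₐ[k] K, K ⊗[k] K →ₐ[k] K := fun σ =>
      Algebra.TensorProduct.lift (AlgHom.id k K) σ.toAlgHom fun _ _ => Commute.all _ _
    let Ψ : K ⊗[k] K →+* ((K ≃ₐ[k] K) → K) := RingHom.pi fun σ => (ψ σ).toRingHom
    have hΨ : Function.Bijective Ψ := by
      let L : K ⊗[k] K →ₗ[K] ((K ≃ₐ[k] K) → K) := LinearMap.pi fun σ =>
        (Algebra.TensorProduct.lift (AlgHom.id K K) σ.toAlgHom fun _ _ => Commute.all _ _).toLinearMap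
      have hsurj : Function.Surjective L := by
        rw [← LinearMap.range_eq_top]
        by_contra hne
        obtain ⟨φ, hφ, hle⟩ := Submodule.exists_le_ker_of_lt_top _ (lt_top_iff_ne_top.2 hne)
        refine hφ ?_
        classical
        have hc : ∀ σ, φ (Pi.single σ 1) = 0 := by
          refine Fintype.linearIndependent_iff.1 ((linearIndependent_toLinearMap k K K).comp
            (fun σ : K ≃ₐ[k] K => σ.toAlgHom) AlgEquiv.coe_algHom_injective) (fun σ => φ (Pi.single σ 1)) ?_
          ext b
          have hb := hle ⟨(1 : K) ⊗ₜ[k] b, rfl⟩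
          rw [LinearMap.mem_ker, pi_eq_sum_univ (L ((1 : K) ⊗ₜ[k] b)), map_sum] at hb
          simp only [map_smul, smul_eq_mul] at hb
          rw [LinearMap.zero_apply, LinearMap.sum_apply, ← hb]
          refine Finset.sum_congr rfl fun σ _ => ?_
          have : (Pi.single σ (1 : K) : (K ≃ₐ[k] K) → K) = fun j => if σ = j then (1 : K) else 0 := by
            ext j; simp [Pi.single_apply, eq_comm]
          simp [L, this, mul_comm]
        refine LinearMap.ext fun v => ?_
        rw [pi_eq_sum_univ v, map_sum]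
        refine Finset.sum_eq_zero fun σ _ => ?_
        have : (Pi.single σ (1 : K) : (K ≃ₐ[k] K) → K) = fun j => if σ = j then (1 : K) else 0 := by
          ext j; simp [Pi.single_apply, eq_comm]
        rw [map_smul, ← this, hc, smul_zero]
      have hinj : Function.Injective L := by
        refine (LinearMap.injective_iff_surjective_of_finrank_eq_finrank ?_).2 hsurj
        rw [Module.finrank_baseChange, Module.finrank_fintype_fun_eq_card, ← Nat.card_eq_fintype_card,
          IsGalois.card_aut_eq_finrank]
      have : (Ψ : K ⊗[k] K → (K ≃ₐ[k] K) → K) = L := by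
        funext x σ
        induction x with
        | zero => simp [Ψ, L]
        | add a b ha hb => simp [map_add, ha, hb]
        | tmul a b => simp [Ψ, L, ψ]
      rw [this]; exact ⟨hinj, hsurj⟩
    let bX := Curv2.bcSnd k X K
    let w : pullback p p ⟶ Spec (CommRingCat.of (K ⊗[k] K)) :=
      pullback.lift (pullback.fst p p ≫ bX) (pullback.snd p p ≫ bX) (by
        rw [Category.assoc, Category.assoc, show bX ≫ e = p ≫ (X ↘ Spec (CommRingCat.of k)) from pullback.condition.symm,
          reassoc_of% (pullback.condition (f := p) (g := p))]) ≫ (pullbackSpecIso k K K).hom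
    -- the pieces of `X_K ×_X X_K`
    have : IsIso (CommRingCat.ofHom Ψ) := (ConcreteCategory.isIso_iff_bijective _).2 hΨ
    let 𝒮 : (Spec (CommRingCat.of (K ⊗[k] K))).OpenCover :=
      (sigmaOpenCover fun _ : K ≃ₐ[k] K => Spec (CommRingCat.of K)).pushforwardIso
        ((asIso (sigmaSpec (fun _ : K ≃ₐ[k] K => CommRingCat.of K))).hom ≫ Spec.map (CommRingCat.ofHom Ψ))
    have hw1 : w ≫ Spec.map (CommRingCat.ofHom (Algebra.TensorProduct.includeLeftRingHom (R := k) (A := K) (B := K))) = pullback.fst p p ≫ bX := by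
      simp only [w, Category.assoc]
      exact (congrArg (_ ≫ ·) (pullbackSpecIso_hom_fst k K K)).trans (pullback.lift_fst _ _ _)
    have hw2 : w ≫ Spec.map (CommRingCat.ofHom (Algebra.TensorProduct.includeRight (R := k) (A := K) (B := K)).toRingHom) = pullback.snd p p ≫ bX := by
      simp only [w, Category.assoc]
      exact (congrArg (_ ≫ ·) (pullbackSpecIso_hom_snd k K K)).trans (pullback.lift_snd _ _ _)
    have hψ1 : ∀ σ, Spec.map (CommRingCat.ofHom (ψ σ).toRingHom) ≫
        Spec.map (CommRingCat.ofHom (Algebra.TensorProduct.includeLeftRingHom (R := k) (A := K) (B := K))) = 𝟙 _ := by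
      intro σ
      rw [← Spec.map_comp, show CommRingCat.ofHom _ ≫ CommRingCat.ofHom _ = CommRingCat.ofHom (RingHom.id K) from ?_,
        CommRingCat.ofHom_id, Spec.map_id]
      ext x; simp [ψ]
    have hψ2 : ∀ σ, Spec.map (CommRingCat.ofHom (ψ σ).toRingHom) ≫
        Spec.map (CommRingCat.ofHom (Algebra.TensorProduct.includeRight (R := k) (A := K) (B := K)).toRingHom) =
          Spec.map (CommRingCat.ofHom (σ : K →ₐ[k] K).toRingHom) := by
      intro σ
      rw [← Spec.map_comp]
      congr 1
      ext x; simp [ψ]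
    have heq : pullback.fst p p ≫ g ≫ Curv2.bcFst k Y K = pullback.snd p p ≫ g ≫ Curv2.bcFst k Y K := by
      refine Scheme.Cover.hom_ext (𝒮.pullback₁ w) _ _ fun (σ : K ≃ₐ[k] K) => ?_
      set t := pullback.fst w (𝒮.f σ) with ht
      set u := pullback.snd w (𝒮.f σ) with hu
      have hσ : 𝒮.f σ = Spec.map (CommRingCat.ofHom (ψ σ).toRingHom) := by
        change Sigma.ι (fun _ : K ≃ₐ[k] K => Spec (CommRingCat.of K)) σ ≫ sigmaSpec _ ≫ _ = _
        rw [ι_sigmaSpec_assoc, ← Spec.map_comp]
        rfl
      have h1 : t ≫ pullback.fst p p ≫ bX = u := by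
        rw [← hw1, ← Category.assoc, pullback.condition, Category.assoc]
        exact (congrArg (u ≫ ·) ((congrArg (· ≫ _) hσ).trans (hψ1 σ))).trans (Category.comp_id u)
      have h2 : t ≫ pullback.snd p p ≫ bX = u ≫ Spec.map (CommRingCat.ofHom (σ : K →ₐ[k] K).toRingHom) := by
        rw [← hw2, ← Category.assoc, pullback.condition, Category.assoc]
        exact congrArg (u ≫ ·) ((congrArg (· ≫ _) hσ).trans (hψ2 σ))
      have key : t ≫ pullback.snd p p = (t ≫ pullback.fst p p) ≫ Curv2.galAct k X K σ := by
        apply pullback.hom_ext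
        · change (t ≫ pullback.snd p p) ≫ p = ((t ≫ pullback.fst p p) ≫ Curv2.galAct k X K σ) ≫ p
          rw [Category.assoc, Category.assoc, Category.assoc,
            show Curv2.galAct k X K σ ≫ p = p from (pullback.lift_fst _ _ _).trans (Category.comp_id _), pullback.condition]
        · change (t ≫ pullback.snd p p) ≫ bX = ((t ≫ pullback.fst p p) ≫ Curv2.galAct k X K σ) ≫ bX
          rw [Category.assoc, Category.assoc, Category.assoc,
            show Curv2.galAct k X K σ ≫ bX = bX ≫ _ from pullback.lift_snd _ _ _, h2, reassoc_of% h1]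
          rfl
      change t ≫ _ = t ≫ _
      rw [reassoc_of% key, reassoc_of% (hequiv σ),
        show Curv2.galAct k Y K σ ≫ Curv2.bcFst k Y K = Curv2.bcFst k Y K from (pullback.lift_fst _ _ _).trans (Category.comp_id _)]
    obtain ⟨f, hf⟩ : ∃ f : X ⟶ Y, p ≫ f = g ≫ Curv2.bcFst k Y K :=
      ⟨EffectiveEpi.desc p (g ≫ Curv2.bcFst k Y K) (fun {Z} g₁ g₂ h => by
        have := congrArg (pullback.lift g₁ g₂ h ≫ ·) heq
        rwa [pullback.lift_fst_assoc, pullback.lift_snd_assoc] at this), EffectiveEpi.fac _ _ _⟩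
    refine ⟨f, ?_, hf.symm⟩
    have : Epi p := Flat.epi_of_flat_of_surjective p
    rw [← cancel_epi p, ← Category.assoc, hf, Category.assoc,
      show Curv2.bcFst k Y K ≫ (Y ↘ Spec (CommRingCat.of k)) = Curv2.bcSnd k Y K ≫ e from pullback.condition,
      reassoc_of% hg]
    exact pullback.condition.symm

end Groth.Agent.S14400
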