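import Groth.Statements.S14401
import Mathlib.AlgebraicGeometry.Properties
import Mathlib.AlgebraicGeometry.Noetherian

set_option autoImplicit false
universe u
open CategoryTheory AlgebraicGeometry
open Props

namespace Groth.Agent.S14401

/-- Let X be a Noetherian scheme all of whose local rings are integral domains. Then each irreducible
component of X is an open subset of X, and each point of X lies on exactly one irreducible component
(so the irreducible components of X are pairwise disjoint, open and closed, and coincide with the
connected components). (The published statement assumes X regular and Noetherian; its argument uses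
only that the local rings of X are domains, which is the hypothesis taken here.) -/
theorem result (X : Scheme.{u}) [AlgebraicGeometry.IsNoetherian X]
    (hX : ∀ x : X, IsDomain (X.presheaf.stalk x)) :
    (∀ Z ∈ irreducibleComponents (X : Type u), IsOpen Z) ∧
      ∀ x : X, ∃! Z, Z ∈ irreducibleComponents (X : Type u) ∧ x ∈ Z := by
  have key : ∀ x : X, ∀ Z ∈ irreducibleComponents (X : Type u), x ∈ Z →
      haveI := hX x
      Z = closure {X.fromSpecStalk x (⊥ : PrimeSpectrum (X.presheaf.stalk x))} := by
    intro x Z hZ hxZ
    haveI := hX x
    obtain ⟨η, hη⟩ := QuasiSober.sober hZ.1 (isClosed_of_mem_irreducibleComponents Z hZ)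
    have hs : η ⤳ x := by
      rw [specializes_iff_mem_closure, hη.def]; exact hxZ
    obtain ⟨q, hq⟩ : η ∈ Set.range (X.fromSpecStalk x) := by
      rw [Scheme.range_fromSpecStalk]; exact hs
    have h2 : X.fromSpecStalk x (⊥ : PrimeSpectrum (X.presheaf.stalk x)) ⤳ η := by
      rw [← hq]
      exact ((PrimeSpectrum.le_iff_specializes ⊥ q).mp bot_le).map (X.fromSpecStalk x).continuous
    have h3 : Z ⊆ closure {X.fromSpecStalk x (⊥ : PrimeSpectrum (X.presheaf.stalk x))} := hη.def ▸ h2.closure_subset
    exact Set.Subset.antisymm h3 (hZ.2 isIrreducible_singleton.closure h3)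
  refine ⟨fun Z hZ => ?_, fun x => ?_⟩
  · have hfin : (irreducibleComponents (X : Type u)).Finite :=
      TopologicalSpace.NoetherianSpace.finite_irreducibleComponents
    have hcl : IsClosed (⋃ Z' ∈ irreducibleComponents (X : Type u) \ {Z}, Z') :=
      hfin.sdiff.isClosed_biUnion fun Z' hZ' => isClosed_of_mem_irreducibleComponents Z' hZ'.1
    convert hcl.isOpen_compl using 1
    ext x
    constructor
    · intro hx hx'
      obtain ⟨Z', ⟨hZ', hne⟩, hx'⟩ := Set.mem_iUnion₂.mp hx'
      exact hne ((key x Z' hZ' hx').trans (key x Z hZ hx).symm)
    · intro hx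
      by_contra hxZ
      refine hx (Set.mem_iUnion₂.mpr ⟨irreducibleComponent x,
        ⟨irreducibleComponent_mem_irreducibleComponents x, ?_⟩, mem_irreducibleComponent⟩)
      rintro rfl
      exact hxZ mem_irreducibleComponent
  · exact ⟨irreducibleComponent x, ⟨irreducibleComponent_mem_irreducibleComponents x,
      mem_irreducibleComponent⟩, fun Z hZ => (key x Z hZ.1 hZ.2).trans
        (key x _ (irreducibleComponent_mem_irreducibleComponents x) mem_irreducibleComponent).symm⟩

end Groth.Agent.S14401
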