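import Groth.Statements.S14403
import Groth.Agent.Lib.Equidim6.Basic
-- import your own Groth.Agent.* helpers here

set_option autoImplicit false
universe u
open CategoryTheory AlgebraicGeometry
open FlatMor

namespace Groth.Agent.S14403

/-- Let k be a field, X and Y schemes of finite type over k, f : X ⟶ Y a flat k-morphism, and d, n
natural numbers such that every irreducible component of Y has dimension d (Y equidimensional of
dimension d). Then every irreducible component of X has dimension d + n if and only if for every
point y of Y, closed or not, every irreducible component of the scheme-theoretic fibre of f over y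
has dimension n (empty fibres impose no condition). -/
theorem result (k : Type u) [Field k]
    {X Y : Scheme.{u}} (qX : X ⟶ Spec (CommRingCat.of k)) (qY : Y ⟶ Spec (CommRingCat.of k))
    [LocallyOfFiniteType qX] [QuasiCompact qX] [LocallyOfFiniteType qY] [QuasiCompact qY]
    (f : X ⟶ Y) (hf : f ≫ qY = qX) [Flat f] (d n : ℕ)
    (hY : ∀ Z ∈ irreducibleComponents (Y : Type u), topologicalKrullDim Z = (d : WithBot ℕ∞)) :
    (∀ Z ∈ irreducibleComponents (X : Type u), topologicalKrullDim Z = ((d + n : ℕ) : WithBot ℕ∞)) ↔
      ∀ (y : Y), ∀ Z ∈ irreducibleComponents (f.fiber y : Type u),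
        topologicalKrullDim Z = (n : WithBot ℕ∞) := by
  subst hf
  haveI : LocallyOfFiniteType f := locallyOfFiniteType_of_comp f qY
  rw [GrothLib.Equidim6.equidim_iff_fibres f qY d n ((GrothLib.Equidim6.equidim_iff qY d).1 hY)]
  exact (GrothLib.Equidim6.fibres_equidim_iff f n).symm

end Groth.Agent.S14403
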