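import Groth.Statements.S14405
import Mathlib.Algebra.Polynomial.Degree.Lemmas
import Mathlib.Algebra.Polynomial.Eval.Coeff
import Mathlib.Algebra.Polynomial.Coeff
import Mathlib.Algebra.Polynomial.Taylor

set_option autoImplicit false
open Polynomial
open HilbNum

namespace Groth.Agent.S14405

open Polynomial

/-- Discrete antiderivative of a monomial, up to lower terms. -/
theorem delta_natDegree (d : ℕ) :
    (X ^ (d + 1) - (X - 1 : ℚ[X]) ^ (d + 1) - C ((d : ℚ) + 1) * X ^ d).natDegree ≤ d - 1 := by
  refine natDegree_le_iff_coeff_eq_zero.mpr fun m hm => ?_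
  rw [coeff_sub, coeff_sub, coeff_C_mul, coeff_X_pow, coeff_X_pow,
    show (X - 1 : ℚ[X]) = X + C (-1) by rw [map_neg, map_one]; ring, coeff_X_add_C_pow]
  rcases lt_trichotomy m d with h | rfl | h
  · omega
  · simp [Nat.choose_succ_self_right]
  · rcases eq_or_lt_of_le (Nat.succ_le_of_lt h) with rfl | h'
    · simp
    · simp [Nat.choose_eq_zero_of_lt (show d + 1 < m from h'), show m ≠ d + 1 by omega, show m ≠ d by omega]

theorem exists_antidiff (d : ℕ) : ∀ Q : ℚ[X], Q.natDegree ≤ d →
    ∃ P : ℚ[X], P.natDegree ≤ d + 1 ∧ P.coeff (d + 1) = Q.coeff d / ((d : ℚ) + 1) ∧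
      P - P.comp (X - 1) = Q := by
  induction d with
  | zero =>
    intro Q hQ
    refine ⟨C (Q.coeff 0) * X, ?_, ?_, ?_⟩
    · exact (natDegree_C_mul_le _ _).trans natDegree_X_le
    · simp
    · rw [mul_comp, C_comp, X_comp, ← mul_sub, sub_sub_cancel, mul_one]
      exact (eq_C_of_natDegree_le_zero hQ).symm
  | succ d ih =>
    intro Q hQ
    let a := Q.coeff (d + 1) / (((d + 1 : ℕ) : ℚ) + 1)
    let R := Q - C a * (X ^ (d + 2) - (X - 1) ^ (d + 2))
    have hR : R.natDegree ≤ d := by
      refine natDegree_le_iff_coeff_eq_zero.mpr fun m hm => ?_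
      have h1 := natDegree_le_iff_coeff_eq_zero.mp (delta_natDegree (d + 1)) m (by omega)
      rw [coeff_sub, coeff_C_mul, coeff_X_pow, sub_eq_zero] at h1
      simp only [R, coeff_sub, coeff_C_mul] at h1 ⊢
      rw [h1]
      rcases Nat.eq_or_lt_of_le (show d + 1 ≤ m by omega) with rfl | h
      · simp only [if_true, mul_one, a]
        rw [div_mul_cancel₀ _ (by positivity), sub_self]
      · rw [if_neg (by omega), coeff_eq_zero_of_natDegree_lt (by omega)]
        ring
    obtain ⟨P, hP, -, hPQ⟩ := ih R hR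
    refine ⟨P + C a * X ^ (d + 2), ?_, ?_, ?_⟩
    · exact (natDegree_add_le _ _).trans (max_le (by omega) (natDegree_C_mul_X_pow_le _ _))
    · rw [coeff_add, coeff_C_mul, coeff_X_pow, if_pos rfl, coeff_eq_zero_of_natDegree_lt (by omega)]
      simp [a]
    · rw [add_comp, mul_comp, C_comp, pow_comp, X_comp,
        show P + C a * X ^ (d + 2) - (P.comp (X - 1) + C a * (X - 1) ^ (d + 2)) =
          (P - P.comp (X - 1)) + C a * (X ^ (d + 2) - (X - 1) ^ (d + 2)) by ring, hPQ]
      simp only [R]
      ring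

/-- Let φ be a function from the integers to the rationals and Q a nonzero polynomial with rational
coefficients of degree d such that φ(m) - φ(m-1) = Q(m) for every integer m. Then there is a
polynomial P with rational coefficients, of degree d + 1, such that φ(m) = P(m) for every integer m.
(The explicit form of P in the binomial basis is not part of this statement.) -/
theorem result (φ : ℤ → ℚ) (d : ℕ) (Q : ℚ[X]) (hQ : Q ≠ 0)
    (hd : Q.natDegree = d) (h : ∀ m : ℤ, φ m - φ (m - 1) = Q.eval (m : ℚ)) :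
    ∃ P : ℚ[X], P.natDegree = d + 1 ∧ ∀ m : ℤ, φ m = P.eval (m : ℚ) := by
  subst hd
  obtain ⟨P₀, hP, hc, hPQ⟩ := exists_antidiff Q.natDegree Q le_rfl
  let P := P₀ + C (φ 0 - P₀.eval 0)
  refine ⟨P, ?_, fun m => ?_⟩
  · rw [natDegree_add_C]
    refine le_antisymm hP (le_natDegree_of_ne_zero ?_)
    rw [hc]
    exact div_ne_zero (by simpa using hQ) (by positivity)
  have key : ∀ m : ℤ, P.eval (m : ℚ) - P.eval ((m : ℚ) - 1) = φ m - φ (m - 1) := fun m => by
    rw [h, ← hPQ]
    simp [P, eval_comp]
  induction m using Int.induction_on with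
  | zero => simp [P]
  | succ n ih =>
    have := key ((n : ℤ) + 1)
    simp only [Int.cast_add, Int.cast_one, add_sub_cancel_right] at this ⊢
    linarith
  | pred n ih =>
    have := key (-(n : ℤ))
    simp only [Int.cast_sub, Int.cast_one] at this ⊢
    linarith

end Groth.Agent.S14405
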