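import Groth.Statements.S14408
import Groth.Agent.Lib.CMReg.HilbDegree
import Groth.Agent.Lib.Hilb20.Stable

set_option autoImplicit false
universe u
open CategoryTheory CategoryTheory.Limits AlgebraicGeometry
open HilbNum

namespace Groth.Agent.S14408

/-- Let k be an algebraically closed field, n a positive integer, F a nonzero coherent O-module on
projective n-space P over k (quasi-coherent of finite type), and P_F a polynomial with rational
coefficients such that P_F(m) = χ(F(m)) = Σ_{j ≤ n} (-1)^j dim_k H^j(P, F ⊗ O(m)) for every integer
m. Then the degree of P_F equals the dimension of the support of F (the closed set of points where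
the stalk of F is nonzero, with the subspace topology). The existence of such a polynomial is not
part of this statement; it enters through the hypothesis on P_F. -/
theorem result (k : Type u) [Field k] [IsAlgClosed k] (n : ℕ) (hn : 0 < n)
    (F : (CohB1.ProjSpace n k).Modules) (hF : Coh.IsCoh F) (hF0 : ¬ IsZero F) (P : Polynomial ℚ)
    (hP : ∀ m : ℤ,
      ((Finset.range (n + 1)).sum fun j => (-1 : ℚ) ^ j *
        (Module.finrank k (Coh.HH (CohB1.ProjSpace n k) (CohB1.tensorMod F (Twist.twistProjSpace n k m)) j) : ℚ)) =
      P.eval (m : ℚ)) :
    topologicalKrullDim ↥(CohB1.support F) = (P.natDegree : WithBot ℕ∞) := by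
    haveI : IsProper (CohB1.ProjSpace n k ↘ Spec (CommRingCat.of k)) := GrothLib.Chow.isProper_toSpec n k
    have hne : (CohB1.support F).Nonempty := by
      rw [Set.nonempty_iff_ne_empty]
      exact fun he => hF0 (GrothLib.Hilb20.isZero_of_support_eq_empty he)
    refine GrothLib.CMReg.supportDim_eq_natDegree hF hne P fun a => ?_
    rw [GrothLib.Euler.euler_eq_sum k (GrothLib.CMReg.Ft F a) (N := n + 1) fun i hi => ?_]
    · push_cast
      exact hP a
    · haveI := (GrothLib.CMReg.isCoh_Ft hF a).1
      exact GrothLib.CMReg.subsingleton_HH_of_lt _ (by omega)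

end Groth.Agent.S14408
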