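import Groth.Statements.S14410
import Groth.Agent.Lib.SheafCoh.Top
-- import your own Groth.Agent.* helpers here

set_option autoImplicit false
universe u
open CategoryTheory TopologicalSpace
open CohTop

namespace Groth.Agent.S14410

/-- Let X be a topological space and 0 → F₁ → F₂ → F₃ → 0 a short exact sequence of sheaves of abelian
groups on X. If F₁ and F₃ are flasque (every restriction map is surjective), then F₂ is flasque.
(The published statement is for O_X-modules on a ringed space and is an equivalence; this row states
the implication from the outer terms to the middle term, for the underlying abelian sheaves.) -/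
theorem result (X : TopCat.{u})
    (S : ShortComplex (TopCat.Sheaf AddCommGrpCat.{u} X)) (hS : S.ShortExact)
    [S.X₁.IsFlasque] [S.X₃.IsFlasque] : S.X₂.IsFlasque := by
  refine ⟨fun {U V} i => (AddCommGrpCat.epi_iff_surjective _).2 fun s => ?_⟩
  have hsurj := GrothLib.SheafCoh.flasque_sections_surjective (X := X) (S := S) hS U.unop
  obtain ⟨a, ha⟩ := (AddCommGrpCat.epi_iff_surjective (S.X₃.obj.map i)).1 inferInstance
    ((S.g.hom.app V).hom s)
  obtain ⟨b, rfl⟩ := hsurj a
  have h1 : (S.g.hom.app V).hom (s - (S.X₂.obj.map i).hom b) = 0 := by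
    rw [map_sub, sub_eq_zero, ← ha]
    exact (ConcreteCategory.congr_hom (S.g.hom.naturality i) b).symm
  obtain ⟨c, hc⟩ := TopCat.Sheaf.sections_exact_of_left_exact hS.1 hS.2 _ h1
  obtain ⟨d, rfl⟩ := (AddCommGrpCat.epi_iff_surjective (S.X₁.obj.map i)).1 inferInstance c
  refine ⟨b + (S.f.hom.app U).hom d, ?_⟩
  have h2 : (S.X₂.obj.map i).hom ((S.f.hom.app U).hom d) = s - (S.X₂.obj.map i).hom b :=
    (ConcreteCategory.congr_hom (S.f.hom.naturality i) d).symm.trans hc
  exact (map_add (S.X₂.obj.map i).hom b ((S.f.hom.app U).hom d)).trans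
    ((congrArg _ h2).trans (add_sub_cancel _ _))

end Groth.Agent.S14410
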