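import Groth.Statements.S14413
import Groth.Agent.Lib.PdResolution.Basic
-- import your own Groth.Agent.* helpers here

set_option autoImplicit false
universe u
open CategoryTheory CategoryTheory.Limits
open CAlg

namespace Groth.Agent.S14413

/-- Let R be a commutative ring, M an R-module and d ≥ 0. Then M has projective dimension at most d in
the sense that Ext^i_R(M, N) = 0 for every i > d and every R-module N (Mathlib's Ext-vanishing
definition) if and only if M has a projective resolution of length at most d, i.e. a projective
resolution P whose terms P_i are zero for all i > d (the definition of pd_R(M) ≤ d by resolutions). -/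
theorem result (R : Type u) [CommRing R]
    (M : ModuleCat.{u} R) (d : ℕ) :
    HasProjectiveDimensionLE M d ↔
      ∃ P : ProjectiveResolution M, ∀ i : ℕ, d < i → IsZero (P.complex.X i) := by
  exact ⟨fun h => GrothLib.PdResolution.exists_resolution d M h, fun ⟨P, hP⟩ => GrothLib.PdResolution.hasProjectiveDimensionLE_of_resolution P d hP⟩

end Groth.Agent.S14413
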