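import Groth.Statements.S14416
import Mathlib.RingTheory.LocalRing.Module
import Mathlib.LinearAlgebra.TensorProduct.RightExactness
import Mathlib.LinearAlgebra.Dimension.FreeAndStrongRankCondition

set_option autoImplicit false
universe u
open scoped TensorProduct
open CAlg

namespace Groth.Agent.S14416

/-- Let B → A be a ring map with A a finitely generated B-module such that for every prime ideal p of B
the fibre κ(p) ⊗_B A has dimension at most one over the residue field κ(p). Then B → A is
surjective. In scheme language: a finite morphism whose degree at every point of the target is 0 or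
1 is a closed immersion. (The published statement assumes the two schemes Noetherian; that
hypothesis plays no role and is dropped here.) -/
theorem result
    (B A : Type u) [CommRing B] [CommRing A] [Algebra B A] [Module.Finite B A]
    (h : ∀ p : PrimeSpectrum B,
      Module.finrank p.asIdeal.ResidueField (p.asIdeal.ResidueField ⊗[B] A) ≤ 1) :
    Function.Surjective (algebraMap B A) := by
  let N : Submodule B A := LinearMap.range (Algebra.linearMap B A)
  have hQ : Module.support B (A ⧸ N) = ∅ := by
    refine Set.eq_empty_of_forall_notMem fun p hp => ?_
    rw [Module.mem_support_iff_nontrivial_residueField_tensorProduct, ← not_subsingleton_iff_nontrivial]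
      at hp
    apply hp
    let K := p.asIdeal.ResidueField
    refine subsingleton_of_forall_eq 0 fun z => ?_
    obtain ⟨z, rfl⟩ := LinearMap.lTensor_surjective K N.mkQ_surjective z
    by_cases h1 : (1 : K ⊗[B] A) = 0
    · haveI := subsingleton_of_zero_eq_one h1.symm
      rw [Subsingleton.elim z 0, map_zero]
    · haveI : Module.Finite K (K ⊗[B] A) := inferInstance
      have h2 : Module.finrank K (K ⊗[B] A) = 1 := by
        refine le_antisymm (h p) ?_
        haveI : Nontrivial (K ⊗[B] A) := ⟨⟨1, 0, h1⟩⟩
        exact Module.finrank_pos
      obtain ⟨c, rfl⟩ := exists_smul_eq_of_finrank_eq_one h2 h1 z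
      have h3 : c • (1 : K ⊗[B] A) = c ⊗ₜ[B] (1 : A) := by
        rw [Algebra.TensorProduct.one_def, TensorProduct.smul_tmul', smul_eq_mul, mul_one]
      rw [h3, LinearMap.lTensor_tmul, Submodule.mkQ_apply,
        (Submodule.Quotient.mk_eq_zero N).2 ⟨1, map_one (algebraMap B A)⟩, TensorProduct.tmul_zero]
  have h4 : N = ⊤ := Submodule.Quotient.subsingleton_iff.1 (Module.support_eq_empty_iff.1 hQ)
  exact LinearMap.range_eq_top.1 h4

end Groth.Agent.S14416
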