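import Groth.Statements.S14418
import Mathlib

set_option autoImplicit false
universe u
open CategoryTheory
open CAlg

namespace Groth.Agent.S14418

/-- A finite module over a Noetherian local ring has depth zero or a regular element. -/
theorem exists_torsion_or_regular (B X : Type*) [CommRing B] [IsNoetherianRing B] [IsLocalRing B]
    [AddCommGroup X] [Module B X] [Module.Finite B X] :
    (∃ x : X, x ≠ 0 ∧ ∀ r ∈ IsLocalRing.maximalIdeal B, r • x = 0) ∨
      ∃ b ∈ IsLocalRing.maximalIdeal B, IsSMulRegular X b := by
  by_cases h : ∃ b ∈ IsLocalRing.maximalIdeal B, IsSMulRegular X b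
  · exact Or.inr h
  refine Or.inl ?_
  push Not at h
  have hsub : (IsLocalRing.maximalIdeal B : Set B) ⊆
      ⋃ p ∈ (associatedPrimes.finite B X).toFinset, (p : Set B) := by
    intro b hb
    simp only [Set.Finite.mem_toFinset]
    rw [biUnion_associatedPrimes_eq_compl_regular]
    exact h b hb
  obtain ⟨p, hp, hle⟩ := (Ideal.subset_union_prime ⊥ ⊥ fun p hp _ _ =>
    ((associatedPrimes.finite B X).mem_toFinset.1 hp).isPrime).1 hsub
  have hp' := (associatedPrimes.finite B X).mem_toFinset.1 hp
  obtain ⟨hpp, x, hx⟩ := isAssociatedPrime_iff.1 hp'
  refine ⟨x, fun h0 => hpp.ne_top ?_, fun r hr => ?_⟩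
  · rw [hx]; subst h0; ext; simp [Submodule.mem_colon_singleton]
  · have := hle hr
    rw [hx] at this
    simpa [Submodule.mem_colon_singleton] using this



/-- Let B → A be a local homomorphism of Noetherian local rings, n the maximal ideal of B, and T an
additive functor from B-modules to A-modules which is B-linear (T applied to multiplication by b ∈ B
is multiplication by the image of b in A), carries finitely generated B-modules to finitely
generated A-modules, and is half-exact on finitely generated modules (every short exact sequence of
finitely generated B-modules goes to a sequence exact at its middle term). If T(B/n) = 0 then T(N) =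
0 for every finitely generated B-module N. (The published statement takes T defined on finitely
generated modules only; here T is defined on all B-modules while every hypothesis and the conclusion
concern finitely generated modules.) -/
theorem result {B A : Type u} [CommRing B] [CommRing A]
    [IsNoetherianRing B] [IsLocalRing B] [IsNoetherianRing A] [IsLocalRing A] [Algebra B A]
    [IsLocalHom (algebraMap B A)] (T : ModuleCat.{u} B ⥤ ModuleCat.{u} A) [T.Additive]
    (hlin : ∀ (N : ModuleCat.{u} B) (b : B),
      T.map (ModuleCat.ofHom (b • (LinearMap.id : N →ₗ[B] N))) =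
        ModuleCat.ofHom (algebraMap B A b • (LinearMap.id : T.obj N →ₗ[A] T.obj N)))
    (hfin : ∀ N : ModuleCat.{u} B, Module.Finite B N → Module.Finite A (T.obj N))
    (hex : ∀ S : ShortComplex (ModuleCat.{u} B), S.ShortExact → Module.Finite B S.X₁ →
      Module.Finite B S.X₂ → Module.Finite B S.X₃ → (S.map T).Exact)
    (h0 : Limits.IsZero (T.obj (ModuleCat.of B (B ⧸ IsLocalRing.maximalIdeal B))))
    (N : ModuleCat.{u} B) [Module.Finite B N] : Limits.IsZero (T.obj N) := by
  have key : ∀ M : Submodule B N, Limits.IsZero (T.obj (ModuleCat.of B (↥(⊤ : Submodule B N) ⧸ M.comap (⊤ : Submodule B N).subtype))) := by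
    intro M
    induction M using (IsWellFounded.induction (α := Submodule B N) (· > ·)) with
    | ind M ih =>
      have step : ∀ M' : Submodule B N, M < M' → Limits.IsZero
          (T.obj (ModuleCat.of B (↥(⊤ : Submodule B N) ⧸ M'.comap (⊤ : Submodule B N).subtype))) := ih
      set P := M.comap (⊤ : Submodule B N).subtype with hP
      have hlt : ∀ z : ↥(⊤ : Submodule B N), z ∉ P → M < M ⊔ B ∙ (z : N) := fun z hz =>
        left_lt_sup.2 fun h => hz (h (Submodule.mem_span_singleton_self _))
      set X := ↥(⊤ : Submodule B N) ⧸ P
      by_cases hsub : Subsingleton X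
      · haveI := hsub
        exact T.map_isZero (ModuleCat.isZero_of_subsingleton _)
      haveI : Nontrivial X := not_subsingleton_iff_nontrivial.1 hsub
      rcases exists_torsion_or_regular B X with ⟨x, hx0, hx⟩ | ⟨b, hb, hreg⟩
      · obtain ⟨z, rfl⟩ := P.mkQ_surjective x
        have hz : z ∉ P := fun h => hx0 ((Submodule.Quotient.mk_eq_zero _).2 h)
        let P' := (M ⊔ B ∙ (z : N)).comap (⊤ : Submodule B N).subtype
        have hPP : P ≤ P' := Submodule.comap_mono le_sup_left
        let π : X →ₗ[B] (↥(⊤ : Submodule B N) ⧸ P') := P.mapQ P' LinearMap.id hPP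
        let ι : (B ⧸ IsLocalRing.maximalIdeal B) →ₗ[B] X :=
          (IsLocalRing.maximalIdeal B).liftQ (LinearMap.toSpanSingleton B X (P.mkQ z))
            (fun r hr => hx r hr)
        have hι : Function.Injective ι := by
          rw [← LinearMap.ker_eq_bot, eq_bot_iff]
          intro q hq
          obtain ⟨r, rfl⟩ := Submodule.Quotient.mk_surjective _ q
          rw [Submodule.mem_bot, Submodule.Quotient.mk_eq_zero]
          by_contra hr
          rw [IsLocalRing.mem_maximalIdeal, mem_nonunits_iff, not_not] at hr
          exact hx0 (hr.smul_eq_zero.1 hq)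
        have hπ : Function.Surjective π := fun y => by
          obtain ⟨w, rfl⟩ := P'.mkQ_surjective y
          exact ⟨P.mkQ w, rfl⟩
        have hex' : Function.Exact ι π := fun y => by
          obtain ⟨w, rfl⟩ := P.mkQ_surjective y
          constructor
          · intro hy
            have hw : (w : N) ∈ M ⊔ B ∙ (z : N) := (Submodule.Quotient.mk_eq_zero P').1 hy
            obtain ⟨m, hm, v, hv, hmv⟩ := Submodule.mem_sup.1 hw
            obtain ⟨r, rfl⟩ := Submodule.mem_span_singleton.1 hv
            refine ⟨Submodule.Quotient.mk r, ?_⟩
            show r • P.mkQ z = P.mkQ w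
            rw [← map_smul, Submodule.mkQ_apply, Submodule.mkQ_apply, Submodule.Quotient.eq]
            show r • (z : N) - (w : N) ∈ M
            rw [← hmv, sub_add_cancel_right]
            exact M.neg_mem hm
          · rintro ⟨q, hq⟩
            obtain ⟨r, rfl⟩ := Submodule.Quotient.mk_surjective _ q
            rw [← hq]
            show π (r • P.mkQ z) = 0
            rw [map_smul]
            exact (congrArg (r • ·) ((Submodule.Quotient.mk_eq_zero P').2
              (show (z : N) ∈ M ⊔ B ∙ (z : N) from Submodule.mem_sup_right (Submodule.mem_span_singleton_self _)))).trans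
              (smul_zero r)
        let S : ShortComplex (ModuleCat.{u} B) :=
          ShortComplex.mk (ModuleCat.ofHom ι) (ModuleCat.ofHom π)
            (ModuleCat.hom_ext hex'.linearMap_comp_eq_zero)
        have hS : S.ShortExact :=
          { exact := (ShortComplex.ShortExact.moduleCat_exact_iff_function_exact S).2 hex'
            mono_f := (ModuleCat.mono_iff_injective _).2 hι
            epi_g := (ModuleCat.epi_iff_surjective _).2 hπ }
        have h := hex S hS inferInstance inferInstance inferInstance
        exact h.isZero_X₂ (h0.eq_of_src _ _) ((step _ (hlt z hz)).eq_of_tgt _ _)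
      · obtain ⟨x, hx⟩ := exists_ne (0 : X)
        obtain ⟨z, hz'⟩ := P.mkQ_surjective (b • x)
        have hz : z ∉ P := fun h => hx (hreg (by
          show b • x = b • (0 : X)
          rw [smul_zero, ← hz', Submodule.mkQ_apply, (Submodule.Quotient.mk_eq_zero _).2 h]))
        let M' := M ⊔ Submodule.map (b • LinearMap.id) (⊤ : Submodule B N)
        have hMM : M < M' := lt_of_le_of_ne le_sup_left fun he => hz (by
          obtain ⟨w, rfl⟩ := P.mkQ_surjective x
          rw [← map_smul, Submodule.mkQ_apply, Submodule.mkQ_apply, Submodule.Quotient.eq] at hz'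
          have h1 : (b • w : ↥(⊤ : Submodule B N)) ∈ P := by
            show b • (w : N) ∈ M
            rw [he]
            exact Submodule.mem_sup_right ⟨(w : N), trivial, rfl⟩
          simpa using P.add_mem hz' h1)
        let P' := M'.comap (⊤ : Submodule B N).subtype
        let π : X →ₗ[B] (↥(⊤ : Submodule B N) ⧸ P') :=
          P.mapQ P' LinearMap.id (Submodule.comap_mono le_sup_left : P ≤ P')
        let ι : X →ₗ[B] X := b • LinearMap.id
        have hπ : Function.Surjective π := fun y => by
          obtain ⟨w, rfl⟩ := P'.mkQ_surjective y
          exact ⟨P.mkQ w, rfl⟩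
        have hex' : Function.Exact ι π := fun y => by
          obtain ⟨w, rfl⟩ := P.mkQ_surjective y
          constructor
          · intro hy
            obtain ⟨m, hm, v, hv, hmv⟩ := Submodule.mem_sup.1
              (show (w : N) ∈ M' from (Submodule.Quotient.mk_eq_zero P').1 hy)
            obtain ⟨n, -, rfl⟩ := hv
            refine ⟨P.mkQ ⟨n, trivial⟩, ?_⟩
            show b • P.mkQ ⟨n, trivial⟩ = P.mkQ w
            rw [← map_smul, Submodule.mkQ_apply, Submodule.mkQ_apply, Submodule.Quotient.eq]
            show b • n - (w : N) ∈ M
            rw [← hmv, show (b • LinearMap.id : N →ₗ[B] N) n = b • n from rfl, sub_add_cancel_right]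
            exact M.neg_mem hm
          · rintro ⟨q, hq⟩
            obtain ⟨v, rfl⟩ := P.mkQ_surjective q
            rw [← hq]
            exact (Submodule.Quotient.mk_eq_zero P').2
              (show b • (v : N) ∈ M' from Submodule.mem_sup_right ⟨(v : N), trivial, rfl⟩)
        let S : ShortComplex (ModuleCat.{u} B) :=
          ShortComplex.mk (ModuleCat.ofHom ι) (ModuleCat.ofHom π)
            (ModuleCat.hom_ext hex'.linearMap_comp_eq_zero)
        have hS : S.ShortExact :=
          { exact := (ShortComplex.ShortExact.moduleCat_exact_iff_function_exact S).2 hex'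
            mono_f := (ModuleCat.mono_iff_injective _).2 hreg
            epi_g := (ModuleCat.epi_iff_surjective _).2 hπ }
        have h := hex S hS inferInstance inferInstance inferInstance
        haveI : Epi (S.map T).f := h.epi_f ((step M' hMM).eq_of_tgt _ _)
        haveI := hfin (ModuleCat.of B X) (inferInstanceAs (Module.Finite B X))
        have hsurj : Function.Surjective
            (algebraMap B A b • (LinearMap.id : T.obj (ModuleCat.of B X) →ₗ[A] T.obj (ModuleCat.of B X))) := by
          have := (ModuleCat.epi_iff_surjective (S.map T).f).1 inferInstance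
          rw [show (S.map T).f = T.map (ModuleCat.ofHom (b • (LinearMap.id : X →ₗ[B] X))) from rfl,
            hlin (ModuleCat.of B X) b] at this
          exact this
        have htop : (⊤ : Submodule A (T.obj (ModuleCat.of B X))) = ⊥ :=
          Submodule.eq_bot_of_le_smul_of_le_jacobson_bot (Ideal.span {algebraMap B A b}) _ Module.Finite.fg_top
            (fun y _ => by
              obtain ⟨w, rfl⟩ := hsurj y
              exact Submodule.smul_mem_smul (Ideal.mem_span_singleton_self _) trivial)
            (((Ideal.span_singleton_le_iff_mem _).2 (show algebraMap B A b ∈ IsLocalRing.maximalIdeal A from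
              map_nonunit (algebraMap B A) b hb)).trans (IsLocalRing.maximalIdeal_le_jacobson _))
        haveI : Subsingleton (T.obj (ModuleCat.of B X)) :=
          ⟨fun y w => ((Submodule.mem_bot A).1 (htop ▸ Submodule.mem_top (x := y))).trans
            ((Submodule.mem_bot A).1 (htop ▸ Submodule.mem_top (x := w))).symm⟩
        exact ModuleCat.isZero_of_subsingleton _
  refine (key ⊥).of_iso (T.mapIso (LinearEquiv.toModuleIso ?_))
  exact (Submodule.topEquiv.symm.trans (Submodule.quotEquivOfEqBot _ (by
    rw [Submodule.comap_bot, Submodule.ker_subtype])).symm)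

end Groth.Agent.S14418
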