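import Groth.Statements.S14421
-- import your own Groth.Agent.* helpers here

set_option autoImplicit false
universe u v
open CategoryTheory
open HomAlg

namespace Groth.Agent.S14421

open CategoryTheory.Limits

/-- Let φ : K → J be a morphism of cochain complexes of modules over a ring which is surjective in
degree p − 1. Then the map induced on cohomology in degree p is surjective if and only if the map
induced on cocycles in degree p is surjective. (Stated for cochain complexes indexed by the
integers; the published statement is for three-term complexes in degrees p − 1, p, p + 1, which
embed as such complexes.) -/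
theorem result {R : Type u} [Ring R]
    (K J : CochainComplex (ModuleCat.{v} R) ℤ) (φ : K ⟶ J) (p : ℤ) [Epi (φ.f (p - 1))] :
    Epi (HomologicalComplex.homologyMap φ p) ↔ Epi (HomologicalComplex.cyclesMap φ p) := by
  constructor
  · intro h
    refine Preadditive.epi_of_cancel_zero _ fun {W} c hc => ?_
    have h0 : J.toCycles (p - 1) p ≫ c = 0 := by
      rw [← cancel_epi (φ.f (p - 1)), comp_zero]
      have : φ.f (p - 1) ≫ J.toCycles (p - 1) p = K.toCycles (p - 1) p ≫ HomologicalComplex.cyclesMap φ p := by
        rw [← cancel_mono (J.iCycles p), Category.assoc, Category.assoc, HomologicalComplex.toCycles_i,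
          HomologicalComplex.cyclesMap_i, ← Category.assoc, HomologicalComplex.toCycles_i]
        exact (φ.comm _ _)
      rw [← Category.assoc, this, Category.assoc, hc, comp_zero]
    obtain ⟨c', hc'⟩ := Limits.CokernelCofork.IsColimit.desc'
      (J.homologyIsCokernel (p - 1) p (by simp)) c h0
    change J.homologyπ p ≫ c' = c at hc'
    have h1 : c' = 0 := by
      rw [← cancel_epi (HomologicalComplex.homologyMap φ p), ← cancel_epi (K.homologyπ p), ← Category.assoc,
        HomologicalComplex.homologyπ_naturality, Category.assoc, hc', hc, comp_zero, comp_zero]
    rw [← hc', h1, comp_zero]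
  · intro h
    have := epi_comp (HomologicalComplex.cyclesMap φ p) (J.homologyπ p)
    rw [← HomologicalComplex.homologyπ_naturality] at this
    exact epi_of_epi (K.homologyπ p) _

end Groth.Agent.S14421
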