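import Groth.Statements.S14423
import Groth.Agent.Lib.LDerLES.Basic
import Mathlib.Algebra.Homology.ShortComplex.ModuleCat
import Mathlib.Algebra.Category.ModuleCat.Abelian
import Mathlib.RingTheory.Polynomial.Basic
import Mathlib.RingTheory.Noetherian.Basic
import Mathlib.RingTheory.PrincipalIdealDomain
import Mathlib.Algebra.Category.ModuleCat.Monoidal.Closed
import Mathlib.LinearAlgebra.TensorProduct.RightExactness
import Mathlib.RingTheory.Nakayama


set_option autoImplicit false
universe u
open CategoryTheory
open CAlg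

namespace Groth.Agent.S14423

open MvPolynomial TensorProduct DirectSum

theorem injective_of_isZero_tor {R : Type u} [CommRing R] {M : Type u} [AddCommGroup M] [Module R M] (I : Ideal R)
    (h : Limits.IsZero (((Tor (ModuleCat.{u} R) 1).obj (ModuleCat.of R M)).obj (ModuleCat.of R (R ⧸ I)))) :
    Function.Injective (LinearMap.lTensor M I.subtype) := by
  let S : ShortComplex (ModuleCat.{u} R) := ShortComplex.mk (ModuleCat.ofHom I.subtype)
    (ModuleCat.ofHom (Submodule.mkQ I)) (by ext x; simp [Ideal.Quotient.eq_zero_iff_mem])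
  have hS : S.ShortExact :=
    { exact := (ShortComplex.ShortExact.moduleCat_exact_iff_function_exact S).2
        (LinearMap.exact_subtype_mkQ I)
      mono_f := (ModuleCat.mono_iff_injective _).2 Subtype.val_injective
      epi_g := (ModuleCat.epi_iff_surjective _).2 (Submodule.mkQ_surjective I) }
  obtain ⟨T⟩ := GrothLib.LDerLES.nonempty_res hS
  let F := MonoidalCategory.tensorLeft (ModuleCat.of R M)
  have : F.IsLeftAdjoint := inferInstanceAs (MonoidalCategory.tensorLeft _).IsLeftAdjoint
  have hδ : T.delta F 1 0 rfl = 0 := h.eq_of_src _ _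
  have hm : Mono ((F.leftDerived 0).map S.f) := (GrothLib.LDerLES.exact₁ F T 1 0 rfl).mono_g hδ
  have hm' : Mono (F.map S.f) :=
    ((MorphismProperty.monomorphisms (ModuleCat.{u} R)).arrow_mk_iso_iff
      (Arrow.isoMk (F.leftDerivedZeroIsoSelf.app S.X₁) (F.leftDerivedZeroIsoSelf.app S.X₂)
        (F.leftDerivedZeroIsoSelf.hom.naturality S.f).symm)).1 hm
  exact (ModuleCat.mono_iff_injective _).1 hm'

section

variable (k : Type u) [Field k] (n : ℕ) {M : Type u} [AddCommGroup M] [Module (MvPolynomial (Fin (n + 1)) k) M]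
    (ℳ : ℕ → AddSubgroup M)
    [SetLike.GradedSMul (MvPolynomial.homogeneousSubmodule (Fin (n + 1)) k) ℳ]
    [DirectSum.Decomposition ℳ]

theorem decompose_smul_of_mem (s : MvPolynomial (Fin (n + 1)) k) {e : ℕ} {m : M} (hm : m ∈ ℳ e) (d : ℕ) :
    ((DirectSum.decompose ℳ (s • m)) d : M) = if e ≤ d then homogeneousComponent (d - e) s • m else 0 := by
  classical
  induction s using MvPolynomial.induction_on' with
  | monomial v a =>
    have hmon : monomial v a ∈ homogeneousSubmodule (Fin (n + 1)) k v.degree :=
      isHomogeneous_monomial a rfl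
    have hmem : monomial v a • m ∈ ℳ (v.degree + e) := SetLike.GradedSMul.smul_mem hmon hm
    by_cases hde : v.degree + e = d
    · subst hde
      rw [DirectSum.decompose_of_mem_same ℳ hmem, if_pos (Nat.le_add_left _ _), Nat.add_sub_cancel,
        homogeneousComponent_of_mem hmon, if_pos rfl]
    · rw [DirectSum.decompose_of_mem_ne ℳ hmem hde]
      split_ifs with he
      · rw [homogeneousComponent_of_mem hmon, if_neg (by omega), zero_smul]
      · rfl
  | add p q hp hq =>
    rw [add_smul, DirectSum.decompose_add, DirectSum.add_apply, AddMemClass.coe_add, hp, hq]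
    split_ifs <;> simp [map_add, add_smul]

theorem free_of_inj [Module.Finite (MvPolynomial (Fin (n + 1)) k) M]
    (hinj : Function.Injective (LinearMap.lTensor M (RingHom.ker
      (MvPolynomial.constantCoeff : MvPolynomial (Fin (n + 1)) k →+* k)).subtype)) :
    ∃ (ι : Type u) (b : Module.Basis ι (MvPolynomial (Fin (n + 1)) k) M),
      ∀ i, SetLike.IsHomogeneousElem ℳ (b i) := by
  classical
  set I : Ideal (MvPolynomial (Fin (n + 1)) k) :=
    RingHom.ker (MvPolynomial.constantCoeff : MvPolynomial (Fin (n + 1)) k →+* k) with hI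
  have hex : ∃ c, ∃ t : Finset M, t.card = c ∧ (∀ x ∈ t, SetLike.IsHomogeneousElem ℳ x) ∧
      Submodule.span (MvPolynomial (Fin (n + 1)) k) (t : Set M) = ⊤ := by
    obtain ⟨s, hs⟩ := (Module.Finite.fg_top : (⊤ : Submodule (MvPolynomial (Fin (n + 1)) k) M).FG)
    refine ⟨_, s.biUnion (fun x => (DirectSum.decompose ℳ x).support.image fun i => (DirectSum.decompose ℳ x i : M)),
      rfl, fun x hx => ?_, ?_⟩
    · simp only [Finset.mem_biUnion, Finset.mem_image] at hx
      obtain ⟨y, -, i, -, rfl⟩ := hx
      exact ⟨i, SetLike.coe_mem _⟩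
    · rw [eq_top_iff, ← hs, Submodule.span_le]
      intro x hx
      rw [SetLike.mem_coe, ← DirectSum.sum_support_decompose ℳ x]
      refine Submodule.sum_mem _ fun i hi => Submodule.subset_span ?_
      simp only [Finset.coe_biUnion, Set.mem_iUnion, Finset.coe_image, Set.mem_image]
      exact ⟨x, hx, i, hi, rfl⟩
  obtain ⟨t, htc, hth, hts⟩ := Nat.find_spec hex
  choose deg hdeg using fun x : t => hth x x.2
  let φ := Fintype.linearCombination (MvPolynomial (Fin (n + 1)) k) (fun x : t => (x : M))
  have hφs : Function.Surjective φ := by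
    rw [← LinearMap.range_eq_top, Fintype.range_linearCombination]
    simpa using hts
  have hK : ∀ f ∈ LinearMap.ker φ, ∀ x, f x ∈ I := by
    intro f hf x₀
    by_contra hne
    rw [hI, RingHom.mem_ker] at hne
    have hsum : ∑ x : t, (if deg x ≤ deg x₀ then homogeneousComponent (deg x₀ - deg x) (f x) • (x : M) else 0) = 0 := by
      have h0 : ((DirectSum.decompose ℳ (φ f)) (deg x₀) : M) = 0 := by
        rw [LinearMap.mem_ker.1 hf]; simp
      rw [Fintype.linearCombination_apply, DirectSum.decompose_sum, DFinsupp.finset_sum_apply,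
        AddSubmonoidClass.coe_finset_sum] at h0
      exact (Finset.sum_congr rfl fun x _ => (decompose_smul_of_mem k n ℳ (f x) (hdeg x) _).symm).trans h0
    rw [← Finset.add_sum_erase _ _ (Finset.mem_univ x₀), if_pos le_rfl, Nat.sub_self,
      homogeneousComponent_zero, ← constantCoeff_eq] at hsum
    have hx₀ : (x₀ : M) ∈ Submodule.span (MvPolynomial (Fin (n + 1)) k) ((t.erase x₀ : Finset M) : Set M) := by
      have h1 : (C (constantCoeff (f x₀)) : MvPolynomial (Fin (n + 1)) k) • (x₀ : M) ∈
          Submodule.span (MvPolynomial (Fin (n + 1)) k) ((t.erase x₀ : Finset M) : Set M) := by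
        rw [eq_neg_of_add_eq_zero_left hsum]
        refine neg_mem (Submodule.sum_mem _ fun x hx => ?_)
        split_ifs
        · refine Submodule.smul_mem _ _ (Submodule.subset_span ?_)
          simp only [Finset.coe_erase, Set.mem_diff, Finset.mem_coe, Set.mem_singleton_iff]
          exact ⟨x.2, fun he => (Finset.ne_of_mem_erase hx) (Subtype.ext he)⟩
        · exact zero_mem _
      have h2 := Submodule.smul_mem _ (C (constantCoeff (f x₀))⁻¹ : MvPolynomial (Fin (n + 1)) k) h1
      rwa [← mul_smul, ← map_mul, inv_mul_cancel₀ hne, map_one, one_smul] at h2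
    refine Nat.find_min hex (m := (t.erase x₀).card) ?_
      ⟨t.erase x₀, rfl, fun x hx => hth x (Finset.mem_of_mem_erase hx), ?_⟩
    · rw [← htc]; exact Finset.card_lt_card (Finset.erase_ssubset x₀.2)
    · rw [eq_top_iff, ← hts, Submodule.span_le]
      intro x hx
      by_cases he : x = x₀
      · exact he ▸ hx₀
      · exact Submodule.subset_span (Finset.mem_coe.2 (Finset.mem_erase.2 ⟨he, hx⟩))
  let K := LinearMap.ker φ
  let μ : (↥t → MvPolynomial (Fin (n + 1)) k) ⊗[MvPolynomial (Fin (n + 1)) k] I →ₗ[MvPolynomial (Fin (n + 1)) k]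
      (↥t → MvPolynomial (Fin (n + 1)) k) :=
    TensorProduct.lift (((LinearMap.lsmul _ _).comp I.subtype).flip)
  have hle : K ≤ I • K := by
    intro f hf
    let z : (↥t → MvPolynomial (Fin (n + 1)) k) ⊗[MvPolynomial (Fin (n + 1)) k] I :=
      ∑ x : t, Pi.single x 1 ⊗ₜ ⟨f x, hK f hf x⟩
    have hz : μ z = f := by
      simp only [z, map_sum, μ, TensorProduct.lift.tmul, LinearMap.flip_apply, LinearMap.comp_apply,
        Submodule.subtype_apply, LinearMap.lsmul_apply]
      exact (pi_eq_sum_univ' f).symm
    have hw : LinearMap.rTensor I φ z = 0 := by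
      apply hinj
      rw [map_zero]
      apply (TensorProduct.rid (MvPolynomial (Fin (n + 1)) k) M).injective
      rw [map_zero]
      simp only [z, map_sum, LinearMap.rTensor_tmul, LinearMap.lTensor_tmul, Submodule.subtype_apply,
        TensorProduct.rid_tmul]
      refine Eq.trans ?_ (LinearMap.mem_ker.1 hf)
      rw [Fintype.linearCombination_apply]
      exact Finset.sum_congr rfl fun x _ => by simp [φ, Fintype.linearCombination_apply_single]
    obtain ⟨w, hw'⟩ := (rTensor_exact I φ.exact_subtype_ker_map hφs z).1 hw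
    rw [← hz, ← hw']
    clear hw'
    induction w using TensorProduct.induction_on with
    | zero => simp
    | tmul a b =>
      simp only [μ, LinearMap.rTensor_tmul, TensorProduct.lift.tmul, LinearMap.flip_apply, LinearMap.comp_apply,
        Submodule.subtype_apply, LinearMap.lsmul_apply]
      exact Submodule.smul_mem_smul b.2 a.2
    | add a b ha hb => rw [map_add, map_add]; exact add_mem ha hb
  obtain ⟨r, hr1, hr2⟩ := Submodule.exists_sub_one_mem_and_smul_eq_zero_of_fg_of_le_smul I K
    ((isNoetherian_pi (R := MvPolynomial (Fin (n + 1)) k) (M := fun _ : t => MvPolynomial (Fin (n + 1)) k)).noetherian K) hle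
  have hr : r ≠ 0 := fun h0 => by
    rw [h0, hI, RingHom.mem_ker] at hr1
    simp at hr1
  have hφi : Function.Injective φ := by
    rw [← LinearMap.ker_eq_bot, Submodule.eq_bot_iff]
    intro f hf
    exact (smul_eq_zero.1 (hr2 f hf)).resolve_left hr
  refine ⟨t, Module.Basis.ofEquivFun (LinearEquiv.ofBijective φ ⟨hφi, hφs⟩).symm, fun i => ?_⟩
  rw [Module.Basis.coe_ofEquivFun, LinearEquiv.symm_symm]
  refine ⟨deg i, ?_⟩
  have he : (LinearEquiv.ofBijective φ ⟨hφi, hφs⟩) (Pi.single i 1) = (i : M) :=
    (Fintype.linearCombination_apply_single _ _ _ _).trans (one_smul _ _)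
  show (LinearEquiv.ofBijective φ ⟨hφi, hφs⟩) (Pi.single i 1) ∈ _
  rw [he]; exact hdeg i

end



/-- Graded freeness criterion: let k be a field, S = k[x_0, …, x_n] with its standard grading by degree,
and M a finitely generated graded S-module. If Tor_1^S(M, k) = 0, where k = S/S_+ (S modulo the
ideal of polynomials with zero constant term) and Tor_1^S(M, ·) is the first left derived functor of
M ⊗_S ·, then M is free with a basis of homogeneous elements, i.e. M is isomorphic as a graded
module to a finite direct sum of shifted copies S(−d_i). (Here the module is graded in non-negative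
degrees; the published statement allows any integer degrees.) -/
theorem result (k : Type u) [Field k] (n : ℕ)
    (M : Type u) [AddCommGroup M] [Module (MvPolynomial (Fin (n + 1)) k) M]
    [Module.Finite (MvPolynomial (Fin (n + 1)) k) M]
    (ℳ : ℕ → AddSubgroup M)
    [SetLike.GradedSMul (MvPolynomial.homogeneousSubmodule (Fin (n + 1)) k) ℳ]
    [DirectSum.Decomposition ℳ]
    (h : Limits.IsZero (((Tor (ModuleCat.{u} (MvPolynomial (Fin (n + 1)) k)) 1).obj
      (ModuleCat.of (MvPolynomial (Fin (n + 1)) k) M)).obj
      (ModuleCat.of (MvPolynomial (Fin (n + 1)) k)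
        (MvPolynomial (Fin (n + 1)) k ⧸
          RingHom.ker (MvPolynomial.constantCoeff : MvPolynomial (Fin (n + 1)) k →+* k))))) :
    ∃ (ι : Type u) (b : Module.Basis ι (MvPolynomial (Fin (n + 1)) k) M),
      ∀ i, SetLike.IsHomogeneousElem ℳ (b i) := by
  classical
  set I : Ideal (MvPolynomial (Fin (n + 1)) k) :=
    RingHom.ker (MvPolynomial.constantCoeff : MvPolynomial (Fin (n + 1)) k →+* k) with hI
  exact free_of_inj k n ℳ (injective_of_isZero_tor I h)

end Groth.Agent.S14423
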