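import Groth.Statements.S14426
import Groth.Agent.Lib.KoszulDepth16.Basic

set_option autoImplicit false
universe u
open Koszul3

namespace Groth.Agent.S14426

open CategoryTheory CategoryTheory.Limits in
/-- Let (R, m) be a Noetherian local ring, M a nonzero finitely generated R-module and x_1, …, x_n
elements of m generating the ideal a. Then depth(a, M) ≤ n; the Koszul cohomology H^p(x; M) vanishes
for every p < depth(a, M); and H^r(x; M) is nonzero for r = depth(a, M). (Cohomological indexing
with H^n(x; M) = M/(x)M; in homological indexing this reads H_i = 0 for i > n − r and H_{n−r} ≠ 0.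
Koszul complex realised by iterated mapping cones, as in the prelude.) -/
theorem result {R : Type u} [CommRing R] [IsNoetherianRing R] [IsLocalRing R]
    (M : Type u) [AddCommGroup M] [Module R M] [Module.Finite R M] [Nontrivial M]
    (xs : List R) (hxs : ∀ x ∈ xs, x ∈ IsLocalRing.maximalIdeal R) :
    LocCoh.idealDepth (Ideal.span {x | x ∈ xs}) M ≤ xs.length ∧
      (∀ p : ℕ, (p : ℕ∞) < LocCoh.idealDepth (Ideal.span {x | x ∈ xs}) M → IsZero (CohIII.koszulH xs (ModuleCat.of R M) p)) ∧
      (∀ r : ℕ, LocCoh.idealDepth (Ideal.span {x | x ∈ xs}) M = r → ¬ IsZero (CohIII.koszulH xs (ModuleCat.of R M) r)) := by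
  classical
  let J : Ideal R := Ideal.span {x | x ∈ xs}
  have hJm : J ≤ IsLocalRing.maximalIdeal R := Ideal.span_le.2 hxs
  have hJM : J • (⊤ : Submodule R M) ≠ ⊤ := fun h => by
    have := Submodule.eq_bot_of_le_smul_of_le_jacobson_bot J (⊤ : Submodule R M) Module.Finite.fg_top h.ge
      (hJm.trans (IsLocalRing.jacobson_eq_maximalIdeal ⊥ bot_ne_top).ge)
    exact top_ne_bot this
  have htop : ¬ IsZero ((CohIII.koszulCx (ModuleCat.of R M) xs).homology 0) := fun h => by
    obtain ⟨e⟩ := GrothLib.KoszulMod.nonempty_homology_zero_equiv (ModuleCat.of R M) xs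
    haveI := ModuleCat.subsingleton_of_isZero h
    haveI := e.symm.toEquiv.subsingleton
    exact hJM (Submodule.Quotient.subsingleton_iff.1 (by assumption))
  have hbound : LocCoh.idealDepth J M ≤ xs.length := by
    rw [LocCoh.idealDepth, if_neg hJM]
    refine iSup₂_le fun rs hrs => ?_
    by_contra hlt
    refine htop (GrothLib.KoszulDepth16.isZero_of_isWeaklyRegular xs rs M hrs.2 hrs.1 0 ?_)
    have : xs.length < rs.length := by exact_mod_cast not_le.1 hlt
    omega
  refine ⟨hbound, fun p hp => ?_, fun r hr => ?_⟩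
  · have hp' : ((p + 1 : ℕ) : ℕ∞) ≤ LocCoh.idealDepth J M := by exact_mod_cast Order.add_one_le_of_lt hp
    obtain ⟨rs, hlen, hmem, hreg⟩ := (GrothLib.Depth.le_idealDepth_iff_exists J hJM (p + 1)).1 hp'
    exact GrothLib.KoszulDepth16.isZero_of_isWeaklyRegular xs rs M hmem hreg _ (by omega)
  · obtain ⟨rs, hlen, hmem, hreg⟩ := (GrothLib.Depth.le_idealDepth_iff_exists J hJM r).1 (le_of_eq hr.symm)
    subst hlen
    refine GrothLib.KoszulDepth16.not_isZero_of_maximal xs rs M hmem hreg ?_
    let Q := M ⧸ (Ideal.ofList rs • (⊤ : Submodule R M))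
    have hsub : (J : Set R) ⊆ ⋃ P ∈ associatedPrimes R Q, (P : Set R) := by
      intro y hy
      by_contra hny
      rw [biUnion_associatedPrimes_eq_zero_divisors] at hny
      have hregy : IsSMulRegular Q y := IsSMulRegular.of_right_eq_zero_of_smul fun z hz => by
        by_contra hz0
        exact hny ⟨z, hz0, hz⟩
      have hw : RingTheory.Sequence.IsWeaklyRegular M (rs ++ [y]) := by
        rw [RingTheory.Sequence.isWeaklyRegular_append_iff, RingTheory.Sequence.isWeaklyRegular_singleton_iff]
        exact ⟨hreg, hregy⟩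
      have h1 : ((rs.length + 1 : ℕ) : ℕ∞) ≤ LocCoh.idealDepth J M :=
        (GrothLib.Depth.le_idealDepth_iff_exists J hJM _).2 ⟨rs ++ [y], by simp, fun a ha => by
          rcases List.mem_append.1 ha with ha | ha
          · exact hmem a ha
          · rw [List.mem_singleton.1 ha]; exact hy, hw⟩
      rw [hr] at h1
      have : rs.length + 1 ≤ rs.length := by exact_mod_cast h1
      omega
    obtain ⟨P, hP, hJP⟩ := (Ideal.subset_union_prime_finite (associatedPrimes.finite R Q) ⊥ ⊥
      (fun P hP _ _ => IsAssociatedPrime.isPrime hP)).1 hsub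
    obtain ⟨hPp, z, rfl⟩ := isAssociatedPrime_iff.1 hP
    refine ⟨z, fun hz => hPp.ne_top ?_, fun a ha => by simpa [Submodule.mem_colon_singleton] using hJP ha⟩
    rw [Ideal.eq_top_iff_one, Submodule.mem_colon_singleton, hz, smul_zero]
    exact zero_mem _


end Groth.Agent.S14426
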