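import Groth.Statements.S14427
import Mathlib

set_option autoImplicit false
universe u
open CAlgX

namespace Groth.Agent.S14427

/-- Let k be a field and Λ a set of n ≥ 3 nonzero vectors of k^3 which are pairwise linearly
independent, i.e. n distinct k-rational points of the projective plane. Then the space of
homogeneous forms of degree n − 1 in k[x_0, x_1, x_2] vanishing at every point of Λ — the global
sections of I_Λ(n − 1) — has dimension C(n+1, 2) − n over k, the same for all such Λ. (The published
statement is over an algebraically closed field; this row allows any field and k-rational points,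
which is all its argument uses.) -/
theorem result (k : Type u) [Field k] (n : ℕ) (hn : 3 ≤ n)
    (Λ : Finset (Fin 3 → k)) (hcard : Λ.card = n) (h0 : ∀ v ∈ Λ, v ≠ 0)
    (hdist : ∀ v ∈ Λ, ∀ w ∈ Λ, v ≠ w → LinearIndependent k ![v, w]) :
    Module.finrank k ↥(MvPolynomial.homogeneousSubmodule (Fin 3) k (n - 1) ⊓ ⨅ v ∈ Λ, LinearMap.ker (MvPolynomial.aeval v).toLinearMap) = Nat.choose (n + 1) 2 - n := by
  classical
  set m := n - 1 with hm
  let H := MvPolynomial.homogeneousSubmodule (Fin 3) k m
  let eH : H ≃ₗ[k] ({d : Fin 3 →₀ ℕ | d.degree = m} →₀ k) :=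
    (LinearEquiv.ofEq _ _ (MvPolynomial.homogeneousSubmodule_eq_finsupp_supported (Fin 3) k m)).trans
      (AddMonoidAlgebra.supportedEquivFinsupp (R := k) (S := k) {d : Fin 3 →₀ ℕ | d.degree = m})
  have hS : {d : Fin 3 →₀ ℕ | d.degree = m} = ↑((Finset.univ : Finset (Fin 3)).finsuppAntidiag m) := by
    ext d
    simp [Finsupp.degree_eq_sum]
  let _ : Fintype {d : Fin 3 →₀ ℕ | d.degree = m} := Fintype.ofFinset _ (fun d => by rw [hS]; rfl)
  have hfin : Module.Finite k H := Module.Finite.equiv eH.symm
  have hrank : Module.finrank k H = (n + 1).choose 2 := by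
    rw [eH.finrank_eq, Module.finrank_finsupp_self, Fintype.card_ofFinset,
      Finset.card_finsuppAntidiag_nat_eq_choose, Finset.card_univ, Fintype.card_fin,
      show 3 + m - 1 = n + 1 by omega, ← Nat.choose_symm (show 2 ≤ n + 1 by omega),
      show n + 1 - 2 = m by omega]
  let ev : H →ₗ[k] (Λ → k) := LinearMap.pi fun v =>
    (MvPolynomial.aeval (v : Fin 3 → k)).toLinearMap ∘ₗ H.subtype
  have hker : LinearMap.ker ev =
      (⨅ v ∈ Λ, LinearMap.ker (MvPolynomial.aeval v).toLinearMap).comap H.subtype := by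
    ext f
    simp [ev, funext_iff]
  have hsurj : Function.Surjective ev := by
    have hsep : ∀ v ∈ Λ, ∀ w ∈ Λ, w ≠ v → ∃ p : MvPolynomial (Fin 3) k, p.IsHomogeneous 1 ∧
        MvPolynomial.aeval w p = 0 ∧ MvPolynomial.aeval v p ≠ 0 := by
      intro v hv w hw hne
      have hnot : v ∉ Submodule.span k {w} := by
        intro h
        obtain ⟨c, rfl⟩ := Submodule.mem_span_singleton.mp h
        exact one_ne_zero ((LinearIndependent.pair_iff.mp (hdist w hw _ hv hne) (-c) 1 (by simp)).2)
      obtain ⟨ℓ, hℓv, hℓw⟩ := Submodule.exists_dual_map_eq_bot_of_notMem hnot inferInstance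
      refine ⟨∑ i, MvPolynomial.C (ℓ (Pi.single i 1)) * MvPolynomial.X i, ?_, ?_⟩
      · exact MvPolynomial.IsHomogeneous.sum _ _ 1 fun i _ =>
          by simpa using (MvPolynomial.isHomogeneous_C (Fin 3) (ℓ (Pi.single i 1))).mul (MvPolynomial.isHomogeneous_X k i)
      · have he : ∀ u : Fin 3 → k,
            MvPolynomial.aeval u (∑ i, MvPolynomial.C (ℓ (Pi.single i 1)) * MvPolynomial.X i) = ℓ u := fun u => by
          conv_rhs => rw [pi_eq_sum_univ' u, map_sum]
          simp [map_smul, mul_comm]
        rw [he, he]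
        refine ⟨?_, hℓv⟩
        have : ℓ w ∈ (Submodule.span k {w}).map ℓ := ⟨w, Submodule.mem_span_singleton_self w, rfl⟩
        rwa [hℓw, Submodule.mem_bot] at this
    intro y
    suffices h : ∀ v : Λ, Pi.single v (1 : k) ∈ LinearMap.range ev by
      have hy : y ∈ LinearMap.range ev := by
        rw [pi_eq_sum_univ' y]
        exact Submodule.sum_mem _ fun v _ => Submodule.smul_mem _ _ (h v)
      exact hy
    rintro ⟨v, hv⟩
    choose! p hp hpw hpv using hsep v hv
    let P := ∏ w ∈ Λ.erase v, p w
    have hPd : P.IsHomogeneous m := by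
      have h := MvPolynomial.IsHomogeneous.prod (Λ.erase v) p (fun _ => 1)
        (fun w hw => hp w (Finset.mem_of_mem_erase hw) (Finset.ne_of_mem_erase hw))
      rwa [Finset.sum_const, smul_eq_mul, mul_one, Finset.card_erase_of_mem hv, hcard] at h
    have hPv : MvPolynomial.aeval v P ≠ 0 := by
      rw [map_prod]
      exact Finset.prod_ne_zero_iff.mpr fun w hw =>
        hpv w (Finset.mem_of_mem_erase hw) (Finset.ne_of_mem_erase hw)
    refine ⟨(MvPolynomial.aeval v P)⁻¹ • ⟨P, hPd⟩, funext fun w => ?_⟩
    rw [map_smul]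
    show (MvPolynomial.aeval v P)⁻¹ * MvPolynomial.aeval (w : Fin 3 → k) P = _
    rcases eq_or_ne w ⟨v, hv⟩ with rfl | hne
    · rw [Pi.single_eq_same, inv_mul_cancel₀ hPv]
    · have hne' : (w : Fin 3 → k) ≠ v := fun e => hne (Subtype.ext e)
      rw [Pi.single_eq_of_ne hne]
      refine mul_eq_zero_of_right _ ?_
      rw [map_prod]
      exact Finset.prod_eq_zero (Finset.mem_erase.mpr ⟨hne', w.2⟩) (hpw _ w.2 hne')
  have h1 := ev.finrank_range_add_finrank_ker
  rw [LinearMap.range_eq_top.mpr hsurj, finrank_top, Module.finrank_pi, Fintype.card_coe, hcard,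
    hrank, hker] at h1
  rw [← Submodule.map_comap_subtype,
    ← (Submodule.equivMapOfInjective H.subtype H.injective_subtype _).finrank_eq]
  have h2 : Module.finrank k ((⨅ v ∈ Λ, LinearMap.ker (MvPolynomial.aeval v).toLinearMap).comap H.subtype) =
      (n + 1).choose 2 - n := by omega
  exact h2

end Groth.Agent.S14427
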