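import Groth.Statements.S14428
import Mathlib

set_option autoImplicit false
universe u
open CAlgX

namespace Groth.Agent.S14428

variable {k : Type u} [Field k]

/-- A linear form vanishing at the given vectors but not at `v`. -/
theorem exists_form (s : Set (Fin 3 → k)) {v : Fin 3 → k} (hv : v ∉ Submodule.span k s) :
    ∃ p : MvPolynomial (Fin 3) k, p.IsHomogeneous 1 ∧ (∀ w ∈ s, MvPolynomial.aeval w p = 0) ∧
      MvPolynomial.aeval v p ≠ 0 := by
  classical
  obtain ⟨ℓ, hℓv, hℓw⟩ := Submodule.exists_dual_map_eq_bot_of_notMem hv inferInstance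
  refine ⟨∑ i, MvPolynomial.C (ℓ (Pi.single i 1)) * MvPolynomial.X i, ?_, ?_⟩
  · exact MvPolynomial.IsHomogeneous.sum _ _ 1 fun i _ =>
      by simpa using (MvPolynomial.isHomogeneous_C (Fin 3) (ℓ (Pi.single i 1))).mul (MvPolynomial.isHomogeneous_X k i)
  · have he : ∀ u : Fin 3 → k,
        MvPolynomial.aeval u (∑ i, MvPolynomial.C (ℓ (Pi.single i 1)) * MvPolynomial.X i) = ℓ u := fun u => by
      conv_rhs => rw [pi_eq_sum_univ' u, map_sum]
      simp [map_smul, mul_comm]
    refine ⟨fun w hw => ?_, by rwa [he]⟩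
    rw [he]
    have : ℓ w ∈ (Submodule.span k s).map ℓ := ⟨w, Submodule.subset_span hw, rfl⟩
    rwa [hℓw, Submodule.mem_bot] at this

theorem half (n : ℕ) (Λ Λ' : Finset (Fin 3 → k)) (hcard' : Λ'.card = n) (hn : 3 ≤ n)
    (h0 : ∀ v ∈ Λ, v ≠ 0) (h0' : ∀ v ∈ Λ', v ≠ 0)
    (hdist' : ∀ v ∈ Λ', ∀ w ∈ Λ', v ≠ w → LinearIndependent k ![v, w])
    (hline' : ¬ ∃ ℓ : (Fin 3 → k) →ₗ[k] k, ℓ ≠ 0 ∧ ∀ v ∈ Λ', ℓ v = 0)
    (heq : (MvPolynomial.homogeneousSubmodule (Fin 3) k (n - 1) ⊓ ⨅ v ∈ Λ', LinearMap.ker (MvPolynomial.aeval v).toLinearMap) ≤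
      ⨅ v ∈ Λ, LinearMap.ker (MvPolynomial.aeval v).toLinearMap) :
    ∀ v ∈ Λ, ∃ w ∈ Λ', ∃ c : k, v = c • w := by
  classical
  intro v hv
  by_contra hcon
  push Not at hcon
  have hsingle : ∀ w ∈ Λ', v ∉ Submodule.span k ({w} : Set (Fin 3 → k)) := fun w hw hm => by
    obtain ⟨c, hc⟩ := Submodule.mem_span_singleton.mp hm
    exact hcon w hw c hc.symm
  obtain ⟨a, ha, b, hb, hab, habv⟩ : ∃ a ∈ Λ', ∃ b ∈ Λ', a ≠ b ∧ v ∉ Submodule.span k ({a, b} : Set (Fin 3 → k)) := by
    by_contra hno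
    push Not at hno
    obtain ⟨a, ha⟩ := Finset.card_pos.mp (by omega : 0 < Λ'.card)
    have hsub : ∀ w ∈ Λ', w ∈ Submodule.span k ({a, v} : Set (Fin 3 → k)) := fun w hw => by
      rcases eq_or_ne a w with rfl | hne
      · exact Submodule.subset_span (Set.mem_insert _ _)
      · obtain ⟨x, y, hxy⟩ := Submodule.mem_span_pair.mp (hno a ha w hw hne)
        have hy : y ≠ 0 := fun h => hcon a ha x (by rw [← hxy, h, zero_smul, add_zero])
        refine Submodule.mem_span_pair.mpr ⟨-(x / y), y⁻¹, ?_⟩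
        rw [← hxy, smul_add, smul_smul, smul_smul, inv_mul_cancel₀ hy, one_smul, ← add_assoc, ← add_smul,
          div_eq_inv_mul, neg_add_cancel, zero_smul, zero_add]
    have hne : Submodule.span k ({a, v} : Set (Fin 3 → k)) ≠ ⊤ := by
      intro htop
      have h := congrArg (fun S : Submodule k (Fin 3 → k) => Module.finrank k S) htop
      change Module.finrank k _ = Module.finrank k _ at h
      rw [finrank_top, Module.finrank_fin_fun] at h
      have h2 := finrank_span_finset_le_card (R := k) ({a, v} : Finset (Fin 3 → k))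
      rw [Finset.coe_insert, Finset.coe_singleton, Set.finrank, h] at h2
      exact absurd (h2.trans Finset.card_le_two) (by norm_num)
    obtain ⟨x, hx⟩ : ∃ x, x ∉ Submodule.span k ({a, v} : Set (Fin 3 → k)) := by
      by_contra hh
      push Not at hh
      exact hne (eq_top_iff.mpr fun x _ => hh x)
    obtain ⟨ℓ, hℓx, hℓ⟩ := Submodule.exists_dual_map_eq_bot_of_notMem hx inferInstance
    refine hline' ⟨ℓ, fun h => hℓx (by rw [h]; rfl), fun w hw => ?_⟩
    have : ℓ w ∈ (Submodule.span k ({a, v} : Set (Fin 3 → k))).map ℓ := ⟨w, hsub w hw, rfl⟩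
    rwa [hℓ, Submodule.mem_bot] at this
  obtain ⟨P, hP, hPs, hPv⟩ := exists_form _ habv
  choose! q hq hqw hqv using fun w (hw : w ∈ Λ') => exists_form _ (hsingle w hw)
  let R := (Λ'.erase a).erase b
  have hR : R.card = n - 2 := by
    rw [Finset.card_erase_of_mem (Finset.mem_erase.mpr ⟨hab.symm, hb⟩), Finset.card_erase_of_mem ha, hcard']
    omega
  let F := P * ∏ w ∈ R, q w
  have hRmem : ∀ w ∈ R, w ∈ Λ' := fun w hw => Finset.mem_of_mem_erase (Finset.mem_of_mem_erase hw)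
  have hF : F.IsHomogeneous (n - 1) := by
    have h := hP.mul (MvPolynomial.IsHomogeneous.prod R q (fun _ => 1) fun w hw => hq w (hRmem w hw))
    rwa [Finset.sum_const, smul_eq_mul, mul_one, hR, show 1 + (n - 2) = n - 1 by omega] at h
  have hFΛ : F ∈ ⨅ v ∈ Λ, LinearMap.ker (MvPolynomial.aeval v).toLinearMap := by
    refine heq ⟨hF, ?_⟩
    simp only [SetLike.mem_coe, Submodule.mem_iInf, LinearMap.mem_ker, AlgHom.toLinearMap_apply]
    intro w hw
    rw [map_mul]
    by_cases hwR : w ∈ R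
    · refine mul_eq_zero_of_right _ ?_
      rw [map_prod]
      exact Finset.prod_eq_zero hwR (hqw w hw w rfl)
    · refine mul_eq_zero_of_left (hPs w ?_) _
      simp only [R, Finset.mem_erase, not_and] at hwR
      by_contra hh
      simp only [Set.mem_insert_iff, Set.mem_singleton_iff, not_or] at hh
      exact hwR hh.2 hh.1 hw
  simp only [Submodule.mem_iInf, LinearMap.mem_ker, AlgHom.toLinearMap_apply] at hFΛ
  have := hFΛ v hv
  rw [map_mul, map_prod] at this
  exact mul_ne_zero hPv (Finset.prod_ne_zero_iff.mpr fun w hw => hqv w (hRmem w hw)) this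

/-- Let k be a field, n ≥ 3, and let Λ and Λ' be two sets of n nonzero, pairwise linearly independent
vectors of k^3 (n distinct k-rational points of the projective plane each), neither lying on a line
(no nonzero linear form vanishes on all of Λ, resp. Λ'). If the spaces of homogeneous forms of
degree n − 1 vanishing on Λ and on Λ' coincide, then Λ and Λ' define the same set of points of the
plane: the assignment Λ ↦ H^0(P^2, I_Λ(n − 1)), with values in a Grassmannian, is injective on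
non-collinear sets. (The published statement is over an algebraically closed field; this row allows
any field and k-rational points, which is all its argument uses.) -/
theorem result (k : Type u) [Field k] (n : ℕ) (hn : 3 ≤ n)
    (Λ Λ' : Finset (Fin 3 → k)) (hcard : Λ.card = n) (hcard' : Λ'.card = n)
    (h0 : ∀ v ∈ Λ, v ≠ 0) (h0' : ∀ v ∈ Λ', v ≠ 0)
    (hdist : ∀ v ∈ Λ, ∀ w ∈ Λ, v ≠ w → LinearIndependent k ![v, w])
    (hdist' : ∀ v ∈ Λ', ∀ w ∈ Λ', v ≠ w → LinearIndependent k ![v, w])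
    (hline : ¬ ∃ ℓ : (Fin 3 → k) →ₗ[k] k, ℓ ≠ 0 ∧ ∀ v ∈ Λ, ℓ v = 0)
    (hline' : ¬ ∃ ℓ : (Fin 3 → k) →ₗ[k] k, ℓ ≠ 0 ∧ ∀ v ∈ Λ', ℓ v = 0)
    (heq : (MvPolynomial.homogeneousSubmodule (Fin 3) k (n - 1) ⊓ ⨅ v ∈ Λ, LinearMap.ker (MvPolynomial.aeval v).toLinearMap) = (MvPolynomial.homogeneousSubmodule (Fin 3) k (n - 1) ⊓ ⨅ v ∈ Λ', LinearMap.ker (MvPolynomial.aeval v).toLinearMap)) :
    (∀ v ∈ Λ, ∃ w ∈ Λ', ∃ c : k, v = c • w) ∧ (∀ w ∈ Λ', ∃ v ∈ Λ, ∃ c : k, w = c • v) := by
  exact ⟨half n Λ Λ' hcard' hn h0 h0' hdist' hline' (heq.symm.le.trans inf_le_right),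
    half n Λ' Λ hcard hn h0' h0 hdist hline (heq.le.trans inf_le_right)⟩

end Groth.Agent.S14428
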