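import Groth.Statements.S1443
import Groth.Agent.Lib.RightAdj22.TopRepApps
import Groth.Agent.Lib.RelVanish.Basic
-- import your own Groth.Agent.* helpers here

set_option autoImplicit false
universe u
open FlatMor GrothLib GrothLib.Cohom

namespace Groth.Agent.S1443

open AlgebraicGeometry CategoryTheory Limits in
/-- Let f : X → Y be a proper morphism with Y affine such that every fibre X_y has dimension ≤ 1 and
H¹(X_y, O_{X_y}) = 0. Then H^p(X, F) = 0 for every quasi-coherent O_X-module F and every p ≥ 2. -/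
theorem result {X Y : Scheme.{u}} (f : X ⟶ Y) [IsProper f] [IsAffine Y]
    (hdim : ∀ y : Y, topologicalKrullDim ↑(f.fiber y) ≤ 1) (hH1 : ∀ y : Y, Subsingleton (Coh.HH (f.fiber y) (Coh.structureModule (f.fiber y)) 1))
    (F : X.Modules) (hF : Coh.IsQCoh F) (p : ℕ) (hp : 2 ≤ p) : Subsingleton (Coh.HH X F p) := by
  haveI := GrothLib.RpushSupp20.hasInjectiveResolutions X
  haveI := hF
  have hz := GrothLib.RightAdj22.isZero_Rpush_of_fibreDim f 1 hdim F hF p hp
  haveI := GrothLib.RelVanish.subsingleton_HHon_of_isZero_Rpush f F p (isAffineOpen_top Y) hz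
  haveI : Subsingleton (Coh.HHon X F ⊤ p) := this
  obtain ⟨e⟩ := GrothLib.Cohom.nonempty_HHon_equiv F ⊤ p
  haveI := e.toEquiv.symm.subsingleton
  exact (HEquivTop _ p).toEquiv.subsingleton

end Groth.Agent.S1443
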