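import Groth.Statements.S14430
import Groth.Agent.Lib.K0Sub.Regular
import Groth.Agent.Lib.K0Sub.LocFree
import Groth.Agent.Lib.ResProp22.Ample
import Groth.Agent.Lib.Ample.ProjAmple
import Groth.Agent.Lib.Ample.RelAmple
import Groth.Agent.Lib.WeilExt.Extend
import Groth.Agent.Lib.CMReg.Resolution

set_option autoImplicit false
universe u
open CategoryTheory CategoryTheory.Limits AlgebraicGeometry
open KZero

namespace Groth.Agent.S14430

/-- Let k be an algebraically closed field and X a smooth quasi-projective variety over k — here a
k-scheme smooth over k admitting an immersion into some P^N_k over k. Write K^0(X) for the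
Grothendieck group of finite locally free O_X-modules and K_0(X) for that of coherent O_X-modules
(K_0 of the corresponding full subcategories of O_X-modules, with relations from short exact
sequences all of whose terms lie in the subcategory). Then there is a homomorphism K^0(X) → K_0(X)
sending the class of each finite locally free E to its class as a coherent module (the canonical
one, determined by this), and it is bijective. (The published statement is for smooth
quasi-projective varieties; this row takes a k-scheme smooth over k with an immersion into some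
P^N_k, reduced since smooth; irreducibility is not assumed.) -/
theorem result (k : Type u) [Field k] [IsAlgClosed k] (N : ℕ)
    (X : Scheme.{u}) [X.Over (Spec (CommRingCat.of k))] [Smooth (X ↘ Spec (CommRingCat.of k))]
    (ι : X ⟶ CohB1.ProjSpace N k) [IsImmersion ι] (hι : ι ≫ CohB1.ProjSpace.toSpec N k = X ↘ Spec (CommRingCat.of k)) :
    ∃ α : KZero.K0sub (fun M : X.Modules => FlatMod.IsFinLocFree M) →+ KZero.K0sub (fun M : X.Modules => Coh.IsCoh M),
      (∀ E : X.Modules, FlatMod.IsFinLocFree E →
        α (KZero.clSub (fun M : X.Modules => FlatMod.IsFinLocFree M) E) = KZero.clSub (fun M : X.Modules => Coh.IsCoh M) E) ∧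
      Function.Bijective α := by
  haveI : AlgebraicGeometry.IsNoetherian (CohB1.ProjSpace N k) := GrothLib.CMReg.isNoetherian_projSpace
  haveI : IsLocallyNoetherian X := LocallyOfFiniteType.isLocallyNoetherian ι
  haveI : CompactSpace X := by
    refine ⟨ι.isEmbedding.isInducing.isCompact_iff.2 ?_⟩
    exact TopologicalSpace.NoetherianSpace.isCompact _
  haveI : AlgebraicGeometry.IsNoetherian X := {}
  have hres := GrothLib.ResProp22.hasResolutionProperty_of_isAmple
    (GrothLib.Ample.isAmple_pullback_of_isEmbedding ι ι.isEmbedding (GrothLib.Ample.isAmple_twistProjSpace_one N k))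
  have hX : KRR.HasEnoughLocFree X := fun F hF => hres F hF.1 hF.2
  have hS : ∀ s : Spec (CommRingCat.of k), IsRegularLocalRing ((Spec (CommRingCat.of k)).presheaf.stalk s) :=
    GrothLib.WeilExt.isRegularLocalRing_stalk_spec k
  have hreg : ∀ x : X, IsRegularLocalRing (X.presheaf.stalk x) :=
    GrothLib.WeilExt.isRegularLocalRing_stalk_of_smooth (X ↘ Spec (CommRingCat.of k)) hS
  let h := GrothLib.K0Sub.resHyp_vb hX
  refine ⟨SGA6.mapSub (𝟭 _) (KRR.vbP X) (GrothLib.K0Sub.cohP X) h.le, fun E hE => GrothLib.K0Sub.mapSub_clSub _ _ _ hE, ?_⟩
  refine GrothLib.K0Sub.bijective_mapSub h fun M hM => ?_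
  obtain ⟨n, hn⟩ := GrothLib.K0Sub.exists_pd_regular hX hreg hM
  exact ⟨n, GrothLib.K0Sub.exists_R_of_pd hX n M hM hn⟩

end Groth.Agent.S14430
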