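import Groth.Agent.Lib.Jets.Scheme
import Groth.Agent.Lib.Jets.CharZero
import Groth.Agent.Lib.CurveMult.TwistHom

set_option autoImplicit false
universe u
open CategoryTheory CategoryTheory.Limits AlgebraicGeometry
open Variety

namespace Groth.Agent.S14431

/-- Let k be an algebraically closed field of characteristic zero, X an integral k-scheme of finite type
which is smooth over k, L an invertible O_X-module and s_0, …, s_m global sections of L (morphisms
O_X → L) generating L, i.e. their zero schemes have empty intersection (the sum of their zero ideal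
sheaves is the unit ideal). Then the members of the linear system spanned by the s_i corresponding
to a nonempty Zariski-open set of parameters are smooth: there is a nonzero polynomial p in m + 1
variables over k such that for every c ∈ k^{m+1} with p(c) ≠ 0 the zero scheme of the section Σ c_i
s_i is smooth over k (equivalently, the corresponding divisor is reduced with smooth support). (The
published statement is for varieties, which are separated; this row does not assume X separated.) -/
theorem result (k : Type u) [Field k] [IsAlgClosed k] [CharZero k]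
    (X : Scheme.{u}) [X.Over (Spec (CommRingCat.of k))] [IsIntegral X]
    [Smooth (X ↘ Spec (CommRingCat.of k))] [QuasiCompact (X ↘ Spec (CommRingCat.of k))]
    (L : X.Modules) (hL : FlatMod.IsFinLocFreeOfRank 1 L) (m : ℕ)
    (s : Fin (m + 1) → (Coh.structureModule X ⟶ L))
    (hgen : ⨆ i : Fin (m + 1), PicF2.zeroScheme L (s i) = ⊤) :
    ∃ p : MvPolynomial (Fin (m + 1)) k, p ≠ 0 ∧ ∀ c : Fin (m + 1) → k, MvPolynomial.eval c p ≠ 0 →
      Smooth ((PicF2.zeroScheme L (∑ i : Fin (m + 1), Formal.smulMod k (Coh.structureModule X) (c i) ≫ s i)).subschemeι ≫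
        (X ↘ Spec (CommRingCat.of k))) := by
  classical
  haveI : CompactSpace X := QuasiCompact.compactSpace_of_compactSpace (X ↘ Spec (CommRingCat.of k))
  have hinv : PicF.IsInvertible L := GrothLib.CurveMult.isInvertible_of_rank_one hL
  obtain ⟨ι, _, U, e, hcov, he⟩ := GrothLib.Jets.exists_finite_gen_cover hinv
  have key : ∀ i, ∃ P : MvPolynomial (Fin (m + 1)) k, P ≠ 0 ∧ ∀ c : Fin (m + 1) → k, MvPolynomial.eval c P ≠ 0 →
      letI := GrothLib.Jets.constAlgebra (k := k) (U i).1
      Algebra.Smooth k (Γ(X, (U i).1) ⧸ (PicF2.zeroScheme L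
        (∑ j : Fin (m + 1), Formal.smulMod k (Coh.structureModule X) (c j) ≫ s j)).ideal (U i)) := by
    intro i
    letI := GrothLib.Jets.constAlgebra (k := k) (U i).1
    haveI : Algebra.Smooth k Γ(X, (U i).1) := GrothLib.Jets.smooth_constHom (U i)
    have hgen' := fun m' : Γ(L, (U i).1) => (he i).exists_smul_eq le_rfl m'
    simp only [GrothLib.InvExt.mres_self] at hgen'
    choose g hg using fun j : Fin (m + 1) => hgen' (PicF2.secVal L (s j) (U i).1)
    have hspan : Ideal.span (Set.range g) = ⊤ := by
      have h := congrFun (congrArg Scheme.IdealSheafData.ideal hgen) (U i)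
      rw [Scheme.IdealSheafData.ideal_iSup, iSup_apply] at h
      simp only [Scheme.IdealSheafData.ideal_top, Pi.top_apply,
        fun j => GrothLib.Jets.zeroScheme_ideal_gen hinv (s j) (U i) (he i) (hg j)] at h
      rw [← h, ← Ideal.span_iUnion, Set.iUnion_singleton_eq_range]
    obtain ⟨P, hP0, hP⟩ := GrothLib.Jets.exists_poly_smooth_charZero (k := k) g hspan
    refine ⟨P, hP0, fun c hc => ?_⟩
    rw [GrothLib.Jets.zeroScheme_ideal_gen hinv _ (U i) (he i) (c := ∑ j, c j • g j) ?_]
    · exact hP c hc
    · rw [GrothLib.Jets.secVal_sum_smulMod L s c (U i).1, Finset.sum_smul]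
      refine Finset.sum_congr rfl fun j _ => ?_
      rw [hg j, smul_smul]
      rfl
  choose P hP0 hP using key
  haveI := Fintype.ofFinite ι
  refine ⟨∏ i, P i, Finset.prod_ne_zero_iff.mpr fun i _ => hP0 i, fun c hc => ?_⟩
  rw [map_prod] at hc
  exact GrothLib.Jets.smooth_subschemeι_over _ U hcov
    fun i => hP i c (Finset.prod_ne_zero_iff.mp hc i (Finset.mem_univ i))

end Groth.Agent.S14431
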