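import Groth.Statements.S14433
import Groth.Agent.Lib.KoszulMod.Basic

set_option autoImplicit false
universe u
open Koszul3

namespace Groth.Agent.S14433

open CategoryTheory CategoryTheory.Limits in
/-- Let R be a commutative ring, M an R-module, x = (x_1, …, x_n) elements of R and a an element of the
ideal (x_1, …, x_n). Then multiplication by a on the Koszul complex K(x; M) is homotopic to the zero
map (so a annihilates every Koszul cohomology module, and K(x; M) is exact when the x_i generate the
unit ideal). (The published statement is for the Koszul complex of a linear form φ : E → R and a ∈
φ(E); stated here for E free of finite rank, with the Koszul complex realised by iterated mapping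
cones as in the prelude, which is isomorphic to the exterior-algebra complex.) -/
theorem result {R : Type u} [CommRing R] (M : Type u) [AddCommGroup M] [Module R M]
    (xs : List R) (a : R) (ha : a ∈ Ideal.span {x | x ∈ xs}) :
    Nonempty (Homotopy (a • 𝟙 (CohIII.koszulCx (ModuleCat.of R M) xs)) 0) := 
  GrothLib.KoszulMod.nonempty_homotopy_of_mem_span _ xs a ha


end Groth.Agent.S14433
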