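import Groth.Statements.S14434
import Groth.Agent.Lib.PdResolution.Basic
import Groth.Agent.Lib.Flatness.Tor
-- import your own Groth.Agent.* helpers here

set_option autoImplicit false
universe u
open CAlg

namespace Groth.Agent.S14434

/-- Let R be a commutative ring, M an R-module and x ∈ R a non-zero-divisor on R and on M. Then
Tor_i^R(M, R/(x)) = 0 for all i ≥ 1 (Tor computed as the left derived functors of the tensor product
on R-modules). -/
theorem result {R : Type u} [CommRing R] (M : Type u) [AddCommGroup M] [Module R M]
    (x : R) (hxR : IsSMulRegular R x) (hxM : IsSMulRegular M x) (i : ℕ) (hi : 1 ≤ i) :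
    Subsingleton (DRing.Tor R i M (R ⧸ Ideal.span {x})) := by
  let k : R →ₗ[R] R := LinearMap.mulLeft R x
  let q : R →ₗ[R] R ⧸ Ideal.span {x} := (Ideal.span {x}).mkQ
  have hk : Function.Injective k := hxR
  have hkq : Function.Exact k q := fun r => by
    refine ⟨fun h => ?_, ?_⟩
    · obtain ⟨c, rfl⟩ := Ideal.mem_span_singleton'.1 ((Submodule.Quotient.mk_eq_zero _).1 h)
      exact ⟨c, mul_comm _ _⟩
    · rintro ⟨c, rfl⟩
      exact (Submodule.Quotient.mk_eq_zero _).2 (Ideal.mem_span_singleton'.2 ⟨c, mul_comm _ _⟩)
  refine ModuleCat.subsingleton_of_isZero ?_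
  rcases Nat.lt_or_eq_of_le hi with h | rfl
  · let S : CategoryTheory.ShortComplex (ModuleCat.{u} R) :=
      CategoryTheory.ShortComplex.moduleCatMk k q hkq.linearMap_comp_eq_zero
    have hS : S.ShortExact :=
      { exact := (CategoryTheory.ShortComplex.moduleCat_exact_iff _).2 fun r hr => (hkq r).1 hr
        mono_f := (ModuleCat.mono_iff_injective _).2 hk
        epi_g := (ModuleCat.epi_iff_surjective _).2 (Submodule.mkQ_surjective _) }
    haveI hP : CategoryTheory.Projective (ModuleCat.of R R) :=
      (IsProjective.iff_projective _).1 inferInstance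
    have hpd : CategoryTheory.HasProjectiveDimensionLE (ModuleCat.of R (R ⧸ Ideal.span {x})) 1 :=
      (hS.hasProjectiveDimensionLT_X₃_iff 0 hP).2
        ((CategoryTheory.projective_iff_hasProjectiveDimensionLE_zero (ModuleCat.of R R)).1 hP)
    obtain ⟨P, hP'⟩ := GrothLib.PdResolution.exists_resolution 1 _ hpd
    refine CategoryTheory.Limits.IsZero.of_iso ?_
      (P.isoLeftDerivedObj ((CategoryTheory.MonoidalCategory.tensoringLeft (ModuleCat.{u} R)).obj (ModuleCat.of R M)) i)
    refine (HomologicalComplex.exactAt_iff_isZero_homology _ _).1 (HomologicalComplex.ExactAt.of_isZero ?_)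
    exact CategoryTheory.Functor.map_isZero
      ((CategoryTheory.MonoidalCategory.tensoringLeft (ModuleCat.{u} R)).obj (ModuleCat.of R M)) (hP' i h)
  · refine (GrothLib.Flatness.isZero_tor_one_iff_good R M _).2
      (GrothLib.Flatness.Good.of_presentation k q hk (Submodule.mkQ_surjective _) hkq
        GrothLib.Flatness.Good.of_projective fun a b hab => ?_)
    apply (TensorProduct.rid R M).injective
    apply hxM
    have key : ∀ z, TensorProduct.rid R M (k.lTensor M z) = x • TensorProduct.rid R M z := by
      intro z
      induction z using TensorProduct.induction_on with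
      | zero => simp
      | tmul m r => simp [k, smul_smul]
      | add a b ha hb => simp [ha, hb]
    show x • TensorProduct.rid R M a = x • TensorProduct.rid R M b
    rw [← key, ← key, hab]

end Groth.Agent.S14434
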