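import Groth.Statements.S14436
import Mathlib

set_option autoImplicit false
universe u
open CAlg
open scoped IntermediateField.algebraAdjoinAdjoin TensorProduct

namespace Groth.Agent.S14436

/-- Let L/K be a finitely generated field extension which is separable in the sense that it has a
transcendence basis a_1, …, a_n over which L is a (finite) separable extension of K(a_1, …, a_n).
Then dim_L Ω_{L/K} = n, the transcendence degree of L over K. -/
theorem result (K L : Type u) [Field K] [Field L] [Algebra K L]
    (hfg : ∃ s : Finset L, IntermediateField.adjoin K (s : Set L) = ⊤)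
    (n : ℕ) (a : Fin n → L) (ha : IsTranscendenceBasis K a)
    (hsep : Algebra.IsSeparable ↥(IntermediateField.adjoin K (Set.range a)) L) :
    Module.finrank L (Ω[L⁄K]) = n := by
  classical
  let P := MvPolynomial (Fin n) K
  let B := Algebra.adjoin K (Set.range a)
  let F := IntermediateField.adjoin K (Set.range a)
  have hb : AlgebraicIndependent K a := ha.1
  have : Algebra.FormallyEtale B F := .of_isLocalization (nonZeroDivisors _)
  have : Algebra.FormallyEtale F L := Algebra.FormallyEtale.of_isSeparable _ L
  have hBL : Algebra.FormallyEtale B L := .comp B F L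
  let _ : Algebra P B := hb.aevalEquiv.toAlgHom.toRingHom.toAlgebra
  let _ : Algebra P L := (MvPolynomial.aeval a).toRingHom.toAlgebra
  have : IsScalarTower P B L := .of_algebraMap_eq fun x => (hb.algebraMap_aevalEquiv x).symm
  have : IsScalarTower K P L := .of_algebraMap_eq fun x => ((MvPolynomial.aeval a).commutes x).symm
  have : Algebra.FormallyEtale P B :=
    .of_equiv ({ hb.aevalEquiv.toRingEquiv with commutes' := fun _ => rfl } : P ≃ₐ[P] B)
  have : Algebra.FormallyEtale P L := .comp P B L
  let bb := Module.Basis.baseChange L (KaehlerDifferential.mvPolynomialBasis K (Fin n))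
  rw [← (KaehlerDifferential.tensorKaehlerEquivOfFormallyEtale K P L).finrank_eq,
    Module.finrank_eq_card_basis bb, Fintype.card_fin]

end Groth.Agent.S14436
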