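import Groth.Statements.S6320
import Groth.Agent.Lib.DualRing.Len
import Mathlib.RingTheory.FiniteLength
import Mathlib.LinearAlgebra.Dimension.Finite

set_option autoImplicit false
universe u
open CAlg

namespace Groth.Agent.S6320

theorem length_quotient_over {A B : Type u} [CommRing A] [IsLocalRing A] [CommRing B] [Algebra A B]
    (hover : ∀ n : MaximalSpectrum B, n.asIdeal.comap (algebraMap A B) = IsLocalRing.maximalIdeal A)
    (hfin : ∀ n : MaximalSpectrum B, Module.Finite (A ⧸ n.asIdeal.comap (algebraMap A B)) (B ⧸ n.asIdeal))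
    (n : MaximalSpectrum B) :
    Module.length A (B ⧸ n.asIdeal) =
      (Module.finrank (A ⧸ n.asIdeal.comap (algebraMap A B)) (B ⧸ n.asIdeal) : ℕ∞) := by
  haveI : (n.asIdeal.comap (algebraMap A B)).IsMaximal := hover n ▸ IsLocalRing.maximalIdeal.isMaximal A
  letI := Ideal.Quotient.field (n.asIdeal.comap (algebraMap A B))
  haveI := hfin n
  haveI : IsScalarTower A (A ⧸ n.asIdeal.comap (algebraMap A B)) (B ⧸ n.asIdeal) :=
    IsScalarTower.of_algebraMap_eq fun _ => rfl
  rw [Module.length_eq_of_surjective (M := B ⧸ n.asIdeal)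
    (Ideal.Quotient.mk_surjective (I := n.asIdeal.comap (algebraMap A B))), Module.length_eq_finrank]



/-- Let A be a local ring with maximal ideal m, B a semi-local ring with maximal ideals m₁, …, mₙ and A
→ B a ring map such that each mᵢ lies over m with [κ(mᵢ) : κ(m)] finite. Then for every B-module M
of finite length, length_A(M) = Σᵢ [κ(mᵢ) : κ(m)] · length_{B_{mᵢ}}(M_{mᵢ}); in particular
length_A(M) is finite. -/
theorem result {A B : Type u} [CommRing A] [IsLocalRing A] [CommRing B] [Algebra A B] [Finite (MaximalSpectrum B)] (hover : ∀ n : MaximalSpectrum B, n.asIdeal.comap (algebraMap A B) = IsLocalRing.maximalIdeal A) (hfin : ∀ n : MaximalSpectrum B, Module.Finite (A ⧸ n.asIdeal.comap (algebraMap A B)) (B ⧸ n.asIdeal)) (M : Type u) [AddCommGroup M] [Module B M] [Module A M] [IsScalarTower A B M] (hM : IsFiniteLength B M) : Module.length A M = ∑ᶠ n : MaximalSpectrum B, (Module.finrank (A ⧸ n.asIdeal.comap (algebraMap A B)) (B ⧸ n.asIdeal) : ℕ∞) * Module.length (Localization.AtPrime n.asIdeal) (LocalizedModule n.asIdeal.primeCompl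 M) := by
  classical
  haveI := Fintype.ofFinite (MaximalSpectrum B)
  rw [finsum_eq_sum_of_fintype]
  suffices H : ∀ (M : Type u) [AddCommGroup M] [Module B M], IsFiniteLength B M → ∀ [Module A M] [IsScalarTower A B M],
      Module.length A M = ∑ n : MaximalSpectrum B,
        (Module.finrank (A ⧸ n.asIdeal.comap (algebraMap A B)) (B ⧸ n.asIdeal) : ℕ∞) *
          GrothLib.DualRing.len n.asIdeal M from H M hM
  intro M _ _ hM
  induction hM with
  | @of_subsingleton M _ _ _ =>
    intro _ _
    simp [Module.length_eq_zero_iff.2 ‹Subsingleton M›, GrothLib.DualRing.len_eq_zero_of_subsingleton]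
  | @of_simple_quotient M _ _ N hsimp hN ih =>
    intro _ _
    obtain ⟨m, hm, ⟨e⟩⟩ := isSimpleModule_iff_quot_maximal.1 hsimp
    let f : N →ₗ[B] M := N.subtype
    let g : M →ₗ[B] B ⧸ m := e.toLinearMap.comp N.mkQ
    have hf : Function.Injective f := N.subtype_injective
    have hg : Function.Surjective g := e.surjective.comp N.mkQ_surjective
    have hfg : Function.Exact f g := LinearMap.exact_iff.2 (by simp [f, g, LinearMap.ker_comp])
    rw [Module.length_eq_add_of_exact (f.restrictScalars A) (g.restrictScalars A) hf hg hfg,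
      ih]
    have hadd : ∀ n : MaximalSpectrum B, GrothLib.DualRing.len n.asIdeal M =
        GrothLib.DualRing.len n.asIdeal N + GrothLib.DualRing.len n.asIdeal (B ⧸ m) :=
      fun n => GrothLib.DualRing.len_eq_add hf hg hfg
    simp only [hadd, mul_add, Finset.sum_add_distrib]
    congr 1
    rw [Finset.sum_eq_single (⟨m, hm⟩ : MaximalSpectrum B)]
    · rw [GrothLib.DualRing.len_quotient_prime, mul_one]
      exact length_quotient_over hover hfin ⟨m, hm⟩
    · intro n _ hn
      rw [GrothLib.DualRing.len_quotient_eq_zero, mul_zero]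
      intro hle
      exact hn (MaximalSpectrum.ext (hm.eq_of_le n.isMaximal.ne_top hle).symm)
    · exact fun h => absurd (Finset.mem_univ _) h

end Groth.Agent.S6320
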