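import Groth.Statements.S14438
import Groth.Agent.S6320
import Mathlib.RingTheory.TensorProduct.Quotient
import Mathlib.RingTheory.TensorProduct.Free
import Mathlib.LinearAlgebra.Dimension.Constructions
import Mathlib.RingTheory.Artinian.Ring
import Mathlib.RingTheory.Ideal.GoingUp
import Mathlib.RingTheory.FiniteLength
open scoped TensorProduct

set_option autoImplicit false
universe u
open CAlg

namespace Groth.Agent.S14438

/-- Let (A, m) be a local ring, B a commutative A-algebra which is free of finite rank d as an A-module,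
and assume that for every maximal ideal n of B containing mB the induced map of residue fields A/m →
B/n is bijective (as for the points of a fibre of a finite flat morphism of varieties over an
algebraically closed field). Then the multiplicities of the points of the fibre add up to the
degree: the sum over all such n of the length of the B_n-module (B/mB)_n equals d. -/
theorem result (A B : Type u) [CommRing A] [IsLocalRing A] [CommRing B] [Algebra A B]
    [Module.Free A B] [Module.Finite A B] (d : ℕ) (hd : Module.finrank A B = d)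
    (hres : ∀ (n : Ideal B) [n.IsMaximal] (h : Ideal.map (algebraMap A B) (IsLocalRing.maximalIdeal A) ≤ n),
      Function.Bijective (Ideal.quotientMap n (algebraMap A B) (Ideal.map_le_iff_le_comap.mp h))) :
    finsum (fun n : {n : MaximalSpectrum B // Ideal.map (algebraMap A B) (IsLocalRing.maximalIdeal A) ≤ n.asIdeal} =>
      Module.length (Localization.AtPrime n.1.asIdeal)
        (LocalizedModule n.1.asIdeal.primeCompl (B ⧸ Ideal.map (algebraMap A B) (IsLocalRing.maximalIdeal A)))) = (d : ℕ∞) := by
  classical
  let m := IsLocalRing.maximalIdeal A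
  let J := m.map (algebraMap A B)
  let M := B ⧸ J
  haveI : m.IsMaximal := IsLocalRing.maximalIdeal.isMaximal A
  letI := Ideal.Quotient.field m
  -- the fibre is `d`-dimensional
  have hfin : Module.finrank (A ⧸ m) M = d := by
    let e : M ≃ₗ[A] (A ⧸ m) ⊗[A] B :=
      ((Algebra.TensorProduct.quotIdealMapEquivTensorQuot B m).toLinearEquiv.restrictScalars A).trans
        (TensorProduct.comm A B (A ⧸ m))
    let e' : M ≃ₗ[A ⧸ m] (A ⧸ m) ⊗[A] B := e.extendScalarsOfSurjective Ideal.Quotient.mk_surjective
    rw [e'.finrank_eq, Module.finrank_baseChange, hd]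
  haveI : Module.Finite A M := Module.Finite.of_surjective (Ideal.Quotient.mkₐ A J).toLinearMap Ideal.Quotient.mk_surjective
  haveI : Module.Finite (A ⧸ m) M := Module.Finite.of_restrictScalars_finite A (A ⧸ m) M
  have hlen : Module.length A M = (d : ℕ∞) := by
    rw [Module.length_eq_of_surjective (M := M) (Ideal.Quotient.mk_surjective (I := m)),
      Module.length_eq_finrank, hfin]
  have hle : ∀ n : MaximalSpectrum B, J ≤ n.asIdeal := fun n => by
    haveI := n.isMaximal
    exact Ideal.map_le_iff_le_comap.2 (IsLocalRing.eq_maximalIdeal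
      (Ideal.isMaximal_comap_of_isIntegral_of_isMaximal (R := A) n.asIdeal)).ge
  haveI : Finite (MaximalSpectrum B) := by
    haveI : IsArtinianRing (B ⧸ J) := IsArtinianRing.of_finite (A ⧸ m) (B ⧸ J)
    refine Finite.of_injective (β := MaximalSpectrum (B ⧸ J)) (fun n => ⟨n.asIdeal.map (Ideal.Quotient.mk J), ?_⟩) ?_
    · exact (Ideal.map_eq_top_or_isMaximal_of_surjective _ Ideal.Quotient.mk_surjective n.isMaximal).resolve_left
        (fun h => n.isMaximal.ne_top (by
          have := congrArg (Ideal.comap (Ideal.Quotient.mk J)) h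
          rwa [Ideal.comap_map_of_surjective' _ Ideal.Quotient.mk_surjective, Ideal.mk_ker, sup_eq_left.2 (hle n),
            Ideal.comap_top] at this))
    · intro n₁ n₂ h
      have := congrArg (fun x => Ideal.comap (Ideal.Quotient.mk J) (MaximalSpectrum.asIdeal x)) h
      simp only [Ideal.comap_map_of_surjective' _ Ideal.Quotient.mk_surjective, Ideal.mk_ker,
        sup_eq_left.2 (hle _)] at this
      exact MaximalSpectrum.ext this
  have hA : IsFiniteLength A M := Module.length_ne_top_iff.1 (by rw [hlen]; exact ENat.natCast_ne_top d)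
  have hMfin : IsFiniteLength B M := by
    rw [isFiniteLength_iff_isNoetherian_isArtinian] at hA ⊢
    haveI := hA.1
    haveI := hA.2
    exact ⟨isNoetherian_of_tower A ‹_›, isArtinian_of_tower A ‹_›⟩
  have hover : ∀ n : MaximalSpectrum B, n.asIdeal.comap (algebraMap A B) = m := fun n => by
    haveI := n.isMaximal
    exact IsLocalRing.eq_maximalIdeal (Ideal.isMaximal_comap_of_isIntegral_of_isMaximal (R := A) n.asIdeal)
  have hbij : ∀ n : MaximalSpectrum B, Function.Bijective (Ideal.quotientMap n.asIdeal (algebraMap A B) le_rfl) := fun n => by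
    haveI := n.isMaximal
    refine ⟨Ideal.quotientMap_injective, fun z => ?_⟩
    obtain ⟨x, hx⟩ := (hres n.asIdeal (hle n)).2 z
    obtain ⟨a, rfl⟩ := Ideal.Quotient.mk_surjective x
    exact ⟨Ideal.Quotient.mk _ a, hx⟩
  have hrank : ∀ n : MaximalSpectrum B, Module.Finite (A ⧸ n.asIdeal.comap (algebraMap A B)) (B ⧸ n.asIdeal) ∧
      Module.finrank (A ⧸ n.asIdeal.comap (algebraMap A B)) (B ⧸ n.asIdeal) = 1 := fun n => by
    let e : (A ⧸ n.asIdeal.comap (algebraMap A B)) ≃ₗ[A ⧸ n.asIdeal.comap (algebraMap A B)] (B ⧸ n.asIdeal) :=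
      LinearEquiv.ofBijective (Algebra.linearMap _ _) (hbij n)
    haveI : (n.asIdeal.comap (algebraMap A B)).IsMaximal := hover n ▸ ‹m.IsMaximal›
    exact ⟨Module.Finite.equiv e, e.finrank_eq.symm.trans (Module.finrank_self _)⟩
  have h := Groth.Agent.S6320.result (A := A) (B := B) hover (fun n => (hrank n).1) M hMfin
  rw [hlen] at h
  rw [h]
  refine finsum_eq_of_bijective (fun n => n.1) ⟨fun a b hab => Subtype.ext hab, fun n => ⟨⟨n, hle n⟩, rfl⟩⟩ fun n => ?_
  rw [(hrank n.1).2, Nat.cast_one, one_mul]

end Groth.Agent.S14438
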