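import Groth.Statements.S14442
import Mathlib

set_option autoImplicit false
universe u
open GrNak

namespace Groth.Agent.S14442

/-- Let R be a commutative ℕ-graded ring with irrelevant ideal R_+ = ⊕_{i>0} R_i, M an ℕ-graded R-module
and N a graded submodule of M (closed under taking homogeneous components). If M = R_+ M + N then N
= M. (The published statement is for finitely generated ℤ-graded modules over a graded quotient of a
polynomial ring, whose degrees are then bounded below; stated here for non-negatively graded modules
over any ℕ-graded commutative ring, where the same lowest-degree argument applies without finite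
generation.) -/
theorem result {R : Type u} [CommRing R] {σ : Type u} [SetLike σ R] [AddSubmonoidClass σ R]
    (𝒜 : ℕ → σ) [GradedRing 𝒜]
    {M : Type u} [AddCommGroup M] [Module R M] {τ : Type u} [SetLike τ M] [AddSubmonoidClass τ M]
    (ℳ : ℕ → τ) [DirectSum.Decomposition ℳ] [SetLike.GradedSMul 𝒜 ℳ]
    (N : Submodule R M) (hN : ∀ x ∈ N, ∀ i : ℕ, (DirectSum.decompose ℳ x i : M) ∈ N)
    (h : (HomogeneousIdeal.irrelevant 𝒜).toIdeal • (⊤ : Submodule R M) ⊔ N = ⊤) :
    N = ⊤ := by
  classical
  suffices h0 : ∀ i : ℕ, ∀ x ∈ ℳ i, x ∈ N by
    rw [eq_top_iff]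
    intro x _
    rw [← DirectSum.sum_support_decompose ℳ x]
    exact Submodule.sum_mem _ fun i _ => h0 i _ (SetLike.coe_mem _)
  intro i
  induction i using Nat.strong_induction_on with
  | _ i ih =>
    intro x hx
    have hmem : x ∈ (HomogeneousIdeal.irrelevant 𝒜).toIdeal • (⊤ : Submodule R M) ⊔ N := by rw [h]; trivial
    obtain ⟨m, hm, n, hn, rfl⟩ := Submodule.mem_sup.1 hmem
    have hcomp : ∀ y ∈ (HomogeneousIdeal.irrelevant 𝒜).toIdeal • (⊤ : Submodule R M),
        (DirectSum.decompose ℳ y i : M) ∈ N := by
      intro y hy
      refine Submodule.smul_induction_on hy (fun r hr z _ => ?_) (fun a b ha hb => ?_)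
      case refine_2 =>
        rw [DirectSum.decompose_add, DirectSum.add_apply, AddMemClass.coe_add]
        exact N.add_mem ha hb
      case refine_1 =>
        rw [← DirectSum.sum_support_decompose 𝒜 r, ← DirectSum.sum_support_decompose ℳ z,
          Finset.sum_smul, DirectSum.decompose_sum, DFinsupp.finsetSum_apply, AddSubmonoidClass.coe_finsetSum]
        refine Submodule.sum_mem _ fun a ha => ?_
        rw [Finset.smul_sum, DirectSum.decompose_sum, DFinsupp.finsetSum_apply, AddSubmonoidClass.coe_finsetSum]
        refine Submodule.sum_mem _ fun b _ => ?_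
        have hab : (DirectSum.decompose 𝒜 r a : R) • (DirectSum.decompose ℳ z b : M) ∈ ℳ (a + b) :=
          SetLike.GradedSMul.smul_mem (i := a) (j := b) (SetLike.coe_mem (DirectSum.decompose 𝒜 r a))
            (SetLike.coe_mem (DirectSum.decompose ℳ z b))
        by_cases hi : a + b = i
        · subst hi
          rw [DirectSum.decompose_of_mem_same ℳ hab]
          refine N.smul_mem _ (ih b ?_ _ (SetLike.coe_mem _))
          have ha0 : a ≠ 0 := by
            rintro rfl
            have h0 : (DirectSum.decompose 𝒜 r 0 : R) = 0 := by
              simpa [HomogeneousIdeal.mem_irrelevant_iff, GradedRing.proj_apply] using hr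
            exact DFinsupp.mem_support_iff.1 ha (Subtype.ext h0)
          omega
        · rw [DirectSum.decompose_of_mem_ne ℳ hab hi]
          exact N.zero_mem
    have hsplit : (DirectSum.decompose ℳ m i : M) + (DirectSum.decompose ℳ n i : M) = m + n := by
      rw [← AddMemClass.coe_add, ← DirectSum.add_apply, ← DirectSum.decompose_add,
        DirectSum.decompose_of_mem_same ℳ hx]
    rw [← hsplit]
    exact N.add_mem (hcomp m hm) (hN n hn i)

end Groth.Agent.S14442
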