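import Groth.Agent.Lib.OmegaFree.Basic
import Groth.Agent.Lib.AffDom.Over
import Groth.Agent.Lib.GrpSchField.DimStalk
import Groth.Agent.Lib.CotTangent.Scheme
import Groth.Agent.Lib.RedSub.Basic
import Groth.Agent.S14437
import Groth.Prelude.Def_Omega2
import Groth.Prelude.Def_FixPt

set_option autoImplicit false
universe u
open CategoryTheory CategoryTheory.Limits AlgebraicGeometry
attribute [local instance] FixPt.fiberModule

namespace Groth.Agent.S14443

section Alg
open IsLocalRing

/-- dimension of a quotient of the closed fibre is bounded by the fibre of the differentials -/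
lemma exists_le_of_quotient (k : Type u) [Field k] (A B : Type u) [CommRing A] [CommRing B] [IsLocalRing A] [IsLocalRing B]
    [IsNoetherianRing A] [IsNoetherianRing B] [Algebra k A] [Algebra k B] [Algebra A B] [IsScalarTower k A B]
    (hle : maximalIdeal A ≤ Ideal.comap (IsScalarTower.toAlgHom k A B) (maximalIdeal B))
    (hA : Function.Bijective (algebraMap k (ResidueField A))) (hB : Function.Bijective (algebraMap k (ResidueField B)))
    (C : Type u) [CommRing C] [IsLocalRing C] (g : B →+* C) (hg : Function.Surjective g)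
    (hgA : ∀ a ∈ maximalIdeal A, g (algebraMap A B a) = 0) :
    ringKrullDim C ≤ (Module.finrank (ResidueField B) (TensorProduct B (ResidueField B) (Ω[B⁄A])) : ℕ) := by
  classical
  set m := maximalIdeal B with hm
  set φ := Ideal.mapCotangent (maximalIdeal A) m (IsScalarTower.toAlgHom k A B) hle with hφ
  let eκ : k ≃ₗ[k] ResidueField B := LinearEquiv.ofBijective (Algebra.linearMap k _) hB
  haveI : Module.Finite k (ResidueField B) := Module.Finite.equiv eκ
  haveI : IsScalarTower k (ResidueField B) (CotangentSpace B) := by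
    refine ⟨fun z r x => ?_⟩
    obtain ⟨r, rfl⟩ := Ideal.Quotient.mk_surjective r
    show (Ideal.Quotient.mk m (z • r)) • x = z • ((Ideal.Quotient.mk m r) • x)
    exact smul_assoc z r (x : m.Cotangent)
  haveI : Module.Finite k m.Cotangent := Module.Finite.trans (ResidueField B) (CotangentSpace B)
  have h14437 := Groth.Agent.S14437.result k A B hle hA hB
  obtain ⟨W, hW⟩ := Submodule.exists_isCompl (LinearMap.range φ)
  have hdim := Submodule.finrank_add_eq_of_isCompl hW
  let bW := Module.finBasis k W
  choose w hw using fun i => Ideal.toCotangent_surjective m (bW i : m.Cotangent)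
  set J := RingHom.ker g
  have hmle : m ≤ (J ⊔ Ideal.span (Set.range fun i => (w i : B))) ⊔ m • m := by
    intro b hb
    have htop : m.toCotangent ⟨b, hb⟩ ∈ LinearMap.range φ ⊔ W := by rw [hW.sup_eq_top]; trivial
    obtain ⟨s, ⟨t, rfl⟩, v, hv, hsv⟩ := Submodule.mem_sup.1 htop
    obtain ⟨⟨a, ha⟩, rfl⟩ := Ideal.toCotangent_surjective _ t
    have hv' : v = ∑ i, bW.repr ⟨v, hv⟩ i • m.toCotangent (w i) := by
      simp only [hw]
      conv_lhs => rw [show v = ((∑ i, bW.repr ⟨v, hv⟩ i • bW i : W) : m.Cotangent) by rw [bW.sum_repr]]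
      simp only [Submodule.coe_sum, Submodule.coe_smul]
    let z : m := ⟨algebraMap A B a, hle ha⟩ + ∑ i, algebraMap k B (bW.repr ⟨v, hv⟩ i) • w i
    have hz : m.toCotangent z = m.toCotangent ⟨b, hb⟩ := by
      rw [← hsv, map_add, map_sum]
      congr 1
      refine (Finset.sum_congr rfl fun i _ => ?_).trans hv'.symm
      rw [map_smul, algebraMap_smul]
    rw [Ideal.toCotangent_eq] at hz
    have hzmem : (z : B) ∈ J ⊔ Ideal.span (Set.range fun i => (w i : B)) := by
      simp only [z, Submodule.coe_add]
      refine Submodule.add_mem_sup ?_ ?_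
      · exact (RingHom.mem_ker).2 (hgA a ha)
      · rw [AddSubmonoidClass.coe_finset_sum]
        refine Submodule.sum_mem _ fun i _ => ?_
        exact Ideal.mul_mem_left _ _ (Ideal.subset_span ⟨i, rfl⟩)
    have : b = (z : B) - ((z : B) - b) := by ring
    rw [this]
    refine sub_mem (Submodule.mem_sup_left hzmem) (Submodule.mem_sup_right ?_)
    rw [smul_eq_mul, ← pow_two]
    exact hz
  have hnak : m ≤ J ⊔ Ideal.span (Set.range fun i => (w i : B)) :=
    Submodule.le_of_le_smul_of_le_jacobson_bot (IsNoetherian.noetherian _) (maximalIdeal_le_jacobson _) hmle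
  haveI : IsNoetherianRing C := isNoetherianRing_of_surjective B C g hg
  haveI : IsLocalHom g := .of_surjective g hg
  have hC : maximalIdeal C ≤ Ideal.span (Set.range fun i => g (w i : B)) := by
    intro c hc
    obtain ⟨b, rfl⟩ := hg c
    have hb : b ∈ m := by
      rw [hm, mem_maximalIdeal]
      intro hu
      exact (mem_maximalIdeal _).1 hc (hu.map g)
    obtain ⟨j, hj, s, hs, rfl⟩ := Submodule.mem_sup.1 (hnak hb)
    rw [map_add, RingHom.mem_ker.1 hj, zero_add]
    have := Ideal.mem_map_of_mem g hs
    rwa [Ideal.map_span, ← Set.range_comp] at this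
  have hC' : maximalIdeal C = Ideal.span (Set.range fun i => g (w i : B)) := by
    refine le_antisymm hC (Ideal.span_le.2 ?_)
    rintro _ ⟨i, rfl⟩
    exact map_nonunit g _ (w i).2
  refine (ringKrullDim_le_spanFinrank_maximalIdeal (R := C)).trans ?_
  rw [hC']
  have h1 := Submodule.spanFinrank_span_le_ncard_of_finite (R := C) (Set.finite_range fun i => g (w i : B))
  have h2 : (Set.range fun i => g (w i : B)).ncard ≤ Module.finrank k W := by
    rw [← Set.image_univ]
    exact (Set.ncard_image_le Set.finite_univ).trans (by rw [Set.ncard_univ, Nat.card_eq_fintype_card, Fintype.card_fin])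
  have h3 : Module.finrank k m.Cotangent = Module.finrank k (CotangentSpace B) := rfl
  have h4 : Module.finrank k W = Module.finrank (ResidueField B) (TensorProduct B (ResidueField B) (Ω[B⁄A])) := by
    have := h14437
    rw [← h3, ← hφ] at this
    exact Nat.add_left_cancel (hdim.trans (this.symm.trans (Nat.add_comm _ _)))
  exact_mod_cast (h1.trans h2).trans h4.le

end Alg

section Geom

open IsLocalRing

variable (k : Type u) [Field k] [IsAlgClosed k]

lemma resMap_bijective (X : Scheme.{u}) [X.Over (Spec (CommRingCat.of k))]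
    [LocallyOfFiniteType (X ↘ Spec (CommRingCat.of k))] (x : X) (hx : IsClosed ({x} : Set X)) :
    Function.Bijective (Curv2.resMap k X x) := by
  rw [← GrothLib.AffDom.toRes_eq_resMap]
  have h : CommRingCat.ofHom (GrothLib.AffDom.toRes (X ↘ Spec (CommRingCat.of k)) x) =
      (residueFieldIsoBase (X ↘ Spec (CommRingCat.of k)) x hx).inv := by
    apply Spec.map_injective
    rw [GrothLib.AffDom.SpecMap_toRes, SpecMap_residueFieldIsoBase_inv]
  have h2 := ConcreteCategory.bijective_of_isIso (residueFieldIsoBase (X ↘ Spec (CommRingCat.of k)) x hx).inv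
  rw [← h] at h2
  exact h2

omit [IsAlgClosed k] in
lemma stalkMap_comp {X Y : Scheme.{u}} [X.Over (Spec (CommRingCat.of k))] [Y.Over (Spec (CommRingCat.of k))]
    (f : X ⟶ Y) (hf : f ≫ (Y ↘ Spec (CommRingCat.of k)) = X ↘ Spec (CommRingCat.of k)) (x : X) :
    (f.stalkMap x).hom.comp (Curv2.stalkMap k Y (f x)) = Curv2.stalkMap k X x := by
  ext c
  simp only [Curv2.stalkMap, Coh.toGlobal, RingHom.comp_apply, ← CommRingCat.comp_apply]
  rw [← hf, Scheme.Hom.comp_appTop]
  simp only [CommRingCat.comp_apply]
  rw [← CommRingCat.comp_apply, f.germ_stalkMap]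
  rfl

/-- the stalks of a reduced irreducible piece in a fibre kill the maximal ideal downstairs -/
lemma stalkMap_eq_zero {Z Y : Scheme.{u}} [IsIntegral Z] (g : Z ⟶ Y) (z : Z) (hg : ∀ w : Z, g w = g z)
    (a : Y.presheaf.stalk (g z)) (ha : a ∈ maximalIdeal (Y.presheaf.stalk (g z))) :
    (g.stalkMap z).hom a = 0 := by
  have hsp : genericPoint Z ⤳ z := (genericPoint_spec Z).specializes trivial
  have h := congrArg (fun φ => φ.hom a) (Scheme.Hom.stalkSpecializes_stalkMap g (genericPoint Z) z hsp)
  simp only [CommRingCat.comp_apply] at h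
  have hinj : Function.Injective (Z.presheaf.stalkSpecializes hsp).hom :=
    IsFractionRing.injective (Z.presheaf.stalk z) Z.functionField
  apply hinj
  rw [map_zero]
  refine h.symm.trans ?_
  by_contra hne
  have hu : IsUnit ((g.stalkMap (genericPoint Z)).hom ((Y.presheaf.stalkSpecializes (hsp.map g.base.hom.continuous)).hom a)) :=
    (Ne.isUnit (a := (show Z.functionField from _)) hne : _)
  have hu' := (isUnit_map_iff (g.stalkMap (genericPoint Z)).hom _).1 hu
  have hback : g z ⤳ g (genericPoint Z) := by rw [hg (genericPoint Z)]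
  have := hu'.map (Y.presheaf.stalkSpecializes hback).hom
  rw [← CommRingCat.comp_apply, TopCat.Presheaf.stalkSpecializes_comp, TopCat.Presheaf.stalkSpecializes_refl,
    CommRingCat.id_apply] at this
  exact (mem_maximalIdeal a).1 ha this

end Geom


/-- Let k be an algebraically closed field, f : X → Y a morphism of k-schemes of finite type, x a closed
point of X and Z an irreducible closed subset of the fibre f⁻¹(f(x)) passing through x, of dimension
r. Then dim_k (Ω_{X/Y})_(x) ≥ r, where (Ω_{X/Y})_(x) = Ω_{X/Y,x} ⊗ k(x) is the fibre of the sheaf of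
relative differentials at x, a vector space over k(x) = k (x is closed and k algebraically closed),
regarded as a k-module through k → O_{X,x}. (The published statement is for varieties, i.e. X and Y
reduced and separated; this row assumes neither. Since X is locally of finite type over a field it
is locally Noetherian, so f is quasi-separated; the argument, T_x Z ⊆ ker(df_x) and dim T_x Z ≥ dim
Z, uses neither reducedness nor separatedness.) -/
theorem result (k : Type u) [Field k] [IsAlgClosed k]
    {X Y : Scheme.{u}} [X.Over (Spec (CommRingCat.of k))] [Y.Over (Spec (CommRingCat.of k))]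
    [LocallyOfFiniteType (X ↘ Spec (CommRingCat.of k))] [QuasiCompact (X ↘ Spec (CommRingCat.of k))]
    [LocallyOfFiniteType (Y ↘ Spec (CommRingCat.of k))] [QuasiCompact (Y ↘ Spec (CommRingCat.of k))]
    (f : X ⟶ Y) (hf : f ≫ (Y ↘ Spec (CommRingCat.of k)) = X ↘ Spec (CommRingCat.of k))
    (x : X) (hx : IsClosed ({x} : Set X)) (Z : Set X) (hZ : IsIrreducible Z) (hZc : IsClosed Z) (hxZ : x ∈ Z)
    (hZf : Z ⊆ f.base ⁻¹' {f.base x}) (r : ℕ) (hr : topologicalKrullDim ↥Z = (r : WithBot ℕ∞)) :
    r ≤ Module.finrank k (FixPt.fiber (Omega.sheaf f) x) := by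
  haveI : IsLocallyNoetherian X := LocallyOfFiniteType.isLocallyNoetherian (X ↘ Spec (CommRingCat.of k))
  haveI : IsLocallyNoetherian Y := LocallyOfFiniteType.isLocallyNoetherian (Y ↘ Spec (CommRingCat.of k))
  haveI : JacobsonSpace Y := LocallyOfFiniteType.jacobsonSpace (Y ↘ Spec (CommRingCat.of k))
  haveI := GrothLib.CotTangent.locallyOfFiniteType_of_over _ _ f hf
  haveI : QuasiSeparated f := QuasiSeparated.of_quasiSeparatedSpace f
  have hy : IsClosed ({f x} : Set Y) := f.closePoints_subset_preimage_closedPoints hx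
  letI : Algebra k (X.presheaf.stalk x) := Curv2.stalkAlgebra k X x
  letI : Algebra k (Y.presheaf.stalk (f x)) := Curv2.stalkAlgebra k Y (f x)
  letI : Algebra (Y.presheaf.stalk (f x)) (X.presheaf.stalk x) := (f.stalkMap x).hom.toAlgebra
  haveI : IsScalarTower k (Y.presheaf.stalk (f x)) (X.presheaf.stalk x) :=
    IsScalarTower.of_algebraMap_eq' (stalkMap_comp k f hf x).symm
  let B := X.presheaf.stalk x
  have hA : Function.Bijective (algebraMap k (IsLocalRing.ResidueField (Y.presheaf.stalk (f x)))) :=
    resMap_bijective k Y (f x) hy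
  have hB : Function.Bijective (algebraMap k (IsLocalRing.ResidueField B)) := resMap_bijective k X x hx
  have hle : IsLocalRing.maximalIdeal (Y.presheaf.stalk (f x)) ≤
      Ideal.comap (IsScalarTower.toAlgHom k (Y.presheaf.stalk (f x)) B) (IsLocalRing.maximalIdeal B) :=
    fun a ha => map_nonunit (f.stalkMap x).hom a ha
  -- the reduced structure on Z
  let C : TopologicalSpace.Closeds X := ⟨Z, hZc⟩
  let ι := (Scheme.IdealSheafData.vanishingIdeal C).subschemeι
  let W := (Scheme.IdealSheafData.vanishingIdeal C).subscheme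
  have hrange : Set.range ι = Z := by
    rw [Scheme.IdealSheafData.range_subschemeι, Scheme.IdealSheafData.coe_support_vanishingIdeal]
    rfl
  obtain ⟨z, hz⟩ : x ∈ Set.range ι := hrange ▸ hxZ
  subst hz
  let eW : W ≃ₜ Z := ι.isClosedEmbedding.isEmbedding.toHomeomorph.trans (Homeomorph.setCongr hrange)
  haveI : IrreducibleSpace W := by
    haveI : IrreducibleSpace Z := Subtype.irreducibleSpace hZ
    have hW : IsIrreducible (Set.univ : Set W) := by
      have := (IrreducibleSpace.isIrreducible_univ Z).image eW.symm eW.symm.continuous.continuousOn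
      rwa [Set.image_univ, eW.symm.surjective.range_eq] at this
    exact (irreducibleSpace_def W).2 hW
  haveI : IsReduced W := GrothLib.RedSub.isReduced_subscheme_vanishingIdeal C
  haveI : IsIntegral W := isIntegral_of_irreducibleSpace_of_isReduced W
  have hzc : IsClosed ({z} : Set W) := by
    rw [show ({z} : Set W) = ι ⁻¹' {ι z} from Set.ext fun w =>
      ⟨fun h => congrArg ι h, fun h => ι.isClosedEmbedding.injective h⟩]
    exact hx.preimage ι.continuous
  have hdimW : topologicalKrullDim W = r := by
    rw [IsHomeomorph.topologicalKrullDim_eq _ eW.isHomeomorph, hr]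
  have hstalk : ringKrullDim (W.presheaf.stalk z) = r := by
    rw [GrothLib.GrpSchField.ringKrullDim_stalk_eq_of_isClosed (ι ≫ (X ↘ Spec (CommRingCat.of k)))
      isClosed_univ isOpen_univ (IrreducibleSpace.isIrreducible_univ W) trivial hzc,
      IsHomeomorph.topologicalKrullDim_eq _ (Homeomorph.Set.univ W).isHomeomorph, hdimW]
  have hzero : ∀ a ∈ IsLocalRing.maximalIdeal (Y.presheaf.stalk (f (ι z))),
      (ι.stalkMap z).hom (algebraMap (Y.presheaf.stalk (f (ι z))) B a) = 0 := by
    intro a ha
    have := stalkMap_eq_zero (ι ≫ f) z (fun w => hZf (hrange ▸ Set.mem_range_self w)) a ha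
    rw [Scheme.Hom.stalkMap_comp] at this
    exact this
  have hmain := exists_le_of_quotient k _ B hle hA hB (W.presheaf.stalk z) (ι.stalkMap z).hom
    (ι.stalkMap_surjective z) hzero
  rw [hstalk] at hmain
  have hmain' : r ≤ Module.finrank (IsLocalRing.ResidueField B)
      (TensorProduct B (IsLocalRing.ResidueField B) (Ω[B⁄Y.presheaf.stalk (f (ι z))])) := by
    exact_mod_cast hmain
  obtain ⟨e⟩ := GrothLib.OmegaFree.nonempty_stalk_equiv f (ι z)
  let E : FixPt.fiber (Omega.sheaf f) (ι z) ≃ₗ[B]
      TensorProduct B (IsLocalRing.ResidueField B) (Ω[B⁄Y.presheaf.stalk (f (ι z))]) :=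
    (Submodule.Quotient.equiv _ _ e (by
      rw [Submodule.map_smul'', Submodule.map_top, LinearEquiv.range])).trans
      (TensorProduct.quotTensorEquivQuotSMul _ _).symm
  haveI : IsScalarTower k B (FixPt.fiber (Omega.sheaf f) (ι z)) :=
    IsScalarTower.of_algebraMap_smul fun _ _ => rfl
  rw [(E.restrictScalars k).finrank_eq]
  let eκ : k ≃ₗ[k] IsLocalRing.ResidueField B := LinearEquiv.ofBijective (Algebra.linearMap k _) hB
  have hκ : Module.finrank k (IsLocalRing.ResidueField B) = 1 := by rw [← eκ.finrank_eq, Module.finrank_self]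
  rwa [← Module.finrank_mul_finrank k (IsLocalRing.ResidueField B), hκ, one_mul]

end Groth.Agent.S14443
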