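import Groth.Statements.S14447
import Mathlib.CategoryTheory.Limits.Types.Products
import Mathlib.CategoryTheory.Limits.Constructions.FiniteProductsOfBinaryProducts
import Mathlib.CategoryTheory.Limits.Preserves.Shapes.BinaryProducts
import Mathlib.CategoryTheory.Limits.Preserves.Shapes.Terminal
-- import your own Groth.Agent.* helpers here

set_option autoImplicit false
universe w v u
open AlgGrp

namespace Groth.Agent.S14447

open CategoryTheory CategoryTheory.Limits in
/-- Let C be a category with finite products and with all coproducts indexed by sets, and assume that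
for every set I and every object U the canonical arrow ∐_{i∈I} U → (∐_{i∈I} pt) × U, whose i-th
component pairs U → pt → ∐_{i∈I} pt (i-th coprojection) with the identity of U, is an isomorphism.
Then the discrete-object functor from sets to C, I ↦ ∐_{i∈I} pt, preserves finite products. (Sets
are the types of one fixed universe, the one indexing the coproducts. The published statement asks
only for the coproducts of copies of one object; this row assumes that C has all coproducts indexed
by sets, which Mathlib's discrete-object functor sigmaConst requires.) -/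
theorem result {C : Type u} [Category.{v} C]
    [HasFiniteProducts C] [HasCoproducts.{w} C]
    (h : ∀ (I : Type w) (U : C), IsIso (Sigma.desc fun i : I =>
      prod.lift (terminal.from U ≫ Sigma.ι (fun _ : I => ⊤_ C) i) (𝟙 U))) :
    PreservesFiniteProducts (sigmaConst.{w}.obj (⊤_ C)) := by
  let F := sigmaConst.{w}.obj (⊤_ C)
  have hterm : PreservesLimit (Functor.empty.{0} (Type w)) F := by
    let T : Type w := PUnit
    have hT : IsTerminal T := IsTerminal.ofUniqueHom (fun _ => ↾fun _ => PUnit.unit) (fun X f => by ext)
    have e : F.obj T ≅ ⊤_ C :=
      { hom := terminal.from _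
        inv := Sigma.ι (fun _ : T => ⊤_ C) PUnit.unit
        hom_inv_id := by
          apply Sigma.hom_ext
          intro i
          cases i
          exact ((Category.assoc _ _ _).symm.trans (congrArg (· ≫ Sigma.ι (fun _ : T => ⊤_ C) PUnit.unit)
            (terminal.hom_ext _ (𝟙 _)))).trans ((Category.id_comp _).trans (Category.comp_id _).symm)
        inv_hom_id := terminal.hom_ext _ _ }
    refine preservesLimit_of_preserves_limit_cone hT ((isLimitMapConeEmptyConeEquiv F T).symm ?_)
    exact IsTerminal.ofIso terminalIsTerminal e.symm
  have : PreservesLimitsOfShape (Discrete.{0} PEmpty) F := preservesLimitsOfShape_pempty_of_preservesTerminal F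
  have hbin : ∀ I J : Type w, IsIso (prodComparison F I J) := by
    intro I J
    let can := Sigma.desc fun i : I =>
      prod.lift (terminal.from (F.obj J) ≫ Sigma.ι (fun _ : I => ⊤_ C) i) (𝟙 (F.obj J))
    have hcan : IsIso can := h I (F.obj J)
    let pr : (I ⨯ J : Type w) ≅ I × J := Types.binaryProductIso I J
    let p : (∐ fun _ : I => F.obj J) ⟶ F.obj (I ⨯ J) :=
      Sigma.desc fun i => Sigma.desc fun j => Sigma.ι (fun _ : (I ⨯ J : Type w) => ⊤_ C) (pr.inv (i, j))
    let q : F.obj (I ⨯ J) ⟶ (∐ fun _ : I => F.obj J) :=
      Sigma.desc fun z => Sigma.ι (fun _ : J => ⊤_ C) (pr.hom z).2 ≫ Sigma.ι (fun _ : I => F.obj J) (pr.hom z).1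
    have hp : IsIso p := by
      refine ⟨q, ?_, ?_⟩
      · apply Sigma.hom_ext
        intro i
        simp only [p, colimit.ι_desc_assoc, Cofan.mk_ι_app, Category.comp_id]
        apply Sigma.hom_ext
        intro j
        simp [q]
      · apply Sigma.hom_ext
        intro z
        simp [p, q, F]
    have : p ≫ prodComparison F I J = can := by
      apply Sigma.hom_ext
      intro i
      simp only [p, can, colimit.ι_desc_assoc, Cofan.mk_ι_app, colimit.ι_desc]
      apply Sigma.hom_ext
      intro j
      apply Limits.prod.hom_ext
      · simp only [Category.assoc, prodComparison_fst, prod.lift_fst]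
        refine Eq.trans ?_ ((congrArg (· ≫ Sigma.ι (fun _ : I => ⊤_ C) i) (terminal.hom_ext (𝟙 (⊤_ C))
          (Sigma.ι (fun _ : J => ⊤_ C) j ≫ terminal.from _))).trans (Category.assoc _ _ _))
        simp [F, pr]
      · simp only [Category.assoc, prodComparison_snd, prod.lift_snd]
        simp [F, pr]
        erw [prod.lift_snd, Category.comp_id]
    have : IsIso (p ≫ prodComparison F I J) := this ▸ hcan
    exact IsIso.of_isIso_comp_left p _
  have : PreservesLimitsOfShape (Discrete WalkingPair) F :=
    ⟨fun {K} => by
      have := hbin (K.obj ⟨WalkingPair.left⟩) (K.obj ⟨WalkingPair.right⟩)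
      have := PreservesLimitPair.of_iso_prod_comparison F (K.obj ⟨WalkingPair.left⟩) (K.obj ⟨WalkingPair.right⟩)
      exact preservesLimit_of_iso_diagram F (diagramIsoPair K).symm⟩
  exact PreservesFiniteProducts.of_preserves_binary_and_terminal F

end Groth.Agent.S14447
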