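import Groth.Statements.S14448
import Mathlib.AlgebraicGeometry.Modules.Sheaf

set_option autoImplicit false
set_option maxHeartbeats 400000
set_option linter.style.haveILetI false
set_option backward.isDefEq.respectTransparency.types false
universe u
open Coherent

namespace Groth.Agent.S14448

open AlgebraicGeometry CategoryTheory Scheme.Modules in
theorem hu {A B C : Scheme.{u}} (a : A ⟶ B) (b : B ⟶ C) (M : C.Modules) :
    (pullbackPushforwardAdjunction b).unit.app M ≫
      (pushforward b).map ((pullbackPushforwardAdjunction a).unit.app ((pullback b).obj M) ≫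
        (pushforward a).map ((pullbackComp a b).hom.app M)) ≫
      (pushforwardComp a b).hom.app _ = (pullbackPushforwardAdjunction (a ≫ b)).unit.app M := by
  have h := unit_conjugateEquiv ((pullbackPushforwardAdjunction b).comp (pullbackPushforwardAdjunction a))
    (pullbackPushforwardAdjunction (a ≫ b)) (pullbackComp a b).inv M
  rw [conjugateEquiv_pullbackComp_inv] at h
  have h' := h =≫ (pushforward (a ≫ b)).map ((pullbackComp a b).hom.app M)
  simp only [Category.assoc, ← Functor.map_comp, Iso.inv_hom_id_app] at h'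
  erw [CategoryTheory.Functor.map_id, Category.comp_id] at h'
  refine Eq.trans ?_ h'
  rw [← (pushforwardComp a b).hom.naturality]
  simp [Adjunction.comp_unit_app]

open AlgebraicGeometry CategoryTheory in
theorem key {X Y : Scheme.{u}} {f : X ⟶ Y} {M : Y.Modules} {N P : X.Modules}
    (α : M ⟶ (Scheme.Modules.pushforward f).obj N) (β : N ⟶ P) {A B : Y.Opens} (e : A = B) {D : X.Opens}
    (e₁ : D = f ⁻¹ᵁ A) (e₂ : D = f ⁻¹ᵁ B) :
    α.app B ≫ β.app (f ⁻¹ᵁ B) ≫ 𝟙 _ ≫ P.presheaf.map (eqToHom (congrArg Opposite.op e₂.symm)) =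
      M.presheaf.map (eqToHom (congrArg Opposite.op e.symm)) ≫ α.app A ≫
        N.presheaf.map (eqToHom (congrArg Opposite.op e₁.symm)) ≫ β.app D := by
  subst e e₁
  simp

open AlgebraicGeometry CategoryTheory Scheme.Modules in
/-- Take two commutative squares of schemes side by side, f : X → Y over φ : U → V (vertical maps ξ : X
→ U and η : Y → V, f ≫ η = ξ ≫ φ) and g : Y → Z over ψ : V → W (vertical map ζ : Z → W, g ≫ ζ = η ≫
ψ), and an O_Z-module L. For a commutative square the base change map β_{f,φ}(M) : φ^* η_* M → ξ_*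
f^* M is the adjoint of η_*(unit) : η_* M → η_* f_* f^* M = φ_* ξ_* f^* M, and α denotes the
composition isomorphisms of module pullbacks. Then the composite of α_{φ,ψ}(ζ_* L) : φ^* ψ^* ζ_* L →
(φ ≫ ψ)^* ζ_* L with β_{f ≫ g, φ ≫ ψ}(L) equals the composite of φ^* β_{g,ψ}(L), β_{f,φ}(g^* L) and
ξ_* α_{f,g}(L), as maps φ^* ψ^* ζ_* L → ξ_* (f ≫ g)^* L. No cartesian or finiteness hypothesis is
made; the outer square is used through any proof hw of its commutativity. -/
theorem result {X Y Z U V W : Scheme.{u}} (f : X ⟶ Y) (g : Y ⟶ Z)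
    (ξ : X ⟶ U) (η : Y ⟶ V) (ζ : Z ⟶ W) (φ : U ⟶ V) (ψ : V ⟶ W)
    (h₁ : f ≫ η = ξ ≫ φ) (h₂ : g ≫ ζ = η ≫ ψ) (hw : (f ≫ g) ≫ ζ = ξ ≫ (φ ≫ ψ)) (L : Z.Modules) :
    (pullbackComp φ ψ).hom.app ((pushforward ζ).obj L) ≫
        (((pullbackPushforwardAdjunction (φ ≫ ψ)).homEquiv ((pushforward ζ).obj L)
            ((pushforward ξ).obj ((pullback (f ≫ g)).obj L))).symm
          ((pushforward ζ).map ((pullbackPushforwardAdjunction (f ≫ g)).unit.app L) ≫
            (pushforwardComp (f ≫ g) ζ).hom.app ((pullback (f ≫ g)).obj L) ≫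
            (pushforwardCongr hw).hom.app ((pullback (f ≫ g)).obj L) ≫
            (pushforwardComp ξ (φ ≫ ψ)).inv.app ((pullback (f ≫ g)).obj L))) =
      (pullback φ).map (((pullbackPushforwardAdjunction ψ).homEquiv ((pushforward ζ).obj L)
            ((pushforward η).obj ((pullback g).obj L))).symm
          ((pushforward ζ).map ((pullbackPushforwardAdjunction g).unit.app L) ≫
            (pushforwardComp g ζ).hom.app ((pullback g).obj L) ≫
            (pushforwardCongr h₂).hom.app ((pullback g).obj L) ≫
            (pushforwardComp η ψ).inv.app ((pullback g).obj L))) ≫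
        (((pullbackPushforwardAdjunction φ).homEquiv ((pushforward η).obj ((pullback g).obj L))
            ((pushforward ξ).obj ((pullback f).obj ((pullback g).obj L)))).symm
          ((pushforward η).map ((pullbackPushforwardAdjunction f).unit.app ((pullback g).obj L)) ≫
            (pushforwardComp f η).hom.app ((pullback f).obj ((pullback g).obj L)) ≫
            (pushforwardCongr h₁).hom.app ((pullback f).obj ((pullback g).obj L)) ≫
            (pushforwardComp ξ φ).inv.app ((pullback f).obj ((pullback g).obj L)))) ≫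
        (pushforward ξ).map ((pullbackComp f g).hom.app L) := by
  apply ((pullbackPushforwardAdjunction φ).homEquiv _ _).injective
  apply ((pullbackPushforwardAdjunction ψ).homEquiv _ _).injective
  conv_rhs => rw [Adjunction.homEquiv_naturality_left, Adjunction.homEquiv_naturality_right,
    Equiv.apply_symm_apply, Adjunction.homEquiv_naturality_right, Equiv.apply_symm_apply]
  simp only [Adjunction.homEquiv_unit, Functor.map_comp, Category.assoc]
  set P := (pullback (f ≫ g)).obj L
  set T := ((pullbackPushforwardAdjunction (φ ≫ ψ)).homEquiv ((pushforward ζ).obj L)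
      ((pushforward ξ).obj P)).symm ((pushforward ζ).map ((pullbackPushforwardAdjunction (f ≫ g)).unit.app L) ≫
        (pushforwardComp (f ≫ g) ζ).hom.app P ≫ (pushforwardCongr hw).hom.app P ≫
          (pushforwardComp ξ (φ ≫ ψ)).inv.app P) with hT
  have hT' : (pullbackPushforwardAdjunction (φ ≫ ψ)).unit.app _ ≫ (pushforward (φ ≫ ψ)).map T =
      (pushforward ζ).map ((pullbackPushforwardAdjunction (f ≫ g)).unit.app L) ≫
        (pushforwardComp (f ≫ g) ζ).hom.app P ≫ (pushforwardCongr hw).hom.app P ≫
          (pushforwardComp ξ (φ ≫ ψ)).inv.app P := by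
    exact ((pullbackPushforwardAdjunction (φ ≫ ψ)).homEquiv_unit _ _ T).symm.trans (Equiv.apply_symm_apply _ _)
  rw [← hu φ ψ] at hT'
  simp only [Category.assoc, Functor.map_comp] at hT'
  rw [← (pushforwardComp φ ψ).hom.naturality] at hT'
  rw [← cancel_mono ((pushforwardComp φ ψ).hom.app ((pushforward ξ).obj P))]
  simp only [Category.assoc, Functor.comp_map] at hT' ⊢
  refine hT'.trans ?_
  rw [← hu f g]
  refine Scheme.Modules.hom_ext _ _ fun U => ?_
  simp [pushforward_map_app]
  congr 1
  exact key (f := f) (M := (pullback g).obj L) (N := (pullback f).obj ((pullback g).obj L)) (P := P) ((pullbackPushforwardAdjunction f).unit.app ((pullback g).obj L)) ((pullbackComp f g).hom.app L)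
    (A := η ⁻¹ᵁ (ψ ⁻¹ᵁ U)) (B := g ⁻¹ᵁ (ζ ⁻¹ᵁ U))
    (by rw [← Scheme.Hom.comp_preimage, ← h₂, Scheme.Hom.comp_preimage]) (D := ξ ⁻¹ᵁ (φ ⁻¹ᵁ (ψ ⁻¹ᵁ U)))
    (by rw [← Scheme.Hom.comp_preimage f η, h₁, Scheme.Hom.comp_preimage])
    (by simp only [← Scheme.Hom.comp_preimage, ← Category.assoc, hw])

end Groth.Agent.S14448
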