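import Groth.Statements.S14449
import Groth.Agent.Lib.ExtZero.Open
-- import your own Groth.Agent.* helpers here

set_option autoImplicit false
universe u
open CategoryTheory CategoryTheory.Limits AlgebraicGeometry
open EtCore

namespace Groth.Agent.S14449

/-- Let X be a scheme, i : Z ⟶ X a closed immersion and j : U ⟶ X an open immersion whose image is the
complement of the image of i. Then the functor from abelian sheaves on the small étale site of X to
the category of triples (G on Z, H on U, φ : G ⟶ i⁻¹ j_* H), sending F to (i⁻¹ F, j⁻¹ F, i⁻¹ of the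
unit F ⟶ j_* j⁻¹ F), is an equivalence of categories. The category of triples is the comma category
of the identity functor of Ab(Z) over j_* ⋙ i⁻¹. -/
theorem result {X Z U : Scheme.{u}}
    (i : Z ⟶ X) [IsClosedImmersion i] (j : U ⟶ X) [IsOpenImmersion j]
    (hZU : Set.range j.base = (Set.range i.base)ᶜ) :
    (EtCore.recollTriple i j).IsEquivalence := by
  haveI hPi := GrothLib.EtSite.pull_preservesFiniteLimits i
  haveI hPj := GrothLib.EtSite.pull_preservesFiniteLimits j
  haveI hci : ∀ G, IsIso ((EtCoh.pullPushAdj i).counit.app G) := GrothLib.EtSite.isIso_counit i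
  haveI : IsIso (EtCoh.pullPushAdj j).counit := inferInstance
  have hnot : ∀ {x : X}, x ∉ Set.range j.base → x ∈ Set.range i.base := fun {x} hx => by
    by_contra h; exact hx (hZU ▸ h)
  -- jointly faithful
  have hzero : ∀ {A B : EtCoh.Ab X} (φ : A ⟶ B), (EtCoh.pull i).map φ = 0 →
      (EtCoh.pull j).map φ = 0 → φ = 0 := fun {A B} φ h1 h2 =>
    GrothLib.ExtZero.zero_of_stalks φ fun Ω _ _ ξ => by
      by_cases hx : ξ.base default ∈ Set.range j.base
      · obtain ⟨u, rfl⟩ := GrothLib.ExtZero.exists_lift_of_mem j ξ hx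
        refine (cancel_epi ((GrothLib.EtSite.pullStalkIso u j).hom.app A)).1 ?_
        refine ((GrothLib.EtSite.pullStalkIso u j).hom.naturality φ).symm.trans ?_
        simp [h2]
      · obtain ⟨z, hz⟩ := hnot hx
        obtain ⟨ζ, rfl⟩ := GrothLib.EtSite.exists_point_lift i ξ z hz
        refine (cancel_epi ((GrothLib.EtSite.pullStalkIso ζ i).hom.app A)).1 ?_
        refine ((GrothLib.EtSite.pullStalkIso ζ i).hom.naturality φ).symm.trans ?_
        simp [h1]
  -- jointly conservative
  have hiso : ∀ {A B : EtCoh.Ab X} (φ : A ⟶ B), IsIso ((EtCoh.pull i).map φ) →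
      IsIso ((EtCoh.pull j).map φ) → IsIso φ := fun {A B} φ h1 h2 =>
    GrothLib.EtSite.isIso_of_stalks φ fun Ω _ _ ξ => by
      rw [← ConcreteCategory.isIso_iff_bijective]
      by_cases hx : ξ.base default ∈ Set.range j.base
      · obtain ⟨u, rfl⟩ := GrothLib.ExtZero.exists_lift_of_mem j ξ hx
        exact (NatIso.isIso_map_iff (GrothLib.EtSite.pullStalkIso u j) φ).1
          (inferInstanceAs (IsIso ((EtCoh.stalk u).map ((EtCoh.pull j).map φ))))
      · obtain ⟨z, hz⟩ := hnot hx
        obtain ⟨ζ, rfl⟩ := GrothLib.EtSite.exists_point_lift i ξ z hz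
        exact (NatIso.isIso_map_iff (GrothLib.EtSite.pullStalkIso ζ i) φ).1
          (inferInstanceAs (IsIso ((EtCoh.stalk ζ).map ((EtCoh.pull i).map φ))))
  have hvan : ∀ G : EtCoh.Ab Z, IsZero ((EtCoh.pull j).obj ((EtCoh.push i).obj G)) := fun G => by
    refine (IsZero.iff_id_eq_zero _).2 (GrothLib.ExtZero.zero_of_stalks _ fun Ω _ _ u => ?_)
    refine IsZero.eq_of_src (IsZero.of_iso (GrothLib.EtSite.stalk_push_isZero i G (u ≫ j) ?_)
      ((GrothLib.EtSite.pullStalkIso u j).app _)) _ _
    exact hZU.le ⟨u.base default, rfl⟩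
  let ai := EtCoh.pullPushAdj i
  let aj := EtCoh.pullPushAdj j
  let P : Comma (𝟭 (EtCoh.Ab Z)) (EtCoh.push j ⋙ EtCoh.pull i) → EtCoh.Ab X := fun t =>
    pullback ((EtCoh.push i).map t.hom) (ai.unit.app ((EtCoh.push j).obj t.right))
  let q₁ : ∀ t, P t ⟶ (EtCoh.push i).obj t.left := fun t =>
    pullback.fst ((EtCoh.push i).map t.hom) (ai.unit.app ((EtCoh.push j).obj t.right))
  let q₂ : ∀ t, P t ⟶ (EtCoh.push j).obj t.right := fun t =>
    pullback.snd ((EtCoh.push i).map t.hom) (ai.unit.app ((EtCoh.push j).obj t.right))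
  let a : ∀ t, (EtCoh.pull i).obj (P t) ⟶ t.left := fun t => (ai.homEquiv _ _).symm (q₁ t)
  let b : ∀ t, (EtCoh.pull j).obj (P t) ⟶ t.right := fun t => (aj.homEquiv _ _).symm (q₂ t)
  haveI hb : ∀ t, IsIso (b t) := fun t => by
    have hz : IsIso ((EtCoh.pull j).map ((EtCoh.push i).map t.hom)) :=
      isIso_of_source_target_iso_zero _ (IsZero.isoZero (hvan _)) (IsZero.isoZero (hvan _))
    haveI : IsIso ((EtCoh.pull j).map (q₂ t)) :=
      (((IsPullback.of_hasPullback ((EtCoh.push i).map t.hom)
        (ai.unit.app ((EtCoh.push j).obj t.right))).map (EtCoh.pull j))).isIso_snd_of_isIso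
    simp only [b, Adjunction.homEquiv_counit]
    infer_instance
  haveI ha : ∀ t, IsIso (a t) := fun t => by
    haveI : IsIso ((EtCoh.pull i).map (ai.unit.app ((EtCoh.push j).obj t.right))) := by
      have := hci ((EtCoh.pull i).obj ((EtCoh.push j).obj t.right))
      have : IsIso (𝟙 ((EtCoh.pull i).obj ((EtCoh.push j).obj t.right))) := IsIso.id _
      exact IsIso.of_isIso_fac_right (ai.left_triangle_components ((EtCoh.push j).obj t.right))
    haveI : IsIso ((EtCoh.pull i).map (q₁ t)) :=
      (((IsPullback.of_hasPullback ((EtCoh.push i).map t.hom)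
        (ai.unit.app ((EtCoh.push j).obj t.right))).map (EtCoh.pull i))).isIso_fst_of_isIso
    simp only [a, Adjunction.homEquiv_counit]
    infer_instance
  have hsq : ∀ t, q₁ t ≫ (EtCoh.push i).map t.hom = q₂ t ≫ ai.unit.app _ := fun t => pullback.condition
  haveI : (EtCore.recollTriple i j).Faithful := ⟨fun {A B} φ ψ h => by
    have hl := congrArg CommaMorphism.left h
    have hr := congrArg CommaMorphism.right h
    refine sub_eq_zero.1 (hzero (φ - ψ) ?_ ?_)
    · rw [Functor.map_sub, sub_eq_zero]; exact hl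
    · rw [Functor.map_sub, sub_eq_zero]; exact hr⟩
  haveI : (EtCore.recollTriple i j).EssSurj := ⟨fun t => by
    refine ⟨P t, ⟨Comma.isoMk (@asIso _ _ _ _ (a t) (ha t)) (@asIso _ _ _ _ (b t) (hb t)) ?_⟩⟩
    change a t ≫ t.hom = (EtCoh.pull i).map (aj.unit.app (P t)) ≫
      (EtCoh.pull i).map ((EtCoh.push j).map (b t))
    rw [← Functor.map_comp]
    have e : aj.unit.app (P t) ≫ (EtCoh.push j).map (b t) = q₂ t :=
      (aj.homEquiv_unit _ _ _).symm.trans (Equiv.apply_symm_apply _ _)
    refine Eq.trans ?_ (congrArg (EtCoh.pull i).map e).symm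
    apply (ai.homEquiv _ _).injective
    rw [Adjunction.homEquiv_naturality_right, Equiv.apply_symm_apply, hsq, Adjunction.homEquiv_unit]
    exact ai.unit.naturality (q₂ t)⟩
  haveI : (EtCore.recollTriple i j).Full := ⟨fun {F F'} m => by
    let t := (EtCore.recollTriple i j).obj F'
    let k : F' ⟶ P t := pullback.lift (ai.unit.app F') (aj.unit.app F') (ai.unit.naturality (aj.unit.app F')).symm
    have hk₁ : k ≫ q₁ t = ai.unit.app F' := pullback.lift_fst _ _ _
    have hk₂ : k ≫ q₂ t = aj.unit.app F' := pullback.lift_snd _ _ _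
    have hka : (EtCoh.pull i).map k ≫ a t = 𝟙 _ := by
      rw [← Adjunction.homEquiv_naturality_left_symm, hk₁]
      rw [Adjunction.homEquiv_counit]
      exact ai.left_triangle_components F'
    have hkb : (EtCoh.pull j).map k ≫ b t = 𝟙 _ := by
      rw [← Adjunction.homEquiv_naturality_left_symm, hk₂]
      rw [Adjunction.homEquiv_counit]
      exact aj.left_triangle_components F'
    haveI : IsIso ((EtCoh.pull i).map k) :=
      @IsIso.of_isIso_fac_right _ _ _ _ _ _ _ _ (ha t) (IsIso.id _) hka
    haveI : IsIso ((EtCoh.pull j).map k) :=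
      @IsIso.of_isIso_fac_right _ _ _ _ _ _ _ _ (hb t) (IsIso.id _) hkb
    haveI : IsIso k := hiso k ‹_› ‹_›
    let v : F ⟶ P t := pullback.lift (ai.homEquiv _ _ m.left) (aj.homEquiv _ _ m.right) (by
      rw [← Adjunction.homEquiv_naturality_right, Adjunction.homEquiv_unit]
      refine Eq.trans ?_ (ai.unit.naturality _).symm
      refine congrArg (fun z => ai.unit.app F ≫ (EtCoh.push i).map z) (m.w.trans ?_)
      rw [Adjunction.homEquiv_unit, Functor.map_comp]
      rfl)
    let φ : F ⟶ F' := v ≫ inv k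
    refine ⟨φ, CommaMorphism.ext ?_ ?_⟩
    · change (EtCoh.pull i).map φ = m.left
      apply (ai.homEquiv _ _).injective
      have e : φ ≫ ai.unit.app F' = ai.homEquiv _ _ m.left := by
        rw [← hk₁]
        refine (Category.assoc v (inv k) _).trans ?_
        refine (congrArg (v ≫ ·) (IsIso.inv_hom_id_assoc k (q₁ t))).trans ?_
        exact pullback.lift_fst _ _ _
      refine Eq.trans ?_ e
      refine (ai.homEquiv_unit _ _ _).trans ?_
      exact (ai.unit.naturality φ).symm
    · change (EtCoh.pull j).map φ = m.right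
      apply (aj.homEquiv _ _).injective
      have e : φ ≫ aj.unit.app F' = aj.homEquiv _ _ m.right := by
        rw [← hk₂]
        refine (Category.assoc v (inv k) _).trans ?_
        refine (congrArg (v ≫ ·) (IsIso.inv_hom_id_assoc k (q₂ t))).trans ?_
        exact pullback.lift_snd _ _ _
      refine Eq.trans ?_ e
      refine (aj.homEquiv_unit _ _ _).trans ?_
      exact (aj.unit.naturality φ).symm⟩
  exact { }

end Groth.Agent.S14449
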