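import Groth.Statements.S14450
import Groth.Agent.Lib.DivSeq18.Basic
import Groth.Agent.Lib.EtBasicB.LocalRings
import Groth.Agent.Lib.RegUFD.Basic
-- import your own Groth.Agent.* helpers here

set_option autoImplicit false
universe u
open CategoryTheory CategoryTheory.Limits AlgebraicGeometry
open EtCore

namespace Groth.Agent.S14450

/-- Let X be an integral, locally Noetherian scheme whose local rings are all regular, j : Spec O_{X,η}
⟶ X the canonical morphism from the spectrum of the function field (the local ring at the generic
point η), and i_x : Spec κ(x) ⟶ X the canonical morphism at a point x. Then, as abelian sheaves on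
the small étale site of X, the canonical map G_{m,X} ⟶ j_* G_{m,η} is a monomorphism and its
cokernel is isomorphic to the coproduct of the sheaves (i_x)_* ℤ over the points x of codimension
one (local ring of Krull dimension one); existence of an isomorphism only, the divisor map being
left unnamed, and the coproduct is given as any colimit cofan. (The published statement takes X
connected and Noetherian, and it also asserts, for X normal but not necessarily regular, that 0 →
G_{m,X} → j_* G_{m,η} → ⊕ (i_x)_* ℤ is exact without the surjectivity on the right; that normal case
is not included here. A connected locally Noetherian normal scheme is integral and quasi-compactness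
plays no role, so this row assumes X integral and locally Noetherian.) -/
theorem result (X : Scheme.{u})
    [IsIntegral X] [IsLocallyNoetherian X] (hreg : ∀ x : ↥X, IsRegularLocalRing (X.presheaf.stalk x))
    (c : Cofan fun x : {x : ↥X // ringKrullDim (X.presheaf.stalk x) = 1} =>
      (EtCoh.push (X.fromSpecResidueField x.1)).obj (EtCoh.const (Spec (X.residueField x.1)) ℤ))
    (hc : IsColimit c) :
    Mono (EtLim.GmPush (X.fromSpecStalk (genericPoint ↥X))) ∧
      Nonempty (cokernel (EtLim.GmPush (X.fromSpecStalk (genericPoint ↥X))) ≅ c.pt) := by
  refine GrothLib.DivSeq18.main (fun U u => ?_) c hc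
  let f : U.left ⟶ X := U.hom
  haveI : Etale f := U.prop
  haveI : IsRegularLocalRing (U.left.presheaf.stalk u) :=
    (GrothLib.EtBasicB.isRegularLocalRing_stalk_iff f u).2 (hreg _)
  haveI := GrothLib.CMFree.isDomain_of_isRegularLocalRing (U.left.presheaf.stalk u)
  refine ⟨inferInstance, ?_⟩
  obtain ⟨d, hd⟩ : ∃ d : ℕ, ringKrullDim (U.left.presheaf.stalk u) ≤ d :=
    ⟨_, (IsRegularLocalRing.spanFinrank_maximalIdeal (R := U.left.presheaf.stalk u)).ge⟩
  exact GrothLib.RegUFD.uniqueFactorizationMonoid_of_regular d _ hd

end Groth.Agent.S14450
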