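import Groth.Statements.S14455
import Groth.Agent.Lib.Zeta.Spaces

set_option autoImplicit false
universe u
open CategoryTheory AlgebraicGeometry
open Zeta

namespace Groth.Agent.S14455

/-- For a scheme X of finite type over a finite field k with q elements, the zeta function of the affine
line over X (a k-scheme through X) is obtained from that of X by the substitution t ↦ qt, that is
Z(𝔸¹_X, t) = Z(X, qt) in ℚ⟦t⟧. (The published statement is the equality ζ(𝔸¹_X, s) = ζ(X, s − 1) of
zeta functions in the variable s; under the substitution t = q^(−s), which turns ζ(Y, s) into Z(Y,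
t) for every Y of finite type over k, it is the identity stated here.) -/
theorem result {k : Type u} [Field k] [Finite k] {X : Scheme.{u}}
    (f : X ⟶ Spec (CommRingCat.of k)) [LocallyOfFiniteType f] [QuasiCompact f] :
    Zeta.zetaFun ((𝔸(PUnit.{u + 1}; X) ↘ X) ≫ f) =
      PowerSeries.rescale (Nat.card k : ℚ) (Zeta.zetaFun f) := by
  have : LocallyOfFiniteType (𝔸(PUnit.{u + 1}; X) ↘ X) := inferInstance
  refine (GrothLib.Zeta.isExpOf_zetaFun _).ext
    ((GrothLib.Zeta.isExpOf_zetaFun f).rescale (Nat.card k : ℚ)) (GrothLib.Zeta.nPts_zero _)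
    (by simp [GrothLib.Zeta.nPts_zero]) fun m hm => ?_
  have h : Zeta.nPts ((𝔸(PUnit.{u + 1}; X) ↘ X) ≫ f) m = Zeta.nPts f m * Nat.card k ^ m := by
    obtain ⟨k₁, _, _, _, hk⟩ := GrothLib.Zeta.exists_extension k m hm
    rw [← hk, ← GrothLib.Zeta.pointCount_eq_nPts, ← GrothLib.Zeta.pointCount_eq_nPts,
      ← Module.natCard_eq_pow_finrank (K := k) (V := k₁)]
    refine (Nat.card_congr (GrothLib.Zeta.ptsAffineEquiv f k₁ PUnit.{u + 1})).trans ?_
    rw [Nat.card_prod, Nat.card_fun, Nat.card_unique (α := PUnit.{u + 1}), pow_one]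
    rfl
  rw [h]
  push_cast
  ring

end Groth.Agent.S14455
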