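import Groth.Statements.S14457
import Mathlib

set_option autoImplicit false
universe u
open CAlg

namespace Groth.Agent.S14457

open Polynomial in
/-- Let A be a commutative ring, a an element of A and n ≥ 1 an integer. The A-algebra A[T]/(T^n − a) is
etale exactly when either n = 1 or the product n·a is a unit of A. (The exponent n is a positive
integer here; for n = 0 the quotient is (A/(1 − a))[T] and the equivalence fails.) -/
theorem result (A : Type u) [CommRing A] (a : A) (n : ℕ) (hn : 1 ≤ n) :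
    Algebra.Etale A (AdjoinRoot ((X : A[X]) ^ n - C a)) ↔ n = 1 ∨ IsUnit ((n : A) * a) := by
  classical
  have hm : ((X : A[X]) ^ n - C a).Monic := monic_X_pow_sub_C a (by omega)
  haveI := hm.finite_adjoinRoot
  constructor
  · intro hE
    by_contra hcon
    simp only [not_or] at hcon
    obtain ⟨hn1, hna⟩ := hcon
    obtain ⟨m, hmax, hmem⟩ := exists_max_ideal_of_mem_nonunits (show (n : A) * a ∈ nonunits A from hna)
    haveI := hmax
    letI : Field (A ⧸ m) := Ideal.Quotient.field m
    let K := AlgebraicClosure (A ⧸ m)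
    let ψ : A →+* K := (algebraMap (A ⧸ m) K).comp (Ideal.Quotient.mk m)
    obtain ⟨ρ, hρ⟩ := IsAlgClosed.exists_pow_nat_eq (ψ a) (by omega : 0 < n)
    have hd : (n : K) * ρ ^ (n - 1) = 0 := by
      have h0 : ψ ((n : A) * a) = 0 := by
        show algebraMap (A ⧸ m) K (Ideal.Quotient.mk m ((n : A) * a)) = 0
        rw [Ideal.Quotient.eq_zero_iff_mem.mpr hmem, map_zero]
      rw [map_mul, map_natCast, mul_eq_zero] at h0
      rcases h0 with h0 | h0
      · rw [h0, zero_mul]
      · rw [h0] at hρ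
        rw [pow_eq_zero_iff (by omega : n ≠ 0) |>.mp hρ, zero_pow (by omega), mul_zero]
    letI : Algebra A K := ψ.toAlgebra
    have hev : ∀ x : TrivSqZeroExt K K, x.fst = ρ → Polynomial.aeval x ((X : A[X]) ^ n - C a) = 0 := by
      intro x hx
      rw [map_sub, map_pow, aeval_X, aeval_C]
      refine TrivSqZeroExt.ext ?_ ?_
      · rw [TrivSqZeroExt.fst_sub, TrivSqZeroExt.fst_pow, hx, hρ, TrivSqZeroExt.fst_zero]
        show ψ a - ψ a = 0
        exact sub_self _
      · rw [TrivSqZeroExt.snd_sub, TrivSqZeroExt.snd_pow, hx, TrivSqZeroExt.snd_zero]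
        show n • ρ ^ n.pred • x.snd - 0 = 0
        rw [sub_zero, smul_eq_mul, nsmul_eq_mul, Nat.pred_eq_sub_one, ← mul_assoc, hd, zero_mul]
    let f₁ : AdjoinRoot ((X : A[X]) ^ n - C a) →ₐ[A] TrivSqZeroExt K K :=
      AdjoinRoot.liftAlgHom _ (Algebra.ofId A _) (TrivSqZeroExt.inl ρ) (hev _ (by simp))
    let f₂ : AdjoinRoot ((X : A[X]) ^ n - C a) →ₐ[A] TrivSqZeroExt K K :=
      AdjoinRoot.liftAlgHom _ (Algebra.ofId A _) (TrivSqZeroExt.inl ρ + TrivSqZeroExt.inr 1) (hev _ (by simp))
    have key : (TrivSqZeroExt.fstHom A K K).comp f₁ = (TrivSqZeroExt.fstHom A K K).comp f₂ := by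
      apply AdjoinRoot.algHom_ext
      rw [AlgHom.comp_apply, AlgHom.comp_apply, show f₁ (AdjoinRoot.root _) = TrivSqZeroExt.inl ρ from AdjoinRoot.liftAlgHom_root _ _ _ _,
        show f₂ (AdjoinRoot.root _) = TrivSqZeroExt.inl ρ + TrivSqZeroExt.inr 1 from AdjoinRoot.liftAlgHom_root _ _ _ _]
      show TrivSqZeroExt.fst (TrivSqZeroExt.inl ρ : TrivSqZeroExt K K) = TrivSqZeroExt.fst _
      simp
    have h12 : f₁ = f₂ := by
      refine Algebra.FormallyUnramified.lift_unique_of_ringHom (TrivSqZeroExt.fstHom A K K).toRingHom ?_ f₁ f₂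
        (congrArg AlgHom.toRingHom key)
      exact ⟨2, TrivSqZeroExt.kerIdeal_sq (R := K) (M := K)⟩
    have h3 : (TrivSqZeroExt.inl ρ : TrivSqZeroExt K K) = TrivSqZeroExt.inl ρ + TrivSqZeroExt.inr 1 :=
      (AdjoinRoot.liftAlgHom_root _ _ _ _).symm.trans ((AlgHom.congr_fun h12 (AdjoinRoot.root _)).trans
        (AdjoinRoot.liftAlgHom_root _ _ _ _))
    have h4 : (0 : K) = 1 := by simpa using congrArg TrivSqZeroExt.snd h3
    haveI : Nontrivial K := inferInstanceAs (Nontrivial (AlgebraicClosure (A ⧸ m)))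
    exact (one_ne_zero : (1 : K) ≠ 0) h4.symm
  · rintro (rfl | hu)
    · have e : ((X : A[X]) ^ 1 - C a) = X - C a := by rw [pow_one]
      exact Algebra.Etale.of_equiv
        ((AdjoinRoot.algEquivOfEq A _ _ (congrArg id e)).trans (Polynomial.quotientSpanXSubCAlgEquiv a)).symm
    · obtain ⟨u, hu⟩ := hu
      let P : StandardEtalePair A :=
        { f := X ^ n - C a
          monic_f := hm
          g := 1
          cond := ⟨C (↑u⁻¹ : A) * X, -C ((n : A) * ↑u⁻¹), 1, by
            rw [derivative_sub, derivative_X_pow, derivative_C, sub_zero, pow_one]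
            have h1 : C (n : A) * C (↑u⁻¹ : A) * C a = (1 : A[X]) := by
              rw [← C_mul, ← C_mul, mul_right_comm, ← hu, Units.mul_inv, C_1]
            have h2 : (X : A[X]) ^ n = X ^ (n - 1) * X := by rw [← pow_succ, Nat.sub_add_cancel hn]
            rw [C_mul]
            linear_combination (-(C (n : A) * C (↑u⁻¹ : A))) * h2 + h1⟩ }
      haveI : Algebra.Etale A (Localization.Away (AdjoinRoot.mk P.f P.g)) :=
        Algebra.Etale.of_equiv P.equivAwayAdjoinRoot
      exact Algebra.Etale.of_equiv (IsLocalization.atUnit (AdjoinRoot P.f) (Localization.Away (AdjoinRoot.mk P.f P.g))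
        (AdjoinRoot.mk P.f P.g) (by simp [P]) |>.restrictScalars A).symm

end Groth.Agent.S14457
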