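import Groth.Statements.S14460
import Groth.Agent.Lib.SGA1Quot21.Free
import Groth.Agent.Lib.FEt21.Basic

set_option autoImplicit false
universe u
open CategoryTheory CategoryTheory.Limits AlgebraicGeometry
open Pi1

namespace Groth.Agent.S14460

open CategoryTheory in
theorem hom_mul {C : Type*} [Category C] {A : C} (f g : Aut A) : (f * g).hom = g.hom ≫ f.hom := rfl

/-- Let Y → X be finite étale with Y nonempty and all geometric fibres of the same cardinality n, and
let a finite group G act on Y over X without fixed points (no point of Y with values in a field is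
fixed by a non-identity element). Then G has at most n elements, and it has exactly n elements if
and only if the morphism from the disjoint union of copies of Y indexed by G to Y ×_X Y, given on
the copy indexed by g by the identity and g, is an isomorphism. (For Y empty the bound fails, since
every finite group acts without fixed points on the empty cover, whose fibres have cardinality 0;
this row assumes Y nonempty.) -/
theorem result {X : Scheme.{u}} (Y : FEt.Cat X)
    [Nonempty ↥Y.left] (n : ℕ)
    (hn : ∀ (Ω : Type u) [Field Ω] [IsSepClosed Ω] (ξ : Spec (CommRingCat.of Ω) ⟶ X), Nat.card (FEt.fiberObj ξ Y) = n)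
    (G : Type u) [Group G] [Finite G] (ρ : G →* Aut Y)
    (hfree : ∀ g : G, g ≠ 1 → ∀ (K : Type u) [Field K] (y : Spec (CommRingCat.of K) ⟶ Y.left),
      y ≫ (ρ g).hom.left ≠ y) :
    Nat.card G ≤ n ∧
      (Nat.card G = n ↔ IsIso (Limits.Sigma.desc fun g : G =>
        pullback.lift (𝟙 Y.left) (ρ g).hom.left
          ((Category.id_comp Y.hom).trans (Over.w (ρ g).hom.hom).symm) : (∐ fun _ : G => Y.left) ⟶ pullback Y.hom Y.hom)) := by
  have hcomp : ∀ g : G, (ρ g).hom.left ≫ Y.hom = Y.hom := fun g => Over.w (ρ g).hom.hom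
  let act : ∀ {Ω : Type u} [Field Ω] (τ : Spec (CommRingCat.of Ω) ⟶ Y.left),
      G → FEt.fiberObj (τ ≫ Y.hom) Y := fun τ g => ⟨τ ≫ (ρ g).hom.left, by rw [Category.assoc, hcomp]⟩
  have hinjG : ∀ {Ω : Type u} [Field Ω] (τ : Spec (CommRingCat.of Ω) ⟶ Y.left) (g h : G),
      τ ≫ (ρ g).hom.left = τ ≫ (ρ h).hom.left → g = h := by
    intro Ω _ τ g h e
    by_contra hne
    refine hfree (h⁻¹ * g) (fun h1 => hne (inv_mul_eq_one.1 h1).symm) Ω τ ?_
    have e2 : ∀ a b : G, (ρ (a * b)).hom.left = (ρ b).hom.left ≫ (ρ a).hom.left := fun a b => by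
      rw [map_mul]; rfl
    rw [e2, reassoc_of% e, ← e2, inv_mul_cancel, map_one]
    exact Category.comp_id τ
  let y₀ : Y.left := Classical.arbitrary _
  let τ₀ := GrothLib.FEt21.geomPt Y.left y₀
  have hinj₀ : Function.Injective (act τ₀) := fun g h e => hinjG τ₀ g h (congrArg Subtype.val e)
  have hle : Nat.card G ≤ n := (Nat.card_le_card_of_injective _ hinj₀).trans (hn _ (τ₀ ≫ Y.hom)).le
  refine ⟨hle, fun hcard => ?_, fun hiso => ?_⟩
  · refine GrothLib.SGA1Quot21.isIso_sigmaDesc_sections (pullback.fst Y.hom Y.hom) _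
      (fun g => pullback.lift_fst _ _ _) (fun K _ _ τ => ?_) fun K _ _ t g h e => hinjG t g h ?_
    · have hbij : Function.Bijective (act (τ ≫ pullback.fst Y.hom Y.hom)) :=
        (Nat.bijective_iff_injective_and_card _).2 ⟨fun g h e => hinjG _ g h (congrArg Subtype.val e),
          hcard.trans (hn _ _).symm⟩
      obtain ⟨g, hg⟩ := hbij.2 ⟨τ ≫ pullback.snd Y.hom Y.hom, by
        simp only [Category.assoc, pullback.condition]⟩
      refine ⟨g, pullback.hom_ext ?_ ?_⟩
      · simp only [Category.assoc, pullback.lift_fst]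
        exact congrArg (τ ≫ ·) (Category.comp_id _)
      · simp only [Category.assoc, pullback.lift_snd]
        simpa [act] using congrArg Subtype.val hg
    · exact (congrArg (t ≫ ·) (pullback.lift_snd _ _ _)).symm.trans ((Category.assoc _ _ _).symm.trans
        ((congrArg (· ≫ pullback.snd Y.hom Y.hom) e).trans
          ((Category.assoc _ _ _).trans (congrArg (t ≫ ·) (pullback.lift_snd _ _ _)))))
  · refine le_antisymm hle ((hn _ (τ₀ ≫ Y.hom)).ge.trans (Nat.card_le_card_of_surjective (act τ₀) fun s => ?_))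
    let P : Scheme.{u} := pullback Y.hom Y.hom
    let υ : (∐ fun _ : G => Y.left) ⟶ P := Limits.Sigma.desc fun g : G =>
      pullback.lift (𝟙 Y.left) (ρ g).hom.left ((Category.id_comp Y.hom).trans (Over.w (ρ g).hom.hom).symm)
    let z : Spec (CommRingCat.of (AlgebraicClosure (Y.left.residueField y₀))) ⟶ P := pullback.lift τ₀ s.1 s.2.symm
    haveI : IsIso υ := hiso
    obtain ⟨g, w, hgw⟩ : ∃ (g : G) (w : Y.left), Sigma.ι (fun _ : G => Y.left) g w = inv υ (z default) := by
      obtain ⟨i, w, hw⟩ := (sigmaOpenCover fun _ : G => Y.left).exists_eq (inv υ (z default))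
      exact ⟨i, w, hw⟩
    let sg : Y.left ⟶ P := Sigma.ι (fun _ : G => Y.left) g ≫ υ
    have hr : Set.range z ⊆ Set.range sg := by
      rintro _ ⟨a, rfl⟩
      refine ⟨w, ?_⟩
      rw [Subsingleton.elim a default]
      show υ (Sigma.ι (fun _ : G => Y.left) g w) = _
      rw [hgw, ← Scheme.Hom.comp_apply, IsIso.inv_hom_id]
      rfl
    have e := IsOpenImmersion.lift_fac sg z hr
    refine ⟨g, Subtype.ext ?_⟩
    have hsg : sg = pullback.lift (𝟙 Y.left) (ρ g).hom.left
        ((Category.id_comp Y.hom).trans (Over.w (ρ g).hom.hom).symm) := Sigma.ι_desc _ _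
    have e1 := congrArg (· ≫ pullback.fst Y.hom Y.hom) e
    have e2 := congrArg (· ≫ pullback.snd Y.hom Y.hom) e
    simp only [hsg, z, Category.assoc, pullback.lift_fst, pullback.lift_snd, Category.comp_id] at e1 e2
    show τ₀ ≫ (ρ g).hom.left = s.1
    exact (congrArg (· ≫ (ρ g).hom.left) ((Category.comp_id _).symm.trans e1).symm).trans e2

end Groth.Agent.S14460
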