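import Groth.Statements.S14461
import Groth.Agent.Lib.FEt21.Clopen
import Mathlib.AlgebraicGeometry.Noetherian
import Mathlib.Topology.NoetherianSpace

set_option autoImplicit false
universe u
open CategoryTheory CategoryTheory.Limits AlgebraicGeometry
open Pi1

namespace Groth.Agent.S14461

example : True := trivial

open CategoryTheory CategoryTheory.Limits AlgebraicGeometry

theorem isClopen_connectedComponent_of_finite {T : Type*} [TopologicalSpace T]
    (hfin : (irreducibleComponents T).Finite) (x : T) : IsClopen (connectedComponent x) := by
  refine ⟨isClosed_connectedComponent, ?_⟩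
  rw [← isClosed_compl_iff]
  have : (connectedComponent x)ᶜ =
      ⋃ C ∈ {C | C ∈ irreducibleComponents T ∧ Disjoint C (connectedComponent x)}, C := by
    ext z
    simp only [Set.mem_iUnion, Set.mem_ofPred_eq, exists_prop, Set.mem_compl_iff]
    constructor
    · intro hz
      refine ⟨irreducibleComponent z, ⟨irreducibleComponent_mem_irreducibleComponents z, ?_⟩,
        mem_irreducibleComponent⟩
      rw [Set.disjoint_left]
      intro w hw hwx
      refine hz ?_
      rw [connectedComponent_eq hwx]
      exact isIrreducible_irreducibleComponent.isPreirreducible.isPreconnected.subset_connectedComponent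
        hw mem_irreducibleComponent
    · rintro ⟨C, ⟨-, hd⟩, hzC⟩
      exact Set.disjoint_left.1 hd hzC
  rw [this]
  exact (hfin.subset fun _ h => h.1).isClosed_biUnion fun C hC =>
    isClosed_of_mem_irreducibleComponents C hC.1

theorem isClopen_preimage_mk {T : Type*} [TopologicalSpace T]
    (hfin : (irreducibleComponents T).Finite) (S : Set (ConnectedComponents T)) :
    IsClopen (ConnectedComponents.mk ⁻¹' S) := by
  have key : ∀ S : Set (ConnectedComponents T), IsOpen (ConnectedComponents.mk ⁻¹' S) := fun S =>
    isOpen_iff_forall_mem_open.2 fun z hz => ⟨connectedComponent z, fun w hw => by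
      rw [Set.mem_preimage] at hz ⊢
      rwa [ConnectedComponents.coe_eq_coe'.2 hw],
      (isClopen_connectedComponent_of_finite hfin z).2, mem_connectedComponent⟩
  exact ⟨by rw [← isOpen_compl_iff, ← Set.preimage_compl]; exact key _, key S⟩

/-- Let X be a Noetherian scheme and X₀ → X a closed immersion such that, for every finite étale Y → X,
the projection Y ×_X X₀ → Y induces a bijection on connected components. Then restriction of finite
étale covers from X to X₀ is full and faithful. -/
theorem result {X X₀ : Scheme.{u}} [IsNoetherian X]
    (i : X₀ ⟶ X) [IsClosedImmersion i]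
    (h : ∀ Y : FEt.Cat X, Function.Bijective (pullback.fst Y.hom i).continuous.connectedComponentsMap) :
    (FEt.restrict i).Full ∧ (FEt.restrict i).Faithful := by
  refine GrothLib.FEt21.fullyFaithful_of_clopen i (fun A D hD he => ?_) (fun A C hC => ?_)
  · refine Set.eq_empty_of_forall_notMem fun d hd => ?_
    obtain ⟨q, hq⟩ := (h A).2 (ConnectedComponents.mk d)
    obtain ⟨p, rfl⟩ := ConnectedComponents.surjective_coe q
    rw [Continuous.connectedComponentsMap, Continuous.connectedComponentsLift_apply_coe] at hq
    exact Set.eq_empty_iff_forall_notMem.1 he p
      (hD.connectedComponent_subset hd (ConnectedComponents.coe_eq_coe'.1 hq))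
  · haveI : IsFinite A.hom := A.prop.1
    haveI : IsNoetherian ((Functor.fromPUnit X).obj A.right) := ‹IsNoetherian X›
    haveI : IsNoetherian A.left :=
      { toIsLocallyNoetherian := LocallyOfFiniteType.isLocallyNoetherian A.hom
        toCompactSpace := QuasiCompact.compactSpace_of_compactSpace A.hom }
    have hfin : (irreducibleComponents ↥A.left).Finite :=
      TopologicalSpace.NoetherianSpace.finite_irreducibleComponents
    let F := (pullback.fst A.hom i).continuous.connectedComponentsMap
    refine ⟨ConnectedComponents.mk ⁻¹' (F '' (ConnectedComponents.mk '' C)),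
      isClopen_preimage_mk hfin _, ?_⟩
    ext p
    simp only [Set.mem_preimage, Set.mem_image, exists_exists_and_eq_and]
    constructor
    · rintro ⟨c, hc, hcp⟩
      have : ConnectedComponents.mk c = ConnectedComponents.mk p := by
        refine (h A).1 ?_
        exact hcp
      exact hC.connectedComponent_subset hc (ConnectedComponents.coe_eq_coe'.1 this.symm)
    · exact fun hp => ⟨p, hp, Continuous.connectedComponentsLift_apply_coe _ _⟩

end Groth.Agent.S14461
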