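import Groth.Statements.S14463
import Groth.Agent.Lib.ClassTop18.Basic
-- import your own Groth.Agent.* helpers here

set_option autoImplicit false
universe u
open CategoryTheory CategoryTheory.Limits AlgebraicGeometry
open BigSite

namespace Groth.Agent.S14463

/-- Fix a scheme S and a class C of quasi-compact morphisms of schemes which is stable under composition
and base change, closed under finite coproducts, and contains ∐_j V_j → U for every finite affine
open cover (V_j) of an affine scheme U. Declare a sieve R on an S-scheme X to be covering when X has
an affine open cover (U_i) such that for every i there are finitely many affine S-schemes V_j and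
S-morphisms V_j → X in R factoring through U_i with the induced morphism ∐_j V_j → U_i in C. Then
there is a Grothendieck topology on S-schemes whose covering sieves are exactly these. (The
published statement also allows a local property of S-schemes preserved by the class and works on
the S-schemes having it, takes a class of morphisms of S-schemes, and says that covering may
equivalently be tested with arbitrary rather than affine opens and schemes; this row takes no such
property and a class of morphisms of schemes, and defines covering sieves through affine opens and
affine schemes only.) -/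
theorem result (S : Scheme.{u})
    (C : MorphismProperty Scheme.{u}) [C.IsStableUnderComposition] [C.IsStableUnderBaseChange]
    (hqc : ∀ {A B : Scheme.{u}} (f : A ⟶ B), C f → QuasiCompact f)
    (hcoprod : ∀ (κ : Type u) [Finite κ] (A B : κ → Scheme.{u}) (f : ∀ j, A j ⟶ B j),
      (∀ j, C (f j)) → C (Limits.Sigma.map f))
    (haff : ∀ (U : Scheme.{u}) [IsAffine U] (κ : Type u) [Finite κ] (V : κ → U.Opens),
      (∀ j, IsAffineOpen (V j)) → ⨆ j, V j = ⊤ → C (Limits.Sigma.desc fun j => (V j).ι)) :
    ∃ J : GrothendieckTopology (Over S), ∀ (X : Over S) (R : Sieve X), R ∈ J X ↔
      ∃ (ι : Type u) (U : ι → X.left.Opens), (∀ i, IsAffineOpen (U i)) ∧ ⨆ i, U i = ⊤ ∧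
        ∀ i, ∃ (κ : Type u) (_ : Finite κ) (V : κ → Over S) (φ : ∀ j, V j ⟶ X)
          (ψ : ∀ j, (V j).left ⟶ (U i : Scheme.{u})),
          (∀ j, IsAffine (V j).left) ∧ (∀ j, R.arrows (φ j)) ∧ (∀ j, ψ j ≫ (U i).ι = (φ j).left) ∧
            C (Limits.Sigma.desc ψ) := GrothLib.ClassTop.exists_topology C haff hcoprod

end Groth.Agent.S14463
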