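import Groth.Statements.S14469
import Groth.Agent.Lib.SmCurveFam.Push

set_option autoImplicit false
universe u
open CategoryTheory CategoryTheory.Limits AlgebraicGeometry
open Curves

namespace Groth.Agent.S14469

set_option backward.isDefEq.respectTransparency false


/-- Let f : C → S be a proper smooth morphism of schemes whose fibres are geometrically connected, of
dimension one and of genus g ≥ 2 (g the dimension of H¹ of the structure sheaf of each fibre over
its residue field), i.e. a family of smooth curves of genus g, and let n ≥ 2. Then f_*(Ω_{C/S}^{⊗n})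
is finite locally free of rank (2n - 1)(g - 1) and R^i f_*(Ω_{C/S}^{⊗n}) = 0 for every i ≥ 1. (The
published statement also asserts that the formation of f_*(Ω_{C/S}^{⊗n}) commutes with every base
change S' → S; this row does not restate that clause.) -/
theorem result {C S : Scheme.{u}} (f : C ⟶ S)
    [IsProper f] [Smooth f] [GeometricallyConnected f]
    (hdim : ∀ s : S, topologicalKrullDim ↥(f.fiber s) = 1) (g : ℕ) (hg : 2 ≤ g)
    (hgen : ∀ s : S, letI : (f.fiber s).Over (Spec (S.residueField s)) := ⟨f.fiberToSpecResidueField s⟩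
      Curv2.genus (S.residueField s) (f.fiber s) = g)
    [HasInjectiveResolutions C.Modules] (n : ℕ) (hn : 2 ≤ n) :
    FlatMod.IsFinLocFreeOfRank ((2 * n - 1) * (g - 1)) ((Coh.push f).obj (CohB1.tensorPow (Omega.sheaf f) n)) ∧
      ∀ i : ℕ, 1 ≤ i → IsZero ((Coh.Rpush f i).obj (CohB1.tensorPow (Omega.sheaf f) n)) := by
  haveI := GrothLib.SmCurveFam.smoothOfRelativeDimension_one f hdim
  obtain ⟨-, hfp, hqc, hfl⟩ := GrothLib.SmCurveFam.omegaPow_props f n
  haveI := hqc
  haveI : (CohB1.tensorPow (Omega.sheaf f) n).IsQuasicoherent := hqc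
  have hr := GrothLib.SmCurveFam.omegaPow_fiberRank f hdim g hg hgen n hn
  have hG : ∀ s : S, GrothLib.BCCrit.GoodAll f (CohB1.tensorPow (Omega.sheaf f) n) ((0 : ℕ) : ℤ) s := fun s => by
    simpa using (GrothLib.BCCrit.goodAll_of_fiberRank_eq_zero 1 s (hr s).1).2
  refine ⟨fun s => ?_, fun i hi => ?_⟩
  · obtain ⟨U, r, hs, hφ, hr'⟩ := GrothLib.BCCrit.exists_free_near0 hfp hfl s (hG s)
    obtain rfl := (hr' s hs).symm.trans (hr s).2
    exact ⟨U, hs, hφ⟩
  · rcases Nat.lt_or_ge i 2 with h2 | h2
    · obtain rfl : i = 1 := by omega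
      refine GrothLib.BCCrit.isZero_of_free_zero _ fun y => ?_
      obtain ⟨U, hy, hφ, -⟩ := GrothLib.BCCrit.exists_zero_near hfp hfl 1 y (hr y).1
      exact ⟨U, hy, hφ⟩
    · exact GrothLib.SmCurveFam.isZero_Rpush_two f hdim hfp hfl i h2

end Groth.Agent.S14469
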