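import Groth.Statements.S14471
import Groth.Agent.Lib.VanSeq2.Basic
import Groth.Agent.Lib.CurveRR.Places
import Groth.Agent.Lib.Euler.Scalar
import Groth.Agent.Lib.BiratH0.Model
import Groth.Agent.Lib.SubCurve16.Stalk
import Mathlib.RingTheory.OrderOfVanishing.Noetherian

set_option autoImplicit false
set_option linter.all false
universe u
open CategoryTheory CategoryTheory.Limits AlgebraicGeometry
open Curves

namespace Groth.Agent.S14471

/-- Let k be an algebraically closed field, C a smooth proper curve over k (proper and smooth over k,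
integral, of dimension one), (L, s_0, …, s_r) a linear series g^r_d on C (L an invertible module of
degree d with k-linearly independent global sections s_0, …, s_r spanning a subspace V of Γ(C, L))
and p a closed point of C. For a nonzero σ ∈ V write ord_p σ for the length of the O_{C,p}-module
L_p/(σ_p), the order of vanishing of σ at p. Then σ ↦ ord_p σ takes exactly r + 1 distinct values on
V minus 0. (The published statement is for a smooth projective curve over the complex numbers and a
complex point p; this row states it over any algebraically closed field.) -/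
theorem result (k : Type u) [Field k] [IsAlgClosed k]
    (C : Scheme.{u}) [C.Over (Spec (CommRingCat.of k))] (hC : Curve.IsSmoothProperCurve k C (C ↘ (Spec (CommRingCat.of k))))
    (L : C.Modules) (d r : ℕ) (s : Fin (r + 1) → LinSer.Sect C L) (hL : LinSer.IsLinSer k C L d r s)
    (p : C) (hp : IsClosed ({p} : Set C)) :
    Set.ncard ((fun c : Fin (r + 1) → k =>
        Module.length (C.presheaf.stalk p)
          (↥(L.presheaf.stalk p) ⧸ Submodule.span (C.presheaf.stalk p)
            {(L.presheaf.germ ⊤ p trivial) (∑ i, (Coh.toGlobal (C ↘ Spec (CommRingCat.of k)) (c i)) • s i)})) ''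
        {c : Fin (r + 1) → k | c ≠ 0}) = r + 1 := by
  classical
  obtain ⟨hprop, hsm, hint, hd⟩ := hC
  obtain ⟨hinv, -, hli⟩ := hL
  haveI : IsLocallyNoetherian C := LocallyOfFiniteType.isLocallyNoetherian (C ↘ Spec (CommRingCat.of k))
  haveI := GrothLib.CurveRR.regCurve_of_smooth (C ↘ Spec (CommRingCat.of k)) hd
  have hpη : p ≠ genericPoint C := (GrothLib.CurvePoints.isClosed_singleton_iff hd).1 hp
  haveI := GrothLib.CurveRR.RegCurve.dvr p hpη
  let R := C.presheaf.stalk p
  let φ : k →+* R := (C.presheaf.germ ⊤ p trivial).hom.comp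
    (show k →+* Γ(C, ⊤) from Coh.toGlobal (C ↘ Spec (CommRingCat.of k)))
  letI : Algebra k R := φ.toAlgebra
  obtain ⟨e⟩ := GrothLib.SubCurve16.nonempty_stalkEquiv hinv p
  let g : Γ(L, ⊤) → R := fun σ => e (L.presheaf.germ ⊤ p trivial σ)
  let T : (Fin (r + 1) → k) →ₗ[k] R := Fintype.linearCombination k (fun i => g (s i))
  have hT : ∀ c, T c = g (∑ i, (Coh.toGlobal (C ↘ Spec (CommRingCat.of k)) (c i)) • s i) := by
    intro c
    let G : Γ(L, ⊤) →+ R := AddMonoidHom.mk' g fun a b => by simp only [g, map_add]
    refine Eq.trans ?_ (map_sum G (fun i => ((show Γ(C, ⊤) from Coh.toGlobal (C ↘ Spec (CommRingCat.of k)) (c i))) •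
      (show Γ(L, ⊤) from s i)) Finset.univ).symm
    simp only [T, Fintype.linearCombination_apply]
    refine Finset.sum_congr rfl fun i _ => ?_
    show φ (c i) * e (L.presheaf.germ ⊤ p trivial (show Γ(L, ⊤) from s i)) = e (L.presheaf.germ ⊤ p trivial _)
    exact ((congrArg e (GrothLib.WeakAss.germ_smul (F := L) (show p ∈ (⊤ : C.Opens) from trivial)
      (show Γ(C, ⊤) from Coh.toGlobal (C ↘ Spec (CommRingCat.of k)) (c i)) (show Γ(L, ⊤) from s i))).trans (map_smul e _ _)).symm
  have hinjg : ∀ σ : Γ(L, ⊤), L.presheaf.germ ⊤ p trivial σ = 0 → σ = 0 := by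
    intro σ hσ
    apply GrothLib.BiratH0.germ_generic_injective (GrothLib.Euler.isFinLocFree_of_isInvertible hinv)
    obtain ⟨W, hpW, iU, iV, h⟩ := TopCat.Presheaf.germ_eq L.presheaf p (U := ⊤) (V := ⊤) trivial trivial σ 0
      (hσ.trans (map_zero _).symm)
    have hη : genericPoint C ∈ W := ((genericPoint_spec C).specializes trivial).mem_open W.isOpen hpW
    rw [← TopCat.Presheaf.germ_res_apply L.presheaf iU _ hη σ, ← TopCat.Presheaf.germ_res_apply L.presheaf iV _ hη 0]
    exact congrArg _ h
  have hTinj : Function.Injective T := by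
    rw [injective_iff_map_eq_zero]
    intro c hc
    refine hli c (hinjg _ (e.injective ?_))
    rw [map_zero]
    exact (hT c).symm.trans hc
  have hres : ∀ a : R, ∃ c : k, 1 ≤ IsDiscreteValuationRing.addVal R (a - algebraMap k R c) := by
    intro a
    obtain ⟨c, hc⟩ := (GrothLib.Euler.exists_const_residue (C ↘ Spec (CommRingCat.of k)) hp).2
      (IsLocalRing.residue _ a)
    refine ⟨c, ENat.one_le_iff_ne_zero.2 fun h => ?_⟩
    have hu : IsUnit (a - algebraMap k R c) := IsDiscreteValuationRing.addVal_eq_zero_iff.1 h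
    have hmem : a - algebraMap k R c ∈ IsLocalRing.maximalIdeal R := by
      rw [← Ideal.Quotient.eq_zero_iff_mem]
      show IsLocalRing.residue R (a - algebraMap k R c) = 0
      rw [map_sub, sub_eq_zero]
      exact hc.symm
    exact hmem hu
  have key := (GrothLib.VanSeq2.ncard_addVal hres (r + 1) (LinearMap.range T) (by
    rw [LinearMap.finrank_range_of_inj hTinj, Module.finrank_fin_fun])).2
  refine Eq.trans (congrArg Set.ncard ?_) key
  have hval : ∀ c : Fin (r + 1) → k, Module.length R
      (↥(L.presheaf.stalk p) ⧸ Submodule.span R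
        {(L.presheaf.germ ⊤ p trivial) (∑ i, (Coh.toGlobal (C ↘ Spec (CommRingCat.of k)) (c i)) • s i)}) =
      IsDiscreteValuationRing.addVal R (T c) := by
    intro c
    rw [← Ring.ord_eq_addVal, Ring.ord, hT c]
    refine (Submodule.Quotient.equiv _ _ e ?_).length_eq
    rw [Submodule.map_span, Set.image_singleton]
    rfl
  ext t
  constructor
  · rintro ⟨c, hc, rfl⟩
    exact ⟨T c, ⟨⟨c, rfl⟩, fun h => hc (hTinj (h.trans (map_zero T).symm))⟩, (hval c).symm⟩
  · rintro ⟨_, ⟨⟨c, rfl⟩, h0⟩, rfl⟩
    exact ⟨c, fun h => h0 (by rw [h, map_zero]), hval c⟩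

end Groth.Agent.S14471
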