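import Groth.Statements.S14473
import Groth.Agent.Lib.CurveMult.SwapCurve
import Groth.Agent.Lib.CotTangent.Scheme
import Groth.Agent.Lib.CurveRR.Special

set_option autoImplicit false
universe u
open CategoryTheory CategoryTheory.Limits AlgebraicGeometry
open Curves

namespace Groth.Agent.S14473

set_option backward.isDefEq.respectTransparency false


/-- Let k be an algebraically closed field and C a smooth proper connected curve over k (proper and
smooth over k, integral, of dimension one) of genus 1, the genus being the dimension of H¹(C, O_C).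
Then the group of k-automorphisms of C is infinite: there are infinitely many automorphisms of the
scheme C over Spec k. -/
theorem result (k : Type u) [Field k] [IsAlgClosed k]
    (C : Scheme.{u}) [C.Over (Spec (CommRingCat.of k))] (hC : Curve.IsSmoothProperCurve k C (C ↘ (Spec (CommRingCat.of k))))
    (hg : Curv2.genus k C = 1) :
    Infinite {e : C ≅ C // e.hom ≫ (C ↘ (Spec (CommRingCat.of k))) = C ↘ (Spec (CommRingCat.of k))} := by
  classical
  obtain ⟨hp, hs, hi, hd⟩ := hC
  haveI := hp
  haveI := hs
  haveI := hi
  have hreg : ∀ x : C, IsRegularLocalRing (C.presheaf.stalk x) :=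
    GrothLib.CotTangent.isRegularLocalRing_stalk (C ↘ Spec (CommRingCat.of k))
  haveI := GrothLib.CurveRR.regCurve_of_regular (k := k) hd hreg
  haveI : Infinite (GrothLib.CurveRR.CP C) := by
    haveI : Infinite (_root_.FunFld.Place k C.functionField) := Infinite.of_not_fintype fun hF => by
      obtain ⟨P, hP⟩ := GrothLib.CurveRR.FF.exists_place_notMem (GrothLib.CurveRR.isFG k (X := C)) Finset.univ
      exact hP (Finset.mem_univ P)
    exact Infinite.of_injective _ (GrothLib.CurveRR.placeEquiv k (X := C)).symm.injective
  obtain ⟨P⟩ : Nonempty (GrothLib.CurveRR.CP C) := inferInstance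
  have h : ∀ Q : GrothLib.CurveRR.CP C, ∃ e : {e : C ≅ C // e.hom ≫ (C ↘ (Spec (CommRingCat.of k))) = C ↘ (Spec (CommRingCat.of k))},
      e.1.hom P.1 = Q.1 := fun Q => by
    obtain ⟨σ, hσ, hσσ, hPQ, -⟩ := GrothLib.CurveMult.SwapCurve.exists_swap k hreg hg P Q
    exact ⟨⟨⟨σ, σ, hσσ, hσσ⟩, hσ⟩, hPQ⟩
  choose e he using h
  exact Infinite.of_injective e fun Q Q' hQ => Subtype.ext (by rw [← he Q, hQ, he Q'])

end Groth.Agent.S14473
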