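import Groth.Statements.S14474
import Groth.Agent.Lib.NodeOpen11.Locus

set_option autoImplicit false
universe u
open CategoryTheory CategoryTheory.Limits AlgebraicGeometry
open Curves

namespace Groth.Agent.S14474

/-- Let π : C → S be a proper, flat morphism of finite presentation all of whose fibres have every
irreducible component of dimension one (every geometric fibre is a curve). Then the set of points s
of S such that the fibre C_s, as a scheme over κ(s), has at-worst-nodal singularities (each closed
point has a smooth open neighbourhood or is a node) is open in S. -/
theorem result {C S : Scheme.{u}} (π : C ⟶ S)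
    [IsProper π] [Flat π] [LocallyOfFinitePresentation π]
    (hfib : ∀ s : S, ∀ Z ∈ irreducibleComponents (↥(π.fiber s) : Type u), topologicalKrullDim Z = 1) :
    IsOpen {s : S | letI : (π.fiber s).Over (Spec (S.residueField s)) := ⟨π.fiberToSpecResidueField s⟩
      Curv2.AtWorstNodal (S.residueField s) (π.fiber s)} := by
  exact GrothLib.NodeOpen11.isOpen_atWorstNodal π hfib

end Groth.Agent.S14474
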