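import Groth.Statements.S14475
import Groth.Agent.S14477
import Groth.Agent.Lib.HypTor16.Main

set_option autoImplicit false
universe u
open CategoryTheory CategoryTheory.Limits KaehlerDifferential
open LocInt

namespace Groth.Agent.S14475

/-- Let A → B be a smooth ring map with Ω_{B/A} of rank n at every prime of B, g ∈ B a nonzerodivisor
and R = B/gB, so that Spec R is a hypersurface of virtual relative dimension n - 1 over Spec A. Let
M be an R-module of flat dimension at most m over A (Tor^A_i(M, P) = 0 for i > m and every A-module
P) and N an R-module. Then for q ≥ m + n the module Tor^R_q(M, N) (Mathlib's Tor on R-modules,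
left-derived in the second variable) is annihilated by the annihilator ideal of the n-th exterior
power of Ω_{R/A}, i.e. it is a module over the closed subscheme Z defined by that ideal. (The
published statement is for a scheme that is locally such a hypersurface, an arbitrary module over it
of tor-dimension at most m over the base, and a bounded complex on a scheme over it; this row is the
affine case with a single module on the hypersurface itself.) -/
theorem result (A B R : Type u) [CommRing A] [CommRing B] [CommRing R]
    [Algebra A B] [Algebra B R] [Algebra A R] [IsScalarTower A B R] [Algebra.Smooth A B] (n : ℕ)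
    (hn : ∀ p : PrimeSpectrum B, Module.rankAtStalk (Ω[B⁄A]) p = n)
    (g : B) (hg : IsSMulRegular B g) (hsurj : Function.Surjective (algebraMap B R))
    (hker : RingHom.ker (algebraMap B R) = Ideal.span {g})
    (m : ℕ) (M N : ModuleCat.{u} R)
    (hM : ∀ (P : ModuleCat.{u} A) (i : ℕ), m < i →
      IsZero (((Tor (ModuleCat.{u} A) i).obj ((ModuleCat.restrictScalars (algebraMap A R)).obj M)).obj P))
    (q : ℕ) (hq : m + n ≤ q) :
    (⋀[R]^n (Ω[R⁄A])).annihilator ≤ Module.annihilator R (((Tor (ModuleCat.{u} R) q).obj M).obj N) := by
  rw [show (⋀[R]^n (Ω[R⁄A])).annihilator =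
    Ideal.span (Set.range fun φ : Ω[B⁄A] →ₗ[B] B => algebraMap B R (φ (KaehlerDifferential.D A B g))) from
      Groth.Agent.S14477.result A B R n hn g hg hsurj hker, Ideal.span_le]
  rintro _ ⟨φ, rfl⟩
  exact (GrothLib.HypTor16.periodic hn hg hsurj hker M N hM q hq).2 φ


end Groth.Agent.S14475
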