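import Groth.Statements.S14478
-- import your own Groth.Agent.* helpers here
import Mathlib.LinearAlgebra.Dual.Lemmas
import Mathlib.LinearAlgebra.Projection

set_option autoImplicit false
universe u
open CharCyc

namespace Groth.Agent.S14478

/-- Let V be a finite-dimensional vector space over a field k, let W = V × V^∨ with V^∨ the dual space,
and let T ⊆ W be a subspace with dim T = dim V; put V₁ = V ∩ T, where V sits in W as V × 0. Then
there is a complement V₂ of V₁ in V with the following property: for every injective linear map A₁ :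
V₁ → V₁^∨, the map A : V → V^∨ extending A₁ by zero along the decompositions V = V₁ ⊕ V₂ and V^∨ =
V₁^∨ ⊕ V₂^∨ (so A v = A₁(p v) ∘ p, with p : V → V₁ the projection along V₂) has graph Γ ⊆ W with Γ ∩
T = 0. -/
theorem result (k V : Type u) [Field k] [AddCommGroup V] [Module k V]
    [FiniteDimensional k V] (T : Submodule k (V × Module.Dual k V))
    (hT : Module.finrank k T = Module.finrank k V) :
    ∃ (V₂ : Submodule k V) (h : IsCompl (T.comap (LinearMap.inl k V (Module.Dual k V))) V₂),
      ∀ A₁ : T.comap (LinearMap.inl k V (Module.Dual k V)) →ₗ[k]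
          Module.Dual k (T.comap (LinearMap.inl k V (Module.Dual k V))),
        Function.Injective A₁ →
          LinearMap.graph ((Submodule.projectionOnto _ V₂ h).dualMap ∘ₗ A₁ ∘ₗ
              Submodule.projectionOnto _ V₂ h) ⊓ T = ⊥ := by
  classical
  set V₁ := T.comap (LinearMap.inl k V (Module.Dual k V)) with hV₁
  set T' := T.map (LinearMap.snd k V (Module.Dual k V)) with hT'
  have common : ∀ (c : ℕ) (U W : Submodule k V), Module.finrank k U = Module.finrank k W →
      Module.finrank k U + c = Module.finrank k V → ∃ C, IsCompl U C ∧ IsCompl W C := by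
    intro c
    induction c with
    | zero =>
      intro U W hUW hU
      have h1 := Submodule.eq_top_of_finrank_eq (S := U) (by omega)
      have h2 := Submodule.eq_top_of_finrank_eq (S := W) (by omega)
      subst h1 h2
      exact ⟨⊥, isCompl_top_bot, isCompl_top_bot⟩
    | succ c ih =>
      intro U W hUW hU
      obtain ⟨x, hxU, hxW⟩ : ∃ x, x ∉ U ∧ x ∉ W := by
        by_contra hcon
        push Not at hcon
        have hU' : U ≠ ⊤ := fun h => by rw [h, finrank_top] at hU; omega
        have hW' : W ≠ ⊤ := fun h => by rw [h, finrank_top] at hUW; omega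
        obtain ⟨a, ha⟩ : ∃ a, a ∉ U := by
          by_contra h; push Not at h; exact hU' (eq_top_iff.2 fun x _ => h x)
        obtain ⟨b, hb⟩ : ∃ b, b ∉ W := by
          by_contra h; push Not at h; exact hW' (eq_top_iff.2 fun x _ => h x)
        have hbU : b ∈ U := by
          by_contra h; exact hb (hcon b h)
        have hab : a + b ∉ U := fun h => ha (by simpa using sub_mem h hbU)
        exact hb (by simpa using sub_mem (hcon _ hab) (hcon a ha))
      have hx : x ≠ 0 := fun h => hxU (h ▸ zero_mem U)
      have hfr : ∀ S : Submodule k V, x ∉ S →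
          Module.finrank k ↥(S ⊔ k ∙ x) = Module.finrank k S + 1 := fun S hS => by
        have h1 := Submodule.finrank_sup_add_finrank_inf_eq S (k ∙ x)
        have h2 : S ⊓ (k ∙ x) = ⊥ :=
          (Submodule.disjoint_span_singleton' hx).2 hS |>.eq_bot
        rw [h2, finrank_bot, finrank_span_singleton hx] at h1
        omega
      obtain ⟨C, h1, h2⟩ := ih (U ⊔ k ∙ x) (W ⊔ k ∙ x) (by rw [hfr U hxU, hfr W hxW, hUW])
        (by rw [hfr U hxU]; omega)
      refine ⟨(k ∙ x) ⊔ C, ?_, ?_⟩
      · refine ⟨disjoint_iff.2 ?_, codisjoint_iff.2 (by rw [← sup_assoc]; exact h1.sup_eq_top)⟩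
        refine (Submodule.eq_bot_iff _).2 fun z ⟨hzU, hz⟩ => ?_
        obtain ⟨a, ha, c', hc', rfl⟩ := Submodule.mem_sup.1 hz
        have hc0 : c' = 0 := by
          refine (Submodule.disjoint_def.1 h1.disjoint) c' ?_ hc'
          have := sub_mem (Submodule.mem_sup_left (T := k ∙ x) hzU) (Submodule.mem_sup_right (S := U) ha)
          simpa using this
        subst hc0
        rw [add_zero] at hzU ⊢
        exact Submodule.disjoint_def.1 ((Submodule.disjoint_span_singleton' hx).2 hxU) a hzU ha
      · refine ⟨disjoint_iff.2 ?_, codisjoint_iff.2 (by rw [← sup_assoc]; exact h2.sup_eq_top)⟩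
        refine (Submodule.eq_bot_iff _).2 fun z ⟨hzU, hz⟩ => ?_
        obtain ⟨a, ha, c', hc', rfl⟩ := Submodule.mem_sup.1 hz
        have hc0 : c' = 0 := by
          refine (Submodule.disjoint_def.1 h2.disjoint) c' ?_ hc'
          have := sub_mem (Submodule.mem_sup_left (T := k ∙ x) hzU) (Submodule.mem_sup_right (S := W) ha)
          simpa using this
        subst hc0
        rw [add_zero] at hzU ⊢
        exact Submodule.disjoint_def.1 ((Submodule.disjoint_span_singleton' hx).2 hxW) a hzU ha
  have hdim : Module.finrank k V₁ + Module.finrank k T' = Module.finrank k V := by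
    have hrn := LinearMap.finrank_range_add_finrank_ker (K := k) (V := T) (V₂ := Module.Dual k V)
      ((LinearMap.snd k V (Module.Dual k V)).domRestrict T)
    have hker : Module.finrank k (LinearMap.ker ((LinearMap.snd k V (Module.Dual k V)).domRestrict T)) =
        Module.finrank k V₁ := by
      refine LinearEquiv.finrank_eq
        { toFun := fun z => ⟨z.1.1.1, ?_⟩
          invFun := fun v => ⟨⟨(v.1, 0), v.2⟩, rfl⟩
          map_add' := fun _ _ => rfl
          map_smul' := fun _ _ => rfl
          left_inv := fun z => ?_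
          right_inv := fun v => rfl }
      · have h0 : z.1.1.2 = 0 := z.2
        show (z.1.1.1, (0 : Module.Dual k V)) ∈ T
        have := z.1.2
        rwa [show z.1.1 = (z.1.1.1, (0 : Module.Dual k V)) from Prod.ext rfl h0] at this
      · exact Subtype.ext (Subtype.ext (Prod.ext rfl (show z.1.1.2 = 0 from z.2).symm))
    rw [LinearMap.range_domRestrict, hker, ← hT'] at hrn
    omega
  have hco : Module.finrank k T'.dualCoannihilator = Module.finrank k V₁ := by
    have := Subspace.finrank_add_finrank_dualCoannihilator_eq T'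
    omega
  obtain ⟨C, h1, h2⟩ := common (Module.finrank k T') V₁ T'.dualCoannihilator hco.symm hdim
  refine ⟨C, h1, fun A₁ hA => (Submodule.eq_bot_iff _).2 ?_⟩
  rintro ⟨v, φ⟩ ⟨hg, hT⟩
  have hφ : φ = (Submodule.projectionOnto V₁ C h1).dualMap (A₁ (Submodule.projectionOnto V₁ C h1 v)) := hg
  have hφ0 : φ = 0 := by
    refine LinearMap.ext fun w => ?_
    obtain ⟨a, ha, c, hc, rfl⟩ := Submodule.mem_sup.1
      (h2.sup_eq_top.ge (Submodule.mem_top (x := w)))
    have hA0 : φ a = 0 := (Submodule.mem_dualCoannihilator a).1 ha φ ⟨(v, φ), hT, rfl⟩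
    have hC0 : φ c = 0 := by
      rw [hφ, LinearMap.dualMap_apply, Submodule.projectionOnto_apply_right h1 ⟨c, hc⟩, map_zero]
    simp [hA0, hC0]
  have hz : A₁ (Submodule.projectionOnto V₁ C h1 v) = 0 := by
    refine LinearMap.ext fun a => ?_
    have h := congr_arg (fun ψ : Module.Dual k V => ψ (a : V)) (hφ.symm.trans hφ0)
    simpa [Submodule.projectionOnto_apply_left] using h
  have hz' : Submodule.projectionOnto V₁ C h1 v = 0 := hA (by rw [hz, map_zero])
  have hvC : v ∈ C := (Submodule.projectionOnto_apply_eq_zero_iff h1).1 hz'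
  have hvV : v ∈ V₁ := by
    show (v, (0 : Module.Dual k V)) ∈ T
    rw [← hφ0]; exact hT
  rw [Submodule.disjoint_def.1 h1.disjoint v hvV hvC, hφ0]
  rfl

end Groth.Agent.S14478
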