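import Groth.Statements.S14479
-- import your own Groth.Agent.* helpers here
import Mathlib.LinearAlgebra.Matrix.BilinearForm
import Mathlib.LinearAlgebra.BilinearForm.Properties
import Mathlib.Algebra.Order.Ring.Nat

set_option autoImplicit false
universe u
open CharCyc

namespace Groth.Agent.S14479

/-- Let V be a finite-dimensional vector space over a field k. If dim V is even or the characteristic of
k is different from 2, there is a bilinear form B on V such that the bilinear form (v, w) ↦ B(v, w)
+ B(w, v) (B plus its transpose, as a map V → V^∨) is nondegenerate. -/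
theorem result (k V : Type u) [Field k] [AddCommGroup V] [Module k V]
    [FiniteDimensional k V] (h : Even (Module.finrank k V) ∨ ringChar k ≠ 2) :
    ∃ B : LinearMap.BilinForm k V, (B + B.flip).Nondegenerate := by
  classical
  obtain ⟨n, hn⟩ : ∃ n, Module.finrank k V = n := ⟨_, rfl⟩
  obtain ⟨M, hM⟩ : ∃ M : Matrix (Fin n) (Fin n) k, (M + M.transpose).det ≠ 0 := by
    rcases h with heven | hchar
    · obtain ⟨m, hm⟩ := heven
      have e : Fin m ⊕ Fin m ≃ Fin n := finSumFinEquiv.trans (finCongr (hm.symm.trans hn))
      refine ⟨Matrix.reindex e e (Matrix.fromBlocks 0 (1 : Matrix (Fin m) (Fin m) k) 0 0), ?_⟩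
      rw [Matrix.transpose_reindex, ← Matrix.reindexLinearEquiv_apply (R := k) (A := k),
        ← Matrix.reindexLinearEquiv_apply (R := k) (A := k), ← map_add, Matrix.reindexLinearEquiv_apply,
        Matrix.det_reindex_self, Matrix.fromBlocks_transpose, Matrix.fromBlocks_add]
      simp only [Matrix.transpose_zero, Matrix.transpose_one, add_zero, zero_add]
      intro h0
      have h2 : Matrix.fromBlocks (0 : Matrix (Fin m) (Fin m) k) (1 : Matrix (Fin m) (Fin m) k) (1 : Matrix (Fin m) (Fin m) k) 0 * Matrix.fromBlocks (0 : Matrix (Fin m) (Fin m) k) (1 : Matrix (Fin m) (Fin m) k) (1 : Matrix (Fin m) (Fin m) k) (0 : Matrix (Fin m) (Fin m) k) = 1 := by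
        simp [Matrix.fromBlocks_multiply, Matrix.fromBlocks_one]
      have := congrArg Matrix.det h2
      rw [Matrix.det_mul, h0, zero_mul, Matrix.det_one] at this
      exact zero_ne_one this
    · refine ⟨1, ?_⟩
      rw [Matrix.transpose_one, ← two_smul k (1 : Matrix (Fin n) (Fin n) k), Matrix.det_smul, Matrix.det_one, mul_one]
      exact pow_ne_zero _ (Ring.two_ne_zero hchar)
  let b := Module.finBasisOfFinrankEq k V hn
  refine ⟨Matrix.toBilin b M, ?_⟩
  have he : Matrix.toBilin b M + (Matrix.toBilin b M).flip = Matrix.toBilin b (M + M.transpose) := by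
    apply LinearMap.ext_basis b b
    intro i j
    simp [Matrix.toBilin_apply, Finsupp.single_apply]
  rw [he]
  exact LinearMap.BilinForm.nondegenerate_of_det_ne_zero _ b (by simpa using hM)

end Groth.Agent.S14479
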