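import Groth.Statements.S14481
-- import your own Groth.Agent.* helpers here
import Groth.Agent.Lib.DimCut.Basic
import Mathlib.AlgebraicGeometry.PullbackCarrier

set_option autoImplicit false
universe u
open CategoryTheory AlgebraicGeometry
open CharCyc

namespace Groth.Agent.S14481

/-- First equivalence: let k be a field, let π : C → X be a morphism between k-schemes of finite type
such that every irreducible component of C has dimension n, and let ι : W → X be a regular immersion
of codimension c. The following are equivalent: (a) ι meets C properly, that is, whenever P is an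
irreducible component of C and Q is an irreducible component of P ×_X W (the subspace P ∩ π⁻¹(ι(W))
of C), one has dim Q = dim P − c; (b) dim C ×_X W ≤ n − c (the subspace π⁻¹(ι(W)) of C). Dimensions
are written additively: dim Q + c = n and dim π⁻¹(ι(W)) + c ≤ n, the empty space having dimension ⊥.
(Stated for each of the four kinds of regular immersion of codimension c — regular, Koszul-regular,
H₁-regular, quasi-regular; the published statement does not distinguish kinds.) -/
theorem result (k : Type u) [Field k] (C X W : Scheme.{u})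
    (q : X ⟶ Spec (CommRingCat.of k)) (π : C ⟶ X) (ι : W ⟶ X)
    [LocallyOfFiniteType q] [CompactSpace X] [LocallyOfFiniteType π] [CompactSpace C]
    (κ : RegImm.Kind) (n c : ℕ) (hι : RegImm.IsRegularImmersionOfCodim κ c ι)
    (hC : ∀ P ∈ irreducibleComponents (C : Type u), topologicalKrullDim P = n) :
    (∀ P ∈ irreducibleComponents (C : Type u), ∀ Q ∈ irreducibleComponents (P ∩ π ⁻¹' Set.range ι : Set C),
        topologicalKrullDim Q + (c : WithBot ℕ∞) = n) ↔
      topologicalKrullDim (π ⁻¹' Set.range ι : Set C) + (c : WithBot ℕ∞) ≤ n := by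
  classical
  haveI : IsImmersion ι := hι.1
  let g := π ≫ q
  let j := Limits.pullback.fst π ι
  haveI : IsImmersion j := inferInstance
  have hj : Set.range j = π ⁻¹' Set.range ι := Scheme.Pullback.range_fst π ι
  rw [← hj]
  have key : ∀ P ∈ irreducibleComponents (C : Type u), ∀ Q ∈ irreducibleComponents ↥(P ∩ Set.range j),
      ∃ t : ↥(Limits.pullback π ι), topologicalKrullDim Q = GrothLib.AffDom.ptDim (j t) ∧
        (n : WithBot ℕ∞) ≤ GrothLib.AffDom.ptDim (j t) + (c : WithBot ℕ∞) := by
    intro P hP Q hQ
    have hPc := isClosed_of_mem_irreducibleComponents P hP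
    obtain ⟨t, htP, hmin, hdim⟩ := GrothLib.DimCut.exists_generic_component g j hPc hQ
    obtain ⟨η, hη, hηdim⟩ := GrothLib.DimCut.dim_eq_ptDim hPc hP.1
    refine ⟨t, hdim, ?_⟩
    have hz : π (j t) ∈ Set.range ι := by
      have : j t ∈ Set.range j := ⟨t, rfl⟩
      rwa [hj] at this
    have h := GrothLib.DimCut.ptDim_le_add_codim g π hι hz (hη.specializes htP) (fun w hw hηw hwt => by
      obtain ⟨t', rfl⟩ : w ∈ Set.range j := hj ▸ hw
      rw [hmin t' (by rw [← hη.def]; exact specializes_iff_mem_closure.1 hηw) (j.isEmbedding.isInducing.specializes_iff.1 hwt)])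
    rwa [← hηdim, hC P hP] at h
  constructor
  · intro h
    have hsup : topologicalKrullDim ↥(Set.range j) = ⨆ t : ↥(Limits.pullback π ι), GrothLib.AffDom.ptDim t := by
      rw [← GrothLib.AffDom.topologicalKrullDim_eq_iSup_ptDim]
      exact (GrothLib.Dim.IsEmbedding.topologicalKrullDim_eq j.isEmbedding rfl).symm
    rw [hsup, add_comm]
    refine GrothLib.AffDom.add_iSup_le c fun t => ?_
    obtain ⟨P, hP, htP⟩ : ∃ P ∈ irreducibleComponents (C : Type u), j t ∈ P :=
      ⟨irreducibleComponent (j t), irreducibleComponent_mem_irreducibleComponents _, mem_irreducibleComponent⟩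
    let x : ↥(P ∩ Set.range j) := ⟨j t, htP, t, rfl⟩
    have hQ := irreducibleComponent_mem_irreducibleComponents x
    rw [add_comm, ← h P hP _ hQ]
    gcongr
    have hmem : ∀ w : (closure {t} : Set ↥(Limits.pullback π ι)), j w.1 ∈ P ∩ Set.range j := fun w =>
      ⟨(((specializes_iff_mem_closure.2 w.2).map j.continuous).mem_closed
        (isClosed_of_mem_irreducibleComponents P hP) htP), w.1, rfl⟩
    have hmem' : ∀ w : (closure {t} : Set ↥(Limits.pullback π ι)),
        (⟨j w.1, hmem w⟩ : ↥(P ∩ Set.range j)) ∈ irreducibleComponent x := fun w =>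
      ((subtype_specializes_iff x _).2 ((specializes_iff_mem_closure.2 w.2).map j.continuous)).mem_closed
        isClosed_irreducibleComponent mem_irreducibleComponent
    exact (((j.isEmbedding.comp Topology.IsEmbedding.subtypeVal).codRestrict _ hmem).codRestrict _ hmem').isInducing.topologicalKrullDim_le
  · intro h P hP Q hQ
    obtain ⟨t, hdim, hle⟩ := key P hP Q hQ
    rw [hdim]
    refine le_antisymm (le_trans ?_ h) hle
    gcongr
    calc GrothLib.AffDom.ptDim (j t) = GrothLib.AffDom.ptDim t := (GrothLib.DimCut.ptDim_immersion g j t).symm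
      _ ≤ topologicalKrullDim ↥(Limits.pullback π ι) := GrothLib.AffDom.ptDim_le t
      _ = topologicalKrullDim ↥(Set.range j) := GrothLib.Dim.IsEmbedding.topologicalKrullDim_eq j.isEmbedding rfl

end Groth.Agent.S14481
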