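import Groth.Statements.S14482
-- import your own Groth.Agent.* helpers here
import Groth.Agent.Lib.DimCut.FibreDimGE
import Mathlib.AlgebraicGeometry.PullbackCarrier

set_option autoImplicit false
universe u
open CategoryTheory AlgebraicGeometry
open CharCyc

namespace Groth.Agent.S14482

/-- Second assertion: let k be a field, let π : C → X be a morphism between k-schemes of finite type
such that every irreducible component of C has dimension n, let ι : W → X be a regular immersion of
codimension c, and for j ≥ 0 let B_j ⊆ X be the set of points whose fibre under π has dimension at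
least j. Assume that every B_j is closed in X. Then dim B_j + j ≤ n for every j, and the condition
dim π⁻¹(ι(W)) + c ≤ n (that is, dim C ×_X W ≤ n − c) holds if and only if dim ι⁻¹(B_j) + c + j ≤ n
for every j (that is, ι meets the sequence (B_j) n-semi-properly). Dimensions are topological Krull
dimensions of subspaces, the empty space having dimension ⊥. (Stated for each of the four kinds of
regular immersion of codimension c — regular, Koszul-regular, H₁-regular, quasi-regular; the
published statement does not distinguish kinds.) -/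
theorem result (k : Type u) [Field k] (C X W : Scheme.{u})
    (q : X ⟶ Spec (CommRingCat.of k)) (π : C ⟶ X) (ι : W ⟶ X)
    [LocallyOfFiniteType q] [CompactSpace X] [LocallyOfFiniteType π] [CompactSpace C]
    (κ : RegImm.Kind) (n c : ℕ) (hι : RegImm.IsRegularImmersionOfCodim κ c ι)
    (hC : ∀ P ∈ irreducibleComponents (C : Type u), topologicalKrullDim P = n)
    (hB : ∀ j : ℕ, IsClosed {x : X | (j : WithBot ℕ∞) ≤ topologicalKrullDim (π.fiber x)}) :
    (∀ j : ℕ, topologicalKrullDim {x : X | (j : WithBot ℕ∞) ≤ topologicalKrullDim (π.fiber x)} + (j : WithBot ℕ∞) ≤ n) ∧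
      (topologicalKrullDim (π ⁻¹' Set.range ι : Set C) + (c : WithBot ℕ∞) ≤ n ↔
        ∀ j : ℕ, topologicalKrullDim (ι ⁻¹' {x : X | (j : WithBot ℕ∞) ≤ topologicalKrullDim (π.fiber x)} : Set W) + (c : WithBot ℕ∞) + (j : WithBot ℕ∞) ≤ n) := by
  haveI : IsImmersion ι := hι.1
  refine ⟨fun j => GrothLib.DimCut.dim_closed_le (hB j) j fun x hx =>
    GrothLib.DimCut.ptDim_add_le_of_mem q π hx fun c _ => ?_, ?_⟩
  · obtain ⟨η, hη, hηd⟩ := GrothLib.DimCut.dim_eq_ptDim
      (isClosed_irreducibleComponent (x := c)) isIrreducible_irreducibleComponent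
    rw [← hC _ (irreducibleComponent_mem_irreducibleComponents c), hηd]
    exact GrothLib.AffDom.ptDim_mono (hη.specializes mem_irreducibleComponent)
  let j₀ := Limits.pullback.fst π ι
  have hj : Set.range j₀ = π ⁻¹' Set.range ι := Scheme.Pullback.range_fst π ι
  have hsup : topologicalKrullDim ↥(π ⁻¹' Set.range ι) = ⨆ t : ↥(Limits.pullback π ι), GrothLib.AffDom.ptDim t := by
    rw [← GrothLib.AffDom.topologicalKrullDim_eq_iSup_ptDim, ← hj]
    exact (GrothLib.Dim.IsEmbedding.topologicalKrullDim_eq j₀.isEmbedding rfl).symm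
  rw [hsup]
  constructor
  · intro h m
    rw [add_assoc, show (c : WithBot ℕ∞) + (m : WithBot ℕ∞) = ((c + m : ℕ) : WithBot ℕ∞) from (Nat.cast_add _ _).symm]
    refine GrothLib.DimCut.dim_closed_le ((hB m).preimage ι.continuous) (c + m) fun w hw => ?_
    rw [GrothLib.DimCut.ptDim_immersion q ι w, Nat.cast_add, add_comm (c : WithBot ℕ∞) m, ← add_assoc]
    refine le_trans (add_le_add (GrothLib.DimCut.ptDim_add_le_of_mem q π hw fun x hx => ?_) le_rfl) h
    obtain ⟨t, rfl⟩ : x ∈ Set.range j₀ := by rw [hj]; exact ⟨w, hx.symm⟩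
    rw [← GrothLib.DimCut.ptDim_immersion (π ≫ q) j₀ t]
    exact le_iSup (fun t : ↥(Limits.pullback π ι) => GrothLib.AffDom.ptDim t) t
  · intro h
    rw [add_comm]
    refine GrothLib.AffDom.add_iSup_le c fun t => ?_
    rw [GrothLib.DimCut.ptDim_immersion (π ≫ q) j₀ t]
    obtain ⟨d, hd, hc⟩ := GrothLib.DimCut.exists_ptDim_eq q π (j₀ t)
    obtain ⟨w, hw⟩ : π (j₀ t) ∈ Set.range ι := by
      have : j₀ t ∈ Set.range j₀ := ⟨t, rfl⟩
      rwa [hj] at this
    rw [hc, ← hw, ← GrothLib.DimCut.ptDim_immersion q ι w, add_comm, add_assoc, add_comm (d : WithBot ℕ∞), ← add_assoc]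
    exact le_trans (add_le_add (add_le_add (GrothLib.DimCut.ptDim_le_dim_closed ((hB d).preimage ι.continuous)
      (show w ∈ ι ⁻¹' GrothLib.DimCut.fibreDimGE π d from (by show ι w ∈ GrothLib.DimCut.fibreDimGE π d; rw [hw]; exact hd))) le_rfl) le_rfl) (h d)

end Groth.Agent.S14482
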