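import Groth.Statements.S14483
-- import your own Groth.Agent.* helpers here
import Groth.Agent.Lib.WellInter17.Basic

set_option autoImplicit false
universe u
open CategoryTheory CategoryTheory.Limits AlgebraicGeometry
open CharCyc

namespace Groth.Agent.S14483

/-- Let k be a field and let f : X → S be a morphism between separated k-schemes of finite type. Two
closed subsets Y, Z of X are said to well intersect with respect to f when dim(Y ×_S Z ∖ Y ×_X Z) ≤
dim Y + dim Z − dim S; here Y ×_S Z ∖ Y ×_X Z is taken as the subspace of X ×_S X of points whose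
two projections lie in Y and in Z and which are not in the image of the diagonal, and the inequality
is written additively as dim(Y ×_S Z ∖ Y ×_X Z) + dim S ≤ dim Y + dim Z (topological Krull
dimensions, the empty space having dimension ⊥). Let Y ⊆ X be closed and irreducible with dim Y <
dim S, and suppose that the pair Y, Y well intersects with respect to f. Then Y → S is generically
radicial onto its image: there is an open subset V of X meeting Y such that f is injective on V ∩ Y
and, at every point of V ∩ Y, the residue field extension induced by f is purely inseparable. -/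
theorem result (k : Type u) [Field k] (X S : Scheme.{u})
    (q : S ⟶ Spec (CommRingCat.of k)) (f : X ⟶ S)
    [LocallyOfFiniteType q] [CompactSpace S] [IsSeparated q] [LocallyOfFiniteType f] [CompactSpace X] [IsSeparated f]
    (Y : Set X) (hYc : IsClosed Y) (hYi : IsIrreducible Y)
    (hWI : topologicalKrullDim {p : ↥(pullback f f) | pullback.fst f f p ∈ Y ∧ pullback.snd f f p ∈ Y ∧ p ∉ Set.range (pullback.diagonal f)} + topologicalKrullDim S ≤ topologicalKrullDim Y + topologicalKrullDim Y)
    (hYS : topologicalKrullDim Y < topologicalKrullDim S) :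
    ∃ V : Set X, IsOpen V ∧ (V ∩ Y).Nonempty ∧ Set.InjOn f.base (V ∩ Y) ∧
      ∀ x ∈ V ∩ Y, (f.residueFieldMap x).hom.IsPurelyInseparable := by
  open GrothLib.AffDom GrothLib.WellInter17 in
  obtain ⟨η, hη, hηd⟩ := GrothLib.DimCut.dim_eq_ptDim hYc hYi
  obtain ⟨a, ha, -⟩ := GrothLib.Dim.exists_nat_dim_irreducible (f ≫ q) hYc hYi
  haveI : IsNoetherianRing (CommRingCat.of k : Type u) := inferInstanceAs (IsNoetherianRing k)
  haveI : IsLocallyNoetherian X := LocallyOfFiniteType.isLocallyNoetherian (f ≫ q)
  haveI : QuasiCompact f := by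
    haveI : QuasiCompact (f ≫ q) := (quasiCompact_iff_compactSpace (f ≫ q)).2 inferInstance
    exact QuasiCompact.of_comp f q
  haveI : CompactSpace ↥(pullback f f) := QuasiCompact.compactSpace_of_compactSpace (pullback.fst f f)
  haveI : IsLocallyNoetherian (pullback f f) := LocallyOfFiniteType.isLocallyNoetherian (pullback.fst f f)
  haveI : AlgebraicGeometry.IsNoetherian (pullback f f) := {}
  let W : Set ↥(pullback f f) := offDiag f Y Y
  let O : (pullback f f).Opens :=
    ⟨(Set.range (pullback.diagonal f))ᶜ, (pullback.diagonal f).isClosedEmbedding.isClosed_range.isOpen_compl⟩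
  haveI : CompactSpace (O : Scheme.{u}) := isCompact_iff_compactSpace.1 (TopologicalSpace.NoetherianSpace.isCompact _)
  haveI : QuasiSeparatedSpace X := inferInstance
  haveI : QuasiCompact (O.ι ≫ pullback.fst f f) := inferInstance
  let T : Set ↥(O : Scheme.{u}) := O.ι ⁻¹' (pullback.fst f f ⁻¹' Y ∩ pullback.snd f f ⁻¹' Y)
  have hT : IsClosed T := ((hYc.preimage (pullback.fst f f).continuous).inter
    (hYc.preimage (pullback.snd f f).continuous)).preimage O.ι.continuous
  have hWT : pullback.fst f f '' W ⊆ (O.ι ≫ pullback.fst f f) '' T := by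
    rintro _ ⟨p, ⟨h1, h2, h3⟩, rfl⟩
    exact ⟨⟨p, h3⟩, ⟨h1, h2⟩, rfl⟩
  have hηV : η ∉ closure (pullback.fst f f '' W) := by
    intro h
    obtain ⟨t, ⟨ht1, ht2⟩, hts⟩ := GrothLib.GrpdQuot.exists_specializes_of_mem_closure (O.ι ≫ pullback.fst f f) T hT η
      (closure_mono hWT h)
    rw [Scheme.Hom.comp_apply] at hts
    have he : pullback.fst f f (O.ι t) = η := (hts.antisymm (hη.specializes ht1)).eq
    have hle := ptDim_le_dim_offDiag q f hYc hYc (p := O.ι t) ⟨ht1, ht2, t.2⟩
    rw [he, ← hηd] at hle
    have hS : topologicalKrullDim Y + topologicalKrullDim S ≤ topologicalKrullDim Y + topologicalKrullDim Y :=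
      (add_le_add hle le_rfl).trans hWI
    rw [ha] at hS
    exact absurd ((cancel_nat hS).trans ha.ge) (not_le.2 hYS)
  refine ⟨(closure (pullback.fst f f '' W))ᶜ, isClosed_closure.isOpen_compl, ⟨η, hηV, hη.mem⟩, ?_, ?_⟩
  · intro x hx y hy hxy
    obtain ⟨p, hp1, hp2⟩ := Scheme.Pullback.exists_preimage_pullback x y hxy
    by_contra hne
    refine hx.1 (subset_closure ⟨p, ⟨hp1.symm ▸ hx.2, hp2.symm ▸ hy.2, fun ⟨z, hz⟩ => hne ?_⟩, hp1⟩)
    rw [← hp1, ← hp2, ← hz, ← Scheme.Hom.comp_apply, ← Scheme.Hom.comp_apply, pullback.diagonal_fst, pullback.diagonal_snd]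
  · intro x hx
    refine GrothLib.WellInter17.isPurelyInseparable_of_forall_diag f x fun p hp1 hp2 => by_contra fun h => ?_
    exact hx.1 (subset_closure ⟨p, ⟨hp1.symm ▸ hx.2, hp2.symm ▸ hx.2, h⟩, hp1⟩)


end Groth.Agent.S14483
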