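import Groth.Statements.S14484
-- import your own Groth.Agent.* helpers here
import Groth.Agent.Lib.WellInter17.Basic

set_option autoImplicit false
universe u
open CategoryTheory CategoryTheory.Limits AlgebraicGeometry
open CharCyc

namespace Groth.Agent.S14484

/-- Let k be a field and let f : X → S be a morphism between separated k-schemes of finite type. Two
closed subsets Y, Z of X are said to well intersect with respect to f when dim(Y ×_S Z ∖ Y ×_X Z) ≤
dim Y + dim Z − dim S; here Y ×_S Z ∖ Y ×_X Z is taken as the subspace of X ×_S X of points whose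
two projections lie in Y and in Z and which are not in the image of the diagonal, and the inequality
is written additively as dim(Y ×_S Z ∖ Y ×_X Z) + dim S ≤ dim Y + dim Z (topological Krull
dimensions, the empty space having dimension ⊥). Let Y, Z ⊆ X be closed irreducible subsets that
well intersect with respect to f, with dim Y < dim S and dim Z < dim S, and assume Y ⊄ Z. Then f(Y)
is not contained in the closure of f(Y) ∩ f(Z); in particular f(Y) ⊄ f(Z). -/
theorem result (k : Type u) [Field k] (X S : Scheme.{u})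
    (q : S ⟶ Spec (CommRingCat.of k)) (f : X ⟶ S)
    [LocallyOfFiniteType q] [CompactSpace S] [IsSeparated q] [LocallyOfFiniteType f] [CompactSpace X] [IsSeparated f]
    (Y Z : Set X) (hYc : IsClosed Y) (hYi : IsIrreducible Y) (hZc : IsClosed Z) (hZi : IsIrreducible Z)
    (hWI : topologicalKrullDim {p : ↥(pullback f f) | pullback.fst f f p ∈ Y ∧ pullback.snd f f p ∈ Z ∧ p ∉ Set.range (pullback.diagonal f)} + topologicalKrullDim S ≤ topologicalKrullDim Y + topologicalKrullDim Z)
    (hYS : topologicalKrullDim Y < topologicalKrullDim S) (hZS : topologicalKrullDim Z < topologicalKrullDim S)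
    (hYZ : ¬ Y ⊆ Z) :
    ¬ (f.base '' Y ⊆ closure (f.base '' Y ∩ f.base '' Z)) ∧ ¬ (f.base '' Y ⊆ f.base '' Z) := by
  open GrothLib.AffDom GrothLib.WellInter17 in
  suffices h1 : ¬ (f.base '' Y ⊆ closure (f.base '' Y ∩ f.base '' Z)) from
    ⟨h1, fun h => h1 fun s hs => subset_closure ⟨hs, h hs⟩⟩
  intro hsub
  obtain ⟨η, hη, hηd⟩ := GrothLib.DimCut.dim_eq_ptDim hYc hYi
  obtain ⟨a, ha, -⟩ := GrothLib.Dim.exists_nat_dim_irreducible (f ≫ q) hYc hYi
  obtain ⟨b, hb, -⟩ := GrothLib.Dim.exists_nat_dim_irreducible (f ≫ q) hZc hZi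
  let T : Set ↥(pullback f f) := pullback.fst f f ⁻¹' Y ∩ pullback.snd f f ⁻¹' Z
  have hT : IsClosed T := (hYc.preimage (pullback.fst f f).continuous).inter (hZc.preimage (pullback.snd f f).continuous)
  have himg : f.base '' Y ∩ f.base '' Z ⊆ (pullback.fst f f ≫ f) '' T := by
    rintro s ⟨⟨y, hy, rfl⟩, z, hz, hzy⟩
    obtain ⟨p, hp1, hp2⟩ := Scheme.Pullback.exists_preimage_pullback y z hzy.symm
    refine ⟨p, ⟨by simpa [T, hp1] using hy, by simpa [T, hp2] using hz⟩, ?_⟩
    rw [Scheme.Hom.comp_apply, hp1]
  haveI : QuasiCompact f := by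
    haveI : QuasiSeparated q := inferInstance
    haveI : QuasiCompact (f ≫ q) := (quasiCompact_iff_compactSpace (f ≫ q)).2 inferInstance
    exact QuasiCompact.of_comp f q
  obtain ⟨t, ⟨hty, htz⟩, hts⟩ := GrothLib.GrpdQuot.exists_specializes_of_mem_closure (pullback.fst f f ≫ f) T hT (f η)
    (closure_mono himg (hsub ⟨η, hη.mem, rfl⟩))
  rw [Scheme.Hom.comp_apply] at hts
  have heq : f η = f (pullback.snd f f t) := by
    have h2 : f η ⤳ f (pullback.fst f f t) := (hη.specializes hty).map f.continuous
    rw [← Scheme.Hom.comp_apply, ← pullback.condition, Scheme.Hom.comp_apply]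
    exact (h2.antisymm hts).eq
  obtain ⟨p, hp1, hp2⟩ := Scheme.Pullback.exists_preimage_pullback η (pullback.snd f f t) heq
  have hp : p ∈ offDiag f Y Z := by
    refine ⟨hp1.symm ▸ hη.mem, hp2.symm ▸ htz, fun ⟨x, hx⟩ => hYZ ?_⟩
    have e1 : x = η := by
      have := congrArg (pullback.fst f f) hx
      rw [← Scheme.Hom.comp_apply, pullback.diagonal_fst, hp1] at this
      exact this
    have e2 : x = pullback.snd f f t := by
      have := congrArg (pullback.snd f f) hx
      rw [← Scheme.Hom.comp_apply, pullback.diagonal_snd, hp2] at this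
      exact this
    intro y hy
    exact (hη.specializes hy).mem_closed hZc (show η ∈ Z by rw [← e1, e2]; exact htz)
  have hle := ptDim_le_dim_offDiag q f hYc hZc hp
  rw [hp1, ← hηd] at hle
  have hS : topologicalKrullDim Y + topologicalKrullDim S ≤ topologicalKrullDim Y + topologicalKrullDim Z :=
    (add_le_add hle le_rfl).trans hWI
  rw [ha, hb] at hS
  exact absurd ((cancel_nat hS).trans hb.ge) (not_le.2 hZS)


end Groth.Agent.S14484
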