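import Groth.Statements.S14485
-- import your own Groth.Agent.* helpers here
import Groth.Agent.Lib.WellInter17.Preimage
import Groth.Agent.Lib.FibClos.Diagonal

set_option autoImplicit false
universe u
open CategoryTheory CategoryTheory.Limits AlgebraicGeometry
open CharCyc

namespace Groth.Agent.S14485

/-- Let k be a field and let f : X → S be a morphism between separated k-schemes of finite type. Two
closed subsets Y, Z of X are said to well intersect with respect to f when dim(Y ×_S Z ∖ Y ×_X Z) ≤
dim Y + dim Z − dim S; here Y ×_S Z ∖ Y ×_X Z is taken as the subspace of X ×_S X of points whose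
two projections lie in Y and in Z and which are not in the image of the diagonal, and the inequality
is written additively as dim(Y ×_S Z ∖ Y ×_X Z) + dim S ≤ dim Y + dim Z (topological Krull
dimensions, the empty space having dimension ⊥). Let Y, Z ⊆ X be closed subsets, and let g : S' → S
be faithfully flat with every fibre of dimension d (relative constant dimension d), where S' is
again a separated k-scheme of finite type. Write f' : X' = X ×_S S' → S' for the base change and Y',
Z' ⊆ X' for the preimages of Y, Z. Then well-intersection of Y, Z with respect to f is equivalent to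
well-intersection of Y', Z' with respect to f'. -/
theorem result (k : Type u) [Field k] (X S S' : Scheme.{u})
    (q : S ⟶ Spec (CommRingCat.of k)) (f : X ⟶ S) (g : S' ⟶ S)
    [LocallyOfFiniteType q] [CompactSpace S] [IsSeparated q] [LocallyOfFiniteType f] [CompactSpace X] [IsSeparated f]
    [LocallyOfFiniteType g] [CompactSpace S'] [IsSeparated g] [Flat g] [Surjective g]
    (d : ℕ) (hd : ∀ s : S, topologicalKrullDim (g.fiber s) = d)
    (Y Z : Set X) (hYc : IsClosed Y) (hZc : IsClosed Z) :
    (topologicalKrullDim {p : ↥(pullback f f) | pullback.fst f f p ∈ Y ∧ pullback.snd f f p ∈ Z ∧ p ∉ Set.range (pullback.diagonal f)} + topologicalKrullDim S ≤ topologicalKrullDim Y + topologicalKrullDim Z) ↔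
      (topologicalKrullDim {p : ↥(pullback (pullback.snd f g) (pullback.snd f g)) | pullback.fst (pullback.snd f g) (pullback.snd f g) p ∈ ((pullback.fst f g) ⁻¹' Y) ∧ pullback.snd (pullback.snd f g) (pullback.snd f g) p ∈ ((pullback.fst f g) ⁻¹' Z) ∧ p ∉ Set.range (pullback.diagonal (pullback.snd f g))} + topologicalKrullDim S' ≤ topologicalKrullDim ((pullback.fst f g) ⁻¹' Y) + topologicalKrullDim ((pullback.fst f g) ⁻¹' Z)) := by
  open GrothLib.WellInter17 GrothLib.FibClos Limits in
  have h : IsPullback (pullback.fst f g) (pullback.snd f g) f g := IsPullback.of_hasPullback f g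
  haveI : IsSeparated (pullback.snd f g) := inferInstance
  haveI : LocallyOfFiniteType (pullback.fst f g) := inferInstance
  have hsq := isPullback_sqMap h
  haveI : LocallyOfFiniteType (sqMap h) := MorphismProperty.of_isPullback hsq.flip ‹LocallyOfFiniteType g›
  have hsqd : ∀ p, topologicalKrullDim ((sqMap h).fiber p) = (d : WithBot ℕ∞) := fun p =>
    (GrothLib.FibreBC.topologicalKrullDim_fiber hsq.flip p).trans (hd _)
  have hfd : ∀ x, topologicalKrullDim ((pullback.fst f g).fiber x) = (d : WithBot ℕ∞) := fun x =>
    (GrothLib.FibreBC.topologicalKrullDim_fiber h.flip x).trans (hd _)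
  have eA : ∀ A : Set X, IsClosed A → topologicalKrullDim (pullback.fst f g ⁻¹' A : Set ↥(pullback f g)) =
      topologicalKrullDim A + (d : WithBot ℕ∞) := fun A hA => by
    have := dim_preimage_inter_open (pullback.fst f g) (f ≫ q) d hfd hA ⊤
    rwa [TopologicalSpace.Opens.coe_top, Set.inter_univ] at this
  have eS : topologicalKrullDim S' = topologicalKrullDim S + (d : WithBot ℕ∞) := by
    have := dim_preimage_inter_open g q d hd isClosed_univ ⊤
    rw [TopologicalSpace.Opens.coe_top, Set.inter_univ, Set.preimage_univ] at this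
    rwa [IsHomeomorph.topologicalKrullDim_eq _ (Homeomorph.Set.univ S').isHomeomorph,
      IsHomeomorph.topologicalKrullDim_eq _ (Homeomorph.Set.univ S).isHomeomorph] at this
  let O : (pullback f f).Opens :=
    ⟨(Set.range (pullback.diagonal f))ᶜ, (pullback.diagonal f).isClosedEmbedding.isClosed_range.isOpen_compl⟩
  let T : Set ↥(pullback f f) := pullback.fst f f ⁻¹' Y ∩ pullback.snd f f ⁻¹' Z
  have hT : IsClosed T := (hYc.preimage (pullback.fst f f).continuous).inter (hZc.preimage (pullback.snd f f).continuous)
  have hW : {p : ↥(pullback f f) | pullback.fst f f p ∈ Y ∧ pullback.snd f f p ∈ Z ∧ p ∉ Set.range (pullback.diagonal f)} =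
      T ∩ (O : Set ↥(pullback f f)) :=
    Set.ext fun p => ⟨fun hp => ⟨⟨hp.1, hp.2.1⟩, hp.2.2⟩, fun hp => ⟨hp.1.1, hp.1.2, hp.2⟩⟩
  have hW' : {p : ↥(pullback (pullback.snd f g) (pullback.snd f g)) |
      pullback.fst (pullback.snd f g) (pullback.snd f g) p ∈ ((pullback.fst f g) ⁻¹' Y) ∧
      pullback.snd (pullback.snd f g) (pullback.snd f g) p ∈ ((pullback.fst f g) ⁻¹' Z) ∧
      p ∉ Set.range (pullback.diagonal (pullback.snd f g))} = sqMap h ⁻¹' (T ∩ (O : Set ↥(pullback f f))) := by
    ext p
    have e1 : pullback.fst f f (sqMap h p) = pullback.fst f g (pullback.fst (pullback.snd f g) (pullback.snd f g) p) := by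
      rw [← Scheme.Hom.comp_apply, ← Scheme.Hom.comp_apply]
      rw [show sqMap h ≫ pullback.fst f f = pullback.fst (pullback.snd f g) (pullback.snd f g) ≫ pullback.fst f g from
        pullback.lift_fst _ _ _]
    have e2 : pullback.snd f f (sqMap h p) = pullback.fst f g (pullback.snd (pullback.snd f g) (pullback.snd f g) p) := by
      rw [← Scheme.Hom.comp_apply, ← Scheme.Hom.comp_apply]
      rw [show sqMap h ≫ pullback.snd f f = pullback.snd (pullback.snd f g) (pullback.snd f g) ≫ pullback.fst f g from
        pullback.lift_snd _ _ _]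
    rw [range_diagonal_eq h, ← hW]
    simp only [Set.mem_setOf_eq, Set.mem_preimage, e1, e2]
  rw [hW, hW', dim_preimage_inter_open (sqMap h) (pullback.fst f f ≫ f ≫ q) d hsqd hT O, eA Y hYc, eA Z hZc, eS,
    add_add_add_comm, add_add_add_comm (topologicalKrullDim Y), ← Nat.cast_add, add_natCast_le_iff]


end Groth.Agent.S14485
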