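import Groth.Statements.S14488
import Groth.Agent.Lib.Sect28.P1Fam

set_option autoImplicit false
universe u
open CategoryTheory CategoryTheory.Limits AlgebraicGeometry
open ProjBd

namespace Groth.Agent.S14488

/-- Let f : C → B be a proper smooth morphism of schemes of relative dimension one all of whose
geometric fibres are projective lines (for every algebraically closed field Ω and every Spec Ω → B,
the fibre C ×_B Spec Ω is isomorphic to P^1_Ω over Ω). If f admits a section s, then C is a
projective bundle P(E) over B for some locally free O_B-module E of rank 2: there exist such an E,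
an invertible O_C-module O(1) and a surjection q : f^*E → O(1) such that (f : C → B, O(1), q) has
the universal property of the projective bundle of E. -/
theorem result {C B : Scheme.{u}} (f : C ⟶ B) [IsProper f]
    [SmoothOfRelativeDimension 1 f]
    (hfib : ∀ (Ω : Type u) [Field Ω] [IsAlgClosed Ω] (b : Spec (CommRingCat.of Ω) ⟶ B),
      ∃ e : pullback f b ≅ CohB1.ProjSpace 1 Ω, e.hom ≫ CohB1.ProjSpace.toSpec 1 Ω = pullback.snd f b)
    (s : B ⟶ C) (hs : s ≫ f = 𝟙 B) :
    ∃ E : B.Modules, FlatMod.IsFinLocFreeOfRank 2 E ∧
      ∃ (O1 : C.Modules) (q : (Scheme.Modules.pullback f).obj E ⟶ O1), KRR.IsProjBundle f E O1 q := by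
  obtain ⟨E, L, q, -, -, hE, hP, -⟩ := GrothLib.Sect28.exists_bundle_of_section f hfib s hs
  exact ⟨E, hE, L, q, hP⟩

end Groth.Agent.S14488
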