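import Groth.Statements.S1449
import Groth.Agent.Lib.Weight.FibreRank
-- import your own Groth.Agent.* helpers here

set_option autoImplicit false
universe u
open FlatMor

namespace Groth.Agent.S1449

open AlgebraicGeometry CategoryTheory Limits in
/-- Consider a separated, flat, locally quasi-finite morphism f : X → S which is locally of finite
presentation. Then there are opens S = U_0 ⊇ U_1 ⊇ U_2 ⊇ ... of S with the property that a morphism
from the spectrum of a field to S lands in U_d exactly when the base change of X to that field has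
rank (of its ring of global functions over the field) at least d. -/
theorem result {X S : Scheme.{u}} (f : X ⟶ S) [Flat f] [LocallyOfFinitePresentation f] [IsSeparated f] [LocallyQuasiFinite f] :
    ∃ U : ℕ → S.Opens, Antitone U ∧ U 0 = ⊤ ∧ ∀ (K : Type u) [Field K] (g : Spec (CommRingCat.of K) ⟶ S) (d : ℕ),
      Set.range ⇑g ⊆ (U d : Set ↑S) ↔ (d : Cardinal.{u}) ≤ (letI := ((Scheme.ΓSpecIso (CommRingCat.of K)).inv ≫ (pullback.snd f g).appTop).hom.toAlgebra
        Module.rank K (Γ(pullback f g, ⊤) : Type u)) := by
    refine ⟨fun d ↦ ⟨_, GrothLib.Weight.isOpen_le_gRank (f := f) d⟩, ?_, ?_, fun K _ g d ↦ ?_⟩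
    · intro a b hab s hs
      exact le_trans (Nat.cast_le.mpr hab) (show (b : Cardinal.{u}) ≤ _ from hs)
    · exact TopologicalSpace.Opens.ext (Set.eq_univ_of_forall fun s ↦ by simp)
    · refine ⟨fun h ↦ (GrothLib.Weight.le_gRank_iff (IsPullback.of_hasPullback f g) _ rfl d).mpr
        (h ⟨_, rfl⟩), fun h ↦ ?_⟩
      rintro _ ⟨p, rfl⟩
      rw [Subsingleton.elim (α := PrimeSpectrum K) p (IsLocalRing.closedPoint K)]
      exact (GrothLib.Weight.le_gRank_iff (IsPullback.of_hasPullback f g) _ rfl d).mp h

end Groth.Agent.S1449
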