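import Groth.Statements.S14490
import Groth.Agent.Lib.Sect28.P1Fam
import Groth.Agent.Lib.Sect28.Split

set_option autoImplicit false
universe u
open CategoryTheory CategoryTheory.Limits AlgebraicGeometry
open ProjBd

namespace Groth.Agent.S14490

/-- Let f : C → B be a proper smooth morphism of schemes of relative dimension one all of whose
geometric fibres are projective lines (for every algebraically closed field Ω and every Spec Ω → B,
the fibre C ×_B Spec Ω is isomorphic to P^1_Ω over Ω). If f admits three sections s₁, s₂, s₃ with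
pairwise disjoint images, then C is the projective bundle of the free module of rank 2, i.e. C ≅ B ×
P^1 over B: there exist an invertible O_C-module O(1) and a surjection q : f^*(O_B^2) → O(1) such
that (f : C → B, O(1), q) has the universal property of the projective bundle P(O_B^2). -/
theorem result {C B : Scheme.{u}} (f : C ⟶ B)
    [IsProper f] [SmoothOfRelativeDimension 1 f]
    (hfib : ∀ (Ω : Type u) [Field Ω] [IsAlgClosed Ω] (b : Spec (CommRingCat.of Ω) ⟶ B),
      ∃ e : pullback f b ≅ CohB1.ProjSpace 1 Ω, e.hom ≫ CohB1.ProjSpace.toSpec 1 Ω = pullback.snd f b)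
    (s₁ s₂ s₃ : B ⟶ C) (hs₁ : s₁ ≫ f = 𝟙 B) (hs₂ : s₂ ≫ f = 𝟙 B) (hs₃ : s₃ ≫ f = 𝟙 B)
    (h₁₂ : Disjoint (Set.range s₁) (Set.range s₂)) (h₁₃ : Disjoint (Set.range s₁) (Set.range s₃))
    (h₂₃ : Disjoint (Set.range s₂) (Set.range s₃)) :
    ∃ (O1 : C.Modules) (q : (Scheme.Modules.pullback f).obj (FlatMod.freeMod B 2) ⟶ O1),
      KRR.IsProjBundle f (FlatMod.freeMod B 2) O1 q := by
  obtain ⟨E, L, q, hI, hL, hE, hP, hcls⟩ := GrothLib.Sect28.exists_bundle_of_section f hfib s₁ hs₁
  obtain ⟨α⟩ := GrothLib.Sect28.exists_split hE hP s₂ s₃ hs₂ hs₃ h₂₃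
  haveI : IsClosedImmersion s₁ := by
    haveI : IsClosedImmersion (s₁ ≫ f) := by rw [hs₁]; infer_instance
    exact IsClosedImmersion.of_comp s₁ f
  have key : ∀ s : B ⟶ C, Disjoint (Set.range s₁) (Set.range s) →
      Nonempty ((Scheme.Modules.pullback s).obj L ≅ Coh.structureModule B) := fun s hd => by
    refine (GrothLib.Cube.clsMod_eq_one_iff (GrothLib.Ample.isInvertible_pullback s hL)).1 ?_
    refine (GrothLib.Cube.clsMod_pullback s hL).trans ?_
    rw [hcls, map_inv, GrothLib.Sect28.pull_clsMod_idealMod_eq_one s s₁.ker hI (fun x hx => ?_), inv_one]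
    rw [Scheme.Hom.support_ker, s₁.isClosedEmbedding.isClosed_range.closure_eq] at hx
    exact Set.disjoint_left.1 hd hx ⟨x, rfl⟩
  obtain ⟨e₂⟩ := key s₂ h₁₂
  obtain ⟨e₃⟩ := key s₃ h₁₃
  exact ⟨L, _, GrothLib.Sect28.isProjBundle_of_iso_bundle hP ((GrothLib.DCoh.freeModBiprodIso B 1 1).symm ≪≫
    Limits.biprod.mapIso (Limits.coproductUniqueIso (fun _ : Fin 1 => Coh.structureModule B) ≪≫ e₂.symm)
      (Limits.coproductUniqueIso (fun _ : Fin 1 => Coh.structureModule B) ≪≫ e₃.symm) ≪≫ α.symm)⟩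

end Groth.Agent.S14490
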