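import Groth.Statements.S14491
-- no helpers

set_option autoImplicit false
universe w v u
open DerTri

namespace Groth.Agent.S14491

open CategoryTheory Pretriangulated in
/-- In the derived category D(C) of an abelian category C, let E ⟶ F ⟶ G be two morphisms with E
concentrated in non-positive degrees and G concentrated in non-negative degrees for the canonical
t-structure. If two morphisms G ⟶ E⟦1⟧ both complete E ⟶ F ⟶ G to a distinguished triangle, then
they are equal. (The published statement is phrased with the morphism G⟦-1⟧ ⟶ E of the triangle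
G⟦-1⟧ ⟶ E ⟶ F ⟶ G; this row uses the equivalent connecting morphism G ⟶ E⟦1⟧ of the rotated
triangle.) -/
theorem result {C : Type u} [Category.{v} C] [Abelian C]
    [HasDerivedCategory.{w} C] {E F G : DerivedCategory C} (u : E ⟶ F) (v : F ⟶ G)
    [E.IsLE 0] [G.IsGE 0] (w w' : G ⟶ E⟦(1 : ℤ)⟧)
    (hw : Triangle.mk u v w ∈ distTriang (DerivedCategory C))
    (hw' : Triangle.mk u v w' ∈ distTriang (DerivedCategory C)) :
    w = w' := by
  obtain ⟨c, hc1, hc2⟩ := Pretriangulated.complete_distinguished_triangle_morphism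
    (Triangle.mk u v w) (Triangle.mk u v w') hw hw' (𝟙 E) (𝟙 F)
    ((Category.comp_id u).trans (Category.id_comp u).symm)
  change G ⟶ G at c
  replace hc1 : v ≫ c = 𝟙 F ≫ v := hc1
  replace hc2 : w ≫ (𝟙 E)⟦(1 : ℤ)⟧' = c ≫ w' := hc2
  rw [CategoryTheory.Functor.map_id, Category.comp_id] at hc2
  obtain ⟨h, hh⟩ := Pretriangulated.Triangle.yoneda_exact₃ (Triangle.mk u v w) hw (c - 𝟙 G)
    (by change v ≫ (c - 𝟙 G) = 0; rw [Preadditive.comp_sub, hc1]; simp)
  change E⟦(1 : ℤ)⟧ ⟶ G at h
  have := (DerivedCategory.TStructure.t (C := C)).isLE_shift E 0 1 (-1) (by omega)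
  have h0 : h = 0 := DerivedCategory.TStructure.t.zero h (-1) 0 (by omega)
  rw [h0] at hh
  have hc : c = 𝟙 G := sub_eq_zero.1 (hh.trans Limits.comp_zero)
  rw [hc2, hc, Category.id_comp]

end Groth.Agent.S14491
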