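import Groth.Statements.S14495
import Groth.Agent.Lib.IndCof.Ind
import Groth.Agent.Lib.IndCof.Divisible

set_option autoImplicit false
universe v
open IndCof

namespace Groth.Agent.S14495

open CategoryTheory CategoryTheory.Limits in
/-- Let C be a small abelian category all of whose objects are Artinian and killed by some power of a
prime p. The abelian category of ind-objects of C of cofinite type (those A with every A[p^n]
isomorphic to an object of C) is Artinian: for A of cofinite type, every decreasing chain of
sub-objects of A in Ind C whose underlying objects are of cofinite type is eventually constant.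
(Sub-objects of A in the full subcategory of cofinite-type objects are exactly such sub-objects,
since that subcategory is stable under kernels in Ind C.) -/
theorem result {C : Type v} [SmallCategory C] [Abelian C]
    (hart : ∀ X : C, IsArtinianObject X) (p : ℕ) (hp : p.Prime)
    (htor : ∀ X : C, ∃ n : ℕ, (p ^ n) • 𝟙 X = 0)
    (A : Ind C) (hA : ∀ n : ℕ, (Ind.yoneda (C := C)).essImage (kernel ((p ^ n) • 𝟙 A))) (S : ℕ → Subobject A) (hS : Antitone S)
    (hcof : ∀ m n : ℕ, (Ind.yoneda (C := C)).essImage
      (kernel ((p ^ n) • 𝟙 ((S m : Subobject A) : Ind C)))) :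
    ∃ N : ℕ, ∀ m : ℕ, N ≤ m → S m = S N := by
  have hS' := hS
  clear hS
  have htor' : ∀ X : C, ∃ m : ℕ, 0 < m ∧ m • 𝟙 X = 0 := fun X =>
    let ⟨k, hk⟩ := htor X; ⟨p ^ k, pow_pos hp.pos k, hk⟩
  have hS := GrothLib.IndCof.setup hart htor'
  have hA' := GrothLib.IndCof.cof_of_pow hart hp htor hA
  have htp : ∀ T, GrothLib.IndCof.YMem (C := C) T → ∃ j : ℕ, (p ^ j) • 𝟙 T = 0 := fun T hT => by
    obtain ⟨X, ⟨e⟩⟩ := hT
    obtain ⟨j, hj⟩ := htor X
    refine ⟨j, ?_⟩
    calc p ^ j • 𝟙 T = e.inv ≫ (Ind.yoneda (C := C)).map (p ^ j • 𝟙 X) ≫ e.hom := by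
          simp [Functor.map_nsmul, Preadditive.comp_nsmul, Preadditive.nsmul_comp]
      _ = 0 := by rw [hj]; simp
  exact hS.chain_stabilizes hp.pos htp hA' S hS'
    fun m => GrothLib.IndCof.cof_of_pow hart hp htor (hcof m)

end Groth.Agent.S14495
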