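import Groth.Statements.S14496
import Groth.Agent.Lib.IndCof.Ind
import Groth.Agent.Lib.IndCof.Divisible

set_option autoImplicit false
universe v
open IndCof

namespace Groth.Agent.S14496

open CategoryTheory CategoryTheory.Limits in
/-- Let C be a small abelian category all of whose objects are Artinian and killed by some power of a
prime p, and A an ind-object of C of cofinite type. Let N be such that p^n A = p^N A for all n ≥ N,
so that the divisible part A_div = ⋂ p^n A equals p^N A. Then A_div is of cofinite type and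
divisible (multiplication by p on it is an epimorphism; integers prime to p act invertibly on every
ind-object here, so this is divisibility by all positive integers); it is the largest divisible
sub-object of A; and A / A_div is the largest quotient of A lying in C: every epimorphism from A
onto an object isomorphic to an object of C vanishes on A_div. (The row takes the stabilization
index N as a hypothesis instead of forming the intersection; that A / A_div itself lies in C is the
statement about A / p^N A and is not repeated here.) -/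
theorem result {C : Type v} [SmallCategory C] [Abelian C]
    (hart : ∀ X : C, IsArtinianObject X) (p : ℕ) (hp : p.Prime)
    (htor : ∀ X : C, ∃ n : ℕ, (p ^ n) • 𝟙 X = 0)
    (A : Ind C) (hA : ∀ n : ℕ, (Ind.yoneda (C := C)).essImage (kernel ((p ^ n) • 𝟙 A))) (N : ℕ)
    (hN : ∀ n : ℕ, N ≤ n → imageSubobject ((p ^ n) • 𝟙 A) = imageSubobject ((p ^ N) • 𝟙 A)) :
    (∀ n : ℕ, (Ind.yoneda (C := C)).essImage
        (kernel ((p ^ n) • 𝟙 ((imageSubobject ((p ^ N) • 𝟙 A) : Subobject A) : Ind C)))) ∧
      Epi (p • 𝟙 ((imageSubobject ((p ^ N) • 𝟙 A) : Subobject A) : Ind C)) ∧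
      (∀ D : Subobject A, Epi (p • 𝟙 (D : Ind C)) → D ≤ imageSubobject ((p ^ N) • 𝟙 A)) ∧
      (∀ (Q : Ind C) (q : A ⟶ Q), Epi q → (Ind.yoneda (C := C)).essImage Q →
        (imageSubobject ((p ^ N) • 𝟙 A)).arrow ≫ q = 0) := by
  have htor' : ∀ X : C, ∃ m : ℕ, 0 < m ∧ m • 𝟙 X = 0 := fun X =>
    let ⟨k, hk⟩ := htor X; ⟨p ^ k, pow_pos hp.pos k, hk⟩
  have hS := GrothLib.IndCof.setup hart htor'
  have hA' := GrothLib.IndCof.cof_of_pow hart hp htor hA
  have htp : ∀ T, GrothLib.IndCof.YMem (C := C) T → ∃ j : ℕ, (p ^ j) • 𝟙 T = 0 := fun T hT => by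
    obtain ⟨X, ⟨e⟩⟩ := hT
    obtain ⟨j, hj⟩ := htor X
    refine ⟨j, ?_⟩
    calc p ^ j • 𝟙 T = e.inv ≫ (Ind.yoneda (C := C)).map (p ^ j • 𝟙 X) ≫ e.hom := by
          simp [Functor.map_nsmul, Preadditive.comp_nsmul, Preadditive.nsmul_comp]
      _ = 0 := by rw [hj]; simp
  have hImg := hS.cof_imageSubobject (GrothLib.IndCof.mulN A (p ^ N)) hA' hA'
  refine ⟨fun n => hS.cof_iff.1 hImg _ (pow_pos hp.pos n), ?_, ?_, ?_⟩
  · refine (GrothLib.IndCof.epi_mulN_iff _ p).2 ?_
    have h := hN (N + 1) (by omega)
    change imageSubobject (GrothLib.IndCof.mulN A (p ^ (N + 1))) = imageSubobject (GrothLib.IndCof.mulN A (p ^ N)) at h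
    change GrothLib.ARSys.img (GrothLib.IndCof.mulN A p) (imageSubobject (GrothLib.IndCof.mulN A (p ^ N))) =
      imageSubobject (GrothLib.IndCof.mulN A (p ^ N))
    rw [GrothLib.IndCof.pw_eq_img, GrothLib.IndCof.pw_eq_img] at h
    rw [GrothLib.IndCof.pw_eq_img, ← GrothLib.IndCof.img_mulN_mul, ← pow_succ, h]
  · intro D hD
    have h1 : ∀ k : ℕ, GrothLib.ARSys.img (GrothLib.IndCof.mulN A (p ^ k)) D = D := by
      intro k
      induction k with
      | zero => rw [pow_zero, GrothLib.IndCof.img_mulN_one]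
      | succ k ih => rw [pow_succ, GrothLib.IndCof.img_mulN_mul, ih, (GrothLib.IndCof.epi_mulN_iff D p).1 hD]
    exact GrothLib.IndCof.le_pw_of_div (h1 N)
  · intro Q q _ hQ
    obtain ⟨j, hj⟩ := htp Q hQ
    have hle : imageSubobject ((p ^ N) • 𝟙 A) ≤ kernelSubobject q := by
      rw [← hN (N + j) (Nat.le_add_right N j), GrothLib.ARSys.le_iff_factors]
      intro T y hy
      obtain ⟨T', π, hπ, x, e⟩ := (GrothLib.IndCof.factors_pw_iff _ _).1 hy
      refine GrothLib.ARSys.factors_of_epi π ?_
      rw [kernelSubobject_factors_iff, e, Preadditive.nsmul_comp, pow_add, mul_nsmul', ← Category.comp_id (x ≫ q),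
        ← Preadditive.comp_nsmul, hj, comp_zero, nsmul_zero]
    rw [← Subobject.ofLE_arrow hle, Category.assoc, kernelSubobject_arrow_comp, comp_zero]

end Groth.Agent.S14496
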