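import Groth.Statements.S14497
import Groth.Agent.Lib.IndCof.Ind
import Groth.Agent.Lib.IndCof.Divisible

set_option autoImplicit false
universe v u
open IndCof

namespace Groth.Agent.S14497

open CategoryTheory CategoryTheory.Limits in
/-- Let B be an object of an abelian category and consider the inverse system, indexed by the positive
integers ordered by divisibility, with every term equal to B and transition map from the m-th to the
n-th term (n ∣ m) given by multiplication by m/n. This system is Mittag-Leffler, i.e. for every n
the images in the n-th term of the transition maps are eventually constant, if and only if B has a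
divisible sub-object B' (multiplication by every positive integer is an epimorphism of B') with B/B'
killed by some positive integer. Moreover such a B' is the largest divisible sub-object of B. -/
theorem result
    {V : Type u} [Category.{v} V] [Abelian V] (B : V) :
    ((∀ n : ℕ, 0 < n → ∃ m : ℕ, 0 < m ∧ n ∣ m ∧ ∀ m' : ℕ, 0 < m' → m ∣ m' →
        imageSubobject ((m' / n) • 𝟙 B) = imageSubobject ((m / n) • 𝟙 B)) ↔
      ∃ B' : Subobject B, (∀ k : ℕ, 0 < k → Epi (k • 𝟙 (B' : V))) ∧
        ∃ M : ℕ, 0 < M ∧ M • 𝟙 (cokernel B'.arrow) = 0) ∧
    (∀ B' : Subobject B, (∀ k : ℕ, 0 < k → Epi (k • 𝟙 (B' : V))) →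
      (∃ M : ℕ, 0 < M ∧ M • 𝟙 (cokernel B'.arrow) = 0) →
      ∀ D : Subobject B, (∀ k : ℕ, 0 < k → Epi (k • 𝟙 (D : V))) → D ≤ B') := by
  exact GrothLib.IndCof.ml_iff B

end Groth.Agent.S14497
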