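import Groth.Statements.S14498
import Mathlib.CategoryTheory.Abelian.Refinements
-- import your own Groth.Agent.* helpers here

set_option autoImplicit false
universe v u
open AbDiag

namespace Groth.Agent.S14498

open CategoryTheory CategoryTheory.Limits in
/-- In an abelian category, let 0 → F → W → E' → 0 (maps a, b) and 0 → E → W → F' → G → G' → 0 (maps c,
d, e, g) be exact sequences such that the composite F → W → F' is a monomorphism. Then the composite
E → W → E' is a monomorphism, and there is a short exact sequence 0 → Coker(E → E') → Coker(F → F')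
→ Ker(G → G') → 0 whose first map is induced by d (through the quotient map b) and whose second map
is induced by e. -/
theorem result
    {V : Type u} [Category.{v} V] [Abelian V] {F W E' E F' G G' : V}
    (a : F ⟶ W) (b : W ⟶ E') (c : E ⟶ W) (d : W ⟶ F') (e : F' ⟶ G) (g : G ⟶ G')
    [Mono a] [Epi b] (wab : a ≫ b = 0) (hab : (ShortComplex.mk a b wab).Exact)
    [Mono c] (wcd : c ≫ d = 0) (hcd : (ShortComplex.mk c d wcd).Exact)
    (wde : d ≫ e = 0) (hde : (ShortComplex.mk d e wde).Exact)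
    (weg : e ≫ g = 0) (heg : (ShortComplex.mk e g weg).Exact) [Epi g]
    (hmono : Mono (a ≫ d)) :
    Mono (c ≫ b) ∧
      ∃ (φ : cokernel (c ≫ b) ⟶ cokernel (a ≫ d)) (ψ : cokernel (a ≫ d) ⟶ kernel g)
        (w : φ ≫ ψ = 0),
        b ≫ cokernel.π (c ≫ b) ≫ φ = d ≫ cokernel.π (a ≫ d) ∧
        cokernel.π (a ≫ d) ≫ ψ ≫ kernel.ι g = e ∧
        (ShortComplex.mk φ ψ w).ShortExact := by
  have hcb : Mono (c ≫ b) := Preadditive.mono_of_cancel_zero _ fun {T} k hk => by
    obtain ⟨m, hm⟩ : ∃ m, m ≫ a = k ≫ c := ⟨_, hab.lift_f (k ≫ c) (by simpa using hk)⟩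
    have h0 : m = 0 := by rw [← cancel_mono (a ≫ d), reassoc_of% hm, wcd]; simp
    rw [← cancel_mono c, ← hm, h0]; simp
  let p := cokernel.π (a ≫ d)
  let φ₀ : E' ⟶ cokernel (a ≫ d) := hab.desc (d ≫ p) (by rw [← Category.assoc]; exact cokernel.condition _)
  have hφ₀ : b ≫ φ₀ = d ≫ p := hab.g_desc _ _
  let φ : cokernel (c ≫ b) ⟶ cokernel (a ≫ d) := cokernel.desc _ φ₀ (by
    rw [Category.assoc, hφ₀, reassoc_of% wcd, zero_comp])
  let ψ : cokernel (a ≫ d) ⟶ kernel g := cokernel.desc _ (kernel.lift g e weg) (by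
    rw [← cancel_mono (kernel.ι g)]; simp [wde])
  have h1 : b ≫ cokernel.π (c ≫ b) ≫ φ = d ≫ p := by simp [φ, hφ₀]
  have h2 : p ≫ ψ ≫ kernel.ι g = e := by simp [ψ, p]
  have w : φ ≫ ψ = 0 := by
    rw [← cancel_epi (cokernel.π (c ≫ b)), ← cancel_epi b, reassoc_of% h1, ← cancel_mono (kernel.ι g)]
    simp [h2, wde]
  have hpEx : (ShortComplex.mk (a ≫ d) p (cokernel.condition _)).Exact :=
    ShortComplex.exact_of_g_is_cokernel _ (cokernelIsCokernel _)
  refine ⟨hcb, φ, ψ, w, h1, h2, { exact := ?_, mono_f := ?_, epi_g := ?_ }⟩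
  · rw [ShortComplex.exact_iff_exact_up_to_refinements]
    intro T x hx
    obtain ⟨T₁, π₁, _, y, hy⟩ := surjective_up_to_refinements_of_epi p x
    have hye : y ≫ e = 0 := by rw [← h2, ← reassoc_of% hy, reassoc_of% hx]; simp
    obtain ⟨T₂, π₂, _, z, hz⟩ := hde.exact_up_to_refinements y hye
    refine ⟨T₂, π₂ ≫ π₁, inferInstance, z ≫ b ≫ cokernel.π (c ≫ b), ?_⟩
    dsimp at hz ⊢
    rw [Category.assoc, Category.assoc, hy, Category.assoc, h1, reassoc_of% hz]
  · refine Preadditive.mono_of_cancel_zero _ fun {T} x hx => ?_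
    obtain ⟨T₁, π₁, _, y, hy⟩ := surjective_up_to_refinements_of_epi (b ≫ cokernel.π (c ≫ b)) x
    have hyd : (y ≫ d) ≫ p = 0 := by
      rw [Category.assoc, ← h1]
      simp only [← Category.assoc] at hy ⊢
      rw [← hy]; simp [hx]
    obtain ⟨T₂, π₂, _, z, hz⟩ := hpEx.exact_up_to_refinements _ hyd
    dsimp at hz
    obtain ⟨T₃, π₃, _, v, hv⟩ := hcd.exact_up_to_refinements (π₂ ≫ y - z ≫ a) (by simp [hz])
    dsimp at hv
    rw [← cancel_epi π₁, ← cancel_epi π₂, ← cancel_epi π₃]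
    have h3 : π₃ ≫ π₂ ≫ y = v ≫ c + π₃ ≫ z ≫ a := by
      rw [← hv, Preadditive.comp_sub]; abel
    rw [hy, reassoc_of% h3]
    simp [reassoc_of% wab]
    rw [← Category.assoc c, cokernel.condition, comp_zero]
  · have he : Epi (p ≫ ψ) := by
      have : p ≫ ψ = kernel.lift g e weg := cokernel.π_desc _ _ _
      rw [this]
      exact heg.epi_kernelLift
    exact epi_of_epi p ψ

end Groth.Agent.S14498
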