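import Groth.Statements.S14505
import Mathlib
-- import your own Groth.Agent.* helpers here

set_option autoImplicit false
universe u
open IntTh

namespace Groth.Agent.S14505

/-- Let R be a commutative ring, α₁, …, α_d, β₁, …, β_e ∈ R, b(t) = ∏ (1 + β_j t), and for k = 1, …, d
let P_k(t) = b(t)/∏_{i ≤ k} (1 + α_i t) ∈ R⟦t⟧, each factor 1 + α_i t being inverted by its
geometric series; write (P_k)_m for the coefficient of t^m, with (P_k)_m = 0 for m < 0. Then ∏_{i,j}
(β_j − α_i) = det((P_i)_{e+j−i})_{1 ≤ i,j ≤ d}, the d × d determinant whose i-th row is built from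
the coefficients of the i-th partial quotient. (Rows and columns are 0-based in the formal
statement, which does not change j − i; the row of index i inverts the factors of index at most i.
The companion form with every row built from the full quotient b/a is stated separately.) -/
theorem result (R : Type u) [CommRing R] (d e : ℕ)
    (α : Fin d → R) (β : Fin e → R) :
    ∏ i : Fin d, ∏ j : Fin e, (β j - α i) =
      (Matrix.of fun i j : Fin d =>
        if (i : ℕ) ≤ e + (j : ℕ) then
          PowerSeries.coeff (e + (j : ℕ) - (i : ℕ))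
            ((∏ j : Fin e, (1 + PowerSeries.C (β j) * PowerSeries.X)) *
              ∏ l : Fin d, if l ≤ i then PowerSeries.mk (fun m => (-α l) ^ m) else 1)
        else 0).det := by
  classical
  set B : PowerSeries R := ∏ j : Fin e, (1 + PowerSeries.C (β j) * PowerSeries.X) with hB
  set G : Fin d → PowerSeries R := fun l => PowerSeries.mk (fun m => (-α l) ^ m) with hG
  set L : Fin d → PowerSeries R := fun l => 1 + PowerSeries.C (α l) * PowerSeries.X with hL
  have hdeg : ∀ {ι : Type} (s : Finset ι) (c : ι → R) (k : ℕ), s.card < k →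
      PowerSeries.coeff k (∏ j ∈ s, (1 + PowerSeries.C (c j) * PowerSeries.X)) = 0 := by
    intro ι s c
    induction s using Finset.induction_on with
    | empty => intro k hk; simp [PowerSeries.coeff_one, (Nat.pos_of_ne_zero (by simpa using hk.ne')).ne']
    | insert a s ha ih =>
      intro k hk
      rw [Finset.card_insert_of_notMem ha] at hk
      obtain ⟨k, rfl⟩ : ∃ k', k = k' + 1 := ⟨k - 1, by omega⟩
      rw [Finset.prod_insert ha, add_mul, one_mul, map_add, mul_assoc, PowerSeries.coeff_C_mul,
        PowerSeries.coeff_succ_X_mul, ih (k + 1) (by omega), ih k (by omega)]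
      simp
  have hdiag : ∀ (a : R) (s : Finset (Fin e)) (k : ℕ),
      PowerSeries.coeff (s.card + k) ((∏ j ∈ s, (1 + PowerSeries.C (β j) * PowerSeries.X)) *
        PowerSeries.mk (fun m => (-a) ^ m)) = (-a) ^ k * ∏ j ∈ s, (β j - a) := by
    intro a s
    induction s using Finset.induction_on with
    | empty => intro k; simp
    | insert x s hx ih =>
      intro k
      rw [Finset.card_insert_of_notMem hx, Finset.prod_insert hx, Finset.prod_insert hx, mul_assoc, add_mul,
        one_mul, map_add, mul_assoc (PowerSeries.C _), PowerSeries.coeff_C_mul, add_right_comm,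
        PowerSeries.coeff_succ_X_mul, ih k, add_assoc, ih (k + 1), pow_succ]
      ring
  have hinv : ∀ l, L l * G l = 1 := fun l => by
    ext m
    rcases m with _ | m
    · simp [hL, hG]
    · rw [hL, hG]
      simp only [add_mul, one_mul, mul_assoc, map_add, PowerSeries.coeff_mk, PowerSeries.coeff_C_mul,
        PowerSeries.coeff_succ_X_mul, PowerSeries.coeff_one, Nat.succ_ne_zero, if_false, pow_succ]
      ring
  set P : Fin d → PowerSeries R := fun i => B * ∏ l : Fin d, if l ≤ i then G l else 1 with hP
  set Q : Fin d → PowerSeries R := fun m => ∏ l ∈ Finset.Iio m, L l with hQ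
  set T : Matrix (Fin d) (Fin d) R :=
    Matrix.of fun j m => if (j : ℕ) ≤ m then PowerSeries.coeff ((m : ℕ) - j) (Q m) else 0 with hT
  have hQdeg : ∀ (m : Fin d) (k : ℕ), (m : ℕ) < k → PowerSeries.coeff k (Q m) = 0 := fun m k hk => by
    rw [hQ]; exact hdeg _ α k (by rw [Fin.card_Iio]; exact hk)
  have hTdet : T.det = 1 := by
    rw [Matrix.det_of_upperTriangular]
    · refine Finset.prod_eq_one fun m _ => ?_
      simp [hT, hQ, hL, map_prod, PowerSeries.coeff_zero_eq_constantCoeff_apply]
    · intro j m hjm
      simp only [hT, Matrix.of_apply]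
      rw [if_neg (not_le.2 (show (m : ℕ) < j from hjm))]
  have hPi : ∀ i, P i = B * ∏ l ∈ Finset.Iic i, G l := fun i => by
    show B * _ = _
    rw [← Finset.prod_filter, Finset.filter_ge_eq_Iic]
  have hentry : ∀ i m : Fin d, i ≤ m →
      ((Matrix.of fun i j : Fin d =>
        if (i : ℕ) ≤ e + (j : ℕ) then PowerSeries.coeff (e + (j : ℕ) - (i : ℕ)) (P i) else 0) * T) i m =
        PowerSeries.coeff (e + (m : ℕ) - i) (Q m * P i) := by
    intro i m him
    have him' : (i : ℕ) ≤ m := him
    rw [Matrix.mul_apply, PowerSeries.coeff_mul]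
    refine Finset.sum_bij_ne_zero (fun j _ _ => (((m : ℕ) - j, e + (j : ℕ) - i) : ℕ × ℕ)) ?_ ?_ ?_ ?_
    · intro j _ hj
      simp only [hT, Matrix.of_apply] at hj
      split_ifs at hj <;> simp only [mul_zero, zero_mul, ne_eq, not_true] at hj
      rw [Finset.HasAntidiagonal.mem_antidiagonal]; omega
    · intro j _ hj j' _ hj' h
      simp only [hT, Matrix.of_apply] at hj hj'
      split_ifs at hj <;> simp only [mul_zero, zero_mul, ne_eq, not_true] at hj
      split_ifs at hj' <;> simp only [mul_zero, zero_mul, ne_eq, not_true] at hj'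
      simp only [Prod.mk.injEq] at h
      ext; omega
    · rintro ⟨a, b⟩ hab hne
      rw [Finset.HasAntidiagonal.mem_antidiagonal] at hab
      have ha : a ≤ (m : ℕ) := le_of_not_gt fun h => hne (by rw [hQdeg m a h, zero_mul])
      refine ⟨⟨(m : ℕ) - a, by omega⟩, Finset.mem_univ _, ?_, ?_⟩
      · simp only [hT, Matrix.of_apply]
        rw [if_pos (show (i : ℕ) ≤ e + ((m : ℕ) - a) by omega), if_pos (show (m : ℕ) - a ≤ m by omega)]
        rwa [show e + ((m : ℕ) - a) - i = b by omega, show (m : ℕ) - ((m : ℕ) - a) = a by omega, mul_comm]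
      · simp only [Prod.mk.injEq]; omega
    · intro j _ hj
      simp only [hT, Matrix.of_apply] at hj ⊢
      split_ifs at hj ⊢ <;> simp only [mul_zero, zero_mul, ne_eq, not_true] at hj ⊢
      rw [mul_comm]
  have hupper : ∀ i m : Fin d, i < m → PowerSeries.coeff (e + (m : ℕ) - i) (Q m * P i) = 0 := fun i m him => by
    have hsub : Finset.Iic i ⊆ Finset.Iio m := fun l hl =>
      Finset.mem_Iio.2 ((Finset.mem_Iic.1 hl).trans_lt him)
    rw [hQ]
    simp only
    rw [← Finset.prod_sdiff hsub, hPi, mul_mul_mul_comm, ← Finset.prod_mul_distrib,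
      Finset.prod_eq_one (fun l _ => hinv l), mul_one]
    have h := hdeg ((Finset.Iio m \ Finset.Iic i).disjSum (Finset.univ : Finset (Fin e)))
      (Sum.elim α β) (e + (m : ℕ) - i) (by
      rw [Finset.card_disjSum, Finset.card_sdiff_of_subset hsub, Fin.card_Iio, Fin.card_Iic, Finset.card_univ,
        Fintype.card_fin]
      have : (i : ℕ) < m := him
      omega)
    rw [Finset.prod_disjSum] at h
    exact h
  have hdiagT : ∀ i : Fin d, PowerSeries.coeff (e + (i : ℕ) - i) (Q i * P i) = ∏ j : Fin e, (β j - α i) := fun i => by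
    rw [hPi, ← Finset.Iio_insert, Finset.prod_insert (by simp), hQ]
    simp only
    rw [show (∏ l ∈ Finset.Iio i, L l) * (B * (G i * ∏ l ∈ Finset.Iio i, G l)) = B * G i *
        ((∏ l ∈ Finset.Iio i, L l) * ∏ l ∈ Finset.Iio i, G l) by ring, ← Finset.prod_mul_distrib,
      Finset.prod_eq_one (fun l _ => hinv l), mul_one, Nat.add_sub_cancel]
    have := hdiag (α i) Finset.univ 0
    rwa [Finset.card_univ, Fintype.card_fin, add_zero, pow_zero, one_mul] at this
  change _ = (Matrix.of fun i j : Fin d =>
    if (i : ℕ) ≤ e + (j : ℕ) then PowerSeries.coeff (e + (j : ℕ) - (i : ℕ)) (P i) else 0).det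
  rw [← mul_one (Matrix.det _), ← hTdet, ← Matrix.det_mul, Matrix.det_of_lowerTriangular]
  · exact Finset.prod_congr rfl fun i _ => by rw [hentry i i le_rfl, hdiagT i]
  · intro i m him
    rw [hentry i m (le_of_lt him), hupper i m him]

end Groth.Agent.S14505
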