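import Groth.Statements.S14511
import Mathlib.Algebra.MvPolynomial.Degrees
import Mathlib.Algebra.BigOperators.Ring.Finset
import Mathlib.Tactic.Ring

set_option autoImplicit false
universe u
open CAlgX

namespace Groth.Agent.S14511

/-- Let R be a commutative ring and P ∈ R[x_1, …, x_r] a polynomial of total degree at most r. Then the
coefficient of the monomial x_1 ⋯ x_r in P equals Σ_J (−1)^{|J|} P(δ_J), the sum over all subsets J
⊆ {1, …, r} (the empty one included), where δ_J is the point with coordinate −1 at the indices in J
and 0 at the others. -/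
theorem result (R : Type u) [CommRing R] (r : ℕ)
    (P : MvPolynomial (Fin r) R) (hP : P.totalDegree ≤ r) :
    MvPolynomial.coeff (∑ i : Fin r, Finsupp.single i 1) P =
      ∑ J : Finset (Fin r), (-1 : R) ^ J.card * MvPolynomial.eval (fun j => if j ∈ J then (-1 : R) else 0) P := by
  classical
  set e : Fin r →₀ ℕ := ∑ i : Fin r, Finsupp.single i 1 with he
  have he1 : ∀ j, e j = 1 := fun j => by simp [he, Finsupp.single_apply]
  have key : ∀ d ∈ P.support, (∑ J : Finset (Fin r), (-1 : R) ^ J.card *
      ∏ j, (if j ∈ J then (-1 : R) else 0) ^ d j) = if d = e then 1 else 0 := by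
    intro d hd
    have h1 : (∑ J : Finset (Fin r), (-1 : R) ^ J.card * ∏ j, (if j ∈ J then (-1 : R) else 0) ^ d j)
        = ∏ j, (-((-1 : R) ^ d j) + (0 : R) ^ d j) := by
      rw [Finset.prod_add, Finset.powerset_univ]
      refine Finset.sum_congr rfl fun J _ => ?_
      rw [Finset.prod_neg, mul_assoc]
      congr 1
      rw [← Finset.prod_filter_mul_prod_filter_not Finset.univ (· ∈ J)]
      congr 1
      · refine Finset.prod_congr (by ext; simp) fun j hj => ?_
        rw [if_pos hj]
      · refine Finset.prod_congr (by ext; simp) fun j hj => ?_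
        rw [if_neg (Finset.mem_sdiff.1 hj).2]
    rw [h1]
    by_cases hde : d = e
    · subst hde
      rw [if_pos rfl]
      exact Finset.prod_eq_one fun j _ => by simp [he1]
    · rw [if_neg hde]
      obtain ⟨j, hj⟩ : ∃ j, d j = 0 := by
        by_contra hc
        push Not at hc
        apply hde
        have hsum : ∑ j, d j ≤ r := by
          have := MvPolynomial.le_totalDegree hd
          rw [Finsupp.sum_fintype _ _ (fun _ => rfl)] at this
          exact this.trans hP
        have hge : ∀ j ∈ (Finset.univ : Finset (Fin r)), 1 ≤ d j :=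
          fun j _ => Nat.one_le_iff_ne_zero.2 (hc j)
        have heq := (Finset.sum_eq_sum_iff_of_le hge).1 (le_antisymm
          (Finset.sum_le_sum hge) (by simpa using hsum))
        ext j
        rw [he1]
        exact (heq j (Finset.mem_univ j)).symm
      exact Finset.prod_eq_zero (Finset.mem_univ j) (by rw [hj, pow_zero, pow_zero]; ring)
  simp only [MvPolynomial.eval_eq', Finset.mul_sum]
  rw [Finset.sum_comm]
  have h2 : ∀ d ∈ P.support, (∑ J : Finset (Fin r), (-1 : R) ^ J.card * (MvPolynomial.coeff d P *
      ∏ j, (if j ∈ J then (-1 : R) else 0) ^ d j)) = if d = e then MvPolynomial.coeff d P else 0 := by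
    intro d hd
    simp only [mul_left_comm _ (MvPolynomial.coeff d P)]
    rw [← Finset.mul_sum, key d hd]
    simp
  rw [Finset.sum_congr rfl h2, Finset.sum_ite_eq']
  split_ifs with h
  · rfl
  · simpa using h

end Groth.Agent.S14511
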