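import Groth.Statements.S14513
import Groth.Agent.Lib.CurveMult.Hurwitz
import Groth.Agent.Lib.CurvePoints.Birational
import Groth.Agent.Lib.CurveRR.Setup

set_option autoImplicit false
universe u
open CategoryTheory CategoryTheory.Limits AlgebraicGeometry
open Curves

namespace Groth.Agent.S14513

/-- Let k be an algebraically closed field and f : X → Y a finite, separable morphism of smooth
projective curves over k (X, Y integral, proper and smooth over k, of dimension one; f sends the
generic point to the generic point and the extension K(X)/K(Y) is separable). If X and Y have the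
same genus g = dim_k H^1(O) and g ≥ 2, then f is an isomorphism. (The published statement also
asserts g(X) ≥ g(Y) and that equality holds exactly when f is an isomorphism, both curves are
projective lines, or both have genus one; this row states the equality case for genus at least two.) -/
theorem result (k : Type u) [Field k] [IsAlgClosed k]
    (X : Scheme.{u}) [X.Over (Spec (CommRingCat.of k))] [IsIntegral X] [IsProper (X ↘ (Spec (CommRingCat.of k)))] [Smooth (X ↘ (Spec (CommRingCat.of k)))] (hdimX : topologicalKrullDim X = 1)
    (Y : Scheme.{u}) [Y.Over (Spec (CommRingCat.of k))] [IsIntegral Y] [IsProper (Y ↘ (Spec (CommRingCat.of k)))] [Smooth (Y ↘ (Spec (CommRingCat.of k)))] (hdimY : topologicalKrullDim Y = 1)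
    (f : X ⟶ Y) [IsFinite f] (hf : f ≫ (Y ↘ (Spec (CommRingCat.of k))) = (X ↘ (Spec (CommRingCat.of k))))
    (e : f (genericPoint X) = genericPoint Y)
    (hg : Curv2.genus k X = Curv2.genus k Y) (h2 : 2 ≤ Curv2.genus k Y) :
    letI := ((Y.presheaf.stalkSpecializes (specializes_of_eq e) ≫ f.stalkMap (genericPoint X)).hom).toAlgebra
    Algebra.IsSeparable Y.functionField X.functionField → IsIso f := by
  letI := ((Y.presheaf.stalkSpecializes (specializes_of_eq e) ≫ f.stalkMap (genericPoint X)).hom).toAlgebra
  intro hsep
  haveI := GrothLib.CurveRR.regCurve_of_smooth (X ↘ Spec (CommRingCat.of k)) hdimX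
  haveI := GrothLib.CurveRR.regCurve_of_smooth (Y ↘ Spec (CommRingCat.of k)) hdimY
  haveI : IsLocallyNoetherian Y := LocallyOfFiniteType.isLocallyNoetherian (Y ↘ Spec (CommRingCat.of k))
  obtain ⟨d, -, hmain, -⟩ := GrothLib.CurveMult.Hurwitz.exists_different k e hf hsep
  haveI : FiniteDimensional Y.functionField X.functionField := GrothLib.CurveMult.Hurwitz.finiteDimensional k e hf
  have hnn : 0 ≤ ∑ᶠ x : GrothLib.CurveRR.CP X, (d x : ℤ) *
      (letI := Curv2.resAlgebra k X x.1; (Module.finrank k (X.residueField x.1) : ℤ)) :=
    finsum_nonneg fun x => mul_nonneg (Int.natCast_nonneg _) (Int.natCast_nonneg _)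
  have hχ : ∀ (Z : Scheme.{u}) [Z.Over (Spec (CommRingCat.of k))] [IsIntegral Z]
      [IsProper (Z ↘ Spec (CommRingCat.of k))], topologicalKrullDim Z = 1 →
      Curv2.euler k Z (Coh.structureModule Z) = 1 - (Curv2.genus k Z : ℤ) := by
    intro Z _ _ _ hd
    rw [GrothLib.Euler.euler_structure k hd.le, GrothLib.CurveRR.finrank_H0_structure_eq_one k]
    rfl
  rw [hχ X hdimX, hχ Y hdimY, hg] at hmain
  set n := Module.finrank Y.functionField X.functionField with hn
  have hn0 : 0 < n := Module.finrank_pos
  have h2' : (2 : ℤ) ≤ (Curv2.genus k Y : ℤ) := by exact_mod_cast h2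
  have hn1 : n = 1 := by
    by_contra hne
    have h3 : (2 : ℤ) ≤ (n : ℤ) := by exact_mod_cast (show 2 ≤ n by omega)
    nlinarith
  haveI : LocallyOfFinitePresentation f := by
    haveI : LocallyOfFiniteType f := inferInstance
    infer_instance
  have hbij : Function.Bijective (algebraMap Y.functionField X.functionField) :=
    ⟨RingHom.injective _, fun z => by
      obtain ⟨c, hc⟩ := (finrank_eq_one_iff_of_nonzero' (1 : X.functionField) one_ne_zero).1 hn1 z
      exact ⟨c, (Algebra.algebraMap_eq_smul_one c).trans hc⟩⟩
  have hN : ∀ y : Y, IsIntegrallyClosed (Y.presheaf.stalk y) := fun y => by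
    by_cases hy : y = genericPoint Y
    · subst hy
      exact inferInstanceAs (IsIntegrallyClosed Y.functionField)
    · haveI := GrothLib.CurveRR.dvrStalk (⟨y, hy⟩ : GrothLib.CurveRR.CP Y)
      infer_instance
  haveI : X.IsSeparated := ⟨by
    rw [show terminal.from X = (X ↘ Spec (CommRingCat.of k)) ≫ terminal.from _ from terminal.hom_ext _ _]
    infer_instance⟩
  refine GrothLib.CurvePoints.isIso_of_birational_of_universallyClosed hdimX.le hdimY.le hN f e ?_
  have hiso : Function.Bijective (Y.presheaf.stalkSpecializes (specializes_of_eq e)).hom :=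
    ConcreteCategory.bijective_of_isIso (TopCat.Presheaf.stalkCongr Y.presheaf (Inseparable.of_eq e).symm).hom
  exact (Function.Bijective.of_comp_iff _ hiso).1 hbij

end Groth.Agent.S14513
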