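import Groth.Statements.S14514
import Groth.Agent.Lib.AffDom.FibreDim

set_option autoImplicit false
universe u
open CategoryTheory CategoryTheory.Limits AlgebraicGeometry
open Variety

namespace Groth.Agent.S14514

/-- Let k be an algebraically closed field and f : X → Y a morphism of algebraic varieties over k (X, Y
reduced, separated and of finite type over k) such that Y is irreducible and the image f(X) is dense
in Y. Then X contains an irreducible closed subset Z with dim Z = dim Y such that f(Z) is dense in
Y. -/
theorem result (k : Type u) [Field k] [IsAlgClosed k]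
    (X Y : Scheme.{u}) [X.Over (Spec (CommRingCat.of k))] [Y.Over (Spec (CommRingCat.of k))]
    [IsReduced X] [IsSeparated (X ↘ (Spec (CommRingCat.of k)))] [LocallyOfFiniteType (X ↘ (Spec (CommRingCat.of k)))] [QuasiCompact (X ↘ (Spec (CommRingCat.of k)))]
    [IsReduced Y] [IsSeparated (Y ↘ (Spec (CommRingCat.of k)))] [LocallyOfFiniteType (Y ↘ (Spec (CommRingCat.of k)))] [QuasiCompact (Y ↘ (Spec (CommRingCat.of k)))] [IrreducibleSpace Y]
    (f : X ⟶ Y) (hf : f ≫ (Y ↘ (Spec (CommRingCat.of k))) = (X ↘ (Spec (CommRingCat.of k)))) [IsDominant f] :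
    ∃ Z : Set X, IsClosed Z ∧ IsIrreducible Z ∧ topologicalKrullDim ↥Z = topologicalKrullDim Y ∧
      Dense (f '' Z) := by
  have hfl : LocallyOfFiniteType f := by
    have : LocallyOfFiniteType (f ≫ (Y ↘ Spec (CommRingCat.of k))) := by rw [hf]; infer_instance
    exact locallyOfFiniteType_of_comp f (Y ↘ Spec (CommRingCat.of k))
  have : CompactSpace X := QuasiCompact.compactSpace_of_compactSpace (X ↘ Spec (CommRingCat.of k))
  have hln : IsLocallyNoetherian X := LocallyOfFiniteType.isLocallyNoetherian (X ↘ Spec (CommRingCat.of k))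
  have : AlgebraicGeometry.IsNoetherian X := { }
  have hfin := finite_irreducibleComponents_of_isNoetherian (X := X)
  let η := genericPoint Y
  have hη : ∃ x, f x = η := by
    have hsub : Set.range f ⊆ ⋃ Z ∈ irreducibleComponents X, closure (f '' Z) := by
      rintro _ ⟨x, rfl⟩
      obtain ⟨Z, hZ, hxZ⟩ := exists_mem_irreducibleComponents_subset_of_isIrreducible {x} isIrreducible_singleton
      exact Set.mem_biUnion hZ (subset_closure ⟨x, hxZ rfl, rfl⟩)
    have hcl : IsClosed (⋃ Z ∈ irreducibleComponents X, closure (f '' Z)) :=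
      hfin.isClosed_biUnion fun Z _ => isClosed_closure
    have hall := closure_minimal hsub hcl
    rw [f.denseRange.closure_range] at hall
    obtain ⟨Z, hZ, hηZ⟩ := Set.mem_iUnion₂.1 (hall (Set.mem_univ η))
    have hg := hZ.1.isGenericPoint_genericPoint (isClosed_of_mem_irreducibleComponents Z hZ)
    refine ⟨hZ.1.genericPoint, ?_⟩
    have h1 : f hZ.1.genericPoint ⤳ η := by
      refine specializes_iff_mem_closure.2 ?_
      refine closure_minimal ?_ isClosed_closure hηZ
      rintro _ ⟨z, hz, rfl⟩
      exact ((hg.specializes hz).map f.continuous).mem_closure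
    exact (h1.antisymm (genericPoint_specializes (f hZ.1.genericPoint))).eq
  obtain ⟨x₀, hx₀⟩ := hη
  have : QuasiCompact f := by
    have : QuasiCompact (f ≫ (Y ↘ Spec (CommRingCat.of k))) := by rw [hf]; infer_instance
    exact QuasiCompact.of_comp f (Y ↘ Spec (CommRingCat.of k))
  have hgf : LocallyOfFiniteType (f.fiberToSpecResidueField η) :=
    MorphismProperty.pullback_snd f (Y.fromSpecResidueField η) hfl
  have : CompactSpace (f.fiber η) := QuasiCompact.compactSpace_of_compactSpace (f.fiberToSpecResidueField η)
  have : Nonempty (f.fiber η) := ⟨(f.fiberHomeo η).symm ⟨x₀, hx₀⟩⟩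
  obtain ⟨z, -, hz⟩ := (isClosed_univ (X := f.fiber η)).exists_closed_singleton Set.univ_nonempty
  let w := f.fiberι η z
  have hw : f w = η := (f.fiberHomeo η z).2
  refine ⟨closure {w}, isClosed_closure, isIrreducible_singleton.closure, ?_, ?_⟩
  · have h := GrothLib.AffDom.ptDim_fiberι f (Y ↘ Spec (CommRingCat.of k)) η z
    rw [GrothLib.AffDom.ptDim_closedPoint hz, add_zero] at h
    refine h.trans ?_
    refine le_antisymm (GrothLib.AffDom.ptDim_le η) ?_
    rw [GrothLib.AffDom.topologicalKrullDim_eq_iSup_ptDim]
    exact iSup_le fun y => GrothLib.AffDom.ptDim_mono (genericPoint_specializes y)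
  · refine Dense.mono (Set.image_mono (Set.singleton_subset_iff.2 (subset_closure (Set.mem_singleton w)))) ?_
    rw [Set.image_singleton, hw]
    exact dense_iff_closure_eq.2 (genericPoint_spec Y).def

end Groth.Agent.S14514
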