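import Groth.Statements.S14515
import Groth.Agent.Lib.Birat.Purity
import Groth.Agent.Lib.Birat.NormalPoint
import Groth.Agent.Lib.FibRank10.Flat
import Groth.Agent.Lib.WeilExt.Extend
import Groth.Agent.Lib.AlgMisc.GeomRegAt
import Groth.Agent.Lib.RegUFD.Basic

set_option autoImplicit false
universe u
open CategoryTheory CategoryTheory.Limits AlgebraicGeometry
open Variety

namespace Groth.Agent.S14515

/-- Let k be an algebraically closed field and f : X → Y a proper, birational morphism over k between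
smooth, irreducible varieties (X, Y integral, separated, of finite type and smooth over k; f
restricts to an isomorphism over some nonempty open subset of Y). Let Exc(f) ⊆ X be the exceptional
locus: the points x such that f restricts to an isomorphism over no open neighbourhood of f(x). Then
Exc(f) has pure codimension one: every irreducible component of Exc(f) has dimension dim X − 1. -/
theorem result (k : Type u) [Field k] [IsAlgClosed k]
    (X Y : Scheme.{u}) [X.Over (Spec (CommRingCat.of k))] [Y.Over (Spec (CommRingCat.of k))]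
    [IsIntegral X] [IsSeparated (X ↘ (Spec (CommRingCat.of k)))] [LocallyOfFiniteType (X ↘ (Spec (CommRingCat.of k)))] [QuasiCompact (X ↘ (Spec (CommRingCat.of k)))] [Smooth (X ↘ (Spec (CommRingCat.of k)))]
    [IsIntegral Y] [IsSeparated (Y ↘ (Spec (CommRingCat.of k)))] [LocallyOfFiniteType (Y ↘ (Spec (CommRingCat.of k)))] [QuasiCompact (Y ↘ (Spec (CommRingCat.of k)))] [Smooth (Y ↘ (Spec (CommRingCat.of k)))]
    (f : X ⟶ Y) (hf : f ≫ (Y ↘ (Spec (CommRingCat.of k))) = (X ↘ (Spec (CommRingCat.of k)))) [IsProper f]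
    (hbir : ∃ V : Y.Opens, (V : Set Y).Nonempty ∧ IsIso (f ∣_ V)) :
    ∀ Z ∈ irreducibleComponents ↥{x : X | ∀ V : Y.Opens, f x ∈ V → ¬ IsIso (f ∣_ V)},
      topologicalKrullDim ↥Z + 1 = topologicalKrullDim X := by
  intro Z hZ
  haveI : IsLocallyNoetherian X := LocallyOfFiniteType.isLocallyNoetherian (X ↘ Spec (CommRingCat.of k))
  have hreg : ∀ y : Y, IsRegularLocalRing (Y.presheaf.stalk y) := fun y =>
    GrothLib.WeilExt.isRegularLocalRing_stalk_of_smooth (Y ↘ Spec (CommRingCat.of k))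
      (Lib.AlgMisc.GeomRegAt.isRegularLocalRing_stalk_Spec_field k) y
  have hY : ∀ y : Y, UniqueFactorizationMonoid (Y.presheaf.stalk y) := fun y => by
    haveI := hreg y
    exact GrothLib.RegUFD.ufd_of_isRegularLocalRing _
  obtain ⟨V, hVne, hViso⟩ := hbir
  have hsurj : Function.Surjective (f ∣_ V).base := (f ∣_ V).homeomorph.surjective
  have hW : (f ⁻¹ᵁ V : Set X).Nonempty := by
    obtain ⟨⟨z, hz⟩, -⟩ := hsurj ⟨_, hVne.some_mem⟩
    exact ⟨z, hz⟩
  have hi : IsOpenImmersion ((f ⁻¹ᵁ V).ι ≫ f) := by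
    rw [← morphismRestrict_ι]
    infer_instance
  obtain ⟨e, hb⟩ := GrothLib.Birat.birational_of_openImmersion f ⟨_, hW, hi⟩
  have hgen : genericPoint X ∈ GrothLib.Birat.isoNhdLocus f :=
    ⟨_, GrothLib.Birat.genericPoint_mem hW, hi⟩
  have hexc : {x : X | ∀ V : Y.Opens, f x ∈ V → ¬ IsIso (f ∣_ V)} = (GrothLib.Birat.isoNhdLocus f)ᶜ := by
    ext x
    constructor
    · intro hx hmem
      haveI := hY (f x)
      have hbij := GrothLib.Birat.bijective_stalkMap_of_mem f hmem
      obtain ⟨D, hD, hDiso⟩ := GrothLib.Birat.exists_isIso_morphismRestrict f e hb x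
        (RingHom.QuasiFinite.of_finite (RingHom.Finite.of_surjective _ hbij.2))
      exact hx D hD hDiso
    · intro hx D hD hDiso
      refine hx ⟨f ⁻¹ᵁ D, hD, ?_⟩
      rw [← morphismRestrict_ι]
      infer_instance
  have hcl : IsClosed {x : X | ∀ V : Y.Opens, f x ∈ V → ¬ IsIso (f ∣_ V)} := by
    rw [hexc]
    exact (GrothLib.Birat.isOpen_isoNhdLocus f).isClosed_compl
  have hZ' : IsClosed (Subtype.val '' Z) :=
    hcl.isClosedMap_subtype_val _ (isClosed_of_mem_irreducibleComponents Z hZ)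
  obtain ⟨ξ, hξ⟩ := QuasiSober.sober (hZ.1.image _ continuous_subtype_val.continuousOn) hZ'
  obtain ⟨z₀, hz₀Z, hz₀⟩ := hξ.mem
  have hξN : ξ ∉ GrothLib.Birat.isoNhdLocus f := hexc.le (hz₀ ▸ z₀.2)
  have hmax : ∀ η, η ∉ GrothLib.Birat.isoNhdLocus f → η ⤳ ξ → η = ξ := fun η hη hs => by
    have h1 : Z ⊆ closure {(⟨η, hexc.ge hη⟩ : {x : X | ∀ V : Y.Opens, f x ∈ V → ¬ IsIso (f ∣_ V)})} :=
      fun z hz => by
        rw [← specializes_iff_mem_closure, subtype_specializes_iff]
        exact hs.trans (hξ.specializes ⟨z, hz, rfl⟩)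
    have h2 := hZ.2 isIrreducible_singleton.closure h1
    exact (hs.antisymm (hξ.specializes ⟨_, h2 (subset_closure rfl), rfl⟩)).eq
  have hdim1 := GrothLib.Birat.purity f hY e hb hgen ξ hξN hmax
  obtain ⟨_, ⟨U, hU, rfl⟩, hξU, -⟩ :=
    X.isBasis_affineOpens.exists_subset_of_mem_open (Set.mem_univ ξ) isOpen_univ
  have h := GrothLib.FibRank10.ptDim_add_dim_stalk (X ↘ Spec (CommRingCat.of k)) hU
    (hU.primeIdealOf ⟨ξ, hξU⟩)
  rw [hU.fromSpec_primeIdealOf] at h
  haveI := hU.isLocalization_stalk ⟨ξ, hξU⟩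
  letI := TopCat.Presheaf.algebra_section_stalk X.presheaf (⟨ξ, hξU⟩ : U)
  have hh : ((hU.primeIdealOf ⟨ξ, hξU⟩).asIdeal.height : WithBot ℕ∞) = 1 := by
    rw [← IsLocalization.AtPrime.ringKrullDim_eq_height (hU.primeIdealOf ⟨ξ, hξU⟩).asIdeal
      (X.presheaf.stalk ξ)]
    exact hdim1
  rw [hh, add_comm] at h
  rw [← h]
  congr 1
  show topologicalKrullDim ↥Z = topologicalKrullDim (closure ({ξ} : Set X))
  rw [hξ.def]
  exact (Topology.IsEmbedding.subtypeVal.homeomorphImage Z).isHomeomorph.topologicalKrullDim_eq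

end Groth.Agent.S14515
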