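import Groth.Statements.S14518
import Groth.Agent.Lib.LinAlg.HopfBound
import Groth.Agent.Lib.VA.Tensor
import Groth.Agent.Lib.Ref1.Tensor
import Groth.Agent.Lib.CurveRR.Dual
import Groth.Agent.Lib.ProjCoh.Generic
import Groth.Agent.Lib.Euler.Basic
import Groth.Agent.Lib.Euler.Coh

set_option autoImplicit false
universe u
open CategoryTheory CategoryTheory.Limits AlgebraicGeometry
open Variety

namespace Groth.Agent.S14518

/-- Let k be an algebraically closed field, X an irreducible variety over k, taken here complete (X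
integral and proper over k, so that spaces of global sections are finite-dimensional), and E_1, E_2
vector bundles (finite locally free O_X-modules) on X with H^0(X, E_1) ≠ 0 and H^0(X, E_2) ≠ 0. Then
dim_k H^0(X, E_1 ⊗ E_2) ≥ dim_k H^0(X, E_1) + dim_k H^0(X, E_2) − 1. (The published statement allows
any irreducible variety; for non-complete X the spaces of sections may be infinite-dimensional and
the inequality carries no content, so X is taken complete here.) -/
theorem result (k : Type u) [Field k] [IsAlgClosed k]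
    (X : Scheme.{u}) [X.Over (Spec (CommRingCat.of k))] [IsIntegral X] [IsProper (X ↘ (Spec (CommRingCat.of k)))]
    (E₁ E₂ : X.Modules) (h₁ : FlatMod.IsFinLocFree E₁) (h₂ : FlatMod.IsFinLocFree E₂)
    [Nontrivial (Coh.HH X E₁ 0)] [Nontrivial (Coh.HH X E₂ 0)] :
    Module.finrank k (Coh.HH X E₁ 0) + Module.finrank k (Coh.HH X E₂ 0) ≤
      Module.finrank k (Coh.HH X (CohB1.tensorMod E₁ E₂) 0) + 1 := by
  open GrothLib.VA in
  open GrothLib in
  classical
  haveI := GrothLib.Euler.isNoetherian_of_proper (X := X) k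
  haveI := GrothLib.Euler.finiteDimensional_HH k (GrothLib.Euler.isCoh_of_isFinLocFree h₁) 0
  haveI := GrothLib.Euler.finiteDimensional_HH k (GrothLib.Euler.isCoh_of_isFinLocFree h₂) 0
  haveI : FiniteDimensional k (Coh.HH X (CohB1.tensorMod E₁ E₂) 0) :=
    GrothLib.Euler.finiteDimensional_HH k (GrothLib.Euler.isCoh_of_isFinLocFree (GrothLib.OX.isFinLocFree_tensor h₁ h₂)) 0
  let e₁ := GrothLib.ProjCoh.H0top E₁
  let e₂ := GrothLib.ProjCoh.H0top E₂
  let e := GrothLib.ProjCoh.H0top (CohB1.tensorMod E₁ E₂)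
  let f : Coh.HH X E₁ 0 →ₗ[k] Coh.HH X E₂ 0 →ₗ[k] Coh.HH X (CohB1.tensorMod E₁ E₂) 0 :=
    LinearMap.mk₂ k (fun a b => e.symm (GrothLib.VA.tm (e₁ a) (e₂ b)))
      (fun a a' b => by rw [map_add, GrothLib.VA.tm_add_left, map_add])
      (fun c a b => e.injective (by
        simp only [e, e₁, GrothLib.ProjCoh.H0top_smul, AddEquiv.apply_symm_apply, GrothLib.VA.tm_smul_left]))
      (fun a b b' => by rw [map_add, GrothLib.VA.tm_add_right, map_add])
      (fun c a b => e.injective (by
        simp only [e, e₂, GrothLib.ProjCoh.H0top_smul, AddEquiv.apply_symm_apply, GrothLib.VA.tm_smul_right]))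
  refine GrothLib.HopfBound.finrank_add_le f fun a b hab => ?_
  have h0 : GrothLib.VA.tm (e₁ a) (e₂ b) = 0 := e.symm.injective (hab.trans (map_zero _).symm)
  let η := genericPoint X
  have hη : η ∈ (⊤ : X.Opens) := trivial
  have hg := congrArg ((CohB1.tensorMod E₁ E₂).presheaf.germ ⊤ η hη) h0
  rw [map_zero] at hg
  have hg' : GrothLib.Ref1.tmulStalk E₁ E₂ η (E₁.presheaf.germ ⊤ η hη (e₁ a)) (E₂.presheaf.germ ⊤ η hη (e₂ b)) = 0 :=
    (GrothLib.Ref1.germ_tmul E₁ E₂ hη (e₁ a) (e₂ b)).symm.trans hg
  have hg'' := congrArg (GrothLib.Ref1.tensorStalk E₁ E₂ η) hg'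
  rw [GrothLib.Ref1.tensorStalk_tmulStalk, map_zero] at hg''
  letI : Field (X.presheaf.stalk η) := inferInstanceAs (Field X.functionField)
  have hor : E₁.presheaf.germ ⊤ η hη (e₁ a) = 0 ∨ E₂.presheaf.germ ⊤ η hη (e₂ b) = 0 := by
    by_contra hne
    push Not at hne
    haveI : Module.Projective (X.presheaf.stalk η) (E₁.presheaf.stalk η) :=
      haveI : Module.Free (X.presheaf.stalk η) (E₁.presheaf.stalk η) := Module.Free.of_divisionRing _ _
      inferInstance
    haveI : Module.Projective (X.presheaf.stalk η) (E₂.presheaf.stalk η) :=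
      haveI : Module.Free (X.presheaf.stalk η) (E₂.presheaf.stalk η) := Module.Free.of_divisionRing _ _
      inferInstance
    obtain ⟨p, hp⟩ := Module.Projective.exists_dual_eq_one (X.presheaf.stalk η) hne.1
    obtain ⟨q, hq⟩ := Module.Projective.exists_dual_eq_one (X.presheaf.stalk η) hne.2
    have := congrArg ((TensorProduct.lid _ _).toLinearMap ∘ₗ TensorProduct.map p q) hg''
    rw [map_zero, LinearMap.comp_apply, LinearEquiv.coe_coe, TensorProduct.map_tmul, hp, hq,
      TensorProduct.lid_tmul, one_smul] at this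
    exact one_ne_zero this
  rcases hor with h | h
  · exact Or.inl (e₁.injective ((GrothLib.CurveRR.germ_generic_injective h₁ hη (h.trans (map_zero _).symm)).trans (map_zero _).symm))
  · exact Or.inr (e₂.injective ((GrothLib.CurveRR.germ_generic_injective h₂ hη (h.trans (map_zero _).symm)).trans (map_zero _).symm))

end Groth.Agent.S14518
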