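import Groth.Statements.S14519
import Groth.Agent.Lib.CurvePoints.Birational
import Groth.Agent.Lib.GrpSchField.SmoothRegular
import Groth.Agent.Lib.RegLoc.Normal

set_option autoImplicit false
universe u
open CategoryTheory CategoryTheory.Limits AlgebraicGeometry
open Curves

namespace Groth.Agent.S14519

/-- Let k be an algebraically closed field and f : X → Y a birational morphism over k between smooth
curves (X, Y integral, separated, of finite type and smooth over k, of dimension one; f sends the
generic point of X to that of Y and the induced map of function fields K(Y) → K(X) is bijective).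
Then f is an open immersion. -/
theorem result (k : Type u) [Field k] [IsAlgClosed k]
    (X Y : Scheme.{u}) [X.Over (Spec (CommRingCat.of k))] [Y.Over (Spec (CommRingCat.of k))]
    [IsIntegral X] [IsSeparated (X ↘ (Spec (CommRingCat.of k)))] [LocallyOfFiniteType (X ↘ (Spec (CommRingCat.of k)))] [QuasiCompact (X ↘ (Spec (CommRingCat.of k)))] [Smooth (X ↘ (Spec (CommRingCat.of k)))] (hdimX : topologicalKrullDim X = 1)
    [IsIntegral Y] [IsSeparated (Y ↘ (Spec (CommRingCat.of k)))] [LocallyOfFiniteType (Y ↘ (Spec (CommRingCat.of k)))] [QuasiCompact (Y ↘ (Spec (CommRingCat.of k)))] [Smooth (Y ↘ (Spec (CommRingCat.of k)))] (hdimY : topologicalKrullDim Y = 1)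
    (f : X ⟶ Y) (hf : f ≫ (Y ↘ (Spec (CommRingCat.of k))) = (X ↘ (Spec (CommRingCat.of k))))
    (e : f (genericPoint X) = genericPoint Y)
    (hbir : Function.Bijective (Y.presheaf.stalkSpecializes (specializes_of_eq e) ≫ f.stalkMap (genericPoint X)).hom) :
    IsOpenImmersion f := by
  have : IsLocallyNoetherian Y := LocallyOfFiniteType.isLocallyNoetherian (Y ↘ (Spec (CommRingCat.of k)))
  have : LocallyOfFiniteType (f ≫ (Y ↘ (Spec (CommRingCat.of k)))) := hf ▸ inferInstance
  have : LocallyOfFiniteType f := locallyOfFiniteType_of_comp f (Y ↘ (Spec (CommRingCat.of k)))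
  have : LocallyOfFinitePresentation f := inferInstance
  have : X.IsSeparated := by
    constructor
    rw [← CategoryTheory.Limits.terminal.comp_from (X ↘ (Spec (CommRingCat.of k)))]
    infer_instance
  have hN : ∀ y : Y, IsIntegrallyClosed (Y.presheaf.stalk y) := by
    intro y
    by_cases hy : y = genericPoint Y
    · subst hy
      exact (inferInstance : IsIntegrallyClosed Y.functionField)
    · have := GrothLib.GrpSchField.isRegularLocalRing_stalk_of_smooth (Y ↘ (Spec (CommRingCat.of k)))
        (GrothLib.CurvePoints.isClosed_singleton hdimY.le hy)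
      exact GrothLib.RegLoc.isIntegrallyClosed_of_isRegularLocalRing _
  exact GrothLib.CurvePoints.isOpenImmersion_of_birational hdimX.le hdimY.le hN f e
    (GrothLib.CurvePoints.stalkSpecializes_comp_bijective e _ hbir)

end Groth.Agent.S14519
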