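import Groth.Statements.S1452
import Groth.Agent.Lib.Unibranch.Unramified
-- import your own Groth.Agent.* helpers here

set_option autoImplicit false
universe u
open FlatMor

namespace Groth.Agent.S1452

open AlgebraicGeometry CategoryTheory Limits in
/-- Let f : X → Y and g : Y → Z with Y integral and the local ring of Y at y = f x geometrically
unibranch; assume g ∘ f is étale on an open neighbourhood of x and some generization of x maps to
the generic point of Y. Then f is étale on an open neighbourhood of x and g is étale on an open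
neighbourhood of y. -/
theorem result {X Y Z : Scheme.{u}} (f : X ⟶ Y) (g : Y ⟶ Z) [IsIntegral Y] (x : X)
    (hY : CAlg2.IsGeomUnibranch (Y.presheaf.stalk (f x))) (het : ∃ U : X.Opens, x ∈ U ∧ Etale (U.ι ≫ f ≫ g))
    (hsp : ∃ x' : X, x' ⤳ x ∧ f x' = genericPoint ↑Y) :
    (∃ U : X.Opens, x ∈ U ∧ Etale (U.ι ≫ f)) ∧ ∃ V : Y.Opens, f x ∈ V ∧ Etale (V.ι ≫ g) := by
  exact GrothLib.Unibranch.etaleAt_of_comp_etaleAt f g x hY het hsp

end Groth.Agent.S1452
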