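import Groth.Statements.S14520
import Groth.Agent.Lib.PlaneBlow28.StrictGenus

set_option autoImplicit false
universe u
open CategoryTheory CategoryTheory.Limits AlgebraicGeometry
open Surf

namespace Groth.Agent.S14520

/-- Let k be an algebraically closed field, X a smooth projective surface over k (integral, smooth over
k, of dimension two, with a closed immersion over k into some projective space), P a closed point of
X with ideal m_P, f : X' → X the blow-up of X at P (universal property), and C ⊆ X a curve (an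
integral closed subscheme of dimension one, closed immersion j) of multiplicity m = ord_P(C) at P:
the ideal of C is contained in m_P^m and not in m_P^{m+1}. Let C' ⊆ X' be the strict transform of C:
an integral closed subscheme of dimension one (closed immersion j') whose generic point is mapped by
f to the generic point of C. Then p_a(C') = p_a(C) − m(m−1)/2, written 2 p_a(C') + m(m−1) = 2 p_a(C)
with p_a = dim_k H^1(O). -/
theorem result (k : Type u) [Field k] [IsAlgClosed k]
    (X : Scheme.{u}) [X.Over (Spec (CommRingCat.of k))] [IsIntegral X] [Smooth (X ↘ (Spec (CommRingCat.of k)))] (hdim : topologicalKrullDim X = 2)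
    (hprojX : ∃ (N : ℕ) (ι : X ⟶ CohB1.ProjSpace N k), IsClosedImmersion ι ∧ ι ≫ CohB1.ProjSpace.toSpec N k = (X ↘ (Spec (CommRingCat.of k))))
    (P : X) (hP : IsClosed ({P} : Set X))
    (X' : Scheme.{u}) (f : X' ⟶ X) (hf : BlowUp.IsBlowUp f (Scheme.IdealSheafData.vanishingIdeal ⟨{P}, hP⟩))
    (C : Scheme.{u}) [C.Over (Spec (CommRingCat.of k))] [IsIntegral C] (hdimC : topologicalKrullDim C = 1)
    (j : C ⟶ X) [IsClosedImmersion j] (hj : j ≫ (X ↘ (Spec (CommRingCat.of k))) = (C ↘ (Spec (CommRingCat.of k))))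
    (m : ℕ) (hm : j.ker ≤ Scheme.IdealSheafData.vanishingIdeal ⟨{P}, hP⟩ ^ m)
    (hm' : ¬ j.ker ≤ Scheme.IdealSheafData.vanishingIdeal ⟨{P}, hP⟩ ^ (m + 1))
    (C' : Scheme.{u}) [C'.Over (Spec (CommRingCat.of k))] [IsIntegral C'] (hdimC' : topologicalKrullDim C' = 1)
    (j' : C' ⟶ X') [IsClosedImmersion j'] (hj' : j' ≫ f ≫ (X ↘ (Spec (CommRingCat.of k))) = (C' ↘ (Spec (CommRingCat.of k))))
    (hgen : f (j' (genericPoint C')) = j (genericPoint C)) :
    2 * Curv2.genus k C' + m * (m - 1) = 2 * Curv2.genus k C := by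
  obtain ⟨N, ι, hι, hιf⟩ := hprojX
  haveI := hι
  haveI : IsProper (CohB1.ProjSpace.toSpec N k) := GrothLib.Chow.isProper_toSpec N k
  haveI : IsProper (X ↘ (Spec (CommRingCat.of k))) := hιf ▸ inferInstance
  letI : X'.Over (Spec (CommRingCat.of k)) := ⟨f ≫ (X ↘ (Spec (CommRingCat.of k)))⟩
  have hdim2 : topologicalKrullDim X = ((2 : ℕ) : WithBot ℕ∞) := hdim
  obtain ⟨hint, hnoeth, hfp, -⟩ := GrothLib.PlaneBlow28.blow_setup k hdim2 hP hf
  haveI : IsProper (X' ↘ (Spec (CommRingCat.of k))) := inferInstanceAs (IsProper (f ≫ (X ↘ (Spec (CommRingCat.of k)))))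
  haveI := GrothLib.Euler.isNoetherian_of_proper (X := X) k
  obtain ⟨hi, hg, hd⟩ := GrothLib.PlaneBlow28.ker_curve j
  obtain ⟨hi', hg', -⟩ := GrothLib.PlaneBlow28.ker_curve j'
  have hgen' : (haveI := hi; haveI := hi'; f (GrothLib.DivPart.gpt j'.ker) = GrothLib.DivPart.gpt j.ker) := by
    rw [hg, hg', hgen]
  obtain ⟨hI, hI', hcls⟩ := GrothLib.PlaneBlow28.strict_cls k hdim2 hP hf hi (hd hdimC) hi' hgen' m hm hm'
  obtain ⟨hE, key, -, -, -⟩ := GrothLib.BlowPt28.main k (GrothLib.HodgeIndex.regular_of_smooth k (X := X)) hP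
    (GrothLib.PlaneBlow28.dim_stalk_pt k hdim2 hP) hf rfl
  have hk := key (GrothLib.Cube.clsMod hI) (-(m : ℤ))
  rw [zpow_neg, zpow_natCast, hcls, mul_inv_cancel_right, GrothLib.BlowPt28.ptDeg_eq_one k hP] at hk
  have hone := key 1 0
  rw [zpow_zero, mul_one, map_one, GrothLib.BlowPt28.ptDeg_eq_one k hP] at hone
  have h1 := GrothLib.PlaneBlow28.chi_sub_ideal k hdimC.le j hj hI
  have h2 := GrothLib.PlaneBlow28.chi_sub_ideal k hdimC'.le j' hj' hI'
  push_cast at hk hone
  rcases Nat.eq_zero_or_pos m with rfl | hm0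
  · simp at hk ⊢
    omega
  · obtain ⟨p, rfl⟩ : ∃ p, m = p + 1 := ⟨m - 1, by omega⟩
    simp only [Nat.add_sub_cancel]
    push_cast at hk
    zify
    linarith

end Groth.Agent.S14520
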