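import Groth.Statements.S14521
import Groth.Agent.Lib.FGAInt26.Basic

set_option autoImplicit false
universe u
open CategoryTheory CategoryTheory.Limits AlgebraicGeometry
open Variety

namespace Groth.Agent.S14521

/-- Let k be an algebraically closed field, X a complete variety over k (reduced and proper over k) of
dimension at most d, L_1, …, L_r line bundles with tensor inverses M_1, …, M_r, and F a coherent
O_X-module whose support has dimension at most r. Let Y_1, …, Y_s be the r-dimensional irreducible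
components of Supp F, with generic points ξ_1, …, ξ_s (given as a finite set s of points: ξ ∈ s iff
ξ ∈ Supp F and the closure of ξ has dimension r), each Y_i with its reduced structure. Then
(L_1⋯L_r; F) = Σ_i length_{O_{X,ξ_i}}(F_{ξ_i}) · (L_1⋯L_r · Y_i), where all intersection numbers are
the alternating Euler-characteristic sums in the M_i (the prelude's FGA.intNum). -/
theorem result (k : Type u) [Field k] [IsAlgClosed k]
    (X : Scheme.{u}) [X.Over (Spec (CommRingCat.of k))] [IsReduced X] [IsProper (X ↘ (Spec (CommRingCat.of k)))] (d : ℕ) (hd : topologicalKrullDim X ≤ d)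
    {r : ℕ} (M : Fin r → X.Modules) (hM : ∀ i, PicF.IsInvertible (M i))
    (F : X.Modules) (hF : Coh.IsCoh F) (hsupp : topologicalKrullDim ↥(CohB1.support F) ≤ r)
    (s : Finset X) (hs : ∀ ξ : X, ξ ∈ s ↔ ξ ∈ CohB1.support F ∧ topologicalKrullDim ↥(closure ({ξ} : Set X)) = r) :
    FGA.intNum k X d M F =
      ∑ ξ ∈ s, ((Module.length (X.presheaf.stalk ξ) (F.presheaf.stalk ξ)).toNat : ℤ) *
        FGA.intNum k X d M (ClSub.quotMod (Scheme.IdealSheafData.vanishingIdeal ⟨closure ({ξ} : Set X), isClosed_closure⟩)) := by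
  classical
  haveI := GrothLib.Euler.isNoetherian_of_proper (X := X) k
  have hd' := GrothLib.FGAInt26.dimLT_of_le hsupp
  let z := fun i => GrothLib.Cube.clsMod (hM i)
  let L := fun i => GrothLib.HodgeIndex.rep (z i)
  have hL : ∀ i, PicF.IsInvertible (L i) := fun i => GrothLib.HodgeIndex.isInv_rep _
  have hmem := GrothLib.Snapper.phi_sub_sum_mem k hL hF hd'
  have key : ∀ G : X.Modules, (FGA.intNum k X d M G : ℚ) =
      (-1) ^ r * GrothLib.Snapper.mixed r (GrothLib.Snapper.phi k r L G) := fun G => by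
    rw [GrothLib.FGAInt26.intNum_eq k hd hM]
    exact GrothLib.FGAInt26.cast_del k G z
  have hsum : ∑ᶠ x : X, GrothLib.Snapper.topTerm (GrothLib.Snapper.phi k r L) r F x =
      ∑ ξ ∈ s, GrothLib.Snapper.mult F ξ • GrothLib.Snapper.phi k r L (GrothLib.Snapper.ptMod ξ) := by
    rw [finsum_eq_sum_of_support_subset _ (s := s) (fun x hx => by
      by_contra h
      exact hx (GrothLib.Snapper.topTerm_eq_zero _ fun ht hxF => h ((hs x).2 ⟨hxF, ht⟩)))]
    exact Finset.sum_congr rfl fun ξ hξ => GrothLib.Snapper.topTerm_of _ ((hs ξ).1 hξ).2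
  have h0 := GrothLib.Snapper.mixed_eq_zero hmem
  rw [map_sub, sub_eq_zero, hsum, map_sum] at h0
  have h1 : (FGA.intNum k X d M F : ℚ) = ((∑ ξ ∈ s, ((Module.length (X.presheaf.stalk ξ) (F.presheaf.stalk ξ)).toNat : ℤ) *
      FGA.intNum k X d M (ClSub.quotMod (Scheme.IdealSheafData.vanishingIdeal ⟨closure ({ξ} : Set X), isClosed_closure⟩)) : ℤ) : ℚ) := by
    rw [key F, h0, Finset.mul_sum]
    push_cast
    refine Finset.sum_congr rfl fun ξ _ => ?_
    rw [key, map_nsmul, nsmul_eq_mul]
    show (-1 : ℚ) ^ r * ((GrothLib.Snapper.mult F ξ : ℚ) * _) = _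
    simp only [GrothLib.Snapper.mult]
    ring
  exact_mod_cast h1

end Groth.Agent.S14521
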