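import Groth.Agent.Lib.Birat.NormalPoint
import Groth.Agent.Lib.GenericSmooth.Basic
import Groth.Agent.S1608
import Mathlib

set_option autoImplicit false
universe u
open CategoryTheory CategoryTheory.Limits AlgebraicGeometry

namespace Groth.Agent.S14523

/-- Let k be an algebraically closed field and f : X → Y a proper, birational morphism over k of
irreducible varieties (X, Y integral, separated and of finite type over k; f restricts to an
isomorphism over some nonempty open subset of Y), with Y normal (all local rings integrally closed).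
Let U ⊆ Y be the largest open subset over which f is an isomorphism (the domain of f^{-1}). Then
codim_Y(Y ∖ U) ≥ 2: for every point y of Y whose local ring has Krull dimension at most one, f
restricts to an isomorphism over some open neighbourhood of y. -/
theorem result (k : Type u) [Field k] [IsAlgClosed k]
    (X Y : Scheme.{u}) [X.Over (Spec (CommRingCat.of k))] [Y.Over (Spec (CommRingCat.of k))]
    [IsIntegral X] [IsSeparated (X ↘ (Spec (CommRingCat.of k)))] [LocallyOfFiniteType (X ↘ (Spec (CommRingCat.of k)))] [QuasiCompact (X ↘ (Spec (CommRingCat.of k)))]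
    [IsIntegral Y] [IsSeparated (Y ↘ (Spec (CommRingCat.of k)))] [LocallyOfFiniteType (Y ↘ (Spec (CommRingCat.of k)))] [QuasiCompact (Y ↘ (Spec (CommRingCat.of k)))] (hY : ∀ y : Y, IsIntegrallyClosed (Y.presheaf.stalk y))
    (f : X ⟶ Y) (hf : f ≫ (Y ↘ (Spec (CommRingCat.of k))) = (X ↘ (Spec (CommRingCat.of k)))) [IsProper f]
    (hbir : ∃ V : Y.Opens, (V : Set Y).Nonempty ∧ IsIso (f ∣_ V))
    (y : Y) (hy : ringKrullDim (Y.presheaf.stalk y) ≤ 1) :
    ∃ V : Y.Opens, y ∈ V ∧ IsIso (f ∣_ V) := by
  obtain ⟨V, hV, hiso⟩ := hbir
  haveI : IsLocallyNoetherian Y := LocallyOfFiniteType.isLocallyNoetherian (Y ↘ Spec (CommRingCat.of k))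
  have hηV : genericPoint Y ∈ V := ((genericPoint_spec Y).mem_open_set_iff V.isOpen).2 (by simpa using hV)
  haveI : Surjective (f ∣_ V) := inferInstance
  obtain ⟨w, hw⟩ := (f ∣_ V).surjective (⟨_, hηV⟩ : V)
  have hfw : f w.1 = genericPoint Y := by
    rw [← morphismRestrict_base_coe f V w, hw]
  have hgen : f (genericPoint X) = genericPoint Y := by
    have h1 : genericPoint Y ⤳ f (genericPoint X) := (genericPoint_spec Y).specializes trivial
    have h2 : f (genericPoint X) ⤳ f w.1 :=
      ((genericPoint_spec X).specializes (y := w.1) trivial).map f.base.hom.continuous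
    rw [hfw] at h2
    exact (h2.antisymm h1).eq
  have hbij : Function.Bijective (f.stalkMap (genericPoint X)).hom := by
    have hmem : genericPoint X ∈ f ⁻¹ᵁ V := by
      show f (genericPoint X) ∈ V
      rw [hgen]; exact hηV
    haveI : IsIso ((f ∣_ V).stalkMap ⟨_, hmem⟩) := inferInstance
    haveI : IsIso (f.stalkMap (genericPoint X)) :=
      (MorphismProperty.isomorphisms CommRingCat.{u}).arrow_mk_iso_iff
        (morphismRestrictStalkMap f V ⟨_, hmem⟩) |>.1 ‹_›
    exact ConcreteCategory.bijective_of_isIso _
  obtain ⟨x, hx⟩ : y ∈ Set.range f := by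
    have hcl : closure (Set.range f) = Set.range f := f.isClosedMap.isClosed_range.closure_eq
    rw [← hcl]
    have hsub : ({genericPoint Y} : Set Y) ⊆ Set.range f :=
      Set.singleton_subset_iff.2 ⟨genericPoint X, hgen⟩
    exact closure_mono hsub ((genericPoint_spec Y).specializes (y := y) trivial).mem_closure
  haveI : IsIntegrallyClosed (Y.presheaf.stalk (f x)) := hY (f x)
  haveI : IsNoetherianRing (Y.presheaf.stalk y) := inferInstance
  have hqf : f.QuasiFiniteAt x := by
    refine Groth.Agent.S1608.result f y hy (fun Z hZ η hη => ?_) x hx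
    have hη' : η = genericPoint X := by
      rw [irreducibleComponents_eq_singleton] at hZ
      rw [Set.mem_singleton_iff.1 hZ] at hη
      exact hη.eq (genericPoint_spec X)
    rw [hη']
    exact RingHom.QuasiFinite.of_finite (RingHom.Finite.of_surjective _ hbij.2)
  obtain ⟨D, hD, hDiso⟩ := GrothLib.Birat.exists_isIso_morphismRestrict f hgen hbij x hqf
  exact ⟨D, hx ▸ hD, hDiso⟩

end Groth.Agent.S14523
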