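import Groth.Statements.S14525
import Groth.Agent.Lib.HodgeIndex.H2Vanish
import Groth.Agent.Lib.HodgeIndex.ProjConv
import Groth.Agent.Lib.NefGrowth.IntNum

set_option autoImplicit false
set_option linter.all false
universe u
open CategoryTheory CategoryTheory.Limits AlgebraicGeometry
open Surf

namespace Groth.Agent.S14525

/-- Let k be an algebraically closed field, X a smooth projective surface over k (integral, smooth over
k, of dimension two, with a closed immersion over k into some projective space), L an invertible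
O_X-module with tensor inverse L' such that (L·L) > 0, and M an ample invertible module with tensor
inverse M'; intersection numbers are the alternating Euler-characteristic sums in the inverses (the
prelude's FGA.intNum, so (L·L) is computed in L', L' and (L·M) in L', M'). Then (L·M) ≠ 0; if (L·M)
> 0 there is c > 0 with dim_k H^0(X, L^{⊗m}) > c·m² for all large m, and if (L·M) < 0 the same holds
for L' in place of L. -/
theorem result (k : Type u) [Field k] [IsAlgClosed k]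
    (X : Scheme.{u}) [X.Over (Spec (CommRingCat.of k))] [IsIntegral X] [Smooth (X ↘ (Spec (CommRingCat.of k)))] (hdim : topologicalKrullDim X = 2)
    (hprojX : ∃ (N : ℕ) (ι : X ⟶ CohB1.ProjSpace N k), IsClosedImmersion ι ∧ ι ≫ CohB1.ProjSpace.toSpec N k = (X ↘ (Spec (CommRingCat.of k))))
    (L L' : X.Modules) (hL : PicF.IsInvertible L) (hLL' : ClSub.IsInverseOf L L')
    (hpos : 0 < FGA.intNum k X 2 ![L', L'] (Coh.structureModule X))
    (M M' : X.Modules) (hM : CohB1.IsAmple M) (hMM' : ClSub.IsInverseOf M M') :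
    FGA.intNum k X 2 ![L', M'] (Coh.structureModule X) ≠ 0 ∧
    (0 < FGA.intNum k X 2 ![L', M'] (Coh.structureModule X) →
      ∃ c : ℚ, 0 < c ∧ ∃ m₀ : ℕ, ∀ m : ℕ, m₀ ≤ m →
        c * (m : ℚ) ^ 2 < (Module.finrank k (Coh.HH X (CohB1.tensorPow L m) 0) : ℚ)) ∧
    (FGA.intNum k X 2 ![L', M'] (Coh.structureModule X) < 0 →
      ∃ c : ℚ, 0 < c ∧ ∃ m₀ : ℕ, ∀ m : ℕ, m₀ ≤ m →
        c * (m : ℚ) ^ 2 < (Module.finrank k (Coh.HH X (CohB1.tensorPow L' m) 0) : ℚ)) := by
  obtain ⟨N, ι, hι, hιc⟩ := hprojX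
  haveI := hι
  haveI := GrothLib.HodgeIndex.isProper_of_proj ι hιc
  have hd : topologicalKrullDim X = ((2 : ℕ) : WithBot ℕ∞) := hdim
  obtain ⟨L'i, hLL⟩ : ∃ h : PicF.IsInvertible L', GrothLib.Cube.clsMod h = (GrothLib.Cube.clsMod hL)⁻¹ := by
    obtain ⟨e⟩ := hLL'
    obtain ⟨h, hh⟩ := GrothLib.NefGrowth.cls_inverse hL (T := L') ⟨GrothLib.GrTilde.tensorModComm _ _ ≪≫ e⟩
    exact ⟨h, eq_inv_of_mul_eq_one_left hh⟩
  obtain ⟨M'i, hMM⟩ : ∃ h : PicF.IsInvertible M', GrothLib.Cube.clsMod h = (GrothLib.Cube.clsMod hM.1)⁻¹ := by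
    obtain ⟨e⟩ := hMM'
    obtain ⟨h, hh⟩ := GrothLib.NefGrowth.cls_inverse hM.1 (T := M') ⟨GrothLib.GrTilde.tensorModComm _ _ ≪≫ e⟩
    exact ⟨h, eq_inv_of_mul_eq_one_left hh⟩
  rw [GrothLib.HodgeIndex.intNum_eq_isect k hd.le hM L'i L'i, hLL] at hpos
  rw [GrothLib.HodgeIndex.intNum_eq_isect k hd.le hM L'i M'i, hLL, hMM,
    GrothLib.HodgeIndex.isect_inv_left k hd.le, GrothLib.HodgeIndex.isect_inv_right k hd.le, neg_neg]
  obtain ⟨x, hx⟩ : ∃ x, x = GrothLib.Cube.clsMod hL := ⟨_, rfl⟩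
  rw [← hx] at hpos hLL ⊢
  have hxx : 0 < GrothLib.HodgeIndex.isect k x x := by
    rwa [GrothLib.HodgeIndex.isect_inv_left k hd.le, GrothLib.HodgeIndex.isect_inv_right k hd.le, neg_neg] at hpos
  refine ⟨fun h => (GrothLib.HodgeIndex.hodge k hd hM h).not_gt hxx, fun h => ?_, fun h => ?_⟩
  · obtain ⟨c, hc, m₀, hm⟩ := GrothLib.HodgeIndex.h0_pow_growth k hd hM h hxx
    refine ⟨c, hc, m₀, fun m hmm => ?_⟩
    have h' := hm m hmm
    rwa [← GrothLib.HodgeIndex.hh_rep_eq k (GrothLib.Ample.isInvertible_tensorPow hL m)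
      (by rw [GrothLib.Cube.clsMod_tensorPow hL, ← hx]) 0] at h'
  · obtain ⟨c, hc, m₀, hm⟩ := GrothLib.HodgeIndex.h0_pow_growth k hd hM (x := x⁻¹)
      (by rw [GrothLib.HodgeIndex.isect_inv_left k hd.le]; linarith) hpos
    refine ⟨c, hc, m₀, fun m hmm => ?_⟩
    have h' := hm m hmm
    rwa [← GrothLib.HodgeIndex.hh_rep_eq k (GrothLib.Ample.isInvertible_tensorPow L'i m)
      (by rw [GrothLib.Cube.clsMod_tensorPow L'i, hLL]) 0] at h'

end Groth.Agent.S14525
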