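import Groth.Statements.S1453
import Groth.Agent.Lib.ConnOpen6.Main
-- import your own Groth.Agent.* helpers here

set_option autoImplicit false
universe u
open FlatMor

namespace Groth.Agent.S1453

open AlgebraicGeometry CategoryTheory Limits in
/-- Let f : X → Y be flat and of finite presentation with all fibres geometrically reduced, let Z → Y be
finite locally free with a Y-morphism σ : Z → X, and let y be a point with Z_y nonempty and X_y
geometrically connected. Then there is a quasi-compact open X⁰ of X containing the whole fibre X_y
such that every nonempty fibre of X⁰ → Y is geometrically connected. -/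
theorem result {X Y Z : Scheme.{u}} (f : X ⟶ Y) [Flat f] [LocallyOfFinitePresentation f] [QuasiCompact f] [QuasiSeparated f]
    [GeometricallyReduced f] (g : Z ⟶ Y) (hg : Mor2.IsFinLocFree g) (σ : Z ⟶ X) (hσ : σ ≫ f = g) (y : Y) (hZy : y ∈ Set.range ⇑g)
    (hXy : GeometricallyConnected (f.fiberToSpecResidueField y)) :
    ∃ U : X.Opens, IsCompact (U : Set ↑X) ∧ f ⁻¹' {y} ⊆ (U : Set ↑X) ∧
      ∀ y' : Y, (∃ x ∈ U, f x = y') → GeometricallyConnected ((U.ι ≫ f).fiberToSpecResidueField y') := by
    exact GrothLib.ConnOpen6.exists_open f g σ hσ hg y hZy hXy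

end Groth.Agent.S1453
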