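import Groth.Statements.S14536
import Groth.Agent.Lib.Hopf.PointLift
import Mathlib.AlgebraicGeometry.Group.Affine
-- import your own Groth.Agent.* helpers here

set_option autoImplicit false
universe u
open CategoryTheory MonoidalCategory CartesianMonoidalCategory MonObj GrpObj AlgebraicGeometry
open PrincBund

namespace Groth.Agent.S14536

/-- Let k be an algebraically closed field and h : G → G' a homomorphism of affine group schemes over k
(not necessarily of finite type) which is surjective on underlying spaces. Then h is surjective on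
k-points: every k-point of G' is the image of a k-point of G. -/
theorem result (k : Type u) [Field k] [IsAlgClosed k]
    (G G' : Over (Spec (CommRingCat.of k))) [GrpObj G] [GrpObj G'] [IsAffine G.left] [IsAffine G'.left]
    (h : G ⟶ G') [IsMonHom h] (hs : Surjective h.left) (x : 𝟙_ (Over (Spec (CommRingCat.of k))) ⟶ G') :
    ∃ g : 𝟙_ (Over (Spec (CommRingCat.of k))) ⟶ G, g ≫ h = x := by
  obtain ⟨H₁', ⟨e⟩⟩ := (essImage_hopfSpec (R := CommRingCat.of k) (G := Grp.mk G)).2 ‹IsAffine G.left›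
  obtain ⟨H₁, rfl⟩ : ∃ H, Opposite.op H = H₁' := ⟨H₁'.unop, rfl⟩
  obtain ⟨H₂', ⟨e'⟩⟩ := (essImage_hopfSpec (R := CommRingCat.of k) (G := Grp.mk G')).2 ‹IsAffine G'.left›
  obtain ⟨H₂, rfl⟩ : ∃ H, Opposite.op H = H₂' := ⟨H₂'.unop, rfl⟩
  let hg : Grp.mk G ⟶ Grp.mk G' := Grp.homMk (A := Grp.mk G) (B := Grp.mk G') h
  obtain ⟨f, hf⟩ : ∃ f, (hopfSpec (CommRingCat.of k)).map f = e.hom ≫ hg ≫ e'.inv :=
    ⟨hopfSpec.fullyFaithful.preimage _, hopfSpec.fullyFaithful.map_preimage _⟩
  let φ : (H₂ : Type u) →ₐc[k] (H₁ : Type u) := f.unop.hom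
  let P₁ : Over (Spec (CommRingCat.of k)) := (Spec (CommRingCat.of (H₁ : Type u))).asOver (Spec (CommRingCat.of k))
  let P₂ : Over (Spec (CommRingCat.of k)) := (Spec (CommRingCat.of (H₂ : Type u))).asOver (Spec (CommRingCat.of k))
  let i : P₁ ≅ G := (Grp.forget _).mapIso e
  let i' : P₂ ≅ G' := (Grp.forget _).mapIso e'
  have hm : (Spec.map (CommRingCat.ofHom (φ : (H₂ : Type u) →+* (H₁ : Type u))) :
      Spec (CommRingCat.of (H₁ : Type u)) ⟶ Spec (CommRingCat.of (H₂ : Type u))) =
      i.hom.left ≫ h.left ≫ i'.inv.left :=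
    congrArg (fun q : (hopfSpec (CommRingCat.of k)).obj (Opposite.op H₁) ⟶ (hopfSpec (CommRingCat.of k)).obj (Opposite.op H₂) => q.hom.hom.left) hf
  have : IsIso i.hom.left := (Over.forget _).map_isIso i.hom
  have : IsIso i'.inv.left := (Over.forget _).map_isIso i'.inv
  have hsurj : Surjective (Spec.map (CommRingCat.ofHom (φ : (H₂ : Type u) →+* (H₁ : Type u)))) := by
    rw [hm]
    exact MorphismProperty.comp_mem @Surjective _ _ ⟨(Scheme.homeoOfIso ((Over.forget _).mapIso i)).surjective⟩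
      (MorphismProperty.comp_mem @Surjective _ _ hs ⟨(Scheme.homeoOfIso ((Over.forget _).mapIso i'.symm)).surjective⟩)
  have hker : ∀ a, φ a = 0 → IsNilpotent a := fun a ha => by
    refine mem_nilradical.mp ?_
    rw [nilradical_eq_sInf, Ideal.mem_sInf]
    intro p hp
    obtain ⟨q, hq⟩ := hsurj.surj (⟨p, hp⟩ : PrimeSpectrum (H₂ : Type u))
    have : φ a ∈ (q : PrimeSpectrum (H₁ : Type u)).asIdeal := ha ▸ Ideal.zero_mem _
    rw [show p = Ideal.comap (φ : (H₂ : Type u) →+* (H₁ : Type u)) (q : PrimeSpectrum (H₁ : Type u)).asIdeal from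
      (congrArg PrimeSpectrum.asIdeal hq).symm]
    exact this
  let z := Spec.preimage (R := CommRingCat.of (H₂ : Type u)) (S := CommRingCat.of k) (x ≫ i'.inv).left
  let q : (H₂ : Type u) →ₐ[k] k := AlgHom.mk z.hom fun r => by
    have h1 : Spec.map z ≫ Spec.map (CommRingCat.ofHom (algebraMap k H₂)) = 𝟙 (Spec (CommRingCat.of k)) := by
      rw [Spec.map_preimage]; exact Over.w (x ≫ i'.inv)
    rw [← Spec.map_comp, ← Spec.map_id] at h1
    exact DFunLike.congr_fun (congrArg CommRingCat.Hom.hom (Spec.map_injective h1)) r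
  obtain ⟨g, hg'⟩ := GrothLib.Hopf.PointLift.exists_lift φ hker q
  let g' : 𝟙_ (Over (Spec (CommRingCat.of k))) ⟶ P₁ :=
    Over.homMk (Spec.map (CommRingCat.ofHom g.toRingHom)) (by
      show Spec.map (CommRingCat.ofHom g.toRingHom) ≫ Spec.map (CommRingCat.ofHom (algebraMap k H₁)) = 𝟙 _
      rw [← Spec.map_comp, ← CommRingCat.ofHom_comp,
        show g.toRingHom.comp (algebraMap k (H₁ : Type u)) = RingHom.id k from RingHom.ext fun r => g.commutes r,
        CommRingCat.ofHom_id, Spec.map_id])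
  refine ⟨g' ≫ i.hom, ?_⟩
  rw [← cancel_mono i'.inv]
  ext1
  have h2 : g'.left ≫ Spec.map (CommRingCat.ofHom (φ : (H₂ : Type u) →+* (H₁ : Type u))) = (x ≫ i'.inv).left := by
    show Spec.map _ ≫ Spec.map _ = _
    rw [← Spec.map_comp, ← CommRingCat.ofHom_comp,
      show g.toRingHom.comp (φ : (H₂ : Type u) →+* (H₁ : Type u)) = z.hom from congrArg AlgHom.toRingHom hg']
    exact Spec.map_preimage _
  rw [hm] at h2
  exact ((Category.assoc _ _ _).trans (Category.assoc _ _ _)).trans h2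


end Groth.Agent.S14536
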