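import Groth.Statements.S14537
import Groth.Agent.Lib.Hopf.PointLift
import Mathlib.AlgebraicGeometry.Group.Affine
-- import your own Groth.Agent.* helpers here

set_option autoImplicit false
universe u
open CategoryTheory MonoidalCategory CartesianMonoidalCategory MonObj GrpObj AlgebraicGeometry
open PrincBund

namespace Groth.Agent.S14537

/-- Let k be an algebraically closed field and G an affine group scheme over k, not necessarily of
finite type. Then the set of k-rational points of G is dense in the underlying space of G. -/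
theorem result (k : Type u) [Field k] [IsAlgClosed k]
    (G : Over (Spec (CommRingCat.of k))) [GrpObj G] [IsAffine G.left] :
    Dense {x : ↥G.left | ∃ g : 𝟙_ (Over (Spec (CommRingCat.of k))) ⟶ G, g.left.base (IsLocalRing.closedPoint k) = x} := by
  obtain ⟨H', ⟨e⟩⟩ := (essImage_hopfSpec (R := CommRingCat.of k) (G := Grp.mk G)).2 ‹IsAffine G.left›
  obtain ⟨H, rfl⟩ : ∃ H, Opposite.op H = H' := ⟨H'.unop, rfl⟩
  let P : Over (Spec (CommRingCat.of k)) :=
    (Spec (CommRingCat.of (H : Type u))).asOver (Spec (CommRingCat.of k))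
  let i : P ≅ G := (Grp.forget _).mapIso e
  have hsurj : Function.Surjective i.hom.left := (Scheme.homeoOfIso ((Over.forget _).mapIso i)).surjective
  have hd : Dense (Set.range fun g : (H : Type u) →ₐ[k] k => Spec.map (CommRingCat.ofHom g.toRingHom) (IsLocalRing.closedPoint k)) := by
    refine (PrimeSpectrum.isTopologicalBasis_basic_opens (R := (H : Type u))).dense_iff.mpr ?_
    rintro _ ⟨f, rfl⟩ hne
    have hnil : ¬ IsNilpotent f := fun hf => by
      rw [← PrimeSpectrum.basicOpen_eq_bot_iff] at hf
      simp only [hf] at hne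
      exact hne.ne_empty rfl
    obtain ⟨g, hg⟩ := GrothLib.Hopf.PointLift.exists_point_ne_zero (k := k) hnil
    refine ⟨_, ?_, g, rfl⟩
    intro hmem
    apply hg
    have : g f ∈ IsLocalRing.maximalIdeal k := hmem
    rw [IsLocalRing.maximalIdeal_eq_bot] at this
    exact this
  refine (hsurj.denseRange.dense_image i.hom.left.continuous hd).mono ?_
  rintro _ ⟨_, ⟨g, rfl⟩, rfl⟩
  refine ⟨(Over.homMk (Spec.map (CommRingCat.ofHom g.toRingHom)) (by
    show Spec.map (CommRingCat.ofHom g.toRingHom) ≫ Spec.map (CommRingCat.ofHom (algebraMap k H)) = 𝟙 _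
    rw [← Spec.map_comp, ← CommRingCat.ofHom_comp,
      show g.toRingHom.comp (algebraMap k (H : Type u)) = RingHom.id k from RingHom.ext fun r => g.commutes r,
      CommRingCat.ofHom_id, Spec.map_id]) :
      𝟙_ (Over (Spec (CommRingCat.of k))) ⟶ P) ≫ i.hom, rfl⟩


end Groth.Agent.S14537
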