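import Groth.Statements.S14545
import Groth.Agent.Lib.FppfQuot.Stages
import Groth.Agent.Lib.AlgSp.AffineDescent
import Groth.Agent.Lib.GrpSchField.HomFlat
import Groth.Agent.Lib.GrpSchField.Criteria
import Groth.Agent.Lib.Rigidity.SmoothGroup
-- import your own Groth.Agent.* helpers here

set_option autoImplicit false
set_option linter.style.haveILetI false
set_option backward.isDefEq.respectTransparency false
universe u
open CategoryTheory MonoidalCategory CartesianMonoidalCategory MonObj GrpObj AlgebraicGeometry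
open PrincBund

open CategoryTheory.Limits
namespace Groth.Agent.S14545

open GrothLib.FppfQuot in
/-- The quotient sits over the outer quotient with the inner one as fibre. -/
theorem isAffineHom_of_devissage {S : Scheme.{u}} {G G' G₀ G₁ G₀' G₁' Qa Qb Q : Over S}
    [GrpObj G] [GrpObj G'] [GrpObj G₀] [GrpObj G₁] [GrpObj G₀'] [GrpObj G₁']
    (i' : G' ⟶ G) [IsMonHom i'] (i₀ : G₀ ⟶ G) [IsMonHom i₀] (hn : AlgGrp.IsNormalHom i₀)
    (q₁ : G ⟶ G₁) [IsMonHom q₁] (hq₁ : RedSub.IsQuotient i₀ q₁)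
    (j : G₀' ⟶ G₀) [IsMonHom j] (j' : G₀' ⟶ G') (hj : IsPullback j j' i₀ i')
    (i₁' : G₁' ⟶ G₁) [IsMonHom i₁'] (p : G' ⟶ G₁') (hp : p ≫ i₁' = i' ≫ q₁) (hpc : IsCover p)
    (qa : G₀ ⟶ Qa) (hqa : RedSub.IsQuotient j qa) [IsAffineHom Qa.hom]
    (qb : G₁ ⟶ Qb) (hqb : RedSub.IsQuotient i₁' qb)
    (q : G ⟶ Q) (hq : RedSub.IsQuotient i' q) :
    ∃ φ : Q ⟶ Qb, IsAffineHom φ.left := by
  have cq : IsCover q := ⟨hq.1, hq.2.1, hq.2.2.1⟩
  have cqa : IsCover qa := ⟨hqa.1, hqa.2.1, hqa.2.2.1⟩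
  have cρ : IsCover (q₁ ≫ qb) :=
    IsCover.comp ⟨hq₁.1, hq₁.2.1, hq₁.2.2.1⟩ ⟨hqb.1, hqb.2.1, hqb.2.2.1⟩
  have hi'q : ∀ {W : Over S} (a : W ⟶ G) (h : W ⟶ G'), (a * (h ≫ i')) ≫ q₁ ≫ qb = a ≫ q₁ ≫ qb := by
    intro W a h
    rw [← Category.assoc, ← Category.assoc, MonObj.mul_comp, Category.assoc h, ← hp]
    exact ((comp_eq_iff hqb _ _).2 ⟨h ≫ p, by rw [Category.assoc]⟩).symm
  have hi₀q : ∀ {W : Over S} (z : W ⟶ G₀), z ≫ i₀ ≫ q₁ = 1 := by
    intro W z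
    have h := (comp_eq_iff hq₁ (1 : W ⟶ G) (z ≫ i₀)).2 ⟨z, (_root_.one_mul _).symm⟩
    rw [MonObj.one_comp, Category.assoc] at h
    exact h.symm
  obtain ⟨φ, hφ⟩ := cq.desc (q₁ ≫ qb) (fun {W} a b hab => by
    obtain ⟨h, rfl⟩ := (comp_eq_iff hq a b).1 hab
    exact (hi'q a h).symm)
  -- the comparison map
  have c1 : IsCover (𝟙 G ⊗ₘ qa) := (IsCover.id G).tensor cqa
  obtain ⟨ψ, hψ⟩ := c1.desc ((fst G G₀ * (snd G G₀ ≫ i₀)) ≫ q) (fun {W} a b hab => by
    have h1 : a ≫ fst G G₀ = b ≫ fst G G₀ := by simpa using congrArg (· ≫ fst _ _) hab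
    have h2 : (a ≫ snd G G₀) ≫ qa = (b ≫ snd G G₀) ≫ qa := by simpa using congrArg (· ≫ snd _ _) hab
    obtain ⟨h, hh⟩ := (comp_eq_iff hqa _ _).1 h2
    rw [← Category.assoc, ← Category.assoc, comp_eq_iff hq]
    refine ⟨h ≫ j', ?_⟩
    rw [MonObj.comp_mul, MonObj.comp_mul, ← Category.assoc, ← Category.assoc, hh, h1, MonObj.mul_comp,
      Category.assoc h, Category.assoc h, hj.w, _root_.mul_assoc])
  have hψ' : ∀ {W : Over S} (g : W ⟶ G) (z : W ⟶ G₀), lift g (z ≫ qa) ≫ ψ = (g * (z ≫ i₀)) ≫ q := by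
    intro W g z
    have e : lift g (z ≫ qa) = lift g z ≫ (𝟙 G ⊗ₘ qa) := by
      apply CartesianMonoidalCategory.hom_ext <;> simp
    rw [e, Category.assoc, hψ, ← Category.assoc, MonObj.comp_mul, lift_fst, lift_snd_assoc]
  let P := pullback (q₁ ≫ qb) φ
  let α : G ⊗ Qa ⟶ P := pullback.lift (fst G Qa) ψ (by
    haveI := c1.epi
    rw [← cancel_epi (𝟙 G ⊗ₘ qa), tensorHom_fst_assoc, Category.id_comp, reassoc_of% hψ, hφ, ← Category.assoc,
      ← Category.assoc ((fst G G₀ * (snd G G₀ ≫ i₀))), MonObj.mul_comp, Category.assoc (snd G G₀), hi₀q, _root_.mul_one])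
  have hαfst : α ≫ pullback.fst (q₁ ≫ qb) φ = fst G Qa := pullback.lift_fst _ _ _
  have hαsnd : α ≫ pullback.snd (q₁ ≫ qb) φ = ψ := pullback.lift_snd _ _ _
  haveI : Mono α := ⟨fun {W} x y hxy => by
    have h1 : x ≫ fst G Qa = y ≫ fst G Qa := by rw [← hαfst, reassoc_of% hxy]
    have h2 : x ≫ ψ = y ≫ ψ := by rw [← hαsnd, reassoc_of% hxy]
    obtain ⟨W₁, c, a, hc, ha⟩ := cqa.exists_lift (x ≫ snd G Qa)
    obtain ⟨W₂, d, b, hd, hb⟩ := cqa.exists_lift (c ≫ y ≫ snd G Qa)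
    haveI := (hd.comp hc).epi
    rw [← cancel_epi (d ≫ c)]
    have ex : (d ≫ c) ≫ x = lift ((d ≫ c) ≫ x ≫ fst G Qa) ((d ≫ a) ≫ qa) := by
      apply CartesianMonoidalCategory.hom_ext
      · simp
      · rw [lift_snd, Category.assoc, Category.assoc, Category.assoc, ha]
    have ey : (d ≫ c) ≫ y = lift ((d ≫ c) ≫ x ≫ fst G Qa) (b ≫ qa) := by
      apply CartesianMonoidalCategory.hom_ext
      · simp [h1]
      · rw [lift_snd, Category.assoc, Category.assoc, hb]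
    have h3 : ((d ≫ c) ≫ x) ≫ ψ = ((d ≫ c) ≫ y) ≫ ψ := by rw [Category.assoc, h2, ← Category.assoc]
    rw [ex, ey, hψ', hψ'] at h3
    obtain ⟨h, hh⟩ := (comp_eq_iff hq _ _).1 h3
    rw [_root_.mul_assoc, mul_left_cancel_iff] at hh
    have hd' : ((d ≫ a)⁻¹ * b) ≫ i₀ = h ≫ i' := by
      rw [MonObj.mul_comp, GrpObj.inv_comp, hh, inv_mul_cancel_left]
    rw [ex, ey]
    congr 1
    refine (comp_eq_iff hqa _ _).2 ⟨hj.lift _ _ hd', ?_⟩
    rw [hj.lift_fst, mul_inv_cancel_left]⟩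
  -- it is locally surjective
  obtain ⟨W₁, c₁, y, hc₁, hy⟩ := cq.exists_lift (pullback.snd (q₁ ≫ qb) φ)
  let x : W₁ ⟶ G := c₁ ≫ pullback.fst (q₁ ≫ qb) φ
  have hxy : (x ≫ q₁) ≫ qb = (y ≫ q₁) ≫ qb := by
    have e1 : y ≫ q₁ ≫ qb = c₁ ≫ pullback.snd (q₁ ≫ qb) φ ≫ φ := by
      rw [← reassoc_of% hy]; exact congrArg (y ≫ ·) hφ.symm
    simp only [x, Category.assoc]
    rw [e1]
    exact congrArg (c₁ ≫ ·) pullback.condition
  obtain ⟨z, hz⟩ := (comp_eq_iff hqb _ _).1 hxy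
  obtain ⟨W₂, c₂, g', hc₂, hg'⟩ := hpc.exists_lift z
  have h4 : ((c₂ ≫ x) * (g' ≫ i')) ≫ q₁ = (c₂ ≫ y) ≫ q₁ := by
    rw [MonObj.mul_comp, Category.assoc g', ← hp, reassoc_of% hg', Category.assoc c₂ y, hz, MonObj.comp_mul,
      Category.assoc]
  obtain ⟨g₀, hg₀⟩ := (comp_eq_iff hq₁ _ _).1 h4
  obtain ⟨g₁, hg₁⟩ := hn W₂ (g' ≫ i') g₀
  have h5 : (c₂ ≫ y) ≫ q = ((c₂ ≫ x) * (g₁ ≫ i₀)) ≫ q := by
    refine ((comp_eq_iff hq _ _).2 ⟨g', ?_⟩).symm
    rw [hg₀, ← hg₁]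
    group
  let l : W₂ ⟶ G ⊗ Qa := lift (c₂ ≫ x) (g₁ ≫ qa)
  have he : l ≫ α = c₂ ≫ c₁ := by
    apply pullback.hom_ext
    · rw [Category.assoc, hαfst, lift_fst, Category.assoc]
    · rw [Category.assoc, hαsnd, hψ', ← h5, Category.assoc, hy, Category.assoc]
  obtain ⟨d, hd⟩ := (hc₂.comp hc₁).desc l (fun {W} a b hab => by
    rw [← cancel_mono α, Category.assoc, Category.assoc, he, hab])
  haveI : IsIso α := by
    haveI := (hc₂.comp hc₁).epi
    have h6 : d ≫ α = 𝟙 P := by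
      rw [← cancel_epi (c₂ ≫ c₁), ← Category.assoc, hd, he, Category.comp_id]
    exact ⟨d, by rw [← cancel_mono α, Category.assoc, h6, Category.comp_id, Category.id_comp], h6⟩
  haveI : IsIso α.left := inferInstanceAs (IsIso ((Over.forget S).map α))
  haveI : IsAffineHom (fst G Qa).left :=
    MorphismProperty.pullback_fst (P := @IsAffineHom) G.hom Qa.hom ‹_›
  have hfst : IsAffineHom (pullback.fst (q₁ ≫ qb) φ).left := by
    have e : (pullback.fst (q₁ ≫ qb) φ).left = inv α.left ≫ (fst G Qa).left := by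
      rw [IsIso.eq_inv_comp, ← Over.comp_left, hαfst]
    rw [e]; infer_instance
  refine ⟨φ, ?_⟩
  exact GrothLib.AlgSp.fppfDescends_isAffineHom _ _ _ _
    ((IsPullback.of_hasPullback (q₁ ≫ qb) φ).flip.map (Over.forget S)) cρ.2.1 cρ.2.2 cρ.1 hfst


/-- Let k be a field of characteristic 0 and G an affine group scheme of finite type over k; let G' be a
closed subgroup of G and G₀ a closed normal subgroup of G with quotient q₁ : G → G₁ (so G₁ = G/G₀),
let G₀' = G₀ ∩ G' and let G₁' be the image of G' in G₁, a closed subgroup of G₁ through which G' →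
G₁ factors by a surjective morphism. Suppose that the quotients G₀/G₀' and G₁/G₁' (fppf quotient
sheaves represented by schemes) are affine. Then every scheme Q representing the quotient G/G' is
affine. -/
theorem result (k : Type u) [Field k] [CharZero k]
    (G : Over (Spec (CommRingCat.of k))) [GrpObj G] [IsAffine G.left] [LocallyOfFiniteType G.hom]
    (G' : Over (Spec (CommRingCat.of k))) [GrpObj G'] (i' : G' ⟶ G) [IsMonHom i'] (hi' : IsClosedImmersion i'.left)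
    (G₀ : Over (Spec (CommRingCat.of k))) [GrpObj G₀] (i₀ : G₀ ⟶ G) [IsMonHom i₀] (hi₀ : IsClosedImmersion i₀.left)
    (hn : AlgGrp.IsNormalHom i₀)
    (G₁ : Over (Spec (CommRingCat.of k))) [GrpObj G₁] (q₁ : G ⟶ G₁) [IsMonHom q₁] (hq₁ : RedSub.IsQuotient i₀ q₁)
    (G₀' : Over (Spec (CommRingCat.of k))) [GrpObj G₀'] (j : G₀' ⟶ G₀) [IsMonHom j] (j' : G₀' ⟶ G')
    (hj : IsPullback j j' i₀ i')
    (G₁' : Over (Spec (CommRingCat.of k))) [GrpObj G₁'] (i₁' : G₁' ⟶ G₁) [IsMonHom i₁'] (hi₁' : IsClosedImmersion i₁'.left)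
    (p : G' ⟶ G₁') (hp : p ≫ i₁' = i' ≫ q₁) (hps : Surjective p.left)
    (Qa : Over (Spec (CommRingCat.of k))) (qa : G₀ ⟶ Qa) (hqa : RedSub.IsQuotient j qa) (ha : IsAffine Qa.left)
    (Qb : Over (Spec (CommRingCat.of k))) (qb : G₁ ⟶ Qb) (hqb : RedSub.IsQuotient i₁' qb) (hb : IsAffine Qb.left)
    (Q : Over (Spec (CommRingCat.of k))) (q : G ⟶ Q) (hq : RedSub.IsQuotient i' q) :
    IsAffine Q.left := by
  haveI : LocallyOfFiniteType G.hom := inferInstance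
  haveI : IsAffine G'.left := isAffine_of_isAffineHom i'.left
  haveI : LocallyOfFiniteType G'.hom := by rw [← Over.w i']; infer_instance
  haveI : LocallyOfFiniteType G₁.hom := by
    haveI := hq₁.2.2.1
    haveI := hq₁.2.1
    haveI := hq₁.1
    refine GrothLib.FppfSource.fppfSourceDescends_lft q₁.left G₁.hom hq₁.2.1 hq₁.2.2.1 hq₁.1 ?_
    rw [Over.w q₁]; infer_instance
  haveI : LocallyOfFiniteType G₁'.hom := by rw [← Over.w i₁']; infer_instance
  haveI : IsSeparated G₁'.hom := GrothLib.GrpSchField.isSeparated G₁'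
  haveI : Smooth G₁'.hom := GrothLib.GrpSchField.smooth_of_charZero G₁'
  haveI : IsReduced G₁'.left := GrothLib.Rigidity.isReduced_of_smooth G₁'.hom
  haveI : IsMonHom p := by
    haveI : Mono i₁' := Over.mono_of_mono_left i₁'
    exact GrothLib.GrpSchField.isMonHom_of_mul p (by
      rw [← cancel_mono i₁', Category.assoc, Category.assoc, hp, IsMonHom.mul_hom i₁', tensorHom_comp_tensorHom_assoc,
        hp, IsMonHom.mul_hom (i' ≫ q₁)])
  haveI : QuasiCompact p.left := by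
    haveI : QuasiCompact (p.left ≫ G₁'.hom) := by rw [Over.w p]; infer_instance
    exact QuasiCompact.of_comp p.left G₁'.hom
  haveI : LocallyOfFiniteType p.left := by
    haveI : LocallyOfFiniteType (p.left ≫ G₁'.hom) := by rw [Over.w p]; infer_instance
    exact locallyOfFiniteType_of_comp p.left G₁'.hom
  haveI : IsLocallyNoetherian G₁'.left := LocallyOfFiniteType.isLocallyNoetherian G₁'.hom
  have hpc : GrothLib.FppfQuot.IsCover p :=
    ⟨hps, GrothLib.GrpSchField.flat_hom p, inferInstance⟩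
  haveI : IsAffineHom Qa.hom := inferInstance
  obtain ⟨φ, hφ⟩ := isAffineHom_of_devissage i' i₀ hn q₁ hq₁ j j' hj i₁' p hp hpc qa hqa qb hqb q hq
  exact isAffine_of_isAffineHom φ.left

end Groth.Agent.S14545
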