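import Groth.Statements.S14546
import Groth.Agent.Lib.HomAff13.Scheme
-- import your own Groth.Agent.* helpers here

set_option autoImplicit false
universe u
open CategoryTheory MonoidalCategory CartesianMonoidalCategory MonObj GrpObj AlgebraicGeometry
open PrincBund

namespace Groth.Agent.S14546

/-- Let k be a field of characteristic 0, X a quasi-compact k-scheme whose ring of global functions is
finite-dimensional over k, and Z an affine k-scheme. Then the functor on k-schemes S ↦ Hom_k(X ×_k
S, Z) is representable by an affine k-scheme M: there is a universal k-morphism X ×_k M → Z through
which every k-morphism X ×_k S → Z factors by a unique S → M; and M is of finite type over k if Z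
is. (The published statement is about the scheme of invariant cross-sections of an affine scheme
under a transitive affine groupoid over a pregroupoid H, with a finiteness hypothesis on H; this row
is the case of the trivial groupoid, where the representing scheme is the scheme of k-morphisms from
X to Z and that hypothesis reads: X quasi-compact with finite-dimensional global functions.) -/
theorem result (k : Type u) [Field k] [CharZero k]
    (X : Over (Spec (CommRingCat.of k))) [CompactSpace ↥X.left]
    (hfin : (X.hom.appTop.hom.comp (Scheme.ΓSpecIso (CommRingCat.of k)).inv.hom).Finite)
    (Z : Over (Spec (CommRingCat.of k))) [IsAffine Z.left] :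
    ∃ (M : Over (Spec (CommRingCat.of k))) (_ : IsAffine M.left) (ev : X ⊗ M ⟶ Z),
      (∀ (S : Over (Spec (CommRingCat.of k))) (f : X ⊗ S ⟶ Z), ∃! g : S ⟶ M, (X ◁ g) ≫ ev = f) ∧
      (LocallyOfFiniteType Z.hom → LocallyOfFiniteType M.hom) := by
  haveI : Module.Finite k (GrothLib.HomAff13.GA X) := hfin
  exact GrothLib.HomAff13.exists_homScheme X Z

end Groth.Agent.S14546
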