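import Groth.Statements.S14547
import Groth.Agent.Lib.TorsorDesc.Basic
import Groth.Agent.Lib.FibreLocus.Hom
import Mathlib
-- import your own Groth.Agent.* helpers here

set_option autoImplicit false
universe u
open CategoryTheory MonoidalCategory CartesianMonoidalCategory MonObj GrpObj AlgebraicGeometry
open PrincBund

namespace Groth.Agent.S14547

/-- Let f : X' → X be a faithfully flat quasi-compact morphism of schemes, J a group scheme affine over
X with an action a on an X-scheme P, and a' the induced action of the base change J' = J ×_X X' on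
P' = P ×_X X'. Then P with a is a J-torsor for the fpqc topology if and only if P' with a' is a
J'-torsor for the fpqc topology. (The published statement allows any morphism X' → X that is
covering for the fpqc topology, and an action of a pregroupoid; this row is the case of a faithfully
flat quasi-compact X' → X and the trivial pregroupoid.) -/
theorem result {X X' : Scheme.{u}} (f : X' ⟶ X)
    [Flat f] [Surjective f] [QuasiCompact f]
    {J P : Over X} [GrpObj J] [IsAffineHom J.hom] (a : AlgGrp.Action J P)
    (a' : AlgGrp.Action (Red.bc f J) (Red.bc f P))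
    (ha' : Functor.LaxMonoidal.μ (Over.pullback f) J P ≫ (Over.pullback f).map a.act = a'.act) :
    NonAbH1.IsTorsorFor Scheme.fpqcPrecoverage a ↔ NonAbH1.IsTorsorFor Scheme.fpqcPrecoverage a' := by
  let F := Over.pullback f
  let Φ : J ⊗ P ⟶ P ⊗ P := lift a.act (snd J P)
  have hΦ : lift a'.act (snd (Red.bc f J) (Red.bc f P)) =
      Functor.LaxMonoidal.μ F J P ≫ F.map Φ ≫ Functor.OplaxMonoidal.δ F P P := by
    rw [Functor.OplaxMonoidal.lift_δ, comp_lift, Functor.Monoidal.μ_snd, ha']
  have hiso : IsIso (lift a'.act (snd (Red.bc f J) (Red.bc f P))) ↔ IsIso (F.map Φ) := by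
    rw [hΦ]
    constructor <;> intro h
    · haveI := h
      have e : F.map Φ = inv (Functor.LaxMonoidal.μ F J P) ≫
          (Functor.LaxMonoidal.μ F J P ≫ F.map Φ ≫ Functor.OplaxMonoidal.δ F P P) ≫
            inv (Functor.OplaxMonoidal.δ F P P) := by simp
      rw [e]; infer_instance
    · haveI := h; infer_instance
  constructor
  · rintro ⟨hps, hloc⟩
    haveI : IsIso Φ := hps
    refine ⟨hiso.2 inferInstance, ?_⟩
    exact GrothLib.TorsorDesc.isLocallyTrivialFor_of_isPullback Scheme.fpqcPrecoverage
      (IsPullback.of_hasPullback P.hom f) hloc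
  · rintro ⟨hps, R, hR, hsec⟩
    constructor
    · haveI : IsIso (F.map Φ) := hiso.1 hps
      haveI : IsIso (F.map Φ).left := (Over.forget _).map_isIso (F.map Φ)
      have sq := (GrothLib.FibreLocus.isPullback_map_left Φ f).flip
      haveI : IsIso Φ.left := MorphismProperty.of_isPullback_of_descendsAlong
        (P := MorphismProperty.isomorphisms Scheme.{u}) (Q := @Surjective ⊓ @Flat ⊓ @QuasiCompact)
        (IsPullback.flip (GrothLib.FibreLocus.isPullback_map_left Φ f).flip)
        ⟨⟨inferInstanceAs (Surjective (Limits.pullback.fst (P ⊗ P).hom f)),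
            inferInstanceAs (Flat (Limits.pullback.fst (P ⊗ P).hom f))⟩,
          inferInstanceAs (QuasiCompact (Limits.pullback.fst (P ⊗ P).hom f))⟩
        (inferInstanceAs (IsIso (F.map Φ).left))
      haveI : IsIso ((Over.forget _).map Φ) := ‹IsIso Φ.left›
      exact isIso_of_reflects_iso Φ (Over.forget _)
    · obtain ⟨κ, U, g, rfl⟩ := R.exists_eq_ofArrows
      have hcomp := Precoverage.comp_mem_coverings (J := Scheme.fpqcPrecoverage) (fun _ : PUnit.{u + 1} => f)
        (by rw [Presieve.ofArrows_pUnit]; exact f.singleton_mem_fpqcPrecoverage) (fun _ => g) (fun _ => hR)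
      refine ⟨_, hcomp, ?_⟩
      rintro S' t ⟨⟨⟨⟩, i⟩⟩
      obtain ⟨s, hs⟩ := hsec (g i) (Presieve.ofArrows.mk i)
      refine ⟨s ≫ Limits.pullback.fst P.hom f, ?_⟩
      rw [Category.assoc, Limits.pullback.condition, ← Category.assoc]
      exact congrArg (· ≫ f) hs

end Groth.Agent.S14547
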