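import Groth.Statements.S14549
import Groth.Agent.Lib.FMAdj25.SplitCounit
-- import your own Groth.Agent.* helpers here

set_option autoImplicit false
set_option maxHeartbeats 1000000
set_option linter.style.haveILetI false
set_option backward.isDefEq.respectTransparency false
universe u
open CategoryTheory MonoidalCategory CartesianMonoidalCategory MonObj GrpObj AlgebraicGeometry
open PrincBund

namespace Groth.Agent.S14549

/-- Let p : X' → X be a finite étale morphism of schemes and V' a quasi-coherent O_{X'}-module. Then V'
is a direct summand of p^* p_* V': the counit p^* p_* V' → V' of the adjunction between pullback and
pushforward of modules along p is a split epimorphism. (The published statement is for modules under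
a pregroupoid H over X acting compatibly on X'; this row is the case of the trivial pregroupoid.) -/
theorem result {X X' : Scheme.{u}} (p : X' ⟶ X) [IsFinite p] [Etale p]
    (V' : X'.Modules) (hV' : Coh.IsQCoh V') :
    IsSplitEpi ((Scheme.Modules.pullbackPushforwardAdjunction p).counit.app V') := by
  exact GrothLib.FMAdj25.isSplitEpi_counit p V' hV'

end Groth.Agent.S14549
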