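import Groth.Statements.S14550
import Groth.Agent.Lib.Zeta.FixScheme

set_option autoImplicit false
universe u
open CategoryTheory AlgebraicGeometry Limits
open Zeta

namespace Groth.Agent.S14550

/-- Let X be a scheme of finite type over a finite field k with q elements (no smoothness assumption),
k̄ an algebraic closure of k, and F = Frob_{X,q} × id the k̄-endomorphism of X̄ = X ×_k k̄ induced
by the q-Frobenius of X. Then the intersection Γ_F ∩ Δ of the graph of F with the diagonal in X̄
×_{k̄} X̄ is a reduced scheme with finitely many points. (The published statement adds that,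
consequently, the intersection number of the graph of F with the diagonal equals the number of these
points; this row omits that consequence.) The q-Frobenius F_X is pinned as the endomorphism that is
the identity on points and raises sections to the q-th power, and F by F ≫ pr_1 = pr_1 ≫ F_X and F ≫
pr_2 = pr_2. -/
theorem result {k : Type u} [Field k] [Finite k]
    {X : Scheme.{u}} (f : X ⟶ Spec (CommRingCat.of k)) [LocallyOfFiniteType f] [QuasiCompact f]
    (FX : X ⟶ X) (hFb : FX.base = 𝟙 _) (hle : ∀ U : X.Opens, U ≤ FX ⁻¹ᵁ U)
    (hFapp : ∀ (U : X.Opens) (s : Γ(X, U)), (FX.appLE U U (hle U)).hom s = s ^ Nat.card k)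
    (F : FinFr.ext (AlgebraicClosure k) f ⟶ FinFr.ext (AlgebraicClosure k) f)
    (hF1 : F ≫ FinFr.extπ (AlgebraicClosure k) f = FinFr.extπ (AlgebraicClosure k) f ≫ FX)
    (hF2 : F ≫ FinFr.extStr (AlgebraicClosure k) f = FinFr.extStr (AlgebraicClosure k) f) :
    IsReduced (FinFr.fixScheme (FinFr.extStr (AlgebraicClosure k) f) F hF2) ∧
      Finite ↥(FinFr.fixScheme (FinFr.extStr (AlgebraicClosure k) f) F hF2) := by
  obtain ⟨h1, h2⟩ := GrothLib.Zeta.isReduced_fixScheme (f := f) hFapp
    (IsPullback.of_hasPullback f (FinFr.specι k (AlgebraicClosure k))) hF1 hF2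
  exact ⟨h1, h2 inferInstance⟩

end Groth.Agent.S14550
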