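import Groth.Statements.S14556
import Groth.Agent.Lib.BigH028.Pts
import Groth.Agent.Lib.AdelePts28.Basic

set_option autoImplicit false
universe u
open TateGlob

namespace Groth.Agent.S14556

open CategoryTheory AlgebraicGeometry in
/-- Let K be a global function field with finite constant field Fq (every element of K having finitely
many poles), A_K its ring of adeles, S a finite nonempty set of places, O_S the ring of S-integers
and 𝒢 a flat, separated commutative O_S-group scheme of finite type. Then the map H^0(A_K, 𝒢) → ∏_v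
H^0(K_v, 𝒢) induced by the projections A_K → K_v is injective, and its image consists of the
restricted product of the H^0(K_v, 𝒢), taken relative to the images of H^0(O_v, 𝒢) → H^0(K_v, 𝒢), v
∉ S: the families almost all of whose components come from O_v. Here H^0 is the degree-0 cohomology
of the sheaf of points of 𝒢 on the big fppf site of Spec O_S, restricted to Spec A_K, Spec K_v and
Spec O_v. -/
theorem result (Fq : Type u) [Field Fq] [Finite Fq] (K : Type u) [Field K] [Algebra (RatFunc Fq) K] [FunctionField Fq K]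
    [Algebra Fq K] [IsScalarTower Fq (RatFunc Fq) K] [AdFn.HasFinitePoles Fq K]
    (S : Set (FunFld.Place Fq K)) (hS : S.Finite) (hne : S.Nonempty)
    (𝒢 : Over (Spec (CommRingCat.of (AdFn.SInt S)))) [GrpObj 𝒢] [IsCommMonObj 𝒢]
    [Flat 𝒢.hom] [IsSeparated 𝒢.hom] [LocallyOfFiniteType 𝒢.hom] [QuasiCompact 𝒢.hom] :
    Function.Injective (AdFn.locProdS Scheme.fppfPrecoverage S (CGrpSh.pts Scheme.fppfPrecoverage 𝒢) 0) ∧
      Set.range (AdFn.locProdS Scheme.fppfPrecoverage S (CGrpSh.pts Scheme.fppfPrecoverage 𝒢) 0) =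
        Set.range (fun y : AdFn.LocRP Scheme.fppfPrecoverage S (CGrpSh.pts Scheme.fppfPrecoverage 𝒢) 0 => (⇑y : (v : FunFld.Place Fq K) → AdFn.HLocS Scheme.fppfPrecoverage S (CGrpSh.pts Scheme.fppfPrecoverage 𝒢) 0 v)) := by
  classical
  letI : ∀ v : FunFld.Place Fq K, Field (AdFn.Kv v) := fun v => inferInstance
  let P : Precoverage Scheme.{u} := Scheme.fppfPrecoverage
  let F := CGrpSh.pts P 𝒢
  let π : ∀ v : FunFld.Place Fq K, AdFn.AdeleRing Fq K →+* AdFn.Kv v := fun v => AdFn.AdeleRing.proj v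
  have hinj : ∀ a, (∀ v, π v a = 0) → a = 0 := fun a h => Subtype.ext (funext h)
  have hint : ∀ a, ∀ᶠ v in Filter.cofinite, π v a ∈ AdFn.Ov v := fun a => a.2
  have hglue : ∀ b : ∀ v, AdFn.Kv v, (∀ᶠ v in Filter.cofinite, b v ∈ AdFn.Ov v) → ∃ a, ∀ v, π v a = b v :=
    fun b hb => ⟨⟨b, hb⟩, fun v => rfl⟩
  have hS' : ∀ᶠ v in Filter.cofinite, v ∉ S := hS.eventually_cofinite_notMem
  have hproj : ∀ v, (π v).comp (AdFn.SInt.toAd S) = AdFn.SInt.toKv S v := fun v => rfl
  have hpt : ∀ (x : AdFn.HAdS P S F 0) (v : FunFld.Place Fq K),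
      (GrothLib.BigH028.point P 𝒢 _ (AdFn.locProdS P S F 0 x v)).left =
        Spec.map (CommRingCat.ofHom (π v)) ≫ (GrothLib.BigH028.point P 𝒢 _ x).left := fun x v => by
    show (GrothLib.BigH028.point P 𝒢 _ (HRes.resHU P F 0 (AdFn.adProjSHom S v) x)).left = _
    rw [GrothLib.BigH028.point_resHU]
    rfl
  have hsub : ∀ (v : FunFld.Place Fq K) (hv : v ∉ S) (x : AdFn.HInt P S F 0 hv),
      (GrothLib.BigH028.point P 𝒢 _ (AdFn.intRes P S F 0 hv x)).left =
        Spec.map (CommRingCat.ofHom (AdFn.Ov v).subtype) ≫ (GrothLib.BigH028.point P 𝒢 _ x).left := fun v hv x => by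
    show (GrothLib.BigH028.point P 𝒢 _ (HRes.resHU P F 0 (AdFn.intResHom S hv) x)).left = _
    rw [GrothLib.BigH028.point_resHU]
    rfl
  haveI : CompactSpace ↥𝒢.left := QuasiCompact.compactSpace_of_compactSpace 𝒢.hom
  refine ⟨fun a b hab => ?_, Set.ext fun f => ⟨?_, ?_⟩⟩
  · refine GrothLib.BigH028.point_injective P 𝒢 _ (Over.OverMorphism.ext ?_)
    refine GrothLib.AdelePts28.hom_ext_of_jointly_injective (fun v => CommRingCat.ofHom (π v)) hinj 𝒢.hom _ _ ?_ fun v => ?_
    · exact (Over.w _).trans (Over.w _).symm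
    · rw [← hpt, ← hpt]
      exact congrArg (fun t => (GrothLib.BigH028.point P 𝒢 _ t).left) (congrFun hab v)
  · rintro ⟨x, rfl⟩
    let p := GrothLib.BigH028.point P 𝒢 _ x
    have hev := GrothLib.AdelePts28.eventually_integral π AdFn.Ov hint (AdFn.SInt.toAd S)
      (by filter_upwards [hS'] with v hv r; exact (AdFn.SInt.toOv S hv r).2) 𝒢.hom p.left (Over.w p)
    refine ⟨⟨AdFn.locProdS P S F 0 x, ?_⟩, rfl⟩
    filter_upwards [hev, hS'] with v ⟨z, hz⟩ hv
    have hw : z ≫ 𝒢.hom = Spec.map (CommRingCat.ofHom (AdFn.SInt.toOv S hv)) := by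
      obtain ⟨q, hq⟩ := Spec.map_surjective (z ≫ 𝒢.hom)
      have h1 : Spec.map (CommRingCat.ofHom (AdFn.Ov v).subtype) ≫ z ≫ 𝒢.hom =
          Spec.map (CommRingCat.ofHom (AdFn.SInt.toKv S v)) := by
        have hw' : p.left ≫ 𝒢.hom = Spec.map (CommRingCat.ofHom (AdFn.SInt.toAd S)) := Over.w p
        rw [← Category.assoc, hz, Category.assoc, hw', ← Spec.map_comp]
        rfl
      rw [← hq, ← Spec.map_comp] at h1
      rw [← hq]
      congr 1
      ext r
      exact ConcreteCategory.congr_hom (Spec.map_injective h1) r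
    let zO : AdFn.specOf (AdFn.SInt.toOv S hv) ⟶ 𝒢 := Over.homMk z hw
    refine (le_iSup (fun hv : v ∉ S => (AdFn.intRes P S F 0 hv).range) hv)
      ⟨GrothLib.BigH028.ofPoint P 𝒢 _ zO, GrothLib.BigH028.point_injective P 𝒢 _ (Over.OverMorphism.ext ?_)⟩
    rw [hsub, GrothLib.BigH028.point_ofPoint, hpt]
    exact hz
  · rintro ⟨y, rfl⟩
    have hy : ∀ᶠ v in Filter.cofinite, ∃ z : Spec (CommRingCat.of (AdFn.Ov v)) ⟶ 𝒢.left,
        Spec.map (CommRingCat.ofHom (AdFn.Ov v).subtype) ≫ z = (GrothLib.BigH028.point P 𝒢 _ (y v)).left := by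
      filter_upwards [y.2, hS'] with v hy hv
      change y v ∈ AdFn.locSub P S F 0 v at hy
      rw [AdFn.locSub, iSup_pos hv] at hy
      obtain ⟨z, hz⟩ := hy
      exact ⟨(GrothLib.BigH028.point P 𝒢 _ z).left, by rw [← hsub]; exact congrArg (fun t => (GrothLib.BigH028.point P 𝒢 _ t).left) hz⟩
    obtain ⟨g, hg⟩ := GrothLib.AdelePts28.exists_glue π AdFn.Ov hinj hint hglue _ hy
    have hw : g ≫ 𝒢.hom = Spec.map (CommRingCat.ofHom (AdFn.SInt.toAd S)) := by
      obtain ⟨q, hq⟩ := Spec.map_surjective (g ≫ 𝒢.hom)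
      rw [← hq]
      congr 1
      ext r v
      have h1 : Spec.map (q ≫ CommRingCat.ofHom (π v)) = Spec.map (CommRingCat.ofHom (AdFn.SInt.toKv S v)) := by
        rw [Spec.map_comp, hq, ← Category.assoc, hg]
        exact Over.w _
      exact ConcreteCategory.congr_hom (Spec.map_injective h1) r
    let gO : AdFn.specOf (AdFn.SInt.toAd S) ⟶ 𝒢 := Over.homMk g hw
    refine ⟨GrothLib.BigH028.ofPoint P 𝒢 _ gO, funext fun v => GrothLib.BigH028.point_injective P 𝒢 _ (Over.OverMorphism.ext ?_)⟩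
    rw [hpt, GrothLib.BigH028.point_ofPoint]
    exact hg v

end Groth.Agent.S14556
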