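import Groth.Statements.S14573
import Groth.Agent.Lib.AdelePts28.DualInj

set_option autoImplicit false
universe u
open TateGlob

namespace Groth.Agent.S14573

open CategoryTheory AlgebraicGeometry in
/-- Let K be a global function field with finite constant field Fq (every element of K having finitely
many poles), A_K its adele ring, S a finite nonempty set of places, O_S the ring of S-integers and 𝒢
a flat, separated commutative O_S-group scheme of finite type (an O_S-model of its generic fibre).
Assume the generic fibre 𝒢_K is affine. Then the map H^0(A_K, 𝒢^) → ∏_v H^0(K_v, 𝒢^) induced by the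
projections A_K → K_v is injective: a character of 𝒢 defined over A_K that is trivial over every
completion K_v is trivial; here 𝒢^ is the dual sheaf of 𝒢 (internal Hom from its sheaf of points
into the multiplicative group on the big fppf site of Spec O_S) and H^0 its degree-0 cohomology over
Spec A_K and Spec K_v. -/
theorem result (Fq : Type u) [Field Fq] [Finite Fq] (K : Type u) [Field K] [Algebra (RatFunc Fq) K] [FunctionField Fq K]
    [Algebra Fq K] [IsScalarTower Fq (RatFunc Fq) K] [AdFn.HasFinitePoles Fq K]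
    (S : Set (FunFld.Place Fq K)) (hS : S.Finite) (hne : S.Nonempty)
    (𝒢 : Over (Spec (CommRingCat.of (AdFn.SInt S)))) [GrpObj 𝒢] [IsCommMonObj 𝒢]
    [Flat 𝒢.hom] [IsSeparated 𝒢.hom] [LocallyOfFiniteType 𝒢.hom] [QuasiCompact 𝒢.hom]
    (haff : IsAffine ↑(Limits.pullback 𝒢.hom (Spec.map (CommRingCat.ofHom (AdFn.SInt.toK S))))) :
    Function.Injective (AdFn.locProdS Scheme.fppfPrecoverage S (CGrpSh2.dualSh Scheme.fppfPrecoverage (CGrpSh.pts Scheme.fppfPrecoverage 𝒢)) 0) := by
  classical
  letI : ∀ v : FunFld.Place Fq K, Field (AdFn.Kv v) := fun v => inferInstance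
  let P : Precoverage Scheme.{u} := Scheme.fppfPrecoverage
  let F := CGrpSh2.dualSh P (CGrpSh.pts P 𝒢)
  let π : ∀ v : FunFld.Place Fq K, AdFn.AdeleRing Fq K →ₐ[K] AdFn.Kv v := fun v =>
    { toRingHom := AdFn.AdeleRing.proj v, commutes' := fun r => rfl }
  intro x y hxy
  refine (GrothLib.BigH028.sectEquivHU F _).injective ?_
  refine GrothLib.AdelePts28.dual_hom_ext (AdFn.SInt.toK S) π (fun a h => Subtype.ext (funext h)) 𝒢 haff
    (AdFn.specOf (AdFn.SInt.toAd S)) (Iso.refl _) _ _ fun v W t hW => ?_
  have h1 := congrArg (GrothLib.BigH028.sectEquivHU F _) (congrFun hxy v)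
  change GrothLib.BigH028.sectEquivHU F _ (HRes.resHU P F 0 (AdFn.adProjSHom S v) x) =
    GrothLib.BigH028.sectEquivHU F _ (HRes.resHU P F 0 (AdFn.adProjSHom S v) y) at h1
  rw [GrothLib.BigH028.sectEquivHU_resHU, GrothLib.BigH028.sectEquivHU_resHU] at h1
  let t' : W.left ⟶ AdFn.specOf (AdFn.SInt.toKv S v) := t
  have hWeq : (Over.map (AdFn.adProjSHom S v)).obj (Over.mk t') = W := by
    obtain ⟨l, ⟨⟨⟩⟩, f⟩ := W
    have : t' ≫ AdFn.adProjSHom S v = f := by
      rw [show f = t ≫ GrothLib.AdelePts28.baseMap (AdFn.SInt.toK S) (π v) ≫ (Iso.refl _).inv from hW]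
      rw [Iso.refl_inv, Category.comp_id]
      rfl
    exact congrArg (fun q : l ⟶ AdFn.specOf (AdFn.SInt.toAd S) => Over.mk q) this
  have h2 := NatTrans.congr_app (congrArg (fun φ => φ.hom) h1) (Opposite.op (Over.mk t'))
  rw [← hWeq]
  exact h2

end Groth.Agent.S14573
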