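import Groth.Statements.S14580
import Groth.Agent.Lib.AntiAffine.ProperFibre
-- import your own Groth.Agent.* helpers here

set_option autoImplicit false
universe u
open CategoryTheory MonoidalCategory CartesianMonoidalCategory MonObj GrpObj AlgebraicGeometry CategoryTheory.Limits
open AlgGrp

namespace Groth.Agent.S14580

/-- Let k be a field, G a proper k-group scheme of finite type and N ⊆ G the kernel of the affinization
morphism G → Spec O(G), i.e. the fibre over the image of the unit section (the largest anti-affine
subgroup scheme of G). Then the image of N in G is the connected component of the identity: as N is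
smooth, N is the reduced neutral component G⁰_red, which is therefore a smooth connected algebraic
group. -/
theorem result (k : Type u) [Field k]
    (G : Over (Spec (CommRingCat.of k))) [GrpObj G] [IsProper G.hom] (t : ↥((𝟙_ (Over (Spec (CommRingCat.of k)))).left)) :
    Set.range ⇑(pullback.fst G.left.toSpecΓ (η[G].left ≫ G.left.toSpecΓ)).base = connectedComponent ((η[G]).left.base t) := by
  haveI : CompactSpace G.left := (quasiCompact_iff_compactSpace G.hom).1 inferInstance
  have hC : IsOpen (connectedComponent (η[G].left.base t)) := by
    rw [GrothLib.GrpSchField.connectedComponent_eq_irreducibleComponent]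
    exact GrothLib.GrpSchField.isOpen_of_mem_irreducibleComponents G (irreducibleComponent_mem_irreducibleComponents _)
  refine (Scheme.Pullback.range_fst _ _).trans ?_
  ext x
  constructor
  · rintro ⟨s, hs⟩
    haveI : Subsingleton ↥(𝟙_ (Over (Spec (CommRingCat.of k)))).left :=
      inferInstanceAs (Subsingleton ↥(Spec (CommRingCat.of k)))
    rw [Subsingleton.elim s t, Scheme.Hom.comp_apply] at hs
    exact GrothLib.AntiAffine.mem_of_toSpecΓ_eq (U := ⟨_, hC⟩) isClosed_connectedComponent hs mem_connectedComponent
  · intro hx
    refine ⟨t, ?_⟩
    rw [Scheme.Hom.comp_apply]
    exact GrothLib.AntiAffine.toSpecΓ_eq_of_connected G.hom isPreconnected_connectedComponent mem_connectedComponent hx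


end Groth.Agent.S14580
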