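import Groth.Statements.S14583
-- import your own Groth.Agent.* helpers here
import Groth.Agent.Lib.FrobSub13.Main

set_option autoImplicit false
universe u
open CategoryTheory MonoidalCategory CartesianMonoidalCategory MonObj GrpObj AlgebraicGeometry CategoryTheory.Limits
open AlgGrp

namespace Groth.Agent.S14583

/-- Let k ⊆ K be a finite purely inseparable field extension, G a k-group scheme of finite type and h' :
H' → G_K a closed subgroup scheme of the base change of G to K. Then there is a closed subgroup
scheme h : H → G over k such that H' factors through the base change H_K → G_K by a morphism H' →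
H_K which is surjective. (The published statement concludes that H' ⊆ H_K with H_K/H' finite; the
subgroup H produced by its proof, a Frobenius pull-back, has H_K with the same underlying space as
H', which is the form stated here.) -/
theorem result (k K : Type u) [Field k] [Field K] [Algebra k K]
    [Module.Finite k K] [IsPurelyInseparable k K]
    (G : Over (Spec (CommRingCat.of k))) [GrpObj G] [LocallyOfFiniteType G.hom] [QuasiCompact G.hom]
    (H' : Over (Spec (CommRingCat.of K))) [GrpObj H']
    (h' : H' ⟶ Red.bc (Spec.map (CommRingCat.ofHom (algebraMap k K))) G) [IsMonHom h'] [IsClosedImmersion h'.left] :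
    ∃ (H : Over (Spec (CommRingCat.of k))) (_ : GrpObj H) (h : H ⟶ G), IsMonHom h ∧ IsClosedImmersion h.left ∧
      ∃ g : H' ⟶ Red.bc (Spec.map (CommRingCat.ofHom (algebraMap k K))) H, g ≫ (Over.pullback (Spec.map (CommRingCat.ofHom (algebraMap k K)))).map h = h' ∧ Surjective g.left := by
  exact GrothLib.FrobSub13.main k K G H' h'

end Groth.Agent.S14583
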