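import Groth.Statements.S14585
import Groth.Agent.Lib.SemiAb16.Main

set_option autoImplicit false
universe u
open CategoryTheory MonoidalCategory CartesianMonoidalCategory MonObj GrpObj AlgebraicGeometry CategoryTheory.Limits
open AlgGrp

namespace Groth.Agent.S14585

/-- Let k be an algebraically closed field and G a smooth connected k-group scheme of finite type. Then
G is a semi-abelian variety, i.e. an extension of an abelian variety by a torus (there are a closed
subgroup scheme i : T → G with T a torus and a flat surjective homomorphism q : G → A with kernel T
onto a proper smooth connected k-group scheme), if and only if every k-morphism from the affine line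
to G is constant. (The published statement is over a perfect field with constancy asked of morphisms
defined over k only; over the real numbers the group of quaternions of norm one receives only
constant morphisms from the affine line, by comparing leading coefficients in a sum of four squares
equal to 1, yet it is non-commutative, so not such an extension; the published proof uses root
subgroups, available over an algebraic closure, so k is taken algebraically closed here.) -/
theorem result (k : Type u) [Field k] [IsAlgClosed k]
    (G : Over (Spec (CommRingCat.of k))) [GrpObj G] [Smooth G.hom] [QuasiCompact G.hom] [ConnectedSpace ↥G.left] :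
    (∃ (T : Over (Spec (CommRingCat.of k))) (_ : GrpObj T) (i : T ⟶ G) (A : Over (Spec (CommRingCat.of k))) (_ : GrpObj A) (q : G ⟶ A),
        IsMonHom i ∧ IsClosedImmersion i.left ∧ Red.IsTorus T ∧ IsMonHom q ∧ Surjective q.left ∧ Flat q.left ∧
        AlgGrp.IsKernel i q ∧ IsProper A.hom ∧ Smooth A.hom ∧ ConnectedSpace ↥A.left) ↔
    ∀ f : Over.mk (𝔸(PUnit.{u + 1}; Spec (CommRingCat.of k)) ↘ Spec (CommRingCat.of k)) ⟶ G, ∃ g : 𝟙_ (Over (Spec (CommRingCat.of k))) ⟶ G, f = toUnit _ ≫ g := by
  exact GrothLib.SemiAb16.semiAbelian_iff G


end Groth.Agent.S14585
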