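import Groth.Statements.S14587
import Mathlib.RingTheory.Etale.Field
import Mathlib.AlgebraicGeometry.Morphisms.FlatMono
import Mathlib.AlgebraicGeometry.Morphisms.Etale
import Mathlib.AlgebraicGeometry.Artinian
import Groth.Agent.Lib.GrpSchField.Field
import Groth.Agent.Lib.GrpSchField.HomFlat
import Mathlib.AlgebraicGeometry.Morphisms.QuasiFinite
-- import your own Groth.Agent.* helpers here

set_option autoImplicit false
universe u
open CategoryTheory MonoidalCategory CartesianMonoidalCategory MonObj GrpObj AlgebraicGeometry CategoryTheory.Limits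
open AlgGrp

namespace Groth.Agent.S14587

/-- Let k be a perfect field and G a finite k-group scheme, r : G_red → G its reduced subgroup scheme (a
homomorphism and closed immersion from a reduced k-group scheme, surjective on underlying spaces)
and i₀ : G⁰ → G its neutral component (a homomorphism and open immersion from a connected k-group
scheme). Then the multiplication morphism G_red × G⁰ → G is an isomorphism, exhibiting G as the
semi-direct product of G⁰ by G_red. -/
theorem result (k : Type u) [Field k] [PerfectField k]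
    (G Gr G₀ : Over (Spec (CommRingCat.of k))) [GrpObj G] [GrpObj Gr] [GrpObj G₀] [IsFinite G.hom]
    (r : Gr ⟶ G) [IsMonHom r] [IsClosedImmersion r.left] [IsReduced Gr.left] [Surjective r.left]
    (i₀ : G₀ ⟶ G) [IsMonHom i₀] [IsOpenImmersion i₀.left] [ConnectedSpace ↥G₀.left] :
    IsIso ((r ⊗ₘ i₀) ≫ μ[G]) := by
  classical
  have : IsAffine G.left := isAffine_of_isAffineHom G.hom
  have : IsAffine Gr.left := isAffine_of_isAffineHom r.left
  have hGrfin : IsFinite Gr.hom := by rw [← Over.w r]; infer_instance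
  -- the reduced group is etale
  have het : Etale Gr.hom := by
    have hfin : IsFinite (Gr.left.isoSpec.inv ≫ Gr.hom) := inferInstance
    set φ := Spec.preimage (Gr.left.isoSpec.inv ≫ Gr.hom)
    have hφ : Spec.map φ = Gr.left.isoSpec.inv ≫ Gr.hom := Spec.map_preimage _
    let : Algebra k Γ(Gr.left, ⊤) := φ.hom.toAlgebra
    have : Module.Finite k Γ(Gr.left, ⊤) := by
      rw [← hφ] at hfin
      exact (IsFinite.SpecMap_iff φ).mp hfin
    have : IsArtinianRing Γ(Gr.left, ⊤) := isArtinian_of_tower k inferInstance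
    have h1 : Algebra.FormallyEtale k Γ(Gr.left, ⊤) := by
      rw [Algebra.FormallyEtale.iff_exists_algEquiv_prod]
      let f : ∀ m : MaximalSpectrum Γ(Gr.left, ⊤), Field (Γ(Gr.left, ⊤) ⧸ m.asIdeal) := fun m => Ideal.Quotient.field _
      refine ⟨MaximalSpectrum Γ(Gr.left, ⊤), inferInstance, fun m => Γ(Gr.left, ⊤) ⧸ m.asIdeal, f, inferInstance,
        (IsArtinianRing.equivPi _).restrictScalars k, fun m => ?_⟩
      infer_instance
    have h2 : Algebra.FinitePresentation k Γ(Gr.left, ⊤) := Algebra.FinitePresentation.of_finiteType.mp inferInstance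
    have h3 : Etale (Spec.map φ) := (HasRingHomProperty.Spec_iff (P := @Etale)).mpr
      (show Algebra.Etale k Γ(Gr.left, ⊤) from ⟨h1, h2⟩)
    rw [hφ] at h3
    exact (MorphismProperty.cancel_left_of_respectsIso @Etale _ _).mp h3
  -- the shear description
  let sh : Gr ⊗ G₀ ⟶ Gr ⊗ G := lift (fst Gr G₀) ((fst Gr G₀ ≫ r) * (snd Gr G₀ ≫ i₀))
  have hsh : sh ≫ snd Gr G = (r ⊗ₘ i₀) ≫ μ[G] := by
    simp [sh, Hom.mul_def]
  let sh' : Gr ⊗ G ≅ Gr ⊗ G :=
    { hom := lift (fst Gr G) ((fst Gr G ≫ r) * snd Gr G)
      inv := lift (fst Gr G) ((fst Gr G ≫ r)⁻¹ * snd Gr G)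
      hom_inv_id := by
        apply CartesianMonoidalCategory.hom_ext <;> simp [MonObj.comp_mul, GrpObj.comp_inv]
      inv_hom_id := by
        apply CartesianMonoidalCategory.hom_ext <;> simp [MonObj.comp_mul, GrpObj.comp_inv] }
  have hsh' : sh = (Gr ◁ i₀) ≫ sh'.hom := by
    apply CartesianMonoidalCategory.hom_ext <;> simp [sh, sh', MonObj.comp_mul]
  set m := (r ⊗ₘ i₀) ≫ μ[G]
  have hetm : Etale m.left := by
    have e : m.left = (Gr ◁ i₀).left ≫ sh'.hom.left ≫ (snd Gr G).left := by
      rw [← hsh, hsh', Over.comp_left, Over.comp_left, Category.assoc]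
    have : IsOpenImmersion (Gr ◁ i₀).left :=
      MorphismProperty.of_isPullback (P := @IsOpenImmersion) (GrothLib.GrpSchField.whiskerLeft_snd_isPullback Gr i₀).flip ‹_›
    have : IsIso sh'.hom.left := inferInstanceAs (IsIso ((Over.forget _).mapIso sh').hom)
    have : Etale (snd Gr G).left := inferInstanceAs (Etale (Limits.pullback.snd Gr.hom G.hom))
    rw [e]; infer_instance
  -- discreteness
  have : IsLocallyArtinian G.left := IsLocallyArtinian.of_locallyQuasiFinite G.hom
  have : DiscreteTopology G.left := IsLocallyArtinian.discreteTopology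
  have hG₀ : Subsingleton G₀.left := by
    refine ⟨fun a b => i₀.left.injective ?_⟩
    have hp : _root_.IsPreconnected (Set.range i₀.left) := by
      rw [← Set.image_univ]; exact isPreconnected_univ.image _ i₀.left.continuous.continuousOn
    exact hp.subsingleton ⟨a, rfl⟩ ⟨b, rfl⟩
  -- the intersection is trivial
  let p : Limits.pullback r.left i₀.left ⟶ Spec (CommRingCat.of k) := Limits.pullback.fst r.left i₀.left ≫ Gr.hom
  let σ : Spec (CommRingCat.of k) ⟶ Limits.pullback r.left i₀.left :=
    Limits.pullback.lift η[Gr].left η[G₀].left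
      ((congrArg (fun t => t.left) (IsMonHom.one_hom r)).trans (congrArg (fun t => t.left) (IsMonHom.one_hom i₀)).symm)
  have hσ : σ ≫ p = 𝟙 _ := by
    change σ ≫ Limits.pullback.fst r.left i₀.left ≫ Gr.hom = _
    rw [Limits.pullback.lift_fst_assoc]; exact Over.w η[Gr]
  have hE : Subsingleton ↥(Limits.pullback r.left i₀.left) :=
    ⟨fun a b => (Limits.pullback.snd r.left i₀.left).isClosedEmbedding.injective (Subsingleton.elim _ _)⟩
  have : IsReduced (Limits.pullback r.left i₀.left) := isReduced_of_isOpenImmersion (Limits.pullback.fst r.left i₀.left)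
  have : IsClosedImmersion σ := isClosedImmersion_of_comp_eq_id (Y := Spec (CommRingCat.of k)) p σ hσ
  have : Surjective σ := ⟨fun x => ⟨IsLocalRing.closedPoint k, Subsingleton.elim _ _⟩⟩
  have : IsIso σ := isIso_of_isClosedImmersion_of_surjective σ
  have hpσ : p ≫ σ = 𝟙 _ := by rw [← cancel_epi σ, reassoc_of% hσ, Category.comp_id]
  have hmono : Mono m := ⟨fun {T} u v huv => by
    have hu : ∀ w : T ⟶ Gr ⊗ G₀, w ≫ m = (w ≫ fst Gr G₀ ≫ r) * (w ≫ snd Gr G₀ ≫ i₀) := fun w => by
      rw [← hsh, lift_snd, MonObj.comp_mul]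
    rw [hu, hu] at huv
    set c : T ⟶ Gr := (v ≫ fst Gr G₀)⁻¹ * (u ≫ fst Gr G₀)
    set d : T ⟶ G₀ := (v ≫ snd Gr G₀) * (u ≫ snd Gr G₀)⁻¹
    have hcd : c ≫ r = d ≫ i₀ := by
      simp only [c, d, MonObj.mul_comp, GrpObj.inv_comp, Category.assoc]
      rw [eq_mul_inv_iff_mul_eq, _root_.mul_assoc, inv_mul_eq_iff_eq_mul]
      exact huv
    let e : T.left ⟶ Limits.pullback r.left i₀.left :=
      Limits.pullback.lift c.left d.left (congrArg (fun t => t.left) hcd)
    have he : e = T.hom ≫ σ := by
      rw [← Category.comp_id e, ← hpσ, ← Category.assoc]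
      congr 1
      change e ≫ Limits.pullback.fst r.left i₀.left ≫ Gr.hom = _
      rw [Limits.pullback.lift_fst_assoc]; exact Over.w c
    have hc1 : c = 1 := by
      apply Over.OverMorphism.ext
      have := congrArg (· ≫ Limits.pullback.fst r.left i₀.left) he
      simp only [e, Category.assoc, σ, Limits.pullback.lift_fst] at this
      exact this
    have hd1 : d = 1 := by
      apply Over.OverMorphism.ext
      have := congrArg (· ≫ Limits.pullback.snd r.left i₀.left) he
      simp only [e, Category.assoc, σ, Limits.pullback.lift_snd] at this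
      exact this
    apply CartesianMonoidalCategory.hom_ext
    · exact (inv_mul_eq_one.mp hc1).symm
    · exact (mul_inv_eq_one.mp hd1).symm⟩
  have : Mono m.left := inferInstanceAs (Mono ((Over.forget _).map m))
  have : IsOpenImmersion m.left := IsOpenImmersion.of_flat_of_mono m.left
  have : Surjective m.left := ⟨fun x => by
    obtain ⟨y, hy⟩ := r.left.surjective x
    refine ⟨(lift (𝟙 Gr) (toUnit Gr ≫ η[G₀])).left y, ?_⟩
    rw [← Scheme.Hom.comp_apply, ← Over.comp_left]
    have e : lift (𝟙 Gr) (toUnit Gr ≫ η[G₀]) ≫ m = r := by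
      rw [← hsh, lift_snd, MonObj.comp_mul, ← Category.assoc, ← Category.assoc, lift_fst, lift_snd, Category.id_comp,
        Category.assoc, IsMonHom.one_hom, ← Hom.one_def, _root_.mul_one]
    rw [e]; exact hy⟩
  have : IsIso m.left := isIso_of_isOpenImmersion_of_opensRange_eq_top m.left
    (TopologicalSpace.Opens.ext (Set.range_eq_univ.mpr m.left.surjective))
  have : IsIso ((Over.forget (Spec (CommRingCat.of k))).map m) := ‹IsIso m.left›
  exact isIso_of_reflects_iso m (Over.forget _)

end Groth.Agent.S14587
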