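import Groth.Statements.S14588
import Groth.Agent.Lib.GrpSchField.ReducedLocus
import Groth.Agent.Lib.GrpSchField.Criteria

set_option autoImplicit false
universe u
open CategoryTheory MonoidalCategory CartesianMonoidalCategory MonObj GrpObj AlgebraicGeometry CategoryTheory.Limits
open AlgGrp

namespace Groth.Agent.S14588

/-- Let k be a field with algebraic closure K and G a k-group scheme locally of finite type. If the
local ring of G_K at its unit point is reduced, then G is smooth over k. -/
theorem result (k : Type u) [Field k]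
    (G : Over (Spec (CommRingCat.of k))) [GrpObj G] [LocallyOfFiniteType G.hom]
    (t : ↥((𝟙_ (Over (Spec (CommRingCat.of (AlgebraicClosure k))))).left))
    (h : _root_.IsReduced ↑((Red.bc (Spec.map (CommRingCat.ofHom (algebraMap k (AlgebraicClosure k)))) G).left.presheaf.stalk ((η[Red.bc (Spec.map (CommRingCat.ofHom (algebraMap k (AlgebraicClosure k)))) G]).left.base t))) :
    Smooth G.hom := by
  let L := AlgebraicClosure k
  let b : Spec (CommRingCat.of L) ⟶ Spec (CommRingCat.of k) :=
    Spec.map (CommRingCat.ofHom (algebraMap k L))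
  let Gb := Red.bc b G
  have : LocallyOfFiniteType Gb.hom :=
    inferInstanceAs (LocallyOfFiniteType (Limits.pullback.snd G.hom b))
  have : IsLocallyNoetherian Gb.left := LocallyOfFiniteType.isLocallyNoetherian Gb.hom
  have : _root_.IsReduced (Gb.left.presheaf.stalk ((η[Gb]).left t)) := h
  obtain ⟨U, hU, hred⟩ := GrothLib.GrpSchField.exists_isReduced_nhd ((η[Gb]).left t)
  have : Nonempty U.toScheme := ⟨⟨_, hU⟩⟩
  obtain ⟨f, hf⟩ : ∃ f, f = U.ι ≫ Gb.hom := ⟨_, rfl⟩
  have : LocallyOfFinitePresentation f := by rw [hf]; infer_instance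
  have : Nonempty f.smoothLocus :=
    (Scheme.Hom.dense_smoothLocus_of_perfectField f).nonempty.to_subtype
  have : Smooth (f.smoothLocus.ι ≫ f) := by
    rw [← Scheme.Hom.smoothLocus_eq_top_iff, ← Scheme.Hom.preimage_smoothLocus_eq,
      Scheme.Opens.ι_preimage_self]
  have : Smooth ((f.smoothLocus.ι ≫ U.ι) ≫ Gb.hom) := by
    rw [Category.assoc, ← hf]; exact this
  have hs : Smooth Gb.hom :=
    GrothLib.GrpSchField.smooth_of_open_smooth Gb (f.smoothLocus.ι ≫ U.ι)
  exact MorphismProperty.of_pullback_snd_of_descendsAlong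
    (P := @Smooth) (Q := @Surjective ⊓ @Flat ⊓ @QuasiCompact) (f := G.hom) (g := b)
    ⟨⟨inferInstance, inferInstance⟩, inferInstance⟩ hs

end Groth.Agent.S14588
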