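import Groth.Statements.S1459
import Groth.Agent.Lib.FibreFlat.Slice
-- import your own Groth.Agent.* helpers here

set_option autoImplicit false
universe u
open FlatMor

namespace Groth.Agent.S1459

open AlgebraicGeometry CategoryTheory Limits in
/-- Let f : X → S be locally of finite presentation and flat at x with image s, and let h_1, …, h_r be
elements of O_{X,x} whose images in O_{X,x} / m_s O_{X,x} form a regular sequence. Then there are an
affine open U ∋ x and sections on U with these germs such that the closed subscheme Z of U they cut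
out is a regular closed immersion whose image contains x, Z → S is flat and locally of finite
presentation, and the base change of Z → U along any S' → S is again a regular closed immersion. -/
theorem result {X S : Scheme.{u}} (f : X ⟶ S) [LocallyOfFinitePresentation f] (x : X)
    (hflat : (f.stalkMap x).hom.Flat) (hs : List ↑(X.presheaf.stalk x))
    (hreg : RingTheory.Sequence.IsRegular (↑(X.presheaf.stalk x) ⧸ Ideal.map (f.stalkMap x).hom (IsLocalRing.maximalIdeal ↑(S.presheaf.stalk (f x))))
      (hs.map (Ideal.Quotient.mk (Ideal.map (f.stalkMap x).hom (IsLocalRing.maximalIdeal ↑(S.presheaf.stalk (f x))))))) :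
    ∃ (U : X.Opens) (hU : IsAffineOpen U) (hx : x ∈ U) (hs' : List Γ(X, U)), hs'.map (X.presheaf.germ U x hx) = hs ∧
      Mor2.IsRegularClosedImmersion (Spec.map (CommRingCat.ofHom (Ideal.Quotient.mk (Ideal.ofList hs'))) ≫ hU.isoSpec.inv) ∧
      x ∈ Set.range ⇑(Spec.map (CommRingCat.ofHom (Ideal.Quotient.mk (Ideal.ofList hs'))) ≫ hU.fromSpec) ∧
      Flat (Spec.map (CommRingCat.ofHom (Ideal.Quotient.mk (Ideal.ofList hs'))) ≫ hU.fromSpec ≫ f) ∧ LocallyOfFinitePresentation (Spec.map (CommRingCat.ofHom (Ideal.Quotient.mk (Ideal.ofList hs'))) ≫ hU.fromSpec ≫ f) ∧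
      ∀ (S' : Scheme.{u}) (g : S' ⟶ S), Mor2.IsRegularClosedImmersion
        (pullback.map (Spec.map (CommRingCat.ofHom (Ideal.Quotient.mk (Ideal.ofList hs'))) ≫ hU.isoSpec.inv ≫ U.ι ≫ f) g (U.ι ≫ f) g (Spec.map (CommRingCat.ofHom (Ideal.Quotient.mk (Ideal.ofList hs'))) ≫ hU.isoSpec.inv) (𝟙 S') (𝟙 S)
          (Category.comp_id _) ((Category.comp_id g).trans (Category.id_comp g).symm)) := by
      open GrothLib.FibreFlat RingTheory.Sequence in
      obtain ⟨V, U, hU, hx, hVU, a, hV, ha, hmem, hfl⟩ :=
        exists_slice f x hflat (fun i : Fin hs.length => hs.get i) (by rw [List.ofFn_get]; exact hreg)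
      haveI : IsAffine (U : Scheme.{u}) := hU
      refine ⟨U, hU, hx, List.ofFn a, ?_, ?_, ?_, GrothLib.FibreFlat.flat_slice f hU hVU a hV hfl, ?_, ?_⟩
      · rw [List.map_ofFn]
        exact (congrArg _ (funext ha)).trans (List.ofFn_get hs)
      · exact GrothLib.FibreFlat.regular_slice f hU hVU a hV hfl (𝟙 S) (𝟙 _) (U.ι ≫ f)
          (IsPullback.of_horiz_isIso ⟨by simp⟩) _ (𝟙 _) (IsPullback.of_vert_isIso ⟨by simp⟩)
      · let J := Ideal.ofList (List.ofFn a)
        have hle : J ≤ (hU.primeIdealOf ⟨x, hx⟩).asIdeal := by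
          rw [Ideal.span_le]
          intro t ht
          obtain ⟨i, rfl⟩ := List.mem_ofFn.mp ht
          exact hmem i
        have : (hU.primeIdealOf ⟨x, hx⟩) ∈ Set.range (PrimeSpectrum.comap (Ideal.Quotient.mk J)) := by
          rw [range_comap_of_surjective _ _ Ideal.Quotient.mk_surjective, Ideal.mk_ker]
          exact hle
        obtain ⟨p, hp⟩ := this
        exact ⟨p, (congrArg hU.fromSpec hp).trans (hU.fromSpec_primeIdealOf ⟨x, hx⟩)⟩
      · haveI : LocallyOfFinitePresentation (Spec.map (CommRingCat.ofHom (Ideal.Quotient.mk (Ideal.ofList (List.ofFn a))))) :=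
          (LocallyOfFinitePresentation.SpecMap_iff _).mpr
            (RingHom.FinitePresentation.of_surjective _ Ideal.Quotient.mk_surjective (by
              show (RingHom.ker (Ideal.Quotient.mk _)).FG
              rw [Ideal.mk_ker]
              exact Submodule.fg_span (List.finite_toSet _)))
        haveI : LocallyOfFinitePresentation hU.fromSpec := inferInstance
        infer_instance
      · intro S' g
        refine GrothLib.FibreFlat.regular_slice f hU hVU a hV hfl g (pullback.fst _ _) (pullback.snd _ _)
          (IsPullback.of_hasPullback _ _) _ (pullback.fst _ _) ?_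
        refine (IsPullback.of_bot (h₁₁ := pullback.fst _ g) (h₂₁ := pullback.fst (U.ι ≫ f) g)
          (v₂₁ := pullback.snd (U.ι ≫ f) g) (h₃₁ := g) (v₂₂ := U.ι ≫ f) ?_ (by simp only [pullback.map, pullback.lift_fst])
          (IsPullback.of_hasPullback (U.ι ≫ f) g)).flip
        simpa only [pullback.map, pullback.lift_snd, Category.assoc, Category.comp_id] using IsPullback.of_hasPullback
          (Spec.map (CommRingCat.ofHom (Ideal.Quotient.mk (Ideal.ofList (List.ofFn a)))) ≫ hU.isoSpec.inv ≫ U.ι ≫ f) g

end Groth.Agent.S1459
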