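import Groth.Statements.S14593
import Groth.Agent.Lib.ChevNorm2.Basic


set_option autoImplicit false
set_option linter.all false
set_option backward.isDefEq.respectTransparency false
set_option maxHeartbeats 1000000
universe u
open CategoryTheory MonoidalCategory CartesianMonoidalCategory MonObj GrpObj AlgebraicGeometry CategoryTheory.Limits
open AlgGrp

namespace Groth.Agent.S14593

/-- Let k be a field, G a smooth k-group scheme of finite type, i₀ : G⁰ → G its neutral component (a
connected open subgroup scheme) and α : G⁰ → A the Albanese homomorphism of G⁰: a flat surjective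
homomorphism onto an abelian variety A (proper, smooth, connected) through which every morphism from
G⁰ to an abelian variety preserving the unit factors uniquely. Let j : N → G⁰ be the kernel of α.
Then N is normal in G, affine and connected; it is the kernel of a flat surjective homomorphism from
G onto a proper k-group scheme of finite type; and it is the smallest normal subgroup scheme of G
with proper quotient: every flat surjective homomorphism from G onto a proper k-group scheme of
finite type kills N. -/
theorem result (k : Type u) [Field k]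
    (G : Over (Spec (CommRingCat.of k))) [GrpObj G] [Smooth G.hom] [QuasiCompact G.hom]
    (G₀ : Over (Spec (CommRingCat.of k))) [GrpObj G₀] (i₀ : G₀ ⟶ G) [IsMonHom i₀] [IsOpenImmersion i₀.left] [ConnectedSpace ↥G₀.left]
    (A : Over (Spec (CommRingCat.of k))) [GrpObj A] [IsProper A.hom] [Smooth A.hom] [ConnectedSpace ↥A.left]
    (α : G₀ ⟶ A) [IsMonHom α] [Surjective α.left] [Flat α.left]
    (hα : ∀ (B : Over (Spec (CommRingCat.of k))) [GrpObj B] [IsProper B.hom] [Smooth B.hom] [ConnectedSpace ↥B.left] (f : G₀ ⟶ B),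
      η[G₀] ≫ f = η[B] → ∃! g : A ⟶ B, α ≫ g = f)
    (N : Over (Spec (CommRingCat.of k))) [GrpObj N] (j : N ⟶ G₀) [IsMonHom j] [IsClosedImmersion j.left] (hN : AlgGrp.IsKernel j α) :
    AlgGrp.IsNormalHom (j ≫ i₀) ∧ IsAffine N.left ∧ ConnectedSpace ↥N.left ∧
      (∃ (Q : Over (Spec (CommRingCat.of k))) (_ : GrpObj Q) (q : G ⟶ Q), IsMonHom q ∧ Surjective q.left ∧ Flat q.left ∧
        AlgGrp.IsKernel (j ≫ i₀) q ∧ IsProper Q.hom) ∧
      ∀ (Q' : Over (Spec (CommRingCat.of k))) [GrpObj Q'] [IsProper Q'.hom] (q' : G ⟶ Q') [IsMonHom q'] [Surjective q'.left] [Flat q'.left],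
        (j ≫ i₀) ≫ q' = 1 := by
  haveI : Smooth G₀.hom := by rw [← Over.w i₀]; infer_instance
  haveI : IsLocallyNoetherian G.left := LocallyOfFiniteType.isLocallyNoetherian G.hom
  haveI : QuasiCompact G₀.hom := by rw [← Over.w i₀]; infer_instance
  haveI : IsSeparated G.hom := GrothLib.GrpSchField.isSeparated G
  haveI : Mono i₀ := Over.mono_of_mono_left i₀
  haveI : Mono j := Over.mono_of_mono_left j
  have hmin : ∀ (B : Over (Spec (CommRingCat.of k))) [GrpObj B] [IsProper B.hom] (u : G₀ ⟶ B) [IsMonHom u],
      j ≫ u = 1 := by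
    intro B _ _ u _
    haveI : QuasiCompact u.left := by
      haveI : QuasiCompact (u.left ≫ B.hom) := by rw [Over.w]; infer_instance
      exact QuasiCompact.of_comp _ B.hom
    obtain ⟨I, _, p, jI, hp, hjI, hpj, hps, hpf, hpl, hm, hIl, -⟩ := GrothLib.Neutral.exists_factor_field u
    haveI := hp; haveI := hjI; haveI := hps; haveI := hpf; haveI := hpl; haveI := hm; haveI := hIl
    haveI := (GrothLib.Neutral.isClosedImmersion_factor u hpj).1
    haveI : IsProper I.hom := by rw [← Over.w jI]; infer_instance
    haveI : Smooth I.hom := GrothLib.FppfSource.fppfSourceDescends_smooth p.left I.hom hpf hpl hps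
      (by rw [Over.w p]; infer_instance)
    haveI : ConnectedSpace I.left := p.left.surjective.connectedSpace p.left.continuous
    obtain ⟨g, hg, -⟩ := hα I p (IsMonHom.one_hom p)
    have e1 : η[A] ≫ g = η[I] := by
      rw [← IsMonHom.one_hom α, Category.assoc, hg, IsMonHom.one_hom p]
    have e2 : j ≫ p = 1 := by
      rw [← hg, ← Category.assoc, GrothLib.GrpDeligne.ker_comp_eq_one hN, Hom.one_def, Category.assoc, e1, Hom.one_def]
    rw [← hpj, ← Category.assoc, e2, MonObj.one_comp]
  have hnorm := GrothLib.ChevNorm2.stable_conj i₀ α j hN hmin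
  obtain ⟨N', _, i', A', _, α', hi', hic', -, ha, hc, hAp', hα', hαs', hαf', hker', hmin'⟩ :=
    GrothLib.ChevAny2.exists_smallest (G := G₀)
  haveI := hi'; haveI := hic'; haveI := hα'; haveI := hAp'; haveI := ha; haveI := hc
  haveI : Mono i' := Over.mono_of_mono_left i'
  obtain ⟨a, ha'⟩ := GrothLib.GrpSchField.exists_lift_of_comp_eq_one hN i' (hmin' A α)
  obtain ⟨b, hb'⟩ := GrothLib.GrpSchField.exists_lift_of_comp_eq_one hker' j (hmin A' α')
  haveI : IsIso b := ⟨a, by rw [← cancel_mono j, Category.assoc, ha', hb', Category.id_comp],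
    by rw [← cancel_mono i', Category.assoc, hb', ha', Category.id_comp]⟩
  haveI : IsIso b.left := inferInstanceAs (IsIso ((Over.forget _).map b))
  haveI hNa : IsAffine N.left := IsAffine.of_isIso b.left
  haveI hNc : ConnectedSpace N.left := (inv b.left).surjective.connectedSpace (inv b.left).continuous
  refine ⟨hnorm, hNa, hNc, ?_, ?_⟩
  · have hr : IsClosed (Set.range i₀.left) := GrothLib.NeronCompGrp24.isClosed_range_hom i₀
    haveI : IsClosedImmersion i₀.left := IsClosedImmersion.of_isPreimmersion i₀.left hr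
    haveI : IsClosedImmersion (j ≫ i₀).left := inferInstanceAs (IsClosedImmersion (j.left ≫ i₀.left))
    haveI : LocallyOfFiniteType N.hom := by rw [← Over.w j]; infer_instance
    obtain ⟨Q, _, q, hq, hQs, hQq, hqf, hqs, -, hker⟩ := GrothLib.Chev24.exists_quot (j ≫ i₀) hnorm
    haveI := hq; haveI := hQs; haveI := hQq; haveI := hqf; haveI := hqs
    refine ⟨Q, inferInstance, q, hq, hqs, hqf, hker, ?_⟩
    let f : Spec (CommRingCat.of (AlgebraicClosure k)) ⟶ Spec (CommRingCat.of k) :=
      Spec.map (CommRingCat.ofHom (algebraMap k (AlgebraicClosure k)))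
    haveI : IsIntegralHom f := GrothLib.SemiAbDesc2.isIntegralHom_algClosure
    haveI : Flat f := GrothLib.Flag27.flat_to_field f
    haveI : Surjective f := GrothLib.Flag27.surjective_to_field f
    let Fn := Over.pullback f
    haveI := GrothLib.Flag27.smooth_bc f G
    haveI := GrothLib.Flag27.smooth_bc f Q
    haveI : QuasiCompact (Red.bc f G).hom := MorphismProperty.pullback_snd (P := @QuasiCompact) G.hom f ‹_›
    haveI : QuasiCompact (Red.bc f Q).hom := MorphismProperty.pullback_snd (P := @QuasiCompact) Q.hom f ‹_›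
    haveI : Flat (Fn.map q).left := GrothLib.Flag27.property_map f q hqf
    haveI : Surjective (Fn.map q).left := GrothLib.Flag27.property_map f q hqs
    obtain ⟨P, _, p, hp, hpc, hPs, hPc, hPa, hPn, hmax⟩ := GrothLib.Chev24.exists_affPart (G := Red.bc f G)
    haveI := hp; haveI := hpc; haveI := hPs; haveI := hPc; haveI := hPa
    haveI : IsProper (Red.bc f A).hom := inferInstanceAs (IsProper (pullback.snd A.hom f))
    haveI : IsOpenImmersion (Fn.map i₀).left := GrothLib.Flag27.property_map f i₀ ‹_›
    haveI : IsClosedImmersion (Fn.map i₀).left := GrothLib.Flag27.property_map f i₀ ‹IsClosedImmersion i₀.left›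
    haveI : IsReduced P.left := GrothLib.RedSmooth.isReduced_of_smooth P.hom
    have hsub : Set.range p.left ⊆ Set.range (Fn.map i₀).left :=
      (isPreconnected_range p.left.continuous).subset_isClopen
        ⟨(Fn.map i₀).left.isClosedEmbedding.isClosed_range, (Fn.map i₀).left.isOpenEmbedding.isOpen_range⟩
        ⟨η[Red.bc f G].left (IsLocalRing.closedPoint _),
          ⟨η[P].left (IsLocalRing.closedPoint _), by
            rw [← Scheme.Hom.comp_apply, ← Over.comp_left, IsMonHom.one_hom]⟩,
          ⟨η[Red.bc f G₀].left (IsLocalRing.closedPoint _), by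
            rw [← Scheme.Hom.comp_apply, ← Over.comp_left, IsMonHom.one_hom]⟩⟩
    let p₀ : P ⟶ Red.bc f G₀ := Over.homMk (IsOpenImmersion.lift (Fn.map i₀).left p.left hsub)
      (by rw [← Over.w (Fn.map i₀), ← Category.assoc, IsOpenImmersion.lift_fac]; exact Over.w p)
    have hp₀ : p₀ ≫ Fn.map i₀ = p := Over.OverMorphism.ext (IsOpenImmersion.lift_fac _ _ _)
    haveI : Mono (Fn.map i₀) := Over.mono_of_mono_left _
    haveI : IsMonHom (p₀ ≫ Fn.map i₀) := by rw [hp₀]; infer_instance
    haveI : IsMonHom p₀ := GrothLib.CentMT14.isMonHom_of_comp p₀ (Fn.map i₀)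
    haveI : IsMonHom (p₀ ≫ Fn.map α) := inferInstance
    have h1 : p₀ ≫ Fn.map α = 1 := GrothLib.Chev24.hom_affine_proper_eq_one (p₀ ≫ Fn.map α)
    obtain ⟨e, he⟩ := GrothLib.GrpSchField.exists_lift_of_comp_eq_one (GrothLib.Chev24.isKernel_bc f j α hN) p₀ h1
    have hkill : p ≫ Fn.map q = 1 := by
      rw [← hp₀, ← he, Category.assoc, Category.assoc, ← Functor.map_comp, ← Functor.map_comp,
        GrothLib.GrpDeligne.ker_comp_eq_one (show AlgGrp.IsKernel (j ≫ i₀) q from hker) |> (fun h => by rw [← Category.assoc]; exact h : _ → j ≫ i₀ ≫ q = 1),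
        Functor.map_one, MonObj.comp_one]
    have h : IsProper (Red.bc f Q).hom := GrothLib.ChevAny2.proper_of_kill p hmax (Fn.map q) hkill
    exact MorphismProperty.of_pullback_snd_of_descendsAlong (P := @IsProper)
      (Q := GrothLib.EtSite.fpqcCov) (f := Q.hom) (g := f) ⟨⟨‹_›, ‹_›⟩, inferInstance⟩ h
  · intro Q' _ _ q' _ _ _
    rw [Category.assoc]
    exact hmin Q' (i₀ ≫ q')


end Groth.Agent.S14593
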