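import Groth.Statements.S14594
import Groth.Agent.Lib.AffPart16.Basic
import Groth.Agent.Lib.Rigidity.SemiAbelian
import Groth.Agent.Lib.TorusPrim24.Main
import Groth.Agent.Lib.NormQF14.Pow
import Groth.Agent.Lib.UnipFix19.Reductive
import Groth.Agent.Lib.IsogProps19.Torus
import Groth.Agent.Lib.NeronCompGrp24.Stab

set_option autoImplicit false
set_option linter.all false
set_option backward.isDefEq.respectTransparency false
universe u
open CategoryTheory MonoidalCategory CartesianMonoidalCategory MonObj GrpObj AlgebraicGeometry CategoryTheory.Limits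
open AlgGrp

namespace Groth.Agent.S14594

/-- Let k be a field, G a smooth connected k-group scheme of finite type and f : G → H an isogeny onto a
k-group scheme of finite type H, i.e. a surjective homomorphism whose kernel N is finite. If H is a
semi-abelian variety (an extension of a proper smooth connected k-group scheme by a torus), then G
is a semi-abelian variety. -/
theorem result (k : Type u) [Field k]
    (G H : Over (Spec (CommRingCat.of k))) [GrpObj G] [GrpObj H] [Smooth G.hom] [QuasiCompact G.hom] [ConnectedSpace ↥G.left]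
    [LocallyOfFiniteType H.hom] [QuasiCompact H.hom] (f : G ⟶ H) [IsMonHom f] [Surjective f.left]
    (N : Over (Spec (CommRingCat.of k))) [GrpObj N] (n : N ⟶ G) [IsMonHom n] [IsClosedImmersion n.left] [IsFinite N.hom]
    (hker : AlgGrp.IsKernel n f) (hH : (∃ (T : Over (Spec (CommRingCat.of k))) (_ : GrpObj T) (i : T ⟶ H) (A : Over (Spec (CommRingCat.of k))) (_ : GrpObj A) (q : H ⟶ A),
        IsMonHom i ∧ IsClosedImmersion i.left ∧ Red.IsTorus T ∧ IsMonHom q ∧ Surjective q.left ∧ Flat q.left ∧
        AlgGrp.IsKernel i q ∧ IsProper A.hom ∧ Smooth A.hom ∧ ConnectedSpace ↥A.left)) :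
    (∃ (T : Over (Spec (CommRingCat.of k))) (_ : GrpObj T) (i : T ⟶ G) (A : Over (Spec (CommRingCat.of k))) (_ : GrpObj A) (q : G ⟶ A),
        IsMonHom i ∧ IsClosedImmersion i.left ∧ Red.IsTorus T ∧ IsMonHom q ∧ Surjective q.left ∧ Flat q.left ∧
        AlgGrp.IsKernel i q ∧ IsProper A.hom ∧ Smooth A.hom ∧ ConnectedSpace ↥A.left) := by
  classical
  obtain ⟨T, _, t, A, _, p, ht, htc, hT, hp, hps, hpf, hkt, hAp, hAs, hAc⟩ := hH
  haveI := ht; haveI := htc; haveI := hp; haveI := hps; haveI := hpf; haveI := hAp; haveI := hAs; haveI := hAc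
  haveI := GrothLib.Rigidity.geometricallyIntegral_of_extension t p hT hkt
  haveI : IsIntegral H.left := GeometricallyIntegral.isIntegral_of_subsingleton H.hom
  haveI : IsLocallyNoetherian H.left := LocallyOfFiniteType.isLocallyNoetherian H.hom
  haveI : IsSeparated G.hom := GrothLib.GrpSchField.isSeparated G
  haveI : IsSeparated H.hom := GrothLib.GrpSchField.isSeparated H
  haveI : IsCommMonObj H := by
    refine ⟨?_⟩
    have hμ : μ[H] = fst H H * snd H H := by rw [Hom.mul_def, lift_fst_snd, Category.id_comp]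
    rw [hμ, MonObj.comp_mul, braiding_hom_fst, braiding_hom_snd,
      GrothLib.Rigidity.comm_of_extension t p hT hkt (snd H H) (fst H H)]
  haveI : QuasiCompact f.left := by
    haveI : QuasiCompact (f.left ≫ H.hom) := by rw [Over.w f]; infer_instance
    exact QuasiCompact.of_comp f.left H.hom
  haveI : LocallyOfFiniteType f.left := by
    haveI : LocallyOfFiniteType (f.left ≫ H.hom) := by rw [Over.w f]; infer_instance
    exact locallyOfFiniteType_of_comp f.left H.hom
  haveI hff : Flat f.left := GrothLib.GrpSchField.flat_hom f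
  haveI hflfp : LocallyOfFinitePresentation f.left := inferInstance
  haveI : IsFinite f.left := by
    have sq := (GrothLib.Rigidity.isPullback_kernelPair f n hker).map (Over.forget (Spec (CommRingCat.of k)))
    haveI : IsFinite (snd N G).left := inferInstanceAs (IsFinite (Limits.pullback.snd N.hom G.hom))
    exact GrothLib.AlgSp.fppfDescends_isFinite _ _ _ _ sq hff hflfp ‹Surjective f.left› ‹_›
  haveI : Smooth H.hom := GrothLib.FppfSource.fppfSourceDescends_smooth f.left H.hom hff hflfp ‹_›
    (by rw [Over.w f]; infer_instance)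
  haveI : ConnectedSpace H.left := f.left.surjective.connectedSpace f.left.continuous
  haveI hGcomm : IsCommMonObj G := GrothLib.IsogGaGm24.isCommMonObj_of_finite f
  haveI : IsIntegral G.left := GrothLib.IsogGaGm24.isIntegral_of_smooth G
  haveI : IsCommMonObj A := by
    haveI := GrothLib.Neutral.geometricallyConnected_of_point A.hom (η[A] : 𝟙_ _ ⟶ A).left (Over.w _)
    haveI := GrothLib.Rigidity.geometricallyIntegral_of_smooth A
    exact isCommMonObj_of_isProper_of_geometricallyIntegral A
  let p₀ : ↥(𝟙_ (Over (Spec (CommRingCat.of k)))).left := IsLocalRing.closedPoint k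
  haveI : Subsingleton ↥(𝟙_ (Over (Spec (CommRingCat.of k)))).left := inferInstanceAs (Subsingleton (PrimeSpectrum k))
  let m := Scheme.Hom.finrank f.left (η[H].left p₀)
  have hm : 0 < m := (Scheme.Hom.one_le_finrank_iff_surjective (f := f.left)).2 inferInstance _
  obtain ⟨g, hg, hfg, hgf⟩ := GrothLib.GrpDeligne.exists_dual_hom f m (fun s => by rw [Subsingleton.elim s p₀])
  haveI := hg
  -- multiplication by `m` on `H` is surjective
  haveI : QuasiCompact g.left := by
    haveI : QuasiCompact (g.left ≫ G.hom) := by rw [Over.w g]; infer_instance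
    exact QuasiCompact.of_comp g.left G.hom
  haveI hmH : IsMonHom ((𝟙 H) ^ m) := GrothLib.GrpDeligne.isMonHom_pow (𝟙 H) m
  haveI : LocallyOfFiniteType T.hom := by rw [← Over.w t]; infer_instance
  haveI : QuasiCompact T.hom := by rw [← Over.w t]; infer_instance
  obtain ⟨hTs, hTc⟩ := GrothLib.Rigidity.smooth_connected_of_isTorus T hT
  haveI := hTs; haveI := hTc
  haveI := GrothLib.IsogGaGm24.isIntegral_of_smooth T
  haveI : IsCommMonObj T := by
    haveI : Mono t := Over.mono_of_mono_left t
    refine ⟨?_⟩
    rw [← cancel_mono t, Category.assoc, IsMonHom.mul_hom, ← Category.assoc, ← BraidedCategory.braiding_naturality,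
      Category.assoc, IsCommMonObj.mul_comm]
  haveI hmT : IsMonHom ((𝟙 T) ^ m) := GrothLib.GrpDeligne.isMonHom_pow (𝟙 T) m
  haveI : Surjective ((𝟙 T) ^ m).left := GrothLib.TorusPrim24.surjective_pow_of_isTorus hT hm
  haveI hTfin : IsFinite ((𝟙 T) ^ m).left :=
    GrothLib.NormQF14.isFinite_pow T (GrothLib.UnipFix19.isMultTypeFT_of_isTorus hT) m hm
  haveI : Flat ((𝟙 T) ^ m).left := GrothLib.GrpSchField.flat_hom ((𝟙 T) ^ m)
  haveI : Surjective ((𝟙 A) ^ m).left := by
    haveI := GrothLib.Neutral.geometricallyConnected_of_point A.hom (η[A] : 𝟙_ _ ⟶ A).left (Over.w _)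
    haveI := GrothLib.Rigidity.geometricallyIntegral_of_smooth A
    exact GrothLib.Cube.surjective_pow A hm.ne'
  haveI hsH : Surjective ((𝟙 H) ^ m).left := by
    haveI : QuasiCompact ((𝟙 H) ^ m).left := by
      haveI : QuasiCompact (((𝟙 H) ^ m).left ≫ H.hom) := by rw [Over.w]; infer_instance
      exact QuasiCompact.of_comp _ H.hom
    obtain ⟨Q, _, e, j, he, hj, hej, hes, -, -, hm', hQlft, -⟩ :=
      GrothLib.Neutral.exists_factor_field ((𝟙 H) ^ m)
    haveI := he; haveI := hj; haveI := hm'; haveI := hes; haveI := hQlft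
    haveI := (GrothLib.Neutral.isClosedImmersion_factor ((𝟙 H) ^ m) hej).1
    obtain ⟨R, _, c, hc, -, -, hcf, hcs, -, hcker⟩ :=
      GrothLib.Chev24.exists_quot j (fun T' x y => ⟨y, by rw [mul_comm x, mul_inv_cancel_right]⟩)
    haveI := hc; haveI := hcf; haveI := hcs
    have hkill : ((𝟙 H) ^ m) ≫ c = 1 := by
      rw [← hej, Category.assoc, GrothLib.GrpDeligne.ker_comp_eq_one hcker, MonObj.comp_one]
    haveI : Epi ((𝟙 T) ^ m).left := Flat.epi_of_flat_of_surjective _
    haveI : Epi ((𝟙 T) ^ m) := (Over.forget _).epi_of_epi_map (inferInstanceAs (Epi ((𝟙 T) ^ m).left))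
    have htc1 : t ≫ c = 1 := by
      rw [← cancel_epi ((𝟙 T) ^ m), MonObj.comp_one, ← Category.assoc, MonObj.pow_comp, Category.id_comp,
        ← Category.comp_id t, ← MonObj.comp_pow, Category.assoc, hkill, MonObj.comp_one]
    haveI : QuasiCompact p.left := by
      haveI : QuasiCompact (p.left ≫ A.hom) := by rw [Over.w p]; infer_instance
      exact QuasiCompact.of_comp p.left A.hom
    obtain ⟨c', hc', hpc⟩ := GrothLib.GrpDeligne.exists_factor p t hkt c htc1
    haveI := hc'
    haveI : IsIntegral A.left := GrothLib.IsogGaGm24.isIntegral_of_smooth A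
    haveI : QuasiCompact ((𝟙 A) ^ m).left := by
      haveI : QuasiCompact (((𝟙 A) ^ m).left ≫ A.hom) := by rw [Over.w]; infer_instance
      exact QuasiCompact.of_comp _ A.hom
    haveI : IsMonHom ((𝟙 A) ^ m) := GrothLib.GrpDeligne.isMonHom_pow (𝟙 A) m
    haveI : Flat ((𝟙 A) ^ m).left := GrothLib.GrpSchField.flat_hom ((𝟙 A) ^ m)
    haveI : Epi ((𝟙 A) ^ m).left := Flat.epi_of_flat_of_surjective _
    haveI : Epi ((𝟙 A) ^ m) := (Over.forget _).epi_of_epi_map (inferInstanceAs (Epi ((𝟙 A) ^ m).left))
    haveI : Epi p.left := Flat.epi_of_flat_of_surjective _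
    haveI : Epi p := (Over.forget _).epi_of_epi_map (inferInstanceAs (Epi p.left))
    have hc1 : c' = 1 := by
      rw [← cancel_epi ((𝟙 A) ^ m), ← cancel_epi p, MonObj.comp_one, MonObj.comp_one, ← Category.assoc,
        MonObj.comp_pow, Category.comp_id, ← Category.id_comp p, ← MonObj.pow_comp, Category.assoc, hpc, hkill]
    obtain ⟨l, hl⟩ := GrothLib.GrpDeligne.exists_lift_ker hcker (𝟙 H) (by
      rw [Category.id_comp, ← hpc, hc1, MonObj.comp_one])
    refine ⟨fun y => ?_⟩
    obtain ⟨z, hz⟩ := e.left.surjective (l.left y)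
    refine ⟨z, ?_⟩
    show ((𝟙 H) ^ m).left z = y
    rw [← hej, Over.comp_left, Scheme.Hom.comp_apply, hz, ← Scheme.Hom.comp_apply, ← Over.comp_left, hl]
    rfl
  -- the dual homomorphism is surjective
  haveI hsg : Surjective g.left := by
    have hcl := GrothLib.NeronCompGrp24.isClosed_range_hom g
    have hfs : ∀ y : H.left, ∃ x ∈ Set.range g.left, f.left x = y := fun y => by
      obtain ⟨x, hx⟩ := ((𝟙 H) ^ m).left.surjective y
      exact ⟨g.left x, ⟨x, rfl⟩, by rw [← Scheme.Hom.comp_apply, ← Over.comp_left, hgf, hx]⟩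
    obtain ⟨z, hz, hzf⟩ := hfs (f.left (genericPoint G.left))
    have := GrothLib.IsogGaGm24.eq_of_specializes_of_finite f.left (genericPoint_specializes z) hzf.symm
    refine ⟨fun y => ?_⟩
    exact (genericPoint_specializes y).mem_closed hcl (this ▸ hz)
  -- the image torus
  haveI : QuasiCompact (t ≫ g).left := by
    haveI : QuasiCompact ((t ≫ g).left ≫ G.hom) := by rw [Over.w]; infer_instance
    exact QuasiCompact.of_comp _ G.hom
  obtain ⟨T', _, p', j', hp', hj', hpj', hps', hpf', hplfp', hm', hT'lft, -⟩ :=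
    GrothLib.Neutral.exists_factor_field (t ≫ g)
  haveI := hp'; haveI := hj'; haveI := hm'; haveI := hps'; haveI := hpf'; haveI := hplfp'; haveI := hT'lft
  haveI := (GrothLib.Neutral.isClosedImmersion_factor (t ≫ g) hpj').1
  haveI : Smooth T'.hom := GrothLib.FppfSource.fppfSourceDescends_smooth p'.left T'.hom hpf' hplfp' hps'
    (by rw [Over.w p']; infer_instance)
  haveI : ConnectedSpace T'.left := p'.left.surjective.connectedSpace p'.left.continuous
  haveI : IsSeparated T'.hom := GrothLib.GrpSchField.isSeparated T'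
  haveI : IsAffineHom T.hom :=
    GrothLib.EssFree.isAffineHom_multTypeFT T (GrothLib.UnipFix19.isMultTypeFT_of_isTorus hT)
  haveI : IsAffine T.left := isAffine_of_isAffineHom T.hom
  haveI : IsAffine T'.left := GrothLib.Chevalley.isAffine_of_surjective_hom p'
  haveI : IsCommMonObj T' := by
    refine ⟨?_⟩
    rw [← cancel_mono j', Category.assoc, IsMonHom.mul_hom, ← Category.assoc, ← BraidedCategory.braiding_naturality,
      Category.assoc, IsCommMonObj.mul_comm]
  haveI : IsFinite p'.left := by
    have e : p' ≫ j' ≫ f = ((𝟙 T) ^ m) ≫ t := by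
      rw [reassoc_of% hpj', hgf, MonObj.comp_pow, Category.comp_id, MonObj.pow_comp, Category.id_comp]
    haveI : IsFinite (p'.left ≫ (j' ≫ f).left) := by
      rw [← Over.comp_left, e, Over.comp_left]; infer_instance
    haveI : IsSeparated (j' ≫ f).left := by
      haveI : IsSeparated ((j' ≫ f).left ≫ H.hom) := by rw [Over.w]; infer_instance
      exact IsSeparated.of_comp _ H.hom
    exact IsFinite.of_comp p'.left (j' ≫ f).left
  have hT' : Red.IsTorus T' :=
    (GrothLib.TorusPrim24.isTorus_iff p' (GrothLib.IsogProps19.isIsogenyOver p')).1 hT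
  -- the quotient
  obtain ⟨P, _, c, hc, hPs, hPq, hcf, hcs, -, hcker⟩ :=
    GrothLib.Chev24.exists_quot j' (fun T₁ x y => ⟨y, by rw [mul_comm x, mul_inv_cancel_right]⟩)
  haveI := hc; haveI := hPs; haveI := hPq; haveI := hcf; haveI := hcs
  haveI : ConnectedSpace P.left := c.left.surjective.connectedSpace c.left.continuous
  haveI : QuasiCompact p.left := by
    haveI : QuasiCompact (p.left ≫ A.hom) := by rw [Over.w p]; infer_instance
    exact QuasiCompact.of_comp p.left A.hom
  obtain ⟨s, hs, hps2⟩ := GrothLib.GrpDeligne.exists_factor p t hkt (g ≫ c) (by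
    rw [← Category.assoc, ← hpj', Category.assoc, GrothLib.GrpDeligne.ker_comp_eq_one hcker, MonObj.comp_one])
  haveI : Surjective (g.left ≫ c.left) := inferInstance
  haveI : Surjective (p.left ≫ s.left) := by rw [← Over.comp_left, hps2, Over.comp_left]; infer_instance
  haveI : Surjective s.left := Surjective.of_comp p.left s.left
  haveI : IsSeparated P.hom := GrothLib.GrpSchField.isSeparated P
  exact ⟨T', inferInstance, j', P, inferInstance, c, hj', inferInstance, hT', hc, hcs, hcf, hcker,
    GrothLib.AffPart16.isProper_of_surjective s, hPs, inferInstance⟩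

end Groth.Agent.S14594
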