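import Groth.Statements.S14595
import Groth.Agent.Lib.Rigidity.SemiAbelian
-- import your own Groth.Agent.* helpers here

set_option autoImplicit false
universe u
open CategoryTheory MonoidalCategory CartesianMonoidalCategory MonObj GrpObj AlgebraicGeometry CategoryTheory.Limits
open AlgGrp

namespace Groth.Agent.S14595

/-- Let k be a field, X and Y varieties over k (separated, geometrically integral, of finite type) with
rational points x₀, y₀, G a semi-abelian variety (an extension of a proper smooth connected k-group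
scheme by a torus) and f : X × Y → G a k-morphism. Then f(x, y) f(x, y₀)⁻¹ f(x₀, y)⁻¹ f(x₀, y₀) = e
identically, in the group of morphisms X × Y → G. -/
theorem result (k : Type u) [Field k]
    (X Y G : Over (Spec (CommRingCat.of k)))
    [LocallyOfFiniteType X.hom] [QuasiCompact X.hom] [IsSeparated X.hom] [GeometricallyIntegral X.hom]
    [LocallyOfFiniteType Y.hom] [QuasiCompact Y.hom] [IsSeparated Y.hom] [GeometricallyIntegral Y.hom]
    [GrpObj G] [LocallyOfFiniteType G.hom] [QuasiCompact G.hom] (hG : (∃ (T : Over (Spec (CommRingCat.of k))) (_ : GrpObj T) (i : T ⟶ G) (A : Over (Spec (CommRingCat.of k))) (_ : GrpObj A) (q : G ⟶ A),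
        IsMonHom i ∧ IsClosedImmersion i.left ∧ Red.IsTorus T ∧ IsMonHom q ∧ Surjective q.left ∧ Flat q.left ∧
        AlgGrp.IsKernel i q ∧ IsProper A.hom ∧ Smooth A.hom ∧ ConnectedSpace ↥A.left))
    (x₀ : 𝟙_ (Over (Spec (CommRingCat.of k))) ⟶ X) (y₀ : 𝟙_ (Over (Spec (CommRingCat.of k))) ⟶ Y) (f : X ⊗ Y ⟶ G) :
    f * (fst X Y ≫ lift (𝟙 X) (toUnit X ≫ y₀) ≫ f)⁻¹ * (snd X Y ≫ lift (toUnit Y ≫ x₀) (𝟙 Y) ≫ f)⁻¹ *
      (toUnit (X ⊗ Y) ≫ lift x₀ y₀ ≫ f) = 1 := by
  obtain ⟨T, _, i, A, _, q, hi, hic, hT, hq, hqs, hqf, hker, hAp, hAs, hAc⟩ := hG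
  haveI := hi; haveI := hic; haveI := hq; haveI := hqs; haveI := hqf; haveI := hAp; haveI := hAs; haveI := hAc
  have comm : ∀ {Z : Over (Spec (CommRingCat.of k))} (a b : Z ⟶ G), a * b = b * a :=
    fun a b => GrothLib.Rigidity.comm_of_extension i q hT hker a b
  haveI : Mono i.left := inferInstance
  haveI : Mono i := Over.mono_of_mono_left _
  haveI : GeometricallyReduced A.hom := GrothLib.Rigidity.geometricallyReduced_of_smooth A.hom
  haveI : GeometricallyIntegral A.hom := GrothLib.Rigidity.geometricallyIntegral_of_connected A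
  haveI : IsCommMonObj A := isCommMonObj_of_isProper_of_geometricallyIntegral A
  refine GrothLib.Rigidity.eq_one_of_extension i q hT hker _ ?_ x₀ y₀ ?_ ?_
  · simp only [MonObj.mul_comp, GrpObj.inv_comp, Category.assoc]
    conv_lhs => arg 1; arg 1; arg 1; rw [GrothLib.Rigidity.eq_mul_of_pointed (f ≫ q) x₀ y₀]
    rw [mul_right_comm _ (snd X Y ≫ lift (toUnit Y ≫ x₀) (𝟙 Y) ≫ f ≫ q), mul_inv_cancel_right,
      mul_right_comm _ _ (toUnit (X ⊗ Y) ≫ lift x₀ y₀ ≫ f ≫ q), inv_mul_cancel_right, _root_.mul_inv_cancel]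
  · have e1 : x₀ ≫ toUnit X = 𝟙 _ := toUnit_unique _ _
    have e2 : y₀ ≫ toUnit Y = 𝟙 _ := toUnit_unique _ _
    simp [MonObj.comp_mul, GrpObj.comp_inv, comp_lift_assoc, reassoc_of% e1, reassoc_of% e2]
  · have e1 : x₀ ≫ toUnit X = 𝟙 _ := toUnit_unique _ _
    have e2 : y₀ ≫ toUnit Y = 𝟙 _ := toUnit_unique _ _
    simp [MonObj.comp_mul, GrpObj.comp_inv, comp_lift_assoc, reassoc_of% e1, reassoc_of% e2]
    rw [comm (lift (toUnit Y ≫ x₀) (𝟙 Y) ≫ f), mul_inv_cancel_right, inv_mul_cancel]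

end Groth.Agent.S14595
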