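import Groth.Statements.S14596
import Groth.Agent.Lib.FinQuot19.Basic
-- import your own Groth.Agent.* helpers here

set_option autoImplicit false
universe u
open CategoryTheory MonoidalCategory CartesianMonoidalCategory MonObj GrpObj AlgebraicGeometry CategoryTheory.Limits
open AlgGrp

namespace Groth.Agent.S14596

/-- Let k be a perfect field, G a k-group scheme of finite type and r₀ : G⁰_red → G the reduced neutral
component of G, i.e. a homomorphism and closed immersion from a reduced k-group scheme whose image
is the connected component of the identity. Then the homogeneous space G/G⁰_red is finite, and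
G⁰_red is the smallest closed subgroup scheme H of G such that G/H is finite: every such H contains
G⁰_red. -/
theorem result (k : Type u) [Field k] [PerfectField k]
    (G G₀ : Over (Spec (CommRingCat.of k))) [GrpObj G] [GrpObj G₀] [LocallyOfFiniteType G.hom] [QuasiCompact G.hom]
    [LocallyOfFiniteType G₀.hom] [QuasiCompact G₀.hom]
    (r₀ : G₀ ⟶ G) [IsMonHom r₀] [IsClosedImmersion r₀.left] [IsReduced G₀.left] (t : ↥((𝟙_ (Over (Spec (CommRingCat.of k)))).left))
    (hr₀ : Set.range ⇑r₀.left.base = connectedComponent ((η[G]).left.base t)) :
    (∀ (X : Over (Spec (CommRingCat.of k))) (a : AlgGrp.Action G X) (o : 𝟙_ (Over (Spec (CommRingCat.of k))) ⟶ X), AGF.IsQuotient r₀ X a o → IsFinite X.hom) ∧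
    ∀ (H : Over (Spec (CommRingCat.of k))) [GrpObj H] (h : H ⟶ G) [IsMonHom h] [IsClosedImmersion h.left]
      (X : Over (Spec (CommRingCat.of k))) (a : AlgGrp.Action G X) (o : 𝟙_ (Over (Spec (CommRingCat.of k))) ⟶ X),
      AGF.IsQuotient h X a o → IsFinite X.hom → ∃ g : G₀ ⟶ H, g ≫ h = r₀ := by
  haveI : IsLocallyNoetherian G.left := LocallyOfFiniteType.isLocallyNoetherian G.hom
  haveI : CompactSpace G.left := QuasiCompact.compactSpace_of_compactSpace G.hom
  haveI : AlgebraicGeometry.IsNoetherian G.left := ⟨⟩
  refine ⟨fun X a o hX => GrothLib.FinQuot19.isFinite_of_isOpen hX ?_, ?_⟩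
  · rw [hr₀]; exact GrothLib.SecComp6.isOpen_connectedComponent_noetherian _
  · intro H _ h _ _ X a o hX hfin
    haveI := hfin
    haveI : Finite X.left := by
      have := (X.hom.finite_preimage (Set.finite_univ : (Set.univ : Set ↥(Spec (CommRingCat.of k))).Finite))
      rw [Set.preimage_univ] at this
      exact Set.finite_univ_iff.mp this
    haveI : DiscreteTopology X.left := by
      have := X.hom.isDiscrete_preimage (s := Set.univ) (by
        haveI : DiscreteTopology ↥(Spec (CommRingCat.of k)) := inferInstanceAs (DiscreteTopology (PrimeSpectrum k))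
        exact isDiscrete_univ_iff.mpr inferInstance)
      rw [Set.preimage_univ] at this
      exact isDiscrete_univ_iff.mp this
    have hclopen : IsClopen (Set.range h.left.base) := by
      rw [GrothLib.FinQuot19.range_eq_preimage hX]
      exact (isClopen_discrete _).preimage (a.orbitMap o).left.continuous
    have hmem : (η[G]).left.base t ∈ Set.range h.left.base := by
      refine ⟨(η[H]).left.base t, ?_⟩
      rw [← Scheme.Hom.comp_apply, ← Over.comp_left, IsMonHom.one_hom h]
    have hsub : Set.range r₀.left.base ⊆ Set.range h.left.base := by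
      rw [hr₀]
      exact hclopen.connectedComponent_subset hmem
    obtain ⟨l, hl⟩ := GrothLib.RedSub.exists_lift r₀.left h.left hsub
    refine ⟨Over.homMk l ?_, Over.OverMorphism.ext hl⟩
    rw [← Over.w h]
    erw [← Category.assoc, hl]
    exact Over.w r₀

end Groth.Agent.S14596
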