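import Groth.Statements.S14597
import Groth.Agent.Lib.Repr.FixedPoint
import Groth.Agent.Lib.Repr.Quotient
-- import your own Groth.Agent.* helpers here

set_option autoImplicit false
universe u
open CategoryTheory MonoidalCategory CartesianMonoidalCategory MonObj GrpObj AlgebraicGeometry CategoryTheory.Limits
open AlgGrp

namespace Groth.Agent.S14597

/-- Let k be a field, G a k-group scheme of finite type acting on a separated, integral, locally
Noetherian k-scheme X and fixing a rational point x. Let n : N → G be the kernel of the action, i.e.
the closed subgroup scheme whose points with values in a k-scheme T are the T-points of G acting as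
the identity on X_T, and let q : G → Q be a flat surjective homomorphism of k-group schemes of
finite type with kernel N. Then Q is affine. (The published statement is for an irreducible locally
Noetherian X and the quotient C_G(x)/Ker of the stabiliser of x; restricting the action to the
stabiliser gives the case stated, and X is taken reduced here because the published proof uses that
the infinitesimal neighbourhoods of x are schematically dense in X.) -/
theorem result (k : Type u) [Field k]
    (G X : Over (Spec (CommRingCat.of k))) [GrpObj G] [LocallyOfFiniteType G.hom] [QuasiCompact G.hom]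
    [IsSeparated X.hom] [IsIntegral X.left] [IsLocallyNoetherian X.left]
    (a : AlgGrp.Action G X) (x : 𝟙_ (Over (Spec (CommRingCat.of k))) ⟶ X) (hx : a.IsFixedPt x)
    (N : Over (Spec (CommRingCat.of k))) [GrpObj N] (n : N ⟶ G) [IsMonHom n] [IsClosedImmersion n.left]
    (hN : ∀ (T : Over (Spec (CommRingCat.of k))) (g : T ⟶ G), (∃ m : T ⟶ N, m ≫ n = g) ↔
      ∀ (T' : Over (Spec (CommRingCat.of k))) (t : T' ⟶ T) (y : T' ⟶ X), lift (t ≫ g) y ≫ a.act = y)
    (Q : Over (Spec (CommRingCat.of k))) [GrpObj Q] [LocallyOfFiniteType Q.hom] [QuasiCompact Q.hom]
    (q : G ⟶ Q) [IsMonHom q] [Surjective q.left] [Flat q.left] (hq : AlgGrp.IsKernel n q) :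
    IsAffine Q.left := by
  obtain ⟨Ms, _, _, ms, hms⟩ := GrothLib.Repr.exists_modules_trivial a x hx
  refine GrothLib.Repr.isAffine_quotient n q hq ms fun R _ _ u => ((hms R u).trans (hN _ u).symm).trans ?_
  exact ⟨fun ⟨m, hm⟩ => by rw [← hm, Category.assoc, GrothLib.GrpSchField.comp_eq_one hq, MonObj.comp_one],
    GrothLib.GrpSchField.exists_lift_of_comp_eq_one hq u⟩


end Groth.Agent.S14597
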