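import Groth.Statements.S14599
-- import your own Groth.Agent.* helpers here
import Groth.Agent.Lib.Chev24.Albanese

set_option autoImplicit false
universe u
open CategoryTheory MonoidalCategory CartesianMonoidalCategory MonObj GrpObj AlgebraicGeometry CategoryTheory.Limits
open AlgGrp

namespace Groth.Agent.S14599

/-- Let k be a field and G a smooth connected k-group scheme of finite type. Then G has a smallest
normal subgroup scheme N whose quotient is an abelian variety, N is connected, and the quotient
homomorphism α : G → G/N is universal: there are a connected closed normal subgroup scheme i : N →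
G, a proper smooth connected k-group scheme A and a flat surjective homomorphism α : G → A with
kernel N such that every k-morphism from G to a proper smooth connected k-group scheme sending e to
e factors uniquely through α, and every flat surjective homomorphism from G onto a proper smooth
connected k-group scheme kills N. -/
theorem result (k : Type u) [Field k]
    (G : Over (Spec (CommRingCat.of k))) [GrpObj G] [Smooth G.hom] [QuasiCompact G.hom] [ConnectedSpace ↥G.left] :
    ∃ (N : Over (Spec (CommRingCat.of k))) (_ : GrpObj N) (i : N ⟶ G) (A : Over (Spec (CommRingCat.of k))) (_ : GrpObj A) (α : G ⟶ A),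
      IsMonHom i ∧ IsClosedImmersion i.left ∧ AlgGrp.IsNormalHom i ∧ ConnectedSpace ↥N.left ∧
      IsProper A.hom ∧ Smooth A.hom ∧ ConnectedSpace ↥A.left ∧ IsMonHom α ∧ Surjective α.left ∧ Flat α.left ∧
      AlgGrp.IsKernel i α ∧
      (∀ (B : Over (Spec (CommRingCat.of k))) [GrpObj B] [IsProper B.hom] [Smooth B.hom] [ConnectedSpace ↥B.left] (f : G ⟶ B),
        η[G] ≫ f = η[B] → ∃! g : A ⟶ B, α ≫ g = f) ∧
      (∀ (B : Over (Spec (CommRingCat.of k))) [GrpObj B] [IsProper B.hom] [Smooth B.hom] [ConnectedSpace ↥B.left] (q : G ⟶ B)
        [IsMonHom q] [Surjective q.left] [Flat q.left], i ≫ q = 1) := by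
  obtain ⟨N, _, i, A, _, α, hi, hic, hn, hc, hAp, hAs, hAc, hα, hαs, hαf, hker, hmin⟩ :=
    GrothLib.Chev24.exists_albanese (G := G)
  haveI := hi; haveI := hAp; haveI := hα; haveI := hαs; haveI := hαf
  refine ⟨N, inferInstance, i, A, inferInstance, α, hi, hic, hn, hc, hAp, hAs, hAc, hα, hαs, hαf, hker, ?_,
    fun B _ _ _ _ q _ _ _ => hmin B q⟩
  intro B _ _ _ _ f hf
  haveI := GrothLib.Chev24.isMonHom_of_pointed_abelian f hf
  haveI : QuasiCompact α.left := by
    haveI : QuasiCompact (α.left ≫ A.hom) := by rw [Over.w α]; infer_instance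
    exact QuasiCompact.of_comp α.left A.hom
  haveI : LocallyOfFinitePresentation α.left := GrothLib.AlbTors16.lfp_of_surj α
  obtain ⟨g, -, hg⟩ := GrothLib.GrpDeligne.exists_factor α i hker f (hmin B f)
  haveI : Epi α := GrothLib.Chevalley.epi_of_cover α ⟨inferInstance, inferInstance, inferInstance⟩
  exact ⟨g, hg, fun g' hg' => (cancel_epi α).1 (hg'.trans hg.symm)⟩

end Groth.Agent.S14599
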