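import Groth.Statements.S14600
import Groth.Agent.Lib.SemiAbDesc2.Props
import Groth.Agent.Lib.UnipSplit24.AntiAffine
import Groth.Agent.Lib.AntiAffine.Image
import Groth.Agent.Lib.AlgGrp14.Core
import Groth.Agent.Lib.WeakEtale.Basic
import Groth.Agent.S19702
import Groth.Agent.S11412
import Groth.Agent.S3293


set_option autoImplicit false
set_option linter.all false
set_option backward.isDefEq.respectTransparency false
set_option maxHeartbeats 1000000
universe u
open CategoryTheory MonoidalCategory CartesianMonoidalCategory MonObj GrpObj AlgebraicGeometry CategoryTheory.Limits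
open AlgGrp

namespace Groth.Agent.S14600

open GrothLib in
theorem isSemiAb_of_antiAffine {K : Type u} [Field K] [IsAlgClosed K] (p : ℕ) [Fact p.Prime] [CharP K p]
    (G : Over (Spec (CommRingCat.of K))) [GrpObj G] [LocallyOfFiniteType G.hom] [QuasiCompact G.hom]
    (hG : Function.Bijective ((Scheme.ΓSpecIso (CommRingCat.of K)).inv ≫ G.hom.appTop).hom) :
    Chev24.IsSemiAb G := by
  haveI : Smooth G.hom := (Groth.Agent.S11412.result K G hG).1
  obtain ⟨hGc, hGcomm⟩ := Groth.Agent.S3293.result K G hG
  haveI := hGc; haveI := hGcomm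
  haveI : IsSeparated G.hom := GrpSchField.isSeparated G
  obtain ⟨N, _, i, hi, hic, hNs, hNc, hNa, hNn, hmax⟩ := Chev24.exists_affPart (G := G)
  haveI := hi; haveI := hic; haveI := hNs; haveI := hNc; haveI := hNa
  haveI : Mono i := Over.mono_of_mono_left i
  haveI : QuasiCompact N.hom := inferInstance
  obtain ⟨A, _, q, hq, hAs, hAq, hqf, hqs, hqe, hker⟩ := Chev24.exists_quot i hNn
  haveI := hq; haveI := hAs; haveI := hAq; haveI := hqf; haveI := hqs; haveI := hqe
  haveI hAp := Chev24.isProper_quotient i hmax q hker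
  haveI hAc : ConnectedSpace A.left := q.left.surjective.connectedSpace q.left.continuous
  have hcomm : ∀ a b : 𝟙_ (Over (Spec (CommRingCat.of K))) ⟶ N, a * b = b * a := fun a b => by
    rw [← cancel_mono i, MonObj.mul_comp, MonObj.mul_comp, mul_comm]
  obtain ⟨D, _, U, _, pp, s, u, r, hpp, hs, hu, hsp, hD, hDa, hDs, hDc, huc, hup, hur, hru, hU, hUs, hUc⟩ :=
    Flag27.hasSplit_of_solvable (Chev24.isSolvable_pts_of_comm hcomm)
  haveI := hpp; haveI := hs; haveI := hu; haveI := hDa; haveI := hDs; haveI := hDc; haveI := huc; haveI := hUs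
  haveI := hUc
  haveI : Mono u := Over.mono_of_mono_left u
  haveI : IsAffine U.left := Chev24.isAffine_of_isUnip hU
  haveI : QuasiCompact D.hom := inferInstance
  haveI : QuasiCompact U.hom := inferInstance
  haveI : Mono s := ⟨fun a b h => by simpa [hsp] using congrArg (· ≫ pp) h⟩
  haveI : IsClosedImmersion s.left := AlgGrp14.isClosedImmersion_of_mono s
  haveI : IsClosedImmersion (s ≫ i).left := inferInstanceAs (IsClosedImmersion (s.left ≫ i.left))
  have hnorm : AlgGrp.IsNormalHom (s ≫ i) := fun T g n => ⟨n, by rw [mul_comm g, mul_inv_cancel_right]⟩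
  obtain ⟨M, _, c, hc, hMs, hMq, hcf, hcs, hce, hcker⟩ := Chev24.exists_quot (s ≫ i) hnorm
  haveI := hc; haveI := hMs; haveI := hMq; haveI := hcf; haveI := hcs; haveI := hce
  haveI : IsSeparated M.hom := GrpSchField.isSeparated M
  haveI : ConnectedSpace M.left := c.left.surjective.connectedSpace c.left.continuous
  haveI : QuasiCompact c.left := by
    haveI : QuasiCompact (c.left ≫ M.hom) := by rw [Over.w c]; infer_instance
    exact QuasiCompact.of_comp c.left M.hom
  haveI : IsCommMonObj M := AlgGrp14.isCommMonObj_of_epi c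
  have hM : AntiAffine.IsAntiAffine M := by
    haveI : IsIntegral M.left := Euler.isIntegral_of_smooth_connected K M.hom
    haveI : IsSchemeTheoreticallyDominant c.left := IsSchemeTheoreticallyDominant.of_isDominant c.left
    exact AntiAffine.IsAntiAffine.of_dominant hG c
  obtain ⟨α, hα, hcα⟩ := GrpDeligne.exists_factor c (s ≫ i) hcker q
    (by rw [Category.assoc, GrpDeligne.ker_comp_eq_one hker, MonObj.comp_one])
  haveI := hα
  haveI : Surjective α.left := by
    haveI : Surjective (c.left ≫ α.left) := by rw [← Over.comp_left, hcα]; infer_instance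
    exact Surjective.of_comp c.left α.left
  haveI : Flat α.left := by
    haveI : Flat (c.left ≫ α.left) := by rw [← Over.comp_left, hcα]; infer_instance
    exact WeakEtale.flat_of_comp_flat_surjective c.left α.left
  -- the unipotent part inside `M`
  have htriv : ∀ (T : Over (Spec (CommRingCat.of K))) (x : T ⟶ U), x ≫ u ≫ i ≫ c = 1 → x = 1 := by
    intro T x hx
    obtain ⟨d, hd⟩ := GrpSchField.exists_lift_of_comp_eq_one hcker (x ≫ u ≫ i) (by simpa using hx)
    have h1 : d ≫ s = x ≫ u := by
      rw [← cancel_mono i]; simpa using hd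
    have h2 : d = 1 := by
      have := congrArg (· ≫ pp) h1
      simp only [Category.assoc, hsp, hup, Category.comp_id, MonObj.comp_one] at this
      exact this
    rw [← cancel_mono u, MonObj.one_comp, ← h1, h2, MonObj.one_comp]
  let u' : U ⟶ M := u ≫ i ≫ c
  haveI : IsMonHom u' := inferInstanceAs (IsMonHom (u ≫ i ≫ c))
  haveI : Mono u' := AlgGrp14.mono_of_trivial_kernel u' htriv
  haveI : IsClosedImmersion u'.left := AlgGrp14.isClosedImmersion_of_mono u'
  obtain ⟨Q, _, e, he, hQs, hQq, hef, hes, hee, heker⟩ :=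
    Chev24.exists_quot u' (fun T g n => ⟨n, by rw [mul_comm g, mul_inv_cancel_right]⟩)
  haveI := he; haveI := hQs; haveI := hQq; haveI := hef; haveI := hes; haveI := hee
  haveI : IsSeparated A.hom := inferInstance
  haveI : IsSeparated Q.hom := GrpSchField.isSeparated Q
  haveI : QuasiCompact q.left := by
    haveI : QuasiCompact (q.left ≫ A.hom) := by rw [Over.w q]; infer_instance
    exact QuasiCompact.of_comp q.left A.hom
  haveI : QuasiCompact e.left := by
    haveI : QuasiCompact (e.left ≫ Q.hom) := by rw [Over.w e]; infer_instance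
    exact QuasiCompact.of_comp e.left Q.hom
  have hid : (r ≫ u) * (pp ≫ s) = 𝟙 N := by rw [hru, inv_mul_cancel_right]
  obtain ⟨g, _, hg⟩ := GrpDeligne.exists_factor q i hker (c ≫ e) (by
    have h0 : i ≫ c ≫ e = ((r ≫ u) * (pp ≫ s)) ≫ i ≫ c ≫ e := by rw [hid, Category.id_comp]
    rw [h0, MonObj.mul_comp]
    have h1 : (r ≫ u) ≫ i ≫ c ≫ e = 1 := by
      rw [show (r ≫ u) ≫ i ≫ c ≫ e = r ≫ u' ≫ e by simp [u'], GrpDeligne.ker_comp_eq_one heker, MonObj.comp_one]
    have h2 : (pp ≫ s) ≫ i ≫ c ≫ e = 1 := by
      rw [show (pp ≫ s) ≫ i ≫ c ≫ e = pp ≫ ((s ≫ i) ≫ c) ≫ e by simp, GrpDeligne.ker_comp_eq_one hcker,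
        MonObj.one_comp, MonObj.comp_one]
    rw [h1, h2, _root_.mul_one])
  obtain ⟨g', _, hg'⟩ := GrpDeligne.exists_factor e u' heker α (by
    simp only [u', Category.assoc, hcα, GrpDeligne.ker_comp_eq_one hker, MonObj.comp_one])
  have hgg : g' ≫ g = 𝟙 Q := by
    rw [← cancel_epi e, reassoc_of% hg', ← cancel_epi c, reassoc_of% hcα, hg, Category.comp_id]
  haveI : Mono g' := ⟨fun a b h => by simpa [hgg] using congrArg (· ≫ g) h⟩
  have hαker : AlgGrp.IsKernel u' α := by
    refine ⟨⟨by rw [← hg', ← Category.assoc, GrpDeligne.ker_comp_eq_one heker, MonObj.one_comp, Hom.one_def]⟩, ⟨?_⟩⟩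
    refine PullbackCone.IsLimit.mk _ (fun z => heker.lift z.fst z.snd ?_) (fun z => heker.lift_fst _ _ _)
      (fun z => heker.lift_snd _ _ _) (fun z m h1 h2 => heker.hom_ext (by rw [heker.lift_fst]; exact h1)
        (by rw [heker.lift_snd]; exact h2))
    rw [← cancel_mono g', Category.assoc, hg', z.condition, Category.assoc, IsMonHom.one_hom g']
  have hUiso := (UnipSplit24.antiAffine_iff p M U u' (Flag27.IsUnip.hasNoSubtorus hU) A α hαker).1 hM
  haveI := hUiso
  have hu1 : ∀ {T : Over (Spec (CommRingCat.of K))} (x y : T ⟶ U), x = y := fun x y =>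
    Over.OverMorphism.ext ((cancel_mono U.hom).1 (by rw [Over.w, Over.w]))
  have hps : pp ≫ s = 𝟙 N := by
    rw [← hid, show r = (1 : N ⟶ U) from hu1 _ _, MonObj.one_comp, _root_.one_mul]
  haveI : IsIso s := ⟨pp, hsp, hps⟩
  haveI : IsIso s.left := inferInstanceAs (IsIso ((Over.forget _).map s))
  exact ⟨N, inferInstance, i, A, inferInstance, q, hi, hic, Chev24.isTorus_of_torus_surjective hD s, hq, hqs, hqf, hker,
    hAp, hAs, hAc⟩


/-- Let k be a field of characteristic p > 0 and G an anti-affine k-group scheme of finite type (O(G) =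
k). Then G is a semi-abelian variety: there are a closed subgroup scheme i : T → G with T a torus
and a flat surjective homomorphism q : G → A with kernel T onto a proper smooth connected k-group
scheme A. -/
theorem result (k : Type u) [Field k] (p : ℕ) [Fact p.Prime] [CharP k p]
    (G : Over (Spec (CommRingCat.of k))) [GrpObj G] [LocallyOfFiniteType G.hom] [QuasiCompact G.hom]
    (hG : Function.Bijective ((Scheme.ΓSpecIso (CommRingCat.of k)).inv ≫ G.hom.appTop).hom) :
    (∃ (T : Over (Spec (CommRingCat.of k))) (_ : GrpObj T) (i : T ⟶ G) (A : Over (Spec (CommRingCat.of k))) (_ : GrpObj A) (q : G ⟶ A),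
        IsMonHom i ∧ IsClosedImmersion i.left ∧ Red.IsTorus T ∧ IsMonHom q ∧ Surjective q.left ∧ Flat q.left ∧
        AlgGrp.IsKernel i q ∧ IsProper A.hom ∧ Smooth A.hom ∧ ConnectedSpace ↥A.left) := by
  haveI : Fact p.Prime := ‹_›
  let K := AlgebraicClosure k
  let f : Spec (CommRingCat.of K) ⟶ Spec (CommRingCat.of k) := Spec.map (CommRingCat.ofHom (algebraMap k K))
  haveI : CharP K p := charP_of_injective_algebraMap (algebraMap k (AlgebraicClosure k)).injective p
  haveI : LocallyOfFiniteType (Red.bc f G).hom := inferInstanceAs (LocallyOfFiniteType (pullback.snd G.hom f))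
  haveI : QuasiCompact (Red.bc f G).hom := inferInstanceAs (QuasiCompact (pullback.snd G.hom f))
  exact GrothLib.SemiAbDesc2.SA.of_bc (isSemiAb_of_antiAffine p (Red.bc f G)
    ((Groth.Agent.S19702.result k K G).1 hG))


end Groth.Agent.S14600
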