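import Groth.Statements.S14601
import Groth.Agent.Lib.SemiAbExp2.Props


set_option autoImplicit false
set_option linter.all false
set_option backward.isDefEq.respectTransparency false
set_option maxHeartbeats 800000
universe u
open CategoryTheory MonoidalCategory CartesianMonoidalCategory MonObj GrpObj AlgebraicGeometry CategoryTheory.Limits
open AlgGrp

namespace Groth.Agent.S14601

/-- Let k be a field of characteristic p > 0, G a commutative k-group scheme of finite type and s : S →
G its largest semi-abelian subvariety, i.e. a closed subgroup scheme which is an extension of a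
proper smooth connected k-group scheme by a torus and through which every other such closed subgroup
scheme of G factors. Then (1) for every flat surjective homomorphism q : G → Q of k-group schemes of
finite type with kernel S, the group scheme Q has finite exponent: its n-th power endomorphism is
trivial for some n ≥ 1; and (2) there is a closed subgroup scheme h : H → G such that G = S · H, in
the sense that the multiplication S × H → G is flat and surjective, and S ∩ H = S ×_G H is finite
over k. -/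
theorem result (k : Type u) [Field k]
    (p : ℕ) [Fact p.Prime] [CharP k p]
    (G : Over (Spec (CommRingCat.of k))) [GrpObj G] [IsCommMonObj G] [LocallyOfFiniteType G.hom] [QuasiCompact G.hom]
    (S : Over (Spec (CommRingCat.of k))) [GrpObj S] (s : S ⟶ G) [IsMonHom s] [IsClosedImmersion s.left] (hS : (∃ (T : Over (Spec (CommRingCat.of k))) (_ : GrpObj T) (i : T ⟶ S) (A : Over (Spec (CommRingCat.of k))) (_ : GrpObj A) (q : S ⟶ A),
        IsMonHom i ∧ IsClosedImmersion i.left ∧ Red.IsTorus T ∧ IsMonHom q ∧ Surjective q.left ∧ Flat q.left ∧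
        AlgGrp.IsKernel i q ∧ IsProper A.hom ∧ Smooth A.hom ∧ ConnectedSpace ↥A.left))
    (hSmax : ∀ (S' : Over (Spec (CommRingCat.of k))) [GrpObj S'] (s' : S' ⟶ G) [IsMonHom s'] [IsClosedImmersion s'.left],
      (∃ (T : Over (Spec (CommRingCat.of k))) (_ : GrpObj T) (i : T ⟶ S') (A : Over (Spec (CommRingCat.of k))) (_ : GrpObj A) (q : S' ⟶ A),
        IsMonHom i ∧ IsClosedImmersion i.left ∧ Red.IsTorus T ∧ IsMonHom q ∧ Surjective q.left ∧ Flat q.left ∧
        AlgGrp.IsKernel i q ∧ IsProper A.hom ∧ Smooth A.hom ∧ ConnectedSpace ↥A.left) → ∃ g : S' ⟶ S, g ≫ s = s') :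
    (∀ (Q : Over (Spec (CommRingCat.of k))) [GrpObj Q] [LocallyOfFiniteType Q.hom] [QuasiCompact Q.hom] (q : G ⟶ Q) [IsMonHom q]
        [Surjective q.left] [Flat q.left], AlgGrp.IsKernel s q → ∃ n : ℕ, 0 < n ∧ (𝟙 Q) ^ n = 1) ∧
    ∃ (H : Over (Spec (CommRingCat.of k))) (_ : GrpObj H) (h : H ⟶ G), IsMonHom h ∧ IsClosedImmersion h.left ∧
      Flat ((s ⊗ₘ h) ≫ μ[G]).left ∧ Surjective ((s ⊗ₘ h) ≫ μ[G]).left ∧
      IsFinite (pullback.fst s.left h.left ≫ S.hom) := by
  haveI : Mono s := Over.mono_of_mono_left s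
  haveI : LocallyOfFiniteType S.hom := by rw [← Over.w s]; infer_instance
  haveI : QuasiCompact S.hom := by rw [← Over.w s]; infer_instance
  haveI : IsCommMonObj S := GrothLib.AlgGrp14.isCommMonObj_of_mono s
  obtain ⟨n, f, hn, hf, hfs⟩ := GrothLib.SemiAbExp2.exists_pow_factor p s hSmax
  haveI := hf
  refine ⟨fun Q _ _ _ q _ _ _ hq => ⟨n, hn, ?_⟩, ?_⟩
  · haveI : IsSeparated Q.hom := GrothLib.GrpSchField.isSeparated Q
    haveI : QuasiCompact q.left := by
      haveI : QuasiCompact (q.left ≫ Q.hom) := by rw [Over.w q]; infer_instance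
      exact QuasiCompact.of_comp q.left Q.hom
    haveI : Epi q := GrothLib.SemiAbExp2.epi_of_fppf q
    rw [← cancel_epi q, MonObj.comp_pow, Category.comp_id, ← Category.id_comp q, ← MonObj.pow_comp, ← hfs,
      Category.assoc, GrothLib.GrpDeligne.ker_comp_eq_one hq, MonObj.comp_one, MonObj.comp_one]
  obtain ⟨hfin, hflat, hsurj⟩ := GrothLib.SemiAbExp2.pow_isogeny hS hn
  have hsf : s ≫ f = (𝟙 S : S ⟶ S) ^ n := by
    rw [← cancel_mono s, Category.assoc, hfs, GrothLib.SemiAbExp2.comp_pow_self]
  let H := pullback f η[S]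
  let h : H ⟶ G := pullback.fst f η[S]
  have hk : AlgGrp.IsKernel h f := by
    show IsPullback _ _ _ _
    rw [Subsingleton.elim (toUnit _) (pullback.snd f η[S])]
    exact IsPullback.of_hasPullback f η[S]
  obtain ⟨_, _⟩ := GrothLib.GrpDeligne.exists_grpObj_kernel f h hk
  haveI : IsSeparated S.hom := GrothLib.GrpSchField.isSeparated S
  haveI : IsClosedImmersion η[S].left := by
    haveI : IsClosedImmersion (η[S].left ≫ S.hom) := by
      rw [Over.w]; exact inferInstanceAs (IsClosedImmersion (𝟙 (Spec (CommRingCat.of k))))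
    exact IsClosedImmersion.of_comp _ S.hom
  have sqh : IsPullback h.left H.hom f.left η[S].left := hk.map (Over.forget _)
  haveI : IsClosedImmersion h.left := MorphismProperty.of_isPullback sqh.flip inferInstance
  haveI : Mono h := Over.mono_of_mono_left h
  refine ⟨H, inferInstance, h, inferInstance, inferInstance, ?_⟩
  let ψ : S ⊗ H ⟶ G := (s ⊗ₘ h) ≫ μ[G]
  have hψ : ψ = (fst S H ≫ s) * (snd S H ≫ h) := by
    rw [Hom.mul_def, lift_fst_comp_snd_comp]
  have w : fst S H ≫ ((𝟙 S : S ⟶ S) ^ n) = ψ ≫ f := by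
    rw [hψ, MonObj.mul_comp, Category.assoc, hsf, Category.assoc, GrothLib.GrpDeligne.ker_comp_eq_one hk,
      MonObj.comp_one, _root_.mul_one]
  have hz : ∀ {T : Over (Spec (CommRingCat.of k))} (a : T ⟶ S) (b : T ⟶ G), a ≫ ((𝟙 S : S ⟶ S) ^ n) = b ≫ f →
      ((a ≫ s)⁻¹ * b) ≫ f = 1 := by
    intro T a b hab
    rw [MonObj.mul_comp, GrpObj.inv_comp, Category.assoc, hsf, hab, inv_mul_cancel]
  have sqψ : IsPullback (fst S H) ψ ((𝟙 S : S ⟶ S) ^ n) f := by
    refine ⟨⟨w⟩, ⟨PullbackCone.IsLimit.mk w
      (fun z => lift z.fst (GrothLib.GrpSchField.exists_lift_of_comp_eq_one hk _ (hz _ _ z.condition)).choose)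
      (fun z => lift_fst _ _) (fun z => ?_) (fun z m h1 h2 => ?_)⟩⟩
    · rw [hψ, MonObj.comp_mul, lift_fst_assoc, lift_snd_assoc,
        (GrothLib.GrpSchField.exists_lift_of_comp_eq_one hk _ (hz _ _ z.condition)).choose_spec, mul_inv_cancel_left]
    · refine CartesianMonoidalCategory.hom_ext _ _ (by rw [lift_fst]; exact h1) ?_
      rw [lift_snd, ← cancel_mono h,
        (GrothLib.GrpSchField.exists_lift_of_comp_eq_one hk _ (hz _ _ z.condition)).choose_spec, ← h2, ← h1, hψ,
        MonObj.comp_mul]
      simp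
  have sqψ' := sqψ.map (Over.forget _)
  refine ⟨MorphismProperty.of_isPullback sqψ' hflat, MorphismProperty.of_isPullback sqψ' hsurj, ?_⟩
  have sq1 : IsPullback (pullback.fst s.left h.left) (pullback.snd s.left h.left) s.left h.left :=
    IsPullback.of_hasPullback _ _
  have sq2 := sq1.paste_vert sqh
  rw [show s.left ≫ f.left = ((𝟙 S : S ⟶ S) ^ n).left by rw [← Over.comp_left, hsf]] at sq2
  have hfin' : IsFinite (pullback.snd s.left h.left ≫ H.hom) := MorphismProperty.of_isPullback sq2 hfin
  rwa [show pullback.fst s.left h.left ≫ S.hom = pullback.snd s.left h.left ≫ H.hom by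
    rw [← Over.w s, ← Over.w h, pullback.condition_assoc]]


end Groth.Agent.S14601
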