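import Groth.Statements.S14602
import Groth.Agent.Lib.SemiAbDesc2.Props
import Groth.Agent.S8004

set_option autoImplicit false
set_option linter.all false
set_option backward.isDefEq.respectTransparency false
universe u
open CategoryTheory MonoidalCategory CartesianMonoidalCategory MonObj GrpObj AlgebraicGeometry CategoryTheory.Limits
open AlgGrp

namespace Groth.Agent.S14602

/-- Let k be a field and G a commutative k-group scheme of finite type. Then G has a largest
semi-abelian subvariety: a closed subgroup scheme s : S → G which is an extension of a proper smooth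
connected k-group scheme by a torus, through which every other such closed subgroup scheme of G
factors; and (G/S)_sab is trivial: for every flat surjective homomorphism q : G → Q of k-group
schemes of finite type with kernel S, every semi-abelian closed subgroup scheme of Q is the trivial
group. -/
theorem result (k : Type u) [Field k]
    (G : Over (Spec (CommRingCat.of k))) [GrpObj G] [IsCommMonObj G] [LocallyOfFiniteType G.hom] [QuasiCompact G.hom] :
    ∃ (S : Over (Spec (CommRingCat.of k))) (_ : GrpObj S) (s : S ⟶ G), IsMonHom s ∧ IsClosedImmersion s.left ∧ (∃ (T : Over (Spec (CommRingCat.of k))) (_ : GrpObj T) (i : T ⟶ S) (A : Over (Spec (CommRingCat.of k))) (_ : GrpObj A) (q : S ⟶ A),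
        IsMonHom i ∧ IsClosedImmersion i.left ∧ Red.IsTorus T ∧ IsMonHom q ∧ Surjective q.left ∧ Flat q.left ∧
        AlgGrp.IsKernel i q ∧ IsProper A.hom ∧ Smooth A.hom ∧ ConnectedSpace ↥A.left) ∧
      (∀ (S' : Over (Spec (CommRingCat.of k))) [GrpObj S'] (s' : S' ⟶ G) [IsMonHom s'] [IsClosedImmersion s'.left],
        (∃ (T : Over (Spec (CommRingCat.of k))) (_ : GrpObj T) (i : T ⟶ S') (A : Over (Spec (CommRingCat.of k))) (_ : GrpObj A) (q : S' ⟶ A),
        IsMonHom i ∧ IsClosedImmersion i.left ∧ Red.IsTorus T ∧ IsMonHom q ∧ Surjective q.left ∧ Flat q.left ∧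
        AlgGrp.IsKernel i q ∧ IsProper A.hom ∧ Smooth A.hom ∧ ConnectedSpace ↥A.left) → ∃ g : S' ⟶ S, g ≫ s = s') ∧
      (∀ (Q : Over (Spec (CommRingCat.of k))) [GrpObj Q] [LocallyOfFiniteType Q.hom] [QuasiCompact Q.hom] (q : G ⟶ Q) [IsMonHom q]
        [Surjective q.left] [Flat q.left], AlgGrp.IsKernel s q →
        ∀ (S'' : Over (Spec (CommRingCat.of k))) [GrpObj S''] (s'' : S'' ⟶ Q) [IsMonHom s''] [IsClosedImmersion s''.left],
          (∃ (T : Over (Spec (CommRingCat.of k))) (_ : GrpObj T) (i : T ⟶ S'') (A : Over (Spec (CommRingCat.of k))) (_ : GrpObj A) (q : S'' ⟶ A),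
        IsMonHom i ∧ IsClosedImmersion i.left ∧ Red.IsTorus T ∧ IsMonHom q ∧ Surjective q.left ∧ Flat q.left ∧
        AlgGrp.IsKernel i q ∧ IsProper A.hom ∧ Smooth A.hom ∧ ConnectedSpace ↥A.left) → IsIso η[S'']) := by
  classical
  let one := 𝟙_ (Over (Spec (CommRingCat.of k)))
  haveI : IsSeparated G.hom := GrothLib.GrpSchField.isSeparated G
  haveI : ConnectedSpace one.left := by
    haveI : IrreducibleSpace ↥(Spec (CommRingCat.of k)) := inferInstanceAs (IrreducibleSpace (PrimeSpectrum k))
    exact inferInstanceAs (ConnectedSpace ↥(Spec (CommRingCat.of k)))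
  haveI : IsIso one.hom := inferInstanceAs (IsIso (𝟙 (Spec (CommRingCat.of k))))
  haveI : IsClosedImmersion (η[G] : one ⟶ G).left := GrothLib.GrpSchField.unit_isClosedImmersion G
  have hnorm : ∀ {H : Over (Spec (CommRingCat.of k))} [GrpObj H] (j : H ⟶ G), AlgGrp.IsNormalHom j :=
    fun {H} _ j T x y => ⟨y, by rw [mul_comm x, mul_inv_cancel_right]⟩
  have hone : η[G] = (1 : one ⟶ G) := by
    rw [Hom.one_def, toUnit_unique (toUnit one) (𝟙 _), Category.id_comp]
  obtain ⟨S, _, s, hs, hsc, hSs, hSc, -, hSA, hlarge, hquot⟩ := Groth.Agent.S8004.result k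
    (fun E [GrpObj E] => GrothLib.SemiAbDesc2.SA E)
    (fun N E Q _ _ _ _ _ _ _ _ _ i q _ _ _ _ hker hN hQ => GrothLib.SemiAbDesc2.SA.extension i q hker hN hQ)
    (fun E Q _ _ _ _ _ _ q _ _ _ hE => GrothLib.SemiAbDesc2.SA.quotient q hE)
    G ⟨one, inferInstance, η[G], inferInstance, inferInstance, inferInstance, inferInstance, hnorm _,
      GrothLib.SemiAbDesc2.SA.unit⟩
  haveI := hs; haveI := hsc
  refine ⟨S, inferInstance, s, hs, hsc, hSA, ?_, ?_⟩
  · intro S' _ s' _ _ hS'
    haveI : LocallyOfFiniteType S'.hom := by rw [← Over.w s']; infer_instance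
    haveI : QuasiCompact S'.hom := by rw [← Over.w s']; infer_instance
    have h2 : Smooth S'.hom ∧ ConnectedSpace S'.left := GrothLib.SemiAbDesc2.SA.smooth_connected hS'
    exact hlarge S' s' inferInstance h2.1 h2.2 (hnorm s') hS'
  · intro Q _ _ _ q _ _ _ hker S'' _ s'' _ _ hS''
    haveI : IsSeparated Q.hom := GrothLib.GrpSchField.isSeparated Q
    haveI : LocallyOfFiniteType S''.hom := by rw [← Over.w s'']; infer_instance
    haveI : QuasiCompact S''.hom := by rw [← Over.w s'']; infer_instance
    have h2 : Smooth S''.hom ∧ ConnectedSpace S''.left := GrothLib.SemiAbDesc2.SA.smooth_connected hS''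
    have hQn : AlgGrp.IsNormalHom s'' := by
      haveI : QuasiCompact q.left := by
        haveI : QuasiCompact (q.left ≫ Q.hom) := by rw [Over.w q]; infer_instance
        exact QuasiCompact.of_comp q.left Q.hom
      have hc : ∀ {T : Over (Spec (CommRingCat.of k))} (x : T ⟶ Q) (y : T ⟶ Q), x * y = y * x := by
        haveI := GrothLib.AlbTors16.lfp_of_surj q
        haveI : Epi (q ⊗ₘ q) := GrothLib.Chevalley.epi_of_cover _
          (GrothLib.Chevalley.cover_tensor ⟨inferInstance, inferInstance, inferInstance⟩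
            ⟨inferInstance, inferInstance, inferInstance⟩)
        have h : fst Q Q * snd Q Q = snd Q Q * fst Q Q := by
          rw [← cancel_epi (q ⊗ₘ q), MonObj.comp_mul, MonObj.comp_mul, tensorHom_fst, tensorHom_snd,
            ← MonObj.mul_comp, ← MonObj.mul_comp, mul_comm]
        intro T x y
        have := congrArg (lift x y ≫ ·) h
        simpa only [MonObj.comp_mul, lift_fst, lift_snd] using this
      exact fun T x y => ⟨y, by rw [hc x, mul_inv_cancel_right]⟩
    exact hquot Q q hker S'' s'' inferInstance h2.1 h2.2 hQn hS''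

end Groth.Agent.S14602
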