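import Groth.Statements.S14605
import Groth.Agent.Lib.SemiAbExp2.Props


set_option autoImplicit false
set_option linter.all false
set_option backward.isDefEq.respectTransparency false
set_option maxHeartbeats 800000
universe u
open CategoryTheory MonoidalCategory CartesianMonoidalCategory MonObj GrpObj AlgebraicGeometry CategoryTheory.Limits
open AlgGrp

namespace Groth.Agent.S14605

/-- Let k be a field of characteristic p > 0, G a commutative k-group scheme of finite type, h : H → G a
closed subgroup scheme and q : G → Q a flat surjective homomorphism of k-group schemes of finite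
type with kernel H (Q = G/H). Let s : S → G and s' : S' → Q be the largest semi-abelian subvarieties
of G and of Q (closed subgroup schemes which are extensions of a proper smooth connected k-group
scheme by a torus, through which every other such closed subgroup scheme factors). Then q maps S
onto S': the image of S → G → Q equals the underlying set of S'. Since S' is smooth, this is the
statement that G_sab/(G_sab ∩ H) → (G/H)_sab is an isomorphism. -/
theorem result (k : Type u) [Field k] (p : ℕ) [Fact p.Prime] [CharP k p]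
    (G : Over (Spec (CommRingCat.of k))) [GrpObj G] [IsCommMonObj G] [LocallyOfFiniteType G.hom] [QuasiCompact G.hom]
    (H : Over (Spec (CommRingCat.of k))) [GrpObj H] (h : H ⟶ G) [IsMonHom h] [IsClosedImmersion h.left]
    (Q : Over (Spec (CommRingCat.of k))) [GrpObj Q] [LocallyOfFiniteType Q.hom] [QuasiCompact Q.hom]
    (q : G ⟶ Q) [IsMonHom q] [Surjective q.left] [Flat q.left] (hq : AlgGrp.IsKernel h q)
    (S : Over (Spec (CommRingCat.of k))) [GrpObj S] (s : S ⟶ G) [IsMonHom s] [IsClosedImmersion s.left] (hS : (∃ (T : Over (Spec (CommRingCat.of k))) (_ : GrpObj T) (i : T ⟶ S) (A : Over (Spec (CommRingCat.of k))) (_ : GrpObj A) (q : S ⟶ A),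
        IsMonHom i ∧ IsClosedImmersion i.left ∧ Red.IsTorus T ∧ IsMonHom q ∧ Surjective q.left ∧ Flat q.left ∧
        AlgGrp.IsKernel i q ∧ IsProper A.hom ∧ Smooth A.hom ∧ ConnectedSpace ↥A.left))
    (hSmax : ∀ (S₁ : Over (Spec (CommRingCat.of k))) [GrpObj S₁] (s₁ : S₁ ⟶ G) [IsMonHom s₁] [IsClosedImmersion s₁.left],
      (∃ (T : Over (Spec (CommRingCat.of k))) (_ : GrpObj T) (i : T ⟶ S₁) (A : Over (Spec (CommRingCat.of k))) (_ : GrpObj A) (q : S₁ ⟶ A),
        IsMonHom i ∧ IsClosedImmersion i.left ∧ Red.IsTorus T ∧ IsMonHom q ∧ Surjective q.left ∧ Flat q.left ∧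
        AlgGrp.IsKernel i q ∧ IsProper A.hom ∧ Smooth A.hom ∧ ConnectedSpace ↥A.left) → ∃ g : S₁ ⟶ S, g ≫ s = s₁)
    (S' : Over (Spec (CommRingCat.of k))) [GrpObj S'] (s' : S' ⟶ Q) [IsMonHom s'] [IsClosedImmersion s'.left] (hS' : (∃ (T : Over (Spec (CommRingCat.of k))) (_ : GrpObj T) (i : T ⟶ S') (A : Over (Spec (CommRingCat.of k))) (_ : GrpObj A) (q : S' ⟶ A),
        IsMonHom i ∧ IsClosedImmersion i.left ∧ Red.IsTorus T ∧ IsMonHom q ∧ Surjective q.left ∧ Flat q.left ∧
        AlgGrp.IsKernel i q ∧ IsProper A.hom ∧ Smooth A.hom ∧ ConnectedSpace ↥A.left))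
    (hS'max : ∀ (S₁ : Over (Spec (CommRingCat.of k))) [GrpObj S₁] (s₁ : S₁ ⟶ Q) [IsMonHom s₁] [IsClosedImmersion s₁.left],
      (∃ (T : Over (Spec (CommRingCat.of k))) (_ : GrpObj T) (i : T ⟶ S₁) (A : Over (Spec (CommRingCat.of k))) (_ : GrpObj A) (q : S₁ ⟶ A),
        IsMonHom i ∧ IsClosedImmersion i.left ∧ Red.IsTorus T ∧ IsMonHom q ∧ Surjective q.left ∧ Flat q.left ∧
        AlgGrp.IsKernel i q ∧ IsProper A.hom ∧ Smooth A.hom ∧ ConnectedSpace ↥A.left) → ∃ g : S₁ ⟶ S', g ≫ s' = s₁) :
    Set.range ⇑(s ≫ q).left.base = Set.range ⇑s'.left.base := by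
  haveI : Mono s := Over.mono_of_mono_left s
  haveI : Mono s' := Over.mono_of_mono_left s'
  haveI : LocallyOfFiniteType S.hom := by rw [← Over.w s]; infer_instance
  haveI : QuasiCompact S.hom := by rw [← Over.w s]; infer_instance
  haveI : LocallyOfFiniteType S'.hom := by rw [← Over.w s']; infer_instance
  haveI : QuasiCompact S'.hom := by rw [← Over.w s']; infer_instance
  haveI : IsSeparated Q.hom := GrothLib.GrpSchField.isSeparated Q
  haveI : QuasiCompact q.left := by
    haveI : QuasiCompact (q.left ≫ Q.hom) := by rw [Over.w q]; infer_instance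
    exact QuasiCompact.of_comp q.left Q.hom
  haveI : Epi q := GrothLib.SemiAbExp2.epi_of_fppf q
  haveI : IsCommMonObj Q := GrothLib.AlgGrp14.isCommMonObj_of_epi q
  haveI : IsCommMonObj S' := GrothLib.AlgGrp14.isCommMonObj_of_mono s'
  obtain ⟨n, f, hn, _, hfs⟩ := GrothLib.SemiAbExp2.exists_pow_factor p s hSmax
  apply Set.Subset.antisymm
  · -- the image of `S` is semi-abelian
    haveI : QuasiCompact (s ≫ q).left := inferInstanceAs (QuasiCompact (s.left ≫ q.left))
    obtain ⟨J, _, c, jJ, hc, hjJ, hcj, hcs, hcf, -, hjm, hJl, -⟩ := GrothLib.Neutral.exists_factor_field (s ≫ q)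
    haveI := hc; haveI := hjJ; haveI := hcs; haveI := hcf; haveI := hjm; haveI := hJl
    haveI : IsClosedImmersion jJ.left := (GrothLib.Neutral.isClosedImmersion_factor (s ≫ q) hcj).1
    haveI : QuasiCompact J.hom := by rw [← Over.w jJ]; infer_instance
    obtain ⟨g, hg⟩ := hS'max J jJ (GrothLib.SemiAbDesc2.SA.quotient c hS)
    rintro _ ⟨x, rfl⟩
    refine ⟨(c ≫ g).left x, ?_⟩
    show ((c ≫ g).left ≫ s'.left) x = _
    rw [← Over.comp_left, Category.assoc, hg, hcj]
  · obtain ⟨-, -, hsurj⟩ := GrothLib.SemiAbExp2.pow_isogeny hS' hn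
    rintro _ ⟨x, rfl⟩
    obtain ⟨y, rfl⟩ := hsurj.surj x
    obtain ⟨w, hw⟩ := q.left.surjective (s'.left y)
    refine ⟨f.left w, ?_⟩
    show (f.left ≫ (s ≫ q).left) w = (((𝟙 S' : S' ⟶ S') ^ n).left ≫ s'.left) y
    rw [← Over.comp_left, ← Over.comp_left, GrothLib.SemiAbExp2.comp_pow_self]
    have e : f ≫ s ≫ q = q ≫ ((𝟙 Q : Q ⟶ Q) ^ n) := by
      rw [← Category.assoc, hfs, MonObj.pow_comp, Category.id_comp, MonObj.comp_pow, Category.comp_id]
    rw [e, Over.comp_left, Over.comp_left, Scheme.Hom.comp_apply, Scheme.Hom.comp_apply, hw]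


end Groth.Agent.S14605
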