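import Groth.Statements.S14606
import Mathlib.RingTheory.Nilpotent.GeometricallyReduced
import Mathlib.Algebra.CharP.Algebra
import Mathlib.RingTheory.Noetherian.Nilpotent
import Mathlib.FieldTheory.IsAlgClosed.AlgebraicClosure
import Mathlib.RingTheory.FiniteType
import Mathlib.RingTheory.FiniteStability
-- import your own Groth.Agent.* helpers here

set_option autoImplicit false
universe u
open FrobAlg

namespace Groth.Agent.S14606

/-- Let k be a field of characteristic p > 0 and R a finitely generated commutative k-algebra. The
scheme-theoretic image of the n-th relative Frobenius morphism of Spec R is the spectrum of the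
k-subalgebra k[R^(p^n)] generated by all p^n-th powers; for n large enough this image is
geometrically reduced: there is an n such that k[R^(p^n)] is a geometrically reduced k-algebra.
(Stated in affine, ring-theoretic form.) -/
theorem result (k : Type u) [Field k] (p : ℕ) [Fact p.Prime] [CharP k p]
    (R : Type u) [CommRing R] [Algebra k R] [Algebra.FiniteType k R] :
    ∃ n : ℕ, Algebra.IsGeometricallyReduced k ↥(Algebra.adjoin k (Set.range (fun x : R => x ^ (p ^ n)))) := by
  classical
  let K := AlgebraicClosure k
  let R' := TensorProduct k K R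
  have hp : p.Prime := Fact.out
  rcases subsingleton_or_nontrivial R with hR | hR
  · refine ⟨0, (Algebra.isGeometricallyReduced_field_iff k _).2 ?_⟩
    haveI : Subsingleton ↥(Algebra.adjoin k (Set.range fun x : R => x ^ p ^ 0)) := ⟨fun a b => Subtype.ext (Subsingleton.elim _ _)⟩
    haveI : Subsingleton (TensorProduct k (AlgebraicClosure k) ↥(Algebra.adjoin k (Set.range fun x : R => x ^ p ^ 0))) :=
      ⟨fun a b => by
        have h : ∀ z : TensorProduct k (AlgebraicClosure k) ↥(Algebra.adjoin k (Set.range fun x : R => x ^ p ^ 0)), z = 0 := fun z => by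
          induction z using TensorProduct.induction_on with
          | zero => rfl
          | tmul c x => rw [Subsingleton.elim x 0, TensorProduct.tmul_zero]
          | add x y hx hy => rw [hx, hy, add_zero]
        rw [h a, h b]⟩
    exact ⟨fun x _ => Subsingleton.elim _ _⟩
  haveI : CharP K p := charP_of_injective_algebraMap (algebraMap k K).injective p
  haveI : CharP R p := charP_of_injective_algebraMap (algebraMap k R).injective p
  haveI : Nontrivial R' := (Algebra.TensorProduct.includeLeft_injective (R := k) (S := k) (A := K) (B := R) (algebraMap k R).injective).nontrivial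
  haveI : CharP R' p := charP_of_injective_algebraMap (algebraMap k R').injective p
  haveI : IsNoetherianRing R' := Algebra.FiniteType.isNoetherianRing K R'
  obtain ⟨e, he⟩ := IsNoetherianRing.isNilpotent_nilradical R'
  refine ⟨e, (Algebra.isGeometricallyReduced_field_iff k _).2 ?_⟩
  let S := Algebra.adjoin k (Set.range fun x : R => x ^ p ^ e)
  let ι : TensorProduct k K S →ₐ[K] R' := Algebra.TensorProduct.map (AlgHom.id K K) S.val
  have hinj : Function.Injective ι :=
    Module.Flat.lTensor_preserves_injective_linearMap (M := K) S.val.toLinearMap Subtype.val_injective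
  let F : R' →+* R' := iterateFrobenius R' p e
  have himg : ∀ z, ι z ∈ F.range := fun z => by
    induction z using TensorProduct.induction_on with
    | zero => rw [map_zero]; exact zero_mem _
    | add a b ha hb => rw [map_add]; exact add_mem ha hb
    | tmul c x =>
      change c ⊗ₜ[k] (x : R) ∈ F.range
      have hc : ∀ c : K, ∃ d : K, d ^ p ^ e = c := fun c => IsAlgClosed.exists_pow_nat_eq c (pow_pos hp.pos e)
      obtain ⟨x, hx⟩ := x
      induction hx using Algebra.adjoin_induction generalizing c with
      | mem x hx =>
        obtain ⟨y, rfl⟩ := hx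
        obtain ⟨d, rfl⟩ := hc c
        exact ⟨d ⊗ₜ y, by rw [iterateFrobenius_def, Algebra.TensorProduct.tmul_pow]⟩
      | algebraMap r =>
        obtain ⟨d, hd⟩ := hc (r • c)
        refine ⟨d ⊗ₜ 1, ?_⟩
        show F (d ⊗ₜ[k] (1 : R)) = c ⊗ₜ[k] algebraMap k R r
        rw [iterateFrobenius_def, Algebra.TensorProduct.tmul_pow, one_pow, hd, Algebra.algebraMap_eq_smul_one,
          TensorProduct.smul_tmul]
      | add x y _ _ hx hy => rw [TensorProduct.tmul_add]; exact add_mem (hx c) (hy c)
      | mul x y _ _ hx hy =>
        have h := mul_mem (hx c) (hy 1)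
        rwa [Algebra.TensorProduct.tmul_mul_tmul, mul_one] at h
  refine ⟨fun z hz => ?_⟩
  obtain ⟨y, hy⟩ := himg z
  have hyn : IsNilpotent y := by
    obtain ⟨m, hm⟩ := hz
    exact ⟨p ^ e * m, by rw [pow_mul, ← iterateFrobenius_def, hy, ← map_pow, hm, map_zero]⟩
  have h0 : y ^ e = 0 := by
    have := Ideal.pow_mem_pow (mem_nilradical.2 hyn) e
    rw [he] at this
    exact this
  apply hinj
  rw [map_zero, ← hy, iterateFrobenius_def]
  exact pow_eq_zero_of_le (Nat.lt_pow_self hp.one_lt).le h0

end Groth.Agent.S14606
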