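import Groth.Statements.S14607
-- import your own Groth.Agent.* helpers here
import Groth.Agent.Lib.PicLine26.Main
import Groth.Agent.Lib.PicSep26.Separated

set_option autoImplicit false
universe u
open CategoryTheory AlgebraicGeometry CategoryTheory.Limits
open PicF

set_option backward.isDefEq.respectTransparency false
set_option linter.style.haveILetI false

noncomputable section

open GrothLib

open CategoryTheory CategoryTheory.Limits AlgebraicGeometry

namespace Groth.Agent.S14607

/-- Let k be a field and X an integral, separated k-scheme of finite type which is seminormal, in the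
sense that every point has an affine open neighbourhood whose ring of functions is seminormal (x³ =
y² implies x = a² and y = a³ for exactly one a). Then the pull-back along the first projection X ×
A¹ → X induces a bijection from the isomorphism classes of invertible O_X-modules onto those of
invertible modules on X × A¹, i.e. Pic(X) → Pic(X × A¹) is an isomorphism. (This is the assertion
established in the course of the published proof, which deduces from it that the Picard variety of a
geometrically semi-normal proper variety is semi-abelian; semi-normality is taken in the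
ring-theoretic form used by the cited input on Picard groups of polynomial rings.) -/
theorem result (k : Type u) [Field k]
    (X : Scheme.{u}) (f : X ⟶ Spec (CommRingCat.of k)) [IsIntegral X] [IsSeparated f] [LocallyOfFiniteType f] [QuasiCompact f]
    (hX : HTop.IsSeminormal X) :
    Set.BijOn (PicF.pullCl (pullback.fst f (𝔸(PUnit.{u + 1}; Spec (CommRingCat.of k)) ↘ Spec (CommRingCat.of k))))
      {c : PicF.Cl X | PicF.IsInvertibleCl c}
      {c : PicF.Cl (pullback f (𝔸(PUnit.{u + 1}; Spec (CommRingCat.of k)) ↘ Spec (CommRingCat.of k))) | PicF.IsInvertibleCl c} := by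
  let g := pullback.fst f (𝔸(PUnit.{u + 1}; Spec (CommRingCat.of k)) ↘ Spec (CommRingCat.of k))
  let hp := (AffineSpace.isPullback_map (n := PUnit.{u + 1}) f).flip
  let ι := hp.isoPullback
  have hι : ι.hom ≫ g = (𝔸(PUnit.{u + 1}; X) ↘ X) := hp.isoPullback_hom_fst
  obtain ⟨hinj, hsurj⟩ := GrothLib.PicLine26.bijective_pull hX
  have hι' : ι.inv ≫ (𝔸(PUnit.{u + 1}; X) ↘ X) = g := by rw [← hι, Iso.inv_hom_id_assoc]
  have key : ∀ y : GrothLib.Cube.Pic X, GrothLib.Cube.pull g y =
      GrothLib.Cube.pull ι.inv (GrothLib.Cube.pull (𝔸(PUnit.{u + 1}; X) ↘ X) y) := fun y => by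
    rw [GrothLib.Cube.pull_comp, hι']
  refine ⟨?_, ?_, ?_⟩
  · rintro c ⟨L, rfl, hL⟩
    exact ⟨_, rfl, GrothLib.Ample.isInvertible_pullback _ hL⟩
  · rintro c ⟨L, rfl, hL⟩ c' ⟨L', rfl, hL'⟩ h
    have h' := (GrothLib.Cube.clsMod_eq_iff (GrothLib.Ample.isInvertible_pullback g hL)
      (GrothLib.Ample.isInvertible_pullback g hL')).2 (GrothLib.PicSep26.cl_eq_iff.1 h)
    rw [GrothLib.Cube.clsMod_pullback _ hL, GrothLib.Cube.clsMod_pullback _ hL', key, key] at h'
    refine GrothLib.PicSep26.cl_eq_iff.2 ((GrothLib.Cube.clsMod_eq_iff hL hL').1 (hinj ?_))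
    have h2 := congrArg (GrothLib.Cube.pull ι.hom) h'
    simpa only [GrothLib.Cube.pull_comp ι.hom ι.inv, Iso.hom_inv_id, GrothLib.Cube.pull_id] using h2
  · rintro c ⟨L, rfl, hL⟩
    obtain ⟨y, hy⟩ := hsurj (GrothLib.Cube.pull ι.hom (GrothLib.Cube.clsMod hL))
    obtain ⟨d, rfl⟩ := Quotient.exists_rep y
    have hd := d.isInvertible_twist 1
    refine ⟨PicF.cl (d.twist 1), ⟨_, rfl, hd⟩, GrothLib.PicSep26.cl_eq_iff.2
      ((GrothLib.Cube.clsMod_eq_iff (GrothLib.Ample.isInvertible_pullback g hd) hL).1 ?_)⟩
    rw [GrothLib.Cube.clsMod_pullback _ hd, GrothLib.Cube.clsMod_eq hd (Iso.refl _), key]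
    refine (congrArg (GrothLib.Cube.pull ι.inv) hy).trans ?_
    rw [GrothLib.Cube.pull_comp, Iso.inv_hom_id, GrothLib.Cube.pull_id]

end Groth.Agent.S14607
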