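import Groth.Statements.S14608
import Groth.Agent.Lib.CokerLocal.Basic
-- import your own Groth.Agent.* helpers here

set_option autoImplicit false
universe u v
open CAlg

namespace Groth.Agent.S14608

open TensorProduct in
/-- Let A be a Noetherian ring, M a finitely generated A-module, F a finitely generated free A-module, δ
: M → F an A-linear map and p a prime of A with residue field κ(p). The following are equivalent:
(a) the natural map (ker δ) ⊗ κ(p) → ker(δ ⊗ κ(p)) is surjective (its image is the whole kernel);
(b) that map is bijective; (c) (F / im δ) localized at p is a free module over the local ring A_p.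
Moreover, if these hold then (im δ) localized at p is free over A_p. (The published statement takes
M to be the cokernel of a map of finitely generated free modules; over a Noetherian ring this is
every finitely generated M, which is what this row takes.) -/
theorem result (A : Type u) [CommRing A] [IsNoetherianRing A]
    (M : Type v) (F : Type v) [AddCommGroup M] [Module A M] [Module.Finite A M]
    [AddCommGroup F] [Module A F] [Module.Finite A F] [Module.Free A F]
    (δ : M →ₗ[A] F) (p : Ideal A) [p.IsPrime] :
    [ Function.Exact (LinearMap.lTensor p.ResidueField (LinearMap.ker δ).subtype)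
        (LinearMap.lTensor p.ResidueField δ),
      Function.Exact (LinearMap.lTensor p.ResidueField (LinearMap.ker δ).subtype)
        (LinearMap.lTensor p.ResidueField δ) ∧
        Function.Injective (LinearMap.lTensor p.ResidueField (LinearMap.ker δ).subtype),
      Module.Free (Localization.AtPrime p)
        (LocalizedModule p.primeCompl (F ⧸ LinearMap.range δ)) ].TFAE ∧
    (Function.Exact (LinearMap.lTensor p.ResidueField (LinearMap.ker δ).subtype)
        (LinearMap.lTensor p.ResidueField δ) →
      Module.Free (Localization.AtPrime p)
        (LocalizedModule p.primeCompl (LinearMap.range δ))) := by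
  let S := p.primeCompl
  let k := p.ResidueField
  have hbij : ∀ g ∈ S, Function.Bijective fun v : k => g • v := by
    intro g hg
    have hu : algebraMap A k g ≠ 0 := fun h0 => hg (Ideal.algebraMap_residueField_eq_zero.1 h0)
    refine ⟨fun x y hxy => ?_, fun y => ⟨(algebraMap A k g)⁻¹ * y, ?_⟩⟩
    · simp only [Algebra.smul_def] at hxy
      exact mul_left_cancel₀ hu hxy
    · simp only [Algebra.smul_def]
      exact mul_inv_cancel_left₀ hu y
  have h13 : Function.Exact (LinearMap.lTensor k (LinearMap.ker δ).subtype) (LinearMap.lTensor k δ) →
      ∃ g ∈ S, GrothLib.CokerProj.GenInv δ g := by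
    intro hex
    obtain ⟨g, hg, hg'⟩ := GrothLib.CokerProj.exists_genInv_of_fibre δ ⟨p, inferInstance⟩ (fun x hx => by
      have hx' : δ.lTensor k x = 0 := hx
      obtain ⟨y, hy⟩ := (hex x).1 hx'
      exact ⟨y, hy⟩)
    exact ⟨g, hg, hg'⟩
  constructor
  · tfae_have 2 → 1 := fun h => h.1
    tfae_have 1 → 3 := fun h => by
      obtain ⟨g, hg, hg'⟩ := h13 h
      have := GrothLib.CokerLocal.projective_localized δ S ⟨g, hg⟩ hg'
      have : Module.Finite (Localization.AtPrime p) (LocalizedModule S (F ⧸ LinearMap.range δ)) :=
        Module.Finite.of_isLocalizedModule S (LocalizedModule.mkLinearMap S (F ⧸ LinearMap.range δ))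
      have : Module.FinitePresentation (Localization.AtPrime p)
          (LocalizedModule S (F ⧸ LinearMap.range δ)) := Module.finitePresentation_of_finite _ _
      exact Module.free_of_flat_of_isLocalRing
    tfae_have 3 → 2 := fun h => by
      have : Module.Free (Localization S) (LocalizedModule S (F ⧸ LinearMap.range δ)) := h
      obtain ⟨g, hg, hg'⟩ := GrothLib.CokerLocal.genInv_of_projective_localized δ S
      exact GrothLib.CokerLocal.exact_of_genInv δ k g (hbij g hg) hg'
    tfae_finish
  · intro hex
    obtain ⟨g, hg, h, hh⟩ := h13 hex
    let a : S := ⟨g, hg⟩
    let r : F →ₗ[A] LinearMap.range δ := δ.rangeRestrict ∘ₗ h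
    have hr : ∀ y : LinearMap.range δ, r y = g • y := by
      rintro ⟨_, x, rfl⟩
      exact Subtype.ext (hh x)
    have : Module.Projective (Localization.AtPrime p) (LocalizedModule S (LinearMap.range δ)) := by
      refine Module.Projective.of_split (P := LocalizedModule S (LinearMap.range δ))
        (Localization.mk 1 a • LocalizedModule.map S (LinearMap.range δ).subtype)
        (LocalizedModule.map S r) (LinearMap.ext fun x => ?_)
      induction x using LocalizedModule.induction_on with
      | h c t =>
        simp only [LinearMap.comp_apply, LinearMap.smul_apply, LinearMap.id_apply, LocalizedModule.map_mk,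
          map_smul, LocalizedModule.mk_smul_mk, one_smul, Submodule.subtype_apply, hr]
        exact LocalizedModule.mk_cancel_common_left a t c
    have : Module.Finite (Localization.AtPrime p) (LocalizedModule S (LinearMap.range δ)) :=
      Module.Finite.of_isLocalizedModule S (LocalizedModule.mkLinearMap S (LinearMap.range δ))
    have : Module.FinitePresentation (Localization.AtPrime p)
        (LocalizedModule S (LinearMap.range δ)) := Module.finitePresentation_of_finite _ _
    exact Module.free_of_flat_of_isLocalRing

end Groth.Agent.S14608
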