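import Groth.Statements.S14610
import Groth.Agent.Lib.CokerReduced.Basic
-- import your own Groth.Agent.* helpers here

set_option autoImplicit false
universe u v
open CAlg

namespace Groth.Agent.S14610

open TensorProduct in
/-- Let A be a reduced Noetherian ring, M a finitely generated A-module, F a finitely generated free
A-module and δ : M → F an A-linear map such that the function p ↦ dim_{κ(p)} ker(δ ⊗ κ(p)) is
locally constant on Spec A. Then M, ker δ and coker δ = F / im δ are projective A-modules, and for
every A-module N the natural map (ker δ) ⊗ N → M ⊗ N is injective with image equal to the kernel of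
δ ⊗ N. -/
theorem result (A : Type u) [CommRing A]
    [IsNoetherianRing A] [IsReduced A] (M : Type v) (F : Type v) [AddCommGroup M] [Module A M]
    [Module.Finite A M] [AddCommGroup F] [Module A F] [Module.Finite A F] [Module.Free A F]
    (δ : M →ₗ[A] F)
    (h : IsLocallyConstant (fun x : PrimeSpectrum A =>
      Module.finrank x.asIdeal.ResidueField
        (LinearMap.ker (δ.baseChange x.asIdeal.ResidueField)))) :
    Module.Projective A M ∧ Module.Projective A (LinearMap.ker δ) ∧
      Module.Projective A (F ⧸ LinearMap.range δ) ∧
      ∀ (N : Type v) [AddCommGroup N] [Module A N],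
        Function.Injective (LinearMap.rTensor N (LinearMap.ker δ).subtype) ∧
        Function.Exact (LinearMap.rTensor N (LinearMap.ker δ).subtype) (LinearMap.rTensor N δ) := by
  have hM : Module.Projective A M := GrothLib.CokerReduced.projective_of_exists_local
    fun x => (GrothLib.CokerReduced.exists_local δ h x).2
  obtain ⟨s, hs⟩ := GrothLib.CokerProj.genInv_one_of_forall δ
    fun x => (GrothLib.CokerReduced.exists_local δ h x).1
  let e : M →ₗ[A] LinearMap.ker δ := LinearMap.codRestrict _ (LinearMap.id - s ∘ₗ δ) fun z => by
    simp [hs]
  refine ⟨hM, Module.Projective.of_split (LinearMap.ker δ).subtype e (LinearMap.ext fun z => Subtype.ext ?_),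
    GrothLib.CokerProj.projective_of_genInv_one δ ⟨s, hs⟩, fun N _ _ => ?_⟩
  · show (z : M) - s (δ z) = z
    rw [show δ (z : M) = 0 from z.2, map_zero, sub_zero]
  · obtain ⟨hex, hin⟩ := GrothLib.CokerLocal.exact_of_genInv δ N 1
      ⟨fun a b hab => by simpa using hab, fun b => ⟨b, one_smul _ b⟩⟩ ⟨s, hs⟩
    exact ⟨(LinearMap.lTensor_inj_iff_rTensor_inj _ _).1 hin,
      (LinearMap.rTensor_exact_iff_lTensor_exact N).2 hex⟩

end Groth.Agent.S14610
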