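import Groth.Statements.S14611
import Mathlib
import Groth.Agent.Lib.FlatCx.Coker

set_option autoImplicit false
universe u
open FlatCx

namespace Groth.Agent.S14611

open TensorProduct in
/-- A cokernel of a map into a finite projective module is flat if it is injective modulo every
maximal ideal. -/
theorem flat_coker_of_residue {A : Type u} [CommRing A] {K P : Type u} [AddCommGroup K] [Module A K]
    [Module.Finite A K] [AddCommGroup P] [Module A P] [Module.Finite A P] [Module.Projective A P]
    (f : K →ₗ[A] P)
    (h : ∀ (m : Ideal A), m.IsMaximal → Function.Injective (f.lTensor (A ⧸ m))) :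
    Module.Flat A (P ⧸ LinearMap.range f) := by
  refine Module.flat_of_isLocalized_maximal (S := A) (R := A) (M := P ⧸ LinearMap.range f)
    (fun m _ => Localization.AtPrime m ⊗[A] (P ⧸ LinearMap.range f))
    (fun m _ => TensorProduct.mk A _ _ 1) fun m hm => ?_
  haveI : Module.Free (Localization.AtPrime m) (Localization.AtPrime m ⊗[A] (P ⧸ LinearMap.range f)) := by
    haveI : Module.Free (Localization.AtPrime m) (Localization.AtPrime m ⊗[A] P) :=
      Module.free_of_flat_of_isLocalRing
    refine Module.free_of_lTensor_residueField_injective (f.baseChange (Localization.AtPrime m))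
      ((LinearMap.range f).mkQ.baseChange (Localization.AtPrime m))
      (LinearMap.lTensor_surjective _ (Submodule.mkQ_surjective _))
      (lTensor_exact _ (LinearMap.exact_map_mkQ_range f) (Submodule.mkQ_surjective _)) ?_
    let e1 := AlgebraTensorModule.cancelBaseChange A (Localization.AtPrime m) (Localization.AtPrime m)
      m.ResidueField K
    let e2 := AlgebraTensorModule.cancelBaseChange A (Localization.AtPrime m) (Localization.AtPrime m)
      m.ResidueField P
    let e : (A ⧸ m) ≃ₗ[A] m.ResidueField := LinearEquiv.ofBijective
      (IsScalarTower.toAlgHom A (A ⧸ m) m.ResidueField).toLinearMap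
      (Ideal.bijective_algebraMap_quotient_residueField _)
    have hnat : ∀ y, f.lTensor m.ResidueField (e.rTensor K y) = e.rTensor P (f.lTensor (A ⧸ m) y) :=
      fun y => by
      induction y using TensorProduct.induction_on with
      | zero => simp
      | add a b ha hb => simp only [map_add, ha, hb]
      | tmul r x => rfl
    have hκ : Function.Injective (f.lTensor m.ResidueField) := fun x y hxy => by
      obtain ⟨x, rfl⟩ := (e.rTensor K).surjective x
      obtain ⟨y, rfl⟩ := (e.rTensor K).surjective y
      rw [hnat, hnat] at hxy
      rw [h m hm ((e.rTensor P).injective hxy)]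
    have hcomm : ∀ y, e2 ((f.baseChange (Localization.AtPrime m)).lTensor m.ResidueField y) =
        f.lTensor m.ResidueField (e1 y) := fun y => by
      induction y using TensorProduct.induction_on with
      | zero => simp
      | add a b ha hb => simp only [map_add, ha, hb]
      | tmul r w =>
        induction w using TensorProduct.induction_on with
        | zero => simp
        | add a b ha hb => simp only [TensorProduct.tmul_add, map_add, ha, hb]
        | tmul a x => simp [e1, e2]
    intro x y hxy
    exact e1.injective (hκ ((hcomm x).symm.trans ((congrArg e2 hxy).trans (hcomm y))))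
  exact Module.Flat.trans A (Localization.AtPrime m) _



open CategoryTheory CategoryTheory.Limits in
/-- Let A be a Noetherian ring, Q a cochain complex whose terms are finitely generated projective
A-modules, and d an integer such that H^p(Q) = 0 for every p < d and H^p(Q ⊗_A A/m) = 0 for every p
< d and every maximal ideal m of A. Then Q^d / im(Q^{d-1} → Q^d), the degree-d term of the
truncation τ_{≥ d} Q, is a projective A-module, so that τ_{≥ d} Q is again a complex of projective
modules. (The published statement also asserts that Q → τ_{≥ d} Q is a quasi-isomorphism when H^p(Q)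
= 0 for p < d; this row omits that clause.) -/
theorem result (A : Type u) [CommRing A] [IsNoetherianRing A]
    (Q : CochainComplex (ModuleCat.{u} A) ℤ)
    (hQ : ∀ i, Module.Finite A (Q.X i) ∧ Module.Projective A (Q.X i)) (d : ℤ)
    (h1 : ∀ p < d, IsZero (Q.homology p))
    (h2 : ∀ (m : Ideal A) [m.IsMaximal], ∀ p < d,
      IsZero ((CohIII.tensorObj Q (ModuleCat.of A (A ⧸ m))).homology p)) :
    Module.Projective A (Q.opcycles d) := by
  haveI : ∀ i, Module.Finite A (Q.X i) := fun i => (hQ i).1
  haveI : ∀ i, Module.Projective A (Q.X i) := fun i => (hQ i).2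
  set f := (Q.d (d - 1) d).hom with hf
  set K := LinearMap.range f with hK
  have hprev : (ComplexShape.up ℤ).prev d = d - 1 := CochainComplex.prev ℤ d
  suffices hflat : Module.Flat A (Q.X d ⧸ K) by
    haveI := hflat
    haveI : Module.Projective A (Q.X d ⧸ K) := GrothLib.FlatCx.projective_of_finite_flat _
    refine Module.Projective.of_equiv ((Submodule.quotEquivOfEq K _ ?_).trans
      (Q.sc d).moduleCatOpcyclesIso.toLinearEquiv.symm)
    show K = LinearMap.range (Q.d ((ComplexShape.up ℤ).prev d) d).hom
    rw [hprev]
  suffices h' : ∀ (m : Ideal A), m.IsMaximal → Function.Injective (K.subtype.lTensor (A ⧸ m)) by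
    haveI := flat_coker_of_residue K.subtype h'
    exact Module.Flat.of_linearEquiv (Submodule.quotEquivOfEq K _ K.range_subtype.symm)
  intro m hm
  have h := h2 m (d - 1) (by omega)
  rw [← HomologicalComplex.exactAt_iff_isZero_homology,
    HomologicalComplex.exactAt_iff' _ (d - 1 - 1) (d - 1) d
      (CochainComplex.prev ℤ (d - 1)) (by rw [CochainComplex.next]; omega),
    CategoryTheory.ShortComplex.ShortExact.moduleCat_exact_iff_function_exact] at h
  have hex : Function.Exact ((Q.d (d - 1 - 1) (d - 1)).hom.rTensor (A ⧸ m)) (f.rTensor (A ⧸ m)) := h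
  rw [LinearMap.lTensor_inj_iff_rTensor_inj, injective_iff_map_eq_zero]
  intro z hz
  obtain ⟨y, rfl⟩ := LinearMap.rTensor_surjective (A ⧸ m) f.surjective_rangeRestrict z
  rw [← LinearMap.rTensor_comp_apply, show K.subtype ∘ₗ f.rangeRestrict = f from rfl] at hz
  obtain ⟨w, rfl⟩ := (hex y).1 hz
  rw [← LinearMap.rTensor_comp_apply,
    show f.rangeRestrict ∘ₗ (Q.d (d - 1 - 1) (d - 1)).hom = 0 from LinearMap.ext fun x =>
      Subtype.ext (LinearMap.congr_fun (show f ∘ₗ (Q.d (d - 1 - 1) (d - 1)).hom = 0 by
        rw [hf, ← ModuleCat.hom_comp, Q.d_comp_d, ModuleCat.hom_zero]) x),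
    LinearMap.rTensor_zero, LinearMap.zero_apply]

end Groth.Agent.S14611
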