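import Groth.Statements.S14612
import Groth.Agent.Lib.FlatCx.ArtinLen

set_option autoImplicit false
universe u
open FlatCx

namespace Groth.Agent.S14612

open CategoryTheory CategoryTheory.Limits in
/-- Let A be a commutative ring and F a cochain complex of flat A-modules which is bounded above (F^i =
0 for all large i) and whose cohomology H^p(F) vanishes for every p > d. Then the module of
d-cocycles Z^d = ker(F^d → F^{d+1}) is flat over A; hence the truncation τ_{≤ d} F is again a
complex of flat modules (and τ_{≤ d} F → F is a quasi-isomorphism, which is not restated).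
Boundedness cannot be dropped. -/
theorem result (A : Type u) [CommRing A]
    (F : CochainComplex (ModuleCat.{u} A) ℤ) (hF : ∀ i, Module.Flat A (F.X i))
    (hb : ∃ b : ℤ, ∀ i, b < i → IsZero (F.X i)) (d : ℤ) (hac : ∀ p, d < p → IsZero (F.homology p)) :
    Module.Flat A (F.cycles d) := by
  haveI : ∀ i, Module.Flat A (F.X i) := hF
  obtain ⟨b, hb⟩ := hb
  suffices h : ∀ n : ℕ, ∀ i : ℤ, d ≤ i → b + 1 - n ≤ i →
      Module.Flat A (LinearMap.ker (F.d i (i + 1)).hom) by
    haveI := h (b + 1 - d).toNat d le_rfl (by omega)
    have e := (F.sc d).moduleCatCyclesIso.toLinearEquiv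
    have hd : (F.sc d).g.hom = (F.d d ((ComplexShape.up ℤ).next d)).hom := rfl
    have hn : (ComplexShape.up ℤ).next d = d + 1 := CochainComplex.next ℤ d
    refine Module.Flat.of_linearEquiv (M := LinearMap.ker (F.d d (d + 1)).hom) (e ≪≫ₗ ?_)
    refine LinearEquiv.ofEq _ _ ?_
    show LinearMap.ker (F.d d ((ComplexShape.up ℤ).next d)).hom = _
    rw [hn]
  intro n
  induction n with
  | zero =>
    intro i _ hi
    haveI : Subsingleton (F.X i) := ModuleCat.subsingleton_of_isZero (hb i (by omega))
    infer_instance
  | succ n ih =>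
    intro i hdi hi
    haveI := ih (i + 1) (by omega) (by omega)
    have hex : (F.sc (i + 1)).Exact :=
      (F.exactAt_iff (i + 1)).1 ((HomologicalComplex.exactAt_iff_isZero_homology _ _).2 (hac (i + 1) (by omega)))
    have hex' := (F.exactAt_iff' i (i + 1) (i + 1 + 1) (CochainComplex.prev ℤ (i + 1) ▸ by simp) (by simp)).1
      ((HomologicalComplex.exactAt_iff_isZero_homology _ _).2 (hac (i + 1) (by omega)))
    have hr : LinearMap.range (F.d i (i + 1)).hom = LinearMap.ker (F.d (i + 1) (i + 1 + 1)).hom :=
      ((ShortComplex.moduleCat_exact_iff_range_eq_ker _).1 hex')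
    haveI : Module.Flat A (LinearMap.range (F.d i (i + 1)).hom) := by
      rw [hr]; infer_instance
    exact GrothLib.FlatCx.flat_ker_of_flat_range _

end Groth.Agent.S14612
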