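import Groth.Statements.S14614
import Mathlib.AlgebraicGeometry.Morphisms.FlatMono
import Mathlib.RingTheory.Filtration
import Mathlib.RingTheory.Artinian.Ring
import Mathlib.RingTheory.HopkinsLevitzki

set_option autoImplicit false
set_option linter.style.haveILetI false
set_option backward.isDefEq.respectTransparency false
universe u
open Mor

namespace Groth.Agent.S14614

open CategoryTheory AlgebraicGeometry in
/-- Let S be a locally Noetherian scheme and i : Z → S a closed immersion with the following property:
for every Artinian local ring A with residue field k and every morphism g : Spec A → S, if the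
restriction Spec k → Spec A → S of g factors through i then so does g. Then i is also an open
immersion, i.e. the closed subscheme Z is open in S as a subscheme. (The published hypothesis is an
equivalence; its other direction always holds, so this row assumes only the implication.) -/
theorem result (S : Scheme.{u}) [IsLocallyNoetherian S]
    {Z : Scheme.{u}} (i : Z ⟶ S) [IsClosedImmersion i]
    (h : ∀ (A : Type u) [CommRing A] [IsArtinianRing A] [IsLocalRing A] (g : Spec (CommRingCat.of A) ⟶ S),
      (∃ t : Spec (CommRingCat.of (IsLocalRing.ResidueField A)) ⟶ Z,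
          t ≫ i = Spec.map (CommRingCat.ofHom (IsLocalRing.residue A)) ≫ g) →
        ∃ g' : Spec (CommRingCat.of A) ⟶ Z, g' ≫ i = g) :
    IsOpenImmersion i := by
  haveI : Flat i := by
    refine IsZariskiLocalAtTarget.of_iSup_eq_top (P := @Flat) (fun U : S.affineOpens => U.1)
      (iSup_affineOpens_eq_top S) fun U => ?_
    haveI : IsAffine (U.1 : Scheme.{u}) := U.2
    haveI : IsAffine (i ⁻¹ᵁ U.1 : Scheme.{u}) := U.2.preimage i
    rw [HasRingHomProperty.iff_of_isAffine (P := @Flat)]
    let V := i ⁻¹ᵁ U.1
    have hV : IsAffineOpen V := U.2.preimage i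
    haveI : IsNoetherianRing Γ(S, U.1) := IsLocallyNoetherian.component_noetherian U
    let φ := (i.app U.1).hom
    have hφ : Function.Surjective φ := i.app_surjective U.1 U.2
    let J := RingHom.ker φ
    have hkill : ∀ (p : Ideal Γ(S, U.1)) [p.IsMaximal], J ≤ p → ∀ a ∈ J, ∃ t ∉ p, t * a = 0 := by
      intro p hpm hJp a ha
      let s : S := U.2.fromSpec ⟨p, hpm.isPrime⟩
      have hsU : s ∈ U.1 := by
        have : s ∈ Set.range U.2.fromSpec := ⟨_, rfl⟩
        rwa [U.2.range_fromSpec] at this
      letI : Algebra Γ(S, U.1) (S.presheaf.stalk s) := S.presheaf.algebra_section_stalk ⟨s, hsU⟩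
      haveI : IsLocalization.AtPrime (S.presheaf.stalk s) p := U.2.isLocalization_stalk' ⟨p, hpm.isPrime⟩ hsU
      haveI : IsNoetherianRing (S.presheaf.stalk s) := IsLocalization.isNoetherianRing p.primeCompl _ inferInstance
      suffices hz : algebraMap Γ(S, U.1) (S.presheaf.stalk s) a = 0 by
        obtain ⟨⟨t, ht⟩, hta⟩ := (IsLocalization.map_eq_zero_iff p.primeCompl _ a).mp hz
        exact ⟨t, ht, hta⟩
      rw [← Ideal.mem_bot, ← Ideal.iInf_pow_eq_bot_of_isLocalRing (IsLocalRing.maximalIdeal (S.presheaf.stalk s))
        (IsLocalRing.maximalIdeal.isMaximal _).ne_top, Ideal.mem_iInf]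
      intro n
      let O := S.presheaf.stalk s
      let n' := n + 1
      let A := O ⧸ IsLocalRing.maximalIdeal O ^ n'
      haveI : Nontrivial A := Ideal.Quotient.nontrivial_iff.mpr fun htop =>
        (IsLocalRing.maximalIdeal.isMaximal O).ne_top (top_unique (htop ▸ Ideal.pow_le_self n.succ_ne_zero))
      haveI : IsLocalRing A := IsLocalRing.of_surjective' (Ideal.Quotient.mk _) Ideal.Quotient.mk_surjective
      haveI : IsNoetherianRing A := inferInstance
      haveI : Ring.KrullDimLE 0 A := Ring.krullDimLE_zero_iff.mpr fun q hq => by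
        have h1 : IsLocalRing.maximalIdeal O ≤ q.comap (Ideal.Quotient.mk _) := fun z hz =>
          hq.mem_of_pow_mem n' (by
            rw [← map_pow, Ideal.Quotient.eq_zero_iff_mem.mpr (Ideal.pow_mem_pow hz n')]; exact q.zero_mem)
        have h2 := (IsLocalRing.maximalIdeal.isMaximal O).eq_of_le (Ideal.IsPrime.ne_top inferInstance) h1
        haveI : (q.comap (Ideal.Quotient.mk (IsLocalRing.maximalIdeal O ^ n'))).IsMaximal := h2 ▸ inferInstance
        rw [← Ideal.map_comap_of_surjective (Ideal.Quotient.mk _) Ideal.Quotient.mk_surjective q]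
        refine (Ideal.map_eq_top_or_isMaximal_of_surjective _ Ideal.Quotient.mk_surjective this).resolve_left ?_
        rw [Ideal.map_comap_of_surjective _ Ideal.Quotient.mk_surjective q]
        exact hq.ne_top
      haveI : IsArtinianRing A := IsNoetherianRing.isArtinianRing_of_krullDimLE_zero
      let mk : O →+* A := Ideal.Quotient.mk _
      let g : Spec (CommRingCat.of A) ⟶ S := Spec.map (CommRingCat.ofHom mk) ≫ S.fromSpecStalk s
      have hsr : s ∈ Set.range i := by
        have hmem : (⟨p, hpm.isPrime⟩ : PrimeSpectrum Γ(S, U.1)) ∈ Set.range (PrimeSpectrum.comap φ) := by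
          rw [range_comap_of_surjective _ _ hφ]; exact hJp
        obtain ⟨q, hq⟩ := hmem
        refine ⟨hV.fromSpec q, ?_⟩
        have := congrArg (fun m : _ ⟶ S => m q) (IsAffineOpen.SpecMap_appLE_fromSpec i U.2 hV le_rfl)
        simp only [Scheme.Hom.comp_apply] at this
        rw [← this, ← Scheme.Hom.app_eq_appLE]
        exact congrArg U.2.fromSpec hq
      obtain ⟨z, hz⟩ := hsr
      have ht : ∃ t : Spec (CommRingCat.of (IsLocalRing.ResidueField A)) ⟶ Z,
          t ≫ i = Spec.map (CommRingCat.ofHom (IsLocalRing.residue A)) ≫ g := by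
        have hrange : ∀ w : Spec (CommRingCat.of (IsLocalRing.ResidueField A)),
            (Spec.map (CommRingCat.ofHom (IsLocalRing.residue A)) ≫ g) w = s := fun w => by
          simp only [g, Scheme.Hom.comp_apply]
          refine Eq.trans (congrArg (S.fromSpecStalk s) ?_) (Scheme.fromSpecStalk_closedPoint (X := S) (x := s))
          refine PrimeSpectrum.ext ((IsLocalRing.maximalIdeal.isMaximal O).eq_of_le ?_ ?_).symm
          · exact Ideal.IsPrime.ne_top inferInstance
          · intro a ha
            show IsLocalRing.residue A (mk a) ∈ w.asIdeal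
            rw [(IsLocalRing.residue_eq_zero_iff _).mpr]
            · exact w.asIdeal.zero_mem
            · rw [IsLocalRing.mem_maximalIdeal, mem_nonunits_iff]
              intro hu
              have h1 : IsNilpotent (mk a) := ⟨n', by
                rw [← map_pow]
                exact Ideal.Quotient.eq_zero_iff_mem.mpr (Ideal.pow_mem_pow ha n')⟩
              exact h1.not_isUnit hu
        let c := Spec.map (CommRingCat.ofHom (IsLocalRing.residue A)) ≫ g
        haveI : IsReduced (Spec (CommRingCat.of (IsLocalRing.ResidueField A))) := inferInstance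
        haveI : Surjective (Limits.pullback.fst c i) := ⟨fun w => by
          have : w ∈ Set.range (Limits.pullback.fst c i) := by
            rw [Scheme.Pullback.range_fst]
            exact ⟨z, hz.trans (hrange w).symm⟩
          exact this⟩
        haveI : IsClosedImmersion (Limits.pullback.fst c i) := MorphismProperty.pullback_fst _ _ inferInstance
        haveI := isIso_of_isClosedImmersion_of_surjective (Limits.pullback.fst c i)
        refine ⟨inv (Limits.pullback.fst c i) ≫ Limits.pullback.snd c i, ?_⟩
        rw [Category.assoc, ← Limits.pullback.condition, IsIso.inv_hom_id_assoc]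
      obtain ⟨g', hg'⟩ := h A g ht
      have hzero : mk (algebraMap Γ(S, U.1) O a) = 0 := by
        have hle : (⊤ : (Spec (CommRingCat.of A)).Opens) ≤ g ⁻¹ᵁ U.1 := fun w _ => by
          have hw : g w ⤳ s := by
            have : g w ∈ Set.range (S.fromSpecStalk s) := ⟨_, rfl⟩
            rwa [Scheme.range_fromSpecStalk] at this
          exact hw.mem_open U.1.2 hsU
        have hle' : (⊤ : (Spec (CommRingCat.of A)).Opens) ≤ g' ⁻¹ᵁ V := fun w hw => by
          show i (g' w) ∈ U.1
          rw [← Scheme.Hom.comp_apply, hg']; exact hle hw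
        have h1 : (g.appLE U.1 ⊤ hle).hom a = 0 := by
          have key2 : ∀ (m : Spec (CommRingCat.of A) ⟶ S) (hm : ⊤ ≤ m ⁻¹ᵁ U.1), m = g →
              (g.appLE U.1 ⊤ hle).hom a = (m.appLE U.1 ⊤ hm).hom a := by
            rintro _ hm rfl; rfl
          rw [key2 (g' ≫ i) (fun w hw => hle' hw) hg',
            ← Scheme.Hom.appLE_comp_appLE g' i U.1 V ⊤ le_rfl hle', ← Scheme.Hom.app_eq_appLE]
          show (g'.appLE V ⊤ hle').hom (φ a) = 0
          rw [show φ a = 0 from ha, map_zero]
        have h2 : (Scheme.ΓSpecIso (CommRingCat.of A)).hom ((g.appLE U.1 ⊤ hle).hom a) = mk (algebraMap Γ(S, U.1) O a) := by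
          have e : g.appLE U.1 ⊤ hle = (S.fromSpecStalk s).app U.1 ≫
              (Spec.map (CommRingCat.ofHom mk)).appLE ((S.fromSpecStalk s) ⁻¹ᵁ U.1) ⊤ hle := by
            rw [Scheme.Hom.app_eq_appLE, Scheme.Hom.appLE_comp_appLE]
          rw [e, Scheme.fromSpecStalk_app hsU]
          simp only [Category.assoc, Scheme.Hom.map_appLE, CommRingCat.comp_apply]
          show (Scheme.ΓSpecIso (CommRingCat.of A)).hom ((Spec.map (CommRingCat.ofHom mk)).appTop
            ((Scheme.ΓSpecIso O).inv (S.presheaf.germ U.1 s hsU a))) = _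
          rw [← CommRingCat.comp_apply, ← CommRingCat.comp_apply, Scheme.ΓSpecIso_naturality]
          simp only [CommRingCat.comp_apply]
          exact congrArg mk (Iso.inv_hom_id_apply (Scheme.ΓSpecIso O) _)
        rw [← h2, h1, map_zero]
      exact Ideal.pow_le_pow_right n.le_succ (Ideal.Quotient.eq_zero_iff_mem.mp hzero)
    have hann : J.annihilator ⊔ J = ⊤ := by
      by_contra hne
      obtain ⟨p, hpm, hp⟩ := Ideal.exists_le_maximal _ hne
      obtain ⟨T, hT⟩ := (IsNoetherian.noetherian J : J.FG)
      have hJp : J ≤ p := le_sup_right.trans hp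
      choose t ht hta using fun a : T => hkill p hJp a (hT ▸ Submodule.subset_span a.2)
      have hprod : ∏ a : T, t a ∈ J.annihilator := by
        rw [← hT, Submodule.mem_annihilator_span]
        intro b
        obtain ⟨c, hc⟩ := Finset.dvd_prod_of_mem t (Finset.mem_univ (⟨b.1, b.2⟩ : T))
        show (∏ a : T, t a) * b.1 = 0
        rw [hc, mul_comm (t _) c, mul_assoc, hta, mul_zero]
      haveI := hpm.isPrime
      obtain ⟨a, -, ha⟩ := Ideal.IsPrime.prod_mem_iff.mp (hp (le_sup_left (b := J) hprod))
      exact ht a ha
    obtain ⟨a, ha, j, hj, haj⟩ := Submodule.mem_sup.mp (hann.ge (Submodule.mem_top : (1 : Γ(S, U.1)) ∈ ⊤))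
    have hflat : φ.Flat := by
      letI := φ.toAlgebra
      let l : Γ(S, U.1) →ₗ[Γ(S, U.1)] Γ(Z, V) := Algebra.linearMap _ _
      let ψ : Γ(Z, V) →ₗ[Γ(S, U.1)] Γ(S, U.1) :=
        { toFun := fun b => a * (hφ b).choose
          map_add' := fun b c => by
            have e : (hφ (b + c)).choose - ((hφ b).choose + (hφ c).choose) ∈ J := by
              rw [RingHom.mem_ker, map_sub, map_add, (hφ (b + c)).choose_spec, (hφ b).choose_spec, (hφ c).choose_spec, sub_self]
            have := Submodule.mem_annihilator.mp ha _ e
            rw [smul_eq_mul, mul_sub, sub_eq_zero] at this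
            rw [this, mul_add]
          map_smul' := fun r b => by
            have e : (hφ (r • b)).choose - r * (hφ b).choose ∈ J := by
              rw [RingHom.mem_ker, map_sub, map_mul, (hφ (r • b)).choose_spec, (hφ b).choose_spec, Algebra.smul_def]
              exact sub_self _
            have := Submodule.mem_annihilator.mp ha _ e
            rw [smul_eq_mul, mul_sub, sub_eq_zero] at this
            rw [this, RingHom.id_apply, smul_eq_mul]
            ring }
      have hψ : l ∘ₗ ψ = LinearMap.id := by
        refine LinearMap.ext fun b => ?_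
        show φ (a * (hφ b).choose) = b
        rw [map_mul, (hφ b).choose_spec]
        have : φ a = 1 := by
          have h1 := congrArg φ haj
          rwa [map_add, show φ j = 0 from hj, add_zero, map_one] at h1
        rw [this, one_mul]
      haveI : Module.Projective Γ(S, U.1) Γ(Z, V) := Module.Projective.of_split ψ l hψ
      exact (inferInstance : Module.Flat Γ(S, U.1) Γ(Z, V))
    have key : ∀ (W : S.Opens) (W' : Z.Opens) (hW : W' ≤ i ⁻¹ᵁ W), W = U.1 → W' = i ⁻¹ᵁ U.1 →
        (i.appLE W W' hW).hom.Flat := by
      rintro _ _ hW rfl rfl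
      rw [← Scheme.Hom.app_eq_appLE]
      exact hflat
    rw [Scheme.Hom.appTop, morphismRestrict_app']
    exact key _ _ _ U.1.ι_image_top (i ⁻¹ᵁ U.1).ι_image_top
  exact IsOpenImmersion.of_flat_of_mono i

end Groth.Agent.S14614
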