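import Groth.Statements.S14615
import Groth.Agent.Lib.AdicLim.Tower
-- import your own Groth.Agent.* helpers here

set_option autoImplicit false
universe u
open Formal2

namespace Groth.Agent.S14615

/-- Let … → G_2 → G_1 → G_0 be an inverse system of abelian groups with transition maps t_n : G_{n+1} →
G_n, and suppose that for every i there is j ≥ i such that the composite transition map G_j → G_i is
zero; this is expressed by asking that every sequence (x_n) ∈ ∏ G_n satisfying x_n = t_n(x_{n+1})
for i ≤ n < j has x_i = 0. Then both lim G_n and lim¹ G_n vanish: the map (x_n) ↦ (x_n −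
t_n(x_{n+1})) on ∏ G_n, whose kernel is lim and whose cokernel is lim¹, is injective and surjective. -/
theorem result (G : ℕ → Type u)
    [∀ n, AddCommGroup (G n)] (t : ∀ n, G (n + 1) →+ G n)
    (h : ∀ i : ℕ, ∃ j : ℕ, i ≤ j ∧
      ∀ x : ∀ n, G n, (∀ n, i ≤ n → n < j → x n = t n (x (n + 1))) → x i = 0) :
    Formal2.limZero G t = ⊥ ∧ Function.Surjective (Formal2.towerDiff G t) := by
  have hbot : ∀ i, ∃ a, GrothLib.AdicLim.towerImage t a i ≤ ⊥ := by
    intro i
    obtain ⟨j, hij, hj⟩ := h i
    refine ⟨j - i, fun v hv => ?_⟩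
    obtain ⟨x, hx, hrec⟩ := GrothLib.AdicLim.exists_seq_of_mem_towerImage t _ _ v hv
    rw [AddSubgroup.mem_bot, ← hx]
    exact hj x fun n h1 h2 => hrec n h1 (by omega)
  refine ⟨?_, GrothLib.AdicLim.towerDiff_surjective t (fun _ => ⊥) hbot fun _ => bot_le⟩
  refine le_bot_iff.1 fun x hx => AddSubgroup.mem_bot.2 (funext fun i => ?_)
  obtain ⟨a, ha⟩ := hbot i
  exact AddSubgroup.mem_bot.1 (ha (GrothLib.AdicLim.mem_towerImage_of_seq t x
    (fun n => sub_eq_zero.1 (congrFun hx n)) a i))

end Groth.Agent.S14615
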