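import Groth.Statements.S14616
import Groth.Agent.Lib.AdicLim.Tower
-- import your own Groth.Agent.* helpers here

set_option autoImplicit false
universe u
open Formal2

namespace Groth.Agent.S14616

open CategoryTheory in
/-- Let … → G_2 → G_1 → G_0 be an inverse system of abelian groups with transition maps t_n : G_{n+1} →
G_n which satisfies the Mittag-Leffler condition: for every i there is j ≥ i such that for all k ≥ j
the images of G_k → G_i and G_j → G_i coincide. Then lim¹ G_n = 0, i.e. the map (x_n) ↦ (x_n −
t_n(x_{n+1})) on ∏ G_n is surjective. -/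
theorem result (G : ℕ → Type u) [∀ n, AddCommGroup (G n)]
    (t : ∀ n, G (n + 1) →+ G n)
    (h : (Functor.ofOpSequence (X := fun n => AddCommGrpCat.of (G n))
      (fun n => AddCommGrpCat.ofHom (t n)) ⋙ forget AddCommGrpCat).IsMittagLeffler) :
    Function.Surjective (Formal2.towerDiff G t) := by
  let T : ℕᵒᵖ ⥤ AddCommGrpCat.{u} := CategoryTheory.Functor.ofOpSequence
    (X := fun n => AddCommGrpCat.of (G n)) (fun n => AddCommGrpCat.ofHom (t n))
  let F := T ⋙ CategoryTheory.forget AddCommGrpCat.{u}
  have key : ∀ (a n k : ℕ) (hk : k = n + a) (f : Opposite.op k ⟶ Opposite.op n),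
      Set.range (F.map f) = (GrothLib.AdicLim.towerImage t a n : Set (G n)) := by
    intro a
    induction a with
    | zero =>
      intro n k hk f
      obtain rfl : k = n := hk
      obtain rfl : f = 𝟙 _ := Subsingleton.elim _ _
      rw [F.map_id]
      exact Set.range_eq_univ.2 fun x => ⟨x, rfl⟩
    | succ a ih =>
      intro n k hk f
      have h1 : n + 1 ≤ k := by omega
      have hf : f = (CategoryTheory.homOfLE h1).op ≫ (CategoryTheory.homOfLE (Nat.le_succ n)).op :=
        Subsingleton.elim _ _
      have h2 : T.map (CategoryTheory.homOfLE (Nat.le_succ n)).op = AddCommGrpCat.ofHom (t n) := by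
        simp [T]
      have e : ∀ z, F.map f z = t n (F.map (CategoryTheory.homOfLE h1).op z) := fun z => by
        rw [hf]
        show (T.map (_ ≫ _)) z = t n ((T.map (CategoryTheory.homOfLE h1).op) z)
        rw [T.map_comp, h2]
        rfl
      ext v
      constructor
      · rintro ⟨z, rfl⟩
        exact ⟨_, (ih (n + 1) k (by omega) (CategoryTheory.homOfLE h1).op).le ⟨z, rfl⟩, (e z).symm⟩
      · rintro ⟨w, hw, rfl⟩
        obtain ⟨z, rfl⟩ := (ih (n + 1) k (by omega) (CategoryTheory.homOfLE h1).op).ge hw
        exact ⟨z, e z⟩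
  have hst : ∀ n, ∃ a, ∀ b, GrothLib.AdicLim.towerImage t a n ≤ GrothLib.AdicLim.towerImage t b n := by
    intro n
    obtain ⟨i, f, hf⟩ := h (Opposite.op n)
    have hni : n ≤ i.unop := CategoryTheory.leOfHom f.unop
    refine ⟨i.unop - n, fun b v hv => ?_⟩
    have := hf (k := Opposite.op (n + b)) (CategoryTheory.homOfLE (Nat.le_add_right n b)).op
    erw [key (i.unop - n) n i.unop (by omega) f, key b n (n + b) rfl _] at this
    exact this hv
  choose a ha using hst
  refine GrothLib.AdicLim.towerDiff_surjective t (fun n => GrothLib.AdicLim.towerImage t (a n) n)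
    (fun n => ⟨a n, le_rfl⟩) fun n => ?_
  exact ha n (a (n + 1) + 1)

end Groth.Agent.S14616
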