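import Groth.Statements.S14617
-- import your own Groth.Agent.* helpers here

set_option autoImplicit false
universe u
open Formal2

namespace Groth.Agent.S14617

/-- Let 0 → (G'_n) → (G_n) → (G''_n) → 0 be a short exact sequence of inverse systems of abelian groups
indexed by ℕ: maps u_n : G'_n → G_n and v_n : G_n → G''_n commuting with the transition maps, with
u_n injective, v_n surjective and ker v_n = im u_n for every n. Writing lim and lim¹ for the kernel
and cokernel of (x_n) ↦ (x_n − t_n(x_{n+1})) on the product, there is an exact sequence 0 → lim G' →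
lim G → lim G'' → lim¹ G' → lim¹ G → lim¹ G'' → 0 in which the four outer maps are the ones induced
by u and v on products and the connecting map δ sends a compatible sequence (z_n) to the class of
the unique (w_n) with u_n(w_n) = y_n − t_n(y_{n+1}), for any levelwise lift (y_n) of (z_n). -/
theorem result (G' G G'' : ℕ → Type u)
    [∀ n, AddCommGroup (G' n)] [∀ n, AddCommGroup (G n)] [∀ n, AddCommGroup (G'' n)]
    (t' : ∀ n, G' (n + 1) →+ G' n) (t : ∀ n, G (n + 1) →+ G n) (t'' : ∀ n, G'' (n + 1) →+ G'' n)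
    (u : ∀ n, G' n →+ G n) (v : ∀ n, G n →+ G'' n)
    (hu : ∀ n x, t n (u (n + 1) x) = u n (t' n x)) (hv : ∀ n x, t'' n (v (n + 1) x) = v n (t n x))
    (hinj : ∀ n, Function.Injective (u n)) (hsurj : ∀ n, Function.Surjective (v n))
    (hex : ∀ n, (v n).ker = (u n).range) :
    ∃ (α : Formal2.limZero G' t' →+ Formal2.limZero G t) (β : Formal2.limZero G t →+ Formal2.limZero G'' t'')
      (δ : Formal2.limZero G'' t'' →+ Formal2.limOne G' t')
      (ε : Formal2.limOne G' t' →+ Formal2.limOne G t) (ζ : Formal2.limOne G t →+ Formal2.limOne G'' t''),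
      (∀ (x : Formal2.limZero G' t') (n : ℕ), (α x : ∀ n, G n) n = u n ((x : ∀ n, G' n) n)) ∧
      (∀ (x : Formal2.limZero G t) (n : ℕ), (β x : ∀ n, G'' n) n = v n ((x : ∀ n, G n) n)) ∧
      (∀ (z : Formal2.limZero G'' t'') (y : ∀ n, G n) (w : ∀ n, G' n),
          (∀ n, v n (y n) = (z : ∀ n, G'' n) n) → (∀ n, u n (w n) = Formal2.towerDiff G t y n) →
            δ z = (QuotientAddGroup.mk w : Formal2.limOne G' t')) ∧
      (∀ y : ∀ n, G' n, ε (QuotientAddGroup.mk y : Formal2.limOne G' t') =
          (QuotientAddGroup.mk (fun n => u n (y n)) : Formal2.limOne G t)) ∧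
      (∀ y : ∀ n, G n, ζ (QuotientAddGroup.mk y : Formal2.limOne G t) =
          (QuotientAddGroup.mk (fun n => v n (y n)) : Formal2.limOne G'' t'')) ∧
      Function.Injective α ∧ α.range = β.ker ∧ β.range = δ.ker ∧ δ.range = ε.ker ∧ ε.range = ζ.ker ∧
      Function.Surjective ζ := by
  let al : Formal2.limZero G' t' →+ Formal2.limZero G t :=
    { toFun := fun x => ⟨fun n => u n (x.1 n), funext fun n => by
        show u n (x.1 n) - t n (u (n + 1) (x.1 (n + 1))) = 0
        have h0 : x.1 n - t' n (x.1 (n + 1)) = 0 := congrFun x.2 n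
        rw [hu, ← map_sub, h0, map_zero]⟩
      map_zero' := Subtype.ext (funext fun n => map_zero (u n))
      map_add' := fun x y => Subtype.ext (funext fun n => map_add (u n) _ _) }
  let be : Formal2.limZero G t →+ Formal2.limZero G'' t'' :=
    { toFun := fun x => ⟨fun n => v n (x.1 n), funext fun n => by
        show v n (x.1 n) - t'' n (v (n + 1) (x.1 (n + 1))) = 0
        have h0 : x.1 n - t n (x.1 (n + 1)) = 0 := congrFun x.2 n
        rw [hv, ← map_sub, h0, map_zero]⟩
      map_zero' := Subtype.ext (funext fun n => map_zero (v n))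
      map_add' := fun x y => Subtype.ext (funext fun n => map_add (v n) _ _) }
  let U : (∀ n, G' n) →+ (∀ n, G n) :=
    AddMonoidHom.pi fun n => (u n).comp (Pi.evalAddMonoidHom _ n)
  let V : (∀ n, G n) →+ (∀ n, G'' n) :=
    AddMonoidHom.pi fun n => (v n).comp (Pi.evalAddMonoidHom _ n)
  have hU : ∀ x, Formal2.towerDiff G t (U x) = U (Formal2.towerDiff G' t' x) := fun x =>
    funext fun n => by
      show u n (x n) - t n (u (n + 1) (x (n + 1))) = u n (x n - t' n (x (n + 1)))
      rw [hu, map_sub]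
  have hV : ∀ x, Formal2.towerDiff G'' t'' (V x) = V (Formal2.towerDiff G t x) := fun x =>
    funext fun n => by
      show v n (x n) - t'' n (v (n + 1) (x (n + 1))) = v n (x n - t n (x (n + 1)))
      rw [hv, map_sub]
  have hVU : ∀ x, V (U x) = 0 := fun x => funext fun n =>
    (hex n).ge ⟨x n, rfl⟩
  have hUi : Function.Injective U := fun x y h => funext fun n => hinj n (congrFun h n)
  have hker : ∀ y, V y = 0 → ∃ w, U w = y := fun y hy => by
    choose w hw using fun n => (hex n).le (show y n ∈ (v n).ker from congrFun hy n)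
    exact ⟨w, funext hw⟩
  have hVs : Function.Surjective V := fun z => by
    choose y hy using fun n => hsurj n (z n)
    exact ⟨y, funext hy⟩
  have hsec : ∀ z : Formal2.limZero G'' t'', ∃ y w, V y = z.1 ∧ U w = Formal2.towerDiff G t y := by
    intro z
    obtain ⟨y, hy⟩ := hVs z.1
    obtain ⟨w, hw⟩ := hker (Formal2.towerDiff G t y) (by rw [← hV, hy]; exact z.2)
    exact ⟨y, w, hy, hw⟩
  choose Y W hY hW using hsec
  have hwd : ∀ (z : Formal2.limZero G'' t'') y w, V y = z.1 → U w = Formal2.towerDiff G t y →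
      (QuotientAddGroup.mk (W z) : Formal2.limOne G' t') = QuotientAddGroup.mk w := by
    intro z y w hy hw
    obtain ⟨d, hd⟩ := hker (y - Y z) (by rw [map_sub, hy, hY, sub_self])
    rw [QuotientAddGroup.eq]
    refine ⟨d, hUi ?_⟩
    rw [← hU, hd, map_sub, map_add, map_neg, hw, hW]
    abel
  let de : Formal2.limZero G'' t'' →+ Formal2.limOne G' t' :=
    AddMonoidHom.mk' (fun z => QuotientAddGroup.mk (W z)) fun z z' => by
      rw [← QuotientAddGroup.mk_add]
      exact hwd (z + z') (Y z + Y z') (W z + W z') (by rw [map_add, hY, hY]; rfl)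
        (by rw [map_add, map_add, hW, hW])
  let ep : Formal2.limOne G' t' →+ Formal2.limOne G t := QuotientAddGroup.map _ _ U
    (by rintro _ ⟨x, rfl⟩; exact ⟨U x, hU x⟩)
  let ze : Formal2.limOne G t →+ Formal2.limOne G'' t'' := QuotientAddGroup.map _ _ V
    (by rintro _ ⟨x, rfl⟩; exact ⟨V x, hV x⟩)
  refine ⟨al, be, de, ep, ze, fun _ _ => rfl, fun _ _ => rfl,
    fun z y w hy hw => hwd z y w (funext hy) (funext hw), fun _ => rfl, fun _ => rfl,
    fun x y h => Subtype.ext (hUi (congrArg Subtype.val h)), ?_, ?_, ?_, ?_, ?_⟩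
  · ext x
    constructor
    · rintro ⟨a, rfl⟩
      exact Subtype.ext (hVU a.1)
    · intro hx
      obtain ⟨w, hw⟩ := hker x.1 (congrArg Subtype.val hx)
      refine ⟨⟨w, hUi ?_⟩, Subtype.ext hw⟩
      rw [map_zero, ← hU, hw]
      exact x.2
  · ext z
    constructor
    · rintro ⟨x, rfl⟩
      exact (hwd (be x) x.1 0 rfl (by rw [map_zero]; exact x.2.symm)).trans (QuotientAddGroup.mk_zero _)
    · intro hz
      obtain ⟨d, hd⟩ := (QuotientAddGroup.eq_zero_iff _).1 hz
      refine ⟨⟨Y z - U d, ?_⟩, Subtype.ext ?_⟩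
      · show Formal2.towerDiff G t (Y z - U d) = 0
        rw [map_sub, hU, hd, hW, sub_self]
      · show V (Y z - U d) = z.1
        rw [map_sub, hVU, sub_zero, hY]
  · ext x
    obtain ⟨w, rfl⟩ := QuotientAddGroup.mk_surjective x
    constructor
    · rintro ⟨z, hz⟩
      show ep _ = 0
      rw [← hz]
      exact (QuotientAddGroup.eq_zero_iff _).2 ⟨Y z, (hW z).symm⟩
    · intro hx
      obtain ⟨y, hy⟩ := (QuotientAddGroup.eq_zero_iff (U w)).1 hx
      refine ⟨⟨V y, ?_⟩, hwd _ y w rfl hy.symm⟩
      show Formal2.towerDiff G'' t'' (V y) = 0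
      rw [hV, hy, hVU]
  · ext x
    obtain ⟨y, rfl⟩ := QuotientAddGroup.mk_surjective x
    constructor
    · rintro ⟨q, hq⟩
      obtain ⟨w, rfl⟩ := QuotientAddGroup.mk_surjective q
      show ze _ = 0
      rw [← hq]
      exact (congrArg QuotientAddGroup.mk (hVU w)).trans (QuotientAddGroup.mk_zero _)
    · intro hx
      obtain ⟨z, hz⟩ := (QuotientAddGroup.eq_zero_iff (V y)).1 hx
      obtain ⟨x₀, rfl⟩ := hVs z
      obtain ⟨w, hw⟩ := hker (y - Formal2.towerDiff G t x₀) (by rw [map_sub, ← hV, hz, sub_self])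
      refine ⟨QuotientAddGroup.mk w, ?_⟩
      show (QuotientAddGroup.mk (U w) : Formal2.limOne G t) = QuotientAddGroup.mk y
      rw [hw, QuotientAddGroup.eq]
      exact ⟨x₀, by abel⟩
  · intro x
    obtain ⟨z, rfl⟩ := QuotientAddGroup.mk_surjective x
    obtain ⟨y, rfl⟩ := hVs z
    exact ⟨QuotientAddGroup.mk y, rfl⟩

end Groth.Agent.S14617
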