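import Groth.Statements.S14618
import Groth.Agent.Lib.LocSplitMono29.Main

set_option autoImplicit false
universe u
open FlatMor

namespace Groth.Agent.S14618

open CategoryTheory CategoryTheory.Limits AlgebraicGeometry in
/-- Let f : X → S be a morphism of schemes and u : F → V a morphism of O_X-modules with F quasi-coherent
of finite type and V finite locally free. The following are equivalent: (a) u is a locally split
monomorphism, i.e. every point of X has an open neighbourhood U such that the restriction of u to U
has a left inverse; (b) for every point s of S the pullback of u to the fibre X_s = X ×_S Spec κ(s)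
is a locally split monomorphism on X_s; (c) for every point s of S the pullback of u to the
geometric fibre X ×_S Spec k̄, k̄ an algebraic closure of κ(s), is a locally split monomorphism.
Restrictions to opens and to fibres are written as module pullbacks along the corresponding
immersions/projections. (In the published statement X and S are schemes in a terminology where
schemes are separated preschemes; the proof is local on X and on S, so this row assumes no
separatedness.) -/
theorem result {X S : Scheme.{u}} (f : X ⟶ S) {F V : X.Modules} (u : F ⟶ V)
    (hF : Coh.IsQCoh F) (hFt : CohB1.IsFT F) (hV : FlatMod.IsFinLocFree V) :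
    [ ∀ x : X, ∃ U : X.Opens, x ∈ U ∧
        ∃ r : (Scheme.Modules.pullback U.ι).obj V ⟶ (Scheme.Modules.pullback U.ι).obj F,
          (Scheme.Modules.pullback U.ι).map u ≫ r = 𝟙 _,
      ∀ (s : S) (x : f.fiber s), ∃ U : (f.fiber s).Opens, x ∈ U ∧
        ∃ r : (Scheme.Modules.pullback U.ι).obj ((Scheme.Modules.pullback (f.fiberι s)).obj V) ⟶
            (Scheme.Modules.pullback U.ι).obj ((Scheme.Modules.pullback (f.fiberι s)).obj F),
          (Scheme.Modules.pullback U.ι).map ((Scheme.Modules.pullback (f.fiberι s)).map u) ≫ r = 𝟙 _,
      ∀ (s : S) (x : ↑(pullback f (Spec.map (CommRingCat.ofHom (algebraMap (S.residueField s)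
            (AlgebraicClosure (S.residueField s)))) ≫ S.fromSpecResidueField s))),
        ∃ U : Scheme.Opens _, x ∈ U ∧
        ∃ r : (Scheme.Modules.pullback U.ι).obj ((Scheme.Modules.pullback (pullback.fst f
              (Spec.map (CommRingCat.ofHom (algebraMap (S.residueField s) (AlgebraicClosure (S.residueField s)))) ≫
                S.fromSpecResidueField s))).obj V) ⟶
            (Scheme.Modules.pullback U.ι).obj ((Scheme.Modules.pullback (pullback.fst f
              (Spec.map (CommRingCat.ofHom (algebraMap (S.residueField s) (AlgebraicClosure (S.residueField s)))) ≫
                S.fromSpecResidueField s))).obj F),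
          (Scheme.Modules.pullback U.ι).map ((Scheme.Modules.pullback (pullback.fst f
              (Spec.map (CommRingCat.ofHom (algebraMap (S.residueField s) (AlgebraicClosure (S.residueField s)))) ≫
                S.fromSpecResidueField s))).map u) ≫ r = 𝟙 _ ].TFAE := by
  exact GrothLib.LocSplitMono29.tfae f u hF hFt hV

end Groth.Agent.S14618
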