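import Groth.Statements.S14619
import Groth.Agent.Lib.BCCoh.Amplitude
import Groth.Agent.Lib.BCCoh.BaseModel

set_option autoImplicit false
universe u
open Coherent

namespace Groth.Agent.S14619

open CategoryTheory CategoryTheory.Limits AlgebraicGeometry in
/-- Let A be a Noetherian ring, X a proper scheme over Spec A and F a coherent O_X-module flat over Spec
A. Suppose H^p(X, F) = 0 for all p > d and H^p(X_y, F|X_y) = 0 for every point y of Spec A and every
p < d'. Then there is a cochain complex L of finitely generated projective A-modules, with L^i = 0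
unless d' ≤ i ≤ d and with L = 0 when all H^p(X, F) vanish, such that for every A-algebra B and
every p the cohomology H^p(X ×_A Spec B, ξ^*F) of the pulled-back module is isomorphic to H^p(L ⊗_A
B). Only the existence of these isomorphisms of abelian groups is asserted (no naturality in B). -/
theorem result (A : Type u) [CommRing A] [IsNoetherianRing A] (X : Scheme.{u}) [X.Over (Spec (CommRingCat.of A))]
    [IsProper (X ↘ Spec (CommRingCat.of A))] (F : X.Modules) (hF : Coh.IsCoh F)
    (hfl : FlatMod.IsFlatOver (X ↘ Spec (CommRingCat.of A)) F) (d' d : ℕ)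
    (hd : ∀ p : ℕ, d < p → Subsingleton (Coh.HH X F p))
    (hd' : ∀ (y : ↑(Spec (CommRingCat.of A))) (p : ℕ), p < d' →
      Subsingleton (CohIII.fiberH (X ↘ Spec (CommRingCat.of A)) F y p)) :
    ∃ L : CochainComplex (ModuleCat.{u} A) ℤ,
      (∀ i, Module.Finite A (L.X i) ∧ Module.Projective A (L.X i)) ∧
      (∀ i : ℤ, i < (d' : ℤ) ∨ (d : ℤ) < i → IsZero (L.X i)) ∧
      ((∀ p : ℕ, Subsingleton (Coh.HH X F p)) → ∀ i, IsZero (L.X i)) ∧
      ∀ (B : Type u) [CommRing B] [Algebra A B] (p : ℕ),
        Nonempty (Coh.HH (pullback (X ↘ Spec (CommRingCat.of A)) (Spec.map (CommRingCat.ofHom (algebraMap A B))))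
            ((Scheme.Modules.pullback (pullback.fst (X ↘ Spec (CommRingCat.of A))
              (Spec.map (CommRingCat.ofHom (algebraMap A B))))).obj F) p ≃+
          CohIII.T L (p : ℤ) (ModuleCat.of A B)) := by
  classical
  let f := X ↘ Spec (CommRingCat.of A)
  haveI := hF.1
  obtain ⟨m⟩ := GrothLib.BCCoh.nonempty_model f F hF hfl
  haveI := m.flatL
  haveI := fun i => (m.finFree i).1
  have hlow : ∀ i : ℤ, i < (d' : ℤ) → ∀ M, IsZero ((CohIII.TFun m.L i).obj M) := fun i hi M => by
    by_cases h0 : i < 0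
    · exact m.isZero_T_neg h0 M
    · obtain ⟨p, rfl⟩ := Int.eq_ofNat_of_zero_le (not_lt.1 h0)
      refine GrothLib.BCCoh.isZero_T_of_dRank_zero m.L _ (fun x _ => ?_) M
      rw [← m.fiberRank_eq hF.1 p x]
      exact GrothLib.BCCoh.fiberRank_eq_zero_of_subsingleton f F p x (hd' x p (by exact_mod_cast hi))
  obtain ⟨eC⟩ : Nonempty (∀ p : ℕ, m.L.homology (p : ℤ) ≃ Coh.HH X F p) := ⟨fun p => by
    haveI := m.qis
    let ec := (GrothLib.BCCoh.exists_linearEquiv f m.U m.cover m.aff p).choose
    exact (asIso (HomologicalComplex.homologyMap m.u (p : ℤ))).toLinearEquiv.toEquiv.trans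
      (((GrothLib.BCCoh.cx f m.U F).extendHomologyIso ComplexShape.embeddingUpNat
        (show ComplexShape.embeddingUpNat.f p = (p : ℤ) from rfl)).toLinearEquiv.toEquiv.trans (ec F hF.1).toEquiv.symm)⟩
  have hH : ∀ i : ℤ, (d : ℤ) < i → IsZero (m.L.homology i) := fun i hi => by
    obtain ⟨p, rfl⟩ := Int.eq_ofNat_of_zero_le (show (0 : ℤ) ≤ i by omega)
    haveI := hd p (by exact_mod_cast hi)
    haveI := (eC p).subsingleton
    exact ModuleCat.isZero_of_subsingleton _
  have hbc : ∀ (B : Type u) [CommRing B] [Algebra A B] (p : ℕ),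
      Nonempty (Coh.HH (pullback f (Spec.map (CommRingCat.ofHom (algebraMap A B))))
          ((Scheme.Modules.pullback (pullback.fst f (Spec.map (CommRingCat.ofHom (algebraMap A B))))).obj F) p ≃+
        CohIII.T m.L (p : ℤ) (ModuleCat.of A B)) := by
    intro B _ inst p
    let φ := algebraMap A B
    obtain ⟨e, -⟩ := m.exists_bcEquiv φ (pullback.snd f (Spec.map (CommRingCat.ofHom φ)))
      (pullback.fst f (Spec.map (CommRingCat.ofHom φ))) (IsPullback.of_hasPullback _ _) hF.1 p
    let j := GrothLib.BCCoh.bcTensorH φ m.L (p : ℤ)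
    have hAlg : φ.toAlgebra = inst := Algebra.algebra_ext _ _ fun _ => rfl
    rw [hAlg] at j
    exact ⟨e.symm.trans j⟩
  by_cases hz : (∀ p : ℕ, Subsingleton (Coh.HH X F p)) ∨ d < d'
  · let L' : CochainComplex (ModuleCat.{u} A) ℤ := HomologicalComplex.zero
    have hX : ∀ i, IsZero (L'.X i) := fun i => isZero_zero _
    refine ⟨L', fun i => ?_, fun i _ => hX i, fun _ i => hX i, fun B _ _ p => ?_⟩
    · haveI := ModuleCat.subsingleton_of_isZero (hX i)
      exact ⟨inferInstance, inferInstance⟩
    · have h0 : IsZero ((CohIII.TFun m.L (p : ℤ)).obj (ModuleCat.of A B)) := by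
        rcases hz with hz | hz
        · refine GrothLib.BCCoh.isZero_T_of_high m.L m.bound (-1) m.zero (fun i hi => ?_) _ (by omega) _
          obtain ⟨q, rfl⟩ := Int.eq_ofNat_of_zero_le (show (0 : ℤ) ≤ i by omega)
          haveI := hz q
          haveI := (eC q).subsingleton
          exact ModuleCat.isZero_of_subsingleton _
        · by_cases hp : (p : ℤ) < (d' : ℤ)
          · exact hlow _ hp _
          · exact GrothLib.BCCoh.isZero_T_of_high m.L m.bound d m.zero hH _ (by omega) _
      obtain ⟨e⟩ := hbc B p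
      haveI : Subsingleton (CohIII.T m.L (p : ℤ) (ModuleCat.of A B)) := ModuleCat.subsingleton_of_isZero h0
      haveI : Subsingleton (CohIII.T L' (p : ℤ) (ModuleCat.of A B)) := ModuleCat.subsingleton_of_isZero
        (GrothLib.BCCoh.isZero_T_of_isZero_X L' _ _ (hX _))
      exact ⟨e.trans { toFun := fun _ => 0, invFun := fun _ => 0, left_inv := fun _ => Subsingleton.elim _ _,
                       right_inv := fun _ => Subsingleton.elim _ _, map_add' := fun _ _ => (add_zero 0).symm }⟩
  · obtain ⟨L', h1, h2, h3⟩ := GrothLib.BCCoh.exists_amplitude m.L m.finFree m.bound (d' : ℤ) (d : ℤ)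
      (by exact_mod_cast not_lt.1 (fun h => hz (Or.inr h))) m.zero hlow hH
    refine ⟨L', h1, h2, fun h => absurd (Or.inl h) hz, fun B _ _ p => ?_⟩
    obtain ⟨e⟩ := hbc B p
    obtain ⟨e3⟩ := h3 (ModuleCat.of A B) (p : ℤ)
    exact ⟨e.trans e3⟩

end Groth.Agent.S14619
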