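import Groth.Statements.S14622
import Groth.Agent.Lib.EtSite.GermUnit
import Groth.Agent.Lib.EtSite.Points
-- import your own Groth.Agent.* helpers here

set_option autoImplicit false
open CategoryTheory AlgebraicGeometry
universe u
open EtBase

namespace Groth.Agent.S14622

/-- Let g : Y' → Y be a morphism of schemes which is surjective on points. Then for every abelian sheaf
F on the small étale site of Y the unit F → g_* g⁻¹ F of the adjunction between inverse image and
direct image is a monomorphism. -/
theorem result {Y Y' : Scheme.{u}} (g : Y' ⟶ Y) [Surjective g]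
    (F : EtCoh.Ab Y) : Mono ((EtCoh.pullPushAdj g).unit.app F) := by
  have : Sheaf.IsLocallyInjective ((EtCoh.pullPushAdj g).unit.app F) := by
    rw [Sheaf.isLocallyInjective_iff_injective]
    intro U
    refine (injective_iff_map_eq_zero _).2 fun s hs => ?_
    let R : Sieve U.unop :=
      { arrows := fun V a => F.obj.map a.op s = 0
        downward_closed := by
          intro V W a ha k
          rw [op_comp, Functor.map_comp, ConcreteCategory.comp_apply, ha, map_zero] }
    have hR : R ∈ Y.smallEtaleTopology U.unop := by
      rw [GrothLib.EtSite.mem_topology_iff]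
      intro u
      obtain ⟨y', hy'⟩ := g.surjective (U.unop.hom.base u)
      let ξ := GrothLib.EtSite.gpt y'
      have hξ : U.unop.hom.base u = (ξ ≫ g).base default := by
        rw [Scheme.Hom.comp_apply, GrothLib.EtSite.gpt_default]
        exact hy'.symm
      obtain ⟨t, ht⟩ := GrothLib.EtSite.exists_fib (ξ ≫ g) u hξ
      have h0 : GrothLib.EtSite.germ (ξ ≫ g) F t s = 0 :=
        (GrothLib.EtSite.germ_eq_of_unit_app_eq ξ g F U.unop s 0
          (hs.trans (map_zero _).symm) t).trans (map_zero _)
      obtain ⟨V, a, v, hv, ha⟩ := GrothLib.EtSite.eq_zero_nhd _ F t s h0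
      exact ⟨V, a, v, ha, hv.trans ht⟩
    have hsep := ((isSheaf_iff_isSheaf_of_type _ _).1
      (Presheaf.isSheaf_comp_of_isSheaf Y.smallEtaleTopology F.obj
        (forget AddCommGrpCat.{u + 1}) F.property) R hR).isSeparatedFor
    refine hsep.ext ?_
    intro V a (ha : F.obj.map a.op s = 0)
    change F.obj.map a.op s = F.obj.map a.op 0
    rw [ha, map_zero]
  exact Sheaf.mono_of_isLocallyInjective _

end Groth.Agent.S14622
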