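import Groth.Statements.S14624
import Groth.Agent.Lib.Smoothing.Approx.Functor

set_option autoImplicit false
open CategoryTheory CategoryTheory.Limits
universe u
open Hensel

namespace Groth.Agent.S14624

/-- Let A be a commutative ring, m a proper ideal of A and Â the m-adic completion. Assume the
approximation property for polynomial systems: whenever finitely many polynomials over A in finitely
many variables have a common zero â in Â, then for every c there is a common zero a in A which
agrees with â in A/m^c. Let F be a functor from A-algebras (commutative rings under A) to sets which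
preserves filtered colimits, c a natural number and ξ ∈ F(Â). Then there is η ∈ F(A) whose image in
F(A/m^c) equals the image of ξ; here π is the A-algebra map Â → A/m^c (pinned by its underlying ring
map) and ρ the A-algebra map A → A/m^c. (The published statement takes for A the henselization at a
prime ideal of an algebra of finite type over a field or over an excellent discrete valuation ring,
for which the approximation property of polynomial systems is quoted; this row carries that property
as a hypothesis and draws the published conclusion for functors.) -/
theorem result (A : Type u) [CommRing A]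
    (m : Ideal A) (hm : m ≠ ⊤)
    (hAP : ∀ (k l c : ℕ) (f : Fin l → MvPolynomial (Fin k) A) (â : Fin k → AdicCompletion m A),
      (∀ i, MvPolynomial.aeval â (f i) = 0) →
      ∃ a : Fin k → A, (∀ i, MvPolynomial.eval a (f i) = 0) ∧
        ∀ j, Ideal.Quotient.mk (m ^ c) (a j) = AdicCompletion.evalₐ m c (â j))
    (F : Under (CommRingCat.of A) ⥤ Type u)
    (hF : ∀ (J : Type u) [SmallCategory J] [IsFiltered J], PreservesColimitsOfShape J F)
    (c : ℕ)
    (π : Under.mk (CommRingCat.ofHom (algebraMap A (AdicCompletion m A))) ⟶
      Under.mk (CommRingCat.ofHom (algebraMap A (A ⧸ m ^ c))))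
    (hπ : π.right = CommRingCat.ofHom
      (AdicCompletion.evalₐ m c : AdicCompletion m A →ₐ[A] A ⧸ m ^ c).toRingHom)
    (ρ : Under.mk (𝟙 (CommRingCat.of A)) ⟶ Under.mk (CommRingCat.ofHom (algebraMap A (A ⧸ m ^ c))))
    (ξ : F.obj (Under.mk (CommRingCat.ofHom (algebraMap A (AdicCompletion m A))))) :
    ∃ η : F.obj (Under.mk (𝟙 (CommRingCat.of A))), F.map ρ η = F.map π ξ := by
  exact Smoothing.Approx.exists_map_eq (AdicCompletion.evalₐ m c)
    (fun C _ _ hC φ => Smoothing.Approx.exists_algHom_of_polynomial c (fun k l f â h => hAP k l c f â h) C hC φ)
    F hF π hπ ρ ξ

end Groth.Agent.S14624
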