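import Groth.Statements.S14626
import Groth.Agent.Lib.CechPush18.Basic
import Mathlib.CategoryTheory.Limits.Preserves.Shapes.Over
import Groth.Agent.Lib.EtSite.Points
-- import your own Groth.Agent.* helpers here

set_option autoImplicit false
open CategoryTheory CategoryTheory.Limits AlgebraicGeometry
universe u
open EtBase

namespace Groth.Agent.S14626

/-- For the direct image along a morphism of schemes on small étale sites; take a morphism of schemes f
: X → Y and an abelian étale sheaf F on X which is flasque in the Čech sense, i.e. for every étale U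
over X and every jointly surjective family of étale U-schemes the Čech cohomology groups of F in
positive degrees vanish. Then the direct image f_*F is flasque in the same sense on Y. The finite
products of the over categories (the fibre products entering the Čech complexes) are carried as
instance hypotheses. -/
theorem result {X Y : Scheme.{u}} (f : X ⟶ Y)
    [∀ U : X.Etale, HasFiniteProducts (Over U)] [∀ V : Y.Etale, HasFiniteProducts (Over V)]
    (F : EtCoh.Ab X)
    (hF : ∀ (U : X.Etale) (ι : Type (u + 1)) (Uf : ι → Over U),
      (∀ x : ↥(U.left), ∃ (i : ι) (y : ↥((Uf i).left.left)), (Uf i).hom.left.base y = x) →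
      ∀ p : ℕ, 0 < p → IsZero (EtCech.cechH Uf F.obj p))
    (V : Y.Etale) (ι : Type (u + 1)) (Vf : ι → Over V)
    (hV : ∀ x : ↥(V.left), ∃ (i : ι) (y : ↥((Vf i).left.left)), (Vf i).hom.left.base y = x)
    (p : ℕ) (hp : 0 < p) :
    IsZero (EtCech.cechH Vf ((EtCoh.push f).obj F).obj p) := by
  haveI : PreservesFiniteLimits (Over.post (EtCoh.bc f) (X := V)) := inferInstance
  let e := GrothLib.CechPush18.iso (EtCoh.bc f) (U := V) Vf F.obj
  refine IsZero.of_iso (hF ((EtCoh.bc f).obj V) ι (fun i => (Over.post (EtCoh.bc f)).obj (Vf i)) (fun x => ?_) p hp)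
    ((HomologicalComplex.homologyFunctor _ _ p).mapIso e.symm)
  obtain ⟨i, y, hy⟩ := hV ((pullback.fst V.hom f) x)
  obtain ⟨z, hz, -⟩ := Scheme.exists_preimage_of_isPullback (EtCoh.isPullback_bc_map f (Vf i).hom) x y hy.symm
  exact ⟨i, z, hz⟩

end Groth.Agent.S14626
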