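import Groth.Statements.S14627
import Groth.Agent.Lib.EtSite.Points
import Mathlib.AlgebraicGeometry.Morphisms.UniversallyOpen
-- import your own Groth.Agent.* helpers here

set_option autoImplicit false
open CategoryTheory AlgebraicGeometry
universe u
open EtBase

namespace Groth.Agent.S14627

/-- Let S be a quasi-compact scheme and U an étale S-scheme quasi-compact over S. Then every jointly
surjective family of étale U-schemes has a finite subfamily which is still jointly surjective (the
étale site on finitely presented objects over a quasi-compact scheme is Noetherian). -/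
theorem result (S : Scheme.{u}) [CompactSpace ↥S] (U : S.Etale)
    [QuasiCompact U.hom] (ι : Type (u + 1)) (Uf : ι → Over U)
    (hU : ∀ x : ↥(U.left), ∃ (i : ι) (y : ↥((Uf i).left.left)), (Uf i).hom.left.base y = x) :
    ∃ t : Finset ι, ∀ x : ↥(U.left), ∃ i ∈ t, ∃ y : ↥((Uf i).left.left), (Uf i).hom.left.base y = x := by
  classical
  let w : U.left ⟶ S := U.hom
  haveI : QuasiCompact w := ‹QuasiCompact U.hom›
  haveI : CompactSpace U.left := QuasiCompact.compactSpace_of_compactSpace w
  have hop : ∀ i, IsOpen (Set.range ⇑(Uf i).hom.left) := fun i => by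
    let f : (Uf i).left.left ⟶ U.left := (Uf i).hom.left
    haveI h1 : Etale U.hom := U.prop
    haveI h2 : Etale (f ≫ U.hom) := by
      have hw : f ≫ U.hom = (Uf i).left.hom := MorphismProperty.Over.w (Uf i).hom
      rw [hw]
      exact (Uf i).left.prop
    haveI : Etale f := Etale.of_comp f U.hom
    exact f.isOpenMap.isOpen_range
  obtain ⟨t, ht⟩ := (isCompact_univ (X := ↥U.left)).elim_finite_subcover _ hop (fun x _ => by
    obtain ⟨i, y, hy⟩ := hU x
    exact Set.mem_iUnion.2 ⟨i, y, hy⟩)
  refine ⟨t, fun x => ?_⟩
  obtain ⟨i, hi, y, hy⟩ := Set.mem_iUnion₂.1 (ht (Set.mem_univ x))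
  exact ⟨i, hi, y, hy⟩

end Groth.Agent.S14627
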