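import Groth.Statements.S14628
import Groth.Agent.Lib.CechUniv.Flasque
-- import your own Groth.Agent.* helpers here

set_option autoImplicit false
open CategoryTheory CategoryTheory.Limits AlgebraicGeometry
universe u
open EtBase

namespace Groth.Agent.S14628

/-- On the small étale site of a scheme, let 0 → F' → F → F'' → 0 be a short exact sequence of abelian
étale sheaves on a scheme X. If F' and F are flasque in the Čech sense (for every étale U over X and
every jointly surjective family of étale U-schemes, Čech cohomology in positive degrees vanishes),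
then so is F''. The finite products of the over categories (the fibre products entering the Čech
complexes) are carried as instance hypotheses. -/
theorem result {X : Scheme.{u}}
    [∀ U : X.Etale, HasFiniteProducts (Over U)] (S : ShortComplex (EtCoh.Ab X)) (hS : S.ShortExact)
    (h1 : (∀ (U : X.Etale) (ι : Type (u + 1)) (Uf : ι → Over U),
      (∀ x : ↥(U.left), ∃ (i : ι) (y : ↥((Uf i).left.left)), (Uf i).hom.left.base y = x) →
      ∀ p : ℕ, 0 < p → IsZero (EtCech.cechH Uf S.X₁.obj p)))
    (h2 : (∀ (U : X.Etale) (ι : Type (u + 1)) (Uf : ι → Over U),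
      (∀ x : ↥(U.left), ∃ (i : ι) (y : ↥((Uf i).left.left)), (Uf i).hom.left.base y = x) →
      ∀ p : ℕ, 0 < p → IsZero (EtCech.cechH Uf S.X₂.obj p)))
    (U : X.Etale) (ι : Type (u + 1)) (Uf : ι → Over U)
    (hU : ∀ x : ↥(U.left), ∃ (i : ι) (y : ↥((Uf i).left.left)), (Uf i).hom.left.base y = x)
    (p : ℕ) (hp : 0 < p) :
    IsZero (EtCech.cechH Uf S.X₃.obj p) := by
  have hsurj : ∀ W : X.Etale, Function.Surjective (S.g.hom.app (Opposite.op W)) := by
    intro W s
    haveI := hS.epi_g
    haveI : Sheaf.IsLocallySurjective S.g := (Sheaf.isLocallySurjective_iff_epi' _ _).2 inferInstance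
    have hm := Presheaf.imageSieve_mem X.smallEtaleTopology S.g.hom s
    have hm' := (GrothLib.EtSite.mem_topology_iff _).1 hm
    choose V g v hg hv using hm'
    let Y : ULift.{u + 1} W.left → Over W := fun x => Over.mk (g x.down)
    have hcov : ∀ x : W.left, ∃ (i : ULift.{u + 1} W.left) (y : (Y i).left.left), (Y i).hom.left.base y = x :=
      fun x => ⟨⟨x⟩, v x, hv x⟩
    exact GrothLib.CechUniv.exists_lift Y hS hcov (h1 W _ Y hcov 1 one_pos) s fun i => hg i.down
  have hP : (S.map (sheafToPresheaf X.smallEtaleTopology AddCommGrpCat.{u + 1})).ShortExact := by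
    haveI := hS.mono_f
    haveI : Mono (S.map (sheafToPresheaf X.smallEtaleTopology AddCommGrpCat.{u + 1})).f :=
      inferInstanceAs (Mono ((sheafToPresheaf X.smallEtaleTopology AddCommGrpCat.{u + 1}).map S.f))
    haveI : Epi (S.map (sheafToPresheaf X.smallEtaleTopology AddCommGrpCat.{u + 1})).g := by
      have : ∀ W, Epi ((S.map (sheafToPresheaf X.smallEtaleTopology AddCommGrpCat.{u + 1})).g.app W) := fun W =>
        (AddCommGrpCat.epi_iff_surjective _).2 (hsurj W.unop)
      exact NatTrans.epi_of_epi_app _
    exact ShortComplex.ShortExact.mk'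
      (hS.exact.map_of_mono_of_preservesKernel (sheafToPresheaf _ AddCommGrpCat.{u + 1}) inferInstance inferInstance)
      ‹_› ‹_›
  obtain ⟨n, rfl⟩ : ∃ n, p = n + 1 := ⟨p - 1, by omega⟩
  exact ((GrothLib.CechUniv.shortExact_map Uf _ hP).homology_exact₃ (n + 1) (n + 2) rfl).isZero_of_both_zeros
    ((h2 U ι Uf hU (n + 1) hp).eq_of_src _ _) ((h1 U ι Uf hU (n + 2) (by omega)).eq_of_tgt _ _)

end Groth.Agent.S14628
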