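import Groth.Statements.S14631
import Groth.Agent.Lib.EtSite.PropSplit
-- import your own Groth.Agent.* helpers here

set_option autoImplicit false
open CategoryTheory AlgebraicGeometry
universe u
open EtBase

namespace Groth.Agent.S14631

/-- Let X be a quasi-separated scheme and U an étale X-scheme. Then there is a jointly surjective family
of étale U-schemes each of which is quasi-compact and quasi-separated, hence of finite presentation,
over X. (Sheaves on the small étale site are therefore determined by their values on étale X-schemes
of finite presentation; that equivalence is not stated here.) -/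
theorem result (X : Scheme.{u})
    [QuasiSeparatedSpace ↥X] (U : X.Etale) :
    ∃ (ι : Type u) (V : ι → Over U), (∀ i, QuasiCompact (V i).left.hom ∧ QuasiSeparated (V i).left.hom) ∧
      ∀ x : ↥(U.left), ∃ (i : ι) (y : ↥((V i).left.left)), (V i).hom.left.base y = x := by
  let O : U.left.affineOpens → U.left.Opens := fun O => O.1
  refine ⟨U.left.affineOpens, fun i => Over.mk (GrothLib.EtSite.opensHom U (O i)), fun i => ?_, fun x => ?_⟩
  · haveI : IsAffine (O i : Scheme.{u}) := i.2
    haveI : QuasiSeparatedSpace ↥((Functor.fromPUnit X).obj U.right) :=
      inferInstanceAs (QuasiSeparatedSpace X)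
    constructor
    · change QuasiCompact ((O i).ι ≫ U.hom)
      exact quasiCompact_of_compactSpace _
    · change QuasiSeparated ((O i).ι ≫ U.hom)
      exact QuasiSeparated.of_quasiSeparatedSpace _
  · obtain ⟨V, hV, hx, -⟩ := AlgebraicGeometry.exists_isAffineOpen_mem_and_subset
      (x := x) (U := ⊤) trivial
    exact ⟨⟨V, hV⟩, ⟨x, hx⟩, rfl⟩

end Groth.Agent.S14631
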