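import Groth.Statements.S14632
import Groth.Agent.Lib.SetColim18.Et
-- import your own Groth.Agent.* helpers here

set_option autoImplicit false
open CategoryTheory CategoryTheory.Limits AlgebraicGeometry Opposite
universe u
open EtBase

namespace Groth.Agent.S14632

/-- Take a quasi-compact quasi-separated scheme X and an étale X-scheme U which is quasi-compact and
quasi-separated, i.e. of finite presentation, over X. Then for every small filtered category I the
functor taking a sheaf of sets on the small étale site of X to its sections over U preserves
colimits of shape I: sections over U of a filtered colimit of sheaves are the colimit of the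
sections. (Sheaves are valued in types one universe above the schemes, as elsewhere in this
library.) -/
theorem result (X : Scheme.{u}) [CompactSpace ↥X]
    [QuasiSeparatedSpace ↥X] (U : X.Etale) [QuasiCompact U.hom] [QuasiSeparated U.hom]
    (I : Type (u + 1)) [SmallCategory I] [IsFiltered I] :
    PreservesColimitsOfShape I
      (sheafToPresheaf X.smallEtaleTopology (Type (u + 1)) ⋙ (evaluation X.Etaleᵒᵖ (Type (u + 1))).obj (op U)) := by
  haveI : CompactSpace ↥((Functor.fromPUnit X).obj U.right) := ‹CompactSpace ↥X›
  haveI : QuasiSeparatedSpace ↥((Functor.fromPUnit X).obj U.right) := ‹QuasiSeparatedSpace ↥X›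
  haveI : CompactSpace U.left := QuasiCompact.compactSpace_of_compactSpace U.hom
  haveI : QuasiSeparatedSpace U.left := quasiSeparatedSpace_of_quasiSeparated U.hom
  exact GrothLib.SetColim18.preservesColimitsOfShape_sections U I

end Groth.Agent.S14632
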