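import Groth.Statements.S14633
import Groth.Agent.Lib.GrpSchField.Field
import Groth.Agent.Lib.Rigidity.SmoothGroup
import Groth.Agent.Lib.FBase7.Conn
import Mathlib.AlgebraicGeometry.Morphisms.QuasiFinite
import Mathlib.AlgebraicGeometry.Morphisms.Separated
import Mathlib.AlgebraicGeometry.AlgClosed.Basic
import Mathlib.AlgebraicGeometry.Geometrically.Reduced
import Mathlib.AlgebraicGeometry.Morphisms.Flat
import Groth.Prelude.Def_ChGrp
-- import your own Groth.Agent.* helpers here

set_option autoImplicit false
universe u
open CategoryTheory MonoidalCategory CartesianMonoidalCategory MonObj GrpObj AlgebraicGeometry CategoryTheory.Limits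
open AlgGrp

namespace Groth.Agent.S14633

/-- Over a field k, let G be a smooth connected k-group scheme of finite type and let Z be a reduced
k-scheme of finite type of dimension at most 0 (for Z empty the conclusion is immediate). Then every
action of G on Z is trivial: the action morphism G × Z → Z is the second projection. -/
theorem result (k : Type u) [Field k]
    (G Z : Over (Spec (CommRingCat.of k))) [GrpObj G] [Smooth G.hom] [QuasiCompact G.hom] [ConnectedSpace ↥G.left]
    [LocallyOfFiniteType Z.hom] [QuasiCompact Z.hom] [IsReduced Z.left] (hdim : topologicalKrullDim ↥Z.left ≤ 0)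
    (a : AlgGrp.Action G Z) : a.act = CartesianMonoidalCategory.snd G Z := by
  classical
  have hLN : IsLocallyNoetherian Z.left := LocallyOfFiniteType.isLocallyNoetherian Z.hom
  have : CompactSpace ↥Z.left := QuasiCompact.compactSpace_of_compactSpace Z.hom
  have : IsNoetherian Z.left := {}
  -- Z is finite and discrete
  have hcl : ∀ x : Z.left, IsClosed ({x} : Set Z.left) := fun x => by
    rw [← closure_subset_iff_isClosed]
    intro y hy
    have hmin := Order.krullDim_nonpos_iff_forall_isMin.1 hdim
    let cx : TopologicalSpace.IrreducibleCloseds Z.left :=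
      { carrier := closure {x}, isIrreducible' := isIrreducible_singleton.closure, isClosed' := isClosed_closure }
    let cy : TopologicalSpace.IrreducibleCloseds Z.left :=
      { carrier := closure {y}, isIrreducible' := isIrreducible_singleton.closure, isClosed' := isClosed_closure }
    have hle : cy ≤ cx := closure_minimal (Set.singleton_subset_iff.2 hy) isClosed_closure
    have hxy : x ∈ closure ({y} : Set Z.left) := hmin cx hle (subset_closure rfl)
    have h1 : y ⤳ x := specializes_iff_mem_closure.2 hxy
    have h2 : x ⤳ y := specializes_iff_mem_closure.2 hy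
    exact (h1.antisymm h2).eq
  have hfin : Finite Z.left := by
    have := TopologicalSpace.NoetherianSpace.finite_irreducibleComponents (α := Z.left)
    have hsurj : ∀ x : Z.left, irreducibleComponent x = {x} := fun x => by
      obtain ⟨c, hc⟩ := QuasiSober.sober (isIrreducible_irreducibleComponent (x := x)) isClosed_irreducibleComponent
      have : irreducibleComponent x = {c} := by rw [← hc.def, (hcl c).closure_eq]
      have hx : x ∈ ({c} : Set Z.left) := this ▸ mem_irreducibleComponent
      rw [this, Set.mem_singleton_iff.1 hx]
    have := this.to_subtype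
    exact Finite.of_injective
      (fun x : Z.left => (⟨irreducibleComponent x, irreducibleComponent_mem_irreducibleComponents x⟩ : irreducibleComponents Z.left))
      (fun x y h => by
        have h' := congrArg Subtype.val h
        simp only [hsurj] at h'
        exact Set.singleton_eq_singleton_iff.1 h')
  have : LocallyQuasiFinite Z.hom :=
    LocallyQuasiFinite.of_finite_preimage_singleton _ fun s => Set.toFinite _
  have : GeometricallyConnected G.hom := by
    have hid : GeometricallyConnected (𝟙 (Spec (CommRingCat.of k))) := by
      refine ⟨fun K _ y W fst snd h => ?_⟩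
      have : IsIso snd := h.isIso_snd_of_isIso
      exact (asIso snd).inv.homeomorph.surjective.connectedSpace (asIso snd).inv.continuous
    have : Nonempty ↥(Spec (CommRingCat.of k)) := ⟨IsLocalRing.closedPoint k⟩
    exact GrothLib.FBase7.geometricallyConnected_of_range G.hom (𝟙 (Spec (CommRingCat.of k))) η[G].left
      (Over.w η[G])
  have : GeometricallyReduced G.hom := GrothLib.Rigidity.geometricallyReduced_of_smooth _
  have : IsSeparated Z.hom := by
    have : IsAffineHom Z.hom := by
      have : IsFinite Z.hom := by
        have : IsSeparated Z.hom := by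
          have : DiscreteTopology Z.left := DiscreteTopology.of_finite_of_isClosed_singleton hcl
          have : IsAffine Z.left := by
            have : IsLocallyArtinian Z.left := IsLocallyArtinian.of_locallyQuasiFinite Z.hom
            have : IsArtinianScheme Z.left := {}
            infer_instance
          infer_instance
        exact IsFinite.of_locallyQuasiFinite Z.hom
      infer_instance
    infer_instance
  have hred : IsReduced (G ⊗ Z).left :=
    inferInstanceAs (IsReduced (Limits.pullback G.hom Z.hom))
  ext1
  refine ext_of_fromSpecResidueField_eq _ _ Z.hom Set.univ dense_univ (fun w _ => ?_)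
    ((Over.w a.act).trans (Over.w (CartesianMonoidalCategory.snd G Z)).symm)
  let κ := (G ⊗ Z).left.residueField w
  let L := AlgebraicClosure κ
  let c : Spec (CommRingCat.of L) ⟶ Spec κ := Spec.map (CommRingCat.ofHom (algebraMap κ L))
  have hce : Epi c := by
    have hs : Surjective c := ⟨fun p => ⟨IsLocalRing.closedPoint L, Subsingleton.elim _ _⟩⟩
    have hf : Flat c := by
      rw [HasRingHomProperty.Spec_iff (P := @Flat)]
      exact RingHom.flat_algebraMap_iff.2 inferInstance
    exact Flat.epi_of_flat_of_surjective c
  rw [← cancel_epi c, ← Category.assoc, ← Category.assoc]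
  let p := c ≫ (G ⊗ Z).left.fromSpecResidueField w
  let T : Over (Spec (CommRingCat.of k)) := Over.mk (p ≫ (G ⊗ Z).hom)
  let pt : T ⟶ G ⊗ Z := Over.homMk p rfl
  suffices hh : pt ≫ a.act = pt ≫ CartesianMonoidalCategory.snd G Z from congrArg (fun m => m.left) hh
  let g := pt ≫ CartesianMonoidalCategory.fst G Z
  let z := pt ≫ CartesianMonoidalCategory.snd G Z
  let H : G ⊗ T ⟶ Z ⊗ T := lift (lift (fst G T) (snd G T ≫ z) ≫ a.act) (snd G T)
  let s₁ : T ⟶ G ⊗ T := lift g (𝟙 T)
  let s₀ : T ⟶ G ⊗ T := lift (toUnit T ≫ η[G]) (𝟙 T)
  have e₁ : s₁ ≫ H = lift (pt ≫ a.act) (𝟙 T) := by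
    simp only [s₁, H, comp_lift, lift_fst, lift_snd, lift_snd_assoc, comp_lift_assoc]
    congr 2
    exact CartesianMonoidalCategory.hom_ext _ _ (by simp [g]) (by simp [z])
  have e₀ : s₀ ≫ H = lift z (𝟙 T) := by
    simp only [s₀, H, comp_lift, lift_fst, lift_snd, lift_snd_assoc, comp_lift_assoc]
    rw [Category.id_comp]
    congr 1
    exact AlgGrp.Action.lift_one_act a z
  have : ConnectedSpace ↥(G ⊗ T).left :=
    GeometricallyConnected.geometrically_connectedSpace (f := G.hom) _ _ _ (IsPullback.of_hasPullback G.hom T.hom)
  have hZT : LocallyQuasiFinite (snd Z T).left :=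
    inferInstanceAs (LocallyQuasiFinite (Limits.pullback.snd Z.hom T.hom))
  have hdisc : DiscreteTopology ↥(Z ⊗ T).left := by
    have h := (snd Z T).left.isDiscrete_preimage_singleton (IsLocalRing.closedPoint L)
    rw [← isDiscrete_univ_iff]
    convert h using 1
    exact (Set.eq_univ_of_forall fun _ => Subsingleton.elim (α := Spec (CommRingCat.of L)) _ _).symm
  have hconst := PreconnectedSpace.constant (α := ↥(G ⊗ T).left) inferInstance H.left.continuous
    (x := s₁.left (IsLocalRing.closedPoint L)) (y := s₀.left (IsLocalRing.closedPoint L))
  have hq : LocallyOfFiniteType (snd Z T).left :=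
    inferInstanceAs (LocallyOfFiniteType (Limits.pullback.snd Z.hom T.hom))
  have hh : (s₁ ≫ H).left = (s₀ ≫ H).left := by
    refine ext_of_apply_closedPoint_eq (snd Z T).left ?_ ?_ hconst
    · rw [← Over.comp_left, e₁, lift_snd]; rfl
    · rw [← Over.comp_left, e₀, lift_snd]; rfl
  have h2 : s₁ ≫ H = s₀ ≫ H := Over.OverMorphism.ext hh
  rw [e₁, e₀] at h2
  simpa [z] using congrArg (fun m => m ≫ CartesianMonoidalCategory.fst Z T) h2

end Groth.Agent.S14633
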