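import Groth.Statements.S14634
import Groth.Agent.Lib.CurveAct29.Main

set_option autoImplicit false
universe u
open CategoryTheory MonoidalCategory CartesianMonoidalCategory MonObj GrpObj AlgebraicGeometry CategoryTheory.Limits
open AlgGrp

namespace Groth.Agent.S14634

/-- Over a field k, let G be a smooth connected k-group scheme of finite type acting on a curve C, i.e.
a separated, geometrically integral k-scheme of finite type of dimension 1. Then C is almost
homogeneous under G, meaning that the graph morphism G × C → C × C, (g, x) ↦ (x, g·x), is dominant,
if and only if the action is not the trivial one (the action morphism is not the second projection). -/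
theorem result (k : Type u) [Field k]
    (G C : Over (Spec (CommRingCat.of k))) [GrpObj G] [Smooth G.hom] [QuasiCompact G.hom] [ConnectedSpace ↥G.left]
    [IsSeparated C.hom] [LocallyOfFiniteType C.hom] [QuasiCompact C.hom] [GeometricallyIntegral C.hom] (hdim : topologicalKrullDim ↥C.left = 1)
    (a : AlgGrp.Action G C) :
    IsDominant (CartesianMonoidalCategory.lift (CartesianMonoidalCategory.snd G C) a.act).left ↔
      a.act ≠ CartesianMonoidalCategory.snd G C := by
  exact GrothLib.CurveAct29.isDominant_graph_iff G C hdim a

end Groth.Agent.S14634
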