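import Groth.Statements.S14637
import Groth.Agent.Lib.RedPts.GmLaw
-- import your own Groth.Agent.* helpers here

set_option autoImplicit false
universe u
open CategoryTheory MonoidalCategory CartesianMonoidalCategory MonObj GrpObj AlgebraicGeometry CategoryTheory.Limits
open AlgGrp

namespace Groth.Agent.S14637

/-- Over a field k, the only structure of algebraic group on the punctured affine line Spec k[T, T⁻¹]
with unit element the point T = 1 is the multiplicative group. Precisely: let G be a k-group scheme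
and e an isomorphism of k-schemes from the underlying scheme of G to Spec k[T, T⁻¹] under which the
unit section has T-coordinate 1; then for every k-scheme S and all S-valued points g, h of G, the
T-coordinate of g · h (the pull-back of the global function T along the point composed with e) is
the product of the T-coordinates of g and of h. -/
theorem result (k : Type u) [Field k]
    (G : Over (Spec (CommRingCat.of k))) [GrpObj G]
    (e : G.left ≅ Spec (CommRingCat.of (LaurentPolynomial k)))
    (he : e.hom ≫ Spec.map (CommRingCat.ofHom (algebraMap k (LaurentPolynomial k))) = G.hom)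
    (hunit : ((η[G]).left ≫ e.hom).appTop.hom ((Scheme.ΓSpecIso (CommRingCat.of (LaurentPolynomial k))).inv.hom (LaurentPolynomial.T 1)) = 1)
    (S : Over (Spec (CommRingCat.of k))) (g h : S ⟶ G) :
    ((g * h).left ≫ e.hom).appTop.hom ((Scheme.ΓSpecIso (CommRingCat.of (LaurentPolynomial k))).inv.hom (LaurentPolynomial.T 1)) =
      (g.left ≫ e.hom).appTop.hom ((Scheme.ΓSpecIso (CommRingCat.of (LaurentPolynomial k))).inv.hom (LaurentPolynomial.T 1)) * (h.left ≫ e.hom).appTop.hom ((Scheme.ΓSpecIso (CommRingCat.of (LaurentPolynomial k))).inv.hom (LaurentPolynomial.T 1)) := by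
  let φ : k →+* LaurentPolynomial k := LaurentPolynomial.C
  let Gm := Red.Gm (Spec (CommRingCat.of k))
  let io := Scheme.ΓSpecIso (CommRingCat.of (LaurentPolynomial k))
  let ux : (Γ((GrothLib.RedPts.specOver φ).left, ⊤))ˣ :=
    Units.map io.inv.hom.toMonoidHom (LaurentPolynomial.isUnit_T (R := k) 1).unit
  let x : GrothLib.RedPts.specOver φ ⟶ Gm := GmPts.ptOfUnit ux
  let ψ : LaurentPolynomial k →+* Γ(Gm.left, ⊤) :=
    LaurentPolynomial.eval₂ (GrothLib.RedPts.scal Gm) (GmPts.unitOfPt (𝟙 Gm))
  obtain ⟨y, hy⟩ := GrothLib.RedPts.exists_over_hom φ Gm ψ (by ext r; simp [ψ, φ])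
  have hyx : y ≫ x = 𝟙 Gm := GmPts.gmFn_injective (by
    change Red.gmFn (y ≫ x) = Red.gmFn (𝟙 Gm)
    rw [GmPts.gmFn_comp, GmPts.gmFn_ptOfUnit]
    exact (hy (LaurentPolynomial.T 1)).trans (by simp [ψ, GmPts.val_unitOfPt]))
  have hxy : x ≫ y = 𝟙 _ := by
    ext1
    haveI : IsAffine (GrothLib.RedPts.specOver φ).left := inferInstanceAs (IsAffine (Spec _))
    refine ext_of_isAffine ?_
    apply (cancel_epi io.inv).mp
    refine CommRingCat.hom_ext (RingHom.ext fun (r : LaurentPolynomial k) => ?_)
    suffices x.left.appTop (ψ r) = io.inv r by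
      change (x.left ≫ y.left).appTop (io.inv r) = (𝟙 _ : (GrothLib.RedPts.specOver φ).left ⟶ _).appTop (io.inv r)
      rw [Scheme.Hom.comp_appTop, CommRingCat.comp_apply, hy, this]
      simp
    refine DFunLike.congr_fun (f := (x.left.appTop.hom.comp ψ)) (g := io.inv.hom) ?_ r
    refine AddMonoidAlgebra.ringHom_ext' ?_ (MonoidHom.ext_mint ?_)
    · refine RingHom.ext fun c => ?_
      change x.left.appTop (ψ (LaurentPolynomial.C c)) = io.inv (LaurentPolynomial.C c)
      rw [show ψ (LaurentPolynomial.C c) = GrothLib.RedPts.scal Gm c from LaurentPolynomial.eval₂_C _ _ _]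
      exact (DFunLike.congr_fun (GrothLib.RedPts.appTop_scal x) c).trans
        (DFunLike.congr_fun (GrothLib.RedPts.scal_specOver φ) c)
    · change x.left.appTop (ψ (LaurentPolynomial.T 1)) = io.inv (LaurentPolynomial.T 1)
      rw [show ψ (LaurentPolynomial.T 1) = Red.gmFn (𝟙 Gm) by simp [ψ, GmPts.val_unitOfPt],
        ← GmPts.gmFn_comp, Category.comp_id, GmPts.gmFn_ptOfUnit]
      rfl
  let E : G ≅ Gm := (Over.isoMk e he : G ≅ GrothLib.RedPts.specOver φ) ≪≫ ⟨x, y, hxy, hyx⟩
  let hG : GrpObj Gm := GrpObj.ofIso E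
  have hEfn : ∀ {W : Over (Spec (CommRingCat.of k))} (a : W ⟶ G),
      Red.gmFn (a ≫ E.hom) = (a.left ≫ e.hom).appTop (io.inv (LaurentPolynomial.T 1)) := fun a => by
    change Red.gmFn (a ≫ (Over.isoMk e he : G ≅ GrothLib.RedPts.specOver φ).hom ≫ x) = _
    rw [← Category.assoc, GmPts.gmFn_comp, GmPts.gmFn_ptOfUnit]
    rfl
  have h1 : Red.gmFn hG.one = 1 := by
    change Red.gmFn (η[G] ≫ E.hom) = 1
    rw [hEfn]; exact hunit
  have key := GrothLib.RedPts.gm_mul_eq hG (g ≫ E.hom) (h ≫ E.hom)
  have hmul : lift (g ≫ E.hom) (h ≫ E.hom) ≫ hG.mul = (g * h) ≫ E.hom := by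
    change lift (g ≫ E.hom) (h ≫ E.hom) ≫ (E.inv ⊗ₘ E.inv) ≫ μ[G] ≫ E.hom = _
    rw [lift_map_assoc, Category.assoc, Category.assoc, E.hom_inv_id, Category.comp_id, Category.comp_id,
      Hom.mul_def, Category.assoc]
  rw [hmul, h1, map_one, map_one, _root_.one_mul, hEfn, hEfn, hEfn] at key
  exact key


end Groth.Agent.S14637
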