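import Groth.Statements.S14640
import Groth.Agent.Lib.GenSubgrp14.Product
import Groth.Agent.Lib.Neutral.Artin
import Groth.Agent.Lib.GrpSchField.Pts
import Groth.Agent.Lib.SepAct.Main

set_option autoImplicit false
set_option linter.all false
set_option backward.isDefEq.respectTransparency false
set_option maxHeartbeats 1000000
universe u
open CategoryTheory MonoidalCategory CartesianMonoidalCategory MonObj GrpObj AlgebraicGeometry CategoryTheory.Limits
open AlgGrp
open GrothLib

namespace Groth.Agent.S14640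

theorem neutralSet_eq {k : Type u} [Field k] (Z : Over (Spec (CommRingCat.of k))) [GrpObj Z] :
    SGA3x.neutralSet Z = connectedComponent (η[Z].left (IsLocalRing.closedPoint k)) := by
  ext g
  have h : Z.hom g = IsLocalRing.closedPoint k := Subsingleton.elim (α := PrimeSpectrum k) _ _
  have huniv : Z.hom ⁻¹' {IsLocalRing.closedPoint k} = Set.univ :=
    Set.eq_univ_of_forall fun x => Subsingleton.elim (α := PrimeSpectrum k) _ _
  rw [Neutral.mem_neutralSet_iff, h]
  erw [huniv, connectedComponentIn_univ]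

section

variable {k : Type u} [Field k] (K : Type u) [Field K] [Algebra k K]

local notation "𝒞" => Over (Spec (CommRingCat.of k))
local notation "𝕋" => (Over.mk (Spec.map (CommRingCat.ofHom (algebraMap k K))) : Over (Spec (CommRingCat.of k)))

theorem surjective_fst (Y : Over (Spec (CommRingCat.of k))) : Surjective (fst Y 𝕋).left := by
  haveI : Surjective (Spec.map (CommRingCat.ofHom (algebraMap k K))) :=
    ⟨fun p => ⟨IsLocalRing.closedPoint K, Subsingleton.elim (α := PrimeSpectrum k) _ _⟩⟩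
  exact MorphismProperty.pullback_fst (P := @Surjective) Y.hom _ ‹Surjective (Spec.map (CommRingCat.ofHom (algebraMap k K)))›

theorem fst_lift_apply {Y : Over (Spec (CommRingCat.of k))} (h : 𝕋 ⟶ Y) :
    (fst Y 𝕋).left ((lift h (𝟙 _)).left (IsLocalRing.closedPoint K)) = h.left (IsLocalRing.closedPoint K) := by
  rw [← Scheme.Hom.comp_apply, ← Over.comp_left, lift_fst]

theorem lft_snd (Y : Over (Spec (CommRingCat.of k))) [LocallyOfFiniteType Y.hom] :
    LocallyOfFiniteType (snd Y 𝕋).left :=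
  MorphismProperty.pullback_snd (P := @LocallyOfFiniteType) Y.hom _ inferInstance

theorem exists_point [IsAlgClosed K] {Y : Over (Spec (CommRingCat.of k))} [LocallyOfFiniteType Y.hom]
    {U : Set (Y ⊗ 𝕋).left} (hU : IsLocallyClosed U) (hne : U.Nonempty) :
    ∃ h : 𝕋 ⟶ Y, (lift h (𝟙 _)).left (IsLocalRing.closedPoint K) ∈ U := by
  let p : (Y ⊗ 𝕋).left ⟶ Spec (CommRingCat.of K) := (snd Y 𝕋).left
  haveI : LocallyOfFiniteType p := lft_snd K Y
  haveI : JacobsonSpace (Y ⊗ 𝕋).left := LocallyOfFiniteType.jacobsonSpace p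
  obtain ⟨c, hcU, hc⟩ := nonempty_inter_closedPoints hne hU
  let s := pointOfClosedPoint p c hc
  have hs : s ≫ p = 𝟙 _ := pointOfClosedPoint_comp p c hc
  let σ : 𝕋 ⟶ Y ⊗ 𝕋 := Over.homMk s (by
    rw [← Over.w (snd Y 𝕋), ← Category.assoc]
    change (s ≫ p) ≫ (𝕋).hom = (𝕋).hom
    rw [hs, Category.id_comp])
  have hσ : σ ≫ snd Y 𝕋 = 𝟙 _ := Over.OverMorphism.ext hs
  refine ⟨σ ≫ fst Y 𝕋, ?_⟩
  rw [show lift (σ ≫ fst Y 𝕋) (𝟙 _) = σ from CartesianMonoidalCategory.hom_ext _ _ (by simp) (by simp [hσ])]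
  have : σ.left (IsLocalRing.closedPoint K) = c := pointOfClosedPoint_apply p c hc _
  rwa [this]

theorem exists_point_closed [IsAlgClosed K] {Y : Over (Spec (CommRingCat.of k))} [LocallyOfFiniteType Y.hom]
    {q : Y.left} (hq : IsClosed ({q} : Set Y.left)) : ∃ w : 𝕋 ⟶ Y, w.left (IsLocalRing.closedPoint K) = q := by
  haveI := surjective_fst K Y
  obtain ⟨v, hv⟩ := (fst Y 𝕋).left.surjective q
  obtain ⟨h, hh⟩ := exists_point K (hq.preimage (fst Y 𝕋).left.continuous).isLocallyClosed ⟨v, hv⟩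
  exact ⟨h, by rw [← fst_lift_apply]; exact hh⟩

theorem exists_lift_pt [IsAlgClosed K] {A B : Over (Spec (CommRingCat.of k))} (φ : A ⟶ B)
    [LocallyOfFiniteType A.hom] (w : 𝕋 ⟶ B) (h : w.left (IsLocalRing.closedPoint K) ∈ Set.range φ.left) :
    ∃ v : 𝕋 ⟶ A, v ≫ φ = w := by
  haveI : LocallyOfFiniteType (φ.left ≫ B.hom) := by rw [Over.w]; infer_instance
  haveI : LocallyOfFiniteType φ.left := locallyOfFiniteType_of_comp φ.left B.hom
  obtain ⟨v, hv⟩ := GrothLib.SchPoints.exists_lift φ.left w.left h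
  exact ⟨Over.homMk v (by rw [← Over.w φ, reassoc_of% hv]; exact Over.w w), Over.OverMorphism.ext hv⟩

end


/-- Over a field k, let G be a smooth k-group scheme of finite type acting on a variety X (a separated,
geometrically integral k-scheme of finite type), and let i : G° → G be its identity component: a
homomorphism which is an open immersion from a connected k-group scheme whose image is the connected
component of the unit element of G. Let G° act on X through i. Then X is homogeneous under G (the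
graph morphism G × X → X × X, (g, x) ↦ (x, g·x), is surjective) if and only if it is homogeneous
under G°, and X is almost homogeneous under G (the graph morphism is dominant) if and only if it is
almost homogeneous under G°. -/
theorem result (k : Type u) [Field k]
    (G G0 X : Over (Spec (CommRingCat.of k))) [GrpObj G] [Smooth G.hom] [QuasiCompact G.hom]
    [GrpObj G0] (i : G0 ⟶ G) [IsMonHom i] [IsOpenImmersion i.left] [ConnectedSpace ↥G0.left]
    (hi : Set.range i.left.base = connectedComponent ((η[G]).left.base (IsLocalRing.closedPoint k)))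
    [IsSeparated X.hom] [LocallyOfFiniteType X.hom] [QuasiCompact X.hom] [GeometricallyIntegral X.hom]
    (a : AlgGrp.Action G X) (a0 : AlgGrp.Action G0 X) (ha0 : a0.act = (i ▷ X) ≫ a.act) :
    (Surjective (CartesianMonoidalCategory.lift (CartesianMonoidalCategory.snd G X) a.act).left ↔
      Surjective (CartesianMonoidalCategory.lift (CartesianMonoidalCategory.snd G0 X) a0.act).left) ∧
    (IsDominant (CartesianMonoidalCategory.lift (CartesianMonoidalCategory.snd G X) a.act).left ↔
      IsDominant (CartesianMonoidalCategory.lift (CartesianMonoidalCategory.snd G0 X) a0.act).left) := by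
  classical
  haveI : LocallyOfFiniteType G.hom := inferInstance
  haveI : LocallyOfFiniteType G0.hom := by rw [← Over.w i]; infer_instance
  let K := AlgebraicClosure k
  let b : Spec (CommRingCat.of K) ⟶ Spec (CommRingCat.of k) := Spec.map (CommRingCat.ofHom (algebraMap k K))
  let T : Over (Spec (CommRingCat.of k)) := Over.mk b
  let pt : Spec (CommRingCat.of K) := IsLocalRing.closedPoint K
  let Φ : G ⊗ X ⟶ X ⊗ X := lift (snd G X) a.act
  let Φ0 : G0 ⊗ X ⟶ X ⊗ X := lift (snd G0 X) a0.act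
  have hΦ0 : Φ0 = (i ▷ X) ≫ Φ := by
    simp only [Φ, Φ0, comp_lift, whiskerRight_snd, ha0]
  have hsub : Set.range Φ0.left ⊆ Set.range Φ.left := by
    rw [hΦ0]
    rintro _ ⟨v, rfl⟩
    exact ⟨(i ▷ X).left v, by rw [← Scheme.Hom.comp_apply, ← Over.comp_left]⟩
  let N : (T ⟶ G) → Prop := fun g => g.left pt ∈ SGA3x.neutralSet G
  have hG : ∀ s : ↥(Spec (CommRingCat.of k)), LocallyOfFiniteType (G.hom.fiberToSpecResidueField s) :=
    fun s => MorphismProperty.pullback_snd _ _ inferInstance
  have hNc : ∀ g n : T ⟶ G, N n → N (g * n * g⁻¹) := fun g n hn => Neutral.conj_mem_neutralSet G hG g n pt hn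
  have hrange : Set.range i.left = SGA3x.neutralSet G := by rw [neutralSet_eq]; exact hi
  have hNl : ∀ g : T ⟶ G, N g ↔ ∃ c : T ⟶ G0, c ≫ i = g := by
    intro g
    constructor
    · intro hg
      exact exists_lift_pt K i g (hrange.ge hg)
    · rintro ⟨c, rfl⟩
      exact hrange.le ⟨c.left pt, by rw [← Scheme.Hom.comp_apply, ← Over.comp_left]⟩
  have hNm : ∀ g h : T ⟶ G, N g → N h → N (g * h) := by
    intro g h hg hh
    obtain ⟨c, rfl⟩ := (hNl g).1 hg
    obtain ⟨d, rfl⟩ := (hNl h).1 hh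
    exact (hNl _).2 ⟨c * d, MonObj.mul_comp _ _ _⟩
  have hNi : ∀ g : T ⟶ G, N g → N g⁻¹ := by
    intro g hg
    obtain ⟨c, rfl⟩ := (hNl g).1 hg
    exact (hNl _).2 ⟨c⁻¹, GrpObj.inv_comp _ _⟩
  haveI htens : ∀ {A : Over (Spec (CommRingCat.of k))} [LocallyOfFiniteType A.hom], LocallyOfFiniteType (A ⊗ X).hom := by
    intro A _
    rw [← Over.w (fst A X)]
    haveI : LocallyOfFiniteType (fst A X).left :=
      MorphismProperty.pullback_fst (P := @LocallyOfFiniteType) A.hom X.hom ‹_›
    infer_instance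
  have hR : ∀ x y : T ⟶ X, (lift x y).left pt ∈ Set.range Φ.left ↔ ∃ g : T ⟶ G, lift g x ≫ a.act = y := by
    intro x y
    constructor
    · intro h
      obtain ⟨v, hv⟩ := exists_lift_pt K Φ (lift x y) h
      have h1 := congrArg (· ≫ fst X X) hv
      have h2 := congrArg (· ≫ snd X X) hv
      simp only [Φ, Category.assoc, lift_fst, lift_snd] at h1 h2
      refine ⟨v ≫ fst G X, ?_⟩
      have : lift (v ≫ fst G X) x = v := CartesianMonoidalCategory.hom_ext _ _ (by simp) (by simp [h1])
      rw [this, h2]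
    · rintro ⟨g, rfl⟩
      refine ⟨(lift g x).left pt, ?_⟩
      rw [← Scheme.Hom.comp_apply, ← Over.comp_left]
      simp only [Φ, comp_lift, lift_snd]
  have hR0 : ∀ x y : T ⟶ X, (lift x y).left pt ∈ Set.range Φ0.left ↔
      ∃ g : T ⟶ G, N g ∧ lift g x ≫ a.act = y := by
    intro x y
    constructor
    · intro h
      obtain ⟨v, hv⟩ := exists_lift_pt K Φ0 (lift x y) h
      have h1 := congrArg (· ≫ fst X X) hv
      have h2 := congrArg (· ≫ snd X X) hv
      simp only [Φ0, Category.assoc, lift_fst, lift_snd, ha0] at h1 h2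
      refine ⟨(v ≫ fst G0 X) ≫ i, (hNl _).2 ⟨_, rfl⟩, ?_⟩
      have : lift ((v ≫ fst G0 X) ≫ i) x = v ≫ i ▷ X :=
        CartesianMonoidalCategory.hom_ext _ _ (by simp) (by simp [h1])
      rw [this, Category.assoc, h2]
    · rintro ⟨g, hg, rfl⟩
      obtain ⟨c, rfl⟩ := (hNl g).1 hg
      refine ⟨(lift c x).left pt, ?_⟩
      rw [← Scheme.Hom.comp_apply, ← Over.comp_left]
      simp only [Φ0, comp_lift, lift_snd, ha0, lift_whiskerRight_assoc]
  -- irreducibility
  haveI : Flat X.hom := GrothLib.AlgSp.flat_to_field X.hom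
  haveI : UniversallyOpen X.hom := GrothLib.AlgSp.universallyOpen_to_field X.hom
  haveI hXT : IrreducibleSpace (X ⊗ T).left := by
    haveI : IrreducibleSpace T.left := inferInstanceAs (IrreducibleSpace (PrimeSpectrum K))
    exact inferInstanceAs (IrreducibleSpace ↥(pullback X.hom b))
  haveI : IrreducibleSpace (X ⊗ (X ⊗ T)).left :=
    inferInstanceAs (IrreducibleSpace ↥(pullback X.hom (X ⊗ T).hom))
  haveI hXXT : IrreducibleSpace ((X ⊗ X) ⊗ T).left := by
    have hs : Function.Surjective (α_ X X T).inv.left := fun v => ⟨(α_ X X T).hom.left v, by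
      rw [← Scheme.Hom.comp_apply, ← Over.comp_left, Iso.hom_inv_id]; rfl⟩
    exact hs.irreducibleSpace (α_ X X T).inv.left.continuous
  haveI : LocallyOfFiniteType (X ⊗ X).hom := by
    rw [← Over.w (fst X X)]
    haveI : LocallyOfFiniteType (fst X X).left := MorphismProperty.pullback_fst (P := @LocallyOfFiniteType) X.hom X.hom ‹_›
    infer_instance
  haveI : IsLocallyNoetherian (X ⊗ X).left := LocallyOfFiniteType.isLocallyNoetherian (X ⊗ X).hom
  haveI hXXsep : IsSeparated (X ⊗ X).hom := by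
    rw [← Over.w (fst X X)]
    haveI : IsSeparated (fst X X).left := MorphismProperty.pullback_fst (P := @IsSeparated) X.hom X.hom ‹_›
    infer_instance
  haveI : QuasiCompact G0.hom := by
    haveI : IsLocallyNoetherian G.left := LocallyOfFiniteType.isLocallyNoetherian G.hom
    rw [← Over.w i]; infer_instance
  have props : ∀ (A : Over (Spec (CommRingCat.of k))) [LocallyOfFiniteType A.hom] [QuasiCompact A.hom]
      (φ : A ⊗ X ⟶ X ⊗ X), LocallyOfFinitePresentation φ.left ∧ QuasiCompact φ.left := by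
    intro A _ _ φ
    haveI : LocallyOfFiniteType (A ⊗ X).hom := by
      rw [← Over.w (fst A X)]
      haveI : LocallyOfFiniteType (fst A X).left :=
        MorphismProperty.pullback_fst (P := @LocallyOfFiniteType) A.hom X.hom ‹_›
      infer_instance
    haveI : QuasiCompact (A ⊗ X).hom := by
      rw [← Over.w (fst A X)]
      haveI : QuasiCompact (fst A X).left := MorphismProperty.pullback_fst (P := @QuasiCompact) A.hom X.hom ‹_›
      infer_instance
    haveI : LocallyOfFiniteType (φ.left ≫ (X ⊗ X).hom) := by rw [Over.w]; infer_instance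
    haveI : LocallyOfFiniteType φ.left := locallyOfFiniteType_of_comp φ.left (X ⊗ X).hom
    haveI : QuasiCompact (φ.left ≫ (X ⊗ X).hom) := by rw [Over.w]; infer_instance
    exact ⟨GrpSchField.lfp_of_isLocallyNoetherian φ.left, QuasiCompact.of_comp φ.left (X ⊗ X).hom⟩
  obtain ⟨hfp, hqc⟩ := props G Φ
  obtain ⟨hfp0, hqc0⟩ := props G0 Φ0
  haveI := surjective_fst K (X ⊗ X)
  have hopen : ∀ (A : Over (Spec (CommRingCat.of k))) (φ : A ⊗ X ⟶ X ⊗ X), LocallyOfFinitePresentation φ.left →
      QuasiCompact φ.left → IsDominant φ.left → ∃ V : Set (X ⊗ X).left, IsOpen V ∧ V.Nonempty ∧ V ⊆ Set.range φ.left := by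
    intro A φ _ _ hd
    have hc : Topology.IsLocallyConstructible (Set.range φ.left) := by
      rw [← Set.image_univ]
      exact φ.left.isLocallyConstructible_image .univ
    refine ⟨interior (Set.range φ.left), isOpen_interior, ?_, interior_subset⟩
    haveI : Nonempty (X ⊗ X).left := by
      obtain ⟨v⟩ := (inferInstance : Nonempty ((X ⊗ X) ⊗ T).left)
      exact ⟨(fst (X ⊗ X) T).left v⟩
    exact (GenSubgrp14.dense_interior hc hd.denseRange).nonempty
  -- finitely many cosets
  haveI : LocallyOfFiniteType (snd G T).left := lft_snd K G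
  haveI : CompactSpace T.left := inferInstanceAs (CompactSpace (PrimeSpectrum K))
  haveI : IsLocallyNoetherian T.left := inferInstanceAs (IsLocallyNoetherian (Spec (CommRingCat.of K)))
  haveI : CompactSpace (G ⊗ T).left := by
    haveI : QuasiCompact (snd G T).left := MorphismProperty.pullback_snd (P := @QuasiCompact) G.hom b inferInstance
    exact QuasiCompact.compactSpace_of_compactSpace (snd G T).left
  haveI : IsLocallyNoetherian (G ⊗ T).left := LocallyOfFiniteType.isLocallyNoetherian (snd G T).left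
  haveI : IsNoetherian (G ⊗ T).left := ⟨⟩
  let κ : (T ⟶ G) → Set (G ⊗ T).left := fun g => irreducibleComponent (SepAct.ptOf b g)
  have hκfin : (Set.range κ).Finite :=
    (TopologicalSpace.NoetherianSpace.finite_irreducibleComponents).subset (by
      rintro _ ⟨g, rfl⟩; exact irreducibleComponent_mem_irreducibleComponents _)
  haveI : Finite (Set.range κ) := hκfin.to_subtype
  let F : Set (T ⟶ G) := Set.range (Set.rangeSplitting κ)
  have hFfin : F.Finite := Set.finite_range _
  have hcoset : ∀ g : T ⟶ G, ∃ c ∈ F, N (c⁻¹ * g) := by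
    intro g
    let c := Set.rangeSplitting κ ⟨κ g, g, rfl⟩
    have hc : κ c = κ g := Set.apply_rangeSplitting κ _
    refine ⟨c, ⟨_, rfl⟩, ?_⟩
    let e := SepAct.transL T c⁻¹
    have hpre : _root_.IsPreconnected (e.hom.left '' κ g) :=
      (isIrreducible_irreducibleComponent.isPreirreducible.isPreconnected).image _ e.hom.left.continuous.continuousOn
    have hsub' := hpre.subset_connectedComponent (x := SepAct.ptOf b (1 : T ⟶ G))
      ⟨SepAct.ptOf b c, hc ▸ mem_irreducibleComponent, by rw [SepAct.transL_ptOf, inv_mul_cancel]⟩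
    have := hsub' ⟨SepAct.ptOf b g, mem_irreducibleComponent, SepAct.transL_ptOf b _ _⟩
    rw [← Neutral.preimage_neutralSet, Set.mem_preimage] at this
    erw [fst_lift_apply K (c⁻¹ * g)] at this
    exact this
  -- translated preimages
  have hdom : IsDominant Φ.left → IsDominant Φ0.left := by
    intro hd
    refine ⟨fun q => ?_⟩
    by_contra hq
    let O : Set (X ⊗ X).left := (closure (Set.range Φ0.left))ᶜ
    have hOo : IsOpen O := isClosed_closure.isOpen_compl
    obtain ⟨V, hVo, hVne, hV⟩ := hopen G Φ hfp hqc hd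
    obtain ⟨v₀, hv₀⟩ := (fst (X ⊗ X) T).left.surjective q
    obtain ⟨w₀, hw₀⟩ := exists_point K (hOo.preimage (fst (X ⊗ X) T).left.continuous).isLocallyClosed
      ⟨v₀, show _ ∈ O by rw [hv₀]; exact hq⟩
    rw [Set.mem_preimage, fst_lift_apply] at hw₀
    let ψ : (T ⟶ G) → ((X ⊗ X) ⊗ T ⟶ X ⊗ X) := fun c =>
      lift (fst (X ⊗ X) T ≫ fst X X) (lift (snd (X ⊗ X) T ≫ c⁻¹) (fst (X ⊗ X) T ≫ snd X X) ≫ a.act)
    have hψ : ∀ (c : T ⟶ G) (x y : T ⟶ X),
        (ψ c).left ((lift (lift x y) (𝟙 T)).left pt) = (lift x (lift c⁻¹ y ≫ a.act)).left pt := by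
      intro c x y
      rw [← Scheme.Hom.comp_apply, ← Over.comp_left]
      simp [ψ, comp_lift, comp_lift_assoc]
    have hOc : ∀ c : T ⟶ G, ((ψ c).left ⁻¹' O).Nonempty := by
      intro c
      refine ⟨(lift (lift (w₀ ≫ fst X X) (lift c (w₀ ≫ snd X X) ≫ a.act)) (𝟙 T)).left pt, ?_⟩
      rw [Set.mem_preimage, hψ, ← GrpSchField.act_mul, inv_mul_cancel, GrpSchField.act_one, ← comp_lift,
        lift_fst_snd, Category.comp_id]
      exact hw₀
    have hinter : ∀ S : Set (T ⟶ G), S.Finite →
        IsOpen ((fst (X ⊗ X) T).left ⁻¹' V ∩ ⋂ c ∈ S, (ψ c).left ⁻¹' O) ∧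
        ((fst (X ⊗ X) T).left ⁻¹' V ∩ ⋂ c ∈ S, (ψ c).left ⁻¹' O).Nonempty := by
      intro S hS
      induction S, hS using Set.Finite.induction_on with
      | empty =>
        simp only [Set.mem_empty_iff_false, Set.iInter_of_empty, Set.iInter_univ,
          Set.inter_univ]
        obtain ⟨v, hv⟩ := hVne
        obtain ⟨v', hv'⟩ := (fst (X ⊗ X) T).left.surjective v
        exact ⟨hVo.preimage (fst (X ⊗ X) T).left.continuous, v', by rw [Set.mem_preimage, hv']; exact hv⟩
      | @insert c S _ _ ih =>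
        have ho : IsOpen ((ψ c).left ⁻¹' O) := hOo.preimage (ψ c).left.continuous
        rw [Set.biInter_insert, Set.inter_left_comm]
        exact ⟨ho.inter ih.1, nonempty_preirreducible_inter ho ih.1 (hOc c) ih.2⟩
    obtain ⟨ho, hne⟩ := hinter F hFfin
    obtain ⟨w, hwV, hwO⟩ := exists_point K ho.isLocallyClosed hne
    obtain ⟨x, y, rfl⟩ : ∃ x y : T ⟶ X, w = lift x y :=
      ⟨w ≫ fst X X, w ≫ snd X X, by rw [← comp_lift, lift_fst_snd, Category.comp_id]⟩
    rw [Set.mem_preimage, fst_lift_apply] at hwV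
    obtain ⟨g, hg⟩ := (hR x y).1 (hV hwV)
    obtain ⟨c, hcF, hc⟩ := hcoset g
    have hmem := Set.mem_iInter₂.1 hwO c hcF
    rw [Set.mem_preimage, hψ] at hmem
    refine hmem (subset_closure ((hR0 _ _).2 ⟨c⁻¹ * g, hc, ?_⟩))
    rw [GrpSchField.act_mul, hg]
  have hsurj : Surjective Φ.left → Surjective Φ0.left := by
    intro hs
    haveI : IsDominant Φ0.left := hdom ⟨Function.Surjective.denseRange hs.surj⟩
    obtain ⟨V, hVo, hVne, hV⟩ := hopen G0 Φ0 hfp0 hqc0 inferInstance
    haveI : JacobsonSpace (X ⊗ X).left := LocallyOfFiniteType.jacobsonSpace (X ⊗ X).hom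
    refine GrpSchField.surjective_of_closedPoints Φ0.left fun q hq => ?_
    obtain ⟨w, rfl⟩ := exists_point_closed K hq
    obtain ⟨x, y, rfl⟩ : ∃ x y : T ⟶ X, w = lift x y :=
      ⟨w ≫ fst X X, w ≫ snd X X, by rw [← comp_lift, lift_fst_snd, Category.comp_id]⟩
    obtain ⟨v, hv⟩ := hVne
    obtain ⟨v', hv'⟩ := (fst (X ⊗ X) T).left.surjective v
    obtain ⟨w₁, hw₁⟩ := exists_point K (hVo.preimage (fst (X ⊗ X) T).left.continuous).isLocallyClosed
      ⟨v', show _ ∈ V by rw [hv']; exact hv⟩
    rw [Set.mem_preimage, fst_lift_apply] at hw₁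
    let x₁ := w₁ ≫ fst X X
    let z₁ := w₁ ≫ snd X X
    obtain ⟨g, hg⟩ := (hR x x₁).1 (hs.surj _)
    obtain ⟨h, hh⟩ := (hR y x₁).1 (hs.surj _)
    let ψ : (T ⟶ G) → (X ⊗ T ⟶ X ⊗ X) := fun c =>
      lift (snd X T ≫ x₁) (lift (snd X T ≫ c) (fst X T) ≫ a.act)
    have hψ : ∀ (c : T ⟶ G) (z : T ⟶ X),
        (ψ c).left ((lift z (𝟙 T)).left pt) = (lift x₁ (lift c z ≫ a.act)).left pt := by
      intro c z
      rw [← Scheme.Hom.comp_apply, ← Over.comp_left]
      simp [ψ, comp_lift, comp_lift_assoc]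
      rfl
    have hne : ∀ c : T ⟶ G, ((ψ c).left ⁻¹' V).Nonempty := by
      intro c
      refine ⟨(lift (lift c⁻¹ z₁ ≫ a.act) (𝟙 T)).left pt, ?_⟩
      rw [Set.mem_preimage, hψ, ← GrpSchField.act_mul, mul_inv_cancel, GrpSchField.act_one, ← comp_lift,
        lift_fst_snd, Category.comp_id]
      exact hw₁
    have ho : ∀ c : T ⟶ G, IsOpen ((ψ c).left ⁻¹' V) := fun c => hVo.preimage (ψ c).left.continuous
    obtain ⟨z, hz₁, hz₂⟩ := exists_point K ((ho g).inter (ho h)).isLocallyClosed
      (nonempty_preirreducible_inter (ho g) (ho h) (hne g) (hne h))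
    rw [Set.mem_preimage, hψ] at hz₁ hz₂
    obtain ⟨α, hα, hα'⟩ := (hR0 _ _).1 (hV hz₁)
    obtain ⟨β, hβ, hβ'⟩ := (hR0 _ _).1 (hV hz₂)
    refine (hR0 x y).2 ⟨(h⁻¹ * β⁻¹ * h) * (g⁻¹ * α * g), hNm _ _ ?_ ?_, ?_⟩
    · simpa using hNc h⁻¹ β⁻¹ (hNi β hβ)
    · simpa using hNc g⁻¹ α hα
    · have e1 : lift (g⁻¹ * α * g) x ≫ a.act = z := by
        rw [GrpSchField.act_mul, hg, GrpSchField.act_mul, hα', ← GrpSchField.act_mul, inv_mul_cancel,
          GrpSchField.act_one]
      have e2 : lift (h⁻¹ * β * h) y ≫ a.act = z := by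
        rw [GrpSchField.act_mul, hh, GrpSchField.act_mul, hβ', ← GrpSchField.act_mul, inv_mul_cancel,
          GrpSchField.act_one]
      rw [GrpSchField.act_mul, e1, ← e2, ← GrpSchField.act_mul,
        show h⁻¹ * β⁻¹ * h * (h⁻¹ * β * h) = 1 by group, GrpSchField.act_one]
  refine ⟨⟨hsurj, fun h => ⟨fun q => hsub (h.surj q)⟩⟩, hdom, fun h => ⟨fun q => closure_mono hsub (h.denseRange q)⟩⟩


end Groth.Agent.S14640
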