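import Groth.Statements.S14638
import Groth.Agent.S14640
import Groth.Agent.Lib.Homog14.Basic

set_option autoImplicit false
set_option linter.all false
set_option backward.isDefEq.respectTransparency false
set_option maxHeartbeats 1000000
universe u
open CategoryTheory MonoidalCategory CartesianMonoidalCategory MonObj GrpObj AlgebraicGeometry CategoryTheory.Limits
open AlgGrp
open GrothLib Groth.Agent.S14640

namespace Groth.Agent.S14638

/-- Over a field k, let G be a smooth k-group scheme of finite type acting on a variety X (a separated,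
geometrically integral k-scheme of finite type). Then X is almost homogeneous, i.e. the graph
morphism G × X → X × X, (g, x) ↦ (x, g·x), is dominant, if and only if there is a nonempty open
subscheme U of X which is G-stable (the action restricts to an action on U) and homogeneous (the
graph morphism G × U → U × U is surjective). Moreover there is at most one such open subscheme U
(the open orbit). -/
theorem result (k : Type u) [Field k]
    (G X : Over (Spec (CommRingCat.of k))) [GrpObj G] [Smooth G.hom] [QuasiCompact G.hom]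
    [IsSeparated X.hom] [LocallyOfFiniteType X.hom] [QuasiCompact X.hom] [GeometricallyIntegral X.hom]
    (a : AlgGrp.Action G X) :
    (IsDominant (CartesianMonoidalCategory.lift (CartesianMonoidalCategory.snd G X) a.act).left ↔
      ∃ U : X.left.Opens, (U : Set ↥X.left).Nonempty ∧
        ∃ b : AlgGrp.Action G (Over.mk (U.ι ≫ X.hom)),
          (G ◁ (Over.homMk U.ι rfl : Over.mk (U.ι ≫ X.hom) ⟶ X)) ≫ a.act = b.act ≫ Over.homMk U.ι rfl ∧
          Surjective (CartesianMonoidalCategory.lift (CartesianMonoidalCategory.snd G (Over.mk (U.ι ≫ X.hom))) b.act).left) ∧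
    ∀ U U' : X.left.Opens,
      ((U : Set ↥X.left).Nonempty ∧ ∃ b : AlgGrp.Action G (Over.mk (U.ι ≫ X.hom)),
          (G ◁ (Over.homMk U.ι rfl : Over.mk (U.ι ≫ X.hom) ⟶ X)) ≫ a.act = b.act ≫ Over.homMk U.ι rfl ∧
          Surjective (CartesianMonoidalCategory.lift (CartesianMonoidalCategory.snd G (Over.mk (U.ι ≫ X.hom))) b.act).left) →
      ((U' : Set ↥X.left).Nonempty ∧ ∃ b' : AlgGrp.Action G (Over.mk (U'.ι ≫ X.hom)),
          (G ◁ (Over.homMk U'.ι rfl : Over.mk (U'.ι ≫ X.hom) ⟶ X)) ≫ a.act = b'.act ≫ Over.homMk U'.ι rfl ∧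
          Surjective (CartesianMonoidalCategory.lift (CartesianMonoidalCategory.snd G (Over.mk (U'.ι ≫ X.hom))) b'.act).left) →
      U = U' := by
  classical
  haveI : LocallyOfFiniteType G.hom := inferInstance
  let K := AlgebraicClosure k
  let b₀ : Spec (CommRingCat.of K) ⟶ Spec (CommRingCat.of k) := Spec.map (CommRingCat.ofHom (algebraMap k K))
  let T : Over (Spec (CommRingCat.of k)) := Over.mk b₀
  let pt : Spec (CommRingCat.of K) := IsLocalRing.closedPoint K
  let Φ : G ⊗ X ⟶ X ⊗ X := lift (snd G X) a.act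
  -- irreducibility
  haveI : Flat X.hom := GrothLib.AlgSp.flat_to_field X.hom
  haveI : UniversallyOpen X.hom := GrothLib.AlgSp.universallyOpen_to_field X.hom
  haveI hXT : IrreducibleSpace (X ⊗ T).left := by
    haveI : IrreducibleSpace T.left := inferInstanceAs (IrreducibleSpace (PrimeSpectrum K))
    exact inferInstanceAs (IrreducibleSpace ↥(Limits.pullback X.hom b₀))
  haveI : IrreducibleSpace (X ⊗ (X ⊗ T)).left :=
    inferInstanceAs (IrreducibleSpace ↥(Limits.pullback X.hom (X ⊗ T).hom))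
  haveI hXXT : IrreducibleSpace ((X ⊗ X) ⊗ T).left := by
    have hs : Function.Surjective (α_ X X T).inv.left := fun v => ⟨(α_ X X T).hom.left v, by
      rw [← Scheme.Hom.comp_apply, ← Over.comp_left, Iso.hom_inv_id]; rfl⟩
    exact hs.irreducibleSpace (α_ X X T).inv.left.continuous
  haveI hsT : Surjective (fst (X ⊗ X) T).left := surjective_fst K (X ⊗ X)
  haveI hsX : Surjective (fst X T).left := surjective_fst K X
  haveI hXX : IrreducibleSpace (X ⊗ X).left :=
    hsT.surj.irreducibleSpace (fst (X ⊗ X) T).left.continuous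
  haveI hX : IrreducibleSpace X.left :=
    hsX.surj.irreducibleSpace (fst X T).left.continuous
  haveI htens : ∀ (A B : Over (Spec (CommRingCat.of k))) [LocallyOfFiniteType A.hom] [LocallyOfFiniteType B.hom],
      LocallyOfFiniteType (A ⊗ B).hom := by
    intro A B _ _
    rw [← Over.w (fst A B)]
    haveI : LocallyOfFiniteType (fst A B).left :=
      MorphismProperty.pullback_fst (P := @LocallyOfFiniteType) A.hom B.hom ‹_›
    infer_instance
  haveI hqtens : ∀ (A B : Over (Spec (CommRingCat.of k))) [QuasiCompact A.hom] [QuasiCompact B.hom],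
      QuasiCompact (A ⊗ B).hom := by
    intro A B _ _
    rw [← Over.w (fst A B)]
    haveI : QuasiCompact (fst A B).left :=
      MorphismProperty.pullback_fst (P := @QuasiCompact) A.hom B.hom ‹_›
    infer_instance
  haveI hstens : ∀ (A B : Over (Spec (CommRingCat.of k))) [IsSeparated A.hom] [IsSeparated B.hom],
      IsSeparated (A ⊗ B).hom := by
    intro A B _ _
    rw [← Over.w (fst A B)]
    haveI : IsSeparated (fst A B).left :=
      MorphismProperty.pullback_fst (P := @IsSeparated) A.hom B.hom ‹_›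
    infer_instance
  haveI : IsLocallyNoetherian X.left := LocallyOfFiniteType.isLocallyNoetherian X.hom
  have props : ∀ {A B : Over (Spec (CommRingCat.of k))} [LocallyOfFiniteType A.hom] [QuasiCompact A.hom]
      [LocallyOfFiniteType B.hom] [IsSeparated B.hom] (φ : A ⟶ B),
      LocallyOfFinitePresentation φ.left ∧ QuasiCompact φ.left := by
    intro A B _ _ _ _ φ
    haveI : LocallyOfFiniteType (φ.left ≫ B.hom) := by rw [Over.w]; infer_instance
    haveI : LocallyOfFiniteType φ.left := locallyOfFiniteType_of_comp φ.left B.hom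
    haveI : QuasiCompact (φ.left ≫ B.hom) := by rw [Over.w]; infer_instance
    haveI : IsLocallyNoetherian B.left := LocallyOfFiniteType.isLocallyNoetherian B.hom
    exact ⟨GrpSchField.lfp_of_isLocallyNoetherian φ.left, QuasiCompact.of_comp φ.left B.hom⟩
  -- facts about homogeneous stable opens
  have facts : ∀ (U : X.left.Opens) (b : AlgGrp.Action G (Over.mk (U.ι ≫ X.hom))),
      (G ◁ (Over.homMk U.ι rfl : Over.mk (U.ι ≫ X.hom) ⟶ X)) ≫ a.act = b.act ≫ Over.homMk U.ι rfl →
      Surjective (lift (snd G (Over.mk (U.ι ≫ X.hom))) b.act).left →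
      (∀ q : ↥(G ⊗ X).left, (snd G X).left q ∈ U → a.act.left q ∈ U) ∧
      (∀ z : ↥(X ⊗ X).left, (fst X X).left z ∈ U → (snd X X).left z ∈ U → z ∈ Set.range Φ.left) := by
    intro U b hb hs
    let U₀ : Over (Spec (CommRingCat.of k)) := Over.mk (U.ι ≫ X.hom)
    let j : U₀ ⟶ X := Over.homMk U.ι rfl
    have hmem : ∀ v : U₀.left, j.left v ∈ U := fun v => v.2
    refine ⟨fun q hq => ?_, fun z hz₁ hz₂ => ?_⟩
    · obtain ⟨r, rfl⟩ := GenSubgrp14.range_lift_snd G j q ⟨_, hq⟩ rfl
      rw [← Scheme.Hom.comp_apply, ← Over.comp_left, hb, Over.comp_left, Scheme.Hom.comp_apply]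
      exact hmem _
    · obtain ⟨r, rfl⟩ := GenSubgrp14.range_lift_fst X j z ⟨_, hz₁⟩ rfl
      rw [← Scheme.Hom.comp_apply, ← Over.comp_left, whiskerRight_snd] at hz₂
      obtain ⟨r', rfl⟩ := GenSubgrp14.range_lift_snd U₀ j r ⟨_, hz₂⟩ rfl
      obtain ⟨q, rfl⟩ := hs.surj r'
      refine ⟨(G ◁ j).left q, ?_⟩
      have e : (G ◁ j) ≫ Φ = lift (snd G U₀) b.act ≫ (U₀ ◁ j) ≫ (j ▷ X) := by
        apply CartesianMonoidalCategory.hom_ext
        · simp [Φ]
        · simpa [Φ] using hb
      simp only [← Scheme.Hom.comp_apply, ← Over.comp_left, Category.assoc]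
      rw [e]
      rfl
  refine ⟨⟨fun hd => ?_, ?_⟩, ?_⟩
  rotate_left
  · rintro ⟨U, ⟨u, hu⟩, b, hb, hs⟩
    let O : Set (X ⊗ X).left := (fst X X).left ⁻¹' (U : Set X.left) ∩ (snd X X).left ⁻¹' (U : Set X.left)
    have hO : IsOpen O := (U.2.preimage (fst X X).left.continuous).inter (U.2.preimage (snd X X).left.continuous)
    have hOne : O.Nonempty := by
      obtain ⟨w, hw₁, hw₂⟩ := Scheme.Pullback.exists_preimage_pullback (f := X.hom) (g := X.hom) u u rfl
      exact ⟨w, show (fst X X).left w ∈ U by rw [show (fst X X).left w = u from hw₁]; exact hu,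
        show (snd X X).left w ∈ U by rw [show (snd X X).left w = u from hw₂]; exact hu⟩
    exact ⟨(hO.dense hOne).mono fun z hz => (facts U b hb hs).2 z hz.1 hz.2⟩
  · rintro U U' ⟨hne, b, hb, hs⟩ ⟨hne', b', hb', hs'⟩
    have key : ∀ (U U' : X.left.Opens), (U : Set X.left).Nonempty → (U' : Set X.left).Nonempty →
        (∀ z : ↥(X ⊗ X).left, (fst X X).left z ∈ U → (snd X X).left z ∈ U → z ∈ Set.range Φ.left) →
        (∀ q : ↥(G ⊗ X).left, (snd G X).left q ∈ U' → a.act.left q ∈ U') → U ≤ U' := by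
      intro U U' hne hne' hU hU' u hu
      obtain ⟨w, hw, hw'⟩ := nonempty_preirreducible_inter U.2 U'.2 hne hne'
      obtain ⟨z, hz₁, hz₂⟩ := Scheme.Pullback.exists_preimage_pullback (f := X.hom) (g := X.hom) w u
        (Subsingleton.elim (α := PrimeSpectrum k) _ _)
      have hz₁' : (fst X X).left z = w := hz₁
      have hz₂' : (snd X X).left z = u := hz₂
      obtain ⟨q, hq⟩ := hU z (by rw [hz₁']; exact hw) (by rw [hz₂']; exact hu)
      have h1 : (snd G X).left q = w := by
        rw [← hz₁', ← hq, ← Scheme.Hom.comp_apply, ← Over.comp_left, lift_fst]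
      have h2 : a.act.left q = u := by
        rw [← hz₂', ← hq, ← Scheme.Hom.comp_apply, ← Over.comp_left, lift_snd]
      exact h2 ▸ hU' q (by rw [h1]; exact hw')
    exact le_antisymm (key U U' hne hne' (facts U b hb hs).2 (facts U' b' hb' hs').1)
      (key U' U hne' hne (facts U' b' hb' hs').2 (facts U b hb hs).1)
  -- construction of the open orbit
  obtain ⟨hfp, hqc⟩ := props Φ
  haveI := hfp; haveI := hqc
  let V : Set (X ⊗ X).left := interior (Set.range Φ.left)
  have hVne : V.Nonempty := by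
    have hc : Topology.IsLocallyConstructible (Set.range Φ.left) := by
      rw [← Set.image_univ]
      exact Φ.left.isLocallyConstructible_image .univ
    exact (GenSubgrp14.dense_interior hc hd.denseRange).nonempty
  let W₀ : Set X.left := (fst X X).left '' V
  have hW₀ : IsOpen W₀ := GenSubgrp14.isOpenMap_fst X X _ isOpen_interior
  haveI : UniversallyOpen a.act.left := Homog14.universallyOpen_act a
  let U : X.left.Opens := ⟨a.act.left '' ((snd G X).left ⁻¹' W₀),
    a.act.left.isOpenMap _ (hW₀.preimage (snd G X).left.continuous)⟩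
  have hWU : W₀ ⊆ U := fun w hw => ⟨(lift (1 : X ⟶ G) (𝟙 X)).left w, by
    show (snd G X).left _ ∈ W₀
    rw [← Scheme.Hom.comp_apply, ← Over.comp_left, lift_snd]
    exact hw, by
    rw [← Scheme.Hom.comp_apply, ← Over.comp_left, GrpSchField.act_one]
    rfl⟩
  have hstab : ∀ q : ↥(G ⊗ X).left, (snd G X).left q ∈ U → a.act.left q ∈ U := by
    rintro q ⟨r, hr, hrq⟩
    obtain ⟨m, hm₁, hm₂⟩ := Scheme.exists_preimage_of_isPullback
      (GrothLib.GrpSchField.whiskerLeft_snd_isPullback G a.act) q r hrq.symm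
    refine ⟨((α_ G G X).inv ≫ μ[G] ▷ X).left m, ?_, ?_⟩
    · show (snd G X).left _ ∈ W₀
      rw [← Scheme.Hom.comp_apply, ← Over.comp_left, Category.assoc, whiskerRight_snd, associator_inv_snd,
        Over.comp_left, Scheme.Hom.comp_apply, hm₂]
      exact hr
    · rw [← Scheme.Hom.comp_apply, ← Over.comp_left, Category.assoc, a.mul_act, Iso.inv_hom_id_assoc,
        Over.comp_left, Scheme.Hom.comp_apply, hm₁]
  let U₀ : Over (Spec (CommRingCat.of k)) := Over.mk (U.ι ≫ X.hom)
  let j : U₀ ⟶ X := Over.homMk U.ι rfl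
  haveI : IsOpenImmersion j.left := inferInstanceAs (IsOpenImmersion U.ι)
  haveI : Mono j := by
    haveI : Mono j.left := inferInstance
    exact Over.mono_of_mono_left j
  have hjr : Set.range j.left = (U : Set X.left) := Scheme.Opens.range_ι U
  have hsub : Set.range ((G ◁ j) ≫ a.act).left ⊆ Set.range j.left := by
    rintro _ ⟨v, rfl⟩
    rw [hjr, Over.comp_left, Scheme.Hom.comp_apply]
    refine hstab _ ?_
    rw [← Scheme.Hom.comp_apply, ← Over.comp_left, whiskerLeft_snd, Over.comp_left, Scheme.Hom.comp_apply]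
    exact hjr.le ⟨_, rfl⟩
  let bact : G ⊗ U₀ ⟶ U₀ := Over.homMk (IsOpenImmersion.lift j.left ((G ◁ j) ≫ a.act).left hsub) (by
    rw [← Over.w j, IsOpenImmersion.lift_fac_assoc]
    exact Over.w _)
  have hbact : bact ≫ j = (G ◁ j) ≫ a.act := Over.OverMorphism.ext (IsOpenImmersion.lift_fac _ _ _)
  have hone : (η[G] ▷ U₀) ≫ bact = (λ_ U₀).hom := by
    rw [← cancel_mono j, Category.assoc, hbact, ← whisker_exchange_assoc, a.one_act, leftUnitor_naturality]
  have hmul : (μ[G] ▷ U₀) ≫ bact = (α_ G G U₀).hom ≫ (G ◁ bact) ≫ bact := by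
    rw [← cancel_mono j, Category.assoc, Category.assoc, Category.assoc, hbact, ← whisker_exchange_assoc, a.mul_act,
      ← whiskerLeft_comp_assoc, hbact, whiskerLeft_comp_assoc, ← associator_naturality_right_assoc]
  let b : AlgGrp.Action G U₀ := ⟨bact, hone, hmul⟩
  obtain ⟨v₀, hv₀⟩ := hVne
  refine ⟨U, ⟨_, hWU ⟨v₀, hv₀, rfl⟩⟩, b, hbact.symm, ?_⟩
  haveI : LocallyOfFiniteType U₀.hom := inferInstanceAs (LocallyOfFiniteType (U.ι ≫ X.hom))
  haveI : QuasiCompact U₀.hom := inferInstanceAs (QuasiCompact (U.ι ≫ X.hom))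
  haveI : IsSeparated U₀.hom := inferInstanceAs (IsSeparated (U.ι ≫ X.hom))
  let Φb : G ⊗ U₀ ⟶ U₀ ⊗ U₀ := lift (snd G U₀) b.act
  obtain ⟨hfpb, hqcb⟩ := props Φb
  haveI := hfpb; haveI := hqcb
  haveI : JacobsonSpace (U₀ ⊗ U₀).left := LocallyOfFiniteType.jacobsonSpace (U₀ ⊗ U₀).hom
  refine GrpSchField.surjective_of_closedPoints Φb.left fun q hq => ?_
  obtain ⟨w, rfl⟩ := exists_point_closed K hq
  let x := w ≫ fst U₀ U₀
  let y := w ≫ snd U₀ U₀
  -- each point of the open is a translate of a point of the small open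
  have hsplit : ∀ u : T ⟶ U₀, ∃ (g : T ⟶ G) (u₁ : T ⟶ X),
      u₁.left pt ∈ W₀ ∧ lift g u₁ ≫ a.act = u ≫ j := by
    intro u
    let O : (G ⊗ X).left.Opens := ⟨(snd G X).left ⁻¹' W₀, hW₀.preimage (snd G X).left.continuous⟩
    let O₀ : Over (Spec (CommRingCat.of k)) := Over.mk (O.ι ≫ (G ⊗ X).hom)
    let o : O₀ ⟶ G ⊗ X := Over.homMk O.ι rfl
    haveI : LocallyOfFiniteType O₀.hom := inferInstanceAs (LocallyOfFiniteType (O.ι ≫ (G ⊗ X).hom))
    have hu : (u ≫ j).left pt ∈ U := by
      rw [Over.comp_left, Scheme.Hom.comp_apply]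
      exact hjr.le ⟨_, rfl⟩
    obtain ⟨r, hr, hrq⟩ := hu
    obtain ⟨v, hv⟩ := exists_lift_pt K (o ≫ a.act) (u ≫ j) ⟨⟨r, hr⟩, hrq⟩
    refine ⟨(v ≫ o) ≫ fst G X, (v ≫ o) ≫ snd G X, ?_, ?_⟩
    · rw [Over.comp_left, Over.comp_left, Scheme.Hom.comp_apply, Scheme.Hom.comp_apply]
      exact (v.left pt).2
    · rw [← comp_lift, lift_fst_snd, Category.comp_id, Category.assoc, hv]
  obtain ⟨g, x₁, hx₁, hgx⟩ := hsplit x
  obtain ⟨h, y₁, hy₁, hhy⟩ := hsplit y
  let ψ : (T ⟶ X) → (X ⊗ T ⟶ X ⊗ X) := fun u => (β_ X T).hom ≫ (u ▷ X)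
  have hψ : ∀ u z : T ⟶ X, (ψ u).left ((lift z (𝟙 T)).left pt) = (lift u z).left pt := by
    intro u z
    rw [← Scheme.Hom.comp_apply, ← Over.comp_left]
    have e : lift z (𝟙 T) ≫ ψ u = lift u z := by
      apply CartesianMonoidalCategory.hom_ext <;> simp [ψ]
    rw [e]
  have hne : ∀ u : T ⟶ X, u.left pt ∈ W₀ → ((ψ u).left ⁻¹' V).Nonempty := by
    rintro u ⟨v, hv, hvu⟩
    obtain ⟨r, rfl⟩ := GenSubgrp14.range_lift_fst X u v pt hvu
    refine ⟨(β_ T X).hom.left r, ?_⟩
    rw [Set.mem_preimage, ← Scheme.Hom.comp_apply, ← Over.comp_left, SymmetricCategory.symmetry_assoc]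
    exact hv
  have ho : ∀ u : T ⟶ X, IsOpen ((ψ u).left ⁻¹' V) := fun u => isOpen_interior.preimage (ψ u).left.continuous
  obtain ⟨z, hz₁, hz₂⟩ := exists_point K ((ho x₁).inter (ho y₁)).isLocallyClosed
    (nonempty_preirreducible_inter (ho x₁) (ho y₁) (hne x₁ hx₁) (hne y₁ hy₁))
  rw [Set.mem_preimage, hψ] at hz₁ hz₂
  have hR : ∀ u u' : T ⟶ X, (lift u u').left pt ∈ V → ∃ c : T ⟶ G, lift c u ≫ a.act = u' := by
    intro u u' hu
    obtain ⟨v, hv⟩ := exists_lift_pt K Φ (lift u u') (interior_subset hu)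
    have h1 := congrArg (· ≫ fst X X) hv
    have h2 := congrArg (· ≫ snd X X) hv
    simp only [Φ, Category.assoc, lift_fst, lift_snd] at h1 h2
    refine ⟨v ≫ fst G X, ?_⟩
    have : lift (v ≫ fst G X) u = v := CartesianMonoidalCategory.hom_ext _ _ (by simp) (by simp [h1])
    rw [this, h2]
  obtain ⟨α, hα⟩ := hR _ _ hz₁
  obtain ⟨β, hβ⟩ := hR _ _ hz₂
  refine ⟨(lift (h * (β⁻¹ * (α * g⁻¹))) x).left pt, ?_⟩
  have e : lift (h * (β⁻¹ * (α * g⁻¹))) x ≫ Φb = w := by
    have e1 : lift g⁻¹ (x ≫ j) ≫ a.act = x₁ := by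
      rw [← hgx, ← GrpSchField.act_mul, inv_mul_cancel, GrpSchField.act_one]
    have e2 : lift β⁻¹ z ≫ a.act = y₁ := by
      rw [← hβ, ← GrpSchField.act_mul, inv_mul_cancel, GrpSchField.act_one]
    apply CartesianMonoidalCategory.hom_ext
    · simp [Φb, x]
    · rw [Category.assoc, lift_snd, ← cancel_mono j, Category.assoc]
      show lift _ x ≫ bact ≫ j = y ≫ j
      rw [hbact, lift_whiskerLeft_assoc, GrpSchField.act_mul, GrpSchField.act_mul, GrpSchField.act_mul, e1, hα, e2, hhy]
  rw [← Scheme.Hom.comp_apply, ← Over.comp_left, e]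


end Groth.Agent.S14638
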