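import Groth.Statements.S14639

-- import your own Groth.Agent.* helpers here

set_option autoImplicit false
universe u
open Polynomial
open AlgGrp

namespace Groth.Agent.S14639

section
open Polynomial
variable {k : Type u} [Field k]

local notation "R" N => AdjoinRoot ((Polynomial.X : Polynomial k) ^ (N + 1))

theorem root_pow_eq_zero (N : ℕ) : (AdjoinRoot.root ((X : k[X]) ^ (N + 1))) ^ (N + 1) = 0 := by
  have h := AdjoinRoot.aeval_eq (f := (X : k[X]) ^ (N + 1)) ((X : k[X]) ^ (N + 1))
  rw [AdjoinRoot.mk_self, map_pow, aeval_X] at h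
  exact h

theorem decomp (N : ℕ) (x : R N) : ∃ (c : k) (w : R N), x = algebraMap k (R N) c + AdjoinRoot.root _ * w := by
  obtain ⟨p, rfl⟩ := AdjoinRoot.mk_surjective x
  refine ⟨p.coeff 0, AdjoinRoot.mk _ p.divX, ?_⟩
  conv_lhs => rw [← X_mul_divX_add p]
  rw [map_add, map_mul, AdjoinRoot.mk_X, AdjoinRoot.mk_C, AdjoinRoot.algebraMap_eq]
  ring


theorem exists_sigma (N : ℕ) : ∃ (σ : (R N) →ₐ[k] (R N)) (e : R N), e * (1 + AdjoinRoot.root _) = 1 ∧
    σ (AdjoinRoot.root _) = AdjoinRoot.root _ * e ∧ ∀ x, ∃ t, σ x = x + AdjoinRoot.root _ ^ 2 * t := by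
  have hnil : IsNilpotent (AdjoinRoot.root ((X : k[X]) ^ (N + 1))) := ⟨N + 1, root_pow_eq_zero N⟩
  obtain ⟨e, he⟩ := (hnil.isUnit_one_add).exists_left_inv
  have h0 : (X ^ (N + 1) : k[X]).eval₂ ((Algebra.ofId k (R N)).toRingHom) (AdjoinRoot.root _ * e) = 0 := by
    rw [eval₂_X_pow, mul_pow, root_pow_eq_zero, zero_mul]
  have hσu := AdjoinRoot.liftAlgHom_root ((X : k[X]) ^ (N + 1)) (Algebra.ofId k (R N)) _ h0
  refine ⟨AdjoinRoot.liftAlgHom _ (Algebra.ofId k (R N)) _ h0, e, he, hσu, fun x => ?_⟩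
  obtain ⟨p, rfl⟩ := AdjoinRoot.mk_surjective x
  obtain ⟨q, hq⟩ := sub_dvd_eval_sub (AdjoinRoot.root _ * e) (AdjoinRoot.root ((X : k[X]) ^ (N + 1))) (p.map (algebraMap k (R N)))
  rw [eval_map_algebraMap, eval_map_algebraMap] at hq
  refine ⟨-e * q, ?_⟩
  rw [← AdjoinRoot.aeval_eq, ← aeval_algHom_apply, hσu]
  linear_combination hq + AdjoinRoot.root _ * q * he

variable {Q : Type u} [CommRing Q] [Algebra k Q] (u : Q)
variable (N : ℕ) (hu : u ^ (N + 1) = 0) (hdec : ∀ x : Q, ∃ (c : k) (w : Q), x = algebraMap k Q c + u * w)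
variable (hσ : ∃ (σ : Q →ₐ[k] Q) (e : Q), e * (1 + u) = 1 ∧ σ u = u * e ∧ ∀ x, ∃ t, σ x = x + u ^ 2 * t)

include hu hdec in
theorem leading (x : Q) (hx : x ≠ 0) :
    ∃ (m : ℕ) (c : k) (w : Q), m ≤ N ∧ c ≠ 0 ∧
      x = u ^ m * (algebraMap k Q c + u * w) := by
  have key : ∀ d m, N + 1 - m = d → ∀ y : Q, u ^ m * y ≠ 0 →
      ∃ (m' : ℕ) (c : k) (w : Q), m' ≤ N ∧ c ≠ 0 ∧
      u ^ m * y = u ^ m' * (algebraMap k Q c + u * w) := by
    intro d
    induction d with
    | zero =>
      intro m hm y hy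
      refine absurd ?_ hy
      rw [show m = N + 1 + (m - (N + 1)) by omega, pow_add, hu, zero_mul, zero_mul]
    | succ d ih =>
      intro m hm y hy
      obtain ⟨c, w, rfl⟩ := hdec y
      by_cases hc : c = 0
      · subst hc
        have e : u ^ m * (algebraMap k Q 0 + u * w) =
            u ^ (m + 1) * w := by rw [map_zero, zero_add, pow_succ, _root_.mul_assoc]
        rw [e] at hy ⊢
        exact ih (m + 1) (by omega) w hy
      · exact ⟨m, c, w, by omega, hc, rfl⟩
  have h := key (N + 1) 0 rfl x (by rwa [pow_zero, _root_.one_mul])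
  rwa [pow_zero, _root_.one_mul] at h

include hσ in
theorem step (A : Subalgebra k Q)
    (hA : ∀ (a : k) (σ : Q →ₐ[k] Q),
      σ (u) * (1 + algebraMap k Q a * u) = u →
        A.map σ ≤ A) (m : ℕ) (c : k) (w : Q)
    (hf : u ^ m * (algebraMap k Q c + u * w) ∈ A) :
    ∃ w', u ^ (m + 1) * (algebraMap k Q (-(m : k) * c) + u * w') ∈ A := by
  obtain ⟨σ, e, he, hσu, ht⟩ := hσ
  have hmem := hA 1 σ (by rw [hσu, map_one, _root_.one_mul, _root_.mul_assoc, he, _root_.mul_one])
    (Subalgebra.mem_map.mpr ⟨_, hf, rfl⟩)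
  obtain ⟨t', ht'⟩ := ht (u * w)
  have hem : ∀ j : ℕ, ∃ t, e ^ j = 1 - (j : Q) * u + u ^ 2 * t := by
    intro j
    induction j with
    | zero => exact ⟨0, by simp⟩
    | succ j ih =>
      obtain ⟨t, ht⟩ := ih
      refine ⟨(j : Q) * e + e + t * e, ?_⟩
      rw [pow_succ, ht]
      push_cast
      linear_combination (1 - ((j : Q) + 1) * u) * he
  obtain ⟨t, ht⟩ := hem m
  refine ⟨-(m : Q) * w + t * (algebraMap k Q c + u * w) + e ^ m * t', ?_⟩
  have hsub := A.sub_mem hmem hf
  convert hsub using 1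
  show _ = σ _ - _
  rw [map_mul σ, map_pow σ, map_add σ, AlgHom.commutes, ht', hσu, map_mul (algebraMap k Q), map_neg, map_natCast, mul_pow]
  linear_combination (-(u ^ m * (algebraMap k Q c + u * w))) * ht

include hu hdec hσ in
theorem main [CharZero k] (A : Subalgebra k Q)
    (hA : ∀ (a : k) (σ : Q →ₐ[k] Q),
      σ (u) * (1 + algebraMap k Q a * u) = u →
        A.map σ ≤ A) :
    ∃ n : ℕ, 1 ≤ n ∧ n ≤ N + 1 ∧
      Subalgebra.toSubmodule A =
        Submodule.span k {1} ⊔ (Ideal.span {u ^ n}).restrictScalars k := by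
  classical
  let P : ℕ → Prop := fun m => 1 ≤ m ∧
    (m = N + 1 ∨ ∃ c : k, c ≠ 0 ∧ ∃ w, u ^ m * (algebraMap k Q c + u * w) ∈ A)
  have hex : ∃ m, P m := ⟨N + 1, Nat.le_add_left 1 N, Or.inl rfl⟩
  set n := Nat.find hex with hn
  obtain ⟨hn1, hnP⟩ := Nat.find_spec hex
  have hnle : n ≤ N + 1 := Nat.find_min' hex ⟨Nat.le_add_left 1 N, Or.inl rfl⟩
  have hup : ∀ j, n ≤ j → j ≤ N → ∃ c : k, c ≠ 0 ∧ ∃ w, u ^ j * (algebraMap k Q c + u * w) ∈ A := by
    intro j hj
    induction j, hj using Nat.le_induction with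
    | base => exact fun hN => hnP.resolve_left (by omega)
    | succ j hj ih =>
      intro hjN
      obtain ⟨c, hc, w, hw⟩ := ih (by omega)
      have hj0 : (j : k) ≠ 0 := Nat.cast_ne_zero.mpr (by omega)
      exact ⟨_, mul_ne_zero (neg_ne_zero.mpr hj0) hc, step u hσ A hA j c w hw⟩
  have hin : ∀ d j, N + 1 - j = d → n ≤ j → ∀ x, u ^ j * x ∈ A := by
    intro d
    induction d with
    | zero =>
      intro j hj _ x
      rw [show j = N + 1 + (j - (N + 1)) by omega, pow_add, hu, zero_mul, zero_mul]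
      exact A.zero_mem
    | succ d ih =>
      intro j hj hnj x
      obtain ⟨c, hc, w, hw⟩ := hup j hnj (by omega)
      obtain ⟨c', x', rfl⟩ := hdec x
      have h1 := A.mul_mem (A.algebraMap_mem (c' / c)) hw
      have h2 := ih (j + 1) (by omega) (by omega) (x' - algebraMap k Q (c' / c) * w)
      convert A.add_mem h1 h2 using 1
      have e : algebraMap k Q c' = algebraMap k Q (c' / c) * algebraMap k Q c := by
        rw [← map_mul, div_mul_cancel₀ _ hc]
      rw [e, pow_succ]
      ring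
  refine ⟨n, hn1, hnle, le_antisymm ?_ (sup_le ?_ ?_)⟩
  · intro f hf
    obtain ⟨c, w, hcw⟩ := hdec f
    rw [hcw]
    refine Submodule.add_mem_sup (Submodule.mem_span_singleton.mpr ⟨c, by rw [Algebra.smul_def, _root_.mul_one]⟩) ?_
    rw [Submodule.restrictScalars_mem, Ideal.mem_span_singleton]
    have hg : u * w ∈ A := by
      have := A.sub_mem hf (A.algebraMap_mem c)
      rwa [hcw, add_sub_cancel_left] at this
    by_cases hw : u * w = 0
    · rw [hw]; exact dvd_zero _
    obtain ⟨m, c', w', hm, hc', hmw⟩ := leading u N hu hdec _ hw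
    rw [hmw] at hg ⊢
    refine (pow_dvd_pow u (Nat.find_min' hex ⟨?_, Or.inr ⟨c', hc', w', hg⟩⟩)).mul_right _
    by_contra h
    obtain rfl : m = 0 := by omega
    rw [pow_zero, _root_.one_mul] at hmw
    have hnil : IsNilpotent u := ⟨N + 1, hu⟩
    have hunit : IsUnit (algebraMap k Q c') := (Ne.isUnit hc').map _
    have h3 : IsNilpotent (algebraMap k Q c') := by
      rw [show algebraMap k Q c' = u * (w - w') by linear_combination -hmw]
      exact (Commute.all _ _).isNilpotent_mul_right hnil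
    haveI : Nontrivial Q := ⟨⟨_, 0, hw⟩⟩
    exact h3.not_isUnit hunit
  · rw [Submodule.span_le, Set.singleton_subset_iff]
    exact A.one_mem
  · intro f hf
    rw [Submodule.restrictScalars_mem, Ideal.mem_span_singleton] at hf
    obtain ⟨y, rfl⟩ := hf
    exact hin _ n rfl le_rfl y

end


/-- Classification of the subalgebras of a truncated polynomial ring that are stable under the unipotent
substitutions, which is the algebraic step behind the classification of curves almost homogeneous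
under the additive group in characteristic zero. Let k be a field of characteristic zero, N ≥ 0 and
R = k[u]/(u^(N+1)). The additive group acts on R through the substitutions u ↦ u/(1 + a u), a in k.
If A is a k-subalgebra of R stable under all these substitutions (stated for every k-algebra
endomorphism σ of R with σ(u)(1 + a u) = u for some a in k), then there is an integer n with 1 ≤ n ≤
N + 1 such that A = k ⊕ (u^n): as a k-subspace, A is the span of 1 plus the ideal generated by u^n.
(In positive characteristic p and for N ≥ p + 1, the subalgebra generated by u^p is stable and not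
of this form.) -/
theorem result (k : Type u) [Field k] [CharZero k]
    (N : ℕ) (A : Subalgebra k (AdjoinRoot ((Polynomial.X : Polynomial k) ^ (N + 1))))
    (hA : ∀ (a : k) (σ : AdjoinRoot ((Polynomial.X : Polynomial k) ^ (N + 1)) →ₐ[k] AdjoinRoot ((Polynomial.X : Polynomial k) ^ (N + 1))),
      σ (AdjoinRoot.root ((Polynomial.X : Polynomial k) ^ (N + 1))) * (1 + algebraMap k (AdjoinRoot ((Polynomial.X : Polynomial k) ^ (N + 1))) a * AdjoinRoot.root ((Polynomial.X : Polynomial k) ^ (N + 1))) = AdjoinRoot.root ((Polynomial.X : Polynomial k) ^ (N + 1)) →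
        A.map σ ≤ A) :
    ∃ n : ℕ, 1 ≤ n ∧ n ≤ N + 1 ∧
      Subalgebra.toSubmodule A =
        Submodule.span k {1} ⊔ (Ideal.span {AdjoinRoot.root ((Polynomial.X : Polynomial k) ^ (N + 1)) ^ n}).restrictScalars k := by
  exact main _ N (root_pow_eq_zero N) (decomp N) (exists_sigma N) A hA


end Groth.Agent.S14639
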