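import Groth.Statements.S1464
import Groth.Agent.Lib.Approx6.Stage
import Groth.Agent.Lib.FibreDim6.Affine
-- import your own Groth.Agent.* helpers here

set_option autoImplicit false
universe u
open FlatMor

namespace Groth.Agent.S1464

open AlgebraicGeometry CategoryTheory Limits in
/-- Let f : X → S be a morphism of finite presentation between affine schemes all of whose fibres have
dimension d. Then f is the base change of a morphism of finite type f₀ : X₀ → S₀ between affine
schemes with S₀ of finite type over ℤ, where f₀ can be chosen with the same property. -/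
theorem result {X S : Scheme.{u}} (f : X ⟶ S) [IsAffine X] [IsAffine S] [LocallyOfFinitePresentation f] (d : ℕ) (hd : ∀ s : S, topologicalKrullDim ↑(f.fiber s) = d) :
    ∃ (X₀ S₀ : Scheme.{u}) (f₀ : X₀ ⟶ S₀) (g : S ⟶ S₀) (g' : X ⟶ X₀), IsAffine X₀ ∧ IsAffine S₀ ∧ IsPullback g' f f₀ g ∧
      Algebra.FiniteType ℤ Γ(S₀, ⊤) ∧ LocallyOfFiniteType f₀ ∧ ∀ s₀ : S₀, topologicalKrullDim ↑(f₀.fiber s₀) = d := by
  refine GrothLib.Approx6.noetherian_approximation_of_constructible
    (fun f s => topologicalKrullDim ↑(f.fiber s) = d)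
    (fun h y => by rw [GrothLib.FibreBC.topologicalKrullDim_fiber h y]) (fun A B _ _ _ _ _ => ?_) f hd
  have key : {p : PrimeSpectrum A | topologicalKrullDim
      ↑((Spec.map (CommRingCat.ofHom (algebraMap A B))).fiber p) = d} =
      (fun p : PrimeSpectrum A => ringKrullDim (p.asIdeal.Fiber B)) ⁻¹' {(d : WithBot ℕ∞)} :=
    Set.ext fun p => Eq.congr_left (GrothLib.FibreDim6.dim_fiber_Spec A B p)
  have h := (GrothLib.FibreDim6.constructible_fiber_dim_noetherian A B).1 d
  rw [← key] at h
  exact h

end Groth.Agent.S1464
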