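import Groth.Statements.S14641
import Mathlib.AlgebraicGeometry.Sites.Fpqc
import Mathlib.AlgebraicGeometry.Noetherian
-- import your own Groth.Agent.* helpers here

set_option autoImplicit false
universe u
open CategoryTheory MonoidalCategory CartesianMonoidalCategory MonObj GrpObj AlgebraicGeometry CategoryTheory.Limits
open AlgGrp

open Limits

namespace Groth.Agent.S14641

/-- Over a field k, let G be a k-group scheme of finite type, i : H → G a closed subgroup scheme, and
(Q, o) the quotient G/H: a k-scheme with a G-action and a rational point o exhibiting it as the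
quotient (orbit map flat and surjective, G × H ≅ G ×_Q G). Let n : N → G be a closed subgroup scheme
which is the kernel of the action of G on Q, i.e. for every k-scheme T, a T-point g of G factors
through N exactly when g acts as the identity on Q_T (on all points of Q over T-schemes). Then N is
normal in G and contained in H, and N is the largest such subgroup: every closed subgroup scheme N'
of G which is normal in G and factors through H factors through N. -/
theorem result (k : Type u) [Field k]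
    (G H Q N : Over (Spec (CommRingCat.of k))) [GrpObj G] [LocallyOfFiniteType G.hom] [QuasiCompact G.hom]
    [GrpObj H] (i : H ⟶ G) [IsMonHom i] [IsClosedImmersion i.left]
    (a : AlgGrp.Action G Q) (o : 𝟙_ (Over (Spec (CommRingCat.of k))) ⟶ Q) (hQ : AGF.IsQuotient i Q a o)
    [GrpObj N] (n : N ⟶ G) [IsMonHom n] [IsClosedImmersion n.left]
    (hN : ∀ (T : Over (Spec (CommRingCat.of k))) (g : T ⟶ G),
      (∃ m : T ⟶ N, m ≫ n = g) ↔
        ∀ (T' : Over (Spec (CommRingCat.of k))) (s : T' ⟶ T) (x : T' ⟶ Q),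
          CartesianMonoidalCategory.lift (s ≫ g) x ≫ a.act = x) :
    AlgGrp.IsNormalHom n ∧ (∃ f : N ⟶ H, f ≫ i = n) ∧
      ∀ (N' : Over (Spec (CommRingCat.of k))) [GrpObj N'] (n' : N' ⟶ G) [IsMonHom n'] [IsClosedImmersion n'.left],
        AlgGrp.IsNormalHom n' → (∃ f : N' ⟶ H, f ≫ i = n') → ∃ f' : N' ⟶ N, f' ≫ n = n' := by
  obtain ⟨hQl, hfl, hsj, hsq⟩ := hQ
  have hmul : ∀ {T : Over (Spec (CommRingCat.of k))} (g g' : T ⟶ G) (x : T ⟶ Q),
      lift (g * g') x ≫ a.act = lift g (lift g' x ≫ a.act) ≫ a.act := fun {T} g g' x => by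
    have h := congrArg (lift (lift g g') x ≫ ·) a.mul_act
    simp only [lift_whiskerRight_assoc] at h
    rw [← Hom.mul_def] at h
    refine h.trans ?_
    rw [← Category.assoc, ← Category.assoc]
    congr 1
    apply CartesianMonoidalCategory.hom_ext <;> simp
  have hone : ∀ {T : Over (Spec (CommRingCat.of k))} (x : T ⟶ Q), lift (1 : T ⟶ G) x ≫ a.act = x := fun {T} x => by
    have h := congrArg (lift (toUnit T) x ≫ ·) a.one_act
    simp only [lift_whiskerRight_assoc, ← Hom.one_def] at h
    refine h.trans ?_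
    rw [leftUnitor_hom, lift_snd]
  have horb : ∀ {T : Over (Spec (CommRingCat.of k))} (g : T ⟶ G),
      g ≫ a.orbitMap o = lift g (toUnit T ≫ o) ≫ a.act := fun {T} g => by
    rw [AlgGrp.Action.orbitMap, comp_lift_assoc, Category.comp_id, ← Category.assoc g,
      Subsingleton.elim (g ≫ toUnit G) (toUnit T)]
  have hfix : ∀ {T : Over (Spec (CommRingCat.of k))} (h : T ⟶ H),
      lift (h ≫ i) (toUnit T ≫ o) ≫ a.act = toUnit T ≫ o := fun {T} h => by
    have e := congrArg (lift (1 : T ⟶ G) h ≫ ·) hsq.w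
    simp only [← Category.assoc, lift_fst, lift_whiskerLeft] at e
    rw [← Hom.mul_def, _root_.one_mul, horb, horb, hone] at e
    exact e.symm
  refine ⟨fun T g m => ?_, ?_, fun N' _ n' _ _ hnor hH => ?_⟩
  · obtain ⟨m', hm'⟩ := (hN T (g * (m ≫ n) * g⁻¹)).2 fun T' s x => by
      have h1 := (hN T (m ≫ n)).1 ⟨m, rfl⟩ T' s (lift ((s ≫ g)⁻¹) x ≫ a.act)
      rw [MonObj.comp_mul, MonObj.comp_mul, GrpObj.comp_inv, hmul, hmul, h1, ← hmul, mul_inv_cancel, hone]
    exact ⟨m', hm'.symm⟩
  · have h1 := (hN N n).1 ⟨𝟙 N, Category.id_comp n⟩ N (𝟙 N) (toUnit N ≫ o)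
    rw [Category.id_comp] at h1
    let m := hsq.lift (1 : N ⟶ G) n (by rw [horb, horb, h1, hone])
    refine ⟨m ≫ snd G H, ?_⟩
    have e1 : m ≫ fst G H = 1 := hsq.lift_fst _ _ _
    have e2 : m ≫ (G ◁ i) ≫ μ[G] = n := hsq.lift_snd _ _ _
    rw [show m = lift (1 : N ⟶ G) (m ≫ snd G H) from
      CartesianMonoidalCategory.hom_ext _ _ (by rw [lift_fst, e1]) (by rw [lift_snd]), ← Category.assoc,
      lift_whiskerLeft, ← Hom.mul_def, _root_.one_mul] at e2
    exact e2
  · obtain ⟨f, hf⟩ := hH
    refine (hN N' n').2 fun T' s x => ?_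
    have : LocallyOfFiniteType Q.hom := hQl
    have hQC : QuasiCompact ((a.orbitMap o).left ≫ Q.hom) := by rw [Over.w]; infer_instance
    have : IsLocallyNoetherian Q.left := LocallyOfFiniteType.isLocallyNoetherian Q.hom
    have : QuasiCompact (a.orbitMap o).left := QuasiCompact.of_comp _ Q.hom
    let p := pullback.fst x.left (a.orbitMap o).left
    let W : Over (Spec (CommRingCat.of k)) := Over.mk (p ≫ T'.hom)
    let q : W ⟶ T' := Over.homMk p rfl
    let g : W ⟶ G := Over.homMk (pullback.snd x.left (a.orbitMap o).left) (by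
      show pullback.snd x.left (a.orbitMap o).left ≫ G.hom = p ≫ T'.hom
      rw [← Over.w (a.orbitMap o), ← pullback.condition_assoc, Over.w x])
    have hqg : q ≫ x = g ≫ a.orbitMap o := Over.OverMorphism.ext pullback.condition
    have : Epi q.left := inferInstanceAs (Epi p)
    have : Epi q := (Over.forget _).epi_of_epi_map (f := q) ‹Epi q.left›
    obtain ⟨n₁, hn₁⟩ := hnor W g⁻¹ (q ≫ s)
    rw [_root_.inv_inv] at hn₁
    rw [← cancel_epi q, comp_lift_assoc, hqg, horb, ← hmul]
    rw [show (q ≫ s ≫ n') * g = g * (g⁻¹ * ((q ≫ s) ≫ n') * g) by simp [_root_.mul_assoc], hn₁, hmul,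
      ← hf, ← Category.assoc, hfix]


end Groth.Agent.S14641
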