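import Groth.Statements.S14643
import Groth.Agent.Lib.DiagGrp.Bihom
-- import your own Groth.Agent.* helpers here

set_option autoImplicit false
universe u
open CategoryTheory MonoidalCategory CartesianMonoidalCategory MonObj GrpObj AlgebraicGeometry CategoryTheory.Limits
open AlgGrp

namespace Groth.Agent.S14643

/-- Over a field k, let G be a smooth k-group scheme of finite type acting on a variety X (a separated,
geometrically integral k-scheme of finite type). Let n : N → G be the kernel of the action: a closed
subgroup scheme such that, for every k-scheme T, a T-point of G factors through N exactly when it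
acts as the identity on all points of X over T-schemes. Let π : G → Q be a homomorphism onto a
k-group scheme of finite type which is flat and surjective with kernel N (the quotient G/N). Then
there is a unique action of Q on X inducing the given one along π; this action of Q is faithful (a
T-point of Q acting as the identity on all points of X over T-schemes is the unit); and X is
homogeneous under G (surjective graph morphism (g, x) ↦ (x, g·x)) if and only if it is homogeneous
under Q, and almost homogeneous under G (dominant graph morphism) if and only if it is almost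
homogeneous under Q. -/
theorem result (k : Type u) [Field k]
    (G N Q X : Over (Spec (CommRingCat.of k))) [GrpObj G] [Smooth G.hom] [QuasiCompact G.hom]
    [IsSeparated X.hom] [LocallyOfFiniteType X.hom] [QuasiCompact X.hom] [GeometricallyIntegral X.hom] (a : AlgGrp.Action G X)
    [GrpObj N] (n : N ⟶ G) [IsMonHom n] [IsClosedImmersion n.left]
    (hN : ∀ (T : Over (Spec (CommRingCat.of k))) (g : T ⟶ G),
      (∃ m : T ⟶ N, m ≫ n = g) ↔
        ∀ (T' : Over (Spec (CommRingCat.of k))) (s : T' ⟶ T) (x : T' ⟶ X), CartesianMonoidalCategory.lift (s ≫ g) x ≫ a.act = x)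
    [GrpObj Q] [LocallyOfFiniteType Q.hom] [QuasiCompact Q.hom] (π : G ⟶ Q) [IsMonHom π] [Flat π.left] [Surjective π.left]
    (hker : AlgGrp.IsKernel n π) :
    (∃! b : AlgGrp.Action Q X, (π ▷ X) ≫ b.act = a.act) ∧
    ∀ b : AlgGrp.Action Q X, (π ▷ X) ≫ b.act = a.act →
      (∀ (T : Over (Spec (CommRingCat.of k))) (q : T ⟶ Q),
        (∀ (T' : Over (Spec (CommRingCat.of k))) (s : T' ⟶ T) (x : T' ⟶ X), CartesianMonoidalCategory.lift (s ≫ q) x ≫ b.act = x) → q = 1) ∧
      (Surjective (CartesianMonoidalCategory.lift (CartesianMonoidalCategory.snd G X) a.act).left ↔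
        Surjective (CartesianMonoidalCategory.lift (CartesianMonoidalCategory.snd Q X) b.act).left) ∧
      (IsDominant (CartesianMonoidalCategory.lift (CartesianMonoidalCategory.snd G X) a.act).left ↔
        IsDominant (CartesianMonoidalCategory.lift (CartesianMonoidalCategory.snd Q X) b.act).left) := by
  have : IsLocallyNoetherian Q.left := LocallyOfFiniteType.isLocallyNoetherian Q.hom
  have : LocallyOfFiniteType π.left := by
    have : LocallyOfFiniteType (π.left ≫ Q.hom) := by rw [Over.w π]; infer_instance
    exact locallyOfFiniteType_of_comp π.left Q.hom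
  have : LocallyOfFinitePresentation π.left :=
    GrothLib.LocProp.locallyOfFinitePresentation_of_isLocallyNoetherian _
  have hcov : ∀ C : Over (Spec (CommRingCat.of k)), Flat (π ▷ C).left ∧ Surjective (π ▷ C).left :=
    fun C => GrothLib.DiagGrp.epi_left_whiskerRight π C
  obtain ⟨_, _⟩ := hcov X
  have : LocallyOfFiniteType (π ▷ X).left := by
    have : LocallyOfFiniteType ((π ▷ X).left ≫ (Q ⊗ X).hom) := by
      rw [Over.w (π ▷ X)]
      exact inferInstanceAs (LocallyOfFiniteType (Limits.pullback.fst G.hom X.hom ≫ G.hom))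
    exact locallyOfFiniteType_of_comp (π ▷ X).left (Q ⊗ X).hom
  have : LocallyOfFinitePresentation (π ▷ X).left := by
    have : LocallyOfFiniteType (Q ⊗ X).hom :=
      inferInstanceAs (LocallyOfFiniteType (Limits.pullback.fst Q.hom X.hom ≫ Q.hom))
    have : IsLocallyNoetherian (Q ⊗ X).left := LocallyOfFiniteType.isLocallyNoetherian (Q ⊗ X).hom
    exact GrothLib.LocProp.locallyOfFinitePresentation_of_isLocallyNoetherian _
  have hepi : ∀ {A B Y : Over (Spec (CommRingCat.of k))} (c : A ⟶ B) [Flat c.left] [Surjective c.left]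
      (u v : B ⟶ Y), c ≫ u = c ≫ v → u = v := fun c _ _ u v huv => by
    have : Epi c.left := Flat.epi_of_flat_of_surjective _
    apply Over.OverMorphism.ext
    rw [← cancel_epi c.left]
    exact congrArg (fun t => t.left) huv
  obtain ⟨b, hb⟩ := GrothLib.DiagGrp.exists_desc (π ▷ X) a.act fun T p p' hpp => by
    obtain ⟨g, x, rfl⟩ : ∃ g x, p = lift g x :=
      ⟨p ≫ fst G X, p ≫ snd G X, by apply CartesianMonoidalCategory.hom_ext <;> simp⟩
    obtain ⟨g', x', rfl⟩ : ∃ g' x', p' = lift g' x' :=
      ⟨p' ≫ fst G X, p' ≫ snd G X, by apply CartesianMonoidalCategory.hom_ext <;> simp⟩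
    rw [lift_whiskerRight, lift_whiskerRight] at hpp
    have hg : g ≫ π = g' ≫ π := by simpa using congrArg (· ≫ fst Q X) hpp
    have hx : x = x' := by simpa using congrArg (· ≫ snd Q X) hpp
    subst hx
    have hk : (g⁻¹ * g') ≫ π = toUnit T ≫ η[Q] := by
      rw [MonObj.mul_comp, GrpObj.inv_comp, hg, inv_mul_cancel, Hom.one_def]
    have hmem := (hN T (g⁻¹ * g')).mp ⟨hker.lift _ (toUnit T) hk, hker.lift_fst _ _ _⟩ T (𝟙 T) x
    rw [Category.id_comp] at hmem
    conv_rhs => rw [← mul_inv_cancel_left g g', AlgGrp.Action.lift_mul_act, hmem]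
  have hpt : ∀ {T : Over (Spec (CommRingCat.of k))} (g : T ⟶ G) (x : T ⟶ X),
      lift (g ≫ π) x ≫ b = lift g x ≫ a.act := fun g x => by
    rw [← hb, lift_whiskerRight_assoc]
  let B : AlgGrp.Action Q X :=
    { act := b
      one_act := by
        rw [← IsMonHom.one_hom π, MonoidalCategory.comp_whiskerRight, Category.assoc, hb, a.one_act]
      mul_act := by
        obtain ⟨_, _⟩ := hcov Q
        obtain ⟨_, _⟩ := GrothLib.DiagGrp.epi_left_whiskerLeft π G
        obtain ⟨_, _⟩ : Flat ((G ◁ π) ≫ (π ▷ Q)).left ∧ Surjective ((G ◁ π) ≫ (π ▷ Q)).left := by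
          rw [Over.comp_left]; exact ⟨inferInstance, inferInstance⟩
        have hπ2 : (G ◁ π) ≫ (π ▷ Q) = π ⊗ₘ π := (whisker_exchange π π).trans (tensorHom_def π π).symm
        obtain ⟨_, _⟩ := GrothLib.DiagGrp.epi_left_whiskerRight ((G ◁ π) ≫ (π ▷ Q)) X
        refine hepi (((G ◁ π) ≫ (π ▷ Q)) ▷ X) _ _ ?_
        rw [← cancel_epi (𝟙 ((G ⊗ G) ⊗ X)), Category.id_comp, Category.id_comp]
        have e1 : (((G ◁ π) ≫ (π ▷ Q)) ▷ X) ≫ (μ[Q] ▷ X) ≫ b = (μ[G] ▷ X) ≫ a.act := by
          rw [← comp_whiskerRight_assoc, hπ2, ← IsMonHom.mul_hom, comp_whiskerRight_assoc, hb]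
        rw [e1, a.mul_act]
        set g := fst (G ⊗ G) X ≫ fst G G
        set g' := fst (G ⊗ G) X ≫ snd G G
        set x := snd (G ⊗ G) X
        have e2 : (α_ G G X).hom = lift g (lift g' x) := by
          apply CartesianMonoidalCategory.hom_ext
          · simp [g]
          · apply CartesianMonoidalCategory.hom_ext <;> simp [g', x]
        have e3 : (((G ◁ π) ≫ (π ▷ Q)) ▷ X) ≫ (α_ Q Q X).hom = lift (g ≫ π) (lift (g' ≫ π) x) := by
          rw [hπ2]
          apply CartesianMonoidalCategory.hom_ext
          · simp [g]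
          · apply CartesianMonoidalCategory.hom_ext <;> simp [g', x]
        rw [e2, reassoc_of% e3, lift_whiskerLeft_assoc, lift_whiskerLeft_assoc, hpt g' x, hpt] }
  refine ⟨⟨B, hb, fun b' hb' => ?_⟩, fun b' hb' => ⟨fun T q hq => ?_, ?_⟩⟩
  · rcases b' with ⟨act, h1, h2⟩
    obtain rfl : act = b := hepi (π ▷ X) _ _ (hb'.trans hb.symm)
    rfl
  · let T' : Over (Spec (CommRingCat.of k)) := Over.mk (Limits.pullback.fst q.left π.left ≫ T.hom)
    let j : T' ⟶ T := Over.homMk (Limits.pullback.fst q.left π.left) rfl
    have : Flat j.left := inferInstanceAs (Flat (Limits.pullback.fst q.left π.left))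
    have : Surjective j.left := inferInstanceAs (Surjective (Limits.pullback.fst q.left π.left))
    let g : T' ⟶ G := Over.homMk (Limits.pullback.snd q.left π.left) (by
      change _ = Limits.pullback.fst q.left π.left ≫ T.hom
      rw [← Over.w π, ← Over.w q, Limits.pullback.condition_assoc])
    have hg : j ≫ q = g ≫ π := Over.OverMorphism.ext Limits.pullback.condition
    obtain ⟨m, hm⟩ := (hN T' g).mpr fun T'' s x => by
      have h1 := hq T'' (s ≫ j) x
      rw [Category.assoc, hg, ← Category.assoc, ← lift_whiskerRight_assoc, hb'] at h1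
      exact h1
    refine hepi j _ _ ?_
    rw [hg, ← hm, Category.assoc, hker.w, ← Category.assoc, comp_toUnit, ← Hom.one_def, MonObj.comp_one]
  · have e : lift (snd G X) a.act = (π ▷ X) ≫ lift (snd Q X) b'.act := by
      rw [comp_lift, whiskerRight_snd, hb']
    rw [e, Over.comp_left]
    refine ⟨⟨fun h => ⟨fun z => ?_⟩, fun h => inferInstance⟩, ⟨fun h => ⟨?_⟩, fun h => inferInstance⟩⟩
    · obtain ⟨w, hw⟩ := h.surj z
      exact ⟨(π ▷ X).left.base w, by rw [← hw, Scheme.Hom.comp_apply]⟩
    · have h1 := h.denseRange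
      rw [Scheme.Hom.comp_base, TopCat.coe_comp] at h1
      exact h1.mono (Set.range_comp_subset_range _ _)

end Groth.Agent.S14643
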