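import Groth.Statements.S14645
import Groth.Agent.Lib.GrpSchField.Pts

set_option autoImplicit false
universe u
open CategoryTheory MonoidalCategory CartesianMonoidalCategory MonObj GrpObj AlgebraicGeometry CategoryTheory.Limits
open AlgGrp

namespace Groth.Agent.S14645

/-- Over a field k with algebraic closure K, let G be a smooth k-group scheme of finite type acting on a
variety X (a separated, geometrically integral k-scheme of finite type). Then X is homogeneous under
G, i.e. the graph morphism G × X → X × X, (g, x) ↦ (x, g·x), is surjective, if and only if the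
abstract group G(K) of K-points over k acts transitively on the set X(K): for all K-points x, y of X
there is a K-point g of G with g · x = y. -/
theorem result (k : Type u) [Field k]
    (G X : Over (Spec (CommRingCat.of k))) [GrpObj G] [Smooth G.hom] [QuasiCompact G.hom]
    [IsSeparated X.hom] [LocallyOfFiniteType X.hom] [QuasiCompact X.hom] [GeometricallyIntegral X.hom] (a : AlgGrp.Action G X)
    (K : Type u) [Field K] [Algebra k K] [IsAlgClosure k K] :
    Surjective (CartesianMonoidalCategory.lift (CartesianMonoidalCategory.snd G X) a.act).left ↔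
      ∀ x y : Over.mk (Spec.map (CommRingCat.ofHom (algebraMap k K))) ⟶ X, ∃ g : Over.mk (Spec.map (CommRingCat.ofHom (algebraMap k K))) ⟶ G, CartesianMonoidalCategory.lift g x ≫ a.act = y := by
  have : IsAlgClosed K := IsAlgClosure.isAlgClosed k
  let F : G ⊗ X ⟶ X ⊗ X := lift (snd G X) a.act
  have : LocallyOfFiniteType (G ⊗ X).hom :=
    inferInstanceAs (LocallyOfFiniteType (pullback.fst G.hom X.hom ≫ G.hom))
  have : QuasiCompact (G ⊗ X).hom :=
    inferInstanceAs (QuasiCompact (pullback.fst G.hom X.hom ≫ G.hom))
  have : LocallyOfFiniteType (X ⊗ X).hom :=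
    inferInstanceAs (LocallyOfFiniteType (pullback.fst X.hom X.hom ≫ X.hom))
  have : IsLocallyNoetherian (G ⊗ X).left := LocallyOfFiniteType.isLocallyNoetherian (G ⊗ X).hom
  have : CompactSpace (G ⊗ X).left := QuasiCompact.compactSpace_of_compactSpace (G ⊗ X).hom
  have : IsNoetherian (G ⊗ X).left := {}
  have : LocallyOfFiniteType F.left := by
    have h : LocallyOfFiniteType (F.left ≫ (X ⊗ X).hom) := by rw [Over.w F]; infer_instance
    exact locallyOfFiniteType_of_comp F.left (X ⊗ X).hom
  constructor
  · intro (hF : Surjective F.left) x y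
    obtain ⟨p, hp⟩ := GrothLib.GrpSchField.exists_point_lift K F (lift x y)
    refine ⟨p ≫ fst G X, ?_⟩
    have h1 := congrArg (· ≫ fst X X) hp
    have h2 := congrArg (· ≫ snd X X) hp
    simp [F] at h1 h2
    rw [← h1, ← comp_lift_assoc, lift_fst_snd, Category.id_comp, h2]
  · intro h
    refine GrothLib.GrpSchField.surjective_of_points (K := K) F fun y => ?_
    obtain ⟨g, hg⟩ := h (y ≫ fst X X) (y ≫ snd X X)
    refine ⟨lift g (y ≫ fst X X), ?_⟩
    apply CartesianMonoidalCategory.hom_ext <;> simp [F, hg]

end Groth.Agent.S14645
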