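import Groth.Statements.S14646
import Groth.Agent.Lib.FormA1.Main29

set_option autoImplicit false
universe u
open CategoryTheory CategoryTheory.Limits AlgebraicGeometry
open AlgGrp

namespace Groth.Agent.S14646

/-- Over a field k, let P be a closed point of the projective line P¹_k whose residue field κ(P) is
purely inseparable over k, and let C = P¹_k ∖ {P} be its open complement. Then C is a form of the
affine line: for an algebraic closure K of k, the base change C ×_k Spec K is isomorphic over K to
Spec K[T]. (The published statement assumes moreover that k is imperfect and [κ(P) : k] ≥ 3; this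
row assumes only that κ(P) is purely inseparable over k.) -/
theorem result (k : Type u) [Field k]
    (P : ↥(CohB1.ProjSpace 1 k)) (hP : IsClosed ({P} : Set ↥(CohB1.ProjSpace 1 k)))
    (hpi : letI := ((CohB1.ProjSpace.toSpec 1 k).residueFieldMap P).hom.toAlgebra
      IsPurelyInseparable ↑((Spec (CommRingCat.of k)).residueField ((CohB1.ProjSpace.toSpec 1 k) P)) ↑((CohB1.ProjSpace 1 k).residueField P))
    (K : Type u) [Field K] [Algebra k K] [IsAlgClosure k K] :
    ∃ e : pullback (@Scheme.Opens.ι (CohB1.ProjSpace 1 k) ⟨{P}ᶜ, hP.isOpen_compl⟩ ≫ CohB1.ProjSpace.toSpec 1 k) (Spec.map (CommRingCat.ofHom (algebraMap k K))) ≅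
        Spec (CommRingCat.of (Polynomial K)),
      e.hom ≫ Spec.map (CommRingCat.ofHom (algebraMap K (Polynomial K))) = pullback.snd _ _ := by
  haveI : IsAlgClosed K := IsAlgClosure.isAlgClosed k
  exact GrothLib.FormA1.main P hP hpi K

end Groth.Agent.S14646
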