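import Groth.Statements.S14647
import Groth.Agent.Lib.FormA1.Rigid

set_option linter.style.haveILetI false
set_option backward.isDefEq.respectTransparency false

set_option autoImplicit false
universe u
open CategoryTheory CategoryTheory.Limits AlgebraicGeometry
open AlgGrp

namespace Groth.Agent.S14647

/-- Over a field k, let P be a closed point of the projective line P¹_k whose residue field κ(P) is
purely inseparable over k with [κ(P) : k] ≥ 3 (this forces k to be imperfect). Then the centraliser
of P (with its reduced structure) in the automorphism group of P¹ is infinitesimal; on geometric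
points: for an algebraic closure K of k, every automorphism φ of P¹_k ×_k Spec K over Spec K which
induces the identity on the closed subscheme Spec κ(P) ×_k Spec K — meaning φ ∘ z = z for every
scheme T and every T-point z of P¹_k ×_k Spec K whose image in P¹_k factors through Spec κ(P) → P¹_k
— is the identity. -/
theorem result (k : Type u) [Field k]
    (P : ↥(CohB1.ProjSpace 1 k))
    (hpi : letI := ((CohB1.ProjSpace.toSpec 1 k).residueFieldMap P).hom.toAlgebra
      IsPurelyInseparable ↑((Spec (CommRingCat.of k)).residueField ((CohB1.ProjSpace.toSpec 1 k) P)) ↑((CohB1.ProjSpace 1 k).residueField P))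
    (hdeg : letI := ((CohB1.ProjSpace.toSpec 1 k).residueFieldMap P).hom.toAlgebra
      3 ≤ Module.finrank ↑((Spec (CommRingCat.of k)).residueField ((CohB1.ProjSpace.toSpec 1 k) P)) ↑((CohB1.ProjSpace 1 k).residueField P))
    (K : Type u) [Field K] [Algebra k K] [IsAlgClosure k K]
    (φ : pullback (CohB1.ProjSpace.toSpec 1 k) (Spec.map (CommRingCat.ofHom (algebraMap k K))) ≅ pullback (CohB1.ProjSpace.toSpec 1 k) (Spec.map (CommRingCat.ofHom (algebraMap k K))))
    (hφ : φ.hom ≫ pullback.snd (CohB1.ProjSpace.toSpec 1 k) (Spec.map (CommRingCat.ofHom (algebraMap k K))) = pullback.snd (CohB1.ProjSpace.toSpec 1 k) (Spec.map (CommRingCat.ofHom (algebraMap k K))))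
    (hfix : ∀ (T : Scheme.{u}) (z : T ⟶ pullback (CohB1.ProjSpace.toSpec 1 k) (Spec.map (CommRingCat.ofHom (algebraMap k K)))) (w : T ⟶ Spec ((CohB1.ProjSpace 1 k).residueField P)),
      z ≫ pullback.fst (CohB1.ProjSpace.toSpec 1 k) (Spec.map (CommRingCat.ofHom (algebraMap k K))) = w ≫ (CohB1.ProjSpace 1 k).fromSpecResidueField P → z ≫ φ.hom = z) :
    φ.hom = 𝟙 _ := by
  obtain ⟨i, p, rfl⟩ := GrothLib.P1Rigid.exists_line_eq P
  obtain ⟨m, v, hm, hv⟩ := GrothLib.P1Rigid.exists_minpoly i p hdeg
  let c : CommRingCat.of k ⟶ CommRingCat.of K := CommRingCat.ofHom (algebraMap k K)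
  let M : Polynomial k →+* Polynomial K := Polynomial.mapRingHom (algebraMap k K)
  letI : Algebra (Polynomial k) (Polynomial K) := M.toAlgebra
  have hpo : IsPushout (CommRingCat.ofHom (Polynomial.C : k →+* Polynomial k)) c (CommRingCat.ofHom M)
      (CommRingCat.ofHom (Polynomial.C : K →+* Polynomial K)) :=
    CommRingCat.isPushout_of_isPushout k (Polynomial k) K (Polynomial K)
  have sqW := isPullback_SpecMap_of_isPushout _ _ _ _ hpo
  let π := CohB1.ProjSpace.toSpec 1 k
  have sqQ := IsPullback.of_hasPullback π (Spec.map c)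
  let j : Fin 2 → (Spec (CommRingCat.of (Polynomial K)) ⟶ pullback π (Spec.map c)) := fun l =>
    sqQ.lift (Spec.map (CommRingCat.ofHom M) ≫ GrothLib.P1Rigid.line k l)
      (Spec.map (CommRingCat.ofHom (Polynomial.C : K →+* Polynomial K)))
      (by rw [Category.assoc, GrothLib.P1Rigid.line_toSpec]; exact sqW.w)
  have hj₁ : ∀ l, j l ≫ pullback.fst π (Spec.map c) = Spec.map (CommRingCat.ofHom M) ≫ GrothLib.P1Rigid.line k l :=
    fun l => sqQ.lift_fst _ _ _
  have hj₂ : ∀ l, j l ≫ pullback.snd π (Spec.map c) = Spec.map (CommRingCat.ofHom Polynomial.C) :=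
    fun l => sqQ.lift_snd _ _ _
  have sqj : ∀ l, IsPullback (Spec.map (CommRingCat.ofHom M)) (j l) (GrothLib.P1Rigid.line k l)
      (pullback.fst π (Spec.map c)) := fun l =>
    IsPullback.of_bot (h₃₁ := Spec.map c) (v₂₁ := pullback.snd π (Spec.map c)) (v₂₂ := π)
      (by rw [hj₂, GrothLib.P1Rigid.line_toSpec]; exact sqW) (hj₁ l).symm sqQ
  haveI : ∀ l, IsOpenImmersion (j l) := fun l => MorphismProperty.of_isPullback (P := @IsOpenImmersion) (sqj l)
    (GrothLib.P1Rigid.isOpenImmersion_line l)
  haveI : IsProper π := GrothLib.Chow.isProper_toSpec 1 k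
  have hdegK : 3 ≤ (m.map (algebraMap k K)).natDegree := by rwa [Polynomial.natDegree_map]
  have hfix' := GrothLib.P1Rigid.eq_id_of_fix (pullback.snd π (Spec.map c)) (j i) (hj₂ i) φ hφ
    (m.map (algebraMap k K)) hdegK ?_
  swap
  · let l : Polynomial k ⧸ Ideal.span {m} →+* Polynomial K ⧸ Ideal.span {m.map (algebraMap k K)} :=
      Ideal.quotientMap _ M (by
        rw [Ideal.span_le, Set.singleton_subset_iff]
        exact Ideal.subset_span rfl)
    refine hfix _ _ (Spec.map (v ≫ CommRingCat.ofHom l)) ?_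
    rw [Spec.map_comp, Category.assoc, Category.assoc]
    erw [hj₁, hv]
    rw [← Category.assoc, ← Category.assoc, ← Spec.map_comp, ← Spec.map_comp]
    rfl
  have hcover : ∀ x, ∃ l w, j l w = x := fun x => by
    obtain ⟨l, w, hw⟩ := GrothLib.P1Rigid.exists_line_eq ((pullback.fst π (Spec.map c)) x)
    obtain ⟨z, -, hz⟩ := Scheme.exists_preimage_of_isPullback (sqj l) w x hw
    exact ⟨l, z, hz⟩
  refine GrothLib.P1Rigid.hom_ext_of_cover j hcover _ _ fun l => ?_
  rw [Category.comp_id]
  refine GrothLib.P1Rigid.eq_of_fix (pullback.snd π (Spec.map c)) (j l) (j i) φ.hom hφ hfix' ?_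
  -- the point with both coordinates one lies on every line
  let e : Spec (CommRingCat.of K) ⟶ Spec (CommRingCat.of (Polynomial K)) :=
    Spec.map (CommRingCat.ofHom (Polynomial.evalRingHom (1 : K)))
  have heq : ∀ l, Spec.map (CommRingCat.ofHom (Polynomial.evalRingHom (1 : K))) ≫ j l ≫ pullback.fst π (Spec.map c) =
      GrothLib.P1Const28.pt (algebraMap k K) (fun _ => (1 : K)) l isUnit_one := fun l => by
    rw [hj₁, ← Category.assoc, ← Spec.map_comp, ← CommRingCat.ofHom_comp]
    refine (GrothLib.P1Const28.SpecMap_pt _ _ _ _ _).trans ?_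
    refine GrothLib.P1Const28.pt_congr l ?_ ?_ _
    · ext a; simp [M]
    · funext o; fin_cases l <;> fin_cases o <;> simp [GrothLib.P1Rigid.vec, M]
  have hind : ∀ l : Fin 2, GrothLib.P1Const28.pt (algebraMap k K) (fun _ => (1 : K)) l isUnit_one =
      GrothLib.P1Const28.pt (algebraMap k K) (fun _ => (1 : K)) i isUnit_one := fun l =>
    GrothLib.ProjPt.pt_evalAway_eq (CohB1.polyGrading 1 k) (MvPolynomial.isHomogeneous_X _ _) one_pos _ _
      (MvPolynomial.isHomogeneous_X _ _) one_pos _
  refine ⟨e (IsLocalRing.closedPoint K), e (IsLocalRing.closedPoint K), ?_⟩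
  have h : e ≫ j i = e ≫ j l := by
    refine sqQ.hom_ext ?_ (by rw [Category.assoc, Category.assoc, hj₂, hj₂])
    rw [Category.assoc, Category.assoc, heq i, heq l, hind l]
  exact congrArg (fun t : Spec (CommRingCat.of K) ⟶ pullback π (Spec.map c) => t (IsLocalRing.closedPoint K)) h

end Groth.Agent.S14647
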