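import Groth.Statements.S14648
import Groth.Agent.Lib.NormAct29.Main

set_option autoImplicit false
universe u
open CategoryTheory MonoidalCategory CartesianMonoidalCategory MonObj GrpObj AlgebraicGeometry CategoryTheory.Limits
open AlgGrp

namespace Groth.Agent.S14648

/-- Over a field k, let G be a smooth connected k-group scheme of finite type acting on a variety X (a
separated, geometrically integral k-scheme of finite type), let ν : X̃ → X be the normalization of X
and let G act on X̃ so that ν is equivariant (such a lifted action exists and is unique; here it is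
given). Then the commutative square with the action maps G × X̃ → X̃ and G × X → X as horizontal
sides and id_G × ν, ν as vertical sides is cartesian, and the two actions have the same kernel: for
every k-scheme T, a T-point g of G acts as the identity on all points of X over T-schemes if and
only if it acts as the identity on all points of X̃ over T-schemes. (The quasi-compactness and
quasi-separatedness binders on the morphism from the generic point always hold; they are only needed
to form the normalization.) -/
theorem result (k : Type u) [Field k]
    (G X : Over (Spec (CommRingCat.of k))) [GrpObj G] [Smooth G.hom] [QuasiCompact G.hom] [ConnectedSpace ↥G.left]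
    [IsSeparated X.hom] [LocallyOfFiniteType X.hom] [QuasiCompact X.hom] [GeometricallyIntegral X.hom] [IsIntegral X.left] [QuasiCompact (X.left.fromSpecStalk (genericPoint ↥X.left))] [QuasiSeparated (X.left.fromSpecStalk (genericPoint ↥X.left))]
    (a : AlgGrp.Action G X) (b : AlgGrp.Action G (Over.mk (Curv2.normalizationι X.left ≫ X.hom)))
    (hb : (G ◁ (Over.homMk (Curv2.normalizationι X.left) rfl : Over.mk (Curv2.normalizationι X.left ≫ X.hom) ⟶ X)) ≫ a.act = b.act ≫ Over.homMk (Curv2.normalizationι X.left) rfl) :
    IsPullback b.act (G ◁ (Over.homMk (Curv2.normalizationι X.left) rfl : Over.mk (Curv2.normalizationι X.left ≫ X.hom) ⟶ X)) (Over.homMk (Curv2.normalizationι X.left) rfl : Over.mk (Curv2.normalizationι X.left ≫ X.hom) ⟶ X) a.act ∧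
    ∀ (T : Over (Spec (CommRingCat.of k))) (g : T ⟶ G),
      (∀ (T' : Over (Spec (CommRingCat.of k))) (s : T' ⟶ T) (x : T' ⟶ X), CartesianMonoidalCategory.lift (s ≫ g) x ≫ a.act = x) ↔
      (∀ (T' : Over (Spec (CommRingCat.of k))) (s : T' ⟶ T) (y : T' ⟶ Over.mk (Curv2.normalizationι X.left ≫ X.hom)), CartesianMonoidalCategory.lift (s ≫ g) y ≫ b.act = y) := by
  haveI := GrothLib.NormAct29.isFinite_ν X
  haveI := GrothLib.NormAct29.surjective_ν X
  obtain ⟨V, hV, hiso⟩ := GrothLib.NormAct29.exists_isIso_open X
  let W : Over (Spec (CommRingCat.of k)) := Over.mk (Curv2.normalizationι X.left ≫ X.hom)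
  let ν : W ⟶ X := Over.homMk (Curv2.normalizationι X.left) rfl
  haveI : IrreducibleSpace W.left := inferInstanceAs (IrreducibleSpace (Curv2.normalization X.left))
  haveI : AlgebraicGeometry.IsReduced W.left := inferInstanceAs (AlgebraicGeometry.IsReduced (Curv2.normalization X.left))
  haveI : LocallyOfFiniteType W.hom := inferInstanceAs (LocallyOfFiniteType (Curv2.normalizationι X.left ≫ X.hom))
  haveI : IsSeparated W.hom := inferInstanceAs (IsSeparated (Curv2.normalizationι X.left ≫ X.hom))
  haveI : Surjective ν.left := inferInstanceAs (Surjective (Curv2.normalizationι X.left))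
  haveI : QuasiCompact ν.left := inferInstanceAs (QuasiCompact (Curv2.normalizationι X.left))
  haveI : IsIso (ν.left ∣_ V) := hiso
  exact ⟨GrothLib.NormAct29.isPullback_act a b ν hb,
    fun T g => GrothLib.NormAct29.kernel_iff a b ν hb V hV T g⟩

end Groth.Agent.S14648
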