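import Mathlib
import Groth.Statements.S14650
import Groth.Agent.Lib.ReesGr1.Main

set_option autoImplicit false
universe u
open FiltBl

namespace Groth.Agent.S14650

/-- Let A be a Noetherian local ring that is a quotient of a Gorenstein ring, and F a filtration of
ideals on A (F^0 = A ⊇ F^1 ⊇ ⋯, F^i F^j ⊆ F^{i+j}) with every F^n nonzero and ⋂ F^n = 0, whose Rees
algebra ⊕_{n ≥ 0} F^n X^n is finitely generated over A and with F^1 of height at least 2
(equivalently, every F^n with n ≥ 1 has height at least 2, all F^n having the same radical). Then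
the extended Rees algebra R' = ⊕_{n ∈ ℤ} F^n T^n ⊆ A[T, T⁻¹] is a Gorenstein ring if and only if the
associated graded ring G = ⊕ F^n/F^{n+1}, realised as R'/uR' with u = T⁻¹, is a Gorenstein ring.
(The published statement is made under the further standing assumption that no nonzero element of
the Rees algebra ⊕_{n ≥ 0} F^n T^n is annihilated by a power of the ideal generated by its
homogeneous elements of positive degree; this row does not assume it, and the assertion holds
without it.) -/
theorem result (A : Type u) [CommRing A] [IsNoetherianRing A] [IsLocalRing A]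
    (S : Type u) [CommRing S] [LocCoh.IsGorensteinRing S] (π : S →+* A) (hπ : Function.Surjective π)
    (𝓕 : FiltBl.IdealFiltration A) (hne : ∀ n, 𝓕.F n ≠ ⊥) (hsep : ⨅ n, 𝓕.F n = ⊥)
    (hfg : Algebra.FiniteType A 𝓕.rees) (hht : 2 ≤ (𝓕.F 1).height) :
    LocCoh.IsGorensteinRing 𝓕.extRees ↔ LocCoh.IsGorensteinRing 𝓕.Gr := by
  haveI := hfg
  haveI := GrothLib.ReesGr1.isNoetherianRing_extRees 𝓕
  haveI : IsNoetherianRing 𝓕.Gr := Ideal.Quotient.isNoetherianRing _
  exact GrothLib.ReesGr1.isGorensteinRing_iff 𝓕 _ Ideal.Quotient.mk_surjective Ideal.mk_ker hsep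

end Groth.Agent.S14650
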