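import Groth.Statements.S14652
import Groth.Agent.Lib.ReesVal.Basic
-- import your own Groth.Agent.* helpers here

set_option autoImplicit false
universe u
open FiltBl

namespace Groth.Agent.S14652

/-- Let A be a Noetherian integrally closed domain with fraction field K, let v_1, …, v_s be finitely
many valuations on K with values in ℤ ∪ {∞} (written additively) that are non-negative on A, and let
r_i = p_i / q_i be positive rationals (p_i, q_i positive integers). Let F be the filtration of
ideals of A given by F^k = {x ∈ A | q_i · v_i(x) ≥ k · p_i for every i}. Then the Rees algebra ⊕_{k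
≥ 0} F^k X^k ⊆ A[X] is an integrally closed domain (it need not be Noetherian). -/
theorem result (A K : Type u) [CommRing A] [IsDomain A]
    [IsNoetherianRing A] [IsIntegrallyClosed A] [Field K] [Algebra A K] [IsFractionRing A K]
    (ι : Type) [Finite ι] (v : ι → AddValuation K (WithTop ℤ))
    (hv : ∀ (i : ι) (x : A), 0 ≤ v i (algebraMap A K x)) (p q : ι → ℕ) (hp : ∀ i, 0 < p i)
    (hq : ∀ i, 0 < q i) (𝓕 : FiltBl.IdealFiltration A)
    (hF : ∀ (k : ℕ) (x : A), x ∈ 𝓕.F k ↔
      ∀ i, ((k * p i : ℕ) : WithTop ℤ) ≤ (q i : WithTop ℤ) * v i (algebraMap A K x)) :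
    IsIntegrallyClosed 𝓕.rees := by
  refine GrothLib.ReesVal.isIntegrallyClosed_of_relative 𝓕.rees fun f hf k => ?_
  rw [hF]
  intro i
  have h := GrothLib.ReesVal.GE_zero_of_integral (u := GrothLib.ReesVal.scale (v i) (q i) (hq i)) (p := p i) 𝓕.rees
    (fun r hr n => by
      rw [GrothLib.ReesVal.scale_apply, zero_add]
      exact ((hF n _).1 (hr n) i)) f hf k
  rw [GrothLib.ReesVal.scale_apply, zero_add] at h
  exact h

end Groth.Agent.S14652
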