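import Groth.Statements.S14654
import Groth.Agent.Lib.ProjStalk27.Proj
-- import your own Groth.Agent.* helpers here

set_option autoImplicit false
universe u
open FiltBl

namespace Groth.Agent.S14654

open AlgebraicGeometry in
/-- Let A be a Noetherian ℕ-graded commutative ring which is normal, i.e. every localization of A at a
prime ideal is an integrally closed domain. Then the scheme Proj A is normal: every local ring of
Proj A is an integrally closed domain. -/
theorem result (A : Type u) [CommRing A] [IsNoetherianRing A]
    (𝒜 : ℕ → AddSubgroup A) [GradedRing 𝒜]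
    (hA : ∀ (p : Ideal A) [p.IsPrime], IsDomain (Localization.AtPrime p) ∧
      IsIntegrallyClosed (Localization.AtPrime p))
    (x : Proj 𝒜) :
    IsDomain ((Proj 𝒜).presheaf.stalk x) ∧ IsIntegrallyClosed ((Proj 𝒜).presheaf.stalk x) := by
  let P := x.asHomogeneousIdeal.toIdeal
  have h : ¬ (HomogeneousIdeal.irrelevant 𝒜).toIdeal ≤ P := fun h' => x.not_irrelevant_le h'
  let e := (AlgebraicGeometry.Proj.stalkIso 𝒜 x).commRingCatIsoToRingEquiv
  haveI := (hA P).1
  haveI := (hA P).2
  haveI := (GrothLib.ProjStalk27.pure_incl 𝒜 P).isDomain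
  haveI := (GrothLib.ProjStalk27.pure_incl 𝒜 P).isIntegrallyClosed
  exact ⟨e.toMulEquiv.isDomain _, IsIntegrallyClosed.of_equiv e.symm⟩

end Groth.Agent.S14654
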