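import Groth.Statements.S14656
import Groth.Agent.Lib.ProjStalk27.Proj
-- import your own Groth.Agent.* helpers here

set_option autoImplicit false
universe u
open FiltBl

namespace Groth.Agent.S14656

open AlgebraicGeometry in
/-- Let A be a Noetherian ℕ-graded commutative ring satisfying Serre's condition (S_1) (every
localization A_p has depth at least min(1, dim A_p)). Then every local ring of the scheme Proj A
satisfies (S_1). -/
theorem result (A : Type u) [CommRing A] [IsNoetherianRing A]
    (𝒜 : ℕ → AddSubgroup A) [GradedRing 𝒜] (hA : LocCoh.HasSk 1 A A) (x : Proj 𝒜) :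
    LocCoh.HasSk 1 ((Proj 𝒜).presheaf.stalk x) ((Proj 𝒜).presheaf.stalk x) := by
  let P := x.asHomogeneousIdeal.toIdeal
  have h : ¬ (HomogeneousIdeal.irrelevant 𝒜).toIdeal ≤ P := fun h' => x.not_irrelevant_le h'
  let e := (AlgebraicGeometry.Proj.stalkIso 𝒜 x).commRingCatIsoToRingEquiv
  haveI : IsNoetherianRing (Localization.AtPrime P) := IsLocalization.isNoetherianRing P.primeCompl _ inferInstance
  haveI := (GrothLib.ProjStalk27.pure_incl 𝒜 P).isNoetherianRing
  haveI : IsNoetherianRing ((Proj 𝒜).presheaf.stalk x) := isNoetherianRing_of_ringEquiv _ e.symm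
  exact GrothLib.ProjStalk27.hasSk_one (GrothLib.ProjStalk27.associatedPrimes_minimal_of_ringEquiv e
    (GrothLib.ProjStalk27.associatedPrimes_minimal 𝒜 P h hA))

end Groth.Agent.S14656
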