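import Groth.Statements.S14657
import Groth.Agent.Lib.GrNormal27.Main

set_option autoImplicit false
universe u
open FiltBl

namespace Groth.Agent.S14657

/-- (i) ⇔ (ii): let k be a field and G a Noetherian ℕ-graded k-algebra which is an integral domain of
Krull dimension at least 2 with G_0 = k (the degree-0 part is the image of k); let L be the fraction
field of G and Ḡ the integral closure of G in L. Then the open subscheme Spec G − V(G_+) is normal,
i.e. G_p is integrally closed for every prime p not containing the irrelevant ideal G_+, if and only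
if the G-module Ḡ/G has finite length. -/
theorem result (k : Type u) [Field k]
    (G : Type u) [CommRing G] [IsDomain G] [Algebra k G] [IsNoetherianRing G]
    (𝒢 : ℕ → Submodule k G) [GradedAlgebra 𝒢]
    (h0 : ∀ x ∈ 𝒢 0, x ∈ Set.range (algebraMap k G)) (hdim : 2 ≤ ringKrullDim G)
    (L : Type u) [Field L] [Algebra G L] [IsFractionRing G L] :
    (∀ (p : Ideal G) [p.IsPrime], ¬ (HomogeneousIdeal.irrelevant 𝒢).toIdeal ≤ p →
        IsIntegrallyClosed (Localization.AtPrime p)) ↔
      IsFiniteLength G (↥(integralClosure G L) ⧸
        LinearMap.range (Algebra.linearMap G ↥(integralClosure G L))) := by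
  refine ⟨fun hn => GrothLib.GrNormal27.isFiniteLength_of_normal 𝒢 h0 L hn, fun hfin p _ hp => ?_⟩
  exact GrothLib.GrNormal27.isIntegrallyClosed_of_finiteLength 𝒢 h0 L hfin p hp

end Groth.Agent.S14657
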