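import Groth.Statements.S14658
import Groth.Agent.Lib.GradedRoot27.Basic
-- import your own Groth.Agent.* helpers here

set_option autoImplicit false
universe u
open FiltBl

namespace Groth.Agent.S14658

/-- Let R be a Noetherian ℤ-graded commutative ring which is regular (every localization at a prime is a
regular local ring) and whose degree-0 subring R_0 is a local ring with maximal ideal m. Let t ∈ R_N
be a homogeneous unit of R of positive degree N such that R_i · R_j ⊆ m · t for all positive i, j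
with i + j = N (every product a b with a ∈ R_i, b ∈ R_j is c t for some c ∈ m). Then the ring
R[U]/(U^N − t), U an indeterminate, is again regular: all its localizations at prime ideals are
regular local rings. -/
theorem result (R : Type u) [CommRing R]
    [IsNoetherianRing R] (𝒜 : ℤ → AddSubgroup R) [GradedRing 𝒜]
    (hreg : ∀ (p : Ideal R) [p.IsPrime], IsRegularLocalRing (Localization.AtPrime p))
    [IsLocalRing (GrLC.deg0 𝒜)] (N : ℕ) (hN : 0 < N) (t : R) (ht : t ∈ 𝒜 (N : ℤ))
    (htu : IsUnit t)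
    (hm : ∀ (i j : ℤ), 0 < i → 0 < j → i + j = (N : ℤ) → ∀ a ∈ 𝒜 i, ∀ b ∈ 𝒜 j,
      ∃ c : GrLC.deg0 𝒜, c ∈ IsLocalRing.maximalIdeal (GrLC.deg0 𝒜) ∧ a * b = (c : R) * t)
    (q : Ideal (AdjoinRoot (Polynomial.X ^ N - Polynomial.C t))) [q.IsPrime] :
    IsRegularLocalRing (Localization.AtPrime q) := by
  have hmin : ∀ (n : ℤ), 0 < n → n < (N : ℤ) → ∀ s ∈ 𝒜 n, ¬ IsUnit s := by
    intro n hn0 hnN s hs hsu
    obtain ⟨c, hc, he⟩ := hm n ((N : ℤ) - n) hn0 (by omega) (by omega) s hs
      (((hsu.unit⁻¹ : Rˣ) : R) * t)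
      (by
        have := SetLike.mul_mem_graded (GrothLib.GradedRoot27.inv_mem 𝒜 hs hsu.unit hsu.unit_spec) ht
        rwa [neg_add_eq_sub] at this)
    have h1 : s * (((hsu.unit⁻¹ : Rˣ) : R) * t) = t := by
      rw [← mul_assoc, IsUnit.mul_val_inv, _root_.one_mul]
    rw [h1] at he
    have h2 : ((c : GrLC.deg0 𝒜) : R) = ((1 : GrLC.deg0 𝒜) : R) :=
      htu.mul_right_cancel (he.symm.trans (_root_.one_mul t).symm)
    rw [Subtype.ext h2] at hc
    exact (IsLocalRing.maximalIdeal.isMaximal _).ne_top ((Ideal.eq_top_iff_one _).2 hc)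
  haveI := GrothLib.GradedRoot27.isRegularLocalRing_quotient 𝒜 hreg N hN t ht htu hmin
  haveI := GrothLib.GradedRoot27.isRegularRing_adjoinRoot 𝒜 N t ht htu hN
  exact IsRegularRing.isRegularLocalRing_localization q

end Groth.Agent.S14658
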