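import Groth.Statements.S14661
import Groth.Agent.Lib.GrNormal27.Main

set_option autoImplicit false
universe u
open FiltBl

namespace Groth.Agent.S14661

/-- Let k be a field and G a Noetherian ℕ-graded k-algebra which is an integral domain of Krull
dimension at least 2 with G_0 = k (the degree-0 part is the image of k); let L be the fraction field
of G and Ḡ the integral closure of G in L. If the G-module Ḡ/G has finite length, then Ḡ/G is
isomorphic, as a G-module, to the local cohomology module H^1_{G_+}(G) with support in the
irrelevant ideal G_+ (existence of a G-linear isomorphism only; the comparison map itself is not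
named here). -/
theorem result (k : Type u) [Field k]
    (G : Type u) [CommRing G] [IsDomain G] [Algebra k G] [IsNoetherianRing G]
    (𝒢 : ℕ → Submodule k G) [GradedAlgebra 𝒢]
    (h0 : ∀ x ∈ 𝒢 0, x ∈ Set.range (algebraMap k G)) (hdim : 2 ≤ ringKrullDim G)
    (L : Type u) [Field L] [Algebra G L] [IsFractionRing G L]
    (hfin : IsFiniteLength G (↥(integralClosure G L) ⧸
      LinearMap.range (Algebra.linearMap G ↥(integralClosure G L)))) :
    Nonempty ((↥(integralClosure G L) ⧸
        LinearMap.range (Algebra.linearMap G ↥(integralClosure G L))) ≃ₗ[G]
      LocCoh.H (HomogeneousIdeal.irrelevant 𝒢).toIdeal 1 G) := by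
  exact GrothLib.GrNormal27.nonempty_equiv_H_one 𝒢 h0 L hdim hfin

end Groth.Agent.S14661
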