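import Groth.Statements.S14665
import Groth.Agent.Lib.SymAF26.BaseChange

set_option autoImplicit false
universe u
open CategoryTheory CategoryTheory.Limits AlgebraicGeometry
open SymProd

namespace Groth.Agent.S14665

/-- Let f : X ⟶ S be a flat morphism such that every finite set of points of X lying over a single point
of S is contained in an affine open of X, let n ≥ 0 and let (Y, q, g) be an n-th symmetric power of
X over S (q : X ×_S ⋯ ×_S X ⟶ Y a quotient of the n-fold fibre power by the symmetric group
permuting the factors: affine, invariant, identifying sections of O_Y with invariant sections; q ≫ g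
= the structure map). Then the formation of the symmetric power commutes with arbitrary base change:
for any b : S' ⟶ S, with X' = X ×_S S' and f' its projection to S', let c be the morphism from the
n-fold fibre power of X' over S' to that of X over S whose components are the first projections X' ⟶
X and which lies over b, and let q' be the morphism from the fibre power of X' to Y ×_S S' with
components c ≫ q and the structure map to S'. Then q' together with the projection Y ×_S S' ⟶ S' is
an n-th symmetric power of X' over S'. -/
theorem result {X S S' Y : Scheme.{u}} (f : X ⟶ S) [Flat f]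
    (hAF : SymProd.IsAF f) (n : ℕ) (q : SymProd.fibPow f n ⟶ Y) (g : Y ⟶ S) (hq : SymProd.IsSymProd f n q g)
    (b : S' ⟶ S)
    (c : SymProd.fibPow (pullback.snd f b) n ⟶ SymProd.fibPow f n)
    (hcπ : ∀ i : Fin n, c ≫ WidePullback.π (fun _ => f) i = WidePullback.π (fun _ => pullback.snd f b) i ≫ pullback.fst f b)
    (hcb : c ≫ WidePullback.base (fun _ => f) = WidePullback.base (fun _ => pullback.snd f b) ≫ b)
    (q' : SymProd.fibPow (pullback.snd f b) n ⟶ pullback g b)
    (hq'₁ : q' ≫ pullback.fst g b = c ≫ q)
    (hq'₂ : q' ≫ pullback.snd g b = WidePullback.base (fun _ => pullback.snd f b)) :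
    SymProd.IsSymProd (pullback.snd f b) n q' (pullback.snd g b) := by
  exact GrothLib.SymAF26.isSymProd_baseChange hAF hq c hcπ hcb q' hq'₁ hq'₂

end Groth.Agent.S14665
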