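import Groth.Statements.S14666
-- import your own Groth.Agent.* helpers here
import Groth.Agent.Lib.Rigidity.Relative.Pushforward

set_option autoImplicit false
universe u
open CategoryTheory CategoryTheory.Limits AlgebraicGeometry
open AbSch

namespace Groth.Agent.S14666

/-- Let S be a locally Noetherian scheme, ξ : X ⟶ S a proper morphism all of whose geometric fibres are
integral and for which O_S ⟶ ξ_*O_X is an isomorphism (the map Γ(U, O_S) → Γ(ξ⁻¹U, O_X) is bijective
for every open U of S), v : Y ⟶ S an arbitrary S-scheme and f : X ⟶ Y a morphism over S. Let U be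
the set of points s of S such that f sends every point of the fibre ξ⁻¹(s) to one and the same point
of Y. Then U is open in S, and for every morphism τ : T ⟶ S the base change of f to T factors
through the projection X ×_S T ⟶ T — that is, there is r : T ⟶ Y with r ≫ v = τ and fst ≫ f = snd ≫
r on X ×_S T — if and only if τ maps every point of T into U. -/
theorem result {X Y S : Scheme.{u}} [IsLocallyNoetherian S]
    (ξ : X ⟶ S) [IsProper ξ] [GeometricallyIntegral ξ]
    (h0 : ∀ U : S.Opens, Function.Bijective (ξ.app U).hom)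
    (v : Y ⟶ S) (f : X ⟶ Y) (hf : f ≫ v = ξ) :
    IsOpen {s : ↥S | ∃ y : ↥Y, ∀ x : ↥X, ξ.base x = s → f.base x = y} ∧
    ∀ (T : Scheme.{u}) (τ : T ⟶ S),
      ((∃ r : T ⟶ Y, r ≫ v = τ ∧ pullback.fst ξ τ ≫ f = pullback.snd ξ τ ≫ r) ↔
        ∀ t : ↥T, τ.base t ∈ {s : ↥S | ∃ y : ↥Y, ∀ x : ↥X, ξ.base x = s → f.base x = y}) := by
  obtain ⟨W, hW, k, hk⟩ := GrothLib.Rigidity.exists_factor_on_collapsed ξ h0 f
  have heq : {s : ↥S | ∃ y : ↥Y, ∀ x : ↥X, ξ.base x = s → f.base x = y} = (W : Set S) := Set.ext hW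
  rw [heq]
  refine ⟨W.2, fun T τ => ⟨?_, fun hτ => ?_⟩⟩
  · rintro ⟨r, -, hr⟩ t
    refine (hW _).mp ⟨r t, fun x hx => ?_⟩
    obtain ⟨z, hz₁, hz₂⟩ := Scheme.Pullback.exists_preimage_pullback (f := ξ) (g := τ) x t hx
    show f x = r t
    rw [← hz₁, ← hz₂, ← Scheme.Hom.comp_apply, hr]
    rfl
  · let τ' := IsOpenImmersion.lift W.ι τ (by
      rw [Scheme.Opens.range_ι]
      exact Set.range_subset_iff.mpr hτ)
    have hτ' : τ' ≫ W.ι = τ := IsOpenImmersion.lift_fac _ _ _
    have hkv : k ≫ v = W.ι := by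
      refine GrothLib.Rigidity.hom_ext_of_app_injective (ξ ∣_ W)
        (fun V => (GrothLib.Rigidity.app_bijective_restrict ξ h0 W V).1) _ _ ?_
      rw [← Category.assoc, ← hk, Category.assoc, hf, morphismRestrict_ι]
    refine ⟨τ' ≫ k, by rw [Category.assoc, hkv, hτ'], ?_⟩
    let l := (isPullback_morphismRestrict ξ W).flip.lift (pullback.fst ξ τ) (pullback.snd ξ τ ≫ τ')
      (by rw [Category.assoc, hτ', pullback.condition])
    have hl1 : l ≫ (ξ ⁻¹ᵁ W).ι = pullback.fst ξ τ := IsPullback.lift_fst _ _ _ _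
    have hl2 : l ≫ (ξ ∣_ W) = pullback.snd ξ τ ≫ τ' := IsPullback.lift_snd _ _ _ _
    rw [← hl1, Category.assoc, hk, ← Category.assoc, hl2, Category.assoc]

end Groth.Agent.S14666
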