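import Groth.Statements.S14667
-- import your own Groth.Agent.* helpers here
import Groth.Agent.Lib.Rigidity.Relative.Hom

set_option autoImplicit false
universe u
open CategoryTheory CategoryTheory.Limits AlgebraicGeometry
open AbSch

namespace Groth.Agent.S14667

/-- Let S be a locally Noetherian scheme, ξ : X ⟶ S a proper flat morphism all of whose geometric fibres
are integral, v : Y ⟶ S a separated morphism and f : X ⟶ Y a morphism over S. Then the set U of
points s of S such that f sends every point of the fibre ξ⁻¹(s) to one and the same point of Y is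
closed and open in S. (Under flatness the condition that O_S ⟶ ξ_*O_X be an isomorphism, assumed for
openness in the non-flat case, holds automatically.) -/
theorem result {X Y S : Scheme.{u}} [IsLocallyNoetherian S]
    (ξ : X ⟶ S) [IsProper ξ] [Flat ξ] [GeometricallyIntegral ξ]
    (v : Y ⟶ S) [IsSeparated v] (f : X ⟶ Y) (hf : f ≫ v = ξ) :
    IsClosed {s : ↥S | ∃ y : ↥Y, ∀ x : ↥X, ξ.base x = s → f.base x = y} ∧ IsOpen {s : ↥S | ∃ y : ↥Y, ∀ x : ↥X, ξ.base x = s → f.base x = y} := by
  haveI := GrothLib.Rigidity.geometricallyConnected_of_geometricallyIrreducible ξ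
  haveI : LocallyOfFinitePresentation ξ := inferInstance
  obtain ⟨W, hWc, hW, -, -⟩ :=
    GrothLib.Rigidity.exists_isClopen_factor ξ (𝟙 S) v f (by rw [Category.comp_id, hf])
  have heq : {s : ↥S | ∃ y : ↥Y, ∀ x : ↥X, ξ.base x = s → f.base x = y} = (W : Set S) := by
    ext s
    refine Iff.trans ⟨?_, fun h => ?_⟩ (hW s)
    · rintro ⟨y, hy⟩ _ ⟨x, hx, rfl⟩ _ ⟨x', hx', rfl⟩
      exact (hy x hx).trans (hy x' hx').symm
    · obtain ⟨x₀, hx₀⟩ := ξ.surjective s
      exact ⟨f.base x₀, fun x hx => h ⟨x, hx, rfl⟩ ⟨x₀, hx₀, rfl⟩⟩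
  rw [heq]
  exact ⟨hWc, W.2⟩

end Groth.Agent.S14667
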