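import Groth.Statements.S14668
-- import your own Groth.Agent.* helpers here
import Groth.Agent.Lib.Rigidity.Smooth.ProjSpace
import Groth.Agent.Lib.Rigidity.Relative.Descent
import Groth.Agent.Lib.Rigidity.Relative.FibrewiseIso
import Groth.Agent.Lib.CurveLocus.Basic
import Mathlib

set_option autoImplicit false
universe u
open CategoryTheory CategoryTheory.Limits MonoidalCategory CartesianMonoidalCategory MonObj GrpObj AlgebraicGeometry
open AbSch

namespace Groth.Agent.S14668

theorem exists_apply_eq {S : Scheme.{u}} (K : Type u) [Field K] [IsAlgClosed K] (y : Spec (CommRingCat.of K) ⟶ S)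
    (A : Over S) [GrpObj A] [IsProper A.hom] [GeometricallyIntegral A.hom] (P : Over S) (n : ℕ)
    (e : pullback P.hom y ≅ CohB1.ProjSpace n K) (he : e.hom ≫ CohB1.ProjSpace.toSpec n K = pullback.snd P.hom y)
    (φ : P ⟶ A) (s : S) (hy : ∀ pt, y pt = s) :
    ∃ c : A.left, ∀ x : P.left, P.hom x = s → φ.left x = c := by
  letI : GrpObj ((Over.pullback y).obj A) := (Over.pullback y).grpObjObj
  haveI : IsProper ((Over.pullback y).obj A).hom := inferInstanceAs (IsProper (pullback.snd A.hom y))
  haveI : GeometricallyIntegral ((Over.pullback y).obj A).hom :=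
    inferInstanceAs (GeometricallyIntegral (pullback.snd A.hom y))
  obtain ⟨a, ha⟩ := GrothLib.Rigidity.eq_toUnit_comp_of_projSpace K n ((Over.pullback y).obj A)
    (Over.homMk (e.inv ≫ ((Over.pullback y).map φ).left) (by
      rw [Category.assoc, Over.w]
      show e.inv ≫ pullback.snd P.hom y = CohB1.ProjSpace.toSpec n K
      rw [← he, Iso.inv_hom_id_assoc]))
  refine ⟨pullback.fst A.hom y (a.left (IsLocalRing.closedPoint K)), fun x hx => ?_⟩
  obtain ⟨z, hz, -⟩ := Scheme.Pullback.exists_preimage_pullback (f := P.hom) (g := y) x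
    (IsLocalRing.closedPoint K) (by rw [hy, hx])
  have h := congrArg (fun t => (t.left ≫ pullback.fst A.hom y) (e.hom z)) ha
  simp only [Over.homMk_left, Over.pullback_map_left, Category.assoc, pullback.lift_fst,
    Over.comp_left] at h
  have hl : (e.inv ≫ pullback.fst P.hom y ≫ φ.left) (e.hom z) = φ.left x := by
    simp only [← Scheme.Hom.comp_apply, Iso.hom_inv_id_assoc]
    rw [Scheme.Hom.comp_apply, hz]
  rw [← hl]
  refine h.trans ?_
  show pullback.fst A.hom y (a.left _) = _
  congr 2
  exact Subsingleton.elim (α := PrimeSpectrum K) _ _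

/-- Let S be a locally Noetherian scheme, A an abelian scheme over S (an S-group scheme whose structure
morphism is proper and flat with geometrically integral fibres), and P an S-scheme whose structure
morphism is proper and flat and whose geometric fibres are projective spaces: for every
algebraically closed field K and every K-point of S, the fibre P ×_S Spec K is isomorphic over Spec
K to projective n-space over K for some n. Then every S-morphism P ⟶ A factors through the structure
morphism of P: it is the composite of P ⟶ S with a section S ⟶ A. -/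
theorem result {S : Scheme.{u}} [IsLocallyNoetherian S]
    (A : Over S) [GrpObj A] [IsProper A.hom] [Flat A.hom] [GeometricallyIntegral A.hom]
    (P : Over S) [IsProper P.hom] [Flat P.hom]
    (hP : ∀ (K : Type u) [Field K] [IsAlgClosed K] (s : Spec (CommRingCat.of K) ⟶ S),
      ∃ (n : ℕ) (e : pullback P.hom s ≅ CohB1.ProjSpace n K), e.hom ≫ CohB1.ProjSpace.toSpec n K = pullback.snd P.hom s)
    (φ : P ⟶ A) :
    ∃ a : 𝟙_ (Over S) ⟶ A, φ = toUnit P ≫ a := by
  have hint : ∀ (K : Type u) [Field K] [IsAlgClosed K] (t : Spec (CommRingCat.of K) ⟶ S) (X' : Scheme.{u})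
      (i : X' ⟶ P.left) (q : X' ⟶ Spec (CommRingCat.of K)), IsPullback i q P.hom t → IsIntegral X' := by
    intro K _ _ t X' i q hsq
    obtain ⟨n, e, -⟩ := hP K t
    haveI : IsIntegral (CohB1.ProjSpace n K) := GrothLib.ProjDim.isIntegral_proj K n
    exact IsIntegral.of_isIso (hsq.isoPullback ≪≫ e).inv
  haveI : GeometricallyReduced P.hom := (GrothLib.CurveLocus.geometricallyReduced_iff P.hom).mpr
    fun K _ _ t X' i q hsq => haveI := hint K t X' i q hsq; inferInstance
  haveI : GeometricallyConnected P.hom := (GrothLib.CurveLocus.geometricallyConnected_iff P.hom).mpr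
    fun K _ _ t X' i q hsq => haveI := hint K t X' i q hsq; inferInstance
  haveI : LocallyOfFinitePresentation P.hom := inferInstance
  obtain ⟨W, -, hW, k, hk⟩ := GrothLib.Rigidity.exists_isClopen_factor P.hom (𝟙 S) A.hom φ.left
    (by rw [Over.w, Category.comp_id])
  have hall : ∀ s : S, s ∈ W := by
    intro s
    rw [← hW s]
    obtain ⟨K, _, _, y, hy⟩ := GrothLib.Rigidity.exists_geometric_point s
    obtain ⟨n, e, he⟩ := hP K y
    obtain ⟨c, key⟩ := exists_apply_eq K y A P n e he φ s hy
    intro u ⟨x, hx, hxu⟩ v ⟨x', hx', hxv⟩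
    rw [← hxu, ← hxv, key x hx, key x' hx']
  let j : S ⟶ (W : Scheme.{u}) := IsOpenImmersion.lift W.ι (𝟙 S) (by
    rintro s -
    exact ⟨⟨s, hall s⟩, rfl⟩)
  have hj : j ≫ W.ι = 𝟙 S := IsOpenImmersion.lift_fac _ _ _
  let l : P.left ⟶ (P.hom ⁻¹ᵁ W : Scheme.{u}) := IsOpenImmersion.lift (P.hom ⁻¹ᵁ W).ι (𝟙 _) (by
    rintro x -
    exact ⟨⟨x, hall _⟩, rfl⟩)
  have hl : l ≫ (P.hom ⁻¹ᵁ W).ι = 𝟙 _ := IsOpenImmersion.lift_fac _ _ _
  have hlj : l ≫ (P.hom ∣_ W) = P.hom ≫ j := by
    rw [← cancel_mono W.ι, Category.assoc, morphismRestrict_ι, reassoc_of% hl, Category.assoc, hj, Category.comp_id]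
  have hfac : φ.left = P.hom ≫ j ≫ k := by
    rw [← reassoc_of% hlj, ← hk, reassoc_of% hl]
  refine ⟨Over.homMk (j ≫ k) ?_, Over.OverMorphism.ext hfac⟩
  by_cases hne : Nonempty P.left
  · show (j ≫ k) ≫ A.hom = 𝟙 S
    haveI : Surjective P.hom := ⟨fun s => by
      obtain ⟨K, _, _, y, hy⟩ := GrothLib.Rigidity.exists_geometric_point s
      obtain ⟨n, e, he⟩ := hP K y
      haveI : IsIntegral (CohB1.ProjSpace n K) := GrothLib.ProjDim.isIntegral_proj K n
      obtain ⟨z⟩ : Nonempty (CohB1.ProjSpace n K) := inferInstance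
      refine ⟨Limits.pullback.fst P.hom y (e.inv z), ?_⟩
      rw [← Scheme.Hom.comp_apply, Limits.pullback.condition, Scheme.Hom.comp_apply, hy]⟩
    haveI : Epi P.hom := inferInstance
    rw [← cancel_epi P.hom, ← Category.assoc, ← hfac, Over.w, Category.comp_id]
  · show (j ≫ k) ≫ A.hom = 𝟙 S
    haveI : IsEmpty ↥S := ⟨fun s => by
      obtain ⟨K, _, _, y, hy⟩ := GrothLib.Rigidity.exists_geometric_point s
      obtain ⟨n, e, he⟩ := hP K y
      haveI : IsIntegral (CohB1.ProjSpace n K) := GrothLib.ProjDim.isIntegral_proj K n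
      obtain ⟨z⟩ : Nonempty (CohB1.ProjSpace n K) := inferInstance
      exact hne ⟨Limits.pullback.fst P.hom y (e.inv z)⟩⟩
    exact (isInitialOfIsEmpty (X := S)).hom_ext _ _

end Groth.Agent.S14668
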