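import Groth.Statements.S14669
-- import your own Groth.Agent.* helpers here
import Groth.Agent.Lib.DegPoly.PRank

set_option autoImplicit false
universe u
open CategoryTheory CategoryTheory.Limits MonoidalCategory CartesianMonoidalCategory MonObj GrpObj AlgebraicGeometry
open AbVar

namespace Groth.Agent.S14669

/-- Let k be an algebraically closed field, A an abelian variety over k (a proper, geometrically
integral, commutative group scheme over k) of dimension g, and n ≥ 1 an integer. Then the group A(k)
of k-points of A is n-divisible, the number of k-points of A killed by n divides n^(2g), and this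
number equals n^(2g) if and only if n is not a multiple of the characteristic of k, i.e. n is
nonzero in k. (The published statement allows g = 0; for A = Spec k and n divisible by the
characteristic the last equivalence fails, and the printed proof uses that Ω_{A/k} has positive
rank, so positive dimension is assumed here.) -/
theorem result (k : Type u) [Field k] [IsAlgClosed k]
    (A : Over (Spec (CommRingCat.of k)))
    [GrpObj A] [IsCommMonObj A] [IsProper A.hom] [GeometricallyIntegral A.hom]
    (g : ℕ) (hg : topologicalKrullDim A.left = g) (hg0 : 0 < g) (n : ℕ) (hn : 0 < n) :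
    (∀ a : (𝟙_ (Over (Spec (CommRingCat.of k)))) ⟶ A, ∃ b : (𝟙_ (Over (Spec (CommRingCat.of k)))) ⟶ A, b ^ n = a) ∧
    Nat.card ↥(AbDual.torsPts A n (𝟙_ (Over (Spec (CommRingCat.of k))))) ∣ n ^ (2 * g) ∧
    (Nat.card ↥(AbDual.torsPts A n (𝟙_ (Over (Spec (CommRingCat.of k))))) = n ^ (2 * g) ↔ (n : k) ≠ 0) := by
  exact ⟨fun a => GrothLib.DegPoly.exists_root hn.ne' a, GrothLib.DegPoly.card_torsPts_dvd hg n hn.ne',
    GrothLib.DegPoly.card_torsPts_eq_iff hg hn.ne' hg0⟩

end Groth.Agent.S14669
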