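import Groth.Statements.S1467
import Groth.Agent.Lib.RG6.WEHens
import Groth.Agent.Lib.WeakEtale.Basic
-- import your own Groth.Agent.* helpers here

set_option autoImplicit false
universe u
open FlatMor

namespace Groth.Agent.S1467

open AlgebraicGeometry CategoryTheory Limits in
/-- A morphism f : X → Y is weakly étale if and only if, for every point x of X, strict henselizations
of the local rings at f x and at x coincide under the stalk map: every strict henselization of O_{X,
x} is, through the composite map O_{Y, f x} → O_{X, x} → (strict henselization), a strict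
henselization of O_{Y, f x}. -/
theorem result {X Y : Scheme.{u}} (f : X ⟶ Y) :
    WeaklyEtale f ↔ ∀ (x : X) (R : Type u) [CommRing R] [IsLocalRing R] [Algebra ↑(X.presheaf.stalk x) R]
      [IsLocalHom (algebraMap ↑(X.presheaf.stalk x) R)] [Hensel.IsStrictHenselization ↑(X.presheaf.stalk x) R],
      letI : Algebra ↑(Y.presheaf.stalk (f x)) R := ((algebraMap ↑(X.presheaf.stalk x) R).comp (f.stalkMap x).hom).toAlgebra
      ∃ _ : IsLocalHom (algebraMap ↑(Y.presheaf.stalk (f x)) R), Hensel.IsStrictHenselization ↑(Y.presheaf.stalk (f x)) R := by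
    constructor
    · intro _ x R _ _ _ _ _
      letI : Algebra ↑(Y.presheaf.stalk (f x)) R :=
        ((algebraMap ↑(X.presheaf.stalk x) R).comp (f.stalkMap x).hom).toAlgebra
      letI := (f.stalkMap x).hom.toAlgebra
      haveI : IsScalarTower ↑(Y.presheaf.stalk (f x)) ↑(X.presheaf.stalk x) R := IsScalarTower.of_algebraMap_eq fun _ => rfl
      haveI : Algebra.WeaklyEtale ↑(Y.presheaf.stalk (f x)) ↑(X.presheaf.stalk x) :=
        (GrothLib.WeakEtale.weaklyEtale_specMap_iff _).1 (GrothLib.WeakEtale.weaklyEtale_stalkMap f x)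
      haveI h : IsLocalHom (algebraMap ↑(Y.presheaf.stalk (f x)) R) :=
        RingHom.isLocalHom_comp (algebraMap ↑(X.presheaf.stalk x) R) (f.stalkMap x).hom
      exact ⟨h, GrothLib.RG6.isStrictHenselization_of_weaklyEtale _ ↑(X.presheaf.stalk x) R⟩
    · intro H
      refine GrothLib.WeakEtale.weaklyEtale_of_stalkMap f fun x => (GrothLib.WeakEtale.weaklyEtale_specMap_iff _).2 ?_
      letI := (f.stalkMap x).hom.toAlgebra
      obtain ⟨R, _, _, _, _, _⟩ := Groth.Agent.S0537.result ↑(X.presheaf.stalk x)
      letI : Algebra ↑(Y.presheaf.stalk (f x)) R :=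
        ((algebraMap ↑(X.presheaf.stalk x) R).comp (f.stalkMap x).hom).toAlgebra
      haveI : IsScalarTower ↑(Y.presheaf.stalk (f x)) ↑(X.presheaf.stalk x) R := IsScalarTower.of_algebraMap_eq fun _ => rfl
      obtain ⟨hloc, hsh⟩ := H x R
      haveI := hloc
      haveI := hsh
      haveI := GrothLib.RG6.weaklyEtale_sh ↑(Y.presheaf.stalk (f x)) R
      haveI : Module.FaithfullyFlat ↑(X.presheaf.stalk x) R := Groth.Agent.S0539.result _ _
      exact Groth.Agent.S1996.result _ ↑(X.presheaf.stalk x) R

end Groth.Agent.S1467
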