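import Groth.Statements.S14670
import Mathlib
import Groth.Agent.S2082
import Groth.Agent.Lib.CatCM.Basic
import Groth.Agent.Lib.Altitude.Basic
-- import your own Groth.Agent.* helpers here

set_option autoImplicit false
universe u
open CAlg

namespace Groth.Agent.S14670

/-- Let R be a regular local ring and S an integral domain containing R as a subring over which it is a
finitely generated module, such that the localization of S at each of its maximal ideals is a
Cohen–Macaulay local ring. Then S is a flat R-module. (The published statement does not require S to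
be a domain; in that generality it fails — for a discrete valuation ring R with residue field κ the
ring R × κ contains R diagonally, is finite over R with Cohen–Macaulay localizations, and is not
flat — and the printed argument needs every maximal ideal of S to have height dim R, which holds
when S is a domain by going down.) -/
theorem result (R S : Type u) [CommRing R] [CommRing S]
    [IsRegularLocalRing R] [IsDomain S] [Algebra R S] [Module.Finite R S]
    (hinj : Function.Injective (algebraMap R S))
    (hCM : ∀ (q : Ideal S) [q.IsMaximal], LocCoh.IsCohenMacaulayLocalRing (Localization.AtPrime q)) :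
    Module.Flat R S := by
  haveI : IsDomain R := Function.Injective.isDomain (algebraMap R S) hinj
  haveI : FaithfulSMul R S := (faithfulSMul_iff_algebraMap_injective R S).2 hinj
  haveI : IsNoetherianRing S := IsNoetherianRing.of_finite R S
  refine Module.flat_of_isLocalized_maximal S S (fun q _ => Localization.AtPrime q)
    (fun q _ => Algebra.linearMap S (Localization.AtPrime q)) fun q hq => ?_
  haveI := hCM q
  set m := IsLocalRing.maximalIdeal R with hm
  have hqm : q.comap (algebraMap R S) = m := IsLocalRing.eq_maximalIdeal
    (Ideal.isMaximal_comap_of_isIntegral_of_isMaximal q)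
  haveI : q.LiesOver m := ⟨hqm.symm⟩
  haveI : IsLocalHom (algebraMap R (Localization.AtPrime q)) := ⟨fun a ha => by
    by_contra hna
    have h1 : algebraMap R S a ∈ q := by
      show a ∈ q.comap (algebraMap R S)
      rw [hqm]; exact hna
    have h2 := (IsLocalization.AtPrime.to_map_mem_maximal_iff (Localization.AtPrime q) q (algebraMap R S a)).2 h1
    rw [← IsScalarTower.algebraMap_apply] at h2
    exact h2 ha⟩
  refine Groth.Agent.S2082.result ?_
  -- the fibre has dimension zero
  obtain ⟨t, s, ht, hs, -, heq⟩ := GrothLib.Altitude.height_add_trdeg R S m q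
  haveI : IsLocalization (⊥ : Submonoid R) R := IsLocalization.self (fun x hx => by
    rw [Submonoid.mem_bot] at hx; rw [hx]; exact isUnit_one)
  haveI : IsRegularRing R := GrothLib.Serre.isRegularRing_of_isRegularLocalRing R
  have h := heq ⊥ R bot_le (GrothLib.CatCM.isUniversallyCatenary_of_isRegularRing R)
  have ht0 : t = 0 := by rw [trdeg_eq_zero] at ht; exact_mod_cast ht.symm
  haveI : Algebra.IsAlgebraic (R ⧸ m) (S ⧸ q) := Algebra.IsIntegral.isAlgebraic
  have hs0 : s = 0 := by rw [trdeg_eq_zero] at hs; exact_mod_cast hs.symm
  rw [ht0, hs0, Nat.cast_zero, add_zero, add_zero] at h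
  have h0 : ringKrullDim (Localization.AtPrime q ⧸ m.map (algebraMap R (Localization.AtPrime q))) = 0 := by
    haveI : Nontrivial (Localization.AtPrime q ⧸ m.map (algebraMap R (Localization.AtPrime q))) := by
      refine Ideal.Quotient.nontrivial_iff.2 (ne_top_of_le_ne_top (IsLocalRing.maximalIdeal.isMaximal (Localization.AtPrime q)).ne_top
        (Ideal.map_le_iff_le_comap.2 fun a ha => map_nonunit (algebraMap R (Localization.AtPrime q)) a ha))
    refine ringKrullDimZero_iff_ringKrullDim_eq_zero.1
      (Ideal.krullDimLE_zero_quotient_iff_forall_minimalPrimes_isMaximal.2 fun J hJ => ?_)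
    haveI := hJ.1.1
    set Q := J.comap (algebraMap S (Localization.AtPrime q)) with hQ
    haveI : Q.IsPrime := Ideal.IsPrime.comap _
    have hQq : Q ≤ q := by
      refine (Ideal.comap_mono (IsLocalRing.le_maximalIdeal hJ.1.1.ne_top)).trans ?_
      exact le_of_eq Localization.AtPrime.under_maximalIdeal
    have hQm : Q.comap (algebraMap R S) = m := by
      refine le_antisymm (hqm ▸ Ideal.comap_mono hQq) ?_
      rw [hQ, Ideal.comap_comap, ← IsScalarTower.algebraMap_eq]
      exact Ideal.map_le_iff_le_comap.1 hJ.1.2
    have hQmax : Q.IsMaximal := Ideal.isMaximal_of_isIntegral_of_isMaximal_comap Q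
      (by rw [hQm]; exact IsLocalRing.maximalIdeal.isMaximal R)
    have hQe : Q = q := hQmax.eq_of_le hq.ne_top hQq
    have hJe : J = IsLocalRing.maximalIdeal (Localization.AtPrime q) := by
      rw [← IsLocalization.map_under q.primeCompl (Localization.AtPrime q) J,
        ← Localization.AtPrime.map_eq_maximalIdeal]
      exact congrArg _ hQe
    rw [hJe]
    exact IsLocalRing.maximalIdeal.isMaximal _
  rw [h0, add_zero, IsLocalization.AtPrime.ringKrullDim_eq_height q (Localization.AtPrime q), h,
    IsLocalRing.maximalIdeal_height_eq_ringKrullDim]

end Groth.Agent.S14670
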