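import Groth.Statements.S14674
import Groth.Agent.Lib.CubeRel26.AbScheme

set_option autoImplicit false
universe u
open CategoryTheory CategoryTheory.Limits MonoidalCategory CartesianMonoidalCategory MonObj GrpObj AlgebraicGeometry
open AbSch

namespace Groth.Agent.S14674

/-- Let S be a locally Noetherian scheme, X an abelian scheme over S (an S-group scheme whose structure
morphism α is proper and flat with geometrically integral fibres) with unit section e : S ⟶ X, L an
invertible O_X-module and n an integer; write [n] for the n-th multiple of the identity in the group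
of S-endomorphisms of X. Then [n]^*L ⊗ α^*(e^*L)^{⊗ n²} is isomorphic to L^{⊗(n²+n)/2} ⊗
[-1]^*L^{⊗(n²−n)/2} ⊗ α^*e^*L; equivalently [n]^*L ≅ L^{⊗(n²+n)/2} ⊗ [-1]^*L^{⊗(n²−n)/2} ⊗
[0]^*L^{⊗(1−n²)} with [0]^*L = α^*e^*L (existence of an isomorphism of O_X-modules only). -/
theorem result {S : Scheme.{u}} [IsLocallyNoetherian S] (X : Over S) [GrpObj X] [IsProper X.hom] [Flat X.hom] [GeometricallyIntegral X.hom]
    (L : X.left.Modules) (hL : PicF.IsInvertible L) (n : ℤ) :
    Nonempty (CohB1.tensorMod ((Scheme.Modules.pullback (𝟙 X ^ n).left).obj L)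
        ((Scheme.Modules.pullback X.hom).obj (CohB1.tensorPow ((Scheme.Modules.pullback (η[X]).left).obj L) (n.natAbs ^ 2))) ≅
      CohB1.tensorMod (CohB1.tensorMod (CohB1.tensorPow L ((n ^ 2 + n) / 2).toNat)
          ((Scheme.Modules.pullback (𝟙 X ^ (-1 : ℤ)).left).obj (CohB1.tensorPow L ((n ^ 2 - n) / 2).toNat)))
        ((Scheme.Modules.pullback X.hom).obj ((Scheme.Modules.pullback (η[X]).left).obj L))) := by
  open CategoryTheory MonoidalCategory CartesianMonoidalCategory MonObj in
  have hx := GrothLib.Cube.hasCls_clsMod hL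
  haveI : LocallyOfFinitePresentation X.hom := inferInstance
  haveI : GeometricallyConnected X.hom := GrothLib.Rigidity.geometricallyConnected_of_geometricallyIrreducible _
  refine GrothLib.Cube.HasCls.iso
    ((hx.pullback _).tensor (((hx.pullback (η[X] : 𝟙_ (Over S) ⟶ X).left).tensorPow _).pullback X.hom))
    (((hx.tensorPow _).tensor ((hx.tensorPow _).pullback _)).tensor ((hx.pullback (η[X] : 𝟙_ (Over S) ⟶ X).left).pullback X.hom)) ?_
  have hA : ∀ m : ℤ, 0 ≤ m ^ 2 + m := fun m => by nlinarith [sq_nonneg (2 * m + 1)]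
  have h1 : GrothLib.Cube.pull (𝟙 X ^ (1 : ℤ)).left (GrothLib.Cube.clsMod hL) = GrothLib.Cube.clsMod hL := by
    rw [zpow_one, Over.id_left]
    exact GrothLib.Cube.pull_id _
  have he : GrothLib.Cube.pull X.hom (GrothLib.Cube.pull (η[X] : 𝟙_ (Over S) ⟶ X).left (GrothLib.Cube.clsMod hL)) =
      GrothLib.Cube.pull (1 : X ⟶ X).left (GrothLib.Cube.clsMod hL) := GrothLib.Cube.pull_comp _ _ _
  rw [GrothLib.CubeRel26.pull_zpow _ n, h1, map_pow, map_pow]
  erw [he]
  rw [← zpow_natCast, ← zpow_natCast, ← zpow_natCast,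
    Int.toNat_of_nonneg (Int.ediv_nonneg (hA n) (by norm_num)),
    Int.toNat_of_nonneg (Int.ediv_nonneg (by have := hA (-n); linarith [neg_sq n]) (by norm_num))]
  push_cast
  rw [sq_abs, _root_.mul_assoc, ← zpow_add, sub_add_cancel, zpow_one]

end Groth.Agent.S14674
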