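import Groth.Statements.S14677
import Groth.Agent.Lib.AdicExtra.Exact
-- import your own Groth.Agent.* helpers here

set_option autoImplicit false
universe u
open CAlg

namespace Groth.Agent.S14677

/-- Let A be a Noetherian commutative ring, I and J ideals of A and M a finitely generated A-module.
Then the map of I-adic completions induced by the inclusion of the submodule JM into M is injective
with image exactly J·M̂, where M̂ is the I-adic completion of M; that is, the completion of JM is J
times the completion of M. (The published statement does not say that A is Noetherian; its proof
uses exactness of completion on finitely generated modules, which needs it, so this row assumes A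
Noetherian.) -/
theorem result (A : Type u) [CommRing A] [IsNoetherianRing A] (I J : Ideal A)
    (M : Type u) [AddCommGroup M] [Module A M] [Module.Finite A M] :
    Function.Injective (AdicCompletion.map I (J • (⊤ : Submodule A M)).subtype) ∧
      LinearMap.range (AdicCompletion.map I (J • (⊤ : Submodule A M)).subtype) =
        (J.map (algebraMap A (AdicCompletion I A))) • (⊤ : Submodule (AdicCompletion I A) (AdicCompletion I M)) := by
  exact ⟨AdicCompletion.map_injective I Subtype.val_injective, GrothLib.AdicExtra.range_map_subtype J⟩

end Groth.Agent.S14677
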