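import Groth.Statements.S14678

-- import your own Groth.Agent.* helpers here

set_option autoImplicit false
universe u
open CategoryTheory CategoryTheory.Limits AlgebraicGeometry
open EtBase

namespace Groth.Agent.S14678

/-- Let S be a scheme, s a point of S and ℓ a finite field extension of the residue field κ(s). Then,
fppf-locally around s, ℓ occurs as a residue field: there are an affine scheme U', a flat morphism b
: U' ⟶ S locally of finite presentation (so with open image containing s) and a morphism t : Spec ℓ
⟶ U' over the canonical morphism Spec ℓ ⟶ Spec κ(s) ⟶ S which is a preimmersion, i.e. the inclusion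
of a point s' of U' above s together with an identification of κ(s') with ℓ over κ(s); such a point
is closed in its fibre over s. (The published statement gives an affine open neighbourhood U of s
and an fppf morphism U' ⟶ U; this row asks only for a flat, locally finitely presented U' ⟶ S, whose
open image then contains s.) -/
theorem result (S : Scheme.{u}) (s : ↥S)
    (ℓ : Type u) [Field ℓ] [Algebra (S.residueField s) ℓ] [Module.Finite (S.residueField s) ℓ] :
    ∃ (U' : Scheme.{u}) (b : U' ⟶ S) (t : Spec (CommRingCat.of ℓ) ⟶ U'),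
      IsAffine U' ∧ Flat b ∧ LocallyOfFinitePresentation b ∧ IsPreimmersion t ∧
        t ≫ b = Spec.map (CommRingCat.ofHom (algebraMap (S.residueField s) ℓ)) ≫ S.fromSpecResidueField s := by
  obtain ⟨U, hU, hs, -⟩ := exists_isAffineOpen_mem_and_subset (x := s) (U := ⊤) trivial
  let A := Γ(S, U)
  let ev : A ⟶ S.residueField s := S.evaluation U s hs
  have hev : Spec.map ev ≫ hU.fromSpec = S.fromSpecResidueField s := by
    change Spec.map (S.presheaf.germ U s hs ≫ S.residue s) ≫ hU.fromSpec = _
    rw [Spec.map_comp, Category.assoc]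
    exact congrArg (_ ≫ ·) (hU.fromSpecStalk_eq_fromSpecStalk hs)
  have hfrac : ∀ c : S.residueField s, ∃ a b : A, ev.hom b ≠ 0 ∧ ev.hom b * c = ev.hom a := by
    intro c
    obtain ⟨c, rfl⟩ := S.residue_surjective s c
    algebraize [(S.presheaf.germ U s hs).hom]
    haveI : IsLocalization.AtPrime (S.presheaf.stalk s) (hU.primeIdealOf ⟨s, hs⟩).asIdeal :=
      hU.isLocalization_stalk ⟨s, hs⟩
    obtain ⟨⟨a, b, hb⟩, hab⟩ := IsLocalization.surj (hU.primeIdealOf ⟨s, hs⟩).asIdeal.primeCompl c
    refine ⟨a, b, ?_, ?_⟩
    · exact (IsUnit.map (S.residue s).hom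
        (IsLocalization.map_units (S.presheaf.stalk s) ⟨b, hb⟩)).ne_zero
    · change (S.residue s).hom _ * (S.residue s).hom c = (S.residue s).hom _
      rw [← map_mul, mul_comm]
      exact congrArg _ hab
  let g : A →+* ℓ := (algebraMap (S.residueField s) ℓ).comp ev.hom
  let b := Module.finBasis (S.residueField s) ℓ
  let ev' : MvPolynomial (Fin (Module.finrank (S.residueField s) ℓ)) A →+* ℓ :=
    MvPolynomial.eval₂Hom g b
  have hP : ∀ x : ℓ, ∃ r q, ev' q ≠ 0 ∧ ev' q * x = ev' r := by
    intro x
    rw [← b.sum_repr x]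
    refine Finset.sum_induction _ (fun x => ∃ r q, ev' q ≠ 0 ∧ ev' q * x = ev' r) ?_
      ⟨0, 1, by simp, by simp⟩ ?_
    · rintro x y ⟨r, q, hq, h⟩ ⟨r', q', hq', h'⟩
      refine ⟨r * q' + q * r', q * q', by simp [hq, hq'], ?_⟩
      rw [map_mul, map_add, map_mul, map_mul, ← h, ← h']
      ring
    · intro i _
      obtain ⟨a, c, hc, h⟩ := hfrac (b.repr x i)
      refine ⟨MvPolynomial.C a * MvPolynomial.X i, MvPolynomial.C c, ?_, ?_⟩
      · simpa [ev', g] using hc
      · rw [map_mul, Algebra.smul_def]
        simp only [ev', MvPolynomial.eval₂Hom_C, MvPolynomial.eval₂Hom_X', g, RingHom.comp_apply, ← h,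
          map_mul]
        ring
  refine ⟨Spec (CommRingCat.of (MvPolynomial (Fin (Module.finrank (S.residueField s) ℓ)) A)),
    Spec.map (CommRingCat.ofHom MvPolynomial.C) ≫ hU.fromSpec, Spec.map (CommRingCat.ofHom ev'),
    inferInstance, ?_, ?_, ?_, ?_⟩
  · haveI : Flat (Spec.map (CommRingCat.ofHom (MvPolynomial.C (R := A)
        (σ := Fin (Module.finrank (S.residueField s) ℓ))))) := by
      rw [Flat.SpecMap_iff]
      exact RingHom.flat_algebraMap_iff.2 (inferInstanceAs (Module.Flat A (MvPolynomial _ A)))
    exact inferInstance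
  · haveI : LocallyOfFinitePresentation (Spec.map (CommRingCat.ofHom (MvPolynomial.C (R := A)
        (σ := Fin (Module.finrank (S.residueField s) ℓ))))) := by
      rw [HasRingHomProperty.Spec_iff (P := @LocallyOfFinitePresentation)]
      exact (RingHom.finitePresentation_algebraMap).2 inferInstance
    exact inferInstance
  · refine IsPreimmersion.mk_SpecMap ?_ ?_
    · exact ⟨⟨Subsingleton.elim _ _⟩, fun _ _ _ => Subsingleton.elim _ _⟩
    · exact RingHom.surjectiveOnStalks_of_exists_div fun x => by
        obtain ⟨r, q, hq, h⟩ := hP x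
        exact ⟨r, q, isUnit_iff_ne_zero.2 hq, h⟩
  · rw [← Category.assoc, ← Spec.map_comp, ← hev, ← Category.assoc (Spec.map _) (Spec.map ev), ← Spec.map_comp]
    congr 2
    ext a
    exact MvPolynomial.eval₂Hom_C g b a

end Groth.Agent.S14678
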