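import Groth.Statements.S14679
import Mathlib.AlgebraicGeometry.PullbackCarrier
import Mathlib.AlgebraicGeometry.ResidueField

-- import your own Groth.Agent.* helpers here

set_option autoImplicit false
universe u
open CategoryTheory CategoryTheory.Limits AlgebraicGeometry
open EtBase

namespace Groth.Agent.S14679

/-- Given a morphism of schemes f : X ⟶ Y and a point x ∈ X with image y = f(x), such that the residue
field map κ(y) → κ(x) is bijective; let ℓ be an algebraic extension field of κ(y) and form the base
change X ×_Y Spec ℓ along Spec ℓ ⟶ Spec κ(y) ⟶ Y. Then there is exactly one point of X ×_Y Spec ℓ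
mapping to x under the first projection. (The published statement takes ℓ to be an algebraic closure
of κ(y), noting that any algebraic extension works, and also identifies the local ring at the point
with O_{X,x} ⊗_{O_{Y,y}} ℓ; this row allows any algebraic extension ℓ and states only the first
assertion.) -/
theorem result {X Y : Scheme.{u}} (f : X ⟶ Y) (x : ↥X)
    (hx : Function.Bijective (f.residueFieldMap x).hom)
    (ℓ : Type u) [Field ℓ] [Algebra (Y.residueField (f.base x)) ℓ] [Algebra.IsAlgebraic (Y.residueField (f.base x)) ℓ] :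
    ∃! z : ↥(pullback f (Spec.map (CommRingCat.ofHom (algebraMap (Y.residueField (f.base x)) ℓ)) ≫ Y.fromSpecResidueField (f.base x))),
      (pullback.fst f (Spec.map (CommRingCat.ofHom (algebraMap (Y.residueField (f.base x)) ℓ)) ≫ Y.fromSpecResidueField (f.base x))).base z = x := by
  set ψ : Spec (CommRingCat.of ℓ) ⟶ Y :=
    Spec.map (CommRingCat.ofHom (algebraMap (Y.residueField (f.base x)) ℓ)) ≫
      Y.fromSpecResidueField (f.base x) with hψ
  haveI : IsIso (f.residueFieldMap x) := (ConcreteCategory.isIso_iff_bijective _).2 hx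
  let ιx := X.fromSpecResidueField x
  let P := pullback (pullback.fst f ψ) ιx
  let q : P ⟶ Spec (CommRingCat.of ℓ) := pullback.fst _ _ ≫ pullback.snd f ψ
  haveI : Mono q := ⟨fun {T} a b h => by
    have h1 : a ≫ pullback.snd _ ιx = b ≫ pullback.snd _ ιx := by
      have e : ∀ c : T ⟶ P, (c ≫ pullback.snd _ ιx) ≫ Spec.map (f.residueFieldMap x) ≫
          Y.fromSpecResidueField (f.base x) = (c ≫ q) ≫ ψ := fun c => by
        rw [Scheme.Hom.SpecMap_residueFieldMap_fromSpecResidueField]
        simp only [q, ιx, Category.assoc]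
        rw [← pullback.condition_assoc, pullback.condition]
      have h2 := (e a).trans ((congrArg (· ≫ ψ) h).trans (e b).symm)
      rwa [← Category.assoc, ← Category.assoc, cancel_mono, cancel_mono] at h2
    refine pullback.hom_ext (pullback.hom_ext ?_ ?_) h1
    · rw [Category.assoc, Category.assoc, pullback.condition, ← Category.assoc, ← Category.assoc, h1]
    · rw [Category.assoc, Category.assoc]; exact h⟩
  have hsub : Subsingleton P := by
    let s₀ : Spec (CommRingCat.of ℓ) ⟶ Spec (X.residueField x) :=
      Spec.map (CommRingCat.ofHom (algebraMap (Y.residueField (f.base x)) ℓ)) ≫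
        inv (Spec.map (f.residueFieldMap x))
    have w : (s₀ ≫ ιx) ≫ f = 𝟙 _ ≫ ψ := by
      simp only [s₀, ιx, Category.assoc, Category.id_comp]
      rw [← Scheme.Hom.SpecMap_residueFieldMap_fromSpecResidueField, IsIso.inv_hom_id_assoc]
    let s : Spec (CommRingCat.of ℓ) ⟶ P :=
      pullback.lift (pullback.lift (s₀ ≫ ιx) (𝟙 _) w) s₀ (pullback.lift_fst _ _ _)
    have hs : s ≫ q = 𝟙 _ := by simp only [s, q]; rw [pullback.lift_fst_assoc, pullback.lift_snd]
    have hq : q ≫ s = 𝟙 _ := by rw [← cancel_mono q, Category.assoc, hs, Category.comp_id, Category.id_comp]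
    refine ⟨fun a b => ?_⟩
    have key : ∀ a : P, s.base (q.base a) = a := fun a => by
      rw [← Scheme.Hom.comp_apply, hq]; rfl
    rw [← key a, ← key b, Subsingleton.elim (q.base a) (q.base b)]
  have hx₀ : ∀ z, (pullback.fst f ψ).base z = x → ∃ a : P, (pullback.fst _ ιx).base a = z := fun z hz => by
    obtain ⟨a, ha, -⟩ := Scheme.Pullback.exists_preimage_pullback (f := pullback.fst f ψ) (g := ιx) z
      (default : Spec (X.residueField x)) (hz.trans (X.fromSpecResidueField_apply x _).symm)
    exact ⟨a, ha⟩
  obtain ⟨z, hz, -⟩ := Scheme.Pullback.exists_preimage_pullback (f := f) (g := ψ) x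
    (default : Spec (CommRingCat.of ℓ)) (Y.fromSpecResidueField_apply _ _).symm
  refine ⟨z, hz, fun z' hz' => ?_⟩
  obtain ⟨a, rfl⟩ := hx₀ z hz
  obtain ⟨b, rfl⟩ := hx₀ z' hz'
  rw [Subsingleton.elim a b]

end Groth.Agent.S14679
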