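import Groth.Statements.S1468
import Groth.Agent.Lib.GeomReg.Local
-- import your own Groth.Agent.* helpers here

set_option autoImplicit false
universe u
open FlatMor

namespace Groth.Agent.S1468

open AlgebraicGeometry CategoryTheory Limits in
/-- A smooth morphism is regular; concretely, for affine opens U ⊆ f⁻¹(V) the ring map O_Y(V) → O_X(U)
is a regular ring map (flat, with Noetherian and geometrically regular fibre rings). -/
theorem result {X Y : Scheme.{u}} (f : X ⟶ Y) [Smooth f] (U : X.Opens) (V : Y.Opens) (hU : IsAffineOpen U) (hV : IsAffineOpen V) (hUV : U ≤ f ⁻¹ᵁ V) :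
    letI := (f.appLE V U hUV).hom.toAlgebra
    CAlg.IsRegularHom Γ(Y, V) Γ(X, U) := by
  letI := (f.appLE V U hUV).hom.toAlgebra
  haveI : Algebra.Smooth Γ(Y, V) Γ(X, U) := f.smooth_appLE hV hU hUV
  refine GrothLib.GeomReg.isRegularHom_iff.2 ⟨inferInstance, fun K _ _ _ => ?_⟩
  exact GrothLib.GeomReg.isRegularRing_of_smooth K (TensorProduct Γ(Y, V) K Γ(X, U))

end Groth.Agent.S1468
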