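import Groth.Statements.S14680
import Groth.Agent.Lib.AdicExtra.Exact
-- import your own Groth.Agent.* helpers here

set_option autoImplicit false
universe u
open CAlg

namespace Groth.Agent.S14680

/-- Let A be a Noetherian commutative ring and f : M' → M, g : M → M'' linear maps between finitely
generated A-modules. Then the sequence 0 → M' → M → M'' → 0 is exact — f injective, the image of f
equal to the kernel of g, g surjective — if and only if for every maximal ideal m of A the sequence
of m-adic completions 0 → M'^ → M^ → M''^ → 0 (maps induced by f and g) is exact in the same sense. -/
theorem result (A : Type u) [CommRing A] [IsNoetherianRing A]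
    (M' M M'' : Type u) [AddCommGroup M'] [Module A M'] [AddCommGroup M] [Module A M] [AddCommGroup M''] [Module A M'']
    [Module.Finite A M'] [Module.Finite A M] [Module.Finite A M''] (f : M' →ₗ[A] M) (g : M →ₗ[A] M'') :
    (Function.Injective f ∧ Function.Exact f g ∧ Function.Surjective g) ↔
      ∀ (m : Ideal A) [m.IsMaximal],
        Function.Injective (AdicCompletion.map m f) ∧ Function.Exact (AdicCompletion.map m f) (AdicCompletion.map m g) ∧
          Function.Surjective (AdicCompletion.map m g) := by
  exact GrothLib.AdicExtra.shortExact_iff_forall_completion f g

end Groth.Agent.S14680
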