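import Groth.Statements.S14681
-- import your own Groth.Agent.* helpers here
import Groth.Agent.Lib.Cube.AmpleCrit
import Groth.Agent.Lib.Cube.DivisorSection
import Groth.Agent.Lib.BlowUp.Universal
import Groth.Agent.Lib.RedSub.Basic
import Groth.Agent.Lib.Cube.Nondegenerate

set_option autoImplicit false
universe u
open CategoryTheory CategoryTheory.Limits MonoidalCategory CartesianMonoidalCategory MonObj GrpObj AlgebraicGeometry
open AbVar

namespace Groth.Agent.S14681

/-- (b) ⇒ (e): let k be an algebraically closed field, A an abelian variety over k (a proper k-group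
scheme whose structure morphism is geometrically integral), D an effective Cartier divisor on A
given by its ideal sheaf I, and L an invertible O_A-module with L ⊗ I ≅ O_A (so L = O_A(D)). Suppose
the set of k-points a of A whose translation x ↦ x·a maps each irreducible component of the support
of D onto itself is finite. Then L is ample. -/
theorem result (k : Type u) [Field k] [IsAlgClosed k]
    (A : Over (Spec (CommRingCat.of k))) [GrpObj A] [IsProper A.hom] [GeometricallyIntegral A.hom]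
    (I : A.left.IdealSheafData) (hI : BlowUp.IsEffCartierIdeal I)
    (L : A.left.Modules) (hL : PicF.IsInvertible L) (hLI : ClSub.IsInverseOf L (ClSub.idealMod I))
    (hb : Set.Finite {a : (𝟙_ (Over (Spec (CommRingCat.of k)))) ⟶ A |
      ∀ Z ∈ irreducibleComponents ↥(I.support : Set ↥A.left),
        (fun x : ↥A.left => (𝟙 A * (toUnit A ≫ a)).left.base x) '' (Subtype.val '' Z) = Subtype.val '' Z}) :
    CohB1.IsAmple L := by
  haveI : IsIntegral A.left := GeometricallyIntegral.isIntegral_of_subsingleton A.hom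
  haveI := GrothLib.Cube.isCommMonObj_abVar (A := A)
  let U : A.left.Opens := ⟨(I.support : Set A.left)ᶜ, I.support.isClosed.isOpen_compl⟩
  have hs : GrothLib.Cube.HasSec (GrothLib.Cube.clsMod hL) U := by
    rw [GrothLib.Cube.clsMod_eq_inv_of_isInverseOf hL _ hLI]
    exact GrothLib.Cube.hasSec_compl_support hI
  have hne : (U : Set A.left).Nonempty := ⟨genericPoint A.left, GrothLib.BlowUp.notMem_support_of_maximal hI
    fun y hy => (hy.antisymm ((genericPoint_spec A.left).specializes trivial)).eq⟩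
  refine GrothLib.Cube.isAmple_of_finite_contracted hL hs hne _ hb fun T _ _ i h1 t t₀ Z hZ => ?_
  let P : Set A.left := Subtype.val '' Z
  have hPc : IsClosed P :=
    I.support.isClosed.isClosedEmbedding_subtypeVal.isClosedMap _ (isClosed_of_mem_irreducibleComponents Z hZ)
  have hPi : IsIrreducible P := hZ.1.image _ continuous_subtype_val.continuousOn
  have hPD : P ⊆ (I.support : Set A.left) := by rintro _ ⟨z, -, rfl⟩; exact z.2
  have hmax : ∀ Q : Set A.left, IsIrreducible Q → Q ⊆ (I.support : Set A.left) → P ⊆ Q → Q = P := by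
    intro Q hQ hQD hPQ
    refine Set.Subset.antisymm (fun q hq => ?_) hPQ
    have h2 : IsIrreducible (Subtype.val ⁻¹' Q : Set ↥(I.support : Set A.left)) := by
      obtain ⟨q₀, hq₀⟩ := hQ.1
      refine ⟨⟨⟨q₀, hQD hq₀⟩, hq₀⟩, ?_⟩
      rintro u v hu hv ⟨x, hxQ, hxu⟩ ⟨y, hyQ, hyv⟩
      obtain ⟨u', hu', rfl⟩ := isOpen_induced_iff.1 hu
      obtain ⟨v', hv', rfl⟩ := isOpen_induced_iff.1 hv
      obtain ⟨z, hzQ, hzu, hzv⟩ := hQ.2 u' v' hu' hv' ⟨x.1, hxQ, hxu⟩ ⟨y.1, hyQ, hyv⟩
      exact ⟨⟨z, hQD hzQ⟩, hzQ, hzu, hzv⟩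
    exact ⟨⟨q, hQD hq⟩, hZ.2 h2 (fun z hz => hPQ ⟨z, hz, rfl⟩) hq, rfl⟩
  have step : ∀ t t₀ : 𝟙_ (Over (Spec (CommRingCat.of k))) ⟶ T,
      (GrothLib.Cube.transl (t ≫ i * (t₀ ≫ i)⁻¹)).left '' P ⊆ P := by
    intro t t₀
    let C : TopologicalSpace.Closeds A.left := ⟨P, hPc⟩
    let J := Scheme.IdealSheafData.vanishingIdeal C
    have hr : Set.range J.subschemeι = P := GrothLib.RedSub.range_subschemeι_vanishingIdeal C
    haveI : IsReduced J.subscheme := GrothLib.RedSub.isReduced_subscheme_vanishingIdeal C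
    haveI : IrreducibleSpace J.subscheme := by
      haveI : IrreducibleSpace P := Subtype.irreducibleSpace hPi
      let h := (J.subschemeι.isClosedEmbedding.isEmbedding.toHomeomorph.trans (Homeomorph.setCongr hr))
      exact h.symm.surjective.irreducibleSpace h.symm.continuous
    haveI : IsIntegral J.subscheme := isIntegral_of_irreducibleSpace_of_isReduced _
    let Q : Over (Spec (CommRingCat.of k)) := Over.mk (J.subschemeι ≫ A.hom)
    let j : Q ⟶ A := Over.homMk J.subschemeι rfl
    haveI : IsIntegral Q.left := ‹IsIntegral J.subscheme›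
    haveI : IsProper Q.hom := inferInstanceAs (IsProper (J.subschemeι ≫ A.hom))
    haveI : IsLocallyNoetherian Q.left := LocallyOfFiniteType.isLocallyNoetherian Q.hom
    haveI : IsIntegral (T ⊗ Q).left := inferInstanceAs (IsIntegral (Limits.pullback T.hom Q.hom))
    haveI : IsProper (T ⊗ Q).hom := GrothLib.Cube.isProper_prod
    let m : T ⊗ Q ⟶ A := (fst T Q ≫ i) * (toUnit _ ≫ (t₀ ≫ i)⁻¹) * (snd T Q ≫ j)
    have hm : ∀ s : 𝟙_ (Over (Spec (CommRingCat.of k))) ⟶ T,
        lift (toUnit Q ≫ s) (𝟙 Q) ≫ m = j ≫ GrothLib.Cube.transl (s ≫ i * (t₀ ≫ i)⁻¹) := by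
      intro s
      simp only [m, GrothLib.Cube.transl, MonObj.comp_mul, lift_fst_assoc, lift_snd_assoc, Category.assoc,
        Category.id_comp, Category.comp_id, comp_toUnit_assoc]
      rw [mul_comm]
    have hrange : Set.range m.left ⊆ (I.support : Set A.left) := by
      intro y hy
      by_contra hyD
      obtain ⟨w, rfl⟩ := hy
      obtain ⟨p, hp⟩ := GrothLib.Cube.exists_ptOf_mem (A := T ⊗ Q) (O := m.left ⁻¹ᵁ U) ⟨w, hyD⟩
      have hpU : GrothLib.Cube.ptOf (p ≫ m) ∈ U := by rw [← GrothLib.Cube.apply_ptOf]; exact hp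
      let a := (p ≫ snd T Q) ≫ j * (t₀ ≫ i)⁻¹
      have ha : GrothLib.Cube.ptOf ((p ≫ fst T Q) ≫ i * a) ∈ U := by
        rw [show (p ≫ fst T Q) ≫ i * a = p ≫ m by
          simp only [m, a, MonObj.comp_mul, Category.assoc, Subsingleton.elim (p ≫ toUnit _) (𝟙 _),
            ← Category.assoc p (toUnit _), Category.id_comp]
          rw [_root_.mul_assoc, mul_comm ((t₀ ≫ i)⁻¹)]]
        exact hpU
      have h2 := GrothLib.Cube.subset_transl_of_subset_triLocus hs hne i (p ≫ fst T Q) h1 ha
      have h3 : GrothLib.Cube.HasSec (1 : GrothLib.Cube.Pic T.left) ((i ≫ GrothLib.Cube.transl a).left ⁻¹ᵁ U) := by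
        rw [← h2]; exact GrothLib.Cube.hasSec_pull _ hs
      have hmem : ∀ s : 𝟙_ (Over (Spec (CommRingCat.of k))) ⟶ T,
          (i ≫ GrothLib.Cube.transl a).left (GrothLib.Cube.ptOf s) = GrothLib.Cube.ptOf (s ≫ i * a) := fun s => by
        rw [GrothLib.Cube.apply_ptOf, ← Category.assoc, GrothLib.Cube.comp_transl_point]
      rcases GrothLib.Cube.locus_eq_bot_or_top (GrothLib.Cube.isAntiAffine_of_proper (X := T) t₀) h3 with h | h
      · have : GrothLib.Cube.ptOf (p ≫ fst T Q) ∈ (i ≫ GrothLib.Cube.transl a).left ⁻¹ᵁ U := by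
          show (i ≫ GrothLib.Cube.transl a).left _ ∈ U
          rw [hmem]
          exact ha
        rw [h] at this
        exact this
      · have : GrothLib.Cube.ptOf t₀ ∈ (i ≫ GrothLib.Cube.transl a).left ⁻¹ᵁ U := by rw [h]; trivial
        have h4 : GrothLib.Cube.ptOf (t₀ ≫ i * a) ∈ U := by rw [← hmem]; exact this
        rw [show t₀ ≫ i * a = (p ≫ snd T Q) ≫ j by
          rw [mul_comm]; simp only [a, inv_mul_cancel_right], ← GrothLib.Cube.apply_ptOf] at h4
        refine h4 (hPD ?_)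
        exact hr ▸ ⟨_, rfl⟩
    have hclosure : closure (Set.range m.left) = P := by
      refine hmax _ ?_ (closure_minimal hrange I.support.isClosed) ?_
      · refine isIrreducible_iff_closure.mpr ?_
        rw [← Set.image_univ]
        exact (IrreducibleSpace.isIrreducible_univ _).image _ m.left.continuous.continuousOn
      · rw [← hr]
        rintro _ ⟨z, rfl⟩
        refine subset_closure ⟨(lift (toUnit Q ≫ t₀) (𝟙 Q)).left z, ?_⟩
        rw [← Scheme.Hom.comp_apply, ← Over.comp_left, hm, mul_inv_cancel, GrothLib.Cube.transl_one, Category.comp_id]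
        rfl
    rw [← hr]
    rintro _ ⟨_, ⟨z, rfl⟩, rfl⟩
    rw [hr, ← hclosure]
    refine subset_closure ⟨(lift (toUnit Q ≫ t) (𝟙 Q)).left z, ?_⟩
    rw [← Scheme.Hom.comp_apply, ← Over.comp_left, hm, Over.comp_left, Scheme.Hom.comp_apply]
    rfl
  refine Set.Subset.antisymm (step t t₀) fun y hy => ?_
  refine ⟨(GrothLib.Cube.transl (t₀ ≫ i * (t ≫ i)⁻¹)).left y, step t₀ t ⟨y, hy, rfl⟩, ?_⟩
  show (GrothLib.Cube.transl (t ≫ i * (t₀ ≫ i)⁻¹)).left _ = y
  rw [← Scheme.Hom.comp_apply, ← Over.comp_left, GrothLib.Cube.transl_comp,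
    show t₀ ≫ i * (t ≫ i)⁻¹ * (t ≫ i * (t₀ ≫ i)⁻¹) = 1 by group, GrothLib.Cube.transl_one]
  rfl

end Groth.Agent.S14681
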