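import Groth.Statements.S14682
import Groth.Agent.Lib.SymHilb26.Universal

set_option autoImplicit false
universe u
open CategoryTheory CategoryTheory.Limits AlgebraicGeometry
open SymProd

namespace Groth.Agent.S14682

/-- Let S be a locally Noetherian scheme and f : C ⟶ S a proper morphism, smooth of relative dimension
1, such that every finite set of points of C lying over a single point of S is contained in an
affine open of C; let n ≥ 0 and let (Y, q, g) be an n-th symmetric power of C over S (q : C ×_S ⋯
×_S C ⟶ Y a quotient of the n-fold fibre power by the symmetric group permuting the factors: affine,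
invariant, identifying sections of O_Y with invariant sections; q ≫ g = the structure map). On the
fibre product of the n-fold fibre power with C consider the divisor D̃ = sum of the graphs of the n
projections, i.e. the product of the kernel ideal sheaves of the n sections (id, p_i). Then there is
exactly one quasi-coherent ideal sheaf J on Y ×_S C whose inverse image along q × id is D̃, and the
closed subscheme of Y ×_S C defined by any such J is finite locally free of degree n over Y (an
effective relative Cartier divisor of degree n). (The published statement is for a flat projective
family whose geometric fibres are connected regular curves; this row assumes properness, smoothness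
of relative dimension 1 and the affine-open property, which is what the proof uses.) -/
theorem result {C S Y : Scheme.{u}} [IsLocallyNoetherian S]
    (f : C ⟶ S) [IsProper f] [SmoothOfRelativeDimension 1 f] (hAF : SymProd.IsAF f)
    (n : ℕ) (q : SymProd.fibPow f n ⟶ Y) (g : Y ⟶ S) (hq : SymProd.IsSymProd f n q g) :
    (∃! J : (pullback g f).IdealSheafData, J.comap (pullback.map (WidePullback.base fun _ : Fin n => f) f g f q (𝟙 C) (𝟙 S) ((Category.comp_id _).trans hq.over.symm) ((Category.comp_id f).trans (Category.id_comp f).symm)) = ∏ i : Fin n, (pullback.lift (𝟙 (SymProd.fibPow f n)) (WidePullback.π (fun _ : Fin n => f) i) ((Category.id_comp _).trans (WidePullback.π_arrow (fun _ : Fin n => f) i).symm) : SymProd.fibPow f n ⟶ pullback (WidePullback.base fun _ : Fin n => f) f).ker) ∧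
    ∀ J : (pullback g f).IdealSheafData, J.comap (pullback.map (WidePullback.base fun _ : Fin n => f) f g f q (𝟙 C) (𝟙 S) ((Category.comp_id _).trans hq.over.symm) ((Category.comp_id f).trans (Category.id_comp f).symm)) = ∏ i : Fin n, (pullback.lift (𝟙 (SymProd.fibPow f n)) (WidePullback.π (fun _ : Fin n => f) i) ((Category.id_comp _).trans (WidePullback.π_arrow (fun _ : Fin n => f) i).symm) : SymProd.fibPow f n ⟶ pullback (WidePullback.base fun _ : Fin n => f) f).ker →
      Mor2.IsFinLocFreeOfDeg n (J.subschemeι ≫ pullback.fst g f) := by
  exact GrothLib.SymHilb26.descended_divisor hAF hq

end Groth.Agent.S14682
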