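import Groth.Statements.S15363
import Mathlib.AlgebraicGeometry.Morphisms.Flat
-- import your own Groth.Agent.* helpers here

set_option autoImplicit false
universe u
open CategoryTheory AlgebraicGeometry
open SekSuwa

namespace Groth.Agent.S15363

/-- Let R be an integral domain, p a prime and λ ∈ R a non-zero element with λ^p dividing (1 + λX)^p −
1, so that the congruence group scheme G_λ = Spec R[T]/(P_λ(T)) of level λ and its homomorphism θ_λ
: G_λ → μ_p, X ↦ 1 + λT, are defined. For every scheme G flat over Spec R, composition with θ_λ is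
injective on R-morphisms G → G_λ; in particular θ_λ induces an injective map from the homomorphisms
G → G_λ of a flat R-group scheme G to its homomorphisms G → μ_p. (The published statement is over
the ring of integers of an algebraic closure of a complete discretely valued field of mixed
characteristic, for finite flat commutative group schemes killed by p; the published argument, that
θ_λ is an isomorphism on the generic fibre and G is flat, gives the form stated here.) -/
theorem result (R : Type u) [CommRing R] [IsDomain R]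
    (p : ℕ) [Fact p.Prime] (lam : R) (h : SekSuwa.DivCond lam p)
    (G : Over (Spec (CommRingCat.of R))) [Flat G.hom]
    (f g : G ⟶ SekSuwa.GK R lam p h)
    (hfg : f ≫ SekSuwa.alphaN R lam p h = g ≫ SekSuwa.alphaN R lam p h) : f = g := by
  apply Over.OverMorphism.ext
  refine Scheme.Cover.hom_ext G.left.affineCover _ _ fun i => ?_
  change G.left.affineCover.f i ≫ f.left = G.left.affineCover.f i ≫ g.left
  have hcf : Flat (G.left.affineCover.f i) := inferInstance
  generalize G.left.affineCover.f i = c at hcf ⊢
  generalize hCdef : G.left.affineCover.X i = C at c hcf ⊢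
  have hC : IsAffine C := hCdef ▸ inferInstance
  rw [← cancel_epi C.isoSpec.inv]
  set a : Spec Γ(C, ⊤) ⟶ Spec (CommRingCat.of R) := C.isoSpec.inv ≫ c ≫ G.hom
  have ha : Flat a := by
    infer_instance
  set ρ := (Spec.preimage a).hom
  have hρ : ρ.Flat := by
    have h1 : Flat (Spec.map (Spec.preimage a)) := by rw [Spec.map_preimage]; exact ha
    exact (HasRingHomProperty.Spec_iff (P := @Flat)).mp h1
  letI : Algebra R Γ(C, ⊤) := ρ.toAlgebra
  have : Module.Flat R Γ(C, ⊤) := hρ
  have hv : ∀ v : G ⟶ SekSuwa.GK R lam p h, ∃ φ : SekSuwa.AK R lam p h →ₐ[R] Γ(C, ⊤),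
      C.isoSpec.inv ≫ c ≫ v.left = Spec.map (CommRingCat.ofHom φ.toRingHom) := by
    intro v
    let w : Spec Γ(C, ⊤) ⟶ Spec (CommRingCat.of (SekSuwa.AK R lam p h)) := C.isoSpec.inv ≫ c ≫ v.left
    have hw : w ≫ Spec.map (CommRingCat.ofHom (algebraMap R (SekSuwa.AK R lam p h))) = a := by
      change (C.isoSpec.inv ≫ c ≫ v.left) ≫ _ = C.isoSpec.inv ≫ c ≫ G.hom
      rw [Category.assoc, Category.assoc, ← Over.w v]
      rfl
    have hw' : CommRingCat.ofHom (algebraMap R (SekSuwa.AK R lam p h)) ≫ Spec.preimage w = Spec.preimage a := by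
      apply Spec.map_injective
      rw [Spec.map_comp, Spec.map_preimage, Spec.map_preimage, hw]
    exact ⟨{ (Spec.preimage w).hom with
      commutes' := fun r => RingHom.congr_fun (congrArg CommRingCat.Hom.hom hw') r }, (Spec.map_preimage w).symm⟩
  obtain ⟨φ, hφ⟩ := hv f
  obtain ⟨ψ, hψ⟩ := hv g
  have hu : φ (1 + lam • SekSuwa.AK.t) = ψ (1 + lam • SekSuwa.AK.t) := by
    have h1 := congrArg (fun t => C.isoSpec.inv ≫ c ≫ t.left) hfg
    simp only [Over.comp_left] at h1
    rw [← Category.assoc c, ← Category.assoc, hφ, ← Category.assoc c, ← Category.assoc C.isoSpec.inv, hψ,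
      SekSuwa.alphaN, SekSuwa.specHom_left] at h1
    have h1' := ((Spec.map_comp _ _).trans h1).trans (Spec.map_comp _ _).symm
    have h2 := RingHom.congr_fun (congrArg CommRingCat.Hom.hom (Spec.map_injective h1'))
      (MonoidAlgebra.single (Multiplicative.ofAdd (1 : ZMod p)) 1)
    rw [← SekSuwa.alphaNHom_single_one R lam p h]
    exact h2
  have ht : φ SekSuwa.AK.t = ψ SekSuwa.AK.t := by
    simp only [map_add, map_one, map_smul, add_right_inj] at hu
    rw [Algebra.smul_def, Algebra.smul_def] at hu
    exact (IsSMulRegular.of_flat (S := Γ(C, ⊤)) (IsSMulRegular.of_ne_zero (nonZeroDivisors.ne_zero h.nzd))) hu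
  have hinv : φ SekSuwa.AK.inv = ψ SekSuwa.AK.inv := by
    have h0 : (SekSuwa.AK.inv : SekSuwa.AK R lam p h) * (1 + lam • SekSuwa.AK.t) = 1 := by
      have h3 := congrArg (SekSuwa.AK.mkHom R lam p h) (SekSuwa.A.inv_mul_u (R := R) (lam := lam))
      rw [map_mul, map_one, SekSuwa.AK.mkHom_u] at h3
      exact h3
    refine left_inv_eq_right_inv (a := φ (1 + lam • SekSuwa.AK.t)) ?_ ?_
    · rw [← map_mul, h0, map_one]
    · rw [hu, ← map_mul, mul_comm, h0, map_one]
  rw [hφ, hψ, SekSuwa.AK.algHom_ext ht hinv]

end Groth.Agent.S15363
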