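import Groth.Statements.S14683
import Groth.Agent.S15363
import Groth.Agent.S14694
import Groth.Agent.Lib.DiagGrp.Points
import Mathlib.RepresentationTheory.Maschke
import Mathlib.RingTheory.Jacobson.Ring
import Mathlib.GroupTheory.GroupAction.Defs
import Mathlib.GroupTheory.PGroup
import Mathlib.RingTheory.Jacobson.Semiprimary
import Mathlib.RingTheory.Flat.TorsionFree
import Mathlib.RingTheory.DiscreteValuationRing.Basic
-- import your own Groth.Agent.* helpers here

set_option autoImplicit false
universe u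
open CategoryTheory AlgebraicGeometry MonoidalCategory CartesianMonoidalCategory MonObj GrpObj
open SekSuwa

namespace Groth.Agent.S14683

/-- Let R be a discrete valuation ring of characteristic zero and residue characteristic p, and let λ, μ
∈ R satisfy the divisibility condition under which the finite R-group schemes G_{λ,1} and G_{μ,1}
(the kernels of the isogenies ψ of the one-parameter groups with law s + t + λst, resp. μ) are
defined. Then every action of G_{μ,1} on G_{λ,1} by group automorphisms is trivial: for every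
R-scheme T and all T-valued points g of G_{μ,1} and x of G_{λ,1}, g · x = x. An action by group
automorphisms is an action of the group scheme G_{μ,1} on the scheme G_{λ,1} whose action map is
multiplicative in the second variable on points. (The published statement is made under standing
assumptions that R contains a primitive p²-th root of unity and that λ, μ have positive valuation;
this row drops both, which the argument does not use.) -/
theorem result (R : Type u) [CommRing R] [IsDomain R] [IsDiscreteValuationRing R] [CharZero R]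
    (p : ℕ) [Fact p.Prime] [CharP (IsLocalRing.ResidueField R) p]
    (lam mu : R) (h₁ : SekSuwa.DivCond lam p) (h₂ : SekSuwa.DivCond mu p)
    (a : AlgGrp.Action (SekSuwa.GK R mu p h₂) (SekSuwa.GK R lam p h₁))
    (hmul : ∀ (T : Over (Spec (CommRingCat.of R))) (g : T ⟶ SekSuwa.GK R mu p h₂)
      (x y : T ⟶ SekSuwa.GK R lam p h₁), lift g (x * y) ≫ a.act = (lift g x ≫ a.act) * (lift g y ≫ a.act))
    (T : Over (Spec (CommRingCat.of R))) (g : T ⟶ SekSuwa.GK R mu p h₂) (x : T ⟶ SekSuwa.GK R lam p h₁) :
    lift g x ≫ a.act = x := by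
  classical
  have hp : p.Prime := Fact.out
  let L := AlgebraicClosure (FractionRing R)
  haveI : IsScalarTower R (FractionRing R) L := inferInstance
  haveI : FaithfulSMul R L := (faithfulSMul_iff_algebraMap_injective R L).2 (by
    rw [IsScalarTower.algebraMap_eq R (FractionRing R) L]
    exact (algebraMap (FractionRing R) L).injective.comp (IsFractionRing.injective R (FractionRing R)))
  haveI : CharZero L := charZero_of_injective_algebraMap (FaithfulSMul.algebraMap_injective R L)
  haveI : Module.IsTorsionFree R L := inferInstance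
  haveI : Module.Flat R L := inferInstance
  let P : Over (Spec (CommRingCat.of R)) := (Spec (CommRingCat.of L)).asOver (Spec (CommRingCat.of R))
  haveI : Flat P.hom := by
    show Flat (Spec.map (CommRingCat.ofHom (algebraMap R L)))
    rw [HasRingHomProperty.Spec_iff (P := @Flat)]
    exact RingHom.flat_algebraMap_iff.mpr inferInstance
  -- the composite with alpha, as a character
  let E := GrothLib.DiagGrp.specPoint R (ZMod p) L
  let c : ∀ μ₀ : R, ∀ hh : SekSuwa.DivCond μ₀ p, (P ⟶ SekSuwa.GK R μ₀ p hh) → (Multiplicative (ZMod p) →* L) :=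
    fun μ₀ hh v => E.symm (v ≫ SekSuwa.alphaN R μ₀ p hh)
  have hcinj : ∀ μ₀ hh, Function.Injective (c μ₀ hh) := fun μ₀ hh v w hvw =>
    Groth.Agent.S15363.result R p μ₀ hh P v w (E.symm.injective hvw)
  have hcmul : ∀ μ₀ hh v w, c μ₀ hh (v * w) = c μ₀ hh v * c μ₀ hh w := fun μ₀ hh v w => by
    simp only [c, MonObj.mul_comp, map_mul]
  let r : (Multiplicative (ZMod p) →* L) → rootsOfUnity p L := fun χ =>
    ⟨χ.toHomUnits (Multiplicative.ofAdd (1 : ZMod p)), by
      rw [mem_rootsOfUnity, ← map_pow, ← ofAdd_nsmul]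
      simp⟩
  have hrinj : Function.Injective r := fun χ ψ hχ => MonoidHom.ext fun m => by
    obtain ⟨a, rfl⟩ := Multiplicative.ofAdd.surjective m
    have h1 : χ (Multiplicative.ofAdd (1 : ZMod p)) = ψ (Multiplicative.ofAdd (1 : ZMod p)) :=
      congrArg (fun z : rootsOfUnity p L => ((z : Lˣ) : L)) hχ
    haveI : NeZero p := ⟨hp.ne_zero⟩
    rw [← ZMod.natCast_zmod_val a, ← nsmul_one a.val, ofAdd_nsmul, map_pow, map_pow, h1]
  haveI : NeZero p := ⟨hp.ne_zero⟩
  let H := P ⟶ SekSuwa.GK R lam p h₁
  haveI : Finite H := Finite.of_injective (r ∘ c lam h₁) (hrinj.comp (hcinj lam h₁))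
  have hcard : Nat.card H ≤ p := le_trans (Nat.card_le_card_of_injective (r ∘ c lam h₁) (hrinj.comp (hcinj lam h₁)))
    (card_rootsOfUnity L p)
  have hone : ∀ g : P ⟶ SekSuwa.GK R mu p h₂, lift g (1 : H) ≫ a.act = 1 := fun g => by
    have := hmul P g (1 : H) 1
    rw [_root_.mul_one] at this
    exact left_eq_mul.1 this
  let A : MulAction (P ⟶ SekSuwa.GK R mu p h₂) H :=
    { smul := fun g x => lift g x ≫ a.act
      one_smul := fun x => by
        show lift (1 : P ⟶ SekSuwa.GK R mu p h₂) x ≫ a.act = x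
        rw [Hom.one_def, ← lift_whiskerRight_assoc, a.one_act, leftUnitor_hom, lift_snd]
      mul_smul := fun g g' x => by
        show lift (g * g') x ≫ a.act = lift g (lift g' x ≫ a.act) ≫ a.act
        rw [Hom.mul_def, ← lift_whiskerRight_assoc, a.mul_act, lift_lift_associator_hom_assoc,
          lift_whiskerLeft_assoc] }
  letI := A
  have hgrp : IsPGroup p (P ⟶ SekSuwa.GK R mu p h₂) := fun g => ⟨1, hcinj mu h₂ (MonoidHom.ext fun m => by
    have h1 : ∀ n : ℕ, c mu h₂ (g ^ n) = c mu h₂ g ^ n := fun n => by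
      induction n with
      | zero => simp only [pow_zero, c, MonObj.one_comp, map_one]
      | succ j ih => rw [pow_succ, pow_succ, hcmul, ih]
    rw [pow_one, h1, show c mu h₂ 1 = 1 by simp only [c, MonObj.one_comp, map_one], MonoidHom.pow_apply,
      ← map_pow, show m ^ p = 1 from by
        obtain ⟨z, rfl⟩ := Multiplicative.ofAdd.surjective m
        rw [← ofAdd_nsmul]; simp, map_one, MonoidHom.one_apply])⟩
  haveI : Finite (P ⟶ SekSuwa.GK R mu p h₂) := Finite.of_injective (r ∘ c mu h₂) (hrinj.comp (hcinj mu h₂))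
  have key : ∀ (g : P ⟶ SekSuwa.GK R mu p h₂) (x : H), lift g x ≫ a.act = x := by
    intro g x
    have hfix1 : (1 : H) ∈ MulAction.fixedPoints (P ⟶ SekSuwa.GK R mu p h₂) H := fun g' => hone g'
    haveI : Finite (MulAction.orbit (P ⟶ SekSuwa.GK R mu p h₂) x) := inferInstance
    obtain ⟨e, he⟩ := hgrp.card_orbit x
    rcases Nat.eq_zero_or_pos e with h0 | h0
    · rw [h0, pow_zero, Nat.card_eq_one_iff_unique] at he
      exact congrArg Subtype.val (he.1.elim ⟨g • x, MulAction.mem_orbit x g⟩ ⟨x, MulAction.mem_orbit_self x⟩)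
    · exfalso
      have h1 : (1 : H) ∉ MulAction.orbit (P ⟶ SekSuwa.GK R mu p h₂) x := by
        rintro ⟨g', hg'⟩
        have hx : x = 1 := by
          have := congrArg (g'⁻¹ • ·) hg'
          simp only [inv_smul_smul] at this
          exact this.trans (hfix1 g'⁻¹)
        subst hx
        have : MulAction.orbit (P ⟶ SekSuwa.GK R mu p h₂) (1 : H) = {(1 : H)} :=
          Set.eq_singleton_iff_unique_mem.2 ⟨MulAction.mem_orbit_self _, fun y ⟨g'', hy⟩ => hy ▸ hfix1 g''⟩
        rw [this] at he
        simp only [Nat.card_eq_fintype_card, Set.card_singleton] at he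
        have := Nat.one_lt_pow h0.ne' hp.one_lt
        omega
      have h2 : p ≤ Nat.card (MulAction.orbit (P ⟶ SekSuwa.GK R mu p h₂) x) := he ▸ Nat.le_self_pow h0.ne' p
      have h3 : Nat.card (MulAction.orbit (P ⟶ SekSuwa.GK R mu p h₂) x) < Nat.card H :=
        (Finite.card_subtype_lt h1)
      omega
  -- separation of the universal pair by field valued points
  let Am := SekSuwa.AK R mu p h₂
  let Al := SekSuwa.AK R lam p h₁
  let B := TensorProduct R Am Al
  have hfree : ∀ μ₀ hh, Module.Flat R (SekSuwa.AK R μ₀ p hh) := fun μ₀ hh => by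
    have h1 := (Groth.Agent.S14694.result R μ₀ p hp.pos hh).1.2.1
    change Flat (Spec.map (CommRingCat.ofHom (algebraMap R (SekSuwa.AK R μ₀ p hh)))) at h1
    rw [HasRingHomProperty.Spec_iff (P := @Flat)] at h1
    exact RingHom.flat_algebraMap_iff.mp h1
  haveI := hfree mu h₂
  haveI := hfree lam h₁
  have hfinm : ∀ μ₀ hh, Module.Finite R (SekSuwa.AK R μ₀ p hh) := fun μ₀ hh => by
    have h1 := (Groth.Agent.S14694.result R μ₀ p hp.pos hh).1.1
    change IsFinite (Spec.map (CommRingCat.ofHom (algebraMap R (SekSuwa.AK R μ₀ p hh)))) at h1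
    rw [IsFinite.SpecMap_iff] at h1
    exact RingHom.finite_algebraMap.mp h1
  haveI := hfinm mu h₂
  haveI := hfinm lam h₁
  let BL := TensorProduct R L B
  have hsep : ∀ b : B, (∀ χ : B →ₐ[R] L, χ b = 0) → b = 0 := by
    intro b hb
    have hu : ∀ μ₀ (hh : SekSuwa.DivCond μ₀ p), (1 + μ₀ • (SekSuwa.AK.t : SekSuwa.AK R μ₀ p hh)) ^ p = 1 :=
      fun μ₀ hh => SekSuwa.AK.u_pow
    let ψ : L →+* BL := Algebra.TensorProduct.includeLeftRingHom
    let jm : Am →ₐ[R] BL := Algebra.TensorProduct.includeRight.comp Algebra.TensorProduct.includeLeft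
    let jl : Al →ₐ[R] BL := Algebra.TensorProduct.includeRight.comp Algebra.TensorProduct.includeRight
    let mk : ∀ μ₀ (hh : SekSuwa.DivCond μ₀ p), (SekSuwa.AK R μ₀ p hh →ₐ[R] BL) →
        (Multiplicative (ZMod p) →* BL) := fun μ₀ hh j =>
      j.toRingHom.toMonoidHom.comp ((SekSuwa.alphaNHom R μ₀ p hh : MonoidAlgebra R (Multiplicative (ZMod p)) →ₐ[R] _).toRingHom.toMonoidHom.comp
        (MonoidAlgebra.of R (Multiplicative (ZMod p))))
    let F : MonoidAlgebra L (Multiplicative (ZMod p) × Multiplicative (ZMod p)) →ₐ[L] BL :=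
      MonoidAlgebra.lift L BL _ ((mk mu h₂ jm).coprod (mk lam h₁ jl))
    have ht : ∀ μ₀ (hh : SekSuwa.DivCond μ₀ p) (j : SekSuwa.AK R μ₀ p hh →ₐ[R] BL),
        (∀ m, mk μ₀ hh j m ∈ F.range) → j SekSuwa.AK.t ∈ F.range ∧ j SekSuwa.AK.inv ∈ F.range := by
      intro μ₀ hh j hj
      have h1 : j (1 + μ₀ • SekSuwa.AK.t) ∈ F.range := by
        have := hj (Multiplicative.ofAdd (1 : ZMod p))
        rw [← SekSuwa.alphaNHom_single_one R μ₀ p hh]
        exact this
      have h0 : (SekSuwa.AK.inv : SekSuwa.AK R μ₀ p hh) = (1 + μ₀ • SekSuwa.AK.t) ^ (p - 1) := by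
        have h2 : (SekSuwa.AK.inv : SekSuwa.AK R μ₀ p hh) * (1 + μ₀ • SekSuwa.AK.t) = 1 := by
          have h3 := congrArg (SekSuwa.AK.mkHom R μ₀ p hh) (SekSuwa.A.inv_mul_u (R := R) (lam := μ₀))
          rw [map_mul, map_one, SekSuwa.AK.mkHom_u] at h3
          exact h3
        refine left_inv_eq_right_inv h2 ?_
        rw [← pow_succ', Nat.sub_add_cancel hp.one_le, hu]
      refine ⟨?_, by rw [h0, map_pow]; exact pow_mem h1 _⟩
      have hne : algebraMap R L μ₀ ≠ 0 := fun h0 => nonZeroDivisors.ne_zero hh.nzd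
        (FaithfulSMul.algebraMap_injective R L (h0.trans (map_zero _).symm))
      have h4 : j SekSuwa.AK.t = (algebraMap R L μ₀)⁻¹ • (j (1 + μ₀ • SekSuwa.AK.t) - 1) := by
        rw [map_add, map_one, map_smul, add_sub_cancel_left, ← IsScalarTower.algebraMap_smul L μ₀ (j SekSuwa.AK.t),
          smul_smul, inv_mul_cancel₀ hne, one_smul]
      rw [h4]
      exact Subalgebra.smul_mem _ (sub_mem h1 (one_mem _)) _
    have hall : ∀ μ₀ (hh : SekSuwa.DivCond μ₀ p) (j : SekSuwa.AK R μ₀ p hh →ₐ[R] BL),
        (∀ m, mk μ₀ hh j m ∈ F.range) → ∀ y, j y ∈ F.range := by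
      intro μ₀ hh j hj y
      obtain ⟨y, rfl⟩ := Ideal.Quotient.mk_surjective y
      obtain ⟨y, rfl⟩ := Ideal.Quotient.mk_surjective y
      let J : SekSuwa.Poly R μ₀ →+* BL :=
        j.toRingHom.comp ((Ideal.Quotient.mk (SekSuwa.kerIdeal μ₀ p hh)).comp (Ideal.Quotient.mk (SekSuwa.Poly.relIdeal R μ₀)))
      change J y ∈ F.range
      induction y using MvPolynomial.induction_on with
      | C r =>
        have e : j ((algebraMap R (SekSuwa.AK R μ₀ p hh)) r) ∈ F.range := by
          rw [j.commutes, IsScalarTower.algebraMap_apply R L BL]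
          exact Subalgebra.algebraMap_mem _ _
        exact e
      | add q q' hq hq' => exact (map_add J q q').symm ▸ add_mem hq hq'
      | mul_X q i hq =>
        refine (map_mul J q (MvPolynomial.X i)).symm ▸ mul_mem hq ?_
        obtain ⟨h5, h6⟩ := ht μ₀ hh j hj
        match i with
        | 0 => exact h5
        | 1 => exact h6
    have hm : ∀ y, jm y ∈ F.range := hall mu h₂ jm fun m => ⟨MonoidAlgebra.of L _ (m, 1), by simp [F]⟩
    have hl : ∀ y, jl y ∈ F.range := hall lam h₁ jl fun m => ⟨MonoidAlgebra.of L _ (1, m), by simp [F]⟩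
    have hsurj : Function.Surjective F := by
      intro y
      change y ∈ F.range
      induction y using TensorProduct.induction_on with
      | zero => exact zero_mem _
      | add q q' hq hq' => exact add_mem hq hq'
      | tmul l y =>
        induction y using TensorProduct.induction_on with
        | zero => rw [TensorProduct.tmul_zero]; exact zero_mem _
        | add q q' hq hq' => rw [TensorProduct.tmul_add]; exact add_mem hq hq'
        | tmul y z =>
          have : l ⊗ₜ[R] (y ⊗ₜ[R] z) = l • (jm y * jl z) := by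
            show l ⊗ₜ[R] (y ⊗ₜ[R] z) = l • ((1 : L) ⊗ₜ[R] (y ⊗ₜ[R] (1 : Al)) * (1 : L) ⊗ₜ[R] ((1 : Am) ⊗ₜ[R] z))
            rw [Algebra.TensorProduct.tmul_mul_tmul, Algebra.TensorProduct.tmul_mul_tmul, _root_.mul_one,
              _root_.mul_one, _root_.one_mul, TensorProduct.smul_tmul', smul_eq_mul, _root_.mul_one]
          rw [this]
          exact Subalgebra.smul_mem _ (mul_mem (hm y) (hl z)) _
    haveI : IsSemisimpleRing (MonoidAlgebra L (Multiplicative (ZMod p) × Multiplicative (ZMod p))) := inferInstance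
    haveI : IsSemisimpleRing BL := F.toRingHom.isSemisimpleRing_of_surjective hsurj
    haveI : IsReduced BL := inferInstance
    haveI : Algebra.FiniteType L BL := inferInstance
    haveI : IsJacobsonRing BL := isJacobsonRing_of_finiteType (A := L)
    have h1 : (1 : L) ⊗ₜ[R] b ∈ (⊥ : Ideal BL).jacobson := by
      rw [Ideal.jacobson, Submodule.mem_sInf]
      rintro m ⟨-, hm'⟩
      haveI : Ideal.IsMaximal m := hm'
      letI := Ideal.Quotient.field m
      haveI : Module.Finite L (BL ⧸ m) := finite_of_finite_type_of_isJacobsonRing L _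
      let i : L ≃ₐ[L] BL ⧸ m := AlgEquiv.ofBijective (Algebra.ofId L _)
        IsAlgClosed.algebraMap_bijective_of_isIntegral
      have h2 := hb (((i.symm.toAlgHom.comp (Ideal.Quotient.mkₐ L m)).restrictScalars R).comp
        Algebra.TensorProduct.includeRight)
      change i.symm (Ideal.Quotient.mk m ((1 : L) ⊗ₜ[R] b)) = 0 at h2
      rwa [EmbeddingLike.map_eq_zero_iff, Ideal.Quotient.eq_zero_iff_mem] at h2
    rw [← Ideal.radical_eq_jacobson] at h1
    exact Algebra.TensorProduct.includeRight_injective (FaithfulSMul.algebraMap_injective R L)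
      ((IsReduced.eq_zero _ h1).trans (map_zero Algebra.TensorProduct.includeRight).symm)
  let T₀ : Over (Spec (CommRingCat.of R)) := (Spec (CommRingCat.of B)).asOver (Spec (CommRingCat.of R))
  let e : T₀ ⟶ SekSuwa.GK R mu p h₂ ⊗ SekSuwa.GK R lam p h₁ :=
    Over.homMk (pullbackSpecIso R Am Al).inv ((pullbackSpecIso_inv_fst_assoc R Am Al _).trans
      ((Spec.map_comp _ _).symm.trans rfl))
  haveI : IsIso e.left := inferInstanceAs (IsIso (pullbackSpecIso R Am Al).inv)
  haveI : IsIso ((Over.forget _).map e) := inferInstanceAs (IsIso e.left)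
  haveI : IsIso e := isIso_of_reflects_iso e (Over.forget _)
  have huniv : a.act = snd _ _ := by
    rw [← cancel_epi e]
    have halg : ∀ v : T₀ ⟶ SekSuwa.GK R lam p h₁, ∃ φ : Al →ₐ[R] B,
        v.left = Spec.map (CommRingCat.ofHom φ.toRingHom) := by
      intro v
      obtain ⟨f, hf⟩ := Spec.map_surjective v.left
      have w : Spec.map f ≫ Spec.map (CommRingCat.ofHom (algebraMap R Al)) =
          Spec.map (CommRingCat.ofHom (algebraMap R B)) := by rw [hf]; exact Over.w v
      rw [← Spec.map_comp] at w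
      exact ⟨{ f.hom with commutes' := fun q => congr($(Spec.map_injective w).hom q) }, hf.symm⟩
    obtain ⟨φ, hφ⟩ := halg (e ≫ a.act)
    obtain ⟨ψ, hψ⟩ := halg (e ≫ snd _ _)
    have hEq : φ = ψ := AlgHom.ext fun y => sub_eq_zero.1 (hsep _ fun χ => by
      rw [map_sub, sub_eq_zero]
      let z : P ⟶ T₀ := Over.homMk (Spec.map (CommRingCat.ofHom χ.toRingHom)) (by
        show _ ≫ Spec.map _ = Spec.map _
        rw [← Spec.map_comp, ← CommRingCat.ofHom_comp, AlgHom.toRingHom_eq_coe, AlgHom.comp_algebraMap])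
      have h1 : z ≫ e ≫ a.act = z ≫ e ≫ snd _ _ := by
        have h0 : lift ((z ≫ e) ≫ fst _ _) ((z ≫ e) ≫ snd _ _) = z ≫ e := by
          rw [← comp_lift, lift_fst_snd, Category.comp_id]
        rw [← Category.assoc, ← Category.assoc, ← h0, key, lift_snd]
      have h2 := congrArg (fun q : P ⟶ _ => q.left) h1
      simp only [Over.comp_left] at h2 hφ hψ
      rw [hφ, hψ] at h2
      change Spec.map (CommRingCat.ofHom χ.toRingHom) ≫ _ = Spec.map (CommRingCat.ofHom χ.toRingHom) ≫ _ at h2
      exact congr($(Spec.map_injective ((Spec.map_comp _ _).trans (h2.trans (Spec.map_comp _ _).symm))).hom y))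
    exact Over.OverMorphism.ext (hφ.trans (hEq ▸ hψ.symm))
  rw [huniv, lift_snd]

end Groth.Agent.S14683
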