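import Groth.Statements.S14684
import Groth.Agent.Lib.SekG13.Local
-- import your own Groth.Agent.* helpers here

set_option autoImplicit false
universe u
open CategoryTheory AlgebraicGeometry
open SekSuwa

namespace Groth.Agent.S14684

/-- Let R be a discrete valuation ring of characteristic zero and residue characteristic p, λ ≠ 0 in R,
and X a scheme which is faithfully flat over Spec R. Then every torsor for the fppf topology over X
under (the base change to X of) the affine R-group G^(λ) = Spec R[T, 1/(1+λT)], with group law s + t
+ λst, is locally trivial for the Zariski topology; that is, the first higher direct image of G^(λ)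
under the morphism from the flat site to the Zariski site of X vanishes, and fppf and Zariski H¹ of
X with coefficients in G^(λ) agree. -/
theorem result (R : Type u) [CommRing R] [IsDomain R] [IsDiscreteValuationRing R] [CharZero R]
    (p : ℕ) [Fact p.Prime] [CharP (IsLocalRing.ResidueField R) p]
    (lam : R) (hlam : lam ≠ 0)
    (X : Scheme.{u}) (f : X ⟶ Spec (CommRingCat.of R)) [Flat f] [Surjective f]
    (P : Over X) (a : AlgGrp.Action (Red.bc f (SekSuwa.G R lam)) P)
    (hP : NonAbH1.IsTorsorFor Scheme.fppfPrecoverage a) :
    NonAbH1.IsTorsorFor Scheme.zariskiPrecoverage a := by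
  refine ⟨hP.1, GrothLib.CartTorsor.zariski_of_forall P.hom fun x => ?_⟩
  exact GrothLib.SekG13.exists_section_nbhd f hlam
    ⟨hP.1, GrothLib.TorsorDesc.isLocallyTrivialFor_mono Scheme.fppfPrecoverage_le_fpqcPrecoverage hP.2⟩ x

end Groth.Agent.S14684
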