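import Groth.Statements.S14686
import Groth.Agent.Lib.SekSuwa.Ext
import Groth.Agent.Lib.SekSuwa.Square
import Groth.Agent.Lib.DiagGrp.Points
import Mathlib.AlgebraicGeometry.Limits
import Mathlib.AlgebraicGeometry.Group.Affine
import Mathlib.GroupTheory.Sylow
-- import your own Groth.Agent.* helpers here

set_option autoImplicit false
universe u
open CategoryTheory AlgebraicGeometry
open SekSuwa

set_option maxHeartbeats 1600000

namespace Groth.Agent.S14686

/-- Let R be a discrete valuation ring of characteristic zero and residue characteristic p containing a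
primitive p²-th root of unity, with fraction field K, and let G be a finite flat R-group scheme of
order p² (finite locally free of degree p² over Spec R) whose generic fibre is a constant K-group
scheme (so the underlying group has order p²). Then G is an extension of G_{μ,1} by G_{λ,1} for some
nonzero λ, μ ∈ R satisfying the divisibility condition defining these kernels: there are
homomorphisms of R-group schemes G_{λ,1} → G and G → G_{μ,1} whose composite is trivial, with G a
pseudo-torsor under G_{λ,1} over G_{μ,1} and G → G_{μ,1} admitting sections locally for the fppf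
topology. -/
theorem result (R : Type u) [CommRing R] [IsDomain R] [IsDiscreteValuationRing R] [CharZero R]
    (p : ℕ) [Fact p.Prime] [CharP (IsLocalRing.ResidueField R) p]
    (ζ : R) (hζ : IsPrimitiveRoot ζ (p ^ 2))
    (G : Over (Spec (CommRingCat.of R))) [GrpObj G] (hG : Mor2.IsFinLocFreeOfDeg (p ^ 2) G.hom)
    (M : Type) [Group M] [Finite M]
    (e : Red.bc (Spec.map (CommRingCat.ofHom (algebraMap R (FractionRing R)))) G ≅ TwC.const (Spec (CommRingCat.of (FractionRing R))) M)
    (he : TwC.IsConstGrp M (Red.bc (Spec.map (CommRingCat.ofHom (algebraMap R (FractionRing R)))) G) e) :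
    ∃ (lam mu : R) (h₁ : SekSuwa.DivCond lam p) (h₂ : SekSuwa.DivCond mu p)
      (u : SekSuwa.GK R lam p h₁ ⟶ G) (v : G ⟶ SekSuwa.GK R mu p h₂),
      lam ≠ 0 ∧ mu ≠ 0 ∧ NonAbH1.IsExactSeq Scheme.fppfPrecoverage u v := by
  classical
  haveI : Fintype M := Fintype.ofFinite M
  open MonoidalCategory CartesianMonoidalCategory MonObj GrpObj Limits in
  let b := Spec.map (CommRingCat.ofHom (algebraMap R (FractionRing R)))
  haveI : NeZero p := ⟨(Fact.out : p.Prime).ne_zero⟩
  haveI : IsFinite G.hom := hG.1.1
  haveI : Flat G.hom := hG.1.2.1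
  let K := FractionRing R
  have haff : IsAffine G.left := isAffine_of_isAffineHom G.hom
  obtain ⟨H', ⟨eH⟩⟩ := (essImage_hopfSpec (R := CommRingCat.of R) (G := Grp.mk G)).2 haff
  obtain ⟨H, rfl⟩ : ∃ H, Opposite.op H = H' := ⟨H'.unop, rfl⟩
  let P : Over (Spec (CommRingCat.of R)) :=
    (Spec (CommRingCat.of (H : Type u))).asOver (Spec (CommRingCat.of R))
  let i : P ≅ G := (Grp.forget _).mapIso eH
  haveI : IsMonHom i.hom := eH.hom.hom.isMonHom_hom
  haveI : IsMonHom i.inv := eH.inv.hom.isMonHom_hom
  haveI : IsIso i.hom.left := inferInstanceAs (IsIso ((Over.forget _).map i.hom))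
  haveI : IsFinite (Spec.map (CommRingCat.ofHom (algebraMap R H))) := by
    have : IsFinite P.hom := by rw [← Over.w i.hom]; infer_instance
    exact this
  haveI : Flat (Spec.map (CommRingCat.ofHom (algebraMap R H))) := by
    have : Flat P.hom := by rw [← Over.w i.hom]; infer_instance
    exact this
  haveI : Module.Finite R H := RingHom.finite_algebraMap.1 ((IsFinite.SpecMap_iff _).1 ‹_›)
  haveI : Module.Flat R H := (RingHom.flat_algebraMap_iff).1 ((Flat.SpecMap_iff).1 ‹_›)
  haveI : Module.Free R H := Module.free_of_flat_of_isLocalRing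
  open MonoidalCategory CartesianMonoidalCategory MonObj GrpObj Limits in
  let sp : (Over.map b).obj (𝟙_ (Over (Spec (CommRingCat.of K)))) ≅ (Spec (CommRingCat.of K)).asOver (Spec (CommRingCat.of R)) :=
    Over.isoMk (Iso.refl _) (by
      show 𝟙 _ ≫ Spec.map (CommRingCat.ofHom (algebraMap R K)) = 𝟙 _ ≫ b
      rfl)
  open MonoidalCategory CartesianMonoidalCategory MonObj GrpObj Limits in
  let q : M → (𝟙_ (Over (Spec (CommRingCat.of K))) ⟶ Red.bc b G) :=
    fun m => TwC.pt _ _ m ≫ e.inv
  open MonoidalCategory CartesianMonoidalCategory MonObj GrpObj Limits in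
  let v : M → ((Spec (CommRingCat.of K)).asOver (Spec (CommRingCat.of R)) ⟶ G) :=
    fun m => sp.inv ≫ (GrothLib.DiagGrp.bcPointMulEquiv b G _).symm (q m)
  open MonoidalCategory CartesianMonoidalCategory MonObj GrpObj Limits in
  have hvmul : ∀ m n, v (m * n) = v m * v n := fun m n => by
    exact (congrArg (fun t => sp.inv ≫ (GrothLib.DiagGrp.bcPointMulEquiv b G _).symm t) (he m n).symm).trans
      ((congrArg (sp.inv ≫ ·) (map_mul (GrothLib.DiagGrp.bcPointMulEquiv b G _).symm _ _)).trans (MonObj.comp_mul _ _ _))
  open MonoidalCategory CartesianMonoidalCategory MonObj GrpObj Limits in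
  have hvleft : ∀ m, (v m).left = (q m).left ≫ pullback.fst G.hom b := fun m => by
    refine (Category.id_comp _).trans ?_
    rfl
  open MonoidalCategory CartesianMonoidalCategory MonObj GrpObj Limits in
  let π : Additive M → ((H : Type u) →ₐ[R] K) := fun a =>
    ((Spec.mapMulEquiv (R := R)).symm (v (Additive.toMul a) ≫ i.inv)).ofConv
  open MonoidalCategory CartesianMonoidalCategory MonObj GrpObj Limits in
  have hmul : ∀ a c, WithConv.toConv (π (a + c)) = WithConv.toConv (π a) * WithConv.toConv (π c) := fun a c => by
    simp only [π, WithConv.toConv_ofConv, toMul_add, hvmul, MonObj.mul_comp, map_mul]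
  have hπ1 : WithConv.toConv (π 0) = 1 := by
    have h := hmul 0 0
    rw [add_zero] at h
    open MonoidalCategory CartesianMonoidalCategory MonObj GrpObj Limits in
    let ψ := (Spec.mapMulEquiv (R := R) (S := (H : Type u)) (T := K))
    open MonoidalCategory CartesianMonoidalCategory MonObj GrpObj Limits in
    have h2 : ψ (WithConv.toConv (π 0)) = ψ (WithConv.toConv (π 0)) * ψ (WithConv.toConv (π 0)) :=
      (congrArg ψ h).trans (map_mul ψ _ _)
    open MonoidalCategory CartesianMonoidalCategory MonObj GrpObj Limits in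
    exact ψ.injective ((left_eq_mul.1 h2).trans (map_one ψ).symm)
  have hz : ∀ a : H, π 0 a = algebraMap R K (Coalgebra.counit a) := fun a => by
    have h := congrArg (fun w : WithConv ((H : Type u) →ₐ[R] K) => w.ofConv a) hπ1
    exact h.trans (AlgHom.convOne_apply a)
  open MonoidalCategory CartesianMonoidalCategory MonObj GrpObj Limits in
  have hπleft : ∀ a, Spec.map (CommRingCat.ofHom (π a).toRingHom) ≫ i.hom.left = (v (Additive.toMul a)).left := fun a => by
    have h := (Spec.mapMulEquiv (R := R)).apply_symm_apply (v (Additive.toMul a) ≫ i.inv)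
    have h2 := congrArg (fun w => (w ≫ i.hom).left) h
    simp only [Category.assoc, Iso.inv_hom_id, Category.comp_id] at h2
    exact h2
  have hdist : Function.Injective π := by
    intro a c hac
    open MonoidalCategory CartesianMonoidalCategory MonObj GrpObj Limits in
    have h1 : v (Additive.toMul a) = v (Additive.toMul c) :=
      (cancel_mono i.inv).1 ((Spec.mapMulEquiv (R := R)).symm.injective (WithConv.ofConv_injective hac))
    open MonoidalCategory CartesianMonoidalCategory MonObj GrpObj Limits in
    have h2 : TwC.pt (Spec (CommRingCat.of K)) _ (Additive.toMul a) = TwC.pt (Spec (CommRingCat.of K)) (M) (Additive.toMul c) :=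
      by
      have h0 := congrArg (sp.hom ≫ ·) h1
      simp only [v, Iso.hom_inv_id_assoc] at h0
      have h0' := congrArg (· ≫ e.hom) ((GrothLib.DiagGrp.bcPointMulEquiv b G _).symm.injective h0)
      simp only [q, Category.assoc] at h0'
      erw [e.inv_hom_id] at h0'
      exact ((Category.comp_id _).symm.trans h0').trans (Category.comp_id _)
    by_contra hne
    have h3 := congrArg (fun w => w.left) h2
    simp only [TwC.pt, Over.homMk_left] at h3
    have hd := AlgebraicGeometry.disjoint_opensRange_sigmaι (fun _ : M => Spec (CommRingCat.of K))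
      (Additive.toMul a) (Additive.toMul c) (fun h => hne (Additive.toMul.injective h))
    have hx : (Limits.Sigma.ι (fun _ : M => Spec (CommRingCat.of K)) (Additive.toMul a)).base
        (default : PrimeSpectrum K) ∈ (⊥ : (∐ fun _ : M => Spec (CommRingCat.of K)).Opens) := by
      rw [← disjoint_iff.1 hd]
      exact ⟨⟨_, rfl⟩, ⟨default, by rw [h3]; exact congrArg _ (Subsingleton.elim _ _)⟩⟩
    exact hx
  have hinj : Function.Injective (Algebra.TensorProduct.lift (Algebra.ofId K (Additive M → K)) (GrothLib.SekSuwa.fn π)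
      fun _ _ => Commute.all _ _) := by
    rw [injective_iff_map_eq_zero]
    intro z hz0
    let φ : Additive M → ((TensorProduct R (H : Type u) K) →ₐ[R] K) := fun a =>
      Algebra.TensorProduct.lift (π a) (AlgHom.id R K) fun _ _ => Commute.all _ _
    let z' : TensorProduct R (H : Type u) K := Algebra.TensorProduct.comm R K (H : Type u) z
    have hz' : ∀ a, φ a z' = 0 := fun a => by
      refine Eq.trans ?_ (congrFun hz0 a)
      simp only [φ, z']
      clear hz0
      induction z using TensorProduct.induction_on with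
      | zero => simp
      | tmul r h => simp [GrothLib.SekSuwa.fn_apply, mul_comm]
      | add x y hx hy => simp only [map_add, hx, hy, Pi.add_apply]
    open MonoidalCategory CartesianMonoidalCategory MonObj GrpObj Limits in
    let W : Spec (CommRingCat.of (TensorProduct R (H : Type u) K)) ⟶ (TwC.const (Spec (CommRingCat.of K)) (M)).left :=
      (pullbackSpecIso R (H : Type u) K).inv ≫ ((Over.forget _).mapIso ((Over.pullback b).mapIso i ≪≫ e)).hom
    open MonoidalCategory CartesianMonoidalCategory MonObj GrpObj Limits in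
    haveI : IsIso W := IsIso.comp_isIso' inferInstance (Iso.isIso_hom _)
    open MonoidalCategory CartesianMonoidalCategory MonObj GrpObj Limits in
    have hW : ∀ a, Spec.map (CommRingCat.ofHom (φ a).toRingHom) ≫ W =
        Sigma.ι (fun _ : M => Spec (CommRingCat.of K)) (Additive.toMul a) := fun a => by
      have key1 : (pullbackSpecIso R (H : Type u) K).inv ≫ ((Over.pullback b).map i.hom).left ≫ pullback.fst G.hom b =
          Spec.map (CommRingCat.ofHom (Algebra.TensorProduct.includeLeftRingHom (R := R) (A := (H : Type u)) (B := K))) ≫ i.hom.left :=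
        (congrArg ((pullbackSpecIso R (H : Type u) K).inv ≫ ·) (pullback.lift_fst _ _ _)).trans
          (pullbackSpecIso_inv_fst_assoc R (H : Type u) K _)
      have key2 : (pullbackSpecIso R (H : Type u) K).inv ≫ ((Over.pullback b).map i.hom).left ≫ pullback.snd G.hom b =
          Spec.map (CommRingCat.ofHom (Algebra.TensorProduct.includeRight (R := R) (A := (H : Type u)) (B := K)).toRingHom) :=
        (congrArg ((pullbackSpecIso R (H : Type u) K).inv ≫ ·) (pullback.lift_snd _ _ _)).trans
          (pullbackSpecIso_inv_snd R (H : Type u) K)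
      have h1 : Spec.map (CommRingCat.ofHom (φ a).toRingHom) ≫ (pullbackSpecIso R (H : Type u) K).inv ≫
          ((Over.pullback b).map i.hom).left = (q (Additive.toMul a)).left := by
        apply pullback.hom_ext
        · refine ((Category.assoc _ _ _).trans (congrArg (Spec.map _ ≫ ·) ((Category.assoc _ _ _).trans key1))).trans ?_
          refine Eq.trans ?_ (hvleft _)
          refine Eq.trans ?_ (hπleft a)
          refine (Category.assoc _ _ _).symm.trans (congrArg (· ≫ i.hom.left) ?_)
          refine (Spec.map_comp _ _).symm.trans (congrArg Spec.map ?_)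
          ext h
          simp [φ]
        · refine ((Category.assoc _ _ _).trans (congrArg (Spec.map _ ≫ ·) ((Category.assoc _ _ _).trans key2))).trans ?_
          refine Eq.trans ?_ (Over.w (q (Additive.toMul a))).symm
          refine (Spec.map_comp _ _).symm.trans (Eq.trans ?_ (Spec.map_id _))
          refine congrArg Spec.map ?_
          ext h
          simp [φ]
      have h2 : (q (Additive.toMul a)).left ≫ e.hom.left = (TwC.pt (Spec (CommRingCat.of K)) (M) (Additive.toMul a)).left := by
        refine (show _ = (q (Additive.toMul a) ≫ e.hom).left from rfl).trans (congrArg Over.Hom.left (?_ : q (Additive.toMul a) ≫ e.hom = TwC.pt (Spec (CommRingCat.of K)) (M) (Additive.toMul a)))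
        exact (Category.assoc _ _ _).trans ((congrArg (TwC.pt _ _ _ ≫ ·) e.inv_hom_id).trans (Category.comp_id _))
      refine Eq.trans ?_ h2
      rw [← h1]
      exact (Category.assoc _ _ _).symm.trans ((Category.assoc _ _ _).symm.trans (congrArg (· ≫ e.hom.left) (Category.assoc _ _ _)))
    let f : ∀ w : TensorProduct R (H : Type u) K, Polynomial R →ₐ[R] TensorProduct R (H : Type u) K := fun w =>
      Polynomial.aeval w
    have hf : Spec.map (CommRingCat.ofHom (f z').toRingHom) = Spec.map (CommRingCat.ofHom (f 0).toRingHom) := by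
      rw [← cancel_epi (inv W)]
      open Limits in
      refine Sigma.hom_ext _ _ fun m => ?_
      obtain ⟨a, rfl⟩ := (Additive.toMul (α := M)).surjective m
      rw [← hW a]
      simp only [Category.assoc, IsIso.hom_inv_id_assoc]
      rw [← Spec.map_comp, ← Spec.map_comp]
      refine congrArg Spec.map (CommRingCat.hom_ext (Polynomial.ringHom_ext (fun r => ?_) ?_))
      · simp [f]
      · simpa [f] using hz' a
    have h2 := congr($(Spec.map_injective hf).hom Polynomial.X)
    simp [f] at h2
    exact (Algebra.TensorProduct.comm R K (H : Type u)).injective (h2.trans (map_zero _).symm)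
  obtain ⟨n, b, -, hn, -⟩ := GrothLib.SekSuwa.exists_basis π hdist hinj
  have hrkH : Module.finrank R (H : Type u) = p ^ 2 := by
    have h1 := hG.2 (IsLocalRing.closedPoint R)
    have h2 : P.hom = i.hom.left ≫ G.hom := (Over.w i.hom).symm
    have h3 := Scheme.Hom.finrank_comp_left_of_isIso i.hom.left G.hom
    rw [← h2] at h3
    have h4 : Scheme.Hom.finrank (Spec.map (CommRingCat.ofHom (algebraMap R (H : Type u)))) (IsLocalRing.closedPoint R) = p ^ 2 :=
      ((congrArg (fun f => f (IsLocalRing.closedPoint R)) h3).trans h1)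
    rw [Scheme.Hom.finrank_SpecMap_algebraMap, Module.rankAtStalk_eq_finrank_of_free] at h4
    exact h4
  have hcard : Fintype.card (Additive M) = p * p := by
    rw [← hn, ← pow_two, ← hrkH, Module.finrank_eq_card_basis b, Fintype.card_fin]
  have hcardM : Nat.card M = p ^ 2 := by
    rw [Nat.card_eq_fintype_card, ← Fintype.card_congr (Additive.ofMul (α := M)).symm, hcard, pow_two]
  obtain ⟨χ, hχ⟩ : ∃ χ : Additive M →+ ZMod p, Function.Surjective χ := by
    obtain ⟨N, hN⟩ := Sylow.exists_subgroup_card_pow_prime (G := M) p (n := 1) (by rw [hcardM]; exact pow_dvd_pow p (by norm_num))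
    haveI : N.Normal := ⟨fun x hx g => by
      rw [(IsPGroup.isMulCommutative_of_card_eq_prime_sq hcardM).is_comm.comm g x, mul_inv_cancel_right]
      exact hx⟩
    have hq : Nat.card (M ⧸ N) = p := by
      have h := Subgroup.card_eq_card_quotient_mul_card_subgroup N
      rw [hcardM, hN, pow_one, pow_two] at h
      exact (Nat.eq_of_mul_eq_mul_right (Fact.out : p.Prime).pos h).symm
    have hq' : Nat.card (Additive (M ⧸ N)) = p := hq
    let E := zmodAddEquivOfGenerator (isAddCyclic_of_prime_card hq').exists_generator.choose_spec hq'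
    refine ⟨E.symm.toAddMonoidHom.comp (MonoidHom.toAdditive (QuotientGroup.mk' N)), E.symm.surjective.comp ?_⟩
    exact QuotientGroup.mk'_surjective N
  have hζp : IsPrimitiveRoot (ζ ^ p) p := hζ.pow (pow_pos (Fact.out : p.Prime).pos 2) (pow_two p)
  obtain ⟨lam, mu, h₁, h₂, φ, ψ, hl0, hm0, hψφ, hflat, hfp, hsurj, hpo⟩ :=
    GrothLib.SekSuwa.exists_extension π hdist hinj hmul hz hcard χ hχ (ζ ^ p) hζp
  refine ⟨lam, mu, h₁, h₂, SekSuwa.specHom ψ ≫ i.hom, i.inv ≫ SekSuwa.specHom φ, hl0, hm0, ?_⟩
  open MonoidalCategory CartesianMonoidalCategory MonObj GrpObj in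
  haveI : IsMonHom (SekSuwa.specHom ψ ≫ i.hom) := inferInstance
  open MonoidalCategory CartesianMonoidalCategory MonObj GrpObj in
  haveI : IsMonHom (i.inv ≫ SekSuwa.specHom φ) := inferInstance
  have hφψ : SekSuwa.specHom ψ ≫ SekSuwa.specHom φ = 1 := by
    rw [← SekSuwa.specHom_comp]
    refine (congrArg SekSuwa.specHom (DFunLike.ext _ ((Bialgebra.unitBialgHom R (SekSuwa.AK R lam p h₁)).comp
      (Bialgebra.counitBialgHom R (SekSuwa.AK R mu p h₂))) fun x => ?_)).trans (SekSuwa.specHom_trivial ..)
    exact hψφ x
  refine ⟨inferInstance, inferInstance, ?_, ?_, ?_⟩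
  · rw [Category.assoc, Iso.hom_inv_id_assoc, hφψ]
  · exact GrothLib.SekSuwa.isPullback_of_pushout i φ ψ hpo
  · haveI : Flat (Spec.map (CommRingCat.ofHom (φ : SekSuwa.AK R mu p h₂ →ₐ[R] H).toRingHom)) := Flat.SpecMap_iff.2 hflat
    haveI : LocallyOfFinitePresentation (Spec.map (CommRingCat.ofHom (φ : SekSuwa.AK R mu p h₂ →ₐ[R] H).toRingHom)) :=
      (HasRingHomProperty.Spec_iff (P := @LocallyOfFinitePresentation)).2 hfp
    haveI : Surjective (Spec.map (CommRingCat.ofHom (φ : SekSuwa.AK R mu p h₂ →ₐ[R] H).toRingHom)) := ⟨hsurj⟩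
    haveI : IsIso i.inv.left := inferInstanceAs (IsIso ((Over.forget _).map i.inv))
    let w := (SekSuwa.specHom φ).left
    haveI : Flat w := ‹Flat (Spec.map (CommRingCat.ofHom (φ : SekSuwa.AK R mu p h₂ →ₐ[R] H).toRingHom))›
    haveI : LocallyOfFinitePresentation w :=
      ‹LocallyOfFinitePresentation (Spec.map (CommRingCat.ofHom (φ : SekSuwa.AK R mu p h₂ →ₐ[R] H).toRingHom))›
    haveI : Surjective w := ‹Surjective (Spec.map (CommRingCat.ofHom (φ : SekSuwa.AK R mu p h₂ →ₐ[R] H).toRingHom))›
    let v := i.inv.left ≫ w
    refine ⟨_, Scheme.Hom.singleton_mem_fppfPrecoverage v, ?_⟩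
    rintro S' f ⟨⟩
    exact ⟨𝟙 _, Category.id_comp _⟩

end Groth.Agent.S14686
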