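import Groth.Statements.S14695
import Groth.Agent.Lib.Torsor21.RationalSection

set_option autoImplicit false
universe u
open CategoryTheory AlgebraicGeometry
open NonAbH1

namespace Groth.Agent.S14695

/-- In the case where the morphism Y → X is the identity of X: let X be a normal integral scheme
(integral, with every local ring an integrally closed domain), G and G' X-group schemes which are
finite and flat over X, and g : G → G' a homomorphism which becomes an isomorphism after base change
to the spectrum of the function field of X. If an fppf G-torsor P over X becomes trivial after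
extension of the structure group along g — there is an fppf G'-torsor P' over X with a g-equivariant
X-morphism P → P', and P' has a section over X — then P has a section over X. (The published
statement takes G, G' commutative and all schemes Noetherian, allows also composition with the
pull-back along a morphism Y → X admitting a rational section, and is phrased as injectivity of
H¹(X, G) → H¹(Y, G'_Y); this row is the case where Y → X is the identity of X, as the trivial-kernel
assertion the argument establishes, for which commutativity and the Noetherian condition are not
needed.) -/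
theorem result {X : Scheme.{u}} [IsIntegral X]
    (hX : Pi1.IsNormalScheme X) (G G' : Over X) [GrpObj G] [GrpObj G']
    [IsFinite G.hom] [Flat G.hom] [IsFinite G'.hom] [Flat G'.hom]
    (g : G ⟶ G') [IsMonHom g]
    (hg : IsIso ((Over.pullback (X.fromSpecStalk (genericPoint X))).map g))
    (P : Over X) (a : AlgGrp.Action G P) (hP : NonAbH1.IsTorsorFor Scheme.fppfPrecoverage a)
    (P' : Over X) (a' : AlgGrp.Action G' P') (hP' : NonAbH1.IsTorsorFor Scheme.fppfPrecoverage a')
    (hpush : NonAbH1.IsPushforwardAlongSch g a a') (htriv : NonAbH1.HasSectionOver P' (𝟙 X)) :
    NonAbH1.HasSectionOver P (𝟙 X) := by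
  let η := X.fromSpecStalk (genericPoint X)
  obtain ⟨t, ht⟩ := htriv
  obtain ⟨f, hf⟩ := hpush
  haveI := hg
  let gK := (Over.pullback η).map g
  haveI : IsIso gK.left := inferInstanceAs (IsIso ((Over.forget _).map gK))
  have hw : gK.left ≫ Limits.pullback.fst G'.hom η = Limits.pullback.fst G.hom η ≫ g.left :=
    Limits.pullback.lift_fst _ _ _
  have hw' : gK.left ≫ Limits.pullback.snd G'.hom η = Limits.pullback.snd G.hom η :=
    Limits.pullback.lift_snd _ _ _
  obtain ⟨s, hs⟩ := GrothLib.Torsor21.exists_lift_of_pushforward g hP hP'.1 f hf (Over.mk η) (fun {T} r => by
    refine ⟨fun h h' e => ?_, fun h => ?_⟩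
    · have w : ∀ h : T ⟶ G, h.left ≫ G.hom = r.left ≫ η := fun h => (Over.w h).trans (Over.w r).symm
      have e1 : Limits.pullback.lift h.left r.left (w h) ≫ gK.left =
          Limits.pullback.lift h'.left r.left (w h') ≫ gK.left := by
        apply Limits.pullback.hom_ext
        · rw [Category.assoc, Category.assoc, hw, Limits.pullback.lift_fst_assoc, Limits.pullback.lift_fst_assoc]
          exact congrArg CommaMorphism.left e
        · rw [Category.assoc, Category.assoc, hw', Limits.pullback.lift_snd, Limits.pullback.lift_snd]
      have e2 := (cancel_mono gK.left).1 e1
      ext1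
      exact (Limits.pullback.lift_fst _ _ _).symm.trans ((congrArg (· ≫ Limits.pullback.fst G.hom η) e2).trans (Limits.pullback.lift_fst _ _ _))
    · let l := Limits.pullback.lift h.left r.left ((Over.w h).trans (Over.w r).symm) ≫ inv gK.left
      refine ⟨Over.homMk (l ≫ Limits.pullback.fst G.hom η) ?_, ?_⟩
      · rw [Category.assoc, Limits.pullback.condition, ← hw']
        simp only [l, Category.assoc, IsIso.inv_hom_id_assoc]
        erw [Limits.pullback.lift_snd_assoc]
        exact Over.w r
      · ext1
        show (l ≫ Limits.pullback.fst G.hom η) ≫ g.left = h.left
        rw [Category.assoc, ← hw]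
        simp only [l, Category.assoc, IsIso.inv_hom_id_assoc]
        exact Limits.pullback.lift_fst _ _ _)
    (Over.homMk (η ≫ t) (by rw [Category.assoc, ht]; exact Category.comp_id η))
  haveI := GrothLib.Torsor21.isFinite_hom hP
  exact GrothLib.Torsor21.exists_section_of_rational hX P.hom s.left (Over.w s)

end Groth.Agent.S14695
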