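import Groth.Statements.S14688
import Groth.Agent.Lib.SekGen13.Basic
import Groth.Agent.S14695
import Groth.Agent.S14694
import Mathlib.AlgebraicGeometry.Morphisms.UniversallyOpen
import Mathlib.RingTheory.PicardGroup
-- import your own Groth.Agent.* helpers here

set_option autoImplicit false
universe u
open CategoryTheory AlgebraicGeometry
open SekSuwa

namespace Groth.Agent.S14688

/-- Let R be a discrete valuation ring of characteristic zero and residue characteristic p, n ≥ 1, λ ∈ R
satisfying the divisibility condition under which the finite flat R-group scheme G_{λ,n} (the kernel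
of ψ on the one-parameter group with law s + t + λst, of order p^n) and its homomorphism α^{λ,n} to
μ_{p^n} are defined, and X a normal integral scheme which is faithfully flat over Spec R. If an fppf
torsor P over X under G_{λ,n} becomes trivial after extension of the structure group along α^{λ,n} —
there is an fppf μ_{p^n}-torsor P' over X with an α^{λ,n}-equivariant X-morphism P → P', and P' has
a section over X — then P has a section over X. So H¹(X, G_{λ,n}) → H¹(X, μ_{p^n}) has trivial
kernel, and the groups H¹(X, G_{π^i,n}) for decreasing i form an increasing filtration of H¹(X,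
μ_{p^n}). (The published statement is the filtration itself, for the commutative groups in question
injectivity of these homomorphisms; the trivial-kernel assertion stated here is what the argument
establishes.) -/
theorem result (R : Type u) [CommRing R] [IsDomain R] [IsDiscreteValuationRing R] [CharZero R]
    (p : ℕ) [Fact p.Prime] [CharP (IsLocalRing.ResidueField R) p]
    (n : ℕ) (hn : 0 < n) (lam : R) (h : SekSuwa.DivCond lam (p ^ n))
    (X : Scheme.{u}) [IsIntegral X] (hX : Pi1.IsNormalScheme X)
    (f : X ⟶ Spec (CommRingCat.of R)) [Flat f] [Surjective f]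
    (P : Over X) (a : AlgGrp.Action (Red.bc f (SekSuwa.GK R lam (p ^ n) h)) P)
    (hP : NonAbH1.IsTorsorFor Scheme.fppfPrecoverage a)
    (P' : Over X) (a' : AlgGrp.Action (Red.bc f (Red.diag R (ZMod (p ^ n)))) P')
    (hP' : NonAbH1.IsTorsorFor Scheme.fppfPrecoverage a')
    (hpush : NonAbH1.IsPushforwardAlongSch ((Over.pullback f).map (SekSuwa.alphaN R lam (p ^ n) h)) a a')
    (htriv : NonAbH1.HasSectionOver P' (𝟙 X)) :
    NonAbH1.HasSectionOver P (𝟙 X) := by
  haveI hp0 : NeZero (p ^ n) := ⟨pow_ne_zero _ (Fact.out : p.Prime).pos.ne'⟩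
  obtain ⟨⟨hf1, hf2, -⟩, -⟩ := Groth.Agent.S14694.result R lam (p ^ n) (NeZero.pos _) h
  haveI : IsFinite (Red.bc f (SekSuwa.GK R lam (p ^ n) h)).hom :=
    MorphismProperty.of_isPullback (P := (@IsFinite : MorphismProperty Scheme.{u})) (IsPullback.of_hasPullback _ f) hf1
  haveI : Flat (Red.bc f (SekSuwa.GK R lam (p ^ n) h)).hom :=
    MorphismProperty.of_isPullback (P := (@Flat : MorphismProperty Scheme.{u})) (IsPullback.of_hasPullback _ f) hf2
  have hd1 : IsFinite (Red.diag R (ZMod (p ^ n))).hom := by
    show IsFinite (Spec.map (CommRingCat.ofHom (algebraMap R (MonoidAlgebra R (Multiplicative (ZMod (p ^ n)))))))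
    rw [IsFinite.SpecMap_iff]
    exact RingHom.finite_algebraMap.mpr inferInstance
  have hd2 : Flat (Red.diag R (ZMod (p ^ n))).hom := by
    show Flat (Spec.map (CommRingCat.ofHom (algebraMap R (MonoidAlgebra R (Multiplicative (ZMod (p ^ n)))))))
    rw [HasRingHomProperty.Spec_iff (P := @Flat)]
    exact RingHom.flat_algebraMap_iff.mpr inferInstance
  haveI : IsFinite (Red.bc f (Red.diag R (ZMod (p ^ n)))).hom :=
    MorphismProperty.of_isPullback (P := (@IsFinite : MorphismProperty Scheme.{u})) (IsPullback.of_hasPullback _ f) hd1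
  haveI : Flat (Red.bc f (Red.diag R (ZMod (p ^ n)))).hom :=
    MorphismProperty.of_isPullback (P := (@Flat : MorphismProperty Scheme.{u})) (IsPullback.of_hasPullback _ f) hd2
  refine Groth.Agent.S14695.result hX _ _ ((Over.pullback f).map (SekSuwa.alphaN R lam (p ^ n) h)) ?_
    P a hP P' a' hP' hpush htriv
  let η₀ := X.fromSpecStalk (genericPoint X)
  -- the generic point lies over the generic point
  have hgen : ∀ q : Spec (CommRingCat.of R), q = f (genericPoint X) → q.asIdeal = ⊥ := by
    rintro _ rfl
    let z : Spec (CommRingCat.of R) := ⟨⊥, Ideal.isPrime_bot⟩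
    have hz : z ⤳ f (genericPoint X) := (PrimeSpectrum.le_iff_specializes _ _).1 bot_le
    obtain ⟨x', hx', hfx⟩ := Flat.generalizingMap (f := f) hz
    have hxg : genericPoint X = x' := by
      haveI := hx'
      exact ((genericPoint_specializes x').antisymm hx').eq
    rw [hxg, hfx]
  have hlam : lam ≠ 0 := nonZeroDivisors.ne_zero h.nzd
  have hunit : IsUnit ((η₀ ≫ f).appTop.hom ((Scheme.ΓSpecIso (CommRingCat.of R)).inv.hom lam)) := by
    refine (Spec (X.presheaf.stalk (genericPoint X))).toLocallyRingedSpace.toRingedSpace.isUnit_of_isUnit_germ ⊤ _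
      fun pt hpt => ?_
    have hmem : pt ∈ (Spec (X.presheaf.stalk (genericPoint X))).basicOpen
        ((η₀ ≫ f).appTop ((Scheme.ΓSpecIso (CommRingCat.of R)).inv lam)) := by
      rw [← Scheme.preimage_basicOpen_top]
      show (η₀ ≫ f) pt ∈ (Spec (CommRingCat.of R)).basicOpen _
      rw [basicOpen_eq_of_affine]
      show lam ∉ (f (η₀ pt)).asIdeal
      have hξ : η₀ pt = genericPoint X :=
        (congrArg η₀ (@Subsingleton.elim _ (inferInstanceAs (Subsingleton (PrimeSpectrum X.functionField))) pt (IsLocalRing.closedPoint _))).trans X.fromSpecStalk_closedPoint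
      rw [hξ, hgen _ rfl]
      exact fun h0 => hlam (Ideal.mem_bot.1 h0)
    exact (Scheme.mem_basicOpen _ _ pt hpt).1 hmem
  haveI := GrothLib.SekGen13.isIso_map_alphaN h (η₀ ≫ f) hunit
  haveI : IsIso ((ActBC.bcCompIso η₀ f (SekSuwa.GK R lam (p ^ n) h) rfl).hom ≫
      (Over.pullback (η₀ ≫ f)).map (SekSuwa.alphaN R lam (p ^ n) h)) := inferInstance
  rw [← ActBC.bcCompIso_hom_naturality η₀ f rfl (SekSuwa.alphaN R lam (p ^ n) h)] at this
  exact IsIso.of_isIso_comp_right _ (ActBC.bcCompIso η₀ f (Red.diag R (ZMod (p ^ n))) rfl).hom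

end Groth.Agent.S14688
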