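import Groth.Statements.S1469
import Groth.Agent.Lib.NormalSmooth.Basic
import Mathlib.AlgebraicGeometry.Morphisms.Smooth
import Mathlib.AlgebraicGeometry.Morphisms.Flat
-- import your own Groth.Agent.* helpers here

set_option autoImplicit false
universe u
open FlatMor CategoryTheory AlgebraicGeometry

namespace Groth.Agent.S1469

open AlgebraicGeometry CategoryTheory Limits in
/-- A smooth morphism is normal; concretely, for affine opens U ⊆ f⁻¹(V) the ring map O_Y(V) → O_X(U) is
flat with geometrically normal fibre rings. -/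
theorem result {X Y : Scheme.{u}} (f : X ⟶ Y) [Smooth f] (U : X.Opens) (V : Y.Opens) (hU : IsAffineOpen U) (hV : IsAffineOpen V) (hUV : U ≤ f ⁻¹ᵁ V) :
    letI := (f.appLE V U hUV).hom.toAlgebra
    EGA4.IsNormalHom Γ(Y, V) Γ(X, U) := by
  have hs : (f.appLE V U hUV).hom.Smooth := Smooth.smooth_appLE f hV hU hUV
  algebraize [(f.appLE V U hUV).hom]
  haveI : Algebra.Smooth Γ(Y, V) Γ(X, U) := hs
  refine ⟨inferInstance, fun p _ k' _ _ _ q _ => ?_⟩
  refine GrothLib.NormalSmooth.isNormalRing_of_smooth k' _ (fun P _ => ?_) q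
  haveI : IsField (Localization.AtPrime P) := by
    obtain rfl : P = ⊥ := (Ideal.eq_bot_or_top P).resolve_right (Ideal.IsPrime.ne_top ‹_›)
    exact MulEquiv.isField (Field.toIsField k') (IsLocalization.atUnits k' (⊥ : Ideal k').primeCompl (S := Localization.AtPrime (⊥ : Ideal k'))
      (fun x hx => IsUnit.mk0 x fun h => hx (by simp [h]))).symm.toMulEquiv
  letI := this.toField
  exact ⟨inferInstance, inferInstance⟩

end Groth.Agent.S1469
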