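import Groth.Statements.S14690
import Groth.Agent.Lib.SekG13.Char
import Groth.Agent.Lib.SekG13.Model
import Groth.Agent.Lib.SekG13.BaseChar
-- import your own Groth.Agent.* helpers here

set_option autoImplicit false
universe u
open CategoryTheory AlgebraicGeometry MonoidalCategory
open SekSuwa

namespace Groth.Agent.S14690

open CategoryTheory.Limits MonoidalCategory CartesianMonoidalCategory MonObj
open GrothLib GrothLib.SekG13 GrothLib.NoriFGS13 GrothLib.SekGen13

noncomputable local instance grpGmX {R : Type u} [CommRing R] {X : Scheme.{u}} (f : X ⟶ Spec (CommRingCat.of R)) :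
    GrpObj (Red.bc f (Red.diag R ℤ)) := Red.grpObj_bc f _

noncomputable local instance grpGmS {R : Type u} [CommRing R] : GrpObj (Red.diag R ℤ) := inferInstance

theorem toB_lift_act {X S : Scheme.{u}} (f : X ⟶ S) {G Q : Over S} [GrpObj G] (b : AlgGrp.Action G Q) {T : Over X}
    (g : T ⟶ Red.bc f G) (x : T ⟶ Red.bc f Q) :
    toB f (lift g x ≫ (b.bc f).act) = lift (toB f g) (toB f x) ≫ b.act := by
  conv_lhs => rw [← ofB_toB f g, ← ofB_toB f x]
  show toB f (lift ((Over.mapPullbackAdj f).homEquiv T G (toB f g)) ((Over.mapPullbackAdj f).homEquiv T Q (toB f x)) ≫ _) = _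
  rw [AlgGrp.Action.lift_homEquiv_bc_act]
  exact toB_ofB f _

/-- Base change of a character. -/
theorem chi_bc {R : Type u} [CommRing R] {lam : R} {N : ℕ} {h : SekSuwa.DivCond lam N} {X : Scheme.{u}}
    (f : X ⟶ Spec (CommRingCat.of R)) {Q : Over (Spec (CommRingCat.of R))}
    (b : AlgGrp.Action (SekSuwa.GK R lam N h) Q) (χ : Q ⟶ Red.diag R ℤ)
    (hχ : ∀ (T : Over (Spec (CommRingCat.of R))) (γ : T ⟶ SekSuwa.GK R lam N h) (p : T ⟶ Q),
      (lift γ p ≫ b.act) ≫ χ = (γ ≫ SekSuwa.incl R lam N h ≫ SekSuwa.alpha R lam) * (p ≫ χ))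
    (T : Over X) (γ : T ⟶ Red.bc f (SekSuwa.GK R lam N h)) (p : T ⟶ Red.bc f Q) :
    (lift γ p ≫ (b.bc f).act) ≫ (Over.pullback f).map χ = (γ ≫ alK f h) * (p ≫ (Over.pullback f).map χ) := by
  refine toB_injective f ?_
  rw [toB_comp, toB_lift_act, hχ, toB_mul, toB_comp, toB_comp]

theorem alphaN_jN (R : Type u) [CommRing R] (lam : R) (N : ℕ) (h : SekSuwa.DivCond lam N) :
    SekSuwa.alphaN R lam N h ≫ jN R N = SekSuwa.incl R lam N h ≫ SekSuwa.alpha R lam := by
  refine val_injective ?_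
  have e1 : ptRing (SekSuwa.alphaN R lam N h) =
      (ptRing (𝟙 (SekSuwa.GK R lam N h))).comp
        (SekSuwa.alphaNHom R lam N h : MonoidAlgebra R (Multiplicative (ZMod N)) →ₐ[R] SekSuwa.AK R lam N h).toRingHom := by
    conv_lhs => rw [← Category.id_comp (SekSuwa.alphaN R lam N h)]
    exact ptRing_specHom _ _
  have e2 : coord (SekSuwa.incl R lam N h) = ptRing (𝟙 (SekSuwa.GK R lam N h)) SekSuwa.AK.t := by
    rw [coord, ← Category.id_comp (SekSuwa.incl R lam N h), SekSuwa.incl, ptRing_specHom]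
    rfl
  rw [val_jN, val_alpha, e1, e2, RingHom.comp_apply]
  show ptRing _ (SekSuwa.alphaNHom R lam N h (MonoidAlgebra.single (Multiplicative.ofAdd (1 : ZMod N)) 1)) = _
  rw [SekSuwa.alphaNHom_single_one, map_add, map_one, Algebra.smul_def, map_mul]
  congr 2
  exact DFunLike.congr_fun (ptRing_algebraMap (𝟙 (SekSuwa.GK R lam N h))) lam


/-- Let R be a discrete valuation ring of characteristic zero and residue characteristic p with perfect
residue field k, n ≥ 1, λ ∈ R satisfying the divisibility condition under which the finite flat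
R-group scheme G_{λ,n} (of order p^n, the kernel of ψ on the one-parameter group with law s + t +
λst) and its homomorphism α^{λ,n} to μ_{p^n} are defined, and X a locally Noetherian normal integral
scheme, faithfully flat over Spec R, with reduced special fibre X ×_R k. Let P be an fppf torsor
over X under G_{λ,n} and P' an fppf μ_{p^n}-torsor over X with an α^{λ,n}-equivariant X-morphism P →
P'. If P' is equivariantly isomorphic to the pullback to X of some fppf μ_{p^n}-torsor over Spec R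
(pulled-back scheme with the pulled-back action), then P is equivariantly isomorphic to the pullback
to X of some fppf G_{λ,n}-torsor over Spec R. So the map H¹(X, G_{λ,n})/H¹(R, G_{λ,n}) → H¹(X,
μ_{p^n})/H¹(R, μ_{p^n}) has trivial kernel, giving the filtration of H¹(X, μ_{p^n})/H¹(R, μ_{p^n})
by the H¹(X, G_{π^i,n})/H¹(R, G_{π^i,n}). (The published statement is that filtration, for the
commutative groups in question injectivity of these homomorphisms; the trivial-kernel assertion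
stated here is what the argument establishes. X is taken locally Noetherian; the published statement
assumes all schemes Noetherian, and the argument uses the Krull intersection property ⋂ₙ πⁿA = 0 on
affine opens.) -/
theorem result (R : Type u) [CommRing R] [IsDomain R] [IsDiscreteValuationRing R] [CharZero R]
    (p : ℕ) [Fact p.Prime] [CharP (IsLocalRing.ResidueField R) p]
    [PerfectField (IsLocalRing.ResidueField R)]
    (n : ℕ) (hn : 0 < n) (lam : R) (h : SekSuwa.DivCond lam (p ^ n))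
    (X : Scheme.{u}) [IsIntegral X] [IsLocallyNoetherian X] (hX : Pi1.IsNormalScheme X)
    (f : X ⟶ Spec (CommRingCat.of R)) [Flat f] [Surjective f]
    [IsReduced (Limits.pullback f (Spec.map (CommRingCat.ofHom (IsLocalRing.residue R))))]
    (P : Over X) (a : AlgGrp.Action (Red.bc f (SekSuwa.GK R lam (p ^ n) h)) P)
    (hP : NonAbH1.IsTorsorFor Scheme.fppfPrecoverage a)
    (P' : Over X) (a' : AlgGrp.Action (Red.bc f (Red.diag R (ZMod (p ^ n)))) P')
    (hP' : NonAbH1.IsTorsorFor Scheme.fppfPrecoverage a')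
    (hpush : NonAbH1.IsPushforwardAlongSch ((Over.pullback f).map (SekSuwa.alphaN R lam (p ^ n) h)) a a')
    (Q' : Over (Spec (CommRingCat.of R))) (b' : AlgGrp.Action (Red.diag R (ZMod (p ^ n))) Q')
    (hQ' : NonAbH1.IsTorsorFor Scheme.fppfPrecoverage b')
    (i' : P' ≅ Red.bc f Q')
    (hi' : a'.act ≫ i'.hom = (Red.bc f (Red.diag R (ZMod (p ^ n))) ◁ i'.hom) ≫
      Functor.LaxMonoidal.μ (Over.pullback f) (Red.diag R (ZMod (p ^ n))) Q' ≫ (Over.pullback f).map b'.act) :
    ∃ (Q : Over (Spec (CommRingCat.of R))) (b : AlgGrp.Action (SekSuwa.GK R lam (p ^ n) h) Q)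
      (i : P ≅ Red.bc f Q), NonAbH1.IsTorsorFor Scheme.fppfPrecoverage b ∧
      a.act ≫ i.hom = (Red.bc f (SekSuwa.GK R lam (p ^ n) h) ◁ i.hom) ≫
        Functor.LaxMonoidal.μ (Over.pullback f) (SekSuwa.GK R lam (p ^ n) h) Q ≫ (Over.pullback f).map b.act := by
  obtain ⟨N, rfl⟩ : ∃ N, N = n := ⟨n, rfl⟩
  have hN : 0 < p ^ N := pow_pos (Fact.out : p.Prime).pos N
  have hlam : lam ≠ 0 := nonZeroDivisors.ne_zero h.nzd
  have hP₁ : NonAbH1.IsTorsorFor Scheme.fpqcPrecoverage a :=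
    ⟨hP.1, TorsorDesc.isLocallyTrivialFor_mono Scheme.fppfPrecoverage_le_fpqcPrecoverage hP.2⟩
  obtain ⟨u, χ', hu, hχ', hu'⟩ := exists_char (N := p ^ N) hN
    (⟨hQ'.1, TorsorDesc.isLocallyTrivialFor_mono Scheme.fppfPrecoverage_le_fpqcPrecoverage hQ'.2⟩ :
      NonAbH1.IsTorsorFor Scheme.fpqcPrecoverage b')
  obtain ⟨φ, hφ⟩ := hpush
  let χ : P ⟶ Red.bc f (Red.diag R ℤ) := φ ≫ i'.hom ≫ (Over.pullback f).map χ'
  have hχ : ∀ (T : Over X) (γ : T ⟶ Red.bc f (SekSuwa.GK R lam (p ^ N) h)) (x : T ⟶ P),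
      (lift γ x ≫ a.act) ≫ χ = (γ ≫ alK f h) * (x ≫ χ) := by
    intro T γ x
    have h1 : (lift γ x ≫ a.act) ≫ φ ≫ i'.hom =
        lift (γ ≫ (Over.pullback f).map (SekSuwa.alphaN R lam (p ^ N) h)) (x ≫ φ ≫ i'.hom) ≫ (b'.bc f).act := by
      rw [Category.assoc, ← Category.assoc a.act, hφ]
      simp only [Category.assoc]
      rw [hi', comp_lift_assoc, lift_fst_assoc, lift_snd_assoc, lift_whiskerLeft_assoc, Category.assoc,
        AlgGrp.Action.bc_act]
    refine toB_injective f ?_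
    show toB f ((lift γ x ≫ a.act) ≫ φ ≫ i'.hom ≫ (Over.pullback f).map χ') = _
    rw [← Category.assoc φ, ← Category.assoc, h1, toB_comp, toB_lift_act, hχ', toB_comp, Category.assoc, alphaN_jN,
      toB_mul, toB_comp]
    show _ = _ * toB f (x ≫ φ ≫ i'.hom ≫ (Over.pullback f).map χ')
    rw [← Category.assoc φ, ← Category.assoc x (φ ≫ i'.hom), toB_comp]
  have hu₁ : ∀ (T : Over X) (x : T ⟶ P), vf (x ≫ χ) ^ p ^ N = lamT f u T := by
    intro T x
    show val (toB f (x ≫ φ ≫ i'.hom ≫ (Over.pullback f).map χ')) ^ p ^ N = _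
    rw [← Category.assoc φ, ← Category.assoc x (φ ≫ i'.hom), toB_comp]
    exact hu' _ _
  -- an affine open meeting the special fibre
  obtain ⟨π, hπ⟩ := IsDiscreteValuationRing.exists_irreducible R
  obtain ⟨x₀, hx₀⟩ := f.surjective (IsLocalRing.closedPoint R)
  obtain ⟨U₀, hU₀, hxU, -⟩ := exists_isAffineOpen_mem_and_subset (x := x₀) (U := ⊤) trivial
  let U : Over X := Over.mk U₀.ι
  haveI : IsAffine U.left := hU₀
  haveI : IsOpenImmersion U.hom := inferInstanceAs (IsOpenImmersion U₀.ι)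
  obtain ⟨w, hw, -⟩ := exists_w hlam hN hP₁ hχ hu₁ U
  letI : Algebra R Γ(U.left, ⊤) := algΓ ((Over.map f).obj U)
  haveI : Module.Flat R Γ(U.left, ⊤) := flat_Γ U
  have hA : ¬IsUnit (algebraMap R Γ(U.left, ⊤) π) := by
    intro hunit
    have h1 : U.left.basicOpen ((U.hom ≫ f).appTop ((Scheme.ΓSpecIso (CommRingCat.of R)).inv π)) = ⊤ := by
      exact Scheme.basicOpen_of_isUnit _ hunit
    rw [← Scheme.preimage_basicOpen_top] at h1
    have h2 : (⟨x₀, hxU⟩ : U₀) ∈ (U.hom ≫ f) ⁻¹ᵁ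
        (Spec (CommRingCat.of R)).basicOpen ((Scheme.ΓSpecIso (CommRingCat.of R)).inv π) := by
      rw [h1]; trivial
    change f x₀ ∈ (Spec (CommRingCat.of R)).basicOpen _ at h2
    rw [hx₀, basicOpen_eq_of_affine] at h2
    exact h2 ((IsLocalRing.mem_maximalIdeal π).2 hπ.not_isUnit)
  obtain ⟨r, hr, c, hc⟩ : ∃ r : R, IsUnit r ∧ lam ^ p ^ N ∣ r ^ p ^ N - u := by
    by_cases hl : IsUnit lam
    · exact ⟨1, isUnit_one, (hl.pow _).dvd⟩
    · obtain ⟨r, hr⟩ := exists_root (A := Γ(U.left, ⊤)) p h hlam hπ (fun x hx => dvd_of_dvd_pow (f := f) hπ U hx) hA hw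
      refine ⟨r, ?_, hr⟩
      by_contra hr'
      have hr1 : r ^ p ^ N ∈ IsLocalRing.maximalIdeal R :=
        Ideal.pow_mem_of_mem _ ((IsLocalRing.mem_maximalIdeal r).2 hr') _ hN
      have hl1 : lam ^ p ^ N ∈ IsLocalRing.maximalIdeal R :=
        Ideal.pow_mem_of_mem _ ((IsLocalRing.mem_maximalIdeal lam).2 hl) _ hN
      obtain ⟨c, hc⟩ := hr
      have := Ideal.sub_mem _ hr1 (Ideal.mul_mem_right c _ hl1)
      rw [← hc, sub_sub_cancel] at this
      exact (IsLocalRing.mem_maximalIdeal u).1 this hu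
  obtain ⟨ru, hru⟩ := (hr.pow (p ^ N))
  have he : r ^ p ^ N * (1 + lam ^ p ^ N * (-((ru⁻¹ : Rˣ) : R) * c)) = u := by
    have h3 : (ru : R) * ((ru⁻¹ : Rˣ) : R) = 1 := ru.mul_inv
    rw [hru] at h3
    linear_combination (-(lam ^ p ^ N * c)) * h3 + hc
  have hb : IsUnit (1 + lam ^ p ^ N * (-((ru⁻¹ : Rˣ) : R) * c)) :=
    isUnit_of_mul_isUnit_right (x := r ^ p ^ N) (by rw [he]; exact hu)
  obtain ⟨Q, b, χ₀, hQ, hχ₀, hu₀⟩ := exists_model h hN _ r hb hr
  have hQ₁ : NonAbH1.IsTorsorFor Scheme.fpqcPrecoverage (b.bc f) := NonAbH1.isTorsorFor_bc f _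
    ⟨hQ.1, TorsorDesc.isLocallyTrivialFor_mono Scheme.fppfPrecoverage_le_fpqcPrecoverage hQ.2⟩
  have hu₂ : ∀ (T : Over X) (x : T ⟶ Red.bc f Q),
      vf (x ≫ (Over.pullback f).map χ₀) ^ p ^ N = lamT f u T := by
    intro T x
    show val (toB f (x ≫ (Over.pullback f).map χ₀)) ^ p ^ N = _
    rw [toB_comp, hu₀, he]
    rfl
  obtain ⟨i, hi⟩ := exists_iso_of_chi hlam hN hP₁ hQ₁ hχ (chi_bc f b χ₀ hχ₀) hu₁ hu₂
    (fun T x y hT => chi_agree hlam hN hP₁ hQ₁ hχ (chi_bc f b χ₀ hχ₀) hu₁ hu₂ T x y hT)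
  exact ⟨Q, b, i, hQ, by rw [hi, AlgGrp.Action.bc_act]⟩

end Groth.Agent.S14690
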