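import Groth.Statements.S14691
import Groth.Agent.Lib.GrpDeligne.Basic
-- import your own Groth.Agent.* helpers here

set_option autoImplicit false
universe u
open CategoryTheory AlgebraicGeometry
open SekSuwa

namespace Groth.Agent.S14691

/-- Let R be a discrete valuation ring of characteristic zero and residue characteristic p, and G a
commutative finite flat R-group scheme of order m (finite locally free of degree m over Spec R).
Then the endomorphism of Ext¹(G, 𝔾_m) induced by the m-th power map of the multiplicative group —
that is, multiplication by m on this group — is zero. Here Ext¹ is taken between the abelian sheaves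
of points of G and of the split multiplicative group on the big fppf site of Spec R. (The published
statement is made under a standing assumption that R contains a primitive p²-th root of unity; this
row does not assume it, the argument not using it.) -/
theorem result (R : Type u) [CommRing R] [IsDomain R] [IsDiscreteValuationRing R] [CharZero R]
    (p : ℕ) [Fact p.Prime] [CharP (IsLocalRing.ResidueField R) p]
    (G : Over (Spec (CommRingCat.of R))) [GrpObj G] [IsCommMonObj G]
    (m : ℕ) (hG : Mor2.IsFinLocFreeOfDeg m G.hom)
    (x : CGrpSh.ExtS Scheme.fppfPrecoverage G (Red.diag R ℤ) 1) : m • x = 0 := by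
  obtain ⟨hflf, hrk⟩ := hG
  haveI : IsFinite G.hom := hflf.1
  haveI : Flat G.hom := hflf.2.1
  haveI : LocallyOfFinitePresentation G.hom := hflf.2.2
  have h0 : m • (𝟙 (CGrpSh.pts Scheme.fppfPrecoverage G)) = 0 := by
    refine Sheaf.hom_ext (NatTrans.ext (funext fun T => ?_))
    refine AddCommGrpCat.hom_ext (AddMonoidHom.ext fun g => ?_)
    open MonObj in
    refine Eq.trans (b := m • g) ?_ (ULift.ext _ _ ?_)
    · show ((m • 𝟙 (CGrpSh.pts Scheme.fppfPrecoverage G)).1.app T).hom g = m • g
      induction m with
      | zero => simp <;> rfl
      | succ j ih => simp [succ_nsmul, ih] <;> rfl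
    · open scoped MonObj in
      exact congrArg Additive.ofMul (GrothLib.GrpDeligne.pow_eq_one G m hrk g.down.toMul)
  calc m • x = (m • Abelian.Ext.mk₀ (𝟙 (CGrpSh.pts Scheme.fppfPrecoverage G))).comp x (zero_add 1) := by
        rw [← Abelian.Ext.bilinearComp_apply_apply, map_nsmul, AddMonoidHom.smul_apply,
          Abelian.Ext.bilinearComp_apply_apply, Abelian.Ext.mk₀_id_comp]
    _ = 0 := by
        rw [show m • Abelian.Ext.mk₀ (𝟙 (CGrpSh.pts Scheme.fppfPrecoverage G)) = 0 from
          (map_nsmul Abelian.Ext.addEquiv₀.symm m _).symm.trans (by rw [h0, map_zero]), Abelian.Ext.zero_comp]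

end Groth.Agent.S14691
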