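import Groth.Statements.S14692
import Mathlib
import Groth.Agent.Lib.KummerLevel1.Basic
-- import your own Groth.Agent.* helpers here

set_option autoImplicit false
universe u
open CAlg

namespace Groth.Agent.S14692

/-- Let R be a discrete valuation ring of characteristic zero and residue characteristic p, with
uniformizer π and a primitive p^n-th root of unity ζ (n ≥ 1), and A a Noetherian integrally closed
domain which is a faithfully flat R-algebra, in which πA is a prime ideal and every element that is
a unit modulo π is a unit (as when A is π-adically complete, or local). Let f, g be units of A, j a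
natural number with π^{p^{n−1}(p−1)(j+1)} dividing p (that is, j is less than the valuation of ζ −
1, so that the polynomials ((1 + π^{j}T)^{p^n} − 1)/π^{jp^n} and ((1 + π^{j+1}T)^{p^n} −
1)/π^{(j+1)p^n} have coefficients in R), and f₀ ∈ A with f·g^{p^n} = 1 + π^{j p^n}·f₀; suppose j is
maximal with this property: there is no unit g' of A with f·g'^{p^n} ≡ 1 modulo π^{(j+1)p^n}.
Suppose moreover that the algebra L = A[1/π][Z]/(Z^{p^n} − f) is an integral domain (the
μ_{p^n}-torsor Z^{p^n} = f is connected on the generic fibre) and that, B denoting the integral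
closure of A in L (the normalization of Spec A in that cover), the ideal πB is radical (the
normalization has reduced special fibre). Then f₀ is not congruent modulo πA to a p^n-th power. (The
published statement phrases the hypothesis on j as: the class of the torsor Z^{p^n} = f lies in
H¹(Spec A, G_{π^j,n}) and not in H¹(Spec A, G_{π^{j+1},n}); the conditions on g and g' are its
ring-theoretic form, which is the first assertion of the same lemma; A is there factorial and
π-adically complete, or normal local, which this row keeps only through the consequences used: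
integrally closed, and units lift modulo π.) -/
theorem result
    (R : Type u) [CommRing R] [IsDomain R] [IsDiscreteValuationRing R] [CharZero R]
    (p : ℕ) [Fact p.Prime] [CharP (IsLocalRing.ResidueField R) p] (ϖ : R) (hϖ : Irreducible ϖ)
    (n : ℕ) (hn : 0 < n) (ζ : R) (hζ : IsPrimitiveRoot ζ (p ^ n))
    (A : Type u) [CommRing A] [IsDomain A] [IsNoetherianRing A] [IsIntegrallyClosed A] [Algebra R A]
    [Module.FaithfullyFlat R A]
    (hprime : (Ideal.span {algebraMap R A ϖ}).IsPrime)
    (hlift : ∀ a : A, IsUnit (Ideal.Quotient.mk (Ideal.span {algebraMap R A ϖ}) a) → IsUnit a)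
    (f g : Aˣ) (j : ℕ) (hj : ϖ ^ (p ^ (n - 1) * (p - 1) * (j + 1)) ∣ (p : R)) (f₀ : A)
    (hfg : (f : A) * (g : A) ^ (p ^ n) = 1 + (algebraMap R A ϖ) ^ (j * p ^ n) * f₀)
    (hmax : ∀ (g' : Aˣ) (c : A), (f : A) * (g' : A) ^ (p ^ n) ≠ 1 + (algebraMap R A ϖ) ^ ((j + 1) * p ^ n) * c)
    [IsDomain (AdjoinRoot (Polynomial.X ^ (p ^ n) - Polynomial.C (algebraMap A (Localization.Away (algebraMap R A ϖ)) (f : A))))]
    (hred : (Ideal.span {algebraMap A (integralClosure A (AdjoinRoot (Polynomial.X ^ (p ^ n) - Polynomial.C (algebraMap A (Localization.Away (algebraMap R A ϖ)) (f : A))))) (algebraMap R A ϖ)}).IsRadical)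
    (g₀ : A) : f₀ - g₀ ^ (p ^ n) ∉ Ideal.span {(algebraMap R A ϖ)} := by
  classical
  intro hmem
  set N := p ^ n with hN
  have hp : p.Prime := Fact.out
  have hN0 : N ≠ 0 := pow_ne_zero _ hp.ne_zero
  set A₁ := Localization.Away (algebraMap R A ϖ)
  set F : Polynomial A₁ := Polynomial.X ^ N - Polynomial.C (algebraMap A A₁ (f : A))
  let L := AdjoinRoot F
  set t := algebraMap R A ϖ with ht
  obtain ⟨a₀, ha₀⟩ := Ideal.mem_span_singleton.1 hmem
  obtain ⟨d, hd⟩ : ϖ ∣ (p : R) := (dvd_pow_self ϖ (by
    simp only [ne_eq, mul_eq_zero, pow_eq_zero_iff', Nat.succ_ne_zero, or_false, not_or, not_and]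
    exact ⟨fun h => absurd h hp.ne_zero, fun h => by have := hp.two_le; omega⟩)).trans hj
  have hpA : (p : A) = t * algebraMap R A d := by rw [ht, ← map_mul, ← hd, map_natCast]
  obtain ⟨Q, hQdeg, hQ⟩ := GrothLib.KummerLevel1.exists_level hp n j hj (IsRegular.of_ne_zero hϖ.ne_zero)
  obtain ⟨P, hP⟩ := GrothLib.KummerLevel1.exists_succ_level hp n j hj
  have htL : IsUnit (algebraMap A L t) := by
    rw [IsScalarTower.algebraMap_apply A A₁ L]
    exact (IsLocalization.Away.algebraMap_isUnit t).map _
  have hRL : algebraMap R L ϖ = algebraMap A L t := IsScalarTower.algebraMap_apply R A L ϖ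
  let Z : L := AdjoinRoot.root F
  have hZ : Z ^ N = algebraMap A L (f : A) := by
    have h := AdjoinRoot.eval₂_root F
    simp only [F, Polynomial.eval₂_sub, Polynomial.eval₂_pow, Polynomial.eval₂_X, Polynomial.eval₂_C, sub_eq_zero] at h
    rw [IsScalarTower.algebraMap_apply A A₁ L]
    exact h
  let z : L := ↑((htL.unit ^ j)⁻¹) * (Z * algebraMap A L (g : A) - 1)
  have hz1 : 1 + algebraMap A L t ^ j * z = Z * algebraMap A L (g : A) := by
    have : algebraMap A L t ^ j = ↑(htL.unit ^ j) := by rw [Units.val_pow_eq_pow_val, IsUnit.unit_spec]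
    rw [this, Units.mul_inv_cancel_left]
    ring
  have hz : algebraMap A L f₀ = z ^ N + algebraMap A L t * Polynomial.aeval z Q := by
    have h := hQ L z
    rw [hRL, hz1, mul_pow, hZ, ← map_pow, ← map_mul, hfg, map_add, map_one, map_mul, map_pow] at h
    exact (htL.pow _).mul_left_cancel (add_left_cancel h)
  have hzint : IsIntegral A z := by
    refine ⟨Polynomial.X ^ N + (Polynomial.C t * Q.map (algebraMap R A) - Polynomial.C f₀),
      Polynomial.monic_X_pow_add ?_, ?_⟩
    · refine lt_of_le_of_lt (Polynomial.degree_sub_le _ _) (max_lt ?_ ?_)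
      · exact lt_of_le_of_lt (Polynomial.degree_mul_le _ _) (lt_of_le_of_lt (add_le_add Polynomial.degree_C_le
          Polynomial.degree_map_le) (by rw [zero_add]; exact hQdeg))
      · exact lt_of_le_of_lt Polynomial.degree_C_le (WithBot.coe_lt_coe.2 (Nat.pos_of_ne_zero hN0))
    · rw [← Polynomial.aeval_def, map_add, map_sub, map_mul, map_pow, Polynomial.aeval_X, Polynomial.aeval_C,
        Polynomial.aeval_C, Polynomial.aeval_map_algebraMap, hz]
      ring
  have hmemQ : ∀ (y : L) (q : Polynomial R), IsIntegral A y → IsIntegral A (Polynomial.aeval y q) := fun y q hy => by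
    induction q using Polynomial.induction_on' with
    | add a b ha hb => rw [map_add]; exact ha.add hb
    | monomial i c =>
      rw [Polynomial.aeval_monomial, IsScalarTower.algebraMap_apply R A L]
      exact isIntegral_algebraMap.mul (hy.pow i)
  let B := integralClosure A L
  let zB : B := ⟨z, hzint⟩
  let qB : B := ⟨Polynomial.aeval z Q, hmemQ z Q hzint⟩
  have hzB : algebraMap A B f₀ = zB ^ N + algebraMap A B t * qB := Subtype.ext hz
  obtain ⟨r, hr⟩ := exists_add_pow_prime_pow_eq hp (zB - algebraMap A B g₀) (algebraMap A B g₀) n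
  rw [sub_add_cancel, ← hN] at hr
  have hrad : (zB - algebraMap A B g₀) ^ N ∈ Ideal.span {algebraMap A B t} := by
    rw [Ideal.mem_span_singleton]
    refine ⟨algebraMap A B a₀ - qB - algebraMap A B (algebraMap R A d) * (zB - algebraMap A B g₀) * algebraMap A B g₀ * r, ?_⟩
    have h1 := congrArg (algebraMap A B) ha₀
    have h2 := congrArg (algebraMap A B) hpA
    rw [map_natCast, map_mul] at h2
    rw [map_sub, map_pow, map_mul] at h1
    rw [h2] at hr
    linear_combination h1 - hzB - hr
  obtain ⟨w, hw⟩ := Ideal.mem_span_singleton.1 (hred ⟨N, hrad⟩)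
  have hu : IsUnit (1 + t ^ j * g₀) := by
    refine hlift _ ?_
    rcases Nat.eq_zero_or_pos j with rfl | hj0
    · rw [← isUnit_pow_iff hN0]
      obtain ⟨r', hr'⟩ := exists_add_pow_prime_pow_eq hp (1 : A) g₀ n
      have : Ideal.Quotient.mk (Ideal.span {t}) (1 + t ^ 0 * g₀) ^ N =
          Ideal.Quotient.mk (Ideal.span {t}) ((f : A) * (g : A) ^ N) := by
        rw [← map_pow, Ideal.Quotient.mk_eq_mk_iff_sub_mem, Ideal.mem_span_singleton, pow_zero, one_mul, hN, hr',
          hfg, zero_mul, pow_zero, one_mul, one_pow, hpA]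
        exact ⟨algebraMap R A d * 1 * g₀ * r' - a₀, by linear_combination (-1 : A) * ha₀⟩
      rw [this]
      exact (f.isUnit.mul (g.isUnit.pow N)).map _
    · rw [map_add, map_one, map_mul, map_pow, Ideal.Quotient.eq_zero_iff_mem.2 (Ideal.mem_span_singleton_self t),
        zero_pow hj0.ne', zero_mul, add_zero]
      exact isUnit_one
  let g' : Aˣ := g * hu.unit⁻¹
  let w' : B := w * algebraMap A B (↑hu.unit⁻¹ : A)
  have hg' : Z * algebraMap A L (g' : A) = 1 + algebraMap R L ϖ ^ (j + 1) * (w' : L) := by
    have hw1 : z - algebraMap A L g₀ = algebraMap A L t * (w : L) := congrArg Subtype.val hw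
    have hz2 : Z * algebraMap A L (g : A) =
        algebraMap A L (1 + t ^ j * g₀) + algebraMap A L t ^ (j + 1) * (w : L) := by
      rw [← hz1, eq_add_of_sub_eq hw1, map_add, map_one, map_mul, map_pow, pow_succ]
      ring
    have hcancel : algebraMap A L (1 + t ^ j * g₀) * algebraMap A L (↑hu.unit⁻¹ : A) = 1 := by
      rw [← map_mul, IsUnit.mul_val_inv, map_one]
    rw [hRL, show (g' : A) = (g : A) * (↑hu.unit⁻¹ : A) from rfl, map_mul, ← mul_assoc, hz2, add_mul, hcancel]
    show _ = 1 + _ * ((w : L) * algebraMap A L _)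
    ring
  set M := (j + 1) * N
  have hfc : algebraMap A L ((f : A) * (g' : A) ^ N) =
      1 + algebraMap A L t ^ M * Polynomial.aeval (w' : L) P := by
    have h := hP L (w' : L)
    rw [← hg', mul_pow, hZ, hRL] at h
    rw [map_mul, map_pow]
    exact h
  have ht₁ : IsUnit (algebraMap A A₁ t ^ M) := (IsLocalization.Away.algebraMap_isUnit t).pow _
  let c₁ : A₁ := ↑ht₁.unit⁻¹ * (algebraMap A A₁ ((f : A) * (g' : A) ^ N) - 1)
  have hc₁ : algebraMap A A₁ ((f : A) * (g' : A) ^ N) = 1 + algebraMap A A₁ t ^ M * c₁ := by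
    rw [show algebraMap A A₁ t ^ M = ↑ht₁.unit from ht₁.unit_spec.symm, Units.mul_inv_cancel_left]
    ring
  have ht0 : t ≠ 0 := fun h => hϖ.ne_zero ((FaithfulSMul.algebraMap_eq_zero_iff R A).1 h)
  haveI : IsDomain A₁ := IsLocalization.isDomain_localization
    (Submonoid.powers_le.2 (mem_nonZeroDivisors_of_ne_zero ht0))
  have hinj : Function.Injective (algebraMap A₁ L) := by
    refine AdjoinRoot.of.injective_of_degree_ne_zero ?_
    rw [Polynomial.degree_X_pow_sub_C (Nat.pos_of_ne_zero hN0)]
    exact fun h => hN0 (WithBot.coe_inj.1 h)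
  have hcint : IsIntegral A c₁ := by
    refine (isIntegral_algHom_iff (IsScalarTower.toAlgHom A A₁ L) hinj).1 ?_
    show IsIntegral A (algebraMap A₁ L c₁)
    have : algebraMap A₁ L c₁ = Polynomial.aeval (w' : L) P := by
      have h := congrArg (algebraMap A₁ L) hc₁
      rw [← IsScalarTower.algebraMap_apply, hfc, map_add, map_one, map_mul, map_pow,
        ← IsScalarTower.algebraMap_apply] at h
      exact (htL.pow _).mul_left_cancel (add_left_cancel h).symm
    rw [this]
    exact hmemQ _ P w'.2
  let φ : A₁ →ₐ[A] FractionRing A := IsLocalization.liftAlgHom (M := Submonoid.powers t)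
    (f := Algebra.ofId A (FractionRing A)) (fun y => by
      obtain ⟨k, hk⟩ := y.2
      refine isUnit_iff_ne_zero.2 ((map_ne_zero_iff _ (IsFractionRing.injective A (FractionRing A))).2 ?_)
      rw [← hk]
      exact pow_ne_zero k ht0)
  obtain ⟨c, hc⟩ := IsIntegrallyClosed.algebraMap_eq_of_integral (K := FractionRing A) (hcint.map φ)
  refine hmax g' c (IsFractionRing.injective A (FractionRing A) ?_)
  have h := congrArg φ hc₁
  simp only [AlgHom.commutes, map_add, map_one, map_mul, map_pow, ← hc] at h ⊢
  exact h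

end Groth.Agent.S14692
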