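import Groth.Statements.S14698
import Groth.Agent.Lib.ExcDim29.Main
import Groth.Agent.Lib.Chow.Prod

set_option autoImplicit false
universe u
open CategoryTheory CategoryTheory.Limits AlgebraicGeometry
open Resolve

namespace Groth.Agent.S14698

/-- Let k be an algebraically closed field and X an integral normal scheme of dimension two admitting a
closed immersion into some P^n_k over k. Let φ : Y → X be a k-morphism from an integral scheme Y of
dimension two with all local rings regular, itself admitting a closed immersion into some P^m_k over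
k, which restricts to an isomorphism over an open subset U of X with finite complement. Then for
every point x of X at which the local ring is not regular, the fibre φ⁻¹(x) (with the topology
induced from Y) is nonempty and every irreducible component of it has dimension one: such a
desingularization is a monoidal model. (The published statement takes φ an isomorphism exactly over
the complement of the singular points; this row allows any open U with finite complement over which
φ is an isomorphism.) -/
theorem result (k : Type u) [Field k] [IsAlgClosed k] (X : Scheme.{u}) [X.Over (Spec (CommRingCat.of k))]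
    [IsIntegral X] (hdim : topologicalKrullDim X = 2)
    (hproj : ∃ (n : ℕ) (ι : X ⟶ CohB1.ProjSpace n k), IsClosedImmersion ι ∧ ι ≫ CohB1.ProjSpace.toSpec n k = (X ↘ (Spec (CommRingCat.of k))))
    (hnorm : Pi1.IsNormalScheme X) (U : X.Opens) (hU : ((U : Set X)ᶜ).Finite)
    (Y : Scheme.{u}) (φ : Y ⟶ X) [IsIntegral Y] (hdimY : topologicalKrullDim Y = 2)
    (hregY : ∀ y : Y, IsRegularLocalRing (Y.presheaf.stalk y))
    (hprojY : ∃ (n : ℕ) (ι : Y ⟶ CohB1.ProjSpace n k), IsClosedImmersion ι ∧ ι ≫ CohB1.ProjSpace.toSpec n k = φ ≫ (X ↘ (Spec (CommRingCat.of k))))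
    (hisoY : IsIso (φ ∣_ U))
    (x : X) (hx : ¬ IsRegularLocalRing (X.presheaf.stalk x)) :
    (φ.base ⁻¹' ({x} : Set X)).Nonempty ∧
      ∀ Z ∈ irreducibleComponents ↥(φ.base ⁻¹' ({x} : Set X)), topologicalKrullDim ↥Z = 1 := by
  obtain ⟨nX, ι, hι, hιf⟩ := hproj
  obtain ⟨nY, κ, hκ, hκf⟩ := hprojY
  haveI := hι
  haveI := hκ
  haveI : IsProper (CohB1.ProjSpace.toSpec nX k) := GrothLib.Chow.isProper_toSpec nX k
  haveI : IsProper (CohB1.ProjSpace.toSpec nY k) := GrothLib.Chow.isProper_toSpec nY k
  haveI hX : IsProper (X ↘ (Spec (CommRingCat.of k))) := hιf ▸ inferInstance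
  haveI hY : IsProper (φ ≫ (X ↘ (Spec (CommRingCat.of k)))) := hκf ▸ inferInstance
  haveI : IsProper φ := IsProper.of_comp φ (X ↘ (Spec (CommRingCat.of k)))
  haveI : IsLocallyNoetherian X := LocallyOfFiniteType.isLocallyNoetherian (X ↘ (Spec (CommRingCat.of k)))
  haveI : IsLocallyNoetherian Y := LocallyOfFiniteType.isLocallyNoetherian (φ ≫ (X ↘ (Spec (CommRingCat.of k))))
  haveI : CompactSpace Y := QuasiCompact.compactSpace_of_compactSpace (φ ≫ (X ↘ (Spec (CommRingCat.of k))))
  haveI : AlgebraicGeometry.IsNoetherian Y := {}
  haveI : JacobsonSpace X := LocallyOfFiniteType.jacobsonSpace (X ↘ (Spec (CommRingCat.of k)))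
  exact GrothLib.ExcDim29.main φ hnorm hdim hdimY hregY U hU hisoY x hx

end Groth.Agent.S14698
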