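import Groth.Statements.S1470
import Groth.Agent.Lib.RelAss13.Closure
-- import your own Groth.Agent.* helpers here

set_option autoImplicit false
universe u
open FlatMor

namespace Groth.Agent.S1470

open AlgebraicGeometry CategoryTheory Limits in
/-- Let f : X → S be locally of finite type, F a quasi-coherent O_X-module of finite type, and y a point
of the relative assassin of F with image t; let Y be the closure of y. For a point s of S and a
point x of the fibre of Y over s which is generic in an irreducible component of that fibre, if F is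
flat over S at x then x belongs to the relative assassin of F and the local dimension of the fibre
of Y over s at x equals the dimension of the fibre of Y over t (fibres taken as subspaces of X). -/
theorem result {X S : Scheme.{u}} (f : X ⟶ S) [LocallyOfFiniteType f]
    (F : X.Modules) (hF : Coh.IsCoh F) (y : X) (hy : y ∈ MoreMor.relAss f F) (s : S) (x : X) (hx : x ∈ closure ({y} : Set ↑X)) (hxs : f x = s)
    (hgen : ∃ C ∈ irreducibleComponents ↑(closure ({y} : Set ↑X) ∩ f ⁻¹' {s}), IsGenericPoint (⟨x, hx, hxs⟩ : ↑(closure ({y} : Set ↑X) ∩ f ⁻¹' {s})) C)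
    (hfl : FlatMod.IsFlatOverAt f F x) :
    x ∈ MoreMor.relAss f F ∧
      FlatMor.localDim ↑(closure ({y} : Set ↑X) ∩ f ⁻¹' {s}) ⟨x, hx, hxs⟩ = topologicalKrullDim ↑(closure ({y} : Set ↑X) ∩ f ⁻¹' {f y}) := by
  haveI : F.IsQuasicoherent := hF.1
  subst hxs
  obtain ⟨C, hC, hxC⟩ := hgen
  have hmax : ∀ z, f z = f x → y ⤳ z → z ⤳ x → z = x := fun z hz hyz hzx => by
    have hzT : z ∈ closure ({y} : Set ↑X) ∩ f ⁻¹' {f x} := ⟨specializes_iff_mem_closure.1 hyz, hz⟩
    exact congrArg Subtype.val (GrothLib.RelAss13.eq_of_isGenericPoint_component hC hxC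
      (show (⟨z, hzT⟩ : ↑(closure ({y} : Set ↑X) ∩ f ⁻¹' {f x})) ⤳ ⟨x, hx, rfl⟩ from (subtype_specializes_iff _ _).2 hzx))
  exact ⟨GrothLib.RelAss13.mem_relAss_of_generic f F hF.2 y hy x (specializes_iff_mem_closure.2 hx) hmax hfl,
    GrothLib.RelAss13.localDim_closure_fibre f F hF.2 y hy (f x) x hx rfl hmax hfl⟩


end Groth.Agent.S1470
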