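import Groth.Statements.S14700
import Groth.Agent.Lib.RatCyc12.UnionCurves
-- import your own Groth.Agent.* helpers here

set_option autoImplicit false
set_option backward.isDefEq.respectTransparency false
universe u
open CategoryTheory CategoryTheory.Limits AlgebraicGeometry
open Surf

namespace Groth.Agent.S14700

/-- Let k be an algebraically closed field and X an integral scheme of dimension two with all local
rings regular, admitting a closed immersion into some P^n_k over k. Let C_1, …, C_n be pairwise
distinct integral one-dimensional closed subschemes of X with ideal sheaves I_1, …, I_n, and let Y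
be the reduced closed subscheme with ideal I_1 ∩ ⋯ ∩ I_n (their union); assume Y is connected. Then
χ(O_Y) ≤ 1, i.e. the arithmetic genus 1 - χ(O_Y) of Y is nonnegative. If moreover χ(O_Y) = 1, then
χ(O_{C_i}) = 1 for every i (each C_i has arithmetic genus zero) and Σ_{i<j} (C_i · C_j) = n - 1, so
that the incidence graph of the C_i, which is connected with Σ_{i<j} (C_i · C_j) edges, contains no
cycle; here (C_i · C_j) = χ(O_X) - χ(I_i) - χ(I_j) + χ(I_i ⊗ I_j) is the intersection number
(packaged as FGA.intNum). (The published statement allows any integral projective surface regular in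
codimension one; this row takes X with all local rings regular, where the intersection numbers used
by the proof are defined.) -/
theorem result (k : Type u) [Field k] [IsAlgClosed k] (X : Scheme.{u}) [X.Over (Spec (CommRingCat.of k))]
    [IsIntegral X] (hdim : topologicalKrullDim X = 2)
    (hproj : ∃ (n : ℕ) (ι : X ⟶ CohB1.ProjSpace n k), IsClosedImmersion ι ∧ ι ≫ CohB1.ProjSpace.toSpec n k = (X ↘ (Spec (CommRingCat.of k))))
    (hreg : ∀ x : X, IsRegularLocalRing (X.presheaf.stalk x))
    (n : ℕ) (C : Fin n → X.IdealSheafData) (hCint : ∀ i, IsIntegral (C i).subscheme)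
    (hCdim : ∀ i, topologicalKrullDim ((C i).support : Set X) = 1)
    (hCinj : Function.Injective fun i => ((C i).support : Set X))
    (hconn : _root_.IsConnected ((⨅ i, C i).support : Set X)) :
    Curv2.euler k X (ClSub.quotMod (⨅ i, C i)) ≤ 1 ∧
      (Curv2.euler k X (ClSub.quotMod (⨅ i, C i)) = 1 →
        (∀ i, Curv2.euler k X (ClSub.quotMod (C i)) = 1) ∧
          (∑ i : Fin n, ∑ j : Fin n,
              if i < j then FGA.intNum k X 2 ![ClSub.idealMod (C i), ClSub.idealMod (C j)] (Coh.structureModule X) else 0) =
            (n : ℤ) - 1) := by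
  obtain ⟨N, ι, hι, hιc⟩ := hproj
  haveI := hι
  haveI := GrothLib.Chow.isProper_toSpec N k
  haveI : IsProper (X ↘ Spec (CommRingCat.of k)) := by rw [← hιc]; infer_instance
  haveI : Smooth (X ↘ Spec (CommRingCat.of k)) := GrothLib.Adj27.smooth_of_regular _ hreg
  have hd : topologicalKrullDim X = ((2 : ℕ) : WithBot ℕ∞) := hdim
  choose y hy hyC hyS using fun i => GrothLib.HodgeIndex.exists_curve_point k hd (hCint i) (hCdim i)
  obtain rfl : C = fun i => GrothLib.HodgeIndex.curveIdeal (y i) := funext fun i => (hyC i).symm
  obtain ⟨H, hH⟩ := GrothLib.Goodman.exists_ample_of_smooth_surface k hd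
  obtain ⟨h1, h2⟩ := GrothLib.RatCyc12.euler_union_curves k hd n y hy
    (fun i j h => hCinj (by simp only [h])) hconn
  refine ⟨h1, fun he => ⟨(h2 he).1, (Eq.trans ?_ (h2 he).2)⟩⟩
  refine Finset.sum_congr rfl fun i _ => Finset.sum_congr rfl fun j _ => ?_
  split_ifs
  · exact GrothLib.HodgeIndex.intNum_curves k hd (hCint i) (hCdim i) (hCint j) (hCdim j) hH
  · rfl

end Groth.Agent.S14700
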