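import Groth.Statements.S14701
import Groth.Agent.Lib.SurfRR28.Proper
import Groth.Agent.Lib.RatTree12.Basic
import Groth.Agent.Lib.Chow.Prod
import Groth.Agent.Lib.Goodman.Main
-- import your own Groth.Agent.* helpers here

set_option autoImplicit false
set_option backward.isDefEq.respectTransparency false
set_option maxHeartbeats 1000000
set_option linter.all false
universe u
open CategoryTheory CategoryTheory.Limits AlgebraicGeometry
open Resolve

namespace Groth.Agent.S14701

/-- Let k be an algebraically closed field and X an integral normal scheme of dimension two admitting a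
closed immersion into some P^n_k over k. Let φ : Y → X be a k-morphism from an integral scheme Y of
dimension two with all local rings regular, itself admitting a closed immersion into some P^m_k over
k, which restricts to an isomorphism over an open subset U of X with finite complement, and assume
R^1 φ_* O_Y = 0 (first right derived functor of the direct image on abelian sheaves), so that the
singular points of X are rational singularities. Let x be a point of X whose local ring is not
regular and E_1, …, E_n pairwise distinct integral one-dimensional closed subschemes of Y mapped by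
φ to x such that every integral one-dimensional closed subscheme of Y mapped to x has the support of
one of them. Then every E_i is isomorphic to the projective line P^1_k, and Σ_{i<j} (E_i · E_j) = n
- 1, so that the incidence graph of the E_i (connected, as the fibre is connected) is a tree; here
(E_i · E_j) = χ(O_Y) - χ(I_i) - χ(I_j) + χ(I_i ⊗ I_j), I_i the ideal sheaves (packaged as
FGA.intNum). (The published statement is for a resolved model, whose exceptional curves are
nonsingular with normal crossings, and takes rationality in any of five forms it quotes as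
equivalent; this row assumes the vanishing of R^1 φ_* O_Y, the first of them, and the passage from
it to the nonpositivity of arithmetic genera of exceptional cycles used in the proof is taken from
the literature.) -/
theorem result (k : Type u) [Field k] [IsAlgClosed k] (X : Scheme.{u}) [X.Over (Spec (CommRingCat.of k))]
    [IsIntegral X] (hdim : topologicalKrullDim X = 2)
    (hproj : ∃ (n : ℕ) (ι : X ⟶ CohB1.ProjSpace n k), IsClosedImmersion ι ∧ ι ≫ CohB1.ProjSpace.toSpec n k = (X ↘ (Spec (CommRingCat.of k))))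
    (hnorm : Pi1.IsNormalScheme X) (U : X.Opens) (hU : ((U : Set X)ᶜ).Finite)
    (Y : Scheme.{u}) (φ : Y ⟶ X) [IsIntegral Y] (hdimY : topologicalKrullDim Y = 2)
    (hregY : ∀ y : Y, IsRegularLocalRing (Y.presheaf.stalk y))
    (hprojY : ∃ (n : ℕ) (ι : Y ⟶ CohB1.ProjSpace n k), IsClosedImmersion ι ∧ ι ≫ CohB1.ProjSpace.toSpec n k = φ ≫ (X ↘ (Spec (CommRingCat.of k))))
    (hisoY : IsIso (φ ∣_ U))
    (hrat : IsZero ((Coh.RpushAb φ 1).obj (Coh.toAb (Coh.structureModule Y))))
    (x : X) (hx : ¬ IsRegularLocalRing (X.presheaf.stalk x))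
    (n : ℕ) (E : Fin n → Y.IdealSheafData) (hEint : ∀ i, IsIntegral (E i).subscheme)
    (hEdim : ∀ i, topologicalKrullDim ((E i).support : Set Y) = 1)
    (hEpt : ∀ i, φ.base '' ((E i).support : Set Y) = {x})
    (hEinj : Function.Injective fun i => ((E i).support : Set Y))
    (hEall : ∀ F : Y.IdealSheafData, IsIntegral F.subscheme → topologicalKrullDim (F.support : Set Y) = 1 →
      φ.base '' (F.support : Set Y) = {x} → ∃ i, (F.support : Set Y) = (E i).support) :
    letI : Y.Over (Spec (CommRingCat.of k)) := ⟨φ ≫ (X ↘ (Spec (CommRingCat.of k)))⟩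
    (∀ i, Nonempty ((E i).subscheme ≅ CohB1.ProjSpace 1 k)) ∧
      (∑ i : Fin n, ∑ j : Fin n,
          if i < j then FGA.intNum k Y 2 ![ClSub.idealMod (E i), ClSub.idealMod (E j)] (Coh.structureModule Y) else 0) =
        (n : ℤ) - 1 := by
  letI : Y.Over (Spec (CommRingCat.of k)) := ⟨φ ≫ (X ↘ (Spec (CommRingCat.of k)))⟩
  obtain ⟨nX, ι, hι, hιc⟩ := hproj
  obtain ⟨nY, κ, hκ, hκc⟩ := hprojY
  haveI := hι
  haveI := hκ
  haveI := GrothLib.Chow.isProper_toSpec nX k
  haveI := GrothLib.Chow.isProper_toSpec nY k
  haveI : IsProper (X ↘ Spec (CommRingCat.of k)) := by rw [← hιc]; infer_instance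
  haveI : IsProper (Y ↘ Spec (CommRingCat.of k)) := by
    show IsProper (φ ≫ X ↘ Spec (CommRingCat.of k))
    rw [← hκc]; infer_instance
  haveI : IsProper (φ ≫ X ↘ Spec (CommRingCat.of k)) := ‹IsProper (Y ↘ Spec (CommRingCat.of k))›
  haveI : IsProper φ := IsProper.of_comp φ (X ↘ Spec (CommRingCat.of k))
  haveI : Smooth (Y ↘ Spec (CommRingCat.of k)) := GrothLib.Adj27.smooth_of_regular _ hregY
  haveI := GrothLib.Euler.isNoetherian_of_proper (X := X) k
  haveI := GrothLib.Euler.isNoetherian_of_proper (X := Y) k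
  haveI : JacobsonSpace X := LocallyOfFiniteType.jacobsonSpace (X ↘ (Spec (CommRingCat.of k)))
  obtain ⟨hne, hZ⟩ := GrothLib.ExcDim29.main φ hnorm hdim hdimY hregY U hU hisoY x hx
  haveI := hisoY
  have hxU : x ∉ U := fun h => hx (GrothLib.ExcDim29.isRegular_of_mem φ hisoY hregY h)
  have hcl : ∀ s, s ∉ U → IsClosed ({s} : Set X) := fun s hs =>
    GrothLib.SurfRR28.isClosed_singleton_of_finite k U.isOpen.isClosed_compl hU hs
  have hUne : (U : Set X).Nonempty := by
    by_contra h
    rw [Set.not_nonempty_iff_eq_empty] at h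
    rw [h, Set.compl_empty] at hU
    haveI : Finite X := Set.finite_univ_iff.1 hU
    haveI : DiscreteTopology X := JacobsonSpace.discreteTopology (Set.toFinite _)
    have h0 : topologicalKrullDim X ≤ 0 := topologicalKrullDim_zero_of_discreteTopology X
    rw [hdim] at h0
    exact absurd h0 (by decide)
  obtain ⟨u, hu⟩ := hUne
  obtain ⟨p, -⟩ := (φ ∣_ U).homeomorph.surjective ⟨u, hu⟩
  have hη : genericPoint Y ∈ φ ⁻¹ᵁ U :=
    ((genericPoint_spec Y).mem_open_set_iff (φ ⁻¹ᵁ U).isOpen).2 ⟨p.1, Set.mem_univ _, p.2⟩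
  have hgU : genericPoint X ∈ U := ((genericPoint_spec X).mem_open_set_iff U.isOpen).2 ⟨u, Set.mem_univ _, hu⟩
  have hξ : φ.base (genericPoint Y) = genericPoint X := by
    obtain ⟨q, hq⟩ := (φ ∣_ U).homeomorph.surjective ⟨genericPoint X, hgU⟩
    have hq' : φ q.1 = genericPoint X := by
      have h2 := congrArg Subtype.val hq
      rw [← morphismRestrict_base_coe φ U q]
      exact h2
    refine (Specializes.antisymm ?_ (genericPoint_specializes _)).eq
    rw [← hq']
    exact (genericPoint_specializes q.1).map φ.continuous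
  have hbir : IsIso (φ.stalkMap (genericPoint Y)) :=
    (ConcreteCategory.isIso_iff_bijective _).2 (GrothLib.ExcDim29.bijective_stalkMap φ hisoY hη)
  have hfib : ∀ s : X, topologicalKrullDim ↥(φ.base ⁻¹' ({s} : Set X)) ≤ 1 := by
    intro s
    by_cases hs : s ∈ U
    · haveI : Subsingleton ↥(φ.base ⁻¹' ({s} : Set X)) := by
        refine ⟨fun a b => Subtype.ext ?_⟩
        have haU : a.1 ∈ φ ⁻¹ᵁ U := show φ.base a.1 ∈ U from (Set.mem_singleton_iff.1 a.2).symm ▸ hs
        have hbU : b.1 ∈ φ ⁻¹ᵁ U := show φ.base b.1 ∈ U from (Set.mem_singleton_iff.1 b.2).symm ▸ hs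
        let a' : (φ ⁻¹ᵁ U).toScheme := ⟨a.1, haU⟩
        let b' : (φ ⁻¹ᵁ U).toScheme := ⟨b.1, hbU⟩
        have h1 : ((φ ∣_ U) a').1 = φ.base a.1 :=
          congrArg (fun g : (φ ⁻¹ᵁ U).toScheme ⟶ X => g.base a') (morphismRestrict_ι φ U)
        have h2 : ((φ ∣_ U) b').1 = φ.base b.1 :=
          congrArg (fun g : (φ ⁻¹ᵁ U).toScheme ⟶ X => g.base b') (morphismRestrict_ι φ U)
        have h : a' = b' := (φ ∣_ U).isOpenEmbedding.injective (Subtype.ext (by
          rw [h1, h2, Set.mem_singleton_iff.1 a.2, Set.mem_singleton_iff.1 b.2]))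
        exact congrArg (fun z : (φ ⁻¹ᵁ U).toScheme => z.1) h
      haveI : Subsingleton (TopologicalSpace.IrreducibleCloseds ↥(φ.base ⁻¹' ({s} : Set X))) := ⟨fun A B =>
        SetLike.coe_injective ((Subsingleton.eq_univ_of_nonempty A.isIrreducible.nonempty).trans
          (Subsingleton.eq_univ_of_nonempty B.isIrreducible.nonempty).symm)⟩
      exact (Order.krullDim_nonpos_of_subsingleton).trans (by norm_num)
    · have hc := ((hcl s hs).preimage φ.continuous).isClosedEmbedding_subtypeVal
      have h := GrothLib.EssDim.Conic.topologicalKrullDim_add_one_le (Subtype.val : ↥(φ.base ⁻¹' ({s} : Set X)) → Y) hc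
        (fun h => hs (by
          obtain ⟨z, hz⟩ := h.ge (Set.mem_univ (genericPoint Y))
          have h3 : φ.base (genericPoint Y) = s := hz ▸ z.2
          exact (hξ.symm.trans h3) ▸ hgU)) (n := 1) hdimY.le
      exact h
  have hxc := hcl x hxU
  have hG := GrothLib.RatTree12.iUnion_support_eq_fibre φ x hxc hZ E hEpt hEall
  have hd : topologicalKrullDim Y = ((2 : ℕ) : WithBot ℕ∞) := hdimY
  choose y hy hyC hyS using fun i => GrothLib.HodgeIndex.exists_curve_point k hd (hEint i) (hEdim i)
  have hE : E = fun i => GrothLib.HodgeIndex.curveIdeal (y i) := funext fun i => (hyC i).symm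
  let D : Y.IdealSheafData := ⨅ i, E i
  have hDs : (D.support : Set Y) = φ.base ⁻¹' ({x} : Set X) := by
    refine Set.Subset.antisymm ?_ (hG ▸ Set.iUnion_subset fun i =>
      Scheme.IdealSheafData.support_antitone (iInf_le E i))
    have hle : Scheme.IdealSheafData.vanishingIdeal ⟨φ.base ⁻¹' ({x} : Set X), hxc.preimage φ.continuous⟩ ≤ D := by
      refine le_iInf fun i => ?_
      rw [hE]
      refine Scheme.IdealSheafData.vanishingIdeal_antimono ?_
      intro z hz
      have hz' : z ∈ ((E i).support : Set Y) := by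
        rw [← hyC i]
        exact (Scheme.IdealSheafData.coe_support_vanishingIdeal _).symm ▸ hz
      exact (hEpt i).subset ⟨z, hz', rfl⟩
    exact (Scheme.IdealSheafData.support_antitone hle).trans
      (Scheme.IdealSheafData.coe_support_vanishingIdeal _).subset
  have hconn : _root_.IsConnected (D.support : Set Y) := by
    rw [hDs]
    haveI := (hnorm x).1
    haveI := (hnorm x).2
    haveI := GrothLib.Stein.connectedSpace_fiber_of_birational φ hξ hbir x
      GrothLib.Stein.isLocalRing_integralClosure_of_isIntegrallyClosed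
    rw [← φ.range_fiberι x]
    exact isConnected_range (φ.fiberι x).continuous
  obtain ⟨W, hW, hxW, -⟩ := exists_isAffineOpen_mem_and_subset (show x ∈ (⊤ : X.Opens) from trivial)
  haveI hD1 := GrothLib.RatTree12.subsingleton_H1_sub φ hfib hrat hW D (fun z hz => by
    have h := hDs.subset hz
    show φ.base z ∈ W
    rw [Set.mem_singleton_iff.1 h]; exact hxW)
  haveI : Subsingleton (Coh.HH Y (ClSub.quotMod D) 1) := by
    haveI := GrothLib.Cohom.isQuasicoherent_structureModule D.subscheme
    obtain ⟨e⟩ := GrothLib.Cohom.nonempty_HH_equiv_pushforward D.subschemeι (Coh.structureModule D.subscheme) 1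
    exact e.symm.toEquiv.subsingleton
  have hdimD : topologicalKrullDim D.subscheme ≤ 1 := by
    rw [D.subschemeι.isClosedEmbedding.isEmbedding.toHomeomorph.isHomeomorph.topologicalKrullDim_eq,
      D.range_subschemeι, hDs]
    exact hfib x
  have hpos : 1 ≤ Curv2.euler k Y (ClSub.quotMod D) := by
    rw [GrothLib.RatCyc12.euler_quot_sub k D hdimD, Module.finrank_zero_of_subsingleton (M := Coh.HH Y (ClSub.quotMod D) 1)]
    obtain ⟨z⟩ : Nonempty D.subscheme := by
      obtain ⟨q, hq⟩ := hconn.nonempty
      rw [← D.range_subschemeι] at hq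
      exact ⟨hq.choose⟩
    haveI := GrothLib.ProjCoh.moduleFinite_HH k (ClSub.quotMod D) (GrothLib.QCoh.pushUnit_isCoh D.subschemeι) 0
    haveI : Nontrivial Γ(D.subscheme, ⊤) := (D.subscheme.presheaf.germ ⊤ z trivial).hom.domain_nontrivial
    haveI : Nontrivial Γ(ClSub.quotMod D, ⊤) := ‹Nontrivial Γ(D.subscheme, ⊤)›
    haveI : Nontrivial (Coh.HH Y (ClSub.quotMod D) 0) := (GrothLib.ProjCoh.H0top _).toEquiv.nontrivial
    have := Module.finrank_pos (R := k) (M := Coh.HH Y (ClSub.quotMod D) 0)
    omega
  have hDe : D = ⨅ i, GrothLib.HodgeIndex.curveIdeal (y i) := congrArg iInf hE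
  obtain ⟨h1, h2⟩ := GrothLib.RatCyc12.euler_union_curves k hd n y hy
    (fun i j h => hEinj (by simp only [hE, h])) (hDe ▸ hconn)
  rw [hDe] at hpos
  obtain ⟨hχ, hsum⟩ := h2 (le_antisymm h1 hpos)
  refine ⟨fun i => ?_, Eq.trans ?_ hsum⟩
  · letI : (E i).subscheme.Over (Spec (CommRingCat.of k)) := ⟨(E i).subschemeι ≫ Y ↘ Spec (CommRingCat.of k)⟩
    haveI : IsProper ((E i).subscheme ↘ Spec (CommRingCat.of k)) :=
      inferInstanceAs (IsProper ((E i).subschemeι ≫ Y ↘ Spec (CommRingCat.of k)))
    haveI := hEint i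
    have hi : Curv2.euler k Y (ClSub.quotMod (E i)) = 1 := by rw [hE]; exact hχ i
    rw [GrothLib.SurfRR28.euler_quotMod_curve k (E i) (hEint i) (hEdim i)] at hi
    haveI := GrothLib.Euler.finiteDimensional_HH k (GrothLib.Kleiman.isCoh_O (X := (E i).subscheme) k) 1
    refine GrothLib.RatTree12.nonempty_iso_P1 k _ (GrothLib.SurfRR28.dim_subscheme_eq (hEdim i))
      (Module.finrank_zero_iff (R := k).1 ?_)
    have hg : (Curv2.genus k (E i).subscheme : ℤ) = 0 := by linarith
    exact_mod_cast hg
  · obtain ⟨H, hH⟩ := GrothLib.Goodman.exists_ample_of_smooth_surface k hd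
    refine Finset.sum_congr rfl fun i _ => Finset.sum_congr rfl fun j _ => ?_
    split_ifs
    · rw [GrothLib.HodgeIndex.intNum_curves k hd (hEint i) (hEdim i) (hEint j) (hEdim j) hH, hE]
    · rfl

end Groth.Agent.S14701
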