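import Groth.Statements.S14702
import Groth.Agent.Lib.SmoothDual22.Main
import Groth.Agent.Lib.Adj27.Variety
import Groth.Agent.Lib.DualFree20.CMStalk
import Groth.Agent.Lib.Dim.Scheme
import Groth.Agent.Lib.CMReg.Sequences

set_option autoImplicit false
set_option maxHeartbeats 1000000
set_option linter.style.haveILetI false
set_option backward.isDefEq.respectTransparency false
attribute [local instance] HasDerivedCategory.standard
universe u
open CategoryTheory CategoryTheory.Limits AlgebraicGeometry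
open ProjDual

namespace Groth.Agent.S14702

/-- Let k be an algebraically closed field and X an integral closed subscheme of P^N_k of dimension two
which is a local complete intersection (every local ring is a complete intersection) with only
finitely many non-regular points; let U ⊆ X be the open subset of regular points. Let (ω, t) be a
dualizing sheaf for X: ω coherent, t a k-linear form on H^2(X, ω), and for every coherent F and
every k-linear form ψ on H^2(X, F) there is exactly one φ : F → ω with ψ = t ∘ H^2(φ). Then the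
restriction of ω to U is isomorphic to ω_U, a second exterior power of the sheaf of differentials
Ω_{U/k} (existence of an isomorphism of O_U-modules; the published statement also asserts an unnamed
isomorphism). -/
theorem result (k : Type u) [Field k] [IsAlgClosed k] (N : ℕ)
    (X : Scheme.{u}) [X.Over (Spec (CommRingCat.of k))] [IsIntegral X] (hdim : topologicalKrullDim X = 2)
    (ι : X ⟶ CohB1.ProjSpace N k) [IsClosedImmersion ι] (hι : ι ≫ CohB1.ProjSpace.toSpec N k = X ↘ (Spec (CommRingCat.of k)))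
    (hlci : ∀ x : X, Pi1.IsCompleteIntersection (X.presheaf.stalk x))
    (U : X.Opens) (hUreg : ∀ x : X, x ∈ U ↔ IsRegularLocalRing (X.presheaf.stalk x)) (hU : ((U : Set X)ᶜ).Finite)
    (ω : X.Modules) (hωcoh : Coh.IsCoh ω) (t : Coh.HH X ω 2 →ₗ[k] k)
    (hdual : ∀ F : X.Modules, Coh.IsCoh F → ∀ ψ : Coh.HH X F 2 →ₗ[k] k,
        ∃! φ : F ⟶ ω, ∀ x : Coh.HH X F 2,
          ψ x = t (Sheaf.H.map ((SheafOfModules.toSheaf X.ringCatSheaf).map φ) 2 x))
    (W : (U : Scheme.{u}).Modules) (hW : ExtPow.IsExtPow 2 (Omega.sheaf (U.ι ≫ (X ↘ (Spec (CommRingCat.of k))))) W) :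
    Nonempty ((Scheme.Modules.restrictFunctor U.ι).obj ω ≅ W) := by
  open GrothLib.OX GrothLib.RightAdj22 in
  exact (by
    let f := X ↘ Spec (CommRingCat.of k)
    haveI : IsProper f := by
      haveI : IsProper (CohB1.ProjSpace.toSpec N k) := GrothLib.Chow.isProper_toSpec N k
      show IsProper (X ↘ Spec (CommRingCat.of k))
      rw [← hι]; infer_instance
    haveI : CompactSpace X := QuasiCompact.compactSpace_of_compactSpace f
    haveI : QuasiSeparatedSpace X := quasiSeparatedSpace_of_quasiSeparated f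
    haveI : AlgebraicGeometry.IsNoetherian X := GrothLib.RightAdj22.isNoetherian_of_proper f
    haveI : DCoh.HasRpush f := GrothLib.KInj.hasRightDerivedFunctor _
    have hf : DCoh.RpushPreservesQCoh f := fun K hK =>
      GrothLib.KSix19.BettiExact.isQCohD_of_iso' ((rpushIsoRres f).app K).symm (isQCohD_Rres f K hK)
    haveI : (DCoh.RpushQ f hf).IsLeftAdjoint := GrothLib.OX.isLeftAdjoint_lift_Rpush f hf
    let adj := Adjunction.ofIsLeftAdjoint (DCoh.RpushQ f hf)
    let O : DCoh.DQCoh (Spec (CommRingCat.of k)) := ⟨DCoh.inD _ (Coh.structureModule _),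
      GrothLib.KSix19.RpushAmp.isQCohD_inD _ (inferInstanceAs (Coh.structureModule (Spec (CommRingCat.of k))).IsQuasicoherent)⟩
    let K := ((DCoh.RpushQ f hf).rightAdjoint.obj O).obj
    have hfib : ∀ s, topologicalKrullDim ↥(f.fiber s) ≤ ((2 : ℕ) : WithBot ℕ∞) := fun s =>
      ((f.fiberι s).isEmbedding.isInducing.topologicalKrullDim_le).trans hdim.le
    obtain ⟨t₀, hq₀, hb₀⟩ := GrothLib.DualFree20.isDualizingSheaf_adjoint f rfl 2 hfib hf adj O ⟨Iso.refl _⟩
    let ω₀ := DCoh.HD K (0 - (2 : ℕ))
    have hc₀ : Coh.IsCoh ω₀ := GrothLib.ShriekBridge22.isCoh_HD_adjoint f hf adj O ⟨Iso.refl _⟩ _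
    obtain ⟨α, hα⟩ := (hb₀ ω hωcoh.1).2 t
    obtain ⟨β, hβ, -⟩ := hdual ω₀ hc₀ t₀
    have eω : ω₀ ≅ ω := by
      refine ⟨β, α, (hb₀ ω₀ hc₀.1).1 (LinearMap.ext fun x => ?_), (hdual ω hωcoh t).unique (fun x => ?_) (fun x => ?_)⟩
      · show t₀ (GrothLib.Cohom.hhMap k (β ≫ α) 2 x) = t₀ (GrothLib.Cohom.hhMap k (𝟙 ω₀) 2 x)
        rw [GrothLib.Euler.hhMap_comp, GrothLib.Euler.hhMap_id]
        exact (LinearMap.congr_fun hα (GrothLib.Cohom.hhMap k β 2 x)).trans (hβ x).symm
      · show t x = t (GrothLib.Cohom.hhMap k (α ≫ β) 2 x)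
        rw [GrothLib.Euler.hhMap_comp]
        exact (LinearMap.congr_fun hα x).symm.trans (hβ (GrothLib.Cohom.hhMap k α 2 x))
      · show t x = t (GrothLib.Cohom.hhMap k (𝟙 ω) 2 x)
        rw [GrothLib.Euler.hhMap_id]
    have hne : Nonempty U := by
      refine ⟨⟨genericPoint X, (hUreg _).2 ?_⟩⟩
      exact (inferInstance : IsRegularLocalRing (X.functionField))
    haveI : IsIntegral (U : Scheme.{u}) := isIntegral_of_isOpenImmersion U.ι
    have hdU : topologicalKrullDim (U : Scheme.{u}) = ((2 : ℕ) : WithBot ℕ∞) := by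
      obtain ⟨n, hn, hU'⟩ := GrothLib.Dim.exists_nat_dim_open f
      exact (hU' U hne).trans (hn.symm.trans hdim)
    haveI := GrothLib.Adj27.smoothOfRelativeDimension_of_regular (U.ι ≫ f) (fun u => by
      haveI := (hUreg u.1).1 u.2
      exact IsRegularLocalRing.of_ringEquiv (U.stalkIso u).symm.commRingCatIsoToRingEquiv) 2 hdU
    haveI : CompactSpace (U : Scheme.{u}) := isCompact_iff_compactSpace.1 (TopologicalSpace.NoetherianSpace.isCompact (U : Set X))
    haveI : AlgebraicGeometry.IsNoetherian (U : Scheme.{u}) :=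
      { toIsLocallyNoetherian := inferInstance, toCompactSpace := inferInstance }
    haveI : QuasiCompact (U.ι ≫ f) := HasAffineProperty.iff_of_isAffine.2 (inferInstance : CompactSpace (U : Scheme.{u}))
    haveI : Dual3.IsSepFT (U.ι ≫ f) := ⟨inferInstance, inferInstance, inferInstance⟩
    let c : DEt.Compactification (U.ι ≫ f) := ⟨X, U.ι, f, inferInstance, inferInstance, rfl⟩
    haveI : DCoh.HasRpush c.fbar := ‹DCoh.HasRpush f›
    haveI : PreservesFiniteLimits (Scheme.Modules.restrictFunctor c.j) := inferInstance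
    obtain ⟨e⟩ := GrothLib.SmoothDual22.nonempty_shriekC_smooth 2 (U.ι ≫ f) c hf adj O ⟨Iso.refl _⟩ W hW
    let S := DerivedCategory.singleFunctor (U : Scheme.{u}).Modules
    exact ⟨(Scheme.Modules.restrictFunctor U.ι).mapIso eω.symm ≪≫ (HDResIso U.ι K _).symm ≪≫
      (DerivedCategory.homologyFunctor _ _).mapIso (e ≪≫
        ((DerivedCategory.singleFunctors (U : Scheme.{u}).Modules).shiftIso (2 : ℤ) (0 - (2 : ℤ)) 0 (by omega)).app W) ≪≫
      (DerivedCategory.singleFunctorCompHomologyFunctorIso (U : Scheme.{u}).Modules _).app W⟩)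

end Groth.Agent.S14702
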