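import Groth.Statements.S14703
import Groth.Agent.Lib.PlaneBlow28.DivEq
import Groth.Agent.Lib.Adj27.Variety
import Groth.Agent.Lib.SurfRR28.Proper
import Groth.Agent.Lib.Chow.Prod

set_option autoImplicit false
universe u
open CategoryTheory CategoryTheory.Limits AlgebraicGeometry
open Surf

namespace Groth.Agent.S14703

/-- Let k be an algebraically closed field, X an integral scheme of dimension two admitting a closed
immersion into some P^n_k over k, and U ⊆ X open with finite complement. Let φ : Y → X be a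
k-morphism from an integral scheme of dimension two with all local rings regular, itself admitting a
closed immersion into some projective space over k, restricting to an isomorphism over U; let μ_1,
…, μ_s be distinct integral one-dimensional closed subschemes of Y, each mapped to a point, such
that every integral one-dimensional closed subscheme of Y mapped to a point has the support of one
of them. Let D be an effective Cartier divisor on X (an ideal sheaf I_D locally generated by one
nonzerodivisor) and D̃ an effective Cartier divisor on Y whose support contains no μ_j and whose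
ideal agrees with the inverse-image ideal φ⁻¹I_D · O_Y on every affine open contained in φ⁻¹(U) —
the strict transform of D. Then there are natural numbers γ_1, …, γ_s such that φ⁻¹I_D · O_Y =
I_{D̃} · ∏_j I_{μ_j}^{γ_j} (the total transform is the strict transform plus Σ γ_j μ_j) and Σ_j (μ_i
· μ_j) γ_j = -(D̃ · μ_i) for every i (the total transform meets every μ_i with intersection number
zero), where (A · B) = χ(O_Y) - χ(I_A) - χ(I_B) + χ(I_A ⊗ I_B) (packaged as FGA.intNum). (The
published statement writes the coefficient vector as γ = -d⁻¹ (D̃ · μ), with d = (μ_i · μ_j), for a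
locally principal divisor on a normal surface and a resolution that is an isomorphism exactly off
the singular points with exceptional fibres of pure dimension one; this row states the linear system
d γ = -(D̃ · μ), for effective Cartier divisors, any resolution that is an isomorphism over an open
subset with finite complement, and X not assumed normal.) -/
theorem result (k : Type u) [Field k] [IsAlgClosed k] (X : Scheme.{u}) [X.Over (Spec (CommRingCat.of k))]
    [IsIntegral X] (hdim : topologicalKrullDim X = 2)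
    (hproj : ∃ (n : ℕ) (ι : X ⟶ CohB1.ProjSpace n k), IsClosedImmersion ι ∧ ι ≫ CohB1.ProjSpace.toSpec n k = (X ↘ (Spec (CommRingCat.of k))))
    (U : X.Opens) (hU : ((U : Set X)ᶜ).Finite)
    (Y : Scheme.{u}) (φ : Y ⟶ X) [IsIntegral Y] (hdimY : topologicalKrullDim Y = 2)
    (hregY : ∀ y : Y, IsRegularLocalRing (Y.presheaf.stalk y))
    (hprojY : ∃ (n : ℕ) (ι : Y ⟶ CohB1.ProjSpace n k), IsClosedImmersion ι ∧ ι ≫ CohB1.ProjSpace.toSpec n k = φ ≫ (X ↘ (Spec (CommRingCat.of k))))
    (hiso : IsIso (φ ∣_ U))
    (s : ℕ) (μ : Fin s → Y.IdealSheafData) (hμint : ∀ j, IsIntegral (μ j).subscheme)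
    (hμdim : ∀ j, topologicalKrullDim ((μ j).support : Set Y) = 1)
    (hμpt : ∀ j, ∃ x : X, φ.base '' ((μ j).support : Set Y) = {x})
    (hμinj : Function.Injective fun j => ((μ j).support : Set Y))
    (hμall : ∀ E : Y.IdealSheafData, IsIntegral E.subscheme → topologicalKrullDim (E.support : Set Y) = 1 →
      (∃ x : X, φ.base '' (E.support : Set Y) = {x}) → ∃ j, (E.support : Set Y) = (μ j).support)
    (D : X.IdealSheafData) (hD : FGA.IsEffCartier D) (Dt : Y.IdealSheafData) (hDt : FGA.IsEffCartier Dt)
    (hDtexc : ∀ j, ¬ ((μ j).support : Set Y) ⊆ Dt.support)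
    (hDtU : ∀ W : Y.affineOpens, (W : Y.Opens) ≤ φ ⁻¹ᵁ U → Dt.ideal W = (D.comap φ).ideal W) :
    letI : Y.Over (Spec (CommRingCat.of k)) := ⟨φ ≫ (X ↘ (Spec (CommRingCat.of k)))⟩
    ∃ γ : Fin s → ℕ, D.comap φ = Dt * ∏ j : Fin s, μ j ^ γ j ∧
      ∀ i : Fin s, (∑ j : Fin s, FGA.intNum k Y 2 ![ClSub.idealMod (μ i), ClSub.idealMod (μ j)] (Coh.structureModule Y) * (γ j : ℤ)) =
        - FGA.intNum k Y 2 ![ClSub.idealMod Dt, ClSub.idealMod (μ i)] (Coh.structureModule Y) := by
  obtain ⟨nX, ιX, hιX, hιXf⟩ := hproj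
  haveI := hιX
  haveI : IsProper (CohB1.ProjSpace.toSpec nX k) := GrothLib.Chow.isProper_toSpec nX k
  haveI : IsProper (X ↘ Spec (CommRingCat.of k)) := by rw [← hιXf]; infer_instance
  letI : Y.Over (Spec (CommRingCat.of k)) := ⟨φ ≫ (X ↘ (Spec (CommRingCat.of k)))⟩
  obtain ⟨nY, ιY, hιY, hιYf⟩ := hprojY
  haveI := hιY
  haveI : IsProper (CohB1.ProjSpace.toSpec nY k) := GrothLib.Chow.isProper_toSpec nY k
  haveI : IsProper (Y ↘ Spec (CommRingCat.of k)) := by
    show IsProper (φ ≫ _)
    rw [← hιYf]; infer_instance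
  haveI := GrothLib.Euler.isNoetherian_of_proper (X := Y) k
  haveI : Smooth (Y ↘ Spec (CommRingCat.of k)) := GrothLib.Adj27.smooth_of_regular _ hregY
  have hd2 : topologicalKrullDim Y = ((2 : ℕ) : WithBot ℕ∞) := by exact_mod_cast hdimY
  haveI := hiso
  obtain ⟨v, hv⟩ : ∃ v, v ∈ U := by
    by_contra hne
    push Not at hne
    have hfin : (Set.univ : Set X).Finite := hU.subset fun x _ => hne x
    haveI : Subsingleton X := ⟨fun a b => by
      have hη := GrothLib.SurfRR28.isClosed_singleton_of_finite k isClosed_univ hfin (Set.mem_univ (genericPoint X))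
      have h : ({genericPoint X} : Set X) = Set.univ := hη.closure_eq.symm.trans (genericPoint_spec X)
      exact (h.ge (Set.mem_univ a)).trans (h.ge (Set.mem_univ b)).symm⟩
    have h2 : topologicalKrullDim X ≤ 0 := by
      haveI : Subsingleton (TopologicalSpace.IrreducibleCloseds X) :=
        ⟨fun A B => TopologicalSpace.IrreducibleCloseds.ext (by
          show (A.carrier : Set _) = B.carrier
          rw [A.2.1.eq_univ, B.2.1.eq_univ])⟩
      exact Order.krullDim_nonpos_of_subsingleton
    rw [hdim] at h2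
    norm_num at h2
  have hη := GrothLib.PlaneBlow28.genericPoint_map φ U hv
  haveI := hμint
  have hinj : Function.Injective μ := fun a b h => hμinj (congrArg (fun I : Y.IdealSheafData => (I.support : Set Y)) h)
  have hinv : ∀ j, PicF.IsInvertible (ClSub.idealMod (μ j)) := fun j =>
    GrothLib.HodgeIndex.inv_curve k hd2 (hμint j) (hμdim j)
  have hμC : ∀ j, _root_.BlowUp.IsEffCartierIdeal (μ j) := fun j =>
    GrothLib.IdealModSec.isEffCartier_of_isInvertible (hinv j)
  have hDC : _root_.BlowUp.IsEffCartierIdeal D := hD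
  have hDtC : _root_.BlowUp.IsEffCartierIdeal Dt := hDt
  have htop := GrothLib.PlaneBlow28.isTop_iff k (Y ↘ Spec (CommRingCat.of k)) hd2
  have hgpt : ∀ j, ringKrullDim (Y.presheaf.stalk (GrothLib.DivPart.gpt (μ j))) = 1 := fun j =>
    (htop _).1 (GrothLib.HodgeIndex.isTop_of_curve k (hμdim j))
  have hcodim : ∀ y : Y, ringKrullDim (Y.presheaf.stalk y) = 1 → φ y ∈ U ∨ ∃ j, y = GrothLib.DivPart.gpt (μ j) := by
    intro y hy
    by_cases hyU : φ y ∈ U
    · exact Or.inl hyU
    obtain ⟨hi, hg, hs⟩ := GrothLib.PlaneBlow28.gpt_curveIdeal y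
    have hcl : IsClosed ({φ y} : Set X) :=
      GrothLib.SurfRR28.isClosed_singleton_of_finite k U.2.isClosed_compl hU hyU
    have him : φ.base '' ((GrothLib.HodgeIndex.curveIdeal y).support : Set Y) = {φ y} := by
      rw [hs]
      refine Set.Subset.antisymm ?_ (by rintro _ rfl; exact ⟨y, subset_closure rfl, rfl⟩)
      have h := image_closure_subset_closure_image φ.continuous (s := ({y} : Set Y))
      rw [Set.image_singleton, hcl.closure_eq] at h
      exact h
    obtain ⟨j, hj⟩ := hμall _ hi (by rw [hs]; exact_mod_cast (htop y).2 hy) ⟨_, him⟩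
    right
    refine ⟨j, ?_⟩
    rw [hs] at hj
    have h1 : GrothLib.DivPart.gpt (μ j) ⤳ y :=
      GrothLib.DivPart.gpt_specializes_iff.2 (hj.le (subset_closure rfl))
    have h2 : y ⤳ GrothLib.DivPart.gpt (μ j) :=
      specializes_iff_mem_closure.2 (hj.ge GrothLib.DivPart.gpt_mem_support)
    exact (h2.antisymm h1).eq
  have hexc : ∀ j, GrothLib.DivPart.gpt (μ j) ∉ Dt.support := fun j h => hDtexc j fun z hz =>
    (GrothLib.DivPart.gpt_specializes_iff.2 hz).mem_closed Dt.support.isClosed h
  have hstU : ∀ y, φ y ∈ U → GrothLib.CartierDescent.stalkIdeal Dt y =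
      GrothLib.CartierDescent.stalkIdeal (D.comap φ) y := fun y hy => by
    obtain ⟨W, hyW, hW⟩ := GrothLib.BlowUp.exists_affine_mem_le (W := φ ⁻¹ᵁ U) (x := y) hy
    rw [GrothLib.CartierDescent.stalkIdeal_eq Dt W hyW, GrothLib.CartierDescent.stalkIdeal_eq (D.comap φ) W hyW,
      hDtU W hW]
  obtain ⟨γ, hγ⟩ := GrothLib.PlaneBlow28.exists_decomp hregY φ hη U μ hμC hinj hgpt hcodim hDC hDtC hexc hstU
  refine ⟨γ, hγ, fun i => ?_⟩
  have hle : topologicalKrullDim Y ≤ ((2 : ℕ) : WithBot ℕ∞) := le_of_eq hd2
  have hDi := GrothLib.IdealModSec.isInvertible_of_isEffCartier hDC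
  have hDti := GrothLib.IdealModSec.isInvertible_of_isEffCartier hDtC
  have hJi : PicF.IsInvertible (ClSub.idealMod (D.comap φ)) := GrothLib.IdealModSec.isInvertible_of_isEffCartier
    (GrothLib.RatSing29.isEffCartierIdeal_comap_of_generic φ hη hDC)
  obtain ⟨hPi, ePi⟩ := GrothLib.ArSurf29.cls_idealMod_prod Finset.univ (fun j => μ j ^ γ j)
    fun j => (GrothLib.ArSurf29.cls_idealMod_pow (hμC j) (γ j)).choose
  have hcls : GrothLib.Cube.clsMod hJi = GrothLib.Cube.clsMod hDti * ∏ j, GrothLib.Cube.clsMod (hinv j) ^ γ j := by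
    have hm : PicF.IsInvertible (ClSub.idealMod (Dt * ∏ j, μ j ^ γ j)) := hγ ▸ hJi
    rw [GrothLib.ArSurf29.cls_idealMod_congr hγ hJi hm, GrothLib.HodgeIndex.cls_idealMod_mul hm hDti hPi, ePi]
    congr 1
    exact Finset.prod_congr rfl fun j _ => (GrothLib.ArSurf29.cls_idealMod_pow (hμC j) (γ j)).choose_spec
  obtain ⟨p, hp⟩ := hμpt i
  have h0 := GrothLib.PlaneBlow28.isect_pull_contracted k hd2 φ rfl (hμint i) (hμdim i) hp
    (GrothLib.Cube.clsMod hDi) (hinv i)
  rw [GrothLib.Contract29.pull_cls_comap φ D hDi hJi, hcls, GrothLib.HodgeIndex.isect_mul_left k hle,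
    GrothLib.PlaneBlow28.isect_prod_left k hle] at h0
  simp only [GrothLib.HodgeIndex.isect_pow_left k hle] at h0
  have e : ∀ {A B : Y.IdealSheafData} (hA : PicF.IsInvertible (ClSub.idealMod A))
      (hB : PicF.IsInvertible (ClSub.idealMod B)),
      FGA.intNum k Y 2 ![ClSub.idealMod A, ClSub.idealMod B] (Coh.structureModule Y) =
        GrothLib.HodgeIndex.isect k (GrothLib.Cube.clsMod hA) (GrothLib.Cube.clsMod hB) := fun hA hB =>
    GrothLib.SurfRR28.intNum_eq_isect' k hle hA hB
  rw [e hDti (hinv i), Finset.sum_congr rfl fun j _ => by rw [e (hinv i) (hinv j),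
    GrothLib.HodgeIndex.isect_comm k (GrothLib.Cube.clsMod (hinv i)), mul_comm]]
  linarith

end Groth.Agent.S14703
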