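import Groth.Statements.S3858
import Groth.Agent.Lib.FSchSys.Levels
-- import your own Groth.Agent.* helpers here

set_option autoImplicit false
universe u
open FCompl

namespace Groth.Agent.S3858

open CategoryTheory CategoryTheory.Limits AlgebraicGeometry

open AlgebraicGeometry in
/-- Formal schemes are presented as systems of thickenings (X_n)_n and fibre products of systems are
taken levelwise. Let X → S be an adic morphism of systems (every square X_n → X_(n+1), S_n → S_(n+1)
is cartesian) whose level-0 morphism X_0 → S_0 is locally of finite type, and S' → S a morphism from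
a locally Noetherian adic formal system S'. Then the levelwise fibre product (X_n ×_(S_n) S'_n)_n is
a locally Noetherian adic formal system, its projection to S' is adic, and the level-0 projection
X_0 ×_(S_0) S'_0 → S'_0 is locally of finite type. The published statement concerns the fibre
product of formal schemes, which the levelwise fibre product presents because X is adic over S, and
also assumes X and S locally Noetherian, which is not assumed here. -/
theorem result {𝔛 𝔖 𝔖' : FSch.Sys.{u}} (f : 𝔛 ⟶ 𝔖) (g : 𝔖' ⟶ 𝔖)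
    (h𝔖' : 𝔖'.IsLocNoethFormal) (hf : FSch.IsAdicHom f) [LocallyOfFiniteType ((f : FSch.Hom 𝔛 𝔖).app 0)] :
    (FSch.pullbackSys f g).IsLocNoethFormal ∧ FSch.IsAdicHom (FSch.pullbackSnd f g) ∧
      LocallyOfFiniteType ((FSch.pullbackSnd f g : FSch.Hom _ _).app 0) := by
  have hsnd : FSch.IsAdicHom (FSch.pullbackSnd f g) := fun n => by
    have e0 : IsPullback (pullback.fst ((f : FSch.Hom 𝔛 𝔖).app n) ((g : FSch.Hom 𝔖' 𝔖).app n) ≫ 𝔛.ι n)
        (pullback.snd _ _) ((f : FSch.Hom 𝔛 𝔖).app (n + 1))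
        (𝔖'.ι n ≫ (g : FSch.Hom 𝔖' 𝔖).app (n + 1)) := by
      rw [← (g : FSch.Hom 𝔖' 𝔖).comm n]
      exact (IsPullback.of_hasPullback _ _).paste_horiz (hf n)
    refine IsPullback.of_right (h₁₂ := pullback.fst ((f : FSch.Hom 𝔛 𝔖).app (n + 1)) ((g : FSch.Hom 𝔖' 𝔖).app (n + 1))) ?_ ?_
      (IsPullback.of_hasPullback ((f : FSch.Hom 𝔛 𝔖).app (n + 1)) ((g : FSch.Hom 𝔖' 𝔖).app (n + 1)))
    · have e1 : pullback.fst ((f : FSch.Hom 𝔛 𝔖).app n) ((g : FSch.Hom 𝔖' 𝔖).app n) ≫ 𝔛.ι n =
          (FSch.pullbackSys f g).ι n ≫ pullback.fst ((f : FSch.Hom 𝔛 𝔖).app (n + 1))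
            ((g : FSch.Hom 𝔖' 𝔖).app (n + 1)) := (FSch.pullbackFst f g : FSch.Hom _ _).comm n
      exact (congrArg (fun t => IsPullback t _ _ _) e1).mp e0
    · exact ((FSch.pullbackSnd f g : FSch.Hom _ _).comm n).symm
  have : LocallyOfFiniteType ((FSch.pullbackSnd f g : FSch.Hom _ _).app 0) :=
    MorphismProperty.pullback_snd (P := @LocallyOfFiniteType) _ _ ‹_›
  have := h𝔖'.2.2 0
  have := LocallyOfFiniteType.isLocallyNoetherian ((FSch.pullbackSnd f g : FSch.Hom _ _).app 0)
  exact ⟨GrothLib.FSchSys.isLocNoethFormal_of_isAdicHom _ h𝔖' hsnd, hsnd, ‹_›⟩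

end Groth.Agent.S3858
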