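import Groth.Statements.S14704
import Groth.Agent.Lib.FClosedBC7.Formal
import Groth.Agent.Lib.FClosedBC7.Level
import Groth.Agent.S3858

set_option autoImplicit false
set_option linter.style.haveILetI false
open CategoryTheory
universe u
open FCompl

namespace Groth.Agent.S14704

/-- Let 𝔖, 𝔛, 𝔜 be locally Noetherian formal schemes, presented as adic systems of locally Noetherian
thickenings with a common underlying space, let f : 𝔛 ⟶ 𝔖 be a closed immersion (adic, with a closed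
immersion at level 0) and g : 𝔜 ⟶ 𝔖 any morphism, and let p, q be the two projections of the
levelwise fibre product 𝔛 ×_𝔖 𝔜, assumed to be again a locally Noetherian formal scheme (which
holds, f being of finite type). Then for every coherent O_𝔛-module 𝔉 the base-change morphism u :
g^*(f_* 𝔉) ⟶ q_*(p^* 𝔉), whose adjunct f_* 𝔉 ⟶ g_* q_* p^* 𝔉 = f_* p_* p^* 𝔉 is f_* of the unit 𝔉 ⟶
p_* p^* 𝔉, is an isomorphism. -/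
theorem result (𝔖 𝔛 𝔜 : FSch.Sys.{u})
    (h𝔖 : 𝔖.IsLocNoethFormal) (h𝔛 : 𝔛.IsLocNoethFormal) (h𝔜 : 𝔜.IsLocNoethFormal)
    (f : 𝔛 ⟶ 𝔖) (g : 𝔜 ⟶ 𝔖) (hf : FSch.IsClosedImmHom f)
    (hZ : (FSch.pullbackSys f g).IsLocNoethFormal)
    (𝔉 : FSch.ModF 𝔛 h𝔛.1) (h𝔉 : FSch.IsCohF 𝔛 h𝔛.1 𝔉) :
    IsIso (FSch.bcMapF (FSch.pullbackFst f g) f (FSch.pullbackSnd f g) g (FSch.pullbackSys_condition f g)
      hZ.1 h𝔛.1 h𝔜.1 h𝔖.1 𝔉) := by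
  haveI : AlgebraicGeometry.IsClosedImmersion ((f : FSch.Hom 𝔛 𝔖).app 0) := hf.2
  haveI : AlgebraicGeometry.IsClosedImmersion ((FSch.pullbackSnd f g : FSch.Hom _ _).app 0) :=
    MorphismProperty.pullback_snd (P := @AlgebraicGeometry.IsClosedImmersion) _ _ hf.2
  have hq : FSch.IsClosedImmHom (FSch.pullbackSnd f g) :=
    ⟨(Groth.Agent.S3858.result f g h𝔜 hf.1).2.1, inferInstance⟩
  let p := FSch.pullbackFst f g
  let q := FSch.pullbackSnd f g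
  haveI : FSch.IsCohF 𝔛 h𝔛.1 𝔉 := h𝔉
  haveI : FSch.IsCohF 𝔖 h𝔖.1 ((FSch.pushF f h𝔛.1 h𝔖.1).obj 𝔉) :=
    GrothLib.FClosedBC7.isCohF_push f h𝔛 h𝔖 hf 𝔉
  haveI hp : FSch.IsCohF (FSch.pullbackSys f g) hZ.1 ((FSch.pullF p hZ.1 h𝔛.1).obj 𝔉) :=
    GrothLib.FClosedBC7.isCohF_pullF' p hZ.1 h𝔛.1 𝔉 h𝔉
  haveI : FSch.IsCohF 𝔜 h𝔜.1 ((FSch.pullF g h𝔜.1 h𝔖.1).obj ((FSch.pushF f h𝔛.1 h𝔖.1).obj 𝔉)) :=
    GrothLib.FClosedBC7.isCohF_pullF' g h𝔜.1 h𝔖.1 _ inferInstance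
  haveI : FSch.IsCohF 𝔜 h𝔜.1 ((FSch.pushF q hZ.1 h𝔜.1).obj ((FSch.pullF p hZ.1 h𝔛.1).obj 𝔉)) :=
    GrothLib.FClosedBC7.isCohF_push q hZ h𝔜 hq _
  haveI : ∀ k, IsIso ((FSch.levelMor 𝔜 h𝔜.1 k).pull.map (FSch.bcMapF p f q g (FSch.pullbackSys_condition f g)
      hZ.1 h𝔛.1 h𝔜.1 h𝔖.1 𝔉)) := fun k => by
    have w := FSch.pullbackSys_condition f g
    have e := GrothLib.FClosedBC7.bcMap_paste
      (FSch.Hom.sharp_sq p f q g w hZ.1 h𝔛.1 h𝔜.1 h𝔖.1)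
      (ModSite.RMor.sharpSq_ofScheme _ _ _ _ (FSch.Hom.sq_app p f q g w k))
      (FSch.lvSharp_sq p hZ.1 h𝔛.1 k) (FSch.lvSharp_sq f h𝔛.1 h𝔖.1 k)
      (FSch.lvSharp_sq q hZ.1 h𝔜.1 k) (FSch.lvSharp_sq g h𝔜.1 h𝔖.1 k) 𝔉
    have hb1 := GrothLib.FClosedBC7.isIso_lvBcMap f h𝔛 h𝔖 hf 𝔉 k
    have hb2 := GrothLib.FClosedBC7.isIso_lvBcMap q hZ h𝔜 hq ((FSch.pullF p hZ.1 h𝔛.1).obj 𝔉) k
    haveI := GrothLib.FClosedBC7.isAffineHom_level f h𝔛 h𝔖 hf k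
    haveI : ((GrothLib.FMod7.pullSys h𝔛.1 𝔉).F k).IsQuasicoherent :=
      (GrothLib.FMod7.isCoh_pullSys (F := 𝔉) k).1
    have hb3 := GrothLib.FClosedBC7.isIso_bcMap_sch
      (IsPullback.of_hasPullback ((f : FSch.Hom 𝔛 𝔖).app k) ((g : FSch.Hom 𝔜 𝔖).app k))
      ((GrothLib.FMod7.pullSys h𝔛.1 𝔉).F k)
    exact GrothLib.FClosedBC7.isIso_left e hb2 inferInstance inferInstance
      (@Functor.map_isIso _ _ _ _ _ _ (ModSite.RMor.ofScheme ((g : FSch.Hom 𝔜 𝔖).app k)).pull _ hb1) hb3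
  exact GrothLib.FMod7.isIso_of_isIso_pull h𝔜 _

end Groth.Agent.S14704
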