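import Groth.Statements.S14709
import Groth.Agent.Lib.BigPullFun.Basic

set_option autoImplicit false
universe u
open HRes

namespace Groth.Agent.S14709

open CategoryTheory AlgebraicGeometry in
/-- Let g : T' ⟶ T and f : T ⟶ S be morphisms of schemes, K a precoverage on schemes with its big sites,
F an abelian sheaf on the big site of S and n ≥ 0. For every x ∈ H^n(S, F), the restriction of x
along g ≫ f is the restriction of x along f, restricted further along g, and then carried along the
map induced on cohomology by the canonical isomorphism g⁻¹(f⁻¹ F) ≅ (g ≫ f)⁻¹ F; this is the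
composition law of the presheaf U ↦ H^n(U, F) given by the restriction maps. The statement is
asserted for every precoverage K; it has no hypothesis depending on K. -/
theorem result (K : Precoverage Scheme.{u}) {S T T' : Scheme.{u}}
    (f : T ⟶ S) (g : T' ⟶ T) (F : BigSite.Ab K S) (n : ℕ) (x : BigSite.H K S F n) :
    HRes.pull K (g ≫ f) F n x =
      Sheaf.H.map ((K.toGrothendieck.overMapPullbackComp AddCommGrpCat.{u + 1} g f).hom.app F) n
        (HRes.pull K g ((BigSite.pullBig K f AddCommGrpCat.{u + 1}).obj F) n (HRes.pull K f F n x)) := by
  exact GrothLib.BigPullFun.pull_comp f g F n x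

end Groth.Agent.S14709
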