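import Groth.Statements.S1471
import Groth.Agent.Lib.FibreFlat.Stalk
-- import your own Groth.Agent.* helpers here

set_option autoImplicit false
universe u
open FlatMor

namespace Groth.Agent.S1471

open AlgebraicGeometry CategoryTheory Limits in
/-- Let f : X → Y and η a generic point of an irreducible component of Y. Then the fibre over η of the
composite X_red → X → Y is reduced; since it is a closed subscheme of X_η with the same underlying
set, this says (X_η)_red = (X_red)_η. -/
theorem result {X Y : Scheme.{u}} (f : X ⟶ Y) (η : Y) (W : Set ↑Y) (hW : W ∈ irreducibleComponents ↑Y) (hη : IsGenericPoint η W) :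
    IsReduced ((X.nilradical.subschemeι ≫ f).fiber η) := by
    set g := X.nilradical.subschemeι ≫ f
    haveI hred : AlgebraicGeometry.IsReduced X.nilradical.subscheme := by
      haveI : ∀ i, AlgebraicGeometry.IsReduced (X.nilradical.subschemeCover.openCover.X i) := fun U => by
        haveI : _root_.IsReduced (CommRingCat.of (Γ(X, U.1) ⧸ X.nilradical.ideal U)) := by
          refine (Ideal.isRadical_iff_quotient_reduced _).mp ?_
          rw [← Scheme.IdealSheafData.radical_bot]
          exact Ideal.radical_isRadical _
        exact inferInstanceAs (AlgebraicGeometry.IsReduced (Spec (CommRingCat.of (Γ(X, U.1) ⧸ X.nilradical.ideal U))))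
      exact AlgebraicGeometry.IsReduced.of_openCover _ X.nilradical.subschemeCover.openCover
    have hnil : ∀ y : Y, y = η → ∀ a ∈ IsLocalRing.maximalIdeal (Y.presheaf.stalk y), IsNilpotent a := by
      rintro y rfl a ha
      rw [← mem_nilradical, nilradical_eq_sInf, Submodule.mem_sInf]
      intro P hP
      let p : Spec (Y.presheaf.stalk y) := ⟨P, hP⟩
      have h1 : Y.fromSpecStalk y p ⤳ y := by
        have : Y.fromSpecStalk y p ∈ Set.range (Y.fromSpecStalk y) := ⟨p, rfl⟩
        rwa [Scheme.range_fromSpecStalk] at this
      have h2 : closure {Y.fromSpecStalk y p} = W := by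
        refine Set.Subset.antisymm ?_ ?_
        · exact hW.2 isIrreducible_singleton.closure (hη.def ▸ closure_minimal
            (Set.singleton_subset_iff.mpr h1.mem_closure) isClosed_closure)
        · rw [← hη.def]
          exact closure_minimal (Set.singleton_subset_iff.mpr h1.mem_closure) isClosed_closure
      have h3 : p = IsLocalRing.closedPoint _ := by
        apply (Y.fromSpecStalk y).isEmbedding.injective
        rw [Scheme.fromSpecStalk_closedPoint]
        exact (show IsGenericPoint _ W from h2).eq hη
      have h4 : P = IsLocalRing.maximalIdeal _ := congrArg PrimeSpectrum.asIdeal h3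
      rw [h4]; exact ha
    haveI : ∀ z : g.fiber η, _root_.IsReduced ((g.fiber η).presheaf.stalk z) := fun z => by
      obtain ⟨hs, hk⟩ := GrothLib.FibreFlat.fiberι_stalkMap g η z
      have hker : RingHom.ker ((g.fiberι η).stalkMap z).hom = ⊥ := by
        rw [hk, Ideal.map_eq_bot_iff_le_ker]
        intro a ha
        exact ((hnil _ (GrothLib.FibreFlat.fiberι_comp_apply g η z) a ha).map _).eq_zero
      let e := RingEquiv.ofBijective _
        (⟨(RingHom.injective_iff_ker_eq_bot _).mpr hker, hs⟩ : Function.Bijective ((g.fiberι η).stalkMap z).hom)
      exact isReduced_of_injective e.symm.toRingHom e.symm.injective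
    exact isReduced_of_isReduced_stalk _

end Groth.Agent.S1471
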