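import Groth.Statements.S14710
import Groth.Agent.Lib.FCat7.PullReal
import Groth.Agent.S3854
import Groth.Agent.Lib.FMod7.Algz

set_option autoImplicit false
open CategoryTheory CategoryTheory.Limits AlgebraicGeometry
universe u
open FCompl

namespace Groth.Agent.S14710

/-- Let f : X ⟶ Y be a morphism of locally Noetherian schemes, 𝓚 an ideal of O_X and 𝓘 an ideal of O_Y
such that every power of 𝓘 pulls back into the same power of 𝓚 (so f maps V(𝓚) into V(𝓘)), X̂ and Ŷ
the completions of X and Y along 𝓚 and 𝓘, f̂ : X̂ ⟶ Ŷ the extension of f, u_k : X_k ⟶ X̂ and v_k :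
Y_k ⟶ Ŷ the canonical morphisms from the levels, and G a coherent O_Y-module, with completion
G_{/Y'} = lim_k (v_k)_* (G|_{Y_k}). Then f̂^*(G_{/Y'}) is canonically isomorphic to lim_k (u_k)_*
f_k^*(G|_{Y_k}), the module of the levelwise inverse-image system (whose levels f_k^*(G|_{Y_k}) =
(f^* G)|_{X_k} are those of the completion of f^* G). The isomorphism e is pinned: its adjunct
G_{/Y'} ⟶ f̂_* lim_k (u_k)_* f_k^*(G|_{Y_k}), followed by f̂_* of the k-th projection and the
identification f̂_* (u_k)_* = (v_k)_* (f_k)_*, is the k-th projection of G_{/Y'} followed by (v_k)_*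
of the unit G|_{Y_k} ⟶ (f_k)_* f_k^*(G|_{Y_k}), for every k. -/
theorem result (X Y : Scheme.{u}) [IsLocallyNoetherian X]
    [IsLocallyNoetherian Y] (f : X ⟶ Y) (𝓚 : X.IdealSheafData) (𝓘 : Y.IdealSheafData)
    (hpc : FSch.PowCompat f 𝓚 𝓘) (hX : (FSch.completionAlong X 𝓚).IsFormal) (hY : (FSch.completionAlong Y 𝓘).IsFormal)
    (G : Y.Modules) (hG : Coh.IsCoh G) :
    ∃ e : (FSch.pullF (FSch.completionMap f 𝓚 𝓘 hpc) hX hY).obj ((FSch.complMod 𝓘 G).realMod hY) ≅
        (FSch.ModSys.pullback (FSch.completionMap f 𝓚 𝓘 hpc) (FSch.complMod 𝓘 G)).realMod hX,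
      ∀ k : ℕ, (FSch.homMor (FSch.completionMap f 𝓚 𝓘 hpc) hX hY).adj.homEquiv _ _ e.hom ≫
          (FSch.pushF (FSch.completionMap f 𝓚 𝓘 hpc) hX hY).map
            (FSch.realProj (FSch.completionAlong X 𝓚) hX _ _ k) ≫
          (FSch.lvPushSq (FSch.completionMap f 𝓚 𝓘 hpc) hX hY k).hom.app
            ((FSch.ModSys.pullback (FSch.completionMap f 𝓚 𝓘 hpc) (FSch.complMod 𝓘 G)).F k) =
        FSch.realProj (FSch.completionAlong Y 𝓘) hY _ _ k ≫
          (FSch.levelMor (FSch.completionAlong Y 𝓘) hY k).push.map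
            ((ModSite.RMor.ofScheme ((FSch.completionMap f 𝓚 𝓘 hpc : FSch.Hom _ _).app k)).adj.unit.app
              ((FSch.complMod 𝓘 G).F k)) := by
  exact GrothLib.FCat7.exists_pullF_realMod_iso (FSch.completionMap f 𝓚 𝓘 hpc) hX hY (FSch.complMod 𝓘 G)
    (Groth.Agent.S3854.result X 𝓚) (Groth.Agent.S3854.result Y 𝓘) (GrothLib.FMod7.isCoh_complMod hG)

end Groth.Agent.S14710
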