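import Groth.Statements.S14718
import Groth.Agent.Lib.LinTot3.Total
import Groth.Agent.Lib.Contract29.AmpleCover
import Groth.Agent.Lib.GITQuot.Orbit

set_option autoImplicit false
universe u
open CategoryTheory MonoidalCategory CartesianMonoidalCategory MonObj GrpObj AlgebraicGeometry Topology
open GIT

namespace Groth.Agent.S14718

open GrothLib.LinTot3 CategoryTheory.Limits Opposite

theorem exists_ratios {Y : Scheme.{u}} (M : Y.Modules) (hM : CohB1.IsAmple M) :
    Nonempty (Ratios Y) := by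
  classical
  obtain ⟨K, hK, hcov⟩ := GrothLib.Contract29.exists_ample_cover hM
  obtain ⟨r, σ, W, hW, hsup, hgen⟩ := hcov 1 one_pos _ (GrothLib.Ample.isInvertible_tensorPow hM.1 (K * 1))
    (GrothLib.Cube.clsMod_tensorPow hM.1 (K * 1))
  have hσ : ∀ t, GrothLib.InvExt.IsGen _ (W t) (GrothLib.InvExt.mres _ (le_top : W t ≤ ⊤) (σ t)) :=
    fun t => (hgen t (W t)).2 le_rfl
  choose h hh using fun l m : Fin r => (hσ l).exists_smul_eq le_rfl
    (GrothLib.InvExt.mres _ (le_top : W l ≤ ⊤) (σ m))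
  have hres : ∀ (l m : Fin r) (V : Y.Opens) (hV : V ≤ W l),
      GrothLib.InvExt.mres _ (le_top : V ≤ ⊤) (σ m) =
        rr hV (h l m) • GrothLib.InvExt.mres _ (le_top : V ≤ ⊤) (σ l) := by
    intro l m V hV
    have e := congrArg (GrothLib.InvExt.mres _ hV) (hh l m)
    rw [GrothLib.InvExt.mres_smul, GrothLib.InvExt.mres_mres, GrothLib.InvExt.mres_mres,
      GrothLib.InvExt.mres_mres] at e
    exact e
  refine ⟨⟨ULift.{u} (Fin r), inferInstance, fun l => W l.down, fun l => hW l.down, ?_,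
    fun l m => h l.down m.down, ?_, ?_, ?_⟩⟩
  · exact le_antisymm le_top (hsup.ge.trans (iSup_le fun t =>
      le_iSup (fun l : ULift.{u} (Fin r) => W l.down) ⟨t⟩))
  · intro l
    refine (hσ l.down).smul_left_injective le_rfl ?_
    rw [one_smul]
    exact (hh l.down l.down).symm.trans (GrothLib.InvExt.mres_self _ _).symm
  · intro l m s V hl hm
    refine (hσ l.down).smul_left_injective hl ?_
    rw [GrothLib.InvExt.mres_mres, ← hres l.down s.down V hl, hres m.down s.down V hm,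
      hres l.down m.down V hl, smul_smul, mul_comm (rr hm _)]
  · intro l m
    have hle := Y.basicOpen_le (h l.down m.down)
    refine (hgen m.down _).1 ?_
    rw [hres l.down m.down _ hle]
    refine GrothLib.InvExt.IsGen.smul_unit ?_ ?_
    · exact (hgen l.down _).2 hle
    · exact RingedSpace.isUnit_res_basicOpen _ _

section

variable {S : Scheme.{u}} {G X Y : Over S} [GrpObj G]

/-- The total space over `S`. -/
noncomputable abbrev Vo {D : Ratios Y.left} {φ : X ⟶ Y} (P : Total D φ.left) : Over S := Over.mk (P.π ≫ X.hom)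

/-- Its target over `S`. -/
noncomputable abbrev Zo {D : Ratios Y.left} {φ : X ⟶ Y} (P : Total D φ.left) : Over S :=
  Over.mk (P.z ≫ AffineSpace D.ι Y.left ↘ Y.left ≫ Y.hom)

/-- The projection. -/
noncomputable abbrev pi {D : Ratios Y.left} {φ : X ⟶ Y} (P : Total D φ.left) : Vo P ⟶ X := Over.homMk P.π rfl

/-- The second projection. -/
noncomputable abbrev qq {D : Ratios Y.left} {φ : X ⟶ Y} (P : Total D φ.left) : Vo P ⟶ Zo P :=
  Over.homMk P.q (by
    show P.q ≫ P.z ≫ AffineSpace D.ι Y.left ↘ Y.left ≫ Y.hom = P.π ≫ X.hom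
    have h := congrArg (· ≫ Y.hom) P.comm
    simp only [Category.assoc] at h
    rw [h, Over.w φ])

theorem exists_linBun (a : AlgGrp.Action G X) (φ : X ⟶ Y) (hφ : GIT.IsInvariant a φ) [IsAffineHom φ.left]
    (D : Ratios Y.left) :
    ∃ B : GLinSh.LinBun G a, ∀ x : X.left, ∃ (f : Γ(B.V.left, ⊤)) (U : X.left.Opens),
      B.IsInvSection 1 f ∧ x ∈ GLinSh.nonvanishing B.π f ∧
        (U : Set X.left) = GLinSh.nonvanishing B.π f ∧ IsAffineOpen U := by
  obtain ⟨P⟩ := nonempty_total D φ.left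
  have extO : ∀ {W : Over S} (g g' : W ⟶ Vo P), g ≫ pi P = g' ≫ pi P → g ≫ qq P = g' ≫ qq P → g = g' :=
    fun g g' h₁ h₂ => Over.OverMorphism.ext
      (P.hom_ext _ _ (congrArg CommaMorphism.left h₁) (congrArg CommaMorphism.left h₂))
  have hover : (snd G (Vo P) ≫ qq P).left ≫ P.z ≫ AffineSpace D.ι Y.left ↘ Y.left =
      ((G ◁ pi P) ≫ a.act).left ≫ φ.left := by
    have h1 : ((G ◁ pi P) ≫ a.act) ≫ φ = snd G (Vo P) ≫ pi P ≫ φ := by
      rw [Category.assoc, hφ, whiskerLeft_snd_assoc]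
    have h2 := congrArg CommaMorphism.left h1
    simp only [Over.comp_left] at h2
    rw [Over.comp_left, Category.assoc, Over.comp_left]
    exact (congrArg ((snd G (Vo P)).left ≫ ·) P.comm).trans h2.symm
  obtain ⟨g, hg₁, hg₂⟩ := P.exists_lift _ _ hover
  let act : G ⊗ Vo P ⟶ Vo P := Over.homMk g (by
    show g ≫ P.π ≫ X.hom = _
    rw [← Category.assoc, hg₁, Over.w])
  have hact₁ : act ≫ pi P = (G ◁ pi P) ≫ a.act := Over.OverMorphism.ext hg₁
  have hact₂ : act ≫ qq P = snd G (Vo P) ≫ qq P := Over.OverMorphism.ext hg₂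
  let Φ : AlgGrp.Action G (Vo P) :=
    { act := act
      one_act := by
        refine extO _ _ ?_ ?_
        · rw [Category.assoc, hact₁, ← Category.assoc, ← whisker_exchange, Category.assoc, a.one_act,
            leftUnitor_naturality]
        · rw [Category.assoc, hact₂, ← Category.assoc, whiskerRight_snd, leftUnitor_hom]
      mul_act := by
        refine extO _ _ ?_ ?_
        · rw [Category.assoc, hact₁, ← Category.assoc, ← whisker_exchange, Category.assoc, a.mul_act,
            associator_naturality_right_assoc, Category.assoc, Category.assoc, hact₁,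
            ← MonoidalCategory.whiskerLeft_comp_assoc, ← MonoidalCategory.whiskerLeft_comp_assoc, hact₁]
        · rw [Category.assoc, hact₂, ← Category.assoc, whiskerRight_snd, Category.assoc, Category.assoc, hact₂,
            whiskerLeft_snd_assoc, hact₂, associator_hom_snd_snd_assoc] }
  have hinv : ∀ s, GLinSh.IsInvFn Φ (P.f s) := fun s => by
    show g.appTop ((P.q ≫ P.z).appTop _) = (snd G (Vo P)).left.appTop ((P.q ≫ P.z).appTop _)
    rw [appTop_eq g, appTop_eq (snd G (Vo P)).left]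
    rw [appTop_eq (P.q ≫ P.z), ap_comp, ap_comp]
    exact ap_congr (by rw [← Category.assoc, hg₂, Over.comp_left, Category.assoc]; rfl) _ _ _
  let chart : ∀ U : X.left.Opens, Set (Γ((Vo P).left, (pi P).left ⁻¹ᵁ U)) := fun U =>
    {y | ∃ l, U = φ.left ⁻¹ᵁ D.U l ∧ y = rr le_top (P.f l)}
  have hmem : ∀ l, (rr le_top (P.f l) : Γ((Vo P).left, (pi P).left ⁻¹ᵁ (φ.left ⁻¹ᵁ D.U l))) ∈
      chart (φ.left ⁻¹ᵁ D.U l) := fun l => ⟨l, rfl, rfl⟩
  let A : GLinSh.LinAtlas (pi P) :=
    { affine := P.affine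
      chart := chart
      cover := fun x => by
        obtain ⟨l, hl⟩ := TopologicalSpace.Opens.mem_iSup.1
          (D.cover.ge (TopologicalSpace.Opens.mem_top (φ.left x)) : φ.left x ∈ ⨆ l, D.U l)
        exact ⟨_, hl, _, hmem l⟩
      coord := by
        rintro U y ⟨l, rfl, rfl⟩ W hW hWU
        exact P.fibreCoord l hW hWU
      linear := by
        rintro U U' y y' ⟨l, rfl, rfl⟩ ⟨m, rfl, rfl⟩
        refine ⟨rr inf_le_left (P.g l m), P.isUnit_g l m, ?_⟩
        refine (rr_rr _ _ _).trans ((P.f_rel l m (V' := P.π ⁻¹ᵁ (φ.left ⁻¹ᵁ D.U l ⊓ φ.left ⁻¹ᵁ D.U m))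
          (P.π.preimage_mono inf_le_left)).trans ?_)
        refine congrArg₂ (fun (s t : Γ(P.V, P.π ⁻¹ᵁ (φ.left ⁻¹ᵁ D.U l ⊓ φ.left ⁻¹ᵁ D.U m))) => s * t)
          ?_ (rr_rr _ _ _).symm
        exact ((app_eq P.π _).trans (ap_rr P.π _ _ _)).symm }
  have hlin : GLinSh.IsLinearLift a (pi P) Φ chart hact₁ := by
    rintro U U' y y' ⟨l, rfl, rfl⟩ ⟨m, rfl, rfl⟩
    refine ⟨ap (snd G X).left (U := φ.left ⁻¹ᵁ D.U l) inf_le_right (P.g l m), ?_⟩
    show ap _ _ (rr le_top (P.f m)) = ap _ _ (ap _ _ _) * ap _ _ (rr le_top (P.f l))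
    have hle : GLinSh.liftOpen a (pi P) (φ.left ⁻¹ᵁ D.U l) (φ.left ⁻¹ᵁ D.U m) ≤
        (snd G (Vo P)).left ⁻¹ᵁ (P.π ⁻¹ᵁ P.O l) := GLinSh.liftOpen_le_snd a (pi P)
    rw [ap_rr, ap_rr, ← rr_appTop _ le_top]
    rw [show Φ.act.left.appTop (P.f m) = (snd G (Vo P)).left.appTop (P.f m) from hinv m]
    rw [rr_appTop]
    refine (ap_rr (snd G (Vo P)).left hle le_top (P.f m)).symm.trans ?_
    refine (congrArg (ap (snd G (Vo P)).left hle) (P.f_rel l m le_rfl)).trans ?_
    refine (map_mul (Scheme.Hom.appLE (snd G (Vo P)).left _ _ hle).hom _ _).trans ?_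
    refine congrArg₂ (fun s t => s * t) ?_ (ap_rr _ _ _ _)
    refine (ap_comp _ _ _ _ _).trans (Eq.trans ?_ (ap_comp _ _ _ _ _).symm)
    exact ap_congr (congrArg CommaMorphism.left (whiskerLeft_snd G (pi P))).symm _ _ _
  refine ⟨{ V := Vo P, π := pi P, atlas := A, lift := Φ, lift_π := hact₁, lift_linear := hlin }, fun x => ?_⟩
  obtain ⟨m, hm⟩ := TopologicalSpace.Opens.mem_iSup.1
    (D.cover.ge (TopologicalSpace.Opens.mem_top (φ.left x)) : φ.left x ∈ ⨆ l, D.U l)
  have hnv : GLinSh.nonvanishing (pi P) (P.f m) = ((φ.left ⁻¹ᵁ D.U m : X.left.Opens) : Set X.left) :=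
    P.nonvanishing_eq m
  refine ⟨P.f m, φ.left ⁻¹ᵁ D.U m, ⟨?_, hinv m⟩, ?_, hnv.symm, (D.affine m).preimage φ.left⟩
  · rintro U y ⟨l, rfl, rfl⟩
    refine ⟨P.g l m, ?_⟩
    rw [pow_one]
    refine (P.f_rel l m (V' := P.π ⁻¹ᵁ (φ.left ⁻¹ᵁ D.U l)) le_rfl).trans ?_
    exact congrArg (fun (s : Γ(P.V, P.π ⁻¹ᵁ (φ.left ⁻¹ᵁ D.U l))) => s * rr le_top (P.f l)) (app_eq P.π _).symm
  · rw [hnv]
    exact hm

end

/-- Let k be a field, G a group scheme over k acting by σ on a k-scheme X, φ : X → Y an invariant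
k-morphism (φ ∘ σ = φ ∘ p₂) which is affine, and M an ample invertible sheaf on Y. Then there is a
G-linearised line bundle L on X, taken in total-space form, with X = X^ss(L): every point x has an
invariant section s of some L^n, n ≥ 1, with s(x) ≠ 0 and X_s affine. If moreover (Y, φ) is a
geometric quotient of X by G, then X = X^s(L) for the same L (the action of G on those X_s is
closed; no condition on stabilisers). (The published statement assumes G reductive, X of finite type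
and (Y, φ) a categorical quotient with Y quasi-projective; this row keeps only what the construction
uses: φ invariant and affine, M ample. L is taken in total-space form.) -/
theorem result (k : Type u) [Field k]
    (G X Y : Over (Spec (CommRingCat.of k))) [GrpObj G]
    (a : AlgGrp.Action G X) (φ : X ⟶ Y) (hφ : GIT.IsInvariant a φ) [IsAffineHom φ.left]
    (M : Y.left.Modules) (hM : CohB1.IsAmple M) :
    ∃ B : GLinSh.LinBun G a, B.ssLocus = Set.univ ∧ (GIT.IsGeomQuot a φ → B.sLocus = Set.univ) := by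
  obtain ⟨D⟩ := exists_ratios M hM
  obtain ⟨B, hB⟩ := exists_linBun a φ hφ D
  refine ⟨B, Set.eq_univ_of_forall fun x => ?_, fun hgeo => Set.eq_univ_of_forall fun x => ?_⟩
  · obtain ⟨f, U, hf, hx, hU, hUa⟩ := hB x
    exact ⟨1, f, le_rfl, hf, hx, U, hU, hUa⟩
  · obtain ⟨f, U, hf, hx, hU, hUa⟩ := hB x
    refine ⟨1, f, le_rfl, hf, hx, U, hU, hUa, ?_⟩
    intro Ω _ _ T hT p _
    exact (GrothLib.GITQuot.isClosedAction hgeo Ω T hT p).preimage continuous_subtype_val

end Groth.Agent.S14718
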