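-- Proof of statement S14727
import Groth.Statements.S14727
import Mathlib.Tactic.LinearCombination

set_option autoImplicit false
universe u
open ValPrufer

namespace Groth.Agent.S14727

section

variable {R : Type u} [CommRing R] {ι : Type*} [Finite ι] (m : ι → Ideal R) [∀ i, (m i).IsMaximal]
  (hinj : Function.Injective m) (J : Ideal R)
  (hJ : ∀ P : Ideal R, P.IsPrime → J ≤ P → ∃ i, P = m i)

include hJ in
lemma mem_of_local {x : R} (hx : ∀ i, ∃ u ∉ m i, u * x ∈ J) : x ∈ J := by
  by_contra hxJ
  let A : Ideal R := Submodule.comap (LinearMap.mulRight R x) J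
  have hA : A ≠ ⊤ := fun h => hxJ (by simpa [A] using (h ▸ Submodule.mem_top : (1 : R) ∈ A))
  obtain ⟨P, hP, hle⟩ := A.exists_le_maximal hA
  obtain ⟨i, rfl⟩ := hJ P hP.isPrime fun a ha => hle (show a * x ∈ J from J.mul_mem_right x ha)
  obtain ⟨u, hu, hux⟩ := hx i
  exact hu (hle hux)

/-- Kernel of `R → R_m / J R_m`. -/
def K (i : ι) : Ideal R :=
  (J.map (algebraMap R (Localization.AtPrime (m i)))).comap (algebraMap R _)

lemma mem_K {i : ι} {x : R} : x ∈ K m J i ↔ ∃ u ∉ m i, u * x ∈ J := by
  rw [K, Ideal.mem_comap, IsLocalization.algebraMap_mem_map_algebraMap_iff (m i).primeCompl]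
  rfl

include hinj hJ in
lemma eq_of_K_le {i : ι} {P : Ideal R} (hP : P.IsPrime) (h : K m J i ≤ P) : P = m i := by
  classical
  haveI := Fintype.ofFinite ι
  have hJP : J ≤ P := fun x hx => h ((mem_K m J).mpr ⟨1, (Ideal.ne_top_iff_one _).mp
    (Ideal.IsMaximal.ne_top inferInstance), by simpa using hx⟩)
  obtain ⟨j, rfl⟩ := hJ P hP hJP
  by_contra hne
  have hij : j ≠ i := fun hh => hne (hh ▸ rfl)
  obtain ⟨u, hu, hu'⟩ : ∃ u ∈ m j, u ∉ m i := SetLike.not_le_iff_exists.mp fun hle =>
    hij (hinj (Ideal.IsMaximal.eq_of_le inferInstance (Ideal.IsMaximal.ne_top inferInstance) hle))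
  obtain ⟨y, hy, hy'⟩ : ∃ y ∈ ∏ k ∈ Finset.univ.erase j, m k, y ∉ m j :=
    SetLike.not_le_iff_exists.mp fun hle => by
      obtain ⟨k, hk, hkle⟩ := (Ideal.IsPrime.prod_le hP).mp hle
      exact Finset.ne_of_mem_erase hk (hinj (Ideal.IsMaximal.eq_of_le inferInstance
        (Ideal.IsMaximal.ne_top inferInstance) hkle))
  have hrad : u * y ∈ J.radical := by
    rw [Ideal.radical_eq_sInf, Submodule.mem_sInf]
    rintro Q ⟨hJQ, hQ⟩
    obtain ⟨k, rfl⟩ := hJ Q hQ hJQ
    rcases eq_or_ne k j with rfl | hk
    · exact (m k).mul_mem_right y hu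
    · exact (m k).mul_mem_left u
        (Ideal.prod_le_inf.trans (Finset.inf_le (Finset.mem_erase.mpr ⟨hk, Finset.mem_univ k⟩)) hy)
  obtain ⟨n, hn⟩ := hrad
  have hyK : y ^ n ∈ K m J i := (mem_K m J).mpr
    ⟨u ^ n, fun hh => hu' ((inferInstance : (m i).IsMaximal).isPrime.mem_of_pow_mem n hh), by rwa [← mul_pow]⟩
  exact hy' (hP.mem_of_pow_mem n (h hyK))

include hinj hJ in
lemma exists_approx (z : ∀ i, Localization.AtPrime (m i)) :
    ∃ r : R, ∀ i, algebraMap R _ r - z i ∈ J.map (algebraMap R (Localization.AtPrime (m i))) := by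
  classical
  have hloc : ∀ i, ∃ r : R, algebraMap R _ r - z i ∈ J.map (algebraMap R (Localization.AtPrime (m i))) := by
    intro i
    obtain ⟨⟨a, s⟩, hz⟩ := IsLocalization.surj (m i).primeCompl (z i)
    have htop : K m J i ⊔ Ideal.span {(s : R)} = ⊤ := by
      by_contra hne
      obtain ⟨P, hP, hle⟩ := Ideal.exists_le_maximal _ hne
      have := eq_of_K_le m hinj J hJ hP.isPrime (le_sup_left.trans hle)
      subst this
      exact s.2 (hle (Ideal.mem_sup_right (Ideal.mem_span_singleton_self _)))
    obtain ⟨k, hk, w, hw, hkw⟩ := Submodule.mem_sup.mp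
      (show (1 : R) ∈ K m J i ⊔ Ideal.span {(s : R)} by rw [htop]; exact Submodule.mem_top)
    obtain ⟨t, rfl⟩ := Ideal.mem_span_singleton'.mp hw
    refine ⟨t * a, ?_⟩
    have : algebraMap R _ (t * a) - z i = - (z i * algebraMap R _ k) := by
      have h1 := congrArg (algebraMap R (Localization.AtPrime (m i))) hkw
      simp only [map_add, map_mul, map_one] at h1
      rw [map_mul, ← hz]
      linear_combination (z i) * h1
    rw [this]
    exact neg_mem (Ideal.mul_mem_left _ _ hk)
  choose r hr using hloc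
  have hcop : Pairwise fun i j => IsCoprime (K m J i) (K m J j) := fun i j hij => by
    show IsCoprime (K m J i) (K m J j)
    rw [Ideal.isCoprime_iff_sup_eq]
    by_contra hne
    obtain ⟨P, hP, hle⟩ := Ideal.exists_le_maximal _ hne
    exact hij (hinj ((eq_of_K_le m hinj J hJ hP.isPrime (le_sup_left.trans hle)).symm.trans
      (eq_of_K_le m hinj J hJ hP.isPrime (le_sup_right.trans hle))))
  obtain ⟨x, hx⟩ := Ideal.exists_forall_sub_mem_ideal (I := K m J) hcop r
  refine ⟨x, fun i => ?_⟩
  have h2 : algebraMap R (Localization.AtPrime (m i)) (x - r i) ∈ J.map (algebraMap R _) := hx i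
  rw [map_sub] at h2
  simpa using add_mem h2 (hr i)

end

/-- Let R be a semilocal ring (finitely many maximal ideals) and I an ideal of R of co-height zero, i.e.
every prime ideal containing I is maximal. Then the canonical map from the I-adic completion of R to
the product, over the maximal ideals m ⊇ I, of the I-adic completions of the local rings R_m
(equivalently their IR_m-adic completions) is bijective; it is the continuous ring isomorphism of
the source, stated here as bijectivity of the canonical map of completed modules. -/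
theorem result
    (R : Type u) [CommRing R] (hR : Finite (MaximalSpectrum R)) (I : Ideal R)
    (hI : ∀ (p : Ideal R), p.IsPrime → I ≤ p → p.IsMaximal) :
    Function.Bijective (LinearMap.pi (fun m : {m : MaximalSpectrum R // I ≤ m.asIdeal} =>
      AdicCompletion.map I (Algebra.linearMap R (Localization.AtPrime m.1.asIdeal)))) := by
  classical
  haveI := hR
  let ι := {m : MaximalSpectrum R // I ≤ m.asIdeal}
  let m : ι → Ideal R := fun i => i.1.asIdeal
  haveI : ∀ i, (m i).IsMaximal := fun i => i.1.isMaximal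
  have hinj : Function.Injective m := fun i j h => Subtype.ext (MaximalSpectrum.ext h)
  have hJ : ∀ (n : ℕ) (P : Ideal R), P.IsPrime → I ^ n ≤ P → ∃ i, P = m i := by
    intro n P hP hle
    have hIP : I ≤ P := Ideal.IsPrime.le_of_pow_le hle
    exact ⟨⟨⟨P, hI P hP hIP⟩, hIP⟩, rfl⟩
  have hsmul : ∀ (n : ℕ) (i : ι) (z : Localization.AtPrime (m i)),
      z ∈ (I ^ n • ⊤ : Submodule R (Localization.AtPrime (m i))) ↔
        z ∈ (I ^ n).map (algebraMap R (Localization.AtPrime (m i))) := fun n i z => by
    rw [Ideal.smul_top_eq_map]; rfl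
  have htop : ∀ n : ℕ, (I ^ n • ⊤ : Submodule R R) = I ^ n := fun n => by simp
  let f := fun (i : ι) (n : ℕ) => (Algebra.linearMap R (Localization.AtPrime (m i))).reduceModIdeal (I ^ n)
  have hlvlinj : ∀ (n : ℕ) (x : R ⧸ (I ^ n • ⊤ : Submodule R R)), (∀ i, f i n x = 0) → x = 0 := by
    intro n x hx
    obtain ⟨r, rfl⟩ := Submodule.Quotient.mk_surjective _ x
    rw [Submodule.Quotient.mk_eq_zero, htop]
    refine mem_of_local m _ (hJ n) fun i => ?_
    have := (hsmul n i _).mp ((Submodule.Quotient.mk_eq_zero _).mp (hx i))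
    exact (mem_K m (I ^ n)).mp this
  constructor
  · intro x y h
    rw [← sub_eq_zero]
    refine AdicCompletion.ext fun n => hlvlinj n _ fun i => ?_
    have hi := congrArg (fun z => (z i).val n) h
    simp only [LinearMap.pi_apply, AdicCompletion.map_val_apply] at hi
    show f i n ((x - y).val n) = 0
    rw [AdicCompletion.val_sub_apply, map_sub, sub_eq_zero]
    exact hi
  · intro z
    have hlvl : ∀ n, ∃ x : R ⧸ (I ^ n • ⊤ : Submodule R R), ∀ i, f i n x = (z i).val n := by
      intro n
      choose w hw using fun i => Submodule.Quotient.mk_surjective _ ((z i).val n)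
      obtain ⟨r, hr⟩ := exists_approx m hinj (I ^ n) (hJ n) w
      refine ⟨Submodule.Quotient.mk r, fun i => ?_⟩
      rw [← hw i]
      exact (Submodule.Quotient.eq _).mpr ((hsmul n i _).mpr (hr i))
    choose x hx using hlvl
    refine ⟨⟨x, fun {a b} hab => ?_⟩, funext fun i => AdicCompletion.ext fun n => hx n i⟩
    rw [← sub_eq_zero]
    refine hlvlinj a _ fun i => ?_
    rw [map_sub, sub_eq_zero, hx a i, ← (z i).2 hab, ← hx b i]
    obtain ⟨r, hr⟩ := Submodule.Quotient.mk_surjective _ (x b)
    rw [← hr]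
    rfl

end Groth.Agent.S14727
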