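import Groth.Statements.S14728
import Mathlib.RingTheory.Valuation.ValuationRing
import Mathlib.RingTheory.Localization.AtPrime.Basic
import Mathlib.RingTheory.Localization.LocalizationLocalization
-- import your own Groth.Agent.* helpers here

set_option autoImplicit false
universe u
open ValPrufer

namespace Groth.Agent.S14728

/-- Let R be a Prüfer domain, i.e. a domain all of whose local rings at primes are valuation rings. (a)
For a multiplicative subset S, any localisation B = S⁻¹R that is a domain (S not containing 0) is a
Prüfer domain. (b) For a prime ideal I, the quotient R/I is a Prüfer domain. -/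
theorem result
    (R : Type u) [CommRing R] [IsDomain R]
    (hR : ∀ (p : Ideal R) [p.IsPrime], ValuationRing (Localization.AtPrime p))
    (S : Submonoid R) (B : Type u) [CommRing B] [IsDomain B] [Algebra R B] [IsLocalization S B]
    (I : Ideal R) [I.IsPrime] :
    (∀ (q : Ideal B) [q.IsPrime], ValuationRing (Localization.AtPrime q)) ∧
      (∀ (q : Ideal (R ⧸ I)) [q.IsPrime], ValuationRing (Localization.AtPrime q)) := by
  refine ⟨fun q _ => ?_, fun q _ => ?_⟩
  · haveI := hR (q.comap (algebraMap R B))
    haveI := IsLocalization.isLocalization_isLocalization_atPrime_isLocalization S (Localization.AtPrime q) q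
    let e := IsLocalization.algEquiv (q.comap (algebraMap R B)).primeCompl
      (Localization.AtPrime (q.comap (algebraMap R B))) (Localization.AtPrime q)
    exact Function.Surjective.valuationRing e.toRingEquiv.toRingHom e.surjective
  · haveI := hR (q.comap (Ideal.Quotient.mk I))
    let f : Localization.AtPrime (q.comap (Ideal.Quotient.mk I)) →+* Localization.AtPrime q :=
      Localization.localRingHom _ q (Ideal.Quotient.mk I) rfl
    refine Function.Surjective.valuationRing f fun z => ?_
    obtain ⟨⟨a, s⟩, hz⟩ := IsLocalization.surj q.primeCompl z
    obtain ⟨a', rfl⟩ := Ideal.Quotient.mk_surjective a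
    obtain ⟨s', hs'⟩ := Ideal.Quotient.mk_surjective (s : R ⧸ I)
    have hs'q : s' ∈ (q.comap (Ideal.Quotient.mk I)).primeCompl := fun h => s.2 (by rw [← hs']; exact h)
    refine ⟨IsLocalization.mk' _ a' ⟨s', hs'q⟩, ?_⟩
    rw [Localization.localRingHom_mk']
    exact IsLocalization.mk'_eq_iff_eq_mul.mpr (by simpa [hs'] using hz.symm)

end Groth.Agent.S14728
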