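import Groth.Statements.S14730
import Groth.Agent.Lib.PruferInf.Dim
-- import your own Groth.Agent.* helpers here

set_option autoImplicit false
universe u
open ValPrufer

namespace Groth.Agent.S14730

/-- Let R be a semilocal Prüfer domain (an integral domain with finitely many maximal ideals whose
localisations at primes are valuation rings). Then R is the increasing union of subrings that are
semilocal Prüfer domains of finite Krull dimension; equivalently, every finite subset of R is
contained in such a subring. -/
theorem result
    (R : Type u) [CommRing R] [IsDomain R]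
    (hR : ∀ (p : Ideal R) [p.IsPrime], ValuationRing (Localization.AtPrime p))
    (hfin : Finite (MaximalSpectrum R)) (s : Finset R) :
    ∃ R' : Subring R, (↑s : Set R) ⊆ R' ∧
      (∀ (p : Ideal R') [p.IsPrime], ValuationRing (Localization.AtPrime p)) ∧
      Finite (MaximalSpectrum R') ∧ ringKrullDim R' < ⊤ := by
  classical
  haveI := hfin
  let L := FractionRing R
  let K : Subfield L := Subfield.closure ((algebraMap R L) '' (↑s : Set R))
  let R' : Subring R := K.toSubring.comap (algebraMap R L)
  let S := (algebraMap R L).range ⊓ K.toSubring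
  let e : R' ≃+* S := RingEquiv.ofBijective
    (((algebraMap R L).comp R'.subtype).codRestrict S fun r => ⟨⟨r.1, rfl⟩, r.2⟩)
    ⟨fun a b h => Subtype.ext (IsFractionRing.injective R L (congrArg Subtype.val h)),
      fun z => by obtain ⟨_, ⟨r, rfl⟩, hz⟩ := z; exact ⟨⟨r, hz⟩, rfl⟩⟩
  haveI : IsDomain S := inferInstance
  -- fraction field
  letI : Algebra S K := ((Subring.inclusion (inf_le_right : S ≤ K.toSubring))).toAlgebra
  haveI hfracK : IsFractionRing S K := by
    refine (isLocalization_iff _ _).mpr ⟨fun y => ?_, fun z => ?_, fun {a b} h => ⟨1, by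
      rw [show a = b from Subtype.ext (congrArg (fun w : K => (w : L)) h)]⟩⟩
    · refine IsUnit.mk0 _ fun h => nonZeroDivisors.ne_zero y.2 (Subtype.ext ?_)
      exact congrArg (fun w : K => (w : L)) h
    · obtain ⟨a, b, ha, hb, hb0, hz⟩ := GrothLib.PruferInf.exists_div (R := R) hR K (z : L) z.2
      refine ⟨(⟨a, ha⟩, ⟨⟨b, hb⟩, mem_nonZeroDivisors_of_ne_zero fun h => hb0 (congrArg Subtype.val h)⟩), ?_⟩
      refine Subtype.ext ?_
      show (z : L) * b = a
      rw [hz, div_mul_cancel₀ _ hb0]
  let T : Finset K := s.attach.image fun r =>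
    (⟨algebraMap R L r.1, Subfield.subset_closure ⟨r.1, r.2, rfl⟩⟩ : K)
  have hT : Subfield.closure (↑T : Set K) = ⊤ := by
    refine eq_top_iff.mpr fun z _ => ?_
    have hle : K ≤ (Subfield.closure (↑T : Set K)).map K.subtype := by
      refine Subfield.closure_le.mpr ?_
      rintro _ ⟨r, hr, rfl⟩
      exact ⟨_, Subfield.subset_closure (Finset.mem_coe.mpr (Finset.mem_image.mpr
        ⟨⟨r, hr⟩, Finset.mem_attach _ _, rfl⟩)), rfl⟩
    obtain ⟨w, hw, hwz⟩ := hle z.2
    rwa [← Subtype.ext hwz]
  have hval : ∀ p : Ideal S, ∀ [p.IsPrime], ValuationRing (Localization.AtPrime p) := fun p _ =>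
    GrothLib.PruferInf.valuationRing_localization hR K p
  refine ⟨R', fun r hr => Subfield.subset_closure ⟨r, hr, rfl⟩, fun p hp => ?_, ?_, ?_⟩
  · let q : Ideal S := p.comap e.symm.toRingHom
    haveI := hval q
    let ψ : Localization.AtPrime q ≃+* Localization.AtPrime p :=
      IsLocalization.ringEquivOfRingEquiv (M := q.primeCompl) (T := p.primeCompl) (Localization.AtPrime q) (Localization.AtPrime p) e.symm (by
        ext x
        simp only [Submonoid.mem_map]
        constructor
        · rintro ⟨y, hy, rfl⟩
          exact hy
        · refine fun hx => ⟨e x, ?_, e.symm_apply_apply x⟩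
          change e.symm (e x) ∉ p
          rw [e.symm_apply_apply]
          exact hx)
    haveI : IsDomain (Localization.AtPrime p) := inferInstance
    exact Function.Surjective.valuationRing ψ.toRingHom ψ.surjective
  · haveI := GrothLib.PruferInf.finite_maximalSpectrum (R := R) hR K
    refine Finite.of_injective (fun M : MaximalSpectrum R' =>
      (⟨M.asIdeal.comap e.symm.toRingHom, Ideal.comap_isMaximal_of_surjective _ e.symm.surjective⟩ : MaximalSpectrum S)) ?_
    intro M M' h
    exact MaximalSpectrum.ext (Ideal.comap_injective_of_surjective _ e.symm.surjective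
      (congrArg MaximalSpectrum.asIdeal h))
  · rw [ringKrullDim_eq_of_ringEquiv e]
    refine lt_of_le_of_lt ?_ (WithBot.coe_lt_coe.mpr (WithTop.coe_lt_top (T.card + 1 : ℕ)))
    refine (ringKrullDim_le_iff_height_le _).mpr fun q hq => ?_
    haveI := hq
    haveI := hval q
    let V := Localization.AtPrime q
    letI : Algebra V K := (IsLocalization.lift (M := q.primeCompl) (S := V) (g := algebraMap S K)
      fun y => IsLocalization.map_units K (⟨y.1, Ideal.primeCompl_le_nonZeroDivisors q y.2⟩ : nonZeroDivisors S)).toAlgebra
    haveI : IsScalarTower S V K := IsScalarTower.of_algebraMap_eq fun x => (IsLocalization.lift_eq _ x).symm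
    haveI : IsFractionRing V K := IsFractionRing.isFractionRing_of_isDomain_of_isLocalization q.primeCompl V K
    have hd : ringKrullDim V ≤ ((T.card + 1 : ℕ) : WithBot ℕ∞) :=
      iSup_le fun l => by
        exact_mod_cast GrothLib.PruferInf.length_le_of_closure_eq_top T hT l
    rw [IsLocalization.AtPrime.ringKrullDim_eq_height q V] at hd
    exact hd

end Groth.Agent.S14730
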