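import Groth.Statements.S14731
import Mathlib
import Groth.Agent.Lib.GenSmoothField.Basic
-- import your own Groth.Agent.* helpers here

set_option autoImplicit false
universe u
open ValPrufer

namespace Groth.Agent.S14731

/-- In characteristic zero, every field K generated as a field by a finite set is the fraction field of
a subring A of K of finite type and smooth over the integers. -/
theorem result
    (K : Type u) [Field K] [CharZero K] (s : Finset K)
    (hs : Subfield.closure (↑s : Set K) = ⊤) :
    ∃ A : Subring K, Algebra.FiniteType ℤ A ∧ Algebra.Smooth ℤ A ∧ IsFractionRing A K := by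
  have hK : Algebra.FormallySmooth ℤ K := by
    haveI : Algebra.FormallyEtale ℤ ℚ := Algebra.FormallyEtale.of_isLocalization (nonZeroDivisors ℤ)
    haveI : Algebra.EssFiniteType ℚ K := by
      haveI := GrothLib.GenSmoothField.isFractionRing_adjoin_of_closure ℚ hs
      haveI : Algebra.FiniteType ℚ (Algebra.adjoin ℚ (s : Set K)) := (Subalgebra.fg_iff_finiteType _).1 ⟨s, rfl⟩
      haveI : Algebra.EssFiniteType (Algebra.adjoin ℚ (s : Set K)) K :=
        Algebra.EssFiniteType.of_isLocalization K (nonZeroDivisors (Algebra.adjoin ℚ (s : Set K)))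
      exact Algebra.EssFiniteType.comp ℚ (Algebra.adjoin ℚ (s : Set K)) K
    exact Algebra.FormallySmooth.comp ℤ ℚ K
  obtain ⟨A, h1, h2, h3⟩ := GrothLib.GenSmoothField.exists_smooth_subalgebra ℤ s hs hK
  let e : A ≃ₐ[ℤ] A.toSubring :=
    AlgEquiv.ofRingEquiv (f := RingEquiv.refl A) (fun n => by simp)
  exact ⟨A.toSubring, h1.equiv e, Algebra.Smooth.of_equiv e, h3⟩

end Groth.Agent.S14731
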