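import Groth.Statements.S14732
import Mathlib
import Groth.Agent.Lib.GenSmoothField.Basic
-- import your own Groth.Agent.* helpers here

set_option autoImplicit false
universe u
open ValPrufer

namespace Groth.Agent.S14732

/-- In characteristic p > 0, a field K that is finitely generated over its prime subfield F (a field
with p elements) is the fraction field of an integral scheme smooth over F; concretely, there is an
F-subalgebra A of K, of finite type and smooth over F, whose fraction field is K. -/
theorem result
    (K : Type u) [Field K] (p : ℕ) [Fact p.Prime] [CharP K p] (s : Finset K)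
    (hs : Subfield.closure (↑s : Set K) = ⊤) :
    ∃ A : Subalgebra (⊥ : Subfield K) K, Algebra.FiniteType (⊥ : Subfield K) A ∧
      Algebra.Smooth (⊥ : Subfield K) A ∧ IsFractionRing A K := by
  classical
  haveI : Finite (⊥ : Subfield K) := by
    let f : ZMod p →+* K := ZMod.castHom dvd_rfl K
    exact Set.Finite.subset (Set.finite_range f) (show ((⊥ : Subfield K) : Set K) ⊆ Set.range f from
      (bot_le : (⊥ : Subfield K) ≤ f.fieldRange))
  haveI : PerfectField (⊥ : Subfield K) := PerfectField.ofFinite
  haveI : Algebra.EssFiniteType (⊥ : Subfield K) K := by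
    haveI := GrothLib.GenSmoothField.isFractionRing_adjoin_of_closure (⊥ : Subfield K) hs
    haveI : Algebra.FiniteType (⊥ : Subfield K) (Algebra.adjoin (⊥ : Subfield K) (s : Set K)) :=
      (Subalgebra.fg_iff_finiteType _).1 ⟨s, rfl⟩
    haveI : Algebra.EssFiniteType (Algebra.adjoin (⊥ : Subfield K) (s : Set K)) K :=
      Algebra.EssFiniteType.of_isLocalization K (nonZeroDivisors (Algebra.adjoin (⊥ : Subfield K) (s : Set K)))
    exact Algebra.EssFiniteType.comp (⊥ : Subfield K) (Algebra.adjoin (⊥ : Subfield K) (s : Set K)) K
  exact GrothLib.GenSmoothField.exists_smooth_subalgebra (⊥ : Subfield K) s hs inferInstance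

end Groth.Agent.S14732
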