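import Groth.Statements.S14733
import Mathlib
import Groth.Agent.Lib.SemiPrufer.SchemeFibre
-- import your own Groth.Agent.* helpers here

set_option autoImplicit false
open CategoryTheory AlgebraicGeometry
universe u
open ValPrufer

namespace Groth.Agent.S14733

/-- Let R be a Prüfer domain (an integral domain whose localisations at primes are valuation rings), X
an irreducible scheme and f : X ⟶ Spec R a dominant morphism of finite type. If the fibre of f over
a point γ of Spec R is nonempty, then it has the same dimension as the fibre over the generic point. -/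
theorem result
    (R : Type u) [CommRing R] [IsDomain R]
    (hR : ∀ (p : Ideal R) [p.IsPrime], ValuationRing (Localization.AtPrime p))
    (X : Scheme.{u}) [IrreducibleSpace X] (f : X ⟶ Spec (CommRingCat.of R))
    [LocallyOfFiniteType f] [QuasiCompact f] [IsDominant f] (γ : Spec (CommRingCat.of R))
    (h0 : Nonempty ↥(f.fiber γ)) :
    topologicalKrullDim ↥(f.fiber γ) =
      topologicalKrullDim ↥(f.fiber (genericPoint (Spec (CommRingCat.of R)))) := by
  obtain ⟨_, ⟨V, hV, rfl⟩, hxV, -⟩ :=
    X.isBasis_affineOpens.exists_subset_of_mem_open (Set.mem_univ (genericPoint X)) isOpen_univ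
  have hV : IsAffineOpen V := hV
  obtain ⟨ζ, hζ⟩ := hV.range_fromSpec.ge hxV
  rw [GrothLib.SemiPrufer.topologicalKrullDim_fiber f hR γ h0 hV hζ,
    GrothLib.SemiPrufer.topologicalKrullDim_fiber f hR _ ?_ hV hζ]
  obtain ⟨x, hx⟩ : genericPoint (Spec (CommRingCat.of R)) ∈ Set.range f := by
    have h := ((genericPoint_spec X).image f.continuous)
    rw [Set.image_univ, f.denseRange.closure_range] at h
    exact ⟨genericPoint X, h.eq (genericPoint_spec _)⟩
  exact ⟨(f.fiberHomeo _).symm ⟨x, hx⟩⟩

end Groth.Agent.S14733
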