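import Groth.Statements.S14734
import Mathlib
import Groth.Agent.Lib.SemiPrufer.Catenary
-- import your own Groth.Agent.* helpers here

set_option autoImplicit false
universe u
open ValPrufer

namespace Groth.Agent.S14734

/-- Let R be a Prüfer domain (an integral domain whose localisations at primes are valuation rings) of
finite Krull dimension and S an R-algebra of finite type. Then S, and every localisation T of S at a
multiplicative subset, is catenary and of finite Krull dimension. (The published statement is for a
scheme X of finite type over R and the spectrum of any semilocalisation of X; catenarity is local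
and finiteness of dimension is checked on a finite affine cover, so this row states the affine case
together with arbitrary localisations.) -/
theorem result
    (R : Type u) [CommRing R] [IsDomain R]
    (hR : ∀ (p : Ideal R) [p.IsPrime], ValuationRing (Localization.AtPrime p))
    (hdim : ringKrullDim R < ⊤)
    (S : Type u) [CommRing S] [Algebra R S] [Algebra.FiniteType R S]
    (M : Submonoid S) (T : Type u) [CommRing T] [Algebra S T] [IsLocalization M T] :
    CAlg.IsCatenary S ∧ ringKrullDim S < ⊤ ∧ CAlg.IsCatenary T ∧ ringKrullDim T < ⊤ := by
  haveI : FiniteRingKrullDim R := finiteRingKrullDim_iff_ne_bot_and_top.2 ⟨(ringKrullDim_nonneg_of_nontrivial.trans_lt' (WithBot.bot_lt_coe (0 : ℕ∞))).ne', hdim.ne⟩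
  let f : PrimeSpectrum S → ℤ := fun P => GrothLib.SemiPrufer.delta R P.asIdeal
  have hlt : ∀ a b, a < b → f b < f a := fun a b hab =>
    GrothLib.SemiPrufer.delta_lt hR (show a.asIdeal < b.asIdeal from hab)
  have hcov : ∀ a b, a ⋖ b → f a = f b + 1 := fun a b hab =>
    (GrothLib.SemiPrufer.delta_sub_eq_one_iff hR hab.lt).1 hab
  obtain ⟨n, hn⟩ := GrothLib.SemiPrufer.exists_delta_le (R := R) (S := S)
  have hn' : ∀ a, f a ≤ n := fun a => hn a.asIdeal a.isPrime
  exact ⟨GrothLib.SemiPrufer.isCatenary_of_dimFunction f hlt hcov,
    GrothLib.SemiPrufer.krullDim_lt_top_of_dimFunction f hlt (fun a => GrothLib.SemiPrufer.delta_ge a.asIdeal) hn',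
    GrothLib.SemiPrufer.isCatenary_localization M f hlt hcov (fun a => GrothLib.SemiPrufer.delta_ge a.asIdeal) hn'⟩

end Groth.Agent.S14734
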