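import Groth.Statements.S14737
import Groth.Agent.Lib.TorsorGlue.Affine
import Groth.Agent.Lib.TorsorGlue.Glued
import Groth.Agent.Lib.RegLoc.Basic
import Mathlib.RingTheory.AdicCompletion.AsTensorProduct
import Mathlib.RingTheory.AdicCompletion.Completeness
import Mathlib.AlgebraicGeometry.Sites.Fpqc
import Mathlib.AlgebraicGeometry.Morphisms.FinitePresentation
import Mathlib.AlgebraicGeometry.Morphisms.Flat
import Mathlib.AlgebraicGeometry.Limits
-- import your own Groth.Agent.* helpers here

set_option autoImplicit false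
set_option backward.isDefEq.respectTransparency false
set_option maxHeartbeats 1000000
universe u
open CategoryTheory MonoidalCategory CartesianMonoidalCategory MonObj AlgebraicGeometry
open ValPrufer

namespace Groth.Agent.S14737

open GrothLib.TorsorGlue TensorProduct

theorem quotPowBijective_completion {R : Type u} [CommRing R] [IsNoetherianRing R] (r : R) :
    EtGlue.QuotPowBijective R (AdicCompletion (Ideal.span {r}) R) r := by
  intro n _
  set I : Ideal R := Ideal.span {r} with hI
  have hpow : Ideal.span {r ^ n} = I ^ n := (Ideal.span_singleton_pow r n).symm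
  have hker : ∀ x : AdicCompletion I R,
      x ∈ (I ^ n).map (algebraMap R (AdicCompletion I R)) ↔ AdicCompletion.evalₐ I n x = 0 := fun x => by
    have h₁ : (I ^ n • ⊤ : Ideal R) = I ^ n := by simp
    have h₂ : AdicCompletion.evalₐ I n x = 0 ↔ x ∈ LinearMap.ker (AdicCompletion.eval I R n) := by
      rw [LinearMap.mem_ker]
      exact map_eq_zero_iff (Ideal.quotientEquivAlgOfEq R h₁) (Ideal.quotientEquivAlgOfEq R h₁).injective
    rw [h₂, ← AdicCompletion.pow_smul_top_eq_ker_eval (IsNoetherian.noetherian I), Ideal.smul_top_eq_map,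
      Submodule.restrictScalars_mem]
  refine ⟨(injective_iff_map_eq_zero _).2 fun q hq => ?_, fun q => ?_⟩
  · obtain ⟨a, rfl⟩ := Ideal.Quotient.mk_surjective q
    rw [Ideal.quotientMap_mk, Ideal.Quotient.eq_zero_iff_mem, hpow, hker, AlgHom.commutes] at hq
    rw [Ideal.Quotient.eq_zero_iff_mem, hpow]
    exact Ideal.Quotient.eq_zero_iff_mem.1 hq
  · obtain ⟨x, rfl⟩ := Ideal.Quotient.mk_surjective q
    obtain ⟨a, ha⟩ := Ideal.Quotient.mk_surjective (AdicCompletion.evalₐ I n x)
    refine ⟨Ideal.Quotient.mk _ a, ?_⟩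
    rw [Ideal.quotientMap_mk, Ideal.Quotient.eq, hpow, hker, map_sub, AlgHom.commutes, ← ha]
    exact sub_self _

theorem isGlueingPair_completion {R : Type u} [CommRing R] [IsNoetherianRing R] [IsDomain R] (r : R)
    (hr : r ≠ 0) : EtGlue.IsGlueingPair R (AdicCompletion (Ideal.span {r}) R) r := by
  refine Groth.Agent.Glue.isGlueingPair_of_torsion (quotPowBijective_completion r)
    (fun x ⟨n, hn⟩ _ => (smul_eq_zero.1 hn).resolve_left (pow_ne_zero n hr)) fun x ⟨n, hn⟩ => ⟨0, ⟨0, by simp⟩, ?_⟩
  have hinj : Function.Injective (LinearMap.lsmul R (AdicCompletion (Ideal.span {r}) R) (r ^ n)) := by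
    have h := Module.Flat.lTensor_preserves_injective_linearMap (M := AdicCompletion (Ideal.span {r}) R)
      (LinearMap.lsmul R R (r ^ n)) (fun a b hab => mul_left_cancel₀ (pow_ne_zero n hr) hab)
    intro a b hab
    refine (TensorProduct.rid R _).symm.injective (h ?_)
    rw [TensorProduct.rid_symm_apply, TensorProduct.rid_symm_apply, LinearMap.lTensor_tmul, LinearMap.lTensor_tmul,
      LinearMap.lsmul_apply, ← TensorProduct.smul_tmul, ← TensorProduct.smul_tmul]
    exact congrArg (· ⊗ₜ[R] (1 : R)) hab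
  rw [map_zero]
  exact (hinj (hn.trans (map_zero (LinearMap.lsmul R _ (r ^ n))).symm)).symm

theorem exists_glued_section {R S Rf T : Type u} [CommRing R] [IsDomain R] [CommRing S] [Algebra R S] [CommRing Rf]
    [Algebra R Rf] [CommRing T] [Algebra R T] [Algebra S T] [IsScalarTower R S T] (r : R) (hr : r ≠ 0)
    [IsLocalization.Away r Rf] [IsLocalization.Away (algebraMap R S r) T]
    (hRR : EtGlue.IsGlueingPair R S r) (q₁ : Rf →ₐ[R] T)
    (hex : CoverExact q₁ (IsScalarTower.toAlgHom R S T))
    (hcov : ∀ p : PrimeSpectrum R, r ∈ p.asIdeal → p ∈ Set.range (PrimeSpectrum.comap (algebraMap R S)))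
    (G : Over (Spec (CommRingCat.of R))) [GrpObj G] [IsAffine G.left] (hflat : Flat G.hom)
    (hfp : LocallyOfFinitePresentation G.hom)
    (hGS : ∀ (X : Over (Spec (CommRingCat.of R))) (a : AlgGrp.Action G X),
      NonAbH1.IsTorsorFor Scheme.fppfPrecoverage a →
      NonAbH1.HasSectionOver X (Spec.map (CommRingCat.ofHom (algebraMap R (FractionRing R)))) →
      NonAbH1.HasSectionOver X (𝟙 (Spec (CommRingCat.of R))))
    (g : Sp R T ⟶ G) :
    ∃ (a₁ : Sp R Rf ⟶ G) (a₂ : Sp R S ⟶ G),
      g = (spMap (IsScalarTower.toAlgHom R S T) ≫ a₂)⁻¹ * (spMap q₁ ≫ a₁) := by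
  let H : Type u := Γ(G.left, ⊤)
  letI : Algebra R H := (Spec.preimage (G.left.isoSpec.inv ≫ G.hom)).hom.toAlgebra
  have hH : Spec.map (CommRingCat.ofHom (algebraMap R H)) = G.left.isoSpec.inv ≫ G.hom := Spec.map_preimage _
  let eG : G ≅ Sp R H := Over.isoMk G.left.isoSpec (by
    show G.left.isoSpec.hom ≫ Spec.map (CommRingCat.ofHom (algebraMap R H)) = G.hom
    rw [hH, Iso.hom_inv_id_assoc])
  haveI : Module.Flat R H := by
    haveI := hflat
    have h : Flat (Spec.map (CommRingCat.ofHom (algebraMap R H))) := by rw [hH]; infer_instance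
    exact RingHom.flat_algebraMap_iff.1 ((HasRingHomProperty.Spec_iff (P := @Flat)).1 h)
  haveI : Algebra.FinitePresentation R H := by
    haveI := hfp
    have h : LocallyOfFinitePresentation (Spec.map (CommRingCat.ofHom (algebraMap R H))) := by rw [hH]; infer_instance
    exact RingHom.finitePresentation_algebraMap.1 ((HasRingHomProperty.Spec_iff (P := @LocallyOfFinitePresentation)).1 h)
  -- the translation
  let P (B : Type u) [CommRing B] [Algebra R B] : Sp R (B ⊗[R] H) ≅ Sp R B ⊗ G :=
    asIso (spProd B H) ≪≫ tensorIso (Iso.refl _) eG.symm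
  have hPf : ∀ (B : Type u) [CommRing B] [Algebra R B],
      (P B).hom ≫ fst _ _ = spMap Algebra.TensorProduct.includeLeft := fun B _ _ => by simp [P]
  have hPw : ∀ {B C : Type u} [CommRing B] [Algebra R B] [CommRing C] [Algebra R C] (q : B →ₐ[R] C),
      (P C).hom ≫ (spMap q ▷ G) = spMap (Algebra.TensorProduct.map q (AlgHom.id R H)) ≫ (P B).hom := fun q => by
    simp only [P, Iso.trans_hom, asIso_hom, tensorIso_hom, Iso.refl_hom, Iso.symm_hom, id_tensorHom,
      Category.assoc]
    rw [whisker_exchange, ← Category.assoc, spProd_whiskerRight, Category.assoc]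
  let τS : Sp R T ⊗ G ≅ Sp R T ⊗ G :=
    { hom := lift (fst _ _) (snd _ _ * (fst _ _ ≫ g))
      inv := lift (fst _ _) (snd _ _ * (fst _ _ ≫ g)⁻¹)
      hom_inv_id := by
        simp only [comp_lift, MonObj.comp_mul, GrpObj.comp_inv, lift_fst, lift_snd, lift_fst_assoc,
          mul_inv_cancel_right, lift_fst_snd]
      inv_hom_id := by
        simp only [comp_lift, MonObj.comp_mul, lift_fst, lift_snd, lift_fst_assoc, inv_mul_cancel_right,
          lift_fst_snd] }
  obtain ⟨τ₀, hτ₀⟩ := spMap_surjective ((P T).hom ≫ τS.hom ≫ (P T).inv)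
  have hτbij : Function.Bijective τ₀ := bijective_of_isIso_spMap (by
    rw [hτ₀]
    exact ((P T) ≪≫ τS ≪≫ (P T).symm).isIso_hom)
  let τ := AlgEquiv.ofBijective τ₀ hτbij
  have hτ : ∀ x : T, τ (x ⊗ₜ 1) = x ⊗ₜ 1 := fun x => by
    have h : τ₀.comp Algebra.TensorProduct.includeLeft = Algebra.TensorProduct.includeLeft := spMap_injective (by
      rw [spMap_comp, hτ₀, ← hPf, Category.assoc, Category.assoc, Iso.inv_hom_id_assoc]
      simp only [τS, lift_fst])
    exact AlgHom.congr_fun h x
  -- the glued scheme and its charts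
  obtain ⟨A, _, _, _, _, π₁, π₂, hcompat, hb₁, hb₂⟩ := exists_glued hRR q₁ τ hτ
  let t₁ : Sp R Rf ⊗ G ⟶ Sp R A := (P Rf).inv ≫ spMap π₁
  let t₂ : Sp R S ⊗ G ⟶ Sp R A := (P S).inv ≫ spMap π₂
  have hiso : ∀ {B : Type u} [CommRing B] [Algebra R B] (π : A →ₐ[R] B ⊗[R] H),
      Function.Bijective (Algebra.TensorProduct.lift (Algebra.TensorProduct.includeLeft : B →ₐ[R] B ⊗[R] H) π
        fun _ _ => Commute.all _ _) → IsIso (lift (fst (Sp R B) G) ((P B).inv ≫ spMap π)) := fun {B} _ _ π hb => by
    haveI := isIso_spMap hb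
    have h : lift (fst (Sp R B) G) ((P B).inv ≫ spMap π) = (P B).inv ≫
        spMap (Algebra.TensorProduct.lift (Algebra.TensorProduct.includeLeft : B →ₐ[R] B ⊗[R] H) π
          fun _ _ => Commute.all _ _) ≫ spProd B A := by
      refine CartesianMonoidalCategory.hom_ext _ _ ?_ ?_
      · rw [lift_fst, Category.assoc, Category.assoc, spProd_fst, ← spMap_comp,
          Algebra.TensorProduct.lift_comp_includeLeft, ← hPf, Iso.inv_hom_id_assoc]
      · rw [lift_snd, Category.assoc, Category.assoc, spProd_snd, ← spMap_comp]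
        congr 2
        exact AlgHom.ext fun a => by simp
    rw [h]; infer_instance
  haveI : IsIso (lift (fst (Sp R Rf) G) t₁) := hiso π₁ hb₁
  haveI : IsIso (lift (fst (Sp R S) G) t₂) := hiso π₂ hb₂
  let p₁ := spMap q₁
  let p₂ := spMap (IsScalarTower.toAlgHom R S T)
  have hc : ∀ (V : Over (Spec (CommRingCat.of R))) (w : V ⟶ Sp R T) (y : V ⟶ G),
      lift (w ≫ p₂) y ≫ t₂ = lift (w ≫ p₁) (y * (w ≫ g)) ≫ t₁ := fun V w y => by
    have hw : ∀ {B : Type u} [CommRing B] [Algebra R B] (q : B →ₐ[R] T) (π : A →ₐ[R] B ⊗[R] H),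
        (spMap q ▷ G) ≫ (P B).inv ≫ spMap π =
          (P T).inv ≫ spMap ((Algebra.TensorProduct.map q (AlgHom.id R H)).comp π) := fun q π => by
      rw [spMap_comp, ← cancel_epi (P T).hom, Iso.hom_inv_id_assoc, ← Category.assoc, hPw, Category.assoc,
        Iso.hom_inv_id_assoc]
    have key : (p₂ ▷ G) ≫ t₂ = τS.hom ≫ (p₁ ▷ G) ≫ t₁ := by
      rw [hw, hw, hcompat, spMap_comp, show spMap τ.toAlgHom = spMap τ₀ from rfl, hτ₀]
      simp only [Category.assoc, Iso.inv_hom_id_assoc]
    have h := congrArg (lift w y ≫ ·) key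
    simp only [lift_whiskerRight_assoc, τS, comp_lift_assoc, MonObj.comp_mul, lift_fst, lift_snd, lift_fst_assoc] at h
    exact h
  obtain ⟨a, hpseudo, hsec⟩ := exists_action_of_charts (p₁ := p₁) (p₂ := p₂) IsFlatAffine isFlatAffine_unit
    ⟨H, inferInstance, inferInstance, inferInstance, ⟨eG⟩⟩ (isFlatAffine_sp (C := A)) (fun hA hB => hA.tensor hB)
    (fun W hW => glueHom_of_isFlatAffine hex hW A (Iso.refl _))
    (fun W hW => glueHom_of_isFlatAffine hex hW H eG) g t₁ t₂ hc
  -- the glued scheme is a torsor with a rational point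
  let x₁ : Sp R Rf ⟶ Sp R A := lift (𝟙 _) (toUnit _ ≫ η[G]) ≫ t₁
  let x₂ : Sp R S ⟶ Sp R A := lift (𝟙 _) (toUnit _ ≫ η[G]) ≫ t₂
  let Xhom : Spec (CommRingCat.of A) ⟶ Spec (CommRingCat.of R) := Spec.map (CommRingCat.ofHom (algebraMap R A))
  have hsurj : Surjective Xhom := ⟨fun p => by
    by_cases hp : r ∈ p.asIdeal
    · obtain ⟨y, hy⟩ := hcov p hp
      exact ⟨x₂.left.base y, (congrArg (fun k : (Sp R S).left ⟶ _ => k.base y) (Over.w x₂)).trans hy⟩
    · have hp' : p ∈ Set.range (PrimeSpectrum.comap (algebraMap R Rf)) := by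
        rw [PrimeSpectrum.localization_away_comap_range Rf r]; exact hp
      obtain ⟨y, hy⟩ := hp'
      exact ⟨x₁.left.base y, (congrArg (fun k : (Sp R Rf).left ⟶ _ => k.base y) (Over.w x₁)).trans hy⟩⟩
  have htors : NonAbH1.IsTorsorFor Scheme.fppfPrecoverage a := by
    refine ⟨hpseudo, Presieve.singleton Xhom, ?_, ?_⟩
    · refine (Scheme.singleton_mem_precoverage_iff _ Xhom).2 ⟨Xhom.surjective, ?_, ?_⟩
      · exact (HasRingHomProperty.Spec_iff (P := @Flat)).2 (RingHom.flat_algebraMap_iff.2 inferInstance)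
      · exact (HasRingHomProperty.Spec_iff (P := @LocallyOfFinitePresentation)).2
          (RingHom.finitePresentation_algebraMap.2 inferInstance)
    · rintro _ _ ⟨⟩
      exact ⟨𝟙 _, Category.id_comp _⟩
  have hK : NonAbH1.HasSectionOver (Sp R A) (Spec.map (CommRingCat.ofHom (algebraMap R (FractionRing R)))) := by
    have hu : IsUnit (algebraMap R (FractionRing R) r) :=
      isUnit_iff_ne_zero.2 ((map_ne_zero_iff _ (IsFractionRing.injective R (FractionRing R))).2 hr)
    let j : Rf →+* FractionRing R := IsLocalization.Away.lift r hu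
    refine ⟨Spec.map (CommRingCat.ofHom j) ≫ x₁.left, ?_⟩
    rw [Category.assoc, Over.w x₁]
    show Spec.map _ ≫ Spec.map _ = _
    rw [← Spec.map_comp, ← CommRingCat.ofHom_comp, IsLocalization.Away.lift_comp]
  obtain ⟨s, hs⟩ := hGS (Sp R A) a htors hK
  exact hsec (Over.homMk s hs)

theorem aux (R : Type u) [CommRing R] [IsRegularLocalRing R] [IsDomain R] (r : R) (hr : r ≠ 0)
    (G : Over (Spec (CommRingCat.of R))) [GrpObj G] (hG : Red.IsReductive G)
    (hGS : ∀ (X : Over (Spec (CommRingCat.of R))) (a : AlgGrp.Action G X),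
      NonAbH1.IsTorsorFor Scheme.fppfPrecoverage a →
      NonAbH1.HasSectionOver X (Spec.map (CommRingCat.ofHom (algebraMap R (FractionRing R)))) →
      NonAbH1.HasSectionOver X (𝟙 (Spec (CommRingCat.of R))))
    (g : Spec (CommRingCat.of (Localization.Away
            (algebraMap R (AdicCompletion (Ideal.span {r}) R) r))) ⟶ G.left)
    (hg : g ≫ G.hom = Spec.map (CommRingCat.ofHom (algebraMap R (Localization.Away
            (algebraMap R (AdicCompletion (Ideal.span {r}) R) r))))) :
    ∃ (g₁ : Spec (CommRingCat.of (Localization.Away r)) ⟶ G.left)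
      (g₂ : Spec (CommRingCat.of (AdicCompletion (Ideal.span {r}) R)) ⟶ G.left)
      (h : Spec (CommRingCat.of (Localization.Away
            (algebraMap R (AdicCompletion (Ideal.span {r}) R) r))) ⟶ (G ⊗ G).left),
      g₁ ≫ G.hom = Spec.map (CommRingCat.ofHom (algebraMap R (Localization.Away r))) ∧
      g₂ ≫ G.hom = Spec.map (CommRingCat.ofHom (algebraMap R (AdicCompletion (Ideal.span {r}) R))) ∧
      h ≫ (fst G G).left = Spec.map (CommRingCat.ofHom (algebraMap (AdicCompletion (Ideal.span {r}) R)
                (Localization.Away (algebraMap R (AdicCompletion (Ideal.span {r}) R) r)))) ≫ g₂ ∧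
      h ≫ (snd G G).left = Spec.map (CommRingCat.ofHom (Localization.awayMap
                (algebraMap R (AdicCompletion (Ideal.span {r}) R)) r)) ≫ g₁ ∧
      g = h ≫ (μ[G]).left := by
  obtain ⟨haff, hsm, -⟩ := hG
  haveI := haff
  haveI := hsm
  haveI : IsAffine G.left := isAffine_of_isAffineHom G.hom
  have hRR := isGlueingPair_completion r hr
  let q₁ : Localization.Away r →ₐ[R] Localization.Away (algebraMap R (AdicCompletion (Ideal.span {r}) R) r) :=
    { Localization.awayMap (algebraMap R (AdicCompletion (Ideal.span {r}) R)) r with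
      commutes' := fun x => by
        show Localization.awayMap (algebraMap R (AdicCompletion (Ideal.span {r}) R)) r _ = _
        exact (IsLocalization.map_eq _ x).trans (IsScalarTower.algebraMap_apply R (AdicCompletion (Ideal.span {r}) R)
          (Localization.Away (algebraMap R (AdicCompletion (Ideal.span {r}) R) r)) x).symm }
  have hex : CoverExact q₁ (IsScalarTower.toAlgHom R (AdicCompletion (Ideal.span {r}) R) _) := by
    refine ⟨fun x h₁ h₂ => hRR.2.1 (Prod.ext (h₂.trans (map_zero _).symm) (h₁.trans (map_zero _).symm)),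
      fun x₁ x₂ h => ?_⟩
    obtain ⟨x, hx₂, hx₁⟩ := hRR.2.2.1 x₂ x₁ h.symm
    exact ⟨x, hx₁, hx₂⟩
  have hcov : ∀ p : PrimeSpectrum R, r ∈ p.asIdeal →
      p ∈ Set.range (PrimeSpectrum.comap (algebraMap R (AdicCompletion (Ideal.span {r}) R))) := fun p hp => by
    obtain ⟨q, hq⟩ : p ∈ Set.range (PrimeSpectrum.comap (Ideal.Quotient.mk (Ideal.span {r}))) := by
      rw [range_comap_of_surjective _ _ Ideal.Quotient.mk_surjective, Ideal.mk_ker]
      exact (Ideal.span_singleton_le_iff_mem _).2 hp
    refine ⟨PrimeSpectrum.comap (AdicCompletion.evalOneₐ (Ideal.span {r})).toRingHom q, ?_⟩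
    rw [← hq, ← AdicCompletion.evalOneₐ_comp_algebraMap_eq_mk, PrimeSpectrum.comap_comp]
    rfl
  obtain ⟨a₁, a₂, hfac⟩ := exists_glued_section r hr hRR q₁ hex hcov G inferInstance inferInstance hGS
    (Over.homMk g hg)
  let p₁ := spMap q₁
  let p₂ := spMap (IsScalarTower.toAlgHom R (AdicCompletion (Ideal.span {r}) R)
    (Localization.Away (algebraMap R (AdicCompletion (Ideal.span {r}) R) r)))
  let h := lift (p₂ ≫ a₂⁻¹) (p₁ ≫ a₁)
  refine ⟨a₁.left, (a₂⁻¹).left, h.left, Over.w a₁, Over.w (a₂⁻¹), ?_, ?_, ?_⟩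
  · exact congrArg CommaMorphism.left (lift_fst (p₂ ≫ a₂⁻¹) (p₁ ≫ a₁))
  · exact congrArg CommaMorphism.left (lift_snd (p₂ ≫ a₂⁻¹) (p₁ ≫ a₁))
  · rw [← GrpObj.comp_inv, Hom.mul_def] at hfac
    exact congrArg CommaMorphism.left hfac

/-- Let R be a regular local ring with fraction field K, r ∈ R, R̂ the r-adic completion of R, and G a
reductive R-group scheme. Assume the Grothendieck–Serre statement for R and G: every G-torsor for
the fppf topology over Spec R that has a K-point has a section. Then G(R̂[1/r]) = G(R̂) · G(R[1/r]):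
every point g of G over R̂[1/r] is the product, in the group of R̂[1/r]-points, of the restriction
of an R̂-point g₂ and the restriction of an R[1/r]-point g₁; the product is written through the pair
morphism h = (g₂, g₁) into G ×_R G followed by the multiplication of G. (The published statement is
the implication from the Grothendieck–Serre conjecture; only its instance for this R and this G
enters the proof, so that instance is the hypothesis here.) -/
theorem result (R : Type u) [CommRing R] [IsRegularLocalRing R] (r : R)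
    (G : Over (Spec (CommRingCat.of R))) [GrpObj G] (hG : Red.IsReductive G)
    (hGS : ∀ (X : Over (Spec (CommRingCat.of R))) (a : AlgGrp.Action G X),
      NonAbH1.IsTorsorFor Scheme.fppfPrecoverage a →
      NonAbH1.HasSectionOver X (Spec.map (CommRingCat.ofHom (algebraMap R (FractionRing R)))) →
      NonAbH1.HasSectionOver X (𝟙 (Spec (CommRingCat.of R))))
    (g : Spec (CommRingCat.of (Localization.Away
            (algebraMap R (AdicCompletion (Ideal.span {r}) R) r))) ⟶ G.left)
    (hg : g ≫ G.hom = Spec.map (CommRingCat.ofHom (algebraMap R (Localization.Away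
            (algebraMap R (AdicCompletion (Ideal.span {r}) R) r))))) :
    ∃ (g₁ : Spec (CommRingCat.of (Localization.Away r)) ⟶ G.left)
      (g₂ : Spec (CommRingCat.of (AdicCompletion (Ideal.span {r}) R)) ⟶ G.left)
      (h : Spec (CommRingCat.of (Localization.Away
            (algebraMap R (AdicCompletion (Ideal.span {r}) R) r))) ⟶ (G ⊗ G).left),
      g₁ ≫ G.hom = Spec.map (CommRingCat.ofHom (algebraMap R (Localization.Away r))) ∧
      g₂ ≫ G.hom = Spec.map (CommRingCat.ofHom (algebraMap R (AdicCompletion (Ideal.span {r}) R))) ∧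
      h ≫ (fst G G).left = Spec.map (CommRingCat.ofHom (algebraMap (AdicCompletion (Ideal.span {r}) R)
                (Localization.Away (algebraMap R (AdicCompletion (Ideal.span {r}) R) r)))) ≫ g₂ ∧
      h ≫ (snd G G).left = Spec.map (CommRingCat.ofHom (Localization.awayMap
                (algebraMap R (AdicCompletion (Ideal.span {r}) R)) r)) ≫ g₁ ∧
      g = h ≫ (μ[G]).left := by
  haveI : IsDomain R := GrothLib.CMFree.isDomain_of_isRegularLocalRing R
  by_cases hr : r = 0
  · haveI : Subsingleton (Localization.Away (algebraMap R (AdicCompletion (Ideal.span {r}) R) r)) :=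
      IsLocalization.subsingleton (M := Submonoid.powers (algebraMap R (AdicCompletion (Ideal.span {r}) R) r))
        (R := AdicCompletion (Ideal.span {r}) R) (by subst hr; exact ⟨1, by simp⟩)
    haveI : IsEmpty (Spec (CommRingCat.of (Localization.Away (algebraMap R (AdicCompletion (Ideal.span {r}) R) r)))) :=
      inferInstanceAs (IsEmpty (PrimeSpectrum _))
    have hext : ∀ {Y : Scheme.{u}} (a b : Spec (CommRingCat.of (Localization.Away
        (algebraMap R (AdicCompletion (Ideal.span {r}) R) r))) ⟶ Y), a = b :=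
      fun a b => (isInitialOfIsEmpty).hom_ext a b
    refine ⟨Spec.map (CommRingCat.ofHom (algebraMap R (Localization.Away r))) ≫ (η[G]).left,
      Spec.map (CommRingCat.ofHom (algebraMap R (AdicCompletion (Ideal.span {r}) R))) ≫ (η[G]).left,
      Spec.map (CommRingCat.ofHom (algebraMap R (Localization.Away
        (algebraMap R (AdicCompletion (Ideal.span {r}) R) r)))) ≫ (lift η[G] η[G]).left,
      ?_, ?_, hext _ _, hext _ _, hext _ _⟩
    · rw [Category.assoc, Over.w η[G]]
      exact Category.comp_id _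
    · rw [Category.assoc, Over.w η[G]]
      exact Category.comp_id _
  · exact aux R r hr G hG hGS g hg

end Groth.Agent.S14737
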