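import Groth.Statements.S14738
import Mathlib
import Groth.Agent.Lib.SemiPrufer.Spec
-- import your own Groth.Agent.* helpers here

set_option autoImplicit false
universe u
open ValPrufer

namespace Groth.Agent.S14738

/-- Let R be a semilocal Prüfer domain (an integral domain with finitely many maximal ideals whose
localisations at primes are valuation rings) of finite Krull dimension, and m a maximal ideal of R.
Then there is a ∈ R with V(a) = {m}, i.e. m is the only prime ideal containing a, and there is b ∉ m
such that R[1/b] is the localisation R_m (every element outside m becomes invertible after inverting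
b); consequently the spectra of the local rings R_m form a Zariski open covering of Spec R. (The
published remark assumes positive Krull dimension to construct a; for R a field the assertions hold
with a = 0 and b = 1. It also takes b to be the product of the elements a_n chosen in the same way
for the other maximal ideals n; that choice fails as soon as a non-maximal prime lies in another
maximal ideal but not in m, e.g. for the intersection of two independent rank-two valuation rings of
a field, so this row asserts only that some such b exists.) -/
theorem result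
    (R : Type u) [CommRing R] [IsDomain R]
    (hR : ∀ (p : Ideal R) [p.IsPrime], ValuationRing (Localization.AtPrime p))
    (hfin : Finite (MaximalSpectrum R)) (hdim : ringKrullDim R < ⊤)
    (m : Ideal R) [m.IsMaximal] :
    (∃ a : R, ∀ (p : Ideal R), p.IsPrime → (a ∈ p ↔ p = m)) ∧
      ∃ b : R, b ∉ m ∧ IsLocalization.AtPrime (Localization.Away b) m := by
  classical
  haveI := GrothLib.SemiPrufer.finite_primeSpectrum hR hfin hdim
  haveI := Fintype.ofFinite (PrimeSpectrum R)
  constructor
  · let s := Finset.univ.filter fun p : PrimeSpectrum R => p.asIdeal ≠ m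
    have hns : ¬ (m : Set R) ⊆ ⋃ p ∈ (↑s : Set (PrimeSpectrum R)), (p.asIdeal : Set R) := by
      rw [Ideal.subset_union_prime (f := fun p : PrimeSpectrum R => p.asIdeal)
        (⟨m, inferInstance⟩ : PrimeSpectrum R) (⟨m, inferInstance⟩ : PrimeSpectrum R)
        (fun p _ _ _ => p.isPrime)]
      rintro ⟨p, hp, hle⟩
      exact (Finset.mem_filter.1 hp).2
        ((Ideal.IsMaximal.eq_of_le inferInstance p.isPrime.ne_top hle).symm)
    obtain ⟨a, ham, ha⟩ := Set.not_subset.1 hns
    refine ⟨a, fun p hp => ⟨fun hap => ?_, fun h => h ▸ ham⟩⟩
    by_contra hne
    exact ha (Set.mem_biUnion (Finset.mem_filter.2 ⟨Finset.mem_univ (⟨p, hp⟩ : PrimeSpectrum R), hne⟩)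
      hap)
  · let s := Finset.univ.filter fun p : PrimeSpectrum R => ¬ p.asIdeal ≤ m
    have hns : ¬ s.inf (fun p => p.asIdeal) ≤ m := by
      rw [(inferInstance : m.IsMaximal).isPrime.inf_le']
      rintro ⟨p, hp, hle⟩
      exact (Finset.mem_filter.1 hp).2 hle
    obtain ⟨b, hb, hbm⟩ := Set.not_subset.1 hns
    refine ⟨b, hbm, IsLocalization.of_le (Submonoid.powers b) m.primeCompl
      (Submonoid.powers_le.2 hbm) fun r hr => ?_⟩
    by_contra hu
    obtain ⟨M, hM, hrM⟩ := exists_max_ideal_of_mem_nonunits hu
    haveI := hM.isPrime
    have hbM : algebraMap R (Localization.Away b) b ∉ M := fun h =>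
      hM.ne_top (Ideal.eq_top_of_isUnit_mem M h
        (IsLocalization.Away.algebraMap_isUnit b))
    by_cases hle : M.comap (algebraMap R (Localization.Away b)) ≤ m
    · exact hr (hle hrM)
    · exact hbM ((Finset.inf_le (f := fun p : PrimeSpectrum R => p.asIdeal)
        (Finset.mem_filter.2 ⟨Finset.mem_univ
          (⟨M.comap (algebraMap R (Localization.Away b)), inferInstance⟩ : PrimeSpectrum R), hle⟩))
        hb)

end Groth.Agent.S14738
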