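import Groth.Statements.S14740
import Mathlib
import Groth.Agent.Lib.SemiPrufer.Vanish
import Groth.Agent.Lib.OX.Tensor
import Groth.Agent.Lib.OX.LocFreeTensor
-- import your own Groth.Agent.* helpers here

set_option autoImplicit false
universe u
open CategoryTheory AlgebraicGeometry MonoidalCategory
open ValPrufer

set_option backward.isDefEq.respectTransparency false

namespace Groth.Agent.S14740

/-- Let R be a semilocal Prüfer domain (an integral domain with finitely many maximal ideals whose
localisations at primes are valuation rings) of finite Krull dimension, m ≥ 1, X a closed subscheme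
of projective (m-1)-space over R which is flat over R, O_X(1) the pullback of O(1), and φ : F ⟶ G an
epimorphism of finitely presented (equivalently, coherent) O_X-modules. Then there is N such that
for every n ≥ N the map induced by φ on global sections of the twists, Γ(X, F ⊗ O_X(1)^{⊗ n}) → Γ(X,
G ⊗ O_X(1)^{⊗ n}), is surjective. -/
theorem result
    (R : Type u) [CommRing R] [IsDomain R]
    (hR : ∀ (p : Ideal R) [p.IsPrime], ValuationRing (Localization.AtPrime p))
    (hfin : Finite (MaximalSpectrum R)) (hdim : ringKrullDim R < ⊤)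
    (m : ℕ) (hm : 1 ≤ m) (X : Scheme.{u}) (ι : X ⟶ CohB1.ProjSpace (m - 1) R) [IsClosedImmersion ι]
    [Flat (ι ≫ CohB1.ProjSpace.toSpec (m - 1) R)]
    (F G : X.Modules) (hF : CohB1.IsFP F) (hG : CohB1.IsFP G) (φ : F ⟶ G) [Epi φ] :
    ∃ N : ℕ, ∀ n : ℕ, N ≤ n →
      Function.Surjective (((CohB1.sheafifyMod X).map (MonoidalCategoryStruct.whiskerRight (C := CohB1.PMod X)
        φ.val (CohB1.toPMod (CohB1.tensorPow ((Scheme.Modules.pullback ι).obj (Twist.twistProjSpace (m - 1) R 1)) n)))).val.app (Opposite.op ⊤)).hom := by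
  let s := CohB1.ProjSpace.toSpec (m - 1) R
  haveI : Smooth s := GrothLib.CurveMult.smooth_toSpec (m - 1) R
  haveI : LocallyOfFiniteType (ι ≫ s) := inferInstance
  let L := (Scheme.Modules.pullback ι).obj (Twist.twistProjSpace (m - 1) R 1)
  have hL : PicF.IsInvertible L :=
    GrothLib.Ample.isInvertible_pullback ι (GrothLib.Ample.isAmple_twistProjSpace_one (m - 1) R).1
  haveI := GrothLib.SemiPrufer.qcoh_of_isFP hF
  haveI := GrothLib.SemiPrufer.qcoh_of_isFP hG
  have hK := GrothLib.SemiPrufer.isFP_kernel hR (ι ≫ s) F G hF hG φ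
  obtain ⟨N, hN⟩ := GrothLib.SemiPrufer.exists_vanishing hR (m - 1) ι (Limits.kernel φ) hK
  refine ⟨N, fun n hn => ?_⟩
  let S : ShortComplex X.Modules := ShortComplex.mk (Limits.kernel.ι φ) φ (Limits.kernel.condition φ)
  have hS : S.ShortExact := { exact := ShortComplex.exact_kernel φ }
  have hflat : FlatMod.IsFlat (CohB1.tensorPow L n) :=
    GrothLib.OX.flat_of_isFinLocFree (GrothLib.Euler.isFinLocFree_of_isInvertible
      (GrothLib.Ample.isInvertible_tensorPow hL n))
  exact GrothLib.SemiPrufer.Tw.surjective_app_top (GrothLib.OX.tensor_map_shortExact hflat hS)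
    (hN n hn 1 le_rfl)

end Groth.Agent.S14740
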