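import Groth.Statements.S14741
import Mathlib
import Groth.Agent.S0010
import Groth.Agent.Lib.Ample.ProjMap
-- import your own Groth.Agent.* helpers here

set_option autoImplicit false
universe u
open CategoryTheory AlgebraicGeometry
open ValPrufer

open CategoryTheory AlgebraicGeometry

set_option backward.isDefEq.respectTransparency false

namespace Groth.Agent.S14741

/-- Let R be a semilocal Prüfer domain (an integral domain with finitely many maximal ideals whose
localisations at primes are valuation rings) of finite Krull dimension, m ≥ 1, X a closed subscheme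
of projective (m-1)-space over R which is flat over R, and F a finitely presented (equivalently,
coherent) O_X-module. Then H^q(X, F) = 0 for all q > m. -/
theorem result
    (R : Type u) [CommRing R] [IsDomain R]
    (hR : ∀ (p : Ideal R) [p.IsPrime], ValuationRing (Localization.AtPrime p))
    (hfin : Finite (MaximalSpectrum R)) (hdim : ringKrullDim R < ⊤)
    (m : ℕ) (hm : 1 ≤ m) (X : Scheme.{u}) (ι : X ⟶ CohB1.ProjSpace (m - 1) R) [IsClosedImmersion ι]
    [Flat (ι ≫ CohB1.ProjSpace.toSpec (m - 1) R)]
    (F : X.Modules) (hF : CohB1.IsFP F) (q : ℕ) (hq : m < q) :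
    Subsingleton (Coh.HH X F q) := by
  let P := CohB1.ProjSpace (m - 1) R
  haveI : IsSeparated (CohB1.ProjSpace.toSpec (m - 1) R) := by
    delta CohB1.ProjSpace.toSpec
    infer_instance
  haveI : P.IsSeparated := by
    constructor
    rw [Limits.terminal.hom_ext (Limits.terminal.from P) (CohB1.ProjSpace.toSpec (m - 1) R ≫ Limits.terminal.from _)]
    infer_instance
  haveI : X.IsSeparated := by
    constructor
    rw [Limits.terminal.hom_ext (Limits.terminal.from X) (ι ≫ Limits.terminal.from P)]
    infer_instance
  haveI : SheafOfModules.IsFinitePresentation (R := X.ringCatSheaf) F := hF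
  haveI : Coh.IsQCoh F := inferInstance
  refine Groth.Agent.S0010.result X (m - 1 + 1)
    (fun i => ι ⁻¹ᵁ Proj.basicOpen (CohB1.polyGrading (m - 1) R) (MvPolynomial.X i))
    (fun i => (Proj.isAffineOpen_basicOpen (CohB1.polyGrading (m - 1) R) (MvPolynomial.X i)
      (GrothLib.Ample.ProjMap.X_mem i) one_pos).preimage ι) ?_ (fun V W hV hW => hV.inf hW) F q (by omega)
  have h := congrArg (fun O => ι ⁻¹ᵁ O) (GrothLib.Ample.ProjMap.iSup_basicOpen_X (m - 1) R)
  rw [← Scheme.Hom.preimage_iSup]
  exact h.trans (Scheme.Hom.preimage_top ι)

end Groth.Agent.S14741
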