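import Groth.Statements.S14742
import Mathlib
import Groth.Agent.Lib.NagataFP.Prufer
-- import your own Groth.Agent.* helpers here

set_option autoImplicit false
universe u
open ValPrufer

namespace Groth.Agent.S14742

/-- Let R be a Prüfer domain (an integral domain whose localisations at primes are valuation rings) and
A a finitely presented R-algebra. Then A is a coherent ring: every finitely generated ideal I of A
is finitely presented as an A-module. -/
theorem result
    (R : Type u) [CommRing R] [IsDomain R]
    (hR : ∀ (p : Ideal R) [p.IsPrime], ValuationRing (Localization.AtPrime p))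
    (A : Type u) [CommRing A] [Algebra R A] [Algebra.FinitePresentation R A]
    (I : Ideal A) (hI : I.FG) : Module.FinitePresentation A I := by
  classical
  obtain ⟨n, f, hf, hker⟩ := Algebra.FinitePresentation.out (R := R) (A := A)
  let P := MvPolynomial (Fin n) R
  letI : Algebra P A := f.toRingHom.toAlgebra
  have hsurj : Function.Surjective (algebraMap P A) := hf
  let J : Ideal P := I.comap (algebraMap P A)
  haveI : Module.FinitePresentation P J := by
    have hJfg : J.FG := by
      obtain ⟨s, hs⟩ := hI
      choose g hg using fun x : A => hf x
      have hJ : J = Ideal.span (g '' (s : Set A)) ⊔ RingHom.ker (algebraMap P A) := by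
        apply le_antisymm
        · intro x hx
          have hx' : algebraMap P A x ∈ (Ideal.span (g '' (s : Set A))).map (algebraMap P A) := by
            rw [Ideal.map_span, ← Set.image_comp, show (algebraMap P A) ∘ g = id from funext hg,
              Set.image_id]
            exact hs.ge hx
          obtain ⟨y, hy, hxy⟩ := (Ideal.mem_map_iff_of_surjective _ hsurj).1 hx'
          have hxy' : x - y ∈ RingHom.ker (algebraMap P A) := by
            rw [RingHom.mem_ker, map_sub, hxy, sub_self]
          exact Submodule.mem_sup.2 ⟨y, hy, x - y, hxy', add_sub_cancel y x⟩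
        · refine sup_le (Ideal.span_le.2 ?_) fun x hx => ?_
          · rintro _ ⟨x, hx, rfl⟩
            show algebraMap P A (g x) ∈ I
            rw [show algebraMap P A (g x) = x from hg x]
            exact hs.le (Ideal.subset_span hx)
          · show algebraMap P A x ∈ I
            rw [RingHom.mem_ker.1 hx]
            exact I.zero_mem
      rw [hJ]
      exact Submodule.FG.sup ⟨s.image g, by rw [Finset.coe_image]⟩ hker
    haveI : Module.Finite P J := Module.Finite.iff_fg.2 hJfg
    refine GrothLib.NagataFP.finitePresentation_of_prufer hR fun a m ha h => ?_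
    refine Subtype.ext ?_
    have h' : (MvPolynomial.C a : P) * m.1 = 0 := congrArg Subtype.val h
    rcases mul_eq_zero.1 h' with h'' | h''
    · exact absurd (MvPolynomial.C_injective (Fin n) R (h''.trans MvPolynomial.C_0.symm)) ha
    · exact h''
  let ψ : J →ₗ[P] I :=
    { toFun := fun x => ⟨algebraMap P A x.1, x.2⟩
      map_add' := fun x y => Subtype.ext (map_add _ _ _)
      map_smul' := fun r x => Subtype.ext ((map_mul (algebraMap P A) r x.1).trans (Algebra.smul_def r _).symm) }
  have hψ : Function.Surjective ψ := fun y => by
    obtain ⟨x, hx⟩ := hsurj y.1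
    exact ⟨⟨x, show algebraMap P A x ∈ I from hx ▸ y.2⟩, Subtype.ext hx⟩
  haveI : Module.FinitePresentation P I := by
    refine Module.finitePresentation_of_surjective ψ hψ ?_
    haveI : Module.Finite P (RingHom.ker (algebraMap P A)) := Module.Finite.iff_fg.2 hker
    let incl : RingHom.ker (algebraMap P A) →ₗ[P] J :=
      { toFun := fun x => ⟨x.1, show algebraMap P A x.1 ∈ I by rw [RingHom.mem_ker.1 x.2]; exact I.zero_mem⟩
        map_add' := fun _ _ => rfl
        map_smul' := fun _ _ => rfl }
    have hk : LinearMap.ker ψ = LinearMap.range incl := by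
      refine le_antisymm (fun x hx => ⟨⟨x.1, congrArg Subtype.val hx⟩, rfl⟩) ?_
      rintro _ ⟨x, rfl⟩
      exact Subtype.ext x.2
    rw [hk]
    exact Module.Finite.iff_fg.1 inferInstance
  refine FinitePresentation.of_isBaseChange (A := A) (LinearMap.id (R := P) (M := I)) ?_
  refine IsBaseChange.of_lift_unique _ fun Q _ _ _ _ g => ?_
  refine ⟨{ g with map_smul' := fun a x => ?_ }, LinearMap.ext fun _ => rfl, fun h hh => ?_⟩
  · obtain ⟨a', rfl⟩ := hsurj a
    show g (algebraMap P A a' • x) = algebraMap P A a' • g x
    rw [algebraMap_smul, algebraMap_smul, map_smul]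
  · exact LinearMap.ext fun x => LinearMap.congr_fun hh x

end Groth.Agent.S14742
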