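import Groth.Statements.S14743
import Groth.Agent.Lib.GrpSchField.Points

set_option autoImplicit false
universe u
open CategoryTheory MonoidalCategory CartesianMonoidalCategory MonObj GrpObj AlgebraicGeometry
open AlgGrp

namespace Groth.Agent.S14743

/-- Over an algebraically closed field k let L, G, B be commutative k-group schemes, i : L → G and π : G
→ B homomorphisms with i the kernel of π, and suppose that every k-morphism B × B → L is constant
(factors through a k-point of L). If π admits a section which is a morphism of k-schemes, then it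
admits a section which is a homomorphism, so the extension splits. (The published statement is for
algebraic groups, that is, of finite type over k; finiteness plays no role and is not assumed here.) -/
theorem result (k : Type u) [Field k] [IsAlgClosed k]
    (L G B : Over (Spec (CommRingCat.of k))) [GrpObj L] [GrpObj G] [GrpObj B]
    [IsCommMonObj L] [IsCommMonObj G] [IsCommMonObj B]
    (i : L ⟶ G) [IsMonHom i] (π : G ⟶ B) [IsMonHom π] (hker : AlgGrp.IsKernel i π)
    (hconst : ∀ f : B ⊗ B ⟶ L, ∃ l : 𝟙_ (Over (Spec (CommRingCat.of k))) ⟶ L, f = toUnit (B ⊗ B) ≫ l)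
    (s : B ⟶ G) (hs : s ≫ π = 𝟙 B) :
    ∃ s' : B ⟶ G, IsMonHom s' ∧ s' ≫ π = 𝟙 B := by
  let c : B ⊗ B ⟶ G := ((fst B B * snd B B) ≫ s) * (fst B B ≫ s)⁻¹ * (snd B B ≫ s)⁻¹
  have hc : c ≫ π = 1 := by
    simp only [c, MonObj.mul_comp, GrpObj.inv_comp, Category.assoc, hs, Category.comp_id]
    rw [mul_inv_eq_iff_eq_mul, mul_inv_eq_iff_eq_mul, _root_.one_mul, mul_comm]
  obtain ⟨f, hf⟩ := GrothLib.GrpSchField.exists_lift_of_comp_eq_one hker c hc
  obtain ⟨l, hl⟩ := hconst f
  refine ⟨s * (toUnit B ≫ l ≫ i), ?_, ?_⟩
  · apply GrothLib.GrpSchField.isMonHom_of_mul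
    apply GrothLib.GrpSchField.hom_ext_points₂
    intro T x y
    have key : (x * y) ≫ s = (x ≫ s) * (y ≫ s) * (toUnit T ≫ l ≫ i) := by
      have h := congrArg (fun m => lift x y ≫ m) hf
      simp only [c, hl, MonObj.comp_mul, GrpObj.comp_inv, lift_fst_assoc, lift_snd_assoc,
        ← Category.assoc, lift_fst, lift_snd, comp_toUnit] at h
      simp only [← Category.assoc] at h ⊢
      rw [h]
      simp [mul_comm, mul_left_comm, _root_.mul_assoc]
    rw [← Category.assoc, ← Hom.mul_def, lift_map_assoc, ← Hom.mul_def]
    simp only [MonObj.comp_mul, ← Category.assoc, comp_toUnit]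
    rw [key]
    simp [mul_comm, mul_left_comm, _root_.mul_assoc]
  · rw [MonObj.mul_comp, hs, Category.assoc, Category.assoc, GrothLib.GrpSchField.comp_eq_one hker,
      MonObj.comp_one, MonObj.comp_one, _root_.mul_one]

end Groth.Agent.S14743
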