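import Groth.Statements.S14746
-- import your own Groth.Agent.* helpers here
import Groth.Agent.Lib.FixQuot24.Main

set_option autoImplicit false
universe u
open CategoryTheory MonoidalCategory CartesianMonoidalCategory MonObj GrpObj AlgebraicGeometry CategoryTheory.Limits
open AlgGrp

namespace Groth.Agent.S14746

/-- Over an algebraically closed field k let G be a k-group scheme of finite type, i : H → G a smooth
connected affine closed subgroup scheme, and X = G/H the quotient with its G-action, base point o
and orbit map G → X. Let σ be an endomorphism of G restricting to a surjective endomorphism τ of H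
and compatible with an endomorphism φ of X under the orbit map, and suppose σ has only finitely many
fixed k-points. Then the number of fixed k-points of σ equals the number of fixed k-points of τ
times the number of fixed k-points of φ. (The published statement allows any subgroup H and any
restriction τ; for the square roots of unity inside the multiplicative group and the cube map the
count fails, and the published proof applies the surjectivity of the Lang map h ↦ h⁻¹τ(h) of H, so H
is taken smooth, connected and affine and τ surjective here.) -/
theorem result (k : Type u) [Field k] [IsAlgClosed k]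
    (G H : Over (Spec (CommRingCat.of k))) [GrpObj G] [GrpObj H] [QuasiCompact G.hom] [LocallyOfFiniteType G.hom]
    (i : H ⟶ G) [IsMonHom i] [IsClosedImmersion i.left] [Smooth H.hom] [ConnectedSpace ↥H.left] [IsAffine H.left]
    (X : Over (Spec (CommRingCat.of k))) (a : AlgGrp.Action G X) (o : 𝟙_ (Over (Spec (CommRingCat.of k))) ⟶ X)
    (hX : AGF.IsQuotient i X a o)
    (σ : G ⟶ G) [IsMonHom σ] (τ : H ⟶ H) [IsMonHom τ] (hτ : τ ≫ i = i ≫ σ) (hτs : Surjective τ.left)
    (φ : X ⟶ X) (hφ : a.orbitMap o ≫ φ = σ ≫ a.orbitMap o)
    (hfin : Finite {g : 𝟙_ (Over (Spec (CommRingCat.of k))) ⟶ G // g ≫ σ = g}) :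
    Nat.card {g : 𝟙_ (Over (Spec (CommRingCat.of k))) ⟶ G // g ≫ σ = g} =
      Nat.card {h : 𝟙_ (Over (Spec (CommRingCat.of k))) ⟶ H // h ≫ τ = h} *
        Nat.card {x : 𝟙_ (Over (Spec (CommRingCat.of k))) ⟶ X // x ≫ φ = x} := by
  exact GrothLib.FixQuot24.card_eq τ i X a o hX σ hτ φ hφ hfin

end Groth.Agent.S14746
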