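import Groth.Statements.S14751
import Groth.Agent.Lib.Rigidity.Hom
import Groth.Agent.Lib.Rigidity.ProductGeneral
import Groth.Agent.Lib.Rigidity.SmoothGroup
import Groth.Agent.Lib.GrpSchField.Field
import Groth.Agent.Lib.GrpSchField.Points
-- import your own Groth.Agent.* helpers here

set_option autoImplicit false
universe u
open CategoryTheory CategoryTheory.Limits MonoidalCategory CartesianMonoidalCategory MonObj GrpObj AlgebraicGeometry
open AlgGrp

namespace Groth.Agent.S14751

section Aux

open CategoryTheory CategoryTheory.Limits AlgebraicGeometry MonoidalCategory CartesianMonoidalCategory MonObj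

variable {k : Type u} [Field k] {G N A Q : Over (Spec (CommRingCat.of k))} [GrpObj G] [GrpObj N] [GrpObj A] [GrpObj Q]

theorem comm_of_proper [IsAlgClosed k] [Smooth G.hom] [QuasiCompact G.hom] [ConnectedSpace G.left] (j : A ⟶ G) [IsMonHom j]
    [Smooth A.hom] [ConnectedSpace A.left] [IsProper A.hom] {T : Over (Spec (CommRingCat.of k))} (a : T ⟶ A)
    (g : T ⟶ G) : (a ≫ j) * g = g * (a ≫ j) := by
  haveI : IrreducibleSpace A.left := GrothLib.Rigidity.irreducibleSpace_of_connected A
  haveI : IrreducibleSpace G.left := GrothLib.Rigidity.irreducibleSpace_of_connected G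
  haveI : IsReduced A.left := GrothLib.Rigidity.isReduced_of_smooth A.hom
  haveI : IsReduced G.left := GrothLib.Rigidity.isReduced_of_smooth G.hom
  haveI : IsIntegral A.left := isIntegral_of_irreducibleSpace_of_isReduced _
  haveI : IsIntegral G.left := isIntegral_of_irreducibleSpace_of_isReduced _
  haveI : GeometricallyIntegral A.hom := GrothLib.Cube.geometricallyIntegral_of_isIntegral A.hom
  haveI : GeometricallyIntegral G.hom := GrothLib.Cube.geometricallyIntegral_of_isIntegral G.hom
  haveI : IsSeparated G.hom := GrothLib.GrpSchField.isSeparated G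
  let c : A ⊗ G ⟶ G := (fst A G ≫ j) * snd A G * (fst A G ≫ j)⁻¹ * (snd A G)⁻¹
  have hc : ∀ {T : Over (Spec (CommRingCat.of k))} (a : T ⟶ A) (g : T ⟶ G),
      lift a g ≫ c = (a ≫ j) * g * (a ≫ j)⁻¹ * g⁻¹ := fun a g => by
    simp only [c, MonObj.comp_mul, GrpObj.comp_inv, lift_fst_assoc, lift_snd]
  have h := GrothLib.Rigidity.eq_mul_of_slices c η[A] η[G] (by
    rw [hc, IsMonHom.one_hom]; group
    rw [Hom.one_def, show toUnit (𝟙_ (Over (Spec (CommRingCat.of k)))) = 𝟙 _ from toUnit_unique _ _, Category.id_comp])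
  have s1 : lift (𝟙 A) (toUnit A ≫ η[G]) ≫ c = 1 := by
    rw [hc, ← Hom.one_def]; group
  have s2 : lift (toUnit G ≫ η[A]) (𝟙 G) ≫ c = 1 := by
    rw [hc, Category.assoc, IsMonHom.one_hom, ← Hom.one_def]; group
  rw [s1, s2, MonObj.comp_one, MonObj.comp_one, _root_.one_mul] at h
  have e := hc a g
  rw [h, MonObj.comp_one] at e
  have e' : (a ≫ j) * g * (a ≫ j)⁻¹ * g⁻¹ = 1 := e.symm
  rwa [mul_inv_eq_one, mul_inv_eq_iff_eq_mul] at e'

theorem isMonHom_mul_of_comm {H : Over (Spec (CommRingCat.of k))} [GrpObj H] (u : H ⟶ G) (v : H ⟶ G)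
    [IsMonHom u] [IsMonHom v]
    (hc : ∀ {T : Over (Spec (CommRingCat.of k))} (x y : T ⟶ H), (x ≫ u) * (y ≫ v) = (y ≫ v) * (x ≫ u)) :
    IsMonHom (u * v) := by
  refine GrothLib.GrpSchField.isMonHom_of_mul _ ?_
  have e : μ[H] = fst H H * snd H H := by rw [Hom.mul_def, lift_fst_snd, Category.id_comp]
  have e' : (u * v) ⊗ₘ (u * v) = lift (fst H H ≫ (u * v)) (snd H H ≫ (u * v)) := by
    apply CartesianMonoidalCategory.hom_ext <;> simp
  rw [e', ← Hom.mul_def, e, MonObj.comp_mul, MonObj.mul_comp, MonObj.mul_comp, MonObj.comp_mul, MonObj.comp_mul]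
  rw [_root_.mul_assoc, ← _root_.mul_assoc (snd H H ≫ u), hc, _root_.mul_assoc, ← _root_.mul_assoc (fst H H ≫ u)]

theorem isFinite_of_kernel (i : N ⟶ G) [IsMonHom i] [IsClosedImmersion i.left] [IsAffine N.left]
    (j : A ⟶ G) [IsMonHom j] [IsClosedImmersion j.left] [IsProper A.hom] :
    IsFinite (pullback j i).hom := by
  have hP := (IsPullback.of_hasPullback j i).map (Over.forget (Spec (CommRingCat.of k)))
  haveI h1 : IsClosedImmersion (pullback.fst j i).left :=
    MorphismProperty.of_isPullback (P := @IsClosedImmersion) hP.flip (show IsClosedImmersion i.left from inferInstance)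
  haveI h2 : IsClosedImmersion (pullback.snd j i).left :=
    MorphismProperty.of_isPullback (P := @IsClosedImmersion) hP (show IsClosedImmersion j.left from inferInstance)
  haveI : IsAffineHom N.hom := inferInstance
  rw [IsFinite.iff_isProper_and_isAffineHom]
  exact ⟨by rw [← Over.w (pullback.fst j i)]; infer_instance, by rw [← Over.w (pullback.snd j i)]; infer_instance⟩

end Aux


/-- Over an algebraically closed field k let G be a group variety (smooth connected k-group scheme of
finite type), i : N → G an affine closed subgroup scheme which is the kernel of a flat surjective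
homomorphism π : G → Q, and j : A → G an abelian subvariety (a smooth connected proper closed
subgroup scheme) with A · N = G, that is, the multiplication A × N → G is surjective. Then the
multiplication A × N → G is a homomorphism and an isogeny (surjective with finite kernel), and so is
the composite A → G → Q. (In the published statement N is the largest connected affine normal
subgroup variety and Q = G/N the Albanese quotient; only the listed properties are used.) -/
theorem result (k : Type u) [Field k] [IsAlgClosed k]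
    (G N A Q : Over (Spec (CommRingCat.of k))) [GrpObj G] [GrpObj N] [GrpObj A] [GrpObj Q]
    [Smooth G.hom] [QuasiCompact G.hom] [ConnectedSpace ↥G.left]
    (i : N ⟶ G) [IsMonHom i] [IsClosedImmersion i.left] [IsAffine N.left]
    (π : G ⟶ Q) [IsMonHom π] [Flat π.left] [Surjective π.left] (hker : AlgGrp.IsKernel i π)
    (j : A ⟶ G) [IsMonHom j] [IsClosedImmersion j.left] [Smooth A.hom] [ConnectedSpace ↥A.left] [IsProper A.hom]
    (hsurj : Surjective ((j ⊗ₘ i) ≫ μ[G]).left) :
    IsMonHom ((j ⊗ₘ i) ≫ μ[G]) ∧ SGA7.IsIsogenyOver ((j ⊗ₘ i) ≫ μ[G]) ∧ SGA7.IsIsogenyOver (j ≫ π) := by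
  have hcen := @comm_of_proper k _ G A _ _ _ _ _ _ j _ _ _ _
  have hm : (j ⊗ₘ i) ≫ μ[G] = (fst A N ≫ j) * (snd A N ≫ i) := by
    rw [Hom.mul_def]
    congr 1
  haveI hmon : IsMonHom ((fst A N ≫ j) * (snd A N ≫ i)) :=
    isMonHom_mul_of_comm _ _ fun x y => by
      rw [← Category.assoc, ← Category.assoc]; exact hcen _ _
  haveI : IsMonHom ((j ⊗ₘ i) ≫ μ[G]) := hm ▸ hmon
  have hfin := isFinite_of_kernel i j
  have hiπ : i ≫ π = 1 := by
    rw [Hom.one_def]; exact hker.w
  refine ⟨inferInstance, ⟨hsurj, fun N' i' hN' => ?_⟩, ⟨?_, fun N' i' hN' => ?_⟩⟩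
  · rw [hm] at hN'
    replace hN' : IsPullback i' (toUnit N') ((fst A N ≫ j) * (snd A N ≫ i)) η[G] := hN'
    have e : (i' ≫ fst A N) ≫ j = (i' ≫ snd A N)⁻¹ ≫ i := by
      have := hN'.w
      rw [MonObj.comp_mul, ← Category.assoc, ← Category.assoc, ← Hom.one_def] at this
      rw [GrpObj.inv_comp]
      exact eq_inv_of_mul_eq_one_left this
    let l : N' ⟶ Limits.pullback j i := pullback.lift (i' ≫ fst A N) (i' ≫ snd A N)⁻¹ e
    let r : Limits.pullback j i ⟶ N' := hN'.lift (lift (pullback.fst j i) (pullback.snd j i)⁻¹) (toUnit _) (by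
      rw [MonObj.comp_mul, lift_fst_assoc, lift_snd_assoc, GrpObj.inv_comp, pullback.condition,
        _root_.mul_inv_cancel, Hom.one_def])
    haveI : IsIso l := ⟨r, hN'.hom_ext (by
        simp only [l, r, Category.assoc, IsPullback.lift_fst, comp_lift, GrpObj.comp_inv, pullback.lift_fst,
          pullback.lift_snd, _root_.inv_inv, Category.id_comp, lift_comp_fst_snd]) (toUnit_unique _ _),
      pullback.hom_ext
        (by rw [Category.assoc, pullback.lift_fst, ← Category.assoc, hN'.lift_fst, lift_fst, Category.id_comp])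
        (by rw [Category.assoc, pullback.lift_snd, GrpObj.comp_inv, ← Category.assoc, hN'.lift_fst, lift_snd,
          _root_.inv_inv, Category.id_comp])⟩
    haveI : IsIso l.left := inferInstanceAs (IsIso ((Over.forget _).map l))
    rw [← Over.w l]
    infer_instance
  · have : Surjective (((j ⊗ₘ i) ≫ μ[G]).left ≫ π.left) := inferInstance
    rw [← Over.comp_left, hm, MonObj.mul_comp, Category.assoc, Category.assoc, hiπ, MonObj.comp_one,
      _root_.mul_one, Over.comp_left] at this
    exact Surjective.of_comp (fst A N).left _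
  · replace hN' : IsPullback i' (toUnit N') (j ≫ π) η[Q] := hN'
    obtain ⟨n, hn⟩ : ∃ n : N' ⟶ N, n ≫ i = i' ≫ j := ⟨hker.lift (i' ≫ j) (toUnit _) (by
      rw [Category.assoc]; exact hN'.w), hker.lift_fst _ _ _⟩
    let l : N' ⟶ Limits.pullback j i := pullback.lift i' n hn.symm
    let r : Limits.pullback j i ⟶ N' := hN'.lift (pullback.fst j i) (toUnit _) (by
      rw [← Category.assoc, pullback.condition, Category.assoc, hker.w, ← Category.assoc, comp_toUnit])
    haveI : Mono i := (Over.forget _).mono_of_mono_map (inferInstanceAs (Mono i.left))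
    haveI : IsIso l := ⟨r, hN'.hom_ext (by
        rw [Category.assoc, hN'.lift_fst, pullback.lift_fst, Category.id_comp]) (toUnit_unique _ _),
      pullback.hom_ext (by rw [Category.assoc, pullback.lift_fst, hN'.lift_fst, Category.id_comp]) (by
        rw [← cancel_mono i, Category.assoc, Category.assoc, Category.id_comp]
        simp only [l, r, pullback.lift_snd_assoc]
        rw [hn, hN'.lift_fst_assoc, pullback.condition])⟩
    haveI : IsIso l.left := inferInstanceAs (IsIso ((Over.forget _).map l))
    rw [← Over.w l]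
    infer_instance


end Groth.Agent.S14751
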