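import Groth.Statements.S14754
import Groth.Agent.Lib.DiagGrp.CharProps
import Groth.Agent.Lib.DiagGrp.SubgroupEq
-- import your own Groth.Agent.* helpers here

set_option autoImplicit false
universe u
open CategoryTheory CategoryTheory.Limits MonoidalCategory CartesianMonoidalCategory MonObj GrpObj AlgebraicGeometry
open AlgGrp

namespace Groth.Agent.S14754

/-- Over an algebraically closed field k, every exact sequence of split tori splits: if K, G, Q are
split tori over k, i : K → G a closed subgroup scheme which is the kernel of a flat surjective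
homomorphism π : G → Q, then π has a section which is a homomorphism. -/
theorem result (k : Type u) [Field k] [IsAlgClosed k]
    (K G Q : Over (Spec (CommRingCat.of k))) [GrpObj K] [GrpObj G] [GrpObj Q] (nK nG nQ : ℕ)
    (hK : Red.IsSplitTorusWith (Fin nK → ℤ) K) (hG : Red.IsSplitTorusWith (Fin nG → ℤ) G)
    (hQ : Red.IsSplitTorusWith (Fin nQ → ℤ) Q)
    (i : K ⟶ G) [IsMonHom i] [IsClosedImmersion i.left]
    (π : G ⟶ Q) [IsMonHom π] [Flat π.left] [Surjective π.left] (hker : AlgGrp.IsKernel i π) :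
    ∃ s : Q ⟶ G, IsMonHom s ∧ s ≫ π = 𝟙 Q := by
  obtain ⟨eK⟩ := hK
  obtain ⟨eG⟩ := hG
  obtain ⟨eQ⟩ := hQ
  let a : Red.DS (Spec (CommRingCat.of k)) (Fin nK → ℤ) ⟶ K := eK.inv.hom.hom
  let a' : K ⟶ Red.DS (Spec (CommRingCat.of k)) (Fin nK → ℤ) := eK.hom.hom.hom
  let b : Red.DS (Spec (CommRingCat.of k)) (Fin nG → ℤ) ⟶ G := eG.inv.hom.hom
  let b' : G ⟶ Red.DS (Spec (CommRingCat.of k)) (Fin nG → ℤ) := eG.hom.hom.hom
  let c : Red.DS (Spec (CommRingCat.of k)) (Fin nQ → ℤ) ⟶ Q := eQ.inv.hom.hom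
  let c' : Q ⟶ Red.DS (Spec (CommRingCat.of k)) (Fin nQ → ℤ) := eQ.hom.hom.hom
  have ha : a ≫ a' = 𝟙 _ := congrArg (fun t => t.hom.hom) eK.inv_hom_id
  have hb : b ≫ b' = 𝟙 _ := congrArg (fun t => t.hom.hom) eG.inv_hom_id
  have hb' : b' ≫ b = 𝟙 _ := congrArg (fun t => t.hom.hom) eG.hom_inv_id
  have hc' : c' ≫ c = 𝟙 _ := congrArg (fun t => t.hom.hom) eQ.hom_inv_id
  have hc : c ≫ c' = 𝟙 _ := congrArg (fun t => t.hom.hom) eQ.inv_hom_id
  have ha' : a' ≫ a = 𝟙 _ := congrArg (fun t => t.hom.hom) eK.hom_inv_id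
  have : IsIso b := ⟨b', hb, hb'⟩
  have : IsIso c' := ⟨c, hc', hc⟩
  have : IsIso a := ⟨a', ha, ha'⟩
  have : IsIso b' := ⟨b, hb', hb⟩
  have : IsIso b.left := inferInstanceAs (IsIso ((Over.forget (Spec (CommRingCat.of k))).mapIso (asIso b)).hom)
  have : IsIso c'.left := inferInstanceAs (IsIso ((Over.forget (Spec (CommRingCat.of k))).mapIso (asIso c')).hom)
  have : IsIso a.left := inferInstanceAs (IsIso ((Over.forget (Spec (CommRingCat.of k))).mapIso (asIso a)).hom)
  have : IsIso b'.left := inferInstanceAs (IsIso ((Over.forget (Spec (CommRingCat.of k))).mapIso (asIso b')).hom)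
  have hchar : ∀ {m n : ℕ} (v : Red.DS (Spec (CommRingCat.of k)) (Fin m → ℤ) ⟶ Red.DS (Spec (CommRingCat.of k)) (Fin n → ℤ)) [IsMonHom v],
      ∃ φ : (Fin n → ℤ) →+ (Fin m → ℤ), v = Red.DSmap (Spec (CommRingCat.of k)) φ := by
    intro m n v _
    obtain ⟨φ, hφ⟩ := GrothLib.DiagGrp.exists_char v (𝟙 (Spec (CommRingCat.of k)))
    refine ⟨φ, ?_⟩
    have h := hφ (Red.DS (Spec (CommRingCat.of k)) (Fin m → ℤ)) (Red.DS (Spec (CommRingCat.of k)) (Fin m → ℤ)).hom (Category.comp_id _) (𝟙 _)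
    rw [Category.id_comp, mul_inv_eq_one] at h
    exact h
  have : IsMonHom a := inferInstanceAs (IsMonHom eK.inv.hom.hom)
  have : IsMonHom b := inferInstanceAs (IsMonHom eG.inv.hom.hom)
  have : IsMonHom b' := inferInstanceAs (IsMonHom eG.hom.hom.hom)
  have hcM : IsMonHom c' := inferInstanceAs (IsMonHom eQ.hom.hom.hom)
  obtain ⟨φ, hφ⟩ := hchar (b ≫ π ≫ c')
  obtain ⟨ψ, hψ⟩ := hchar (a ≫ i ≫ b')
  have hφi : Function.Injective φ := by
    refine GrothLib.DiagGrp.char_of_flat_surjective (L := k) φ ?_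
    rw [← hφ, Over.comp_left, Over.comp_left]
    exact ⟨inferInstance, inferInstance⟩
  have hψs : Function.Surjective ψ := by
    refine GrothLib.DiagGrp.char_of_mono (L := k) ψ ?_
    rw [← hψ, Over.comp_left, Over.comp_left]
    infer_instance
  have hcomp : ∀ x, ψ (φ x) = 0 := by
    intro x
    set C := MonoidAlgebra k (Multiplicative (Fin nK → ℤ))
    set p := Spec.map (CommRingCat.ofHom (algebraMap k C))
    have h1 := congrArg (GrothLib.DiagGrp.dsPoint _ p (MonoidAlgebra.of k _) ≫ ·)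
      (show Red.DSmap (Spec (CommRingCat.of k)) ψ ≫ Red.DSmap (Spec (CommRingCat.of k)) φ = 1 by
        rw [← hψ, ← hφ]
        simp only [Category.assoc, reassoc_of% hb']
        rw [reassoc_of% hker.w, ← Category.assoc a, comp_toUnit, hcM.one_hom, ← Hom.one_def])
    have h1' : GrothLib.DiagGrp.dsPoint _ p (((MonoidAlgebra.of k (Multiplicative (Fin nK → ℤ))).comp
        (AddMonoidHom.toMultiplicative ψ)).comp (AddMonoidHom.toMultiplicative φ)) = 1 := by
      rw [← GrothLib.DiagGrp.dsPoint_DSmap, ← GrothLib.DiagGrp.dsPoint_DSmap, Category.assoc]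
      exact h1.trans (MonObj.comp_one _)
    have h2 := DFunLike.congr_fun ((GrothLib.DiagGrp.dsPoint _ p).injective (h1'.trans (map_one _).symm))
      (Multiplicative.ofAdd x)
    have h3 : MonoidAlgebra.of k _ (Multiplicative.ofAdd (ψ (φ x))) = MonoidAlgebra.of k _ 1 :=
      h2.trans (map_one _).symm
    exact Multiplicative.ofAdd.injective ((MonoidAlgebra.of_injective h3).trans ofAdd_zero.symm)
  have hexact : ∀ m, ψ m = 0 → ∃ x, φ x = m := by
    intro m hm
    set C := MonoidAlgebra k (Multiplicative ((Fin nG → ℤ) ⧸ φ.range))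
    set p := Spec.map (CommRingCat.ofHom (algebraMap k C))
    set χ : Multiplicative (Fin nG → ℤ) →* C :=
      (MonoidAlgebra.of k _).comp (AddMonoidHom.toMultiplicative (QuotientAddGroup.mk' φ.range))
    set g := GrothLib.DiagGrp.dsPoint _ p χ ≫ b
    have hg : g ≫ π = toUnit _ ≫ η[Q] := by
      have h1 : (g ≫ π) ≫ c' = 1 := by
        simp only [g, Category.assoc]
        rw [hφ, GrothLib.DiagGrp.dsPoint_DSmap]
        rw [show χ.comp (AddMonoidHom.toMultiplicative φ) = 1 from MonoidHom.ext fun n => by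
          change MonoidAlgebra.of k (Multiplicative ((Fin nG → ℤ) ⧸ φ.range))
            (Multiplicative.ofAdd ((φ (Multiplicative.toAdd n) : Fin nG → ℤ) : (Fin nG → ℤ) ⧸ φ.range)) = 1
          rw [(QuotientAddGroup.eq_zero_iff _).mpr (AddMonoidHom.mem_range.mpr ⟨_, rfl⟩), ofAdd_zero, map_one],
          map_one]
      rw [← cancel_mono c', h1, Category.assoc, hcM.one_hom, ← Hom.one_def]
    have h1 : hker.lift g (toUnit _) hg ≫ i = g := hker.lift_fst _ _ _
    obtain ⟨χ', hχ'⟩ : ∃ χ', GrothLib.DiagGrp.dsPoint _ p χ' = hker.lift g (toUnit _) hg ≫ a' :=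
      ⟨_, MulEquiv.apply_symm_apply _ _⟩
    have h2 : GrothLib.DiagGrp.dsPoint _ p (χ'.comp (AddMonoidHom.toMultiplicative ψ)) =
        GrothLib.DiagGrp.dsPoint _ p χ := by
      rw [← GrothLib.DiagGrp.dsPoint_DSmap, hχ', ← hψ]
      simp only [Category.assoc, reassoc_of% ha']
      rw [← Category.assoc, h1]
      simp only [g, Category.assoc, hb, Category.comp_id]
    have h3 := DFunLike.congr_fun ((GrothLib.DiagGrp.dsPoint _ p).injective h2) (Multiplicative.ofAdd m)
    have h4 : MonoidAlgebra.of k _ (Multiplicative.ofAdd ((m : Fin nG → ℤ) : (Fin nG → ℤ) ⧸ φ.range)) =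
        MonoidAlgebra.of k _ 1 := by
      refine h3.symm.trans ?_
      change χ' (Multiplicative.ofAdd (ψ m)) = _
      rw [hm, ofAdd_zero, map_one, map_one]
    have h5 := MonoidAlgebra.of_injective h4
    exact AddMonoidHom.mem_range.mp ((QuotientAddGroup.eq_zero_iff _).mp (Multiplicative.ofAdd.injective (h5.trans ofAdd_zero.symm)))
  obtain ⟨σ, hσ⟩ := Module.projective_lifting_property ψ.toIntLinearMap (LinearMap.id) hψs
  have hψσ : ∀ y, ψ (σ y) = y := fun y => LinearMap.congr_fun hσ y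
  choose r hr using fun m => hexact (m - σ (ψ m)) (by rw [map_sub, hψσ, sub_self])
  let R : (Fin nG → ℤ) →+ (Fin nQ → ℤ) := AddMonoidHom.mk' r fun m m' => hφi (by
    rw [map_add, hr, hr, hr, map_add, map_add]; abel)
  have hRφ : R.comp φ = AddMonoidHom.id _ := by
    refine AddMonoidHom.ext fun x => hφi ?_
    change φ (r (φ x)) = φ x
    rw [hr, hcomp, map_zero, sub_zero]
  refine ⟨c' ≫ Red.DSmap (Spec (CommRingCat.of k)) R ≫ b, inferInstance, ?_⟩
  have hid : Red.DSmap (Spec (CommRingCat.of k)) R ≫ Red.DSmap (Spec (CommRingCat.of k)) φ = 𝟙 _ := by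
    refine GrothLib.DiagGrp.ds_hom_ext fun C _ p χ => ?_
    rw [← Category.assoc, GrothLib.DiagGrp.dsPoint_DSmap, GrothLib.DiagGrp.dsPoint_DSmap, Category.comp_id]
    congr 1
    refine MonoidHom.ext fun n => ?_
    change χ (Multiplicative.ofAdd (R (φ (Multiplicative.toAdd n)))) = χ n
    rw [show R (φ (Multiplicative.toAdd n)) = Multiplicative.toAdd n from DFunLike.congr_fun hRφ _, ofAdd_toAdd]
  rw [← cancel_mono c', Category.id_comp]
  simp only [Category.assoc]
  rw [hφ, hid, Category.comp_id]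

end Groth.Agent.S14754
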