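import Groth.Statements.S4141
-- import your own Groth.Agent.* helpers here
import Groth.Agent.Lib.Chev24.PerfChev

set_option autoImplicit false
universe u
open CategoryTheory MonoidalCategory CartesianMonoidalCategory MonObj GrpObj AlgebraicGeometry CategoryTheory.Limits
open SGA3

namespace Groth.Agent.S4141

/-- Let k be a perfect field and G a smooth connected algebraic group over k. Then there is an affine,
smooth, connected closed subgroup scheme L of G, normal in G, such that the quotient G/L is an
abelian variety: there is a surjective flat homomorphism q : G → Q with kernel L onto a proper,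
smooth, connected k-group scheme Q. Moreover L is unique: any affine smooth connected normal closed
subgroup with proper smooth connected quotient coincides with L. -/
theorem result (k : Type u) [Field k] [PerfectField k]
    (G : Over (Spec (CommRingCat.of k))) [GrpObj G] [Smooth G.hom] [QuasiCompact G.hom] [ConnectedSpace ↥G.left] :
    ∃ (L : Over (Spec (CommRingCat.of k))) (_ : GrpObj L) (l : L ⟶ G) (Q : Over (Spec (CommRingCat.of k))) (_ : GrpObj Q)
      (q : G ⟶ Q), IsMonHom l ∧ IsClosedImmersion l.left ∧ IsAffine L.left ∧ Smooth L.hom ∧ ConnectedSpace ↥L.left ∧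
      AlgGrp.IsNormalHom l ∧ IsMonHom q ∧ Surjective q.left ∧ Flat q.left ∧ AlgGrp.IsKernel l q ∧
      IsProper Q.hom ∧ Smooth Q.hom ∧ ConnectedSpace ↥Q.left ∧
      ∀ (L' : Over (Spec (CommRingCat.of k))) [GrpObj L'] (l' : L' ⟶ G) (Q' : Over (Spec (CommRingCat.of k))) [GrpObj Q']
        (q' : G ⟶ Q'), IsMonHom l' → IsClosedImmersion l'.left → IsAffine L'.left → Smooth L'.hom → ConnectedSpace ↥L'.left →
        AlgGrp.IsNormalHom l' → IsMonHom q' → Surjective q'.left → Flat q'.left → AlgGrp.IsKernel l' q' →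
        IsProper Q'.hom → Smooth Q'.hom → ConnectedSpace ↥Q'.left → ∃ φ : L' ≅ L, φ.hom ≫ l = l' := by
  let f : Spec (CommRingCat.of (AlgebraicClosure k)) ⟶ Spec (CommRingCat.of k) :=
    Spec.map (CommRingCat.ofHom (algebraMap k (AlgebraicClosure k)))
  haveI : IsIntegralHom f := IsIntegralHom.SpecMap_iff.mpr (algebraMap_isIntegral_iff.mpr inferInstance)
  obtain ⟨L, _, l, Q, _, q, hl, hlc, hLa, hLs, hLc, hLn, hq, hqs, hqf, hker, hQp, hQs, hQc⟩ :=
    GrothLib.Chev24.exists_chevalley f G
  refine ⟨L, inferInstance, l, Q, inferInstance, q, hl, hlc, hLa, hLs, hLc, hLn, hq, hqs, hqf, hker, hQp, hQs, hQc, ?_⟩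
  intro L' _ l' Q' _ q' hl' hlc' hLa' hLs' hLc' hLn' hq' hqs' hqf' hker' hQp' hQs' hQc'
  haveI := hl; haveI := hl'; haveI := hlc; haveI := hlc'; haveI := hLa; haveI := hLa'; haveI := hLs; haveI := hLs'
  haveI := hLc; haveI := hLc'; haveI := hq; haveI := hq'; haveI := hQp; haveI := hQp'
  haveI : Mono l := Over.mono_of_mono_left l
  haveI : Mono l' := Over.mono_of_mono_left l'
  obtain ⟨φ, hφ⟩ := GrothLib.Chev24.factor_of_proper_quotient l' l q hker
  obtain ⟨ψ, hψ⟩ := GrothLib.Chev24.factor_of_proper_quotient l l' q' hker'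
  exact ⟨⟨φ, ψ, by rw [← cancel_mono l', Category.assoc, hψ, hφ, Category.id_comp],
    by rw [← cancel_mono l, Category.assoc, hφ, hψ, Category.id_comp]⟩, hφ⟩

end Groth.Agent.S4141
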