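import Groth.Statements.S14757
import Groth.Agent.Lib.AffPart16.Basic
import Groth.Agent.S4141

set_option autoImplicit false
universe u
open CategoryTheory CategoryTheory.Limits MonoidalCategory CartesianMonoidalCategory MonObj GrpObj AlgebraicGeometry
open AlgGrp

namespace Groth.Agent.S14757

open GrothLib

/-- Let k be a perfect field and G a group variety over k (smooth connected k-group scheme of finite
type); let i : N → G be its largest smooth connected affine normal closed subgroup scheme G_lin
(every other such subgroup factors through it) and j : M → G its largest anti-affine closed subgroup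
scheme G_ant (the global functions of M are the constants k, and every closed subgroup scheme with
that property factors through it). Then the multiplication G_ant × G_lin → G is a homomorphism and
is surjective. (The published statement says it is a quotient map; surjectivity is what the
published proof establishes, faithful flatness then being automatic for a surjective homomorphism of
algebraic groups.) -/
theorem result (k : Type u) [Field k] [PerfectField k]
    (G : Over (Spec (CommRingCat.of k))) [GrpObj G] [Smooth G.hom] [QuasiCompact G.hom] [ConnectedSpace ↥G.left]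
    (N : Over (Spec (CommRingCat.of k))) [GrpObj N] (i : N ⟶ G) [IsMonHom i] [IsClosedImmersion i.left]
    [Smooth N.hom] [ConnectedSpace ↥N.left] [IsAffine N.left] (hN : AlgGrp.IsNormalHom i)
    (hNmax : ∀ (N' : Over (Spec (CommRingCat.of k))) [GrpObj N'] (i' : N' ⟶ G) [IsMonHom i'] [IsClosedImmersion i'.left]
      [Smooth N'.hom] [ConnectedSpace ↥N'.left] [IsAffine N'.left], AlgGrp.IsNormalHom i' → ∃ f : N' ⟶ N, f ≫ i = i')
    (M : Over (Spec (CommRingCat.of k))) [GrpObj M] (j : M ⟶ G) [IsMonHom j] [IsClosedImmersion j.left]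
    (hM : Function.Bijective ((Scheme.ΓSpecIso (CommRingCat.of k)).inv ≫ M.hom.appTop).hom)
    (hMmax : ∀ (M' : Over (Spec (CommRingCat.of k))) [GrpObj M'] (j' : M' ⟶ G) [IsMonHom j'] [IsClosedImmersion j'.left],
      Function.Bijective ((Scheme.ΓSpecIso (CommRingCat.of k)).inv ≫ M'.hom.appTop).hom → ∃ f : M' ⟶ M, f ≫ j = j') :
    IsMonHom ((j ⊗ₘ i) ≫ μ[G]) ∧ Surjective ((j ⊗ₘ i) ≫ μ[G]).left := by
  haveI : IsSeparated G.hom := GrpSchField.isSeparated G
  obtain ⟨hlM, hqM⟩ := AntMax16.props_of_mono j
  obtain ⟨L, _, l, Q, _, q, hl, hlc, hLa, hLs, hLc, hLn, hq, hqs, hqf, hker, hQp, hQs, hQc, -⟩ :=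
    Groth.Agent.S4141.result k G
  haveI := hl; haveI := hlc; haveI := hLa; haveI := hLs; haveI := hLc; haveI := hq; haveI := hqs; haveI := hqf
  haveI := hQp
  obtain ⟨h1, -⟩ := AntMax16.ant_generates l q hker j hM (fun K _ _ _ u _ _ hK => hMmax K u hK)
  have hji : (j ⊗ₘ i) ≫ μ[G] = (fst M N ≫ j) * (snd M N ≫ i) := AffPart16.prod_eq j i
  refine ⟨?_, ?_⟩
  · apply GrpSchField.isMonHom_of_mul
    have e₁ : μ[M ⊗ N] = fst (M ⊗ N) (M ⊗ N) * snd (M ⊗ N) (M ⊗ N) := by
      rw [Hom.mul_def, lift_fst_snd, Category.id_comp]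
    rw [e₁, hji, AffPart16.prod_eq]
    simp only [MonObj.comp_mul, ← Category.assoc, MonObj.mul_comp]
    have hc : Commute ((snd (M ⊗ N) (M ⊗ N) ≫ fst M N) ≫ j) ((fst (M ⊗ N) (M ⊗ N) ≫ snd M N) ≫ i) :=
      AntiAffine.IsAntiAffine.central hM j _ _
    rw [_root_.mul_assoc, _root_.mul_assoc, ← _root_.mul_assoc ((snd (M ⊗ N) (M ⊗ N) ≫ fst M N) ≫ j), hc.eq,
      _root_.mul_assoc]
  · obtain ⟨a, ha⟩ := hNmax L l hLn
    haveI := AffPart16.surjective_swap l j h1
    haveI : Surjective ((𝟙 M ⊗ₘ a).left ≫ ((j ⊗ₘ i) ≫ μ[G]).left) := by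
      rw [← Over.comp_left, ← Category.assoc, tensorHom_comp_tensorHom, ha, Category.id_comp]
      infer_instance
    exact Surjective.of_comp (𝟙 M ⊗ₘ a).left _


end Groth.Agent.S14757
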