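import Groth.Statements.S14758
import Groth.Agent.Lib.EtDer.HpullComp
-- import your own Groth.Agent.* helpers here

set_option autoImplicit false
universe u
open CategoryTheory CategoryTheory.Limits MonoidalCategory CartesianMonoidalCategory MonObj GrpObj AlgebraicGeometry
open EtAdic

namespace Groth.Agent.S14758

section Aux

open CategoryTheory CategoryTheory.Limits CategoryTheory.Abelian AlgebraicGeometry

set_option backward.isDefEq.respectTransparency false in
theorem Hmap_comp {X Y Z : Scheme.{u}} (ℓ : ℕ) (f : X ⟶ Y) (t : Y ⟶ Z) (f₀ : X ⟶ Z) (w : f ≫ t = f₀)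
    (hf : PreservesFiniteLimits (EtCoh.pull f)) (ht : PreservesFiniteLimits (EtCoh.pull t))
    (h₀ : PreservesFiniteLimits (EtCoh.pull f₀)) (i ν : ℕ) (x : EtAdic.Hmod Z ℓ i ν) :
    EtAdic.Hmap ℓ f hf i ν (EtAdic.Hmap ℓ t ht i ν x) = EtAdic.Hmap ℓ f₀ h₀ i ν x := by
  haveI := hf; haveI := ht; haveI := h₀
  show Ext.comp (EtCore.Hpull f _ i (Ext.comp (EtCore.Hpull t _ i x) (Ext.mk₀ (EtCore.pullConst t (ZMod (ℓ ^ ν))).hom) (add_zero i)))
      (Ext.mk₀ (EtCore.pullConst f (ZMod (ℓ ^ ν))).hom) (add_zero i) =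
    Ext.comp (EtCore.Hpull f₀ _ i x) (Ext.mk₀ (EtCore.pullConst f₀ (ZMod (ℓ ^ ν))).hom) (add_zero i)
  rw [GrothLib.EtDer.Hpull_mk₀, ← GrothLib.EtDer.HpullVia_Hpull f t f₀ w, GrothLib.EtDer.MV.HpullVia_apply,
    Ext.comp_assoc_of_third_deg_zero, Ext.comp_assoc_of_third_deg_zero, Ext.mk₀_comp_mk₀, Ext.mk₀_comp_mk₀]
  congr 2
  have h := GrothLib.EtDer.pullConst_comp f t f₀ w (ZMod (ℓ ^ ν))
  rw [← cancel_epi ((EtCore.pullConst f (ZMod (ℓ ^ ν))).inv ≫ (EtCoh.pull f).map (EtCore.pullConst t (ZMod (ℓ ^ ν))).inv)]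
  simp only [Category.assoc]
  refine Eq.trans ?_ ((reassoc_of% h) (EtCore.pullConst f₀ (ZMod (ℓ ^ ν))).hom).symm
  rw [← Functor.map_comp_assoc]
  simp

end Aux


/-- Let k be a field, ℓ, ν natural numbers, G and G' commutative k-group schemes and φ, ψ : G → G'
homomorphisms. If x ∈ H^r(G'_et, Z/ℓ^ν) is primitive, that is m^*x = p_1^*x + p_2^*x for the
multiplication m and the projections p_1, p_2 of G' × G', then (φ + ψ)^*x = φ^*x + ψ^*x, where φ + ψ
is the sum in the group of homomorphisms. (The published lemma is for H^r_T(−, L) with T any of the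
Zariski, étale or flat topologies and L any commutative algebraic group as coefficients; this row is
its case T = étale, L = Z/ℓ^ν constant, the one used later.) -/
theorem result (k : Type u) [Field k] (ℓ ν r : ℕ)
    (G G' : Over (Spec (CommRingCat.of k))) [GrpObj G] [GrpObj G'] [IsCommMonObj G] [IsCommMonObj G']
    (φ ψ : G ⟶ G') [IsMonHom φ] [IsMonHom ψ]
    [hm : PreservesFiniteLimits (EtCoh.pull (μ[G']).left)]
    [h1 : PreservesFiniteLimits (EtCoh.pull (fst G' G').left)]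
    [h2 : PreservesFiniteLimits (EtCoh.pull (snd G' G').left)]
    [hφ : PreservesFiniteLimits (EtCoh.pull φ.left)] [hψ : PreservesFiniteLimits (EtCoh.pull ψ.left)]
    [hs : PreservesFiniteLimits (EtCoh.pull (φ * ψ).left)]
    (x : EtAdic.Hmod G'.left ℓ r ν)
    (hx : EtAdic.Hmap ℓ (μ[G']).left hm r ν x =
      EtAdic.Hmap ℓ (fst G' G').left h1 r ν x + EtAdic.Hmap ℓ (snd G' G').left h2 r ν x) :
    EtAdic.Hmap ℓ (φ * ψ).left hs r ν x = EtAdic.Hmap ℓ φ.left hφ r ν x + EtAdic.Hmap ℓ ψ.left hψ r ν x := by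
  haveI hl : PreservesFiniteLimits (EtCoh.pull (CartesianMonoidalCategory.lift φ ψ).left) :=
    GrothLib.EtDer.pullFL _
  have e := congrArg (EtAdic.Hmap ℓ (CartesianMonoidalCategory.lift φ ψ).left hl r ν) hx
  rw [map_add] at e
  rw [Hmap_comp ℓ _ _ (φ * ψ).left (by rw [← Over.comp_left]; rfl) hl hm hs r ν x,
    Hmap_comp ℓ _ _ φ.left (by rw [← Over.comp_left, CartesianMonoidalCategory.lift_fst]) hl h1 hφ r ν x,
    Hmap_comp ℓ _ _ ψ.left (by rw [← Over.comp_left, CartesianMonoidalCategory.lift_snd]) hl h2 hψ r ν x] at e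
  exact e


end Groth.Agent.S14758
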