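import Groth.Statements.S14759
import Groth.Agent.Lib.IsogFactor19.Basic
-- import your own Groth.Agent.* helpers here

set_option autoImplicit false
universe u
open CategoryTheory CategoryTheory.Limits MonoidalCategory CartesianMonoidalCategory MonObj GrpObj AlgebraicGeometry
open AlgGrp

namespace Groth.Agent.S14759

/-- Over a field k, every isogeny φ : G → H of k-group schemes of finite type (a surjective homomorphism
with finite kernel) factors as φ = χ ∘ ψ with ψ : G → Q a purely inseparable isogeny (its kernel is
connected) followed by a separable isogeny χ : Q → H (its kernel is etale over k). (The published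
definition of isogeny asks only for a finite kernel and an image of finite index in H; this row
takes φ surjective, which is the same notion when H is connected.) -/
theorem result (k : Type u) [Field k]
    (G H : Over (Spec (CommRingCat.of k))) [GrpObj G] [GrpObj H]
    [QuasiCompact G.hom] [LocallyOfFiniteType G.hom] [QuasiCompact H.hom] [LocallyOfFiniteType H.hom]
    (φ : G ⟶ H) [IsMonHom φ] (hφ : SGA7.IsIsogenyOver φ) :
    ∃ (Q : Over (Spec (CommRingCat.of k))) (_ : GrpObj Q) (ψ : G ⟶ Q) (χ : Q ⟶ H),
      IsMonHom ψ ∧ IsMonHom χ ∧ ψ ≫ χ = φ ∧ SGA7.IsIsogenyOver ψ ∧ SGA7.IsIsogenyOver χ ∧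
      (∀ (N : Over (Spec (CommRingCat.of k))) (n : N ⟶ G), AlgGrp.IsKernel n ψ → ConnectedSpace ↥N.left) ∧
      (∀ (N : Over (Spec (CommRingCat.of k))) (n : N ⟶ Q), AlgGrp.IsKernel n χ → Etale N.hom) := by
  obtain ⟨hs, hf⟩ := hφ
  haveI := hs
  obtain ⟨N, _, n, hnm, hnc, hk⟩ := GrothLib.IsogFactor19.exists_kernel φ
  haveI := hnm; haveI := hnc; haveI := hf N n hk
  exact GrothLib.IsogFactor19.exists_factor φ hk

end Groth.Agent.S14759
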