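import Groth.Statements.S14760
-- import your own Groth.Agent.* helpers here
import Groth.Agent.Lib.SplitTors24.Point

set_option autoImplicit false
universe u
open CategoryTheory CategoryTheory.Limits MonoidalCategory CartesianMonoidalCategory MonObj GrpObj AlgebraicGeometry
open AlgGrp

namespace Groth.Agent.S14760

/-- Let k be an algebraically closed field, L a connected commutative linear group variety over k
(smooth, connected, affine, commutative k-group scheme), Y an integral k-scheme of finite type and π
: X → Y a principal L-bundle: π is flat, surjective and of finite type, and the base change L_Y acts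
on X over Y so that (l, x) ↦ (l·x, x) is an isomorphism L_Y ×_Y X ≅ X ×_Y X. Then π has a section
over some non-empty open subset of Y. (The published statement says π is locally trivial for the
Zariski topology; the published proof constructs a section at the generic point from the vanishing
of H^1 of a field with coefficients in G_a and G_m, which gives exactly a section over a dense open,
the assertion stated here.) -/
theorem result (k : Type u) [Field k] [IsAlgClosed k]
    (L : Over (Spec (CommRingCat.of k))) [GrpObj L] [IsCommMonObj L] [Smooth L.hom] [ConnectedSpace ↥L.left] [IsAffine L.left]
    {X Y : Scheme.{u}} (qY : Y ⟶ Spec (CommRingCat.of k)) [IsIntegral Y] [LocallyOfFiniteType qY] [QuasiCompact qY]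
    (π : X ⟶ Y) [Flat π] [Surjective π] [LocallyOfFiniteType π] [QuasiCompact π]
    (a : AlgGrp.Action (Red.bc qY L) (Over.mk π))
    (htors : IsIso (lift a.act (snd (Red.bc qY L) (Over.mk π)))) :
    ∃ U : Y.Opens, (U : Set ↥Y).Nonempty ∧ ∃ s : (↑U : Scheme.{u}) ⟶ X, s ≫ π = U.ι := by
  exact GrothLib.SplitTors24.exists_generic_section L qY π a htors

end Groth.Agent.S14760
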