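import Groth.Statements.S14762
import Groth.Agent.Lib.UnipOnto5.Main

set_option autoImplicit false
universe u
open CategoryTheory CategoryTheory.Limits MonoidalCategory CartesianMonoidalCategory MonObj GrpObj AlgebraicGeometry
open Red

namespace Groth.Agent.S14762

/-- Over an algebraically closed field k, every quotient of a reductive group variety is reductive: if G
is a reductive k-group (affine, smooth, connected, with trivial unipotent radical) and π : G → H is
a flat surjective homomorphism onto a k-group scheme of finite type H, then H is reductive. (The
published lemma also covers the properties complete, semisimple and solvable.) -/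
theorem result (k : Type u) [Field k] [IsAlgClosed k]
    (G H : Over (Spec (CommRingCat.of k))) [GrpObj G] [GrpObj H] (hG : Red.IsReductiveOver k G)
    [QuasiCompact H.hom] [LocallyOfFiniteType H.hom]
    (π : G ⟶ H) [IsMonHom π] [Flat π.left] [Surjective π.left] :
    Red.IsReductiveOver k H := by
  obtain ⟨ha, hs, hc, -⟩ := id hG
  haveI := ha; haveI := hs; haveI := hc
  haveI : IsAffine H.left := GrothLib.Chevalley.isAffine_of_surjective_hom π
  haveI : IsLocallyNoetherian H.left := LocallyOfFiniteType.isLocallyNoetherian H.hom
  haveI : LocallyOfFiniteType π.left := by
    haveI : LocallyOfFiniteType (π.left ≫ H.hom) := by rw [Over.w π]; infer_instance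
    exact locallyOfFiniteType_of_comp π.left H.hom
  haveI : LocallyOfFinitePresentation π.left := inferInstance
  haveI hsm : Smooth H.hom :=
    GrothLib.FppfSource.fppfSourceDescends_smooth π.left H.hom inferInstance inferInstance inferInstance
      (by rw [Over.w π]; exact hs)
  haveI hcn : ConnectedSpace H.left := π.left.surjective.connectedSpace π.left.continuous
  refine ⟨inferInstance, hsm, hcn, fun U _ i _ hi hUs hUc hn hno => ?_⟩
  haveI := hi; haveI := hUs; haveI := hUc
  haveI : IsAffine U.left := isAffine_of_isAffineHom i.left
  haveI : IsSeparated H.hom := inferInstance
  exact GrothLib.UnipOnto5.trivial_of_normal hG π i hn hno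

end Groth.Agent.S14762
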