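import Groth.Statements.S14763
import Groth.Agent.Lib.SplitTors24.Quot
import Groth.Agent.Lib.NeronCompGrp24.Stab
import Groth.Agent.Lib.Cube.MulFinite
import Groth.Agent.Lib.Neutral.FieldFactor
import Groth.Agent.Lib.FppfSource.Scheme
import Groth.Agent.Lib.GrpDeligne.Factor
import Groth.Agent.Lib.KerDiag14.Basic

set_option autoImplicit false
set_option linter.all false
set_option backward.isDefEq.respectTransparency false
universe u
open CategoryTheory CategoryTheory.Limits MonoidalCategory CartesianMonoidalCategory MonObj GrpObj AlgebraicGeometry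
open AlgGrp

namespace Groth.Agent.S14763

/-- Over an algebraically closed field k let G be a commutative group variety (smooth connected
commutative k-group scheme of finite type) written as an extension 0 → L → G → A → 0 of an abelian
variety by its largest connected affine subgroup: i : L → G a smooth connected affine closed
subgroup scheme, kernel of a flat surjective homomorphism π : G → A onto an abelian variety A
(proper, smooth, connected). Then the following are equivalent: (a) for some d ≥ 1 there is a
homomorphism s : A → G with π ∘ s equal to multiplication by d on A (the class of the extension is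
killed by d: its pullback along multiplication by d splits); (b) there is an abelian subvariety A'
of G (a smooth connected proper closed subgroup scheme) with A' · L = G, that is, the multiplication
A' × L → G is surjective. (The published statement phrases (a) as the class of G having finite order
in the group of extension classes and (b) as G being isogenous to L × A; the published proof passes
through exactly the two conditions stated here.) -/
theorem result (k : Type u) [Field k] [IsAlgClosed k]
    (G L A : Over (Spec (CommRingCat.of k))) [GrpObj G] [GrpObj L] [GrpObj A] [IsCommMonObj G]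
    [Smooth G.hom] [QuasiCompact G.hom] [ConnectedSpace ↥G.left]
    (i : L ⟶ G) [IsMonHom i] [IsClosedImmersion i.left] [IsAffine L.left] [Smooth L.hom] [ConnectedSpace ↥L.left]
    (π : G ⟶ A) [IsMonHom π] [Flat π.left] [Surjective π.left] (hker : AlgGrp.IsKernel i π)
    [IsProper A.hom] [Smooth A.hom] [ConnectedSpace ↥A.left] :
    (∃ d : ℕ, 0 < d ∧ ∃ s : A ⟶ G, IsMonHom s ∧ s ≫ π = (𝟙 A) ^ d) ↔
      (∃ (A' : Over (Spec (CommRingCat.of k))) (_ : GrpObj A') (j : A' ⟶ G), IsMonHom j ∧ IsClosedImmersion j.left ∧
        Smooth A'.hom ∧ ConnectedSpace ↥A'.left ∧ IsProper A'.hom ∧ Surjective ((j ⊗ₘ i) ≫ μ[G]).left) := by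
  classical
  haveI := GrothLib.Neutral.geometricallyConnected_of_point A.hom (η[A] : 𝟙_ _ ⟶ A).left (Over.w _)
  haveI := GrothLib.Rigidity.geometricallyIntegral_of_smooth A
  haveI : IsCommMonObj A := isCommMonObj_of_isProper_of_geometricallyIntegral A
  haveI : IsSeparated G.hom := GrothLib.GrpSchField.isSeparated G
  haveI : JacobsonSpace G.left := LocallyOfFiniteType.jacobsonSpace (Y := Spec _) G.hom
  haveI : JacobsonSpace A.left := LocallyOfFiniteType.jacobsonSpace (Y := Spec _) A.hom
  haveI : IsIntegral A.left := GeometricallyIntegral.isIntegral_of_subsingleton A.hom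
  let p₀ : ↥(𝟙_ (Over (Spec (CommRingCat.of k)))).left := IsLocalRing.closedPoint k
  constructor
  · rintro ⟨d, hd, s, hs, hsd⟩
    haveI := hs
    haveI : QuasiCompact s.left := by
      haveI : QuasiCompact (s.left ≫ G.hom) := by rw [Over.w s]; infer_instance
      exact QuasiCompact.of_comp s.left G.hom
    obtain ⟨Q, _, p, j, hp, hj, hpj, hps, hpf, hplfp, hm, hQlft, -⟩ := GrothLib.Neutral.exists_factor_field s
    haveI := hp; haveI := hj; haveI := hm; haveI := hps; haveI := hpf; haveI := hplfp; haveI := hQlft
    haveI := (GrothLib.Neutral.isClosedImmersion_factor s hpj).1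
    haveI hQsm : Smooth Q.hom := GrothLib.FppfSource.fppfSourceDescends_smooth p.left Q.hom hpf hplfp hps
      (by rw [Over.w p]; infer_instance)
    haveI hQc : ConnectedSpace Q.left := p.left.surjective.connectedSpace p.left.continuous
    haveI hQsep : IsSeparated Q.hom := GrothLib.GrpSchField.isSeparated Q
    haveI : UniversallyClosed (p.left ≫ Q.hom) := by rw [Over.w p]; infer_instance
    haveI : UniversallyClosed Q.hom := UniversallyClosed.of_comp_surjective p.left Q.hom
    haveI hQp : IsProper Q.hom := ⟨⟩
    refine ⟨Q, inferInstance, j, hj, inferInstance, hQsm, hQc, hQp, ?_⟩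
    let ψ : Q ⊗ L ⟶ G := (j ⊗ₘ i) ≫ μ[G]
    haveI : IsMonHom ψ := inferInstance
    haveI : Smooth (Q ⊗ L).hom :=
      inferInstanceAs (Smooth (Limits.pullback.fst Q.hom L.hom ≫ Q.hom))
    haveI : QuasiCompact (Q ⊗ L).hom :=
      inferInstanceAs (QuasiCompact (Limits.pullback.fst Q.hom L.hom ≫ Q.hom))
    haveI : QuasiCompact ψ.left := by
      haveI : QuasiCompact (ψ.left ≫ G.hom) := by rw [Over.w ψ]; infer_instance
      exact QuasiCompact.of_comp ψ.left G.hom
    haveI hsurjN : Surjective ((𝟙 A) ^ d).left := GrothLib.Cube.surjective_pow A (Nat.pos_iff_ne_zero.1 hd)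
    refine ⟨fun z => ?_⟩
    show ∃ a, ψ.left a = z
    by_contra hz
    have hcl := (GrothLib.NeronCompGrp24.isClosed_range_hom ψ).isOpen_compl
    obtain ⟨y, hy, hyc⟩ := nonempty_inter_closedPoints (Z := (Set.range ψ.left)ᶜ) ⟨z, fun h => hz h⟩
      hcl.isLocallyClosed
    obtain ⟨c, hc⟩ := GrothLib.Rigidity.exists_point_over G y hyc
    obtain ⟨w, hw⟩ := ((𝟙 A) ^ d).left.surjective ((c ≫ π).left p₀)
    obtain ⟨w', hw', hwc⟩ := nonempty_inter_closedPoints (Z := ((𝟙 A) ^ d).left ⁻¹' {(c ≫ π).left p₀}) ⟨w, hw⟩
      ((GrothLib.SplitTors24.exists_finite_reps.isClosed_singleton_pt (c ≫ π)).preimage ((𝟙 A) ^ d).left.continuous).isLocallyClosed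
    obtain ⟨a, ha⟩ := GrothLib.Rigidity.exists_point_over A w' hwc
    have haN : a ≫ ((𝟙 A) ^ d) = c ≫ π := GrothLib.NeronCompGrp24.pt_ext _ _ (by
      show (a ≫ ((𝟙 A) ^ d)).left p₀ = _
      rw [Over.comp_left, Scheme.Hom.comp_apply, ha]
      exact hw')
    obtain ⟨u, hu⟩ := GrothLib.GrpDeligne.exists_lift_ker hker (c * (a ≫ s)⁻¹) (by
      rw [MonObj.mul_comp, GrpObj.inv_comp, Category.assoc, hsd, haN, mul_inv_cancel])
    have e : lift (a ≫ p) u ≫ ψ = c := by
      have : lift (a ≫ p) u ≫ ψ = (a ≫ s) * (u ≫ i) := by
        show lift (a ≫ p) u ≫ (j ⊗ₘ i) ≫ μ[G] = _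
        rw [lift_map_assoc, Category.assoc, hpj, Hom.mul_def]
      rw [this, hu, mul_comm c, mul_inv_cancel_left]
    exact hy ⟨(lift (a ≫ p) u).left p₀, by rw [← Scheme.Hom.comp_apply, ← Over.comp_left, e, hc]⟩
  · rintro ⟨A', _, j, hj, hjc, hsm, hconn, hprop, hsurj⟩
    haveI := hj; haveI := hjc; haveI := hsm; haveI := hprop; haveI := hsurj
    haveI : Mono j := (Over.forget _).mono_of_mono_map (inferInstanceAs (Mono j.left))
    haveI : IsCommMonObj A' := by
      refine ⟨?_⟩
      rw [← cancel_mono j, Category.assoc, IsMonHom.mul_hom, ← Category.assoc, ← BraidedCategory.braiding_naturality,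
        Category.assoc, IsCommMonObj.mul_comm]
    let q : A' ⟶ A := j ≫ π
    haveI : IsProper q.left := by
      haveI : IsProper (q.left ≫ A.hom) := by rw [Over.w q]; infer_instance
      exact IsProper.of_comp q.left A.hom
    haveI : Surjective q.left := by
      have e : ((j ⊗ₘ i) ≫ μ[G]) ≫ π = fst A' L ≫ q := by
        have h1 : (j ⊗ₘ i) ≫ μ[G] = (fst A' L ≫ j) * (snd A' L ≫ i) := by
          rw [Hom.mul_def, lift_fst_comp_snd_comp]
        rw [h1, MonObj.mul_comp, Category.assoc, Category.assoc, GrothLib.GrpDeligne.ker_comp_eq_one hker,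
          MonObj.comp_one, _root_.mul_one]
      have e' := congrArg CommaMorphism.left e
      simp only [Over.comp_left] at e'
      haveI : Surjective ((j ⊗ₘ i).left ≫ μ[G].left) := hsurj
      haveI : Surjective ((fst A' L).left ≫ q.left) := by rw [← e']; infer_instance
      exact Surjective.of_comp (fst A' L).left q.left
    haveI : LocallyOfFiniteType q.left := inferInstance
    haveI : Flat q.left := GrothLib.GrpSchField.flat_hom q
    let N := pullback q η[A]
    have hi : AlgGrp.IsKernel (pullback.fst q η[A]) q := by
      have := IsPullback.of_hasPullback q η[A]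
      rwa [toUnit_unique (pullback.snd q η[A]) (toUnit _)] at this
    haveI := GrothLib.GrpSchField.unit_isClosedImmersion A
    haveI : IsClosedImmersion (pullback.fst q η[A]).left :=
      MorphismProperty.of_isPullback (hi.map (Over.forget _)).flip (inferInstanceAs (IsClosedImmersion η[A].left))
    haveI : IsProper N.hom := by rw [← Over.w (pullback.fst q η[A])]; infer_instance
    obtain ⟨b, hb⟩ := GrothLib.GrpDeligne.exists_lift_ker hker (pullback.fst q η[A] ≫ j) (by
      rw [Category.assoc]; exact GrothLib.GrpDeligne.ker_comp_eq_one hi)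
    haveI : IsClosedImmersion b.left := by
      haveI : IsClosedImmersion (b.left ≫ i.left) := by
        rw [← Over.comp_left, hb, Over.comp_left]; infer_instance
      exact IsClosedImmersion.of_comp b.left i.left
    haveI : IsAffine N.left := isAffine_of_isAffineHom b.left
    haveI : IsFinite N.hom := (IsFinite.iff_isProper_and_isAffineHom).2 ⟨inferInstance, inferInstance⟩
    obtain ⟨_, _⟩ := GrothLib.GrpDeligne.exists_grpObj_kernel q _ hi
    haveI : LocallyQuasiFinite q.left := (GrothLib.KerDiag14.lqf_iff q _ hi).2.1.2 inferInstance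
    haveI : IsFinite q.left := (IsFinite.iff_isProper_and_locallyQuasiFinite _).2 ⟨inferInstance, inferInstance⟩
    haveI : IsLocallyNoetherian A.left := LocallyOfFiniteType.isLocallyNoetherian A.hom
    haveI : LocallyOfFinitePresentation q.left := inferInstance
    haveI : Subsingleton ↥(𝟙_ (Over (Spec (CommRingCat.of k)))).left := inferInstanceAs (Subsingleton (PrimeSpectrum k))
    let n := Scheme.Hom.finrank q.left (η[A].left p₀)
    have hn : 0 < n := (Scheme.Hom.one_le_finrank_iff_surjective (f := q.left)).2 inferInstance _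
    obtain ⟨g, hg, -, hgq⟩ := GrothLib.GrpDeligne.exists_dual_hom q n (fun s => by rw [Subsingleton.elim s p₀])
    haveI := hg
    exact ⟨n, hn, g ≫ j, inferInstance, by rw [Category.assoc]; exact hgq⟩

end Groth.Agent.S14763
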