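import Groth.Statements.S14764
import Groth.Agent.Lib.AffPart16.Basic

set_option autoImplicit false
universe u
open CategoryTheory CategoryTheory.Limits MonoidalCategory CartesianMonoidalCategory MonObj GrpObj AlgebraicGeometry
open AlgGrp

namespace Groth.Agent.S14764

open GrothLib

/-- Over an algebraically closed field k let G be a group variety (smooth connected k-group scheme of
finite type), i : G_lin → G its largest smooth connected affine normal closed subgroup scheme, j : D
→ G its largest anti-affine closed subgroup scheme G_ant (global functions the constants; every such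
subgroup factors through it), and i_D : D_lin → D the largest smooth connected affine normal closed
subgroup scheme of D. Then D_lin is contained in G_lin (i_D ∘ j factors through i) and has finite
index in the scheme-theoretic intersection D ∩ G_lin, in the sense that D_lin and D ×_G G_lin have
the same dimension; equivalently D_lin is the reduced identity component of D ∩ G_lin. -/
theorem result (k : Type u) [Field k] [IsAlgClosed k]
    (G : Over (Spec (CommRingCat.of k))) [GrpObj G] [Smooth G.hom] [QuasiCompact G.hom] [ConnectedSpace ↥G.left]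
    (N : Over (Spec (CommRingCat.of k))) [GrpObj N] (i : N ⟶ G) [IsMonHom i] [IsClosedImmersion i.left]
    [Smooth N.hom] [ConnectedSpace ↥N.left] [IsAffine N.left] (hN : AlgGrp.IsNormalHom i)
    (hNmax : (∀ (N' : Over (Spec (CommRingCat.of k))) [GrpObj N'] (i' : N' ⟶ G) [IsMonHom i'] [IsClosedImmersion i'.left]
      [Smooth N'.hom] [ConnectedSpace ↥N'.left] [IsAffine N'.left], AlgGrp.IsNormalHom i' → ∃ f : N' ⟶ N, f ≫ i = i'))
    (D : Over (Spec (CommRingCat.of k))) [GrpObj D] (j : D ⟶ G) [IsMonHom j] [IsClosedImmersion j.left]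
    (hD : Function.Bijective ((Scheme.ΓSpecIso (CommRingCat.of k)).inv ≫ D.hom.appTop).hom)
    (hDmax : ∀ (M' : Over (Spec (CommRingCat.of k))) [GrpObj M'] (j' : M' ⟶ G) [IsMonHom j'] [IsClosedImmersion j'.left],
      Function.Bijective ((Scheme.ΓSpecIso (CommRingCat.of k)).inv ≫ M'.hom.appTop).hom → ∃ f : M' ⟶ D, f ≫ j = j')
    (ND : Over (Spec (CommRingCat.of k))) [GrpObj ND] (iD : ND ⟶ D) [IsMonHom iD] [IsClosedImmersion iD.left]
    [Smooth ND.hom] [ConnectedSpace ↥ND.left] [IsAffine ND.left] (hND : AlgGrp.IsNormalHom iD)
    (hNDmax : (∀ (N' : Over (Spec (CommRingCat.of k))) [GrpObj N'] (i' : N' ⟶ D) [IsMonHom i'] [IsClosedImmersion i'.left]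
      [Smooth N'.hom] [ConnectedSpace ↥N'.left] [IsAffine N'.left], AlgGrp.IsNormalHom i' → ∃ f : N' ⟶ ND, f ≫ iD = i')) :
    (∃ g : ND ⟶ N, g ≫ i = iD ≫ j) ∧
      topologicalKrullDim ↥ND.left = topologicalKrullDim ↥(pullback j.left i.left) := by
  haveI : IsSeparated G.hom := GrpSchField.isSeparated G
  obtain ⟨hlD, hqD⟩ := AntMax16.props_of_mono j
  haveI : IsClosedImmersion (iD ≫ j).left := inferInstanceAs (IsClosedImmersion (iD.left ≫ j.left))
  obtain ⟨g, hg⟩ := Chev24.factor_affine i hNmax hN ND (iD ≫ j)
  refine ⟨⟨g, hg⟩, le_antisymm ?_ ?_⟩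
  · let m := pullback.lift iD.left g.left congr(($hg).left).symm
    haveI : IsClosedImmersion (m ≫ pullback.fst j.left i.left) := by rw [pullback.lift_fst]; infer_instance
    haveI : IsClosedImmersion m := IsClosedImmersion.of_comp m (pullback.fst j.left i.left)
    exact m.isEmbedding.topologicalKrullDim_le
  · let P : Over (Spec (CommRingCat.of k)) := Over.mk (pullback.fst j.left i.left ≫ D.hom)
    let b : P ⟶ D := Over.homMk (pullback.fst j.left i.left) rfl
    let a : P ⟶ N := Over.homMk (pullback.snd j.left i.left) (by
      show pullback.snd j.left i.left ≫ N.hom = pullback.fst j.left i.left ≫ D.hom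
      rw [← Over.w i, ← pullback.condition_assoc, Over.w j])
    have hsqL : IsPullback a.left b.left i.left j.left := (IsPullback.of_hasPullback j.left i.left).flip
    have hsq : IsPullback a b i j := IsPullback.of_map (Over.forget _) (Over.OverMorphism.ext hsqL.w) hsqL
    haveI : Mono i := Over.mono_of_mono_left i
    haveI : IsClosedImmersion b.left := inferInstanceAs (IsClosedImmersion (pullback.fst j.left i.left))
    obtain ⟨hP, ha, hb⟩ := SubPre14.exists_grpObj_pullback j i a b hsq
    haveI := ha; haveI := hb
    haveI : IsAffine P.left := by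
      haveI : IsClosedImmersion a.left := inferInstanceAs (IsClosedImmersion (pullback.snd j.left i.left))
      exact isAffine_of_isAffineHom a.left
    obtain ⟨hlP, hqP⟩ := AntMax16.props_of_mono b
    obtain ⟨H, _, jH, hjH, hjHc, hHs, hHc, hHdim, -⟩ := Chev24.exists_redNeutral P
    haveI := hjH; haveI := hjHc; haveI := hHs; haveI := hHc
    haveI : IsAffine H.left := isAffine_of_isAffineHom jH.left
    haveI : IsClosedImmersion (jH ≫ b).left := inferInstanceAs (IsClosedImmersion (jH.left ≫ b.left))
    haveI := AntMax16.isCommMonObj hD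
    obtain ⟨f, hf⟩ := hNDmax H (jH ≫ b) fun T x y => ⟨y, by
      rw [_root_.mul_comm x, mul_inv_cancel_right]⟩
    haveI : IsClosedImmersion (f.left ≫ iD.left) := by rw [← Over.comp_left, hf]; infer_instance
    haveI : IsClosedImmersion f.left := IsClosedImmersion.of_comp f.left iD.left
    show topologicalKrullDim P.left ≤ _
    exact hHdim ▸ f.left.isEmbedding.topologicalKrullDim_le


end Groth.Agent.S14764
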