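import Groth.Statements.S14766
import Groth.Agent.Lib.SubtrLim.Submersive

set_option autoImplicit false
set_option backward.isDefEq.respectTransparency false
universe u
open CategoryTheory CategoryTheory.Limits AlgebraicGeometry
open Subtr

namespace Groth.Agent.S14766

/-- Let V be a discrete valuation ring and f : X ⟶ Spec V any morphism of schemes. Then the underlying
continuous map of f is a quotient map (f is submersive) if and only if every ordered pair of points
of Spec V lifts to an ordered pair of points of X. -/
theorem result (V : Type u) [CommRing V] [IsDomain V]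
    [IsDiscreteValuationRing V] {X : Scheme.{u}} (f : X ⟶ Spec (CommRingCat.of V)) :
    Topology.IsQuotientMap f ↔ Subtr.IsSSubtrusive f := by
  refine ⟨GrothLib.SubtrLim.isSSubtrusive_of_isQuotientMap_dvr V f, fun h => ?_⟩
  rw [Topology.isQuotientMap_iff_isClosed]
  refine ⟨fun y => ?_, fun E => ⟨fun hE => hE.preimage f.continuous, fun hE => ?_⟩⟩
  · obtain ⟨x, -, -, hx, -⟩ := h (specializes_refl y)
    exact ⟨x, hx⟩
  let η : Spec (CommRingCat.of V) := (⟨⊥, Ideal.isPrime_bot⟩ : PrimeSpectrum V)
  have hcase : ∀ z : Spec (CommRingCat.of V), z = η ∨ z = GrothLib.HTop.closed (CommRingCat.of V) := fun z => by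
    by_cases hz : z.asIdeal = ⊥
    · exact Or.inl (PrimeSpectrum.ext hz)
    · exact Or.inr (PrimeSpectrum.ext (IsLocalRing.eq_maximalIdeal (Ideal.IsPrime.isMaximal z.2 hz)))
  by_cases hη : η ∈ E
  · obtain ⟨x, x', hx, hfx, hfx'⟩ := h (GrothLib.HTop.gen_specializes (R := CommRingCat.of V)
      (GrothLib.HTop.closed (CommRingCat.of V)))
    have hx' : x' ∈ f ⁻¹' E := by rw [Set.mem_preimage, hfx']; exact hη
    have hc := hE.stableUnderSpecialization hx hx'
    rw [Set.mem_preimage, hfx] at hc
    rw [show E = Set.univ from Set.eq_univ_of_forall fun z => (hcase z).elim (fun e => e ▸ hη) (fun e => e ▸ hc)]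
    exact isClosed_univ
  · have hsub : E ⊆ {GrothLib.HTop.closed (CommRingCat.of V)} := fun z hz =>
      (hcase z).resolve_left fun e => hη (e ▸ hz)
    rcases Set.subset_singleton_iff_eq.mp hsub with rfl | rfl
    · exact isClosed_empty
    · exact (PrimeSpectrum.isClosed_singleton_iff_isMaximal _).mpr (IsLocalRing.maximalIdeal.isMaximal V)

end Groth.Agent.S14766
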