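import Groth.Statements.S1477
import Groth.Agent.Lib.FinEnv6.Stage
-- import your own Groth.Agent.* helpers here

set_option autoImplicit false
universe u
open FlatMor

namespace Groth.Agent.S1477

open AlgebraicGeometry CategoryTheory Limits in
/-- Let S be quasi-compact and quasi-separated and f : X → S separated, quasi-compact, locally
quasi-finite and locally of finite presentation. Then f factors as a quasi-compact open immersion X
→ T followed by a morphism T → S which is finite and of finite presentation. -/
theorem result {X S : Scheme.{u}} (f : X ⟶ S) [CompactSpace ↑S] [QuasiSeparatedSpace ↑S]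
    [IsSeparated f] [QuasiCompact f] [LocallyQuasiFinite f] [LocallyOfFinitePresentation f] :
    ∃ (T : Scheme.{u}) (j : X ⟶ T) (π : T ⟶ S), IsOpenImmersion j ∧ QuasiCompact j ∧ IsFinite π ∧ LocallyOfFinitePresentation π ∧ j ≫ π = f := by
    exact GrothLib.FinEnv6.exists_finite_fp_envelope f

end Groth.Agent.S1477
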