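import Groth.Statements.S14777
import Groth.Agent.Lib.EtSubtr4.NonQCGlobal
-- import your own Groth.Agent.* helpers here

set_option autoImplicit false
universe u
open CategoryTheory CategoryTheory.Limits AlgebraicGeometry
open Subtr

namespace Groth.Agent.S14777

/-- Let S and S' be quasi-separated schemes and g : S' ⟶ S universally closed, surjective and of finite
presentation. Then every descent datum relative to g whose underlying scheme is étale and separated
over S' is isomorphic to the canonical descent datum of a scheme étale and separated over S. (The
published result is stated for étale algebraic spaces, which need not be separated; this row states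
the case of separated objects, where everything is a scheme. Descent data are taken in
functor-of-points form.) -/
theorem result {S' S : Scheme.{u}}
    [QuasiSeparatedSpace S] [QuasiSeparatedSpace S'] (g : S' ⟶ S)
    [UniversallyClosed g] [Surjective g] [LocallyOfFinitePresentation g] [QuasiCompact g]
    [QuasiSeparated g] (D : Desc.SchDD g) [IsSeparated D.obj.hom] [Etale D.obj.hom] :
    ∃ U : Over S, IsSeparated U.hom ∧ Etale U.hom ∧ Nonempty ((Desc.toDD g).obj U ≅ D) := by
  haveI : Etale (GrothLib.EtDescent21.obj₀ ((Desc.SchDDFam.ofSchDD g).obj D)).hom := inferInstanceAs (Etale D.obj.hom)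
  haveI : IsSeparated (GrothLib.EtDescent21.obj₀ ((Desc.SchDDFam.ofSchDD g).obj D)).hom :=
    inferInstanceAs (IsSeparated D.obj.hom)
  exact GrothLib.EtSubtr4.exists_descended_sep (GrothLib.EtDescent21.univSubmersive_of_universallyClosed g) D
    (GrothLib.EtSubtr4.etRep_id_of_universallyClosed _)

end Groth.Agent.S14777
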