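import Groth.Statements.S1478
import Groth.Agent.Lib.OmegaSheaf.Basic
-- import your own Groth.Agent.* helpers here

set_option autoImplicit false
universe u
open FlatMor

namespace Groth.Agent.S1478

section
open AlgebraicGeometry CategoryTheory Opposite
theorem hom_ext_local {Y : Scheme.{u}} {M N : Y.Modules} {a b : M ⟶ N}
    (h : ∀ x : Y, ∃ W : Y.Opens, x ∈ W ∧ ∀ U : Y.Opens, IsAffineOpen U → U ≤ W →
      ∀ e : Γ(M, U), a.app U e = b.app U e) : a = b := by
  choose W hxW hW using h
  refine Scheme.Modules.hom_ext _ _ fun V => ConcreteCategory.hom_ext _ _ fun m => ?_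
  refine GrothLib.Ample.meq_of_cover N
    (fun q : Σ x : Y, { U : Y.Opens // IsAffineOpen U ∧ U ≤ W x ∧ U ≤ V } => q.2.1) (fun q => q.2.2.2.2) ?_ fun q => ?_
  · intro y hy
    obtain ⟨U, hU, hyU, hle⟩ := exists_isAffineOpen_mem_and_subset (show y ∈ W y ⊓ V from ⟨hxW y, hy⟩)
    exact TopologicalSpace.Opens.mem_iSup.mpr ⟨⟨y, U, hU, hle.trans inf_le_left, hle.trans inf_le_right⟩, hyU⟩
  · obtain ⟨x, U, hU, hUW, hUV⟩ := q
    rw [← GrothLib.Ample.app_mres, ← GrothLib.Ample.app_mres]
    exact hW x U hU hUW _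
end

open AlgebraicGeometry CategoryTheory Limits in
/-- For separated morphisms (where the sheaf of differentials is literally the conormal sheaf of the
closed diagonal): a separated morphism f : X → S is formally unramified if and only if Ω_{X/S}, the
conormal sheaf of the diagonal, is the zero O_X-module. -/
theorem result {X S : Scheme.{u}} (f : X ⟶ S) [IsSeparated f] :
    FormallyUnramified f ↔ IsZero (Omega.sheaf f) := by
  constructor
  · intro h
    rw [Limits.IsZero.iff_id_eq_zero]
    refine hom_ext_local fun x => ?_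
    obtain ⟨V, hV, hxV, -⟩ := exists_isAffineOpen_mem_and_subset (show f x ∈ (⊤ : S.Opens) from trivial)
    obtain ⟨W, hW, hxW, hWV⟩ := exists_isAffineOpen_mem_and_subset (show x ∈ f ⁻¹ᵁ V from hxV)
    refine ⟨W, hxW, fun U hU hUW e => ?_⟩
    letI := (f.appLE V U (hUW.trans hWV)).hom.toAlgebra
    obtain ⟨eq⟩ := GrothLib.OmegaSheaf.nonempty_sections_equiv f hU hV (hUW.trans hWV)
    haveI : Algebra.FormallyUnramified Γ(S, V) Γ(X, U) :=
      HasRingHomProperty.appLE @FormallyUnramified f h ⟨V, hV⟩ ⟨U, hU⟩ (hUW.trans hWV)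
    haveI : Subsingleton Γ(Omega.sheaf f, U) := eq.subsingleton
    exact Subsingleton.elim _ _
  · intro h
    rw [HasRingHomProperty.iff_appLE (P := @FormallyUnramified)]
    intro V U e
    letI := (f.appLE V.1 U.1 e).hom.toAlgebra
    obtain ⟨eq⟩ := GrothLib.OmegaSheaf.nonempty_sections_equiv f U.2 V.2 e
    haveI : Subsingleton Γ(Omega.sheaf f, U.1) :=
      AddCommGrpCat.subsingleton_of_isZero
        (((Scheme.Modules.toPresheaf X).map_isZero h).obj (Opposite.op U.1))
    exact ⟨eq.symm.subsingleton⟩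

end Groth.Agent.S1478
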