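import Groth.Statements.S14781
import Groth.Agent.Lib.SubtrRefine4.Instances
-- import your own Groth.Agent.* helpers here

set_option autoImplicit false
universe u
open CategoryTheory CategoryTheory.Limits AlgebraicGeometry
open Subtr

namespace Groth.Agent.S14781

/-- Let Y be a scheme that is affine or Noetherian and f : X ⟶ Y a quasi-finite morphism of finite
presentation every base change of which has the lifting property for ordered pairs of points. Then
there are schemes X', Y', a morphism h : X' ⟶ X, a quasi-compact, quasi-separated, surjective
morphism p : X' ⟶ Y' that is an open immersion on an open neighbourhood of every point of X' (an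
open covering of Y' of finite presentation) and a finite surjective morphism q : Y' ⟶ Y of finite
presentation, with h ≫ f = p ≫ q. -/
theorem result {X Y : Scheme.{u}} (f : X ⟶ Y)
    (hY : IsAffine Y ∨ IsNoetherian Y) [LocallyOfFinitePresentation f] [QuasiCompact f] [QuasiSeparated f] [LocallyQuasiFinite f]
    (hf : Subtr.UnivSSubtrusive f) :
    ∃ (X' Y' : Scheme.{u}) (h : X' ⟶ X) (p : X' ⟶ Y') (q : Y' ⟶ Y), h ≫ f = p ≫ q ∧
      Surjective p ∧ QuasiCompact p ∧ QuasiSeparated p ∧ (∀ x : X', ∃ U : X'.Opens, x ∈ U ∧ IsOpenImmersion (U.ι ≫ p)) ∧
      IsFinite q ∧ Surjective q ∧ LocallyOfFinitePresentation q := by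
  exact GrothLib.SubtrRefine4.refines_finite f hY hf

end Groth.Agent.S14781
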