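import Groth.Statements.S14783
import Groth.Agent.Lib.SubtrLim.LocClosed

set_option autoImplicit false
set_option backward.isDefEq.respectTransparency false
universe u
open CategoryTheory CategoryTheory.Limits AlgebraicGeometry
open Subtr

namespace Groth.Agent.S14783

open GrothLib.Constr TopologicalSpace

/-- In an affine open a compact piece of a locally closed set is cut out by a compact open. -/
lemma exists_compact_open {X : Scheme.{u}} {V : X.Opens} (hV : IsAffineOpen V) {O C K : Set X}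
    (hO : IsOpen O) (hK : K = O ∩ C) (hc : IsCompact (K ∩ V)) :
    ∃ O' : Set X, IsOpen O' ∧ IsCompact O' ∧ O' ⊆ V ∧ K ∩ V = C ∩ O' := by
  have hsub : K ∩ V ⊆ ⋃ W : {W : X.Opens // IsAffineOpen W ∧ (W : Set X) ⊆ O ∩ V}, (W.1 : Set X) := by
    rintro x ⟨hx, hxV⟩
    obtain ⟨W, hW, hxW, hWU⟩ := exists_affine_nhd x (hO.inter V.2) ⟨(hK.le hx).1, hxV⟩
    exact Set.mem_iUnion.mpr ⟨⟨W, hW, hWU⟩, hxW⟩
  obtain ⟨t, ht⟩ := hc.elim_finite_subcover _ (fun W => W.1.2) hsub
  refine ⟨⋃ W ∈ t, (W.1 : Set X), isOpen_biUnion fun W _ => W.1.2,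
    t.isCompact_biUnion fun W _ => W.2.1.isCompact, Set.iUnion₂_subset fun W _ => W.2.2.trans Set.inter_subset_right, ?_⟩
  ext x
  refine ⟨fun hx => ⟨(hK.le hx.1).2, ht hx⟩, fun hx => ?_⟩
  obtain ⟨W, -, hW⟩ := Set.mem_iUnion₂.mp hx.2
  exact ⟨hK.ge ⟨(W.2.2 hW).1, hx.1⟩, (W.2.2 hW).2⟩

lemma isProConstructible_of_isRetrocompact {X : Scheme.{u}} {K : Set X} (hK : IsLocallyClosed K)
    (hr : IsRetrocompact K) : ProCons.IsProConstructible K := by
  obtain ⟨O, C, hO, hC, hOC⟩ := hK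
  refine isProConstructible_of_forall fun x => ?_
  obtain ⟨V, hV, hxV, -⟩ := exists_affine_nhd x isOpen_univ (Set.mem_univ x)
  haveI := compactSpace_of_isAffineOpen hV
  haveI := quasiSeparatedSpace_of_isAffineOpen hV
  refine ⟨V, hxV, inferInstance, inferInstance, ?_⟩
  obtain ⟨O', hO', hO'c, hO'V, he⟩ := exists_compact_open hV hO hOC (hr hV.isCompact V.2)
  have : (Subtype.val ⁻¹' K : Set (V : Set X)) = Subtype.val ⁻¹' C ∩ Subtype.val ⁻¹' O' := by
    ext y
    constructor
    · intro hy; exact he.le ⟨hy, y.2⟩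
    · intro hy; exact (he.ge hy).1
  rw [this]
  refine @IsClosed.inter _ _ _ (constructibleTopology (V : Set X))
    (isClosed_preimage_of_isProConstructible (GrothLib.SubtrLim.isProConstructible_of_isClosed hC) V)
    (isClosed_constructibleTopology_of_isConstructible ?_)
  exact (Topology.IsInducing.subtypeVal.isCompact_preimage' hO'c
    (by rw [Subtype.range_coe]; exact hO'V)).isConstructible (hO'.preimage continuous_subtype_val)


/-- Let f : S' ⟶ S be a quasi-compact morphism of schemes every base change of which has the lifting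
property for ordered pairs of points, and E ⊆ S any subset. For E to be both locally closed and
retrocompact it is necessary and sufficient that f⁻¹(E) be both. -/
theorem result {S' S : Scheme.{u}} (f : S' ⟶ S)
    [QuasiCompact f] (hf : Subtr.UnivSSubtrusive f) (E : Set S) :
    (IsLocallyClosed E ∧ IsRetrocompact E) ↔
      (IsLocallyClosed (f ⁻¹' E) ∧ IsRetrocompact (f ⁻¹' E)) := by
  constructor
  · rintro ⟨hE, hr⟩
    refine ⟨hE.preimage f.continuous, fun U hUc hUo => ?_⟩
    obtain ⟨O, C, hO, hC, hOC⟩ := hE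
    have hx : ∀ x : U, ∃ (V : S.Opens) (W : S'.Opens), IsAffineOpen V ∧ IsAffineOpen W ∧ (x : S') ∈ W ∧
        (W : Set S') ⊆ U ∩ f ⁻¹' (V : Set S) := fun x => by
      obtain ⟨V, hV, hxV, -⟩ := exists_affine_nhd (f x) isOpen_univ (Set.mem_univ _)
      obtain ⟨W, hW, hxW, hWU⟩ := exists_affine_nhd x.1 (hUo.inter (V.2.preimage f.continuous)) ⟨x.2, hxV⟩
      exact ⟨V, W, hV, hW, hxW, hWU⟩
    choose V W hV hW hxW hWU using hx
    obtain ⟨t, ht⟩ := hUc.elim_finite_subcover (fun x : U => (W x : Set S')) (fun x => (W x).2)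
      (fun x hx => Set.mem_iUnion.mpr ⟨⟨x, hx⟩, hxW _⟩)
    have hU : f ⁻¹' E ∩ U = ⋃ x ∈ t, (f ⁻¹' E ∩ W x) := by
      ext z
      refine ⟨fun hz => ?_, fun hz => ?_⟩
      · obtain ⟨x, hxt, hzx⟩ := Set.mem_iUnion₂.mp (ht hz.2)
        exact Set.mem_iUnion₂.mpr ⟨x, hxt, hz.1, hzx⟩
      · obtain ⟨x, -, hzE, hzx⟩ := Set.mem_iUnion₂.mp hz
        exact ⟨hzE, (hWU x hzx).1⟩
    rw [hU]
    refine t.isCompact_biUnion fun x _ => ?_
    obtain ⟨O', hO', hO'c, hO'V, he⟩ := exists_compact_open (hV x) hO hOC (hr (hV x).isCompact (V x).2)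
    have he' : f ⁻¹' E ∩ W x = f ⁻¹' C ∩ ((W x : Set S') ∩ f ⁻¹' O') := by
      ext z
      refine ⟨fun hz => ?_, fun hz => ?_⟩
      · have := he.le ⟨hz.1, (hWU x hz.2).2⟩
        exact ⟨this.1, hz.2, this.2⟩
      · exact ⟨(he.ge ⟨hz.1, hz.2.2⟩).1, hz.2.1⟩
    rw [he']
    refine IsCompact.inter_left ?_ (hC.preimage f.continuous)
    haveI : IsAffine (W x).toScheme := hW x
    haveI : IsAffine (V x).toScheme := hV x
    let r := f.resLE (V x) (W x) (fun z hz => (hWU x hz).2)
    have hc := r.isCompact_preimage (U := (V x).ι ⁻¹ᵁ ⟨O', hO'⟩)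
      (Topology.IsInducing.subtypeVal.isCompact_preimage' hO'c
        (by rw [Subtype.range_coe]; exact hO'V))
    have hc' := hc.image continuous_subtype_val
    suffices heq : (W x : Set S') ∩ f ⁻¹' O' =
        Subtype.val '' ((r ⁻¹ᵁ ((V x).ι ⁻¹ᵁ ⟨O', hO'⟩) : (W x).toScheme.Opens) : Set (W x).toScheme) by
      rw [heq]; exact hc'
    ext z
    constructor
    · intro hz
      refine ⟨⟨z, hz.1⟩, ?_, rfl⟩
      show (r ⟨z, hz.1⟩).1 ∈ O'
      rw [Scheme.Hom.coe_resLE_apply]
      exact hz.2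
    · rintro ⟨⟨z, hzW⟩, hz, rfl⟩
      refine ⟨hzW, ?_⟩
      have : (r ⟨z, hzW⟩).1 ∈ O' := hz
      rw [Scheme.Hom.coe_resLE_apply] at this
      exact this
  · rintro ⟨hE, hr⟩
    have hsurj : Function.Surjective f := fun y => by
      obtain ⟨x, -, -, hx, -⟩ := hf (𝟙 S') (𝟙 _) f (IsPullback.of_vert_isIso ⟨by simp⟩) (specializes_refl y)
      exact ⟨x, hx⟩
    have hpro : ProCons.IsProConstructible E := by
      have := isProConstructible_image f (isProConstructible_of_isRetrocompact hE hr)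
      rwa [Set.image_preimage_eq _ hsurj] at this
    refine ⟨GrothLib.SubtrLim.isLocallyClosed_of_preimage f hf (fun z hz => ?_) hE, fun U hUc hUo => ?_⟩
    · obtain ⟨w, hw, hwz⟩ := Groth.Agent.S14788.exists_mem_specializes hpro hz
      exact ⟨w, hwz, (Set.preimage_mono (Set.singleton_subset_iff.mpr hw)).trans subset_closure⟩
    · have := (hr (f.isCompact_preimage (U := ⟨U, hUo⟩) hUc) (hUo.preimage f.continuous)).image f.continuous
      rw [show ((f ⁻¹ᵁ ⟨U, hUo⟩ : S'.Opens) : Set S') = f ⁻¹' U from rfl, Set.image_inter_preimage,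
        Set.image_preimage_eq _ hsurj] at this
      exact this

end Groth.Agent.S14783
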