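import Groth.Statements.S14784
import Groth.Agent.Lib.SubtrLim.LocClosed

set_option autoImplicit false
set_option backward.isDefEq.respectTransparency false
universe u
open CategoryTheory CategoryTheory.Limits AlgebraicGeometry
open Subtr

namespace Groth.Agent.S14784

/-- Let f : S' ⟶ S be a morphism of schemes of finite presentation every base change of which has the
lifting property for ordered pairs of points, and E ⊆ S a subset. Then E is locally closed if and
only if f⁻¹(E) is locally closed. (The published statement is for algebraic spaces; this row is the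
case of schemes.) -/
theorem result {S' S : Scheme.{u}} (f : S' ⟶ S)
    [LocallyOfFinitePresentation f] [QuasiCompact f] [QuasiSeparated f]
    (hf : Subtr.UnivSSubtrusive f) (E : Set S) :
    IsLocallyClosed E ↔ IsLocallyClosed (f ⁻¹' E) := by
  refine ⟨fun hE => hE.preimage f.continuous, fun hE => ?_⟩
  refine GrothLib.SubtrLim.isLocallyClosed_of_preimage f hf (fun z hz => ?_) hE
  let P := ⋂₀ {T : Set S | ProCons.IsProConstructible T ∧ E ⊆ T}
  have hP : ProCons.IsProConstructible P := GrothLib.SubtrLim.isProConstructible_sInter fun T hT => hT.1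
  obtain ⟨w, hw, hwz⟩ := Groth.Agent.S14788.exists_mem_specializes hP
    (closure_mono (Set.subset_sInter fun T hT => hT.2) hz)
  refine ⟨w, hwz, fun a ha => mem_closure_iff.mpr fun O hO haO => ?_⟩
  by_contra hne
  have hT : (f '' O)ᶜ ∈ {T : Set S | ProCons.IsProConstructible T ∧ E ⊆ T} := by
    refine ⟨GrothLib.Constr.isProConstructible_iff_compl.2 ?_, fun e he => ?_⟩
    · rw [compl_compl]
      exact GrothLib.Constr.isIndConstructible_image f (GrothLib.Constr.isIndConstructible_of_isOpen hO)
    · rintro ⟨x, hxO, rfl⟩
      exact hne ⟨x, hxO, he⟩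
  exact Set.mem_sInter.mp hw _ hT ⟨a, haO, ha⟩

end Groth.Agent.S14784
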