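import Groth.Statements.S14788
import Groth.Agent.Lib.Constr.Scheme
import Mathlib.AlgebraicGeometry.ResidueField

set_option autoImplicit false
set_option backward.isDefEq.respectTransparency false
universe u
open CategoryTheory CategoryTheory.Limits AlgebraicGeometry
open Subtr

namespace Groth.Agent.S14788

open GrothLib.Constr in
/-- The closure of a pro-constructible set consists of the specialisations of its points. -/
lemma exists_mem_specializes {X : Scheme.{u}} {E : Set X} (hE : ProCons.IsProConstructible E) {x : X}
    (hx : x ∈ closure E) : ∃ x' ∈ E, x' ⤳ x := by
  by_contra hcon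
  push Not at hcon
  have h := (mem_interior_iff (isProConstructible_iff_compl.1 hE)).2 (fun x' hx' hmem => hcon x' hmem hx')
  rw [interior_compl] at h
  exact h hx

open GrothLib.Constr in
lemma isProConstructible_singleton {X : Scheme.{u}} (x : X) : ProCons.IsProConstructible ({x} : Set X) := by
  let j := X.fromSpecResidueField x
  have hj : QuasiCompact j := ⟨fun U _ _ => (Set.toFinite _).isCompact⟩
  have h := isProConstructible_image j (E := Set.univ)
    (isProConstructible_of_isLocallyConstructible Topology.IsLocallyConstructible.univ)
  rwa [Set.image_univ, Scheme.range_fromSpecResidueField] at h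


/-- (i) ⇔ (iv): a morphism of schemes f : X ⟶ Y has the lifting property for ordered pairs of points if
and only if, for every pro-constructible subset Z ⊆ Y, the image under f of the closure of f⁻¹(Z) is
the closure of Z. (In the published item (iv) the right-hand side is printed as Z itself; the
closure is meant, as the case of a non-closed point shows and as the proof uses.) -/
theorem result {X Y : Scheme.{u}} (f : X ⟶ Y) :
    Subtr.IsSSubtrusive f ↔
      ∀ Z : Set Y, ProCons.IsProConstructible Z → f '' closure (f ⁻¹' Z) = closure Z := by
  constructor
  · intro h Z hZ
    have hsurj : Function.Surjective f := fun y => by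
      obtain ⟨x, -, -, hx, -⟩ := h (specializes_refl y)
      exact ⟨x, hx⟩
    refine subset_antisymm ((image_closure_subset_closure_image f.continuous).trans
      (closure_mono (Set.image_preimage_subset f Z))) fun y hy => ?_
    obtain ⟨z, hz, hzy⟩ := exists_mem_specializes hZ hy
    obtain ⟨x, x', hx, hfx, hfx'⟩ := h hzy
    refine ⟨x, closure_mono (Set.singleton_subset_iff.mpr (show x' ∈ f ⁻¹' Z from ?_))
      (specializes_iff_mem_closure.mp hx), hfx⟩
    rw [Set.mem_preimage, hfx']
    exact hz
  · intro h y y' hy
    have := (h {y'} (isProConstructible_singleton y')).ge (specializes_iff_mem_closure.mp hy)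
    obtain ⟨x, hx, hfx⟩ := this
    obtain ⟨x', hx', hxx⟩ := exists_mem_specializes
      (GrothLib.Constr.isProConstructible_preimage f (isProConstructible_singleton y')) hx
    exact ⟨x, x', hxx, hfx, hx'⟩

end Groth.Agent.S14788
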