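import Groth.Statements.S14789
import Mathlib.AlgebraicGeometry.Properties
import Mathlib.Topology.Sober
-- import your own Groth.Agent.* helpers here

set_option autoImplicit false
universe u
open CategoryTheory CategoryTheory.Limits AlgebraicGeometry
open Subtr

namespace Groth.Agent.S14789

/-- Let f : X ⟶ Y be a morphism of schemes with the lifting property for ordered pairs of points, and U
⊆ Y a subset containing every maximal point of Y (every point all of whose generizations are equal
to it). Then the closure of f⁻¹(U) maps onto Y. -/
theorem result {X Y : Scheme.{u}} (f : X ⟶ Y)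
    (hf : Subtr.IsSSubtrusive f) (U : Set Y) (hU : ∀ y : Y, (∀ y' : Y, y' ⤳ y → y' = y) → y ∈ U) :
    f '' closure (f ⁻¹' U) = Set.univ := by
  classical
  refine Set.eq_univ_of_forall fun y => ?_
  obtain ⟨z, hz, hzy⟩ : ∃ z : Y, (∀ y' : Y, y' ⤳ z → y' = z) ∧ z ⤳ y := by
    have hirr := isIrreducible_irreducibleComponent (x := y)
    have hg := hirr.isGenericPoint_genericPoint isClosed_irreducibleComponent
    refine ⟨hirr.genericPoint, fun y' hy' => ?_, hg.specializes mem_irreducibleComponent⟩
    have heq : closure ({y'} : Set Y) = irreducibleComponent y := by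
      refine eq_irreducibleComponent isIrreducible_singleton.closure.isPreirreducible ?_
      rw [← hg.def]
      exact closure_minimal (Set.singleton_subset_iff.mpr (specializes_iff_mem_closure.mp hy'))
        isClosed_closure
    exact IsGenericPoint.eq (S := irreducibleComponent y) heq hg
  obtain ⟨x, x', hxx', hx, hx'⟩ := hf hzy
  refine ⟨x, ?_, hx⟩
  exact closure_mono (Set.singleton_subset_iff.mpr (show x' ∈ f ⁻¹' U from (hx'.symm ▸ hU z hz : f x' ∈ U)))
    (specializes_iff_mem_closure.mp hxx')

end Groth.Agent.S14789
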