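import Groth.Statements.S1479
import Groth.Agent.Lib.BlowPair8.Coords

set_option autoImplicit false
universe u
open FlatMor

namespace Groth.Agent.S1479

open AlgebraicGeometry CategoryTheory Limits in
/-- Let X and Y be smooth over S and i : Y → X a closed immersion over S. For every point y of Y there
are an open U of X containing i y, natural numbers m, n, and an étale S-morphism π from U to affine
(m+n)-space over S such that the closed subscheme Y ∩ U of U is the pullback along π of the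
coordinate subspace given by the vanishing of the last n coordinates. -/
theorem result {S X Y : Scheme.{u}} (pX : X ⟶ S) (pY : Y ⟶ S) [Smooth pX] [Smooth pY]
    (i : Y ⟶ X) [IsClosedImmersion i] (w : i ≫ pX = pY) (y : Y) :
    ∃ (U : X.Opens) (m n : ℕ) (π : (U : Scheme.{u}) ⟶ 𝔸(ULift.{u} (Fin m ⊕ Fin n); S)) (ρ : (↑(i ⁻¹ᵁ U) : Scheme.{u}) ⟶ 𝔸(ULift.{u} (Fin m); S)),
      i y ∈ U ∧ Etale π ∧ π ≫ (𝔸(ULift.{u} (Fin m ⊕ Fin n); S) ↘ S) = U.ι ≫ pX ∧
      IsPullback ρ (i ∣_ U)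
        (AffineSpace.homOfVector (𝔸(ULift.{u} (Fin m); S) ↘ S)
          (fun j : ULift.{u} (Fin m ⊕ Fin n) => Sum.elim (fun a => AffineSpace.coord S (ULift.up a)) (fun _ => 0) j.down))
        π := by
  obtain ⟨S₀, hS₀, U, hU, e, r, m, ψ, hyU, hψ, hI⟩ := @GrothLib.BlowPair8.exists_coords Y X S pX _ i _ (w ▸ inferInstance) y
  letI := (pX.appLE S₀ U e).hom.toAlgebra
  let bb : ULift.{u} (Fin m ⊕ Fin r) → Γ(X, U) := fun j => ψ (MvPolynomial.X j.down.swap)
  let v : ULift.{u} (Fin m ⊕ Fin r) → Γ(↑U, ⊤) := fun j => U.topIso.inv (bb j)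
  let π : (U : Scheme.{u}) ⟶ 𝔸(ULift.{u} (Fin m ⊕ Fin r); S) := AffineSpace.homOfVector (U.ι ≫ pX) v
  let ρ : (↑(i ⁻¹ᵁ U) : Scheme.{u}) ⟶ 𝔸(ULift.{u} (Fin m); S) :=
    (i ∣_ U) ≫ π ≫ AffineSpace.reindex (fun a : ULift.{u} (Fin m) => (⟨Sum.inl a.down⟩ : ULift.{u} (Fin m ⊕ Fin r))) S
  let σ : MvPolynomial (ULift.{u} (Fin m ⊕ Fin r)) Γ(S, S₀) →ₐ[Γ(S, S₀)] MvPolynomial (Fin r ⊕ Fin m) Γ(S, S₀) :=
    MvPolynomial.rename fun j => j.down.swap
  have hσ : Function.Bijective σ := (MvPolynomial.renameEquiv Γ(S, S₀) (Equiv.ulift.trans (Equiv.sumComm (Fin m) (Fin r)))).bijective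
  let ψ' := ψ.toRingHom.comp σ.toRingHom
  have hψ' : ψ'.Etale := RingHom.Etale.stableUnderComposition _ _ (RingHom.Etale.of_bijective hσ) hψ
  have hπ : hU.isoSpec.inv ≫ π = Spec.map (CommRingCat.ofHom ψ') ≫
      (AffineSpace.SpecIso (ULift.{u} (Fin m ⊕ Fin r)) Γ(S, S₀)).inv ≫ AffineSpace.map _ hS₀.fromSpec := by
    apply AffineSpace.hom_ext
    · simp only [π, Category.assoc, AffineSpace.homOfVector_over, AffineSpace.map_over, AffineSpace.SpecIso_inv_over_assoc]
      rw [← Category.assoc, hU.isoSpec_inv_ι, ← IsAffineOpen.SpecMap_appLE_fromSpec pX hS₀ hU e, ← Spec.map_comp_assoc]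
      congr 2
      ext a
      simp only [ψ', CommRingCat.hom_comp, CommRingCat.hom_ofHom, RingHom.comp_apply, AlgHom.toRingHom_eq_coe, RingHom.coe_coe]
      rw [show σ (MvPolynomial.C a) = MvPolynomial.C a from MvPolynomial.rename_C _ _]
      exact (ψ.commutes a).symm
    · intro j
      simp only [Scheme.Hom.comp_appTop, CommRingCat.comp_apply, π, AffineSpace.homOfVector_appTop_coord, AffineSpace.map_appTop_coord, AffineSpace.SpecIso_inv_appTop_coord, v]
      rw [IsAffineOpen.isoSpec_inv_appTop, CommRingCat.comp_apply, Iso.inv_hom_id_apply, ← CommRingCat.comp_apply,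
        ← Scheme.ΓSpecIso_inv_naturality, CommRingCat.comp_apply]
      simp only [ψ', CommRingCat.hom_ofHom, RingHom.comp_apply, bb]
      simp [σ]; rfl
  haveI : IsOpenImmersion (AffineSpace.map (ULift.{u} (Fin m ⊕ Fin r)) hS₀.fromSpec) :=
    MorphismProperty.of_isPullback (AffineSpace.isPullback_map hS₀.fromSpec).flip inferInstance
  haveI : Etale π := by
    haveI : Etale (Spec.map (CommRingCat.ofHom ψ')) := (HasRingHomProperty.Spec_iff (P := @Etale)).2 hψ'
    rw [show π = hU.isoSpec.hom ≫ Spec.map (CommRingCat.ofHom ψ') ≫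
      (AffineSpace.SpecIso (ULift.{u} (Fin m ⊕ Fin r)) Γ(S, S₀)).inv ≫ AffineSpace.map _ hS₀.fromSpec by
      rw [← hπ, Iso.hom_inv_id_assoc]]
    infer_instance
  have hkill : ∀ k : Fin r, (i ∣_ U).appTop (v ⟨Sum.inr k⟩) = 0 := by
    intro k
    have h0 : i.app U (bb ⟨Sum.inr k⟩) = 0 := by
      have h1 : bb ⟨Sum.inr k⟩ ∈ i.ker.ideal ⟨U, hU⟩ := hI ▸ Ideal.subset_span ⟨k, rfl⟩
      rwa [Scheme.Hom.ker_apply, RingHom.mem_ker] at h1
    have h2 : U.topIso.inv ≫ (i ∣_ U).appTop = i.app U ≫ (i ⁻¹ᵁ U).topIso.inv := by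
      rw [morphismRestrict_appTop]
      simp only [Scheme.Opens.topIso_inv, Category.assoc]
      erw [i.naturality_assoc, ← Functor.map_comp]
      rfl
    show (U.topIso.inv ≫ (i ∣_ U).appTop) (bb ⟨Sum.inr k⟩) = 0
    rw [h2, CommRingCat.comp_apply, h0, map_zero]
  refine ⟨U, m, r, π, ρ, hyU, inferInstance, AffineSpace.homOfVector_over _ _, ?_⟩
  have hsq : ρ ≫ AffineSpace.homOfVector (𝔸(ULift.{u} (Fin m); S) ↘ S)
      (fun j : ULift.{u} (Fin m ⊕ Fin r) => Sum.elim (fun a => AffineSpace.coord S (ULift.up a)) (fun _ => 0) j.down) =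
      (i ∣_ U) ≫ π := by
    apply AffineSpace.hom_ext
    · simp [ρ, π]
    · rintro ⟨a | k⟩
      · simp [ρ, π]
      · simp only [Scheme.Hom.comp_appTop, CommRingCat.comp_apply, AffineSpace.homOfVector_appTop_coord, Sum.elim_inr, map_zero, π]
        exact (hkill k).symm
  haveI : IsAffine (U : Scheme.{u}) := hU
  haveI : IsClosedImmersion (i ∣_ U) := inferInstance
  have hlift : ∀ s : Limits.PullbackCone (AffineSpace.homOfVector (𝔸(ULift.{u} (Fin m); S) ↘ S)
      (fun j : ULift.{u} (Fin m ⊕ Fin r) => Sum.elim (fun a => AffineSpace.coord S (ULift.up a)) (fun _ => 0) j.down)) π,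
      (i ∣_ U).ker ≤ s.snd.ker := by
    intro s
    refine Scheme.IdealSheafData.le_ofIdeals_iff.mpr fun V => ?_
    rw [← (i ∣_ U).ker.map_ideal (U := V) (V := ⟨⊤, isAffineOpen_top (U : Scheme.{u})⟩) (le_top : V.1 ≤ ⊤), Ideal.map_le_iff_le_comap,
      Scheme.Hom.ker_apply, RingHom.comap_ker, ← CommRingCat.hom_comp, s.snd.naturality]
    refine le_trans (b := RingHom.ker s.snd.appTop.hom) ?_ ?_
    swap
    · intro x hx
      rw [RingHom.mem_ker] at hx ⊢
      rw [CommRingCat.hom_comp, RingHom.comp_apply]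
      exact (congrArg _ hx).trans (map_zero _)
    have hgen : RingHom.ker (i ∣_ U).appTop.hom ≤ Ideal.span (Set.range fun k => v ⟨Sum.inr k⟩) := by
      intro x hx
      have h2 : U.topIso.inv ≫ (i ∣_ U).appTop = i.app U ≫ (i ⁻¹ᵁ U).topIso.inv := by
        rw [morphismRestrict_appTop]
        simp only [Scheme.Opens.topIso_inv, Category.assoc]
        erw [i.naturality_assoc, ← Functor.map_comp]
        rfl
      obtain ⟨x', rfl⟩ := (ConcreteCategory.bijective_of_isIso U.topIso.inv).2 x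
      have h3 : (i.app U ≫ (i ⁻¹ᵁ U).topIso.inv) x' = 0 := by rw [← h2, CommRingCat.comp_apply]; exact hx
      rw [CommRingCat.comp_apply] at h3
      have h4 : i.app U x' = 0 := (ConcreteCategory.bijective_of_isIso (i ⁻¹ᵁ U).topIso.inv).1 (by rw [h3, map_zero])
      have h5 : x' ∈ Ideal.span (Set.range fun k => bb ⟨Sum.inr k⟩) := by
        have h6 : x' ∈ i.ker.ideal ⟨U, hU⟩ := by rw [Scheme.Hom.ker_apply, RingHom.mem_ker]; exact h4
        rwa [hI] at h6
      have h7 := Ideal.mem_map_of_mem U.topIso.inv.hom h5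
      rw [Ideal.map_span, ← Set.range_comp] at h7
      exact h7
    refine hgen.trans (Ideal.span_le.2 ?_)
    rintro _ ⟨k, rfl⟩
    have h := congrArg (fun t => t.appTop (AffineSpace.coord S (⟨Sum.inr k⟩ : ULift.{u} (Fin m ⊕ Fin r)))) s.condition
    simp only [Scheme.Hom.comp_appTop, CommRingCat.comp_apply, AffineSpace.homOfVector_appTop_coord, Sum.elim_inr, map_zero, π] at h
    exact h.symm
  refine ⟨⟨hsq⟩, ⟨Limits.PullbackCone.IsLimit.mk _ (fun s => IsClosedImmersion.lift (i ∣_ U) s.snd (hlift s))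
    (fun s => ?_) (fun s => IsClosedImmersion.lift_fac _ _ _) (fun s l _ hl => ?_)⟩⟩
  · simp only [ρ, IsClosedImmersion.lift_fac_assoc, ← reassoc_of% s.condition]
    apply AffineSpace.hom_ext
    · simp
    · intro a
      simp
  · rw [← cancel_mono (i ∣_ U), IsClosedImmersion.lift_fac]; exact hl

end Groth.Agent.S1479
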