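import Groth.Statements.S14795
import Groth.Agent.Lib.UHTower.Basic
import Groth.Agent.Lib.AWN25.Basic

set_option autoImplicit false
universe u
open CategoryTheory CategoryTheory.Limits AlgebraicGeometry
open Subtr

namespace Groth.Agent.S14795

/-- Let A ⊆ B be an integral ring extension and C ⊆ B the weak subintegral closure of A in B, that is
the largest A-subalgebra C of B such that Spec C ⟶ Spec A is a universal homeomorphism (C is
characterised here by that maximality). Then b ∈ B lies in C if and only if b ⊗ 1 − 1 ⊗ b is
nilpotent in B ⊗_A B (b ⊗ 1 = 1 ⊗ b in the reduction of B ⊗_A B). -/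
theorem result {A B : Type u} [CommRing A] [CommRing B]
    [Algebra A B] (hinj : Function.Injective (algebraMap A B)) [Algebra.IsIntegral A B]
    (C : Subalgebra A B) (hC : FlatMor.IsUnivHomeo (Spec.map (CommRingCat.ofHom (algebraMap A C))))
    (hmax : ∀ D : Subalgebra A B, FlatMor.IsUnivHomeo (Spec.map (CommRingCat.ofHom (algebraMap A D))) → D ≤ C) (b : B) :
    b ∈ C ↔ IsNilpotent (b ⊗ₜ[A] (1 : B) - (1 : B) ⊗ₜ[A] b) := by
  constructor
  · intro hb
    have hR := (GrothLib.UHTower.isUnivHomeo_iff_uh.1 hC).2.2
    rw [← mem_nilradical, nilradical_eq_sInf, Ideal.mem_sInf]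
    intro P (hP : P.IsPrime)
    let g : TensorProduct A B B →+* FractionRing ((TensorProduct A B B) ⧸ P) :=
      (algebraMap _ _).comp (Ideal.Quotient.mk P)
    have hfg := hR _
      ((g.comp Algebra.TensorProduct.includeLeftRingHom).comp C.val.toRingHom)
      ((g.comp (Algebra.TensorProduct.includeRight (R := A) (A := B) (B := B)).toRingHom).comp
        C.val.toRingHom)
      (RingHom.ext fun a => by
        show g (algebraMap A B a ⊗ₜ[A] 1) = g (1 ⊗ₜ[A] algebraMap A B a)
        rw [Algebra.algebraMap_eq_smul_one, TensorProduct.smul_tmul])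
    have := DFunLike.congr_fun hfg ⟨b, hb⟩
    change g (b ⊗ₜ[A] (1 : B)) = g ((1 : B) ⊗ₜ[A] b) at this
    rw [← sub_eq_zero, ← map_sub] at this
    exact Ideal.Quotient.eq_zero_iff_mem.1
      ((map_eq_zero_iff _ (IsFractionRing.injective _ _)).1 this)
  · intro hb
    refine hmax (Algebra.adjoin A {b}) ?_ (Algebra.self_mem_adjoin_singleton A b)
    rw [GrothLib.UHTower.isUnivHomeo_iff_uh]
    let D := Algebra.adjoin A {b}
    haveI : Algebra.IsIntegral A D :=
      Algebra.IsIntegral.of_injective D.val Subtype.val_injective
    have hiA : (algebraMap A D).IsIntegral := Algebra.IsIntegral.isIntegral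
    have hiB : (algebraMap D B).IsIntegral := fun x =>
      RingHom.IsIntegral.tower_top (algebraMap A D) (algebraMap D B)
        (by rw [← IsScalarTower.algebraMap_eq]; exact Algebra.IsIntegral.isIntegral) x
    have surj : ∀ {R S : Type u} [CommRing R] [CommRing S] (φ : R →+* S), φ.IsIntegral →
        Function.Injective φ → Function.Surjective (PrimeSpectrum.comap φ) := by
      intro R S _ _ φ hφ hj q
      letI := φ.toAlgebra
      haveI : Algebra.IsIntegral R S := ⟨hφ⟩
      obtain ⟨Q, _, hQ, hQq⟩ := Ideal.exists_ideal_over_prime_of_isIntegral q.asIdeal (⊥ : Ideal S)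
        (by
          intro x hx
          rw [Ideal.mem_comap, Submodule.mem_bot] at hx
          rw [(injective_iff_map_eq_zero φ).1 hj x hx]
          exact zero_mem _)
      exact ⟨⟨Q, hQ⟩, PrimeSpectrum.ext hQq⟩
    refine ⟨hiA, surj _ hiA fun x y h => hinj (congrArg Subtype.val h), fun K _ f g hfg => ?_⟩
    let Ω := AlgebraicClosure K
    obtain ⟨f', hf'⟩ := GrothLib.AWN25.exists_lift (algebraMap D B) hiB
      (surj _ hiB Subtype.val_injective) ((algebraMap K Ω).comp f)
    obtain ⟨g', hg'⟩ := GrothLib.AWN25.exists_lift (algebraMap D B) hiB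
      (surj _ hiB Subtype.val_injective) ((algebraMap K Ω).comp g)
    letI : Algebra A Ω := ((algebraMap K Ω).comp (f.comp (algebraMap A D))).toAlgebra
    have hA : ∀ (h : D →+* K) (h' : B →+* Ω), h'.comp (algebraMap D B) = (algebraMap K Ω).comp h →
        h.comp (algebraMap A D) = f.comp (algebraMap A D) →
        ∀ a, h' (algebraMap A B a) = algebraMap A Ω a := by
      intro h h' hh e a
      have := DFunLike.congr_fun hh (algebraMap A D a)
      rw [RingHom.comp_apply, ← IsScalarTower.algebraMap_apply] at this
      rw [this]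
      exact congrArg (algebraMap K Ω) (DFunLike.congr_fun e a)
    let F : B →ₐ[A] Ω := { f' with commutes' := hA f f' hf' rfl }
    let G : B →ₐ[A] Ω := { g' with commutes' := hA g g' hg' hfg.symm }
    have hFG : f' b = g' b := by
      have := hb.map (Algebra.TensorProduct.productMap F G)
      rw [map_sub, Algebra.TensorProduct.productMap_apply_tmul,
        Algebra.TensorProduct.productMap_apply_tmul, map_one, map_one, mul_one, one_mul] at this
      exact sub_eq_zero.1 this.eq_zero
    have hres : ∀ d : D, f d = g d := by
      intro d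
      apply (algebraMap K Ω).injective
      rw [← RingHom.comp_apply, ← hf', ← RingHom.comp_apply, ← hg']
      show F (d : B) = G (d : B)
      exact (AlgHom.eqOn_adjoin_iff.2 (fun x hx => by
        rw [Set.mem_singleton_iff] at hx
        subst hx
        exact hFG)) d.2
    exact RingHom.ext hres

end Groth.Agent.S14795
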