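import Groth.Statements.S14796
import Groth.Agent.Lib.WeakSub4.Basic
import Mathlib

set_option autoImplicit false
universe u
open CategoryTheory CategoryTheory.Limits AlgebraicGeometry
open Subtr

namespace Groth.Agent.S14796

/-- Let A ⊆ B be a ring extension and A ⟶ A' a ring map that is a localization or étale; put B' = A' ⊗_A
B. Let C ⊆ B be the weak subintegral closure of A in B and C' ⊆ B' that of A' in B' (each the
largest subalgebra whose spectrum maps to the base by a universal homeomorphism, characterised here
by that maximality). Then C' is the image of A' ⊗_A C ⟶ A' ⊗_A B: the weak subintegral closure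
commutes with such base changes. -/
theorem result {A B A' : Type u} [CommRing A] [CommRing B]
    [CommRing A'] [Algebra A B] [Algebra A A'] (hinj : Function.Injective (algebraMap A B))
    (hA' : (∃ M : Submonoid A, IsLocalization M A') ∨ Algebra.Etale A A')
    (C : Subalgebra A B) (hC : FlatMor.IsUnivHomeo (Spec.map (CommRingCat.ofHom (algebraMap A C))))
    (hmax : ∀ D : Subalgebra A B, FlatMor.IsUnivHomeo (Spec.map (CommRingCat.ofHom (algebraMap A D))) → D ≤ C)
    (C' : Subalgebra A' (TensorProduct A A' B)) (hC' : FlatMor.IsUnivHomeo (Spec.map (CommRingCat.ofHom (algebraMap A' C'))))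
    (hmax' : ∀ D : Subalgebra A' (TensorProduct A A' B), FlatMor.IsUnivHomeo (Spec.map (CommRingCat.ofHom (algebraMap A' D))) → D ≤ C') :
    (C' : Set (TensorProduct A A' B)) =
      Set.range (Algebra.TensorProduct.map (AlgHom.id A A') C.val) := by
  have hC1 := GrothLib.UHTower.isUnivHomeo_iff_uh.1 hC
  have hC1' := GrothLib.UHTower.isUnivHomeo_iff_uh.1 hC'
  have hm : ∀ D : Subalgebra A B, GrothLib.UHTower.UH (algebraMap A D) → D ≤ C :=
    fun D hD => hmax D (GrothLib.UHTower.isUnivHomeo_iff_uh.2 hD)
  have hm' : ∀ D : Subalgebra A' (TensorProduct A A' B), GrothLib.UHTower.UH (algebraMap A' D) → D ≤ C' :=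
    fun D hD => hmax' D (GrothLib.UHTower.isUnivHomeo_iff_uh.2 hD)
  rcases hA' with ⟨M, hM⟩ | hA'
  · haveI : Module.Flat A A' := IsLocalization.flat A' M
    refine Groth.Agent.WeakSub4.main hinj
      (TensorProduct.toIntegralClosure_bijective_of_isLocalization M) (fun N _ _ _ => ?_) C hC1 hm C' hC1' hm'
    haveI : _root_.IsReduced (TensorProduct A N A') :=
      isReduced_localizationPreserves (Algebra.algebraMapSubmonoid N M) (TensorProduct A N A') inferInstance
    exact isReduced_of_injective (Algebra.TensorProduct.comm A A' N) (AlgEquiv.injective _)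
  · refine Groth.Agent.WeakSub4.main hinj
      TensorProduct.toIntegralClosure_bijective_of_smooth (fun N _ _ _ => ?_) C hC1 hm C' hC1' hm'
    haveI : _root_.IsReduced (TensorProduct A N A') :=
      GrothLib.Hensel.isReduced_of_etale N (TensorProduct A N A')
    exact isReduced_of_injective (Algebra.TensorProduct.comm A A' N) (AlgEquiv.injective _)

end Groth.Agent.S14796
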