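import Groth.Statements.S14797
import Groth.Agent.Lib.SGA1Sub21.Topology
import Groth.Agent.Lib.EtBasicB.OverField
import Mathlib.AlgebraicGeometry.ZariskisMainTheorem

set_option autoImplicit false
universe u
open CategoryTheory CategoryTheory.Limits AlgebraicGeometry
open Subtr

namespace Groth.Agent.S14797

/-- Let g : S' ⟶ S be a quasi-compact universally submersive morphism of schemes and f : X ⟶ S an étale
morphism whose base change X ×_S S' ⟶ S' is finite. Then f is finite. (The published statement
treats the properties universally closed, separated and quasi-compact one at a time as well; this
row is the finite case. It assumes g universally subtrusive, using it only through universal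
submersiveness and, for quasi-compactness, through the constructible topology; for quasi-compact g
universal submersiveness suffices by the same proof.) -/
theorem result {X S S' : Scheme.{u}} (g : S' ⟶ S)
    [QuasiCompact g] (hg : SGA1.UnivSubmersive g) (f : X ⟶ S) [Etale f]
    [IsFinite (pullback.snd f g)] : IsFinite f := by
  have h := (IsPullback.of_hasPullback f g).flip
  haveI := GrothLib.SGA1Sub21.surjective hg
  haveI : IsSeparated f := GrothLib.SGA1Sub21.isSeparated_of_isPullback h hg
  haveI : QuasiCompact f := GrothLib.SGA1Sub21.quasiCompact_of_isPullback h
  haveI : UniversallyClosed f := by
    have h1 : (topologically @IsClosedMap).universally (pullback.snd f g) := by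
      rw [← universallyClosed_eq]; infer_instance
    have h2 := GrothLib.SGA1Sub21.of_isPullback_universally h hg h1
    rwa [← universallyClosed_eq] at h2
  haveI : IsProper f := {}
  haveI : LocallyQuasiFinite f := GrothLib.EtBasicB.locallyQuasiFinite_of_unramified f
  exact IsFinite.of_isProper_of_locallyQuasiFinite f

end Groth.Agent.S14797
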