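import Groth.Statements.S1480
import Groth.Agent.Lib.LqfSection.Main
-- import your own Groth.Agent.* helpers here

set_option autoImplicit false
universe u
open FlatMor

namespace Groth.Agent.S1480

open AlgebraicGeometry CategoryTheory Limits in
/-- Let f : X → S be flat, locally of finite presentation and locally quasi-finite, and g a nonzero
global function on X. Then there are affine opens V of X and U of S with f(V) ⊆ U and g nonzero on
V, an ideal F of O_S(U), a positive integer r and an injective O_S(U)-linear map from F^r to O_X(V)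
whose image contains the restriction of g to V. -/
theorem result {X S : Scheme.{u}} (f : X ⟶ S) [Flat f] [LocallyOfFinitePresentation f] [LocallyQuasiFinite f]
    (g : Γ(X, ⊤)) (hg : g ≠ 0) :
    ∃ (U : S.Opens) (hU : IsAffineOpen U) (V : X.Opens) (hV : IsAffineOpen V) (hVU : V ≤ f ⁻¹ᵁ U),
      X.presheaf.map (homOfLE le_top).op g ≠ (0 : Γ(X, V)) ∧
      ∃ (F : Ideal Γ(S, U)) (r : ℕ), 0 < r ∧
        letI := (f.appLE U V hVU).hom.toAlgebra
        ∃ φ : (Fin r → ↥F) →ₗ[Γ(S, U)] Γ(X, V), Function.Injective φ ∧ X.presheaf.map (homOfLE le_top).op g ∈ LinearMap.range φ := by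
  classical
  obtain ⟨U₀, hU₀, V₀, hV₀, e₀, hg₀⟩ : ∃ (U₀ : S.Opens) (_ : IsAffineOpen U₀) (V₀ : X.Opens)
      (_ : IsAffineOpen V₀) (_ : V₀ ≤ f ⁻¹ᵁ U₀),
      X.presheaf.map (homOfLE le_top).op g ≠ (0 : Γ(X, V₀)) := by
    by_contra h
    push Not at h
    have hcov : ∀ x : X, ∃ (U : S.Opens) (V : X.Opens), IsAffineOpen U ∧ IsAffineOpen V ∧ x ∈ V ∧ V ≤ f ⁻¹ᵁ U := by
      intro x
      obtain ⟨_, ⟨U, hU, rfl⟩, hxU, -⟩ := S.isBasis_affineOpens.exists_subset_of_mem_open (Set.mem_univ (f x)) isOpen_univ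
      obtain ⟨_, ⟨V, hV, rfl⟩, hxV, hVU⟩ := X.isBasis_affineOpens.exists_subset_of_mem_open
        (show x ∈ (f ⁻¹ᵁ U : Set X) from hxU) (f ⁻¹ᵁ U).2
      exact ⟨U, V, hU, hV, hxV, hVU⟩
    choose U V hU hV hx hVU using hcov
    refine hg (X.sheaf.eq_of_locally_eq' V ⊤ (fun x => homOfLE le_top)
      (fun x _ => TopologicalSpace.Opens.mem_iSup.mpr ⟨x, hx x⟩) g 0 fun x => ?_)
    rw [map_zero]
    exact h (U x) (hU x) (V x) (hV x) (hVU x)
  letI : Algebra Γ(S, U₀) Γ(X, V₀) := (f.appLE U₀ V₀ e₀).hom.toAlgebra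
  have : Module.Flat Γ(S, U₀) Γ(X, V₀) := f.flat_appLE hU₀ hV₀ e₀
  have : Algebra.FinitePresentation Γ(S, U₀) Γ(X, V₀) := f.finitePresentation_appLE hU₀ hV₀ e₀
  have : Algebra.QuasiFinite Γ(S, U₀) Γ(X, V₀) := LocallyQuasiFinite.quasiFinite_appLE hU₀ hV₀ e₀
  obtain ⟨h, H⟩ := GrothLib.LqfSection.exists_away_inPiImage (R := Γ(S, U₀)) _ hg₀
  let U := S.basicOpen h
  let V := X.basicOpen (f.appLE U₀ V₀ e₀ h)
  have hVle : V ≤ V₀ := X.basicOpen_le _
  have hUle : U ≤ U₀ := S.basicOpen_le _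
  have hVU : V ≤ f ⁻¹ᵁ U := by
    change X.basicOpen _ ≤ _
    rw [Scheme.basicOpen_appLE f V₀ U₀ e₀ h]
    exact inf_le_right
  refine ⟨U, hU₀.basicOpen h, V, hV₀.basicOpen _, hVU, ?_⟩
  letI : Algebra Γ(S, U) Γ(X, V) := (f.appLE U V hVU).hom.toAlgebra
  letI : Algebra Γ(S, U₀) Γ(S, U) := (S.presheaf.map (homOfLE hUle).op).hom.toAlgebra
  letI : Algebra Γ(X, V₀) Γ(X, V) := (X.presheaf.map (homOfLE hVle).op).hom.toAlgebra
  letI : Algebra Γ(S, U₀) Γ(X, V) := (f.appLE U₀ V (hVle.trans e₀)).hom.toAlgebra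
  have : IsScalarTower Γ(S, U₀) Γ(S, U) Γ(X, V) := .of_algebraMap_eq' (by
    change _ = (f.appLE U V hVU).hom.comp (S.presheaf.map (homOfLE hUle).op).hom
    rw [← CommRingCat.hom_comp, Scheme.Hom.map_appLE]
    rfl)
  have : IsScalarTower Γ(S, U₀) Γ(X, V₀) Γ(X, V) := .of_algebraMap_eq' (by
    change _ = (X.presheaf.map (homOfLE hVle).op).hom.comp (f.appLE U₀ V₀ e₀).hom
    rw [← CommRingCat.hom_comp, Scheme.Hom.appLE_map]
    rfl)
  have : IsLocalization.Away h Γ(S, U) := hU₀.isLocalization_basicOpen h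
  have : IsLocalization.Away (algebraMap Γ(S, U₀) Γ(X, V₀) h) Γ(X, V) := hV₀.isLocalization_basicOpen _
  obtain ⟨hne, F, r, hr, φ, hφ, hm⟩ := H Γ(S, U) Γ(X, V)
  have heq : algebraMap Γ(X, V₀) Γ(X, V) (X.presheaf.map (homOfLE le_top).op g) =
      X.presheaf.map (homOfLE le_top).op g := by
    change (X.presheaf.map (homOfLE le_top).op ≫ X.presheaf.map (homOfLE hVle).op).hom g = _
    rw [← Functor.map_comp]
    rfl
  rw [heq] at hne hm
  exact ⟨hne, F, r, hr, φ, hφ, hm⟩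

end Groth.Agent.S1480
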