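import Groth.Statements.S14805
import Groth.Agent.Lib.LatticeIndex.Diagonal

set_option autoImplicit false
open Finset
open CompLat

namespace Groth.Agent.S14805

/-- Let n ≥ 1 and let D, D' : ℤⁿ → ℤⁿ be given by diagonal matrices with nonzero diagonal entries (rank
n), A : ℤⁿ → ℤⁿ an integer matrix of rank n - 1, S : ℤⁿ → ℤ the sum of the coordinates and Δ : ℤ →
ℤⁿ the diagonal embedding; assume S D A = 0 and A D' Δ = 0, and let d > 0 with dℤ = im(S D), i.e. d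
is the greatest common divisor of the diagonal entries of D. Then #(ker(S D)/im A) · |det D| = d ·
#(ker S/im(D A)). -/
theorem result (n : ℕ) (hn : 0 < n) (δ δ' : Fin n → ℤ) (hδ : ∀ i, δ i ≠ 0) (hδ' : ∀ i, δ' i ≠ 0)
    (A : Matrix (Fin n) (Fin n) ℤ) (hA : A.rank = n - 1)
    (hSDA : (∑ i : Fin n, (LinearMap.proj i : (Fin n → ℤ) →ₗ[ℤ] ℤ)) ∘ₗ
        (Matrix.mulVecLin (Matrix.diagonal δ)) ∘ₗ (Matrix.mulVecLin A) = 0)
    (hADΔ : (Matrix.mulVecLin A) ∘ₗ (Matrix.mulVecLin (Matrix.diagonal δ')) ∘ₗ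
        (LinearMap.pi fun _ : Fin n => (LinearMap.id : ℤ →ₗ[ℤ] ℤ)) = 0) :
    (Nat.card (LinearMap.ker ((∑ i : Fin n, (LinearMap.proj i : (Fin n → ℤ) →ₗ[ℤ] ℤ)) ∘ₗ (Matrix.mulVecLin (Matrix.diagonal δ))) ⧸
          (LinearMap.range (Matrix.mulVecLin A)).comap (LinearMap.ker ((∑ i : Fin n, (LinearMap.proj i : (Fin n → ℤ) →ₗ[ℤ] ℤ)) ∘ₗ (Matrix.mulVecLin (Matrix.diagonal δ)))).subtype) : ℤ) * |∏ i, δ i| =
      (univ.gcd δ) * Nat.card (LinearMap.ker (∑ i : Fin n, (LinearMap.proj i : (Fin n → ℤ) →ₗ[ℤ] ℤ)) ⧸ (LinearMap.range ((Matrix.mulVecLin (Matrix.diagonal δ)) ∘ₗ (Matrix.mulVecLin A))).comap (LinearMap.ker (∑ i : Fin n, (LinearMap.proj i : (Fin n → ℤ) →ₗ[ℤ] ℤ))).subtype) := by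
  classical
  let S : (Fin n → ℤ) →ₗ[ℤ] ℤ := ∑ i : Fin n, (LinearMap.proj i : (Fin n → ℤ) →ₗ[ℤ] ℤ)
  have hS : ∀ x, S x = ∑ i, x i := fun x => by simp [S]
  have hD : ∀ d : Fin n → ℤ, Matrix.mulVecLin (Matrix.diagonal d) = GrothLib.LatticeIndex.diag d := fun d =>
    LinearMap.ext fun x => funext fun i => Matrix.mulVec_diagonal d x i
  have hP : LinearMap.range (Matrix.mulVecLin A) ≤ LinearMap.ker (S ∘ₗ GrothLib.LatticeIndex.diag δ) := by
    rintro _ ⟨x, rfl⟩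
    rw [LinearMap.mem_ker, ← hD]
    exact LinearMap.congr_fun hSDA x
  have h := GrothLib.LatticeIndex.card_mul_abs_prod hn δ hδ S hS _ hP
  rw [GrothLib.LatticeIndex.natCard_quotient, GrothLib.LatticeIndex.natCard_quotient]
  rw [← LinearMap.range_comp] at h
  simp only [hD]
  exact h

end Groth.Agent.S14805
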