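import Groth.Statements.S14806
import Groth.Agent.Lib.LatticeIndex.Diagonal

set_option autoImplicit false
open Finset
open CompLat

namespace Groth.Agent.S14806

/-- Let n ≥ 1, let D, D' : ℤⁿ → ℤⁿ be given by diagonal matrices with nonzero diagonal entries, A : ℤⁿ →
ℤⁿ an integer matrix of rank n - 1, S : ℤⁿ → ℤ the sum of the coordinates and Δ : ℤ → ℤⁿ the
diagonal embedding, with S D A = 0 and A D' Δ = 0; let d, d' be the greatest common divisors of the
diagonal entries of D and of D' (dℤ = im(S D), d'ℤ = im(S D')). Then #(ker(S D)/im A) · |det D| ·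
|det D'| = d d' · #(ker S/im(D A D')). -/
theorem result (n : ℕ) (hn : 0 < n) (δ δ' : Fin n → ℤ) (hδ : ∀ i, δ i ≠ 0) (hδ' : ∀ i, δ' i ≠ 0)
    (A : Matrix (Fin n) (Fin n) ℤ) (hA : A.rank = n - 1)
    (hSDA : (∑ i : Fin n, (LinearMap.proj i : (Fin n → ℤ) →ₗ[ℤ] ℤ)) ∘ₗ
        (Matrix.mulVecLin (Matrix.diagonal δ)) ∘ₗ (Matrix.mulVecLin A) = 0)
    (hADΔ : (Matrix.mulVecLin A) ∘ₗ (Matrix.mulVecLin (Matrix.diagonal δ')) ∘ₗ
        (LinearMap.pi fun _ : Fin n => (LinearMap.id : ℤ →ₗ[ℤ] ℤ)) = 0) :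
    (Nat.card (LinearMap.ker ((∑ i : Fin n, (LinearMap.proj i : (Fin n → ℤ) →ₗ[ℤ] ℤ)) ∘ₗ (Matrix.mulVecLin (Matrix.diagonal δ))) ⧸
          (LinearMap.range (Matrix.mulVecLin A)).comap (LinearMap.ker ((∑ i : Fin n, (LinearMap.proj i : (Fin n → ℤ) →ₗ[ℤ] ℤ)) ∘ₗ (Matrix.mulVecLin (Matrix.diagonal δ)))).subtype) : ℤ) * |∏ i, δ i| * |∏ i, δ' i| =
      (univ.gcd δ) * (univ.gcd δ') * Nat.card (LinearMap.ker (∑ i : Fin n, (LinearMap.proj i : (Fin n → ℤ) →ₗ[ℤ] ℤ)) ⧸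
          (LinearMap.range ((Matrix.mulVecLin (Matrix.diagonal δ)) ∘ₗ (Matrix.mulVecLin A) ∘ₗ (Matrix.mulVecLin (Matrix.diagonal δ')))).comap (LinearMap.ker (∑ i : Fin n, (LinearMap.proj i : (Fin n → ℤ) →ₗ[ℤ] ℤ))).subtype) := by
  classical
  let S : (Fin n → ℤ) →ₗ[ℤ] ℤ := ∑ i : Fin n, (LinearMap.proj i : (Fin n → ℤ) →ₗ[ℤ] ℤ)
  have hS : ∀ x, S x = ∑ i, x i := fun x => by simp [S]
  have hD : ∀ d : Fin n → ℤ, Matrix.mulVecLin (Matrix.diagonal d) = GrothLib.LatticeIndex.diag d := fun d =>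
    LinearMap.ext fun x => funext fun i => Matrix.mulVec_diagonal d x i
  have hP : LinearMap.range (Matrix.mulVecLin A) ≤ LinearMap.ker (S ∘ₗ GrothLib.LatticeIndex.diag δ) := by
    rintro _ ⟨x, rfl⟩
    rw [LinearMap.mem_ker, ← hD]
    exact LinearMap.congr_fun hSDA x
  have h := GrothLib.LatticeIndex.card_mul_abs_prod hn δ hδ S hS _ hP
  rw [GrothLib.LatticeIndex.natCard_quotient, GrothLib.LatticeIndex.natCard_quotient]
  rw [← LinearMap.range_comp] at h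
  have hker : Matrix.mulVecLin A δ' = 0 := by
    refine Eq.trans ?_ (LinearMap.congr_fun hADΔ 1)
    simp only [LinearMap.comp_apply, hD]
    exact congrArg _ (funext fun i => (mul_one (δ' i)).symm)
  have h' := GrothLib.LatticeIndex.relIndex_map_range_diag hn (Matrix.mulVecLin A) hA δ' hδ' hker
  rw [← LinearMap.range_comp] at h'
  simp only [hD]
  set T := (Matrix.mulVecLin A ∘ₗ GrothLib.LatticeIndex.diag δ') with hT
  have hinj := GrothLib.LatticeIndex.diag_injective hδ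
  have hle : LinearMap.range (GrothLib.LatticeIndex.diag δ ∘ₗ T) ≤
      LinearMap.range (GrothLib.LatticeIndex.diag δ ∘ₗ Matrix.mulVecLin A) := by
    rintro _ ⟨x, rfl⟩
    exact ⟨_, rfl⟩
  have hle' : LinearMap.range (GrothLib.LatticeIndex.diag δ ∘ₗ Matrix.mulVecLin A) ≤ LinearMap.ker S := by
    rintro _ ⟨x, rfl⟩
    exact hP ⟨x, rfl⟩
  rw [← AddSubgroup.relIndex_mul_relIndex _ _ _ (Submodule.toAddSubgroup_mono hle)
    (Submodule.toAddSubgroup_mono hle')]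
  have hmap : (LinearMap.range (GrothLib.LatticeIndex.diag δ ∘ₗ T)).toAddSubgroup.relIndex
      (LinearMap.range (GrothLib.LatticeIndex.diag δ ∘ₗ Matrix.mulVecLin A)).toAddSubgroup =
      (LinearMap.range T).toAddSubgroup.relIndex (LinearMap.range (Matrix.mulVecLin A)).toAddSubgroup := by
    rw [LinearMap.range_comp, LinearMap.range_comp (Matrix.mulVecLin A), Submodule.map_toAddSubgroup,
      Submodule.map_toAddSubgroup]
    exact AddSubgroup.relIndex_map_map_of_injective _ _ hinj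
  rw [hmap, h, ← h', Nat.cast_mul]
  ring

end Groth.Agent.S14806
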