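import Groth.Statements.S14807
import Mathlib.GroupTheory.OrderOfElement

set_option autoImplicit false
universe u
open CAlg

namespace Groth.Agent.S14807

/-- Let G be a finite abelian group, written additively, and ℓ a prime number. Every sequence (g_n)_{n ≥
0} of elements of G with ℓ^n · g_n = 0 and ℓ · g_{n+1} = g_n for all n is identically zero; in other
words the inverse limit of the subgroups of ℓ^n-torsion elements, with transition maps
multiplication by ℓ, vanishes. -/
theorem result (G : Type u) [AddCommGroup G] [Finite G]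
    (ℓ : ℕ) (hℓ : ℓ.Prime) (g : ℕ → G) (htor : ∀ n : ℕ, ℓ ^ n • g n = 0)
    (hcomp : ∀ n : ℕ, ℓ • g (n + 1) = g n) (n : ℕ) : g n = 0 := by
  have key : ∀ m k : ℕ, ℓ ^ k • g (n + k) = g n → m = 0 → True := fun _ _ _ _ => trivial
  have hk : ∀ k, ℓ ^ k • g (n + k) = g n := by
    intro k
    induction k with
    | zero => simp
    | succ k ih => rw [pow_succ, mul_smul, ← add_assoc, hcomp, ih]
  have hord : ∀ m, g m ≠ 0 → ∃ j, 0 < j ∧ addOrderOf (g m) = ℓ ^ j := by
    intro m hm
    obtain ⟨j, -, hj⟩ := (Nat.dvd_prime_pow hℓ).1 (addOrderOf_dvd_of_nsmul_eq_zero (htor m))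
    refine ⟨j, ?_, hj⟩
    rcases Nat.eq_zero_or_pos j with rfl | h
    · exact absurd (AddMonoid.addOrderOf_eq_one_iff.1 (by simpa using hj)) hm
    · exact h
  by_contra hne
  -- the orders of `g (n + k)` grow without bound
  have hgrow : ∀ k, ℓ ^ k < addOrderOf (g (n + k)) := by
    intro k
    by_contra hle
    push Not at hle
    have hne' : g (n + k) ≠ 0 := fun h => hne (by rw [← hk k, h, smul_zero])
    obtain ⟨j, -, hj⟩ := hord _ hne'
    refine hne ?_
    rw [← hk k]
    rw [hj] at hle
    have hjk : j ≤ k := (Nat.pow_le_pow_iff_right hℓ.one_lt).1 hle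
    exact addOrderOf_dvd_iff_nsmul_eq_zero.1 (hj ▸ pow_dvd_pow ℓ hjk)
  have h1 := hgrow (Nat.card G)
  have h2 : addOrderOf (g (n + Nat.card G)) ≤ Nat.card G :=
    addOrderOf_le_card
  have h3 := Nat.lt_pow_self (n := Nat.card G) hℓ.one_lt
  omega

end Groth.Agent.S14807
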