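import Groth.Statements.S1481
import Mathlib

set_option autoImplicit false
universe u
open FlatMor

namespace Groth.Agent.S1481

open AlgebraicGeometry CategoryTheory Limits in
open AlgebraicGeometry CategoryTheory Limits

open Topology in
theorem component_generic {T : Type*} [TopologicalSpace T] [QuasiSober T] [T0Space T] {Z : Set T} (p : ↥Z)
    (h : ∀ w ∈ closure Z, w ⤳ (p : T) → w = p) :
    ∃ C ∈ irreducibleComponents ↥Z, IsGenericPoint p C := by
  refine ⟨closure {p}, ⟨isIrreducible_singleton.closure, fun C hC hle q hq => ?_⟩, isGenericPoint_closure⟩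
  have hC' : IsIrreducible (closure (Subtype.val '' C)) :=
    (hC.image _ continuous_subtype_val.continuousOn).closure
  have hg : IsGenericPoint hC'.genericPoint (closure (Subtype.val '' C)) := by
    simpa using hC'.isGenericPoint_genericPoint_closure
  have hp : (p : T) ∈ closure (Subtype.val '' C) :=
    subset_closure ⟨p, hle (subset_closure rfl), rfl⟩
  have he := h _ (closure_mono (by rintro _ ⟨a, -, rfl⟩; exact a.2) hg.mem) (hg.specializes hp)
  rw [he] at hg
  rw [← specializes_iff_mem_closure, subtype_specializes_iff]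
  exact hg.specializes (subset_closure ⟨q, hq, rfl⟩)

theorem exists_maximal {T : Type*} [TopologicalSpace T] [QuasiSober T] [T0Space T] {F : Set T} (hF : IsClosed F)
    {z : T} (hz : z ∈ F) : ∃ w ∈ F, w ⤳ z ∧ ∀ w' ∈ F, w' ⤳ w → w' = w := by
  haveI : QuasiSober ↥F := hF.isClosedEmbedding_subtypeVal.quasiSober
  obtain ⟨C, hC, hzC⟩ := exists_mem_irreducibleComponents_subset_of_isIrreducible {(⟨z, hz⟩ : ↥F)} isIrreducible_singleton
  have hCcl : closure C = C := (isClosed_of_mem_irreducibleComponents C hC).closure_eq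
  have hg : IsGenericPoint hC.1.genericPoint C := by
    have := hC.1.isGenericPoint_genericPoint_closure
    rwa [hCcl] at this
  refine ⟨hC.1.genericPoint.1, hC.1.genericPoint.2, subtype_specializes_iff _ _ |>.mp (hg.specializes (hzC rfl)), fun w' hw' hsp => ?_⟩
  have hsp' : (⟨w', hw'⟩ : ↥F) ⤳ hC.1.genericPoint := (subtype_specializes_iff _ _).mpr hsp
  have hsub : C ⊆ closure {(⟨w', hw'⟩ : ↥F)} := by
    rw [← hg.def]
    exact closure_minimal (Set.singleton_subset_iff.mpr (specializes_iff_mem_closure.mp hsp')) isClosed_closure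
  have heq : C = closure {(⟨w', hw'⟩ : ↥F)} := le_antisymm hsub (hC.2 isIrreducible_singleton.closure hsub)
  exact congrArg Subtype.val ((isGenericPoint_closure (x := (⟨w', hw'⟩ : ↥F))).eq (heq ▸ hg))

open IsLocalRing in
theorem comap_bot_of_injective {R A : Type*} [CommRing R] [IsDomain R] [CommRing A] [IsDomain A]
    (f : R →+* A) (hf : Function.Injective f) : PrimeSpectrum.comap f ⊥ = ⊥ :=
  PrimeSpectrum.ext (Ideal.comap_bot_of_injective f hf)

open AlgebraicGeometry CategoryTheory Limits in

/-- Let f : X → S, y a point of X with image t, Y the closure of y, s a point of S and x a point of Y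
over s which is generic in an irreducible component of the fibre of Y over s (fibres as subspaces).
Then there are a valuation ring R and a morphism g : Spec R → S sending the generic point to t and
the closed point to s, such that, writing X' for the base change with projections g' : X' → X and f'
: X' → Spec R, there is a point y' of X' over the generic point with g' y' = y which is generic in
an irreducible component of the generic fibre of g'⁻¹(Y), and a point x' in the closure of y' over
the closed point with g' x' = x which is generic in an irreducible component of the special fibre of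
the closure of y'. -/
theorem result {X S : Scheme.{u}} (f : X ⟶ S) (y : X) (s : S) (x : X)
    (hx : x ∈ closure ({y} : Set ↑X)) (hxs : f x = s)
    (hgen : ∃ C ∈ irreducibleComponents ↑(closure ({y} : Set ↑X) ∩ f ⁻¹' {s}), IsGenericPoint (⟨x, hx, hxs⟩ : ↑(closure ({y} : Set ↑X) ∩ f ⁻¹' {s})) C) :
    ∃ (R : Type u) (_ : CommRing R) (_ : IsDomain R) (_ : ValuationRing R) (g : Spec (CommRingCat.of R) ⟶ S),
      g (⊥ : PrimeSpectrum R) = f y ∧ g (IsLocalRing.closedPoint R) = s ∧
      ∃ (y' : ↑(pullback f g)) (hy't : pullback.snd f g y' = (⊥ : PrimeSpectrum R)) (hy'Y : pullback.fst f g y' ∈ closure ({y} : Set ↑X)),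
        pullback.fst f g y' = y ∧
        (∃ C ∈ irreducibleComponents ↑((pullback.fst f g) ⁻¹' closure ({y} : Set ↑X) ∩ (pullback.snd f g) ⁻¹' {(⊥ : PrimeSpectrum R)}),
          IsGenericPoint (⟨y', hy'Y, hy't⟩ : ↑((pullback.fst f g) ⁻¹' closure ({y} : Set ↑X) ∩ (pullback.snd f g) ⁻¹' {(⊥ : PrimeSpectrum R)})) C) ∧
        ∃ (x' : ↑(pullback f g)) (hx' : x' ∈ closure ({y'} : Set ↑(pullback f g))) (hx's : pullback.snd f g x' = IsLocalRing.closedPoint R),
          pullback.fst f g x' = x ∧
          ∃ C ∈ irreducibleComponents ↑(closure ({y'} : Set ↑(pullback f g)) ∩ (pullback.snd f g) ⁻¹' {IsLocalRing.closedPoint R}),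
            IsGenericPoint (⟨x', hx', hx's⟩ : ↑(closure ({y'} : Set ↑(pullback f g)) ∩ (pullback.snd f g) ⁻¹' {IsLocalRing.closedPoint R})) C := by
  subst hxs
  have h : y ⤳ x := specializes_iff_mem_closure.mpr hx
  let φ : X.presheaf.stalk x ⟶ X.residueField y := X.presheaf.stalkSpecializes h ≫ X.residue y
  obtain ⟨A, hA, hAloc⟩ := IsLocalRing.exists_factor_valuationRing φ.hom
  let j : S.residueField (f y) →+* X.residueField y := (f.residueFieldMap y).hom
  let R : ValuationSubring (S.residueField (f y)) := A.comap j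
  let θ : ↥R →+* ↥A := (j.comp R.subtype).codRestrict A.toSubring fun r => r.2
  have hθinj : Function.Injective θ := fun a b hab =>
    Subtype.ext (j.injective (congrArg Subtype.val hab))
  let ψ : S.presheaf.stalk (f x) ⟶ S.residueField (f y) :=
    S.presheaf.stalkSpecializes (h.map f.continuous) ≫ S.residue (f y)
  have hψj : ψ ≫ f.residueFieldMap y = f.stalkMap x ≫ φ := by
    simp only [ψ, φ, Category.assoc, Scheme.residue_residueFieldMap]
    erw [Scheme.Hom.stalkSpecializes_stalkMap_assoc f y x h]
  have hψ : ∀ a, j (ψ a) = φ (f.stalkMap x a) := fun a => congrArg (fun q => q a) hψj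
  let a : X.presheaf.stalk x ⟶ CommRingCat.of ↥A := CommRingCat.ofHom (φ.hom.codRestrict A.toSubring hA)
  let b : S.presheaf.stalk (f x) ⟶ CommRingCat.of ↥R :=
    CommRingCat.ofHom (ψ.hom.codRestrict R.toSubring fun r => show j (ψ r) ∈ A by rw [hψ]; exact hA _)
  have hba : b ≫ CommRingCat.ofHom θ = f.stalkMap x ≫ a := by
    ext r
    exact hψ r
  let g : Spec (CommRingCat.of ↥R) ⟶ S := Spec.map b ≫ S.fromSpecStalk (f x)
  let gA : Spec (CommRingCat.of ↥A) ⟶ X := Spec.map a ≫ X.fromSpecStalk x
  have hw : gA ≫ f = Spec.map (CommRingCat.ofHom θ) ≫ g := by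
    simp only [gA, g, Category.assoc]
    rw [← Scheme.SpecMap_stalkMap_fromSpecStalk, ← Spec.map_comp_assoc, ← hba, Spec.map_comp_assoc]
  haveI : IsLocalHom a.hom := hAloc
  have hAclosed : gA (IsLocalRing.closedPoint ↥A) = x := by
    show X.fromSpecStalk x (Spec.map a (IsLocalRing.closedPoint ↥A)) = x
    have : Spec.map a (IsLocalRing.closedPoint ↥A) = IsLocalRing.closedPoint (X.presheaf.stalk x) :=
      IsLocalRing.comap_closedPoint a.hom
    rw [this, Scheme.fromSpecStalk_closedPoint]
  have hAbot : gA (⊥ : PrimeSpectrum ↥A) = y := by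
    have h1 : Spec.map (CommRingCat.ofHom A.subtype) ≫ gA = X.fromSpecResidueField y := by
      have : a ≫ CommRingCat.ofHom A.subtype = φ := by ext r; rfl
      show Spec.map _ ≫ Spec.map a ≫ X.fromSpecStalk x = _
      erw [← Spec.map_comp_assoc, this, Spec.map_comp_assoc, Scheme.SpecMap_stalkSpecializes_fromSpecStalk]
      rfl
    have h2 : Spec.map (CommRingCat.ofHom A.subtype) (IsLocalRing.closedPoint (X.residueField y)) =
        (⊥ : PrimeSpectrum ↥A) := by
      rw [Subsingleton.elim (IsLocalRing.closedPoint (X.residueField y)) (⊥ : PrimeSpectrum (X.residueField y))]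
      exact comap_bot_of_injective A.subtype Subtype.val_injective
    rw [← h2, ← Scheme.Hom.comp_apply, h1, Scheme.fromSpecResidueField_apply]
  haveI : IsLocalHom θ := ⟨fun r hr => by
    by_cases h0 : (r : S.residueField (f y)) = 0
    · exact absurd hr (by rw [show r = 0 from Subtype.ext h0, map_zero]; exact not_isUnit_zero)
    · obtain ⟨v, hv⟩ := hr.exists_right_inv
      have hv' : j r * (v : X.residueField y) = 1 := congrArg Subtype.val hv
      have hmem : (r : S.residueField (f y))⁻¹ ∈ R := by
        show j _ ∈ A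
        rw [map_inv₀, inv_eq_of_mul_eq_one_right hv']
        exact v.2
      exact IsUnit.of_mul_eq_one ⟨_, hmem⟩ (Subtype.ext (mul_inv_cancel₀ h0))⟩
  have hθbot : Spec.map (CommRingCat.ofHom θ) (⊥ : PrimeSpectrum ↥A) = (⊥ : PrimeSpectrum ↥R) :=
    comap_bot_of_injective θ hθinj
  have hθclosed : Spec.map (CommRingCat.ofHom θ) (IsLocalRing.closedPoint ↥A) = IsLocalRing.closedPoint ↥R :=
    IsLocalRing.comap_closedPoint θ
  have hgbot : g (⊥ : PrimeSpectrum ↥R) = f y := by
    rw [← hθbot, ← Scheme.Hom.comp_apply, ← hw, Scheme.Hom.comp_apply, hAbot]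
  have hgclosed : g (IsLocalRing.closedPoint ↥R) = f x := by
    rw [← hθclosed, ← Scheme.Hom.comp_apply, ← hw, Scheme.Hom.comp_apply, hAclosed]
  refine ⟨↥R, inferInstance, inferInstance, inferInstance, g, hgbot, hgclosed, ?_⟩
  let l : Spec (CommRingCat.of ↥A) ⟶ pullback f g := pullback.lift gA (Spec.map (CommRingCat.ofHom θ)) hw
  have hl₁ : ∀ p, pullback.fst f g (l p) = gA p := fun p => by
    rw [← Scheme.Hom.comp_apply, pullback.lift_fst]
  have hl₂ : ∀ p, pullback.snd f g (l p) = Spec.map (CommRingCat.ofHom θ) p := fun p => by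
    rw [← Scheme.Hom.comp_apply, pullback.lift_snd]
  let F : Set ↑(pullback f g) := pullback.fst f g ⁻¹' closure ({y} : Set ↑X)
  have hF : IsClosed F := isClosed_closure.preimage (pullback.fst f g).continuous
  have hFy : ∀ w ∈ F, w ⤳ l (⊥ : PrimeSpectrum ↥A) → pullback.fst f g w = y := fun w hwF hws => by
    have h1 := hws.map (pullback.fst f g).continuous
    rw [hl₁, hAbot] at h1
    exact (h1.antisymm (specializes_iff_mem_closure.mpr hwF)).eq
  obtain ⟨y', hy'F, hy's, hy'max⟩ := exists_maximal hF
    (show l (⊥ : PrimeSpectrum ↥A) ∈ F by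
      rw [Set.mem_preimage]; rw [hl₁, hAbot]; exact subset_closure rfl)
  have hy't : pullback.snd f g y' = (⊥ : PrimeSpectrum ↥R) := by
    have h1 := hy's.map (pullback.snd f g).continuous
    rw [hl₂, hθbot] at h1
    exact le_antisymm (α := PrimeSpectrum ↥R) ((PrimeSpectrum.le_iff_specializes _ _).mpr h1) bot_le
  refine ⟨y', hy't, hy'F, hFy y' hy'F hy's, component_generic _ fun w hwcl hsp => hy'max w ?_ hsp, ?_⟩
  · exact closure_minimal Set.inter_subset_left hF hwcl
  let Z : Set ↑(pullback f g) := closure {y'} ∩ pullback.snd f g ⁻¹' {IsLocalRing.closedPoint ↥R}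
  have hZ : IsClosed Z := isClosed_closure.inter
    (((PrimeSpectrum.isClosed_singleton_iff_isMaximal _).mpr (IsLocalRing.maximalIdeal.isMaximal _)).preimage
      (pullback.snd f g).continuous)
  have hlZ : l (IsLocalRing.closedPoint ↥A) ∈ Z := by
    refine ⟨specializes_iff_mem_closure.mp (hy's.trans ((IsLocalRing.specializes_closedPoint _).map l.continuous)), ?_⟩
    show pullback.snd f g _ = _
    rw [hl₂, hθclosed]
  obtain ⟨x', hx'Z, hx's, hx'max⟩ := exists_maximal hZ hlZ
  refine ⟨x', hx'Z.1, hx'Z.2, ?_, component_generic _ fun w hwcl hsp => hx'max w (hZ.closure_eq ▸ hwcl) hsp⟩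
  have h1 := hx's.map (pullback.fst f g).continuous
  rw [hl₁, hAclosed] at h1
  have hmem : pullback.fst f g x' ∈ closure ({y} : Set ↑X) ∩ f ⁻¹' {f x} := by
    refine ⟨?_, ?_⟩
    · exact (closure_minimal (Set.singleton_subset_iff.mpr hy'F) hF) hx'Z.1
    · show f (pullback.fst f g x') = f x
      rw [← Scheme.Hom.comp_apply, pullback.condition, Scheme.Hom.comp_apply, hx'Z.2, hgclosed]
  obtain ⟨C, hC, hgC⟩ := hgen
  have h2 : (⟨_, hmem⟩ : ↑(closure ({y} : Set ↑X) ∩ f ⁻¹' {f x})) ⤳ ⟨x, hx, rfl⟩ :=
    (subtype_specializes_iff _ _).mpr h1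
  have hsub : C ⊆ closure {(⟨_, hmem⟩ : ↑(closure ({y} : Set ↑X) ∩ f ⁻¹' {f x}))} := by
    rw [← hgC.def]
    exact closure_minimal (Set.singleton_subset_iff.mpr (specializes_iff_mem_closure.mp h2)) isClosed_closure
  have heq := le_antisymm hsub (hC.2 isIrreducible_singleton.closure hsub)
  exact congrArg Subtype.val ((isGenericPoint_closure (x := (⟨_, hmem⟩ : ↑(closure ({y} : Set ↑X) ∩ f ⁻¹' {f x})))).eq (heq ▸ hgC))

end Groth.Agent.S1481
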