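import Groth.Statements.S14811
import Groth.Agent.Lib.Kleiman.FieldExt
import Groth.Agent.Lib.FGAInt26.AlgEquiv

set_option backward.isDefEq.respectTransparency false
set_option linter.all false
-- import your own Groth.Agent.* helpers here

set_option autoImplicit false
universe u
open CategoryTheory CategoryTheory.Limits AlgebraicGeometry
open Pic13

namespace Groth.Agent.S14811
section Aux

open GrothLib.Cube (Pic clsMod HasCls hasCls_clsMod)

theorem numTriv_iff (k : Type u) [Field k] {X : Scheme.{u}} [X.Over (Spec (CommRingCat.of k))]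
    [IsProper (X ↘ Spec (CommRingCat.of k))] {L L' : X.Modules} {x : Pic X}
    (hL : HasCls L x) (hL' : HasCls L' x⁻¹) :
    Pic13.IsNumEquivZero k X L ↔ NumR.IsNef k X L ∧ NumR.IsNef k X L' := by
  have key : ∀ (Y : Scheme.{u}) (i : Y ⟶ X) [IsClosedImmersion i], topologicalKrullDim Y = 1 →
      Pic13.curveDeg k (i ≫ (X ↘ Spec (CommRingCat.of k))) ((Scheme.Modules.pullback i).obj L') =
        - Pic13.curveDeg k (i ≫ (X ↘ Spec (CommRingCat.of k))) ((Scheme.Modules.pullback i).obj L) := by
    intro Y i _ hd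
    haveI := GrothLib.Euler.isNoetherian_of_proper (X := X) k
    letI : Y.Over (Spec (CommRingCat.of k)) := ⟨i ≫ X ↘ Spec (CommRingCat.of k)⟩
    haveI : IsProper (Y ↘ Spec (CommRingCat.of k)) := inferInstanceAs (IsProper (i ≫ X ↘ Spec (CommRingCat.of k)))
    have hF := GrothLib.HodgeIndex.isCoh_push_piece k i (GrothLib.Kleiman.isCoh_O (X := Y) k)
    have hS : GrothLib.Snapper.DimLT (CohB1.support ((Coh.push i).obj (Coh.structureModule Y))) (0 + 2) := by
      refine GrothLib.Snapper.DimLT.mono ?_ (GrothLib.QCoh.support_pushforward_subset_range i _)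
      refine GrothLib.FGAInt26.dimLT_of_le (r := 1) ?_
      rw [← IsHomeomorph.topologicalKrullDim_eq _ i.isClosedEmbedding.isEmbedding.toHomeomorph.isHomeomorph, hd]
      exact le_rfl
    have h := GrothLib.FGAInt26.del_mul k hF hS x x⁻¹ (fun j => j.elim0)
    rw [mul_inv_cancel, GrothLib.FGAInt26.del_cons, GrothLib.FGAInt26.del_cons, GrothLib.FGAInt26.del_cons] at h
    simp only [GrothLib.FGAInt26.del, Fintype.sum_unique, Finset.univ_eq_empty, Finset.prod_empty, one_mul,
      mul_one] at h
    rw [GrothLib.FGAInt26.curveDeg_eq k i hd hL, GrothLib.FGAInt26.curveDeg_eq k i hd hL']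
    omega
  refine ⟨fun h => ⟨fun Y i _ hY hd => (h Y i hY hd).ge, fun Y i _ hY hd => ?_⟩, fun h Y i _ hY hd => ?_⟩
  · rw [key Y i hd, h Y i hY hd, neg_zero]
  · have h1 := h.1 Y i hY hd
    have h2 := h.2 Y i hY hd
    rw [key Y i hd] at h2
    omega

end Aux


/-- Let X be a proper scheme over a field k, L an invertible O_X-module and k ⊆ E an arbitrary field
extension. Then L is numerically trivial on X (degree 0 on every closed subscheme of X which is
integral of dimension one) if and only if the pullback of L to X_E = X ×_k Spec E is numerically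
trivial on X_E regarded as a scheme over E. -/
theorem result (k : Type u) [Field k] (X : Scheme.{u})
    [X.Over (Spec (CommRingCat.of k))] [IsProper (X ↘ Spec (CommRingCat.of k))] (L : X.Modules) (hL : PicF.IsInvertible L)
    (E : Type u) [Field E] [Algebra k E] :
    Pic13.IsNumEquivZero k X L ↔
      @Pic13.IsNumEquivZero E _ (pullback (X ↘ Spec (CommRingCat.of k)) (Spec.map (CommRingCat.ofHom (algebraMap k E))))
        ⟨pullback.snd (X ↘ Spec (CommRingCat.of k)) (Spec.map (CommRingCat.ofHom (algebraMap k E)))⟩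
        ((Scheme.Modules.pullback (pullback.fst (X ↘ Spec (CommRingCat.of k)) (Spec.map (CommRingCat.ofHom (algebraMap k E))))).obj L) := by
  haveI := GrothLib.Hilb20.isProper_bc (X := X) k E
  haveI : IsProper (Curv2.bcSnd k X E) := inferInstanceAs (IsProper (Curv2.bc k X E ↘ Spec (CommRingCat.of E)))
  let x := GrothLib.Cube.clsMod hL
  let L' := GrothLib.HodgeIndex.rep x⁻¹
  have hL' : PicF.IsInvertible L' := GrothLib.HodgeIndex.isInv_rep _
  have c : GrothLib.Cube.HasCls L' x⁻¹ := ⟨hL', GrothLib.HodgeIndex.cls_rep _⟩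
  let g := Curv2.bcFst k X E
  have hgL := GrothLib.Ample.isInvertible_pullback g hL
  have hgL' := GrothLib.Ample.isInvertible_pullback g hL'
  have c1 : GrothLib.Cube.HasCls ((Scheme.Modules.pullback g).obj L) (GrothLib.Cube.pull g x) :=
    ⟨hgL, GrothLib.Cube.clsMod_pullback g hL⟩
  have c2 : GrothLib.Cube.HasCls ((Scheme.Modules.pullback g).obj L') (GrothLib.Cube.pull g x)⁻¹ :=
    ⟨hgL', by rw [GrothLib.Cube.clsMod_pullback g hL', GrothLib.HodgeIndex.cls_rep, map_inv]⟩
  refine (numTriv_iff k (GrothLib.Cube.hasCls_clsMod hL) c).trans (Iff.trans ⟨fun h => ?_, fun h => ?_⟩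
    (numTriv_iff E c1 c2).symm)
  · exact ⟨GrothLib.Kleiman.isNef_bc k E hL h.1, GrothLib.Kleiman.isNef_bc k E hL' h.2⟩
  · exact ⟨GrothLib.Kleiman.isNef_of_bc k E hL h.1, GrothLib.Kleiman.isNef_of_bc k E hL' h.2⟩


end Groth.Agent.S14811
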