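import Groth.Statements.S14812
import Groth.Agent.Lib.NumReg26.Proper
import Groth.Agent.Lib.HodgeIndex.Curves

set_option autoImplicit false
universe u
open CategoryTheory CategoryTheory.Limits AlgebraicGeometry
open Pic13

namespace Groth.Agent.S14812

/-- Take any field k, a proper k-scheme X and an invertible O_X-module L. Then L is numerically trivial
(degree 0 on every closed subscheme of X which is integral of dimension one) if and only if χ(F ⊗ L)
= χ(F) for every coherent O_X-module F; here χ is the alternating sum of the dimensions dim_k H^i(X,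
·) over 0 ≤ i ≤ d, for any natural number d bounding the dimension of X. The field k is not assumed
algebraically closed. -/
theorem result (k : Type u) [Field k] (X : Scheme.{u})
    [X.Over (Spec (CommRingCat.of k))] [IsProper (X ↘ Spec (CommRingCat.of k))] (L : X.Modules) (hL : PicF.IsInvertible L) :
    Pic13.IsNumEquivZero k X L ↔
      ∀ (F : X.Modules), Coh.IsCoh F → ∀ d : ℕ, topologicalKrullDim X ≤ d →
        FGA.eulerCharLE k X (CohB1.tensorMod F L) d = FGA.eulerCharLE k X F d := by
  have hc := GrothLib.Cube.hasCls_clsMod hL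
  refine ⟨fun h F hF d hd => ?_, fun h Y i _ h1 h2 => ?_⟩
  · rw [GrothLib.FGAInt26.eulerCharLE_eq k hd, GrothLib.FGAInt26.eulerCharLE_eq k hd,
      GrothLib.FGAInt26.euler_tensor_eq' k hc, GrothLib.NumReg26.ev_eq_of_numCls k
        ((GrothLib.NumReg26.numCls_iff k hc).2 h) hF, GrothLib.FGAInt26.ev_one]
  · obtain ⟨d, hd⟩ := GrothLib.FGAInt26.exists_dim_le k X
    have := h _ (GrothLib.HodgeIndex.isCoh_push_O k i) d hd
    rw [GrothLib.FGAInt26.eulerCharLE_eq k hd, GrothLib.FGAInt26.eulerCharLE_eq k hd,
      GrothLib.FGAInt26.euler_tensor_eq' k hc, ← GrothLib.FGAInt26.ev_one] at this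
    rw [GrothLib.FGAInt26.curveDeg_eq k i h2 hc, this, sub_self]

end Groth.Agent.S14812
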