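import Groth.Statements.S14813
-- import your own Groth.Agent.* helpers here
import Groth.Agent.Lib.EtEuler26.Main
import Groth.Agent.Lib.FEt21.Splitting
import Groth.Agent.Lib.CurveMult.EtaleEuler
import Groth.Agent.Lib.FGAInt26.Basic
import Groth.Agent.Lib.AlgSp.Dim
import Groth.Agent.Lib.Kleiman.Kleiman

set_option autoImplicit false
universe u
open CategoryTheory CategoryTheory.Limits AlgebraicGeometry
open FGA

set_option backward.isDefEq.respectTransparency false
set_option linter.style.haveILetI false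

noncomputable section

open GrothLib

open CategoryTheory CategoryTheory.Limits AlgebraicGeometry

namespace Groth.Agent.S14813

/-- Let k be an arbitrary field and let X and X' be smooth, integral, proper k-schemes, X of dimension
n, with an étale k-morphism φ : X' → X (it is then finite étale); suppose φ is finite locally free
of constant degree d. Then χ(O_{X'}) = d · χ(O_X), where χ denotes the alternating sum of dim_k
H^i(·, O) over 0 ≤ i ≤ n (X' has dimension n as well). -/
theorem result (k : Type u) [Field k] (X X' : Scheme.{u})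
    [X.Over (Spec (CommRingCat.of k))] [X'.Over (Spec (CommRingCat.of k))]
    [IsProper (X ↘ Spec (CommRingCat.of k))] [IsProper (X' ↘ Spec (CommRingCat.of k))] [Smooth (X ↘ Spec (CommRingCat.of k))] [Smooth (X' ↘ Spec (CommRingCat.of k))]
    [IsIntegral X] [IsIntegral X'] (φ : X' ⟶ X) [Etale φ] (hφ : φ ≫ (X ↘ Spec (CommRingCat.of k)) = X' ↘ Spec (CommRingCat.of k))
    (d : ℕ) (hd : Mor2.IsFinLocFreeOfDeg d φ) (n : ℕ) (hn : topologicalKrullDim X = n) :
    FGA.eulerCharLE k X' (Coh.structureModule X') n = d * FGA.eulerCharLE k X (Coh.structureModule X) n := by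
  haveI : IsFinite φ := hd.1.1
  obtain ⟨T, ψ, hψ, hψd, sec, hsec, hdis⟩ := FEt21.exists_splitting d φ ⟨inferInstance, inferInstance⟩ hd.2
  haveI : IsFinite ψ := hψ.1
  haveI : Etale ψ := hψ.2
  haveI : Surjective ψ := (Scheme.Hom.one_le_finrank_iff_surjective (f := ψ)).1 fun s => by
    show 1 ≤ ψ.finrank s
    rw [hψd s]; exact Nat.one_le_iff_ne_zero.2 (Nat.factorial_ne_zero d)
  haveI : ∀ i, IsOpenImmersion (sec i) := fun i =>
    GrothLib.EtBasicB.isOpenImmersion_section (Limits.pullback.snd φ ψ) _ (hsec i)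
  have hdd : ∀ t, (Limits.pullback.snd φ ψ).finrank t = d := fun t => by
    rw [Scheme.Hom.finrank_pullback_snd]; exact hd.2 _
  obtain ⟨e, he⟩ := FEt21.exists_iso_of_sections (Limits.pullback.snd φ ψ) d hdd sec hsec hdis
  have hcov : ∀ p : ↥(Limits.pullback φ ψ), ∃ i, p ∈ Set.range (sec i) := fun p => by
    obtain ⟨i, y, hy⟩ := (sigmaOpenCover fun _ : Fin d => T).exists_eq (e.hom p)
    refine ⟨i, y, ?_⟩
    rw [← he i, Scheme.Hom.comp_apply]
    show e.inv ((sigmaOpenCover fun _ : Fin d => T).f i y) = p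
    rw [hy, ← Scheme.Hom.comp_apply, e.hom_inv_id]; rfl
  obtain ⟨E⟩ := CurveMult.nonempty_free_iso_of_sections (Limits.pullback.snd φ ψ) d sec hsec hdis hcov
  letI : T.Over (Spec (CommRingCat.of k)) := ⟨ψ ≫ X ↘ Spec (CommRingCat.of k)⟩
  have key := GrothLib.EtEuler26.euler_pullback_of_splitting k φ ψ rfl hφ E.symm
    (Kleiman.dimLT_univ hn.le) (Coh.structureModule X) (Kleiman.isCoh_O k)
  rw [Euler.euler_of_iso k (OX.pullUnitIso φ)] at key
  have hn' : topologicalKrullDim X' ≤ (n : WithBot ℕ∞) :=
    (GrothLib.AlgSp.topologicalKrullDim_le_of_isIntegralHom φ).trans hn.le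
  rw [FGAInt26.eulerCharLE_eq k hn', FGAInt26.eulerCharLE_eq k hn.le]
  exact key

end Groth.Agent.S14813
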