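import Groth.Statements.S14818
-- import your own Groth.Agent.* helpers here
import Groth.Agent.Lib.FEt21.Degree
import Groth.Agent.Lib.FLFPush9.Basic
import Groth.Agent.Lib.ProjFormula.Iso
import Groth.Agent.Lib.Euler.Coh
import Groth.Agent.Lib.Euler.Divisor
import Groth.Agent.S15827
import Groth.Agent.Lib.CanonTriv.Basic
import Groth.Agent.Lib.Cube.Pic
import Groth.Agent.Lib.ExtPowX.Basic

set_option autoImplicit false
universe u
open CategoryTheory CategoryTheory.Limits AlgebraicGeometry
open PicF

set_option backward.isDefEq.respectTransparency false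
set_option linter.style.haveILetI false

noncomputable section

open GrothLib

open CategoryTheory CategoryTheory.Limits AlgebraicGeometry Opposite MonoidalCategory

namespace GrothLib.NormTriv26

variable {X : Scheme.{u}}

/-- Swap of the two factors of a tensor product. -/
def tSymm (A B : X.Modules) : CohB1.tensorMod A B ≅ CohB1.tensorMod B A :=
  (CohB1.sheafifyMod X).mapIso (β_ (CohB1.toPMod A) (CohB1.toPMod B))

/-- An exterior power only depends on the module up to isomorphism. -/
theorem isExtPow_of_source_iso {i : ℕ} {E E' L : X.Modules} (h : ExtPow.IsExtPow i E L) (e : E ≅ E') :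
    ExtPow.IsExtPow i E' L := by
  obtain ⟨φ, hφ⟩ := h
  let a : ∀ U : X.affineOpens, Γ(E, U.1) →ₗ[Γ(X, U.1)] Γ(E', U.1) := fun U => (e.hom.val.app (op U.1)).hom
  let b : ∀ U : X.affineOpens, Γ(E', U.1) →ₗ[Γ(X, U.1)] Γ(E, U.1) := fun U => (e.inv.val.app (op U.1)).hom
  have hab : ∀ (U : X.affineOpens) (m : Γ(E, U.1)), b U (a U m) = m := fun U m =>
    congrArg (fun k : E ⟶ E => k.app U.1 m) e.hom_inv_id
  have hba : ∀ (U : X.affineOpens) (m : Γ(E', U.1)), a U (b U m) = m := fun U m =>
    congrArg (fun k : E' ⟶ E' => k.app U.1 m) e.inv_hom_id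
  let Λ : ∀ U : X.affineOpens, ↥(⋀[Γ(X, U.1)]^i Γ(E, U.1)) ≃ₗ[Γ(X, U.1)] ↥(⋀[Γ(X, U.1)]^i Γ(E', U.1)) :=
    fun U => LinearEquiv.ofLinear (exteriorPower.map i (a U)) (exteriorPower.map i (b U))
      (by rw [← exteriorPower.map_comp, show a U ∘ₗ b U = LinearMap.id from LinearMap.ext (hba U),
        exteriorPower.map_id])
      (by rw [← exteriorPower.map_comp, show b U ∘ₗ a U = LinearMap.id from LinearMap.ext (hab U),
        exteriorPower.map_id])
  let φ' : ∀ U : X.affineOpens, Γ(L, U.1) ≃ₗ[Γ(X, U.1)] ↥(⋀[Γ(X, U.1)]^i Γ(E, U.1)) := φ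
  refine ⟨fun U => φ' U ≪≫ₗ Λ U, fun U V hle m => ?_⟩
  have hs : ∀ (W : X.affineOpens) (n : Fin i → Γ(E', W.1)),
      ((φ' W ≪≫ₗ Λ W).symm (exteriorPower.ιMulti _ i n)) =
        (φ' W).symm (exteriorPower.ιMulti _ i (fun j => b W (n j))) := fun W n => by
    show (φ' W).symm (exteriorPower.map i (b W) _) = _
    rw [exteriorPower.map_apply_ιMulti]
    rfl
  refine (congrArg (fun z => L.val.map (homOfLE hle).op z) (hs U m)).trans ?_
  refine ((hφ U V hle fun j => b U (m j)).trans ?_).trans (hs V _).symm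
  refine congrArg (fun n => (φ' V).symm (exteriorPower.ιMulti _ i n)) (funext fun j => ?_)
  exact (PresheafOfModules.naturality_apply e.inv.val (homOfLE hle).op (m j)).symm

end GrothLib.NormTriv26

namespace Groth.Agent.S14818

/-- Let X be a connected locally Noetherian scheme, f : X' → X a finite locally free morphism of
constant degree d (a finite flat covering of X of degree d) and L an invertible O_X-module whose
pullback f^*L is isomorphic to O_{X'}. Then L^{⊗d} ≅ O_X; in particular L has finite order in Pic(X)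
dividing the degree of f. -/
theorem result (X X' : Scheme.{u})
    [IsLocallyNoetherian X] [ConnectedSpace X] (f : X' ⟶ X) (d : ℕ) (hf : Mor2.IsFinLocFreeOfDeg d f)
    (L : X.Modules) (hL : PicF.IsInvertible L)
    (htriv : Nonempty ((Scheme.Modules.pullback f).obj L ≅ Coh.structureModule X')) :
    Nonempty (CohB1.tensorPow L d ≅ Coh.structureModule X) := by
  obtain ⟨hfin, hflat, hlfp⟩ := hf.1
  haveI := hfin
  haveI := hflat
  haveI := hlfp
  have hE := GrothLib.FEt21.isFinLocFreeOfRank_of_finrank f d hf.2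
  set E := (Scheme.Modules.pushforward f).obj (Coh.structureModule X') with hEdef
  have hEF : FlatMod.IsFinLocFree E := GrothLib.FLFPush9.isFinLocFree_pushforward f
  haveI : IsIso (GrothLib.ProjFormula.projHom f L (Coh.structureModule X')) :=
    GrothLib.ProjFormula.isIso_projHom f (GrothLib.Euler.isFinLocFree_of_isInvertible hL) _
  obtain ⟨u⟩ := htriv
  let e : CohB1.tensorMod E L ≅ E :=
    GrothLib.NormTriv26.tSymm E L ≪≫
      (asIso (GrothLib.ProjFormula.projHom f L (Coh.structureModule X')) :) ≪≫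
        (Scheme.Modules.pushforward f).mapIso (SecTwist.unitorR _ ≪≫ u)
  have hN := GrothLib.ExtPowX.isExtPow_wedge hEF d
  obtain ⟨i⟩ := Groth.Agent.S15827.result E L hEF (GrothLib.Euler.isFinLocFreeOfRank_one' hL) d
    (GrothLib.ExtPowX.wedge E d) (GrothLib.ExtPowX.wedge E d)
    (GrothLib.NormTriv26.isExtPow_of_source_iso hN e.symm) hN
  have hD := GrothLib.CanonTriv.isInvertible_of_isExtPow hE hN
  have hP := GrothLib.Ample.isInvertible_tensorPow hL d
  have h1 := (GrothLib.Cube.clsMod_eq_iff hD (GrothLib.Ample.isInvertible_tensorMod hD hP)).2 ⟨i⟩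
  rw [GrothLib.Cube.clsMod_tensorMod hD hP, left_eq_mul] at h1
  exact (GrothLib.Cube.clsMod_eq_one_iff hP).1 h1

end Groth.Agent.S14818
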