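import Groth.Statements.S14819
import Groth.Agent.Lib.PthRoot26.Basic
import Mathlib.AlgebraicGeometry.Morphisms.UniversallyOpen

set_option autoImplicit false
universe u
open CategoryTheory CategoryTheory.Limits AlgebraicGeometry
open PicF

namespace Groth.Agent.S14819

/-- Let X be an integral Noetherian scheme which is normal (all local rings integrally closed domains)
and whose ring of global functions Γ(X, O_X) is a field of characteristic p > 0; let L be an
invertible O_X-module of exact order d in Pic(X), i.e. L^{⊗d} ≅ O_X with d ≥ 1 and L^{⊗i} not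
isomorphic to O_X for 0 < i < d, and suppose p divides d. Let X' be a connected scheme such that
every unit of Γ(X', O_{X'}) has a p-th root. Then no finite étale morphism f : X' → X (a finite
étale covering of X by X') satisfies f^*L ≅ O_{X'}. -/
theorem result (X X' : Scheme.{u})
    [IsIntegral X] [IsNoetherian X] (hnorm : Pi1.IsNormalScheme X)
    (hfield : IsField (Γ(X, ⊤) : Type u)) (p : ℕ) [Fact (Nat.Prime p)] [CharP (Γ(X, ⊤) : Type u) p]
    (L : X.Modules) (hL : PicF.IsInvertible L) (d : ℕ) (hd : 0 < d)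
    (hord : Nonempty (CohB1.tensorPow L d ≅ Coh.structureModule X))
    (hmin : ∀ i : ℕ, 0 < i → i < d → IsEmpty (CohB1.tensorPow L i ≅ Coh.structureModule X))
    (hpd : p ∣ d) [ConnectedSpace X']
    (hroot : ∀ u : (Γ(X', ⊤) : Type u), IsUnit u → ∃ v : (Γ(X', ⊤) : Type u), v ^ p = u)
    (f : X' ⟶ X) [IsFinite f] [Etale f] :
    IsEmpty ((Scheme.Modules.pullback f).obj L ≅ Coh.structureModule X') := by
  refine ⟨fun ε => ?_⟩
  obtain ⟨c, ⟨ι⟩⟩ := GrothLib.Ample.exists_cocycle hL
  obtain ⟨e, rfl⟩ := hpd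
  have hp : 1 < p := (Fact.out : p.Prime).one_lt
  have he : 0 < e := Nat.pos_of_mul_pos_left hd
  haveI : Nonempty (⊤ : X.Opens) := ⟨⟨genericPoint X, trivial⟩⟩
  haveI : CharP X.functionField p :=
    charP_of_injective_ringHom (f := (X.germToFunctionField ⊤).hom) (X.germToFunctionField_injective ⊤) p
  obtain ⟨x', hx'⟩ : genericPoint X ∈ Set.range f.base := by
    refine ((genericPoint_spec X).mem_open_set_iff f.isOpenMap.isOpen_range).2 ?_
    rw [Set.univ_inter]
    exact Set.range_nonempty _
  have h1 : GrothLib.Cube.Triv (c.pow (e * p)) := by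
    obtain ⟨d⟩ := c.nonempty_tensorPow_iso_pow ι (e * p)
    rw [GrothLib.Cube.triv_iff]
    rw [Nat.mul_comm] at hord
    exact ⟨d.symm ≪≫ hord.some⟩
  have h2 : GrothLib.Cube.Triv (c.comap f) := by
    obtain ⟨g⟩ := c.nonempty_pullback_iso f ι
    rw [GrothLib.Cube.triv_iff]
    exact ⟨g.symm ≪≫ ε⟩
  have h3 := GrothLib.PthRoot26.triv_pow (fun x => (hnorm x).2) p f hx' hroot c e h1 h2
  rw [GrothLib.Cube.triv_iff] at h3
  obtain ⟨d⟩ := c.nonempty_tensorPow_iso_pow ι e
  exact (hmin e he (lt_mul_of_one_lt_left he hp)).false (d ≪≫ h3.some)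

end Groth.Agent.S14819
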