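import Groth.Statements.S14825
-- import your own Groth.Agent.* helpers here
import Mathlib.CategoryTheory.Sites.SheafCohomology.Basic

set_option autoImplicit false
universe u
open CategoryTheory MonoidalCategory CartesianMonoidalCategory MonObj GrpObj AlgebraicGeometry
open AbVar

namespace Groth.Agent.S14825

/-- In the pointed case, let k be a field and X a proper k-scheme with H^0(X, O_X) one-dimensional and a
k-rational point x₀; let alb : X → A be the Albanese morphism (A an abelian variety over k — proper,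
geometrically integral group scheme — with alb(x₀) = 0, universal among pointed k-morphisms from X
to abelian varieties, the latter being geometrically reduced, connected, proper group schemes). Then
X has Albanese dimension zero, i.e. the image of alb is a single point of A (X is connected, so this
says the image is zero-dimensional), if and only if A is the trivial abelian variety, i.e. A → Spec
k is an isomorphism. (The published statement does not assume a rational point (it works with the
Albanese torsor); this row assumes one.) -/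
theorem result (k : Type u) [Field k] (X : Scheme.{u}) [X.Over (Spec (CommRingCat.of k))]
    [IsProper (X ↘ Spec (CommRingCat.of k))] (h0 : Module.finrank k (Coh.HH X (Coh.structureModule X) 0) = 1)
    (x₀ : 𝟙_ (Over (Spec (CommRingCat.of k))) ⟶ Over.mk (X ↘ Spec (CommRingCat.of k)))
    (A : Over (Spec (CommRingCat.of k))) [GrpObj A] [IsProper A.hom] [GeometricallyIntegral A.hom]
    (alb : Over.mk (X ↘ Spec (CommRingCat.of k)) ⟶ A) (halb : x₀ ≫ alb = η[A])
    (huniv : ∀ (B : Over (Spec (CommRingCat.of k))) [GrpObj B] [IsProper B.hom] [GeometricallyReduced B.hom] [ConnectedSpace ↥B.left]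
      (g : Over.mk (X ↘ Spec (CommRingCat.of k)) ⟶ B), x₀ ≫ g = η[B] → ∃! h : A ⟶ B, IsMonHom h ∧ alb ≫ h = g) :
    (Set.range alb.left.base).Subsingleton ↔ IsIso A.hom := by
  let S := Spec (CommRingCat.of k)
  constructor
  swap
  · intro h
    haveI : Subsingleton A.left := A.hom.homeomorph.injective.subsingleton
    exact Set.subsingleton_of_subsingleton
  intro hsub
  let π : X ⟶ S := X ↘ Spec (CommRingCat.of k)
  let σ : S ⟶ X := x₀.left
  have hσ : σ ≫ π = 𝟙 S := Over.w x₀
  let a₀ := alb.left (σ (IsLocalRing.closedPoint k))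
  -- global functions are constant
  have hsurj : Function.Surjective (Coh.toGlobal π) := by
    let φ := Sheaf.H.equiv₀ (Coh.toAb (Coh.structureModule X)) (T := (⊤ : X.Opens)) Limits.isTerminalTop
    have hsmul : ∀ (c : k) x, φ (c • x) = Coh.toGlobal π c * (show Coh.Γtop X from φ x) := fun c x => by
      show φ (Sheaf.H.map (Coh.smulAb _ (Coh.toGlobal π c)) 0 x) = _
      rw [← Sheaf.H.equiv₀_naturality]
      show (Coh.resTop X (Opposite.op ⊤) (Coh.toGlobal π c) : Coh.Γtop X) * _ = _
      rw [show Coh.resTop X (Opposite.op ⊤) (Coh.toGlobal π c) = Coh.toGlobal π c by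
        simp only [Coh.resTop]
        rw [Subsingleton.elim (homOfLE _).op (𝟙 (Opposite.op (⊤ : X.Opens))), CategoryTheory.Functor.map_id]
        rfl]
    obtain ⟨v, -, hv⟩ := finrank_eq_one_iff'.mp h0
    intro s
    obtain ⟨c₁, hc₁⟩ := hv (φ.symm (1 : Coh.Γtop X))
    obtain ⟨c, hc⟩ := hv (φ.symm s)
    have e₁ : Coh.toGlobal π c₁ * (show Coh.Γtop X from φ v) = (1 : Coh.Γtop X) := by
      have e := congrArg φ hc₁
      rw [hsmul, AddEquiv.apply_symm_apply] at e
      exact e
    have e : Coh.toGlobal π c * (show Coh.Γtop X from φ v) = s := by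
      have e := congrArg φ hc
      rw [hsmul, AddEquiv.apply_symm_apply] at e
      exact e
    have hc₁0 : c₁ ≠ 0 := by
      rintro rfl
      rw [map_zero, zero_mul] at e₁
      haveI : Nonempty (⊤ : X.Opens) := ⟨⟨σ (IsLocalRing.closedPoint k), trivial⟩⟩
      haveI : Nontrivial (Coh.Γtop X) := Scheme.component_nontrivial X ⊤
      exact zero_ne_one e₁
    refine ⟨c * c₁⁻¹, ?_⟩
    rw [← e, ← _root_.mul_one (Coh.toGlobal π (c * c₁⁻¹)), ← e₁, ← _root_.mul_assoc, ← map_mul, _root_.mul_assoc,
      inv_mul_cancel₀ hc₁0, _root_.mul_one]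
  obtain ⟨_, ⟨U, hU, rfl⟩, haU, -⟩ := A.left.isBasis_affineOpens.exists_subset_of_mem_open
    (a := a₀) (Set.mem_univ _) isOpen_univ
  change A.left.Opens at U
  let f' : X ⟶ (U : Scheme.{u}) := IsOpenImmersion.lift U.ι alb.left (by
    rw [Scheme.Opens.range_ι]
    rintro _ ⟨x, rfl⟩
    rw [show alb.left x = a₀ from hsub ⟨x, rfl⟩ ⟨_, rfl⟩]
    exact haU)
  have hf' : f' ≫ U.ι = alb.left := IsOpenImmersion.lift_fac _ _ _
  haveI : IsAffine (U : Scheme.{u}) := hU
  have hf'eq : f' = π ≫ σ ≫ f' := by
    refine ext_of_isAffine (CommRingCat.hom_ext (RingHom.ext fun r => ?_))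
    obtain ⟨c, hc⟩ := hsurj (f'.appTop.hom r)
    have h1 : σ.appTop.hom (π.appTop.hom ((Scheme.ΓSpecIso (CommRingCat.of k)).inv.hom c)) =
        (Scheme.ΓSpecIso (CommRingCat.of k)).inv.hom c := by
      change (π.appTop ≫ σ.appTop).hom _ = _
      rw [← Scheme.Hom.comp_appTop, hσ]
      simp
    show f'.appTop.hom r = (π ≫ σ ≫ f').appTop.hom r
    rw [Scheme.Hom.comp_appTop, Scheme.Hom.comp_appTop]
    show _ = π.appTop.hom (σ.appTop.hom (f'.appTop.hom r))
    rw [← hc]
    show π.appTop.hom _ = π.appTop.hom (σ.appTop.hom (π.appTop.hom _))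
    rw [h1]
  have halb1 : alb = toUnit _ ≫ η[A] := by
    refine Over.OverMorphism.ext ?_
    simp only [← halb, Over.comp_left]
    rw [← hf', hf'eq]
    simp only [Category.assoc]
    show π ≫ σ ≫ f' ≫ U.ι = (toUnit (Over.mk π)).left ≫ σ ≫ π ≫ σ ≫ f' ≫ U.ι
    rw [reassoc_of% hσ, Over.toUnit_left]
    rfl
  haveI : IsIntegral A.left := GeometricallyIntegral.isIntegral_of_subsingleton A.hom
  obtain ⟨h, -, hu⟩ := huniv A alb halb
  have h1 : (𝟙 A) = h := hu _ ⟨inferInstance, Category.comp_id _⟩
  have h2 : toUnit A ≫ η[A] = h := hu _ ⟨inferInstance, by rw [halb1, Category.assoc, ← Category.assoc (η[A]), toUnit_unique (η[A] ≫ toUnit A) (𝟙 _), Category.id_comp]⟩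
  have h3 := congrArg Over.Hom.left (h1.trans h2.symm)
  rw [Over.id_left, Over.comp_left, Over.toUnit_left] at h3
  exact ⟨η[A].left, h3.symm, Over.w η[A]⟩

end Groth.Agent.S14825
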