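import Groth.Statements.S14827
import Groth.Agent.Lib.Rigidity.Field
-- import your own Groth.Agent.* helpers here

set_option autoImplicit false
universe u
open CategoryTheory MonoidalCategory CartesianMonoidalCategory MonObj GrpObj AlgebraicGeometry
open AbVar

namespace Groth.Agent.S14827

/-- Over a field k (the published statement is over a base scheme S), let X be a proper k-scheme with
H^0(X, O_X) one-dimensional and a k-rational point x₀, and alb : X → A the Albanese morphism for the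
base point x₀ (A an abelian variety — proper, geometrically integral group scheme — with alb(x₀) =
0, universal among pointed morphisms to geometrically reduced, connected, proper group schemes). For
a second k-rational point x₁ let alb' = alb · (constant map with value alb(x₁))⁻¹, i.e. alb followed
by the translation of A by −alb(x₁). Then alb' is the Albanese morphism of X pointed by x₁: alb'(x₁)
= 0, and every k-morphism g : X → B to an abelian variety B with g(x₁) = 0 equals alb' ≫ h for a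
unique homomorphism h : A → B. -/
theorem result (k : Type u) [Field k] (X : Scheme.{u}) [X.Over (Spec (CommRingCat.of k))]
    [IsProper (X ↘ Spec (CommRingCat.of k))] (h0 : Module.finrank k (Coh.HH X (Coh.structureModule X) 0) = 1)
    (x₀ : 𝟙_ (Over (Spec (CommRingCat.of k))) ⟶ Over.mk (X ↘ Spec (CommRingCat.of k)))
    (A : Over (Spec (CommRingCat.of k))) [GrpObj A] [IsProper A.hom] [GeometricallyIntegral A.hom]
    (alb : Over.mk (X ↘ Spec (CommRingCat.of k)) ⟶ A) (halb : x₀ ≫ alb = η[A])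
    (huniv : ∀ (B : Over (Spec (CommRingCat.of k))) [GrpObj B] [IsProper B.hom] [GeometricallyReduced B.hom] [ConnectedSpace ↥B.left]
      (g : Over.mk (X ↘ Spec (CommRingCat.of k)) ⟶ B), x₀ ≫ g = η[B] → ∃! h : A ⟶ B, IsMonHom h ∧ alb ≫ h = g)
    (x₁ : 𝟙_ (Over (Spec (CommRingCat.of k))) ⟶ Over.mk (X ↘ Spec (CommRingCat.of k))) :
    x₁ ≫ (alb * (toUnit (Over.mk (X ↘ Spec (CommRingCat.of k))) ≫ x₁ ≫ alb)⁻¹) = η[A] ∧
    ∀ (B : Over (Spec (CommRingCat.of k))) [GrpObj B] [IsProper B.hom] [GeometricallyReduced B.hom] [ConnectedSpace ↥B.left]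
      (g : Over.mk (X ↘ Spec (CommRingCat.of k)) ⟶ B), x₁ ≫ g = η[B] →
        ∃! h : A ⟶ B, IsMonHom h ∧ (alb * (toUnit (Over.mk (X ↘ Spec (CommRingCat.of k))) ≫ x₁ ≫ alb)⁻¹) ≫ h = g := by
  set c : 𝟙_ (Over (Spec (CommRingCat.of k))) ⟶ A := x₁ ≫ alb with hc
  have hη : ∀ (B : Over (Spec (CommRingCat.of k))) [GrpObj B], η[B] = (1 : 𝟙_ _ ⟶ B) := fun B _ => by
    rw [Hom.one_def]; simp [Subsingleton.elim (toUnit (𝟙_ (Over (Spec (CommRingCat.of k))))) (𝟙 _)]
  have hpt : ∀ (x : 𝟙_ (Over (Spec (CommRingCat.of k))) ⟶ (Over.mk (X ↘ Spec (CommRingCat.of k)))), x ≫ toUnit (Over.mk (X ↘ Spec (CommRingCat.of k))) = 𝟙 _ := fun x => Subsingleton.elim _ _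
  refine ⟨?_, fun B _ _ _ _ g hg => ?_⟩
  · rw [MonObj.comp_mul, GrpObj.comp_inv, ← Category.assoc, hpt, Category.id_comp, _root_.mul_inv_cancel, hη]
  · rw [hη] at hg
    have key : ∀ h : A ⟶ B, IsMonHom h →
        (alb * (toUnit (Over.mk (X ↘ Spec (CommRingCat.of k))) ≫ c)⁻¹) ≫ h = (alb ≫ h) * (toUnit (Over.mk (X ↘ Spec (CommRingCat.of k))) ≫ c ≫ h)⁻¹ := fun h _ => by
      rw [MonObj.mul_comp, GrpObj.inv_comp, Category.assoc]
    obtain ⟨h, ⟨hh, hfac⟩, huniq⟩ := huniv B (g * (toUnit (Over.mk (X ↘ Spec (CommRingCat.of k))) ≫ x₀ ≫ g)⁻¹) (by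
      rw [MonObj.comp_mul, GrpObj.comp_inv, ← Category.assoc, hpt, Category.id_comp, _root_.mul_inv_cancel, hη])
    refine ⟨h, ⟨hh, ?_⟩, fun h' ⟨hh', hfac'⟩ => huniq h' ⟨hh', ?_⟩⟩
    · have h1 : c ≫ h = (x₀ ≫ g)⁻¹ := by
        rw [hc, Category.assoc, hfac, MonObj.comp_mul, GrpObj.comp_inv, ← Category.assoc, hpt, Category.id_comp,
          hg, _root_.one_mul]
      rw [key h hh, h1, hfac, GrpObj.comp_inv, _root_.inv_inv, _root_.mul_assoc, _root_.inv_mul_cancel, _root_.mul_one]
    · rw [key h' hh'] at hfac'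
      have h0 := congrArg (x₀ ≫ ·) hfac'
      simp only [MonObj.comp_mul, GrpObj.comp_inv] at h0
      rw [← Category.assoc x₀, halb, ← Category.assoc x₀, hpt, Category.id_comp, IsMonHom.one_hom, hη, _root_.one_mul] at h0
      rw [mul_inv_eq_iff_eq_mul] at hfac'
      rw [hfac', ← h0, GrpObj.comp_inv, _root_.inv_inv]

end Groth.Agent.S14827
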