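import Groth.Statements.S14830
import Groth.Agent.Lib.Rigidity.Hom
-- import your own Groth.Agent.* helpers here

set_option autoImplicit false
universe u
open CategoryTheory MonoidalCategory CartesianMonoidalCategory MonObj GrpObj AlgebraicGeometry
open AbVar

namespace Groth.Agent.S14830

/-- Let k be a field and X, Y proper, geometrically integral k-schemes with k-rational points x₀ and y₀.
Let albX : X → A and albY : Y → B be Albanese morphisms: A, B abelian varieties over k (proper,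
geometrically integral group schemes), albX(x₀) = 0, albY(y₀) = 0, each universal among pointed
k-morphisms into abelian varieties (geometrically reduced, connected, proper group schemes). Then
the product morphism albX × albY : X ×_k Y → A ×_k B is the Albanese morphism of X ×_k Y pointed at
(x₀, y₀): for every abelian variety C and every k-morphism g : X ×_k Y → C with g(x₀, y₀) = 0 there
is a unique homomorphism h : A ×_k B → C with (albX × albY) ≫ h = g. -/
theorem result (k : Type u) [Field k] (X Y : Scheme.{u}) [X.Over (Spec (CommRingCat.of k))] [Y.Over (Spec (CommRingCat.of k))]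
    [IsProper (X ↘ Spec (CommRingCat.of k))] [IsProper (Y ↘ Spec (CommRingCat.of k))]
    [GeometricallyIntegral (X ↘ Spec (CommRingCat.of k))] [GeometricallyIntegral (Y ↘ Spec (CommRingCat.of k))]
    (x₀ : 𝟙_ (Over (Spec (CommRingCat.of k))) ⟶ Over.mk (X ↘ Spec (CommRingCat.of k))) (y₀ : 𝟙_ (Over (Spec (CommRingCat.of k))) ⟶ Over.mk (Y ↘ Spec (CommRingCat.of k)))
    (A : Over (Spec (CommRingCat.of k))) [GrpObj A] [IsProper A.hom] [GeometricallyIntegral A.hom]
    (albX : Over.mk (X ↘ Spec (CommRingCat.of k)) ⟶ A) (halbX : x₀ ≫ albX = η[A])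
    (hunivA : ∀ (C : Over (Spec (CommRingCat.of k))) [GrpObj C] [IsProper C.hom] [GeometricallyReduced C.hom] [ConnectedSpace ↥C.left]
      (g : Over.mk (X ↘ Spec (CommRingCat.of k)) ⟶ C), x₀ ≫ g = η[C] → ∃! h : A ⟶ C, IsMonHom h ∧ albX ≫ h = g)
    (B : Over (Spec (CommRingCat.of k))) [GrpObj B] [IsProper B.hom] [GeometricallyIntegral B.hom]
    (albY : Over.mk (Y ↘ Spec (CommRingCat.of k)) ⟶ B) (halbY : y₀ ≫ albY = η[B])
    (hunivB : ∀ (C : Over (Spec (CommRingCat.of k))) [GrpObj C] [IsProper C.hom] [GeometricallyReduced C.hom] [ConnectedSpace ↥C.left]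
      (g : Over.mk (Y ↘ Spec (CommRingCat.of k)) ⟶ C), y₀ ≫ g = η[C] → ∃! h : B ⟶ C, IsMonHom h ∧ albY ≫ h = g)
    (C : Over (Spec (CommRingCat.of k))) [GrpObj C] [IsProper C.hom] [GeometricallyReduced C.hom] [ConnectedSpace ↥C.left]
    (g : Over.mk (X ↘ Spec (CommRingCat.of k)) ⊗ Over.mk (Y ↘ Spec (CommRingCat.of k)) ⟶ C) (hg : lift x₀ y₀ ≫ g = η[C]) :
    ∃! h : A ⊗ B ⟶ C, IsMonHom h ∧ (albX ⊗ₘ albY) ≫ h = g := by
  have hpt : ∀ (T : Over (Spec (CommRingCat.of k))) (x : 𝟙_ (Over (Spec (CommRingCat.of k))) ⟶ T), x ≫ toUnit T = 𝟙 _ :=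
    fun _ _ => Subsingleton.elim _ _
  have : IsProper (Over.mk (X ↘ Spec (CommRingCat.of k))).hom := inferInstanceAs (IsProper (X ↘ Spec (CommRingCat.of k)))
  have : GeometricallyIntegral (Over.mk (X ↘ Spec (CommRingCat.of k))).hom := inferInstanceAs (GeometricallyIntegral (X ↘ Spec (CommRingCat.of k)))
  have : IsProper (Over.mk (Y ↘ Spec (CommRingCat.of k))).hom := inferInstanceAs (IsProper (Y ↘ Spec (CommRingCat.of k)))
  have : GeometricallyIntegral (Over.mk (Y ↘ Spec (CommRingCat.of k))).hom := inferInstanceAs (GeometricallyIntegral (Y ↘ Spec (CommRingCat.of k)))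
  set p : (Over.mk (X ↘ Spec (CommRingCat.of k))) ⟶ C := lift (𝟙 (Over.mk (X ↘ Spec (CommRingCat.of k)))) (toUnit (Over.mk (X ↘ Spec (CommRingCat.of k))) ≫ y₀) ≫ g with hp
  set q : (Over.mk (Y ↘ Spec (CommRingCat.of k))) ⟶ C := lift (toUnit (Over.mk (Y ↘ Spec (CommRingCat.of k))) ≫ x₀) (𝟙 (Over.mk (Y ↘ Spec (CommRingCat.of k)))) ≫ g with hq
  obtain ⟨a, ⟨ha, hafac⟩, hauq⟩ := hunivA C p (by
    rw [hp, ← hg, comp_lift_assoc, Category.comp_id, ← Category.assoc x₀ (toUnit (Over.mk (X ↘ Spec (CommRingCat.of k)))), hpt, Category.id_comp])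
  obtain ⟨b, ⟨hb, hbfac⟩, hbuq⟩ := hunivB C q (by
    rw [hq, ← hg, comp_lift_assoc, Category.comp_id, ← Category.assoc y₀ (toUnit (Over.mk (Y ↘ Spec (CommRingCat.of k)))), hpt, Category.id_comp])
  set h : A ⊗ B ⟶ C := (fst A B ≫ a) * (snd A B ≫ b) with hh
  have hη : ∀ (T : Over (Spec (CommRingCat.of k))) [GrpObj T], (1 : 𝟙_ _ ⟶ T) = η[T] := fun T _ => by
    rw [Hom.one_def, Subsingleton.elim (toUnit (𝟙_ _)) (𝟙 _), Category.id_comp]
  -- the images of `a` and `b` commute, by rigidity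
  have hcomm : (snd A B ≫ b) * (fst A B ≫ a) = h := by
    have e1 : (1 : A ⟶ B) ≫ b = 1 := MonObj.one_comp b
    have e2 : (1 : B ⟶ A) ≫ a = 1 := MonObj.one_comp a
    rw [GrothLib.Rigidity.eq_mul_of_slices ((snd A B ≫ b) * (fst A B ≫ a)) η[A] η[B] (by
      rw [MonObj.comp_mul, lift_snd_assoc, lift_fst_assoc]
      simp only [IsMonHom.one_hom]
      rw [← hη, _root_.one_mul])]
    simp only [MonObj.comp_mul, lift_snd_assoc, lift_fst_assoc, Category.id_comp,
      GrothLib.Rigidity.toUnit_comp_one, e1, e2, _root_.one_mul, _root_.mul_one]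
    rfl
  have hhom : IsMonHom h := GrothLib.GrpSchField.isMonHom_of_mul h <|
    GrothLib.GrpSchField.hom_ext_points₂ fun T p₁ p₂ => by
      have key := congrArg (fun r => lift (p₂ ≫ fst A B) (p₁ ≫ snd A B) ≫ r) hcomm
      simp only [hh, MonObj.comp_mul, lift_snd_assoc, lift_fst_assoc] at key
      rw [lift_map_assoc, ← Category.assoc, ← Hom.mul_def, ← Hom.mul_def]
      simp only [hh, MonObj.comp_mul, ← Category.assoc, MonObj.mul_comp]
      simp only [_root_.mul_assoc]
      congr 1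
      rw [← _root_.mul_assoc, ← _root_.mul_assoc]
      congr 1
      simpa using key.symm
  refine ⟨h, ⟨hhom, ?_⟩, fun h' ⟨hh', hfac'⟩ => ?_⟩
  · rw [hh, MonObj.comp_mul, tensorHom_fst_assoc, tensorHom_snd_assoc, hafac, hbfac]
    exact (GrothLib.Rigidity.eq_mul_of_slices g x₀ y₀ hg).symm
  · have h0 : lift η[A] η[B] ≫ h' = η[C] := by
      have e : lift η[A] η[B] = η[A ⊗ B] := by
        apply CartesianMonoidalCategory.hom_ext <;> simp [IsMonHom.one_hom]
      rw [e, IsMonHom.one_hom]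
    rw [GrothLib.Rigidity.eq_mul_of_slices h' η[A] η[B] h0, hh]
    have i1 : IsMonHom (lift (𝟙 A) (toUnit A ≫ η[B])) := inferInstance
    have i2 : IsMonHom (lift (toUnit B ≫ η[A]) (𝟙 B)) := inferInstance
    congr 2
    · refine hauq _ ⟨inferInstance, ?_⟩
      rw [hp, ← hfac', lift_map_assoc]
      simp only [comp_lift_assoc, Category.id_comp, Category.comp_id]
      rw [← Category.assoc albX, Category.assoc (toUnit _) y₀, halbY, Subsingleton.elim (albX ≫ toUnit A) (toUnit _)]
    · refine hbuq _ ⟨inferInstance, ?_⟩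
      rw [hq, ← hfac', lift_map_assoc]
      simp only [comp_lift_assoc, Category.id_comp, Category.comp_id]
      rw [← Category.assoc albY, Category.assoc (toUnit _) x₀, halbX, Subsingleton.elim (albY ≫ toUnit B) (toUnit _)]

end Groth.Agent.S14830
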