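import Groth.Statements.S1585
import Groth.Agent.Lib.NormFib.Normal

set_option autoImplicit false
universe u
open CategoryTheory CategoryTheory.Limits AlgebraicGeometry
open Variety

namespace Groth.Agent.S1585

set_option backward.isDefEq.respectTransparency false

open GrothLib.NormFib

/-- Part (1): and (4), for an integral scheme locally of finite type over a field: the normalization
morphism ν (normalization of X in its function field) is finite, dominant and an isomorphism over a
nonempty open, and the normalization is an integral scheme all of whose local rings are integrally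
closed domains. (The quasi-compactness/quasi-separatedness binders on Spec K(X) → X always hold;
they are needed only to form Mathlib's relative normalization.) -/
theorem result (k : Type u) [Field k] (X : Scheme.{u}) [X.Over (Spec (CommRingCat.of k))] [IsIntegral X] [LocallyOfFiniteType (X ↘ (Spec (CommRingCat.of k)))]
    [QuasiCompact (X.fromSpecStalk (genericPoint X))] [QuasiSeparated (X.fromSpecStalk (genericPoint X))] :
    IsFinite (Curv2.normalizationι X) ∧ IsDominant (Curv2.normalizationι X) ∧
      (∃ V : X.Opens, (V : Set X).Nonempty ∧ IsIso (Curv2.normalizationι X ∣_ V)) ∧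
      IsIntegral (Curv2.normalization X) ∧ Pi1.IsNormalScheme (Curv2.normalization X) := by
  open GrothLib.NormFib in
  let g := X.fromSpecStalk (genericPoint X)
  have hg : g = Spec.map (CommRingCat.ofHom (RingHom.id X.functionField)) ≫ X.fromSpecStalk (genericPoint X) := by
    rw [CommRingCat.ofHom_id, Spec.map_id, Category.id_comp]
  have hfin : IsFinite (Curv2.normalizationι X) :=
    GrothLib.Japanese.isFinite_fromNormalization k (X ↘ Spec (CommRingCat.of k)) (RingHom.id X.functionField)
      (RingHom.Finite.id _) g hg
  have hdom : IsDominant (Curv2.normalizationι X) := by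
    have : IsDominant (g.toNormalization ≫ g.fromNormalization) := by
      rw [g.toNormalization_fromNormalization]; infer_instance
    exact IsDominant.of_comp g.toNormalization g.fromNormalization
  refine ⟨hfin, hdom, ?_, inferInstance, GrothLib.NormFib.isNormalScheme_normalization⟩
  obtain ⟨_, ⟨U, hU, rfl⟩, hxU, -⟩ :=
    X.isBasis_affineOpens.exists_subset_of_mem_open (Set.mem_univ (genericPoint X)) isOpen_univ
  have hU : IsAffineOpen U := hU
  have : Nonempty U := ⟨⟨_, hxU⟩⟩
  let _ := GrothLib.NormFib.chartAlgebra (X := X) U
  obtain ⟨_, _, _⟩ := GrothLib.NormFib.exists_chart hU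
  have := functionField_isFractionRing_of_isAffineOpen X U hU
  have : Module.Finite Γ(X, U) Γ(Curv2.normalization X, GrothLib.NormFib.pre U) :=
    RingHom.finite_algebraMap.mp ((Curv2.normalizationι X).finite_app U hU)
  classical
  obtain ⟨G, hG⟩ := Module.Finite.fg_top (R := Γ(X, U)) (M := Γ(Curv2.normalization X, GrothLib.NormFib.pre U))
  obtain ⟨⟨d, hd⟩, hdG⟩ := IsLocalization.exist_integer_multiples (nonZeroDivisors Γ(X, U)) G
    (fun b => algebraMap Γ(Curv2.normalization X, GrothLib.NormFib.pre U) X.functionField b)
  let S : Submodule Γ(X, U) Γ(Curv2.normalization X, GrothLib.NormFib.pre U) :=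
    (LinearMap.range (Algebra.linearMap Γ(X, U) X.functionField)).comap
      (d • (IsScalarTower.toAlgHom Γ(X, U) Γ(Curv2.normalization X, GrothLib.NormFib.pre U) X.functionField).toLinearMap)
  have hS : ∀ b, b ∈ S := fun b => by
    have h : (⊤ : Submodule Γ(X, U) Γ(Curv2.normalization X, GrothLib.NormFib.pre U)) ≤ S := by
      rw [← hG, Submodule.span_le]
      exact fun b hb => hdG b hb
    exact h trivial
  let V := X.basicOpen d
  have hV : IsAffineOpen V := hU.basicOpen d
  have hne : Nonempty V := by
    refine ⟨⟨genericPoint X, ?_⟩⟩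
    refine (RingedSpace.mem_basicOpen X.toLocallyRingedSpace.toRingedSpace d _ hxU).mpr ?_
    have h0 : algebraMap Γ(X, U) X.functionField d ≠ 0 :=
      (map_ne_zero_iff _ (IsFractionRing.injective Γ(X, U) X.functionField)).mpr (nonZeroDivisors.ne_zero hd)
    exact isUnit_iff_ne_zero.mpr h0
  refine ⟨V, ⟨hne.some.1, hne.some.2⟩, (isIso_morphismRestrict_iff_isIso_app _ hV).mpr ?_⟩
  let _ := GrothLib.NormFib.chartAlgebra (X := X) V
  obtain ⟨_, _, hicV⟩ := GrothLib.NormFib.exists_chart hV
  have := functionField_isFractionRing_of_isAffineOpen X V hV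
  have hinjV := IsIntegralClosure.algebraMap_injective Γ(Curv2.normalization X, GrothLib.NormFib.pre V) Γ(X, V) X.functionField
  refine (ConcreteCategory.isIso_iff_bijective _).mpr ⟨?_, ?_⟩
  · intro a b hab
    have h := congrArg (algebraMap Γ(Curv2.normalization X, GrothLib.NormFib.pre V) X.functionField) hab
    refine IsFractionRing.injective Γ(X, V) X.functionField ?_
    rw [IsScalarTower.algebraMap_apply Γ(X, V) Γ(Curv2.normalization X, GrothLib.NormFib.pre V) X.functionField a,
      IsScalarTower.algebraMap_apply Γ(X, V) Γ(Curv2.normalization X, GrothLib.NormFib.pre V) X.functionField b]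
    exact h
  · intro w
    let _ : Algebra Γ(X, U) Γ(X, V) := (X.presheaf.map (homOfLE (X.basicOpen_le d)).op).hom.toAlgebra
    have : IsScalarTower Γ(X, U) Γ(X, V) X.functionField := IsScalarTower.of_algebraMap_eq fun a =>
      (ConcreteCategory.congr_hom (X.presheaf.germ_res (homOfLE (X.basicOpen_le d)) (genericPoint X)
        (((genericPoint_spec X).mem_open_set_iff V.isOpen).mpr ⟨hne.some.1, trivial, hne.some.2⟩)) a).symm
    have : IsLocalization.Away d Γ(X, V) := hU.isLocalization_basicOpen d
    have hw : IsIntegral Γ(X, V) (algebraMap Γ(Curv2.normalization X, GrothLib.NormFib.pre V) X.functionField w) :=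
      (IsIntegralClosure.isIntegral Γ(X, V) X.functionField w).map (IsScalarTower.toAlgHom Γ(X, V) _ X.functionField)
    obtain ⟨⟨s, hs⟩, hint⟩ := hw.exists_multiple_integral_of_isLocalization (Submonoid.powers d) _
    obtain ⟨b, hb⟩ := (IsIntegralClosure.isIntegral_iff (A := Γ(Curv2.normalization X, GrothLib.NormFib.pre U))).1 hint
    obtain ⟨a, ha⟩ := hS b
    obtain ⟨n, rfl⟩ := hs
    obtain ⟨v, hv⟩ := (IsLocalization.map_units Γ(X, V) (⟨d * d ^ n, ⟨n + 1, pow_succ' d n⟩⟩ : Submonoid.powers d)).exists_left_inv
    refine ⟨algebraMap Γ(X, U) Γ(X, V) a * v, hinjV ?_⟩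
    change algebraMap Γ(Curv2.normalization X, GrothLib.NormFib.pre V) X.functionField (algebraMap Γ(X, V) _ _) = _
    rw [← IsScalarTower.algebraMap_apply, map_mul, ← IsScalarTower.algebraMap_apply Γ(X, U) Γ(X, V) X.functionField]
    have hv' := congrArg (algebraMap Γ(X, V) X.functionField) hv
    rw [map_mul, map_one, ← IsScalarTower.algebraMap_apply Γ(X, U) Γ(X, V) X.functionField] at hv'
    have ha' : algebraMap Γ(X, U) X.functionField a = algebraMap Γ(X, U) X.functionField (d * d ^ n) *
        algebraMap Γ(Curv2.normalization X, GrothLib.NormFib.pre V) X.functionField w := by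
      refine ha.trans ?_
      show d • algebraMap Γ(Curv2.normalization X, GrothLib.NormFib.pre U) X.functionField b = _
      rw [hb, Submonoid.smul_def, Algebra.smul_def, Algebra.smul_def, map_mul, mul_assoc]
    rw [ha', mul_comm _ (algebraMap Γ(X, V) X.functionField v), ← mul_assoc, hv', one_mul]

end Groth.Agent.S1585
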