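import Groth.Statements.S14835
import Groth.Agent.Lib.FunFld.SemiTransfer
import Groth.Agent.Lib.CurveMult.GenusFinite
import Groth.Agent.Lib.CurveMult.Hurwitz
import Groth.Agent.Lib.CurveMult.NormalRat
import Groth.Agent.Lib.CurveMult.PlaneNotHyper
import Groth.Agent.Lib.CurveRR.Setup
import Groth.Agent.Lib.CurveRR.Main
import Groth.Agent.Lib.Japanese.IntegralSpec
import Groth.Agent.Lib.Ref1.Connected
import Groth.Agent.Lib.CMFree.Regular
import Groth.Agent.S1585

set_option autoImplicit false
universe u
open CategoryTheory CategoryTheory.Limits AlgebraicGeometry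
open Curves

namespace Groth.Agent.S14835

theorem dim_eq {X Y : Scheme.{u}} (f : X ⟶ Y) [IsFinite f] [Surjective f] (h : topologicalKrullDim Y = 1) :
    topologicalKrullDim X = 1 :=
  GrothLib.CurveMult.dim_eq_one_of_finite f h

set_option backward.isDefEq.respectTransparency false


/-- Let k be an algebraically closed field, C and B proper curves over k (proper k-schemes of dimension
one) with B connected and regular (all local rings regular), φ : C → B a k-morphism, and ι : C_i → C
a closed integral one-dimensional subscheme (an integral component) such that the composite C_i → B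
is finite. Then dim_k H^1(C, O_C) ≥ dim_k H^1(C_i, O_{C_i}) ≥ dim_k H^1(B, O_B). -/
theorem result (k : Type u) [Field k] [IsAlgClosed k]
    (C B Ci : Scheme.{u}) [C.Over (Spec (CommRingCat.of k))] [B.Over (Spec (CommRingCat.of k))] [Ci.Over (Spec (CommRingCat.of k))]
    [IsProper (C ↘ Spec (CommRingCat.of k))] [IsProper (B ↘ Spec (CommRingCat.of k))]
    (hC : topologicalKrullDim ↥C = 1) (hB : topologicalKrullDim ↥B = 1) [ConnectedSpace ↥B]
    (hBreg : ∀ b : B, IsRegularLocalRing (B.presheaf.stalk b))
    (φ : C ⟶ B) (hφ : φ ≫ (B ↘ Spec (CommRingCat.of k)) = C ↘ Spec (CommRingCat.of k))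
    (ι : Ci ⟶ C) [IsClosedImmersion ι] [IsIntegral Ci] (hCi : topologicalKrullDim ↥Ci = 1)
    (hι : ι ≫ (C ↘ Spec (CommRingCat.of k)) = Ci ↘ Spec (CommRingCat.of k)) [IsFinite (ι ≫ φ)] :
    Module.finrank k (Coh.HH Ci (Coh.structureModule Ci) 1) ≤ Module.finrank k (Coh.HH C (Coh.structureModule C) 1) ∧
      Module.finrank k (Coh.HH B (Coh.structureModule B) 1) ≤ Module.finrank k (Coh.HH Ci (Coh.structureModule Ci) 1) := by
  haveI : IsNoetherian C := GrothLib.Euler.isNoetherian_of_proper (X := C) k
  haveI : IsNoetherian B := GrothLib.Euler.isNoetherian_of_proper (X := B) k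
  haveI : IsProper (Ci ↘ Spec (CommRingCat.of k)) := by rw [← hι]; infer_instance
  haveI : IsNoetherian Ci := GrothLib.Euler.isNoetherian_of_proper (X := Ci) k
  refine ⟨GrothLib.CurveMult.GenusFinite.genus_le k hC.le ι hι ⊤ (by simp) inferInstance, ?_⟩
  haveI : IsIntegral B := GrothLib.Ref1.isIntegral_of_connected fun b => by
    haveI := hBreg b
    exact GrothLib.CMFree.isDomain_of_isRegularLocalRing (B.presheaf.stalk b)
  haveI := GrothLib.CurveRR.regCurve_of_regular (k := k) hB hBreg
  obtain ⟨hfin, hdom, ⟨V, hVne, hV⟩, hint, hnor⟩ := Groth.Agent.S1585.result k Ci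
  let N := Curv2.normalization Ci
  let ν : N ⟶ Ci := Curv2.normalizationι Ci
  haveI : IsFinite ν := hfin
  haveI : IsIntegral N := hint
  haveI : IsDominant ν := hdom
  haveI : Surjective ν := ⟨fun y => by
    have h : Set.range ν = Set.univ := by
      rw [← ν.isClosedMap.isClosed_range.closure_eq]
      exact ν.denseRange.closure_range
    exact h.ge (Set.mem_univ y)⟩
  letI : N.Over (Spec (CommRingCat.of k)) := ⟨ν ≫ (Ci ↘ Spec (CommRingCat.of k))⟩
  haveI : IsProper (N ↘ Spec (CommRingCat.of k)) := inferInstanceAs (IsProper (ν ≫ (Ci ↘ Spec (CommRingCat.of k))))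
  haveI : IsNoetherian N := GrothLib.Euler.isNoetherian_of_proper (X := N) k
  have hN1 : topologicalKrullDim N = 1 := dim_eq ν hCi
  haveI := GrothLib.CurveMult.regCurve_of_normal hnor hN1
  haveI := hV
  have h1 : Curv2.genus k N ≤ Curv2.genus k Ci := GrothLib.CurveMult.GenusFinite.genus_le k hCi.le ν rfl V
    (V.isOpen.dense hVne) inferInstance
  refine le_trans ?_ h1
  let g : N ⟶ B := ν ≫ ι ≫ φ
  haveI : IsFinite g := inferInstanceAs (IsFinite (ν ≫ ι ≫ φ))
  have hg : g ≫ (B ↘ Spec (CommRingCat.of k)) = N ↘ Spec (CommRingCat.of k) := by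
    show (ν ≫ ι ≫ φ) ≫ _ = ν ≫ _
    rw [Category.assoc, Category.assoc, hφ, hι]
  have e : g (genericPoint N) = genericPoint B := by
    by_contra hne
    have hcl : IsClosed ({g (genericPoint N)} : Set B) := GrothLib.CurvePoints.isClosed_singleton hB.le hne
    have hall : ∀ x : N, x = genericPoint N := fun x =>
      (GrothLib.Japanese.eq_of_specializes_of_isIntegralHom g ((genericPoint_spec N).specializes trivial)
        (Set.mem_singleton_iff.1 ((((genericPoint_spec N).specializes trivial).map g.continuous).mem_closed hcl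
          (Set.mem_singleton _))).symm).symm
    haveI : Subsingleton N := ⟨fun a b => (hall a).trans (hall b).symm⟩
    haveI : DiscreteTopology N := inferInstance
    exact absurd (hN1.symm.trans_le (topologicalKrullDim_zero_of_discreteTopology N)) (by decide)
  letI := (GrothLib.CurveMult.Hurwitz.ψ e).toAlgebra
  haveI : IsScalarTower k B.functionField N.functionField :=
    .of_algebraMap_eq fun c => (GrothLib.CurveMult.Hurwitz.ψ_algebraMap k e hg c).symm
  haveI : FiniteDimensional B.functionField N.functionField := GrothLib.CurveMult.Hurwitz.finiteDimensional k e hg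
  have hB0 := GrothLib.CurveRR.finrank_H0_structure_eq_one k (X := B)
  have hN0 := GrothLib.CurveRR.finrank_H0_structure_eq_one k (X := N)
  have h := GrothLib.FunFld.SemiTransfer.genus_le (k := k) (L := N.functionField)
    (GrothLib.CurveRR.isFunctionField k hB0) (GrothLib.CurveRR.isFunctionField k hN0)
  rw [← GrothLib.CurveRR.genus_eq k hB0, ← GrothLib.CurveRR.genus_eq k hN0] at h
  exact h

end Groth.Agent.S14835
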