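import Groth.Statements.S14837
import Groth.Agent.Lib.LerayHOne9.Basic
import Groth.Agent.Lib.Euler.Basic
import Groth.Agent.Lib.Kleiman.Kleiman

set_option autoImplicit false
universe u
open CategoryTheory CategoryTheory.Limits AlgebraicGeometry
open Coh

namespace Groth.Agent.S14837

/-- Let k be a field and f : X → Y a k-morphism between proper k-schemes which is a fibration (Γ(V, O_Y)
→ Γ(f⁻¹V, O_X) bijective for every open V ⊆ Y). Then H^1(Y, O_Y) injects naturally into H^1(X, O_X)
(edge map of the Leray spectral sequence); stated here as the inequality dim_k H^1(Y, O_Y) ≤ dim_k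
H^1(X, O_X) of finite dimensions. -/
theorem result (k : Type u) [Field k] (X Y : Scheme.{u})
    [X.Over (Spec (CommRingCat.of k))] [Y.Over (Spec (CommRingCat.of k))] [IsProper (X ↘ Spec (CommRingCat.of k))] [IsProper (Y ↘ Spec (CommRingCat.of k))]
    (f : X ⟶ Y) (hf : f ≫ (Y ↘ Spec (CommRingCat.of k)) = X ↘ Spec (CommRingCat.of k)) (hfib : ∀ V : Y.Opens, IsIso (f.app V)) :
    Module.finrank k (Coh.HH Y (Coh.structureModule Y) 1) ≤ Module.finrank k (Coh.HH X (Coh.structureModule X) 1) := by
  let S := Spec (CommRingCat.of k)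
  haveI : IsLocallyNoetherian X := LocallyOfFiniteType.isLocallyNoetherian (X ↘ S)
  haveI := GrothLib.LerayHOne9.isIso_uMap f hfib
  let u := GrothLib.LerayHOne9.uMap f
  have hglob : ∀ a : k, f.appTop (Coh.toGlobal (Y ↘ S) a) = Coh.toGlobal (X ↘ S) a := fun a => by
    change f.appTop ((Y ↘ S).appTop _) = _
    rw [← CategoryTheory.comp_apply, ← Scheme.Hom.comp_appTop, hf]
    rfl
  let P : Coh.HH Y (Coh.structureModule Y) 1 →ₗ[k] Coh.HH X (Coh.structureModule X) 1 :=
    { toFun := fun x => CohPull.pushEdge f (Coh.structureModule X) 1 (CohPull.mapH u 1 x)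
      map_add' := fun x y => by simp only [map_add]
      map_smul' := fun a x => by
        change CohPull.pushEdge f _ 1 (CohPull.mapH u 1 (Coh.toGlobal (Y ↘ S) a • x)) =
          Coh.toGlobal (X ↘ S) a • CohPull.pushEdge f _ 1 (CohPull.mapH u 1 x)
        rw [← GrothLib.LerayHOne9.mapH_smul, ← GrothLib.CohPullLib.mapH_comp, GrothLib.LerayHOne9.uMap_smul,
          GrothLib.CohPullLib.mapH_comp, GrothLib.CohPullLib.pushEdge_natural, GrothLib.LerayHOne9.mapH_smul, hglob] }
  have hinj : Function.Injective P := fun x y h => by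
    have h1 := GrothLib.LerayHOne9.injective_pushEdge_one f _ h
    have h2 := congrArg (CohPull.mapH (inv u) 1) h1
    rwa [← GrothLib.CohPullLib.mapH_comp, ← GrothLib.CohPullLib.mapH_comp, IsIso.hom_inv_id,
      GrothLib.CohPullLib.mapH_id, GrothLib.CohPullLib.mapH_id] at h2
  haveI : Module.Finite k (Coh.HH X (Coh.structureModule X) 1) :=
    GrothLib.Euler.finiteDimensional_HH k (GrothLib.Kleiman.isCoh_O k) 1
  exact LinearMap.finrank_le_finrank_of_injective hinj

end Groth.Agent.S14837
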