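import Groth.Statements.S1484
import Mathlib

set_option autoImplicit false
universe u
open FlatMor

namespace Groth.Agent.S1484

/-- Let R be a ring, p_1, …, p_r primes of R none of which is contained in another, k_i ⊆ κ(p_i)
subfields over which κ(p_i) is not algebraic, and J an ideal of R contained in none of the p_i. Then
some x ∈ J has image in κ(p_i) transcendental over k_i for every i. -/
theorem result {R : Type u} [CommRing R] {r : ℕ} (p : Fin r → Ideal R) [∀ i, (p i).IsPrime]
    (hp : ∀ i j, i ≠ j → ¬ p i ≤ p j) (k : ∀ i, Subfield (p i).ResidueField)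
    (hk : ∀ i, ¬ Algebra.IsAlgebraic ↥(k i) (p i).ResidueField) (J : Ideal R) (hJ : ∀ i, ¬ J ≤ p i) :
    ∃ x ∈ J, ∀ i, Transcendental ↥(k i) (algebraMap R (p i).ResidueField x) := by
  classical
  have ht : ∀ i, ∃ t ∈ J, (∀ j, j ≠ i → t ∈ p j) ∧ Transcendental ↥(k i) (algebraMap R (p i).ResidueField t) := by
    intro i
    have hne : ¬ (J ⊓ (Finset.univ.erase i).inf p) ≤ p i := by
      intro hle
      rcases ((inferInstance : (p i).IsPrime).inf_le).mp hle with h | h
      · exact hJ i h
      · obtain ⟨j, hj, hji⟩ := ((inferInstance : (p i).IsPrime).inf_le').mp h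
        exact hp j i (Finset.mem_erase.mp hj).1 hji
    obtain ⟨e, he, hei⟩ := SetLike.not_le_iff_exists.mp hne
    have hej : ∀ r, ∀ j, j ≠ i → e * r ∈ p j := fun r j hj => Ideal.mul_mem_right _ _
      ((Finset.inf_le (f := p) (Finset.mem_erase.mpr ⟨hj, Finset.mem_univ j⟩)) he.2)
    have he0 : algebraMap R (p i).ResidueField e ≠ 0 := fun h0 => hei (Ideal.algebraMap_residueField_eq_zero.mp h0)
    by_contra hcon
    push Not at hcon
    refine hk i ⟨fun z => ?_⟩
    have hr : ∀ r : R, IsAlgebraic ↥(k i) (algebraMap R (p i).ResidueField r) := fun r => by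
      have h1 : IsAlgebraic ↥(k i) (algebraMap R (p i).ResidueField (e * r)) := not_not.mp
        (hcon (e * r) (Ideal.mul_mem_right _ _ he.1) (hej r))
      have h2 : IsAlgebraic ↥(k i) (algebraMap R (p i).ResidueField e) := by
        have := not_not.mp (hcon (e * 1) (Ideal.mul_mem_right _ _ he.1) (hej 1))
        rwa [mul_one] at this
      have h3 := h2.inv.mul h1
      rwa [map_mul, ← mul_assoc, inv_mul_cancel₀ he0, one_mul] at h3
    obtain ⟨a, b, hb, rfl⟩ := IsFractionRing.div_surjective (R ⧸ p i) z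
    obtain ⟨a, rfl⟩ := Ideal.Quotient.mk_surjective a
    obtain ⟨b, rfl⟩ := Ideal.Quotient.mk_surjective b
    rw [← Ideal.Quotient.algebraMap_eq, ← IsScalarTower.algebraMap_apply, ← IsScalarTower.algebraMap_apply,
      div_eq_mul_inv]
    exact (hr a).mul (hr b).inv
  choose t htJ htp htt using ht
  refine ⟨∑ i, t i, Ideal.sum_mem _ fun i _ => htJ i, fun i => ?_⟩
  rw [map_sum, Finset.sum_eq_single i (fun j _ hj => Ideal.algebraMap_residueField_eq_zero.mpr (htp j i hj.symm))
    (fun h => absurd (Finset.mem_univ i) h)]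
  exact htt i

end Groth.Agent.S1484
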