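import Groth.Statements.S14840
import Groth.Agent.Lib.FixClosed.Basic
-- import your own Groth.Agent.* helpers here

set_option autoImplicit false
open CategoryTheory MonoidalCategory CartesianMonoidalCategory AlgebraicGeometry
universe u
open AlgGrp

namespace Groth.Agent.S14840

/-- Let G be a group scheme over a scheme S, affine over S and with structure sheaf locally free over
O_S (each point of S has an affine open neighbourhood U such that the sections of O_G over the
preimage of U form a free module over the sections of O_S over U), acting on an S-scheme Y which is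
separated over S. Then the subfunctor of G-fixed points of Y is a closed subfunctor: there are an
S-scheme Z and a closed immersion i : Z → Y over S such that a T-valued point y of Y factors through
i exactly when it is fixed, i.e. g · y = y for every S-scheme T' over T and every T'-valued point g
of G. -/
theorem result
    {S : Scheme.{u}} (G Y : Over S) [GrpObj G] (a : AlgGrp.Action G Y)
    [IsAffineHom G.hom] [IsSeparated Y.hom]
    (hfree : ∀ s : S, ∃ U : S.affineOpens, s ∈ (U : S.Opens) ∧
      @Module.Free Γ(S, U) Γ(G.left, G.hom ⁻¹ᵁ U) _ _ (G.hom.app U).hom.toAlgebra.toModule) :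
    ∃ (Z : Over S) (i : Z ⟶ Y), IsClosedImmersion i.left ∧
      ∀ (T : Over S) (y : T ⟶ Y),
        (∀ (T' : Over S) (t : T' ⟶ T) (g : T' ⟶ G), lift g (t ≫ y) ≫ a.act = t ≫ y) ↔
          ∃ z : T ⟶ Z, z ≫ i = y := by
  have hq : a.act.left ≫ Y.hom = (CartesianMonoidalCategory.snd G Y).left ≫ Y.hom :=
    (Over.w a.act).trans (Over.w (CartesianMonoidalCategory.snd G Y)).symm
  have hgood : ∀ y : Y.left, ∃ V : Y.left.Opens, y ∈ V ∧ GrothLib.FixClosed.Good G.hom Y.hom V := by
    intro y
    obtain ⟨U, hy, hU⟩ := hfree (Y.hom y)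
    exact ⟨Y.hom ⁻¹ᵁ U.1, hy, U, le_rfl, hU⟩
  obtain ⟨I, hI⟩ := GrothLib.FixClosed.exists_ideal_fx_iff (f := G.hom) (g := Y.hom)
    (q₁ := a.act.left) (q₂ := (CartesianMonoidalCategory.snd G Y).left) Y.hom hq hgood
  refine ⟨Over.mk (I.subschemeι ≫ Y.hom), Over.homMk I.subschemeι rfl, inferInstanceAs (IsClosedImmersion I.subschemeι), fun T y => ?_⟩
  have hfix : (∀ (T' : Over S) (t : T' ⟶ T) (g : T' ⟶ G), lift g (t ≫ y) ≫ a.act = t ≫ y) ↔
      (G ◁ y) ≫ a.act = (G ◁ y) ≫ CartesianMonoidalCategory.snd G Y := by
    constructor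
    · intro h
      rw [whiskerLeft_snd, ← h (G ⊗ T) (CartesianMonoidalCategory.snd G T) (fst G T)]
      congr 1
    · intro h T' t g
      have := congrArg (lift g t ≫ ·) h
      simpa using this
  have hfx : (G ◁ y) ≫ a.act = (G ◁ y) ≫ CartesianMonoidalCategory.snd G Y ↔
      GrothLib.FixClosed.Fx G.hom Y.hom a.act.left (CartesianMonoidalCategory.snd G Y).left y.left := by
    let k : Limits.pullback G.hom (y.left ≫ Y.hom) ⟶ Limits.pullback G.hom T.hom :=
      (Limits.pullback.congrHom rfl (Over.w y)).hom
    have hk : GrothLib.FixClosed.gm G.hom Y.hom y.left = k ≫ (G ◁ y).left := by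
      have e₁ : (G ◁ y).left ≫ Limits.pullback.fst G.hom Y.hom = Limits.pullback.fst G.hom T.hom :=
        congrArg CommaMorphism.left (whiskerLeft_fst G y)
      have e₂ : (G ◁ y).left ≫ Limits.pullback.snd G.hom Y.hom = Limits.pullback.snd G.hom T.hom ≫ y.left :=
        congrArg CommaMorphism.left (whiskerLeft_snd G y)
      apply Limits.pullback.hom_ext
      · rw [GrothLib.FixClosed.gm_fst]
        refine Eq.symm ((Category.assoc _ _ _).trans ((congrArg (k ≫ ·) e₁).trans ?_))
        simp [k, Limits.pullback.map, Limits.pullback.lift_fst]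
      · rw [GrothLib.FixClosed.gm_snd]
        refine Eq.symm ((Category.assoc _ _ _).trans ((congrArg (k ≫ ·) e₂).trans ?_))
        simp [k, Limits.pullback.map, Limits.pullback.lift_snd_assoc]
    unfold GrothLib.FixClosed.Fx
    rw [hk]
    constructor
    · intro h
      exact (Category.assoc _ _ _).trans ((congrArg (k ≫ ·) (congrArg CommaMorphism.left h)).trans
        (Category.assoc _ _ _).symm)
    · intro h
      apply Over.OverMorphism.ext
      exact (cancel_epi k).1 ((Category.assoc _ _ _).symm.trans (h.trans (Category.assoc _ _ _)))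
  rw [hfix, hfx, hI]
  constructor
  · intro h
    refine ⟨Over.homMk (IsClosedImmersion.lift I.subschemeι y.left (by rwa [Scheme.IdealSheafData.ker_subschemeι])) ?_,
      Over.OverMorphism.ext (IsClosedImmersion.lift_fac _ _ _)⟩
    change _ ≫ I.subschemeι ≫ Y.hom = T.hom
    rw [IsClosedImmersion.lift_fac_assoc, Over.w]
  · rintro ⟨z, rfl⟩
    calc I = I.subschemeι.ker := I.ker_subschemeι.symm
      _ ≤ _ := Scheme.Hom.le_ker_comp z.left I.subschemeι

end Groth.Agent.S14840
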