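import Groth.Statements.S14842
import Groth.Agent.Lib.Comod.Cosemi

set_option autoImplicit false
universe u v
open HopfRep

namespace Groth.Agent.S14842

open TensorProduct in
/-- Over a field K, every simple subcoalgebra D of a coalgebra C is the coefficient space of a simple
comodule. Precisely: there is a subspace E of C contained in D which is a simple subcomodule of the
regular right comodule C (E is nonzero, stable under the coaction, and its only subcomodules are 0
and E) and such that D is the least subspace D' of C with comul(E) inside the image of E ⊗ D'. Here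
a subcoalgebra of C is a subspace B whose comultiplication lands in the image of B ⊗ B, and a simple
subcoalgebra is a nonzero subcoalgebra D whose only subcoalgebras contained in D are 0 and D.
(Stated for right comodules; the published statement is for left comodules.) -/
theorem result {K : Type u} {C : Type v} [Field K]
    [AddCommGroup C] [Module K C] [Coalgebra K C]
    (D : Submodule K C) (hD0 : D ≠ ⊥) (hD : (∀ b ∈ D, CoalgebraStruct.comul (R := K) b ∈ LinearMap.range (TensorProduct.map D.subtype D.subtype)))
    (hDs : ∀ B : Submodule K C, B ≤ D → (∀ b ∈ B, CoalgebraStruct.comul (R := K) b ∈ LinearMap.range (TensorProduct.map B.subtype B.subtype)) → B = ⊥ ∨ B = D) :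
    ∃ E : Submodule K C, E ≤ D ∧ E ≠ ⊥ ∧ HopfRep.IsSubcomod (k := K) (A := C) E ∧
      (∀ E' : Submodule K C, E' ≤ E → HopfRep.IsSubcomod (k := K) (A := C) E' → E' = ⊥ ∨ E' = E) ∧
      IsLeast {D' : Submodule K C |
        ∀ e ∈ E, CoalgebraStruct.comul (R := K) e ∈ LinearMap.range (TensorProduct.map E.subtype D'.subtype)} D := by
  obtain ⟨E, hED, hE⟩ := GrothLib.Comodule.exists_simpleSub_le
    (GrothLib.Comodule.IsSubcoalg.isSubcomod hD) hD0
  refine ⟨E, hED, hE.2.1, hE.1, fun E' h1 h2 => hE.2.2 E' h2 h1, ?_, ?_⟩
  · intro e he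
    let _ := ComodSub.Comod.restr (HopfRep.Comod.regular K C) E hE.1
    obtain ⟨x, hx⟩ := GrothLib.Comodule.coact_mem_coeff (k := K) (C := C) (⟨e, he⟩ : E)
    have h := congrArg (E.subtype.rTensor C) hx
    rw [ComodSub.restr_coact_coe (HopfRep.Comod.regular K C) E hE.1 ⟨e, he⟩, ← LinearMap.comp_apply,
      LinearMap.rTensor_comp_lTensor] at h
    rw [GrothLib.Comodule.IsSimpleCoalg.eq_coeff ⟨hD0, hD, hDs⟩ hE.1 hE.2.1 hED]
    exact ⟨x, h⟩
  · intro D' hD'
    rw [GrothLib.Comodule.IsSimpleCoalg.eq_coeff ⟨hD0, hD, hDs⟩ hE.1 hE.2.1 hED]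
    let _ := ComodSub.Comod.restr (HopfRep.Comod.regular K C) E hE.1
    refine GrothLib.Comodule.coeff_le fun e => ?_
    obtain ⟨x, hx⟩ := hD' e e.2
    refine ⟨x, Module.Flat.rTensor_preserves_injective_linearMap E.subtype E.injective_subtype ?_⟩
    rw [ComodSub.restr_coact_coe (HopfRep.Comod.regular K C) E hE.1 e, ← LinearMap.comp_apply,
      LinearMap.rTensor_comp_lTensor]
    exact hx

end Groth.Agent.S14842
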