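import Groth.Statements.S14844
import Groth.Agent.Lib.Comod.Integral
import Mathlib.Algebra.DirectSum.Module
import Mathlib.Algebra.DirectSum.Decomposition

set_option autoImplicit false
universe u v w w'
open HopfRep

namespace Groth.Agent.S14844

open TensorProduct in
/-- Let R be a commutative ring and C an R-coalgebra, flat over R, which is the internal direct sum of
subcoalgebras D_i (submodules whose comultiplication lands in the image of D_i ⊗ D_i, independent
and with supremum C). Then every right C-comodule V is the internal direct sum of the subcomodules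
V_i, where V_i is the preimage under the coaction of the image of V ⊗ D_i in V ⊗ C, and the coaction
maps V_i into the image of V_i ⊗ D_i, so that the comodule structure of V_i reduces to a
D_i-comodule structure. (The published statement is for a flat sheaf of coalgebras over a base
scheme and left comodules on a scheme over it; this row is the case of an affine base with modules
of global sections, for right comodules.) -/
theorem result {R : Type u} {C : Type v} [CommRing R]
    [AddCommGroup C] [Module R C] [Coalgebra R C] [Module.Flat R C]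
    {ι : Type w} (D : ι → Submodule R C)
    (hD : ∀ i, ∀ d ∈ D i, CoalgebraStruct.comul (R := R) d ∈
      LinearMap.range (TensorProduct.map (D i).subtype (D i).subtype))
    (hind : iSupIndep D) (htop : iSup D = ⊤)
    {V : Type w'} [AddCommGroup V] [Module R V] [HopfRep.Comod R C V] :
    (∀ i, HopfRep.IsSubcomod (k := R) (A := C) ((LinearMap.range (LinearMap.lTensor V (D i).subtype)).comap
        (HopfRep.Comod.coact (k := R) (A := C) (V := V)))) ∧
    iSupIndep (fun i => ((LinearMap.range (LinearMap.lTensor V (D i).subtype)).comap
        (HopfRep.Comod.coact (k := R) (A := C) (V := V)))) ∧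
    (⨆ i, ((LinearMap.range (LinearMap.lTensor V (D i).subtype)).comap
        (HopfRep.Comod.coact (k := R) (A := C) (V := V)))) = ⊤ ∧
    ∀ i, ∀ v ∈ ((LinearMap.range (LinearMap.lTensor V (D i).subtype)).comap
        (HopfRep.Comod.coact (k := R) (A := C) (V := V))),
      HopfRep.Comod.coact (k := R) (A := C) v ∈
        LinearMap.range (TensorProduct.map ((LinearMap.range (LinearMap.lTensor V (D i).subtype)).comap
        (HopfRep.Comod.coact (k := R) (A := C) (V := V))).subtype (D i).subtype) := by
  classical
  have hint : DirectSum.IsInternal D :=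
    DirectSum.isInternal_submodule_of_iSupIndep_of_iSup_eq_top hind htop
  let _ := hint.chooseDecomposition
  let q : ι → C →ₗ[R] C := fun i => (D i).subtype ∘ₗ DirectSum.component R ι (fun i => D i) i ∘ₗ
    (DirectSum.decomposeLinearEquiv D).toLinearMap
  have hqm : ∀ i c, q i c ∈ D i := fun i c => Submodule.coe_mem _
  have hqs : ∀ i, ∀ c ∈ D i, q i c = c := fun i c hc =>
    DirectSum.decompose_of_mem_same D hc
  have hqo : ∀ i j, i ≠ j → ∀ c ∈ D j, q i c = 0 := fun i j h c hc =>
    DirectSum.decompose_of_mem_ne D hc (Ne.symm h)
  let f : ι → Module.Dual R C := fun i => Coalgebra.counit (R := R) ∘ₗ q i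
  have hfq : ∀ i c, TensorProduct.rid R C ((f i).lTensor C (Coalgebra.comul (R := R) c)) = q i c ∧
      TensorProduct.lid R C ((f i).rTensor C (Coalgebra.comul (R := R) c)) = q i c := by
    intro i c
    have hc : c ∈ ⨆ j, D j := htop ▸ trivial
    induction hc using Submodule.iSup_induction' with
    | mem j d hd =>
      obtain ⟨x, hx⟩ := hD j d hd
      have hl := Coalgebra.lTensor_counit_comul (R := R) d
      have hr := Coalgebra.rTensor_counit_comul (R := R) d
      change (Coalgebra.counit (R := R)).lTensor C (CoalgebraStruct.comul (R := R) d) = _ at hl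
      change (Coalgebra.counit (R := R)).rTensor C (CoalgebraStruct.comul (R := R) d) = _ at hr
      change TensorProduct.rid R C ((f i).lTensor C (CoalgebraStruct.comul (R := R) d)) = _ ∧
        TensorProduct.lid R C ((f i).rTensor C (CoalgebraStruct.comul (R := R) d)) = _
      rw [← hx] at hl hr ⊢
      by_cases hij : i = j
      · subst hij
        have hres : f i ∘ₗ (D i).subtype = Coalgebra.counit (R := R) ∘ₗ (D i).subtype :=
          LinearMap.ext fun y => congrArg (Coalgebra.counit (R := R)) (hqs i y y.2)
        rw [hqs i d hd]
        rw [LinearMap.lTensor_map] at hl ⊢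
        rw [LinearMap.rTensor_map] at hr ⊢
        rw [hres, hl, hr]
        simp
      · have hres : f i ∘ₗ (D j).subtype = 0 :=
          LinearMap.ext fun y => by simp [f, hqo i j hij y y.2]
        rw [hqo i j hij d hd]
        rw [LinearMap.lTensor_map, LinearMap.rTensor_map]
        simp only [hres, TensorProduct.map_zero_left, TensorProduct.map_zero_right,
          LinearMap.zero_apply, map_zero, and_self]
    | zero => simp
    | add a b _ _ ha hb => simp only [map_add, ha.1, ha.2, hb.1, hb.2, and_self]
  let ρ := HopfRep.Comod.coact (k := R) (A := C) (V := V)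
  let e : ι → V →ₗ[R] V := fun i => (TensorProduct.rid R V).toLinearMap ∘ₗ (f i).lTensor V ∘ₗ ρ
  have hρe : ∀ i v, ρ (e i v) = (q i).lTensor V (ρ v) := fun i v =>
    (GrothLib.Comodule.coact_op (f i) v).trans
      (congrArg (fun g => LinearMap.lTensor V g (ρ v)) (LinearMap.ext fun c => (hfq i c).1))
  have her : ∀ i v, (e i).rTensor C (ρ v) = (q i).lTensor V (ρ v) := fun i v => by
    have h := LinearMap.congr_fun (HopfRep.Comod.coassoc (k := R) (A := C) (V := V)) v
    simp only [LinearMap.comp_apply, LinearEquiv.coe_coe] at h
    have h1 : ∀ x : V ⊗[R] C, (e i).rTensor C x =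
        ((TensorProduct.lid R C).toLinearMap ∘ₗ (f i).rTensor C).lTensor V
          (TensorProduct.assoc R V C C (ρ.rTensor C x)) := fun x => by
      induction x using TensorProduct.induction_on with
      | zero => simp
      | tmul p c =>
        rw [LinearMap.rTensor_tmul, LinearMap.rTensor_tmul]
        change (TensorProduct.rid R V ((f i).lTensor V (ρ p))) ⊗ₜ[R] c = _
        induction ρ p using TensorProduct.induction_on with
        | zero => simp
        | tmul a b => simp [TensorProduct.smul_tmul]
        | add a b ha hb => simp only [TensorProduct.add_tmul, map_add, ha, hb]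
      | add a b ha hb => simp only [map_add, ha, hb]
    rw [h1, h, ← LinearMap.comp_apply, ← LinearMap.lTensor_comp]
    exact congrArg (fun g => LinearMap.lTensor V g (ρ v)) (LinearMap.ext fun c => (hfq i c).2)
  let V' : ι → Submodule R V := fun i => (LinearMap.range (LinearMap.lTensor V (D i).subtype)).comap ρ
  have hcod : ∀ i, q i = (D i).subtype ∘ₗ (q i).codRestrict (D i) (hqm i) := fun i => rfl
  have hmem : ∀ i v, e i v ∈ V' i := fun i v => by
    rw [Submodule.mem_comap, hρe, hcod i, LinearMap.lTensor_comp]
    exact ⟨_, rfl⟩
  have hinj : Function.Injective ρ := GrothLib.Comodule.coact_injective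
  have hfix : ∀ i, ∀ v ∈ V' i, e i v = v := fun i v hv => by
    obtain ⟨x, hx⟩ := hv
    refine hinj ?_
    rw [hρe, ← hx, ← LinearMap.comp_apply, ← LinearMap.lTensor_comp]
    exact congrArg (fun g => LinearMap.lTensor V g x) (LinearMap.ext fun y => hqs i y y.2)
  have horth : ∀ i j, i ≠ j → ∀ v ∈ V' j, e i v = 0 := fun i j h v hv => by
    obtain ⟨x, hx⟩ := hv
    refine hinj ?_
    rw [hρe, ← hx, ← LinearMap.comp_apply, ← LinearMap.lTensor_comp,
      show q i ∘ₗ (D j).subtype = 0 from LinearMap.ext fun y => hqo i j h y y.2]
    simp
  have hland : ∀ i, ∀ v ∈ V' i,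
      ρ v ∈ LinearMap.range (TensorProduct.map (V' i).subtype (D i).subtype) := fun i v hv => by
    refine ⟨TensorProduct.map ((e i).codRestrict (V' i) (hmem i)) ((q i).codRestrict (D i) (hqm i)) (ρ v), ?_⟩
    rw [← LinearMap.comp_apply, ← TensorProduct.map_comp]
    change TensorProduct.map (e i) (q i) (ρ v) = ρ v
    rw [← LinearMap.lTensor_comp_rTensor, LinearMap.comp_apply, her, ← hρe, hfix i v hv, ← hρe,
      hfix i v hv]
  refine ⟨fun i v hv => ?_, fun i => ?_, ?_, hland⟩
  · obtain ⟨x, hx⟩ := hland i v hv
    rw [← LinearMap.rTensor_comp_lTensor] at hx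
    exact ⟨_, hx⟩
  · rw [disjoint_iff, eq_bot_iff]
    rintro v ⟨hv, hv'⟩
    have h0 : e i v = 0 := by
      clear hv
      induction hv' using Submodule.iSup_induction' with
      | mem j x hx =>
        induction hx using Submodule.iSup_induction' with
        | mem hj y hy => exact horth i j (Ne.symm hj) y hy
        | zero => simp
        | add a b _ _ ha hb => rw [map_add, ha, hb, add_zero]
      | zero => simp
      | add a b _ _ ha hb => rw [map_add, ha, hb, add_zero]
    exact (hfix i v hv).symm.trans h0
  · rw [eq_top_iff]
    intro v _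
    obtain ⟨F, hF⟩ : ∃ F : Finset ι, ∀ G, F ⊆ G → ∑ i ∈ G, (q i).lTensor V (ρ v) = ρ v := by
      induction ρ v using TensorProduct.induction_on with
      | zero => exact ⟨∅, fun G _ => by simp⟩
      | tmul a c =>
        refine ⟨(DirectSum.decompose D c).support, fun G hG => ?_⟩
        simp only [LinearMap.lTensor_tmul, ← TensorProduct.tmul_sum]
        refine congrArg (a ⊗ₜ[R] ·) ?_
        refine (Finset.sum_subset hG fun i _ hi => ?_).symm.trans (DirectSum.sum_support_decompose D c)
        change ((DirectSum.decompose D c i : D i) : C) = 0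
        rw [DFinsupp.notMem_support_iff.1 hi, ZeroMemClass.coe_zero]
      | add a b ha hb =>
        obtain ⟨F, hF⟩ := ha
        obtain ⟨F', hF'⟩ := hb
        refine ⟨F ∪ F', fun G hG => ?_⟩
        simp only [map_add, Finset.sum_add_distrib, hF G (Finset.subset_union_left.trans hG),
          hF' G (Finset.subset_union_right.trans hG)]
    have hv : ∑ i ∈ F, e i v = v := hinj (by
      rw [map_sum]
      simp only [hρe]
      exact hF F subset_rfl)
    rw [← hv]
    exact Submodule.sum_mem _ fun i _ => Submodule.mem_iSup_of_mem i (hmem i v)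

end Groth.Agent.S14844
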