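import Groth.Statements.S14846
import Mathlib.FieldTheory.Galois.Infinite
import Mathlib.RingTheory.TwoSidedIdeal.Lattice
import Mathlib.RingTheory.TwoSidedIdeal.Operations
import Mathlib.LinearAlgebra.TensorProduct.Basis
import Mathlib.RingTheory.TensorProduct.Free

set_option autoImplicit false
universe u v w
open Brauer

namespace Groth.Agent.S14846

open TensorProduct in
/-- Let L/K be a Galois extension with group Γ = Aut_K(L), and A a K-algebra which is a simple ring. If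
L ⊗_K A is semisimple, then Γ, acting on L ⊗_K A through the first tensor factor, permutes its
simple components, i.e. its minimal nonzero two-sided ideals, transitively: any minimal two-sided
ideal is carried onto any other by some γ ⊗ id. -/
theorem result
    {K : Type u} {L : Type v} [Field K] [Field L] [Algebra K L] [IsGalois K L]
    {A : Type w} [Ring A] [Algebra K A] [IsSimpleRing A]
    [IsSemisimpleRing (L ⊗[K] A)]
    (I J : TwoSidedIdeal (L ⊗[K] A)) (hI : IsAtom I) (hJ : IsAtom J) :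
    ∃ γ : L ≃ₐ[K] L, (J : Set (L ⊗[K] A)) =
      Algebra.TensorProduct.map (γ : L →ₐ[K] L) (AlgHom.id K A) '' (I : Set (L ⊗[K] A)) := by
  classical
  let Φ : (L ≃ₐ[K] L) → (L ⊗[K] A →ₐ[K] L ⊗[K] A) :=
    fun γ => Algebra.TensorProduct.map (γ : L →ₐ[K] L) (AlgHom.id K A)
  have hΦ : ∀ γ δ x, Φ γ (Φ δ x) = Φ (δ.trans γ) x := fun γ δ x => by
    induction x using TensorProduct.induction_on with
    | zero => simp
    | add p q hp hq => simp only [map_add, hp, hq]
    | tmul l a => simp [Φ]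
  have hΦ1 : ∀ x, Φ AlgEquiv.refl x = x := fun x => by
    induction x using TensorProduct.induction_on with
    | zero => simp
    | add p q hp hq => simp only [map_add, hp, hq]
    | tmul l a => simp [Φ]
  have hΦs : ∀ γ x, Φ γ.symm (Φ γ x) = x := fun γ x => by rw [hΦ, AlgEquiv.self_trans_symm, hΦ1]
  have hΦs' : ∀ γ x, Φ γ (Φ γ.symm x) = x := fun γ x => by rw [hΦ, AlgEquiv.symm_trans_self, hΦ1]
  let Iγ : (L ≃ₐ[K] L) → TwoSidedIdeal (L ⊗[K] A) := fun γ => TwoSidedIdeal.comap (Φ γ.symm) I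
  have hI' : ∀ γ x, x ∈ Iγ γ ↔ Φ γ.symm x ∈ I := fun γ x => TwoSidedIdeal.mem_comap (Φ γ.symm)
  let S : TwoSidedIdeal (L ⊗[K] A) := ⨆ γ, Iγ γ
  have hS : ∀ γ x, x ∈ S → Φ γ x ∈ S := by
    intro γ x hx
    have hle : S ≤ TwoSidedIdeal.comap (Φ γ) S := iSup_le fun δ y hy => by
      rw [TwoSidedIdeal.mem_comap]
      refine le_iSup Iγ (δ.trans γ) ((hI' _ _).2 ?_)
      have : Φ (δ.trans γ).symm (Φ γ y) = Φ δ.symm y := by
        rw [hΦ, show γ.trans (δ.trans γ).symm = δ.symm from AlgEquiv.ext fun l => by simp]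
      rw [this]; exact (hI' _ _).1 hy
    exact (TwoSidedIdeal.mem_comap (Φ γ)).1 (hle hx)
  let b := Module.Free.chooseBasis K A
  let B := Algebra.TensorProduct.basis L b
  have hrepr : ∀ γ x i, B.repr (Φ γ x) i = γ (B.repr x i) := fun γ x i => by
    induction x using TensorProduct.induction_on with
    | zero => simp
    | add p q hp hq => simp only [map_add, Finsupp.add_apply, hp, hq]
    | tmul l a => simp [Φ, B, map_mul, AlgEquiv.commutes, Algebra.smul_def]
  have hsmul : ∀ (l : L) x, x ∈ S → l • x ∈ S := fun l x hx => by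
    rw [Algebra.smul_def]; exact S.mul_mem_left _ _ hx
  have hex : ∃ a : A, a ≠ 0 ∧ (1 : L) ⊗ₜ[K] a ∈ S := by
    have hnb : ∃ x ∈ S, x ≠ 0 := by
      by_contra h
      push Not at h
      refine hI.1 (le_bot_iff.1 fun y hy => (TwoSidedIdeal.mem_bot _).2 (h y ?_))
      exact le_iSup Iγ AlgEquiv.refl ((hI' _ _).2 (by rwa [AlgEquiv.refl_symm, hΦ1]))
    obtain ⟨x₀, hx₀, hx₀'⟩ := hnb
    obtain ⟨x, ⟨hxS, hx0⟩, hmin⟩ := exists_minimalFor_of_wellFoundedLT
      (fun x => x ∈ S ∧ x ≠ 0) (fun x => (B.repr x).support.card) ⟨x₀, hx₀, hx₀'⟩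
    obtain ⟨i, hi⟩ := Finsupp.support_nonempty_iff.2 (fun h => hx0 (B.repr.map_eq_zero_iff.1 h))
    rw [Finsupp.mem_support_iff] at hi
    set y := (B.repr x i)⁻¹ • x with hy
    have hyS : y ∈ S := hsmul _ _ hxS
    have hyi : B.repr y i = 1 := by simp [hy, hi]
    have hfix : ∀ γ, Φ γ y = y := by
      intro γ
      by_contra hne
      have hz : Φ γ y - y ∈ S ∧ Φ γ y - y ≠ 0 := ⟨S.sub_mem (hS _ _ hyS) hyS, sub_ne_zero.2 hne⟩
      have hlt : (B.repr (Φ γ y - y)).support.card < (B.repr x).support.card := by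
        refine Finset.card_lt_card ⟨fun j hj => ?_, fun hsub => ?_⟩
        · rw [Finsupp.mem_support_iff] at hj ⊢
          intro h0
          apply hj
          simp [hrepr, hy, h0]
        · have := hsub (Finsupp.mem_support_iff.2 hi)
          rw [Finsupp.mem_support_iff, map_sub, Finsupp.sub_apply, hrepr, hyi, map_one, sub_self] at this
          exact this rfl
      exact absurd (hmin hz hlt.le) (not_le.2 hlt)
    have hK : ∀ j, B.repr y j ∈ Set.range (algebraMap K L) := fun j =>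
      IntermediateField.mem_bot.1 ((InfiniteGalois.fixedField_bot (K := L) (k := K)) ▸
        (fun γ => by show (γ : L ≃ₐ[K] L) _ = _; rw [← hrepr, hfix] : B.repr y j ∈ IntermediateField.fixedField (⊤ : Subgroup (L ≃ₐ[K] L))))
    choose c hc using hK
    have hy1 : y = (1 : L) ⊗ₜ[K] ∑ j ∈ (B.repr y).support, c j • b j := by
      conv_lhs => rw [← B.linearCombination_repr y, Finsupp.linearCombination_apply, Finsupp.sum]
      rw [TensorProduct.tmul_sum]
      exact Finset.sum_congr rfl fun j _ => by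
        rw [Algebra.TensorProduct.basis_apply, TensorProduct.tmul_smul, ← hc j, algebraMap_smul]
    refine ⟨∑ j ∈ (B.repr y).support, c j • b j, fun h => ?_, hy1 ▸ hyS⟩
    rw [h, TensorProduct.tmul_zero] at hy1
    rw [hy1, map_zero, Finsupp.zero_apply] at hyi
    exact zero_ne_one hyi
  have hone : (1 : L ⊗[K] A) ∈ S := by
    obtain ⟨a, ha, haS⟩ := hex
    let T : TwoSidedIdeal A := TwoSidedIdeal.comap (Algebra.TensorProduct.includeRight : A →ₐ[K] L ⊗[K] A) S
    have hT : ∀ x, x ∈ T ↔ (1 : L) ⊗ₜ[K] x ∈ S := fun x => TwoSidedIdeal.mem_comap _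
    rcases IsSimpleOrder.eq_bot_or_eq_top T with h | h
    · exact absurd ((TwoSidedIdeal.mem_bot _).1 (h ▸ (hT a).2 haS)) ha
    · exact Algebra.TensorProduct.one_def (R := K) (A := L) (B := A) ▸ (hT 1).1 (h ▸ trivial)
  obtain ⟨γ, hγ⟩ : ∃ γ, J ⊓ Iγ γ ≠ ⊥ := by
    by_contra h
    push Not at h
    let N : TwoSidedIdeal (L ⊗[K] A) := TwoSidedIdeal.mk' {x | ∀ j ∈ J, j * x = 0}
      (fun j _ => mul_zero j) (fun hx hy j hj => by rw [mul_add, hx j hj, hy j hj, add_zero])
      (fun hx j hj => by rw [mul_neg, hx j hj, neg_zero])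
      (fun {a x} hx j hj => by rw [← mul_assoc]; exact hx _ (J.mul_mem_right _ _ hj))
      (fun {a x} ha j hj => by rw [← mul_assoc, ha j hj, zero_mul])
    have hN : ∀ x, x ∈ N ↔ ∀ j ∈ J, j * x = 0 := fun x => by
      simp only [N, TwoSidedIdeal.mem_mk']; rfl
    have hSN : S ≤ N := iSup_le fun γ x hx => (hN x).2 fun j hj => (TwoSidedIdeal.mem_bot _).1
      (h γ ▸ ⟨J.mul_mem_right _ _ hj, (Iγ γ).mul_mem_left _ _ hx⟩)
    refine hJ.1 (le_bot_iff.1 fun j hj => (TwoSidedIdeal.mem_bot _).2 ?_)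
    simpa using (hN 1).1 (hSN hone) j hj
  have hJle : J ≤ Iγ γ := (hJ.le_iff.1 inf_le_left).resolve_left hγ ▸ inf_le_right
  refine ⟨γ, ?_⟩
  have hcomap : TwoSidedIdeal.comap (Φ γ) J = I := by
    refine (hI.le_iff.1 fun x hx => ?_).resolve_left fun h => hJ.1 (le_bot_iff.1 fun j hj => ?_)
    · have := (hI' _ _).1 (hJle ((TwoSidedIdeal.mem_comap (Φ γ)).1 hx))
      rwa [hΦs] at this
    · have : Φ γ.symm j ∈ TwoSidedIdeal.comap (Φ γ) J := (TwoSidedIdeal.mem_comap (Φ γ)).2 (by rwa [hΦs'])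
      rw [h, TwoSidedIdeal.mem_bot] at this
      rw [TwoSidedIdeal.mem_bot, ← hΦs' γ j, this, map_zero]
  ext x
  constructor
  · intro hx
    exact ⟨Φ γ.symm x, hcomap ▸ (TwoSidedIdeal.mem_comap (Φ γ)).2 (by rwa [hΦs']), hΦs' γ x⟩
  · rintro ⟨y, hy, rfl⟩
    rw [SetLike.mem_coe, ← hcomap] at hy
    exact (TwoSidedIdeal.mem_comap (Φ γ)).1 hy

end Groth.Agent.S14846
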