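import Groth.Statements.S14848
import Mathlib

set_option autoImplicit false
universe u v
open McKay

namespace Groth.Agent.S14848

/-- Let K be a field of characteristic zero, L an extension field of K and ξ ∈ L a primitive n-th root
of unity (n ≥ 1) with ξ + ξ⁻¹ ∈ K, say ξ + ξ⁻¹ = 2c with c ∈ K (the character of the natural
two-dimensional representation of the cyclic group of order n takes values in K). Then the cyclic
group of order n is realisable over K as a subgroup of SL(2, K): there is an element of SL(2, K) of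
order n. -/
theorem result {K : Type u} {L : Type v} [Field K] [Field L]
    [CharZero K] [Algebra K L] (n : ℕ) (hn : 1 ≤ n) (ξ : L) (hξ : IsPrimitiveRoot ξ n) (c : K)
    (hc : algebraMap K L (2 * c) = ξ + ξ⁻¹) :
    ∃ M : Matrix.SpecialLinearGroup (Fin 2) K, orderOf M = n := by
  rcases Nat.lt_or_ge n 3 with hn3 | hn3
  · interval_cases n
    · exact ⟨1, orderOf_one⟩
    · refine ⟨-1, orderOf_eq_prime (by rw [neg_one_sq]) fun h => ?_⟩
      have := congrArg (fun M : Matrix.SpecialLinearGroup (Fin 2) K => (M : Matrix (Fin 2) (Fin 2) K) 0 0) h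
      simp at this
      exact two_ne_zero (show (2 : K) = 0 by linear_combination -this)
  have hξ0 : ξ ≠ 0 := hξ.ne_zero (by omega)
  have hdet : (!![2 * c, -1; 1, 0] : Matrix (Fin 2) (Fin 2) K).det = 1 := by
    rw [Matrix.det_fin_two_of]; ring
  let M : Matrix.SpecialLinearGroup (Fin 2) K := ⟨_, hdet⟩
  let ψ : Matrix (Fin 2) (Fin 2) K →+* Matrix (Fin 2) (Fin 2) L := (algebraMap K L).mapMatrix
  set A := ψ (!![2 * c, -1; 1, 0]) with hA
  have hAv : ∀ z : L, z ^ 2 + 1 = algebraMap K L (2 * c) * z → A.mulVec ![z, 1] = z • ![z, 1] := by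
    intro z hz
    funext i
    fin_cases i <;> simp [A, ψ, Matrix.mulVec, dotProduct, Fin.sum_univ_two, map_ofNat]
    simp [map_mul, map_ofNat] at hz
    linear_combination -hz
  have hz1 : ξ ^ 2 + 1 = algebraMap K L (2 * c) * ξ := by
    rw [hc, add_mul, inv_mul_cancel₀ hξ0]; ring
  have hz2 : ξ⁻¹ ^ 2 + 1 = algebraMap K L (2 * c) * ξ⁻¹ := by
    rw [hc, add_mul, mul_inv_cancel₀ hξ0]; ring
  have hpow : ∀ (z : L) (k : ℕ), A.mulVec ![z, 1] = z • ![z, 1] →
      (A ^ k).mulVec ![z, 1] = z ^ k • ![z, 1] := by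
    intro z k hz
    induction k with
    | zero => simp
    | succ k ih => rw [pow_succ, ← Matrix.mulVec_mulVec, hz, Matrix.mulVec_smul, ih, smul_smul, pow_succ']
  refine ⟨M, (orderOf_eq_iff (by omega)).2 ⟨?_, fun m hm hm0 h => ?_⟩⟩
  · have hne : ξ - ξ⁻¹ ≠ 0 := by
      intro h
      refine hξ.pow_ne_one_of_pos_of_lt (l := 2) two_ne_zero (by omega) ?_
      rw [sub_eq_zero] at h
      rw [sq]; nth_rewrite 2 [h]; exact mul_inv_cancel₀ hξ0
    have hAn : A ^ n = 1 := by
      have h1 := hpow ξ n (hAv ξ hz1)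
      have h2 := hpow ξ⁻¹ n (hAv ξ⁻¹ hz2)
      rw [hξ.pow_eq_one, one_smul] at h1
      rw [inv_pow, hξ.pow_eq_one, inv_one, one_smul] at h2
      refine Matrix.ext fun i j => ?_
      have a := congrFun h1 i
      have b := congrFun h2 i
      simp [Matrix.mulVec, dotProduct, Fin.sum_univ_two] at a b
      fin_cases i <;> fin_cases j <;> simp at a b ⊢
      · exact mul_right_cancel₀ hne (by linear_combination a - b)
      · have : (A ^ n) 0 0 = 1 := mul_right_cancel₀ hne (by linear_combination a - b)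
        linear_combination a - ξ * this
      · exact (mul_eq_zero.1 (by linear_combination a - b : (A ^ n) 1 0 * (ξ - ξ⁻¹) = 0)).resolve_right hne
      · have : (A ^ n) 1 0 = 0 :=
          (mul_eq_zero.1 (by linear_combination a - b : (A ^ n) 1 0 * (ξ - ξ⁻¹) = 0)).resolve_right hne
        linear_combination a - ξ * this
    apply Subtype.ext
    show ((M ^ n : Matrix.SpecialLinearGroup (Fin 2) K) : Matrix (Fin 2) (Fin 2) K) = (1 : Matrix.SpecialLinearGroup (Fin 2) K)
    rw [Matrix.SpecialLinearGroup.coe_pow, Matrix.SpecialLinearGroup.coe_one]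
    refine Matrix.map_injective (algebraMap K L).injective ?_
    show ψ (_ ^ n) = ψ 1
    rw [map_pow, map_one]
    exact hAn
  · have hAm : A ^ m = 1 := by
      have := congrArg (fun X : Matrix.SpecialLinearGroup (Fin 2) K => ψ (X : Matrix (Fin 2) (Fin 2) K)) h
      simpa [Matrix.SpecialLinearGroup.coe_pow, map_pow, M, A] using this
    have h1 := congrFun (hpow ξ m (hAv ξ hz1)) 1
    rw [hAm, Matrix.one_mulVec] at h1
    simp at h1
    exact hξ.pow_ne_one_of_pos_of_lt hm0.ne' hm h1.symm

end Groth.Agent.S14848
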