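import Groth.Statements.S14849
import Mathlib.GroupTheory.SpecificGroups.Quaternion
import Mathlib.Tactic.LinearCombination
import Mathlib.Tactic.FieldSimp
import Mathlib.Tactic.Group
import Mathlib.LinearAlgebra.Matrix.SpecialLinearGroup

set_option autoImplicit false
universe u v
open McKay

namespace Groth.Agent.S14849

open Matrix QuaternionGroup

/-- the map out of the quaternion group determined by two elements with the defining relations -/
lemma exists_hom {M : Type*} [Group M] (n : ℕ) [NeZero n] (S T : M) (hS : orderOf S = 2 * n)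
    (hTS : S * T = T * S⁻¹) (hT : T * T = S ^ n) :
    ∃ f : QuaternionGroup n →* M, (∀ i, f (a i) = S ^ i.val) ∧ ∀ i, f (xa i) = T * S ^ i.val := by
  have : NeZero (2 * n) := ⟨by have := NeZero.ne n; omega⟩
  have hadd : ∀ i j : ZMod (2 * n), S ^ (i + j).val = S ^ i.val * S ^ j.val := fun i j => by
    rw [← pow_add, pow_eq_pow_iff_modEq, hS, ZMod.val_add]
    exact Nat.mod_modEq _ _
  have hneg : ∀ i : ZMod (2 * n), S ^ (-i).val = (S ^ i.val)⁻¹ := fun i => by
    rw [eq_inv_iff_mul_eq_one, ← hadd, neg_add_cancel, ZMod.val_zero, pow_zero]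
  have hpow : ∀ k : ℕ, S ^ k * T = T * (S ^ k)⁻¹ := by
    intro k
    induction k with
    | zero => simp
    | succ k ih =>
      rw [pow_succ, mul_assoc, hTS, ← mul_assoc, ih, mul_assoc, ← mul_inv_rev, ← pow_succ, ← pow_succ']
  have hn : ((n : ℕ) : ZMod (2 * n)).val = n := by
    rw [ZMod.val_natCast, Nat.mod_eq_of_lt]
    have := NeZero.ne n
    omega
  refine ⟨MonoidHom.mk' (fun q => match q with
    | a i => S ^ i.val
    | xa i => T * S ^ i.val) ?_, fun i => rfl, fun i => rfl⟩
  rintro (i | i) (j | j)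
  · exact hadd i j
  · change T * S ^ (j - i).val = S ^ i.val * (T * S ^ j.val)
    rw [sub_eq_neg_add, hadd, hneg, ← mul_assoc (S ^ i.val), hpow, mul_assoc]
  · change T * S ^ (i + j).val = T * S ^ i.val * S ^ j.val
    rw [hadd, mul_assoc]
  · change S ^ ((n : ZMod (2 * n)) + j - i).val = T * S ^ i.val * (T * S ^ j.val)
    rw [add_sub_assoc, hadd, hn, sub_eq_neg_add, hadd, hneg,
      show T * S ^ i.val * (T * S ^ j.val) = T * (S ^ i.val * T) * S ^ j.val by simp only [mul_assoc],
      hpow, ← mul_assoc, ← mul_assoc, hT]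

/-- Let K be a field of characteristic zero, L an extension field of K, n ≥ 2, and ξ ∈ L a primitive
2n-th root of unity with ξ + ξ⁻¹ = 2c for some c ∈ K. If the Hilbert symbol of -1 and c² - 1 over K
equals 1, i.e. x² - (c² - 1) y² = -1 has a solution in K, then the binary dihedral group of order 4n
(generators σ, τ with τ² = σⁿ = (τσ)²) is isomorphic to a subgroup of SL(2, K). (The published
statement is an equivalence; this row is the direction realising the group from a solution of the
conic.) -/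
theorem result {K : Type u} {L : Type v}
    [Field K] [Field L] [CharZero K] [Algebra K L] (n : ℕ) (hn : 2 ≤ n) (ξ : L)
    (hξ : IsPrimitiveRoot ξ (2 * n)) (c : K) (hc : algebraMap K L (2 * c) = ξ + ξ⁻¹)
    (hsol : ∃ x y : K, x ^ 2 - (c ^ 2 - 1) * y ^ 2 = -1) :
    ∃ f : QuaternionGroup n →* Matrix.SpecialLinearGroup (Fin 2) K, Function.Injective f := by
  classical
  have : NeZero n := ⟨by omega⟩
  obtain ⟨x, y, hxy⟩ := hsol
  set d := c ^ 2 - 1 with hd
  let S : Matrix.SpecialLinearGroup (Fin 2) K :=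
    ⟨!![c, d; 1, c], by rw [Matrix.det_fin_two_of, hd]; ring⟩
  let T : Matrix.SpecialLinearGroup (Fin 2) K :=
    ⟨!![x, -d * y; y, -x], by rw [Matrix.det_fin_two_of]; linear_combination -hxy⟩
  let φ := algebraMap K L
  have hξ0 : ξ ≠ 0 := hξ.ne_zero (by omega)
  have hmul : ∀ η : L, η = ξ ∨ η = ξ⁻¹ → η * η - 2 * φ c * η + 1 = 0 := by
    intro η hη
    have h2 : 2 * φ c = ξ + ξ⁻¹ := by rw [← hc, map_mul, map_ofNat]
    rw [h2]
    rcases hη with rfl | rfl <;> field_simp <;> ring
  -- eigenvectors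
  have heig : ∀ η : L, η = ξ ∨ η = ξ⁻¹ → ∀ k : ℕ,
      φ ((S ^ k : SpecialLinearGroup (Fin 2) K).1 0 0) +
        (η - φ c) * φ ((S ^ k : SpecialLinearGroup (Fin 2) K).1 1 0) = η ^ k ∧
      φ ((S ^ k : SpecialLinearGroup (Fin 2) K).1 0 1) +
        (η - φ c) * φ ((S ^ k : SpecialLinearGroup (Fin 2) K).1 1 1) = η ^ k * (η - φ c) := by
    intro η hη k
    have he := hmul η hη
    induction k with
    | zero => simp [Matrix.one_apply]
    | succ k ih =>
      have e : (S ^ (k + 1) : SpecialLinearGroup (Fin 2) K).1 =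
          (S ^ k : SpecialLinearGroup (Fin 2) K).1 * !![c, d; 1, c] := by rw [pow_succ]; rfl
      simp only [e, Matrix.mul_apply, Fin.sum_univ_two, Matrix.of_apply, Matrix.cons_val_zero,
        Matrix.cons_val_one, Matrix.cons_val', Matrix.empty_val', Matrix.cons_val_fin_one, map_add,
        map_mul, map_one, hd, map_sub, map_pow]
      constructor
      · linear_combination φ c * ih.1 + ih.2
      · linear_combination (φ c ^ 2 - 1) * ih.1 + φ c * ih.2 - η ^ k * he
  have hne : ξ ≠ ξ⁻¹ := fun h => by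
    have h2 : ξ ^ 2 = 1 := by
      rw [pow_two]
      nth_rewrite 2 [h]
      exact mul_inv_cancel₀ hξ0
    have := Nat.le_of_dvd (by norm_num) (hξ.dvd_of_pow_eq_one 2 h2)
    omega
  -- a power of `S` is determined by its action on eigenvectors
  have hdet : ∀ (k : ℕ) (e : K), ξ ^ k = φ e → ξ⁻¹ ^ k = φ e →
      (S ^ k : SpecialLinearGroup (Fin 2) K).1 = !![e, 0; 0, e] := by
    intro k e h1 h2
    obtain ⟨a1, b1⟩ := heig ξ (Or.inl rfl) k
    obtain ⟨a2, b2⟩ := heig ξ⁻¹ (Or.inr rfl) k
    rw [h1] at a1 b1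
    rw [h2] at a2 b2
    have hsub : ξ - ξ⁻¹ ≠ 0 := sub_ne_zero.2 hne
    have e10 : φ ((S ^ k : SpecialLinearGroup (Fin 2) K).1 1 0) = 0 :=
      (mul_eq_zero.1 (show (ξ - ξ⁻¹) * φ ((S ^ k : SpecialLinearGroup (Fin 2) K).1 1 0) = 0 by
        linear_combination a1 - a2)).resolve_left hsub
    have e11 : φ ((S ^ k : SpecialLinearGroup (Fin 2) K).1 1 1) = φ e := sub_eq_zero.1
      ((mul_eq_zero.1 (show (ξ - ξ⁻¹) * (φ ((S ^ k : SpecialLinearGroup (Fin 2) K).1 1 1) - φ e) = 0 by
        linear_combination b1 - b2)).resolve_left hsub)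
    rw [e10, mul_zero, add_zero] at a1
    rw [e11] at b1
    have e01 : φ ((S ^ k : SpecialLinearGroup (Fin 2) K).1 0 1) = 0 := by linear_combination b1
    rw [map_eq_zero] at e10 e01
    ext i j
    fin_cases i <;> fin_cases j
    · exact φ.injective a1
    · exact e01
    · exact e10
    · exact φ.injective e11
  have hξn : ξ ^ n = -1 := by
    have h2 := (hξ.pow (by omega) (mul_comm 2 n)).eq_neg_one_of_two_right
    exact h2
  have hone : ∀ k, 2 * n ∣ k → S ^ k = 1 := by
    intro k hk
    refine Subtype.ext ?_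
    rw [hdet k 1 (by rw [map_one, hξ.pow_eq_one_iff_dvd k]; exact hk)
      (by rw [inv_pow, (hξ.pow_eq_one_iff_dvd k).2 hk, inv_one, map_one])]
    ext i j; fin_cases i <;> fin_cases j <;> rfl
  have hord : orderOf S = 2 * n := by
    refine Nat.dvd_antisymm (orderOf_dvd_of_pow_eq_one (hone _ dvd_rfl)) (hξ.dvd_of_pow_eq_one _ ?_)
    have h := (heig ξ (Or.inl rfl) (orderOf S)).1
    rw [pow_orderOf_eq_one] at h
    simpa using h.symm
  have hSn : (S ^ n : SpecialLinearGroup (Fin 2) K).1 = !![-1, 0; 0, -1] :=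
    hdet n (-1) (by rw [hξn, map_neg, map_one])
      (by rw [inv_pow, hξn, map_neg, map_one, inv_neg, inv_one])
  have hST : S * T = T * S⁻¹ := by
    rw [eq_mul_inv_iff_mul_eq]
    refine Subtype.ext ?_
    show !![c, d; 1, c] * !![x, -d * y; y, -x] * !![c, d; 1, c] = !![x, -d * y; y, -x]
    ext i j
    fin_cases i <;> fin_cases j <;> simp [Matrix.mul_apply, Fin.sum_univ_two, hd] <;> ring
  have hTT : T * T = S ^ n := by
    refine Subtype.ext ?_
    rw [hSn]
    show !![x, -d * y; y, -x] * !![x, -d * y; y, -x] = _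
    ext i j
    fin_cases i <;> fin_cases j <;> simp [Matrix.mul_apply, Fin.sum_univ_two] <;>
      first | linear_combination hxy | ring
  obtain ⟨f, hfa, hfxa⟩ := exists_hom n S T hord hST hTT
  refine ⟨f, (injective_iff_map_eq_one f).2 ?_⟩
  have : NeZero (2 * n) := ⟨by omega⟩
  rintro (i | i) h
  · rw [hfa] at h
    have := orderOf_dvd_of_pow_eq_one h
    rw [hord] at this
    have h0 := Nat.eq_zero_of_dvd_of_lt this (ZMod.val_lt i)
    rw [(ZMod.val_eq_zero i).1 h0]
    rfl
  · exfalso
    rw [hfxa] at h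
    have hcomm : S * T = T * S := by
      rw [eq_inv_of_mul_eq_one_left h]
      exact ((Commute.refl S).pow_right i.val).inv_right.eq
    rw [hST] at hcomm
    have h2 : S ^ 2 = 1 := by
      have := mul_left_cancel hcomm
      rw [pow_two]
      nth_rewrite 1 [← this]
      rw [inv_mul_cancel]
    have := Nat.le_of_dvd (by norm_num) (hord ▸ orderOf_dvd_of_pow_eq_one h2)
    omega

end Groth.Agent.S14849
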