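import Groth.Statements.S1485
import Groth.Agent.Lib.H1Fib29.Global

set_option autoImplicit false
universe u
open FlatMor

namespace Groth.Agent.S1485

open AlgebraicGeometry CategoryTheory Limits in
/-- Let f : X → Y be proper and y a point with fibre of dimension ≤ 1. Suppose there is a morphism g :
Y' → Y whose image contains y such that, for the base change f' : X' → Y', H^1 of the structure
sheaf vanishes over the preimage of every affine open of Y' (that is, R^1 f'_* O = 0; taking g the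
identity covers the case R^1 f_* O_X = 0). Then H^1(X_y, O_{X_y}) = 0. -/
theorem result {X Y Y' : Scheme.{u}} (f : X ⟶ Y) [IsProper f] (y : Y) (hdim : topologicalKrullDim ↑(f.fiber y) ≤ 1)
    (g : Y' ⟶ Y) (hy : y ∈ Set.range ⇑g)
    (hR1 : ∀ U : Y'.Opens, IsAffineOpen U → Subsingleton (Coh.HHon (pullback f g) (Coh.structureModule (pullback f g)) (pullback.snd f g ⁻¹ᵁ U) 1)) :
    Subsingleton (Coh.HH (f.fiber y) (Coh.structureModule (f.fiber y)) 1) := by
  obtain ⟨V, hV, hyV, hd⟩ := GrothLib.H1Fib29.exists_van2_chart f y hdim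
  obtain ⟨y', rfl⟩ := hy
  obtain ⟨U, hU, hyU, hUV⟩ := exists_isAffineOpen_mem_and_subset (x := y') (U := g ⁻¹ᵁ V) hyV
  let f₀ := GrothLib.BCCoh.affBase f hV
  have hsq := GrothLib.H1Fib29.isPullback_affBase f hV
  haveI : IsProper f₀ := MorphismProperty.of_isPullback hsq ‹IsProper f›
  let XU : Scheme.{u} := (pullback.snd f g ⁻¹ᵁ U : (pullback f g).Opens)
  let fU := GrothLib.BCCoh.affBase (pullback.snd f g) hU
  have hXU : IsPullback ((pullback.snd f g ⁻¹ᵁ U).ι ≫ pullback.fst f g) fU f (hU.fromSpec ≫ g) :=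
    (GrothLib.H1Fib29.isPullback_affBase (pullback.snd f g) hU).paste_horiz (IsPullback.of_hasPullback f g)
  let q := g.appLE V U hUV
  have hq : Spec.map q ≫ hV.fromSpec = hU.fromSpec ≫ g := IsAffineOpen.SpecMap_appLE_fromSpec g hV hU hUV
  rw [← hq] at hXU
  have hw := hXU.w
  rw [← Category.assoc fU] at hw
  have hXU' : IsPullback (hsq.lift _ _ hw) fU f₀ (Spec.map q) :=
    IsPullback.of_right (s := by rw [hsq.lift_fst]; exact hXU) (hsq.lift_snd _ _ hw) hsq
  haveI : IsAffineHom (hsq.lift _ _ hw) := MorphismProperty.of_isPullback hXU'.flip inferInstance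
  have hX2 : GrothLib.H1Fib29.Van2 XU :=
    GrothLib.H1Fib29.van2_of_affineHom (hsq.lift _ _ hw) (GrothLib.H1Fib29.van2_of_dim f₀ hd)
  have hX1 : GrothLib.H1Fib29.Van1 XU := (GrothLib.H1Fib29.van1_opens_iff _).2 (hR1 U hU)
  obtain ⟨p, hp⟩ : y' ∈ Set.range hU.fromSpec := by rw [hU.range_fromSpec]; exact hyU
  let K : Type u := p.asIdeal.ResidueField
  let ρ : Spec (CommRingCat.of K) ⟶ Spec Γ(Y', U) := Spec.map (CommRingCat.ofHom (algebraMap Γ(Y', U) K))
  have hXK : IsPullback (pullback.fst fU ρ) (pullback.snd fU ρ) fU ρ := IsPullback.of_hasPullback _ _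
  haveI : IsProper fU := MorphismProperty.of_isPullback hXU' ‹IsProper f₀›
  haveI : CompactSpace XU := QuasiCompact.compactSpace_of_compactSpace fU
  haveI : QuasiSeparatedSpace XU := quasiSeparatedSpace_of_quasiSeparated fU
  have hK1 : GrothLib.H1Fib29.Van1 (pullback fU ρ) :=
    GrothLib.H1Fib29.van1_baseChange (A := Γ(Y', U)) hXK hX2 hX1
  have hXK' := hXK.paste_horiz hXU
  let j := ρ ≫ Spec.map q ≫ hV.fromSpec
  have hjp : j (IsLocalRing.closedPoint K) = g y' := by
    show (ρ ≫ Spec.map q ≫ hV.fromSpec) _ = _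
    rw [hq, ← hp, Scheme.Hom.comp_apply, Scheme.Hom.comp_apply]
    congr 2
    refine PrimeSpectrum.ext (Ideal.ext fun a => ?_)
    show algebraMap Γ(Y', U) K a ∈ IsLocalRing.maximalIdeal K ↔ _
    rw [IsLocalRing.maximalIdeal_eq_bot, Ideal.mem_bot]
    exact Ideal.algebraMap_residueField_eq_zero
  exact GrothLib.H1Fib29.van1_fiber_of_field f j hjp hXK' hK1

end Groth.Agent.S1485
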