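import Groth.Statements.S14850
import Groth.Agent.Lib.Comod.Cosemi

set_option autoImplicit false
universe u v
open HopfRep

namespace Groth.Agent.S14850

open TensorProduct in
/-- Over a field K, a nonzero coalgebra C is simple if and only if C is isotypic as a right comodule
over itself, i.e. C is the internal direct sum of the images of a family of injective comodule maps
from one simple right C-comodule E. Here a subcoalgebra of C is a subspace B whose comultiplication
lands in the image of B ⊗ B, and C is simple when its only subcoalgebras are 0 and C. (Stated for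
the right regular comodule; the published statement allows left or right.) -/
theorem result {K : Type u} {C : Type v} [Field K] [AddCommGroup C]
    [Module K C] [Coalgebra K C] [Nontrivial C] :
    (∀ B : Submodule K C, (∀ b ∈ B, CoalgebraStruct.comul (R := K) b ∈ LinearMap.range (TensorProduct.map B.subtype B.subtype)) → B = ⊥ ∨ B = ⊤) ↔
    ∃ (E : Type v) (_ : AddCommGroup E) (_ : Module K E) (_ : HopfRep.Comod K C E),
      HopfRep.IsSimpleComod K C E ∧
      ∃ (ι : Type v) (f : ι → (E →ₗ[K] C)),
        (∀ i, Hoch.IsComodHom C (f i) ∧ Function.Injective (f i)) ∧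
        iSupIndep (fun i => LinearMap.range (f i)) ∧ (⨆ i, LinearMap.range (f i)) = ⊤ := by
  constructor
  · intro h
    obtain ⟨E, hEsub, hE⟩ := GrothLib.Comodule.exists_simpleSub_le (k := K) (C := C)
      GrothLib.Comodule.isSubcomod_top (top_ne_bot (α := Submodule K C))
    have hC : GrothLib.Comodule.IsSimpleCoalg (k := K) (⊤ : Submodule K C) :=
      ⟨top_ne_bot, fun b _ => ?_, fun B _ hB => h B hB⟩
    swap
    · exact TensorProduct.map_surjective (fun c => ⟨⟨c, trivial⟩, rfl⟩) (fun c => ⟨⟨c, trivial⟩, rfl⟩) _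
    let _ := ComodSub.Comod.restr (HopfRep.Comod.regular K C) E hE.1
    have hEs : HopfRep.IsSimpleComod K C E :=
      (GrothLib.Comodule.isSimpleSub_iff_restr (HopfRep.Comod.regular K C) E hE.1).1 hE
    refine ⟨E, inferInstance, inferInstance, inferInstance, hEs, ?_⟩
    have := GrothLib.Comodule.isSemisimpleComod_iff.1
      (GrothLib.Comodule.semisimple_regular_of_sum (fun _ : Unit => (⊤ : Submodule K C))
        (fun _ => hC) iSup_const)
    have := GrothLib.Comodule.isSimpleComod_iff.1 hEs
    obtain ⟨s, hind, htop, hs⟩ :=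
      IsSemisimpleModule.exists_sSupIndep_sSup_simples_eq_top (GrothLib.Comodule.OpAlg K C)
        (GrothLib.Comodule.AsMod K C C)
    have hiso : ∀ N : s, Nonempty (GrothLib.Comodule.AsMod K C E ≃ₗ[GrothLib.Comodule.OpAlg K C] N.1) := by
      intro N
      have := hs N.1 N.2
      have hc : isotypicComponent (GrothLib.Comodule.OpAlg K C) (GrothLib.Comodule.AsMod K C C)
          (GrothLib.Comodule.AsMod K C E) = ⊤ := by
        refine GrothLib.Comodule.ofSub_injective ?_
        rw [← GrothLib.Comodule.toSub_coeff_eq hEs, GrothLib.Comodule.ofSub_toSub,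
          GrothLib.Comodule.ofSub_top, ← hC.eq_coeff hE.1 hE.2.1 le_top]
      have : ∀ m : {m : Submodule (GrothLib.Comodule.OpAlg K C) (GrothLib.Comodule.AsMod K C C) |
          Nonempty (m ≃ₗ[GrothLib.Comodule.OpAlg K C] GrothLib.Comodule.AsMod K C E)},
          IsSimpleModule (GrothLib.Comodule.OpAlg K C) m := fun m => IsSimpleModule.congr m.2.some
      obtain ⟨m, hm, ⟨e⟩⟩ := N.1.linearEquiv_of_le_sSup _ (le_top.trans_eq hc.symm)
      exact ⟨hm.some.symm.trans e.symm⟩
    let f : s → (E →ₗ[K] C) := fun N =>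
      GrothLib.Comodule.ofHom (N.1.subtype ∘ₗ (hiso N).some.toLinearMap)
    have hf : ∀ N, LinearMap.range (f N) = GrothLib.Comodule.ofSub N.1 := fun N => by
      refine le_antisymm ?_ fun x hx => ⟨(hiso N).some.symm ⟨x, hx⟩, ?_⟩
      · rintro _ ⟨v, rfl⟩
        exact ((hiso N).some v).2
      · exact congrArg Subtype.val ((hiso N).some.apply_symm_apply ⟨x, hx⟩)
    refine ⟨s, f, fun N => ⟨GrothLib.Comodule.isComodHom_ofHom _,
      fun a b hab => (hiso N).some.injective (Subtype.ext hab)⟩, ?_, ?_⟩
    · intro i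
      simp only [hf]
      have h1 : (⨆ j, ⨆ (_ : j ≠ i), GrothLib.Comodule.ofSub (j : s).1) =
          GrothLib.Comodule.ofSub (⨆ j : s, ⨆ (_ : j ≠ i), j.1) := by
        simp only [GrothLib.Comodule.ofSub_iSup]
      rw [disjoint_iff, h1, ← GrothLib.Comodule.ofSub_inf,
        disjoint_iff.1 ((sSupIndep_iff s).1 hind i), GrothLib.Comodule.ofSub_bot]
    · simp only [hf]
      rw [← GrothLib.Comodule.ofSub_iSup, ← sSup_eq_iSup', htop, GrothLib.Comodule.ofSub_top]
  · rintro ⟨E, _, _, _, hE, ι, f, hf, -, htop⟩ B hB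
    refine or_iff_not_imp_left.2 fun hne => ?_
    obtain ⟨S, hSB, hS⟩ := GrothLib.Comodule.exists_simpleSub_le
      (GrothLib.Comodule.IsSubcoalg.isSubcomod hB) hne
    let _ := ComodSub.Comod.restr (HopfRep.Comod.regular K C) S hS.1
    have hSs : HopfRep.IsSimpleComod K C S :=
      (GrothLib.Comodule.isSimpleSub_iff_restr (HopfRep.Comod.regular K C) S hS.1).1 hS
    have hS0 : S.subtype ≠ 0 := fun h => hS.2.1 (by rw [← Submodule.range_subtype S, h, LinearMap.range_zero])
    obtain ⟨i, e, he⟩ := GrothLib.Comodule.exists_iso_of_le_iSup (fun _ : ι => E) (fun _ => hE) f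
      (fun i => (hf i).1) hSs (ComodSub.isComodHom_subtype (HopfRep.Comod.regular K C) S hS.1) hS0
      (htop.symm ▸ le_top)
    rw [eq_top_iff, ← htop]
    exact iSup_le fun j => (GrothLib.Comodule.range_le_coeff (hf j).1).trans
      ((GrothLib.Comodule.coeff_le_of_surjective he e.surjective).trans
        (GrothLib.Comodule.coeff_restr_le hB hS.1 hSB))

end Groth.Agent.S14850
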