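import Groth.Statements.S14852
import Groth.Agent.Lib.Comod.Cosemi

set_option autoImplicit false
universe u v w w'
open HopfRep

namespace Groth.Agent.S14852

open TensorProduct in
/-- Over a field K, let C be a cosemisimple coalgebra and D₁ ≠ D₂ simple subcoalgebras of C. If V is a
right C-comodule whose coaction lands in V ⊗ D₁ and W one whose coaction lands in W ⊗ D₂, then the
only comodule map V → W is zero. Here a subcoalgebra of C is a subspace B whose comultiplication
lands in the image of B ⊗ B, and a simple subcoalgebra is a nonzero subcoalgebra D whose only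
subcoalgebras contained in D are 0 and D; cosemisimple means C is the internal direct sum of a
family of simple subcoalgebras. (The published statement is for quasi-coherent G-sheaves on a scheme
with trivial action of G = Spec C; this row is the statement on spaces of sections to which its
proof reduces.) -/
theorem result {K : Type u} {C : Type v} [Field K]
    [AddCommGroup C] [Module K C] [Coalgebra K C]
    (hC : ∃ (ι : Type v) (D : ι → Submodule K C), iSupIndep D ∧ iSup D = ⊤ ∧ ∀ i,
        D i ≠ ⊥ ∧ (∀ b ∈ (D i), CoalgebraStruct.comul (R := K) b ∈ LinearMap.range (TensorProduct.map (D i).subtype (D i).subtype)) ∧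
        ∀ B : Submodule K C, B ≤ D i → (∀ b ∈ B, CoalgebraStruct.comul (R := K) b ∈ LinearMap.range (TensorProduct.map B.subtype B.subtype)) → B = ⊥ ∨ B = D i)
    (D₁ D₂ : Submodule K C) (hne : D₁ ≠ D₂)
    (h₁ : D₁ ≠ ⊥ ∧ (∀ b ∈ D₁, CoalgebraStruct.comul (R := K) b ∈ LinearMap.range (TensorProduct.map D₁.subtype D₁.subtype)) ∧ ∀ B : Submodule K C, B ≤ D₁ → (∀ b ∈ B, CoalgebraStruct.comul (R := K) b ∈ LinearMap.range (TensorProduct.map B.subtype B.subtype)) → B = ⊥ ∨ B = D₁)
    (h₂ : D₂ ≠ ⊥ ∧ (∀ b ∈ D₂, CoalgebraStruct.comul (R := K) b ∈ LinearMap.range (TensorProduct.map D₂.subtype D₂.subtype)) ∧ ∀ B : Submodule K C, B ≤ D₂ → (∀ b ∈ B, CoalgebraStruct.comul (R := K) b ∈ LinearMap.range (TensorProduct.map B.subtype B.subtype)) → B = ⊥ ∨ B = D₂)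
    {V : Type w} [AddCommGroup V] [Module K V] [HopfRep.Comod K C V]
    {W : Type w'} [AddCommGroup W] [Module K W] [HopfRep.Comod K C W]
    (hV : ∀ v : V, HopfRep.Comod.coact (k := K) (A := C) v ∈ LinearMap.range (LinearMap.lTensor V D₁.subtype))
    (hW : ∀ w : W, HopfRep.Comod.coact (k := K) (A := C) w ∈ LinearMap.range (LinearMap.lTensor W D₂.subtype))
    (φ : V →ₗ[K] W) (hφ : Hoch.IsComodHom C φ) : φ = 0 := by
  by_contra h0
  have hR : HopfRep.IsSubcomod (k := K) (A := C) (LinearMap.range φ) :=
    GrothLib.Comodule.IsComodHom.range_isSubcomod hφ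
  let cW : HopfRep.Comod K C W := inferInstance
  let _ := ComodSub.Comod.restr cW (LinearMap.range φ) hR
  have : Nontrivial (LinearMap.range φ) :=
    Submodule.nontrivial_iff_ne_bot.2 fun h => h0 (LinearMap.range_eq_bot.1 h)
  have hg : Hoch.IsComodHom C φ.rangeRestrict := by
    refine LinearMap.ext fun v => ?_
    refine Module.Flat.rTensor_preserves_injective_linearMap (LinearMap.range φ).subtype
      (LinearMap.range φ).injective_subtype ?_
    simp only [LinearMap.comp_apply]
    rw [ComodSub.restr_coact_coe cW (LinearMap.range φ) hR, ← LinearMap.comp_apply,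
      ← LinearMap.rTensor_comp]
    exact GrothLib.Comodule.IsComodHom.apply hφ v
  have l1 : GrothLib.Comodule.coeff K C (LinearMap.range φ) ≤ D₁ :=
    (GrothLib.Comodule.coeff_le_of_surjective hg φ.surjective_rangeRestrict).trans
      (GrothLib.Comodule.coeff_le hV)
  have l2 : GrothLib.Comodule.coeff K C (LinearMap.range φ) ≤ D₂ :=
    (GrothLib.Comodule.coeff_le_of_injective
      (ComodSub.isComodHom_subtype cW (LinearMap.range φ) hR) (Submodule.injective_subtype _)).trans
      (GrothLib.Comodule.coeff_le hW)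
  rcases h₁.2.2 _ l1 GrothLib.Comodule.isSubcoalg_coeff with h | h
  · exact GrothLib.Comodule.coeff_ne_bot h
  rcases h₂.2.2 _ l2 GrothLib.Comodule.isSubcoalg_coeff with h' | h'
  · exact GrothLib.Comodule.coeff_ne_bot h'
  exact hne (h.symm.trans h')

end Groth.Agent.S14852
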