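import Groth.Statements.S14856
import Mathlib

set_option autoImplicit false
universe u
open CAlg

namespace Groth.Agent.S14856

/-- Let p be a prime and S a commutative ring in which p is a non-zero-divisor. For a p-typical Witt
vector x over S, a natural number m and an integer s ≥ 1, the power p^s divides each of the Witt
components x_0, …, x_m if and only if p^(n+s) divides the n-th ghost component w_n(x) = x_0^(p^n) +
p x_1^(p^(n-1)) + ⋯ + p^n x_n for every n ≤ m. -/
theorem result (p : ℕ) [Fact p.Prime] (S : Type u) [CommRing S]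
    (hS : ∀ y : S, (p : S) * y = 0 → y = 0) (x : WittVector p S) (m s : ℕ) (hs : 1 ≤ s) :
    (∀ i ≤ m, (p : S) ^ s ∣ x.coeff i) ↔
      (∀ n ≤ m, (p : S) ^ (n + s) ∣ WittVector.ghostComponent n x) := by
  have hp : p.Prime := Fact.out
  have hgh : ∀ n, WittVector.ghostComponent n x =
      ∑ i ∈ Finset.range (n + 1), (p : S) ^ i * x.coeff i ^ p ^ (n - i) := fun n => by
    rw [WittVector.ghostComponent_apply, aeval_wittPolynomial]
  have hexp : ∀ k, s + k ≤ s * p ^ k := fun k => by
    have h1 : k < p ^ k := Nat.lt_pow_self hp.one_lt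
    calc s + k ≤ s + s * k := by nlinarith
      _ = s * (k + 1) := by ring
      _ ≤ s * p ^ k := Nat.mul_le_mul_left _ h1
  have hterm : ∀ n i, i ≤ n → (p : S) ^ s ∣ x.coeff i →
      (p : S) ^ (n + s) ∣ (p : S) ^ i * x.coeff i ^ p ^ (n - i) := by
    intro n i hin ⟨c, hc⟩
    rw [hc, mul_pow, ← pow_mul, ← mul_assoc, ← pow_add]
    exact Dvd.dvd.mul_right (pow_dvd_pow _ (by have := hexp (n - i); omega)) _
  have hreg : ∀ k (y : S), (p : S) ^ k * y = 0 → y = 0 := by
    intro k
    induction k with
    | zero => simp
    | succ k ih => intro y hy; exact hS y (ih _ (by rw [← hy]; ring))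
  constructor
  · intro h n hn
    rw [hgh n]
    exact Finset.dvd_sum fun i hi => hterm n i (Nat.le_of_lt_succ (Finset.mem_range.mp hi))
      (h i ((Nat.le_of_lt_succ (Finset.mem_range.mp hi)).trans hn))
  · intro h i
    induction i using Nat.strong_induction_on with
    | _ n ih =>
      intro hn
      have h1 := h n hn
      rw [hgh n, Finset.sum_range_succ, Nat.sub_self, pow_zero, pow_one] at h1
      have h2 : (p : S) ^ (n + s) ∣ (p : S) ^ n * x.coeff n :=
        (dvd_add_right (Finset.dvd_sum fun i hi =>
          hterm n i (Finset.mem_range.mp hi).le (ih i (Finset.mem_range.mp hi)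
            ((Finset.mem_range.mp hi).le.trans hn)))).mp h1
      obtain ⟨c, hc⟩ := h2
      refine ⟨c, ?_⟩
      have := hreg n (x.coeff n - (p : S) ^ s * c) (by rw [mul_sub, hc, pow_add]; ring)
      exact sub_eq_zero.mp this

end Groth.Agent.S14856
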