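import Groth.Statements.S14857
import Mathlib
-- import your own Groth.Agent.* helpers here

set_option autoImplicit false
open CAlg

namespace Groth.Agent.S14857

/-- For a prime p, the Teichmüller representative [p^p] of the element p^p of the p-adic integers is
divisible by p in the ring of p-typical Witt vectors W(ℤ_p). -/
theorem result (p : ℕ) [Fact p.Prime] :
    (p : WittVector p ℤ_[p]) ∣ WittVector.teichmuller p ((p : ℤ_[p]) ^ p) := by
  obtain ⟨y, hy⟩ : ∃ y, WittVector.teichmuller p (p : ℤ_[p]) - (p : WittVector p ℤ_[p]) =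
      WittVector.verschiebung y := by
    refine ⟨_, WittVector.eq_iterate_verschiebung (n := 1) ?_⟩
    intro i hi
    obtain rfl : i = 0 := by omega
    have h0 : WittVector.constantCoeff (WittVector.teichmuller p (p : ℤ_[p]) - (p : WittVector p ℤ_[p])) = 0 := by
      rw [map_sub, map_natCast WittVector.constantCoeff]
      simp [WittVector.constantCoeff_apply]
    exact h0
  have h2 : (p : WittVector p ℤ_[p]) ∣ WittVector.verschiebung y ^ 2 := by
    refine ⟨WittVector.verschiebung (y * y), ?_⟩
    rw [sq, ← WittVector.verschiebung_mul_frobenius, WittVector.frobenius_verschiebung, ← mul_assoc,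
      mul_comm (y * y), ← nsmul_eq_mul, map_nsmul, nsmul_eq_mul]
  rw [map_pow, eq_add_of_sub_eq hy]
  have h3 : (p : WittVector p ℤ_[p]) ∣ (WittVector.verschiebung y + (p : WittVector p ℤ_[p])) ^ p -
      WittVector.verschiebung y ^ p := by
    refine Dvd.dvd.trans ?_ (sub_dvd_pow_sub_pow _ _ p)
    rw [add_sub_cancel_left]
  have h4 : (p : WittVector p ℤ_[p]) ∣ WittVector.verschiebung y ^ p :=
    h2.trans (pow_dvd_pow _ (Fact.out : p.Prime).two_le)
  simpa using dvd_add h3 h4

end Groth.Agent.S14857
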