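import Groth.Statements.S14859
import Groth.Agent.Lib.DispRigid.Witt
import Mathlib

set_option autoImplicit false
universe u v w
open Disp

namespace Groth.Agent.S14859

/-- Let p be a prime, R a commutative ring with p-typical Witt vectors W = W(R), and (P, Q, F, V⁻¹) a
3n-display over R with a normal decomposition P = L ⊕ T, Q = L + I_R·T. Then V⁻¹ ⊕ F : L ⊕ T → P is
a Frobenius-linear isomorphism; stated here in the case where L and T are free with bases (l_i) and
(t_j): the family consisting of the V⁻¹(l_i) and the F(t_j) is a basis of the W-module P, i.e. it is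
linearly independent over W and spans P. -/
theorem result (p : ℕ) [Fact p.Prime] (R : Type u) [CommRing R]
    (P : Type v) [AddCommGroup P] [Module (WittVector p R) P] (D : W4c1extbt610.Display3n p R P)
    (L T : Submodule (WittVector p R) P) (hLT : IsCompl L T)
    (hQ : D.Q = L ⊔ W4c1extbt610.IV p R • T) (hLQ : L ≤ D.Q)
    (ιL ιT : Type w) (bL : Module.Basis ιL (WittVector p R) L) (bT : Module.Basis ιT (WittVector p R) T) :
    LinearIndependent (WittVector p R)
        (Sum.elim (fun i : ιL => D.Vinv ⟨(bL i : P), hLQ (bL i).2⟩) (fun j : ιT => D.F (bT j : P))) ∧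
      Submodule.span (WittVector p R)
        (Set.range (Sum.elim (fun i : ιL => D.Vinv ⟨(bL i : P), hLQ (bL i).2⟩) (fun j : ιT => D.F (bT j : P)))) = ⊤ := by
  classical
  rcases subsingleton_or_nontrivial (WittVector p R) with hW | hW
  · haveI : Subsingleton P := Module.subsingleton (WittVector p R) P
    exact ⟨linearIndependent_iff.2 fun l _ => Subsingleton.elim _ _, Subsingleton.elim _ _⟩
  let v := Sum.elim (fun i : ιL => D.Vinv ⟨(bL i : P), hLQ (bL i).2⟩) (fun j : ιT => D.F (bT j : P))
  have hF : ∀ y : D.Q, D.F (y : P) = (p : WittVector p R) • D.Vinv y := fun y => by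
    have h := D.Vinv_verschiebung_smul 1 (y : P)
    rw [one_smul] at h
    rw [← h, ← one_mul (p : WittVector p R), ← WittVector.frobenius_verschiebung (1 : WittVector p R),
      ← map_smulₛₗ D.Vinv (WittVector.verschiebung (1 : WittVector p R)) y]
    rfl
  let S := Submodule.span (WittVector p R) (Set.range v)
  have hL : ∀ l : L, D.Vinv ⟨(l : P), hLQ l.2⟩ ∈ S := fun l => by
    let f : L →ₛₗ[(WittVector.frobenius : WittVector p R →+* WittVector p R)] P :=
      D.Vinv.comp (Submodule.inclusion hLQ)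
    show f l ∈ S
    have h : (⊤ : Submodule (WittVector p R) L) ≤ S.comap f := by
      rw [← bL.span_eq, Submodule.span_le]
      rintro _ ⟨i, rfl⟩
      exact Submodule.subset_span ⟨Sum.inl i, rfl⟩
    exact h Submodule.mem_top
  have hT : ∀ t : T, D.F (t : P) ∈ S := fun t => by
    have h : (⊤ : Submodule (WittVector p R) T) ≤ S.comap (D.F.comp T.subtype) := by
      rw [← bT.span_eq, Submodule.span_le]
      rintro _ ⟨i, rfl⟩
      exact Submodule.subset_span ⟨Sum.inr i, rfl⟩
    exact h Submodule.mem_top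
  have hIT : ∀ x ∈ W4c1extbt610.IV p R • T, ∀ h : x ∈ D.Q, D.Vinv ⟨x, h⟩ ∈ S := by
    intro x hx
    suffices hh : x ∈ D.Q ∧ ∀ h : x ∈ D.Q, D.Vinv ⟨x, h⟩ ∈ S from hh.2
    refine Submodule.smul_induction_on hx (fun a ha t ht => ?_) (fun a b ha hb => ?_)
    · refine ⟨D.IV_smul_le (Submodule.smul_mem_smul ha Submodule.mem_top), fun h => ?_⟩
      have hz : a.coeff 0 = 0 := GrothLib.DispRigid.coeff_zero_eq_zero_of_mem_IV ha
      have e := D.Vinv_verschiebung_smul (a.shift 1) t
      have : D.Vinv ⟨a • t, h⟩ = a.shift 1 • D.F t :=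
        (congrArg D.Vinv (Subtype.ext (congrArg (· • t) (GrothLib.DispRigid.eq_verschiebung_shift hz).symm))).trans e
      rw [this]
      exact S.smul_mem _ (hT ⟨t, ht⟩)
    · refine ⟨add_mem ha.1 hb.1, fun h => ?_⟩
      have : (⟨a + b, h⟩ : D.Q) = ⟨a, ha.1⟩ + ⟨b, hb.1⟩ := rfl
      rw [this, map_add]
      exact add_mem (ha.2 _) (hb.2 _)
  have hspan : S = ⊤ := by
    rw [eq_top_iff, ← D.span_range_Vinv, Submodule.span_le]
    rintro _ ⟨⟨x, hx⟩, rfl⟩
    have hx' := hx
    rw [hQ] at hx'
    obtain ⟨l, hl, t, ht, rfl⟩ := Submodule.mem_sup.1 hx'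
    have htQ : t ∈ D.Q := by simpa using D.Q.sub_mem hx (hLQ hl)
    have : (⟨l + t, hx⟩ : D.Q) = ⟨l, hLQ hl⟩ + ⟨t, htQ⟩ := rfl
    rw [this, map_add]
    exact add_mem (hL ⟨l, hl⟩) (hIT t ht htQ)
  refine ⟨?_, hspan⟩
  haveI := D.finite
  let b : Module.Basis (ιL ⊕ ιT) (WittVector p R) P := (bL.prod bT).map (Submodule.prodEquivOfIsCompl L T hLT)
  have hψ : Function.Surjective ((Finsupp.linearCombination (WittVector p R) v).comp b.repr.toLinearMap) := by
    have h : Function.Surjective (Finsupp.linearCombination (WittVector p R) v) := by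
      rw [← LinearMap.range_eq_top, Finsupp.range_linearCombination]; exact hspan
    rw [LinearMap.coe_comp]
    exact h.comp b.repr.surjective
  have hi := OrzechProperty.injective_of_surjective_endomorphism _ hψ
  intro c₁ c₂ hc
  have h2 := hi (a₁ := b.repr.symm c₁) (a₂ := b.repr.symm c₂) (by simpa using hc)
  exact b.repr.symm.injective h2

end Groth.Agent.S14859
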