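import Groth.Statements.S14860
import Mathlib
import Groth.Agent.Lib.DispRigid.Iterate

set_option autoImplicit false
universe u v
open CAlg

namespace Groth.Agent.S14860

section

variable {A : Type u} [CommRing A]

theorem mem_smul_top_pi {m : ℕ} {I : Ideal A} {v : Fin m → A} :
    v ∈ I • (⊤ : Submodule A (Fin m → A)) ↔ ∀ i, v i ∈ I := by
  refine ⟨fun hv i => ?_, fun hv => ?_⟩
  · exact Submodule.smul_induction_on (p := fun w : Fin m → A => ∀ j, w j ∈ I) hv
      (fun a ha x _ j => I.mul_mem_right _ ha) (fun x y hx hy j => I.add_mem (hx j) (hy j)) i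
  · rw [pi_eq_sum_univ v]
    exact Submodule.sum_mem _ fun i _ => Submodule.smul_mem_smul (hv i) Submodule.mem_top

/-- Lifting along surjections of modules killed by `I`. -/
theorem exists_lift_quot {M : Type v} [AddCommGroup M] [Module A M] {N N' : Type*} [AddCommGroup N]
    [Module A N] [AddCommGroup N'] [Module A N'] (I : Ideal A)
    [Module.Projective (A ⧸ I) (M ⧸ I • (⊤ : Submodule A M))]
    [Module (A ⧸ I) N] [IsScalarTower A (A ⧸ I) N] [Module (A ⧸ I) N'] [IsScalarTower A (A ⧸ I) N']
    (h : N →ₗ[A] N') (hh : Function.Surjective h) (g : (M ⧸ I • (⊤ : Submodule A M)) →ₗ[A] N') :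
    ∃ e : (M ⧸ I • (⊤ : Submodule A M)) →ₗ[A] N, h.comp e = g := by
  have hs : Function.Surjective (algebraMap A (A ⧸ I)) := Ideal.Quotient.mk_surjective
  obtain ⟨e, he⟩ := Module.projective_lifting_property (h.extendScalarsOfSurjective hs)
    (g.extendScalarsOfSurjective hs) hh
  exact ⟨e.restrictScalars A, LinearMap.ext fun x => LinearMap.congr_fun he x⟩

/-- Nilpotent Nakayama. -/
theorem top_le_of_le_sup_smul {M : Type v} [AddCommGroup M] [Module A M] (N : Submodule A M)
    (J : Ideal A) (h : (⊤ : Submodule A M) ≤ N ⊔ J • ⊤) :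
    ∀ k : ℕ, (⊤ : Submodule A M) ≤ N ⊔ J ^ k • ⊤
  | 0 => by simp
  | k + 1 => by
    have ih := top_le_of_le_sup_smul N J h k
    refine ih.trans (sup_le le_sup_left ?_)
    refine (Submodule.smul_mono le_rfl h).trans ?_
    rw [Submodule.smul_sup, ← Submodule.mul_smul, ← pow_succ]
    exact sup_le (Submodule.smul_le_right.trans le_sup_left) le_sup_right

end

theorem eq_of_sub_mem {p : ℕ} [Fact p.Prime] {R : Type u} [CommRing R] {x y : WittVector p R} {n : ℕ}
    (h : x - y ∈ RingHom.ker (WittVector.truncate (p := p) (R := R) n)) :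
    ∀ i < n, x.coeff i = y.coeff i := by
  intro i hi
  rw [RingHom.mem_ker, map_sub, sub_eq_zero] at h
  have := congrArg (fun z => TruncatedWittVector.coeff ⟨i, hi⟩ z) h
  simpa [WittVector.coeff_truncate] using this

theorem sub_mem_of_eq {p : ℕ} [Fact p.Prime] {R : Type u} [CommRing R] {x y : WittVector p R} {n : ℕ}
    (h : ∀ i < n, x.coeff i = y.coeff i) :
    x - y ∈ RingHom.ker (WittVector.truncate (p := p) (R := R) n) := by
  rw [RingHom.mem_ker, map_sub, sub_eq_zero]
  exact TruncatedWittVector.ext fun i => by simp [WittVector.coeff_truncate, h i i.2]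


/-- Let p be a prime and R a commutative ring in which p is nilpotent; write W = W(R) for the p-typical
Witt vectors and, for n ≥ 0, I_n ⊆ W for the ideal of Witt vectors whose first n components vanish
(the kernel of the truncation W → W_n(R), so W/I_n = W_n(R)). For a W-module P conditions (i) and
(ii) below are equivalent: (i) P is a projective W-module of finite type; (ii) P is separated for
the filtration by the submodules I_n P, and for every n the W_n(R)-module P/I_n P is finitely
generated and projective. (The published statement is made for every ℤ_(p)-algebra R, the section's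
standing convention; over R = ℚ, where W(ℚ) ≅ ℚ^ℕ by the ghost map, the module ⊕_ℕ ℚ satisfies (ii)
but is not finitely generated, and the published proof uses that I_1 is nilpotent in each W_n(R),
which holds when p is nilpotent in R; so p is taken nilpotent here. The third equivalent condition
of the published statement, freeness Zariski-locally on R, is not rendered.) -/
theorem result (p : ℕ) [Fact p.Prime] (R : Type u) [CommRing R]
    (hp : IsNilpotent (p : R))
    (P : Type v) [AddCommGroup P] [Module (WittVector p R) P] :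
    (Module.Finite (WittVector p R) P ∧ Module.Projective (WittVector p R) P) ↔
      ((⨅ n : ℕ, (RingHom.ker (WittVector.truncate (p := p) (R := R) n) • (⊤ : Submodule (WittVector p R) P))) = ⊥ ∧
        ∀ n : ℕ, Module.Finite (WittVector p R ⧸ RingHom.ker (WittVector.truncate (p := p) (R := R) n))
              (P ⧸ (RingHom.ker (WittVector.truncate (p := p) (R := R) n) • (⊤ : Submodule (WittVector p R) P))) ∧
            Module.Projective (WittVector p R ⧸ RingHom.ker (WittVector.truncate (p := p) (R := R) n))
              (P ⧸ (RingHom.ker (WittVector.truncate (p := p) (R := R) n) • (⊤ : Submodule (WittVector p R) P)))) := by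
  classical
  let W := WittVector p R
  let I : ℕ → Ideal W := fun n => RingHom.ker (WittVector.truncate (p := p) (R := R) n)
  have hIle : ∀ {a b : ℕ}, a ≤ b → I b ≤ I a := fun {a b} hab x hx =>
    (WittVector.mem_ker_truncate _ _).mpr fun i hi =>
      (WittVector.mem_ker_truncate _ _).mp hx i (hi.trans_le hab)
  constructor
  · rintro ⟨hfin, hproj⟩
    refine ⟨?_, fun n => ?_⟩
    · obtain ⟨m, π, i, -, -, hπi⟩ := Module.Finite.exists_comp_eq_id_of_projective W P
      rw [Submodule.eq_bot_iff]
      intro x hx
      have h0 : i x = 0 := by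
        funext j
        have : i x j ∈ (⨅ n, I n : Ideal W) := Ideal.mem_iInf.mpr fun n => by
          have := Submodule.mem_map_of_mem (f := i) ((Submodule.mem_iInf _).mp hx n)
          rw [Submodule.map_smul''] at this
          exact mem_smul_top_pi.mp (Submodule.smul_mono le_rfl le_top this) j
        exact (Submodule.mem_bot _).mp (TruncatedWittVector.iInf_ker_truncate.le this)
      rw [← LinearMap.id_apply (R := W) x, ← hπi, LinearMap.comp_apply, h0, map_zero]
    · let e := (TensorProduct.quotTensorEquivQuotSMul P (I n)).extendScalarsOfSurjective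
        (S := W ⧸ I n) Ideal.Quotient.mk_surjective
      exact ⟨Module.Finite.equiv e, Module.Projective.of_equiv e⟩
  · rintro ⟨hsep, hn⟩
    let P' : ℕ → Submodule W P := fun n => I n • ⊤
    haveI : ∀ n, Module.Projective (W ⧸ I n) (P ⧸ P' n) := fun n => (hn n).2
    -- generators
    haveI := (hn 1).1
    obtain ⟨m, x, hx⟩ := Module.Finite.exists_fin (R := W ⧸ I 1) (M := P ⧸ P' 1)
    choose y hy using fun i => (P' 1).mkQ_surjective (x i)
    let f : (Fin m → W) →ₗ[W] P := Fintype.linearCombination W y
    have hf1 : (⊤ : Submodule W P) ≤ LinearMap.range f ⊔ P' 1 := by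
      intro z _
      have hz : (P' 1).mkQ z ∈ Submodule.span (W ⧸ I 1) (Set.range x) := by rw [hx]; trivial
      obtain ⟨c, hc⟩ := (Submodule.mem_span_range_iff_exists_fun _).mp hz
      choose c' hc' using fun i => Ideal.Quotient.mk_surjective (c i)
      refine Submodule.mem_sup.mpr ⟨f c', ⟨c', rfl⟩, z - f c', ?_, by abel⟩
      rw [← Submodule.Quotient.eq, ← Submodule.mkQ_apply, ← Submodule.mkQ_apply, ← hc,
        Fintype.linearCombination_apply, map_sum]
      exact Finset.sum_congr rfl fun i _ => by rw [map_smul, hy, ← hc']; rfl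
    have hfn : ∀ n, (⊤ : Submodule W P) ≤ LinearMap.range f ⊔ P' n := by
      intro n
      obtain ⟨k, hk⟩ := GrothLib.DispRigid.exists_p_pow_mem_ker_truncate (p := p) hp n
      refine (top_le_of_le_sup_smul _ (I 1) hf1 (k + 1)).trans
        (sup_le_sup_left (Submodule.smul_mono_left ?_) _)
      have h1 : I 1 ≤ GrothLib.DispRigid.J1 p R := fun z hz => by
        rw [← GrothLib.DispRigid.eq_verschiebung_shift
          ((WittVector.mem_ker_truncate _ _).mp hz 0 one_pos)]
        exact Ideal.mem_sup_left (W4c1extbt610.verschiebung_mem_IV p R _)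
      refine (Ideal.pow_right_mono h1 _).trans ((GrothLib.DispRigid.J1_pow_le k).trans
        (Ideal.mul_le_left.trans ?_))
      exact (Ideal.span_singleton_le_iff_mem _).mpr hk
    -- truncations
    let Fm := Fin m → W
    let F' : ℕ → Submodule W Fm := fun n => I n • ⊤
    let fq : ∀ n, (Fm ⧸ F' n) →ₗ[W] (P ⧸ P' n) := fun n => (F' n).mapQ (P' n) f (by
      rw [← Submodule.map_le_iff_le_comap, Submodule.map_smul'']
      exact Submodule.smul_mono le_rfl le_top)
    have hfq : ∀ n, Function.Surjective (fq n) := by
      intro n z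
      obtain ⟨z, rfl⟩ := (P' n).mkQ_surjective z
      obtain ⟨_, ⟨v, rfl⟩, b, hb, hab⟩ := Submodule.mem_sup.mp (hfn n (Submodule.mem_top (x := z)))
      refine ⟨(F' n).mkQ v, (Submodule.Quotient.eq _).mpr ?_⟩
      rw [← hab, sub_add_cancel_left]
      exact neg_mem hb
    have hPle : ∀ n, P' (n + 1) ≤ P' n := fun n => Submodule.smul_mono_left (hIle n.le_succ)
    have hFle : ∀ n, F' (n + 1) ≤ F' n := fun n => Submodule.smul_mono_left (hIle n.le_succ)
    have hbase : ∀ n, ∃ t : (P ⧸ P' n) →ₗ[W] (Fm ⧸ F' n), (fq n).comp t = LinearMap.id :=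
      fun n => exists_lift_quot (I n) (fq n) (hfq n) LinearMap.id
    have step : ∀ n (s : (P ⧸ P' n) →ₗ[W] (Fm ⧸ F' n)), (fq n).comp s = LinearMap.id →
        ∃ s' : (P ⧸ P' (n + 1)) →ₗ[W] (Fm ⧸ F' (n + 1)), (fq (n + 1)).comp s' = LinearMap.id ∧
          (Submodule.factor (hFle n)).comp s' = s.comp (Submodule.factor (hPle n)) := by
      intro n s hs
      obtain ⟨t, ht⟩ := hbase (n + 1)
      letI : Module (W ⧸ I (n + 1)) (Fm ⧸ F' n) := Module.IsTorsionBySet.module (by
        rintro z ⟨a, ha⟩
        obtain ⟨z, rfl⟩ := (F' n).mkQ_surjective z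
        show a • (F' n).mkQ z = 0
        rw [← map_smul, Submodule.mkQ_apply, Submodule.Quotient.mk_eq_zero]
        exact Submodule.smul_mem_smul (hIle n.le_succ ha) Submodule.mem_top)
      haveI : IsScalarTower W (W ⧸ I (n + 1)) (Fm ⧸ F' n) := Module.IsTorsionBySet.isScalarTower _
      let q := Submodule.factor (hFle n)
      obtain ⟨e, he⟩ := exists_lift_quot (I (n + 1)) q (Submodule.factor_surjective (hFle n))
        (s.comp (Submodule.factor (hPle n)) - q.comp t)
      have hnat : ∀ z, fq n (q z) = Submodule.factor (hPle n) (fq (n + 1) z) := by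
        intro z
        obtain ⟨z, rfl⟩ := (F' (n + 1)).mkQ_surjective z
        rfl
      have hker : ∀ w, Submodule.factor (hPle n) w = 0 → q (t w) = 0 := by
        intro w hw
        obtain ⟨w, rfl⟩ := (P' (n + 1)).mkQ_surjective w
        have hw' : w ∈ I n • (⊤ : Submodule W P) := (Submodule.Quotient.mk_eq_zero _).mp hw
        have : ((q.comp t).comp (P' (n + 1)).mkQ) w ∈ I n • (⊤ : Submodule W (Fm ⧸ F' n)) := by
          have h2 := Submodule.mem_map_of_mem (f := (q.comp t).comp (P' (n + 1)).mkQ) hw'
          rw [Submodule.map_smul''] at h2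
          exact Submodule.smul_mono le_rfl le_top h2
        have hbot : I n • (⊤ : Submodule W (Fm ⧸ F' n)) ≤ ⊥ := Submodule.smul_le.mpr (by
          intro a ha z _
          obtain ⟨z, rfl⟩ := (F' n).mkQ_surjective z
          rw [Submodule.mem_bot, ← map_smul, Submodule.mkQ_apply, Submodule.Quotient.mk_eq_zero]
          exact Submodule.smul_mem_smul ha Submodule.mem_top)
        exact hbot this
      refine ⟨t + (e - t.comp ((fq (n + 1)).comp e)), ?_, ?_⟩
      · refine LinearMap.ext fun w => ?_
        have h0 : ∀ v, fq (n + 1) (t v) = v := fun v => LinearMap.congr_fun ht v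
        simp only [LinearMap.comp_apply, LinearMap.add_apply, LinearMap.sub_apply, map_add, map_sub,
          h0, sub_self, add_zero, LinearMap.id_apply]
      · refine LinearMap.ext fun w => ?_
        have he' : q (e w) = s (Submodule.factor (hPle n) w) - q (t w) := LinearMap.congr_fun he w
        have h1 : q (t (fq (n + 1) (e w))) = 0 := by
          refine hker _ ?_
          have hsw : ∀ v, fq n (s v) = v := fun v => LinearMap.congr_fun hs v
          rw [← hnat, he', map_sub, hsw, hnat, show fq (n + 1) (t w) = w from LinearMap.congr_fun ht w,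
            sub_self]
        simp only [LinearMap.comp_apply, LinearMap.add_apply, LinearMap.sub_apply, map_add, map_sub]
        rw [show Submodule.factor (hFle n) (e w) = _ from he', show Submodule.factor (hFle n) _ = _ from h1]
        show q (t w) + (_ - q (t w) - 0) = _
        abel
    obtain ⟨s, hs1, hs2⟩ : ∃ s : ∀ n, (P ⧸ P' n) →ₗ[W] (Fm ⧸ F' n),
        (∀ n, (fq n).comp (s n) = LinearMap.id) ∧
        ∀ n, (Submodule.factor (hFle n)).comp (s (n + 1)) = (s n).comp (Submodule.factor (hPle n)) := by
      choose t ht using hbase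
      choose g hg1 hg2 using step
      let T : ℕ → Type _ := fun n => {s : (P ⧸ P' n) →ₗ[W] (Fm ⧸ F' n) // (fq n).comp s = LinearMap.id}
      let seq : ∀ n, T n := fun n => Nat.rec ⟨t 0, ht 0⟩ (fun n q => ⟨g n q.1 q.2, hg1 n q.1 q.2⟩) n
      exact ⟨fun n => (seq n).1, fun n => (seq n).2, fun n => hg2 n _ (seq n).2⟩
    -- the limit
    choose v hv using fun n (z : P) => (F' n).mkQ_surjective (s n ((P' n).mkQ z))
    have hcompat : ∀ a b, a ≤ b → ∀ z i, v b z i - v a z i ∈ I a := by
      intro a b hab z i
      induction b, hab using Nat.le_induction with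
      | base => simp
      | succ b hb ih =>
        have h1 : (F' b).mkQ (v (b + 1) z) = (F' b).mkQ (v b z) := by
          calc (F' b).mkQ (v (b + 1) z) = Submodule.factor (hFle b) ((F' (b + 1)).mkQ (v (b + 1) z)) := rfl
            _ = s b (Submodule.factor (hPle b) ((P' (b + 1)).mkQ z)) := by
                rw [hv]; exact LinearMap.congr_fun (hs2 b) _
            _ = _ := (hv b z).symm
        have h2 : v (b + 1) z i - v b z i ∈ I b :=
          mem_smul_top_pi.mp ((Submodule.Quotient.eq _).mp h1) i
        have := add_mem (hIle hb h2) ih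
        rwa [sub_add_sub_cancel] at this
    let L : P → Fm := fun z i => WittVector.mk p fun j => (v (j + 1) z i).coeff j
    have hL : ∀ n z, (F' n).mkQ (L z) = s n ((P' n).mkQ z) := by
      intro n z
      rw [← hv, Submodule.mkQ_apply, Submodule.mkQ_apply, Submodule.Quotient.eq]
      refine mem_smul_top_pi.mpr fun i => sub_mem_of_eq fun j hj => ?_
      simp only [L, WittVector.coeff_mk]
      exact (eq_of_sub_mem (hcompat (j + 1) n hj z i) j (Nat.lt_succ_self j)).symm
    have huniq : ∀ a b : Fm, (∀ n, (F' n).mkQ a = (F' n).mkQ b) → a = b := by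
      intro a b h
      funext i
      ext j
      exact eq_of_sub_mem (mem_smul_top_pi.mp ((Submodule.Quotient.eq _).mp (h (j + 1))) i) j
        (Nat.lt_succ_self j)
    let S : P →ₗ[W] Fm :=
      { toFun := L
        map_add' := fun a b => huniq _ _ fun n => by rw [map_add, hL, hL, hL, map_add, map_add]
        map_smul' := fun c a => huniq _ _ fun n => by
          rw [RingHom.id_apply, map_smul, hL, hL, map_smul, map_smul] }
    have hfS : f.comp S = LinearMap.id := by
      refine LinearMap.ext fun z => sub_eq_zero.mp ?_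
      have : f (L z) - z ∈ (⨅ n, P' n) := (Submodule.mem_iInf _).mpr fun n => by
        rw [← Submodule.Quotient.eq, ← Submodule.mkQ_apply, ← Submodule.mkQ_apply]
        calc (P' n).mkQ (f (L z)) = fq n ((F' n).mkQ (L z)) := rfl
          _ = _ := by rw [hL]; exact LinearMap.congr_fun (hs1 n) _
      rw [hsep] at this
      exact (Submodule.mem_bot W).mp this
    exact ⟨Module.Finite.of_surjective f fun z => ⟨S z, LinearMap.congr_fun hfS z⟩,
      Module.Projective.of_split S f hfS⟩

end Groth.Agent.S14860
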