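import Groth.Statements.S14861
import Mathlib
-- import your own Groth.Agent.* helpers here

set_option autoImplicit false
universe u
open CAlg

namespace Groth.Agent.S14861

/-- Let p be a prime and R a commutative ring without p-torsion which is complete and separated for the
p-adic topology. Let a be a p-typical Witt vector over R and m, u natural numbers. Suppose that for
every s the equation p^u·x = a has a solution in the truncated Witt ring W_m(R/p^s R), i.e. there is
z ∈ W(R) such that the first m Witt components of p^u·z − a lie in p^s R. Then the equation has a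
solution in W_m(R): there is x ∈ W(R) such that the first m Witt components of p^u·x − a vanish.
(The published statement asks only that R have no p-torsion; R is moreover taken p-adically complete
and separated here, which is the standing situation of the surrounding argument and is what the
published proof uses when it passes to the limit over s.) -/
theorem result (p : ℕ) [Fact p.Prime] (R : Type u) [CommRing R]
    (hR : ∀ y : R, (p : R) * y = 0 → y = 0) [IsAdicComplete (Ideal.span {(p : R)}) R]
    (a : WittVector p R) (m u : ℕ)
    (h : ∀ s : ℕ, ∃ z : WittVector p R, ∀ i < m, ((p : WittVector p R) ^ u * z - a).coeff i ∈ Ideal.span {(p : R) ^ s}) :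
    ∃ x : WittVector p R, ∀ i < m, ((p : WittVector p R) ^ u * x - a).coeff i = 0 := by
  classical
  have gh : ∀ (x : WittVector p R) (n : ℕ), WittVector.ghostComponent n x =
      ∑ i ∈ Finset.range (n + 1), (p : R) ^ i * x.coeff i ^ p ^ (n - i) := by
    intro x n
    simp [WittVector.ghostComponent_apply, wittPolynomial_eq_sum_C_mul_X_pow]
  have hpos : ∀ e : ℕ, p ^ e ≠ 0 := fun e => pow_ne_zero _ (Fact.out : p.Prime).ne_zero
  have cancel : ∀ (i : ℕ) (y : R), (p : R) ^ i * y = 0 → y = 0 := by
    intro i
    induction i with
    | zero => intro y hy; simpa using hy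
    | succ i ih =>
      intro y hy
      rw [pow_succ, mul_assoc] at hy
      exact hR _ (ih _ hy)
  have cancel' : ∀ (i N : ℕ) (y : R), (p : R) ^ i * y ∈ Ideal.span {(p : R) ^ (N + i)} →
      y ∈ Ideal.span {(p : R) ^ N} := by
    intro i N y hy
    obtain ⟨c, hc⟩ := Ideal.mem_span_singleton'.mp hy
    refine Ideal.mem_span_singleton'.mpr ⟨c, ?_⟩
    refine (sub_eq_zero.mp (cancel i _ ?_)).symm.symm
    rw [mul_sub, sub_eq_zero, ← hc, pow_add]
    ring
  choose z hz using h
  have hga : ∀ n < m, ∀ s, WittVector.ghostComponent n ((p : WittVector p R) ^ u * z s - a) ∈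
      Ideal.span {(p : R) ^ s} := by
    intro n hn s
    rw [gh]
    refine sum_mem fun i hi => Ideal.mul_mem_left _ _ (Ideal.pow_mem_of_mem _ (hz s i ?_) _
      (Nat.pos_of_ne_zero (hpos _)))
    have := Finset.mem_range.mp hi
    omega
  have hg : ∀ n : ℕ, ∃ g : R, n < m → (p : R) ^ u * g = WittVector.ghostComponent n a ∧
      ∀ N s, N + u ≤ s → g - WittVector.ghostComponent n (z s) ∈ Ideal.span {(p : R) ^ N} := by
    intro n
    by_cases hn : n < m
    swap
    · exact ⟨0, fun h => absurd h hn⟩
    have e : ∀ s, WittVector.ghostComponent n ((p : WittVector p R) ^ u * z s - a) =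
        (p : R) ^ u * WittVector.ghostComponent n (z s) - WittVector.ghostComponent n a := fun s => by
      rw [map_sub, map_mul, map_pow, map_natCast]
    obtain ⟨c, hc⟩ := Ideal.mem_span_singleton'.mp (hga n hn u)
    rw [e] at hc
    refine ⟨WittVector.ghostComponent n (z u) - c, fun _ => ⟨by linear_combination (-1 : R) * hc, ?_⟩⟩
    intro N s hs
    refine cancel' u N _ ?_
    have h1 : WittVector.ghostComponent n ((p : WittVector p R) ^ u * z s - a) ∈
        Ideal.span {(p : R) ^ (N + u)} :=
      (Ideal.span_singleton_le_span_singleton.mpr (pow_dvd_pow _ hs)) (hga n hn s)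
    rw [e] at h1
    have h2 : (p : R) ^ u * (WittVector.ghostComponent n (z u) - c - WittVector.ghostComponent n (z s)) =
        -((p : R) ^ u * WittVector.ghostComponent n (z s) - WittVector.ghostComponent n a) := by
      linear_combination (-1 : R) * hc
    rw [h2]
    exact neg_mem h1
  choose g hg using hg
  have key : ∀ n ≤ m, ∃ f : ℕ → R, (∀ i < n, ∑ j ∈ Finset.range (i + 1), (p : R) ^ j * f j ^ p ^ (i - j) = g i) ∧
      ∀ i < n, ∀ N, ∃ S, ∀ s ≥ S, f i - (z s).coeff i ∈ Ideal.span {(p : R) ^ N} := by
    intro n
    induction n with
    | zero => exact fun _ => ⟨0, fun i hi => absurd hi (Nat.not_lt_zero i),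
        fun i hi => absurd hi (Nat.not_lt_zero i)⟩
    | succ n ih =>
      intro hn
      obtain ⟨f, hf, hf'⟩ := ih (by omega)
      set r := g n - ∑ j ∈ Finset.range n, (p : R) ^ j * f j ^ p ^ (n - j) with hr
      have hclose : ∀ N, ∃ S, ∀ s ≥ S,
          r - (p : R) ^ n * (z s).coeff n ∈ Ideal.span {(p : R) ^ N} := by
        intro N
        have : ∀ j ∈ Finset.range n, ∃ S, ∀ s ≥ S, f j - (z s).coeff j ∈ Ideal.span {(p : R) ^ N} :=
          fun j hj => hf' j (Finset.mem_range.mp hj) N
        choose! S hS using this
        refine ⟨(Finset.range n).sup S ⊔ (N + u), fun s hs => ?_⟩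
        have h1 := (hg n (by omega)).2 N s (le_trans le_sup_right hs)
        rw [gh, Finset.sum_range_succ, Nat.sub_self, pow_zero, pow_one] at h1
        have h2 : ∑ j ∈ Finset.range n, (p : R) ^ j * f j ^ p ^ (n - j) -
            ∑ j ∈ Finset.range n, (p : R) ^ j * (z s).coeff j ^ p ^ (n - j) ∈
              Ideal.span {(p : R) ^ N} := by
          rw [← Finset.sum_sub_distrib]
          refine sum_mem fun j hj => ?_
          rw [← mul_sub]
          refine Ideal.mul_mem_left _ _ ?_
          obtain ⟨q, hq⟩ := sub_dvd_pow_sub_pow (f j) ((z s).coeff j) (p ^ (n - j))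
          rw [hq]
          exact Ideal.mul_mem_right _ _ (hS j hj s
            (le_trans (Finset.le_sup hj) (le_trans le_sup_left hs)))
        have h3 := sub_mem h1 h2
        rw [hr]
        ring_nf at h3 ⊢
        exact h3
      obtain ⟨S₀, hS₀⟩ := hclose n
      obtain ⟨c, hc⟩ := Ideal.mem_span_singleton'.mp (hS₀ S₀ le_rfl)
      set xn := (z S₀).coeff n + c with hxn
      have hxr : (p : R) ^ n * xn = r := by rw [hxn]; linear_combination hc
      refine ⟨Function.update f n xn, fun i hi => ?_, fun i hi N => ?_⟩
      · rcases Nat.lt_succ_iff_lt_or_eq.mp hi with h | h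
        · rw [← hf i h]
          refine Finset.sum_congr rfl fun j hj => ?_
          have := Finset.mem_range.mp hj
          rw [Function.update_of_ne (by omega)]
        · subst h
          rw [Finset.sum_range_succ, Nat.sub_self, pow_zero, pow_one, Function.update_self, hxr, hr]
          rw [Finset.sum_congr rfl fun j hj => by
            rw [Function.update_of_ne (ne_of_lt (Finset.mem_range.mp hj))]]
          ring
      · rcases Nat.lt_succ_iff_lt_or_eq.mp hi with h | h
        · rw [Function.update_of_ne (by omega)]
          exact hf' i h N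
        · subst h
          obtain ⟨S, hS⟩ := hclose (N + i)
          refine ⟨S, fun s hs => cancel' i N _ ?_⟩
          rw [Function.update_self, mul_sub, hxr]
          exact hS s hs
  obtain ⟨f, hf, -⟩ := key m le_rfl
  refine ⟨WittVector.mk p f, ?_⟩
  intro i
  induction i using Nat.strong_induction_on with
  | _ i ih =>
    intro hi
    set y := (p : WittVector p R) ^ u * WittVector.mk p f - a with hy
    have h0 : WittVector.ghostComponent i y = 0 := by
      rw [hy, map_sub, map_mul, map_pow, map_natCast, gh (WittVector.mk p f)]
      simp only [WittVector.coeff_mk]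
      rw [hf i hi, (hg i hi).1, sub_self]
    rw [gh, Finset.sum_range_succ, Nat.sub_self, pow_zero, pow_one, Finset.sum_eq_zero, zero_add] at h0
    · exact cancel i _ h0
    · intro j hj
      have hj' := Finset.mem_range.mp hj
      rw [ih j hj' (by omega), zero_pow (hpos _), mul_zero]

end Groth.Agent.S14861
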