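import Groth.Statements.S14862
import Mathlib
import Groth.Agent.S14861
-- import your own Groth.Agent.* helpers here

set_option autoImplicit false
universe u
open CAlg

namespace Groth.Agent.S14862

/-- Let p be a prime and S a commutative ring without p-torsion which is complete and separated for the
p-adic topology; write W = W(S) for the p-typical Witt vectors, I_r ⊆ W for the ideal of Witt
vectors whose first r components vanish (the image of the r-th iterate of the Verschiebung) and
W(p^s S) ⊆ W for the ideal of Witt vectors all of whose components lie in p^s S (the kernel of W(S)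
→ W(S/p^s S)). Then for every natural number u the ideal p^u W is closed for the linear topology on
W in which the ideals I_r + W(p^s S) form a neighbourhood basis of zero: the intersection over all r
and s of p^u W + I_r + W(p^s S) equals p^u W. (The published statement asks only that S have no
p-torsion; S is moreover taken p-adically complete and separated here, the case in which the result
is applied and through which the published proof goes.) -/
theorem result (p : ℕ) [Fact p.Prime] (S : Type u) [CommRing S]
    (hS : ∀ y : S, (p : S) * y = 0 → y = 0) [IsAdicComplete (Ideal.span {(p : S)}) S] (u : ℕ) :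
    (⨅ r : ℕ, ⨅ s : ℕ,
        Ideal.span {(p : WittVector p S) ^ u} ⊔ RingHom.ker (WittVector.truncate (p := p) (R := S) r) ⊔
          RingHom.ker (WittVector.map (p := p) (Ideal.Quotient.mk (Ideal.span {(p : S) ^ s})))) =
      Ideal.span {(p : WittVector p S) ^ u} := by
  classical
  refine le_antisymm (fun a ha => ?_) (le_iInf fun r => le_iInf fun s => le_trans le_sup_left le_sup_left)
  simp only [Submodule.mem_iInf] at ha
  have hcoeff : ∀ (r : ℕ) (y : WittVector p S),
      y ∈ RingHom.ker (WittVector.truncate (p := p) (R := S) r) ↔ ∀ i < r, y.coeff i = 0 :=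
    fun r y => WittVector.mem_ker_truncate r y
  have hm : ∀ m, ∃ x : WittVector p S, ∀ i < m, ((p : WittVector p S) ^ u * x - a).coeff i = 0 := by
    intro m
    refine Groth.Agent.S14861.result p S hS a m u fun s => ?_
    obtain ⟨y, hy, l, hl, hsum⟩ := Submodule.mem_sup.mp (ha m s)
    obtain ⟨q, hq, k, hk, rfl⟩ := Submodule.mem_sup.mp hy
    obtain ⟨z, rfl⟩ := Ideal.mem_span_singleton'.mp hq
    refine ⟨z, fun i hi => ?_⟩
    have h1 : WittVector.map (Ideal.Quotient.mk (Ideal.span {(p : S) ^ s}))
        ((p : WittVector p S) ^ u * z - a) =
        WittVector.map (Ideal.Quotient.mk (Ideal.span {(p : S) ^ s})) (-k) := by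
      have : (p : WittVector p S) ^ u * z - a = -k + -l := by rw [← hsum]; ring
      rw [this, map_add, map_neg _ l, RingHom.mem_ker.mp hl, neg_zero, add_zero]
    have h2 := congrArg (fun w => WittVector.coeff w i) h1
    simp only [WittVector.map_coeff] at h2
    rw [((hcoeff m (-k)).mp (neg_mem hk)) i hi, map_zero] at h2
    exact Ideal.Quotient.eq_zero_iff_mem.mp h2
  choose x hx using hm
  have gh : ∀ (x : WittVector p S) (n : ℕ), WittVector.ghostComponent n x =
      ∑ i ∈ Finset.range (n + 1), (p : S) ^ i * x.coeff i ^ p ^ (n - i) := by
    intro x n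
    simp [WittVector.ghostComponent_apply, wittPolynomial_eq_sum_C_mul_X_pow]
  have hpos : ∀ e : ℕ, p ^ e ≠ 0 := fun e => pow_ne_zero _ (Fact.out : p.Prime).ne_zero
  have cancel : ∀ (i : ℕ) (y : S), (p : S) ^ i * y = 0 → y = 0 := by
    intro i
    induction i with
    | zero => intro y hy; simpa using hy
    | succ i ih =>
      intro y hy
      rw [pow_succ, mul_assoc] at hy
      exact hS _ (ih _ hy)
  have hinj : ∀ (m : ℕ) (d : WittVector p S),
      (∀ i < m, ((p : WittVector p S) ^ u * d).coeff i = 0) → ∀ i < m, d.coeff i = 0 := by
    intro m d hd i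
    induction i using Nat.strong_induction_on with
    | _ i ih =>
      intro hi
      have h0 : WittVector.ghostComponent i ((p : WittVector p S) ^ u * d) = 0 := by
        rw [gh]
        refine Finset.sum_eq_zero fun j hj => ?_
        rw [hd j (by have := Finset.mem_range.mp hj; omega), zero_pow (hpos _), mul_zero]
      rw [map_mul, map_pow, map_natCast] at h0
      have h1 := cancel u _ h0
      rw [gh, Finset.sum_range_succ, Nat.sub_self, pow_zero, pow_one, Finset.sum_eq_zero, zero_add] at h1
      · exact cancel i _ h1
      · intro j hj
        have hj' := Finset.mem_range.mp hj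
        rw [ih j hj' (by omega), zero_pow (hpos _), mul_zero]
  have htr : ∀ (m : ℕ) (v w : WittVector p S), (∀ i < m, (v - w).coeff i = 0) →
      WittVector.truncate (p := p) m v = WittVector.truncate m w := by
    intro m v w h
    rw [← sub_eq_zero, ← map_sub]
    exact RingHom.mem_ker.mp ((hcoeff m _).mpr h)
  have htr' : ∀ (m : ℕ) (v w : WittVector p S),
      WittVector.truncate (p := p) m v = WittVector.truncate m w → ∀ i < m, (v - w).coeff i = 0 := by
    intro m v w h
    apply (hcoeff m _).mp
    rw [RingHom.mem_ker, map_sub, h, sub_self]
  have hcoh : ∀ k m, k ≤ m → ∀ i < k, (x k).coeff i = (x m).coeff i := by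
    intro k m hkm i hi
    have hd : ∀ j < k, ((p : WittVector p S) ^ u * (x k - x m)).coeff j = 0 := by
      rw [mul_sub]
      apply htr'
      rw [htr k _ a (hx k)]
      exact (htr k _ a fun j hj => hx m j (lt_of_lt_of_le hj hkm)).symm
    have h := htr k (x k) (x m) (hinj k _ hd)
    have := congrArg (fun t => TruncatedWittVector.coeff ⟨i, hi⟩ t) h
    simpa [WittVector.coeff_truncate] using this
  let X : WittVector p S := WittVector.mk p fun i => (x (i + 1)).coeff i
  refine Ideal.mem_span_singleton'.mpr ⟨X, ?_⟩
  ext i
  have hX : WittVector.truncate (p := p) (i + 1) X = WittVector.truncate (i + 1) (x (i + 1)) := by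
    ext j
    simp only [WittVector.coeff_truncate, X, WittVector.coeff_mk]
    exact hcoh _ _ (by omega) _ (Nat.lt_succ_self _)
  have h1 : WittVector.truncate (p := p) (i + 1) (X * (p : WittVector p S) ^ u) =
      WittVector.truncate (i + 1) a := by
    rw [map_mul, hX, ← map_mul, mul_comm]
    exact htr _ _ _ (hx (i + 1))
  have := congrArg (fun t => TruncatedWittVector.coeff ⟨i, Nat.lt_succ_self i⟩ t) h1
  simp only [WittVector.coeff_truncate] at this
  exact this
end Groth.Agent.S14862
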