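import Groth.Statements.S14864
import Mathlib
import Groth.Agent.Lib.WittDesc.Trunc

set_option autoImplicit false
universe u
open CAlg

namespace Groth.Agent.S14864

/-- Let p be a prime and R a commutative ring in which p is nilpotent; write W = W(R) for the p-typical
Witt vectors, I ⊆ W for the kernel of the projection onto the zeroth component, and I_n ⊆ W for the
kernel of the truncation W → W_n(R). The p-adic topology on W equals its I-adic topology — every
power of the ideal pW contains some power of I and every power of I contains some power of pW — and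
this common topology is finer than the V-adic one: every I_n contains some power of pW. -/
theorem result (p : ℕ) [Fact p.Prime] (R : Type u) [CommRing R]
    (hp : IsNilpotent (p : R)) :
    (∀ n : ℕ, ∃ m : ℕ, (RingHom.ker (WittVector.constantCoeff : WittVector p R →+* R)) ^ m ≤ Ideal.span {(p : WittVector p R)} ^ n) ∧
      (∀ n : ℕ, ∃ m : ℕ, Ideal.span {(p : WittVector p R)} ^ m ≤ (RingHom.ker (WittVector.constantCoeff : WittVector p R →+* R)) ^ n) ∧
        ∀ n : ℕ, ∃ m : ℕ, Ideal.span {(p : WittVector p R)} ^ m ≤ RingHom.ker (WittVector.truncate (p := p) (R := R) n) := by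
  obtain ⟨N, hN⟩ := hp
  let I := RingHom.ker (WittVector.constantCoeff : WittVector p R →+* R)
  have hV : ∀ x ∈ I, ∃ y : WittVector p R, x = WittVector.verschiebung y := fun x hx =>
    ⟨WittVector.mk p fun m => x.coeff (m + 1), WittVector.ext fun m => by
      cases m with
      | zero => rw [WittVector.verschiebung_coeff_zero]; exact hx
      | succ m => rw [WittVector.verschiebung_coeff_succ]; rfl⟩
  have hI2 : I * I ≤ Ideal.span {(p : WittVector p R)} * I := Ideal.mul_le.mpr fun x hx y hy => by
    obtain ⟨a, rfl⟩ := hV x hx
    obtain ⟨b, rfl⟩ := hV y hy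
    rw [← WittVector.verschiebung_mul_frobenius, WittVector.frobenius_verschiebung, ← mul_assoc,
      mul_comm _ (p : WittVector p R), ← nsmul_eq_mul, map_nsmul, nsmul_eq_mul]
    exact Ideal.mul_mem_mul (Ideal.subset_span rfl) (WittVector.verschiebung_coeff_zero (p := p) (R := R) (a * b))
  have hpm : ∀ n, (p : WittVector p R) ^ (N + n) ∈ I ^ n := by
    intro n
    let t := WittVector.teichmuller p (p : R)
    have hy : (p : WittVector p R) - t ∈ I := by
      rw [RingHom.mem_ker, map_sub, map_natCast, WittVector.constantCoeff_apply,
        WittVector.teichmuller_coeff_zero, sub_self]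
    have ht : t ^ N = 0 := by
      show WittVector.teichmuller p (p : R) ^ N = 0
      rw [← map_pow, hN, WittVector.teichmuller_zero]
    rw [show (p : WittVector p R) = t + ((p : WittVector p R) - t) by abel, add_pow]
    refine Submodule.sum_mem _ fun j hj => ?_
    refine Ideal.mul_mem_right _ _ ?_
    by_cases hjN : N ≤ j
    · rw [← Nat.add_sub_cancel' hjN, pow_add, ht, zero_mul, zero_mul]
      exact zero_mem _
    · exact Ideal.mul_mem_left _ _ (Ideal.pow_le_pow_right (by omega) (Ideal.pow_mem_pow hy _))
  refine ⟨fun n => ⟨n + 1, ?_⟩, fun n => ⟨N + n, ?_⟩, fun n => ?_⟩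
  · have h : ∀ n, I ^ (n + 1) ≤ Ideal.span {(p : WittVector p R)} ^ n * I := by
      intro n
      induction n with
      | zero => simp
      | succ n ih =>
        calc I ^ (n + 1 + 1) = I ^ (n + 1) * I := pow_succ _ _
          _ ≤ Ideal.span {(p : WittVector p R)} ^ n * I * I := Ideal.mul_mono_left ih
          _ ≤ Ideal.span {(p : WittVector p R)} ^ n * (Ideal.span {(p : WittVector p R)} * I) := by
            rw [mul_assoc]; exact Ideal.mul_mono_right hI2
          _ = _ := by rw [← mul_assoc, ← pow_succ]
    exact (h n).trans Ideal.mul_le_left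
  · rw [Ideal.span_singleton_pow, Ideal.span_singleton_le_iff_mem]
    exact hpm n
  · rcases n with _ | k
    · exact ⟨0, fun x _ => TruncatedWittVector.ext fun i => i.elim0⟩
    · obtain ⟨M, hM⟩ := GrothLib.WittDesc.exists_pow_ker_res_eq_bot p k hN
      refine ⟨N * M, ?_⟩
      rw [Ideal.span_singleton_pow, Ideal.span_singleton_le_iff_mem, RingHom.mem_ker, pow_mul, map_pow,
        map_pow, map_natCast]
      have h1 : (p : TruncatedWittVector p (k + 1) R) ^ N ∈ RingHom.ker (GrothLib.WittDesc.res p k) := by
        rw [RingHom.mem_ker, map_pow, map_natCast, hN]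
      have h2 := Ideal.pow_mem_pow h1 M
      rwa [hM, Submodule.mem_bot] at h2

end Groth.Agent.S14864
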