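import Groth.Statements.S14867
import Mathlib
import Groth.Agent.Lib.WittDesc.Effective

set_option autoImplicit false
universe u
open CAlg

namespace Groth.Agent.S14867

open GrothLib.WittDesc

variable {p : ℕ} [hp' : Fact p.Prime]

theorem exists_of_compatible {A : Type u} [CommRing A] (c : ∀ k, TruncatedWittVector p k A)
    (h : ∀ k, TruncatedWittVector.truncate (Nat.le_add_right k 1) (c (k + 1)) = c k) :
    ∃ x : WittVector p A, ∀ k, WittVector.truncate k x = c k := by
  refine ⟨WittVector.mk p fun m => (c (m + 1)).coeff (Fin.last m), fun k => ?_⟩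
  have key : ∀ (d m : ℕ), TruncatedWittVector.truncate (Nat.le_add_right m d) (c (m + d)) = c m := by
    intro d
    induction d with
    | zero => intro m; refine TruncatedWittVector.ext fun i => ?_; simp [TruncatedWittVector.coeff_truncate]
    | succ d ih =>
      intro m
      have h2 := congrArg (TruncatedWittVector.truncate (Nat.le_add_right m d)) (h (m + d))
      rw [TruncatedWittVector.truncate_truncate, ih] at h2
      exact h2
  refine TruncatedWittVector.ext fun i => ?_
  rw [WittVector.coeff_truncate]
  obtain ⟨iv, hiv⟩ := i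
  obtain ⟨d, rfl⟩ : ∃ d, k = iv + 1 + d := ⟨k - (iv + 1), by omega⟩
  have h3 := congrArg (TruncatedWittVector.coeff (Fin.last iv)) (key d (iv + 1))
  rw [TruncatedWittVector.coeff_truncate] at h3
  exact h3.symm

theorem witt_ext {A : Type u} [CommRing A] {x y : WittVector p A}
    (h : ∀ k, WittVector.truncate k x = WittVector.truncate k y) : x = y :=
  WittVector.ext fun m => by
    have := congrArg (TruncatedWittVector.coeff (Fin.last m)) (h (m + 1))
    rwa [WittVector.coeff_truncate, WittVector.coeff_truncate] at this

variable {S R : Type u} [CommRing S] [CommRing R] (φ : S →+* R)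

theorem isNilpotent_of_map_eq_zero (hnil : ∀ a : S, φ a = 0 → IsNilpotent a) :
    ∀ (k : ℕ) (x : TruncatedWittVector p k S), WittGrp.truncMap p k φ x = 0 → IsNilpotent x
  | 0, x, _ => ⟨1, by rw [pow_one]; exact TruncatedWittVector.ext fun i => i.elim0⟩
  | k + 1, x, hx => by
    have h0 : WittGrp.truncMap p k φ (TruncatedWittVector.truncate (Nat.le_add_right k 1) x) = 0 := by
      rw [← RingHom.comp_apply, ← truncate_truncMap, RingHom.comp_apply, hx, map_zero]
    obtain ⟨M, hM⟩ := isNilpotent_of_map_eq_zero hnil k _ h0
    have h1 := eq_jv_of_truncate_eq_zero p k (x ^ (M + 1)) (by rw [map_pow, pow_succ, hM, zero_mul])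
    generalize (x ^ (M + 1)).coeff (Fin.last k) = a at h1
    have ha : φ a = 0 := by
      apply jv_injective p k
      rw [← truncMap_jv, ← h1, map_pow, hx, zero_pow (Nat.succ_ne_zero M), map_zero]
    obtain ⟨N, hN⟩ := hnil a ha
    have h2 : ∀ l : ℕ, ∃ t : S, (jv p k a) ^ (l + 1) = jv p k (t * a ^ (l + 1)) := by
      intro l
      induction l with
      | zero => exact ⟨1, by simp⟩
      | succ l ih =>
        obtain ⟨t, ht⟩ := ih
        have h3 : ∀ b : S, wk p k (jv p k b) = (p : S) ^ k * b := by
          intro b
          rw [wk_eq_sum, Finset.sum_eq_single (Fin.last k)]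
          · simp [coeff_jv]
          · intro i _ hi
            rw [coeff_jv, if_neg (fun e : (i : ℕ) = k => hi (Fin.ext e)), zero_pow (pow_ne_zero _ hp'.out.ne_zero), mul_zero]
          · simp
        exact ⟨(p : S) ^ k * t, by rw [pow_succ, ht, mul_jv, h3]; congr 1; ring⟩
    obtain ⟨t, ht⟩ := h2 N
    refine ⟨(M + 1) * (N + 1), ?_⟩
    rw [pow_mul, h1, ht, pow_succ, hN, zero_mul, mul_zero, map_zero]

theorem isNilpotent_matrix {A : Type u} [CommRing A] {n : Type} [Fintype n] [DecidableEq n]
    (ν : Matrix n n A) (hν : ∀ i j, IsNilpotent (ν i j)) : IsNilpotent ν := by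
  let I : Ideal A := Ideal.span (Set.range fun q : n × n => ν q.1 q.2)
  have hI : IsNilpotent I := by
    rw [Ideal.FG.isNilpotent_iff_le_nilradical (Submodule.fg_span (Set.finite_range _)), Ideal.span_le]
    rintro _ ⟨q, rfl⟩
    exact hν q.1 q.2
  obtain ⟨N, hN⟩ := hI
  refine ⟨N, Matrix.ext fun i j => ?_⟩
  have := pow_mem_pow I ν (fun a b => Ideal.subset_span ⟨(a, b), rfl⟩) N i j
  rw [hN] at this
  exact (Submodule.mem_bot _).mp this

theorem exists_lift_idempotent (hφ : Function.Surjective φ) (hnil : ∀ a : S, φ a = 0 → IsNilpotent a)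
    {n : Type} [Fintype n] [DecidableEq n] (e : Matrix n n (WittVector p R)) (he : e * e = e) :
    ∃ E : Matrix n n (WittVector p S), E * E = E ∧ E.map (WittVector.map φ) = e := by
  let P := fun (k : ℕ) (x : Matrix n n (TruncatedWittVector p k S)) =>
    x * x = x ∧ x.map (WittGrp.truncMap p k φ) = e.map (WittVector.truncate k)
  have step : ∀ k x, P k x → ∃ y, P (k + 1) y ∧ y.map (TruncatedWittVector.truncate (Nat.le_add_right k 1)) = x := by
    intro k x hx
    let g : Matrix n n (TruncatedWittVector p (k + 1) S) →+*
        Matrix n n (TruncatedWittVector p k S) × Matrix n n (TruncatedWittVector p (k + 1) R) := (RingHom.mapMatrix (m := n) (TruncatedWittVector.truncate (p := p) (R := S) (Nat.le_add_right k 1))).prod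
      (RingHom.mapMatrix (m := n) (WittGrp.truncMap p (k + 1) φ))
    have hker : ∀ z ∈ RingHom.ker g, IsNilpotent z := by
      intro z hz
      refine isNilpotent_matrix z fun i j => isNilpotent_of_map_eq_zero φ hnil (k + 1) _ ?_
      have hz0 : g z = 0 := hz
      exact congrFun (congrFun (congrArg Prod.snd hz0) i) j
    have hran : (x, e.map (WittVector.truncate (k + 1))) ∈ g.range := by
      have hz : ∀ i j, ∃ z : TruncatedWittVector p (k + 1) S,
          TruncatedWittVector.truncate (Nat.le_add_right k 1) z = x i j ∧
            WittGrp.truncMap p (k + 1) φ z = WittVector.truncate (k + 1) (e i j) := by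
        intro i j
        obtain ⟨z0, hz0⟩ := TruncatedWittVector.truncate_surjective (p := p) (R := S) (Nat.le_add_right k 1) (x i j)
        let d := WittVector.truncate (k + 1) (e i j) - WittGrp.truncMap p (k + 1) φ z0
        have hd : TruncatedWittVector.truncate (Nat.le_add_right k 1) d = 0 := by
          show TruncatedWittVector.truncate _ (_ - _) = 0
          rw [map_sub, TruncatedWittVector.truncate_wittVector_truncate, ← RingHom.comp_apply _ (WittGrp.truncMap p (k + 1) φ),
            truncate_truncMap, RingHom.comp_apply, hz0, sub_eq_zero]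
          exact (congrFun (congrFun hx.2 i) j).symm
        obtain ⟨r, hr⟩ := hφ (d.coeff (Fin.last k))
        refine ⟨z0 + jv p k r, by rw [map_add, truncate_jv, add_zero, hz0], ?_⟩
        rw [map_add, truncMap_jv, hr, ← eq_jv_of_truncate_eq_zero p k d hd]
        show _ + (_ - _) = _
        abel
      choose z hz1 hz2 using hz
      exact ⟨Matrix.of z, Prod.ext (Matrix.ext fun i j => hz1 i j) (Matrix.ext fun i j => hz2 i j)⟩
    obtain ⟨y, hy, hgy⟩ := exists_isIdempotentElem_eq_of_ker_isNilpotent g hker _ hran
      (Prod.ext hx.1 (by show _ * _ = _; rw [← Matrix.map_mul, he]))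
    exact ⟨y, ⟨hy, congrArg Prod.snd hgy⟩, congrArg Prod.fst hgy⟩
  have h0 : ∀ A : Type u, Subsingleton (TruncatedWittVector p 0 A) := fun A =>
    ⟨fun _ _ => TruncatedWittVector.ext fun i => i.elim0⟩
  choose nxt hnxt hnxt' using step
  let c : ∀ k, {x // P k x} := fun k => Nat.rec
    ⟨0, Matrix.ext fun _ _ => (h0 S).elim _ _, Matrix.ext fun _ _ => (h0 R).elim _ _⟩
    (fun k x => ⟨nxt k x.1 x.2, hnxt k x.1 x.2⟩) k
  choose E hE using fun i j => exists_of_compatible (fun k => (c k).1 i j) fun k =>
    congrFun (congrFun (hnxt' k (c k).1 (c k).2) i) j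
  have hEk : ∀ k, (Matrix.of E).map (WittVector.truncate k) = (c k).1 := fun k =>
    Matrix.ext fun i j => hE i j k
  refine ⟨Matrix.of E, Matrix.ext fun i j => witt_ext fun k => ?_, Matrix.ext fun i j => witt_ext fun k => ?_⟩
  · have h1 : (Matrix.of E * Matrix.of E).map (WittVector.truncate k) = (Matrix.of E).map (WittVector.truncate k) := by
      rw [Matrix.map_mul, hEk, (c k).2.1]
    exact congrFun (congrFun h1 i) j
  · rw [Matrix.map_apply, ← WittGrp.truncMap_truncate]
    show WittGrp.truncMap p k φ (WittVector.truncate k (E i j)) = _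
    rw [hE]
    exact congrFun (congrFun (c k).2.2 i) j

theorem ker_le_jacobson (hnil : ∀ a : S, φ a = 0 → IsNilpotent a) :
    RingHom.ker (WittVector.map (p := p) φ) ≤ Ideal.jacobson (⊥ : Ideal (WittVector p S)) := by
  intro x hx
  rw [Ideal.mem_jacobson_bot]
  intro y
  have hk : ∀ k, IsUnit (WittVector.truncate k (x * y + 1)) := fun k => by
    rw [map_add, map_one]
    refine IsNilpotent.isUnit_add_one (isNilpotent_of_map_eq_zero φ hnil k _ ?_)
    rw [WittGrp.truncMap_truncate, map_mul, RingHom.mem_ker.mp hx, zero_mul, map_zero]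
  obtain ⟨u, hu⟩ := exists_of_compatible (fun k => (↑(hk k).unit⁻¹ : TruncatedWittVector p k S)) fun k => by
    refine (hk k).mul_left_cancel ?_
    rw [IsUnit.mul_val_inv (hk k), ← TruncatedWittVector.truncate_wittVector_truncate (Nat.le_add_right k 1),
      ← map_mul, IsUnit.mul_val_inv (hk (k + 1)), map_one]
  exact IsUnit.of_mul_eq_one u (witt_ext fun k => by rw [map_mul, hu, IsUnit.mul_val_inv (hk k), map_one])


/-- Let p be a prime and S → R a surjective homomorphism of commutative rings such that every element of
its kernel 𝔞 is nilpotent and p is nilpotent in S; write J = W(𝔞) for the kernel of the induced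
surjection W(S) → W(R) of rings of p-typical Witt vectors. Then finitely generated projective
modules lift along W(S) → W(R), uniquely up to isomorphism: for every finitely generated projective
W(R)-module P there is a finitely generated projective W(S)-module P̃ together with a surjection P̃
→ P, semilinear over W(S) → W(R), whose kernel is J·P̃ (that is, an isomorphism W(R) ⊗_{W(S)} P̃ ≅
P); and for any two such pairs (P̃_1, π_1), (P̃_2, π_2) there is a W(S)-linear isomorphism P̃_1 ≅
P̃_2 compatible with π_1 and π_2. -/
theorem result (p : ℕ) [Fact p.Prime] (S R : Type u)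
    [CommRing S] [CommRing R] (φ : S →+* R) (hφ : Function.Surjective φ)
    (hnil : ∀ a : S, φ a = 0 → IsNilpotent a) (hp : IsNilpotent (p : S))
    (P : Type u) [AddCommGroup P] [Module (WittVector p R) P]
    [Module.Finite (WittVector p R) P] [Module.Projective (WittVector p R) P] :
    (∃ (P' : Type u) (_ : AddCommGroup P') (_ : Module (WittVector p S) P'),
        Module.Finite (WittVector p S) P' ∧ Module.Projective (WittVector p S) P' ∧
          ∃ π : P' →ₛₗ[WittVector.map (p := p) φ] P, Function.Surjective π ∧
            LinearMap.ker π = RingHom.ker (WittVector.map (p := p) φ) • (⊤ : Submodule (WittVector p S) P')) ∧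
      ∀ (P₁ : Type u) [AddCommGroup P₁] [Module (WittVector p S) P₁]
        [Module.Finite (WittVector p S) P₁] [Module.Projective (WittVector p S) P₁]
        (P₂ : Type u) [AddCommGroup P₂] [Module (WittVector p S) P₂]
        [Module.Finite (WittVector p S) P₂] [Module.Projective (WittVector p S) P₂]
        (π₁ : P₁ →ₛₗ[WittVector.map (p := p) φ] P) (π₂ : P₂ →ₛₗ[WittVector.map (p := p) φ] P),
        Function.Surjective π₁ →
          LinearMap.ker π₁ = RingHom.ker (WittVector.map (p := p) φ) • (⊤ : Submodule (WittVector p S) P₁) →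
        Function.Surjective π₂ →
          LinearMap.ker π₂ = RingHom.ker (WittVector.map (p := p) φ) • (⊤ : Submodule (WittVector p S) P₂) →
        ∃ e : P₁ ≃ₗ[WittVector p S] P₂, ∀ x : P₁, π₂ (e x) = π₁ x := by
  classical
  let W := WittVector p S
  let J := RingHom.ker (WittVector.map (p := p) φ)
  have hsurj : Function.Surjective (WittVector.map (p := p) φ) := WittVector.map_surjective φ hφ
  refine ⟨?_, ?_⟩
  · obtain ⟨m, π, i, -, -, hπi⟩ := Module.Finite.exists_comp_eq_id_of_projective (WittVector p R) P
    have hπi' : ∀ y, π (i y) = y := fun y => LinearMap.congr_fun hπi y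
    let e : Matrix (Fin m) (Fin m) (WittVector p R) := LinearMap.toMatrix' (i.comp π)
    have hev : ∀ v, e.mulVec v = i (π v) := fun v => LinearMap.toMatrix'_mulVec (i.comp π) v
    have he : e * e = e := by
      show LinearMap.toMatrix' _ * LinearMap.toMatrix' _ = _
      rw [← LinearMap.toMatrix'_comp]
      exact congrArg _ (LinearMap.ext fun v => congrArg i (hπi' _))
    obtain ⟨E, hE, hEe⟩ := exists_lift_idempotent φ hφ hnil e he
    let ε := Matrix.mulVecLin E
    have hmap : ∀ v : Fin m → W, (fun l => WittVector.map (p := p) φ (E.mulVec v l)) =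
        e.mulVec (fun l => WittVector.map (p := p) φ (v l)) := fun v => by
      rw [← hEe]
      exact funext fun l => RingHom.map_mulVec (WittVector.map φ) E v l
    have hfix : ∀ x : LinearMap.range ε, E.mulVec x.1 = x.1 := by
      rintro ⟨_, w, rfl⟩
      show E.mulVec (E.mulVec w) = E.mulVec w
      rw [Matrix.mulVec_mulVec, hE]
    let π' : LinearMap.range ε →ₛₗ[WittVector.map (p := p) φ] P :=
      { toFun := fun x => π fun l => WittVector.map (p := p) φ (x.1 l)
        map_add' := fun x y => by
          rw [← map_add π]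
          exact congrArg π (funext fun l => map_add _ _ _)
        map_smul' := fun s x => by
          rw [← map_smul π]
          exact congrArg π (funext fun l => map_mul _ _ _) }
    refine ⟨LinearMap.range ε, inferInstance, inferInstance, Module.Finite.range ε,
      Module.Projective.of_split (LinearMap.range ε).subtype ε.rangeRestrict
        (LinearMap.ext fun x => Subtype.ext (hfix x)), π', ?_, ?_⟩
    · intro y
      choose v hv using fun l => hsurj (i y l)
      refine ⟨ε.rangeRestrict v, ?_⟩
      show π (fun l => WittVector.map (p := p) φ (E.mulVec v l)) = y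
      rw [hmap, hev, hπi', show (fun l => WittVector.map (p := p) φ (v l)) = i y from funext hv, hπi']
    · refine le_antisymm (fun x hx => ?_) (Submodule.smul_le.mpr fun j hj x _ => ?_)
      · have hxJ : ∀ l, x.1 l ∈ J := fun l => by
          have h1 := hmap x.1
          rw [hfix x, hev, show π (fun l => WittVector.map (p := p) φ (x.1 l)) = 0 from hx, map_zero] at h1
          exact congrFun h1 l
        have hsum : x = ∑ l, x.1 l • ε.rangeRestrict (Pi.single l 1) := by
          refine Subtype.ext ?_
          show x.1 = (LinearMap.range ε).subtype (∑ l, x.1 l • ε.rangeRestrict (Pi.single l 1))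
          rw [map_sum]
          show x.1 = ∑ l, x.1 l • ε (Pi.single l 1)
          simp only [← map_smul, ← map_sum]
          rw [← pi_eq_sum_univ' x.1]
          exact (hfix x).symm
        rw [hsum]
        exact sum_mem fun l _ => Submodule.smul_mem_smul (hxJ l) Submodule.mem_top
      · rw [LinearMap.mem_ker, map_smulₛₗ, RingHom.mem_ker.mp hj, zero_smul]
  · intro P₁ _ _ _ _ P₂ _ _ _ _ π₁ π₂ hs₁ hk₁ hs₂ hk₂
    letI : Module (WittVector p S) P := Module.compHom P (WittVector.map (p := p) φ)
    let q₁ : P₁ →ₗ[WittVector p S] P :=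
      { toFun := π₁, map_add' := map_add π₁, map_smul' := fun s x => π₁.map_smulₛₗ s x }
    let q₂ : P₂ →ₗ[WittVector p S] P :=
      { toFun := π₂, map_add' := map_add π₂, map_smul' := fun s x => π₂.map_smulₛₗ s x }
    obtain ⟨a, ha⟩ := Module.projective_lifting_property q₂ q₁ hs₂
    obtain ⟨b, hb⟩ := Module.projective_lifting_property q₁ q₂ hs₁
    have hJ := ker_le_jacobson (p := p) φ hnil
    have sj : ∀ {Q : Type u} [AddCommGroup Q] [Module (WittVector p S) Q] [Module.Finite (WittVector p S) Q]
        (q : Q →ₗ[WittVector p S] P) (h : Q →ₗ[WittVector p S] Q),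
        LinearMap.ker q ≤ J • ⊤ → (∀ x, q (h x) = q x) → Function.Surjective h := by
      intro Q _ _ _ q h hq hh
      rw [← LinearMap.range_eq_top]
      refine eq_top_iff.mpr (Submodule.le_of_le_smul_of_le_jacobson_bot Module.Finite.fg_top hJ fun x _ => ?_)
      refine Submodule.mem_sup.mpr ⟨h x, ⟨x, rfl⟩, x - h x, hq ?_, add_sub_cancel _ _⟩
      rw [LinearMap.mem_ker, map_sub, hh, sub_self]
    have e1 : Function.Surjective (b.comp a) := sj q₁ _ (fun x hx => hk₁.le hx)
      fun x => (LinearMap.congr_fun hb (a x)).trans (LinearMap.congr_fun ha x)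
    have e2 : Function.Surjective (a.comp b) := sj q₂ _ (fun x hx => hk₂.le hx)
      fun x => (LinearMap.congr_fun ha (b x)).trans (LinearMap.congr_fun hb x)
    have i1 : Function.Injective (b ∘ a) := (OrzechProperty.bijective_of_surjective_endomorphism _ e1).1
    exact ⟨LinearEquiv.ofBijective a ⟨i1.of_comp, Function.Surjective.of_comp (g := b) e2⟩,
      fun x => LinearMap.congr_fun ha x⟩

end Groth.Agent.S14867
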