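import Groth.Statements.S14869
import Mathlib
-- import your own Groth.Agent.* helpers here

set_option autoImplicit false
universe u v w
open CAlg

namespace Groth.Agent.S14869

open TensorProduct in
/-- Let S → R be a surjective homomorphism of commutative rings, let π : P_1 → P_2 be a surjective
homomorphism of S-modules with P_2 projective, and let π̄ : R ⊗_S P_1 → R ⊗_S P_2 be its base
change. Then every R-linear section σ̄ of π̄ lifts to a section of π: there is an S-linear map σ :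
P_2 → P_1 with π ∘ σ = id whose base change R ⊗_S σ is σ̄. -/
theorem result (S R : Type u) [CommRing S] [CommRing R] [Algebra S R]
    (hSR : Function.Surjective (algebraMap S R))
    (P₁ : Type v) [AddCommGroup P₁] [Module S P₁]
    (P₂ : Type w) [AddCommGroup P₂] [Module S P₂] [Module.Projective S P₂]
    (π : P₁ →ₗ[S] P₂) (hπ : Function.Surjective π)
    (σ' : R ⊗[S] P₂ →ₗ[R] R ⊗[S] P₁) (hσ' : (π.baseChange R).comp σ' = LinearMap.id) :
    ∃ σ : P₂ →ₗ[S] P₁, π.comp σ = LinearMap.id ∧ σ.baseChange R = σ' := by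
  classical
  let μ₁ : P₁ →ₗ[S] R ⊗[S] P₁ := TensorProduct.mk S R P₁ 1
  let μ₂ : P₂ →ₗ[S] R ⊗[S] P₂ := TensorProduct.mk S R P₂ 1
  have hμ₁ : Function.Surjective μ₁ := TensorProduct.mk_surjective S P₁ R hSR
  obtain ⟨σ₀, hσ₀⟩ := Module.projective_lifting_property μ₁ ((σ'.restrictScalars S) ∘ₗ μ₂) hμ₁
  have hex : Function.Exact (RingHom.ker (algebraMap S R)).subtype (Algebra.linearMap S R) :=
    LinearMap.exact_subtype_ker_map (Algebra.linearMap S R)
  have hker : ∀ y ∈ LinearMap.ker μ₂, ∃ x ∈ LinearMap.ker μ₁, π x = y := by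
    intro y hy
    have h0 : (Algebra.linearMap S R).rTensor P₂ ((1 : S) ⊗ₜ y) = 0 := by
      rw [LinearMap.rTensor_tmul, Algebra.linearMap_apply, map_one]; exact hy
    obtain ⟨w, hw⟩ := (rTensor_exact P₂ hex hSR _).mp h0
    obtain ⟨w', rfl⟩ := LinearMap.lTensor_surjective _ hπ w
    refine ⟨TensorProduct.lid S P₁ ((RingHom.ker (algebraMap S R)).subtype.rTensor P₁ w'), ?_, ?_⟩
    · clear hw
      induction w' using TensorProduct.induction_on with
      | zero => simp
      | tmul a m =>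
        rw [LinearMap.rTensor_tmul, TensorProduct.lid_tmul, LinearMap.mem_ker, map_smul]
        show (a : S) • ((1 : R) ⊗ₜ[S] m) = 0
        rw [TensorProduct.smul_tmul', ← Algebra.algebraMap_eq_smul_one, RingHom.mem_ker.mp a.2, TensorProduct.zero_tmul]
      | add a b ha hb => simp only [map_add]; exact add_mem ha hb
    · have key : ∀ w', TensorProduct.lid S P₂ ((RingHom.ker (algebraMap S R)).subtype.rTensor P₂ (π.lTensor _ w')) =
          π (TensorProduct.lid S P₁ ((RingHom.ker (algebraMap S R)).subtype.rTensor P₁ w')) := fun w' ↦ by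
        induction w' using TensorProduct.induction_on with
        | zero => simp
        | tmul a m => simp
        | add a b ha hb => simp only [map_add, ha, hb]
      rw [← key, hw, TensorProduct.lid_tmul, one_smul]
  have hπμ : ∀ x, μ₂ (π x) = π.baseChange R (μ₁ x) := fun x ↦ rfl
  have hσ₀' : ∀ y, μ₁ (σ₀ y) = σ' (μ₂ y) := fun y ↦ LinearMap.congr_fun hσ₀ y
  let δ : P₂ →ₗ[S] LinearMap.ker μ₂ := (LinearMap.id - π ∘ₗ σ₀).codRestrict _ fun y ↦ by
    rw [LinearMap.mem_ker, LinearMap.sub_apply, map_sub, LinearMap.id_apply, LinearMap.comp_apply, hπμ, hσ₀', sub_eq_zero]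
    exact (LinearMap.congr_fun hσ' (μ₂ y)).symm
  let πk : LinearMap.ker μ₁ →ₗ[S] LinearMap.ker μ₂ := (π ∘ₗ (LinearMap.ker μ₁).subtype).codRestrict _ fun x ↦ by
    rw [LinearMap.mem_ker, LinearMap.comp_apply, hπμ, Submodule.coe_subtype, LinearMap.mem_ker.mp x.2, map_zero]
  have hπk : Function.Surjective πk := fun y ↦ by
    obtain ⟨x, hx, hxy⟩ := hker y.1 y.2
    exact ⟨⟨x, hx⟩, Subtype.ext hxy⟩
  obtain ⟨δ₁, hδ₁⟩ := Module.projective_lifting_property πk δ hπk
  refine ⟨σ₀ + (LinearMap.ker μ₁).subtype ∘ₗ δ₁, LinearMap.ext fun y ↦ ?_, ?_⟩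
  · have h := congrArg Subtype.val (LinearMap.congr_fun hδ₁ y)
    simp only [LinearMap.comp_apply, LinearMap.add_apply, map_add, Submodule.coe_subtype, LinearMap.id_apply]
    rw [show π ((δ₁ y) : P₁) = y - π (σ₀ y) from h]
    abel
  · refine TensorProduct.AlgebraTensorModule.curry_injective (LinearMap.ext_ring (LinearMap.ext fun y ↦ ?_))
    show (1 : R) ⊗ₜ[S] (σ₀ y + (δ₁ y : P₁)) = σ' ((1 : R) ⊗ₜ[S] y)
    rw [TensorProduct.tmul_add]
    show μ₁ (σ₀ y) + μ₁ (δ₁ y : P₁) = σ' (μ₂ y)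
    rw [hσ₀', LinearMap.mem_ker.mp (δ₁ y).2, add_zero]

end Groth.Agent.S14869
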