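import Groth.Statements.S1487
import Groth.Agent.Lib.FormalLift.Basic
-- import your own Groth.Agent.* helpers here

set_option autoImplicit false
universe u
open FlatMor

namespace Groth.Agent.S1487

open AlgebraicGeometry CategoryTheory Limits in
/-- (1) ⇔ (3): a morphism f : X → Y is formally étale (unique lifting against first order thickenings of
affine schemes, rings in the same universe) if and only if for all affine opens U ⊆ f⁻¹(V) the ring
map O_Y(V) → O_X(U) is formally étale. -/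
theorem result {X Y : Scheme.{u}} (f : X ⟶ Y) :
    MoreMor.IsFormallyEtaleHom f ↔ ∀ (U : X.Opens) (V : Y.Opens) (hU : IsAffineOpen U) (hV : IsAffineOpen V) (hUV : U ≤ f ⁻¹ᵁ V),
      letI := (f.appLE V U hUV).hom.toAlgebra
      Algebra.FormallyEtale Γ(Y, V) Γ(X, U) := by
  refine ⟨fun H U V hU hV hUV => ?_, fun H => ?_⟩
  · exact Groth.Agent.S1489.formallyEtale_of_lift _ (Groth.Agent.S1489.isFormallyEtaleHom_restrict f
      hU.fromSpec hV.fromSpec _ (IsAffineOpen.SpecMap_appLE_fromSpec f hV hU hUV) H)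
  refine GrothLib.FormalLift.isFormallyEtaleHom_of_local f fun x => ?_
  obtain ⟨_, ⟨V, hV, rfl⟩, hfx, -⟩ :=
    Y.isBasis_affineOpens.exists_subset_of_mem_open (Set.mem_univ (f x)) isOpen_univ
  obtain ⟨_, ⟨U, hU, rfl⟩, hxU, hle⟩ :=
    X.isBasis_affineOpens.exists_subset_of_mem_open (a := x) (show x ∈ f ⁻¹ᵁ V from hfx) (f ⁻¹ᵁ V).2
  refine ⟨U, V, hle, hxU, ?_⟩
  haveI := H U V hU hV hle
  refine Groth.Agent.S1489.isFormallyEtaleHom_restrict (Spec.map (f.appLE V U hle)) hU.isoSpec.hom
    hV.isoSpec.hom _ ?_ (GrothLib.FormalLift.isFormallyEtaleHom_specMap _ this)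
  rw [← cancel_mono hV.fromSpec, Category.assoc, Category.assoc, IsAffineOpen.isoSpec_hom_fromSpec,
    IsAffineOpen.SpecMap_appLE_fromSpec f hV hU hle, IsAffineOpen.isoSpec_hom_fromSpec_assoc,
    Scheme.Hom.resLE_comp_ι]

end Groth.Agent.S1487
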