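import Groth.Statements.S14875
import Mathlib.Algebra.Lie.Engel
import Mathlib.Algebra.Lie.Killing
import Mathlib.LinearAlgebra.BilinearForm.Orthogonal
import Mathlib.LinearAlgebra.Trace

set_option autoImplicit false
universe u v
open PLie

namespace Groth.Agent.S14875

/-- Let `L` be a finite-dimensional Lie algebra over a field of characteristic `p` equipped with a
`p`-mapping `φ`, whose Killing form is non-degenerate. Let `U` and `H` be Lie subalgebras of `L`
such that `H` is the normaliser of `U`, `U` is the set of elements of `H` that lie in the solvable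
radical of `H` and are `p`-nilpotent, and the orthogonal of `U` for the Killing form is closed under
the bracket. Then `U` is the orthogonal of `H` for the Killing form. (The published statement is for
the Lie algebra of a reductive group over a field of characteristic `p` with its canonical
`p`-structure; this row states it for any finite-dimensional Lie algebra with a `p`-mapping.) -/
theorem result
    (k : Type u) [Field k] (p : ℕ) [Fact p.Prime] [CharP k p]
    (L : Type v) [LieRing L] [LieAlgebra k L] [Module.Finite k L]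
    (φ : PLie.PMap k p L) (hκ : (killingForm k L).Nondegenerate)
    (U H : LieSubalgebra k L) (hH : H = U.normalizer)
    (hU : ∀ x : L, x ∈ U ↔ ∃ hx : x ∈ H, (⟨x, hx⟩ : ↥H) ∈ LieAlgebra.radical k ↥H ∧ PLie.IsPNilpotent φ x)
    (hperp : ∀ a b : L, (∀ y ∈ U, killingForm k L a y = 0) → (∀ y ∈ U, killingForm k L b y = 0) →
      ∀ y ∈ U, killingForm k L ⁅a, b⁆ y = 0) :
    ∀ x : L, x ∈ U ↔ ∀ h ∈ H, killingForm k L h x = 0 := by
  classical
  have hUH : ∀ x ∈ U, x ∈ H := fun x hx => ((hU x).1 hx).1
  have had : ∀ x ∈ U, IsNilpotent (LieAlgebra.ad k L x) := by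
    intro x hx
    obtain ⟨-, -, n, hn⟩ := (hU x).1 hx
    refine ⟨p ^ n, ?_⟩
    have key : ∀ n : ℕ, LieAlgebra.ad k L (φ.toFun^[n] x) = LieAlgebra.ad k L x ^ (p ^ n) := by
      intro n
      induction n with
      | zero => simp
      | succ n ih => rw [Function.iterate_succ_apply', φ.ad_map, ih, ← pow_mul, ← pow_succ]
    rw [← key, hn, map_zero]
  haveI : LieModule.IsNilpotent U L := by
    rw [LieModule.isNilpotent_iff_forall (R := k)]
    exact fun u => had u.1 u.2
  obtain ⟨N, hN⟩ := (LieModule.isNilpotent_iff k U L).1 ‹_›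
  have hnorm : ∀ h ∈ H, ∀ u ∈ U, ⁅h, u⁆ ∈ U := fun h hh =>
    (LieSubalgebra.mem_normalizer_iff U h).1 (by rw [← hH]; exact hh)
  let M : ℕ → LieSubmodule k U L := fun i => LieModule.lowerCentralSeries k U L i
  have hstab : ∀ i, ∀ h ∈ H, ∀ m ∈ M i, ⁅h, m⁆ ∈ M i := by
    intro i
    induction i with
    | zero => exact fun h _ m _ => LieSubmodule.mem_top _
    | succ i ih =>
      intro h hh m hm
      change m ∈ LieModule.lowerCentralSeries k U L (i + 1) at hm
      rw [LieModule.lowerCentralSeries_succ, ← LieSubmodule.mem_toSubmodule,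
        LieSubmodule.lieIdeal_oper_eq_linear_span'] at hm
      induction hm using Submodule.span_induction with
      | mem y hy =>
        obtain ⟨u, -, m', hm', rfl⟩ := hy
        change ⁅h, ⁅(u : L), m'⁆⁆ ∈ LieModule.lowerCentralSeries k U L (i + 1)
        rw [leibniz_lie, LieModule.lowerCentralSeries_succ]
        exact add_mem (LieSubmodule.lie_mem_lie (LieSubmodule.mem_top (⟨_, hnorm h hh u u.2⟩ : U)) hm')
          (LieSubmodule.lie_mem_lie (LieSubmodule.mem_top u) (ih h hh m' hm'))
      | zero => rw [lie_zero]; exact zero_mem _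
      | add a b _ _ ha hb => rw [lie_add]; exact add_mem ha hb
      | smul c a _ ha => rw [lie_smul]; exact SMulMemClass.smul_mem c ha
  have hUperp : ∀ u ∈ U, ∀ h ∈ H, killingForm k L h u = 0 := by
    intro u hu h hh
    rw [killingForm, LieModule.traceForm_apply_apply]
    refine IsNilpotent.eq_zero (LinearMap.isNilpotent_trace_of_isNilpotent ⟨N, ?_⟩)
    have key : ∀ i : ℕ, ∀ m : L, (((LieModule.toEnd k L L) h ∘ₗ (LieModule.toEnd k L L) u) ^ i) m ∈ M i := by
      intro i
      induction i with
      | zero => exact fun m => LieSubmodule.mem_top _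
      | succ i ih =>
        intro m
        rw [pow_succ', Module.End.mul_apply]
        refine hstab (i + 1) h hh _ ?_
        change ⁅(⟨u, hu⟩ : U), _⁆ ∈ LieModule.lowerCentralSeries k U L (i + 1)
        rw [LieModule.lowerCentralSeries_succ]
        exact LieSubmodule.lie_mem_lie (LieSubmodule.mem_top _) (ih m)
    refine LinearMap.ext fun m => ?_
    have h0 := key N m
    simp only [M, hN, LieSubmodule.mem_bot] at h0
    simpa using h0
  intro x
  refine ⟨fun hx h hh => hUperp x hx h hh, fun hx => ?_⟩
  let B : LinearMap.BilinForm k L := killingForm k L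
  have hsymm : ∀ a b : L, B a b = B b a := fun a b => LieModule.traceForm_comm k L L a b
  have hrefl : B.IsRefl := fun a b hab => by rw [hsymm]; exact hab
  have hUU := LinearMap.BilinForm.orthogonal_orthogonal hκ hrefl U.toSubmodule
  change x ∈ U.toSubmodule
  rw [← hUU, LinearMap.BilinForm.mem_orthogonal_iff]
  intro a ha
  rw [LinearMap.BilinForm.mem_orthogonal_iff] at ha
  have ha' : ∀ y ∈ U, B a y = 0 := fun y hy => (hsymm a y).trans (ha y hy)
  refine hx a ?_
  rw [hH, LieSubalgebra.mem_normalizer_iff]
  intro u hu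
  change ⁅a, u⁆ ∈ U.toSubmodule
  rw [← hUU, LinearMap.BilinForm.mem_orthogonal_iff]
  intro b hb
  rw [LinearMap.BilinForm.mem_orthogonal_iff] at hb
  change B b ⁅a, u⁆ = 0
  rw [show B b ⁅a, u⁆ = B ⁅b, a⁆ u from (LieModule.traceForm_apply_lie_apply k L L b a u).symm]
  exact hperp b a (fun y hy => (hsymm b y).trans (hb y hy)) ha' u hu


end Groth.Agent.S14875
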