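import Groth.Statements.S14879
import Mathlib.LinearAlgebra.Matrix.Permutation
import Mathlib.GroupTheory.Perm.Fin
import Mathlib.LinearAlgebra.Matrix.Determinant.Basic
-- import your own Groth.Agent.* helpers here

set_option autoImplicit false
universe u
open Finset
open AlgGrp

namespace Groth.Agent.S14879

/-- Let k be a field of characteristic zero, n = p + r with p, r ≥ 1, M an n × n matrix over k, A a set
of p row indices and B a set of r row indices, both listed increasingly. For a permutation π of the
indices, with permutation matrix P_π, let Y_A(M·P_π) be the minor of M·P_π on the rows A and the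
first p columns, and Z_B(M·P_π) the minor on the rows B and the last r columns. Then the sum over
all π of sign(π)·Y_A(M·P_π)·Z_B(M·P_π) equals p!·r!·(−1)^N·det M when B is the complement of A,
where N is the number of pairs (a, b) with a in A, b outside A and b < a, and equals 0 otherwise.
Taking det M = 1 this says that the pairing (f, h) ↦ Σ_π sign(π) f(π) h(π) between the spans of the
left p-minors and of the right r-minors is invariant under left translation by matrices of
determinant one and pairs Y_A with the signed complementary minor to p!·r!. (The published statement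
asserts that the two families of minors are dual bases for this pairing, that is, the value 1 in
place of p!·r!; the p!·r! permutations preserving the two column blocks each contribute the same
signed term, so this row carries that factor, which is 1 only for n = 2.) -/
theorem result (k : Type u) [Field k] [CharZero k]
    (p r : ℕ) (hp : 1 ≤ p) (hr : 1 ≤ r) (M : Matrix (Fin (p + r)) (Fin (p + r)) k)
    (A : Finset (Fin (p + r))) (hA : A.card = p) (B : Finset (Fin (p + r))) (hB : B.card = r) :
    ∑ π : Equiv.Perm (Fin (p + r)), (((Equiv.Perm.sign π : ℤˣ) : ℤ) : k) *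
      ((M * π.permMatrix k).submatrix (A.orderEmbOfFin hA) (Fin.castAdd r)).det *
      ((M * π.permMatrix k).submatrix (B.orderEmbOfFin hB) (Fin.natAdd p)).det =
    if B = Aᶜ then ((p.factorial * r.factorial : ℕ) : k) *
      (-1 : k) ^ ((A ×ˢ Aᶜ).filter (fun ab => ab.2 < ab.1)).card * M.det else 0 := by
  classical
  let a : Fin p → Fin (p + r) := A.orderEmbOfFin hA
  let b : Fin r → Fin (p + r) := B.orderEmbOfFin hB
  let row : Fin (p + r) → Fin (p + r) := Fin.append a b
  have hcol : ∀ π : Equiv.Perm (Fin (p + r)), ∀ i j, (M * π.permMatrix k) i j = M i (π.symm j) := by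
    intro π i j
    rw [Equiv.Perm.permMatrix, PEquiv.mul_toMatrix_toPEquiv]
    rfl
  have hexp : ∀ (σ : Equiv.Perm (Fin p)) (τ : Equiv.Perm (Fin r)),
      ∑ π : Equiv.Perm (Fin (p + r)), (((Equiv.Perm.sign π : ℤˣ) : ℤ) : k) *
        ((∏ i, M (a (σ i)) (π.symm (Fin.castAdd r i))) * ∏ i, M (b (τ i)) (π.symm (Fin.natAdd p i))) =
      (((Equiv.Perm.sign σ : ℤˣ) : ℤ) : k) * (((Equiv.Perm.sign τ : ℤˣ) : ℤ) : k) *
        (M.submatrix row id).det := by
    intro σ τ
    let ρ : Equiv.Perm (Fin (p + r)) := finSumFinEquiv.permCongr (Equiv.sumCongr σ τ)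
    have hρ : Equiv.Perm.sign ρ = Equiv.Perm.sign σ * Equiv.Perm.sign τ := by
      simp [ρ, Equiv.Perm.sign_permCongr, Equiv.Perm.sign_sumCongr]
    have hd := Matrix.det_permute ρ (M.submatrix row id)
    rw [hρ, Units.val_mul, Int.cast_mul] at hd
    rw [← hd, ← Matrix.det_transpose, Matrix.det_apply']
    refine Fintype.sum_equiv (Equiv.inv (Equiv.Perm (Fin (p + r)))) _ _ fun π => ?_
    rw [Equiv.inv_apply, Equiv.Perm.sign_inv, Fin.prod_univ_add]
    congr 1
    congr 1
    · refine Finset.prod_congr rfl fun i _ => ?_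
      simp [ρ, row, Matrix.submatrix_apply, Equiv.permCongr_apply, Equiv.Perm.inv_def]
    · refine Finset.prod_congr rfl fun i _ => ?_
      simp [ρ, row, Matrix.submatrix_apply, Equiv.permCongr_apply, Equiv.Perm.inv_def]
  have hsum : ∑ π : Equiv.Perm (Fin (p + r)), (((Equiv.Perm.sign π : ℤˣ) : ℤ) : k) *
      ((M * π.permMatrix k).submatrix (A.orderEmbOfFin hA) (Fin.castAdd r)).det *
      ((M * π.permMatrix k).submatrix (B.orderEmbOfFin hB) (Fin.natAdd p)).det =
      ((p.factorial * r.factorial : ℕ) : k) * (M.submatrix row id).det := by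
    calc _ = ∑ π : Equiv.Perm (Fin (p + r)), ∑ σ : Equiv.Perm (Fin p), ∑ τ : Equiv.Perm (Fin r),
          (((Equiv.Perm.sign σ : ℤˣ) : ℤ) : k) * (((Equiv.Perm.sign τ : ℤˣ) : ℤ) : k) *
          ((((Equiv.Perm.sign π : ℤˣ) : ℤ) : k) *
            ((∏ i, M (a (σ i)) (π.symm (Fin.castAdd r i))) * ∏ i, M (b (τ i)) (π.symm (Fin.natAdd p i)))) := by
          refine Finset.sum_congr rfl fun π _ => ?_
          rw [Matrix.det_apply', Matrix.det_apply', mul_assoc, Finset.sum_mul_sum, Finset.mul_sum]
          refine Finset.sum_congr rfl fun σ _ => ?_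
          rw [Finset.mul_sum]
          refine Finset.sum_congr rfl fun τ _ => ?_
          simp only [Matrix.submatrix_apply, hcol, a, b]
          ring
      _ = ∑ σ : Equiv.Perm (Fin p), ∑ τ : Equiv.Perm (Fin r),
          (((Equiv.Perm.sign σ : ℤˣ) : ℤ) : k) * (((Equiv.Perm.sign τ : ℤˣ) : ℤ) : k) *
          ((((Equiv.Perm.sign σ : ℤˣ) : ℤ) : k) * (((Equiv.Perm.sign τ : ℤˣ) : ℤ) : k) *
            (M.submatrix row id).det) := by
          rw [Finset.sum_comm]
          refine Finset.sum_congr rfl fun σ _ => ?_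
          rw [Finset.sum_comm]
          refine Finset.sum_congr rfl fun τ _ => ?_
          rw [← Finset.mul_sum, hexp]
      _ = ∑ σ : Equiv.Perm (Fin p), ∑ τ : Equiv.Perm (Fin r), (M.submatrix row id).det := by
          refine Finset.sum_congr rfl fun σ _ => Finset.sum_congr rfl fun τ _ => ?_
          rw [← mul_assoc]
          rcases Int.units_eq_one_or (Equiv.Perm.sign σ) with h | h <;>
            rcases Int.units_eq_one_or (Equiv.Perm.sign τ) with h' | h' <;> simp [h, h']
      _ = _ := by
          simp [Finset.sum_const, Fintype.card_perm, nsmul_eq_mul, mul_assoc]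
  rw [hsum]
  have ha : ∀ i, a i ∈ A := fun i => A.orderEmbOfFin_mem hA i
  have hb : ∀ i, b i ∈ B := fun i => B.orderEmbOfFin_mem hB i
  by_cases hAB : B = Aᶜ
  · rw [if_pos hAB, mul_assoc]
    congr 1
    subst hAB
    have hne : ∀ i j, a i ≠ b j := fun i j h => Finset.mem_compl.1 (hb j) (h ▸ ha i)
    have hinj : Function.Injective row := Fin.append_injective_iff.2
      ⟨(A.orderEmbOfFin hA).injective, (Aᶜ.orderEmbOfFin hB).injective, hne⟩
    let ρ : Equiv.Perm (Fin (p + r)) := Equiv.ofBijective row (Finite.injective_iff_bijective.1 hinj)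
    have hdet : (M.submatrix row id).det = (((Equiv.Perm.sign ρ : ℤˣ) : ℤ) : k) * M.det :=
      Matrix.det_permute ρ M
    rw [hdet]
    congr 1
    let D := (Finset.univ : Finset (Fin (p + r))).sigma fun i => Finset.Ioi i
    let E := D.filter fun x => ρ x.2 < ρ x.1
    have hsign : Equiv.Perm.sign ρ = (-1 : ℤˣ) ^ E.card := by
      rw [ρ.sign_eq_prod_prod_Ioi, Finset.prod_sigma', ← Finset.prod_const, Finset.prod_filter]
      refine Finset.prod_congr rfl fun x hx => ?_
      have hlt : x.1 < x.2 := Finset.mem_Ioi.1 (Finset.mem_sigma.1 hx).2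
      rcases lt_trichotomy (ρ x.1) (ρ x.2) with h | h | h
      · rw [if_pos h, if_neg h.not_gt]
      · exact absurd (ρ.injective h) hlt.ne
      · rw [if_neg h.not_gt, if_pos h]
    have hcard : E.card = ((A ×ˢ Aᶜ).filter (fun ab => ab.2 < ab.1)).card := by
      refine Finset.card_bij (fun x _ => (ρ x.1, ρ x.2)) ?_ ?_ ?_
      · rintro ⟨i, j⟩ hx
        simp only [E, D, Finset.mem_filter, Finset.mem_sigma, Finset.mem_Ioi, Finset.mem_univ,
          true_and] at hx
        simp only [Finset.mem_filter, Finset.mem_product]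
        refine ⟨?_, hx.2⟩
        obtain ⟨i, rfl⟩ | ⟨i, rfl⟩ : (∃ i', Fin.castAdd r i' = i) ∨ ∃ i', Fin.natAdd p i' = i :=
          Fin.addCases (fun i => Or.inl ⟨i, rfl⟩) (fun i => Or.inr ⟨i, rfl⟩) i
        · obtain ⟨j, rfl⟩ | ⟨j, rfl⟩ : (∃ i', Fin.castAdd r i' = j) ∨ ∃ i', Fin.natAdd p i' = j :=
            Fin.addCases (fun i => Or.inl ⟨i, rfl⟩) (fun i => Or.inr ⟨i, rfl⟩) j
          · have h1 : i < j := hx.1
            have h2 := hx.2
            simp [ρ, row] at h2
            exact absurd h2 ((A.orderEmbOfFin hA).strictMono h1).not_gt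
          · simp [ρ, row, ha i, Finset.mem_compl.1 (hb j)]
        · obtain ⟨j, rfl⟩ | ⟨j, rfl⟩ : (∃ i', Fin.castAdd r i' = j) ∨ ∃ i', Fin.natAdd p i' = j :=
            Fin.addCases (fun i => Or.inl ⟨i, rfl⟩) (fun i => Or.inr ⟨i, rfl⟩) j
          · have h1 := hx.1
            replace h1 : (Fin.natAdd p i : ℕ) < (Fin.castAdd r j : ℕ) := h1
            simp only [Fin.val_natAdd, Fin.val_castAdd] at h1
            omega
          · have h1 : i < j := by
              have h0 : (Fin.natAdd p i : ℕ) < (Fin.natAdd p j : ℕ) := hx.1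
              simp only [Fin.val_natAdd] at h0
              show (i : ℕ) < (j : ℕ)
              omega
            have h2 := hx.2
            simp [ρ, row] at h2
            exact absurd h2 ((Aᶜ.orderEmbOfFin hB).strictMono h1).not_gt
      · rintro ⟨i, j⟩ _ ⟨i', j'⟩ _ h
        obtain ⟨h1, h2⟩ := Prod.ext_iff.1 h
        cases ρ.injective h1
        cases ρ.injective h2
        rfl
      · rintro ⟨x, y⟩ hxy
        simp only [Finset.mem_filter, Finset.mem_product] at hxy
        obtain ⟨i, hi⟩ : ∃ i, a i = x := by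
          have := Finset.range_orderEmbOfFin A hA
          exact this.symm.subset (Finset.mem_coe.2 hxy.1.1)
        obtain ⟨j, hj⟩ : ∃ j, b j = y := by
          have := Finset.range_orderEmbOfFin Aᶜ hB
          exact this.symm.subset (Finset.mem_coe.2 hxy.1.2)
        refine ⟨⟨Fin.castAdd r i, Fin.natAdd p j⟩, ?_, ?_⟩
        · have hlt : Fin.castAdd r i < Fin.natAdd p j := by
            show (Fin.castAdd r i : ℕ) < (Fin.natAdd p j : ℕ)
            simp only [Fin.val_natAdd, Fin.val_castAdd]
            omega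
          simp [E, D, ρ, row, hi, hj, hxy.2, hlt]
        · simp [ρ, row, hi, hj]
    rw [hsign, hcard]
    simp
  · rw [if_neg hAB]
    obtain ⟨i, j, hij⟩ : ∃ i j, a i = b j := by
      by_contra h
      push Not at h
      refine hAB (Finset.eq_of_subset_of_card_le (fun y hy => Finset.mem_compl.2 fun hyA => ?_) ?_)
      · obtain ⟨i, hi⟩ : ∃ i, a i = y :=
          (Finset.range_orderEmbOfFin A hA).symm.subset (Finset.mem_coe.2 hyA)
        obtain ⟨j, hj⟩ : ∃ j, b j = y :=
          (Finset.range_orderEmbOfFin B hB).symm.subset (Finset.mem_coe.2 hy)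
        exact h i j (hi.trans hj.symm)
      · rw [Finset.card_compl, hA, hB, Fintype.card_fin, Nat.add_sub_cancel_left]
    rw [Matrix.det_zero_of_row_eq (i := Fin.castAdd r i) (j := Fin.natAdd p j) (by
      simp [Fin.ext_iff]; omega) (by ext c; simp [row, hij]), mul_zero]


end Groth.Agent.S14879
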