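import Groth.Statements.S14880
import Groth.Agent.Lib.GrpSchField.Points

set_option autoImplicit false
universe u
open CategoryTheory MonoidalCategory CartesianMonoidalCategory MonObj GrpObj AlgebraicGeometry CategoryTheory.Limits
open AlgGrp

namespace Groth.Agent.S14880

/-- Over an algebraically closed field k of characteristic zero, let G be an algebraic group (a smooth
k-group scheme of finite type), X a variety (reduced, separated, of finite type over k) and Γ a
finite group acting on X on the right (x ↦ x·σ, with x·(στ) = (x·σ)·τ). Let φ : Γ → G(X) be a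
1-cocycle, φ_{στ} = φ_σ · (φ_τ ∘ (·σ)), and for σ in Γ let λ_σ be the endomorphism of X × G given on
points by (x, g) ↦ (x·σ, φ_σ(x)⁻¹·g). Then σ ↦ λ_σ is a right action of Γ on X × G (λ_1 is the
identity and λ_{στ} = λ_τ ∘ λ_σ) which lies over the action on X and commutes with the action of G
by right multiplication: a Γ-linearization of the trivial principal G-bundle over X. -/
theorem result (k : Type u) [Field k] [IsAlgClosed k] [CharZero k]
    (G X : Over (Spec (CommRingCat.of k))) [GrpObj G] [Smooth G.hom] [QuasiCompact G.hom]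
    [LocallyOfFiniteType X.hom] [QuasiCompact X.hom] [IsSeparated X.hom] [IsReduced X.left]
    (Γ : Type) [Group Γ] [Finite Γ] (ρ : Γ → (X ⟶ X)) (hρ₁ : ρ 1 = 𝟙 X) (hρ : ∀ σ τ : Γ, ρ (σ * τ) = ρ σ ≫ ρ τ)
    (φ : Γ → (X ⟶ G)) (hφ : ∀ σ τ : Γ, φ (σ * τ) = φ σ * (ρ σ ≫ φ τ))
    (lam : Γ → (X ⊗ G ⟶ X ⊗ G))
    (hlam : ∀ (σ : Γ) (T : Over (Spec (CommRingCat.of k))) (x : T ⟶ X) (g : T ⟶ G),
      lift x g ≫ lam σ = lift (x ≫ ρ σ) ((x ≫ φ σ)⁻¹ * g)) :
    lam 1 = 𝟙 (X ⊗ G) ∧ (∀ σ τ : Γ, lam (σ * τ) = lam σ ≫ lam τ) ∧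
      (∀ σ : Γ, lam σ ≫ fst X G = fst X G ≫ ρ σ) ∧
      ∀ (σ : Γ) (T : Over (Spec (CommRingCat.of k))) (x : T ⟶ X) (g h : T ⟶ G),
        lift x (g * h) ≫ lam σ ≫ snd X G = (lift x g ≫ lam σ ≫ snd X G) * h := by
  have h1 : φ 1 = 1 := by
    have h := hφ 1 1
    rw [_root_.mul_one, hρ₁, Category.id_comp] at h
    exact left_eq_mul.mp h
  refine ⟨?_, fun σ τ => ?_, fun σ => ?_, fun σ T x g h => ?_⟩
  · apply GrothLib.GrpSchField.hom_ext_points₂
    intro T x g
    rw [hlam, h1, hρ₁, Category.comp_id, Category.comp_id, MonObj.comp_one, inv_one, _root_.one_mul]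
  · apply GrothLib.GrpSchField.hom_ext_points₂
    intro T x g
    rw [hlam, ← Category.assoc, hlam, hlam, hρ, hφ, MonObj.comp_mul, _root_.mul_inv_rev,
      _root_.mul_assoc]
    simp only [Category.assoc]
  · apply GrothLib.GrpSchField.hom_ext_points₂
    intro T x g
    rw [← Category.assoc, hlam, lift_fst, lift_fst_assoc]
  · simp only [← Category.assoc, hlam, lift_snd]
    rw [_root_.mul_assoc]

end Groth.Agent.S14880
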