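import Groth.Statements.S14885

-- import your own Groth.Agent.* helpers here

set_option autoImplicit false
universe u v
open CategoryTheory TopologicalSpace Opposite AlgebraicGeometry Topology
open AlgGrp

namespace Groth.Agent.S14885

/-- Let a group Γ act on a ringed space X (a topological space with a sheaf of rings) by automorphisms
τ_g, and let π : X → Y be a Γ-invariant morphism of ringed spaces which exhibits Y as the quotient
ringed space X/Γ: the underlying continuous map of π is a topological quotient map whose fibres are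
exactly the Γ-orbits, and for every open subset V of Y the ring map O_Y(V) → O_X(π⁻¹V) is injective
with image the sections s satisfying τ_g^♯(s) = s for all g. Then (Y, π) is a categorical quotient
for the action in the category of ringed spaces: every morphism of ringed spaces f : X → Z with f ∘
τ_g = f for all g (as morphisms of ringed spaces) factors uniquely as f = f̄ ∘ π. -/
theorem result (X Y : SheafedSpace CommRingCat.{u}) (Γ : Type v) [Group Γ]
    (τ : Γ →* Aut X) (π : X ⟶ Y) (hτ : ∀ g : Γ, (τ g).hom ≫ π = π)
    (h1 : IsQuotientMap π.hom.base)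
    (h2 : ∀ x x' : X, π.hom.base x = π.hom.base x' ↔ ∃ g : Γ, (τ g).hom.hom.base x = x')
    (h3 : ∀ V : Opens Y, Function.Injective (π.hom.c.app (op V)) ∧
      Set.range (π.hom.c.app (op V)) =
        {s | ∀ g : Γ, (τ g).hom.hom.c.app (op ((Opens.map π.hom.base).obj V)) s =
          X.presheaf.map (eqToHom (congrArg (fun f : X ⟶ Y => op ((Opens.map f.hom.base).obj V)) (hτ g).symm)) s})
    (Z : SheafedSpace CommRingCat.{u}) (f : X ⟶ Z) (hf : ∀ g : Γ, (τ g).hom ≫ f = f) :
    ∃! fbar : Y ⟶ Z, π ≫ fbar = f := by
  obtain ⟨⟨fb, fc⟩⟩ := f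
  have hinv : ∀ x x' : X, π.hom.base x = π.hom.base x' → fb x = fb x' := by
    intro x x' h
    obtain ⟨g, rfl⟩ := (h2 x x').mp h
    exact (congrArg (fun m : X ⟶ Z => m.hom.base x) (hf g)).symm
  obtain ⟨gb, hgb⟩ : ∃ gb : (Y : TopCat) ⟶ (Z : TopCat), fb = π.hom.base ≫ gb := by
    refine ⟨TopCat.ofHom ⟨fun y => fb (Classical.choose (h1.surjective y)), ?_⟩, ?_⟩
    · rw [h1.continuous_iff]
      exact fb.hom.continuous.congr fun x => hinv _ _ (Classical.choose_spec (h1.surjective _)).symm
    · ext x
      exact hinv _ _ (Classical.choose_spec (h1.surjective (π.hom.base x))).symm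
  subst hgb
  have key : ∀ (W : (Opens Z)ᵒᵖ) (s : Z.presheaf.obj W),
      ∃ t, π.hom.c.app (op ((Opens.map gb).obj W.unop)) t = fc.app W s := by
    intro W s
    have : fc.app W s ∈ Set.range (π.hom.c.app (op ((Opens.map gb).obj W.unop))) := by
      rw [(h3 _).2]
      intro g
      exact ConcreteCategory.congr_hom (PresheafedSpace.congr_app (congrArg (fun m : X ⟶ Z => m.hom) (hf g)) W) s
    exact this
  choose c hc using key
  have hinj : ∀ W : (Opens Z)ᵒᵖ, Function.Injective (π.hom.c.app (op ((Opens.map gb).obj W.unop))) :=
    fun W => (h3 _).1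
  let cn : Z.presheaf ⟶ gb _* Y.presheaf :=
    { app := fun W => CommRingCat.ofHom
        { toFun := c W
          map_one' := hinj W (by rw [hc, map_one, map_one]; rfl)
          map_mul' := fun a b => hinj W (by rw [hc, map_mul, map_mul, hc, hc]; rfl)
          map_zero' := hinj W (by rw [hc, map_zero, map_zero]; rfl)
          map_add' := fun a b => hinj W (by rw [hc, map_add, map_add, hc, hc]; rfl) }
      naturality := fun W W' i => by
        refine CommRingCat.hom_ext (RingHom.ext fun s => hinj W' ?_)
        show π.hom.c.app _ (c W' (Z.presheaf.map i s)) =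
          π.hom.c.app _ ((gb _* Y.presheaf).map i (c W s))
        rw [hc]
        refine (ConcreteCategory.congr_hom (fc.naturality i) s).trans ?_
        refine Eq.trans ?_ (ConcreteCategory.congr_hom (π.hom.c.naturality
          ((Opens.map gb).map i.unop).op) (c W s)).symm
        refine Eq.trans ?_ (congrArg (ConcreteCategory.hom (((TopCat.Presheaf.pushforward CommRingCat
          π.hom.base).obj X.presheaf).map ((Opens.map gb).map i.unop).op)) (hc W s).symm)
        rfl }
  refine ⟨⟨⟨gb, cn⟩⟩, ?_, ?_⟩
  · refine SheafedSpace.ext _ _ rfl ?_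
    ext W s
    simp
    exact hc (op W) s
  · rintro ⟨⟨mb, mc⟩⟩ hm
    have hb : π.hom.base ≫ mb = π.hom.base ≫ gb := congrArg (fun m : X ⟶ Z => m.hom.base) hm
    have hb' : mb = gb := by
      ext y
      obtain ⟨x, rfl⟩ := h1.surjective y
      exact congrArg (fun m : (X : TopCat) ⟶ (Z : TopCat) => m x) hb
    subst hb'
    have : mc = cn := by
      ext W s
      refine hinj (op W) ?_
      refine Eq.trans ?_ (hc (op W) s).symm
      have := ConcreteCategory.congr_hom (PresheafedSpace.congr_app (congrArg (fun m : X ⟶ Z => m.hom) hm) (op W)) s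
      simp at this
      exact this
    subst this
    rfl

end Groth.Agent.S14885
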