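import Groth.Statements.S14886
import Groth.Agent.Lib.AssocBundle.Basic
-- import your own Groth.Agent.* helpers here

set_option autoImplicit false
universe u
open CategoryTheory MonoidalCategory CartesianMonoidalCategory MonObj GrpObj AlgebraicGeometry CategoryTheory.Limits
open AlgGrp

namespace Groth.Agent.S14886

/-- Over an algebraically closed field k of characteristic zero, let G be a connected algebraic group (a
smooth connected k-group scheme of finite type) and H an algebraic subgroup (a smooth closed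
subgroup scheme, j : H → G). Let π : G → B be the quotient of G by H (a geometric quotient for the
action h·g = g·h⁻¹ which is a principal H-bundle: (h, g) ↦ (g·h⁻¹, g) is an isomorphism H × G ≅ G
×_B G and π is flat). Let X and Y be varieties (reduced, separated, of finite type over k) with
H-actions, in each of which every finite set of points lies in an affine open subset, and let qX : G
× X → QX, qY : G × Y → QY and qXY : G × (X × Y) → QXY be the associated bundles G_H(X), G_H(Y) and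
G_H(X × Y): geometric quotients (invariant, surjective, open, fibre-pair map surjective on points,
sections = invariant sections) which are principal H-bundles, for the actions h·(g, x) = (g·h⁻¹,
h·x), h·(g, y) = (g·h⁻¹, h·y) and h·(g, x, y) = (g·h⁻¹, h·x, h·y), with QX, QY, QXY varieties over B
= G/H through pX, pY, pXY satisfying p ∘ q = π ∘ pr₁. Let fX : QXY → QX and fY : QXY → QY be the
morphisms over B induced by the projections, fX ∘ qXY = qX ∘ (id × pr₁) and fY ∘ qXY = qY ∘ (id ×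
pr₂). Then the square formed by fX, fY, pX, pY is cartesian: G_H(X × Y) is the fibre product of
G_H(X) and G_H(Y) over G/H. -/
theorem result (k : Type u) [Field k] [IsAlgClosed k] [CharZero k]
    (G H : Over (Spec (CommRingCat.of k))) [GrpObj G] [Smooth G.hom] [QuasiCompact G.hom]
    [ConnectedSpace ↥G.left] [GrpObj H] (j : H ⟶ G) [IsMonHom j] [IsClosedImmersion j.left] [Smooth H.hom]
    (B : Over (Spec (CommRingCat.of k))) [LocallyOfFiniteType B.hom] [QuasiCompact B.hom] [IsSeparated B.hom] [IsReduced B.left]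
    (r : AlgGrp.Action H G) (hr : ∀ (T : Over (Spec (CommRingCat.of k))) (h : T ⟶ H) (g : T ⟶ G),
      lift h g ≫ r.act = g * (h ≫ j)⁻¹)
    (π : G ⟶ B) (hπinv : GIT.IsInvariant r π)
    (hπ : (Function.Surjective π.left.base ∧ IsOpenMap π.left.base ∧
      Function.Surjective (GIT.PsiY r π hπinv).base ∧
      (∀ U : B.left.Opens, Function.Injective (π.left.app U) ∧
        Set.range (π.left.app U) = {f | GIT.IsInvSection r π U f}) ∧
      IsIso (GIT.PsiY r π hπinv) ∧ Flat π.left))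
    (X Y : Over (Spec (CommRingCat.of k))) [LocallyOfFiniteType X.hom] [QuasiCompact X.hom] [IsSeparated X.hom] [IsReduced X.left] [LocallyOfFiniteType Y.hom] [QuasiCompact Y.hom] [IsSeparated Y.hom] [IsReduced Y.left]
    (hFX : ∀ F : Finset ↥X.left, ∃ U : X.left.Opens, IsAffineOpen U ∧ (↑F : Set ↥X.left) ⊆ (U : Set ↥X.left))
    (hFY : ∀ F : Finset ↥Y.left, ∃ U : Y.left.Opens, IsAffineOpen U ∧ (↑F : Set ↥Y.left) ⊆ (U : Set ↥Y.left))
    (aX : AlgGrp.Action H X) (aY : AlgGrp.Action H Y)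
    (b : AlgGrp.Action H (G ⊗ X))
    (hb : ∀ (T : Over (Spec (CommRingCat.of k))) (h : T ⟶ H) (g : T ⟶ G) (x : T ⟶ X),
      lift h (lift g x) ≫ b.act = lift (g * (h ≫ j)⁻¹) (lift h x ≫ aX.act))
    (c : AlgGrp.Action H (G ⊗ Y))
    (hc : ∀ (T : Over (Spec (CommRingCat.of k))) (h : T ⟶ H) (g : T ⟶ G) (x : T ⟶ Y),
      lift h (lift g x) ≫ c.act = lift (g * (h ≫ j)⁻¹) (lift h x ≫ aY.act))
    (d : AlgGrp.Action H (G ⊗ (X ⊗ Y)))
    (hd : ∀ (T : Over (Spec (CommRingCat.of k))) (h : T ⟶ H) (g : T ⟶ G) (x : T ⟶ X) (y : T ⟶ Y),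
      lift h (lift g (lift x y)) ≫ d.act = lift (g * (h ≫ j)⁻¹) (lift (lift h x ≫ aX.act) (lift h y ≫ aY.act)))
    (QX QY QXY : Over (Spec (CommRingCat.of k))) [LocallyOfFiniteType QX.hom] [QuasiCompact QX.hom] [IsSeparated QX.hom] [IsReduced QX.left] [LocallyOfFiniteType QY.hom] [QuasiCompact QY.hom] [IsSeparated QY.hom] [IsReduced QY.left] [LocallyOfFiniteType QXY.hom] [QuasiCompact QXY.hom] [IsSeparated QXY.hom] [IsReduced QXY.left]
    (qX : G ⊗ X ⟶ QX) (hqXinv : GIT.IsInvariant b qX) (hqX : (Function.Surjective qX.left.base ∧ IsOpenMap qX.left.base ∧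
      Function.Surjective (GIT.PsiY b qX hqXinv).base ∧
      (∀ U : QX.left.Opens, Function.Injective (qX.left.app U) ∧
        Set.range (qX.left.app U) = {f | GIT.IsInvSection b qX U f}) ∧
      IsIso (GIT.PsiY b qX hqXinv) ∧ Flat qX.left))
    (qY : G ⊗ Y ⟶ QY) (hqYinv : GIT.IsInvariant c qY) (hqY : (Function.Surjective qY.left.base ∧ IsOpenMap qY.left.base ∧
      Function.Surjective (GIT.PsiY c qY hqYinv).base ∧
      (∀ U : QY.left.Opens, Function.Injective (qY.left.app U) ∧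
        Set.range (qY.left.app U) = {f | GIT.IsInvSection c qY U f}) ∧
      IsIso (GIT.PsiY c qY hqYinv) ∧ Flat qY.left))
    (qXY : G ⊗ (X ⊗ Y) ⟶ QXY) (hqXYinv : GIT.IsInvariant d qXY) (hqXY : (Function.Surjective qXY.left.base ∧ IsOpenMap qXY.left.base ∧
      Function.Surjective (GIT.PsiY d qXY hqXYinv).base ∧
      (∀ U : QXY.left.Opens, Function.Injective (qXY.left.app U) ∧
        Set.range (qXY.left.app U) = {f | GIT.IsInvSection d qXY U f}) ∧
      IsIso (GIT.PsiY d qXY hqXYinv) ∧ Flat qXY.left))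
    (pX : QX ⟶ B) (hpX : qX ≫ pX = fst G X ≫ π) (pY : QY ⟶ B) (hpY : qY ≫ pY = fst G Y ≫ π)
    (pXY : QXY ⟶ B) (hpXY : qXY ≫ pXY = fst G (X ⊗ Y) ≫ π)
    (fX : QXY ⟶ QX) (hfX : qXY ≫ fX = (G ◁ fst X Y) ≫ qX) (hfXp : fX ≫ pX = pXY)
    (fY : QXY ⟶ QY) (hfY : qXY ≫ fY = (G ◁ snd X Y) ≫ qY) (hfYp : fY ≫ pY = pXY) :
    IsPullback fX.left fY.left pX.left pY.left := by
  have hdX : (H ◁ (G ◁ fst X Y)) ≫ b.act = d.act ≫ (G ◁ fst X Y) := by
    have h := hd (H ⊗ (G ⊗ (X ⊗ Y))) (fst _ _) (snd _ _ ≫ fst _ _) (snd _ _ ≫ snd _ _ ≫ fst _ _) (snd _ _ ≫ snd _ _ ≫ snd _ _)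
    rw [show lift (fst H (G ⊗ (X ⊗ Y))) (lift (snd H (G ⊗ (X ⊗ Y)) ≫ fst G _) (lift (snd H (G ⊗ (X ⊗ Y)) ≫ snd G _ ≫ fst X Y) (snd H (G ⊗ (X ⊗ Y)) ≫ snd G _ ≫ snd X Y))) = 𝟙 _ by
      apply CartesianMonoidalCategory.hom_ext
      · simp
      · apply CartesianMonoidalCategory.hom_ext
        · simp
        · apply CartesianMonoidalCategory.hom_ext <;> simp, Category.id_comp] at h
    have h' := hb (H ⊗ (G ⊗ (X ⊗ Y))) (fst _ _) (snd _ _ ≫ fst _ _) (snd _ _ ≫ snd _ _ ≫ fst _ _)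
    rw [h, lift_whiskerLeft, lift_fst, ← h']
    congr 1
    apply CartesianMonoidalCategory.hom_ext
    · simp
    · apply CartesianMonoidalCategory.hom_ext <;> simp
  have hdY : (H ◁ (G ◁ snd X Y)) ≫ c.act = d.act ≫ (G ◁ snd X Y) := by
    have h := hd (H ⊗ (G ⊗ (X ⊗ Y))) (fst _ _) (snd _ _ ≫ fst _ _) (snd _ _ ≫ snd _ _ ≫ fst _ _) (snd _ _ ≫ snd _ _ ≫ snd _ _)
    rw [show lift (fst H (G ⊗ (X ⊗ Y))) (lift (snd H (G ⊗ (X ⊗ Y)) ≫ fst G _) (lift (snd H (G ⊗ (X ⊗ Y)) ≫ snd G _ ≫ fst X Y) (snd H (G ⊗ (X ⊗ Y)) ≫ snd G _ ≫ snd X Y))) = 𝟙 _ by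
      apply CartesianMonoidalCategory.hom_ext
      · simp
      · apply CartesianMonoidalCategory.hom_ext
        · simp
        · apply CartesianMonoidalCategory.hom_ext <;> simp, Category.id_comp] at h
    have h' := hc (H ⊗ (G ⊗ (X ⊗ Y))) (fst _ _) (snd _ _ ≫ fst _ _) (snd _ _ ≫ snd _ _ ≫ snd _ _)
    rw [h, lift_whiskerLeft, lift_snd, ← h']
    congr 1
    apply CartesianMonoidalCategory.hom_ext
    · simp
    · apply CartesianMonoidalCategory.hom_ext <;> simp
  have hbfst : (H ◁ fst G Y) ≫ r.act = c.act ≫ fst G Y := by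
    have h := hc (H ⊗ (G ⊗ Y)) (fst _ _) (snd _ _ ≫ fst _ _) (snd _ _ ≫ snd _ _)
    rw [show lift (fst H (G ⊗ Y)) (lift (snd H (G ⊗ Y) ≫ fst G Y) (snd H (G ⊗ Y) ≫ snd G Y)) = 𝟙 _ by
      rw [← comp_lift, lift_fst_snd, Category.comp_id, lift_fst_snd], Category.id_comp] at h
    rw [h, lift_fst, ← hr]
    congr 1
  obtain ⟨hqXs, -, -, -, hqXi, hqXf⟩ := hqX
  obtain ⟨hqYs, -, -, -, hqYi, hqYf⟩ := hqY
  obtain ⟨hqXYs, -, -, -, hqXYi, hqXYf⟩ := hqXY
  obtain ⟨hπs, -, -, -, hπi, hπf⟩ := hπ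
  have : QuasiCompact (G ⊗ X).hom := by dsimp; infer_instance
  have : QuasiCompact (G ⊗ Y).hom := by dsimp; infer_instance
  have : QuasiCompact (G ⊗ (X ⊗ Y)).hom := by dsimp; infer_instance
  have : Surjective qX.left := ⟨hqXs⟩
  have : Surjective qY.left := ⟨hqYs⟩
  have : Surjective qXY.left := ⟨hqXYs⟩
  have := GrothLib.AssocBundle.quasiCompact_left qX
  have := GrothLib.AssocBundle.quasiCompact_left qY
  have := GrothLib.AssocBundle.quasiCompact_left qXY
  have hX := GrothLib.AssocBundle.isPullback_of_equivariant d qXY hqXYinv hqXYi b qX hqXinv hqXi (G ◁ fst X Y) fX hdX hfX.symm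
  have hY := GrothLib.AssocBundle.isPullback_of_equivariant c qY hqYinv hqYi r π hπinv hπi (fst G Y) pY hbfst hpY.symm
  have hXY : IsPullback (fst X Y).left (snd X Y).left X.hom Y.hom := IsPullback.of_hasPullback X.hom Y.hom
  have hfstX : IsPullback (G ◁ fst X Y).left (snd G (X ⊗ Y)).left (snd G X).left (fst X Y).left :=
    GrothLib.AssocBundle.isPullback_whiskerLeft_snd G (fst X Y)
  have hGY : IsPullback (fst G Y).left (snd G Y).left G.hom Y.hom := IsPullback.of_hasPullback G.hom Y.hom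
  have hbig : IsPullback (G ◁ fst X Y).left ((snd G (X ⊗ Y)).left ≫ (snd X Y).left) ((snd G X).left ≫ X.hom) Y.hom :=
    hfstX.paste_vert hXY
  have htop : IsPullback (G ◁ fst X Y).left (G ◁ snd X Y).left (fst G X).left (fst G Y).left := by
    refine IsPullback.of_bot (h₃₁ := Y.hom) (v₂₁ := (snd G Y).left) (v₂₂ := G.hom) ?_ ?_ hGY
    · rw [show (G ◁ snd X Y).left ≫ (snd G Y).left = (snd G (X ⊗ Y)).left ≫ (snd X Y).left by
          rw [← Over.comp_left, ← Over.comp_left, whiskerLeft_snd], Over.w (fst G X), ← Over.w (snd G X)]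
      exact hbig
    · rw [← Over.comp_left, ← Over.comp_left, whiskerLeft_fst, whiskerLeft_fst]
  have hbig2 : IsPullback (G ◁ fst X Y).left (qXY.left ≫ fY.left) (qX.left ≫ pX.left) pY.left := by
    rw [← Over.comp_left, ← Over.comp_left, hfY, hpX, Over.comp_left, Over.comp_left]
    exact htop.paste_vert hY.flip.flip
  have hw : fX.left ≫ pX.left = fY.left ≫ pY.left := by rw [← Over.comp_left, ← Over.comp_left, hfXp, hfYp]
  let ψ := pullback.lift fX.left fY.left hw
  have hP := IsPullback.of_hasPullback pX.left pY.left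
  have h2 : IsPullback (G ◁ fst X Y).left (qXY.left ≫ ψ) qX.left (pullback.fst pX.left pY.left) := by
    refine IsPullback.of_bot (h₃₁ := pY.left) (v₂₁ := pullback.snd pX.left pY.left) (v₂₂ := pX.left) ?_ ?_ hP
    · rw [Category.assoc, pullback.lift_snd]; exact hbig2
    · rw [Category.assoc, pullback.lift_fst]; exact hX.w
  have h3 : IsPullback (𝟙 _) qXY.left (qXY.left ≫ ψ) ψ := by
    refine IsPullback.of_right (h₁₂ := (G ◁ fst X Y).left) (v₁₃ := qX.left) (h₂₂ := pullback.fst pX.left pY.left) ?_ ?_ h2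
    · rw [Category.id_comp, pullback.lift_fst]; exact hX
    · rw [Category.id_comp]
  have hq : (@Surjective ⊓ @Flat ⊓ @QuasiCompact : MorphismProperty Scheme.{u}) (qXY.left ≫ ψ) :=
    MorphismProperty.of_isPullback h2 ⟨⟨‹Surjective qX.left›, hqXf⟩, ‹QuasiCompact qX.left›⟩
  have : IsIso ψ :=
    MorphismProperty.of_isPullback_of_descendsAlong (P := MorphismProperty.isomorphisms Scheme.{u})
      (Q := @Surjective ⊓ @Flat ⊓ @QuasiCompact) h3 hq
      ((MorphismProperty.isomorphisms.iff _).2 inferInstance)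
  exact IsPullback.of_iso_pullback ⟨hw⟩ (asIso ψ) (pullback.lift_fst _ _ _) (pullback.lift_snd _ _ _)


end Groth.Agent.S14886
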