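import Groth.Statements.S14888
import Groth.Agent.Lib.FinSpec.Basic
-- import your own Groth.Agent.* helpers here

set_option autoImplicit false
universe u
open CategoryTheory AlgebraicGeometry
open CAlg

namespace Groth.Agent.S14888

/-- Let R be a valuation ring whose spectrum is finite (finite height) and let f : X → Spec R be locally
of finite type with locally quasi-finite fibres. For every x ∈ X the canonical morphism Spec O_{X,x}
→ X is an open immersion, and the composite Spec O_{X,x} → Spec R is locally of finite type; in
particular O_{X,x} is finitely generated as an R-algebra. (The published statement takes X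
quasi-finite over Spec R; the assertions are local at x, so this row assumes only that X is locally
of finite type with discrete fibres.) -/
theorem result
    (R : Type u) [CommRing R] [IsDomain R] [ValuationRing R] [Finite (PrimeSpectrum R)]
    {X : Scheme.{u}} (f : X ⟶ Spec (CommRingCat.of R)) [LocallyOfFiniteType f] [LocallyQuasiFinite f]
    (x : X) :
    IsOpenImmersion (X.fromSpecStalk x) ∧ LocallyOfFiniteType (X.fromSpecStalk x ≫ f) := by
  obtain ⟨U, hU, hxU, -⟩ := TopologicalSpace.Opens.isBasis_iff_nbhd.1 X.isBasis_affineOpens (TopologicalSpace.Opens.mem_top x)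
  have hqf : ((f.appLE ⊤ U le_top).hom).QuasiFinite :=
    LocallyQuasiFinite.quasiFinite_appLE (isAffineOpen_top _) hU _
  letI : Algebra R Γ(X, U) := ((Scheme.ΓSpecIso (CommRingCat.of R)).inv ≫ f.appLE ⊤ U le_top).hom.toAlgebra
  haveI : Algebra.QuasiFinite R Γ(X, U) := hqf.comp (RingHom.QuasiFinite.of_finite (RingHom.Finite.of_surjective
    (Scheme.ΓSpecIso (CommRingCat.of R)).inv.hom (Scheme.ΓSpecIso (CommRingCat.of R)).symm.commRingCatIsoToRingEquiv.surjective))
  haveI : Finite (PrimeSpectrum Γ(X, U)) := GrothLib.FinSpec.finite_primeSpectrum_of_quasiFinite R Γ(X, U)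
  letI := X.presheaf.algebra_section_stalk (⟨x, hxU⟩ : U)
  haveI := hU.isLocalization_stalk ⟨x, hxU⟩
  obtain ⟨g, -, hloc⟩ := GrothLib.FinSpec.exists_isLocalization_away (hU.primeIdealOf ⟨x, hxU⟩).asIdeal
  haveI : IsLocalization.Away g (X.presheaf.stalk x) := hloc _ inferInstance
  have h : IsOpenImmersion (Spec.map (CommRingCat.ofHom (algebraMap Γ(X, U) (X.presheaf.stalk x)))) :=
    IsOpenImmersion.of_isLocalization (R := Γ(X, U)) (S := X.presheaf.stalk x) g
  have e : CommRingCat.ofHom (algebraMap Γ(X, U) (X.presheaf.stalk x)) = X.presheaf.germ U x hxU :=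
    CommRingCat.hom_ext rfl
  rw [e] at h
  haveI : IsOpenImmersion (X.fromSpecStalk x) := by
    rw [← hU.fromSpecStalk_eq_fromSpecStalk hxU, IsAffineOpen.fromSpecStalk]
    infer_instance
  exact ⟨inferInstance, inferInstance⟩

end Groth.Agent.S14888
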