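import Groth.Statements.S14889
import Groth.Agent.Lib.EtaMod10.Main


set_option autoImplicit false
universe u
open CategoryTheory CategoryTheory.Limits AlgebraicGeometry
open FlatMor

namespace Groth.Agent.S14889

/-- Let S be integral, normal (all local rings integrally closed domains), quasi-compact and
quasi-separated, with generic point η, and let φ : X → S be flat, locally of finite presentation,
quasi-compact and quasi-separated, with geometrically reduced fibres (every base change of φ to the
spectrum of a field is reduced). Let f : X' → X be a finite morphism which restricts to an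
isomorphism over an open U ⊆ X that is schematically dense in X and whose preimage is schematically
dense in X', and whose base change to the generic fibre X_η = X ×_S Spec O_{S,η} is an isomorphism.
Then f is an isomorphism: X admits no non-trivial finite η-modification. -/
theorem result
    {S X X' : Scheme.{u}} [IsIntegral S] [CompactSpace S] [QuasiSeparatedSpace S]
    (hS : Pi1.IsNormalScheme S) (φ : X ⟶ S) [Flat φ] [LocallyOfFinitePresentation φ]
    [QuasiCompact φ] [QuasiSeparated φ]
    (hred : ∀ (K : Type u) [Field K] (k : Spec (CommRingCat.of K) ⟶ S), IsReduced (pullback φ k))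
    (f : X' ⟶ X) [IsFinite f] (U : X.Opens) (hU : IsSchemeTheoreticallyDominant U.ι)
    (hU' : IsSchemeTheoreticallyDominant (f ⁻¹ᵁ U).ι) (hfU : IsIso (f ∣_ U))
    (hη : IsIso (pullback.snd f (pullback.fst φ (S.fromSpecStalk (genericPoint S))))) :
    IsIso f := by
  have key : ∀ x : X, ∃ W : X.Opens, x ∈ W ∧ IsIso (f ∣_ W) := fun x => by
    obtain ⟨_, ⟨(V : S.Opens), hV, rfl⟩, hxV, -⟩ :=
      S.isBasis_affineOpens.exists_subset_of_mem_open (Set.mem_univ (φ x)) isOpen_univ
    haveI : Nonempty V := ⟨⟨φ x, hxV⟩⟩
    obtain ⟨_, ⟨(W : X.Opens), hW, rfl⟩, hxW, hWV⟩ :=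
      X.isBasis_affineOpens.exists_subset_of_mem_open (show x ∈ φ ⁻¹ᵁ V from hxV) (φ ⁻¹ᵁ V).2
    have hb := GrothLib.EtaMod10.bijective_app φ hS hred f U hU' hfU hη hW hV hWV
    haveI : IsIso (f.app W) := (ConcreteCategory.isIso_iff_bijective _).2 hb
    haveI : IsAffine W.toScheme := hW
    haveI : IsAffine (f ⁻¹ᵁ W).toScheme := hW.preimage f
    refine ⟨W, hxW, ?_⟩
    have h0 : Arrow.mk (f ∣_ W).appTop ≅ Arrow.mk (f.app W) :=
      Arrow.isoMk W.topIso (f ⁻¹ᵁ W).topIso (by
        simp [morphismRestrict_appTop, Scheme.Hom.app_eq_appLE, Scheme.Opens.topIso]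
        erw [Scheme.Hom.map_appLE, Scheme.Hom.appLE_map])
    haveI : IsIso (f ∣_ W).appTop :=
      ((MorphismProperty.isomorphisms CommRingCat).arrow_mk_iso_iff h0).2 ‹IsIso (f.app W)›
    exact (HasAffineProperty.iff_of_isAffine (P := MorphismProperty.isomorphisms Scheme) (f := f ∣_ W)).2 ⟨inferInstance, inferInstance⟩
  choose W hxW hW using key
  exact IsZariskiLocalAtTarget.of_iSup_eq_top (P := MorphismProperty.isomorphisms Scheme) W
    (eq_top_iff.2 fun x _ => TopologicalSpace.Opens.mem_iSup.2 ⟨x, hxW x⟩) hW


end Groth.Agent.S14889
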