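import Groth.Statements.S14891
import Mathlib
import Groth.Agent.Lib.Abhyankar.Basic
-- import your own Groth.Agent.* helpers here

set_option autoImplicit false
universe u
open CAlg

namespace Groth.Agent.S14891

/-- Let L/K be an extension of valued fields, i.e. v_L is a valuation on L whose restriction to K is
equivalent to v_K. Write E for the rational rank of the quotient of value groups |L^×|/|K^×| — here
the rank of the abelian group L^× modulo the subgroup generated by the units of the valuation ring
of v_L and the image of K^× — and F for the transcendence degree of the residue field of v_L over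
that of v_K. Then E + F ≤ tr.deg(L/K) (an inequality of cardinals). -/
theorem result
    {K L Γ₀ Γ₁ : Type u} [Field K] [Field L] [Algebra K L]
    [LinearOrderedCommGroupWithZero Γ₀] [LinearOrderedCommGroupWithZero Γ₁]
    (vK : Valuation K Γ₀) (vL : Valuation L Γ₁) [vK.HasExtension vL] :
    Module.rank ℤ (Additive Lˣ ⧸ Subgroup.toAddSubgroup
        (vL.valuationSubring.unitGroup ⊔ (Units.map (algebraMap K L).toMonoidHom).range)) +
      Algebra.trdeg (IsLocalRing.ResidueField vK.valuationSubring)
        (IsLocalRing.ResidueField vL.valuationSubring) ≤ Algebra.trdeg K L := by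
  classical
  set H := vL.valuationSubring.unitGroup ⊔ (Units.map (algebraMap K L).toMonoidHom).range with hH
  set Q := Additive Lˣ ⧸ Subgroup.toAddSubgroup H with hQ
  obtain ⟨s, hs, hsind⟩ := exists_set_linearIndependent (R := ℤ) (M := Q)
  obtain ⟨t, htb⟩ := exists_isTranscendenceBasis (IsLocalRing.ResidueField vK.valuationSubring)
    (IsLocalRing.ResidueField vL.valuationSubring)
  let π : Lˣ → Q := fun u => QuotientAddGroup.mk (Additive.ofMul u)
  have πmul : ∀ u v, π (u * v) = π u + π v := fun u v => rfl
  have hπ : Function.Surjective π := fun z => by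
    obtain ⟨w, rfl⟩ := QuotientAddGroup.mk_surjective z
    exact ⟨Additive.toMul w, rfl⟩
  have πzero : ∀ u ∈ H, π u = 0 := fun u hu => (QuotientAddGroup.eq_zero_iff _).2 hu
  choose x hx using fun i : s => hπ (i : Q)
  choose y hy using fun j : t => IsLocalRing.residue_surjective (R := vL.valuationSubring) (j : IsLocalRing.ResidueField vL.valuationSubring)
  have hyind : AlgebraicIndependent (IsLocalRing.ResidueField vK.valuationSubring)
      (fun j => IsLocalRing.residue vL.valuationSubring (y j)) := by
    simpa only [hy] using htb.1
  have hxind : ∀ (a b : s →₀ ℕ) (c c' : Kˣ),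
      vL ((a.prod fun i e => (x i : L) ^ e) * algebraMap K L c) =
        vL ((b.prod fun i e => (x i : L) ^ e) * algebraMap K L c') → a = b := by
    intro a b c c' h
    let P : (s →₀ ℕ) → Lˣ := fun a => a.prod fun i e => x i ^ e
    have hP : ∀ a : s →₀ ℕ, ((P a : Lˣ) : L) = a.prod fun i e => (x i : L) ^ e := fun a => by
      simp [P, Finsupp.prod]
    let φ : Lˣ →* Multiplicative Q :=
      { toFun := fun u => Multiplicative.ofAdd (π u)
        map_one' := rfl
        map_mul' := fun u v => rfl }
    have hπP : ∀ a : s →₀ ℕ, π (P a) = a.sum fun i e => (e : ℤ) • (i : Q) := by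
      intro a
      show Multiplicative.toAdd (φ (P a)) = _
      simp only [P, Finsupp.prod, Finsupp.sum, map_prod, map_pow, toAdd_prod, toAdd_pow, natCast_zsmul]
      refine Finset.sum_congr rfl fun i _ => ?_
      show a i • π (x i) = _
      rw [hx]
    set C := Units.map (algebraMap K L).toMonoidHom with hC
    have hu : π (P a * C c) = π (P b * C c') := by
      have hmem : (P b * C c') * (P a * C c)⁻¹ ∈ H := by
        refine Subgroup.mem_sup_left ?_
        rw [Valuation.mem_unitGroup_iff, Units.val_mul, Units.val_inv_eq_inv_val, map_mul, map_inv₀]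
        have e1 : ((P a * C c : Lˣ) : L) = (a.prod fun i e => (x i : L) ^ e) * algebraMap K L c := by
          rw [Units.val_mul, hP]; rfl
        have e2 : ((P b * C c' : Lˣ) : L) = (b.prod fun i e => (x i : L) ^ e) * algebraMap K L c' := by
          rw [Units.val_mul, hP]; rfl
        rw [e1, e2, ← h, mul_inv_cancel₀]
        rw [← e1, vL.ne_zero_iff]
        exact Units.ne_zero _
      have := πzero _ hmem
      have h2 := πmul ((P b * C c') * (P a * C c)⁻¹) (P a * C c)
      rw [inv_mul_cancel_right, this] at h2
      exact (h2.trans (zero_add (M := Q) _)).symm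
    rw [πmul, πmul, πzero (C c) (Subgroup.mem_sup_right ⟨c, rfl⟩),
      πzero (C c') (Subgroup.mem_sup_right ⟨c', rfl⟩), hπP, hπP] at hu
    replace hu := ((add_zero (M := Q) _).symm.trans hu).trans (add_zero (M := Q) _)
    have h3 : Finsupp.linearCombination ℤ ((↑) : s → Q) (a.mapRange ((↑) : ℕ → ℤ) Nat.cast_zero) =
        Finsupp.linearCombination ℤ ((↑) : s → Q) (b.mapRange ((↑) : ℕ → ℤ) Nat.cast_zero) := by
      rw [Finsupp.linearCombination_apply, Finsupp.linearCombination_apply,
        Finsupp.sum_mapRange_index (fun i => zero_smul ℤ ((i : s) : Q)),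
        Finsupp.sum_mapRange_index (fun i => zero_smul ℤ ((i : s) : Q))]
      exact hu
    exact Finsupp.mapRange_injective _ Nat.cast_zero Nat.cast_injective
      (linearIndependent_iff_injective_finsuppLinearCombination.1 hsind h3)
  have hind := GrothLib.Abhyankar.algebraicIndependent_sumElim vK vL x y hxind hyind
  have := hind.cardinalMk_le_trdeg
  rw [Cardinal.mk_sum, Cardinal.lift_id, Cardinal.lift_id, htb.cardinalMk_eq_trdeg] at this
  rwa [hs] at this

end Groth.Agent.S14891
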