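import Groth.Statements.S14893
import Mathlib
import Groth.Agent.S14892
-- import your own Groth.Agent.* helpers here

set_option autoImplicit false
universe u
open CAlg

namespace Groth.Agent.S14893

/-- Every valuation ring R is a filtered union of subrings which are valuation rings with finite
spectrum (finite height): there is a nonempty directed index type and a monotone family of such
subrings of R whose supremum is R. -/
theorem result
    (R : Type u) [CommRing R] [IsDomain R] [ValuationRing R] :
    ∃ (ι : Type u) (_ : Preorder ι) (_ : IsDirected ι (fun a b ↦ a ≤ b)) (_ : Nonempty ι)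
      (F : ι → Subring R), Monotone F ∧ (⨆ i, F i) = ⊤ ∧
        ∀ i, ValuationRing (F i) ∧ Finite (PrimeSpectrum (F i)) := by
  classical
  let K := FractionRing R
  let φ : R →+* K := algebraMap R K
  have hφ : Function.Injective φ := IsFractionRing.injective R K
  let O : ValuationSubring K :=
    { φ.range with
      mem_or_inv_mem' := fun x => by
        rcases ValuationRing.isInteger_or_isInteger R x with ⟨a, ha⟩ | ⟨a, ha⟩
        · exact Or.inl ⟨a, ha⟩
        · exact Or.inr ⟨a, ha⟩ }
  let F : Finset K → Subring R := fun s => (Subfield.closure (s : Set K)).toSubring.comap φ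
  refine ⟨Finset K, inferInstance, ⟨fun a b => ⟨a ∪ b, Finset.subset_union_left,
    Finset.subset_union_right⟩⟩, ⟨∅⟩, F, fun s t hst r hr => ?_, ?_, fun s => ?_⟩
  · exact Subfield.closure_mono (Finset.coe_subset.mpr hst) hr
  · rw [eq_top_iff]
    intro r _
    refine le_iSup F {φ r} ?_
    change φ r ∈ Subfield.closure _
    exact Subfield.subset_closure (by simp)
  let k := Subfield.closure (s : Set K)
  let A : ValuationSubring k := O.comap k.subtype
  let g : F s →+* k := (φ.comp (F s).subtype).codRestrict k fun r => r.2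
  let e₀ : F s →+* A := g.codRestrict A fun r => ⟨(r : R), rfl⟩
  have he₀ : Function.Bijective e₀ := by
    refine ⟨fun x y h => Subtype.ext (hφ (congrArg (fun z : A => ((z : k) : K)) h)), fun z => ?_⟩
    obtain ⟨r, hr⟩ : ∃ r, φ r = ((z : k) : K) := z.2
    exact ⟨⟨r, show φ r ∈ k from hr ▸ (z : k).2⟩, Subtype.ext (Subtype.ext hr)⟩
  let e : F s ≃+* A := RingEquiv.ofBijective e₀ he₀
  have hA : ValuationRing A := inferInstance
  have hFV : ValuationRing (F s) :=
    Function.Surjective.valuationRing e.symm.toRingHom e.symm.surjective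
  refine ⟨hFV, ?_⟩
  obtain ⟨d, hd⟩ : ∃ d : ℕ, Algebra.trdeg (⊥ : Subfield k) k = d := by
    let T : Set k := k.subtype ⁻¹' (s : Set K)
    have hTfin : T.Finite := s.finite_toSet.preimage k.subtype.injective.injOn
    have htop : IntermediateField.adjoin (⊥ : Subfield k) T = ⊤ := by
      rw [eq_top_iff]
      intro x _
      have h1 : Subfield.closure (s : Set K) ≤
          (IntermediateField.adjoin (⊥ : Subfield k) T).toSubfield.map k.subtype := by
        rw [Subfield.closure_le]
        intro z hz
        exact ⟨⟨z, Subfield.subset_closure hz⟩,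
          IntermediateField.subset_adjoin _ T hz, rfl⟩
      obtain ⟨y, hy, hyx⟩ := h1 x.2
      exact (k.subtype.injective hyx) ▸ hy
    have : Algebra.IsAlgebraic (Algebra.adjoin (⊥ : Subfield k) T) k := by
      rw [← IntermediateField.isAlgebraic_adjoin_iff_top, htop, Algebra.isAlgebraic_iff_isIntegral]
      exact Algebra.isIntegral_of_surjective IntermediateField.topEquiv.surjective
    obtain ⟨t, hts, ht⟩ := exists_isTranscendenceBasis_subset (R := (⊥ : Subfield k)) T
    haveI : Finite t := (hTfin.subset hts).to_subtype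
    exact ⟨Nat.card t, by rw [← ht.cardinalMk_eq_trdeg]; exact Nat.cast_card.symm⟩
  have hdim : ringKrullDim (F s) ≤ ((d + 1 : ℕ) : WithBot ℕ∞) := by
    rw [ringKrullDim_eq_of_ringEquiv e]
    exact Groth.Agent.S14892.result k A d hd
  have hlt : ∀ p : PrimeSpectrum (F s), p.asIdeal.height ≠ ⊤ ∧ p.asIdeal.height ≤ (d + 1 : ℕ) := by
    intro p
    have h1 : (p.asIdeal.height : WithBot ℕ∞) ≤ ((d + 1 : ℕ) : WithBot ℕ∞) :=
      le_trans (Ideal.height_le_ringKrullDim_of_ne_top p.2.ne_top) hdim
    have h2 : p.asIdeal.height ≤ ((d + 1 : ℕ) : ℕ∞) := WithBot.coe_le_coe.mp h1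
    exact ⟨ne_top_of_le_ne_top (ENat.natCast_ne_top _) h2, h2⟩
  let ht : PrimeSpectrum (F s) → Fin (d + 2) := fun p => ⟨p.asIdeal.height.toNat, by
    have := ENat.toNat_le_toNat (hlt p).2 (ENat.natCast_ne_top _)
    rw [ENat.toNat_natCast] at this
    omega⟩
  refine Finite.of_injective ht fun p q hpq => ?_
  have heq : p.asIdeal.height = q.asIdeal.height := by
    rw [← ENat.natCast_toNat (hlt p).1, ← ENat.natCast_toNat (hlt q).1]
    exact congrArg Nat.cast (congrArg Fin.val hpq)
  haveI : p.asIdeal.FiniteHeight := ⟨Or.inr (hlt p).1⟩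
  haveI : q.asIdeal.FiniteHeight := ⟨Or.inr (hlt q).1⟩
  apply PrimeSpectrum.ext
  rcases (ValuationRing.le_total_ideal (A := F s)).total p.asIdeal q.asIdeal with h | h
  · by_contra hne
    exact absurd heq (Ideal.height_strict_mono_of_isPrime (lt_of_le_of_ne h hne) |>.ne)
  · by_contra hne
    exact absurd heq.symm (Ideal.height_strict_mono_of_isPrime (lt_of_le_of_ne h (Ne.symm hne)) |>.ne)

end Groth.Agent.S14893
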