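import Groth.Statements.S14897
import Groth.Agent.Lib.Chow.Prod
set_option backward.isDefEq.respectTransparency false

set_option autoImplicit false
universe u
open CategoryTheory CategoryTheory.Limits AlgebraicGeometry
open FlatMor

namespace Groth.Agent.S14897

/-- Let S be integral, quasi-compact and quasi-separated, K̄ a field with a dominant morphism η̄ : Spec
K̄ → S, and f ∈ K̄. Then there is a K̄-modification of S on which f is a rational function defining
a morphism to the projective line: η̄ factors as a schematically dominant s : Spec K̄ → S' followed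
by a proper S' → S, and there is F : S' → P¹ (Proj of ℤ[T₀, T₁], universe-lifted) with s ≫ F equal
to the K̄-point [1 : f] of the chart T₀ ≠ 0. -/
theorem result
    {S : Scheme.{u}} [IsIntegral S] [CompactSpace S] [QuasiSeparatedSpace S]
    (Kb : Type u) [Field Kb] (ηb : Spec (CommRingCat.of Kb) ⟶ S) [IsDominant ηb] (f : Kb) :
    ∃ (S' : Scheme.{u}) (s : Spec (CommRingCat.of Kb) ⟶ S') (q : S' ⟶ S)
      (F : S' ⟶ CohB1.ProjSpace 1 P1.R0.{u}),
      IsSchemeTheoreticallyDominant s ∧ IsProper q ∧ s ≫ q = ηb ∧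
      s ≫ F = Spec.map (CommRingCat.ofHom (P1.chartMap 0 Kb f)) ≫
        Proj.awayι P1.grading (P1.T 0) (P1.X_mem 0) one_pos := by
  haveI : IsProper (CohB1.ProjSpace.toSpec 1 P1.R0.{u}) := GrothLib.Chow.isProper_toSpec 1 P1.R0.{u}
  let F₀ : Spec (CommRingCat.of Kb) ⟶ CohB1.ProjSpace 1 P1.R0.{u} :=
    Spec.map (CommRingCat.ofHom (P1.chartMap 0 Kb f)) ≫ Proj.awayι P1.grading (P1.T 0) (P1.X_mem 0) one_pos
  let φ : Spec (CommRingCat.of Kb) ⟶ CohB1.ProjSpaceOver 1 S :=
    pullback.lift F₀ ηb (specULiftZIsTerminal.hom_ext _ _)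
  haveI hp : IsProper (pullback.snd (CohB1.ProjSpace.toSpec 1 (ULift.{u} ℤ)) (specULiftZIsTerminal.from S)) :=
    inferInstance
  haveI : QuasiSeparated (pullback.snd (CohB1.ProjSpace.toSpec 1 (ULift.{u} ℤ)) (specULiftZIsTerminal.from S)) :=
    inferInstance
  haveI : QuasiSeparatedSpace (CohB1.ProjSpaceOver 1 S) :=
    quasiSeparatedSpace_of_quasiSeparated (pullback.snd (CohB1.ProjSpace.toSpec 1 (ULift.{u} ℤ)) (specULiftZIsTerminal.from S))
  haveI : QuasiCompact φ := inferInstance
  haveI : IsReduced φ.image := by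
    haveI : ∀ x : φ.image, _root_.IsReduced (φ.image.presheaf.stalk x) := fun x => by
      obtain ⟨U, hU, hxU, -⟩ := exists_isAffineOpen_mem_and_subset (TopologicalSpace.Opens.mem_top (φ.imageι x))
      have hA : IsAffineOpen (φ.imageι ⁻¹ᵁ U) := hU.preimage φ.imageι
      letI := TopCat.Presheaf.algebra_section_stalk φ.image.presheaf (⟨x, hxU⟩ : (φ.imageι ⁻¹ᵁ U))
      haveI := hA.isLocalization_stalk ⟨x, hxU⟩
      haveI : _root_.IsReduced Γ(φ.image, φ.imageι ⁻¹ᵁ U) :=
        isReduced_of_injective (φ.toImage.app (φ.imageι ⁻¹ᵁ U)).hom (φ.toImage_app_injective ⟨U, hU⟩)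
      exact isReduced_localizationPreserves (hA.primeIdealOf ⟨x, hxU⟩).asIdeal.primeCompl (φ.image.presheaf.stalk x) this
    exact isReduced_of_isReduced_stalk _
  refine ⟨φ.image, φ.toImage, φ.imageι ≫ pullback.snd _ _, φ.imageι ≫ pullback.fst _ _,
    IsSchemeTheoreticallyDominant.of_isDominant _, ?_, ?_, ?_⟩
  · exact inferInstance
  · rw [← Category.assoc, Scheme.Hom.toImage_imageι]
    exact pullback.lift_snd _ _ _
  · rw [← Category.assoc, Scheme.Hom.toImage_imageι]
    exact pullback.lift_fst _ _ _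

end Groth.Agent.S14897
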