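import Groth.Statements.S14898
import Groth.Agent.Lib.Nagata6.Absolute
set_option backward.isDefEq.respectTransparency false

set_option autoImplicit false
universe u
open CategoryTheory CategoryTheory.Limits AlgebraicGeometry
open FlatMor

namespace Groth.Agent.S14898

/-- Let S be integral, quasi-compact and quasi-separated and η̄ : Spec K̄ → S dominant, K̄ a field.
Suppose given finitely many K̄-quasi-modifications of S: schematically dominant t_i : Spec K̄ → T_i
followed by separated, quasi-compact, locally finite type p_i : T_i → S with t_i ≫ p_i = η̄. Then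
there is a K̄-modification of S — a schematically dominant s : Spec K̄ → S' followed by a proper q :
S' → S with s ≫ q = η̄ — and opens V_i ⊆ S' through which s factors, together with proper
S-morphisms r_i : V_i → T_i sending the K̄-point to t_i; that is, each V_i is a K̄-modification of
T_i sitting inside S' as an open subscheme over S. -/
theorem result
    {S : Scheme.{u}} [IsIntegral S] [CompactSpace S] [QuasiSeparatedSpace S]
    (Kb : Type u) [Field Kb] (ηb : Spec (CommRingCat.of Kb) ⟶ S) [IsDominant ηb]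
    {ι : Type u} [Finite ι] (T : ι → Scheme.{u}) (t : ∀ i, Spec (CommRingCat.of Kb) ⟶ T i)
    (p : ∀ i, T i ⟶ S) [∀ i, IsSchemeTheoreticallyDominant (t i)] [∀ i, IsSeparated (p i)]
    [∀ i, LocallyOfFiniteType (p i)] [∀ i, QuasiCompact (p i)] (hp : ∀ i, t i ≫ p i = ηb) :
    ∃ (S' : Scheme.{u}) (s : Spec (CommRingCat.of Kb) ⟶ S') (q : S' ⟶ S),
      IsSchemeTheoreticallyDominant s ∧ IsProper q ∧ s ≫ q = ηb ∧
      ∀ i, ∃ (V : S'.Opens) (v : Spec (CommRingCat.of Kb) ⟶ (V : Scheme.{u}))
        (r : (V : Scheme.{u}) ⟶ T i),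
        v ≫ V.ι = s ∧ IsProper r ∧ v ≫ r = t i ∧ r ≫ p i = V.ι ≫ q := by
  choose Y j g hj hjc hg hjg using fun i => GrothLib.Nagata6.exists_compactification (p i)
  haveI : Fintype ι := Fintype.ofFinite ι
  have key : ∀ F : Finset ι, ∃ (P : Scheme.{u}) (q : P ⟶ S) (s₀ : Spec (CommRingCat.of Kb) ⟶ P),
      IsProper q ∧ s₀ ≫ q = ηb ∧ ∀ i ∈ F, ∃ π : P ⟶ Y i, π ≫ g i = q ∧ s₀ ≫ π = t i ≫ j i := by
    classical
    intro F
    induction F using Finset.induction_on with
    | empty => exact ⟨S, 𝟙 S, ηb, inferInstance, Category.comp_id _, fun i hi => absurd hi (Finset.notMem_empty i)⟩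
    | insert a F _ ih =>
      obtain ⟨P, q, s₀, hq, hs, hπ⟩ := ih
      haveI := hg a
      haveI := hq
      refine ⟨pullback q (g a), pullback.fst q (g a) ≫ q,
        pullback.lift s₀ (t a ≫ j a) (by rw [hs, Category.assoc, hjg, hp]), inferInstance,
        by rw [← Category.assoc, pullback.lift_fst, hs], fun i hi => ?_⟩
      rcases Finset.mem_insert.1 hi with rfl | hi
      · exact ⟨pullback.snd q (g i), pullback.condition.symm, pullback.lift_snd _ _ _⟩
      · obtain ⟨π, h1, h2⟩ := hπ i hi
        exact ⟨pullback.fst q (g a) ≫ π, by rw [Category.assoc, h1],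
          by rw [← Category.assoc, pullback.lift_fst, h2]⟩
  obtain ⟨P, q, s₀, hq, hs, hπ⟩ := key Finset.univ
  haveI := hq
  haveI : QuasiSeparatedSpace P := quasiSeparatedSpace_of_quasiSeparated q
  haveI : QuasiCompact s₀ := inferInstance
  haveI : IsReduced s₀.image := by
    haveI : ∀ x : s₀.image, _root_.IsReduced (s₀.image.presheaf.stalk x) := fun x => by
      obtain ⟨U, hU, hxU, -⟩ := exists_isAffineOpen_mem_and_subset (TopologicalSpace.Opens.mem_top (s₀.imageι x))
      have hA : IsAffineOpen (s₀.imageι ⁻¹ᵁ U) := hU.preimage s₀.imageι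
      letI := TopCat.Presheaf.algebra_section_stalk s₀.image.presheaf (⟨x, hxU⟩ : (s₀.imageι ⁻¹ᵁ U))
      haveI := hA.isLocalization_stalk ⟨x, hxU⟩
      haveI : _root_.IsReduced Γ(s₀.image, s₀.imageι ⁻¹ᵁ U) :=
        isReduced_of_injective (s₀.toImage.app (s₀.imageι ⁻¹ᵁ U)).hom (s₀.toImage_app_injective ⟨U, hU⟩)
      exact isReduced_localizationPreserves (hA.primeIdealOf ⟨x, hxU⟩).asIdeal.primeCompl (s₀.image.presheaf.stalk x) this
    exact isReduced_of_isReduced_stalk _
  refine ⟨s₀.image, s₀.toImage, s₀.imageι ≫ q, IsSchemeTheoreticallyDominant.of_isDominant _, inferInstance,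
    by rw [← Category.assoc, Scheme.Hom.toImage_imageι, hs], fun i => ?_⟩
  obtain ⟨π, h1, h2⟩ := hπ i (Finset.mem_univ i)
  haveI := hj i
  haveI := hg i
  let φ : s₀.image ⟶ Y i := s₀.imageι ≫ π
  haveI : IsProper φ := by
    haveI : IsProper (φ ≫ g i) := by
      show IsProper ((s₀.imageι ≫ π) ≫ g i)
      rw [Category.assoc, h1]; infer_instance
    exact IsProper.of_comp φ (g i)
  let e := (pullback.fst φ (j i)).isoOpensRange
  refine ⟨(pullback.fst φ (j i)).opensRange,
    pullback.lift s₀.toImage (t i) (by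
      show s₀.toImage ≫ s₀.imageι ≫ π = t i ≫ j i
      rw [Scheme.Hom.toImage_imageι_assoc, h2]) ≫ e.hom,
    e.inv ≫ pullback.snd φ (j i), ?_, ?_, ?_, ?_⟩
  · rw [Category.assoc, Scheme.Hom.isoOpensRange_hom_ι, pullback.lift_fst]
  · infer_instance
  · rw [Category.assoc, e.hom_inv_id_assoc, pullback.lift_snd]
  · have hc : pullback.fst φ (j i) ≫ s₀.imageι ≫ q = pullback.snd φ (j i) ≫ p i := by
      rw [← hjg i, ← pullback.condition_assoc]
      show _ = pullback.fst φ (j i) ≫ (s₀.imageι ≫ π) ≫ g i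
      rw [Category.assoc, h1]
    rw [Category.assoc, ← hc, ← Category.assoc, Scheme.Hom.isoOpensRange_inv_comp]

end Groth.Agent.S14898
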