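import Groth.Statements.S14901
-- import your own Groth.Agent.* helpers here
import Groth.Agent.Lib.WellInter17.Preimage
import Groth.Agent.Lib.GrpdQuot.InvariantOpen
import Groth.Agent.Lib.FibreDim5.StalkDim
import Groth.Agent.Lib.NoethTop.Constructible

set_option autoImplicit false
universe u
open MovLem

namespace GrothAux.S14901

open CategoryTheory AlgebraicGeometry

theorem finite_of_add_one_le {a b : WithBot ℕ∞} (h : a + 1 ≤ b) (hb : b ≤ a) (hb0 : 0 ≤ b) (hbt : b < ⊤) : False := by
  induction a using WithBot.recBotCoe with
  | bot => exact absurd (hb0.trans hb) (by simp)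
  | coe a =>
    induction b using WithBot.recBotCoe with
    | bot => exact absurd hb0 (by simp)
    | coe b =>
      cases b with
      | top => exact lt_irrefl _ hbt
      | coe n =>
        cases a with
        | top =>
          have h' : (⊤ : ℕ∞) + 1 ≤ (n : ℕ∞) := by exact_mod_cast h
          simp at h'
        | coe m =>
          have h' : m + 1 ≤ n := by exact_mod_cast h
          have h'' : n ≤ m := by exact_mod_cast hb
          omega

theorem ringKrullDim_stalk_le_zero_of_maximal {F : Scheme.{u}} (w : F) (hw : ∀ w', w' ⤳ w → w' = w) :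
    ringKrullDim (F.presheaf.stalk w) ≤ (0 : ℕ) := by
  haveI : Subsingleton (PrimeSpectrum (F.presheaf.stalk w)) := ⟨fun p p' =>
    (F.fromSpecStalk w).isEmbedding.injective
      ((hw _ ((Scheme.range_fromSpecStalk (x := w)).le ⟨p, rfl⟩)).trans
        (hw _ ((Scheme.range_fromSpecStalk (x := w)).le ⟨p', rfl⟩)).symm)⟩
  exact le_trans Order.krullDim_nonpos_of_subsingleton (by simp)

theorem ringKrullDim_stalk_le {Y : Scheme.{u}} (y : Y) :
    ringKrullDim (Y.presheaf.stalk y) ≤ topologicalKrullDim Y := by
  rw [← PrimeSpectrum.topologicalKrullDim_eq_ringKrullDim (Y.presheaf.stalk y)]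
  exact (Y.fromSpecStalk y).isEmbedding.isInducing.topologicalKrullDim_le

end GrothAux.S14901

namespace Groth.Agent.S14901

open AlgebraicGeometry CategoryTheory in
/-- Let k be a field, let S and X be separated k-schemes of finite type that are locally equidimensional
(all irreducible components passing through a given point have the same dimension), let f : S → X be
a k-morphism and Z ⊆ X a closed subset. Let d be the dimension of the image f(S), as a subspace of
X. If every point s of S with f(s) ∈ Z satisfies dim O_{S,s} ≥ d + 1 (equivalently: the closed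
subset f⁻¹(Z) of S has local codimension at least d + 1 at each of its points), then f⁻¹(Z) is
empty. -/
theorem result (k : Type u) [Field k] (S X : Scheme.{u})
    (pS : S ⟶ Spec (CommRingCat.of k)) (pX : X ⟶ Spec (CommRingCat.of k))
    [IsSeparated pS] [LocallyOfFiniteType pS] [QuasiCompact pS]
    [IsSeparated pX] [LocallyOfFiniteType pX] [QuasiCompact pX]
    (hS : ∀ (s : S) (A B : Set S), A ∈ irreducibleComponents (S : Type u) → B ∈ irreducibleComponents (S : Type u) →
      s ∈ A → s ∈ B → topologicalKrullDim A = topologicalKrullDim B)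
    (hX : ∀ (x : X) (A B : Set X), A ∈ irreducibleComponents (X : Type u) → B ∈ irreducibleComponents (X : Type u) →
      x ∈ A → x ∈ B → topologicalKrullDim A = topologicalKrullDim B)
    (f : S ⟶ X) (hf : f ≫ pX = pS) (Z : Set X) (hZ : IsClosed Z)
    (h : ∀ s : S, f.base s ∈ Z →
      topologicalKrullDim (Set.range f.base) + 1 ≤ ringKrullDim (S.presheaf.stalk s)) :
    f.base ⁻¹' Z = ∅ := by
  refine Set.eq_empty_of_forall_notMem fun s hs => ?_
  haveI : IsNoetherianRing (CommRingCat.of k : Type u) := inferInstanceAs (IsNoetherianRing k)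
  haveI : IsLocallyNoetherian X := LocallyOfFiniteType.isLocallyNoetherian pX
  haveI : IsLocallyNoetherian S := LocallyOfFiniteType.isLocallyNoetherian pS
  haveI : CompactSpace X := QuasiCompact.compactSpace_of_compactSpace pX
  haveI : QuasiSeparatedSpace X := quasiSeparatedSpace_of_quasiSeparated pX
  haveI : LocallyOfFiniteType (f ≫ pX) := hf ▸ inferInstance
  haveI : QuasiCompact (f ≫ pX) := hf ▸ inferInstance
  haveI : LocallyOfFiniteType f := locallyOfFiniteType_of_comp f pX
  haveI : QuasiCompact f := QuasiCompact.of_comp f pX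
  haveI : LocallyOfFinitePresentation f := inferInstance
  haveI : IsLocallyNoetherian f.image := LocallyOfFiniteType.isLocallyNoetherian f.imageι
  haveI : LocallyOfFiniteType (f.toImage ≫ f.imageι) := f.toImage_imageι.symm ▸ inferInstance
  haveI : LocallyOfFiniteType f.toImage := locallyOfFiniteType_of_comp f.toImage f.imageι
  obtain ⟨z, -, hzmax⟩ := GrothLib.AffDom.exists_maximal_point (f.toImage.asFiber s)
  have hz : f.toImage (f.toImage.fiberι (f.toImage s) z) = f.toImage s := by
    have h1 : f.toImage.fiberι (f.toImage s) z ∈ Set.range (f.toImage.fiberι (f.toImage s)) := ⟨z, rfl⟩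
    rw [f.toImage.range_fiberι] at h1
    exact h1
  let s' : S := f.toImage.fiberι (f.toImage s) z
  have hfs' : f s' = f s := by
    rw [← f.toImage_imageι, Scheme.Hom.comp_apply, Scheme.Hom.comp_apply, hz]
  have hs' : f s' ∈ Z := hfs'.symm ▸ hs
  refine GrothAux.S14901.finite_of_add_one_le (h s' hs') ?_ ringKrullDim_nonneg_of_nontrivial ?_
  · have h0 : ringKrullDim ((f.toImage.fiber (f.toImage s')).presheaf.stalk (f.toImage.asFiber s')) ≤ (0 : ℕ) := by
      refine GrothAux.S14901.ringKrullDim_stalk_le_zero_of_maximal _ fun w hw => ?_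
      apply (f.toImage.fiberι (f.toImage s')).isEmbedding.injective
      have hw' : f.toImage.fiberι (f.toImage s') w ⤳ s' := by
        have := hw.map (f.toImage.fiberι (f.toImage s')).continuous
        rwa [Scheme.Hom.fiberι_asFiber] at this
      have hmem : f.toImage (f.toImage.fiberι (f.toImage s') w) = f.toImage s := by
        have h1 : f.toImage.fiberι (f.toImage s') w ∈ Set.range (f.toImage.fiberι (f.toImage s')) := ⟨w, rfl⟩
        rw [f.toImage.range_fiberι] at h1
        exact h1.trans hz
      obtain ⟨w', hw''⟩ : f.toImage.fiberι (f.toImage s') w ∈ Set.range (f.toImage.fiberι (f.toImage s)) := by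
        rw [f.toImage.range_fiberι]; exact hmem
      rw [Scheme.Hom.fiberι_asFiber, ← hw'']
      exact congrArg (f.toImage.fiberι (f.toImage s)) (hzmax w'
        ((f.toImage.fiberι (f.toImage s)).isEmbedding.isInducing.specializes_iff.1 (hw''.symm ▸ hw')))
    refine (GrothLib.FibreDim5.dim_stalk_le_add f.toImage s').trans ((add_le_add le_rfl h0).trans ?_)
    rw [Nat.cast_zero, add_zero]
    refine (GrothAux.S14901.ringKrullDim_stalk_le _).trans ?_
    rw [GrothLib.AffDom.topologicalKrullDim_eq_iSup_ptDim]
    refine iSup_le fun i => ?_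
    obtain ⟨η, hη, hmax⟩ := GrothLib.AffDom.exists_maximal_point i
    refine (GrothLib.AffDom.ptDim_mono hη).trans ?_
    rw [GrothLib.DimCut.ptDim_immersion pX f.imageι η]
    obtain ⟨c, -, hc⟩ := GrothLib.GrpdQuot.exists_specializes_of_mem_closure f.toImage Set.univ isClosed_univ η
      (by rw [Set.image_univ, f.toImage.denseRange.closure_range]; exact Set.mem_univ η)
    have hmem : f.imageι η ∈ Set.range f := ⟨c, by
      rw [← hmax _ hc, ← Scheme.Hom.comp_apply, f.toImage_imageι]⟩
    have hE : Topology.IsConstructible (Set.range f) := by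
      haveI : CompactSpace S := QuasiCompact.compactSpace_of_compactSpace pS
      rw [← Set.image_univ]
      exact f.isConstructible_image Topology.IsConstructible.univ
    obtain ⟨U, hU, hne, hUE⟩ := (GrothLib.NoethTop.isConstructible_dense_iff
      (Y := closure {f.imageι η}) isIrreducible_singleton.closure hE).1
      (closure_mono (Set.singleton_subset_iff.2 ⟨hmem, subset_closure rfl⟩))
    have hη' : f.imageι η ∈ U := by
      obtain ⟨y, hyU, hy⟩ := hne
      exact (specializes_iff_mem_closure.2 hy).mem_open hU hyU
    refine le_trans ?_ (Topology.IsInducing.topologicalKrullDim_le (Topology.IsEmbedding.inclusion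
      (s := closure {f.imageι η} ∩ U) (fun y hy => hUE ⟨hy.2, hy.1⟩)).isInducing)
    rw [show (closure {f.imageι η} ∩ U : Set X) = closure {f.imageι η} ∩ ((⟨U, hU⟩ : X.Opens) : Set X) from rfl,
      GrothLib.WellInter17.dim_inter_open_eq pX isClosed_closure ⟨U, hU⟩]
    exact le_iSup (fun x : (closure {f.imageι η} ∩ U : Set X) => GrothLib.AffDom.ptDim x.1)
      ⟨f.imageι η, subset_closure rfl, hη'⟩
  · exact ringKrullDim_lt_top


end Groth.Agent.S14901
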