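import Groth.Statements.S14902
-- import your own Groth.Agent.* helpers here
import Mathlib.AlgebraicGeometry.PullbackCarrier


set_option autoImplicit false
universe u
open MovLem

namespace Groth.Agent.S14902

open AlgebraicGeometry CategoryTheory CategoryTheory.Limits in
/-- Let X₁, X₂, X₃ be schemes over a field k, with the fibre products X₁₂ = X₁ ×_k X₂, X₂₃ = X₂ ×_k X₃,
X₁₃ = X₁ ×_k X₃ and X₁₂₃ = X₁₂ ×_{X₂} X₂₃ = X₁ ×_k X₂ ×_k X₃. Write p₁₂ : X₁₂₃ → X₁₂, p₂₃ : X₁₂₃ →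
X₂₃, p₁₃ : X₁₂₃ → X₁₃, p₁ : X₁₂₃ → X₁ and p₃ : X₁₂₃ → X₃ for the projections from the triple
product, and, on the double products, pr₁ : X₁₂ → X₁, pr₂ : X₁₂ → X₂, pr₁ : X₁₃ → X₁, pr₃ : X₁₃ →
X₃, pr₂ : X₂₃ → X₂ and pr₃ : X₂₃ → X₃ for the projections (indexed by the target factor). Let W₁ ⊆
X₁₂, W₂ ⊆ X₂₃ and R₁ ⊆ X₁ be arbitrary subsets of the underlying spaces, and put W₁₂ = p₁₂⁻¹(W₁) ∩
p₂₃⁻¹(W₂), W₃ = p₁₃(W₁₂), R₂ = pr₂(W₁ ∩ pr₁⁻¹(R₁)) and R₃ = p₃(W₁₂ ∩ p₁⁻¹(R₁)). Then R₃ = pr₃(W₃ ∩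
pr₁⁻¹(R₁)), computed in X₁₃, and R₃ = pr₃(W₂ ∩ pr₂⁻¹(R₂)), computed in X₂₃, as identities of point
sets. (The published statement concerns supports of algebraic cycles on smooth projective
equidimensional k-schemes; this row is stated for arbitrary subsets of the underlying spaces of
arbitrary k-schemes.) -/
theorem result (k : Type u) [Field k] (X₁ X₂ X₃ : Scheme.{u})
    (π₁ : X₁ ⟶ Spec (CommRingCat.of k)) (π₂ : X₂ ⟶ Spec (CommRingCat.of k)) (π₃ : X₃ ⟶ Spec (CommRingCat.of k))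
    (p₁₃ : pullback (pullback.snd π₁ π₂) (pullback.fst π₂ π₃) ⟶ pullback π₁ π₃)
    (h₁₃ : p₁₃ ≫ pullback.fst π₁ π₃ =
      pullback.fst (pullback.snd π₁ π₂) (pullback.fst π₂ π₃) ≫ pullback.fst π₁ π₂)
    (h₁₃' : p₁₃ ≫ pullback.snd π₁ π₃ =
      pullback.snd (pullback.snd π₁ π₂) (pullback.fst π₂ π₃) ≫ pullback.snd π₂ π₃)
    (W₁ : Set ↥(pullback π₁ π₂)) (W₂ : Set ↥(pullback π₂ π₃)) (R₁ : Set X₁)
    (W₁₂ : Set ↥(pullback (pullback.snd π₁ π₂) (pullback.fst π₂ π₃)))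
    (hW₁₂ : W₁₂ = (pullback.fst (pullback.snd π₁ π₂) (pullback.fst π₂ π₃)).base ⁻¹' W₁ ∩
      (pullback.snd (pullback.snd π₁ π₂) (pullback.fst π₂ π₃)).base ⁻¹' W₂)
    (W₃ : Set ↥(pullback π₁ π₃)) (hW₃ : W₃ = p₁₃.base '' W₁₂)
    (R₂ : Set X₂) (hR₂ : R₂ = (pullback.snd π₁ π₂).base '' (W₁ ∩ (pullback.fst π₁ π₂).base ⁻¹' R₁))
    (R₃ : Set X₃) (hR₃ : R₃ = (pullback.snd (pullback.snd π₁ π₂) (pullback.fst π₂ π₃) ≫ pullback.snd π₂ π₃).base ''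
      (W₁₂ ∩ (pullback.fst (pullback.snd π₁ π₂) (pullback.fst π₂ π₃) ≫ pullback.fst π₁ π₂).base ⁻¹' R₁)) :
    R₃ = (pullback.snd π₁ π₃).base '' (W₃ ∩ (pullback.fst π₁ π₃).base ⁻¹' R₁) ∧
      R₃ = (pullback.snd π₂ π₃).base '' (W₂ ∩ (pullback.fst π₂ π₃).base ⁻¹' R₂) := by
  have ap : ∀ {A B C : Scheme.{u}} (f : A ⟶ B) (g : B ⟶ C) (x : A), g.base (f.base x) = (f ≫ g).base x :=
    fun f g x => by simp
  constructor
  · rw [hR₃, hW₃]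
    refine Set.ext fun z => ⟨?_, ?_⟩
    · rintro ⟨t, ⟨ht, ht1⟩, rfl⟩
      refine ⟨p₁₃.base t, ⟨⟨t, ht, rfl⟩, ?_⟩, ?_⟩
      · show (pullback.fst π₁ π₃).base (p₁₃.base t) ∈ R₁
        rw [ap, h₁₃]; exact ht1
      · rw [ap, h₁₃']
    · rintro ⟨_, ⟨⟨t, ht, rfl⟩, ht1⟩, rfl⟩
      refine ⟨t, ⟨ht, ?_⟩, ?_⟩
      · show (_ ≫ pullback.fst π₁ π₂).base t ∈ R₁
        rw [← h₁₃, ← ap]; exact ht1
      · rw [← h₁₃', ← ap]
  · rw [hR₃, hW₁₂, hR₂]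
    refine Set.ext fun z => ⟨?_, ?_⟩
    · rintro ⟨t, ⟨⟨h1, h2⟩, ht1⟩, rfl⟩
      refine ⟨(pullback.snd (pullback.snd π₁ π₂) (pullback.fst π₂ π₃)).base t, ⟨h2, ?_⟩, ap _ _ _⟩
      refine ⟨(pullback.fst (pullback.snd π₁ π₂) (pullback.fst π₂ π₃)).base t, ⟨h1, ?_⟩, ?_⟩
      · show (pullback.fst π₁ π₂).base _ ∈ R₁
        rw [ap]; exact ht1
      · rw [ap, ap, pullback.condition]
    · rintro ⟨q, ⟨hq, ⟨p, ⟨hp, hp1⟩, hpq⟩⟩, rfl⟩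
      obtain ⟨t, ht1, ht2⟩ := Scheme.Pullback.exists_preimage_pullback (f := pullback.snd π₁ π₂) (g := pullback.fst π₂ π₃) p q hpq
      refine ⟨t, ⟨⟨?_, ?_⟩, ?_⟩, ?_⟩
      · show (pullback.fst (pullback.snd π₁ π₂) (pullback.fst π₂ π₃)).base t ∈ W₁
        exact ht1.symm ▸ hp
      · show (pullback.snd (pullback.snd π₁ π₂) (pullback.fst π₂ π₃)).base t ∈ W₂
        exact ht2.symm ▸ hq
      · show (_ ≫ pullback.fst π₁ π₂).base t ∈ R₁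
        rw [← ap, show (pullback.fst (pullback.snd π₁ π₂) (pullback.fst π₂ π₃)).base t = p from ht1]; exact hp1
      · rw [← ap, show (pullback.snd (pullback.snd π₁ π₂) (pullback.fst π₂ π₃)).base t = q from ht2]

end Groth.Agent.S14902
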