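import Groth.Statements.S14906
import Groth.Agent.Lib.GaModel15.MainGm

set_option autoImplicit false
universe u
open CategoryTheory MonoidalCategory CartesianMonoidalCategory MonObj GrpObj AlgebraicGeometry
open Neron

namespace Groth.Agent.S14906

/-- Let R be a complete discrete valuation ring with fraction field K of characteristic 0 and
algebraically closed residue field k, and let G be an affine smooth R-group scheme of finite type
together with an isomorphism of K-group schemes between its generic fibre and the multiplicative
group over K (an affine smooth R-model of the multiplicative group). Suppose the identity component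
of the special fibre G_k is the multiplicative group: there is a homomorphism of k-group schemes
from the multiplicative group over k to G_k which is an open immersion. Then G_k is connected and G
is isomorphic to the multiplicative group over R as an R-group scheme (existence of an isomorphism
of group schemes). -/
theorem result (R : Type u) [CommRing R] [IsDomain R] [IsDiscreteValuationRing R]
    [IsAdicComplete (IsLocalRing.maximalIdeal R) R] (K : Type u) [Field K] [Algebra R K] [IsFractionRing R K] [CharZero K]
    [IsAlgClosed (IsLocalRing.ResidueField R)]
    (G : Over (Spec (CommRingCat.of R))) [GrpObj G] [Smooth G.hom] [IsAffineHom G.hom] [LocallyOfFiniteType G.hom]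
    (e : Red.bc (Spec.map (CommRingCat.ofHom (algebraMap R K))) G ≅ Red.Gm (Spec (CommRingCat.of K))) [IsMonHom e.hom]
    (j₀ : Red.Gm (Spec (CommRingCat.of (IsLocalRing.ResidueField R))) ⟶ Red.bc (Spec.map (CommRingCat.ofHom (IsLocalRing.residue R))) G) [IsMonHom j₀]
    [IsOpenImmersion j₀.left] :
    ConnectedSpace ↥(Red.bc (Spec.map (CommRingCat.ofHom (IsLocalRing.residue R))) G).left ∧
      ∃ e' : G ≅ Red.Gm (Spec (CommRingCat.of R)), IsMonHom e'.hom := by
  obtain ⟨e', he'⟩ := GrothLib.GaModel15.exists_iso_Gm G e j₀
  exact ⟨GrothLib.GaModel15.connectedSpace_bc_Gm e' _, e', he'⟩

end Groth.Agent.S14906
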