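import Groth.Statements.S1491
import Groth.Agent.Lib.LCI6.LCI
import Mathlib.AlgebraicGeometry.AffineScheme
-- import your own Groth.Agent.* helpers here

set_option autoImplicit false
universe u
attribute [local instance] HasDerivedCategory.standard
open FlatMor

namespace Groth.Agent.S1491

open AlgebraicGeometry CategoryTheory Limits in
/-- Let f : X → Y and g : Y → Z be local complete intersection morphisms, in the affine-local sense that
all ring maps between affine opens are local complete intersection homomorphisms. Then f ≫ g is a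
local complete intersection morphism. -/
theorem result {X Y Z : Scheme.{u}} (f : X ⟶ Y) (g : Y ⟶ Z)
    (hf : (∀ (U : X.Opens) (V : Y.Opens) (hU : IsAffineOpen U) (hV : IsAffineOpen V) (hUV : U ≤ f ⁻¹ᵁ V),
        letI := (f.appLE V U hUV).hom.toAlgebra
        LCI.IsLCI Γ(Y, V) Γ(X, U)))
    (hg : (∀ (U : Y.Opens) (V : Z.Opens) (hU : IsAffineOpen U) (hV : IsAffineOpen V) (hUV : U ≤ g ⁻¹ᵁ V),
        letI := (g.appLE V U hUV).hom.toAlgebra
        LCI.IsLCI Γ(Z, V) Γ(Y, U))) :
    (∀ (U : X.Opens) (V : Z.Opens) (hU : IsAffineOpen U) (hV : IsAffineOpen V) (hUV : U ≤ (f ≫ g) ⁻¹ᵁ V),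
        letI := ((f ≫ g).appLE V U hUV).hom.toAlgebra
        LCI.IsLCI Γ(Z, V) Γ(X, U)) := by
    intro U V hU hV hUV
    letI := ((f ≫ g).appLE V U hUV).hom.toAlgebra
    refine GrothLib.LCI6.isLCI_of_span_eq_top
      {r : Γ(X, U) | LCI.IsLCI Γ(Z, V) (Localization.Away r)} ?_ fun r hr => hr
    refine hU.iSup_basicOpen_eq_self_iff.mp (le_antisymm (iSup_le fun r => X.basicOpen_le _) fun x hx => ?_)
    obtain ⟨W, hW, hxW, hWV⟩ := TopologicalSpace.Opens.isBasis_iff_nbhd.mp (Scheme.isBasis_affineOpens Y)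
      (show f.base x ∈ (g ⁻¹ᵁ V : Y.Opens) from hUV hx)
    obtain ⟨r, hrU, hxr⟩ := hU.exists_basicOpen_le (V := U ⊓ f ⁻¹ᵁ W) ⟨x, hx, hxW⟩ hx
    refine TopologicalSpace.Opens.mem_iSup.mpr ⟨⟨r, ?_⟩, hxr⟩
    have hle : X.basicOpen r ≤ f ⁻¹ᵁ W := hrU.trans inf_le_right
    have h1 := hf (X.basicOpen r) W (hU.basicOpen r) hW hle
    have h2 := hg W V hW hV hWV
    letI := (f.appLE W (X.basicOpen r) hle).hom.toAlgebra
    letI := (g.appLE V W hWV).hom.toAlgebra
    letI := ((f ≫ g).appLE V (X.basicOpen r) ((X.basicOpen_le r).trans hUV)).hom.toAlgebra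
    haveI : IsScalarTower Γ(Z, V) Γ(Y, W) Γ(X, X.basicOpen r) := IsScalarTower.of_algebraMap_eq' (by
      show _ = (f.appLE W (X.basicOpen r) hle).hom.comp (g.appLE V W hWV).hom
      rw [← CommRingCat.hom_comp, Scheme.Hom.appLE_comp_appLE]
      rfl)
    have h12 : LCI.IsLCI Γ(Z, V) Γ(X, X.basicOpen r) := GrothLib.LCI6.isLCI_comp h2 h1
    haveI := hU.isLocalization_basicOpen r
    haveI : IsScalarTower Γ(Z, V) Γ(X, U) Γ(X, X.basicOpen r) := IsScalarTower.of_algebraMap_eq' (by
      show _ = (X.presheaf.map (homOfLE (X.basicOpen_le r)).op).hom.comp ((f ≫ g).appLE V U hUV).hom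
      rw [← CommRingCat.hom_comp, Scheme.Hom.appLE_map]
      rfl)
    exact GrothLib.LCI6.isLCI_of_algEquiv
      ((IsLocalization.algEquiv (Submonoid.powers r) Γ(X, X.basicOpen r) (Localization.Away r)).restrictScalars Γ(Z, V)) h12

end Groth.Agent.S1491
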