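import Groth.Statements.S14910
import Groth.Agent.Lib.SplitRed1.Split
-- import your own Groth.Agent.* helpers here

set_option autoImplicit false
universe u
open CategoryTheory MonoidalCategory CartesianMonoidalCategory MonObj GrpObj AlgebraicGeometry
open Neron

namespace Groth.Agent.S14910

/-- Let R be a complete discrete valuation ring with fraction field K and algebraically closed residue
field k, and N an R-group scheme which is a Néron model of its generic fibre N_K, an abelian variety
(proper and geometrically integral over K). Assume N_K has semi-abelian reduction: no geometric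
fibre of N contains a closed subgroup isomorphic to the additive group. Then N_K has split
reduction: the extension of the component group of the special fibre N_k by the identity component
splits, i.e. for every k-point x of N_k there is a k-point y of N_k lying in the connected component
of x such that, for every n, y^n = 1 if and only if x^n lies in the connected component of the
identity (y has the same order as the component of x). (The published statement covers semi-abelian
varieties with their Néron lft-models; this row is the case of an abelian variety, where the Néron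
model is of finite type.) -/
theorem result (R : Type u) [CommRing R] [IsDomain R]
    [IsDiscreteValuationRing R] [IsAdicComplete (IsLocalRing.maximalIdeal R) R] (K : Type u) [Field K] [Algebra R K]
    [IsFractionRing R K] [IsAlgClosed (IsLocalRing.ResidueField R)]
    (N : Over (Spec (CommRingCat.of R))) [GrpObj N] [IsCommMonObj N] (hN : SGA7.IsNeron R K N)
    [IsProper ((SGA7.genFib R K).obj N).hom] [GeometricallyIntegral ((SGA7.genFib R K).obj N).hom]
    (hss : SGA7.FibresUnipotentRankZero N)
    (x : 𝟙_ (Over (Spec (CommRingCat.of (IsLocalRing.ResidueField R)))) ⟶ Red.bc (Spec.map (CommRingCat.ofHom (IsLocalRing.residue R))) N) :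
    ∃ y : 𝟙_ (Over (Spec (CommRingCat.of (IsLocalRing.ResidueField R)))) ⟶ Red.bc (Spec.map (CommRingCat.ofHom (IsLocalRing.residue R))) N,
      y.left.base (IsLocalRing.closedPoint (IsLocalRing.ResidueField R)) ∈ connectedComponent (x.left.base (IsLocalRing.closedPoint (IsLocalRing.ResidueField R))) ∧
        ∀ n : ℕ, y ^ n = 1 ↔
          (x ^ n).left.base (IsLocalRing.closedPoint (IsLocalRing.ResidueField R)) ∈ connectedComponent ((η[Red.bc (Spec.map (CommRingCat.ofHom (IsLocalRing.residue R))) N]).left.base (IsLocalRing.closedPoint (IsLocalRing.ResidueField R))) := by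
  haveI := hN.1
  haveI := hN.2.2.1
  let b := Spec.map (CommRingCat.ofHom (IsLocalRing.residue R))
  haveI : Smooth (Red.bc b N).hom := MorphismProperty.pullback_snd N.hom b ‹Smooth N.hom›
  haveI : QuasiCompact (Red.bc b N).hom := MorphismProperty.pullback_snd N.hom b ‹QuasiCompact N.hom›
  haveI : IsCommMonObj (Red.bc b N) := Functor.isCommMonObj_obj
  let s : Spec (CommRingCat.of R) := IsLocalRing.closedPoint R
  let L := AlgebraicClosure ((Spec (CommRingCat.of R)).residueField s)
  let φ : CommRingCat.of R ⟶ CommRingCat.of L := Spec.preimage (Red.geomPt s)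
  have hφ : ∀ r ∈ IsLocalRing.maximalIdeal R, φ.hom r = 0 := fun r hr => by
    have h1 : (Spec.map φ) (IsLocalRing.closedPoint L) = s := by
      rw [show Spec.map φ = Red.geomPt s from Spec.map_preimage _]
      show ((Spec.map _) ≫ (Spec (CommRingCat.of R)).fromSpecResidueField s) _ = s
      rw [Scheme.Hom.comp_apply, Scheme.fromSpecResidueField_apply]
    have h2 : r ∈ ((Spec.map φ) (IsLocalRing.closedPoint L)).asIdeal := by rw [h1]; exact hr
    have h3 : φ.hom r ∈ IsLocalRing.maximalIdeal L := h2
    rwa [IsLocalRing.maximalIdeal_eq_bot, Ideal.mem_bot] at h3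
  let q : Spec (CommRingCat.of L) ⟶ Spec (CommRingCat.of (IsLocalRing.ResidueField R)) :=
    Spec.map (CommRingCat.ofHom (Ideal.Quotient.lift (IsLocalRing.maximalIdeal R) φ.hom hφ))
  have hq : q ≫ b = Red.geomPt s := by
    rw [← Spec.map_preimage (Red.geomPt s), ← Spec.map_comp]
    rfl
  obtain ⟨y, hy, hyn⟩ := GrothLib.SplitRed1.split (Red.bc b N)
    (fun v hv hvc => GrothLib.SplitRed1.noGa_of_fibre N b s q hq (hss s) v hv hvc) x
  exact ⟨y, (GrothLib.NeronCompGrp24.mem_component_iff _ y x).2 hy,
    fun n => (hyn n).trans (GrothLib.NeronCompGrp24.mem_neutralPts_iff _ _)⟩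

end Groth.Agent.S14910
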