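import Groth.Statements.S14912
-- import your own Groth.Agent.* helpers here
import Groth.Agent.Lib.NeronCompGrp24.Split

set_option autoImplicit false
universe u
open CategoryTheory MonoidalCategory CartesianMonoidalCategory MonObj GrpObj AlgebraicGeometry
open Neron

namespace Groth.Agent.S14912

/-- Let R be a complete discrete valuation ring with fraction field K and algebraically closed residue
field k of characteristic p > 0, and N an R-group scheme which is a Néron model of its generic fibre
N_K, an abelian variety (proper and geometrically integral over K). Then N_K has split reduction —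
for every k-point x of the special fibre N_k there is a k-point y in the connected component of x
such that for all n, y^n = 1 if and only if x^n lies in the connected component of the identity — if
and only if this holds for every k-point x such that some x^(p^r) lies in the connected component of
the identity (the p-primary part of the component sequence splits). (The published statement covers
semi-abelian varieties with their Néron lft-models; this row is the case of an abelian variety.) -/
theorem result (R : Type u) [CommRing R] [IsDomain R]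
    [IsDiscreteValuationRing R] [IsAdicComplete (IsLocalRing.maximalIdeal R) R] (K : Type u) [Field K] [Algebra R K]
    [IsFractionRing R K] [IsAlgClosed (IsLocalRing.ResidueField R)] (p : ℕ) [Fact p.Prime] [CharP (IsLocalRing.ResidueField R) p]
    (N : Over (Spec (CommRingCat.of R))) [GrpObj N] [IsCommMonObj N] (hN : SGA7.IsNeron R K N)
    [IsProper ((SGA7.genFib R K).obj N).hom] [GeometricallyIntegral ((SGA7.genFib R K).obj N).hom] :
    (∀ x : 𝟙_ (Over (Spec (CommRingCat.of (IsLocalRing.ResidueField R)))) ⟶ Red.bc (Spec.map (CommRingCat.ofHom (IsLocalRing.residue R))) N,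
        ∃ y : 𝟙_ (Over (Spec (CommRingCat.of (IsLocalRing.ResidueField R)))) ⟶ Red.bc (Spec.map (CommRingCat.ofHom (IsLocalRing.residue R))) N,
          y.left.base (IsLocalRing.closedPoint (IsLocalRing.ResidueField R)) ∈ connectedComponent (x.left.base (IsLocalRing.closedPoint (IsLocalRing.ResidueField R))) ∧
            ∀ n : ℕ, y ^ n = 1 ↔ (x ^ n).left.base (IsLocalRing.closedPoint (IsLocalRing.ResidueField R)) ∈ connectedComponent ((η[Red.bc (Spec.map (CommRingCat.ofHom (IsLocalRing.residue R))) N]).left.base (IsLocalRing.closedPoint (IsLocalRing.ResidueField R)))) ↔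
      ∀ x : 𝟙_ (Over (Spec (CommRingCat.of (IsLocalRing.ResidueField R)))) ⟶ Red.bc (Spec.map (CommRingCat.ofHom (IsLocalRing.residue R))) N,
        (∃ r : ℕ, (x ^ (p ^ r)).left.base (IsLocalRing.closedPoint (IsLocalRing.ResidueField R)) ∈ connectedComponent ((η[Red.bc (Spec.map (CommRingCat.ofHom (IsLocalRing.residue R))) N]).left.base (IsLocalRing.closedPoint (IsLocalRing.ResidueField R)))) →
          ∃ y : 𝟙_ (Over (Spec (CommRingCat.of (IsLocalRing.ResidueField R)))) ⟶ Red.bc (Spec.map (CommRingCat.ofHom (IsLocalRing.residue R))) N,
          y.left.base (IsLocalRing.closedPoint (IsLocalRing.ResidueField R)) ∈ connectedComponent (x.left.base (IsLocalRing.closedPoint (IsLocalRing.ResidueField R))) ∧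
            ∀ n : ℕ, y ^ n = 1 ↔ (x ^ n).left.base (IsLocalRing.closedPoint (IsLocalRing.ResidueField R)) ∈ connectedComponent ((η[Red.bc (Spec.map (CommRingCat.ofHom (IsLocalRing.residue R))) N]).left.base (IsLocalRing.closedPoint (IsLocalRing.ResidueField R))) := by
  haveI := hN.1
  haveI := hN.2.2.1
  let b := Spec.map (CommRingCat.ofHom (IsLocalRing.residue R))
  haveI : Smooth (Red.bc b N).hom := MorphismProperty.pullback_snd N.hom b ‹Smooth N.hom›
  haveI : QuasiCompact (Red.bc b N).hom := MorphismProperty.pullback_snd N.hom b ‹QuasiCompact N.hom›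
  haveI : IsCommMonObj (Red.bc b N) := Functor.isCommMonObj_obj
  refine ⟨fun h x _ => h x, fun h x => ?_⟩
  obtain ⟨y, hy, hyn⟩ := GrothLib.NeronCompGrp24.split_of_pPart (Red.bc b N) p (fun x ⟨r, hr⟩ => by
    obtain ⟨y, hy, hyn⟩ := h x ⟨r, (GrothLib.NeronCompGrp24.mem_neutralPts_iff _ _).1 hr⟩
    exact ⟨y, (GrothLib.NeronCompGrp24.mem_component_iff _ y x).1 hy,
      fun n => (hyn n).trans (GrothLib.NeronCompGrp24.mem_neutralPts_iff _ _).symm⟩) x
  exact ⟨y, (GrothLib.NeronCompGrp24.mem_component_iff _ y x).2 hy,
    fun n => (hyn n).trans (GrothLib.NeronCompGrp24.mem_neutralPts_iff _ _)⟩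

end Groth.Agent.S14912
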