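import Groth.Prelude
import Groth.Agent.Lib.PerfModel10.Main

set_option autoImplicit false
universe u
open CategoryTheory CategoryTheory.Limits AlgebraicGeometry
namespace PerfSch
end PerfSch
open PerfSch

namespace Groth.Agent.S14928

/-- Let p be a prime and X a quasi-compact quasi-separated perfect scheme of characteristic p (absolute
Frobenius an isomorphism). Assume X is perfectly finitely presented over the prime field in the
sense of the compactness condition: for every small cofiltered diagram (Z_i) of quasi-compact
quasi-separated perfect schemes of characteristic p with affine transition morphisms, and every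
limit cone over it whose vertex Z is a quasi-compact quasi-separated perfect scheme of
characteristic p, the natural map colim_i Hom(Z_i, X) → Hom(Z, X) is bijective — every morphism Z ⟶
X factors through the projection to some Z_i, and two morphisms Z_i ⟶ X with the same composite Z ⟶
X have the same composite Z_k ⟶ X for some transition morphism Z_k ⟶ Z_i. Then X admits a model: a
scheme X_0 together with a morphism X_0 ⟶ Spec F_p which is locally of finite presentation, X_0
quasi-compact and quasi-separated, and a morphism π : X ⟶ X_0 which is a perfection (every morphism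
from a perfect scheme of characteristic p to X_0 factors uniquely through π). (The published
statement is for a perfectly finitely presented morphism X ⟶ Y of quasi-compact quasi-separated
perfect schemes and produces a morphism of finite presentation X_0 ⟶ Y with perfection X ⟶ Y; this
row is the case where the base is the spectrum of the prime field, with perfect finite presentation
taken in its compactness form.) -/
theorem result (p : ℕ) [Fact p.Prime] (X : Scheme.{u})
    [FrobSch.IsCharP X p] [CompactSpace X] [QuasiSeparatedSpace X] [FrobSch.IsPerfect X p]
    (hc : ∀ (J : Type u) [SmallCategory J] [IsCofiltered J] (F : J ⥤ Scheme.{u})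
      [∀ j, FrobSch.IsCharP (F.obj j) p] (c : Cone F) [FrobSch.IsCharP c.pt p], IsLimit c →
      (∀ ⦃i j : J⦄ (a : i ⟶ j), IsAffineHom (F.map a)) →
      (∀ j, FrobSch.IsPerfect (F.obj j) p ∧ CompactSpace (F.obj j) ∧ QuasiSeparatedSpace (F.obj j)) →
      FrobSch.IsPerfect c.pt p → CompactSpace c.pt → QuasiSeparatedSpace c.pt →
      (∀ g : c.pt ⟶ X, ∃ (j : J) (gj : F.obj j ⟶ X), c.π.app j ≫ gj = g) ∧
      (∀ (j : J) (g g' : F.obj j ⟶ X), c.π.app j ≫ g = c.π.app j ≫ g' →
        ∃ (k : J) (a : k ⟶ j), F.map a ≫ g = F.map a ≫ g')) :
    ∃ (X0 : Scheme.{u}) (s : X0 ⟶ Spec (CommRingCat.of (ULift.{u} (ZMod p)))) (_ : LocallyOfFinitePresentation s)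
      (_ : CompactSpace X0) (_ : QuasiSeparatedSpace X0) (π : X ⟶ X0), FrobSch.IsPerfection π p :=
  GrothLib.PerfModel10.exists_model X ‹FrobSch.IsPerfect X p› hc

end Groth.Agent.S14928
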