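import Groth.Statements.S1493
import Groth.Agent.Lib.LCI6.Regular
-- import your own Groth.Agent.* helpers here

set_option autoImplicit false
universe u
attribute [local instance] HasDerivedCategory.standard
open FlatMor

namespace Groth.Agent.S1493

open AlgebraicGeometry CategoryTheory Limits in
/-- Let f : X → Y be locally of finite type with X and Y regular (locally Noetherian with regular local
rings). Then f is a local complete intersection morphism (affine-locally: local complete
intersection ring maps). -/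
theorem result {X Y : Scheme.{u}} (f : X ⟶ Y) [LocallyOfFiniteType f] [IsLocallyNoetherian X] [IsLocallyNoetherian Y]
    (hX : ∀ x : X, IsRegularLocalRing ↑(X.presheaf.stalk x)) (hY : ∀ y : Y, IsRegularLocalRing ↑(Y.presheaf.stalk y)) :
    (∀ (U : X.Opens) (V : Y.Opens) (hU : IsAffineOpen U) (hV : IsAffineOpen V) (hUV : U ≤ f ⁻¹ᵁ V),
        letI := (f.appLE V U hUV).hom.toAlgebra
        LCI.IsLCI Γ(Y, V) Γ(X, U)) := by
  intro U V hU hV hUV
  letI := (f.appLE V U hUV).hom.toAlgebra
  have key : ∀ {Z : Scheme.{u}} [IsLocallyNoetherian Z] (_ : ∀ z : Z, IsRegularLocalRing ↑(Z.presheaf.stalk z))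
      (W : Z.Opens) (_ : IsAffineOpen W), IsRegularRing Γ(Z, W) := by
    intro Z _ hZ W hW
    haveI : IsNoetherianRing Γ(Z, W) := IsLocallyNoetherian.component_noetherian ⟨W, hW⟩
    refine isRegularRing_iff.mpr fun p hp => ?_
    let z : Z := hW.fromSpec ⟨p, hp⟩
    have hz : z ∈ W := hW.range_fromSpec.le (Set.mem_range_self _)
    have hq : hW.primeIdealOf ⟨z, hz⟩ = ⟨p, hp⟩ :=
      hW.fromSpec.isOpenEmbedding.injective (hW.fromSpec_primeIdealOf ⟨z, hz⟩)
    letI : Algebra Γ(Z, W) (Z.presheaf.stalk z) := TopCat.Presheaf.algebra_section_stalk Z.presheaf ⟨z, hz⟩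
    haveI := hW.isLocalization_stalk ⟨z, hz⟩
    haveI : IsLocalization.AtPrime (Z.presheaf.stalk z) p := by
      have : IsLocalization.AtPrime (Z.presheaf.stalk z) (hW.primeIdealOf ⟨z, hz⟩).asIdeal := hW.isLocalization_stalk ⟨z, hz⟩
      convert this using 2
      rw [hq]
    haveI := hZ z
    exact IsRegularLocalRing.of_ringEquiv
      (IsLocalization.algEquiv p.primeCompl (Z.presheaf.stalk z) (Localization.AtPrime p)).toRingEquiv
  haveI := key hX U hU
  haveI := key hY V hV
  haveI : Algebra.FiniteType Γ(Y, V) Γ(X, U) := RingHom.finiteType_algebraMap.mp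
    (HasRingHomProperty.appLE @LocallyOfFiniteType f inferInstance ⟨V, hV⟩ ⟨U, hU⟩ hUV)
  exact GrothLib.LCI6.isLCI_of_isRegularRing

end Groth.Agent.S1493
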