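import Groth.Statements.S1549
import Groth.Agent.Lib.SepPts.SmoothDense
import Groth.Agent.Lib.Rigidity.Relative.AbScheme
-- import your own Groth.Agent.* helpers here

set_option autoImplicit false
universe u
open CategoryTheory CategoryTheory.Limits AlgebraicGeometry
open Variety

namespace Groth.Agent.S1549

/-- For a reduced scheme locally of finite type over k, being geometrically reduced is equivalent to
having a dense open subscheme that is smooth over k. -/
theorem result (k : Type u) [Field k] (X : Scheme.{u}) [X.Over (Spec (CommRingCat.of k))] [IsReduced X] [LocallyOfFiniteType (X ↘ (Spec (CommRingCat.of k)))] :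
    GeometricallyReduced (X ↘ (Spec (CommRingCat.of k))) ↔ ∃ U : X.Opens, Dense (U : Set X) ∧ Smooth (U.ι ≫ (X ↘ (Spec (CommRingCat.of k)))) := by
  let g := X ↘ (Spec (CommRingCat.of k))
  have : LocallyOfFinitePresentation g := LocallyOfFinitePresentation.iff_locallyOfFiniteType.mpr ‹_›
  constructor
  · intro hg
    refine ⟨g.smoothLocus, GrothLib.SepPts.dense_smoothLocus g, ?_⟩
    show Smooth (g.smoothLocus.ι ≫ g)
    rw [← Scheme.Hom.smoothLocus_eq_top_iff, ← Scheme.Hom.preimage_smoothLocus_eq, eq_top_iff]
    exact fun w _ => w.2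
  · rintro ⟨U, hU, hsm⟩
    have : GeometricallyReduced (U.ι ≫ g) := GrothLib.Rigidity.geometricallyReduced_of_smooth' (U.ι ≫ g)
    have : IsLocallyNoetherian X := LocallyOfFiniteType.isLocallyNoetherian g
    have : Nonempty ↥(Spec (CommRingCat.of k)) := ⟨IsLocalRing.closedPoint k⟩
    refine GrothLib.SepPts.geometricallyReduced_of_dense g (T := {x | x ∈ U ∧ ∀ w, w ⤳ x → w = x}) ?_ ?_
    · intro x
      obtain ⟨η, hη⟩ := QuasiSober.sober (isIrreducible_irreducibleComponent (x := x)) isClosed_irreducibleComponent
      have hmax : ∀ w, w ⤳ η → w = η := fun w hw => by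
        have h1 : irreducibleComponent x ⊆ closure {w} := by
          rw [← hη.def]
          exact closure_minimal (Set.singleton_subset_iff.mpr hw.mem_closure) isClosed_closure
        have h2 : closure {w} ⊆ irreducibleComponent x :=
          (irreducibleComponent_mem_irreducibleComponents x).2 isIrreducible_singleton.closure h1
        exact hw.antisymm (hη.specializes (h2 (subset_closure rfl))) |>.eq
      have hηU : η ∈ U := by
        obtain ⟨V, hV, hηV, -⟩ := exists_isAffineOpen_mem_and_subset (X := X) (x := η) (U := ⊤) trivial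
        have : IsNoetherianRing Γ(X, V) := IsLocallyNoetherian.component_noetherian ⟨V, hV⟩
        have : TopologicalSpace.NoetherianSpace V.toScheme :=
          (TopologicalSpace.noetherianSpace_iff_of_homeomorph (hV.isoSpec.hom.homeomorph)).mpr inferInstance
        let ηV : V.toScheme := ⟨η, hηV⟩
        obtain ⟨z, hz⟩ := QuasiSober.sober (isIrreducible_irreducibleComponent (x := ηV)) isClosed_irreducibleComponent
        have hzη : z = ηV := Subtype.ext (hmax z.1 ((hz.specializes mem_irreducibleComponent).map V.ι.continuous))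
        obtain ⟨o, ho, hone, hoC⟩ := TopologicalSpace.NoetherianSpace.exists_isOpen_nonempty_subset_irreducibleComponent
          (irreducibleComponent ηV) (irreducibleComponent_mem_irreducibleComponents ηV)
        obtain ⟨_, ⟨w, hw, rfl⟩, hwU⟩ := hU.inter_open_nonempty _ (V.ι.isOpenEmbedding.isOpenMap _ ho)
          (hone.image _)
        have hsp : V.ι ηV ⤳ V.ι w := ((hzη ▸ hz).specializes (hoC hw)).map V.ι.continuous
        exact hsp.mem_open U.2 hwU
      exact closure_mono (Set.singleton_subset_iff.mpr (show η ∈ {x | x ∈ U ∧ ∀ w, w ⤳ x → w = x} from ⟨hηU, hmax⟩))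
        (hη.specializes mem_irreducibleComponent).mem_closure
    · rintro x ⟨hxU, hmax⟩
      obtain ⟨k', _, _, _, x', hx', hmem⟩ := GrothLib.SepPts.isSepPt_of_maximal (U.ι ≫ g) (η := ⟨x, hxU⟩)
        (fun w hw => Subtype.ext (hmax w.1 (hw.map U.ι.continuous)))
      obtain ⟨t, ht⟩ := hmem
      refine ⟨k', inferInstance, inferInstance, inferInstance, x' ≫ U.ι, by rw [Category.assoc, hx'], t, ?_⟩
      rw [Scheme.Hom.comp_apply, ht]
      rfl


end Groth.Agent.S1549
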