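import Groth.Statements.S14932
import Groth.Agent.Lib.FrobDeg5.Main
import Groth.Agent.S1549

set_option autoImplicit false
universe u
open CategoryTheory CategoryTheory.Limits AlgebraicGeometry
open Variety

namespace Groth.Agent.S14932

/-- Let k be a field of characteristic p > 0 and X a variety over k (an integral scheme, separated and
of finite type over k) which is geometrically reduced over k, of dimension d. Then the Frobenius
twist X^(p) = X ×_{Spec k, F_k} Spec k, the base change of X along the absolute Frobenius of Spec k,
is an integral scheme, and the relative Frobenius F_{X/k} : X → X^(p) has degree p^d: the residue
field of the generic point of X is an extension of degree p^d of the residue field of its image in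
X^(p). (The published item also says that X^(p) is separated and of finite type over k and that
F_{X/k} is finite and dominant; these hold for every base change of a separated morphism of finite
type, respectively for the relative Frobenius of every scheme locally of finite type over a base of
characteristic p, and are not restated. It also states the equivalence of: X^(p) reduced, X
geometrically reduced, X has a nonempty open smooth over k; that equivalence is not part of this
row.) -/
theorem result (k : Type u) [Field k]
    (p : ℕ) [Fact p.Prime] [CharP k p] (X : Scheme.{u}) [X.Over (Spec (CommRingCat.of k))] [IsIntegral X]
    [IsSeparated (X ↘ (Spec (CommRingCat.of k)))] [LocallyOfFiniteType (X ↘ (Spec (CommRingCat.of k)))] [QuasiCompact (X ↘ (Spec (CommRingCat.of k)))]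
    [GeometricallyReduced (X ↘ (Spec (CommRingCat.of k)))] (d : ℕ) (hd : topologicalKrullDim X = d) :
    IsIntegral (FrobSch.frobTwist (X ↘ (Spec (CommRingCat.of k))) p) ∧
      (FrobSch.relFrob (X ↘ (Spec (CommRingCat.of k))) p).residueDegree (genericPoint X) = p ^ d := by
  obtain ⟨U, hU, hs⟩ := (Groth.Agent.S1549.result k X).1 inferInstance
  exact GrothLib.FrobDeg5.main p k X (X ↘ (Spec (CommRingCat.of k))) d hd U hU

end Groth.Agent.S14932
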