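import Groth.Agent.Lib.OmegaUniv.Stalk
import Groth.Agent.Lib.OX.Exact
import Groth.Prelude.Def_Frob
import Mathlib

set_option autoImplicit false
universe u
open CategoryTheory CategoryTheory.Limits AlgebraicGeometry
set_option backward.isDefEq.respectTransparency false

namespace Groth.Agent.S14933

attribute [local instance] GrothLib.OmegaUniv.stalkAlg

/-- the local ring of a fibre product is generated, up to inverses, by those of the factors -/
lemma pullback_stalk_induction {Y₁ Y₂ S : Scheme.{u}} (g₁ : Y₁ ⟶ S) (g₂ : Y₂ ⟶ S) (z : ↥(pullback g₁ g₂))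
    (K : Subring ((pullback g₁ g₂).presheaf.stalk z))
    (hinv : ∀ a ∈ K, ∀ b, b * a = 1 → b ∈ K)
    (h₁ : ∀ a, ((pullback.fst g₁ g₂).stalkMap z).hom a ∈ K)
    (h₂ : ∀ a, ((pullback.snd g₁ g₂).stalkMap z).hom a ∈ K) : K = ⊤ := by
  obtain ⟨V, hV, hzV, -⟩ := exists_isAffineOpen_mem_and_subset (x := g₁ (pullback.fst g₁ g₂ z)) (U := ⊤) trivial
  obtain ⟨U₁, hU₁, hz1, hU₁V'⟩ := exists_isAffineOpen_mem_and_subset (x := pullback.fst g₁ g₂ z) (U := g₁ ⁻¹ᵁ V) hzV
  have hz2' : g₂ (pullback.snd g₁ g₂ z) ∈ V := by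
    rw [← Scheme.Hom.comp_apply, ← pullback.condition]; exact hzV
  obtain ⟨U₂, hU₂, hz2, hU₂V'⟩ := exists_isAffineOpen_mem_and_subset (x := pullback.snd g₁ g₂ z) (U := g₂ ⁻¹ᵁ V) hz2'
  have hU₁V : U₁ ≤ g₁ ⁻¹ᵁ V := hU₁V'
  have hU₂V : U₂ ≤ g₂ ⁻¹ᵁ V := hU₂V'
  let W := pullback.fst g₁ g₂ ⁻¹ᵁ U₁ ⊓ pullback.snd g₁ g₂ ⁻¹ᵁ U₂
  have hzW : z ∈ W := ⟨hz1, hz2⟩
  have H := IsPullback.of_hasPullback g₁ g₂
  haveI : IsAffine _ := hU₁
  haveI : IsAffine _ := hU₂
  haveI : IsAffine _ := hV
  have hW : IsAffineOpen W := .of_isIso (Scheme.Hom.isPullback_resLE H (US := V) (UT := U₂) (UX := U₁) (UY := W)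
    hU₂V hU₁V rfl).isoPullback.hom
  have hP : IsPushout (g₁.appLE V U₁ hU₁V) (g₂.appLE V U₂ hU₂V)
      ((pullback.fst g₁ g₂).appLE U₁ W inf_le_left) ((pullback.snd g₁ g₂).appLE U₂ W inf_le_right) :=
    (AlgebraicGeometry.isIso_pushoutSection_iff H (US := V) (UT := U₂) (UX := U₁) (UY := W)
      hU₂V hU₁V rfl).1
      (AlgebraicGeometry.isIso_pushoutSection_of_isAffineOpen H hU₂V hU₁V rfl hV hU₂ hU₁)
  let ψ : Γ(pullback g₁ g₂, W) →+* (pullback g₁ g₂).presheaf.stalk z :=
    ((pullback g₁ g₂).presheaf.germ W z hzW).hom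
  let T := K.comap ψ
  have hT1 : ∀ u, (pullback.fst g₁ g₂).appLE U₁ W inf_le_left u ∈ T := fun u => by
    show ψ _ ∈ K
    have h := h₁ (Y₁.presheaf.germ U₁ _ hz1 u)
    rw [← CommRingCat.comp_apply, Scheme.Hom.germ_stalkMap, CommRingCat.comp_apply] at h
    show (pullback g₁ g₂).presheaf.germ W z hzW ((pullback.fst g₁ g₂).appLE U₁ W inf_le_left u) ∈ K
    rw [Scheme.Hom.appLE, ← CommRingCat.comp_apply, Category.assoc, TopCat.Presheaf.germ_res]
    exact h
  have hT2 : ∀ u, (pullback.snd g₁ g₂).appLE U₂ W inf_le_right u ∈ T := fun u => by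
    show ψ _ ∈ K
    have h := h₂ (Y₂.presheaf.germ U₂ _ hz2 u)
    rw [← CommRingCat.comp_apply, Scheme.Hom.germ_stalkMap, CommRingCat.comp_apply] at h
    show (pullback g₁ g₂).presheaf.germ W z hzW ((pullback.snd g₁ g₂).appLE U₂ W inf_le_right u) ∈ K
    rw [Scheme.Hom.appLE, ← CommRingCat.comp_apply, Category.assoc, TopCat.Presheaf.germ_res]
    exact h
  let a : Γ(Y₁, U₁) ⟶ CommRingCat.of T := CommRingCat.ofHom
    (((pullback.fst g₁ g₂).appLE U₁ W inf_le_left).hom.codRestrict T hT1)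
  let b : Γ(Y₂, U₂) ⟶ CommRingCat.of T := CommRingCat.ofHom
    (((pullback.snd g₁ g₂).appLE U₂ W inf_le_right).hom.codRestrict T hT2)
  let i : CommRingCat.of T ⟶ Γ(pullback g₁ g₂, W) := CommRingCat.ofHom T.subtype
  have hab : g₁.appLE V U₁ hU₁V ≫ a = g₂.appLE V U₂ hU₂V ≫ b :=
    CommRingCat.hom_ext (RingHom.ext fun t => Subtype.ext (ConcreteCategory.congr_hom hP.w t))
  have hd : hP.desc a b hab ≫ i = 𝟙 _ := by
    refine hP.hom_ext ?_ ?_
    · rw [IsPushout.inl_desc_assoc, Category.comp_id]; rfl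
    · rw [IsPushout.inr_desc_assoc, Category.comp_id]; rfl
  have hψ : ∀ t, ψ t ∈ K := fun t => by
    have h1 : (hP.desc a b hab t : T).1 = t := ConcreteCategory.congr_hom hd t
    have h2 := (hP.desc a b hab t : T).2
    rwa [h1] at h2
  refine eq_top_iff.2 fun w _ => ?_
  letI := TopCat.Presheaf.algebra_section_stalk (pullback g₁ g₂).presheaf ⟨z, hzW⟩
  haveI := hW.isLocalization_stalk ⟨z, hzW⟩
  obtain ⟨c, d, hcd⟩ := IsLocalization.exists_mk'_eq (hW.primeIdealOf ⟨z, hzW⟩).asIdeal.primeCompl w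
  obtain ⟨e, he⟩ := (IsLocalization.map_units ((pullback g₁ g₂).presheaf.stalk z) d).exists_left_inv
  have hwe : w = algebraMap _ _ c * e := by
    rw [← IsLocalization.mk'_spec ((pullback g₁ g₂).presheaf.stalk z) c d, hcd, mul_assoc,
      mul_comm (algebraMap _ _ _) e, he, mul_one]
  rw [hwe]
  exact K.mul_mem (hψ c) (hinv _ (hψ d) _ he)

/-- derivations kill everything coming from the Frobenius twist -/
lemma stalkDer_relFrob (p : ℕ) [Fact p.Prime] {X S : Scheme.{u}} [FrobSch.IsCharP S p] (f : X ⟶ S)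
    {M : X.Modules} (D : OmegaSh.Der f M) (x : X)
    (a : (FrobSch.frobTwist f p).presheaf.stalk (FrobSch.relFrob f p x)) :
    GrothLib.OmegaUniv.stalkD x D (((FrobSch.relFrob f p).stalkMap x).hom a) = 0 := by
  haveI hX : FrobSch.IsCharP X p := FrobSch.IsCharP.of_hom f p
  let F := FrobSch.relFrob f p
  let δ := GrothLib.OmegaUniv.stalkDer x D
  let σ := (F.stalkMap x).hom
  let K : Subring ((FrobSch.frobTwist f p).presheaf.stalk (F x)) :=
    { carrier := {b | δ (σ b) = 0}
      one_mem' := by show δ (σ 1) = 0; rw [map_one]; exact δ.map_one_eq_zero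
      zero_mem' := by show δ (σ 0) = 0; rw [map_zero, map_zero]
      add_mem' := fun {b c} hb hc => by
        show δ (σ (b + c)) = 0
        rw [map_add, map_add, (hb : δ (σ b) = 0), (hc : δ (σ c) = 0), add_zero]
      neg_mem' := fun {b} hb => by
        show δ (σ (-b)) = 0
        rw [map_neg, map_neg, (hb : δ (σ b) = 0), neg_zero]
      mul_mem' := fun {b c} hb hc => by
        show δ (σ (b * c)) = 0
        rw [map_mul, δ.leibniz, (hb : δ (σ b) = 0), (hc : δ (σ c) = 0), smul_zero, smul_zero, add_zero] }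
  suffices hK : K = ⊤ by
    have : a ∈ K := hK ▸ Subring.mem_top a
    exact this
  refine pullback_stalk_induction f (FrobSch.frob S p) (F x) K (fun b hb c hcb => ?_) (fun u => ?_) (fun u => ?_)
  · show δ (σ c) = 0
    have h1 : δ (σ c * σ b) = 0 := by rw [← map_mul, hcb, map_one]; exact δ.map_one_eq_zero
    rw [δ.leibniz, (hb : δ (σ b) = 0), smul_zero, zero_add] at h1
    have h2 := congrArg (σ c • ·) h1
    simp only [smul_smul, smul_zero] at h2
    rwa [← map_mul, hcb, map_one, one_smul] at h2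
  · show δ (σ _) = 0
    obtain ⟨U, hU, s, rfl⟩ := X.presheaf.exists_germ_eq u
    have hxU : x ∈ U := by
      have h : (F ≫ pullback.fst f (FrobSch.frob S p)) x ∈ U := hU
      rw [FrobSch.relFrob_fst] at h
      exact h
    have key : σ (((pullback.fst f (FrobSch.frob S p)).stalkMap (F x)).hom
        (X.presheaf.germ U _ hU s)) = X.presheaf.germ U x hxU (s ^ p) := by
      show ((pullback.fst f (FrobSch.frob S p)).stalkMap (F x) ≫ F.stalkMap x).hom _ = _
      rw [← Scheme.Hom.stalkMap_comp]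
      refine (Scheme.Hom.germ_stalkMap_apply (F ≫ pullback.fst f (FrobSch.frob S p)) U x hU s).trans ?_
      rw [Scheme.Hom.congr_app (FrobSch.relFrob_fst f p) U, CommRingCat.comp_apply, FrobSch.frob_app]
      exact TopCat.Presheaf.germ_res_apply X.presheaf _ x _ _
    rw [key, map_pow, δ.leibniz_pow]
    have hp : (p : X.presheaf.stalk x) = 0 := by
      have := congrArg (X.presheaf.germ ⊤ x trivial).hom (FrobSch.natCast_eq_zero_app X p ⊤)
      rwa [map_natCast, map_zero] at this
    rw [← Nat.cast_smul_eq_nsmul (X.presheaf.stalk x), hp, zero_smul]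
  · show δ (σ _) = 0
    obtain ⟨V, hV, s, rfl⟩ := S.presheaf.exists_germ_eq u
    have hxV : f x ∈ V := by
      have h : (F ≫ pullback.snd f (FrobSch.frob S p)) x ∈ V := hV
      rw [FrobSch.relFrob_snd] at h
      exact h
    have key : σ (((pullback.snd f (FrobSch.frob S p)).stalkMap (F x)).hom
        (S.presheaf.germ V _ hV s)) = X.presheaf.germ (f ⁻¹ᵁ V) x hxV (f.app V s) := by
      show ((pullback.snd f (FrobSch.frob S p)).stalkMap (F x) ≫ F.stalkMap x).hom _ = _
      rw [← Scheme.Hom.stalkMap_comp]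
      refine (Scheme.Hom.germ_stalkMap_apply (F ≫ pullback.snd f (FrobSch.frob S p)) V x hV s).trans ?_
      rw [Scheme.Hom.congr_app (FrobSch.relFrob_snd f p) V, CommRingCat.comp_apply]
      exact TopCat.Presheaf.germ_res_apply X.presheaf _ x _ _
    rw [key]
    show GrothLib.OmegaUniv.stalkD x D _ = 0
    rw [GrothLib.OmegaUniv.stalkD_germ]
    exact (congrArg (GrothLib.OX.germ (DCoh.toP.obj M) (f ⁻¹ᵁ V) hxV) (D.d_app s)).trans (map_zero _)

/-- derivations kill sections from the Frobenius twist -/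
lemma d_relFrob_app (p : ℕ) [Fact p.Prime] {X S : Scheme.{u}} [FrobSch.IsCharP S p] (f : X ⟶ S)
    {M : X.Modules} (D : OmegaSh.Der f M) (V : (FrobSch.frobTwist f p).Opens)
    (c : Γ(FrobSch.frobTwist f p, V)) :
    D.app (FrobSch.relFrob f p ⁻¹ᵁ V) ((FrobSch.relFrob f p).app V c) = 0 := by
  refine GrothLib.OX.section_eq_zero _ fun x hx => ?_
  have h := stalkDer_relFrob p f D x ((FrobSch.frobTwist f p).presheaf.germ V _ hx c)
  rw [← CommRingCat.comp_apply, Scheme.Hom.germ_stalkMap, CommRingCat.comp_apply,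
    GrothLib.OmegaUniv.stalkD_germ] at h
  exact h


/-- Let p be a prime, S a scheme of characteristic p (p is zero in the structure sheaf) and f : X → S a
morphism of schemes, with relative Frobenius F_{X/S} : X → X^(p) = X ×_{S,F_S} S over S. Then the
sheaf of differentials of X over S is also the sheaf of differentials of X over X^(p): if Ω is an
O_X-module and d : O_X → Ω a universal S-derivation, then d kills every section coming from X^(p),
i.e. there is a derivation O_X → Ω relative to F_{X/S} with the same values as d, and that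
derivation is universal among derivations relative to F_{X/S}. -/
theorem result (p : ℕ) [Fact p.Prime]
    {X S : Scheme.{u}} [FrobSch.IsCharP S p] (f : X ⟶ S)
    (Ω : X.Modules) (d : OmegaSh.Der f Ω) (hd : OmegaSh.IsUniversal d) :
    ∃ d' : OmegaSh.Der (FrobSch.relFrob f p) Ω,
      (∀ (U : X.Opens) (s : Γ(X, U)), d'.app U s = d.app U s) ∧ OmegaSh.IsUniversal d' := by
  let F := FrobSch.relFrob f p
  let lift : ∀ {M : X.Modules}, OmegaSh.Der f M → OmegaSh.Der F M := fun {M} D =>
    { d := D.d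
      d_mul := D.d_mul
      d_map := D.d_map
      d_app := fun {V} c => d_relFrob_app p f D V.unop c }
  let down : ∀ {M : X.Modules}, OmegaSh.Der F M → OmegaSh.Der f M := fun {M} D =>
    { d := D.d
      d_mul := D.d_mul
      d_map := D.d_map
      d_app := fun {V} c => by
        have h := D.d_app (X := Opposite.op (pullback.snd f (FrobSch.frob S p) ⁻¹ᵁ V.unop))
          ((pullback.snd f (FrobSch.frob S p)).app V.unop c)
        have hf : f.app V.unop c = X.presheaf.map (eqToHom (congrArg (fun g : X ⟶ S => g ⁻¹ᵁ V.unop) (FrobSch.relFrob_snd f p).symm)).op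
            (F.app (pullback.snd f (FrobSch.frob S p) ⁻¹ᵁ V.unop) ((pullback.snd f (FrobSch.frob S p)).app V.unop c)) := by
          rw [Scheme.Hom.congr_app (FrobSch.relFrob_snd f p).symm V.unop]
          rfl
        show D.d (f.app V.unop c) = 0
        rw [hf]
        refine Eq.trans (D.d_map _ _) (Eq.trans (congrArg (M.val.map _).hom h) ?_)
        exact map_zero _ }
  refine ⟨lift d, fun U s => rfl, fun M D => ?_⟩
  obtain ⟨α, hα, hu⟩ := hd M (down D)
  refine ⟨α, ?_, fun β hβ => hu β ?_⟩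
  · exact PresheafOfModules.Derivation.ext (funext fun U => congrFun (congrArg (fun E : OmegaSh.Der f M => @E.d) hα) U)
  · exact PresheafOfModules.Derivation.ext (funext fun U => congrFun (congrArg (fun E : OmegaSh.Der F M => @E.d) hβ) U)

end Groth.Agent.S14933
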