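import Groth.Statements.S14937
-- import your own Groth.Agent.* helpers here
import Groth.Agent.Lib.TateThm.Rank

set_option autoImplicit false
universe u
open CategoryTheory MonoidalCategory CartesianMonoidalCategory MonObj GrpObj AlgebraicGeometry
open AbVar

namespace Groth.Agent.S14937

/-- Lower bound: let A be an abelian variety of dimension g over a finite field k (a proper,
geometrically integral commutative group scheme over k). Then the rank of End_k(A) is at least 2g:
there exist 2g endomorphisms of A (homomorphisms A → A) which are linearly independent over ℤ in the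
additive group of k-morphisms A → A (pointwise product). The upper bound 4g² holds over any field. -/
theorem result (k : Type u) [Field k] [Finite k]
    (A : Over (Spec (CommRingCat.of k)))
    [GrpObj A] [IsCommMonObj A] [IsProper A.hom] [GeometricallyIntegral A.hom]
    (g : ℕ) (hg : topologicalKrullDim A.left = g) :
    ∃ e : Fin (2 * g) → (A ⟶ A), (∀ i, IsMonHom (e i)) ∧
      LinearIndependent ℤ (fun i => Additive.ofMul (e i)) := by
  obtain ⟨l, hlp, hlk⟩ := GrothLib.HomFG.exists_prime_ne_zero k
  haveI := Fact.mk hlp
  haveI : IsAlgClosed (AlgebraicClosure k) := inferInstance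
  let σ := Spec.map (CommRingCat.ofHom (algebraMap k (AlgebraicClosure k)))
  haveI : Module.Finite ℤ_[l] (AbDual.TateMod A l (SGA7.pt (AlgebraicClosure k))) :=
    GrothLib.AbTors.module_finite A σ l hlk
  haveI : Module.IsTorsionFree ℤ_[l] (AbDual.TateMod A l (SGA7.pt (AlgebraicClosure k))) :=
    GrothLib.AbTors.instIsTorsionFree (A := A) (σ := σ) (l := l)
  haveI : Module.Free ℤ_[l] (AbDual.TateMod A l (SGA7.pt (AlgebraicClosure k))) :=
    Module.free_of_finite_type_torsion_free'
  obtain ⟨π, hπ, -, hle, happ⟩ := GrothLib.RHyp.exists_frob A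
  obtain ⟨n, e, hn, hli, hspan⟩ := GrothLib.TateThm.exists_basis (A := A) (B := A)
  have h := GrothLib.TateThm.finrank_hom_eq_sum (Ω := AlgebraicClosure k) hlk π hle happ π hle happ
  have hle2 : 2 * g ≤ n := by
    classical
    set T := (AbDual.tateMapₗ (l := l) (T := SGA7.pt (AlgebraicClosure k)) π).baseChange ℚ_[l]
    have hdeg : T.charpoly.natDegree = 2 * g := by
      rw [LinearMap.charpoly_natDegree, Module.finrank_baseChange]
      exact GrothLib.AbTors.finrank_eq A σ l hlk hg
    obtain ⟨w, hw⟩ := UniqueFactorizationMonoid.prod_normalizedFactors (LinearMap.charpoly_monic T).ne_zero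
    have hd := congrArg Polynomial.natDegree hw
    rw [Polynomial.natDegree_mul (left_ne_zero_of_mul (hw ▸ (LinearMap.charpoly_monic T).ne_zero)) w.ne_zero,
      Polynomial.natDegree_coe_units, add_zero,
      Polynomial.natDegree_multiset_prod _ (UniqueFactorizationMonoid.zero_notMem_normalizedFactors _),
      hdeg, Finset.sum_multiset_map_count] at hd
    rw [hn, h, ← hd]
    refine Finset.sum_le_sum fun P hP => ?_
    rw [smul_eq_mul]
    exact Nat.mul_le_mul_right _ (Nat.le_mul_self _)
  refine ⟨fun i => (e (Fin.castLE hle2 i)).toHom, fun i => inferInstance, ?_⟩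
  exact (hli.comp _ (Fin.castLE_injective hle2)).map' GrothLib.HomFG.toHomLin
    (LinearMap.ker_eq_bot.2 GrothLib.HomFG.toHomLin_injective)

end Groth.Agent.S14937
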