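import Groth.Statements.S14938
-- import your own Groth.Agent.* helpers here
import Groth.Agent.Lib.TateThm.Center

set_option autoImplicit false
universe u
open CategoryTheory MonoidalCategory CartesianMonoidalCategory MonObj GrpObj AlgebraicGeometry
open AbVar

namespace Groth.Agent.S14938

/-- Let A be an abelian variety over a finite field k with q elements (a proper, geometrically integral
commutative group scheme over k) and π_A its q-Frobenius endomorphism (the identity on points and
the q-th power map on sections; a homomorphism). If an endomorphism f of A commutes with every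
endomorphism of A, then for some integer N > 0 the multiple N·f is an integral linear combination of
the composition powers π_A^0 = id, π_A, π_A ∘ π_A, …; in other words the centre of ℚ ⊗ End_k(A) is
ℚ[π_A] (the reverse inclusion being that π_A is central). In the statement the group Hom_k(A, A) is
written multiplicatively, so N·f is f^N and the linear combination is a finite product of integer
powers. -/
theorem result (k : Type u) [Field k] [Finite k]
    (A : Over (Spec (CommRingCat.of k)))
    [GrpObj A] [IsCommMonObj A] [IsProper A.hom] [GeometricallyIntegral A.hom]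
    (πA : A ⟶ A) [IsMonHom πA] (hπAb : πA.left.base = 𝟙 _)
    (hπAle : ∀ U : A.left.Opens, U ≤ πA.left ⁻¹ᵁ U)
    (hπAapp : ∀ (U : A.left.Opens) (s : Γ(A.left, U)), (πA.left.appLE U U (hπAle U)).hom s = s ^ Nat.card k)
    (f : A ⟶ A) [IsMonHom f] (hf : ∀ h : A ⟶ A, IsMonHom h → f ≫ h = h ≫ f) :
    ∃ N : ℕ, 0 < N ∧ ∃ (d : ℕ) (a : Fin d → ℤ),
      f ^ N = ∏ i : Fin d, ((fun h : A ⟶ A => h ≫ πA)^[(i : ℕ)] (𝟙 A)) ^ (a i) := by
  obtain ⟨l, hlp, hlk⟩ := GrothLib.HomFG.exists_prime_ne_zero k
  haveI := Fact.mk hlp
  have hcent : ∀ ψ : EndAV.End A, EndAV.End.of f * ψ = ψ * EndAV.End.of f := fun ψ => EndAV.End.ext (by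
    rw [EndAV.End.toHom_mul, EndAV.End.toHom_mul, EndAV.End.toHom_of]
    exact (hf ψ.toHom inferInstance).symm)
  obtain ⟨N, hN, hmem⟩ := GrothLib.TateThm.exists_nsmul_mem_span_powers (Ω := AlgebraicClosure k) hlk πA hπAle hπAapp
    (EndAV.End.of f) hcent
  obtain ⟨c, hc⟩ := Finsupp.mem_span_range_iff_exists_finsupp.1 hmem
  refine ⟨N, hN, c.support.sup id + 1, fun i => c i, ?_⟩
  have hsum : N • EndAV.End.of f = ∑ i : Fin (c.support.sup id + 1), c i • EndAV.End.of πA ^ (i : ℕ) := by
    rw [← hc, Fin.sum_univ_eq_sum_range (fun i => c i • EndAV.End.of πA ^ i), Finsupp.sum]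
    refine Finset.sum_subset (fun i hi => Finset.mem_range.2 (Nat.lt_succ_of_le (Finset.le_sup (f := id) hi)))
      fun i _ hi => ?_
    rw [Finsupp.notMem_support_iff.1 hi, zero_smul]
  have hit : ∀ i : ℕ, ((fun h : A ⟶ A => h ≫ πA)^[i] (𝟙 A)) = (EndAV.End.of πA ^ i).toHom := fun i => by
    induction i with
    | zero => rw [pow_zero]; rfl
    | succ i ih => rw [Function.iterate_succ_apply', ih, pow_succ']; rfl
  have h1 := congrArg EndAV.Hom.toHom hsum
  refine Eq.trans ?_ (h1.trans ((GrothLib.HomFG.toHom_sum_zsmul _ _).trans ?_))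
  · exact (EndAV.End.toHom_nsmul N (EndAV.End.of f)).symm
  · exact Finset.prod_congr rfl fun i _ => by rw [hit]

end Groth.Agent.S14938
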