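import Groth.Statements.S14941
-- import your own Groth.Agent.* helpers here
import Groth.Agent.Lib.TateThm.PolClass

set_option autoImplicit false
universe u
open CategoryTheory CategoryTheory.Limits MonoidalCategory CartesianMonoidalCategory MonObj GrpObj AlgebraicGeometry
open AbVar

namespace Groth.Agent.S14941

/-- Take a finite field k and an abelian variety A over it (a proper, geometrically integral commutative
group scheme over k) and an integer d ≥ 1. Up to isomorphism, only finitely many abelian varieties B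
over k are isogenous to A and carry a polarisation of degree d² defined over k. Here: B^t is a given
dual abelian variety (B^t, φ) for the fppf topology, a polarisation is a homomorphism λ : B → B^t
which on every geometric fibre is of the form Λ(L) = φ_L for an ample invertible sheaf L, its degree
d² means λ is finite locally free of rank d², B isogenous to A means there is a finite surjective
homomorphism A → B, and isomorphism is isomorphism of k-schemes (equivalently of abelian varieties,
after a translation). -/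
theorem result (k : Type u) [Field k] [Finite k]
    (A : Over (Spec (CommRingCat.of k)))
    [GrpObj A] [IsCommMonObj A] [IsProper A.hom] [GeometricallyIntegral A.hom]
    (d : ℕ) (hd : 1 ≤ d) :
    ∃ (n : ℕ) (Bs : Fin n → Over (Spec (CommRingCat.of k))),
      ∀ (B Bt : Over (Spec (CommRingCat.of k))) [GrpObj B] [IsCommMonObj B] [IsProper B.hom] [GeometricallyIntegral B.hom]
        [GrpObj Bt] [IsCommMonObj Bt] (φ : AgPol.DualMap B Bt),
        AbDual.IsDualAV Scheme.fppfPrecoverage B Bt φ →
        ∀ lam : B ⟶ Bt, AgPol.IsPolarization B Bt φ lam → AgPol.HasDegSq lam d →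
        (∃ (u : A ⟶ B) (_ : IsMonHom u), IsFinite u.left ∧ Function.Surjective u.left.base) →
        ∃ i : Fin n, Nonempty (B ≅ Bs i) := by
  classical
  obtain ⟨g, hg⟩ := GrothLib.AbTors.exists_dim A
  let Good : Over (Spec (CommRingCat.of k)) → Prop := fun Z => ∃ (_ : GrpObj Z), IsProper Z.hom ∧
    GeometricallyIntegral Z.hom ∧ topologicalKrullDim Z.left = (g : WithBot ℕ∞) ∧
    ∃ M : GrothLib.Cube.Pic Z.left, GrothLib.TateThm.AmpleCls M ∧ (GrothLib.MumfordEuler.E Z M).natAbs ≤ 2 ^ g * d
  obtain ⟨s, hs⟩ : ∃ s : Finset (Over (Spec (CommRingCat.of k))), ∀ Z, Good Z → ∃ W ∈ s, Nonempty (Z ≅ W) := by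
    by_contra h
    push Not at h
    obtain ⟨f, hf, hne⟩ := exists_seq_of_forall_finset_exists Good (fun W Z => ¬ Nonempty (Z ≅ W)) (fun s _ => by
      obtain ⟨Z, hZ, hZs⟩ := h s
      exact ⟨Z, hZ, fun W hW hiso => (hZs W hW).false hiso.some⟩)
    obtain ⟨n₀, S, hS, hiso⟩ := GrothLib.TateThm.finitenessProp g (2 ^ g * d) f hf
    obtain ⟨m, hm⟩ := hS.nonempty
    obtain ⟨n, hn, hmn⟩ := hS.exists_gt m
    exact hne m n hmn ⟨(hiso n hn).some.symm ≪≫ (hiso m hm).some⟩
  refine ⟨s.card, fun i => (s.equivFin.symm i).1, fun B Bt _ _ _ _ _ _ φ hφ lam hpol hdeg hu => ?_⟩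
  obtain ⟨u, hum, huf, hus⟩ := hu
  haveI := huf
  haveI : Surjective u.left := ⟨hus⟩
  obtain ⟨b, hb⟩ := GrothLib.AbTors.exists_dim B
  obtain rfl : b = g := le_antisymm (GrothLib.Poincare.dim_le_of_surjective u hg hb)
    (GrothLib.Poincare.dim_le_of_finite u hg hb)
  obtain ⟨M, hM, hE⟩ := GrothLib.TateThm.exists_ampleCls_of_polarization B Bt φ hφ lam hpol hd hdeg hb
  obtain ⟨W, hW, hiso⟩ := hs B ⟨inferInstance, inferInstance, inferInstance, hb, M, hM, hE.le⟩
  exact ⟨s.equivFin ⟨W, hW⟩, by simpa using hiso⟩

end Groth.Agent.S14941
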