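import Groth.Statements.S14942
-- import your own Groth.Agent.* helpers here
import Groth.Agent.Lib.Poincare.SimpleFrob

set_option autoImplicit false
universe u
open CategoryTheory MonoidalCategory CartesianMonoidalCategory MonObj GrpObj AlgebraicGeometry
open AbVar

namespace Groth.Agent.S14942

/-- Part 1: let A be a simple abelian variety over a finite field k with q elements — a proper,
geometrically integral commutative group scheme over k whose only abelian subvarieties over k
(geometrically integral closed subgroup schemes) are the trivial subgroup and A itself — with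
q-Frobenius endomorphism π_A (the identity on points, the q-th power map on sections; a
homomorphism). Let Ω be an algebraic closure of k, l a prime invertible in k, and assume (as is the
case) that the l-adic Tate module of Ω-points T_l A is free of finite rank over ℤ_l. Then the
characteristic polynomial of T_l(π_A), which has rational coefficients, is a power of the minimal
polynomial of π_A over ℚ: viewed over ℚ_l it equals h^n for some polynomial h with rational
coefficients irreducible over ℚ and some n. -/
theorem result (k Ω : Type u) [Field k] [Finite k] [Field Ω] [Algebra k Ω] [IsAlgClosure k Ω]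
    (l : ℕ) [Fact l.Prime] (hl : (l : k) ≠ 0) (A : Over (Spec (CommRingCat.of k)))
    [GrpObj A] [IsCommMonObj A] [IsProper A.hom] [GeometricallyIntegral A.hom]
    (hsimple : ∀ (B : Over (Spec (CommRingCat.of k))) [GrpObj B] [GeometricallyIntegral B.hom] (i : B ⟶ A) [IsMonHom i]
      [IsClosedImmersion i.left], Subsingleton B.left ∨ IsIso i)
    (πA : A ⟶ A) [IsMonHom πA] (hπAb : πA.left.base = 𝟙 _)
    (hπAle : ∀ U : A.left.Opens, U ≤ πA.left ⁻¹ᵁ U)
    (hπAapp : ∀ (U : A.left.Opens) (s : Γ(A.left, U)), (πA.left.appLE U U (hπAle U)).hom s = s ^ Nat.card k)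
    [Module.Free ℤ_[l] (AbDual.TateMod A l (SGA7.pt Ω))] [Module.Finite ℤ_[l] (AbDual.TateMod A l (SGA7.pt Ω))] :
    ∃ (h : Polynomial ℚ) (n : ℕ), Irreducible h ∧
      ((AbDual.tateMapₗ (l := l) (T := SGA7.pt Ω) πA).charpoly).map (algebraMap ℤ_[l] ℚ_[l]) =
        (h.map (algebraMap ℚ ℚ_[l])) ^ n := by
  haveI : IsAlgClosed Ω := IsAlgClosure.isAlgClosed k
  let σ := Spec.map (CommRingCat.ofHom (algebraMap k Ω))
  haveI : Module.Finite ℤ (EndAV.End A) := GrothLib.HomFG.finite_hom (A := A) (B := A)
  obtain ⟨g, hg⟩ := GrothLib.AbTors.exists_dim A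
  set φ := EndAV.End.of πA
  rcases eq_or_ne g 0 with rfl | hg0
  · refine ⟨Polynomial.X, 0, Polynomial.irreducible_X, ?_⟩
    rw [pow_zero]
    refine (Polynomial.map_one (algebraMap ℤ_[l] ℚ_[l])).symm ▸ congrArg _ ?_
    refine Polynomial.eq_one_of_monic_natDegree_zero (LinearMap.charpoly_monic _) ?_
    rw [LinearMap.charpoly_natDegree]
    exact (GrothLib.AbTors.finrank_eq A σ l hl hg).trans (Nat.mul_zero 2)
  · haveI := GrothLib.Poincare.nontrivial_end0_of_dim_ne_zero (A := A) σ l hl hg hg0
    haveI := GrothLib.Poincare.noZeroDivisors_end0 (A := A) σ l hl hsimple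
    haveI : IsDomain (EndAV.End0 A) := NoZeroDivisors.to_isDomain _
    have hint : IsIntegral ℚ (EndAV.toEnd0 φ) :=
      ((Algebra.IsIntegral.isIntegral (R := ℤ) φ).map EndAV.toEnd0).tower_top
    have hirr := minpoly.irreducible hint
    obtain ⟨P, hP, hpow⟩ := GrothLib.DegPoly.charpoly_eq_minpoly_pow σ l hl hg φ hirr
    refine ⟨_, 2 * g / (minpoly ℚ (EndAV.toEnd0 φ)).natDegree, hirr, ?_⟩
    rw [show (AbDual.tateMapₗ (l := l) (T := SGA7.pt Ω) πA).charpoly = P.map (Int.castRingHom ℤ_[l]) from hP,
      ← Polynomial.map_pow, ← hpow, Polynomial.map_map, Polynomial.map_map,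
      Subsingleton.elim ((algebraMap ℤ_[l] ℚ_[l]).comp (Int.castRingHom ℤ_[l]))
        ((algebraMap ℚ ℚ_[l]).comp (Int.castRingHom ℚ))]

end Groth.Agent.S14942
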