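import Groth.Statements.S14943
-- import your own Groth.Agent.* helpers here
import Groth.Agent.Lib.Poincare.Frob

set_option autoImplicit false
universe u
open CategoryTheory MonoidalCategory CartesianMonoidalCategory MonObj GrpObj AlgebraicGeometry
open AbVar

namespace Groth.Agent.S14943

/-- Let A be an abelian variety over a finite field k with q elements (a proper, geometrically integral
commutative group scheme over k), π_A its q-Frobenius endomorphism (the identity on points and the
q-th power map on sections; a homomorphism), Ω an algebraic closure of k and l a prime invertible in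
k. Then the Frobenius endomorphism acts semisimply on V_l(A) = ℚ_l ⊗_{ℤ_l} T_l(A), T_l(A) the l-adic
Tate module of Ω-points: the ℚ_l-linear endomorphism ℚ_l ⊗ T_l(π_A) is semisimple. (The published
statement is that ℚ[π_A] ⊆ ℚ ⊗ End_k(A) is a semisimple algebra, hence acts semisimply in every
representation over a field of characteristic zero; this row states that action on V_l(A).) -/
theorem result (k Ω : Type u) [Field k] [Finite k] [Field Ω] [Algebra k Ω] [IsAlgClosure k Ω]
    (l : ℕ) [Fact l.Prime] (hl : (l : k) ≠ 0) (A : Over (Spec (CommRingCat.of k)))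
    [GrpObj A] [IsCommMonObj A] [IsProper A.hom] [GeometricallyIntegral A.hom]
    (πA : A ⟶ A) [IsMonHom πA] (hπAb : πA.left.base = 𝟙 _)
    (hπAle : ∀ U : A.left.Opens, U ≤ πA.left ⁻¹ᵁ U)
    (hπAapp : ∀ (U : A.left.Opens) (s : Γ(A.left, U)), (πA.left.appLE U U (hπAle U)).hom s = s ^ Nat.card k) :
    Module.End.IsSemisimple ((AbDual.tateMapₗ (l := l) (T := SGA7.pt Ω) πA).baseChange ℚ_[l]) := by
  haveI : IsAlgClosed Ω := IsAlgClosure.isAlgClosed k
  exact GrothLib.Poincare.isSemisimple_frob_tate _ l hl A πA hπAle hπAapp

end Groth.Agent.S14943
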