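import Groth.Statements.S14945
-- import your own Groth.Agent.* helpers here
import Groth.Agent.Lib.TateThm.IsogIff

set_option autoImplicit false
universe u
open CategoryTheory MonoidalCategory CartesianMonoidalCategory MonObj GrpObj AlgebraicGeometry
open scoped TensorProduct
open AbVar

namespace Groth.Agent.S14945

/-- Clauses 1 and 2: let k be a finite field with algebraic closure Ω, l a prime invertible in k, and A,
B abelian varieties over k (proper, geometrically integral commutative group schemes over k). For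
each k-automorphism τ of Ω let ρ_A(τ), ρ_B(τ) be the ℤ_l-linear endomorphisms of the l-adic Tate
modules of Ω-points acting on every component by the Galois action of τ (this pins them). Then A and
B are isogenous over k — there are homomorphisms u : A → B, v : B → A and n > 0 with v ∘ u = n_A and
u ∘ v = n_B — if and only if V_l(A) = ℚ_l ⊗ T_l(A) and V_l(B) are isomorphic as Galois
representations: there is a ℚ_l-linear isomorphism e : V_l(A) → V_l(B) with e ∘ (ℚ_l ⊗ ρ_A(τ)) =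
(ℚ_l ⊗ ρ_B(τ)) ∘ e for every τ. -/
theorem result (k Ω : Type u) [Field k] [Finite k] [Field Ω] [Algebra k Ω] [IsAlgClosure k Ω]
    (l : ℕ) [Fact l.Prime] (hl : (l : k) ≠ 0) (A B : Over (Spec (CommRingCat.of k)))
    [GrpObj A] [IsCommMonObj A] [IsProper A.hom] [GeometricallyIntegral A.hom]
    [GrpObj B] [IsCommMonObj B] [IsProper B.hom] [GeometricallyIntegral B.hom]
    (ρA : (Ω ≃ₐ[k] Ω) → Module.End ℤ_[l] (AbDual.TateMod A l (SGA7.pt Ω)))
    (hρA : ∀ (τ : Ω ≃ₐ[k] Ω) (z : AbDual.TateMod A l (SGA7.pt Ω)) (m : ℕ),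
      (AbDual.TateMod.component A l (SGA7.pt Ω) m (ρA τ z)).toMul =
        SGA7.galAct τ (AbDual.TateMod.component A l (SGA7.pt Ω) m z).toMul)
    (ρB : (Ω ≃ₐ[k] Ω) → Module.End ℤ_[l] (AbDual.TateMod B l (SGA7.pt Ω)))
    (hρB : ∀ (τ : Ω ≃ₐ[k] Ω) (z : AbDual.TateMod B l (SGA7.pt Ω)) (m : ℕ),
      (AbDual.TateMod.component B l (SGA7.pt Ω) m (ρB τ z)).toMul =
        SGA7.galAct τ (AbDual.TateMod.component B l (SGA7.pt Ω) m z).toMul) :
    (∃ (u : A ⟶ B) (_ : IsMonHom u) (v : B ⟶ A) (_ : IsMonHom v) (n : ℕ), 0 < n ∧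
        u ≫ v = (𝟙 A) ^ n ∧ v ≫ u = (𝟙 B) ^ n) ↔
      ∃ e : (ℚ_[l] ⊗[ℤ_[l]] AbDual.TateMod A l (SGA7.pt Ω)) ≃ₗ[ℚ_[l]] (ℚ_[l] ⊗[ℤ_[l]] AbDual.TateMod B l (SGA7.pt Ω)),
        ∀ τ : Ω ≃ₐ[k] Ω, (e : (ℚ_[l] ⊗[ℤ_[l]] AbDual.TateMod A l (SGA7.pt Ω)) →ₗ[ℚ_[l]] (ℚ_[l] ⊗[ℤ_[l]] AbDual.TateMod B l (SGA7.pt Ω))) ∘ₗ (ρA τ).baseChange ℚ_[l] =
          ((ρB τ).baseChange ℚ_[l]) ∘ₗ (e : (ℚ_[l] ⊗[ℤ_[l]] AbDual.TateMod A l (SGA7.pt Ω)) →ₗ[ℚ_[l]] (ℚ_[l] ⊗[ℤ_[l]] AbDual.TateMod B l (SGA7.pt Ω))) := by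
  have eA : ∀ τ, ρA τ = GrothLib.TateThm.galT A l τ := fun τ => GrothLib.TateThm.eq_galT ρA hρA τ
  have eB : ∀ τ, ρB τ = GrothLib.TateThm.galT B l τ := fun τ => GrothLib.TateThm.eq_galT ρB hρB τ
  simp only [eA, eB]
  exact GrothLib.TateThm.isogenous_iff_equivariant hl

end Groth.Agent.S14945
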