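import Groth.Statements.S14946
-- import your own Groth.Agent.* helpers here
import Groth.Agent.Lib.TateThm.Rank

set_option autoImplicit false
universe u
open CategoryTheory MonoidalCategory CartesianMonoidalCategory MonObj GrpObj AlgebraicGeometry
open scoped TensorProduct Classical
open AbVar

namespace Groth.Agent.S14946

/-- Dimension formula: let A be an abelian variety over a finite field k with q elements (a proper,
geometrically integral commutative group scheme over k), π_A its q-Frobenius endomorphism (identity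
on points, q-th power on sections; a homomorphism), Ω an algebraic closure of k and l a prime
invertible in k; assume (as is the case) that the l-adic Tate module of Ω-points T_l A is free of
finite rank over ℤ_l. Factor the characteristic polynomial of V_l(π_A) = ℚ_l ⊗ T_l(π_A) over ℚ_l as
∏ P^{a(P)} with P monic irreducible, and put r = Σ_P a(P)² deg P. Then ℚ ⊗ End_k(A) has dimension r:
there are r endomorphisms of A (homomorphisms A → A), linearly independent over ℤ in the additive
group of k-morphisms A → A (written multiplicatively), such that every endomorphism f has a multiple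
f^N, N > 0, which is a product of integer powers of them. (The published statement gives only the
bounds 2g ≤ dim ℚ ⊗ End_k(A) ≤ 4g²; this row states the equality dim ℚ ⊗ End_k(A) = r from which
they follow.) -/
theorem result (k Ω : Type u) [Field k] [Finite k] [Field Ω] [Algebra k Ω] [IsAlgClosure k Ω]
    (l : ℕ) [Fact l.Prime] (hl : (l : k) ≠ 0) (A : Over (Spec (CommRingCat.of k)))
    [GrpObj A] [IsCommMonObj A] [IsProper A.hom] [GeometricallyIntegral A.hom]
    (πA : A ⟶ A) [IsMonHom πA] (hπAb : πA.left.base = 𝟙 _)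
    (hπAle : ∀ U : A.left.Opens, U ≤ πA.left ⁻¹ᵁ U)
    (hπAapp : ∀ (U : A.left.Opens) (s : Γ(A.left, U)), (πA.left.appLE U U (hπAle U)).hom s = s ^ Nat.card k)
    [Module.Free ℤ_[l] (AbDual.TateMod A l (SGA7.pt Ω))] [Module.Finite ℤ_[l] (AbDual.TateMod A l (SGA7.pt Ω))]
    (r : ℕ)
    (hr : r = ∑ P ∈ (UniqueFactorizationMonoid.normalizedFactors
        ((AbDual.tateMapₗ (l := l) (T := SGA7.pt Ω) πA).baseChange ℚ_[l]).charpoly).toFinset,
        (UniqueFactorizationMonoid.normalizedFactors
          ((AbDual.tateMapₗ (l := l) (T := SGA7.pt Ω) πA).baseChange ℚ_[l]).charpoly).count P ^ 2 * P.natDegree) :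
    ∃ e : Fin r → (A ⟶ A), (∀ i, IsMonHom (e i)) ∧ LinearIndependent ℤ (fun i => Additive.ofMul (e i)) ∧
      ∀ f : A ⟶ A, IsMonHom f → ∃ N : ℕ, 0 < N ∧ ∃ a : Fin r → ℤ, f ^ N = ∏ i, e i ^ a i := by
  obtain ⟨n, e, hn, hli, hspan⟩ := GrothLib.TateThm.exists_basis (A := A) (B := A)
  have h := GrothLib.TateThm.finrank_hom_eq_sum (Ω := Ω) hl πA hπAle hπAapp πA hπAle hπAapp
  have hnr : n = r := by
    rw [hn, h, hr]
    refine Finset.sum_congr ?_ fun P _ => ?_
    · congr 2
    · rw [sq]
  subst hnr
  refine ⟨fun i => (e i).toHom, fun i => inferInstance, ?_, fun f hf => ⟨1, Nat.one_pos, ?_⟩⟩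
  · exact hli.map' GrothLib.HomFG.toHomLin (LinearMap.ker_eq_bot.2 GrothLib.HomFG.toHomLin_injective)
  · obtain ⟨a, ha⟩ := (Submodule.mem_span_range_iff_exists_fun ℤ).1
      (hspan.symm ▸ Submodule.mem_top (x := EndAV.Hom.of f))
    refine ⟨a, ?_⟩
    rw [pow_one, ← GrothLib.HomFG.toHom_sum_zsmul, ha]
    rfl

end Groth.Agent.S14946
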