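import Groth.Statements.S14955
import Groth.Agent.Lib.Milnor.Basic
-- import your own Groth.Agent.* helpers here

set_option autoImplicit false
universe u
open TensorProduct
open EtAlg

namespace Groth.Agent.S14955

/-- Let B' = B ×_A A' be a fibre product of commutative rings with A' → A surjective. Then the square is
also a pushout of commutative rings: the canonical map B ⊗_{B'} A' → A is an isomorphism. -/
theorem result (B' B A' A : Type u) [CommRing B'] [CommRing B] [CommRing A'] [CommRing A]
    [Algebra B' B] [Algebra B' A'] [Algebra B A] [Algebra A' A] [Algebra B' A] [IsScalarTower B' B A] [IsScalarTower B' A' A]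
    (hsq : EtMil.IsFibreSquare B' B A' A) : Algebra.IsPushout B' B A' A := by
  have hS := Milnor.sq_of_isFibreSquare hsq
  rw [Algebra.isPushout_iff]
  let f : A' →ₗ[B'] A := (IsScalarTower.toAlgHom B' A' A).toLinearMap
  refine IsBaseChange.of_equiv (LinearEquiv.ofBijective (f.liftBaseChange B)
    ⟨(injective_iff_map_eq_zero _).mpr fun z hz => ?_, fun a => ?_⟩) fun x => by simp [f]
  · obtain ⟨a', rfl⟩ := Milnor.surjective_one_tmul hS.surjL z
    rw [TensorProduct.mk_apply, LinearMap.liftBaseChange_tmul, one_smul] at hz
    obtain ⟨j, hj, rfl⟩ := hS.lift a' hz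
    rw [TensorProduct.mk_apply, Algebra.algebraMap_eq_smul_one, TensorProduct.tmul_smul,
      TensorProduct.smul_tmul', Algebra.smul_def, hj, zero_mul, TensorProduct.zero_tmul]
  · obtain ⟨a', rfl⟩ := hS.surjR a
    exact ⟨1 ⊗ₜ a', by rw [LinearMap.liftBaseChange_tmul, one_smul]; rfl⟩

end Groth.Agent.S14955
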