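import Groth.Statements.S14958
import Groth.Agent.Lib.LDerLES.Basic
import Mathlib

set_option autoImplicit false
universe u
open TensorProduct CategoryTheory CategoryTheory.Limits
open EtAlg

namespace Groth.Agent.S14958

/-- Let B' = B ×_A A' be a fibre product of commutative rings with A' → A surjective and L' a B'-module.
Then L' is a fixed point of the glueing adjunction, i.e. the canonical map from L' to the compatible
pairs in (B ⊗_{B'} L') × (A' ⊗_{B'} L') is injective (it is always surjective), if and only if the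
map Tor_1(L', B) ⊕ Tor_1(L', A') → Tor_1(L', A) over B' induced by B → A and A' → A is surjective.
Here Tor_1(L', –) is the first left derived functor of L' ⊗_{B'} – on B'-modules. -/
theorem result (B' B A' A : Type u) [CommRing B'] [CommRing B] [CommRing A'] [CommRing A]
    [Algebra B' B] [Algebra B' A'] [Algebra B A] [Algebra A' A] [Algebra B' A] [IsScalarTower B' B A] [IsScalarTower B' A' A]
    (hsq : EtMil.IsFibreSquare B' B A' A)
    (L' : Type u) [AddCommGroup L'] [Module B' L'] :
    (∀ l : L', ((1 : B) ⊗ₜ[B'] l : B ⊗[B'] L') = 0 → ((1 : A') ⊗ₜ[B'] l : A' ⊗[B'] L') = 0 → l = 0) ↔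
    Epi (biprod.desc
      (((Tor (ModuleCat.{u} B') 1).obj (ModuleCat.of B' L')).map
        (ModuleCat.ofHom (IsScalarTower.toAlgHom B' B A).toLinearMap))
      (((Tor (ModuleCat.{u} B') 1).obj (ModuleCat.of B' L')).map
        (ModuleCat.ofHom (IsScalarTower.toAlgHom B' A' A).toLinearMap))) := by
  let ιl : B' →ₗ[B'] B × A' := LinearMap.prod (Algebra.linearMap B' B) (Algebra.linearMap B' A')
  let φB : B →ₗ[B'] A := (IsScalarTower.toAlgHom B' B A).toLinearMap
  let φA : A' →ₗ[B'] A := (IsScalarTower.toAlgHom B' A' A).toLinearMap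
  let gl : B × A' →ₗ[B'] A := φB.comp (LinearMap.fst _ _ _) - φA.comp (LinearMap.snd _ _ _)
  let S : ShortComplex (ModuleCat.{u} B') := ShortComplex.mk (ModuleCat.ofHom ιl) (ModuleCat.ofHom gl) (by
    refine ModuleCat.hom_ext (LinearMap.ext fun r => ?_)
    show algebraMap B A (algebraMap B' B r) - algebraMap A' A (algebraMap B' A' r) = 0
    rw [← IsScalarTower.algebraMap_apply, ← IsScalarTower.algebraMap_apply, sub_self])
  have hS : S.ShortExact := by
    refine { exact := ?_, mono_f := ?_, epi_g := ?_ }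
    · rw [ShortComplex.moduleCat_exact_iff]
      rintro ⟨b, a'⟩ (h : algebraMap B A b - algebraMap A' A a' = 0)
      obtain ⟨b', ⟨h1, h2⟩, -⟩ := hsq.2 b a' (sub_eq_zero.1 h)
      exact ⟨b', Prod.ext h1 h2⟩
    · rw [ModuleCat.mono_iff_injective]
      intro r r' h
      have h' := Prod.ext_iff.1 (h : (algebraMap B' B r, algebraMap B' A' r) = _)
      refine (hsq.2 (algebraMap B' B r') (algebraMap B' A' r') ?_).unique h' ⟨rfl, rfl⟩
      rw [← IsScalarTower.algebraMap_apply, ← IsScalarTower.algebraMap_apply]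
    · rw [ModuleCat.epi_iff_surjective]
      intro a
      obtain ⟨a', rfl⟩ := hsq.1 a
      refine ⟨((0 : B), -a'), ?_⟩
      show algebraMap B A 0 - algebraMap A' A (-a') = _
      rw [map_zero, map_neg, zero_sub, neg_neg]
  obtain ⟨R⟩ := GrothLib.LDerLES.nonempty_res hS
  let F : ModuleCat.{u} B' ⥤ ModuleCat.{u} B' := (MonoidalCategory.tensoringLeft _).obj (ModuleCat.of B' L')
  haveI : F.Additive := inferInstance
  haveI : PreservesFiniteColimits F :=
    show PreservesFiniteColimits (MonoidalCategory.tensorLeft (ModuleCat.of B' L')) from inferInstance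
  let T := F.leftDerived 1
  haveI : T.Additive := ⟨fun {X Y} {f g} => by
    let P := projectiveResolution X
    let Q := projectiveResolution Y
    have h : ∀ k : X ⟶ Y, ProjectiveResolution.lift k P Q ≫ Q.π = P.π ≫ (ChainComplex.single₀ _).map k :=
      fun k => ProjectiveResolution.lift_commutes k P Q
    show (F.leftDerived 1).map (f + g) = (F.leftDerived 1).map f + (F.leftDerived 1).map g
    rw [Functor.leftDerived_map_eq F 1 (f + g) (ProjectiveResolution.lift f P Q + ProjectiveResolution.lift g P Q)
        (by rw [Preadditive.add_comp, h, h, Functor.map_add, Preadditive.comp_add]),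
      Functor.leftDerived_map_eq F 1 f _ (h f), Functor.leftDerived_map_eq F 1 g _ (h g), Functor.map_add,
      Preadditive.add_comp, Preadditive.comp_add]⟩
  -- the biproduct form
  have e1 : Epi (biprod.desc (T.map (ModuleCat.ofHom φB)) (T.map (ModuleCat.ofHom φA))) ↔ Epi (T.map S.g) := by
    have hg : T.map S.g = biprod.lift (T.map (ModuleCat.ofHom (LinearMap.fst B' B A')))
        (-(T.map (ModuleCat.ofHom (LinearMap.snd B' B A')))) ≫
        biprod.desc (T.map (ModuleCat.ofHom φB)) (T.map (ModuleCat.ofHom φA)) := by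
      rw [biprod.lift_desc, Preadditive.neg_comp, ← Functor.map_comp, ← Functor.map_comp, ← sub_eq_add_neg,
        ← Functor.map_sub]
      rfl
    have hd : biprod.desc (T.map (ModuleCat.ofHom φB)) (T.map (ModuleCat.ofHom φA)) =
        biprod.desc (T.map (ModuleCat.ofHom (LinearMap.inl B' B A')))
          (-(T.map (ModuleCat.ofHom (LinearMap.inr B' B A')))) ≫ T.map S.g := by
      refine biprod.hom_ext' _ _ ?_ ?_
      · rw [biprod.inl_desc, biprod.inl_desc_assoc, ← Functor.map_comp]
        refine congrArg T.map (ModuleCat.hom_ext (LinearMap.ext fun b => ?_))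
        show φB b = φB b - φA 0
        rw [map_zero, sub_zero]
      · rw [biprod.inr_desc, biprod.inr_desc_assoc, Preadditive.neg_comp, ← Functor.map_comp, ← Functor.map_neg]
        refine congrArg T.map (ModuleCat.hom_ext (LinearMap.ext fun a => ?_))
        show φA a = -(φB 0 - φA a)
        rw [map_zero, zero_sub, neg_neg]
    constructor
    · intro h
      rw [hd] at h
      exact epi_of_epi (biprod.desc (T.map (ModuleCat.ofHom (LinearMap.inl B' B A')))
        (-(T.map (ModuleCat.ofHom (LinearMap.inr B' B A'))))) _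
    · intro h
      rw [hg] at h
      exact epi_of_epi (biprod.lift (T.map (ModuleCat.ofHom (LinearMap.fst B' B A')))
        (-(T.map (ModuleCat.ofHom (LinearMap.snd B' B A'))))) _
  have e2 : Epi (T.map S.g) ↔ Mono ((F.leftDerived 0).map S.f) := by
    constructor
    · intro h
      refine (GrothLib.LDerLES.exact₁ F R 1 0 rfl).mono_g ?_
      exact (cancel_epi (T.map S.g)).1 ((GrothLib.LDerLES.comp_delta F R 1 0 rfl).trans comp_zero.symm)
    · intro h
      refine (GrothLib.LDerLES.exact₃ F R 1 0 rfl).epi_f ?_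
      exact (cancel_mono ((F.leftDerived 0).map S.f)).1 ((GrothLib.LDerLES.delta_comp F R 1 0 rfl).trans zero_comp.symm)
  have e3 : Mono ((F.leftDerived 0).map S.f) ↔ Mono (F.map S.f) :=
    (MorphismProperty.monomorphisms (ModuleCat.{u} B')).arrow_mk_iso_iff
      (Arrow.isoMk (F.leftDerivedZeroIsoSelf.app S.X₁) (F.leftDerivedZeroIsoSelf.app S.X₂)
        (F.leftDerivedZeroIsoSelf.hom.naturality S.f).symm)
  refine Iff.trans ?_ ((e2.trans e3).symm.trans e1.symm)
  rw [ModuleCat.mono_iff_injective]
  show _ ↔ Function.Injective (LinearMap.lTensor L' ιl)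
  let χ := (TensorProduct.prodRight B' B' L' B A').toLinearMap ∘ₗ LinearMap.lTensor L' ιl
  have hχ : ∀ l : L', χ (l ⊗ₜ[B'] 1) =
      ((TensorProduct.comm B' B L') ((1 : B) ⊗ₜ l), (TensorProduct.comm B' A' L') ((1 : A') ⊗ₜ l)) := fun l => by
    simp [χ, ιl]
  constructor
  · intro h
    rw [injective_iff_map_eq_zero]
    intro z hz
    obtain ⟨l, rfl⟩ := (TensorProduct.rid B' L').symm.surjective z
    have h1 : χ (l ⊗ₜ[B'] 1) = 0 := by
      show (TensorProduct.prodRight B' B' L' B A') (LinearMap.lTensor L' ιl (l ⊗ₜ[B'] 1)) = 0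
      rw [TensorProduct.rid_symm_apply] at hz
      rw [hz, map_zero]
    rw [hχ, Prod.mk_eq_zero, LinearEquiv.map_eq_zero_iff, LinearEquiv.map_eq_zero_iff] at h1
    rw [TensorProduct.rid_symm_apply, h l h1.1 h1.2, TensorProduct.zero_tmul]
  · intro h l h1 h2
    have h0 : χ (l ⊗ₜ[B'] 1) = 0 := by rw [hχ, h1, h2, map_zero, map_zero]; rfl
    have h3 : LinearMap.lTensor L' ιl (l ⊗ₜ[B'] 1) = 0 :=
      (TensorProduct.prodRight B' B' L' B A').map_eq_zero_iff.1 h0
    have h4 := congrArg (TensorProduct.rid B' L') (h (h3.trans (map_zero _).symm))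
    simpa using h4

end Groth.Agent.S14958
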