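import Groth.Statements.S1496
import Groth.Agent.Lib.Ample.QuasiProj

set_option autoImplicit false
universe u
attribute [local instance] HasDerivedCategory.standard
open FlatMor

namespace Groth.Agent.S1496

open AlgebraicGeometry CategoryTheory Limits in
/-- Let S be a scheme carrying an ample invertible sheaf and f : X → S a morphism. Then f is a closed
immersion into some projective space over S (f factors as a closed immersion X → Pⁿ_S followed by
the projection Pⁿ_S → S, for some n) if and only if f is proper and X carries an ample invertible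
sheaf; and the latter holds if and only if f is proper and some O_X-module is ample relative to f. -/
theorem result {X S : Scheme.{u}} (hS : ∃ N : S.Modules, CohB1.IsAmple N) (f : X ⟶ S) :
    ((∃ (n : ℕ) (i : X ⟶ CohB1.ProjSpaceOver n S), IsClosedImmersion i ∧ i ≫ pullback.snd (CohB1.ProjSpace.toSpec n (ULift.{u} ℤ)) (specULiftZIsTerminal.from S) = f) ↔
      (IsProper f ∧ ∃ L : X.Modules, CohB1.IsAmple L)) ∧
    ((IsProper f ∧ ∃ L : X.Modules, CohB1.IsAmple L) ↔ (IsProper f ∧ ∃ L : X.Modules, RelAmple.IsRelAmple f L)) := by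
  obtain ⟨N, hN⟩ := hS
  refine ⟨⟨?_, ?_⟩, ⟨?_, ?_⟩⟩
  · rintro ⟨n, i, hi, hif⟩
    haveI := GrothLib.Chow.isProper_toBase n S
    haveI := hi
    have hp : IsProper f := by
      rw [← hif]
      exact inferInstanceAs (IsProper (i ≫ CohB1.ProjSpaceOver.toBase n S))
    obtain ⟨-, -, L, hL⟩ := GrothLib.Ample.isQuasiProjective_of_isImmersion f i hif
    exact ⟨hp, GrothLib.Ample.exists_isAmple_of_isRelAmple f hN hL⟩
  · rintro ⟨hp, L, hL⟩
    obtain ⟨n, i, hi, hif⟩ := GrothLib.Ample.exists_immersion_of_isAmple f hL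
    refine ⟨n, i, ?_, hif⟩
    haveI := GrothLib.Chow.isProper_toBase n S
    haveI : IsProper (i ≫ CohB1.ProjSpaceOver.toBase n S) := by
      rw [show i ≫ CohB1.ProjSpaceOver.toBase n S = f from hif]
      exact hp
    haveI : IsProper i := IsProper.of_comp i (CohB1.ProjSpaceOver.toBase n S)
    haveI : IsPreimmersion i := inferInstance
    exact IsClosedImmersion.of_isPreimmersion i i.isClosedMap.isClosed_range
  · rintro ⟨hp, L, hL⟩
    exact ⟨hp, L, GrothLib.Ample.isRelAmple_of_isAmple f hL⟩
  · rintro ⟨hp, L, hL⟩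
    exact ⟨hp, GrothLib.Ample.exists_isAmple_of_isRelAmple f hN hL⟩

end Groth.Agent.S1496
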