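import Groth.Statements.S14965
import Groth.Agent.Lib.Milnor21.Azumaya
import Groth.Agent.S2019
import Groth.Agent.S2021

set_option autoImplicit false
universe u
open TensorProduct
open Brauer

namespace Groth.Agent.S14965

/-- Let B' = B ×_A A' be a fibre product of commutative rings with A' → A surjective, N an Azumaya
B-algebra, M' an Azumaya A'-algebra and φ : A ⊗_B N ≅ A ⊗_{A'} M' an isomorphism of A-algebras. If a
B'-algebra D' with B'-algebra homomorphisms π₁ : D' → N and π₂ : D' → M' is the glued algebra N ×_φ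
M', in the sense that (π₁, π₂) is injective with image the pairs (n, m') satisfying φ(1 ⊗ n) = 1 ⊗
m', then D' is an Azumaya B'-algebra. (The published statement is for Azumaya algebras on the
pushout scheme of a closed immersion and an affine morphism, glued as u_*B' ×_{h_*} f_*A; this row
is the case of an affine pushout.) -/
theorem result (B' B A' A : Type u) [CommRing B'] [CommRing B] [CommRing A'] [CommRing A]
    [Algebra B' B] [Algebra B' A'] [Algebra B A] [Algebra A' A] [Algebra B' A] [IsScalarTower B' B A] [IsScalarTower B' A' A]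
    (hsq : EtMil.IsFibreSquare B' B A' A)
    (N : Type u) [Ring N] [Algebra B N] [Algebra B' N] [IsScalarTower B' B N] [IsAzumaya B N]
    (M' : Type u) [Ring M'] [Algebra A' M'] [Algebra B' M'] [IsScalarTower B' A' M'] [IsAzumaya A' M']
    (φ : A ⊗[B] N ≃ₐ[A] A ⊗[A'] M')
    (D' : Type u) [Ring D'] [Algebra B' D'] (π₁ : D' →ₐ[B'] N) (π₂ : D' →ₐ[B'] M')
    (hinj : ∀ d : D', π₁ d = 0 → π₂ d = 0 → d = 0)
    (himg : ∀ (n : N) (m' : M'), φ ((1 : A) ⊗ₜ[B] n) = (1 : A) ⊗ₜ[A'] m' ↔ ∃ d : D', π₁ d = n ∧ π₂ d = m') :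
    IsAzumaya B' D' := by
  obtain ⟨hb1, hb2⟩ := Groth.Agent.S2019.result B' B A' A hsq N M' φ.toLinearEquiv
  let c : D' →ₗ[B'] ↥(EtMil.glue B' φ.toLinearEquiv) :=
    LinearMap.codRestrict _ (π₁.toLinearMap.prod π₂.toLinearMap) fun d => (himg _ _).2 ⟨d, rfl, rfl⟩
  let e : D' ≃ₗ[B'] ↥(EtMil.glue B' φ.toLinearEquiv) := LinearEquiv.ofBijective c
    ⟨(injective_iff_map_eq_zero c).2 fun d hd => hinj d (congrArg (fun x : N × M' => x.1) (congrArg Subtype.val hd))
      (congrArg (fun x : N × M' => x.2) (congrArg Subtype.val hd)),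
    fun ⟨⟨n, m'⟩, h⟩ => by
      obtain ⟨d, rfl, rfl⟩ := (himg n m').1 h
      exact ⟨d, rfl⟩⟩
  have hB : IsAzumaya B (B ⊗[B'] D') := by
    let f : B ⊗[B'] D' →ₐ[B] N := Algebra.TensorProduct.lift (Algebra.ofId B N) π₁ fun b d => Algebra.commutes b _
    have h : ⇑f = ⇑(LinearMap.liftBaseChange B (EtMil.glueFst B' φ.toLinearEquiv)) ∘
        ⇑(e.baseChange B' B _ _) := by
      funext z
      induction z using TensorProduct.induction_on with
      | zero => simp
      | add x y hx hy => simp only [Function.comp_apply, map_add] at *; rw [hx, hy]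
      | tmul b d =>
        simp only [f, Algebra.TensorProduct.lift_tmul, Function.comp_apply, LinearEquiv.baseChange_tmul,
          LinearMap.liftBaseChange_tmul, Algebra.smul_def]
        rfl
    exact IsAzumaya.of_AlgEquiv _ _ _ (AlgEquiv.ofBijective f (h ▸ hb1.comp (LinearEquiv.bijective _))).symm
  have hA : IsAzumaya A' (A' ⊗[B'] D') := by
    let f : A' ⊗[B'] D' →ₐ[A'] M' := Algebra.TensorProduct.lift (Algebra.ofId A' M') π₂ fun b d => Algebra.commutes b _
    have h : ⇑f = ⇑(LinearMap.liftBaseChange A' (EtMil.glueSnd B' φ.toLinearEquiv)) ∘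
        ⇑(e.baseChange B' A' _ _) := by
      funext z
      induction z using TensorProduct.induction_on with
      | zero => simp
      | add x y hx hy => simp only [Function.comp_apply, map_add] at *; rw [hx, hy]
      | tmul b d =>
        simp only [f, Algebra.TensorProduct.lift_tmul, Function.comp_apply, LinearEquiv.baseChange_tmul,
          LinearMap.liftBaseChange_tmul, Algebra.smul_def]
        rfl
    exact IsAzumaya.of_AlgEquiv _ _ _ (AlgEquiv.ofBijective f (h ▸ hb2.comp (LinearEquiv.bijective _))).symm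
  exact GrothLib.Milnor21.isAzumaya_of_pair hsq D'

end Groth.Agent.S14965
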