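import Groth.Statements.S14966
-- import your own Groth.Agent.* helpers here

set_option autoImplicit false
universe u
open EtAlg

namespace Groth.Agent.S14966

/-- Let A → A' be an injective homomorphism of commutative rings and let I ⊆ A be the conductor, i.e.
the annihilator of the A-module A'/A. Then the conductor square formed by A → A/I, A → A', A/I →
A'/IA' and A' → A'/IA' is a fibre product square of rings with A' → A'/IA' surjective: A = A/I
×_{A'/IA'} A'. (The published Lemma is for the conductor square of a finite modification of schemes;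
this row is the underlying statement for one injective ring map, which needs no finiteness.) -/
theorem result (A A' : Type u) [CommRing A] [CommRing A'] [Algebra A A']
    (hinj : Function.Injective (algebraMap A A')) :
    EtMil.IsFibreSquare A (A ⧸ Module.annihilator A (A' ⧸ LinearMap.range (Algebra.linearMap A A'))) A'
      (A' ⧸ Ideal.map (algebraMap A A') (Module.annihilator A (A' ⧸ LinearMap.range (Algebra.linearMap A A')))) := by
  set I := Module.annihilator A (A' ⧸ LinearMap.range (Algebra.linearMap A A')) with hI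
  have hmul : ∀ i : A, i ∈ I ↔ ∀ c : A', ∃ k : A, algebraMap A A' k = algebraMap A A' i * c := by
    intro i
    rw [hI, Module.mem_annihilator]
    refine ⟨fun h c => ?_, fun h q => ?_⟩
    · obtain ⟨k, hk⟩ := (Submodule.Quotient.mk_eq_zero _).mp ((Submodule.Quotient.mk_smul _ i c).trans (h _))
      exact ⟨k, hk.trans (Algebra.smul_def i c)⟩
    · obtain ⟨c, rfl⟩ := Submodule.Quotient.mk_surjective _ q
      obtain ⟨k, hk⟩ := h c
      rw [← Submodule.Quotient.mk_smul, Submodule.Quotient.mk_eq_zero]
      exact ⟨k, hk.trans (Algebra.smul_def i c).symm⟩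
  have hmap : ∀ z ∈ Ideal.map (algebraMap A A') I, ∃ k ∈ I, algebraMap A A' k = z := by
    intro z hz
    induction hz using Submodule.span_induction with
    | mem z hz =>
      obtain ⟨i, hi, rfl⟩ := hz
      exact ⟨i, hi, rfl⟩
    | zero => exact ⟨0, I.zero_mem, map_zero _⟩
    | add z₁ z₂ _ _ h₁ h₂ =>
      obtain ⟨k₁, hk₁, e₁⟩ := h₁
      obtain ⟨k₂, hk₂, e₂⟩ := h₂
      exact ⟨k₁ + k₂, I.add_mem hk₁ hk₂, by rw [map_add, e₁, e₂]⟩
    | smul c z _ h =>
      obtain ⟨k, hk, rfl⟩ := h
      obtain ⟨k', hk'⟩ := (hmul k).mp hk c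
      refine ⟨k', (hmul k').mpr fun d => ?_, by rw [hk', smul_eq_mul, mul_comm]⟩
      obtain ⟨l, hl⟩ := (hmul k).mp hk (c * d)
      exact ⟨l, by rw [hl, hk', mul_assoc]⟩
  refine ⟨Ideal.Quotient.mk_surjective, fun b a' h => ?_⟩
  obtain ⟨a, rfl⟩ := Ideal.Quotient.mk_surjective b
  obtain ⟨k, hk, e⟩ := hmap (a' - algebraMap A A' a) (Ideal.Quotient.eq.mp h.symm)
  refine ⟨a + k, ⟨Ideal.Quotient.eq.mpr ((add_sub_cancel_left a k).symm ▸ hk), by rw [map_add, e]; abel⟩,
    fun x hx => hinj ?_⟩
  rw [hx.2, map_add, e]; abel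

end Groth.Agent.S14966
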