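import Groth.Statements.S14972
import Groth.Agent.S15191
import Groth.Agent.Lib.Hilb20.ChainFinset

set_option autoImplicit false
set_option maxHeartbeats 1000000
set_option linter.style.haveILetI false
set_option backward.isDefEq.respectTransparency.types false
open CategoryTheory CategoryTheory.Limits AlgebraicGeometry
open Coherent

namespace Groth.Agent.S14972

/-- Over the complex numbers, let E be a coherent sheaf on projective n-space which is pure of dimension
d (its support and the support of every nonzero coherent subsheaf have dimension d). Then there is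
exactly one finite chain of coherent subsheaves 0 = E_0 ⊂ E_1 ⊂ ⋯ ⊂ E_k = E such that each
successive quotient E_j/E_(j-1) is pure of dimension d and p-semistable (every nonzero coherent
subsheaf G of it with Hilbert polynomial ψ satisfies ψ(m)/r(ψ) ≤ φ(m)/r(φ) for all large integers m,
φ being the Hilbert polynomial of the quotient and r denoting d! times the degree-d coefficient) and
the reduced Hilbert polynomials φ/r(φ) of consecutive quotients strictly decrease for large
arguments. The chain is recorded as a finite set of subobjects of E, totally ordered by inclusion,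
containing 0 and E, all of whose members are coherent. (The published statement is for modules over
a sheaf of rings of differential operators and filtrations by submodules stable under it, and does
not assume E pure, although quotients pure of dimension d force it; this row is the case of the
structure sheaf, where every coherent subsheaf is stable, and assumes E pure.) -/
theorem result (n d : ℕ)
    (E : (CohB1.ProjSpace n ℂ).Modules) (hE : Coh.IsCoh E)
    (hpure : (topologicalKrullDim ↥(CohB1.support E) = (d : WithBot ℕ∞) ∧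
          ∀ (G : (CohB1.ProjSpace n ℂ).Modules) (ι : G ⟶ E), Mono ι → Coh.IsCoh G → ¬ IsZero G → topologicalKrullDim ↥(CohB1.support G) = (d : WithBot ℕ∞))) :
    ∃! C : Finset (Subobject E),
      ⊥ ∈ C ∧ ⊤ ∈ C ∧ IsChain (fun A B : Subobject E => A ≤ B) (↑C : Set (Subobject E)) ∧
      (∀ A ∈ C, Coh.IsCoh (A : (CohB1.ProjSpace n ℂ).Modules)) ∧
      (∀ A ∈ C, ∀ B ∈ C, ∀ hAB : A < B, (∀ D ∈ C, ¬ (A < D ∧ D < B)) →
        (topologicalKrullDim ↥(CohB1.support (cokernel (Subobject.ofLE A B hAB.le))) = (d : WithBot ℕ∞) ∧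
          ∀ (G : (CohB1.ProjSpace n ℂ).Modules) (ι : G ⟶ (cokernel (Subobject.ofLE A B hAB.le))), Mono ι → Coh.IsCoh G → ¬ IsZero G → topologicalKrullDim ↥(CohB1.support G) = (d : WithBot ℕ∞)) ∧
        (∀ (G : (CohB1.ProjSpace n ℂ).Modules) (ι : G ⟶ (cokernel (Subobject.ofLE A B hAB.le))), Mono ι → Coh.IsCoh G → ¬ IsZero G →
          ∀ φ ψ : Polynomial ℚ, (∀ m : ℤ, (Curv2.euler ℂ (CohB1.ProjSpace n ℂ) (CohB1.tensorMod (cokernel (Subobject.ofLE A B hAB.le)) (Twist.twistProjSpace n ℂ m)) : ℚ) = φ.eval (m : ℚ)) → (∀ m : ℤ, (Curv2.euler ℂ (CohB1.ProjSpace n ℂ) (CohB1.tensorMod G (Twist.twistProjSpace n ℂ m)) : ℚ) = ψ.eval (m : ℚ)) →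
            W4c2simpsonmod1.RedLE d ψ φ)) ∧
      (∀ A ∈ C, ∀ B ∈ C, ∀ B' ∈ C, ∀ hAB : A < B, ∀ hBB : B < B',
        (∀ D ∈ C, ¬ (A < D ∧ D < B)) → (∀ D ∈ C, ¬ (B < D ∧ D < B')) →
        ∀ ψ ψ' : Polynomial ℚ, (∀ m : ℤ, (Curv2.euler ℂ (CohB1.ProjSpace n ℂ) (CohB1.tensorMod (cokernel (Subobject.ofLE A B hAB.le)) (Twist.twistProjSpace n ℂ m)) : ℚ) = ψ.eval (m : ℚ)) →
          (∀ m : ℤ, (Curv2.euler ℂ (CohB1.ProjSpace n ℂ) (CohB1.tensorMod (cokernel (Subobject.ofLE B B' hBB.le)) (Twist.twistProjSpace n ℂ m)) : ℚ) = ψ'.eval (m : ℚ)) →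
          W4c2simpsonmod1.RedLT d ψ' ψ) := by
  classical
  haveI := GrothLib.Euler.isNoetherian_of_proper (X := CohB1.ProjSpace n ℂ) ℂ
  have hL := GrothLib.Ample.isAmple_twistProjSpace_one n ℂ
  have h0 : ¬ IsZero E := GrothLib.Hilb20.not_isZero_of_dim hpure.1
  obtain ⟨s, hs, huniq⟩ :=
    Groth.Agent.S15191.result ℂ (CohB1.ProjSpace n ℂ) (Twist.twistProjSpace n ℂ 1) hL d E hE h0 hpure.2
  have hcoh := GrothLib.Hilb20.isCoh_chain hE s hs.2.1 fun i => (hs.2.2.1 i).1
  have mem : ∀ x, x ∈ Finset.univ.image ⇑s ↔ x ∈ Set.range ⇑s := fun x => by simp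
  refine ⟨Finset.univ.image ⇑s, ⟨(mem _).2 ⟨0, hs.1⟩, (mem _).2 ⟨Fin.last _, hs.2.1⟩, ?_, ?_, ?_, ?_⟩, ?_⟩
  · rw [Finset.coe_image, Finset.coe_univ, Set.image_univ]
    exact GrothLib.Hilb20.isChain_range_series s
  · intro A hA
    obtain ⟨i, rfl⟩ := (mem A).1 hA
    exact hcoh i
  · intro A hA B hB hAB hn
    obtain ⟨i, rfl, rfl⟩ := GrothLib.Hilb20.consec_series s ((mem A).1 hA) ((mem B).1 hB) hAB
      (fun D hD => hn D ((mem D).2 hD))
    exact GrothLib.Hilb20.w4_of_ss _ (hs.2.2.1 i)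
  · intro A hA B hB B' hB' hAB hBB hn hn' ψ ψ' hψ hψ'
    obtain ⟨i, rfl, rfl⟩ := GrothLib.Hilb20.consec_series s ((mem A).1 hA) ((mem B).1 hB) hAB
      (fun D hD => hn D ((mem D).2 hD))
    obtain ⟨j, hj, rfl⟩ := GrothLib.Hilb20.consec_series s ((mem _).1 hB) ((mem B').1 hB') hBB
      (fun D hD => hn' D ((mem D).2 hD))
    have hij : i.val + 1 = j.val := by simpa using congrArg Fin.val (s.strictMono.injective hj)
    have hss := hs.2.2.1
    have e : cokernel (Subobject.ofLE (s i.succ) (s j.succ) hBB.le) ≅ StabCat.factor s j :=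
      GrothLib.Hilb20.cokernelOfLECongr hj hBB.le _
    have hp1 := (GrothLib.Hilb20.isHilbPoly_iff_int (hss i).1 ψ).2 hψ
    have hp2 : ShStab.IsHilbPoly ℂ (CohB1.ProjSpace n ℂ) (Twist.twistProjSpace n ℂ 1) (StabCat.factor s j) ψ' :=
      GrothLib.Hilb20.isHilbPoly_congr e
        ((GrothLib.Hilb20.isHilbPoly_iff_int (GrothLib.QCoh.isCoh_cokernel _ (hcoh _) (hcoh _)) ψ').2 hψ')
    exact (GrothLib.Hilb20.w4_redLT_iff
      (GrothLib.Hilb20.alpha_pos_self hL (hss j).1 (hss j).2.1 (hss j).2.2.1 hp2)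
      (GrothLib.Hilb20.alpha_pos_self hL (hss i).1 (hss i).2.1 (hss i).2.2.1 hp1)).2 (hs.2.2.2 i j hij ψ ψ' hp1 hp2)
  · rintro C ⟨hbot, htop, hch, hco, hqss, hdec⟩
    obtain ⟨t, ht⟩ := GrothLib.Hilb20.exists_series_of_chain C ⟨⊥, hbot⟩ hch
    have hm : ∀ i, t i ∈ C := fun i => (ht _).2 ⟨i, rfl⟩
    have hcons : ∀ i : Fin t.length, ∀ D ∈ C, ¬ (t i.castSucc < D ∧ D < t i.succ) := fun i D hD =>
      GrothLib.Hilb20.not_between_series t i D ((ht D).1 hD)
    have hfss : ∀ i : Fin t.length, ShStab.IsSemistable ℂ (CohB1.ProjSpace n ℂ) (Twist.twistProjSpace n ℂ 1)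
        (StabCat.factor t i) d := fun i =>
      GrothLib.Hilb20.ss_of_w4 _ (GrothLib.QCoh.isCoh_cokernel _ (hco _ (hm _)) (hco _ (hm _)))
        (hqss _ (hm _) _ (hm _) (t.step i) (hcons i)).1 (hqss _ (hm _) _ (hm _) (t.step i) (hcons i)).2
    have hHN : ShStab.IsHNFiltration ℂ (CohB1.ProjSpace n ℂ) (Twist.twistProjSpace n ℂ 1) E d t := by
      refine ⟨GrothLib.Hilb20.series_eq_head_iff t (fun _ => bot_le) ((ht _).1 hbot),
        GrothLib.Hilb20.series_eq_last_iff t (fun _ => le_top) ((ht _).1 htop), hfss, fun i j hij p q hp hq => ?_⟩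
      have hj : i.succ = j.castSucc := Fin.ext (by simpa using hij)
      have hlt : t i.succ < t j.succ := by rw [hj]; exact t.step j
      have hn' : ∀ D ∈ C, ¬ (t i.succ < D ∧ D < t j.succ) := by rw [hj]; exact hcons j
      have e : StabCat.factor t j ≅ cokernel (Subobject.ofLE (t i.succ) (t j.succ) hlt.le) :=
        GrothLib.Hilb20.cokernelOfLECongr (congrArg t hj).symm _ hlt.le
      exact (GrothLib.Hilb20.w4_redLT_iff
        (GrothLib.Hilb20.alpha_pos_self hL (hfss j).1 (hfss j).2.1 (hfss j).2.2.1 hq)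
        (GrothLib.Hilb20.alpha_pos_self hL (hfss i).1 (hfss i).2.1 (hfss i).2.2.1 hp)).1
          (hdec _ (hm _) _ (hm _) _ (hm _) (t.step i) hlt (hcons i) hn' p q
            ((GrothLib.Hilb20.isHilbPoly_iff_int (hfss i).1 p).1 hp)
            ((GrothLib.Hilb20.isHilbPoly_iff_int (GrothLib.QCoh.isCoh_cokernel _ (hco _ (hm _)) (hco _ (hm _))) q).1
              (GrothLib.Hilb20.isHilbPoly_congr e hq)))
    obtain rfl := huniq t hHN
    ext x
    exact (ht x).trans (mem x).symm

end Groth.Agent.S14972
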