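import Groth.Statements.S14978
import Groth.Agent.Lib.SpQuot.HomOut


set_option autoImplicit false
set_option backward.isDefEq.respectTransparency false
set_option backward.isDefEq.respectTransparency.types false
universe u
open CategoryTheory MonoidalCategory CartesianMonoidalCategory AlgebraicGeometry
open AlgSt

namespace Groth.Agent.S14978

/-- Let `S` be a scheme, `G` a group scheme over `S` whose structure morphism is affine, flat and
locally of finite presentation, acting on a scheme `X` over `S`, and `M` an algebraic space over
`S`. A morphism of fppf sheaves `f : h_X ⟶ M` which is `G`-invariant (its composites with the action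
`G ×_S X ⟶ X` and with the projection agree) factors through the canonical functor `X ⟶ [X/G]` by
exactly one functor `[X/G] ⟶ M` over `(Sch/S)` (this is the lifting half of the correspondence
between morphisms `[X/G] ⟶ M` and `G`-invariant morphisms `X ⟶ M`). Here `[X/G]` is the fppf
quotient stack described by `G`-torsors that are schemes together with an equivariant map to `X`,
and `M` is viewed as the category of its sections over `(Sch/S)`; since that category is fibred in
sets, equality of functors over the base is the appropriate uniqueness. (The published statement
takes the base `S` affine; this row allows any base scheme.) -/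
theorem result (S : Scheme.{u}) (G : Over S) [GrpObj G]
    [IsAffineHom G.hom] [Flat G.hom] [LocallyOfFinitePresentation G.hom]
    (X : Over S) (aX : AlgGrp.Action G X) (M : AlgSp.Space S)
    (f : (AlgSp.yon S).obj X ⟶ M.obj)
    (hf : (AlgSp.yon S).map aX.act ≫ f = (AlgSp.yon S).map (snd G X) ≫ f) :
    ∃! φ : AlgSt.QuotSt Scheme.fppfPrecoverage G aX ⥤ᵇ AlgSt.ofSp M.obj,
      BasedFunctor.comp (AlgSt.quotMap Scheme.fppfPrecoverage G aX) φ = AlgSt.ofSpMap f := by
  exact ⟨GrothLib.SpQuot.outFunctor aX f hf, GrothLib.SpQuot.quotMap_outFunctor aX f hf,
    fun φ h => GrothLib.SpQuot.eq_outFunctor aX f hf φ h⟩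

end Groth.Agent.S14978
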