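import Groth.Statements.S14981
import Groth.Agent.Lib.Inert16.Main

set_option autoImplicit false
universe u
open CategoryTheory MonoidalCategory CartesianMonoidalCategory MonObj AlgebraicGeometry
open CoactBr

namespace Groth.Agent.S14981

/-- Let `R` be a commutative ring, `A` a commutative Hopf algebra over `R` which is finite locally free
as an `R`-module (`G = Spec A`), `B` a commutative `R`-algebra, flat over `R`, with a coaction of
`A` that is an algebra map (an action of `G` on `X = Spec B`) whose ring of invariants is `R` itself
(the structure map `R → B^A` is bijective, so `S = Spec R` is the quotient), and `K₁`, `K₂` fields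
over `R` in which the same prime `q` of `R` vanishes. Let `x₁ : B → K₁` and `x₂ : B → K₂` be
`R`-algebra maps, two points of `X` over the point `q` of `S`. If the inertia group scheme at `x₁`
is trivial (over every scheme `T` over `Spec K₁`, a `T`-point of `G` fixing the point of `X` induced
by `x₁` is the unit), then so is the inertia group scheme at `x₂`. (The published statement is about
the canonical points of the primes of `B` over `q`; points with values in arbitrary fields are
treated here, and `G` finite over `S` is read as finite locally free, the standing flatness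
included.) -/
theorem result
    (R A B K₁ K₂ : Type u) [CommRing R] [CommRing A] [HopfAlgebra R A]
    [Module.Flat R A] [Module.Finite R A] [Module.Projective R A]
    [CommRing B] [Algebra R B] [Module.Flat R B] [HopfRep.Comod R A B] [GLin.IsCoactAlg R A B]
    (hC : Function.Bijective (algebraMap R (GLin.invariants R A B)))
    [Field K₁] [Algebra R K₁] [Field K₂] [Algebra R K₂]
    (hq : RingHom.ker (algebraMap R K₁) = RingHom.ker (algebraMap R K₂))
    (x₁ : B →ₐ[R] K₁) (x₂ : B →ₐ[R] K₂)
    (h₁ : ∀ (T : Over (Spec (CommRingCat.of R))) (h : T ⟶ CoactBr.sp R K₁) (g : T ⟶ CoactBr.sp R A),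
      lift g (h ≫ CoactBr.pt x₁) ≫ (CoactBr.action R A B).act = h ≫ CoactBr.pt x₁ → g = 1)
    (T : Over (Spec (CommRingCat.of R))) (h : T ⟶ CoactBr.sp R K₂) (g : T ⟶ CoactBr.sp R A)
    (hg : lift g (h ≫ CoactBr.pt x₂) ≫ (CoactBr.action R A B).act = h ≫ CoactBr.pt x₂) :
    g = 1 := by
  exact (GrothLib.Inert16.triv_iff_forall x₂).1
    (GrothLib.Inert16.triv_of_ker_eq hC hq x₁ x₂ ((GrothLib.Inert16.triv_iff_forall x₁).2 h₁)) T h g hg

end Groth.Agent.S14981
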