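import Groth.Statements.S14984
import Groth.Agent.Lib.Comod.Invariants
import Groth.Prelude.Def_CoactBr2

set_option autoImplicit false
universe u v w
open HopfRep

namespace Groth.Agent.S14984

open scoped TensorProduct

/-- Let `R` be a commutative ring, `A` a commutative Hopf algebra over `R`, flat as an `R`-module, `B` a
commutative `R`-algebra with a coaction of `A` that is an algebra map (an action of `G = Spec A` on
`X = Spec B`), and `C = B^A` the ring of invariants. If the action base-changed along `R → C` — the
`C`-Hopf algebra `C ⊗ A` coacting on `C ⊗ B` — is tame, i.e. there is a `C`-linear comodule map `β :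
C ⊗ A → C ⊗ B` (regular coaction on the source, base-changed coaction on the target) with `β 1 = 1`,
then the original action is tame: there is an `R`-linear comodule map `α : A → B` with `α 1 = 1`.
(The converse is the case `S = C` of stability of tameness under base change. The published lemma
also lists, as a third equivalent condition, tameness of the action of `C ⊗ A` on `B` itself over
`C`; that condition is not stated here.) -/
theorem result
    (R : Type u) (A : Type v) (B : Type w)
    [CommRing R] [CommRing A] [HopfAlgebra R A] [Module.Flat R A]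
    [CommRing B] [Algebra R B] [HopfRep.Comod R A B] [GLin.IsCoactAlg R A B]
    (h : ∃ β : TensorProduct R ↥(GLin.invariants R A B) A →ₗ[↥(GLin.invariants R A B)]
        TensorProduct R ↥(GLin.invariants R A B) B,
      @Hoch.IsComodHom ↥(GLin.invariants R A B) _ (TensorProduct R ↥(GLin.invariants R A B) A) _ _ _
        (TensorProduct R ↥(GLin.invariants R A B) A) _ _
        (HopfRep.Comod.regular ↥(GLin.invariants R A B) (TensorProduct R ↥(GLin.invariants R A B) A))
        (TensorProduct R ↥(GLin.invariants R A B) B) _ _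
        (CoactBr.Comod.baseChange R ↥(GLin.invariants R A B) A B) β ∧ β 1 = 1) :
    ∃ α : A →ₗ[R] B, Hoch.IsComodHom A α ∧ α 1 = 1 := by
  obtain ⟨β, hβ, hβ1⟩ := h
  let C := GLin.invariants R A B
  let μ : C ⊗[R] B →ₐ[C] B :=
    Algebra.TensorProduct.lift (Algebra.ofId C B) (AlgHom.id R B) fun _ _ => Commute.all _ _
  let g : C ⊗[R] A →ₐ[C] B ⊗[R] A :=
    Algebra.TensorProduct.map (Algebra.ofId C B) (AlgHom.id R A)
  let ν : (C ⊗[R] B) ⊗[C] (C ⊗[R] A) →ₐ[C] B ⊗[R] A :=
    Algebra.TensorProduct.lift ((Algebra.TensorProduct.includeLeft : B →ₐ[C] B ⊗[R] A).comp μ) g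
      fun _ _ => Commute.all _ _
  have hν : ∀ x y, ν (x ⊗ₜ[C] y) = (μ x ⊗ₜ[R] 1) * g y := fun x y => by
    simp [ν, Algebra.TensorProduct.lift_tmul]
    rfl
  have hρ : ∀ z : C ⊗[R] B, ν ((CoactBr.Comod.baseChange R C A B).coact z) =
      HopfRep.Comod.coact (k := R) (A := A) (μ z) := fun z => by
    induction z using TensorProduct.induction_on with
    | zero => simp
    | tmul c b =>
      rw [CoactBr.baseChange_coact_tmul, show μ (c ⊗ₜ[R] b) = (c : B) * b by
        simp [μ, Algebra.TensorProduct.lift_tmul], GLin.IsCoactAlg.coact_mul,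
        show HopfRep.Comod.coact (k := R) (A := A) (c : B) = (c : B) ⊗ₜ[R] (1 : A) from c.2]
      induction HopfRep.Comod.coact (k := R) (A := A) b using TensorProduct.induction_on with
      | zero => simp
      | tmul p q =>
        rw [TensorProduct.AlgebraTensorModule.tensorTensorTensorComm_tmul, hν]
        simp [μ, g, Algebra.TensorProduct.lift_tmul, mul_comm]
        change (p ⊗ₜ[R] (1 : A)) * ((c : B) ⊗ₜ[R] q) = _
        simp
      | add p q hp hq => simp only [TensorProduct.tmul_add, map_add, mul_add, hp, hq]
    | add a b ha hb => simp only [map_add, ha, hb]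
  let α : A →ₗ[R] B := μ.toLinearMap.restrictScalars R ∘ₗ β.restrictScalars R ∘ₗ
    TensorProduct.mk R C A 1
  refine ⟨α, LinearMap.ext fun a => ?_, ?_⟩
  · change HopfRep.Comod.coact (k := R) (A := A) (μ (β ((1 : C) ⊗ₜ[R] a))) =
      α.rTensor A (Coalgebra.comul (R := R) a)
    rw [← hρ]
    have h2 : (CoactBr.Comod.baseChange R C A B).coact (β ((1 : C) ⊗ₜ[R] a)) =
        β.rTensor (C ⊗[R] A) (CoalgebraStruct.comul (R := C) ((1 : C) ⊗ₜ[R] a)) :=
      LinearMap.congr_fun hβ ((1 : C) ⊗ₜ[R] a)
    rw [h2, TensorProduct.comul_tmul]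
    change ν (β.rTensor (C ⊗[R] A)
      (TensorProduct.AlgebraTensorModule.tensorTensorTensorComm R C R C C C A A
        (((1 : C) ⊗ₜ[C] (1 : C)) ⊗ₜ[R] Coalgebra.comul (R := R) a))) = _
    induction (Coalgebra.comul (R := R) a) using TensorProduct.induction_on with
    | zero => simp
    | tmul x y =>
      rw [TensorProduct.AlgebraTensorModule.tensorTensorTensorComm_tmul, LinearMap.rTensor_tmul,
        LinearMap.rTensor_tmul, hν]
      simp [g, α]
      change μ (β (1 ⊗ₜ[R] x)) ⊗ₜ[R] (1 : A) * ((1 : B) ⊗ₜ[R] y) = _
      simp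
    | add x y hx hy => simp only [TensorProduct.tmul_add, map_add, hx, hy]
  · change μ (β 1) = 1
    rw [hβ1, map_one]

end Groth.Agent.S14984
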