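import Groth.Statements.S14985
import Mathlib
import Groth.Agent.Lib.K0Nilp.Basic
import Groth.Agent.Lib.SerreBass.Module
-- import your own Groth.Agent.* helpers here

set_option autoImplicit false
universe u
open CAlg

open scoped TensorProduct

namespace Groth.Agent.S14985

theorem rank_tensorPower {R : Type u} [CommRing R] [Nontrivial R] (P : Type u) [AddCommGroup P] [Module R P]
    [Module.Finite R P] [Module.Projective R P] (p : PrimeSpectrum R) :
    ∀ n : ℕ, Module.rankAtStalk (TensorPower R n P) p = (Module.rankAtStalk P p) ^ n := by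
  intro n
  induction n with
  | zero =>
    rw [Module.rankAtStalk_eq_of_equiv
      (PiTensorProduct.isEmptyEquiv (R := R) (s := fun _ => P) (Fin 0)), Module.rankAtStalk_self]
    simp
  | succ n ih =>
    obtain ⟨_, _, -⟩ := GrothLib.K0Nilp.twist_pow_unit (R := R) P n
    let e : P ⊗[R] TensorPower R n P ≃ₗ[R] TensorPower R (n + 1) P :=
      TensorProduct.comm R P (TensorPower R n P) ≪≫ₗ
        (PiTensorProduct.subsingletonEquiv (R := R) (s := fun _ : Fin 1 => P) 0).symm.lTensor _ ≪≫ₗ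
        TensorPower.mulEquiv
    rw [← Module.rankAtStalk_eq_of_equiv e, Module.rankAtStalk_tensorProduct, Pi.mul_apply, ih, pow_succ']

theorem exists_local_iso {R : Type u} [CommRing R] (P : Type u) [AddCommGroup P] [Module R P]
    [Module.Finite R P] [Module.Projective R P] (p : PrimeSpectrum R) (r : ℕ)
    (hr : Module.rankAtStalk P p = r) :
    ∃ (f : (Fin r → R) →ₗ[R] P) (g : P →ₗ[R] (Fin r → R)) (s : R), s ∉ p.asIdeal ∧
      (∀ x, g (f x) = s • x) ∧ (∀ y, f (g y) = s • y) := by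
  haveI : Module.FinitePresentation R P := Module.finitePresentation_of_projective R P
  haveI : Module.Free (Localization.AtPrime p.asIdeal) (LocalizedModule.AtPrime p.asIdeal P) :=
    Module.free_of_flat_of_isLocalRing
  let b : Module.Basis (Fin r) (Localization.AtPrime p.asIdeal) (LocalizedModule.AtPrime p.asIdeal P) :=
    Module.finBasisOfFinrankEq _ _ hr
  let l : (Fin r → R) →ₗ[R] (Fin r → Localization.AtPrime p.asIdeal) :=
    LinearMap.pi fun i => (Algebra.linearMap R (Localization.AtPrime p.asIdeal)) ∘ₗ LinearMap.proj i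
  let mP := LocalizedModule.mkLinearMap p.asIdeal.primeCompl P
  let e := b.equivFun.restrictScalars R
  obtain ⟨f, s, hf⟩ := Module.FinitePresentation.exists_lift_of_isLocalizedModule p.asIdeal.primeCompl mP
    (e.symm.toLinearMap ∘ₗ l)
  obtain ⟨g, t, hg⟩ := Module.FinitePresentation.exists_lift_of_isLocalizedModule p.asIdeal.primeCompl l
    (e.toLinearMap ∘ₗ mP)
  have hf' : ∀ x, mP (f x) = (s : R) • e.symm (l x) := fun x => LinearMap.congr_fun hf x
  have hg' : ∀ y, l (g y) = (t : R) • e (mP y) := fun y => LinearMap.congr_fun hg y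
  have h1 : ∀ x, ∃ w : p.asIdeal.primeCompl, w • g (f x) = w • (((s : R) * (t : R)) • x) := fun x => by
    refine IsLocalizedModule.exists_of_eq (f := l) ?_
    rw [hg', hf', map_smul, LinearEquiv.apply_symm_apply, map_smul, smul_smul, mul_comm]
  have h2 : ∀ y, ∃ w : p.asIdeal.primeCompl, w • f (g y) = w • (((s : R) * (t : R)) • y) := fun y => by
    refine IsLocalizedModule.exists_of_eq (f := mP) ?_
    rw [hf', hg', map_smul, LinearEquiv.symm_apply_apply, map_smul, smul_smul]
  classical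
  choose w hw using h1
  choose v hv using h2
  obtain ⟨G, hG⟩ := (Module.Finite.fg_top : (⊤ : Submodule R P).FG)
  let W : p.asIdeal.primeCompl := (∏ i, w (Pi.single i 1)) * ∏ y ∈ G, v y
  refine ⟨f, (W : R) • g, (W : R) * ((s : R) * (t : R)), ?_, fun x => ?_, fun y => ?_⟩
  · exact (W * (s * t)).2
  · suffices h : ((W : R) • g) ∘ₗ f = ((W : R) * ((s : R) * (t : R))) • LinearMap.id from LinearMap.congr_fun h x
    refine LinearMap.pi_ext' fun i => LinearMap.ext_ring ?_
    show (W : R) • g (f (Pi.single i 1)) = ((W : R) * ((s : R) * (t : R))) • Pi.single i 1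
    obtain ⟨W', hW'⟩ : w (Pi.single i 1) ∣ W :=
      (Finset.dvd_prod_of_mem (fun i => w (Pi.single i 1)) (Finset.mem_univ i)).mul_right _
    rw [hW', mul_comm, Submonoid.coe_mul, mul_smul]
    have hh := hw (Pi.single i 1)
    simp only [Submonoid.smul_def] at hh
    rw [hh, smul_smul, smul_smul]
  · suffices h : f ∘ₗ ((W : R) • g) = ((W : R) * ((s : R) * (t : R))) • LinearMap.id from LinearMap.congr_fun h y
    refine LinearMap.ext_on (R := R) hG fun y hy => ?_
    show f ((W : R) • g y) = ((W : R) * ((s : R) * (t : R))) • y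
    obtain ⟨W', hW'⟩ : v y ∣ W := (Finset.dvd_prod_of_mem v hy).mul_left _
    rw [map_smul, hW', mul_comm, Submonoid.coe_mul, mul_smul]
    have hh := hv y
    simp only [Submonoid.smul_def] at hh
    rw [hh, smul_smul, smul_smul]

open Polynomial in
theorem torsion_of_nilpotent {G : Type*} [AddCommGroup G] (Φ : Module.End ℤ G) (u : G) (r n k : ℕ)
    (hn : n ≠ 0) (hr : r ≠ 0) (hk : (((r : Module.End ℤ G) - Φ) ^ k) u = 0)
    (hn' : (Φ ^ n - ((r ^ n : ℕ) : Module.End ℤ G)) u = 0) :
    ∃ N : ℕ, N ≠ 0 ∧ N • (Φ u - r • u) = 0 := by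
  set U : ℤ[X] := ∑ i ∈ Finset.range n, X ^ i * C (r : ℤ) ^ (n - 1 - i) with hU
  set c : ℕ := n * r ^ (n - 1) with hc
  obtain ⟨V, hV⟩ : (X - C (r : ℤ)) ∣ C (c : ℤ) - U := by
    rw [Polynomial.dvd_iff_isRoot, Polynomial.IsRoot.def, eval_sub, eval_C, hU, eval_finsetSum,
      sub_eq_zero, Finset.sum_congr rfl (g := fun _ => (r : ℤ) ^ (n - 1)) fun i hi => by
        have := Finset.mem_range.mp hi
        rw [eval_mul, eval_pow, eval_X, eval_pow, eval_C, ← pow_add]; congr 1; omega,
      Finset.sum_const, Finset.card_range, hc, nsmul_eq_mul]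
    push_cast; ring
  have hgeom : U * (X - C (r : ℤ)) = X ^ n - C (r : ℤ) ^ n := geom_sum₂_mul _ _ _
  obtain ⟨Q, hQ⟩ : U ∣ C ((c : ℤ) ^ k) - ((X - C (r : ℤ)) * V) ^ k := by
    refine dvd_trans ⟨1, ?_⟩ (map_pow C (c : ℤ) k ▸ sub_dvd_pow_sub_pow (C (c : ℤ)) ((X - C (r : ℤ)) * V) k)
    rw [← hV]; ring
  have hid : C ((c : ℤ) ^ k) * (X - C (r : ℤ)) =
      V ^ k * (X - C (r : ℤ)) * ((-1) ^ k * (C (r : ℤ) - X) ^ k) + Q * (X ^ n - C ((r : ℤ) ^ n)) := by
    rw [← mul_pow, show (-1 : ℤ[X]) * (C (r : ℤ) - X) = X - C (r : ℤ) by ring, map_pow C (r : ℤ), ← hgeom,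
      show C ((c : ℤ) ^ k) = ((X - C (r : ℤ)) * V) ^ k + U * Q by rw [← hQ]; ring, mul_pow]
    ring
  refine ⟨c ^ k, pow_ne_zero _ (Nat.mul_ne_zero hn (pow_ne_zero _ hr)), ?_⟩
  have hz := congrArg (fun q => Polynomial.aeval Φ q u) hid
  have hnat : ∀ m : ℕ, Polynomial.aeval Φ (C (m : ℤ)) = (m : Module.End ℤ G) := fun m => by
    rw [map_natCast C, map_natCast]
  simp only [map_mul, map_sub, map_pow, map_add, Polynomial.aeval_X, Module.End.mul_apply, map_neg, map_one,
    hnat, LinearMap.add_apply, hk, map_zero, zero_add, ← Nat.cast_pow,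
    LinearMap.sub_apply, Module.End.natCast_apply] at hz
  rw [LinearMap.sub_apply, Module.End.natCast_apply] at hn'
  rw [sub_eq_zero.mp hn', sub_self] at hz
  rw [smul_sub]
  exact hz

/-- Let R be a Noetherian commutative ring of finite Krull dimension and P a finitely generated
projective R-module. If the n-th tensor power of P is free for some n ≥ 1, then the direct sum of N
copies of P is free for some N ≥ 1. -/
theorem result (R : Type u) [CommRing R] [IsNoetherianRing R]
    (hdim : ringKrullDim R < ⊤) (P : Type u) [AddCommGroup P] [Module R P] [Module.Finite R P]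
    [Module.Projective R P] (n : ℕ) (hn : 1 ≤ n) (hfree : Module.Free R (TensorPower R n P)) :
    ∃ N : ℕ, 1 ≤ N ∧ Module.Free R (Fin N → P) := by
  classical
  obtain ⟨d, hd⟩ : ∃ d : ℕ, ringKrullDim R ≤ d := by
    have h := hdim
    induction hh : ringKrullDim R using WithBot.recBotCoe with
    | bot => exact ⟨0, bot_le⟩
    | coe a =>
      induction a using ENat.recTopCoe with
      | top => rw [hh] at h; exact absurd h (lt_irrefl _)
      | coe d => exact ⟨d, le_rfl⟩
  rcases subsingleton_or_nontrivial R with hR | hR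
  · exact ⟨1, le_rfl, Module.Free.of_subsingleton' R _⟩
  haveI := hfree
  obtain ⟨hfin, hproj, hpow⟩ := GrothLib.K0Nilp.twist_pow_unit (R := R) P n
  set q := Module.finrank R (TensorPower R n P) with hq
  -- the rank is constant
  have hrk : ∀ p : PrimeSpectrum R, (Module.rankAtStalk P p) ^ n = q := by
    intro p
    rw [← rank_tensorPower P p n, hq]
    rw [Module.rankAtStalk_eq_finrank_of_free]
    rfl
  obtain ⟨p₀⟩ : Nonempty (PrimeSpectrum R) := inferInstance
  set r := Module.rankAtStalk P p₀ with hr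
  have hconst : ∀ p : PrimeSpectrum R, Module.rankAtStalk P p = r := fun p =>
    Nat.pow_left_injective (Nat.one_le_iff_ne_zero.mp hn) ((hrk p).trans (hrk p₀).symm)
  by_cases hr0 : r = 0
  · haveI : Subsingleton P := Module.rankAtStalk_eq_zero_iff_subsingleton.mp (funext fun p => (hconst p).trans hr0)
    exact ⟨1, le_rfl, Module.Free.of_subsingleton R _⟩
  -- local isomorphisms
  choose f g s hs hgf hfg using fun p : PrimeSpectrum R => exists_local_iso P p r (hconst p)
  have htop : Ideal.span (Set.range s) = ⊤ := by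
    by_contra h
    obtain ⟨m, hm, hle⟩ := Ideal.exists_le_maximal _ h
    exact hs ⟨m, hm.isPrime⟩ (hle (Ideal.subset_span (Set.mem_range_self _)))
  obtain ⟨c, hc⟩ := Finsupp.mem_span_range_iff_exists_finsupp.mp
    (show (1 : R) ∈ Submodule.span R (Set.range s) by rw [show Submodule.span R (Set.range s) = ⊤ from htop]; trivial)
  obtain ⟨E₀, E₁, a, b, hba, hab, hcls, hh⟩ := GrothLib.K0Nilp.exists_complex P r (F := Fin r → R)
    (fun E => by
      rw [GrothLib.K0Nilp.gcls_eq (A := ⟨(Fin r → R) ⊗[R] E.M⟩) (B := ⟨Fin r → E.M⟩)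
        (TensorProduct.comm R _ E.M ≪≫ₗ TensorProduct.piScalarRight R R E.M (Fin r))]
      exact GrothLib.K0Nilp.gcls_pi (R := R) E r)
    f g s hgf hfg c.support.toList
  choose! hp hq' h₀ h₁ using hh
  obtain ⟨e⟩ := GrothLib.K0Nilp.equiv_of_homotopy a b (∑ i ∈ c.support, c i • hp i)
    (∑ i ∈ c.support, c i • hq' i) hba hab
    (fun x => by
      rw [LinearMap.sum_apply, LinearMap.sum_apply, map_sum, ← Finset.sum_add_distrib]
      refine (Finset.sum_congr rfl fun i hi => ?_).trans ((Finset.sum_smul).symm.trans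
        ((congrArg (· • x) (show ∑ i ∈ c.support, c i * s i = 1 by simpa [Finsupp.sum] using hc)).trans (one_smul R x)))
      rw [LinearMap.smul_apply, LinearMap.smul_apply, map_smul, ← smul_add, h₀ i (Finset.mem_toList.mpr hi), smul_smul])
    (fun y => by
      rw [LinearMap.sum_apply, LinearMap.sum_apply, map_sum, ← Finset.sum_add_distrib]
      refine (Finset.sum_congr rfl fun i hi => ?_).trans ((Finset.sum_smul).symm.trans
        ((congrArg (· • y) (show ∑ i ∈ c.support, c i * s i = 1 by simpa [Finsupp.sum] using hc)).trans (one_smul R y)))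
      rw [LinearMap.smul_apply, LinearMap.smul_apply, map_smul, ← smul_add, h₁ i (Finset.mem_toList.mpr hi), smul_smul])
  rw [GrothLib.K0Nilp.gcls_eq e, sub_self] at hcls
  set k := c.support.toList.length
  set Φ := GrothLib.K0Nilp.twist (R := R) P with hΦ
  set u := GrothLib.K0Nilp.unit R
  have hn0 : (Φ ^ n - ((r ^ n : ℕ) : Module.End ℤ (GrothLib.K0Nilp.Grp R))) u = 0 := by
    rw [LinearMap.sub_apply, hpow, Module.End.natCast_apply, sub_eq_zero, hr, hrk p₀,
      show u = GrothLib.K0Nilp.gcls ⟨R⟩ from rfl, ← GrothLib.K0Nilp.gcls_pi ⟨R⟩ q]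
    exact GrothLib.K0Nilp.gcls_eq (Module.finBasis R (TensorPower R n P)).equivFun
  obtain ⟨N, hN0, hN⟩ := torsion_of_nilpotent Φ u r n k (Nat.one_le_iff_ne_zero.mp hn) hr0 hcls.symm hn0
  have hΦu : Φ u = GrothLib.K0Nilp.gcls ⟨P⟩ := by
    rw [hΦ]
    show GrothLib.K0Nilp.twist (R := R) P (GrothLib.K0Nilp.gcls ⟨R⟩) = _
    rw [GrothLib.K0Nilp.twist_gcls]
    exact GrothLib.K0Nilp.gcls_eq (TensorProduct.rid R P)
  let M := N * (d + 1)
  have hM : GrothLib.K0Nilp.gcls (R := R) ⟨Fin M → P⟩ = GrothLib.K0Nilp.gcls ⟨Fin (M * r) → R⟩ := by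
    rw [GrothLib.K0Nilp.gcls_pi ⟨P⟩ M, GrothLib.K0Nilp.gcls_pi ⟨R⟩ (M * r), show GrothLib.K0Nilp.gcls ⟨R⟩ = u from rfl, ← hΦu, ← sub_eq_zero, mul_nsmul' u M r, ← smul_sub]
    simp only [M]
    rw [mul_nsmul, hN, smul_zero]
  obtain ⟨m, ⟨e'⟩⟩ := GrothLib.K0Nilp.exists_stableIso hM
  obtain ⟨eM⟩ := GrothLib.SerreBass.cancel hd (P := Fin M → P) (P' := Fin (M * r) → R) (fun p => by
    rw [Module.rankAtStalk_eq_finrank_of_free, Pi.natCast_apply, Module.finrank_fin_fun, Nat.cast_id]
    calc d < d + 1 := Nat.lt_succ_self d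
      _ ≤ N * (d + 1) := Nat.le_mul_of_pos_left _ (Nat.pos_of_ne_zero hN0)
      _ ≤ M * r := Nat.le_mul_of_pos_right _ (Nat.pos_of_ne_zero hr0)) m e'
  exact ⟨M, Nat.one_le_iff_ne_zero.mpr (Nat.mul_ne_zero hN0 (Nat.succ_ne_zero d)), Module.Free.of_equiv eM.symm⟩

end Groth.Agent.S14985
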