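import Groth.Statements.S14987
import Groth.Agent.Lib.AlgSp.FlatLocalNbhd

set_option autoImplicit false
set_option backward.isDefEq.respectTransparency false
universe u
open CategoryTheory CategoryTheory.Limits AlgebraicGeometry Topology TopologicalSpace
open AlgSp

namespace Groth.Agent.S14987

/-- Let X be a Noetherian algebraic space (quasi-compact, quasi-separated, locally Noetherian) over a
scheme S and z a closed point of X. Then there are a Noetherian local ring R over S and a
representable flat morphism φ : h_{Spec R} ⟶ X sending the closed point to z which is a flat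
neighbourhood of z: z is represented by a closed immersion Spec k ⟶ X whose base change along φ is
an isomorphism onto Spec k, and for every n ≥ 1 and every closed subspace Z_n of X cut out by the
n-th power of the ideal sheaf of that closed immersion, the projection Spec R ×_X Z_n ⟶ Z_n is an
isomorphism; moreover dim R equals the dimension of the local ring of X at z. -/
theorem result {S : Scheme.{u}} (X : AlgSp.Space S)
    (hqc : AlgSp.IsQuasiCompactSp X.obj) (hqs : AlgSp.IsQuasiSeparatedSp X.obj)
    (hN : AlgSp.IsLocNoethSp X.obj)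
    (z : AlgSp.Points X.obj) (hz : IsClosed ({z} : Set (AlgSp.Points X.obj))) :
    ∃ (R : CommRingCat.{u}) (hR : IsLocalRing ↥R) (str : Spec R ⟶ S)
      (φ : (AlgSp.yon S).obj (Over.mk str) ⟶ X.obj) (p : AlgSp.FieldPt X.obj) (t : p.pt ⟶ Over.mk str),
      IsNoetherianRing ↥R ∧ AlgSp.RepWith @Flat φ ∧
      AlgSp.Points.ofPt φ (@IsLocalRing.closedPoint ↥R _ hR) = z ∧
      AlgSp.Points.mk p = z ∧ AlgSp.RepWith @IsClosedImmersion p.toHom ∧
      IsPullback ((AlgSp.yon S).map t) (𝟙 ((AlgSp.yon S).obj p.pt)) φ p.toHom ∧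
      (∀ (I : AlgSp.IdealEt X.obj), AlgSp.IsCutOutBy I p.toHom → ∀ n : ℕ, 1 ≤ n →
        ∀ (Zn : AlgSp.Sp S) (iZ : Zn ⟶ X.obj), AlgSp.IsCutOutBy (I ^ n) iZ →
          ∀ (P : AlgSp.Sp S) (fst : P ⟶ (AlgSp.yon S).obj (Over.mk str)) (snd : P ⟶ Zn),
            IsPullback fst snd φ iZ → IsIso snd) ∧
      AlgSp.HasAt (fun U u => ringKrullDim ↥(U.presheaf.stalk u) = ringKrullDim ↥R) X.obj z := by
  exact GrothLib.AlgSp.FlatLocalNbhd.exists_flat_local_nbhd X hqs hN z hz

end Groth.Agent.S14987
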