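import Groth.Statements.S14988
import Groth.Agent.Lib.OX.Tensor
import Groth.Agent.Lib.OX.LocFreeTensor
import Groth.Agent.Lib.ModelK.Exists


set_option autoImplicit false
set_option backward.isDefEq.respectTransparency false
set_option backward.isDefEq.respectTransparency.types false
universe u
open CategoryTheory CategoryTheory.Limits AlgebraicGeometry
open ResProp

namespace Groth.Agent.S14988

open CategoryTheory CategoryTheory.Limits AlgebraicGeometry

/-- In the case of schemes, let f : X ⟶ Y be a morphism of quasi-compact quasi-separated schemes. If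
every quasi-coherent module on Y is a quotient of a direct sum of finite locally free modules (Y has
the resolution property) and some family (W_i) of finite locally free modules on X is f-generating,
i.e. every quasi-coherent module on X is a quotient of a direct sum of modules W_i ⊗ f^*N with N
quasi-coherent on Y, then every quasi-coherent module on X is a quotient of a direct sum of finite
locally free modules (X has the resolution property). (The published statement is for quasi-compact
quasi-separated morphisms of algebraic stacks and assumes the family universally f-generating; this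
row is the case of schemes and assumes the family only f-generating, which is what the argument
uses.) -/
theorem result {X Y : Scheme.{u}}
    [CompactSpace X] [QuasiSeparatedSpace X] [CompactSpace Y] [QuasiSeparatedSpace Y] (f : X ⟶ Y)
    (hY : ∀ N : Y.Modules, Coh.IsQCoh N →
      ∃ (κ : Type u) (V : κ → Y.Modules) (π : (∐ V) ⟶ N), (∀ k, FlatMod.IsFinLocFree (V k)) ∧ Epi π)
    {ι : Type u} (W : ι → X.Modules) (hW : ∀ i, FlatMod.IsFinLocFree (W i))
    (hf : ∀ M : X.Modules, Coh.IsQCoh M →
      ∃ (κ : Type u) (j : κ → ι) (N : κ → Y.Modules)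
        (π : (∐ fun k => CohB1.tensorMod (W (j k)) ((Scheme.Modules.pullback f).obj (N k))) ⟶ M),
        (∀ k, Coh.IsQCoh (N k)) ∧ Epi π) :
    ∀ M : X.Modules, Coh.IsQCoh M →
      ∃ (κ : Type u) (E : κ → X.Modules) (π : (∐ E) ⟶ M), (∀ k, FlatMod.IsFinLocFree (E k)) ∧ Epi π := by
  intro M hM
  obtain ⟨κ, j, N, π, hN, hπ⟩ := hf M hM
  choose κ' V p hV hp using fun k => hY (N k) (hN k)
  let T : κ → (Y.Modules ⥤ X.Modules) := fun k => Scheme.Modules.pullback f ⋙ (DCoh.tensorBi (X := X)).obj (W (j k))
  have hT : ∀ k, PreservesColimitsOfSize.{u, u} (T k) := fun k => by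
    have := (Scheme.Modules.pullbackPushforwardAdjunction f).leftAdjoint_preservesColimits.{u, u}
    exact comp_preservesColimits _ _
  let q : ∀ k, (∐ fun a => (T k).obj (V k a)) ⟶ (T k).obj (N k) :=
    fun k => (PreservesCoproduct.iso (T k) (V k)).inv ≫ (T k).map (p k)
  have hq : ∀ k, Epi (q k) := fun k => by
    have : PreservesColimitsOfSize.{0, 0} (T k) := preservesColimitsOfSize_shrink.{0, u, 0, u} _
    have := hp k
    exact epi_comp _ _
  let E : (Σ k : κ, κ' k) → X.Modules := fun a => CohB1.tensorMod (W (j a.1)) ((Scheme.Modules.pullback f).obj (V a.1 a.2))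
  refine ⟨Σ k : κ, κ' k, E, (sigmaSigmaIso (fun k => κ' k) (fun k a => (T k).obj (V k a))).inv ≫
    Limits.Sigma.map q ≫ π, fun a => ?_, ?_⟩
  · exact GrothLib.ModelK.isFinLocFree_tensorMod (hW _) (GrothLib.OX.isFinLocFree_pullback f (hV a.1 a.2))
  · have : Epi (Limits.Sigma.map q) := inferInstance
    exact epi_comp _ _

end Groth.Agent.S14988
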