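import Groth.Agent.Lib.Jets.Scheme
import Groth.Agent.Lib.CurveMult.TwistHom

set_option autoImplicit false
universe u
open CategoryTheory CategoryTheory.Limits AlgebraicGeometry
open Variety

namespace Groth.Agent.S14990

/-- Let k be an algebraically closed field, Y a scheme smooth and of finite type over k, L an invertible
O_Y-module, s_1, …, s_m global sections of L (morphisms O_Y ⟶ L) such that at every closed point p
the span of the s_i maps onto L_p/m_p^2 L_p, and f a further global section of L. Then the zero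
scheme of f + Σ c_i s_i is smooth over k for all c outside the zero set of some nonzero polynomial
in m variables. (The published hypothesis is stated at every point of Y; it can only hold at closed
points, which is where the argument uses it, so this row asks it at closed points.) -/
theorem result (k : Type u) [Field k] [IsAlgClosed k]
    (Y : Scheme.{u}) [Y.Over (Spec (CommRingCat.of k))] [Smooth (Y ↘ Spec (CommRingCat.of k))]
    [QuasiCompact (Y ↘ Spec (CommRingCat.of k))]
    (L : Y.Modules) (hL : FlatMod.IsFinLocFreeOfRank 1 L) (m : ℕ)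
    (s : Fin m → (Coh.structureModule Y ⟶ L)) (f : Coh.structureModule Y ⟶ L)
    (hjet : ∀ p : Y, IsClosed ({p} : Set Y) → ∀ l : ↥(L.presheaf.stalk p), ∃ c : Fin m → k,
      (L.presheaf.germ ⊤ p trivial)
          (PicF2.secVal L (∑ i : Fin m, Formal.smulMod k (Coh.structureModule Y) (c i) ≫ s i) ⊤) - l ∈
        (IsLocalRing.maximalIdeal ↥(Y.presheaf.stalk p)) ^ 2 •
          (⊤ : Submodule ↥(Y.presheaf.stalk p) ↥(L.presheaf.stalk p))) :
    ∃ q : MvPolynomial (Fin m) k, q ≠ 0 ∧ ∀ c : Fin m → k, MvPolynomial.eval c q ≠ 0 →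
      Smooth ((PicF2.zeroScheme L (f + ∑ i : Fin m, Formal.smulMod k (Coh.structureModule Y) (c i) ≫ s i)).subschemeι ≫
        (Y ↘ Spec (CommRingCat.of k))) := by
  classical
  haveI : LocallyOfFiniteType (Y ↘ Spec (CommRingCat.of k)) := inferInstance
  haveI : CompactSpace Y := QuasiCompact.compactSpace_of_compactSpace (Y ↘ Spec (CommRingCat.of k))
  have hinv : PicF.IsInvertible L := GrothLib.CurveMult.isInvertible_of_rank_one hL
  obtain ⟨ι, _, U, e, hcov, he⟩ := GrothLib.Jets.exists_finite_gen_cover hinv
  have key : ∀ i, ∃ P : MvPolynomial (Fin m) k, P ≠ 0 ∧ ∀ c : Fin m → k, MvPolynomial.eval c P ≠ 0 →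
      letI := GrothLib.Jets.constAlgebra (k := k) (U i).1
      Algebra.Smooth k (Γ(Y, (U i).1) ⧸ (PicF2.zeroScheme L
        (f + ∑ j : Fin m, Formal.smulMod k (Coh.structureModule Y) (c j) ≫ s j)).ideal (U i)) := by
    intro i
    letI := GrothLib.Jets.constAlgebra (k := k) (U i).1
    haveI : Algebra.Smooth k Γ(Y, (U i).1) := GrothLib.Jets.smooth_constHom (U i)
    have hgen := fun m' : Γ(L, (U i).1) => (he i).exists_smul_eq le_rfl m'
    simp only [GrothLib.InvExt.mres_self] at hgen
    choose g hg using fun j : Fin m => hgen (PicF2.secVal L (s j) (U i).1)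
    obtain ⟨g0, hg0⟩ := hgen (PicF2.secVal L f (U i).1)
    have hj := GrothLib.Jets.exists_jet_affine L s hjet (U i) (he i) g hg
    obtain ⟨P, hP0, hP⟩ := GrothLib.Jets.exists_poly_not_mem_sq g0 g hj
    refine ⟨P, hP0, fun c hc => ?_⟩
    rw [GrothLib.Jets.zeroScheme_ideal_gen hinv _ (U i) (he i) (c := g0 + ∑ j, c j • g j) ?_]
    · exact GrothLib.Jets.smooth_quotient_of_not_mem_sq _ (hP c hc)
    · rw [GrothLib.Jets.secVal_add_sum L s f c (U i).1, add_smul, Finset.sum_smul]
      refine congrArg₂ _ hg0 (Finset.sum_congr rfl fun j _ => ?_)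
      rw [hg j, smul_smul]
      rfl
  choose P hP0 hP using key
  haveI := Fintype.ofFinite ι
  refine ⟨∏ i, P i, Finset.prod_ne_zero_iff.mpr fun i _ => hP0 i, fun c hc => ?_⟩
  rw [map_prod] at hc
  exact GrothLib.Jets.smooth_subschemeι_over _ U hcov
    fun i => hP i c (Finset.prod_ne_zero_iff.mp hc i (Finset.mem_univ i))

end Groth.Agent.S14990
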