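import Groth.Statements.S14991
import Groth.Agent.Lib.Ref1.Push
import Groth.Agent.Lib.Ref1.Frame
import Groth.Agent.Lib.Ref1.DepthTwo
import Groth.Agent.Lib.DepthAlong5.Generic
import Groth.Agent.Lib.Depth.HartogsUnit
import Groth.Agent.Lib.ExtZTilde20.Codim
import Groth.Agent.Lib.Kleiman.Proper
import Groth.Agent.Lib.DCoh.LocFree
import Groth.Agent.Lib.OX.ExtZeroOpen
import Groth.Agent.Lib.Euler.Coh


set_option autoImplicit false
set_option backward.isDefEq.respectTransparency false
set_option backward.isDefEq.respectTransparency.types false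
universe u
open CategoryTheory CategoryTheory.Limits AlgebraicGeometry
open ResProp

namespace Groth.Agent.S14991

open GrothLib
set_option maxHeartbeats 1000000
set_option backward.isDefEq.respectTransparency false
set_option backward.isDefEq.respectTransparency.types false

/-- In the case of schemes, let X be an integral scheme of dimension 2, separated and of finite type
over a field k and regular in codimension 1, F a coherent module on X, and p ≠ q regular closed
points of X near each of which F is finite locally free. If F restricted to X minus q and F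
restricted to X minus p are both quotients of finite locally free modules, then F is a quotient of a
finite locally free module on X. (The published statement is for algebraic spaces and also assumes F
locally free off a closed subset of codimension 2, an assumption the argument does not use; this row
is the case of schemes without it.) -/
theorem result {k : Type u} [Field k] (X : Scheme.{u})
    [X.Over (Spec (CommRingCat.of k))] [IsIntegral X] [IsSeparated (X ↘ Spec (CommRingCat.of k))]
    [LocallyOfFiniteType (X ↘ Spec (CommRingCat.of k))] [QuasiCompact (X ↘ Spec (CommRingCat.of k))]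
    (hdim : topologicalKrullDim ↥X = 2)
    (hR1 : ∀ x : X, ringKrullDim ↥(X.presheaf.stalk x) ≤ 1 → IsRegularLocalRing ↥(X.presheaf.stalk x))
    (F : X.Modules) (hF : Coh.IsCoh F) (p q : X) (hpq : p ≠ q)
    (hp : IsClosed ({p} : Set X)) (hq : IsClosed ({q} : Set X))
    (hpreg : IsRegularLocalRing ↥(X.presheaf.stalk p)) (hqreg : IsRegularLocalRing ↥(X.presheaf.stalk q))
    (hFp : ∃ W : X.Opens, p ∈ W ∧ FlatMod.IsFinLocFree (F.restrict W.ι))
    (hFq : ∃ W : X.Opens, q ∈ W ∧ FlatMod.IsFinLocFree (F.restrict W.ι))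
    (Up Uq : X.Opens) (hUp : (Up : Set X) = {p}ᶜ) (hUq : (Uq : Set X) = {q}ᶜ)
    (hp' : ∃ (E : (↑Up : Scheme.{u}).Modules) (π : E ⟶ F.restrict Up.ι), FlatMod.IsFinLocFree E ∧ Epi π)
    (hq' : ∃ (E : (↑Uq : Scheme.{u}).Modules) (π : E ⟶ F.restrict Uq.ι), FlatMod.IsFinLocFree E ∧ Epi π) :
    ∃ (E : X.Modules) (π : E ⟶ F), FlatMod.IsFinLocFree E ∧ Epi π := by
  haveI : IsLocallyNoetherian X :=
    LocallyOfFiniteType.isLocallyNoetherian (X ↘ Spec (CommRingCat.of k))
  haveI := hF.1
  haveI := hF.2
  have side : ∀ (p : X), IsClosed ({p} : Set X) → IsRegularLocalRing ↥(X.presheaf.stalk p) →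
      (∃ W : X.Opens, p ∈ W ∧ FlatMod.IsFinLocFree (F.restrict W.ι)) →
      ∀ (Up : X.Opens), (Up : Set X) = {p}ᶜ →
      (∃ (E : (↑Up : Scheme.{u}).Modules) (π : E ⟶ F.restrict Up.ι), FlatMod.IsFinLocFree E ∧ Epi π) →
      ∃ (E : X.Modules) (π : E ⟶ F), FlatMod.IsFinLocFree E ∧
        ∀ x : X, x ≠ p → Epi ((OX.stalk x).map π) := by
    intro p hp hpreg hFp Up hUp hp'
    obtain ⟨E, π, hE, hπ⟩ := hp'
    obtain ⟨W, hpW, hW⟩ := hFp
    haveI := hpreg
    have hout : ∀ x : X, x ∉ Up → x = p := fun x hx => by
      by_contra hne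
      exact hx (show x ∈ (Up : Set X) by rw [hUp]; exact hne)
    have hin : ∀ x : X, x ≠ p → x ∈ Up := fun x hx => (show x ∈ (Up : Set X) by rw [hUp]; exact hx)
    have hd2 : ringKrullDim (X.presheaf.stalk p) = 2 := by
      have h := ExtZTilde20.ptDim_add_dim_stalk (X ↘ Spec (CommRingCat.of k)) p
      rw [Kleiman.ptDim_eq_zero_of_isClosed hp, zero_add, hdim] at h
      exact h
    have hU : ∀ x : X, x ∉ Up → (2 : ℕ∞) ≤ LocCoh.depth (X.presheaf.stalk x) (X.presheaf.stalk x) :=
      fun x hx => by
        obtain rfl := hout x hx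
        exact WithBot.coe_le_coe.1 (hd2.ge.trans (DepthAlong5.dim_eq_depth_of_isRegularLocalRing _).le)
    have hFd : ∀ x : X, x ∉ Up → (2 : ℕ∞) ≤ LocCoh.depth (X.presheaf.stalk x) (F.presheaf.stalk x) :=
      fun x hx => by
        obtain rfl := hout x hx
        haveI := Ref1.free_of_isFinLocFree_restrict W hW x hpW
        haveI := (HomSh.hasRel_of_isCoh hF).span_stalk x
        exact Ref1.two_le_depth_of_isReflexive (hU x hx)
    haveI := Depth.isIso_unit_app hFd
    have hEc : Coh.IsCoh E := Euler.isCoh_of_isFinLocFree hE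
    have hER : ∀ x, Module.IsReflexive ((Up : Scheme.{u}).presheaf.stalk x) (E.presheaf.stalk x) := fun x => by
      haveI := (Ref1.isFinLocFree_iff_free (HomSh.hasRel_of_isCoh hEc)).1 hE x
      haveI := (HomSh.hasRel_of_isCoh hEc).span_stalk x
      infer_instance
    obtain ⟨hc, hr⟩ := Ref1.isCoh_pushforward_of_depth hU E hEc hER
    let adj := Scheme.Modules.restrictAdjunction Up.ι
    refine ⟨(Scheme.Modules.pushforward Up.ι).obj E,
      (Scheme.Modules.pushforward Up.ι).map π ≫ inv (adj.unit.app F), ?_, fun x hx => ?_⟩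
    · refine (Ref1.isFinLocFree_iff_free (HomSh.hasRel_of_isCoh hc)).2 fun x => ?_
      by_cases hx : x ∈ Up
      · exact Ref1.free_of_isFinLocFree_restrict Up (DCoh.isFinLocFree_of_iso
          (asIso (adj.counit.app E)).symm hE) x hx
      · obtain rfl := hout x hx
        haveI := (HomSh.hasRel_of_isCoh hc).span_stalk x
        haveI := hr x
        exact Ref1.free_of_isReflexive_dim_two hd2.le _
    · have ht : inv ((Scheme.Modules.restrictFunctor Up.ι).map (adj.unit.app F)) =
          adj.counit.app ((Scheme.Modules.restrictFunctor Up.ι).obj F) :=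
        IsIso.inv_eq_of_hom_inv_id (adj.left_triangle_components F)
      have he : (Scheme.Modules.restrictFunctor Up.ι).map
          ((Scheme.Modules.pushforward Up.ι).map π ≫ inv (adj.unit.app F)) = adj.counit.app E ≫ π := by
        rw [Functor.map_comp, Functor.map_inv, ht]
        exact adj.counit.naturality π
      haveI := hπ
      exact OX.epi_stalk_map_of_restrict Up.ι _ ⟨x, hin x hx⟩ (he ▸ epi_comp _ _)
  obtain ⟨A, a, hA, ha⟩ := side p hp hpreg hFp Up hUp hp'
  obtain ⟨B, b, hB, hb⟩ := side q hq hqreg hFq Uq hUq hq'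
  refine ⟨A ⊞ B, biprod.desc a b, DCoh.isFinLocFree_biprod hA hB, (OX.epi_iff _).2 fun x => ?_⟩
  by_cases hx : x = p
  · haveI := hb x (hx ▸ hpq)
    haveI : Epi ((OX.stalk x).map (biprod.inr : B ⟶ A ⊞ B) ≫ (OX.stalk x).map (biprod.desc a b)) := by
      rw [← Functor.map_comp, biprod.inr_desc]; infer_instance
    exact epi_of_epi ((OX.stalk x).map (biprod.inr : B ⟶ A ⊞ B)) _
  · haveI := ha x hx
    haveI : Epi ((OX.stalk x).map (biprod.inl : A ⟶ A ⊞ B) ≫ (OX.stalk x).map (biprod.desc a b)) := by
      rw [← Functor.map_comp, biprod.inl_desc]; infer_instance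
    exact epi_of_epi ((OX.stalk x).map (biprod.inl : A ⟶ A ⊞ B)) _

end Groth.Agent.S14991
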