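import Groth.Statements.S14994
import Groth.Agent.Lib.TorsionFree.Basic
import Mathlib.Algebra.Module.Torsion.Basic
-- import your own Groth.Agent.* helpers here

set_option autoImplicit false
universe u
open CAlg

namespace Groth.Agent.S14994

/-- Let A be a Noetherian integrally closed domain, M a finitely generated torsion-free A-module, N a
submodule of M and ι : M → M** the canonical map to the double dual. Write N** → M** for the double
dual of the inclusion N → M. Then every m ∈ M whose image ι(m) lies in the image of N** is a torsion
element modulo N: some nonzero a ∈ A satisfies a·m ∈ N. In other words the preimage of N** under ι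
is contained in the saturation of N in M (the preimage of the torsion submodule of M/N), and the two
coincide when M/N is torsion-free. (The published statement asserts equality of the preimage with
the saturation for every N; for N = xA inside M = A = k[x] the saturation is all of M while N** has
image xA = N under the identification M** = M, so only the inclusion stated here holds, and it is
the inclusion later used, for saturated N, where the two sides agree.) -/
theorem result (A : Type u) [CommRing A] [IsDomain A]
    [IsNoetherianRing A] [IsIntegrallyClosed A]
    (M : Type u) [AddCommGroup M] [Module A M] [Module.Finite A M] [NoZeroSMulDivisors A M]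
    (N : Submodule A M) :
    (LinearMap.range N.subtype.dualMap.dualMap).comap (Module.Dual.eval A M) ≤
      (Submodule.torsion A (M ⧸ N)).comap N.mkQ := by
  intro x hx
  rw [Submodule.mem_comap] at hx ⊢
  obtain ⟨η, hη⟩ := hx
  rw [← Submodule.Quotient.mk_eq_zero]
  refine (GrothLib.dual_eval_injective_iff_isTorsionFree A ((M ⧸ N) ⧸ Submodule.torsion A (M ⧸ N))).2 inferInstance ?_
  rw [map_zero]
  refine LinearMap.ext fun θ => ?_
  have h := LinearMap.congr_fun hη (θ.comp ((Submodule.torsion A (M ⧸ N)).mkQ.comp N.mkQ))
  change η ((θ.comp ((Submodule.torsion A (M ⧸ N)).mkQ.comp N.mkQ)).comp N.subtype) = θ _ at h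
  show θ (((Submodule.torsion A (M ⧸ N)).mkQ ∘ₗ N.mkQ) x) = 0
  rw [← h, show ((θ.comp ((Submodule.torsion A (M ⧸ N)).mkQ.comp N.mkQ)).comp N.subtype) = 0 from
    LinearMap.ext fun n => by
      simp [(Submodule.Quotient.mk_eq_zero N).2 n.2], map_zero]

end Groth.Agent.S14994
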