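import Groth.Statements.S14997
import Mathlib

set_option autoImplicit false
open HilbPol

namespace Groth.Agent.S14997

open Polynomial in
/-- Let d and ℓ be natural numbers with ℓ + 1 ≤ d, let a be a nonzero rational number and let P, Q be
polynomials with rational coefficients, both of degree exactly d. For a polynomial R of degree e
write R(m) = Σ_i α_i(R) m^i / i! (so α_i(R) = i! · coeff_i(R)) and let r_ℓ(R) ∈ ℚ^ℓ be the vector
(α_{e−1}(R)/α_e(R), …, α_{e−ℓ}(R)/α_e(R)) of the ℓ coefficients after the leading one of the reduced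
polynomial R/α_e(R), ordered lexicographically. The polynomials P(m) − P(m − a) and Q(m) − Q(m − a)
have degree d − 1, and r_ℓ(P) ≤ r_ℓ(Q) lexicographically if and only if r_ℓ(P(m) − P(m − a)) ≤
r_ℓ(Q(m) − Q(m − a)) lexicographically (hence the same with strict inequalities, by exchanging P and
Q). When P and Q are the Hilbert polynomials of pure d-dimensional coherent sheaves E → F on a
polarized projective scheme and D is a hypersurface section of degree a containing no associated
point of E or F, the Hilbert polynomials of E|_D and F|_D are P(m) − P(m − a) and Q(m) − Q(m − a),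
and the two sides are the comparisons of the ℓ-truncated reduced Hilbert polynomials p_ℓ(E) ≥ p_ℓ(F)
and p_ℓ(E|_D) ≥ p_ℓ(F|_D). (The published statement is phrased for the sheaves; this row is the
statement about their Hilbert polynomials that the displayed coefficient formula yields.) -/
theorem result (d ℓ : ℕ) (hℓ : ℓ + 1 ≤ d) (a : ℚ) (ha : a ≠ 0)
    (P Q : ℚ[X]) (hP : P.natDegree = d) (hQ : Q.natDegree = d) (hP0 : P ≠ 0) (hQ0 : Q ≠ 0) :
    toLex (fun j : Fin ℓ => ((P).coeff (d - 1 - (j : ℕ)) * (Nat.factorial (d - 1 - (j : ℕ)) : ℚ)) / ((P).coeff (d) * (Nat.factorial (d) : ℚ))) ≤ toLex (fun j : Fin ℓ => ((Q).coeff (d - 1 - (j : ℕ)) * (Nat.factorial (d - 1 - (j : ℕ)) : ℚ)) / ((Q).coeff (d) * (Nat.factorial (d) : ℚ))) ↔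
      toLex (fun j : Fin ℓ => ((P - P.comp (X - C a)).coeff ((d - 1) - 1 - (j : ℕ)) * (Nat.factorial ((d - 1) - 1 - (j : ℕ)) : ℚ)) / ((P - P.comp (X - C a)).coeff ((d - 1)) * (Nat.factorial ((d - 1)) : ℚ))) ≤
        toLex (fun j : Fin ℓ => ((Q - Q.comp (X - C a)).coeff ((d - 1) - 1 - (j : ℕ)) * (Nat.factorial ((d - 1) - 1 - (j : ℕ)) : ℚ)) / ((Q - Q.comp (X - C a)).coeff ((d - 1)) * (Nat.factorial ((d - 1)) : ℚ))) := by
  classical
  obtain ⟨m, rfl⟩ : ∃ m, d = m + 1 := ⟨d - 1, by omega⟩
  simp only [Nat.add_sub_cancel]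
  have lex : ∀ x y x' y' : Fin ℓ → ℚ,
      (∀ k, (∀ j < k, x j = y j) → x' k - y' k = x k - y k) →
      (toLex x ≤ toLex y ↔ toLex x' ≤ toLex y') := by
    intro x y x' y' h
    have lt : ∀ (x y x' y' : Fin ℓ → ℚ), (∀ k, (∀ j < k, x j = y j) → x' k - y' k = x k - y k) →
        toLex x < toLex y → toLex x' < toLex y' := by
      rintro x y x' y' h ⟨k, hk, hlt⟩
      refine ⟨k, fun j hj => ?_, ?_⟩
      · exact sub_eq_zero.1 ((h j fun i hi => hk i (hi.trans hj)).trans (sub_eq_zero.2 (hk j hj)))
      · have := h k hk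
        have hlt' : x k < y k := hlt
        show x' k < y' k
        linarith
    rcases lt_trichotomy (toLex x) (toLex y) with hlt | heq | hgt
    · exact ⟨fun _ => (lt x y x' y' h hlt).le, fun _ => hlt.le⟩
    · have e : x = y := toLex.injective heq
      have e' : x' = y' := funext fun k => sub_eq_zero.1
        ((h k fun j _ => congrFun e j).trans (sub_eq_zero.2 (congrFun e k)))
      exact ⟨fun _ => (congrArg toLex e').le, fun _ => heq.le⟩
    · have hgt' := lt y x y' x' (fun k hk => by have := h k fun j hj => (hk j hj).symm; linarith) hgt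
      exact ⟨fun h1 => absurd h1 hgt.not_ge, fun h1 => absurd h1 hgt'.not_ge⟩
  let T : ℕ → ℕ → ℚ := fun n e => (if n = e then 1 else 0) - (-a) ^ (n - e) * (n.choose e : ℚ)
  have hT : ∀ n e, n ≤ e → T n e = 0 := by
    intro n e hne
    rcases hne.eq_or_lt with rfl | hne
    · simp [T]
    · simp [T, hne.ne, Nat.choose_eq_zero_of_lt hne]
  have hT1 : ∀ e, T (e + 1) e = a * (e + 1) := by
    intro e
    simp [T, Nat.choose_succ_self_right]
  have hD : ∀ R : ℚ[X], R.natDegree = m + 1 → ∀ e,
      (R - R.comp (X - C a)).coeff e = ∑ n ∈ Finset.range (m + 2), R.coeff n * T n e := by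
    intro R hR e
    have hs : ∀ q : ℚ[X], R.comp q = ∑ n ∈ Finset.range (m + 2), C (R.coeff n) * q ^ n := fun q => by
      conv_lhs => rw [R.as_sum_range' (m + 2) (by omega)]
      simp [Polynomial.sum_comp, Polynomial.monomial_comp]
    conv_lhs => rw [← Polynomial.comp_X (p := R), Polynomial.comp_assoc, Polynomial.X_comp]
    rw [hs, hs, Polynomial.coeff_sub, Polynomial.finset_sum_coeff, Polynomial.finset_sum_coeff,
      ← Finset.sum_sub_distrib]
    refine Finset.sum_congr rfl fun n _ => ?_
    rw [Polynomial.coeff_C_mul, Polynomial.coeff_C_mul, Polynomial.coeff_X_pow, sub_eq_add_neg X,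
      ← Polynomial.C_neg, Polynomial.coeff_X_add_C_pow]
    simp only [T, eq_comm (a := e)]
    ring
  have htop : ∀ R : ℚ[X], R.natDegree = m + 1 →
      (R - R.comp (X - C a)).coeff m = R.coeff (m + 1) * (a * (m + 1)) := by
    intro R hR
    rw [hD R hR, Finset.sum_range_succ, Finset.sum_eq_zero, zero_add, hT1]
    intro n hn
    rw [hT n m (by simp at hn; omega), mul_zero]
  have hPm : P.coeff (m + 1) ≠ 0 := hP ▸ (Polynomial.leadingCoeff_ne_zero.2 hP0)
  have hQm : Q.coeff (m + 1) ≠ 0 := hQ ▸ (Polynomial.leadingCoeff_ne_zero.2 hQ0)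
  refine lex _ _ _ _ fun k hk => ?_
  obtain ⟨e, he⟩ : ∃ e, m - (k : ℕ) = e + 1 := ⟨m - k - 1, by have := k.2; omega⟩
  have he' : m - 1 - (k : ℕ) = e := by omega
  have hagree : ∀ n, e + 1 < n → n ≤ m + 1 → P.coeff n / P.coeff (m + 1) = Q.coeff n / Q.coeff (m + 1) := by
    intro n h1 h2
    rcases h2.eq_or_lt with rfl | h2
    · rw [div_self hPm, div_self hQm]
    · have := hk ⟨m - n, by omega⟩ (show m - n < (k : ℕ) by omega)
      simp only [show m - (m - n) = n by omega] at this
      have f1 : ((n.factorial : ℚ)) ≠ 0 := by exact_mod_cast n.factorial_ne_zero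
      have f2 : (((m + 1).factorial : ℚ)) ≠ 0 := by exact_mod_cast (m + 1).factorial_ne_zero
      field_simp at this ⊢
      exact this
  simp only [he', he]
  rw [htop P hP, htop Q hQ, hD P hP, hD Q hQ, Nat.factorial_succ e, Nat.factorial_succ m]
  have hsum : ∑ n ∈ Finset.range (m + 2), (P.coeff n / P.coeff (m + 1) - Q.coeff n / Q.coeff (m + 1)) * T n e
      = (P.coeff (e + 1) / P.coeff (m + 1) - Q.coeff (e + 1) / Q.coeff (m + 1)) * (a * (e + 1)) := by
    rw [Finset.sum_eq_single (e + 1), hT1]
    · intro n hn hne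
      rcases Nat.lt_or_ge (e + 1) n with h1 | h1
      · rw [hagree n h1 (by simp at hn; omega), sub_self, zero_mul]
      · rw [hT n e (by omega), mul_zero]
    · intro h
      exact absurd (Finset.mem_range.2 (by omega)) h
  simp only [sub_mul, Finset.sum_sub_distrib, div_mul_eq_mul_div, ← Finset.sum_div] at hsum
  have fm : ((m.factorial : ℚ)) ≠ 0 := by exact_mod_cast m.factorial_ne_zero
  push_cast
  generalize (∑ n ∈ Finset.range (m + 2), P.coeff n * T n e) = A at hsum ⊢
  generalize (∑ n ∈ Finset.range (m + 2), Q.coeff n * T n e) = B at hsum ⊢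
  field_simp at hsum ⊢
  linear_combination hsum

end Groth.Agent.S14997
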