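import Groth.Statements.S14998
import Groth.Agent.S9209
import Groth.Agent.S9495
import Groth.Agent.Lib.DVRDom.Scheme
import Groth.Agent.Lib.RedSub.Basic
-- import your own Groth.Agent.* helpers here

set_option autoImplicit false
universe u
open CategoryTheory CategoryTheory.Limits AlgebraicGeometry
open AlgGrp

namespace Groth.Agent.S14998

/-- Let k be a field and G a group scheme over k (a group object of schemes over Spec k) acting on a
k-scheme R of finite type. Let f : R → S and q : S → T be morphisms of k-schemes of finite type such
that q is separated, f is invariant under the action, and the composite p = q ∘ f is G-universally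
closed: p is invariant and for every discrete valuation ring A over k with fraction field K, every
K-point of R and A-point of T over k forming a commutative square with p admit an A-point of R over
T restricting on Spec K to a translate of the given K-point by a K-point of G. Then the
set-theoretic image f(R) is closed in S, and the reduced closed subscheme of S with underlying set
f(R) is proper over T. (The published statement fixes a connected algebraic group over the complex
numbers; this row allows any group scheme over any field, which is what the printed argument uses.) -/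
theorem result (k : Type u) [Field k]
    (G R S T : Over (Spec (CommRingCat.of k))) [GrpObj G]
    [LocallyOfFiniteType R.hom] [CompactSpace ↥R.left] [LocallyOfFiniteType S.hom] [CompactSpace ↥S.left]
    [LocallyOfFiniteType T.hom] [CompactSpace ↥T.left]
    (a : AlgGrp.Action G R) (f : R ⟶ S) (q : S ⟶ T) [IsSeparated q.left]
    (hf : W4c2lssmoduli.IsInvariantMor a f) (hp : W4c2lssmoduli.IsGUnivClosed a (f ≫ q)) :
    IsClosed (Set.range f.left.base) ∧
      IsProper ((Scheme.IdealSheafData.vanishingIdeal
          (⟨closure (Set.range f.left.base), isClosed_closure⟩ : TopologicalSpace.Closeds ↥S.left)).subschemeι ≫ q.left) := by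
  haveI : IsLocallyNoetherian S.left := LocallyOfFiniteType.isLocallyNoetherian S.hom
  haveI : IsLocallyNoetherian R.left := LocallyOfFiniteType.isLocallyNoetherian R.hom
  haveI : IsLocallyNoetherian T.left := LocallyOfFiniteType.isLocallyNoetherian T.hom
  haveI : IsNoetherian R.left := ⟨⟩
  haveI : IsNoetherian S.left := ⟨⟩
  haveI : QuasiCompact f.left := inferInstance
  haveI : LocallyOfFiniteType f.left := by
    haveI : LocallyOfFiniteType (f.left ≫ S.hom) := by rw [Over.w f]; infer_instance
    exact locallyOfFiniteType_of_comp f.left S.hom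
  -- lifting of valuation points of the base
  have key : ∀ (A : Type u) [CommRing A] [IsDomain A] [IsDiscreteValuationRing A]
      (K : Type u) [Field K] [Algebra A K] [IsFractionRing A K] (g : Spec (CommRingCat.of K) ⟶ R.left)
      (y : Spec (CommRingCat.of A) ⟶ T.left),
      g ≫ f.left ≫ q.left = Spec.map (CommRingCat.ofHom (algebraMap A K)) ≫ y →
      ∃ i : Spec (CommRingCat.of A) ⟶ R.left, (i ≫ f.left) ≫ q.left = y ∧
        Spec.map (CommRingCat.ofHom (algebraMap A K)) ≫ i ≫ f.left = g ≫ f.left := by
    intro A _ _ _ K _ _ _ g y hgy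
    have hg : g ≫ R.hom = Spec.map (CommRingCat.ofHom (algebraMap A K)) ≫ y ≫ T.hom := by
      rw [← Over.w (f ≫ q), Over.comp_left]
      simp only [Category.assoc, reassoc_of% hgy]
    obtain ⟨i, c, h1, h2⟩ := hp.2 A K (y ≫ T.hom) (Over.homMk g hg) (Over.homMk y rfl)
      (Over.OverMorphism.ext hgy)
    refine ⟨i.left, by rw [Category.assoc]; exact congrArg CommaMorphism.left h1, ?_⟩
    have h3 := congrArg (· ≫ f) h2
    simp only [Category.assoc] at h3
    rw [show a.act ≫ f = _ from hf, CartesianMonoidalCategory.lift_snd_assoc] at h3
    exact congrArg CommaMorphism.left h3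
  -- the image is closed
  have hcl : IsClosed (Set.range f.left.base) := by
    refine (Groth.Agent.S9495.result f.left).2 ?_
    rintro x y hxy ⟨r, rfl⟩
    by_cases hne : y = f.left r
    · exact ⟨r, hne.symm⟩
    obtain ⟨A, h, hA, hy, hh⟩ := GrothLib.DVRDom.exists_dvr_over f.left r y hxy hne
    haveI := hA
    haveI : IsFractionRing A (R.left.residueField r) := inferInstance
    obtain ⟨i, hi1, hi2⟩ := key A (R.left.residueField r) (R.left.fromSpecResidueField r) (h ≫ q.left)
      (by rw [← Category.assoc, ← hh, Category.assoc]; rfl)
    haveI : IsDominant (Spec.map (CommRingCat.ofHom (algebraMap A (R.left.residueField r)))) := by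
      refine ⟨?_⟩
      exact (PrimeSpectrum.denseRange_comap_iff_ker_le_nilRadical (algebraMap A (R.left.residueField r))).mpr (by
        rw [(RingHom.injective_iff_ker_eq_bot _).mp (IsFractionRing.injective A (R.left.residueField r))]
        exact bot_le)
    have heq : i ≫ f.left = h :=
      ext_of_isDominant_of_isSeparated q.left hi1 (Spec.map (CommRingCat.ofHom (algebraMap A (R.left.residueField r))))
        (hi2.trans hh.symm)
    rw [← heq] at hy
    exact ⟨_, hy⟩
  refine ⟨hcl, ?_⟩
  set ι := (Scheme.IdealSheafData.vanishingIdeal
          (⟨closure (Set.range f.left.base), isClosed_closure⟩ : TopologicalSpace.Closeds ↥S.left)).subschemeι with hι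
  have hr : Set.range ι = closure (Set.range f.left.base) := by
    rw [hι, Scheme.IdealSheafData.range_subschemeι, Scheme.IdealSheafData.coe_support_vanishingIdeal]
    rfl
  -- the reduced source
  let ρ := (Scheme.IdealSheafData.vanishingIdeal (⊤ : TopologicalSpace.Closeds ↥R.left)).subschemeι
  haveI : IsReduced (Scheme.IdealSheafData.vanishingIdeal (⊤ : TopologicalSpace.Closeds ↥R.left)).subscheme :=
    GrothLib.RedSub.isReduced_subscheme_vanishingIdeal _
  have hρ : Function.Surjective ρ := fun x => by
    have : x ∈ Set.range ρ := by
      show x ∈ Set.range (Scheme.IdealSheafData.vanishingIdeal (⊤ : TopologicalSpace.Closeds ↥R.left)).subschemeι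
      rw [Scheme.IdealSheafData.range_subschemeι, Scheme.IdealSheafData.coe_support_vanishingIdeal]
      trivial
    exact this
  obtain ⟨φ, hφ⟩ : ∃ φ, φ ≫ ι = ρ ≫ f.left := GrothLib.RedSub.exists_lift (ρ ≫ f.left) ι (by
    rw [hr]; rintro _ ⟨x, rfl⟩; exact subset_closure ⟨ρ x, rfl⟩)
  haveI : LocallyOfFiniteType φ := by
    haveI : LocallyOfFiniteType (φ ≫ ι) := by rw [hφ]; infer_instance
    exact locallyOfFiniteType_of_comp φ ι
  haveI : QuasiCompact φ := by
    haveI : QuasiCompact (φ ≫ ι) := by rw [hφ]; infer_instance
    exact QuasiCompact.of_comp φ ι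
  haveI : IsSeparated (ι ≫ q.left) := inferInstance
  haveI : LocallyOfFiniteType q.left := by
    haveI : LocallyOfFiniteType (q.left ≫ T.hom) := by rw [Over.w q]; infer_instance
    exact locallyOfFiniteType_of_comp q.left T.hom
  haveI : QuasiCompact q.left := inferInstance
  refine Groth.Agent.S9209.result (ι ≫ q.left) φ ?_ ?_
  · refine Function.Surjective.denseRange fun z => ?_
    have hz : ι z ∈ Set.range f.left.base := by
      exact hcl.closure_eq.le (hr.le ⟨z, rfl⟩)
    obtain ⟨r, hr'⟩ := hz
    obtain ⟨x, hx⟩ := hρ r
    refine ⟨x, ι.isClosedEmbedding.injective ?_⟩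
    rw [← Scheme.Hom.comp_apply, hφ, Scheme.Hom.comp_apply, hx]
    exact hr'
  · intro A _ _ _ u y huy
    obtain ⟨i, hi1, hi2⟩ := key A (FractionRing A) (u ≫ ρ) y (by
      rw [Category.assoc, ← reassoc_of% hφ]; exact huy)
    obtain ⟨l, hl⟩ : ∃ l, l ≫ ι = i ≫ f.left := GrothLib.RedSub.exists_lift (i ≫ f.left) ι (by
      rw [hr]; rintro _ ⟨x, rfl⟩; exact subset_closure ⟨i x, rfl⟩)
    refine ⟨l, by rw [reassoc_of% hl, ← Category.assoc]; exact hi1, ?_⟩
    rw [← cancel_mono ι, Category.assoc, hl, hi2, Category.assoc, Category.assoc, hφ]

end Groth.Agent.S14998
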