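import Groth.Statements.S14999
import Groth.Agent.S14998
import Groth.Agent.Lib.N2.Reduced
import Groth.Agent.Lib.N2.FiniteType
import Groth.Agent.Lib.CharRing.Nagata
import Groth.Agent.Lib.RedSub.Basic
-- import your own Groth.Agent.* helpers here

set_option autoImplicit false
universe u
open CategoryTheory CategoryTheory.Limits AlgebraicGeometry
open AlgGrp

namespace Groth.Agent.S14999

/-- Let k be a field, A a finitely generated k-algebra and G a group scheme over k acting on an integral
k-scheme Y of finite type; let p : Y → Spec A be a morphism over k which is G-universally closed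
(invariant under the action, and for every discrete valuation ring over k with fraction field K
every commutative square of a K-point of Y and a point of Spec A with values in that ring lifts, up
to translation of the K-point by a K-point of G, to a point of Y with values in the ring). Call a
global function s on Y invariant when its pullbacks along the action morphism and along the
projection G ×_k Y → Y agree. Then the invariant global functions form a finite A-module: there are
finitely many invariant functions such that every invariant function is a linear combination of them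
with coefficients from A (acting on Γ(Y, O_Y) through p). (The published statement is for an
integral G-stable closed subscheme Y of a G-universally closed scheme over Spec A, with k the
complex numbers and G a connected algebraic group; such a Y is itself G-universally closed over Spec
A, and the printed argument uses only a field k and a group scheme G.) -/
theorem result (k : Type u) [Field k]
    (G Y : Over (Spec (CommRingCat.of k))) [GrpObj G]
    [LocallyOfFiniteType Y.hom] [CompactSpace ↥Y.left] [IsIntegral Y.left]
    (A : Type u) [CommRing A] [Algebra k A] [Algebra.FiniteType k A]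
    (a : AlgGrp.Action G Y)
    (p : Y ⟶ Over.mk (Spec.map (CommRingCat.ofHom (algebraMap k A))))
    (hp : W4c2lssmoduli.IsGUnivClosed a p) :
    ∃ t : Finset ↑Γ(Y.left, ⊤),
      (∀ s ∈ t, a.act.left.appTop s = (CartesianMonoidalCategory.snd G Y).left.appTop s) ∧
      ∀ s : ↑Γ(Y.left, ⊤), a.act.left.appTop s = (CartesianMonoidalCategory.snd G Y).left.appTop s →
        ∃ c : ↑Γ(Y.left, ⊤) → A,
          s = ∑ x ∈ t, ((Scheme.ΓSpecIso (CommRingCat.of A)).inv ≫ p.left.appTop) (c x) * x := by
  classical
  let φ : A →+* Γ(Y.left, ⊤) := ((Scheme.ΓSpecIso (CommRingCat.of A)).inv ≫ p.left.appTop).hom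
  letI : Algebra A Γ(Y.left, ⊤) := φ.toAlgebra
  have hT : IsNoetherianRing A := Algebra.FiniteType.isNoetherianRing k A
  have hpinv : ∀ c : A, a.act.left.appTop (φ c) = (CartesianMonoidalCategory.snd G Y).left.appTop (φ c) := fun c => by
    have h := congrArg (fun t => t.left.appTop) (show a.act ≫ p = _ ≫ p from hp.1)
    simp only [Over.comp_left, Scheme.Hom.comp_appTop] at h
    exact congrArg (fun t => t.hom ((Scheme.ΓSpecIso (CommRingCat.of A)).inv.hom c)) h
  -- invariant functions are integral
  have hint : ∀ s : Γ(Y.left, ⊤), a.act.left.appTop s = (CartesianMonoidalCategory.snd G Y).left.appTop s →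
      _root_.IsIntegral A s := by
    intro s hs
    let e : Polynomial A →+* Γ(Y.left, ⊤) := Polynomial.eval₂RingHom φ s
    let Aff : Over (Spec (CommRingCat.of k)) := Over.mk (Spec.map (CommRingCat.ofHom (algebraMap k (Polynomial A))))
    let T : Over (Spec (CommRingCat.of k)) := Over.mk (Spec.map (CommRingCat.ofHom (algebraMap k A)))
    let C : CommRingCat.of A ⟶ CommRingCat.of (Polynomial A) := CommRingCat.ofHom Polynomial.C
    have hC : CommRingCat.ofHom (algebraMap k A) ≫ C = CommRingCat.ofHom (algebraMap k (Polynomial A)) := by
      rfl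
    let q : Aff ⟶ T := Over.homMk (Spec.map C) (by
      show Spec.map C ≫ Spec.map _ = Spec.map _
      rw [← Spec.map_comp, hC])
    let fl : Y.left ⟶ Aff.left := Y.left.toSpecΓ ≫ Spec.map (CommRingCat.ofHom e)
    have hfl : fl.appTop = (Scheme.ΓSpecIso (CommRingCat.of (Polynomial A))).hom ≫ CommRingCat.ofHom e := by
      show (Y.left.toSpecΓ ≫ Spec.map (CommRingCat.ofHom e)).appTop = _
      rw [Scheme.Hom.comp_appTop, Scheme.toSpecΓ_appTop, Scheme.ΓSpecIso_naturality]
    have hfq : fl ≫ q.left = p.left := by
      have : IsAffine T.left := inferInstanceAs (IsAffine (Spec (CommRingCat.of A)))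
      apply ext_of_isAffine
      rw [Scheme.Hom.comp_appTop, hfl]
      show (Spec.map C).appTop ≫ _ = _
      rw [Scheme.ΓSpecIso_naturality_assoc]
      have he : C ≫ CommRingCat.ofHom e = (Scheme.ΓSpecIso (CommRingCat.of A)).inv ≫ p.left.appTop :=
        CommRingCat.hom_ext (RingHom.ext fun c => Polynomial.eval₂_C φ s)
      rw [he, Iso.hom_inv_id_assoc]
    let f : Y ⟶ Aff := Over.homMk fl (by
      show fl ≫ Spec.map (CommRingCat.ofHom (algebraMap k (Polynomial A))) = _
      rw [← hC, Spec.map_comp]
      show fl ≫ q.left ≫ _ = _
      rw [reassoc_of% hfq]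
      exact Over.w p)
    have hf : W4c2lssmoduli.IsInvariantMor a f := by
      refine Over.OverMorphism.ext ?_
      show a.act.left ≫ fl = (CartesianMonoidalCategory.snd G Y).left ≫ fl
      have : IsAffine Aff.left := inferInstanceAs (IsAffine (Spec (CommRingCat.of (Polynomial A))))
      apply ext_of_isAffine
      rw [Scheme.Hom.comp_appTop a.act.left fl, Scheme.Hom.comp_appTop _ fl, hfl, Category.assoc, Category.assoc]
      refine congrArg _ (CommRingCat.hom_ext (Polynomial.ringHom_ext (fun c => ?_) ?_))
      · show a.act.left.appTop (Polynomial.eval₂ φ s (Polynomial.C c)) =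
          (CartesianMonoidalCategory.snd G Y).left.appTop (Polynomial.eval₂ φ s (Polynomial.C c))
        rw [Polynomial.eval₂_C]
        exact hpinv c
      · show a.act.left.appTop (Polynomial.eval₂ φ s Polynomial.X) =
          (CartesianMonoidalCategory.snd G Y).left.appTop (Polynomial.eval₂ φ s Polynomial.X)
        rw [Polynomial.eval₂_X]
        exact hs
    have hp' : W4c2lssmoduli.IsGUnivClosed a (f ≫ q) := by
      rw [show f ≫ q = p from Over.OverMorphism.ext hfq]
      exact hp
    haveI : IsAffine Aff.left := inferInstanceAs (IsAffine (Spec (CommRingCat.of (Polynomial A))))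
    haveI : IsAffine T.left := inferInstanceAs (IsAffine (Spec (CommRingCat.of A)))
    haveI : LocallyOfFiniteType Aff.hom := by
      show LocallyOfFiniteType (Spec.map _)
      rw [HasRingHomProperty.Spec_iff (P := @LocallyOfFiniteType)]
      exact RingHom.finiteType_algebraMap.mpr inferInstance
    haveI : LocallyOfFiniteType T.hom := by
      show LocallyOfFiniteType (Spec.map _)
      rw [HasRingHomProperty.Spec_iff (P := @LocallyOfFiniteType)]
      exact RingHom.finiteType_algebraMap.mpr inferInstance
    haveI : CompactSpace Aff.left := inferInstanceAs (CompactSpace (Spec (CommRingCat.of (Polynomial A))))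
    haveI : CompactSpace T.left := inferInstanceAs (CompactSpace (Spec (CommRingCat.of A)))
    haveI : IsSeparated q.left := inferInstanceAs (IsSeparated (Spec.map C))
    haveI : IsAffineHom q.left := inferInstanceAs (IsAffineHom (Spec.map C))
    obtain ⟨-, hprop⟩ := Groth.Agent.S14998.result k G Y Aff T a f q hf hp'
    set I := Scheme.IdealSheafData.vanishingIdeal
          (⟨closure (Set.range f.left.base), isClosed_closure⟩ : TopologicalSpace.Closeds ↥Aff.left) with hI
    haveI := hprop
    haveI : IsFinite (I.subschemeι ≫ q.left) := IsFinite.iff_isProper_and_isAffineHom.mpr ⟨hprop, inferInstance⟩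
    obtain ⟨l, hl⟩ : ∃ l, l ≫ I.subschemeι = f.left := GrothLib.RedSub.exists_lift f.left I.subschemeι (by
      rw [hI, Scheme.IdealSheafData.range_subschemeι, Scheme.IdealSheafData.coe_support_vanishingIdeal]
      exact subset_closure)
    let ψ : A →+* Γ(I.subscheme, ⊤) := ((Scheme.ΓSpecIso (CommRingCat.of A)).inv ≫ (I.subschemeι ≫ q.left).appTop).hom
    have hψf : ψ.Finite := (I.subschemeι ≫ q.left).finite_appTop.comp
      (RingHom.Finite.of_surjective _ (ConcreteCategory.bijective_of_isIso (Scheme.ΓSpecIso (CommRingCat.of A)).inv).2)
    let w : Γ(I.subscheme, ⊤) := I.subschemeι.appTop ((Scheme.ΓSpecIso (CommRingCat.of (Polynomial A))).inv Polynomial.X)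
    have hw : ψ.IsIntegralElem w := hψf.to_isIntegral w
    have hlψ : (l.appTop).hom.comp ψ = φ := by
      show ((Scheme.ΓSpecIso (CommRingCat.of A)).inv ≫ (I.subschemeι ≫ q.left).appTop ≫ l.appTop).hom = _
      rw [← Scheme.Hom.comp_appTop, reassoc_of% hl]
      exact congrArg CommRingCat.Hom.hom (congrArg ((Scheme.ΓSpecIso (CommRingCat.of A)).inv ≫ ·) (congrArg Scheme.Hom.appTop hfq))
    have hlw : l.appTop w = s := by
      show (I.subschemeι.appTop ≫ l.appTop) ((Scheme.ΓSpecIso (CommRingCat.of (Polynomial A))).inv Polynomial.X) = s
      rw [← Scheme.Hom.comp_appTop, hl]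
      show fl.appTop _ = s
      rw [hfl]
      simp only [CommRingCat.comp_apply, Iso.inv_hom_id_apply]
      exact Polynomial.eval₂_X φ s
    obtain ⟨P, hPm, hP⟩ := hw
    refine ⟨P, hPm, ?_⟩
    have := congrArg l.appTop.hom hP
    rw [map_zero, Polynomial.hom_eval₂, hlψ] at this
    rw [show l.appTop.hom w = s from hlw] at this
    exact this
  -- finiteness of the integral closure in the function field
  obtain ⟨_, ⟨U, hU, rfl⟩, hU0, -⟩ :=
    Y.left.isBasis_affineOpens.exists_subset_of_mem_open (Set.mem_univ (genericPoint Y.left)) isOpen_univ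
  let U : Y.left.Opens := U
  haveI : Nonempty U := ⟨⟨_, hU0⟩⟩
  haveI : IsFractionRing Γ(Y.left, U) Y.left.functionField := functionField_isFractionRing_of_isAffineOpen Y.left U hU
  let α : A →+* Γ(Y.left, U) := ((Y.left.presheaf.map (homOfLE le_top).op).hom).comp φ
  letI : Algebra A Γ(Y.left, U) := α.toAlgebra
  letI : Algebra A Y.left.functionField := ((algebraMap Γ(Y.left, U) Y.left.functionField).comp α).toAlgebra
  haveI : IsScalarTower A Γ(Y.left, U) Y.left.functionField := IsScalarTower.of_algebraMap_eq fun _ => rfl
  haveI : Algebra.FiniteType A Γ(Y.left, U) := by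
    haveI : LocallyOfFiniteType p.left := by
      haveI : LocallyOfFiniteType (p.left ≫ (Over.mk (Spec.map (CommRingCat.ofHom (algebraMap k A)))).hom) := by
        rw [Over.w p]; infer_instance
      exact locallyOfFiniteType_of_comp p.left (Over.mk (Spec.map (CommRingCat.ofHom (algebraMap k A)))).hom
    haveI : IsAffine (Over.mk (Spec.map (CommRingCat.ofHom (algebraMap k A)))).left :=
      inferInstanceAs (IsAffine (Spec (CommRingCat.of A)))
    have h1 : (p.left.appLE ⊤ U le_top).hom.FiniteType :=
      HasRingHomProperty.appLE @LocallyOfFiniteType _ inferInstance ⟨_, isAffineOpen_top _⟩ ⟨U, hU⟩ le_top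
    have h2 : ((p.left.appLE ⊤ U le_top).hom.comp (Scheme.ΓSpecIso (CommRingCat.of A)).inv.hom).FiniteType :=
      h1.comp (RingHom.FiniteType.of_surjective _ (ConcreteCategory.bijective_of_isIso (Scheme.ΓSpecIso (CommRingCat.of A)).inv).2)
    exact h2
  haveI : Algebra.EssFiniteType A Y.left.functionField := by
    haveI : Algebra.EssFiniteType Γ(Y.left, U) Y.left.functionField :=
      Algebra.EssFiniteType.of_isLocalization _ (nonZeroDivisors Γ(Y.left, U))
    exact Algebra.EssFiniteType.comp A Γ(Y.left, U) _
  haveI : Module.Finite A (integralClosure A Y.left.functionField) :=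
    GrothLib.N2.finite_integralClosure_of_essFiniteType
      (GrothLib.N2.isNagata_of_finiteType (GrothLib.CharRing.isNagata_field (K := k)) A) _
  haveI : IsNoetherian A (integralClosure A Y.left.functionField) := isNoetherian_of_isNoetherianRing_of_finite _ _
  let r : Γ(Y.left, ⊤) →ₐ[A] Y.left.functionField :=
    { ((algebraMap Γ(Y.left, U) Y.left.functionField).comp (Y.left.presheaf.map (homOfLE le_top).op).hom) with
      commutes' := fun _ => rfl }
  have hr : Function.Injective r := by
    haveI : Nonempty (⊤ : Y.left.Opens) := ⟨⟨genericPoint Y.left, trivial⟩⟩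
    intro x y hxy
    apply Y.left.germToFunctionField_injective ⊤
    have h : Y.left.presheaf.map (homOfLE le_top).op ≫ Y.left.germToFunctionField U = Y.left.germToFunctionField ⊤ :=
      Y.left.presheaf.germ_res (homOfLE le_top) _ _
    rw [← h]
    exact hxy
  let B : Submodule A Γ(Y.left, ⊤) :=
    { carrier := {s | a.act.left.appTop s = (CartesianMonoidalCategory.snd G Y).left.appTop s}
      add_mem' := fun {x y} hx hy => by
        simp only [Set.mem_setOf_eq] at hx hy ⊢
        rw [map_add, map_add, hx, hy]
      zero_mem' := by simp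
      smul_mem' := fun c x hx => by
        simp only [Set.mem_setOf_eq] at hx ⊢
        rw [Algebra.smul_def, map_mul, map_mul, hx]
        exact congrArg (· * _) (hpinv c) }
  let ρ : B →ₗ[A] integralClosure A Y.left.functionField :=
    { toFun := fun x => ⟨r x.1, (hint x.1 x.2).map r⟩
      map_add' := fun x y => Subtype.ext (map_add r _ _)
      map_smul' := fun c x => Subtype.ext (map_smul r c x.1) }
  haveI : Module.Finite A B := Module.Finite.of_injective ρ fun x y h => Subtype.ext (hr (congrArg Subtype.val h :))
  obtain ⟨t, ht⟩ := Submodule.fg_top B |>.mp (Module.Finite.fg_top (R := A) (M := B))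
  refine ⟨t, fun s hs => (ht.le (Submodule.subset_span hs) : s ∈ B), fun s hs => ?_⟩
  obtain ⟨c, -, hc⟩ := Submodule.mem_span_finset.mp (ht.ge (show s ∈ B from hs))
  exact ⟨c, hc.symm⟩

end Groth.Agent.S14999
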