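import Groth.Statements.S15000
import Groth.Agent.Lib.LinProj.Finite

set_option autoImplicit false
universe u
open CategoryTheory CategoryTheory.Limits AlgebraicGeometry
open ProjDeg

namespace Groth.Agent.S15000

/-- Let k be an algebraically closed field and Y a closed subscheme of projective N-space over k, given
by a closed immersion ι compatible with the structure morphisms to Spec k, and suppose the
underlying topological space of Y has Krull dimension d. Then there is a morphism π : Y → P^d_k over
k which is finite and surjective and under which O(1) of P^d_k pulls back to a module isomorphic to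
O_Y(1) = ι^*O(1). This row records the existence of such a finite surjective π together with the
existence of an isomorphism π^*O(1) ≅ O_Y(1) (existence of an isomorphism only). -/
theorem result (k : Type u) [Field k] [IsAlgClosed k]
    (N d : ℕ) (Y : Scheme.{u}) (f : Y ⟶ Spec (CommRingCat.of k))
    (ι : Y ⟶ CohB1.ProjSpace N k) [IsClosedImmersion ι] (hι : ι ≫ CohB1.ProjSpace.toSpec N k = f)
    (hdim : topologicalKrullDim ↥Y = (d : WithBot ℕ∞)) :
    ∃ π : Y ⟶ CohB1.ProjSpace d k, π ≫ CohB1.ProjSpace.toSpec d k = f ∧ IsFinite π ∧ Function.Surjective π.base ∧
      Nonempty ((Scheme.Modules.pullback π).obj (Twist.twistProjSpace d k 1) ≅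
        (Scheme.Modules.pullback ι).obj (Twist.twistProjSpace N k 1)) := by
  haveI : Infinite k := IsAlgClosed.instInfinite
  obtain ⟨π, h1, h2, h3, h4⟩ := GrothLib.LinProj.exists_finite_surjective ι hdim
  exact ⟨π, h1.trans hι, h2, h3, h4⟩

end Groth.Agent.S15000
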