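import Groth.Statements.S15004

set_option autoImplicit false
universe u v
open Harb

namespace Groth.Agent.S15004

/-- Let C be a finite family of d curves, recorded as an incidence relation between a type of points and
a finite index type, such that any two distinct curves of the family meet in exactly h points; for a
point p write r_p for the number of curves of the family through p. Then for every curve C_i of the
family, Σ_{p ∈ C_i} (r_p − 1) = h (d − 1), the sum being finitely supported. (The published
statement is for a transversal arrangement of curves on a geometrically ruled surface with invariant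
e, all numerically equivalent to a C₀ + b f, where any two of the curves meet transversally in h =
2ab − a²e points; only this common pairwise intersection count enters the proof, and this row states
the identity for an abstract incidence relation.) -/
theorem result (P : Type u) (ι : Type v) [Fintype ι]
    (inc : P → ι → Prop) (h : ℕ)
    (hfin : ∀ i j : ι, i ≠ j → {p : P | inc p i ∧ inc p j}.Finite)
    (hcount : ∀ i j : ι, i ≠ j → {p : P | inc p i ∧ inc p j}.ncard = h) (i : ι) :
    ∑ᶠ p ∈ {p : P | inc p i}, (Nat.card {j : ι // inc p j} - 1) = h * (Fintype.card ι - 1) := by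
  classical
  set S : Finset P := (Finset.univ.erase i).attach.biUnion
    (fun j => (hfin i j.1 (Ne.symm (Finset.ne_of_mem_erase j.2))).toFinset) with hS
  have hr : ∀ p, inc p i → Nat.card {j : ι // inc p j} - 1 =
      ∑ j ∈ Finset.univ.erase i, if inc p j then 1 else 0 := by
    intro p hp
    rw [Nat.card_eq_fintype_card, Fintype.card_subtype, Finset.sum_boole, Nat.cast_id,
      Finset.filter_erase, Finset.card_erase_of_mem (by simp [hp])]
  have hmem : ∀ p j, j ≠ i → inc p i → inc p j → p ∈ S := by
    intro p j hj h1 h2
    simp only [hS, Finset.mem_biUnion, Set.Finite.mem_toFinset]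
    exact ⟨⟨j, Finset.mem_erase.2 ⟨hj, Finset.mem_univ j⟩⟩, Finset.mem_attach _ _, h1, h2⟩
  have hS' : ∀ p ∈ S, inc p i := by
    intro p hp
    simp only [hS, Finset.mem_biUnion, Set.Finite.mem_toFinset] at hp
    obtain ⟨j, -, h1, -⟩ := hp
    exact h1
  rw [finsum_mem_eq_sum_of_inter_support_eq _ (t := S), Finset.sum_congr rfl fun p hp => hr p (hS' p hp),
    Finset.sum_comm]
  · trans ∑ _j ∈ Finset.univ.erase i, h
    · refine Finset.sum_congr rfl fun j hj => ?_
      have hji := Finset.ne_of_mem_erase hj
      rw [Finset.sum_boole, Nat.cast_id, ← Set.ncard_coe_finset, ← hcount i j hji.symm]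
      congr 1
      ext p
      simp only [Finset.coe_filter, Set.mem_ofPred_eq]
      exact ⟨fun h => ⟨hS' p h.1, h.2⟩, fun h => ⟨hmem p j hji h.1 h.2, h.2⟩⟩
    · rw [Finset.sum_const, Finset.card_erase_of_mem (Finset.mem_univ i), Finset.card_univ,
        smul_eq_mul, mul_comm]
  · ext p
    simp only [Set.mem_inter_iff, Set.mem_ofPred_eq, Function.mem_support, Finset.mem_coe]
    refine ⟨fun h => ⟨?_, h.2⟩, fun h => ⟨hS' p h.1, h.2⟩⟩
    rw [hr p h.1] at h
    obtain ⟨j, hj, hjne⟩ := Finset.exists_ne_zero_of_sum_ne_zero h.2
    exact hmem p j (Finset.ne_of_mem_erase hj) h.1 (by by_contra hn; simp [hn] at hjne)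

end Groth.Agent.S15004
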