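import Groth.Statements.S15005

set_option autoImplicit false
universe u v
open Harb

namespace Groth.Agent.S15005

/-- Let C be a finite family of d curves, recorded as an incidence relation between a type of points and
a finite index type, such that any two distinct curves of the family meet in exactly h points; let
t_k be the number of k-fold points (points lying on exactly k curves of the family). Then f₂ − f₁ =
Σ_{k ≥ 2} k(k − 1) t_k equals h d(d − 1), where f_i = Σ_{k ≥ 2} k^i t_k. (The published statement is
for a transversal arrangement of curves on a geometrically ruled surface with invariant e, all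
numerically equivalent to a C₀ + b f, where any two of the curves meet transversally in h = 2ab −
a²e points; only this common pairwise intersection count enters the proof, and this row states the
identity for an abstract incidence relation.) -/
theorem result (P : Type u) (ι : Type v) [Fintype ι]
    (inc : P → ι → Prop) (h : ℕ)
    (hfin : ∀ i j : ι, i ≠ j → {p : P | inc p i ∧ inc p j}.Finite)
    (hcount : ∀ i j : ι, i ≠ j → {p : P | inc p i ∧ inc p j}.ncard = h) :
    ∑ k ∈ Finset.Icc 2 (Fintype.card ι), k * (k - 1) * Nat.card {p : P // Nat.card {j : ι // inc p j} = k} =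
      h * (Fintype.card ι * (Fintype.card ι - 1)) := by
  classical
  set S : Finset P := Finset.univ.biUnion fun x : {x : ι × ι // x.1 ≠ x.2} =>
    (hfin x.1.1 x.1.2 x.2).toFinset with hS
  have hmemS : ∀ p, p ∈ S ↔ 2 ≤ Nat.card {j : ι // inc p j} := by
    intro p
    rw [Nat.card_eq_fintype_card, Fintype.card_subtype, Nat.succ_le_iff, Finset.one_lt_card]
    simp only [hS, Finset.mem_biUnion, Set.Finite.mem_toFinset, Finset.mem_univ, true_and,
      Finset.mem_filter]
    exact ⟨fun ⟨x, h1, h2⟩ => ⟨x.1.1, h1, x.1.2, h2, x.2⟩,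
      fun ⟨a, h1, b, h2, hne⟩ => ⟨⟨(a, b), hne⟩, h1, h2⟩⟩
  have hk : ∀ k ∈ Finset.Icc 2 (Fintype.card ι), k * (k - 1) *
      Nat.card {p : P // Nat.card {j : ι // inc p j} = k} =
      ∑ p ∈ S with Nat.card {j : ι // inc p j} = k,
        Nat.card {j : ι // inc p j} * (Nat.card {j : ι // inc p j} - 1) := by
    intro k hk
    rw [Finset.sum_congr rfl (fun p hp => by rw [(Finset.mem_filter.1 hp).2]), Finset.sum_const,
      smul_eq_mul, mul_comm (Finset.card _)]
    congr 1
    rw [← Set.ncard_coe_finset, ← Nat.card_coe_set_eq]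
    refine Nat.card_congr (Equiv.subtypeEquivRight fun p => ?_)
    simp only [Finset.coe_filter, Set.mem_ofPred_eq]
    exact ⟨fun h => ⟨(hmemS p).2 (h ▸ (Finset.mem_Icc.1 hk).1), h⟩, fun h => h.2⟩
  rw [Finset.sum_congr rfl hk, Finset.sum_fiberwise_of_maps_to (fun p hp => Finset.mem_Icc.2
    ⟨(hmemS p).1 hp, by rw [Nat.card_eq_fintype_card]; exact Fintype.card_subtype_le _⟩)]
  have hpair : ∀ p, Nat.card {j : ι // inc p j} * (Nat.card {j : ι // inc p j} - 1) =
      ∑ x ∈ (Finset.univ : Finset ι).offDiag, if inc p x.1 ∧ inc p x.2 then 1 else 0 := by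
    intro p
    rw [Nat.card_eq_fintype_card, Fintype.card_subtype, Finset.sum_boole, Nat.cast_id,
      Nat.mul_sub, mul_one, ← Finset.offDiag_card]
    congr 1
    ext x
    simp only [Finset.mem_offDiag, Finset.mem_filter, Finset.mem_univ, true_and]
    tauto
  simp only [hpair]
  rw [Finset.sum_comm, Finset.sum_congr rfl (g := fun _ => h) (fun x hx => ?_), Finset.sum_const,
    Finset.offDiag_card, Finset.card_univ, smul_eq_mul, Nat.mul_sub, mul_one, mul_comm]
  have hne := (Finset.mem_offDiag.1 hx).2.2
  rw [Finset.sum_boole, Nat.cast_id, ← Set.ncard_coe_finset, ← hcount x.1 x.2 hne]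
  congr 1
  ext p
  simp only [Finset.coe_filter, Set.mem_ofPred_eq, and_iff_right_iff_imp]
  intro hp
  simp only [hS, Finset.mem_biUnion, Set.Finite.mem_toFinset, Finset.mem_univ, true_and]
  exact ⟨⟨x, hne⟩, hp⟩

end Groth.Agent.S15005
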