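import Groth.Statements.S15006
import Mathlib.Data.Rat.Defs
import Mathlib.LinearAlgebra.FiniteDimensional.Basic
import Mathlib.Tactic.Linarith

set_option autoImplicit false
universe u v
open Harb

namespace Groth.Agent.S15006

/-- Let C be a finite family of d ≥ 2 curves, recorded as an incidence relation between a type of points
and a finite index type, such that any two distinct curves of the family meet in exactly h ≥ 1
points and no point lies on every curve of the family. Then f₀ ≥ d: the number of multiple points
(points lying on at least two of the curves) is at least the number of curves. (The published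
statement is for a transversal arrangement of d ≥ 4 curves on a geometrically ruled surface with
invariant e ≥ 4, all numerically equivalent to a C₀ + b f with a ≥ 1 and b ≥ ae and with no point
common to all of them, satisfying in addition either a ≥ 2, or a = 1 with some four of the curves
having no point in common, where any two of the curves meet transversally in h = 2ab − a²e ≥ 1
points; only d ≥ 2, h ≥ 1 and the absence of a common point enter the proof, and this row states the
bound for an abstract incidence relation.) -/
theorem result (P : Type u) (ι : Type v) [Fintype ι]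
    (inc : P → ι → Prop) (h : ℕ) (hh : 0 < h) (hd : 2 ≤ Fintype.card ι)
    (hfin : ∀ i j : ι, i ≠ j → {p : P | inc p i ∧ inc p j}.Finite)
    (hcount : ∀ i j : ι, i ≠ j → {p : P | inc p i ∧ inc p j}.ncard = h)
    (hnone : ∀ p : P, ∃ i : ι, ¬ inc p i) :
    Fintype.card ι ≤ Nat.card {p : P // 2 ≤ Nat.card {j : ι // inc p j}} := by
  classical
  have hTfin : {p : P | 2 ≤ Nat.card {j : ι // inc p j}}.Finite := by
    refine Set.Finite.subset (Set.finite_iUnion fun x : {x : ι × ι // x.1 ≠ x.2} =>
      hfin x.1.1 x.1.2 x.2) fun p hp => ?_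
    rw [Set.mem_ofPred_eq, Nat.card_eq_fintype_card, Fintype.card_subtype, Nat.succ_le_iff,
      Finset.one_lt_card] at hp
    simp only [Finset.mem_filter, Finset.mem_univ, true_and] at hp
    obtain ⟨a, h1, b, h2, hne⟩ := hp
    exact Set.mem_iUnion.2 ⟨⟨(a, b), hne⟩, h1, h2⟩
  set S := hTfin.toFinset with hS
  have hS2 : ∀ p i j, i ≠ j → inc p i → inc p j → p ∈ S := by
    intro p i j hij h1 h2
    rw [hS, Set.Finite.mem_toFinset, Set.mem_ofPred_eq, Nat.card_eq_fintype_card,
      Fintype.card_subtype, Nat.succ_le_iff, Finset.one_lt_card]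
    exact ⟨i, by simp [h1], j, by simp [h2], hij⟩
  have hcard : Nat.card {p : P // 2 ≤ Nat.card {j : ι // inc p j}} = S.card :=
    Nat.card_eq_card_finite_toFinset hTfin
  rw [hcard]
  let v : ι → (S → ℚ) := fun i p => if inc p.1 i then 1 else 0
  have hij : ∀ i j, i ≠ j → ∑ p, v i p * v j p = h := by
    intro i j hne
    rw [Finset.sum_congr rfl (g := fun p : S => if inc p.1 j ∧ inc p.1 i then (1 : ℚ) else 0)
      (fun p _ => by by_cases h1 : inc p.1 j <;> by_cases h2 : inc p.1 i <;> simp [v, h1, h2])]
    rw [Finset.sum_coe_sort S (fun p => if inc p j ∧ inc p i then (1 : ℚ) else 0),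
      Finset.sum_boole, ← Set.ncard_coe_finset, ← hcount j i hne.symm]
    congr 2
    ext p
    simp only [Finset.coe_filter, Set.mem_ofPred_eq, and_iff_right_iff_imp]
    exact fun hp => hS2 p j i hne.symm hp.1 hp.2
  have hii : ∀ i, (h : ℚ) < ∑ p, v i p * v i p := by
    intro i
    obtain ⟨j, hj⟩ := Fintype.exists_ne_of_one_lt_card (by omega : 1 < Fintype.card ι) i
    have hle : ∀ p, v i p * v j p ≤ v i p * v i p := fun p => by
      simp only [v]; split_ifs <;> norm_num
    rw [← hij i j hj.symm]
    by_contra hlt
    have heq : ∀ k, k ≠ i → ∀ p, v i p * v k p = v i p * v i p := by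
      intro k hk p
      have h1 : ∑ p, v i p * v k p = ∑ p, v i p * v i p := by
        rw [hij i k hk.symm]
        have h2 := Finset.sum_le_sum (s := Finset.univ) fun p _ => hle p
        have h3 := not_lt.1 hlt
        rw [hij i j hj.symm] at h2 h3
        linarith
      exact (Finset.sum_eq_sum_iff_of_le fun p _ => by
        simp only [v]; split_ifs <;> norm_num).1 h1 p (Finset.mem_univ p)
    obtain ⟨p, hp1, hp2⟩ : ∃ p, inc p i ∧ inc p j := by
      by_contra hn
      push Not at hn
      have := hcount i j hj.symm
      rw [show {p : P | inc p i ∧ inc p j} = ∅ from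
        Set.eq_empty_of_forall_notMem fun p hp => hn p hp.1 hp.2, Set.ncard_empty] at this
      omega
    obtain ⟨k, hk⟩ := hnone p
    have hki : k ≠ i := fun e => hk (e ▸ hp1)
    have := heq k hki ⟨p, hS2 p i j hj.symm hp1 hp2⟩
    simp [v, hp1, hk] at this
  have hli : LinearIndependent ℚ v := by
    rw [Fintype.linearIndependent_iff]
    intro c hc
    have h1 : ∀ i, ∑ k, c k * ∑ p, v i p * v k p = 0 := by
      intro i
      have h0 : ∀ p, ∑ k, c k * v k p = 0 := fun p => by
        simpa using congrFun hc p
      calc ∑ k, c k * ∑ p, v i p * v k p = ∑ p, v i p * ∑ k, c k * v k p := by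
            simp only [Finset.mul_sum]; rw [Finset.sum_comm]
            exact Finset.sum_congr rfl fun p _ => Finset.sum_congr rfl fun k _ => by ring
        _ = 0 := by simp [h0]
    have h2 : ∀ i, c i * ((∑ p, v i p * v i p) - h) + h * ∑ k, c k = 0 := by
      intro i
      have := h1 i
      have he : ∑ k ∈ Finset.univ.erase i, c k * ∑ p, v i p * v k p =
          (∑ k ∈ Finset.univ.erase i, c k) * h := by
        rw [Finset.sum_mul]
        exact Finset.sum_congr rfl fun k hk => by rw [hij i k (Finset.ne_of_mem_erase hk).symm]
      rw [← Finset.add_sum_erase _ _ (Finset.mem_univ i), he] at this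
      rw [← Finset.add_sum_erase _ c (Finset.mem_univ i)]
      linarith
    have h3 : ∑ i, c i * (c i * ((∑ p, v i p * v i p) - h) + h * ∑ k, c k) = 0 :=
      Finset.sum_eq_zero fun i _ => by rw [h2 i, mul_zero]
    simp only [mul_add, Finset.sum_add_distrib, ← Finset.sum_mul, ← mul_assoc] at h3
    have h4 : ∀ i ∈ Finset.univ, 0 ≤ c i * c i * ((∑ p, v i p * v i p) - h) := fun i _ =>
      mul_nonneg (mul_self_nonneg _) (sub_nonneg.2 (hii i).le)
    have h5 : ∑ i, c i * c i * ((∑ p, v i p * v i p) - (h : ℚ)) = 0 :=
      le_antisymm (by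
        nlinarith [mul_nonneg (Nat.cast_nonneg (α := ℚ) h) (mul_self_nonneg (∑ k, c k))])
        (Finset.sum_nonneg h4)
    intro i
    have := (Finset.sum_eq_zero_iff_of_nonneg h4).1 h5 i (Finset.mem_univ i)
    rcases mul_eq_zero.1 this with h6 | h6
    · exact mul_self_eq_zero.1 h6
    · exact absurd h6 (sub_pos.2 (hii i)).ne'
  simpa using hli.fintype_card_le_finrank

end Groth.Agent.S15006
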