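import Groth.Statements.S15007

set_option autoImplicit false
universe u v
open Harb

namespace Groth.Agent.S15007

/-- Let C be a finite family of d ≥ 2 curves, recorded as an incidence relation between a type of points
and a finite index type, such that any two distinct curves of the family meet in exactly h ≥ 1
points and no point lies on every curve of the family. Then f₀ ≥ h + 2: the number of multiple
points (points lying on at least two of the curves) is at least h + 2. (The published claim reads f₀
≥ 2ab − a²e + 2 for a transversal arrangement of d ≥ 4 curves on a geometrically ruled surface with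
invariant e ≥ 4, all numerically equivalent to a C₀ + b f with a ≥ 1 and b ≥ ae and with no point
common to all of them, satisfying in addition either a ≥ 2, or a = 1 with some four of the curves
having no point in common, where any two of the curves meet transversally in h = 2ab − a²e ≥ 1
points; only d ≥ 2, h ≥ 1 and the absence of a common point enter the proof, and this row states the
bound for an abstract incidence relation.) -/
theorem result (P : Type u) (ι : Type v) [Fintype ι]
    (inc : P → ι → Prop) (h : ℕ) (hh : 0 < h) (hd : 2 ≤ Fintype.card ι)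
    (hfin : ∀ i j : ι, i ≠ j → {p : P | inc p i ∧ inc p j}.Finite)
    (hcount : ∀ i j : ι, i ≠ j → {p : P | inc p i ∧ inc p j}.ncard = h)
    (hnone : ∀ p : P, ∃ i : ι, ¬ inc p i) :
    h + 2 ≤ Nat.card {p : P // 2 ≤ Nat.card {j : ι // inc p j}} := by
  classical
  have hne : ∀ i j, i ≠ j → ∃ p, inc p i ∧ inc p j := by
    intro i j hij
    by_contra hn
    push Not at hn
    have := hcount i j hij
    rw [show {p : P | inc p i ∧ inc p j} = ∅ from
      Set.eq_empty_of_forall_notMem fun p hp => hn p hp.1 hp.2, Set.ncard_empty] at this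
    omega
  have hmulti : ∀ p a b, a ≠ b → inc p a → inc p b → 2 ≤ Nat.card {j : ι // inc p j} := by
    intro p a b hab h1 h2
    rw [Nat.card_eq_fintype_card, Fintype.card_subtype, Nat.succ_le_iff, Finset.one_lt_card]
    exact ⟨a, by simp [h1], b, by simp [h2], hab⟩
  have hTfin : {p : P | 2 ≤ Nat.card {j : ι // inc p j}}.Finite := by
    refine Set.Finite.subset (Set.finite_iUnion fun x : {x : ι × ι // x.1 ≠ x.2} =>
      hfin x.1.1 x.1.2 x.2) fun p hp => ?_
    rw [Set.mem_ofPred_eq, Nat.card_eq_fintype_card, Fintype.card_subtype, Nat.succ_le_iff,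
      Finset.one_lt_card] at hp
    simp only [Finset.mem_filter, Finset.mem_univ, true_and] at hp
    obtain ⟨a, h1, b, h2, hne⟩ := hp
    exact Set.mem_iUnion.2 ⟨⟨(a, b), hne⟩, h1, h2⟩
  obtain ⟨i, j, hij⟩ := Fintype.exists_pair_of_one_lt_card (by omega : 1 < Fintype.card ι)
  have key : ∀ i j, i ≠ j → ∃ p, inc p i ∧ ¬ inc p j ∧ 2 ≤ Nat.card {k : ι // inc p k} := by
    intro i j hij
    obtain ⟨p, hpi, hpj⟩ := hne i j hij
    obtain ⟨k, hk⟩ := hnone p
    have hki : k ≠ i := fun e => hk (e ▸ hpi)
    by_contra hn
    push Not at hn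
    have hsub : {q : P | inc q i ∧ inc q k} ⊆ {q : P | inc q i ∧ inc q j} := fun q hq =>
      ⟨hq.1, by_contra fun hqj => absurd (hn q hq.1 hqj) (not_lt.2 (hmulti q k i hki hq.2 hq.1))⟩
    have heq := Set.eq_of_subset_of_ncard_le hsub
      (by rw [hcount i j hij, hcount i k hki.symm]) (hfin i j hij)
    exact hk (heq.ge ⟨hpi, hpj⟩).2
  obtain ⟨p, hp1, hp2, hp3⟩ := key i j hij
  obtain ⟨q, hq1, hq2, hq3⟩ := key j i hij.symm
  have hsub : insert p (insert q {r : P | inc r i ∧ inc r j}) ⊆
      {r : P | 2 ≤ Nat.card {k : ι // inc r k}} := by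
    intro r hr
    rcases hr with rfl | rfl | hr
    · exact hp3
    · exact hq3
    · exact hmulti r i j hij hr.1 hr.2
  have hle := Set.ncard_le_ncard hsub hTfin
  rw [Set.ncard_insert_of_notMem (by
      rintro (rfl | h)
      · exact hq2 hp1
      · exact hp2 h.2) ((hfin i j hij).insert q),
    Set.ncard_insert_of_notMem (fun h => hq2 h.1) (hfin i j hij), hcount i j hij,
    ← Nat.card_coe_set_eq] at hle
  exact hle

end Groth.Agent.S15007
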