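import Groth.Statements.S15008
import Groth.Agent.Lib.TFCurv11.LatticeDual

set_option autoImplicit false
universe u
open CategoryTheory
open TFCurv

namespace Groth.Agent.S15008

/-- Let O be a one-dimensional Noetherian local domain with algebraically closed residue field whose
integral closure O~ in its fraction field K is a finite O-module, and suppose O is not Gorenstein.
If w is an O-submodule of K with O ⊆ w ⊆ O~ whose injective dimension as an O-module is at most one
(a canonical ideal placed between O and O~), then length(w/O) + length(O~/C) = 2 · length(O~/O),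
where C is the conductor of O in O~. -/
theorem result (O : Type u) [CommRing O] [IsDomain O] [IsNoetherianRing O] [IsLocalRing O] (hdim : ringKrullDim O = 1) [IsAlgClosed (IsLocalRing.ResidueField O)] (K : Type u) [Field K] [Algebra O K] [IsFractionRing O K] (hfin : Module.Finite O ↥(integralClosure O K)) (hG : ¬ LocCoh.IsGorensteinLocalRing O) (ω : Submodule O K) (hω1 : (1 : Submodule O K) ≤ ω) (hω2 : ω ≤ (Subalgebra.toSubmodule (integralClosure O K))) (hωinj : HasInjectiveDimensionLT (ModuleCat.of O ↥ω) 2) : Module.length O (↥ω ⧸ Submodule.comap ω.subtype (1 : Submodule O K)) + Module.length O (↥(integralClosure O K) ⧸ ((1 : Submodule O K).colon (Subalgebra.toSubmodule (integralClosure O K))) • (⊤ : Submodule O ↥(integralClosure O K))) = 2 * Module.length O (↥(integralClosure O K) ⧸ Submodule.comap (Subalgebra.toSubmodule (integralClosure O K)).subtype (1 : Submodule O K)) := by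
  classical
  let T : Submodule O K := Subalgebra.toSubmodule (integralClosure O K)
  haveI : Ring.KrullDimLE 1 O := Ring.krullDimLE_iff.mpr hdim.le
  haveI hT : Module.Finite O T := hfin
  haveI : Module.Finite O ω := Module.Finite.of_injective (Submodule.inclusion hω2) (Submodule.inclusion_injective _)
  have hωfg : ω.FG := Module.Finite.iff_fg.1 inferInstance
  have hω0 : ω ≠ ⊥ := fun h => by
    have h1 : (1 : K) ∈ (⊥ : Submodule O K) := h ▸ hω1 (Submodule.one_le.1 le_rfl)
    exact one_ne_zero ((Submodule.mem_bot O).1 h1)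
  have h1T : (1 : Submodule O K) ≤ T := hω1.trans hω2
  -- a common denominator
  have hfl : ∀ (M : Submodule O K) [Module.Finite O M], (1 : Submodule O K) ≤ M → M ≤ T →
      ∃ n : ℕ, GrothLib.LatticeDual11.qlen 1 M = n := fun M _ h1 hMT => by
    obtain ⟨a, ha, hM⟩ := GrothLib.DimOneLen.exists_smul_le (R := O) (K := K) (1 : Submodule O K) M
      (Module.Finite.iff_fg.1 inferInstance) (fun m _ => by
        rw [show m = m • (1 : K) from (mul_one m).symm]
        exact Submodule.smul_mem _ _ (Submodule.subset_span (Submodule.one_le.1 le_rfl)))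
    have hne := Module.length_ne_top_iff.2
      (GrothLib.LatticeDual11.isFiniteLength_quot (L := (1 : Submodule O K)) (M := M) hdim a ha hM)
    exact ⟨(GrothLib.LatticeDual11.qlen 1 M).toNat, (ENat.coe_toNat hne).symm⟩
  obtain ⟨n, hn⟩ := hfl ω hω1 hω2
  obtain ⟨N, hN⟩ := hfl T h1T le_rfl
  have hdiv1 : ω / (1 : Submodule O K) = ω := by
    refine le_antisymm (fun y hy => ?_) fun y hy => Submodule.mem_div_iff_forall_mul_mem.2 fun z hz => ?_
    · have := Submodule.mem_div_iff_forall_mul_mem.1 hy 1 (Submodule.one_le.1 le_rfl)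
      rwa [mul_one] at this
    · obtain ⟨c, rfl⟩ := Submodule.mem_one.1 hz
      rw [mul_comm, ← Algebra.smul_def]
      exact ω.smul_mem c hy
  have h1ω : (1 : Submodule O K) ≤ ω / ω := fun z hz => Submodule.mem_div_iff_forall_mul_mem.2 fun y hy => by
    obtain ⟨c, rfl⟩ := Submodule.mem_one.1 hz
    rw [← Algebra.smul_def]
    exact ω.smul_mem c hy
  have hωω : ω / ω ≤ ω := (GrothLib.LatticeDual11.div_mono ω hω1).trans hdiv1.le
  have hn0 : n ≠ 0 := fun h => by
    subst h
    have heq := GrothLib.LatticeDual11.qlen_eq_zero hω1 (by simpa using hn)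
    refine hG ⟨2, ?_⟩
    subst heq
    let e : O ≃ₗ[O] ↥(1 : Submodule O K) :=
      (LinearEquiv.ofInjective (Algebra.linearMap O K) (IsFractionRing.injective O K)).trans
        (LinearEquiv.ofEq _ _ Submodule.one_eq_range.symm)
    haveI := hωinj
    exact hasInjectiveDimensionLT_of_iso e.toModuleIso.symm 2
  have hkey := GrothLib.LatticeDual11.qlen_div ω hdim hfin hω0 hωfg hωinj n hω1 hn
  rw [hdiv1] at hkey
  have hsum := GrothLib.LatticeDual11.qlen_trans h1ω hωω
  rw [hn, hkey] at hsum
  have ht0 : Module.length O (GrothLib.LatticeDual11.socle ω) ≠ 0 := fun h => by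
    have := Module.length_eq_zero_iff.1 h
    exact GrothLib.LatticeDual11.socle_ne_bot ω hdim hω0 hωfg
      (Submodule.eq_bot_of_subsingleton)
  have ht : Module.length O (GrothLib.LatticeDual11.socle ω) = 1 ∧ GrothLib.LatticeDual11.qlen 1 (ω / ω) = 0 := by
    revert hsum ht0
    generalize GrothLib.LatticeDual11.qlen 1 (ω / ω) = x
    generalize Module.length O (GrothLib.LatticeDual11.socle ω) = t
    intro hsum ht0
    induction t using ENat.recTopCoe with
    | top =>
      rw [ENat.mul_top (by exact_mod_cast hn0)] at hsum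
      simp at hsum
    | coe t =>
      induction x using ENat.recTopCoe with
      | top => simp at hsum
      | coe x =>
        have hs : n = x + n * t := by exact_mod_cast hsum
        have ht1 : 1 ≤ t := Nat.one_le_iff_ne_zero.2 (by exact_mod_cast ht0)
        have h2 : n * 1 ≤ n * t := Nat.mul_le_mul_left n ht1
        have hx : x = 0 := by omega
        subst hx
        have : n * t = n * 1 := by omega
        exact ⟨by exact_mod_cast Nat.eq_of_mul_eq_mul_left (Nat.pos_of_ne_zero hn0) this, by simp⟩
  obtain ⟨ht, hx⟩ := ht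
  have hone : ω / ω = 1 := (GrothLib.LatticeDual11.qlen_eq_zero h1ω hx).symm
  have hC1 : ω / T ≤ 1 := hone ▸ GrothLib.LatticeDual11.div_mono ω hω2
  have hkeyT := GrothLib.LatticeDual11.qlen_div ω hdim hfin hω0 hωfg hωinj N h1T hN
  rw [hdiv1, ht, mul_one, GrothLib.LatticeDual11.qlen_trans hC1 hω1] at hkeyT
  -- the conductor
  have hmulT : ∀ a ∈ T, ∀ b ∈ T, a * b ∈ T := fun a ha b hb => (integralClosure O K).mul_mem ha hb
  have hcond : ((1 : Submodule O K).colon (T : Set K)) • (⊤ : Submodule O T) = (ω / T).comap T.subtype := by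
    refine le_antisymm (Submodule.smul_le.2 fun c hc b _ => ?_) fun y hy => ?_
    · refine Submodule.mem_div_iff_forall_mul_mem.2 fun t ht => hω1 ?_
      show c • (b : K) * t ∈ (1 : Submodule O K)
      rw [smul_mul_assoc]
      exact Submodule.mem_colon.1 hc _ (hmulT _ b.2 _ ht)
    · have hy' : (y : K) ∈ ω / T := hy
      obtain ⟨c, hc⟩ := Submodule.mem_one.1 (hC1 hy')
      have hcmem : c ∈ (1 : Submodule O K).colon (T : Set K) := Submodule.mem_colon.2 fun b hb => by
        rw [Algebra.smul_def, hc]
        exact hone ▸ Submodule.mem_div_iff_forall_mul_mem.2 fun w hw => by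
          rw [mul_assoc]
          exact Submodule.mem_div_iff_forall_mul_mem.1 hy' _ (hmulT _ hb _ (hω2 hw))
      have h := Submodule.smul_mem_smul hcmem (Submodule.mem_top : (⟨1, h1T (Submodule.one_le.1 le_rfl)⟩ : T) ∈ ⊤)
      convert h using 1
      exact Subtype.ext (show (y : K) = c • (1 : K) by rw [Algebra.smul_def, hc, mul_one])
  show GrothLib.LatticeDual11.qlen 1 ω +
    Module.length O (↥T ⧸ ((1 : Submodule O K).colon (T : Set K)) • (⊤ : Submodule O T)) =
      2 * GrothLib.LatticeDual11.qlen 1 T
  rw [hcond]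
  show GrothLib.LatticeDual11.qlen 1 ω + GrothLib.LatticeDual11.qlen (ω / T) T = _
  rw [GrothLib.LatticeDual11.qlen_trans hC1 h1T, hN, ← add_assoc,
    add_comm (GrothLib.LatticeDual11.qlen 1 ω), hkeyT, two_mul]

end Groth.Agent.S15008
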