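import Groth.Statements.S15010
import Mathlib

set_option autoImplicit false
universe u
open TFCurv

namespace Groth.Agent.S15010

theorem lattice_matrix {O : Type u} [CommRing O] [IsDomain O] {K : Type u} [Field K] [Algebra O K]
    [IsFractionRing O K] {n : ℕ} {M N : Submodule O (Fin n → K)}
    (hM1 : Submodule.pi Set.univ (fun _ : Fin n => (1 : Submodule O K)) ≤ M)
    (hN2 : N ≤ Submodule.pi Set.univ (fun _ : Fin n => (Subalgebra.toSubmodule (integralClosure O K))))
    (φ : ↥M →ₗ[O] ↥N) :
    ∃ A : Matrix (Fin n) (Fin n) ↥(integralClosure O K), ∀ x : ↥M,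
      ((φ x : ↥N) : Fin n → K) = (A.map (algebraMap ↥(integralClosure O K) K)).mulVec (x : Fin n → K) := by
  classical
  have he : ∀ (a : O) (j : Fin n), (Pi.single j (algebraMap O K a) : Fin n → K) ∈ M := fun a j => hM1 fun i _ => by
    rcases eq_or_ne i j with rfl | h
    · rw [Pi.single_eq_same]; exact Submodule.mem_one.2 ⟨a, rfl⟩
    · rw [Pi.single_eq_of_ne h]; exact zero_mem _
  let e : Fin n → M := fun j => ⟨Pi.single j (algebraMap O K 1), he 1 j⟩
  refine ⟨Matrix.of fun i j => ⟨((φ (e j) : N) : Fin n → K) i, Submodule.mem_pi.1 (hN2 (φ (e j)).2) i trivial⟩, fun x => ?_⟩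
  obtain ⟨s, hs⟩ := IsLocalization.exist_integer_multiples_of_finite (nonZeroDivisors O) (x : Fin n → K)
  choose a ha using hs
  have hsx : (s : O) • x = ∑ j, a j • e j := Subtype.ext (funext fun i => by
    simp only [Submodule.coe_sum, Submodule.coe_smul, Finset.sum_apply, Pi.smul_apply, e, map_one]
    rw [Finset.sum_eq_single i]
    · rw [Pi.single_eq_same, Algebra.smul_def (a i), mul_one]
      exact (ha i).symm
    · intro j _ hji
      rw [Pi.single_eq_of_ne hji.symm, smul_zero]
    · intro h; exact absurd (Finset.mem_univ i) h)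
  have hs0 : algebraMap O K s ≠ 0 := IsFractionRing.to_map_ne_zero_of_mem_nonZeroDivisors s.2
  funext i
  refine mul_left_cancel₀ hs0 ?_
  have h1 := congrFun (congrArg Subtype.val (congrArg φ hsx)) i
  simp only [map_smul, map_sum, Submodule.coe_sum, Submodule.coe_smul, Finset.sum_apply, Pi.smul_apply,
    Algebra.smul_def, Pi.mul_apply, Pi.algebraMap_apply] at h1
  rw [h1]
  simp only [Matrix.mulVec, dotProduct, Matrix.map_apply, Matrix.of_apply, Finset.mul_sum]
  refine Finset.sum_congr rfl fun j _ => ?_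
  have hj : algebraMap O K (a j) = algebraMap O K s * (x : Fin n → K) j := by
    rw [← Algebra.smul_def]; exact ha j
  rw [hj]
  show algebraMap O K s * (x : Fin n → K) j * ((φ (e j) : N) : Fin n → K) i =
    algebraMap O K s * (((φ (e j) : N) : Fin n → K) i * (x : Fin n → K) j)
  ring


/-- Let O be a one-dimensional Noetherian local domain with algebraically closed residue field whose
integral closure O~ in its fraction field K is a finite O-module. If M and N are O-submodules of K^n
with O^n ⊆ M ⊆ O~^n and O^n ⊆ N ⊆ O~^n, then every O-linear isomorphism M → N is the restriction of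
x ↦ A·x for an invertible n × n matrix A with entries in O~. -/
theorem result (O : Type u) [CommRing O] [IsDomain O] [IsNoetherianRing O] [IsLocalRing O] (hdim : ringKrullDim O = 1) [IsAlgClosed (IsLocalRing.ResidueField O)] (K : Type u) [Field K] [Algebra O K] [IsFractionRing O K] (hfin : Module.Finite O ↥(integralClosure O K)) (n : ℕ) (M N : Submodule O (Fin n → K)) (hM1 : Submodule.pi Set.univ (fun _ : Fin n => (1 : Submodule O K)) ≤ M) (hM2 : M ≤ Submodule.pi Set.univ (fun _ : Fin n => (Subalgebra.toSubmodule (integralClosure O K)))) (hN1 : Submodule.pi Set.univ (fun _ : Fin n => (1 : Submodule O K)) ≤ N) (hN2 : N ≤ Submodule.pi Set.univ (fun _ : Fin n => (Subalgebra.toSubmodule (integralClosure O K)))) (φ : ↥M ≃ₗ[O] ↥N) : ∃ A : Matrix (Fin n) (Fin n) ↥(integralClosure O K), IsUnit A ∧ ∀ x : ↥M, ((φ x : ↥N) : Fin n → K) = (A.map (algebraMap ↥(integralClosure O K) K)).mulVec (x : Fin n → K) := by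
  classical
  obtain ⟨A, hA⟩ := lattice_matrix hM1 hN2 φ.toLinearMap
  obtain ⟨B, hB⟩ := lattice_matrix hN1 hM2 φ.symm.toLinearMap
  refine ⟨A, ⟨⟨A, B, ?_, ?_⟩, rfl⟩, hA⟩
  all_goals
    refine Matrix.map_injective (FaithfulSMul.algebraMap_injective ↥(integralClosure O K) K) ?_
    dsimp only
    rw [Matrix.map_mul, Matrix.map_one _ (map_zero _) (map_one _)]
    refine Matrix.ext_of_mulVec_single fun j => ?_
    rw [← Matrix.mulVec_mulVec, Matrix.one_mulVec]
  · have hm : (Pi.single j (1 : K) : Fin n → K) ∈ N := hN1 fun i _ => by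
      rcases eq_or_ne i j with rfl | h
      · rw [Pi.single_eq_same]; exact Submodule.mem_one.2 ⟨1, map_one _⟩
      · rw [Pi.single_eq_of_ne h]; exact zero_mem _
    have h2 := hB ⟨_, hm⟩
    have h3 := hA (φ.symm ⟨_, hm⟩)
    simp only [LinearEquiv.coe_coe, LinearEquiv.apply_symm_apply] at h2 h3
    rw [← h2, ← h3]
  · have hm : (Pi.single j (1 : K) : Fin n → K) ∈ M := hM1 fun i _ => by
      rcases eq_or_ne i j with rfl | h
      · rw [Pi.single_eq_same]; exact Submodule.mem_one.2 ⟨1, map_one _⟩
      · rw [Pi.single_eq_of_ne h]; exact zero_mem _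
    have h2 := hA ⟨_, hm⟩
    have h3 := hB (φ ⟨_, hm⟩)
    simp only [LinearEquiv.coe_coe, LinearEquiv.symm_apply_apply] at h2 h3
    rw [← h2, ← h3]

end Groth.Agent.S15010
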