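import Groth.Statements.S15011
import Groth.Agent.Lib.CurveRing.Multiplicity

set_option autoImplicit false
universe u
open TFCurv

namespace Groth.Agent.S15011

/-- Let O be a one-dimensional Noetherian local domain with maximal ideal m and algebraically closed
residue field, whose integral closure O~ in its fraction field K is a finite O-module; put e =
length(O~/m O~), the multiplicity of O. Then a finitely generated torsion-free O-module of rank n
can be generated by at most n·e elements. -/
theorem result (O : Type u) [CommRing O] [IsDomain O] [IsNoetherianRing O] [IsLocalRing O] (hdim : ringKrullDim O = 1) [IsAlgClosed (IsLocalRing.ResidueField O)] (K : Type u) [Field K] [Algebra O K] [IsFractionRing O K] (hfin : Module.Finite O ↥(integralClosure O K)) (M : Type u) [AddCommGroup M] [Module O M] [Module.Finite O M] [NoZeroSMulDivisors O M] (n : ℕ) (hn : Module.finrank K (TensorProduct O K M) = n) : ((⊤ : Submodule O M).spanFinrank : ℕ∞) ≤ (n : ℕ∞) * Module.length O (↥(integralClosure O K) ⧸ (IsLocalRing.maximalIdeal O) • (⊤ : Submodule O ↥(integralClosure O K))) := by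
  have : Module.IsTorsionFree O M := inferInstance
  exact GrothLib.CurveRing.spanFinrank_le hdim M
    (by rw [← GrothLib.CurveRing.finrank_tensor_eq (K := K), hn])

end Groth.Agent.S15011
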