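import Groth.Statements.S15035
import Groth.Agent.Lib.TFCurv11.Lattice
import Groth.Agent.Lib.GorDimOne.Extend
import Groth.Agent.Lib.GorDimOne.Reduced
import Groth.Agent.Lib.Gor.Localization
import Mathlib.RingTheory.Flat.Localization
import Mathlib.LinearAlgebra.Dimension.Constructions

set_option autoImplicit false
universe u
open TFCurv

namespace Groth.Agent.S15035

set_option backward.isDefEq.respectTransparency false


/-- Let O be a one-dimensional Gorenstein local domain with algebraically closed residue field whose
integral closure O~ in its fraction field K is a finite O-module, and C ⊆ O the conductor of O in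
O~. Then every finitely generated torsion-free O-module of rank n is isomorphic to an O-submodule
M'' of K^n with C^n ⊆ M'' ⊆ O^n. (For a general O the published statement places M'' between (O~*)^n
and ω^n for the canonical ideal ω; only the Gorenstein case ω = O, O~* = C is stated.) -/
theorem result (O : Type u) [CommRing O] [IsDomain O] [LocCoh.IsGorensteinLocalRing O] (hdim : ringKrullDim O = 1) [IsAlgClosed (IsLocalRing.ResidueField O)] (K : Type u) [Field K] [Algebra O K] [IsFractionRing O K] (hfin : Module.Finite O ↥(integralClosure O K)) (M : Type u) [AddCommGroup M] [Module O M] [Module.Finite O M] [NoZeroSMulDivisors O M] (n : ℕ) (hn : Module.finrank K (TensorProduct O K M) = n) : ∃ M'' : Submodule O (Fin n → K), Submodule.pi Set.univ (fun _ : Fin n => (((1 : Submodule O K).colon (Subalgebra.toSubmodule (integralClosure O K))) • (1 : Submodule O K))) ≤ M'' ∧ M'' ≤ Submodule.pi Set.univ (fun _ : Fin n => (1 : Submodule O K)) ∧ Nonempty (M ≃ₗ[O] ↥M'') := by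
  classical
  haveI : LocCoh.IsGorensteinRing O :=
    { isGorensteinLocalRing_localization := fun p _ => GrothLib.Gor.isGorensteinLocalRing_localization p
        (LocCoh.IsGorensteinLocalRing.exists_hasInjectiveDimensionLT (A := O)).choose_spec }
  set R := integralClosure O K
  let ev : Function.Injective (Module.Dual.eval O M) := GrothLib.GorDimOne.eval_injective_of_nzd fun s hs m h =>
    (smul_eq_zero.1 h).resolve_left (nonZeroDivisors.ne_zero hs)
  haveI : Module.IsReflexive O M := GrothLib.GorDimOne.isReflexive_of_injective_eval hdim.le M ev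
  obtain ⟨ι, e, hι, he, hR⟩ := GrothLib.TFCurv11.exists_embedding O K hdim hfin M n hn
  let N := Module.Dual O M
  haveI : NoZeroSMulDivisors O N := ⟨fun {c φ} h => by
    by_cases hc : c = 0
    · exact Or.inl hc
    · exact Or.inr (LinearMap.ext fun m => (smul_eq_zero.1 (LinearMap.congr_fun h m)).resolve_left hc)⟩
  -- clear denominators
  obtain ⟨G, hG⟩ := ‹Module.Finite O M›.fg_top
  obtain ⟨d, hd⟩ := IsLocalization.exist_integer_multiples_of_finite (nonZeroDivisors O) (S := K)
    (fun q : G × Fin n => ι q.1 q.2)
  have hdm : ∀ m i, ∃ a : O, algebraMap O K a = (d : O) • ι m i := by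
    intro m i
    have hm : m ∈ Submodule.span O (G : Set M) := hG ▸ Submodule.mem_top
    induction hm using Submodule.span_induction with
    | mem x hx => exact hd (⟨x, hx⟩, i)
    | zero => exact ⟨0, by simp⟩
    | add x y _ _ hx hy =>
      obtain ⟨a, ha⟩ := hx
      obtain ⟨b, hb⟩ := hy
      exact ⟨a + b, by rw [map_add, ha, hb, map_add, Pi.add_apply, smul_add]⟩
    | smul r x _ hx =>
      obtain ⟨a, ha⟩ := hx
      exact ⟨r * a, by rw [map_mul, ha, ← Algebra.smul_def, map_smul, Pi.smul_apply, smul_comm]⟩
  choose a ha using hdm
  have hd0 : (d : O) ≠ 0 := nonZeroDivisors.coe_ne_zero d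
  have hinj : Function.Injective (algebraMap O K) := IsFractionRing.injective O K
  have hae : ∀ i j, a (e i) j = if j = i then (d : O) else 0 := fun i j => hinj (by
    rw [ha, he, Pi.single_apply, Algebra.smul_def]
    split_ifs <;> simp)
  let α : M →ₗ[O] (Fin n → O) :=
    { toFun := a
      map_add' := fun x y => funext fun i => hinj (by
        rw [Pi.add_apply, map_add, ha, ha, ha, map_add, Pi.add_apply, smul_add])
      map_smul' := fun r x => funext fun i => hinj (by
        rw [RingHom.id_apply, Pi.smul_apply, smul_eq_mul, map_mul, ha, ha, ← Algebra.smul_def, map_smul,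
          Pi.smul_apply, smul_comm]) }
  have hdec : ∀ m, (d : O) • m = ∑ i, a m i • e i := fun m => hι (by
    simp only [map_smul, map_sum, he]
    funext l
    simp [Finset.sum_apply, Pi.single_apply, Algebra.smul_def, ha])
  let β : N →ₗ[O] (Fin n → O) := LinearMap.pi fun i => (LinearMap.applyₗ (e i) : N →ₗ[O] O)
  have hβ : Function.Injective β := by
    rw [injective_iff_map_eq_zero]
    intro θ hθ
    refine LinearMap.ext fun m => ?_
    have h1 : θ ((d : O) • m) = 0 := by
      rw [hdec, map_sum]
      refine Finset.sum_eq_zero fun i _ => ?_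
      rw [map_smul, show θ (e i) = 0 from congrFun hθ i, smul_zero]
    rw [map_smul] at h1
    exact (smul_eq_zero.1 h1).resolve_left hd0
  let γ : (Fin n → O) →ₗ[O] N :=
    ∑ i, (LinearMap.proj i : (Fin n → O) →ₗ[O] O).smulRight ((LinearMap.proj i : (Fin n → O) →ₗ[O] O).comp α : N)
  have hγ : Function.Injective γ := by
    rw [injective_iff_map_eq_zero]
    intro c hc
    funext i
    have h1 := LinearMap.congr_fun hc (e i)
    simp [N, γ, α, LinearMap.sum_apply, hae, Finset.sum_ite_eq', hd0] at h1
    exact h1
  have hrank : Module.finrank K (TensorProduct O K N) = n := by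
    haveI : Module.Flat O K := IsLocalization.flat K (nonZeroDivisors O)
    have h1 : Function.Injective (β.baseChange K) := Module.Flat.lTensor_preserves_injective_linearMap β hβ
    have h2 : Function.Injective (γ.baseChange K) := Module.Flat.lTensor_preserves_injective_linearMap γ hγ
    have h3 := LinearMap.finrank_le_finrank_of_injective h1
    have h4 := LinearMap.finrank_le_finrank_of_injective h2
    have h5 : Module.finrank K (TensorProduct O K (Fin n → O)) = n := by
      rw [Module.finrank_baseChange, Module.finrank_fin_fun]
    rw [h5] at h3 h4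
    omega
  obtain ⟨ι', e', hι', he', hR'⟩ := GrothLib.TFCurv11.exists_embedding O K hdim hfin N n hrank
  let δ : Module.Dual O N →ₗ[O] (Fin n → K) :=
    LinearMap.pi fun i => (Algebra.linearMap O K).comp (LinearMap.applyₗ (e' i) : Module.Dual O N →ₗ[O] O)
  have hδ : Function.Injective δ := by
    rw [injective_iff_map_eq_zero]
    intro θ hθ
    refine LinearMap.ext fun x => ?_
    obtain ⟨s, hs⟩ := IsLocalization.exist_integer_multiples_of_finite (nonZeroDivisors O) (S := K) (ι' x)
    choose b hb using hs
    have h1 : (s : O) • x = ∑ i, b i • e' i := hι' (by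
      simp only [map_smul, map_sum, he']
      funext l
      simp [Finset.sum_apply, Pi.single_apply, Algebra.smul_def, hb])
    have h2 : (s : O) • θ x = 0 := by
      rw [← map_smul, h1, map_sum]
      refine Finset.sum_eq_zero fun i _ => ?_
      rw [map_smul, show θ (e' i) = 0 from hinj ((congrFun hθ i).trans (map_zero _).symm), smul_zero]
    exact (smul_eq_zero.1 h2).resolve_left (nonZeroDivisors.coe_ne_zero s)
  refine ⟨LinearMap.range δ, fun x hx => ?_, ?_, ⟨(Module.evalEquiv O M).trans (LinearEquiv.ofInjective δ hδ)⟩⟩
  · have hmem : ∀ i, ∃ c : O, algebraMap O K c = x i ∧ ∀ r ∈ Subalgebra.toSubmodule R, c • r ∈ (1 : Submodule O K) := by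
      intro i
      refine Submodule.smul_induction_on (hx i (Set.mem_univ i)) (fun c hc y hy => ?_) (fun y y' hy hy' => ?_)
      · obtain ⟨b, rfl⟩ := Submodule.mem_one.1 hy
        refine ⟨c * b, by rw [map_mul, Algebra.smul_def], fun r hr => ?_⟩
        rw [mul_smul, smul_comm]
        exact Submodule.smul_mem _ _ (Submodule.mem_colon.1 hc r hr)
      · obtain ⟨c, rfl, hc⟩ := hy
        obtain ⟨c', rfl, hc'⟩ := hy'
        exact ⟨c + c', map_add _ _ _, fun r hr => by rw [add_smul]; exact add_mem (hc r hr) (hc' r hr)⟩
    choose c hcx hc using hmem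
    have hval : ∀ (y : N) i, ∃ b : O, algebraMap O K b = c i • ι' y i := fun y i => Submodule.mem_one.1 (hc i _ (hR' y i))
    choose b hb using hval
    let θ : Module.Dual O N :=
      { toFun := fun y => ∑ i, b y i
        map_add' := fun y z => hinj (by
          simp only [map_add, map_sum, hb, Pi.add_apply, smul_add, Finset.sum_add_distrib])
        map_smul' := fun r y => hinj (by
          simp only [map_smul, map_sum, hb, Pi.smul_apply, RingHom.id_apply, smul_eq_mul, map_mul, Finset.mul_sum]
          exact Finset.sum_congr rfl fun i _ => by simp only [Algebra.smul_def]; ring) }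
    refine ⟨θ, funext fun l => ?_⟩
    show algebraMap O K (∑ i, b (e' l) i) = x l
    simp [map_sum, hb, he', Pi.single_apply, Algebra.smul_def, hcx]
  · rintro _ ⟨θ, rfl⟩ i _
    exact Submodule.mem_one.2 ⟨θ (e' i), rfl⟩

end Groth.Agent.S15035
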