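import Groth.Statements.S15012
import Groth.Agent.S15035
import Groth.Agent.Lib.TFCurv11.Lattice
import Groth.Agent.Lib.TFCurv11.LatticeDual

set_option autoImplicit false
universe u
open TFCurv

namespace Groth.Agent.S15012


section aux

variable {O : Type u} [CommRing O] {F : Type*} [AddCommGroup F] [Module O F]

/-- length of a subquotient -/
noncomputable def len (A B : Submodule O F) : ℕ∞ := Module.length O (↥B ⧸ A.comap B.subtype)

lemma len_trans {A B C : Submodule O F} (hAB : A ≤ B) (hBC : B ≤ C) : len A C = len A B + len B C := by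
  refine Module.length_eq_add_of_exact (Submodule.mapQ _ _ (Submodule.inclusion hBC) fun a ha => ha)
    (Submodule.factor (Submodule.comap_mono hAB)) ?_ ?_ ?_
  · rw [injective_iff_map_eq_zero]
    intro q hq
    obtain ⟨w, rfl⟩ := Submodule.Quotient.mk_surjective _ q
    rw [Submodule.mapQ_apply, Submodule.Quotient.mk_eq_zero] at hq
    exact (Submodule.Quotient.mk_eq_zero _).2 hq
  · intro q
    obtain ⟨w, rfl⟩ := Submodule.Quotient.mk_surjective _ q
    exact ⟨Submodule.Quotient.mk w, rfl⟩
  · intro q
    obtain ⟨w, rfl⟩ := Submodule.Quotient.mk_surjective _ q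
    constructor
    · intro hw
      have hw' : (w : F) ∈ B := (Submodule.Quotient.mk_eq_zero (B.comap C.subtype)).1 hw
      exact ⟨Submodule.Quotient.mk ⟨w.1, hw'⟩, rfl⟩
    · rintro ⟨q', hq'⟩
      obtain ⟨z, rfl⟩ := Submodule.Quotient.mk_surjective _ q'
      rw [← hq']
      exact (Submodule.Quotient.mk_eq_zero _).2 z.2

lemma len_map {F' : Type*} [AddCommGroup F'] [Module O F'] (f : F →ₗ[O] F') (hf : Function.Injective f)
    (A B : Submodule O F) : len (A.map f) (B.map f) = len A B := by
  refine (LinearEquiv.length_eq (Submodule.Quotient.equiv _ _ (Submodule.equivMapOfInjective f hf B) ?_)).symm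
  ext y
  constructor
  · rintro ⟨x, hx, rfl⟩
    exact ⟨x.1, hx, rfl⟩
  · rintro ⟨x, hx, hxy⟩
    obtain ⟨z, hz, hzy⟩ := y.2
    obtain rfl : x = z := hf (hxy.trans hzy.symm)
    exact ⟨⟨x, hz⟩, hx, Subtype.ext hxy⟩

lemma len_top (A : Submodule O F) : len A ⊤ = Module.length O (F ⧸ A) := by
  refine LinearEquiv.length_eq (Submodule.Quotient.equiv _ _ Submodule.topEquiv ?_)
  ext y
  exact ⟨fun ⟨x, hx, e⟩ => e ▸ hx, fun hy => ⟨⟨y, trivial⟩, hy, rfl⟩⟩

variable {R : Type u} [CommRing R] [Algebra O R]

/-- Intermediate submodules of every colength exist when simple modules have length one below. -/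
lemma exists_quot_length (hs : ∀ (X : Type u) [AddCommGroup X] [Module R X] [Module O X] [IsScalarTower O R X],
      IsSimpleModule R X → Module.length O X = 1)
    (Q : Type u) [AddCommGroup Q] [Module R Q] [Module O Q] [IsScalarTower O R Q]
    (E : ℕ) (hE : Module.length O Q = E) (j : ℕ) (hj : j ≤ E) :
    ∃ S : Submodule R Q, Module.length O (Q ⧸ S.restrictScalars O) = j := by
  induction hj using Nat.decreasingInduction with
  | self =>
    refine ⟨⊥, ?_⟩
    rw [← hE]
    exact LinearEquiv.length_eq (Submodule.quotEquivOfEqBot _ (Submodule.restrictScalars_bot O R Q))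
  | of_succ j hj ih =>
    obtain ⟨S, hS⟩ := ih
    have hfl : IsFiniteLength O (Q ⧸ S.restrictScalars O) :=
      Module.length_ne_top_iff.1 (by rw [hS]; exact ENat.natCast_ne_top _)
    obtain ⟨-, hart⟩ := isFiniteLength_iff_isNoetherian_isArtinian.1 hfl
    haveI : IsArtinian O (Q ⧸ S) := isArtinian_of_linearEquiv (Submodule.Quotient.restrictScalarsEquiv O S)
    haveI : IsArtinian R (Q ⧸ S) := isArtinian_of_tower O inferInstance
    haveI : Nontrivial (Q ⧸ S) := by
      by_contra h
      rw [not_nontrivial_iff_subsingleton] at h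
      have h0 := Module.length_eq_zero (R := O) (M := Q ⧸ S)
      rw [← LinearEquiv.length_eq (Submodule.Quotient.restrictScalarsEquiv O S), hS] at h0
      exact absurd h0 (by simp)
    obtain ⟨P, hP, -⟩ := (eq_bot_or_exists_atom_le (⊤ : Submodule R (Q ⧸ S))).resolve_left top_ne_bot
    haveI hPs : IsSimpleModule R P := isSimpleModule_iff_isAtom.2 hP
    refine ⟨P.comap S.mkQ, ?_⟩
    have hadd := Module.length_eq_add_of_exact (P.subtype.restrictScalars O) (P.mkQ.restrictScalars O)
      (Submodule.subtype_injective P) (Submodule.mkQ_surjective P) (LinearMap.exact_subtype_mkQ P)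
    rw [← LinearEquiv.length_eq (Submodule.Quotient.restrictScalarsEquiv O S), hS, hs P hPs] at hadd
    have hsur : Function.Surjective ((P.mkQ.comp S.mkQ).restrictScalars O) :=
      (Submodule.mkQ_surjective P).comp (Submodule.mkQ_surjective S)
    have hker : LinearMap.ker ((P.mkQ.comp S.mkQ).restrictScalars O) = (P.comap S.mkQ).restrictScalars O := by
      ext x; simp
    have he := LinearEquiv.length_eq ((Submodule.quotEquivOfEq _ _ hker.symm).trans
      (LinearMap.quotKerEquivOfSurjective _ hsur))
    rw [he]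
    have h2 : (1 : ℕ∞) + Module.length O ((Q ⧸ S) ⧸ P) = 1 + (j : ℕ∞) := by
      rw [← hadd]; push_cast; rw [add_comm]
    exact (ENat.add_left_injective_of_ne_top ENat.one_ne_top) (by simpa [add_comm] using h2)

end aux


/-- Let O be a one-dimensional Gorenstein local domain with algebraically closed residue field whose
integral closure O~ in its fraction field K is a finite O-module, and let C ⊆ O be the conductor of
O in O~. Every finitely generated torsion-free O-module of rank n is isomorphic to an O-submodule M'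
of K^n with C^n ⊆ M' ⊆ O~^n and length(M'/C^n) = n · length(O/C); that is, every isomorphism class
of rank-n torsion-free modules is represented by a submodule of (O~/C)^n of the same length as
(O/C)^n. -/
theorem result (O : Type u) [CommRing O] [IsDomain O] [LocCoh.IsGorensteinLocalRing O] (hdim : ringKrullDim O = 1) [IsAlgClosed (IsLocalRing.ResidueField O)] (K : Type u) [Field K] [Algebra O K] [IsFractionRing O K] (hfin : Module.Finite O ↥(integralClosure O K)) (M : Type u) [AddCommGroup M] [Module O M] [Module.Finite O M] [NoZeroSMulDivisors O M] (n : ℕ) (hn : Module.finrank K (TensorProduct O K M) = n) : ∃ M' : Submodule O (Fin n → K), Submodule.pi Set.univ (fun _ : Fin n => (((1 : Submodule O K).colon (Subalgebra.toSubmodule (integralClosure O K))) • (1 : Submodule O K))) ≤ M' ∧ M' ≤ Submodule.pi Set.univ (fun _ : Fin n => (Subalgebra.toSubmodule (integralClosure O K))) ∧ Nonempty (M ≃ₗ[O] ↥M') ∧ Module.length O (↥M' ⧸ Submodule.comap M'.subtype (Submodule.pi Set.univ (fun _ : Fin n => (((1 : Submodule O K).colon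 (Subalgebra.toSubmodule (integralClosure O K))) • (1 : Submodule O K))))) = (n : ℕ∞) * Module.length O (O ⧸ ((1 : Submodule O K).colon (Subalgebra.toSubmodule (integralClosure O K)))) := by
  classical
  obtain ⟨ι₁, e, hι₁, he, hR⟩ := GrothLib.TFCurv11.exists_embedding O K hdim hfin M n hn
  obtain ⟨M2, hC2, hO2, ⟨φ₁⟩⟩ := Groth.Agent.S15035.result O hdim K hfin M n hn
  haveI := hfin
  let R := integralClosure O K
  haveI : Ring.KrullDimLE 1 O := Ring.krullDimLE_iff.mpr hdim.le
  haveI hPID : IsPrincipalIdealRing R := GrothLib.TFCurv11.isPrincipalIdealRing_integralClosure O K hdim hfin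
  haveI : IsFractionRing R K := integralClosure.isFractionRing_of_finite_extension K K
  let C : Ideal O := (1 : Submodule O K).colon (Subalgebra.toSubmodule (integralClosure O K))
  let F := Fin n → R
  let jK : F →ₗ[O] (Fin n → K) := LinearMap.pi fun i => (R.val.toLinearMap).comp (LinearMap.proj i)
  have hjK : Function.Injective jK := fun x y h => funext fun i => Subtype.ext (congrFun h i)
  have hinjO : Function.Injective (algebraMap O K) := IsFractionRing.injective O K
  -- the conductor, as an ideal of the normalization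
  have hCmem : ∀ a : O, a ∈ C ↔ ∀ r : R, ∃ b : O, algebraMap O K b = algebraMap O K a * (r : K) := by
    intro a
    rw [Submodule.mem_colon]
    exact ⟨fun h r => by obtain ⟨b, hb⟩ := Submodule.mem_one.1 (h r r.2); exact ⟨b, hb.trans (Algebra.smul_def _ _)⟩,
      fun h r hr => by obtain ⟨b, hb⟩ := h ⟨r, hr⟩; exact Submodule.mem_one.2 ⟨b, hb.trans (Algebra.smul_def _ _).symm⟩⟩
  let J : Ideal R :=
    { carrier := {r | ∃ a ∈ C, algebraMap O K a = (r : K)}
      add_mem' := by
        rintro x y ⟨a, ha, hax⟩ ⟨b, hb, hby⟩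
        exact ⟨a + b, add_mem ha hb, by rw [map_add, hax, hby]; rfl⟩
      zero_mem' := ⟨0, zero_mem _, by simp⟩
      smul_mem' := by
        rintro r x ⟨a, ha, hax⟩
        obtain ⟨b, hb⟩ := (hCmem a).1 ha r
        refine ⟨b, (hCmem b).2 fun r' => ?_, ?_⟩
        · obtain ⟨b', hb'⟩ := (hCmem a).1 ha (r * r')
          exact ⟨b', by rw [hb', hb, mul_assoc]; rfl⟩
        · rw [hb, hax, mul_comm]; rfl }
  obtain ⟨a₀, ha₀C, ha₀⟩ : ∃ a ∈ C, a ≠ 0 := by
    obtain ⟨G, hG⟩ := (Module.Finite.iff_fg.1 hfin : (Subalgebra.toSubmodule (integralClosure O K)).FG)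
    obtain ⟨d, hd⟩ := IsLocalization.exist_integer_multiples (nonZeroDivisors O) G (fun x : K => x)
    refine ⟨(d : O), Submodule.mem_colon.2 fun r hr => ?_, nonZeroDivisors.coe_ne_zero d⟩
    rw [← hG] at hr
    induction hr using Submodule.span_induction with
    | mem x hx => obtain ⟨b, hb⟩ := hd x hx; exact Submodule.mem_one.2 ⟨b, hb⟩
    | zero => rw [smul_zero]; exact zero_mem _
    | add x y _ _ hx hy => rw [smul_add]; exact add_mem hx hy
    | smul r x _ hx => rw [smul_comm]; exact Submodule.smul_mem _ _ hx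
  let Cn : Submodule O F := Submodule.pi Set.univ fun _ => J.restrictScalars O
  have hCnK : Cn.map jK = Submodule.pi Set.univ (fun _ : Fin n => C • (1 : Submodule O K)) := by
    have h1 : ∀ x : K, x ∈ C • (1 : Submodule O K) ↔ ∃ a ∈ C, algebraMap O K a = x := by
      intro x
      refine ⟨fun hx => ?_, ?_⟩
      · refine Submodule.smul_induction_on hx (fun a ha y hy => ?_) (fun y z hy hz => ?_)
        · obtain ⟨b, rfl⟩ := Submodule.mem_one.1 hy
          exact ⟨a * b, C.mul_mem_right _ ha, by rw [map_mul, Algebra.smul_def]⟩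
        · obtain ⟨a, ha, rfl⟩ := hy
          obtain ⟨b, hb, rfl⟩ := hz
          exact ⟨a + b, add_mem ha hb, map_add _ _ _⟩
      · rintro ⟨a, ha, rfl⟩
        rw [Algebra.algebraMap_eq_smul_one]
        exact Submodule.smul_mem_smul ha (Submodule.mem_one.2 ⟨1, map_one _⟩)
    ext x
    constructor
    · rintro ⟨y, hy, rfl⟩ i hi
      exact (h1 _).2 (hy i hi)
    · intro hx
      choose a ha hax using fun i => (h1 _).1 (hx i (Set.mem_univ i))
      exact ⟨fun i => algebraMap O R (a i), fun i _ => ⟨a i, ha i, rfl⟩, funext fun i => hax i⟩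
  let On : Submodule O F := LinearMap.range ((Algebra.linearMap O R).compLeft (Fin n))
  have hCnOn : Cn ≤ On := by
    intro x hx
    choose a ha hax using fun i => hx i (Set.mem_univ i)
    exact ⟨a, funext fun i => Subtype.ext (hax i)⟩
  -- the two embeddings of `M`
  let ι : M →ₗ[O] F := LinearMap.pi fun i =>
    LinearMap.codRestrict (Subalgebra.toSubmodule R) ((LinearMap.proj i).comp ι₁) fun m => hR m i
  have hι : ∀ m, jK (ι m) = ι₁ m := fun m => rfl
  have hιi : Function.Injective ι := fun x y h => hι₁ (by rw [← hι, ← hι, h])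
  have hιe : ∀ i, ι (e i) = Pi.single i 1 := fun i => hjK (by
    rw [hι, he]; funext l
    show (Pi.single i (1 : K) : Fin n → K) l = (((Pi.single i (1 : R) : F) l : R) : K)
    by_cases h : l = i <;> simp [Pi.single_apply, h])
  have hsum : ∀ a : Fin n → O, ι (∑ i, a i • e i) = fun i => algebraMap O R (a i) := fun a => by
    funext l
    rw [map_sum]
    refine (Finset.sum_apply (M := fun _ : Fin n => R) l Finset.univ _).trans ?_
    rw [Finset.sum_eq_single l]
    · rw [map_smul, hιe]
      show a l • (Pi.single l (1 : R) : Fin n → R) l = _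
      rw [Pi.single_eq_same]
      exact (Algebra.algebraMap_eq_smul_one (A := R) (a l)).symm
    · intro b _ hb
      rw [map_smul, hιe]
      show a b • (Pi.single b (1 : R) : Fin n → R) l = 0
      rw [Pi.single_eq_of_ne hb.symm, smul_zero]
    · intro h; exact absurd (Finset.mem_univ _) h
  have hphi : ∀ m i, ∃ a : O, algebraMap O K a = (φ₁ m : Fin n → K) i := fun m i =>
    Submodule.mem_one.1 (hO2 (φ₁ m).2 i (Set.mem_univ i))
  choose aφ haφ using hphi
  let φ : M →ₗ[O] F := LinearMap.pi fun i =>
    { toFun := fun m => algebraMap O R (aφ m i)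
      map_add' := fun x y => by
        rw [← map_add]; congr 1; apply hinjO; rw [map_add, haφ, haφ, haφ, map_add]; rfl
      map_smul' := fun c x => by
        rw [RingHom.id_apply, Algebra.smul_def, ← map_mul]; congr 1; apply hinjO
        rw [map_mul, haφ, haφ, map_smul, ← Algebra.smul_def]; rfl }
  have hφ : ∀ m, jK (φ m) = (φ₁ m : Fin n → K) := fun m => funext fun i => haφ m i
  have hφi : Function.Injective φ := fun x y h => φ₁.injective (Subtype.ext (by rw [← hφ, ← hφ, h]))
  have hιC : Cn ≤ LinearMap.range ι := by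
    intro x hx
    choose a ha hax using fun i => hx i (Set.mem_univ i)
    exact ⟨∑ i, a i • e i, (hsum a).trans (funext fun i => Subtype.ext (hax i))⟩
  have hφC : Cn ≤ LinearMap.range φ := by
    intro x hx
    have : jK x ∈ M2 := hC2 (hCnK ▸ Submodule.mem_map_of_mem hx)
    exact ⟨φ₁.symm ⟨_, this⟩, hjK (by rw [hφ, LinearEquiv.apply_symm_apply])⟩
  have hφO : LinearMap.range φ ≤ On := by
    rintro _ ⟨m, rfl⟩; exact ⟨fun i => aφ m i, rfl⟩
  have hιO : On ≤ LinearMap.range ι := by
    rintro _ ⟨a, rfl⟩
    exact ⟨∑ i, a i • e i, hsum a⟩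
  -- the change of lattice
  let T : F →ₗ[R] F := Fintype.linearCombination R fun i => φ (e i)
  have hden : ∀ x : F, ∃ s : O, s ≠ 0 ∧ ∃ m, ι m = s • x := by
    intro x
    obtain ⟨s, hs⟩ := IsLocalization.exist_integer_multiples_of_finite (nonZeroDivisors O) (S := K) (jK x)
    choose a ha using hs
    exact ⟨s, nonZeroDivisors.coe_ne_zero s, hιO ⟨a, funext fun i => Subtype.ext (ha i)⟩⟩
  haveI : Module.IsTorsionFree O R := Function.Injective.moduleIsTorsionFree R.val.toLinearMap Subtype.val_injective
    (fun c x => rfl)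
  have hTι : ∀ m, T (ι m) = φ m := by
    intro m
    obtain ⟨s, hs⟩ := IsLocalization.exist_integer_multiples_of_finite (nonZeroDivisors O) (S := K) (ι₁ m)
    choose a ha using hs
    have hm : (s : O) • m = ∑ i, a i • e i := hι₁ (by
      rw [map_smul, map_sum]
      funext l
      simp [map_smul, he, Finset.sum_apply, Pi.single_apply, Algebra.smul_def, ha])
    have h1 : ((T.restrictScalars O).comp ι) ((s : O) • m) = φ ((s : O) • m) := by
      rw [hm, map_sum, map_sum]
      refine Finset.sum_congr rfl fun i _ => ?_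
      rw [map_smul, map_smul]
      congr 1
      show T (ι (e i)) = _
      rw [hιe]
      exact (Fintype.linearCombination_apply_single R _ i (1 : R)).trans (one_smul R _)
    rw [map_smul, map_smul] at h1
    exact smul_right_injective F (nonZeroDivisors.coe_ne_zero s) h1
  have hTi : Function.Injective T := by
    rw [injective_iff_map_eq_zero]
    intro x hx
    obtain ⟨s, hs, m, hm⟩ := hden x
    have h1 : φ m = 0 := by
      rw [← hTι, hm, LinearMap.map_smul_of_tower, hx, smul_zero]
    rw [← map_zero φ] at h1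
    rw [hφi h1, map_zero] at hm
    exact (smul_eq_zero.1 hm.symm).resolve_left hs
  -- lengths
  have hfinF : Module.length O (F ⧸ Cn) ≠ ⊤ := Module.length_ne_top_iff.2
    (GrothLib.DimOneLen.isFiniteLength_of_smul_eq_zero ha₀ fun q => by
      obtain ⟨x, rfl⟩ := Submodule.Quotient.mk_surjective _ q
      refine (Submodule.Quotient.mk_eq_zero _).2 fun i _ => ?_
      have h := J.mul_mem_left (x i) (show algebraMap O R a₀ ∈ J from ⟨a₀, ha₀C, rfl⟩)
      rw [mul_comm, ← Algebra.smul_def] at h
      exact h)
  obtain ⟨cJ, hcJ⟩ := (hPID.principal J).principal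
  have hcJ0 : cJ ≠ 0 := by
    intro h0
    have h1 : algebraMap O R a₀ ∈ J := ⟨a₀, ha₀C, rfl⟩
    rw [hcJ, h0, Submodule.span_singleton_eq_bot.2 rfl, Submodule.mem_bot] at h1
    exact ha₀ (hinjO (by rw [map_zero]; exact congrArg Subtype.val h1))
  let μ : F →ₗ[O] F := (LinearMap.lsmul R F cJ).restrictScalars O
  have hμi : Function.Injective μ := smul_right_injective F hcJ0
  have hμ : (⊤ : Submodule O F).map μ = Cn := by
    ext x
    constructor
    · rintro ⟨y, -, rfl⟩ i _
      show cJ * y i ∈ J
      rw [hcJ]; exact Ideal.mul_mem_right _ _ (Submodule.mem_span_singleton_self cJ)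
    · intro hx
      choose y hy using fun i => Submodule.mem_span_singleton.1 (hcJ ▸ (hx i (Set.mem_univ i) : x i ∈ J))
      exact ⟨y, trivial, funext fun i => by rw [← hy]; exact mul_comm _ _⟩
  have hG : ∀ G : F →ₗ[R] F, Function.Injective G →
      Cn.map (G.restrictScalars O) ≤ Cn ∧
      len (Cn.map (G.restrictScalars O)) Cn = Module.length O (F ⧸ (LinearMap.range G).restrictScalars O) := by
    intro G _
    have h2 : Cn.map (G.restrictScalars O) = ((LinearMap.range G).restrictScalars O).map μ := by
      rw [← hμ, ← Submodule.map_comp]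
      ext x
      constructor
      · rintro ⟨y, -, rfl⟩
        exact ⟨G y, ⟨y, rfl⟩, (G.map_smul cJ y).symm⟩
      · rintro ⟨_, ⟨y, rfl⟩, rfl⟩
        exact ⟨y, trivial, G.map_smul cJ y⟩
    refine ⟨?_, ?_⟩
    · rw [h2, ← hμ]; exact Submodule.map_mono le_top
    · rw [h2, ← len_top, ← hμ, len_map μ hμi]
  have hOnlen : len Cn On = (n : ℕ∞) * Module.length O (O ⧸ C) := by
    let f : (Fin n → O) →ₗ[O] F := (Algebra.linearMap O R).compLeft (Fin n)
    have hf : Function.Injective f := fun x y h => funext fun i =>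
      hinjO (congrArg Subtype.val (congrFun h i))
    have h1 : (Submodule.pi Set.univ fun _ : Fin n => C).map f = Cn := by
      ext x
      constructor
      · rintro ⟨a, ha, rfl⟩ i hi
        exact ⟨a i, ha i hi, rfl⟩
      · intro hx
        choose a ha hax using fun i => hx i (Set.mem_univ i)
        exact ⟨a, fun i _ => ha i, funext fun i => Subtype.ext (hax i)⟩
    rw [show On = (⊤ : Submodule O (Fin n → O)).map f from (Submodule.map_top f).symm, ← h1, len_map f hf, len_top,
      LinearEquiv.length_eq (Submodule.quotientPi fun _ : Fin n => C), Module.length_pi_of_fintype]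
    simp
  have hX : len Cn (LinearMap.range ι) = len (Cn.map (T.restrictScalars O)) Cn + len Cn (LinearMap.range φ) := by
    rw [← len_trans (hG T hTi).1 hφC, ← len_map (T.restrictScalars O) hTi]
    congr 1
    rw [← LinearMap.range_comp]
    exact congrArg LinearMap.range (LinearMap.ext hTι)
  obtain ⟨X₁, hX₁⟩ : ∃ X : ℕ, len Cn (LinearMap.range ι) = X := by
    refine ⟨_, (ENat.coe_toNat (ne_top_of_le_ne_top hfinF ?_)).symm⟩
    rw [← len_top, len_trans hιC le_top]
    exact le_self_add
  have hleX₁ : (n : ℕ∞) * Module.length O (O ⧸ C) ≤ X₁ := by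
    rw [← hX₁, ← hOnlen, len_trans hCnOn hιO]; exact le_self_add
  obtain ⟨nd, hnd⟩ : ∃ d : ℕ, (n : ℕ∞) * Module.length O (O ⧸ C) = d :=
    ⟨_, (ENat.coe_toNat (ne_top_of_le_ne_top (ENat.natCast_ne_top X₁) hleX₁)).symm⟩
  have hleX₂ : len Cn (LinearMap.range φ) ≤ nd := by
    rw [← hnd, ← hOnlen, len_trans hφC hφO]; exact le_self_add
  obtain ⟨X₂, hX₂⟩ : ∃ X : ℕ, len Cn (LinearMap.range φ) = X :=
    ⟨_, (ENat.coe_toNat (ne_top_of_le_ne_top (ENat.natCast_ne_top nd) hleX₂)).symm⟩
  rw [(hG T hTi).2, hX₁, hX₂] at hX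
  obtain ⟨E, hE⟩ : ∃ E : ℕ, Module.length O (F ⧸ (LinearMap.range T).restrictScalars O) = E := by
    refine ⟨_, (ENat.coe_toNat fun h => ?_).symm⟩
    rw [h, top_add] at hX
    exact ENat.natCast_ne_top _ hX
  rw [hE] at hX
  have hXn : X₁ = E + X₂ := by exact_mod_cast hX
  rw [hX₂, Nat.cast_le] at hleX₂
  rw [hnd, Nat.cast_le] at hleX₁
  -- simple modules over the normalization
  have hs : ∀ (X : Type u) [AddCommGroup X] [Module R X] [Module O X] [IsScalarTower O R X],
      IsSimpleModule R X → Module.length O X = 1 := by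
    intro X _ _ _ _ hsimp
    obtain ⟨P, hP, ⟨eP⟩⟩ := isSimpleModule_iff_quot_maximal.1 hsimp
    haveI : P.IsMaximal := hP
    letI : Field (R ⧸ P) := Ideal.Quotient.field P
    haveI : Algebra.IsIntegral O R := Algebra.IsIntegral.of_finite O R
    haveI hcomap : (P.comap (algebraMap O R)).IsMaximal := Ideal.isMaximal_comap_of_isIntegral_of_isMaximal P
    have hPm : IsLocalRing.maximalIdeal O ≤ P.comap (algebraMap O R) := (IsLocalRing.eq_maximalIdeal hcomap).ge
    have hsurj : Function.Surjective (algebraMap O (R ⧸ P)) := by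
      let g : IsLocalRing.ResidueField O →+* R ⧸ P :=
        Ideal.Quotient.lift (IsLocalRing.maximalIdeal O) (algebraMap O (R ⧸ P)) fun x hx =>
          Ideal.Quotient.eq_zero_iff_mem.2 (hPm hx)
      letI : Algebra (IsLocalRing.ResidueField O) (R ⧸ P) := g.toAlgebra
      haveI : IsScalarTower O (IsLocalRing.ResidueField O) (R ⧸ P) := IsScalarTower.of_algebraMap_eq fun x => rfl
      haveI : Module.Finite (IsLocalRing.ResidueField O) (R ⧸ P) :=
        Module.Finite.of_restrictScalars_finite O _ _
      intro z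
      obtain ⟨y, hy⟩ := (IsAlgClosed.algebraMap_bijective_of_isIntegral (k := IsLocalRing.ResidueField O) (K := R ⧸ P)).2 z
      obtain ⟨x, rfl⟩ := IsLocalRing.residue_surjective y
      exact ⟨x, hy⟩
    rw [LinearEquiv.length_eq (eP.restrictScalars O), Module.length_eq_one_iff]
    haveI : IsSimpleModule O (R ⧸ P) := by
      refine (isSimpleModule_iff_toSpanSingleton_surjective).2 ⟨inferInstance, fun x hx y => ?_⟩
      obtain ⟨r, hr⟩ := hsurj (y / x)
      exact ⟨r, by rw [LinearMap.toSpanSingleton_apply, Algebra.smul_def, hr, div_mul_cancel₀ _ hx]⟩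
    infer_instance
  haveI : Module.IsTorsionFree R F := inferInstance
  obtain ⟨S, hS⟩ := exists_quot_length (R := R) hs (F ⧸ LinearMap.range T) E
    (by rw [← hE]; exact (LinearEquiv.length_eq (Submodule.Quotient.restrictScalarsEquiv O (LinearMap.range T))).symm)
    (nd - X₂) (by omega)
  let Λ : Submodule R F := S.comap (LinearMap.range T).mkQ
  have hTΛ : LinearMap.range T ≤ Λ := fun x hx => by
    show (LinearMap.range T).mkQ x ∈ S
    rw [Submodule.mkQ_apply, (Submodule.Quotient.mk_eq_zero _).2 hx]; exact zero_mem _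
  haveI : IsNoetherianRing R := IsNoetherianRing.of_finite O R
  haveI : Module.Free R Λ := Module.free_of_finite_type_torsion_free'
  have hrk : Module.finrank R Λ = n := by
    have h1 := LinearMap.finrank_le_finrank_of_injective (f := Λ.subtype) (Submodule.subtype_injective Λ)
    have h2 := LinearMap.finrank_le_finrank_of_injective (f := T.codRestrict Λ fun x => hTΛ ⟨x, rfl⟩)
      (fun x y h => hTi (congrArg Subtype.val h))
    rw [show Module.finrank R F = n from Module.finrank_fin_fun R] at h1 h2
    omega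
  let b : Module.Basis (Fin n) R Λ := (Module.finBasis R Λ).reindex (finCongr hrk)
  let B : F →ₗ[R] F := Λ.subtype.comp b.equivFun.symm.toLinearMap
  have hBi : Function.Injective B := (Submodule.subtype_injective Λ).comp b.equivFun.symm.injective
  let U : F →ₗ[R] F := b.equivFun.toLinearMap.comp (T.codRestrict Λ fun x => hTΛ ⟨x, rfl⟩)
  have hBU : ∀ x, B (U x) = T x := fun x => by
    show ((b.equivFun.symm (b.equivFun (T.codRestrict Λ (fun x => hTΛ ⟨x, rfl⟩) x)) : Λ) : F) = T x
    rw [LinearEquiv.symm_apply_apply]; rfl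
  let ψ : M →ₗ[O] F := (U.restrictScalars O).comp ι
  have hψB : (B.restrictScalars O).comp ψ = φ := LinearMap.ext fun m => (hBU _).trans (hTι m)
  have hψi : Function.Injective ψ := fun x y h => hφi (by rw [← hψB]; exact congrArg B h)
  have hBψ : (LinearMap.range ψ).map (B.restrictScalars O) = LinearMap.range φ := by
    rw [← LinearMap.range_comp, hψB]
  have hψC : Cn ≤ LinearMap.range ψ := by
    intro x hx
    have h1 : B x ∈ LinearMap.range φ := hφC ((hG B hBi).1 (Submodule.mem_map_of_mem hx))
    rw [← hBψ] at h1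
    obtain ⟨y, hy, hyx⟩ := h1
    exact hBi hyx ▸ hy
  have hlen : len Cn (LinearMap.range ψ) = nd := by
    rw [← len_map (B.restrictScalars O) hBi, hBψ, len_trans (hG B hBi).1 hφC, (hG B hBi).2, hX₂]
    have hrB : LinearMap.range B = Λ := by
      rw [LinearMap.range_comp, LinearEquiv.range, Submodule.map_top, Submodule.range_subtype]
    have hq : Module.length O (F ⧸ (LinearMap.range B).restrictScalars O) = ((nd - X₂ : ℕ) : ℕ∞) := by
      rw [hrB, ← hS]
      have hsur : Function.Surjective ((S.mkQ.comp (LinearMap.range T).mkQ).restrictScalars O) :=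
        (Submodule.mkQ_surjective S).comp (Submodule.mkQ_surjective _)
      have hker : LinearMap.ker ((S.mkQ.comp (LinearMap.range T).mkQ).restrictScalars O) = Λ.restrictScalars O := by
        ext x; simp [Λ]
      exact LinearEquiv.length_eq (((Submodule.quotEquivOfEq _ _ hker.symm).trans
        (LinearMap.quotKerEquivOfSurjective _ hsur)).trans (Submodule.Quotient.restrictScalarsEquiv O S).symm)
    rw [hq, ← Nat.cast_add, Nat.sub_add_cancel hleX₂]
  refine ⟨(LinearMap.range ψ).map jK, ?_, ?_, ⟨(LinearEquiv.ofInjective ψ hψi).trans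
    (Submodule.equivMapOfInjective jK hjK _)⟩, ?_⟩
  · rw [← hCnK]; exact Submodule.map_mono hψC
  · rintro _ ⟨x, -, rfl⟩ i _; exact (x i).2
  · rw [← hCnK, hnd, ← hlen, ← len_map jK hjK]; rfl


end Groth.Agent.S15012
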