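import Groth.Statements.S15013
import Groth.Agent.Lib.Dim.Ring
import Mathlib

set_option autoImplicit false
universe u
open CategoryTheory
open TFCurv

namespace Groth.Agent.S15013

open CategoryTheory


/-- Let O be a one-dimensional Noetherian local domain with algebraically closed residue field whose
integral closure O~ in its fraction field K is a finite O-module, and let w be a canonical ideal of
O, taken here as a nonzero finitely generated O-submodule of K whose injective dimension as an
O-module is at most one. Then Ext^i_O(M, w) vanishes for all i ≥ 1 and every finitely generated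
torsion-free O-module M. -/
theorem result (O : Type u) [CommRing O] [IsDomain O] [IsNoetherianRing O] [IsLocalRing O] (hdim : ringKrullDim O = 1) [IsAlgClosed (IsLocalRing.ResidueField O)] (K : Type u) [Field K] [Algebra O K] [IsFractionRing O K] (hfin : Module.Finite O ↥(integralClosure O K)) (ω : Submodule O K) (hω0 : ω ≠ ⊥) (hωfg : ω.FG) (hωinj : HasInjectiveDimensionLT (ModuleCat.of O ↥ω) 2) (M : Type u) [AddCommGroup M] [Module O M] [Module.Finite O M] [NoZeroSMulDivisors O M] (i : ℕ) (hi : 1 ≤ i) : Subsingleton (Abelian.Ext (ModuleCat.of O M) (ModuleCat.of O ↥ω) i) := by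
  obtain ⟨ι, hι, f, hf⟩ := GrothLib.Dim.exists_injective_linearMap_pi (P := O) (M := M)
  haveI := hωinj
  rcases Nat.lt_or_ge i 2 with h | h
  · obtain rfl : i = 1 := by omega
    let S : ShortComplex (ModuleCat.{u} O) := ShortComplex.mk (ModuleCat.ofHom f)
      (ModuleCat.ofHom (LinearMap.range f).mkQ) (by ext x; simp)
    have hS : S.ShortExact :=
      { exact := (ShortComplex.moduleCat_exact_iff_range_eq_ker _).2 (by simp [S])
        mono_f := (ModuleCat.mono_iff_injective _).2 hf
        epi_g := (ModuleCat.epi_iff_surjective _).2 (Submodule.mkQ_surjective _) }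
    haveI : Projective S.X₂ := ModuleCat.projective_of_free (Module.Free.chooseBasis O (ι → O))
    refine ⟨fun a b => ?_⟩
    have hX3 : Subsingleton (Abelian.Ext S.X₃ (ModuleCat.of O ↥ω) 2) :=
      HasInjectiveDimensionLT.subsingleton _ 2 2 le_rfl _
    have key : ∀ x : Abelian.Ext S.X₁ (ModuleCat.of O ↥ω) 1, x = 0 := fun x => by
      obtain ⟨x₂, hx₂⟩ := Abelian.Ext.contravariant_sequence_exact₁ hS (ModuleCat.of O ↥ω) x (n₁ := 2) (by omega)
        (Subsingleton.elim _ _)
      rw [← hx₂, Abelian.Ext.eq_zero_of_projective x₂, Abelian.Ext.comp_zero]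
    exact (key a).trans (key b).symm
  · exact HasInjectiveDimensionLT.subsingleton _ 2 i h _

end Groth.Agent.S15013
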