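import Groth.Statements.S15015
import Groth.Agent.Lib.ValueSet.Basic

set_option autoImplicit false
universe u
open TFCurv

namespace Groth.Agent.S15015

/-- Let k be an algebraically closed field and A ≠ k[[t]] a k-subalgebra of k[[t]] that is closed in the
t-adic topology, over which k[[t]] is a finite module, and such that every power series is carried
into A by multiplication with some nonzero element of A (so k[[t]] lies in the fraction field of A
and is its normalisation, as for the complete local ring of a unibranch curve singularity), and let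
Γ ⊆ ℕ be the set of t-orders of the nonzero elements of A (its value semigroup). Then ℕ ∖ Γ is
finite and the k-dimension of k[[t]]/A equals the number of gaps of Γ. -/
theorem result (k : Type u) [Field k] [IsAlgClosed k] (A : Subalgebra k (PowerSeries k)) (hA : Module.Finite ↥A (PowerSeries k)) (hcl : ∀ f : PowerSeries k, (∀ n : ℕ, ∃ g ∈ A, (n : ℕ∞) ≤ PowerSeries.order (f - g)) → f ∈ A) (hsing : A ≠ ⊤) (hbir : ∀ f : PowerSeries k, ∃ a ∈ A, a ≠ 0 ∧ a * f ∈ A) (Γ : Set ℕ) (hΓ : ∀ n : ℕ, n ∈ Γ ↔ ∃ f ∈ A, PowerSeries.order f = n) : Γᶜ.Finite ∧ Module.finrank k (PowerSeries k ⧸ Subalgebra.toSubmodule A) = Γᶜ.ncard := by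
  classical
  obtain ⟨S, hS⟩ := hA.fg_top
  choose a ha ha0 haf using hbir
  let d : PowerSeries k := ∏ s ∈ S, a s
  have hd0 : d ≠ 0 := Finset.prod_ne_zero_iff.mpr fun s _ => ha0 s
  have hd : ∀ g : PowerSeries k, d * g ∈ A := by
    intro g
    have hg : g ∈ Submodule.span A (S : Set (PowerSeries k)) := by rw [hS]; trivial
    induction hg using Submodule.span_induction with
    | mem s hs =>
      show (∏ i ∈ S, a i) * s ∈ A
      rw [← Finset.prod_erase_mul S a hs, mul_assoc]
      exact A.mul_mem (prod_mem fun i _ => ha i) (haf s)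
    | zero => simp
    | add y z _ _ hy hz => rw [mul_add]; exact A.add_mem hy hz
    | smul r y _ hy =>
      rw [show d * (r • y) = (r : PowerSeries k) * (d * y) by
        rw [Subalgebra.smul_def, smul_eq_mul]; ring]
      exact A.mul_mem r.2 hy
  obtain ⟨c, hc⟩ := ENat.ne_top_iff_exists.mp (mt PowerSeries.order_eq_top.mp hd0)
  have hfin : Γᶜ.Finite := by
    refine (Set.finite_Iio c).subset fun m hm => ?_
    by_contra hlt
    simp only [Set.mem_Iio, not_lt] at hlt
    refine hm ((hΓ m).mpr ⟨d * PowerSeries.X ^ (m - c), hd _, ?_⟩)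
    rw [PowerSeries.order_mul, PowerSeries.order_X_pow, ← hc, ← Nat.cast_add]
    exact_mod_cast (show c + (m - c) = m by omega)
  exact ⟨hfin, GrothLib.ValueSet.finrank_quotient_eq_ncard (Subalgebra.toSubmodule A) hcl Γᶜ
    (fun n => by simpa using hΓ n) hfin⟩

end Groth.Agent.S15015
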