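import Groth.Statements.S15017
import Mathlib.Algebra.Group.Submonoid.Basic
import Mathlib.Tactic.IntervalCases

set_option autoImplicit false
open TFCurv

namespace Groth.Agent.S15017

/-- Let Γ be a numerical semigroup (a submonoid of (ℕ, +) with finite complement), Γ ≠ ℕ, with conductor
c (every n ≥ c lies in Γ, c − 1 does not). If Γ is symmetric (for x < c, x is a gap exactly when c −
1 − x ∈ Γ) and has multiplicity greater than 2 (neither 1 nor 2 lies in Γ), then Γ is generated by
its elements smaller than c: every minimal generator of Γ is less than the conductor. -/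
theorem result (Γ : AddSubmonoid ℕ) (c : ℕ) (hc : ∀ n : ℕ, c ≤ n → n ∈ Γ) (hc0 : c ≠ 0) (hc1 : c - 1 ∉ Γ) (hsymm : ∀ x : ℕ, x < c → (x ∉ Γ ↔ c - 1 - x ∈ Γ)) (he : (1 : ℕ) ∉ Γ ∧ (2 : ℕ) ∉ Γ) : AddSubmonoid.closure {γ : ℕ | γ ∈ Γ ∧ γ < c} = Γ := by
  refine le_antisymm (AddSubmonoid.closure_le.mpr fun γ hγ => hγ.1) fun n hn => ?_
  induction n using Nat.strong_induction_on with
  | _ n ih =>
    by_cases hnc : n < c
    · exact AddSubmonoid.subset_closure ⟨hn, hnc⟩
    -- it suffices to split `n` into two smaller elements of `Γ`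
    by_cases hsplit : ∃ a, a ∈ Γ ∧ n - a ∈ Γ ∧ 0 < a ∧ a < n
    · obtain ⟨a, ha, hb, h0, han⟩ := hsplit
      rw [show n = a + (n - a) by omega]
      exact AddSubmonoid.add_mem _ (ih a han ha) (ih _ (by omega) hb)
    exfalso
    push Not at hsplit
    have h3 : 3 ≤ c := by
      by_contra h
      interval_cases c
      · exact hc0 rfl
      · exact he.1 (hc 1 le_rfl)
      · exact he.2 (hc 2 le_rfl)
    set r := n - (c - 1) with hr
    have hstep : ∀ a, a ∈ Γ → a < c → a ≠ 0 → r ≤ a ∧ a - r ∈ Γ := by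
      intro a ha hac h0
      have hb : n - a ∉ Γ := fun hb => absurd (hsplit a ha hb (by omega)) (by omega)
      have hlt : n - a < c := by
        by_contra h
        exact hb (hc _ (by omega))
      refine ⟨by omega, ?_⟩
      have := (hsymm (n - a) hlt).mp hb
      rwa [show c - 1 - (n - a) = a - r by omega] at this
    have hdiv : ∀ a, a ∈ Γ → a < c → r ∣ a ∧ (a ≠ 0 → r ∈ Γ) := by
      intro a
      induction a using Nat.strong_induction_on with
      | _ a iha =>
        intro ha hac
        by_cases h0 : a = 0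
        · exact ⟨h0 ▸ dvd_zero r, fun h => absurd h0 h⟩
        obtain ⟨hra, hmem⟩ := hstep a ha hac h0
        obtain ⟨hd, hr'⟩ := iha (a - r) (by omega) hmem (by omega)
        refine ⟨(Nat.dvd_sub_iff_left hra dvd_rfl).mp hd, fun _ => ?_⟩
        by_cases h1 : a - r = 0
        · rwa [show r = a by omega]
        · exact hr' h1
    have hcm : ∀ i, (i = 1 ∨ i = 2) → c - 1 - i ∈ Γ := fun i hi =>
      (hsymm i (by omega)).mp (by rcases hi with rfl | rfl; exacts [he.1, he.2])
    obtain ⟨hd1, hr1⟩ := hdiv (c - 1 - 1) (hcm 1 (Or.inl rfl)) (by omega)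
    obtain ⟨hd2, -⟩ := hdiv (c - 1 - 2) (hcm 2 (Or.inr rfl)) (by omega)
    have hone : r ∣ 1 := by
      have := Nat.dvd_sub hd1 hd2
      rwa [show c - 1 - 1 - (c - 1 - 2) = 1 by omega] at this
    have hrΓ := hr1 (by omega)
    rw [Nat.eq_one_of_dvd_one hone] at hrΓ
    exact he.1 hrΓ

end Groth.Agent.S15017
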