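import Groth.Statements.S15018
import Mathlib.Algebra.Group.Submonoid.Basic

set_option autoImplicit false
open TFCurv

namespace Groth.Agent.S15018

/-- Let Γ be a numerical semigroup (a submonoid of (ℕ, +) with finite complement), Γ ≠ ℕ, with conductor
c (every n ≥ c lies in Γ, c − 1 does not). Then Γ is symmetric (for x < c, x is a gap exactly when c
− 1 − x ∈ Γ) if and only if there is exactly one gap n of Γ such that Γ ∪ {n} is again stable under
adding elements of Γ, i.e. n + γ ∈ Γ for every nonzero γ ∈ Γ. -/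
theorem result (Γ : AddSubmonoid ℕ) (c : ℕ) (hc : ∀ n : ℕ, c ≤ n → n ∈ Γ) (hc0 : c ≠ 0) (hc1 : c - 1 ∉ Γ) : (∀ x : ℕ, x < c → (x ∉ Γ ↔ c - 1 - x ∈ Γ)) ↔ ∃! n : ℕ, n ∉ Γ ∧ ∀ γ : ℕ, γ ∈ Γ → γ ≠ 0 → n + γ ∈ Γ := by
  have htop : c - 1 ∉ Γ ∧ ∀ γ : ℕ, γ ∈ Γ → γ ≠ 0 → c - 1 + γ ∈ Γ :=
    ⟨hc1, fun γ _ h0 => hc _ (by omega)⟩
  constructor
  · intro hs
    refine ⟨c - 1, htop, fun n ⟨hn, hadd⟩ => ?_⟩
    have hnc : n < c := by by_contra h; exact hn (hc n (by omega))
    by_contra hne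
    have hmem : c - 1 - n ∈ Γ := (hs n hnc).mp hn
    have := hadd _ hmem (by omega)
    rw [show n + (c - 1 - n) = c - 1 by omega] at this
    exact hc1 this
  · rintro ⟨n₀, -, huniq⟩ x hx
    constructor
    · intro hxΓ
      by_contra hy
      -- a maximal gap of the form x + γ is the top gap
      classical
      let P : ℕ → Prop := fun z => z ∉ Γ ∧ ∃ γ, γ ∈ Γ ∧ z = x + γ
      have hP : ∃ z, z ≤ c ∧ P z := ⟨x, hx.le, hxΓ, 0, Γ.zero_mem, rfl⟩
      obtain ⟨z, hzc, hz⟩ := hP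
      let m := Nat.findGreatest P c
      have hm : P m := Nat.findGreatest_spec hzc hz
      obtain ⟨hmΓ, γ, hγ, hmx⟩ := hm
      have hsat : ∀ δ : ℕ, δ ∈ Γ → δ ≠ 0 → m + δ ∈ Γ := by
        intro δ hδ h0
        by_contra hmd
        have hle : m + δ ≤ c := by by_contra h; exact hmd (hc _ (by omega))
        have := Nat.le_findGreatest (P := P) hle ⟨hmd, γ + δ, Γ.add_mem hγ hδ, by omega⟩
        omega
      have h1 := huniq m ⟨hmΓ, hsat⟩
      have h2 := huniq (c - 1) htop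
      exact hy (by rw [show c - 1 - x = γ by omega]; exact hγ)
    · intro hy hxΓ
      exact hc1 (by rw [show c - 1 = x + (c - 1 - x) by omega]; exact Γ.add_mem hxΓ hy)

end Groth.Agent.S15018
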