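import Groth.Statements.S15019
import Mathlib.Tactic
import Mathlib.Data.Set.Card

set_option autoImplicit false
open TFCurv

namespace Groth.Agent.S15019

/-- Let Γ be a numerical semigroup (a submonoid of (ℕ, +) with finite complement), Γ ≠ ℕ, with conductor
c (every n ≥ c lies in Γ, c − 1 does not), let e be its multiplicity (the least nonzero element of
Γ), and let S ⊆ ℕ be a Γ-module in normal form: 0 ∈ S and γ + s ∈ S for all γ ∈ Γ, s ∈ S. Then the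
set of gaps n of S with S ∪ {n} again a Γ-module (n + γ ∈ S for every nonzero γ ∈ Γ) has at most e −
1 elements, and so does the set of nonzero s ∈ S with S ∖ {s} again a Γ-module (s − γ ∉ S for every
nonzero γ ∈ Γ with γ ≤ s). -/
theorem result (Γ : AddSubmonoid ℕ) (c : ℕ) (hc : ∀ n : ℕ, c ≤ n → n ∈ Γ) (hc0 : c ≠ 0) (hc1 : c - 1 ∉ Γ) (e : ℕ) (he : e ∈ Γ) (he0 : e ≠ 0) (hemin : ∀ γ : ℕ, γ ∈ Γ → γ ≠ 0 → e ≤ γ) (S : Set ℕ) (hS0 : (0 : ℕ) ∈ S) (hS : ∀ γ : ℕ, γ ∈ Γ → ∀ s : ℕ, s ∈ S → γ + s ∈ S) : {n : ℕ | n ∉ S ∧ ∀ γ : ℕ, γ ∈ Γ → γ ≠ 0 → n + γ ∈ S}.encard ≤ ((e - 1 : ℕ) : ℕ∞) ∧ {s : ℕ | s ∈ S ∧ s ≠ 0 ∧ ∀ γ : ℕ, γ ∈ Γ → γ ≠ 0 → γ ≤ s → s - γ ∉ S}.encard ≤ ((e - 1 : ℕ) : ℕ∞) := by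
  have hmul : ∀ j : ℕ, j * e ∈ Γ := fun j => by simpa using Γ.nsmul_mem he j
  have key : ∀ T : Set ℕ, (∀ n ∈ T, n % e ≠ 0) →
      (∀ n ∈ T, ∀ j, j ≠ 0 → n + j * e ∉ T) → T.encard ≤ ((e - 1 : ℕ) : ℕ∞) := by
    intro T h0 h1
    have hIco : (Set.Ico 1 e).encard = ((e - 1 : ℕ) : ℕ∞) := by
      rw [← Finset.coe_Ico, Set.encard_coe_eq_coe_finsetCard, Nat.card_Ico]
    rw [← hIco]
    refine Set.encard_le_encard_of_injOn (f := fun n => n % e)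
      (fun n hn => ⟨Nat.one_le_iff_ne_zero.mpr (h0 n hn), Nat.mod_lt _ (Nat.pos_of_ne_zero he0)⟩) ?_
    intro a ha b hb (hab : a % e = b % e)
    rcases le_total a b with h | h
    · obtain ⟨j, hj⟩ := (Nat.modEq_iff_dvd' h).mp hab
      rcases eq_or_ne j 0 with rfl | hj0
      · simp at hj; omega
      · exact absurd (show a + j * e ∈ T by rw [mul_comm, ← hj, Nat.add_sub_cancel' h]; exact hb) (h1 a ha j hj0)
    · obtain ⟨j, hj⟩ := (Nat.modEq_iff_dvd' h).mp hab.symm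
      rcases eq_or_ne j 0 with rfl | hj0
      · simp at hj; omega
      · exact absurd (show b + j * e ∈ T by rw [mul_comm, ← hj, Nat.add_sub_cancel' h]; exact ha) (h1 b hb j hj0)
  constructor
  · refine key _ (fun n hn h => ?_) (fun n hn j hj h => ?_)
    · obtain ⟨j, rfl⟩ := Nat.dvd_of_mod_eq_zero h
      exact hn.1 (by simpa using hS _ (mul_comm j e ▸ hmul j) 0 hS0)
    · exact h.1 (hn.2 _ (hmul j) (mul_ne_zero hj he0))
  · refine key _ (fun n hn h => ?_) (fun n hn j hj h => ?_)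
    · obtain ⟨j, rfl⟩ := Nat.dvd_of_mod_eq_zero h
      exact hn.2.2 _ (mul_comm j e ▸ hmul j) hn.2.1 le_rfl (by simpa using hS0)
    · exact h.2.2 _ (hmul j) (mul_ne_zero hj he0) (Nat.le_add_left _ _) (by simpa using hn.1)

end Groth.Agent.S15019
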