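import Groth.Statements.S1502
import Groth.Agent.Lib.AdmAmple8.CdCover

set_option autoImplicit false
universe u
open FlatMor

open GrothLib
set_option backward.isDefEq.respectTransparency false

namespace Groth.Agent.S1502

open AlgebraicGeometry CategoryTheory Limits in
/-- Let X be quasi-compact and quasi-separated. Then there is a morphism f : Y → X which is proper, of
finite presentation and completely decomposed (every point of X is the image of a point with trivial
residue field extension) such that Y has an ample family of invertible modules. -/
theorem result (X : Scheme.{u}) [CompactSpace ↑X] [QuasiSeparatedSpace ↑X] :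
    ∃ (Y : Scheme.{u}) (f : Y ⟶ X), IsProper f ∧ LocallyOfFinitePresentation f ∧
      (∀ x : X, ∃ y : Y, f y = x ∧ Function.Bijective (f.residueFieldMap y)) ∧ MoreMor.HasAmpleFamily Y := by
  exact GrothLib.AdmAmple8.exists_cd_cover X

end Groth.Agent.S1502
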