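import Groth.Statements.S15022
import Groth.Agent.Lib.TFCurv11.ValueDual

set_option autoImplicit false
universe u
open CategoryTheory
open TFCurv

namespace Groth.Agent.S15022

set_option backward.isDefEq.respectTransparency false


/-- Let k be an algebraically closed field and A ≠ k[[t]] a k-subalgebra of k[[t]] that is closed in the
t-adic topology and over which k[[t]] is a finite module (as for the complete local ring of a
unibranch curve singularity inside its normalisation), and let Γ ⊆ ℕ be the set of t-orders of the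
nonzero elements of A (its value semigroup); let c be the conductor of Γ (every n ≥ c lies in Γ, c −
1 does not) and suppose A is not Gorenstein. If w is an A-submodule of k[[t]] with 1 ∈ w whose
injective dimension as an A-module is at most one (a canonical ideal of A placed between A and
k[[t]]), then the value set of w is the dual of Γ: a natural number n is the t-order of some element
of w exactly when n ≥ c or c − 1 − n is a gap of Γ. (The published statement does not exclude the
Gorenstein case; this row assumes that A is not Gorenstein.) -/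
theorem result (k : Type u) [Field k] [IsAlgClosed k] (A : Subalgebra k (PowerSeries k)) (hA : Module.Finite ↥A (PowerSeries k)) (hcl : ∀ f : PowerSeries k, (∀ n : ℕ, ∃ g ∈ A, (n : ℕ∞) ≤ PowerSeries.order (f - g)) → f ∈ A) (hsing : A ≠ ⊤) (Γ : Set ℕ) (hΓ : ∀ n : ℕ, n ∈ Γ ↔ ∃ f ∈ A, PowerSeries.order f = n) (c : ℕ) (hc : ∀ n : ℕ, c ≤ n → n ∈ Γ) (hc0 : c ≠ 0) (hc1 : c - 1 ∉ Γ) (hG : ¬ LocCoh.IsGorensteinLocalRing ↥A) (ω : Submodule ↥A (PowerSeries k)) (hω1 : (1 : PowerSeries k) ∈ ω) (hωfg : ω.FG) (hωinj : HasInjectiveDimensionLT (ModuleCat.of ↥A ↥ω) 2) (n : ℕ) : (∃ f ∈ ω, PowerSeries.order f = n) ↔ (c ≤ n ∨ c - 1 - n ∉ Γ) := by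
  classical
  haveI := hA
  haveI : FaithfulSMul ↥A (PowerSeries k) := (faithfulSMul_iff_algebraMap_injective _ _).2 Subtype.val_injective
  have hcond : ∀ f : PowerSeries k, (c : ℕ∞) ≤ PowerSeries.order f → ∃ a : ↥A, algebraMap ↥A (PowerSeries k) a = f :=
    fun f hf => ⟨⟨f, GrothLib.ValueSet.mem_of_le_order (Subalgebra.toSubmodule A) hcl
      (fun m hm => (hΓ m).mp (hc m hm)) hf⟩, rfl⟩
  have key := GrothLib.ValueDual11.valueSet_dual k ↥A hcond (FractionRing (PowerSeries k))
    (fun a => ⟨⟨_, A.algebraMap_mem a⟩, rfl⟩) hc0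
    (fun a h => hc1 ((hΓ _).mpr ⟨a, a.2, h⟩)) hG ω hω1 hωfg hωinj
  refine Iff.trans ?_ ((key (Submodule.span ↥A {1}) (Submodule.fg_span_singleton _) n).trans
    (or_congr Iff.rfl (not_congr ?_)))
  · constructor
    · rintro ⟨f, hf, hfo⟩
      refine ⟨f, hfo, fun m hm => ?_⟩
      obtain ⟨a, rfl⟩ := Submodule.mem_span_singleton.1 hm
      rw [mul_smul_comm, mul_one]
      exact ω.smul_mem a hf
    · rintro ⟨u, hu, h⟩
      exact ⟨u, by simpa using h 1 (Submodule.mem_span_singleton_self _), hu⟩
  · constructor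
    · rintro ⟨m, hm, hmo⟩
      obtain ⟨a, rfl⟩ := Submodule.mem_span_singleton.1 hm
      refine (hΓ _).mpr ⟨a, a.2, ?_⟩
      rwa [Algebra.smul_def, mul_one] at hmo
    · intro h
      obtain ⟨f, hf, hfo⟩ := (hΓ _).mp h
      exact ⟨f, Submodule.mem_span_singleton.2 ⟨⟨f, hf⟩, by rw [Algebra.smul_def, mul_one]; rfl⟩, hfo⟩

end Groth.Agent.S15022
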