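import Groth.Statements.S15024
import Groth.Agent.Lib.TFCurv11.Tor

set_option autoImplicit false
universe u
open CategoryTheory
open TFCurv

namespace Groth.Agent.S15024

set_option backward.isDefEq.respectTransparency false


/-- Let O be a one-dimensional Noetherian local domain with algebraically closed residue field whose
integral closure O~ in its fraction field K is a finite O-module, M a finitely generated
torsion-free O-module and f : O^n → M an injective O-linear map whose cokernel T has finite length.
Then Tor_1^O(O~, M) and Tor_1^O(O~, T) are isomorphic (existence of an isomorphism only), and O~ ⊗_O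
f : O~ ⊗ O^n → O~ ⊗ M is injective, so that 0 → O~^n → O~ ⊗ M → O~ ⊗ T → 0 is exact. -/
theorem result (O : Type u) [CommRing O] [IsDomain O] [IsNoetherianRing O] [IsLocalRing O] (hdim : ringKrullDim O = 1) [IsAlgClosed (IsLocalRing.ResidueField O)] (K : Type u) [Field K] [Algebra O K] [IsFractionRing O K] (hfin : Module.Finite O ↥(integralClosure O K)) (M : Type u) [AddCommGroup M] [Module O M] [Module.Finite O M] [NoZeroSMulDivisors O M] (n : ℕ) (f : (Fin n → O) →ₗ[O] M) (hf : Function.Injective f) (hT : IsFiniteLength O (M ⧸ LinearMap.range f)) : Nonempty (((Tor (ModuleCat.{u} O) 1).obj (ModuleCat.of O ↥(integralClosure O K))).obj (ModuleCat.of O M) ≅ ((Tor (ModuleCat.{u} O) 1).obj (ModuleCat.of O ↥(integralClosure O K))).obj (ModuleCat.of O (M ⧸ LinearMap.range f))) ∧ Function.Injective (LinearMap.lTensor ↥(integralClosure O K) f) := by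
  let R := ↥(integralClosure O K)
  haveI : Module.Finite O R := hfin
  let ι : R →ₗ[O] K := (Subalgebra.toSubmodule (integralClosure O K)).subtype
  have hι : Function.Injective ι := Subtype.val_injective
  have hR : Function.Injective (f.lTensor R) := GrothLib.TFCurv11.lTensor_injective_of_embedding K f hf ι hι
  obtain ⟨m, p, hp⟩ := Module.Finite.exists_fin' O R
  let i := (LinearMap.ker p).subtype
  have he : Function.Exact i p := LinearMap.exact_subtype_ker_map p
  obtain ⟨eM⟩ := GrothLib.Tor1Ker.nonempty_tor_one_equiv_ker i p Subtype.val_injective he hp M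
  obtain ⟨eT⟩ := GrothLib.Tor1Ker.nonempty_tor_one_equiv_ker i p Subtype.val_injective he hp (M ⧸ LinearMap.range f)
  obtain ⟨Φ⟩ := GrothLib.TFCurv11.exists_kerEquiv i p f (Submodule.mkQ (LinearMap.range f)) Subtype.val_injective he hp hf
    (LinearMap.exact_map_mkQ_range f) (Submodule.mkQ_surjective _) hR
  exact ⟨⟨(eM ≪≫ₗ Φ ≪≫ₗ eT.symm).toModuleIso⟩, hR⟩

end Groth.Agent.S15024
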