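import Groth.Statements.S15025
import Groth.Agent.Lib.TFCurv11.Tor

set_option autoImplicit false
universe u
open CategoryTheory
open TFCurv

namespace Groth.Agent.S15025

set_option backward.isDefEq.respectTransparency false


/-- Let O be a one-dimensional Noetherian local domain with algebraically closed residue field whose
integral closure O~ in its fraction field K is a finite O-module, M a finitely generated
torsion-free O-module and g : M → O^n an injective O-linear map whose cokernel T' has finite length.
Then the torsion submodule of O~ ⊗_O M is O-linearly isomorphic to Tor_1^O(O~, T') (existence of an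
isomorphism only). -/
theorem result (O : Type u) [CommRing O] [IsDomain O] [IsNoetherianRing O] [IsLocalRing O] (hdim : ringKrullDim O = 1) [IsAlgClosed (IsLocalRing.ResidueField O)] (K : Type u) [Field K] [Algebra O K] [IsFractionRing O K] (hfin : Module.Finite O ↥(integralClosure O K)) (M : Type u) [AddCommGroup M] [Module O M] [Module.Finite O M] [NoZeroSMulDivisors O M] (n : ℕ) (g : M →ₗ[O] (Fin n → O)) (hg : Function.Injective g) (hT : IsFiniteLength O ((Fin n → O) ⧸ LinearMap.range g)) : Nonempty (↥(Submodule.torsion O (TensorProduct O ↥(integralClosure O K) M)) ≃ₗ[O] ↑(((Tor (ModuleCat.{u} O) 1).obj (ModuleCat.of O ↥(integralClosure O K))).obj (ModuleCat.of O ((Fin n → O) ⧸ LinearMap.range g)))) := by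
  classical
  let R := ↥(integralClosure O K)
  let ι : R →ₗ[O] K := (Subalgebra.toSubmodule (integralClosure O K)).subtype
  have hι : Function.Injective ι := Subtype.val_injective
  haveI : Module.Flat O K := IsLocalization.flat K (nonZeroDivisors O)
  obtain ⟨d, hd0, hd⟩ := GrothLib.TFCurv11.exists_annihilator hdim hT
  have hdr : ∀ x, d • x ∈ LinearMap.range g := fun x => by
    rw [← Submodule.Quotient.mk_eq_zero, Submodule.Quotient.mk_smul, hd]
  let h : (Fin n → O) →ₗ[O] M := (LinearEquiv.ofInjective g hg).symm.toLinearMap.comp
    ((d • LinearMap.id).codRestrict (LinearMap.range g) hdr)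
  have hgh : g.comp h = d • LinearMap.id := LinearMap.ext fun x =>
    congrArg Subtype.val ((LinearEquiv.ofInjective g hg).apply_symm_apply ⟨d • x, hdr x⟩)
  have hhg : h.comp g = d • LinearMap.id := LinearMap.ext fun m => hg (by
    have := LinearMap.congr_fun hgh (g m)
    simpa using this)
  have htor : Submodule.torsion O (TensorProduct O R M) = LinearMap.ker (g.lTensor R) := by
    ext x
    rw [Submodule.mem_torsion_iff, LinearMap.mem_ker]
    constructor
    · rintro ⟨c, hc⟩
      have hinj : Function.Injective (ι.rTensor (Fin n → O)) :=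
        Module.Flat.rTensor_preserves_injective_linearMap (M := (Fin n → O)) ι hι
      refine hinj ?_
      rw [map_zero]
      have h1 : (c : O) • ι.rTensor (Fin n → O) (g.lTensor R x) = 0 := by
        rw [← map_smul, ← map_smul]
        have hc' : (c : O) • x = 0 := hc
        rw [hc', map_zero, map_zero]
      rw [← algebraMap_smul K] at h1
      exact (smul_eq_zero.1 h1).resolve_left
        (IsFractionRing.to_map_ne_zero_of_mem_nonZeroDivisors c.2)
    · intro hx
      refine ⟨⟨d, mem_nonZeroDivisors_of_ne_zero hd0⟩, ?_⟩
      show d • x = 0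
      have h2 : (h.comp g).lTensor R x = d • x := by rw [hhg, LinearMap.lTensor_smul]; simp
      rw [← h2, LinearMap.lTensor_comp_apply, hx, map_zero]
  have hkr : ∀ x : TensorProduct O R M, x ∈ LinearMap.ker (g.lTensor R) ↔
      TensorProduct.comm O R M x ∈ LinearMap.ker (g.rTensor R) := by
    intro x
    have hc : g.rTensor R (TensorProduct.comm O R M x) = TensorProduct.comm O R (Fin n → O) (g.lTensor R x) := by
      induction x using TensorProduct.induction_on with
      | zero => simp
      | tmul r m => simp
      | add a b ha hb => simp only [map_add, ha, hb]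
    rw [LinearMap.mem_ker, LinearMap.mem_ker, hc, LinearEquiv.map_eq_zero_iff]
  let e1 : LinearMap.ker (g.lTensor R) ≃ₗ[O] LinearMap.ker (g.rTensor R) :=
    (TensorProduct.comm O R M).ofSubmodules _ _ (by
      ext y
      rw [Submodule.map_equiv_eq_comap_symm, Submodule.mem_comap, hkr]
      simp)
  obtain ⟨e2⟩ := GrothLib.Tor1Ker.nonempty_tor_one_equiv_ker g (Submodule.mkQ (LinearMap.range g)) hg
    (LinearMap.exact_map_mkQ_range g) (Submodule.mkQ_surjective _) R
  obtain ⟨e3⟩ := GrothLib.HTor22.nonempty_tor_symm (ModuleCat.of O ((Fin n → O) ⧸ LinearMap.range g)) (ModuleCat.of O R) 1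
  exact ⟨LinearEquiv.ofEq _ _ htor ≪≫ₗ e1 ≪≫ₗ e2.symm ≪≫ₗ e3.toLinearEquiv⟩

end Groth.Agent.S15025
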