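import Groth.Statements.S15029
import Mathlib

set_option autoImplicit false
open TFCurv

namespace Groth.Agent.S15029

/-- Let Γ be a numerical semigroup (a submonoid of (ℕ, +) with finite complement), Γ ≠ ℕ, with conductor
c (every n ≥ c lies in Γ, c − 1 does not), and let S ⊆ ℕ be a Γ-module in normal form (0 ∈ S and γ +
s ∈ S for γ ∈ Γ, s ∈ S). If S ≠ ℕ then some gap n of S can be added (n + γ ∈ S for every nonzero γ ∈
Γ, so S ∪ {n} is a Γ-module), and if S ≠ Γ then some s ∈ S outside Γ can be removed (s − γ ∉ S for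
every nonzero γ ∈ Γ with γ ≤ s, so S ∖ {s} is a Γ-module containing Γ); iterating, S is joined to ℕ
and to Γ by chains in the diagram of Γ-modules, which is therefore connected. -/
theorem result (Γ : AddSubmonoid ℕ) (c : ℕ) (hc : ∀ n : ℕ, c ≤ n → n ∈ Γ) (hc0 : c ≠ 0) (hc1 : c - 1 ∉ Γ) (S : Set ℕ) (hS0 : (0 : ℕ) ∈ S) (hS : ∀ γ : ℕ, γ ∈ Γ → ∀ s : ℕ, s ∈ S → γ + s ∈ S) : (S ≠ Set.univ → ∃ n : ℕ, n ∉ S ∧ ∀ γ : ℕ, γ ∈ Γ → γ ≠ 0 → n + γ ∈ S) ∧ ((↑Γ : Set ℕ) ≠ S → ∃ s : ℕ, s ∈ S ∧ s ∉ Γ ∧ ∀ γ : ℕ, γ ∈ Γ → γ ≠ 0 → γ ≤ s → s - γ ∉ S) := by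
  classical
  refine ⟨fun hne => ?_, fun hne => ?_⟩
  · have hbig : ∀ n, c ≤ n → n ∈ S := fun n hn => by simpa using hS n (hc n hn) 0 hS0
    obtain ⟨m, hm⟩ := (Set.ne_univ_iff_exists_notMem S).1 hne
    have hmc : m ≤ c := le_of_not_ge fun h => hm (hbig m h)
    let n := Nat.findGreatest (fun n => n ∉ S) c
    refine ⟨n, Nat.findGreatest_spec (P := fun n => n ∉ S) hmc hm, fun γ _ hγ => ?_⟩
    by_contra h
    have hle : n + γ ≤ c := le_of_not_ge fun h' => h (hbig _ h')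
    have := Nat.le_findGreatest (P := fun n => n ∉ S) hle h
    omega
  · have hsub : ∀ γ ∈ Γ, γ ∈ S := fun γ hγ => by simpa using hS γ hγ 0 hS0
    have hex : ∃ s, s ∈ S ∧ s ∉ Γ := by
      by_contra h
      push Not at h
      exact hne (Set.ext fun x => ⟨hsub x, h x⟩)
    obtain ⟨h1, h2⟩ := Nat.find_spec hex
    refine ⟨Nat.find hex, h1, h2, fun γ hγ hγ0 hle hmem => ?_⟩
    have h3 : Nat.find hex - γ ∈ Γ := by
      by_contra h
      exact Nat.find_min hex (by omega) ⟨hmem, h⟩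
    exact h2 (by simpa [Nat.sub_add_cancel hle] using Γ.add_mem h3 hγ)

end Groth.Agent.S15029
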