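import Groth.Statements.S15030
import Groth.Agent.Lib.TFCurv11.TwoGenApps

set_option autoImplicit false
universe u
open CategoryTheory
open TFCurv

namespace Groth.Agent.S15030

set_option backward.isDefEq.respectTransparency false


/-- Let k be an algebraically closed field of characteristic zero, δ ≥ 1, and A ⊂ k[[t]] the complete
local ring of the A_{2δ} singularity, i.e. the k-subalgebra of power series all of whose exponents
lie in the semigroup generated by 2 and 2δ + 1 (so A = k[[t², t^{2δ+1}]]). For 0 ≤ i ≤ δ let M_i ⊂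
k[[t]] be the A-submodule generated by 1 and t^{2δ+1−2i} (these represent all rank-one torsion-free
A-modules). Then for 0 ≤ i, j ≤ δ the A-module Ext¹_A(M_i, M_j) has length 2·min(i, j) (length over
A equals k-dimension here). (The published statement also covers the two-branch case n = 2δ − 1 with
the same value; only the one-branch case is stated.) -/
theorem result (k : Type u) [Field k] [IsAlgClosed k] [CharZero k] (δ : ℕ) (hδ : 1 ≤ δ) (A : Subalgebra k (PowerSeries k)) (hmono : ∀ f : PowerSeries k, f ∈ A ↔ ∀ n : ℕ, PowerSeries.coeff n f ≠ 0 → n ∈ AddSubmonoid.closure ({2, 2 * δ + 1} : Set ℕ)) (i j : ℕ) (hi : i ≤ δ) (hj : j ≤ δ) : Module.length ↥A (Abelian.Ext (ModuleCat.of ↥A ↥(Submodule.span ↥A ({1, (PowerSeries.X : PowerSeries k) ^ (2 * δ + 1 - 2 * i)} : Set (PowerSeries k)))) (ModuleCat.of ↥A ↥(Submodule.span ↥A ({1, (PowerSeries.X : PowerSeries k) ^ (2 * δ + 1 - 2 * j)} : Set (PowerSeries k)))) 1) = ((2 * min i j : ℕ) : ℕ∞) := by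
  exact GrothLib.TFCurv11.length_ext_one_A_even δ (GrothLib.TFCurv11.isMono_even δ hmono) i j hi hj _ _ rfl rfl

end Groth.Agent.S15030
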