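import Groth.Statements.S15031
import Groth.Agent.Lib.TFCurv11.CubicalApps

set_option autoImplicit false
universe u
open CategoryTheory
open TFCurv

namespace Groth.Agent.S15031

set_option backward.isDefEq.respectTransparency false


/-- Let k be an algebraically closed field, n ≥ 2, and A = R_n ⊂ k[[t]] the monomial ring of the cubical
semigroup ⟨n, n+1, …, 2n−1⟩, i.e. the k-subalgebra of power series with no terms of degree 1, …,
n−1. For 0 ≤ i ≤ n − 2 let M_i ⊂ k[[t]] be the A-submodule generated by 1, t, …, t^i (the monomial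
module whose value set is Γ_n together with 1, …, i). Then the A-module Ext¹_A(M_i, M_i) has length
i·(n − 2 − i); as the A-endomorphisms of M_i are the scalars, this number is the invariant χ₁(M_i) =
dim Ext¹(M_i, M_i) − dim(End(M_i)/A). (The published statement asserts the value for every module
with this value set; only the monomial module is stated here.) -/
theorem result (k : Type u) [Field k] [IsAlgClosed k] (n : ℕ) (hn : 2 ≤ n) (A : Subalgebra k (PowerSeries k)) (hmono : ∀ f : PowerSeries k, f ∈ A ↔ ∀ m : ℕ, PowerSeries.coeff m f ≠ 0 → (m = 0 ∨ n ≤ m)) (i : ℕ) (hi : i + 2 ≤ n) : Module.length ↥A (Abelian.Ext (ModuleCat.of ↥A ↥(Submodule.span ↥A ((fun a : ℕ => (PowerSeries.X : PowerSeries k) ^ a) '' Set.Iic i))) (ModuleCat.of ↥A ↥(Submodule.span ↥A ((fun a : ℕ => (PowerSeries.X : PowerSeries k) ^ a) '' Set.Iic i))) 1) = ((i * (n - 2 - i) : ℕ) : ℕ∞) := by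
  exact GrothLib.TFCurv11.length_ext_one_monomialModule hmono i hi _ rfl

end Groth.Agent.S15031
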