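import Groth.Statements.S15032
import Groth.Agent.Lib.TFCurv11.CubicalApps

set_option autoImplicit false
universe u
open CategoryTheory
open TFCurv

namespace Groth.Agent.S15032

set_option backward.isDefEq.respectTransparency false


/-- Let k be an algebraically closed field, n ≥ 2, and A = R_n ⊂ k[[t]] the monomial ring of the cubical
semigroup ⟨n, n+1, …, 2n−1⟩, i.e. the k-subalgebra of power series with no terms of degree 1, …,
n−1. For the normalisation R~ = k[[t]] viewed as an A-module, χ₁(R~) = (n − 1)², where χ₁(M) = dim_k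
Ext¹_A(M, M) − dim_k(End_A(M)/A): the length of the A-module Ext¹_A(k[[t]], k[[t]]) equals (n − 1)²
plus the length of the A-linear endomorphisms of k[[t]] modulo multiplications by elements of A. -/
theorem result (k : Type u) [Field k] [IsAlgClosed k] (n : ℕ) (hn : 2 ≤ n) (A : Subalgebra k (PowerSeries k)) (hmono : ∀ f : PowerSeries k, f ∈ A ↔ ∀ m : ℕ, PowerSeries.coeff m f ≠ 0 → (m = 0 ∨ n ≤ m)) : Module.length ↥A (Abelian.Ext (ModuleCat.of ↥A (PowerSeries k)) (ModuleCat.of ↥A (PowerSeries k)) 1) = (((n - 1) ^ 2 : ℕ) : ℕ∞) + Module.length ↥A ((PowerSeries k →ₗ[↥A] PowerSeries k) ⧸ LinearMap.range (Algebra.lsmul ↥A ↥A (PowerSeries k) : ↥A →ₐ[↥A] Module.End ↥A (PowerSeries k)).toLinearMap) := by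
  exact GrothLib.TFCurv11.chiOne_normalization hn hmono

end Groth.Agent.S15032
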