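import Groth.Statements.S15033
import Groth.Agent.Lib.TFCurv11.CubicalApps

set_option autoImplicit false
universe u
open CategoryTheory
open TFCurv

namespace Groth.Agent.S15033

set_option backward.isDefEq.respectTransparency false


/-- Let k be an algebraically closed field, n ≥ 2, and A = R_n ⊂ k[[t]] the monomial ring of the cubical
semigroup ⟨n, n+1, …, 2n−1⟩, i.e. the k-subalgebra of power series with no terms of degree 1, …,
n−1. For 0 ≤ i < n − 1 let R_{n−i} ⊂ k[[t]] be the A-submodule generated by 1, t^{n−i}, t^{n−i+1},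
…, t^{n−1}, i.e. the overring of A consisting of the power series with no terms of degree 1, …, n −
i − 1. Then the A-module Ext¹_A(R_{n−i}, R_{n−i}) has length i·(n − 1). Since the A-endomorphisms of
R_{n−i} are the multiplications by elements of R_{n−i}, of colength i over A, this is the published
value χ₁(R_{n−i}) = i·(n − 2) of χ₁(M) = dim Ext¹(M, M) − dim(End(M)/A). -/
theorem result (k : Type u) [Field k] [IsAlgClosed k] (n : ℕ) (hn : 2 ≤ n) (A : Subalgebra k (PowerSeries k)) (hmono : ∀ f : PowerSeries k, f ∈ A ↔ ∀ m : ℕ, PowerSeries.coeff m f ≠ 0 → (m = 0 ∨ n ≤ m)) (i : ℕ) (hi : i + 2 ≤ n) : Module.length ↥A (Abelian.Ext (ModuleCat.of ↥A ↥(Submodule.span ↥A ((fun a : ℕ => (PowerSeries.X : PowerSeries k) ^ a) '' ({0} ∪ Set.Icc (n - i) (n - 1))))) (ModuleCat.of ↥A ↥(Submodule.span ↥A ((fun a : ℕ => (PowerSeries.X : PowerSeries k) ^ a) '' ({0} ∪ Set.Icc (n - i) (n - 1))))) 1) = ((i * (n - 1) : ℕ) : ℕ∞) := by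
  exact GrothLib.TFCurv11.length_ext_one_partialNormalization hmono i hi _ rfl

end Groth.Agent.S15033
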