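import Groth.Statements.S15034
import Mathlib.RingTheory.PowerSeries.Inverse
import Mathlib.RingTheory.PowerSeries.Order
import Mathlib.LinearAlgebra.Dimension.Finite
import Mathlib.Tactic

set_option autoImplicit false
universe u
open TFCurv

namespace Groth.Agent.S15034

open PowerSeries in
theorem mem_of_orders {k : Type u} [Field k] (A : Subalgebra k (PowerSeries k))
    (hcl : ∀ f : PowerSeries k, (∀ n : ℕ, ∃ g ∈ A, (n : ℕ∞) ≤ (f - g).order) → f ∈ A)
    (N : Submodule A (PowerSeries k)) {a : PowerSeries k} (ha : a ∈ A) {d : ℕ} (hd : a.order = d)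
    (hd0 : 0 < d) (c : ℕ) (hN : ∀ m, c ≤ m → ∃ f ∈ N, f.order = m) {h : PowerSeries k}
    (hh : (c : ℕ∞) ≤ h.order) : h ∈ N := by
  classical
  have hb' : ∀ r : Fin d, ∃ f, f ∈ N ∧ f.order = ((c + r : ℕ) : ℕ∞) := fun r =>
    hN _ (Nat.le_add_right _ _)
  choose b hb hbo using hb'
  have hord : ∀ (m : ℕ), (a ^ (m / d) * b ⟨m % d, Nat.mod_lt m hd0⟩).order = ((c + m : ℕ) : ℕ∞) := by
    intro m
    rw [PowerSeries.order_mul, PowerSeries.order_pow, hd, hbo, nsmul_eq_mul, ← Nat.cast_mul,
      ← Nat.cast_add]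
    norm_cast
    have := Nat.div_add_mod m d
    rw [mul_comm d] at this
    simp only
    omega
  let stepv : (Fin d → PowerSeries k) → ℕ → PowerSeries k := fun G m =>
    PowerSeries.C (coeff (c + m) (h - ∑ r, G r * b r) /
      coeff (c + m) (a ^ (m / d) * b ⟨m % d, Nat.mod_lt m hd0⟩)) * a ^ (m / d)
  let G : ℕ → Fin d → PowerSeries k := fun m => Nat.rec (fun _ => 0)
    (fun m G r => G r + if r = ⟨m % d, Nat.mod_lt m hd0⟩ then stepv G m else 0) m
  have hG : ∀ m r, G (m + 1) r =
      G m r + if r = ⟨m % d, Nat.mod_lt m hd0⟩ then stepv (G m) m else 0 := fun m r => rfl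
  have hGA : ∀ m r, G m r ∈ A := by
    intro m
    induction m with
    | zero => exact fun r => A.zero_mem
    | succ m ih =>
      intro r
      rw [hG]
      refine A.add_mem (ih r) ?_
      split
      · exact A.mul_mem (A.algebraMap_mem _) (pow_mem ha _)
      · exact A.zero_mem
  have hres : ∀ m i, i < c + m → coeff i (h - ∑ r, G m r * b r) = 0 := by
    intro m
    induction m with
    | zero =>
      intro i hi
      simpa [G] using coeff_of_lt_order i (lt_of_lt_of_le (by exact_mod_cast hi) hh)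
    | succ m ih =>
      intro i hi
      simp only [hG, add_mul, Finset.sum_add_distrib, ite_mul, zero_mul, Finset.sum_ite_eq',
        Finset.mem_univ, if_true, ← sub_sub]
      rw [map_sub, mul_assoc, coeff_C_mul]
      obtain ⟨h1, h2⟩ := order_eq_nat.mp (hord m)
      rcases Nat.lt_succ_iff_lt_or_eq.mp (show i < c + m + 1 by omega) with hlt | rfl
      · rw [ih i hlt, h2 i hlt]; ring
      · rw [div_mul_cancel₀ _ h1, sub_self]
  have hsmall : ∀ l m r, l ≤ m → ∀ i, i + d < l + 1 → coeff i (G m r) = coeff i (G l r) := by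
    intro l m r hlm
    induction m, hlm using Nat.le_induction with
    | base => exact fun i _ => rfl
    | succ m hlm ih =>
      intro i hi
      rw [hG, map_add, ih i hi, add_eq_left]
      split
      · rw [coeff_C_mul, coeff_of_lt_order i, mul_zero]
        rw [PowerSeries.order_pow, hd, nsmul_eq_mul, ← Nat.cast_mul, Nat.cast_lt]
        have := Nat.div_add_mod m d
        rw [mul_comm d] at this
        have := Nat.mod_lt m hd0
        omega
      · simp
  let φ : Fin d → PowerSeries k := fun r => PowerSeries.mk fun i => coeff i (G (i + d) r)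
  have hφ : ∀ m r i, i + d < m + 1 → coeff i (φ r) = coeff i (G m r) := by
    intro m r i hi
    rw [PowerSeries.coeff_mk, hsmall (i + d) m r (by omega) i (by omega)]
  have hφA : ∀ r, φ r ∈ A := fun r => hcl _ fun n => ⟨G (n + d) r, hGA _ _,
    PowerSeries.nat_le_order _ _ fun i hi => by rw [map_sub, hφ (n + d) r i (by omega), sub_self]⟩
  have heq : h = ∑ r, φ r * b r := by
    ext i
    have h1 := hres (i + d) i (by omega)
    rw [map_sub, sub_eq_zero] at h1
    rw [h1, map_sum, map_sum]
    refine Finset.sum_congr rfl fun r _ => ?_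
    rw [PowerSeries.coeff_mul, PowerSeries.coeff_mul]
    refine Finset.sum_congr rfl fun p hp => ?_
    rw [hφ (i + d) r p.1 (by have := Finset.mem_antidiagonal.mp hp; omega)]
  rw [heq]
  exact sum_mem fun r _ => N.smul_mem (⟨φ r, hφA r⟩ : A) (hb r)


/-- Let k be an algebraically closed field and A ≠ k[[t]] a k-subalgebra of k[[t]] that is closed in the
t-adic topology and over which k[[t]] is a finite module (as for the complete local ring of a
unibranch curve singularity inside its normalisation), and let Γ ⊆ ℕ be the set of t-orders of the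
nonzero elements of A (its value semigroup). Let M, N be finitely generated A-submodules of k[[t]]
containing 1 (rank-one torsion-free modules in normal form), with value sets Γ(M), Γ(N) (orders of
their nonzero elements); the A-linear maps M → N are the multiplications by power series u with uM ⊆
N. Then the order of every such nonzero u satisfies n + Γ(M) ⊆ Γ(N), and although the set of these
orders can be smaller than S = {n | n + Γ(M) ⊆ Γ(N)}, the two sets have the same conductor: for
every c', all integers n ≥ c' are orders of multipliers exactly when all n ≥ c' lie in S. -/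
theorem result (k : Type u) [Field k] [IsAlgClosed k] (A : Subalgebra k (PowerSeries k)) (hA : Module.Finite ↥A (PowerSeries k)) (hcl : ∀ f : PowerSeries k, (∀ n : ℕ, ∃ g ∈ A, (n : ℕ∞) ≤ PowerSeries.order (f - g)) → f ∈ A) (hsing : A ≠ ⊤) (Γ : Set ℕ) (hΓ : ∀ n : ℕ, n ∈ Γ ↔ ∃ f ∈ A, PowerSeries.order f = n) (M N : Submodule ↥A (PowerSeries k)) (hMfg : M.FG) (hNfg : N.FG) (hM1 : (1 : PowerSeries k) ∈ M) (hN1 : (1 : PowerSeries k) ∈ N) (ΓM ΓN : Set ℕ) (hΓM : ∀ n : ℕ, n ∈ ΓM ↔ ∃ f ∈ M, PowerSeries.order f = n) (hΓN : ∀ n : ℕ, n ∈ ΓN ↔ ∃ f ∈ N, PowerSeries.order f = n) : (∀ n : ℕ, (∃ u : PowerSeries k, PowerSeries.order u = n ∧ ∀ m ∈ M, u * m ∈ N) → ∀ a ∈ ΓM, n + a ∈ ΓN) ∧ ∀ c' : ℕ, (∀ n : ℕ, c' ≤ n → ∃ u : PowerSeries k, PowerSeries.order u = n ∧ ∀ m ∈ M, u * m ∈ N) ↔ (∀ n : ℕ, c' ≤ n → ∀ a ∈ ΓM, n + a ∈ ΓN) := by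
  obtain ⟨a, ha, hd⟩ : ∃ a ∈ A, ∃ d : ℕ, a.order = d ∧ 0 < d := by
    by_contra hcon
    push Not at hcon
    have hall : ∀ f ∈ A, f = PowerSeries.C (PowerSeries.constantCoeff f) := by
      intro f hf
      by_contra hne
      obtain ⟨d, hd⟩ := ENat.ne_top_iff_exists.mp
        (mt PowerSeries.order_eq_top.mp (sub_ne_zero.mpr hne))
      have h1 := hcon (f - PowerSeries.C (PowerSeries.constantCoeff f))
        (A.sub_mem hf (A.algebraMap_mem _)) d hd.symm
      obtain rfl : d = 0 := by omega
      exact (PowerSeries.order_eq_nat.mp hd.symm).1 (by simp)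
    obtain ⟨S, hS⟩ := hA.fg_top
    have hfin : Module.Finite k (PowerSeries k) := by
      refine ⟨⟨S, eq_top_iff.mpr fun x htop => ?_⟩⟩
      clear htop
      have hx : x ∈ Submodule.span A (S : Set (PowerSeries k)) := by rw [hS]; trivial
      induction hx using Submodule.span_induction with
      | mem y hy => exact Submodule.subset_span hy
      | zero => exact zero_mem _
      | add y z _ _ hy hz => exact add_mem hy hz
      | smul r y _ hy =>
        rw [show r • y = (r : PowerSeries k) * y from rfl, hall r r.2, ← PowerSeries.smul_eq_C_mul]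
        exact Submodule.smul_mem _ _ hy
    have hli : LinearIndependent k fun n : ℕ => (PowerSeries.X : PowerSeries k) ^ n := by
      rw [linearIndependent_iff']
      intro s g hg i hi
      have := congrArg (PowerSeries.coeff i) hg
      simpa [PowerSeries.coeff_X_pow, hi] using this
    have := hli.finite
    exact not_finite ℕ
  obtain ⟨d, hd, hd0⟩ := hd
  have first : ∀ n : ℕ, (∃ u : PowerSeries k, PowerSeries.order u = n ∧ ∀ m ∈ M, u * m ∈ N) →
      ∀ a ∈ ΓM, n + a ∈ ΓN := by
    rintro n ⟨u, hu, huM⟩ j hj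
    obtain ⟨m, hm, hmo⟩ := (hΓM j).mp hj
    exact (hΓN _).mpr ⟨u * m, huM m hm, by rw [PowerSeries.order_mul, hu, hmo, Nat.cast_add]⟩
  refine ⟨first, fun c' => ⟨fun h n hn => first n (h n hn), fun h n hn => ?_⟩⟩
  have h0 : (0 : ℕ) ∈ ΓM := (hΓM 0).mpr ⟨1, hM1, by simp⟩
  have hval : ∀ m, c' ≤ m → ∃ f ∈ N, f.order = m := fun m hm => (hΓN m).mp (by simpa using h m hm 0 h0)
  refine ⟨PowerSeries.X ^ n, by simp, fun m _ => mem_of_orders A hcl N ha hd hd0 c' hval ?_⟩
  rw [PowerSeries.order_mul, PowerSeries.order_X_pow]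
  exact le_trans (by exact_mod_cast hn) le_self_add

end Groth.Agent.S15034
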