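import Groth.Statements.S15037
import Mathlib.Tactic
import Mathlib.Data.Nat.Nth

set_option autoImplicit false
open TFCurv

namespace Groth.Agent.S15037

/-- Let Γ be a numerical semigroup (a submonoid of (ℕ, +) with finite complement), Γ ≠ ℕ, with conductor
c (every n ≥ c lies in Γ, c − 1 does not); let S and S' ⊆ ℕ be Γ-modules in normal form with
conductors c(S), c(S'), let δ(S), δ(S') be their numbers of gaps and r(S), r(S') their numbers of
elements below the conductor, and enumerate them increasingly as s_i, s'_i (i ≥ 0). With τ_i(S) =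
s_i + ℓ(S) and ℓ(S) = δ(Γ) − δ(S), the termwise order τ(S) ≤ τ(S') reads s_i + δ(S') ≤ s'_i + δ(S)
for all i. It holds if and only if r(S') ≤ r(S) and s_i + δ(S') ≤ s'_i + δ(S) for all i < r(S')
(beyond r(S) the entries τ_i(S) = i + δ(Γ) are the largest possible). -/
theorem result (Γ : AddSubmonoid ℕ) (c : ℕ) (hc : ∀ n : ℕ, c ≤ n → n ∈ Γ) (hc0 : c ≠ 0) (hc1 : c - 1 ∉ Γ) (S : Set ℕ) (hS0 : (0 : ℕ) ∈ S) (hS : ∀ γ : ℕ, γ ∈ Γ → ∀ s : ℕ, s ∈ S → γ + s ∈ S) (cS : ℕ) (hcS : ∀ n : ℕ, cS ≤ n → n ∈ S) (hcS1 : cS = 0 ∨ cS - 1 ∉ S) (S' : Set ℕ) (hS'0 : (0 : ℕ) ∈ S') (hS' : ∀ γ : ℕ, γ ∈ Γ → ∀ s : ℕ, s ∈ S' → γ + s ∈ S') (cS' : ℕ) (hcS' : ∀ n : ℕ, cS' ≤ n → n ∈ S') (hcS'1 : cS' = 0 ∨ cS' - 1 ∉ S') : (∀ i : ℕ, Nat.nth (fun m => m ∈ S) i + S'ᶜ.ncard ≤ Nat.nth (fun m => m ∈ S') i + Sᶜ.ncard) ↔ ((S' ∩ Set.Iio cS').ncard ≤ (S ∩ Set.Iio cS).ncard ∧ ∀ i : ℕ, i < (S' ∩ Set.Iio cS').ncard → Nat.nth (fun m => m ∈ S) i + S'ᶜ.ncard ≤ Nat.nth (fun m => m ∈ S')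 i + Sᶜ.ncard) := by
  classical
  have gen : ∀ (T : Set ℕ) (cT : ℕ), (∀ n, cT ≤ n → n ∈ T) → (cT = 0 ∨ cT - 1 ∉ T) →
      (∀ i, Nat.nth (fun m => m ∈ T) i ≤ i + Tᶜ.ncard) ∧
      (∀ i, (T ∩ Set.Iio cT).ncard ≤ i → Nat.nth (fun m => m ∈ T) i = i + Tᶜ.ncard) ∧
      (∀ i, i < (T ∩ Set.Iio cT).ncard → Nat.nth (fun m => m ∈ T) i < i + Tᶜ.ncard) := by
    intro T cT hT hT1
    have hinf : (setOf fun m => m ∈ T).Infinite := (Set.Ici_infinite cT).mono fun n hn => hT n hn
    have hfin : Tᶜ.Finite := (Set.finite_Iio cT).subset fun n hn => by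
      by_contra h
      exact hn (hT n (by simpa using h))
    have hsplit : ∀ n, Nat.count (fun m => m ∈ T) n + (Tᶜ ∩ Set.Iio n).ncard = n := by
      intro n
      have h1 : Nat.count (fun m => m ∈ T) n = (T ∩ Set.Iio n).ncard := by
        rw [Nat.count_eq_card_filter_range, ← Set.ncard_coe_finset]
        congr 1
        ext x
        simp [and_comm]
      rw [h1, ← Set.ncard_union_eq (Set.disjoint_left.mpr fun x (hx : x ∈ T ∩ _) (hx' : x ∈ Tᶜ ∩ _) => hx'.1 hx.1)
          ((Set.finite_Iio n).subset Set.inter_subset_right) ((Set.finite_Iio n).subset Set.inter_subset_right),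
        ← Set.union_inter_distrib_right, Set.union_compl_self, Set.univ_inter,
        ← Finset.coe_Iio, Set.ncard_coe_finset, Nat.card_Iio]
    have hr : Nat.count (fun m => m ∈ T) cT = (T ∩ Set.Iio cT).ncard := by
      rw [Nat.count_eq_card_filter_range, ← Set.ncard_coe_finset]
      congr 1
      ext x
      simp [and_comm]
    have hδ : ∀ n, cT ≤ n → (Tᶜ ∩ Set.Iio n).ncard = Tᶜ.ncard := by
      intro n hn
      congr 1
      exact Set.inter_eq_left.mpr fun x hx => by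
        by_contra h
        exact hx (hT x (by simp only [Set.mem_Iio, not_lt] at h; omega))
    refine ⟨fun i => ?_, fun i hi => ?_, fun i hi => ?_⟩
    · have h1 := hsplit (Nat.nth (fun m => m ∈ T) i)
      rw [Nat.count_nth_of_infinite hinf] at h1
      have h2 : (Tᶜ ∩ Set.Iio (Nat.nth (fun m => m ∈ T) i)).ncard ≤ Tᶜ.ncard :=
        Set.ncard_le_ncard Set.inter_subset_left hfin
      omega
    · have hge : cT ≤ Nat.nth (fun m => m ∈ T) i := by
        by_contra h
        have := Nat.count_strict_mono (p := fun m => m ∈ T) (Nat.nth_mem_of_infinite hinf i)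
          (show Nat.nth (fun m => m ∈ T) i < cT by omega)
        rw [Nat.count_nth_of_infinite hinf, hr] at this
        omega
      have h1 := hsplit (Nat.nth (fun m => m ∈ T) i)
      rw [Nat.count_nth_of_infinite hinf, hδ _ hge] at h1
      omega
    · have hlt : Nat.nth (fun m => m ∈ T) i < cT := Nat.nth_lt_of_lt_count (hr ▸ hi)
      have h1 := hsplit (Nat.nth (fun m => m ∈ T) i)
      rw [Nat.count_nth_of_infinite hinf] at h1
      have hgap : cT - 1 ∈ Tᶜ := hT1.resolve_left (by omega)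
      have h2 : (Tᶜ ∩ Set.Iio (Nat.nth (fun m => m ∈ T) i)).ncard < Tᶜ.ncard := by
        refine Set.ncard_lt_ncard ?_ hfin
        refine Set.inter_subset_left.ssubset_of_mem_notMem hgap fun h => ?_
        have := h.2
        simp only [Set.mem_Iio] at this
        omega
      omega
  obtain ⟨gS1, gS2, -⟩ := gen S cS hcS hcS1
  obtain ⟨-, gS'2, gS'3⟩ := gen S' cS' hcS' hcS'1
  constructor
  · refine fun h => ⟨?_, fun i _ => h i⟩
    by_contra hlt
    push Not at hlt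
    have h1 := gS2 _ le_rfl
    have h2 := gS'3 _ hlt
    have h3 := h (S ∩ Set.Iio cS).ncard
    omega
  · rintro ⟨-, h⟩ i
    by_cases hi : i < (S' ∩ Set.Iio cS').ncard
    · exact h i hi
    · have := gS'2 i (by omega)
      have := gS1 i
      omega

end Groth.Agent.S15037
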