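import Groth.Statements.S15038
import Mathlib.Tactic
import Mathlib.Algebra.Group.Submonoid.Membership

set_option autoImplicit false
open TFCurv

namespace Groth.Agent.S15038

/-- Let Γ be a numerical semigroup (a submonoid of (ℕ, +) with finite complement), Γ ≠ ℕ, with conductor
c (every n ≥ c lies in Γ, c − 1 does not). If Γ is symmetric (for x < c, x is a gap exactly when c −
1 − x ∈ Γ) and its multiplicity e, the least nonzero element of Γ, is greater than 2, then Γ is
generated as an additive monoid by at most e − 1 elements. -/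
theorem result (Γ : AddSubmonoid ℕ) (c : ℕ) (hc : ∀ n : ℕ, c ≤ n → n ∈ Γ) (hc0 : c ≠ 0) (hc1 : c - 1 ∉ Γ) (hsymm : ∀ x : ℕ, x < c → (x ∉ Γ ↔ c - 1 - x ∈ Γ)) (e : ℕ) (he : e ∈ Γ) (he0 : e ≠ 0) (hemin : ∀ γ : ℕ, γ ∈ Γ → γ ≠ 0 → e ≤ γ) (he2 : 2 < e) : ∃ G : Finset ℕ, G.card ≤ e - 1 ∧ AddSubmonoid.closure (↑G : Set ℕ) = Γ := by
  classical
  set f := c - 1 + e with hf
  let T := (Finset.range (c + e)).filter fun w => w ∈ Γ ∧ e < w ∧ w - e ∉ Γ ∧ w ≠ f
  have hT : ∀ {w}, w ∈ T ↔ w ∈ Γ ∧ e < w ∧ w - e ∉ Γ ∧ w ≠ f := by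
    intro w
    simp only [T, Finset.mem_filter, Finset.mem_range]
    refine ⟨fun h => h.2, fun h => ⟨?_, h⟩⟩
    by_contra hlt
    exact h.2.2.1 (hc _ (by omega))
  have hmul : ∀ j : ℕ, j * e ∈ Γ := fun j => by simpa using Γ.nsmul_mem he j
  have hmod : ∀ w, w ∈ Γ → w - e ∉ Γ → e ≤ w → ∀ v ∈ Γ, v % e = w % e → w ≤ v := by
    intro w hw hwe hew v hv hmod
    by_contra hlt
    obtain ⟨j, hj⟩ := (Nat.modEq_iff_dvd' (show v ≤ w by omega)).mp hmod
    rcases eq_or_ne j 0 with rfl | hj0
    · simp at hj; omega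
    · obtain ⟨i, rfl⟩ := Nat.exists_eq_succ_of_ne_zero hj0
      refine hwe ?_
      rw [show w - e = v + i * e by rw [Nat.mul_succ] at hj; rw [mul_comm i e]; omega]
      exact Γ.add_mem hv (hmul i)
  have hfΓ : f ∈ Γ := hc _ (by omega)
  have hfe : f - e ∉ Γ := by rw [hf, Nat.add_sub_cancel]; exact hc1
  have hf0 : f % e ≠ 0 := by
    intro h
    have := hmod f hfΓ hfe (by omega) 0 Γ.zero_mem (by rw [h, Nat.zero_mod])
    omega
  have hT0 : ∀ w ∈ T, w % e ≠ 0 := fun w hw h => by
    have := hmod w (hT.mp hw).1 (hT.mp hw).2.2.1 (hT.mp hw).2.1.le 0 Γ.zero_mem (by rw [h, Nat.zero_mod])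
    have := (hT.mp hw).2.1
    omega
  have hTcard : T.card ≤ e - 2 := by
    calc T.card ≤ (((Finset.range e).erase 0).erase (f % e)).card := by
          refine Finset.card_le_card_of_injOn (fun w => w % e) (fun w hw => ?_) fun a ha b hb hab => ?_
          · obtain ⟨h1, h2, h3, h4⟩ := hT.mp hw
            simp only [Finset.coe_erase, Set.mem_sdiff, Finset.mem_coe, Finset.mem_range,
              Set.mem_singleton_iff]
            refine ⟨⟨Nat.mod_lt _ (by omega), hT0 w hw⟩, fun h => h4 ?_⟩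
            have := hmod w h1 h3 h2.le f hfΓ h.symm
            have := hmod f hfΓ hfe (by omega) w h1 h
            omega
          · obtain ⟨a1, a2, a3, -⟩ := hT.mp ha
            obtain ⟨b1, b2, b3, -⟩ := hT.mp hb
            have := hmod a a1 a3 a2.le b b1 hab.symm
            have := hmod b b1 b3 b2.le a a1 hab
            omega
      _ = e - 2 := by
          rw [Finset.card_erase_of_mem (by simp [hf0, Nat.mod_lt f (show 0 < e by omega)]),
            Finset.card_erase_of_mem (by simp; omega), Finset.card_range]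
          omega
  obtain ⟨w₀, hw₀⟩ : ∃ w, w ∈ T := by
    obtain ⟨r, hr0, hrf, hre⟩ : ∃ r, r ≠ 0 ∧ r ≠ f % e ∧ r < e := by
      rcases eq_or_ne (f % e) 1 with h | h
      · exact ⟨2, by omega, by omega, he2⟩
      · exact ⟨1, by omega, h.symm, by omega⟩
    have hex : ∃ m, m ∈ Γ ∧ m % e = r := ⟨r + c * e, hc _ (le_add_left (Nat.le_mul_of_pos_right c (by omega))),
      by rw [Nat.add_mul_mod_self_right, Nat.mod_eq_of_lt hre]⟩
    obtain ⟨hmΓ, hmr⟩ := Nat.find_spec hex
    have h0 : Nat.find hex ≠ 0 := fun h => by rw [h, Nat.zero_mod] at hmr; omega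
    have hle := hemin _ hmΓ h0
    have hne : Nat.find hex ≠ e := fun h => by rw [h, Nat.mod_self] at hmr; omega
    refine ⟨Nat.find hex, hT.mpr ⟨hmΓ, by omega, fun h => ?_, fun h => hrf (by rw [← hmr, h])⟩⟩
    have := Nat.find_min' hex ⟨h, by rw [← Nat.mod_eq_sub_mod hle, hmr]⟩
    omega
  refine ⟨insert e T, (Finset.card_insert_le _ _).trans (by omega), le_antisymm
    (AddSubmonoid.closure_le.mpr ?_) ?_⟩
  · intro x hx
    rcases Finset.mem_insert.mp hx with rfl | hx
    · exact he
    · exact (hT.mp hx).1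
  · intro n hn
    induction n using Nat.strong_induction_on with
    | _ n ih =>
      rcases eq_or_ne n 0 with rfl | h0
      · exact zero_mem _
      have hle := hemin n hn h0
      have heG : e ∈ AddSubmonoid.closure (↑(insert e T) : Set ℕ) :=
        AddSubmonoid.subset_closure (Finset.mem_insert_self _ _)
      by_cases hne : n - e ∈ Γ
      · have := add_mem (ih _ (by omega) hne) heG
        rwa [Nat.sub_add_cancel hle] at this
      by_cases hnf : n = f
      · obtain ⟨h1, h2, h3, h4⟩ := hT.mp hw₀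
        have hlt : w₀ - e < c := by by_contra h; exact h3 (hc _ (by omega))
        have hsub : n - w₀ ∈ Γ := by
          rw [show n - w₀ = c - 1 - (w₀ - e) by omega]
          exact (hsymm _ hlt).mp h3
        have := add_mem (ih _ (by omega) hsub)
          (AddSubmonoid.subset_closure (Finset.mem_insert_of_mem hw₀) :
            w₀ ∈ AddSubmonoid.closure (↑(insert e T) : Set ℕ))
        rwa [Nat.sub_add_cancel (by omega)] at this
      · refine AddSubmonoid.subset_closure (Finset.mem_insert_of_mem (hT.mpr ⟨hn, ?_, hne, hnf⟩))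
        rcases eq_or_lt_of_le hle with h | h
        · exact absurd (show n - e ∈ Γ by rw [← h, Nat.sub_self]; exact Γ.zero_mem) hne
        · exact h

end Groth.Agent.S15038
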