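import Groth.Statements.S15039
import Groth.Agent.Lib.TFCurv11.NormPushUnique
import Groth.Agent.Lib.TFCurv11.Normalization

set_option autoImplicit false
universe u
open CategoryTheory CategoryTheory.Limits AlgebraicGeometry
open TFCurv

namespace Groth.Agent.S15039

set_option backward.isDefEq.respectTransparency false


/-- Let X be an integral proper curve (integral, proper, of dimension one) over an algebraically closed
field k, with normalisation ν : X~ → X, and write Õ_x for the integral closure of the local ring
O_{X,x} in the function field of X. Then ν_* induces a bijection from isomorphism classes of locally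
free modules of rank n on X~ to isomorphism classes of coherent O_X-modules all of whose stalks F_x
are isomorphic to Õ_x^n as O_{X,x}-modules: every such module is isomorphic to ν_*E for some locally
free E of rank n on X~, and two locally free modules of rank n on X~ with isomorphic direct images
are isomorphic. -/
theorem result (k : Type u) [Field k] [IsAlgClosed k] (X : Scheme.{u}) [X.Over (Spec (CommRingCat.of k))] [IsIntegral X] [IsProper (X ↘ Spec (CommRingCat.of k))] (hdim : topologicalKrullDim X = 1) [QuasiCompact (X.fromSpecStalk (genericPoint X))] [QuasiSeparated (X.fromSpecStalk (genericPoint X))] (n : ℕ) : (∀ F : X.Modules, Coh.IsCoh F → (∀ x : X, Nonempty (↑(F.presheaf.stalk x) ≃ₗ[↑(X.presheaf.stalk x)] (Fin n → ↥(integralClosure ↑(X.presheaf.stalk x) X.functionField)))) → ∃ E : (Curv2.normalization X).Modules, FlatMod.IsFinLocFreeOfRank n E ∧ Nonempty ((Coh.push (Curv2.normalizationι X)).obj E ≅ F)) ∧ (∀ E E' : (Curv2.normalization X).Modules, FlatMod.IsFinLocFreeOfRank n E → FlatMod.IsFinLocFreeOfRank n E' → Nonempty ((Coh.push (Curv2.normalizationι X)).obj E ≅ (Coh.push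 (Curv2.normalizationι X)).obj E') → Nonempty (E ≅ E')) := by
  haveI := GrothLib.Euler.isNoetherian_of_proper (X := X) k
  obtain ⟨hfin, -, -⟩ := GrothLib.TFCurv11.normalization_data k X hdim
  haveI := hfin
  haveI : IsLocallyNoetherian (Curv2.normalization X) :=
    LocallyOfFiniteType.isLocallyNoetherian (Curv2.normalizationι X)
  refine ⟨fun F hF h => GrothLib.NormPush11.exists_push_iso hdim.le hF h, fun E E' hE hE' he => ?_⟩
  obtain ⟨e⟩ := he
  have hEf : FlatMod.IsFinLocFree E := fun x => by obtain ⟨U, hx, e⟩ := hE x; exact ⟨U, n, hx, e⟩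
  have hEf' : FlatMod.IsFinLocFree E' := fun x => by obtain ⟨U, hx, e⟩ := hE' x; exact ⟨U, n, hx, e⟩
  haveI := (GrothLib.Euler.isCoh_of_isFinLocFree hEf).1
  haveI := (GrothLib.Euler.isCoh_of_isFinLocFree hEf').1
  exact GrothLib.NormPush11.iso_of_push_iso (GrothLib.Euler.isTorsionFree_of_mono (CategoryStruct.id E) hEf)
    (GrothLib.Euler.isTorsionFree_of_mono (CategoryStruct.id E') hEf') e

end Groth.Agent.S15039
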