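import Groth.Statements.S15040
import Groth.Agent.Lib.TFCurv11.ExtOne
import Mathlib.LinearAlgebra.Dual.Lemmas

set_option autoImplicit false
universe u
open CategoryTheory
open TFCurv

namespace Groth.Agent.S15040

set_option backward.isDefEq.respectTransparency false


/-- Let O be a one-dimensional Gorenstein local domain with algebraically closed residue field whose
integral closure O~ in its fraction field K is a finite O-module, and let M be an intermediate ring
O ⊆ M ⊆ O~ (an overring of O), viewed as an O-module. Put M⁻¹ = {x ∈ K | x·M ⊆ O}, which lies in O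
and is identified with an ideal of O. Then Ext¹_O(M, M) and Hom_O(M⁻¹, O/M⁻¹) are isomorphic abelian
groups (existence of an additive isomorphism only). -/
theorem result (O : Type u) [CommRing O] [IsDomain O] [LocCoh.IsGorensteinLocalRing O] (hdim : ringKrullDim O = 1) [IsAlgClosed (IsLocalRing.ResidueField O)] (K : Type u) [Field K] [Algebra O K] [IsFractionRing O K] (hfin : Module.Finite O ↥(integralClosure O K)) (M : Subalgebra O K) (hM : M ≤ integralClosure O K) : Nonempty (Abelian.Ext (ModuleCat.of O ↥M) (ModuleCat.of O ↥M) 1 ≃+ (↥((1 : Submodule O K) / Subalgebra.toSubmodule M) →ₗ[O] (O ⧸ Submodule.comap (Algebra.linearMap O K) ((1 : Submodule O K) / Subalgebra.toSubmodule M)))) := by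
  classical
  haveI : LocCoh.IsGorensteinRing O :=
    { isGorensteinLocalRing_localization := fun p _ => GrothLib.Gor.isGorensteinLocalRing_localization p
        (LocCoh.IsGorensteinLocalRing.exists_hasInjectiveDimensionLT (A := O)).choose_spec }
  haveI : Module.Finite O ↥(integralClosure O K) := hfin
  haveI : Module.Finite O ↥M := Module.Finite.of_injective
    (Subalgebra.inclusion hM).toLinearMap (Subalgebra.inclusion_injective hM)
  have hinj : Function.Injective (algebraMap O K) := IsFractionRing.injective O K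
  have ev : Function.Injective (Module.Dual.eval O ↥M) := GrothLib.GorDimOne.eval_injective_of_nzd fun s hs m h => by
    refine Subtype.ext ?_
    have h1 : algebraMap O K s * (m : K) = 0 := by rw [← Algebra.smul_def]; exact congrArg Subtype.val h
    exact (mul_eq_zero.1 h1).resolve_left (IsFractionRing.to_map_ne_zero_of_mem_nonZeroDivisors hs)
  haveI : Module.IsReflexive O ↥M := GrothLib.GorDimOne.isReflexive_of_injective_eval hdim.le ↥M ev
  haveI : Module.Finite O (Module.Dual O ↥M) := by
    obtain ⟨m, p, hp⟩ := Module.Finite.exists_fin' O ↥M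
    exact Module.Finite.of_injective p.dualMap (LinearMap.dualMap_injective_of_surjective hp)
  obtain ⟨l, q, hq⟩ := Module.Finite.exists_fin' O (Module.Dual O ↥M)
  let j : ↥M →ₗ[O] (Fin l → O) := LinearMap.pi fun a => q (Pi.single a 1)
  have hj : Function.Injective j := (injective_iff_map_eq_zero j).2 fun x hx => ev (by
    refine LinearMap.ext fun θ => ?_
    obtain ⟨c, rfl⟩ := hq θ
    have h1 : c = ∑ a, c a • (Pi.single a (1 : O) : Fin l → O) := pi_eq_sum_univ' c
    rw [map_zero, LinearMap.zero_apply, Module.Dual.eval_apply, h1]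
    simp only [map_sum, map_smul, LinearMap.sum_apply, LinearMap.smul_apply]
    exact Finset.sum_eq_zero fun a _ => by rw [show q (Pi.single a 1) x = 0 from congrFun hx a, smul_zero])
  obtain ⟨m, p, hp⟩ := Module.Finite.exists_fin' O ↥M
  let i : LinearMap.ker p →ₗ[O] (Fin m → O) := (LinearMap.ker p).subtype
  have hi : Function.Injective i := Subtype.val_injective
  have hex : Function.Exact i p := LinearMap.exact_subtype_ker_map p
  -- `Ext¹(M, M)` as a cokernel
  obtain ⟨e₁⟩ := GrothLib.TFCurv11.exists_cok_pre i p hi hex hp ↥M (GrothLib.TFCurv11.subsingleton_ext_one_free _ _)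
  -- the dual sequence
  let eF : Module.Dual O (Fin m → O) ≃ₗ[O] (Fin m → O) := ((Pi.basisFun O (Fin m)).toDualEquiv).symm
  let f' : Module.Dual O ↥M →ₗ[O] (Fin m → O) := eF.toLinearMap.comp p.dualMap
  let g' : (Fin m → O) →ₗ[O] Module.Dual O (LinearMap.ker p) := i.dualMap.comp eF.symm.toLinearMap
  have hf' : Function.Injective f' := eF.injective.comp (LinearMap.dualMap_injective_of_surjective hp)
  have hg' : Function.Surjective g' := by
    obtain ⟨e₀⟩ := GrothLib.TFCurv11.exists_cok_pre i p hi hex hp O (GrothLib.TFCurv11.subsingleton_ext_one_free _ _)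
    haveI := GrothLib.TFCurv11.subsingleton_ext_one_self hdim.le ↥M j hj
    haveI := e₀.toEquiv.subsingleton
    intro φ
    have h : (Submodule.Quotient.mk φ : (LinearMap.ker p →ₗ[O] O) ⧸ LinearMap.range (LinearMap.lcomp O O i)) = 0 :=
      Subsingleton.elim _ _
    obtain ⟨ψ, hψ⟩ := (Submodule.Quotient.mk_eq_zero _).1 h
    exact ⟨eF ψ, by show i.dualMap (eF.symm (eF ψ)) = φ; rw [LinearEquiv.symm_apply_apply]; exact hψ⟩
  have hex' : Function.Exact f' g' := by
    intro y
    constructor
    · intro hy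
      let θ := eF.symm y
      have hle : LinearMap.ker p ≤ LinearMap.ker θ := fun z hz => LinearMap.congr_fun hy ⟨z, hz⟩
      let φ : ↥M →ₗ[O] O := ((LinearMap.ker p).liftQ θ hle).comp (p.quotKerEquivOfSurjective hp).symm.toLinearMap
      refine ⟨φ, ?_⟩
      show eF (p.dualMap φ) = y
      rw [← LinearEquiv.eq_symm_apply]
      refine LinearMap.ext fun z => ?_
      show (LinearMap.ker p).liftQ θ hle ((p.quotKerEquivOfSurjective hp).symm (p z)) = θ z
      rw [show (p.quotKerEquivOfSurjective hp).symm (p z) = Submodule.Quotient.mk z from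
        (LinearEquiv.symm_apply_eq _).2 rfl]
      rfl
    · rintro ⟨φ, rfl⟩
      show i.dualMap (eF.symm (eF (p.dualMap φ))) = 0
      rw [LinearEquiv.symm_apply_apply]
      refine LinearMap.ext fun z => ?_
      show φ (p z.1) = 0
      rw [LinearMap.mem_ker.1 z.2, map_zero]
  -- `Ext¹(M*, M*)` as a cokernel
  obtain ⟨m', p', hp'⟩ := Module.Finite.exists_fin' O (Module.Dual O ↥M)
  obtain ⟨e₂⟩ := GrothLib.TFCurv11.exists_cok_post f' g' hf' hex' hg' (Module.Dual O ↥M)
    (GrothLib.TFCurv11.subsingleton_ext_one_pi hdim.le (LinearMap.ker p').subtype p' Subtype.val_injective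
      (LinearMap.exact_subtype_ker_map p') hp' f' hf' m)
  let D := GrothLib.TFCurv11.dualHomEquiv (O := O) (LinearMap.ker p) ↥M
  have hmap : Submodule.map (D : (LinearMap.ker p →ₗ[O] ↥M) →ₗ[O] _) (LinearMap.range (LinearMap.lcomp O ↥M i)) =
      LinearMap.range (GrothLib.TFCurv11.postC g' (Module.Dual O ↥M)) := by
    let DF := GrothLib.TFCurv11.dualHomEquiv (O := O) (Fin m → O) ↥M
    ext x
    constructor
    · rintro ⟨_, ⟨ψ, rfl⟩, rfl⟩
      refine ⟨eF.toLinearMap.comp (DF ψ), LinearMap.ext fun θ => ?_⟩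
      show i.dualMap (eF.symm (eF (DF ψ θ))) = _
      rw [LinearEquiv.symm_apply_apply]
      rfl
    · rintro ⟨y, rfl⟩
      refine ⟨(DF.symm (eF.symm.toLinearMap.comp y)).comp i, ⟨DF.symm (eF.symm.toLinearMap.comp y), rfl⟩, ?_⟩
      have h2 : DF (DF.symm (eF.symm.toLinearMap.comp y)) = eF.symm.toLinearMap.comp y := DF.apply_symm_apply _
      show D ((DF.symm (eF.symm.toLinearMap.comp y)).comp i) = _
      refine LinearMap.ext fun θ => ?_
      show i.dualMap (DF (DF.symm (eF.symm.toLinearMap.comp y)) θ) = _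
      rw [h2]
      rfl
  let E₁ : Abelian.Ext (ModuleCat.of O ↥M) (ModuleCat.of O ↥M) 1 ≃+
      Abelian.Ext (ModuleCat.of O (Module.Dual O ↥M)) (ModuleCat.of O (Module.Dual O ↥M)) 1 :=
    e₁.symm.trans ((Submodule.Quotient.equiv _ _ D hmap).toAddEquiv.trans e₂)
  -- the ideal `M⁻¹`
  let I : Submodule O K := (1 : Submodule O K) / Subalgebra.toSubmodule M
  have key : ∀ (θ : Module.Dual O ↥M) (x : ↥M), algebraMap O K (θ x) = algebraMap O K (θ 1) * (x : K) := by
    intro θ x
    obtain ⟨⟨a, b⟩, hab⟩ := IsLocalization.surj (nonZeroDivisors O) (x : K)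
    have h1 : (b : O) • x = a • (1 : ↥M) := Subtype.ext (by
      show (b : O) • (x : K) = a • (1 : K)
      rw [Algebra.smul_def, Algebra.smul_def, mul_one, mul_comm]
      exact hab)
    have h2 := congrArg (fun z => algebraMap O K (θ z)) h1
    simp only [map_smul, smul_eq_mul, map_mul] at h2
    refine mul_left_cancel₀ (IsFractionRing.to_map_ne_zero_of_mem_nonZeroDivisors b.2 (K := K)) ?_
    rw [h2, ← hab]
    ring
  have hmem : ∀ θ : Module.Dual O ↥M, algebraMap O K (θ 1) ∈ I := fun θ =>
    Submodule.mem_div_iff_forall_mul_mem.2 fun y hy => Submodule.mem_one.2 ⟨θ ⟨y, hy⟩, key θ ⟨y, hy⟩⟩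
  let T : Module.Dual O ↥M →ₗ[O] ↥I := ((Algebra.linearMap O K).comp (LinearMap.applyₗ (1 : ↥M))).codRestrict I hmem
  have hT : Function.Bijective T := by
    refine ⟨(injective_iff_map_eq_zero T).2 fun θ hθ => LinearMap.ext fun x => hinj ?_, fun z => ?_⟩
    · rw [key, show algebraMap O K (θ 1) = 0 from congrArg Subtype.val hθ, zero_mul, LinearMap.zero_apply, map_zero]
    · have hz := Submodule.mem_div_iff_forall_mul_mem.1 z.2
      choose b hb using fun x : ↥M => Submodule.mem_one.1 (hz x.1 x.2)
      let θ : Module.Dual O ↥M :=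
        { toFun := b
          map_add' := fun x y => hinj (by rw [map_add, hb, hb, hb]; exact mul_add _ _ _)
          map_smul' := fun r x => hinj (by
            rw [RingHom.id_apply, smul_eq_mul, map_mul, hb, hb]
            show (z : K) * (r • (x : K)) = _
            rw [Algebra.smul_def]
            ring) }
      refine ⟨θ, Subtype.ext ?_⟩
      show algebraMap O K (b 1) = z
      rw [hb]
      exact mul_one _
  let φ₁ : Module.Dual O ↥M →ₗ[O] O := LinearMap.applyₗ (1 : ↥M)
  have hφ₁ : Function.Injective φ₁ := fun a b h => hT.1 (Subtype.ext (congrArg (algebraMap O K) h))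
  have hrange : LinearMap.range φ₁ = Submodule.comap (Algebra.linearMap O K) I := by
    ext x
    constructor
    · rintro ⟨θ, rfl⟩
      exact hmem θ
    · intro hx
      obtain ⟨θ, hθ⟩ := hT.2 ⟨algebraMap O K x, hx⟩
      exact ⟨θ, hinj (congrArg Subtype.val hθ)⟩
  let π := (Submodule.comap (Algebra.linearMap O K) I).mkQ
  have hexI : Function.Exact φ₁ π := by
    rw [LinearMap.exact_iff, hrange, Submodule.ker_mkQ]
  obtain ⟨e₃⟩ := GrothLib.TFCurv11.exists_cok_post φ₁ π hφ₁ hexI (Submodule.mkQ_surjective _) (Module.Dual O ↥M)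
    (GrothLib.TFCurv11.subsingleton_ext_one_self hdim.le (Module.Dual O ↥M) f' hf')
  have hzero : LinearMap.range (GrothLib.TFCurv11.postC π (Module.Dual O ↥M)) = ⊥ := by
    rw [eq_bot_iff]
    rintro _ ⟨ψ, rfl⟩
    refine (Submodule.mem_bot O).2 (LinearMap.ext fun θ => ?_)
    obtain ⟨x, rfl⟩ := (Module.bijective_dual_eval O ↥M).2 ψ
    show π (θ x) = 0
    rw [Submodule.mkQ_apply, Submodule.Quotient.mk_eq_zero, Submodule.mem_comap]
    refine Submodule.mem_div_iff_forall_mul_mem.2 fun y hy => Submodule.mem_one.2 ⟨θ (x * ⟨y, hy⟩), ?_⟩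
    show _ = algebraMap O K (θ x) * y
    rw [key θ x, key θ (x * ⟨y, hy⟩)]
    show _ * ((x : K) * y) = _
    ring
  exact ⟨E₁.trans (e₃.symm.trans ((Submodule.quotEquivOfEqBot _ hzero).trans
    ((LinearEquiv.ofBijective T hT).arrowCongr (LinearEquiv.refl O _))).toAddEquiv)⟩

end Groth.Agent.S15040
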