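import Groth.Statements.S15041
import Groth.Agent.Lib.TFCurv11.TwoGenApps
import Groth.Agent.Lib.TFCurv11.E6Norm

set_option autoImplicit false
universe u
open CategoryTheory
open TFCurv

namespace Groth.Agent.S15041

set_option backward.isDefEq.respectTransparency false


/-- Let k be an algebraically closed field of characteristic zero and A ⊂ k[[t]] the complete local ring
of the E_6 singularity, i.e. the k-subalgebra of power series all of whose exponents lie in the
semigroup generated by 3 and 4 (A = k[[t³, t⁴]]). Its rank-one torsion-free modules are A, M₁ = A +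
A·t⁵, its dual M₁* = A + A·t, M₂ = A + A·t² and M₃ = A + A·t + A·t² = k[[t]], of index 0, 1, 1, 2,
3. Then Ext¹_A(M, M) has length 2·index(M): length 2 for M₁ and for M₁*, 4 for M₂ and 6 for M₃
(length over A equals k-dimension). As End_A(M₁) = End_A(M₁*) = M₁, End_A(M₂) = M₂, End_A(M₃) = M₃
have colength 1, 1, 2, 3 over A, this is the identity χ₁(M) = dim Ext¹(M, M) − dim(End(M)/A) =
index(M). -/
theorem result (k : Type u) [Field k] [IsAlgClosed k] [CharZero k] (A : Subalgebra k (PowerSeries k)) (hmono : ∀ f : PowerSeries k, f ∈ A ↔ ∀ n : ℕ, PowerSeries.coeff n f ≠ 0 → n ∈ AddSubmonoid.closure ({3, 4} : Set ℕ)) : Module.length ↥A (Abelian.Ext (ModuleCat.of ↥A ↥(Submodule.span ↥A ({1, (PowerSeries.X : PowerSeries k) ^ 5} : Set (PowerSeries k)))) (ModuleCat.of ↥A ↥(Submodule.span ↥A ({1, (PowerSeries.X : PowerSeries k) ^ 5} : Set (PowerSeries k)))) 1) = 2 ∧ Module.length ↥A (Abelian.Ext (ModuleCat.of ↥A ↥(Submodule.span ↥A ({1, (PowerSeries.X : PowerSeries k)} : Set (PowerSeries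 k)))) (ModuleCat.of ↥A ↥(Submodule.span ↥A ({1, (PowerSeries.X : PowerSeries k)} : Set (PowerSeries k)))) 1) = 2 ∧ Module.length ↥A (Abelian.Ext (ModuleCat.of ↥A ↥(Submodule.span ↥A ({1, (PowerSeries.X : PowerSeries k) ^ 2} : Set (PowerSeries k)))) (ModuleCat.of ↥A ↥(Submodule.span ↥A ({1, (PowerSeries.X : PowerSeries k) ^ 2} : Set (PowerSeries k)))) 1) = 4 ∧ Module.length ↥A (Abelian.Ext (ModuleCat.of ↥A ↥(Submodule.span ↥A ({1, (PowerSeries.X : PowerSeries k), (PowerSeries.X : PowerSeries k) ^ 2} : Set (PowerSeries k)))) (ModuleCat.of ↥A ↥(Submodule.span ↥A ({1, (PowerSeries.X : PowerSeries k), (PowerSeries.X : PowerSeries k) ^ 2} : Set (PowerSeries k)))) 1) = 6 := by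
  have hA := GrothLib.TFCurv11.isMono_E6 hmono
  exact ⟨GrothLib.TFCurv11.length_ext_one_E6_five hA _ rfl, GrothLib.TFCurv11.length_ext_one_E6_one hA _ rfl,
    GrothLib.TFCurv11.length_ext_one_E6_two hA _ rfl,
    GrothLib.TFCurv11.length_ext_one_E6_normalization hA
      ((LinearEquiv.ofEq _ _ (GrothLib.TFCurv11.span_E6_eq_top hA)).trans Submodule.topEquiv)⟩

end Groth.Agent.S15041
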