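import Groth.Statements.S15042
import Groth.Agent.Lib.RootTower4.Scheme

set_option autoImplicit false
open CategoryTheory AlgebraicGeometry
universe u
open Quiet

namespace Groth.Agent.S15042

/-- Over a scheme `X` of prime characteristic `p`, if `f : Y ⟶ X` is quasi-etale (locally on the source
an extraction of `p`-th roots followed by an etale morphism) and `Y'` with its projections `g' : Y'
⟶ Y`, `f' : Y' ⟶ X'` is the fibre product of `f` and a morphism `g : X' ⟶ X`, then `f'` is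
quasi-etale. -/
theorem result (p : ℕ) [Fact p.Prime] {X Y X' Y' : Scheme.{u}} [FrobSch.IsCharP X p]
    (f : Y ⟶ X) (g : X' ⟶ X) (f' : Y' ⟶ X') (g' : Y' ⟶ Y) (H : IsPullback g' f' f g)
    (hf : Quiet.IsQuiet p f) : Quiet.IsQuiet p f' := by
  refine GrothLib.RootTower4.isQuiet_of_charts _ fun y' => ?_
  obtain ⟨_, ⟨V, hV, rfl⟩, hxV, -⟩ :=
    X.isBasis_affineOpens.exists_subset_of_mem_open (Set.mem_univ (f (g' y'))) isOpen_univ
  obtain ⟨C, φ, j, hj, ⟨c, hc⟩, -, hsq, hq⟩ :=
    GrothLib.RootTower4.exists_chart hf (g' y') hV hxV ⊤ trivial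
  have hgV : g (f' y') ∈ V := by
    rw [show g (f' y') = f (g' y') from (congrArg (fun k => k y') H.w).symm]
    exact hxV
  obtain ⟨V', hV', hyV', he⟩ : ∃ V' : X'.Opens, IsAffineOpen V' ∧ f' y' ∈ V' ∧ V' ≤ g ⁻¹ᵁ V :=
    TopologicalSpace.Opens.isBasis_iff_nbhd.mp X'.isBasis_affineOpens hgV
  let a := g.appLE V V' he
  letI : Algebra Γ(X, V) C := φ.hom.toAlgebra
  letI : Algebra Γ(X, V) Γ(X', V') := a.hom.toAlgebra
  let A' := Γ(X', V')
  let C' := CommRingCat.of (TensorProduct Γ(X, V) A' C)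
  let m : Limits.pullback (Spec.map a) (Spec.map φ) ⟶ Limits.pullback g f :=
    Limits.pullback.map _ _ _ _ hV'.fromSpec j hV.fromSpec (IsAffineOpen.SpecMap_appLE_fromSpec g hV hV' he)
      hsq.symm
  let J : Spec C' ⟶ Y' := (pullbackSpecIso Γ(X, V) A' C).inv ≫ m ≫ H.flip.isoPullback.inv
  refine ⟨A', C', CommRingCat.ofHom (algebraMap A' (TensorProduct Γ(X, V) A' C)), J, hV'.fromSpec, ?_, inferInstance,
    ?_, ?_, GrothLib.RootTower4.QuietHom.baseChange hq⟩
  · show IsOpenImmersion ((pullbackSpecIso Γ(X, V) A' C).inv ≫ m ≫ H.flip.isoPullback.inv)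
    infer_instance
  · obtain ⟨t, ht⟩ : H.flip.isoPullback.hom y' ∈ Set.range m := by
      rw [Scheme.Pullback.range_map]
      refine ⟨?_, ?_⟩
      · rw [Set.mem_preimage, ← Scheme.Hom.comp_apply, IsPullback.isoPullback_hom_fst, hV'.range_fromSpec]
        exact hyV'
      · rw [Set.mem_preimage, ← Scheme.Hom.comp_apply, IsPullback.isoPullback_hom_snd]
        exact ⟨c, hc⟩
    refine ⟨(pullbackSpecIso Γ(X, V) A' C).hom t, ?_⟩
    show H.flip.isoPullback.inv (m ((pullbackSpecIso Γ(X, V) A' C).inv ((pullbackSpecIso Γ(X, V) A' C).hom t))) = y'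
    rw [show (pullbackSpecIso Γ(X, V) A' C).inv ((pullbackSpecIso Γ(X, V) A' C).hom t) = t from
        congrArg (fun k => k t) (pullbackSpecIso Γ(X, V) A' C).hom_inv_id, ht]
    exact congrArg (fun k => k y') H.flip.isoPullback.hom_inv_id
  · simp only [J, m, Category.assoc, IsPullback.isoPullback_inv_fst, Limits.pullback.lift_fst]
    rw [← pullbackSpecIso_inv_fst Γ(X, V) A' C, Category.assoc]
    rfl

end Groth.Agent.S15042
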