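import Groth.Statements.S15043
import Groth.Agent.Lib.RootTower4.Scheme

set_option autoImplicit false
open CategoryTheory AlgebraicGeometry
universe u
open Quiet

namespace Groth.Agent.S15043

/-- Over a scheme `X` of prime characteristic `p`, the composite of quasi-etale morphisms `g : Z ⟶ Y`
and `f : Y ⟶ X` (each locally on its source an extraction of `p`-th roots followed by an etale
morphism) is quasi-etale. -/
theorem result (p : ℕ) [Fact p.Prime] {X Y Z : Scheme.{u}} [FrobSch.IsCharP X p]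
    (f : Y ⟶ X) (g : Z ⟶ Y) (hf : Quiet.IsQuiet p f) (hg : Quiet.IsQuiet p g) :
    Quiet.IsQuiet p (g ≫ f) := by
  refine GrothLib.RootTower4.isQuiet_of_appLE _ fun z => ?_
  haveI : FrobSch.IsCharP Y p := FrobSch.IsCharP.of_hom f p
  obtain ⟨_, ⟨V, hV, rfl⟩, hxV, -⟩ :=
    X.isBasis_affineOpens.exists_subset_of_mem_open (Set.mem_univ (f (g z))) isOpen_univ
  obtain ⟨U, hU, e, hzU, h1⟩ := GrothLib.RootTower4.exists_appLE hf (g z) hV hxV
  obtain ⟨W, hW, e', hzW, h2⟩ := GrothLib.RootTower4.exists_appLE hg z hU hzU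
  have e'' : W ≤ (g ≫ f) ⁻¹ᵁ V := fun w hw => e (e' hw)
  refine ⟨V, W, hV, hW, e'', hzW, ?_⟩
  rw [← Scheme.Hom.appLE_comp_appLE g f V U W e e', CommRingCat.hom_comp]
  exact GrothLib.RootTower4.QuietHom.comp (FrobSch.natCast_eq_zero_app X p V) h1 h2

end Groth.Agent.S15043
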