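import Groth.Statements.S15045
import Groth.Agent.Lib.RootTower4.Scheme
import Groth.Agent.Lib.EtaleLiftH2.Quotient

set_option autoImplicit false
open CategoryTheory AlgebraicGeometry
universe u
open Quiet

namespace Groth.Agent.S15045

/-- Let `T` be a scheme of prime characteristic `p`, `i : U ⟶ T` a closed immersion which is surjective
on points, and `f' : U' ⟶ U` quasi-etale (locally on `U'` an extraction of `p`-th roots followed by
an etale morphism). Then every point of `U'` has an open neighbourhood `V` which is the base change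
along `i` of a quasi-etale `T`-scheme: there are a quasi-etale `q : T' ⟶ T` and `j : V ⟶ T'` making
`V`, with `j` and `V ⟶ U' ⟶ U`, the fibre product of `q` and `i`. (The published statement asks `U ⟶
T` to be a closed nil-immersion, a term it does not define; this row takes any closed immersion that
is surjective on points, which is all the printed argument uses.) -/
theorem result (p : ℕ) [Fact p.Prime] {T U U' : Scheme.{u}}
    [FrobSch.IsCharP T p] (i : U ⟶ T) [IsClosedImmersion i] [Surjective i] (f' : U' ⟶ U)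
    (hf' : Quiet.IsQuiet p f') (u : U') :
    ∃ (V : U'.Opens) (T' : Scheme.{u}) (q : T' ⟶ T) (j : (V : Scheme.{u}) ⟶ T'),
      u ∈ V ∧ Quiet.IsQuiet p q ∧ IsPullback j (V.ι ≫ f') q i := by
  haveI : FrobSch.IsCharP U p := FrobSch.IsCharP.of_hom i p
  obtain ⟨_, ⟨T₀, (hT₀ : IsAffineOpen T₀), rfl⟩, huT, -⟩ :=
    T.isBasis_affineOpens.exists_subset_of_mem_open (Set.mem_univ (i (f' u))) isOpen_univ
  let V₀ : U.Opens := i ⁻¹ᵁ T₀
  have hV₀ : IsAffineOpen V₀ := hT₀.preimage i
  obtain ⟨C, φ, j, hj, hu, -, hsq, n, B', _, φ₁, φ₂, hφ, hφ₁, hφ₂⟩ :=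
    GrothLib.RootTower4.exists_chart hf' u hV₀ huT ⊤ trivial
  let A := Γ(T, T₀)
  let ψ : A ⟶ Γ(U, V₀) := i.app T₀
  have hψ : Function.Surjective ψ.hom := i.app_surjective T₀ hT₀
  letI : Algebra A Γ(U, V₀) := ψ.hom.toAlgebra
  letI : Algebra Γ(U, V₀) B' := φ₁.toAlgebra
  letI : Algebra B' C := φ₂.toAlgebra
  letI : Algebra A B' := (φ₁.comp ψ.hom).toAlgebra
  letI : Algebra A C := (φ.hom.comp ψ.hom).toAlgebra
  letI : Algebra Γ(U, V₀) C := φ.hom.toAlgebra
  haveI : IsScalarTower A Γ(U, V₀) B' := IsScalarTower.of_algebraMap_eq fun _ => rfl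
  haveI : IsScalarTower A Γ(U, V₀) C := IsScalarTower.of_algebraMap_eq fun _ => rfl
  haveI : IsScalarTower Γ(U, V₀) B' C := IsScalarTower.of_algebraMap_eq' hφ.symm
  haveI : IsScalarTower A B' C := IsScalarTower.of_algebraMap_eq fun z => (congrArg (fun r => r (ψ.hom z)) hφ).symm
  haveI : Algebra.Etale Γ(U, V₀) B' := hφ₁
  -- lift the étale part
  let I := RingHom.ker (algebraMap A Γ(U, V₀))
  let eI : (A ⧸ I) ≃ₐ[A] Γ(U, V₀) := Ideal.quotientKerAlgEquivOfSurjective (f := Algebra.ofId A Γ(U, V₀)) hψ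
  letI : Algebra (A ⧸ I) B' := (φ₁.comp eI.toRingEquiv.toRingHom).toAlgebra
  haveI : Algebra.Etale (A ⧸ I) B' :=
    RingHom.Etale.stableUnderComposition _ φ₁ (RingHom.Etale.of_bijective eI.bijective) hφ₁
  obtain ⟨B, _, _, hB, ⟨ε⟩⟩ := GrothLib.EtaleLiftH2.exists_etale_lift A I B'
  letI : Algebra B B' := (ε.toRingEquiv.toRingHom.comp Algebra.TensorProduct.includeRight.toRingHom).toAlgebra
  haveI : IsScalarTower A B B' := IsScalarTower.of_algebraMap_eq fun z => by
    show φ₁ (algebraMap A Γ(U, V₀) z) = ε ((1 : A ⧸ I) ⊗ₜ[A] algebraMap A B z)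
    rw [Algebra.algebraMap_eq_smul_one (A := B), ← TensorProduct.smul_tmul, ← eI.commutes z]
    refine Eq.trans ?_ (ε.commutes (algebraMap A (A ⧸ I) z)).symm |>.trans ?_
    · rfl
    · congr 1
      rw [Algebra.TensorProduct.algebraMap_apply, Algebra.smul_def, mul_one]
      rfl
  letI : Algebra B (TensorProduct A Γ(U, V₀) B) := Algebra.TensorProduct.rightAlgebra
  let c₀ : TensorProduct A Γ(U, V₀) B ≃+* B' :=
    (Algebra.TensorProduct.congr eI.symm (AlgEquiv.refl (R := A) (A₁ := B))).toRingEquiv.trans ε.toRingEquiv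
  let c : TensorProduct A Γ(U, V₀) B ≃ₐ[Γ(U, V₀)] B' := AlgEquiv.ofRingEquiv (f := c₀) (fun z => by
    show ε (eI.symm z ⊗ₜ[A] (1 : B)) = φ₁ z
    refine (ε.commutes (eI.symm z)).trans ?_
    show φ₁ (eI (eI.symm z)) = φ₁ z
    rw [eI.apply_symm_apply])
  haveI hpoB : Algebra.IsPushout A Γ(U, V₀) B B' := Algebra.IsPushout.of_equiv c (RingHom.ext fun z => by
    show ε (eI.symm (1 : Γ(U, V₀)) ⊗ₜ[A] z) = ε ((1 : A ⧸ I) ⊗ₜ[A] z)
    rw [map_one])
  have hBs : Function.Surjective (algebraMap B B') := fun z => by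
    obtain ⟨w, rfl⟩ := ε.surjective z
    induction w using TensorProduct.induction_on with
    | zero => exact ⟨0, by simp⟩
    | add x y hx hy =>
      obtain ⟨a, ha⟩ := hx
      obtain ⟨b, hb⟩ := hy
      exact ⟨a + b, by rw [map_add, ha, hb, map_add]⟩
    | tmul q b =>
      obtain ⟨a, rfl⟩ := Ideal.Quotient.mk_surjective q
      refine ⟨a • b, ?_⟩
      show ε ((1 : A ⧸ I) ⊗ₜ[A] (a • b)) = _
      rw [← TensorProduct.smul_tmul, Algebra.smul_def, mul_one]
      rfl
  -- lift the tower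
  letI : Algebra B C := (φ₂.comp (algebraMap B B')).toAlgebra
  haveI : IsScalarTower B B' C := IsScalarTower.of_algebraMap_eq fun _ => rfl
  haveI : IsScalarTower A B C := IsScalarTower.of_algebraMap_eq fun z => by
    show _ = φ₂ (algebraMap B B' (algebraMap A B z))
    rw [← IsScalarTower.algebraMap_apply A B B', IsScalarTower.algebraMap_apply A B' C]
    rfl
  obtain ⟨C₀, _, _, _, _, hC₀, hpoC⟩ := GrothLib.RootTower4.exists_lift n B B' C hBs hφ₂
  letI : Algebra A C₀ := ((algebraMap B C₀).comp (algebraMap A B)).toAlgebra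
  haveI : IsScalarTower A B C₀ := IsScalarTower.of_algebraMap_eq fun _ => rfl
  haveI : IsScalarTower A C₀ C := IsScalarTower.of_algebraMap_eq fun z => by
    show _ = algebraMap C₀ C (algebraMap B C₀ (algebraMap A B z))
    rw [← IsScalarTower.algebraMap_apply B C₀ C, ← IsScalarTower.algebraMap_apply A B C]
  haveI hpo : Algebra.IsPushout A C₀ Γ(U, V₀) C := by
    haveI : Algebra.IsPushout A B Γ(U, V₀) B' := hpoB.symm
    haveI : Algebra.IsPushout B C₀ B' C := hpoC.symm
    exact (Algebra.IsPushout.comp_iff A B Γ(U, V₀) B' (T := C₀) (T' := C)).2 inferInstance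
  -- geometry
  let χ : A ⟶ CommRingCat.of C₀ := CommRingCat.ofHom (algebraMap A C₀)
  let γ : CommRingCat.of C₀ ⟶ C := CommRingCat.ofHom (algebraMap C₀ C)
  have sq₁ : IsPullback (Spec.map γ) (Spec.map φ) (Spec.map χ) (Spec.map ψ) :=
    isPullback_SpecMap_of_isPushout χ ψ γ φ (CommRingCat.isPushout_iff_isPushout.2 hpo)
  have sq₂ : IsPullback (Spec.map ψ) hV₀.fromSpec hT₀.fromSpec i := by
    refine IsOpenImmersion.isPullback _ _ _ _ ?_ ?_
    · have h := IsAffineOpen.SpecMap_appLE_fromSpec i hT₀ hV₀ le_rfl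
      rw [← Scheme.Hom.app_eq_appLE] at h
      exact h.symm
    · rw [hV₀.opensRange_fromSpec, hT₀.opensRange_fromSpec]
  refine ⟨j.opensRange, Spec (CommRingCat.of C₀), Spec.map χ ≫ hT₀.fromSpec, j.isoOpensRange.inv ≫ Spec.map γ,
    hu, ?_, ?_⟩
  · refine GrothLib.RootTower4.isQuiet_of_charts _ fun y => ⟨A, CommRingCat.of C₀, χ, 𝟙 _, hT₀.fromSpec,
      inferInstance, inferInstance, ⟨y, rfl⟩, Category.id_comp _, ?_⟩
    refine ⟨n, B, inferInstance, algebraMap A B, algebraMap B C₀, rfl, RingHom.etale_algebraMap.2 hB, ?_⟩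
    convert hC₀ using 1
    all_goals first | rfl | exact Algebra.algebra_ext _ _ fun _ => rfl
  · refine (sq₁.paste_vert sq₂).of_iso j.isoOpensRange (Iso.refl _) (Iso.refl _) (Iso.refl _) ?_ ?_ ?_ ?_
    · simp
    · rw [Iso.refl_hom, Category.comp_id, ← hsq, ← Category.assoc j.isoOpensRange.hom,
        show j.isoOpensRange.hom ≫ j.opensRange.ι = j by rw [← Iso.eq_inv_comp, Scheme.Hom.isoOpensRange_inv_comp]]
    · simp
    · simp

end Groth.Agent.S15045
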