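import Groth.Statements.S15046
import Groth.Agent.Lib.RootTower4.Basic
import Mathlib

set_option autoImplicit false
open CategoryTheory AlgebraicGeometry
universe u
open Quiet

namespace Groth.Agent.S15046

/-- Let `k` be a perfect field of prime characteristic `p` and `A` a smooth `k`-algebra of
characteristic `p`. Then the Frobenius endomorphism `a ↦ a ^ p` of `A` is faithfully flat, and the
endomorphism of `Spec A` it induces is an extraction of `p`-th roots: every point has an affine open
neighbourhood with affine preimage over which the induced ring map is a tower of finitely many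
elementary extractions `B → B[x]/(x^p - b)`. -/
theorem result (p : ℕ) [Fact p.Prime]
    (k : Type u) [Field k] [CharP k p] [PerfectRing k p] (A : Type u) [CommRing A] [Algebra k A]
    [CharP A p] [Algebra.Smooth k A] :
    (frobenius A p).FaithfullyFlat ∧
      Quiet.IsPthRoot p (Spec.map (CommRingCat.ofHom (frobenius A p))) := by
  classical
  haveI hp : Fact p.Prime := inferInstance
  refine ⟨RingHom.FaithfullyFlat.iff_flat_and_comap_surjective.2 ⟨?_, ?_⟩, ?_⟩
  · have hF : Function.Bijective (algebraMap k (FrobAlg.Twist p k)) :=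
      (FrobAlg.toTwist p k).bijective.comp (bijective_frobenius k p)
    let e := (AlgEquiv.ofBijective (Algebra.ofId k (FrobAlg.Twist p k)) hF)
    let E : A ≃+* FrobAlg.BaseChange p k A :=
      ((Algebra.TensorProduct.rid k k A).symm.trans
        (Algebra.TensorProduct.congr AlgEquiv.refl e)).toRingEquiv
    have hE : frobenius A p = (FrobAlg.relFrob p k A).comp E.toRingHom := RingHom.ext fun b => by
      show b ^ p = FrobAlg.relFrob p k A (E b)
      simp [E, e, GrothLib.Frob16.relFrob_tmul]
    rw [hE]
    exact RingHom.Flat.comp (RingHom.Flat.of_bijective E.bijective) (GrothLib.Frob16.flat_relFrob p k A)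
  · intro P
    refine ⟨P, PrimeSpectrum.ext (Ideal.ext fun a => ?_)⟩
    show a ^ p ∈ P.asIdeal ↔ a ∈ P.asIdeal
    exact P.isPrime.pow_mem_iff_mem p hp.out.pos
  intro x
  obtain ⟨s, hs, hss⟩ := Algebra.Smooth.exists_span_eq_top_isStandardSmooth k A
  obtain ⟨g, hgs, hgx⟩ : ∃ g ∈ s, g ∉ (x : PrimeSpectrum A).asIdeal := by
    by_contra h
    push_neg at h
    exact (x : PrimeSpectrum A).isPrime.ne_top (top_le_iff.1 (hs ▸ Ideal.span_le.2 h))
  let R := CommRingCat.of A
  let f := Spec.map (CommRingCat.ofHom (frobenius A p))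
  let U : (Spec R).Opens := PrimeSpectrum.basicOpen g
  have hU : IsAffineOpen U := IsAffineOpen.Spec_basicOpen (R := R) g
  have hV : f ⁻¹ᵁ U = U := by
    ext P
    show (g ^ p ∈ P.asIdeal → False) ↔ (g ∈ P.asIdeal → False)
    rw [P.isPrime.pow_mem_iff_mem p hp.out.pos]
  refine ⟨⟨U, hU⟩, hgx, hV.symm ▸ hU, ?_⟩
  show letI := (f.app U).hom.toAlgebra; ∃ n, Quiet.IsRootTower p n Γ(Spec R, U) Γ(Spec R, f ⁻¹ᵁ U)
  let S := Γ(Spec R, U)
  let T := Γ(Spec R, f ⁻¹ᵁ U)
  letI algS : Algebra A S := ((Scheme.ΓSpecIso R).inv ≫ (Spec R).presheaf.map (homOfLE le_top).op).hom.toAlgebra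
  letI algT : Algebra A T := ((Scheme.ΓSpecIso R).inv ≫ (Spec R).presheaf.map (homOfLE le_top).op).hom.toAlgebra
  have key : ∀ (R : CommRingCat.{u}) (g : R) (V : (Spec R).Opens), V = PrimeSpectrum.basicOpen g →
      @IsLocalization.Away R _ g Γ(Spec R, V) _
        ((Scheme.ΓSpecIso R).inv ≫ (Spec R).presheaf.map (homOfLE le_top).op).hom.toAlgebra := by
    rintro R g V rfl
    convert (inferInstance : IsLocalization.Away g Γ(Spec R, PrimeSpectrum.basicOpen g)) using 1
    exact Algebra.algebra_ext _ _ fun r => rfl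
  haveI hS : IsLocalization.Away g S := key R g U rfl
  haveI hT : IsLocalization.Away g T := key R g _ hV
  let σ : S ≃ₐ[A] T := IsLocalization.algEquiv (Submonoid.powers g) S T
  have hnat : ∀ a, (f.app U).hom (algebraMap A S a) = algebraMap A T (a ^ p) := by
    intro a
    have h1 := congr($(Scheme.ΓSpecIso_inv_naturality (CommRingCat.ofHom (frobenius A p))).hom a)
    have h2 := congr($(f.naturality (homOfLE (le_top : U ≤ ⊤)).op).hom ((Scheme.ΓSpecIso R).inv a))
    exact h2.trans (congrArg ((Spec R).presheaf.map (homOfLE le_top).op).hom h1.symm)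
  haveI : Nontrivial S := by
    rw [← not_subsingleton_iff_nontrivial, IsLocalization.subsingleton_iff (S := S) (M := Submonoid.powers g)]
    rintro ⟨m, hm⟩
    exact hgx ((x : PrimeSpectrum A).isPrime.mem_of_pow_mem m (by rw [show g ^ m = 0 from hm]; exact zero_mem _))
  haveI : CharP S p := (CharP.charP_iff_prime_eq_zero hp.out).2 (by
    rw [← map_natCast (algebraMap A S), CharP.cast_eq_zero A p, map_zero])
  have hψ : ∀ c, (f.app U).hom c = σ (c ^ p) := by
    have : (f.app U).hom = σ.toRingEquiv.toRingHom.comp (frobenius S p) := by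
      refine IsLocalization.ringHom_ext (Submonoid.powers g) (RingHom.ext fun a => ?_)
      show (f.app U).hom (algebraMap A S a) = σ (algebraMap A S a ^ p)
      rw [hnat, ← map_pow, σ.commutes]
    exact fun c => congr($this c)
  let C := Localization.Away g
  haveI : Algebra.IsStandardSmooth k C := hss g hgs
  letI : Algebra k S := ((algebraMap A S).comp (algebraMap k A)).toAlgebra
  haveI : IsScalarTower k A S := IsScalarTower.of_algebraMap_eq fun _ => rfl
  let τ : C ≃ₐ[k] S := (IsLocalization.algEquiv (Submonoid.powers g) C S).restrictScalars k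
  haveI : Algebra.IsStandardSmooth k S := Algebra.IsStandardSmooth.of_algEquiv τ
  obtain ⟨_, _, _, _, ⟨Pr⟩⟩ := (inferInstance : Algebra.IsStandardSmooth k S).out
  haveI : Algebra.IsStandardSmoothOfRelativeDimension Pr.dimension k S := ⟨_, _, _, ‹_›, Pr, rfl⟩
  obtain ⟨gh, hgh⟩ := Algebra.IsStandardSmoothOfRelativeDimension.exists_etale_mvPolynomial Pr.dimension k S
  letI : Algebra (MvPolynomial (Fin Pr.dimension) k) S := gh.toRingHom.toAlgebra
  haveI : IsScalarTower k (MvPolynomial (Fin Pr.dimension) k) S :=
    IsScalarTower.of_algebraMap_eq fun a => (gh.commutes a).symm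
  haveI : Algebra.Etale (MvPolynomial (Fin Pr.dimension) k) S := hgh
  letI algST : Algebra S T := (f.app U).hom.toAlgebra
  refine ⟨Pr.dimension, GrothLib.RootTower4.isRootTower_of_bijective p _ S T
    (fun i => gh (MvPolynomial.X i)) (fun i => σ (gh (MvPolynomial.X i))) (fun i => ?_) ?_⟩
  · rw [← map_pow]; exact (hψ _).symm
  · convert σ.bijective.comp (GrothLib.RootTower4.bijective_frobenius_comb p (k := k) Pr.dimension S) using 1
    funext c
    rw [Function.comp_apply, map_sum]
    refine Finset.sum_congr rfl fun e _ => ?_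
    rw [map_mul, map_prod]
    congr 1
    · exact hψ (c e)
    · exact Finset.prod_congr rfl fun i _ => (map_pow σ _ _).symm

end Groth.Agent.S15046
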