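import Groth.Statements.S15047
import Groth.Agent.Lib.DescElem.Basic

set_option autoImplicit false
universe u
open TensorProduct
open Desc

namespace Groth.Agent.S15047

/-- Let A → A' be a faithfully flat homomorphism of commutative rings and M, N any A-modules. An
A'-linear map f : A' ⊗_A M → A' ⊗_A N whose two base changes to A' ⊗_A A' (along a ↦ a ⊗ 1 and a ↦ 1
⊗ a) coincide is the base change of a unique A-linear map h : M → N. Since (A' ⊗_A A') ⊗_A M is
generated over A' ⊗_A A' by the elements 1 ⊗ m, the agreement of the two base changes is stated on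
these generators: for every m, the two images of f (1 ⊗ m) in (A' ⊗_A A') ⊗_A N agree. Equivalently,
the sequence Hom_A(M, N) → Hom_{A'}(A' ⊗ M, A' ⊗ N) ⇉ Hom_{A' ⊗ A'}(A' ⊗ A' ⊗ M, A' ⊗ A' ⊗ N) is an
equalizer diagram. -/
theorem result (A A' : Type u) [CommRing A] [CommRing A'] [Algebra A A']
    [Module.FaithfullyFlat A A'] (M N : Type u) [AddCommGroup M] [Module A M] [AddCommGroup N] [Module A N]
    (f : A' ⊗[A] M →ₗ[A'] A' ⊗[A] N)
    (hf : ∀ m : M,
      LinearMap.rTensor N (Algebra.TensorProduct.includeLeft : A' →ₐ[A] A' ⊗[A] A').toLinearMap (f (1 ⊗ₜ[A] m)) =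
        LinearMap.rTensor N (Algebra.TensorProduct.includeRight : A' →ₐ[A] A' ⊗[A] A').toLinearMap (f (1 ⊗ₜ[A] m))) :
    ∃! h : M →ₗ[A] N, h.baseChange A' = f := by
  have key : ∀ m, f ((1 : A') ⊗ₜ[A] m) ∈ LinearMap.range (TensorProduct.mk A A' N 1) := fun m => by
    refine GrothLib.DescElem.mem_range_of_one_tmul A' _ _ ⟨f ((1 : A') ⊗ₜ[A] m), ?_⟩
    have hl : ∀ z, TensorProduct.assoc A A' A' N
        (LinearMap.rTensor N (Algebra.TensorProduct.includeLeft : A' →ₐ[A] A' ⊗[A] A').toLinearMap z)
        = LinearMap.lTensor A' (TensorProduct.mk A A' N 1) z := fun z => by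
      induction z using TensorProduct.induction_on with
      | zero => simp
      | tmul a n => simp
      | add x y hx hy => simp only [map_add, hx, hy]
    have hr : ∀ z, TensorProduct.assoc A A' A' N
        (LinearMap.rTensor N (Algebra.TensorProduct.includeRight : A' →ₐ[A] A' ⊗[A] A').toLinearMap z)
        = (1 : A') ⊗ₜ[A] z := fun z => by
      induction z using TensorProduct.induction_on with
      | zero => simp
      | tmul a n => simp
      | add x y hx hy => simp only [map_add, hx, hy, TensorProduct.tmul_add]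
    rw [← hl, hf m, hr]
  have hinj := Module.FaithfullyFlat.tensorProduct_mk_injective (A := A) (B := A') N
  choose h hh using key
  refine ⟨{ toFun := h
            map_add' := fun x y => hinj (by rw [map_add, hh, hh, hh, ← map_add, TensorProduct.tmul_add])
            map_smul' := fun r x => hinj (by
              rw [RingHom.id_apply, map_smul, hh, hh, TensorProduct.tmul_smul, LinearMap.map_smul_of_tower]) },
    ?_, ?_⟩
  · apply TensorProduct.AlgebraTensorModule.curry_injective
    refine LinearMap.ext fun a => LinearMap.ext fun m => ?_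
    show a ⊗ₜ[A] h m = f (a ⊗ₜ[A] m)
    have e : a ⊗ₜ[A] m = a • ((1 : A') ⊗ₜ[A] m) := by rw [TensorProduct.smul_tmul', smul_eq_mul, mul_one]
    rw [e, map_smul, ← hh]
    simp [TensorProduct.smul_tmul']
  · intro h' hh'
    refine LinearMap.ext fun m => hinj ?_
    show (1 : A') ⊗ₜ[A] h' m = TensorProduct.mk A A' N 1 (h m)
    rw [hh, ← hh']
    rfl

end Groth.Agent.S15047
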