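import Groth.Statements.S15049
import Groth.Agent.Lib.LubinTate.PS

set_option autoImplicit false
universe u
open LubinTate

namespace Groth.Agent.S15049

open GrothLib.Morse GrothLib.LubinTate

/-- Let O be a discrete valuation ring with finite residue field of cardinality q, π a uniformizer of O,
and f = πT + T^q ∈ O[[T]]. Then there is a one-dimensional commutative formal group law F(X,Y) over
O for which f is an endomorphism, f(F(X,Y)) = F(f(X), f(Y)); and F is the unique power series in
O[[X,Y]] with zero constant term and linear part X + Y satisfying this identity. (The published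
statement is for the ring of integers of a finite extension of ℚ_p or of 𝔽_q((X)); completeness is
not used and any discrete valuation ring with finite residue field is allowed here.) -/
theorem result (O : Type u) [CommRing O] [IsDomain O] [IsDiscreteValuationRing O]
    [Finite (IsLocalRing.ResidueField O)] (π : O) (hπ : Irreducible π) (f : PowerSeries O)
    (hf : f = π • PowerSeries.X + PowerSeries.X ^ Nat.card (IsLocalRing.ResidueField O)) :
    ∃ F : FormalGroup O, F.IsComm ∧
      PowerSeries.subst F.toPowerSeries f =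
        MvPowerSeries.subst (fun i : Fin 2 => PowerSeries.subst (MvPowerSeries.X i : MvPowerSeries (Fin 2) O) f) F.toPowerSeries ∧
      ∀ G : MvPowerSeries (Fin 2) O, G.constantCoeff = 0 → G.coeff (Finsupp.single 0 1) = 1 →
        G.coeff (Finsupp.single 1 1) = 1 →
        PowerSeries.subst G f =
        MvPowerSeries.subst (fun i : Fin 2 => PowerSeries.subst (MvPowerSeries.X i : MvPowerSeries (Fin 2) O) f) G →
        G = F.toPowerSeries := by
  set q := Nat.card (IsLocalRing.ResidueField O) with hqdef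
  have hq : q ≠ 0 := (two_le_card.trans_lt' Nat.zero_lt_two).ne'
  obtain ⟨F, ⟨hF0, hF1, hF⟩, huniq⟩ := existsUnique_isEndo (σ := Fin 2) hπ (fun _ => 1)
  have hlinF : ∀ i, MvPowerSeries.coeff (Finsupp.single i 1) F = 1 := fun i => by
    have := (ordGE_two_iff.mp hF1).2 i
    rwa [map_sub, coeff_linForm, sub_eq_zero] at this
  have hXX : ∀ {σ : Type} [Finite σ] (a b : MvPowerSeries σ O), OrdGE 1 a → OrdGE 1 b →
      ∀ i, OrdGE 1 ((![a, b] : Fin 2 → _) i) := fun a b ha hb i => by fin_cases i <;> assumption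
  have hee : ∀ {σ : Type} [Finite σ] (a b : MvPowerSeries σ O), IsEndo π q a → IsEndo π q b →
      ∀ i, IsEndo π q ((![a, b] : Fin 2 → _) i) := fun a b ha hb i => by fin_cases i <;> assumption
  have h01 := hXX (MvPowerSeries.X (0 : Fin 3) : MvPowerSeries (Fin 3) O) (MvPowerSeries.X 1) (ordGE_X _) (ordGE_X _)
  have h12 := hXX (MvPowerSeries.X (1 : Fin 3) : MvPowerSeries (Fin 3) O) (MvPowerSeries.X 2) (ordGE_X _) (ordGE_X _)
  have e01 := hee (MvPowerSeries.X (0 : Fin 3) : MvPowerSeries (Fin 3) O) (MvPowerSeries.X 1) (isEndo_X hq _) (isEndo_X hq _)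
  have e12 := hee (MvPowerSeries.X (1 : Fin 3) : MvPowerSeries (Fin 3) O) (MvPowerSeries.X 2) (isEndo_X hq _) (isEndo_X hq _)
  have hassoc : MvPowerSeries.subst ![MvPowerSeries.subst ![MvPowerSeries.X (0 : Fin 3), MvPowerSeries.X 1] F, MvPowerSeries.X 2] F =
      MvPowerSeries.subst ![MvPowerSeries.X (0 : Fin 3), MvPowerSeries.subst ![MvPowerSeries.X 1, MvPowerSeries.X 2] F] F (S := O) := by
    have hl := hXX _ (MvPowerSeries.X (2 : Fin 3)) (OrdGE.subst h01 hF0) (ordGE_X _)
    have hr := hXX (MvPowerSeries.X (0 : Fin 3)) _ (ordGE_X _) (OrdGE.subst h12 hF0)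
    refine IsEndo.ext hπ (OrdGE.subst hl hF0) (OrdGE.subst hr hF0)
      (hF.subst hq hl (hee _ _ (hF.subst hq h01 e01) (isEndo_X hq _)))
      (hF.subst hq hr (hee _ _ (isEndo_X hq _) (hF.subst hq h12 e12))) fun j => ?_
    rw [coeff_single_subst hF0 hl, coeff_single_subst hF0 hr]
    simp only [Fin.sum_univ_two, hlinF, Matrix.cons_val_zero, Matrix.cons_val_one,
      coeff_single_subst hF0 h01, coeff_single_subst hF0 h12]
    ring
  have hcomm : F = MvPowerSeries.subst ![MvPowerSeries.X (1 : Fin 2), MvPowerSeries.X 0] F := by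
    have h10 := hXX (MvPowerSeries.X (1 : Fin 2) : MvPowerSeries (Fin 2) O) (MvPowerSeries.X 0) (ordGE_X _) (ordGE_X _)
    refine IsEndo.ext hπ hF0 (OrdGE.subst h10 hF0) hF
      (hF.subst hq h10 (hee _ _ (isEndo_X hq _) (isEndo_X hq _))) fun j => ?_
    rw [coeff_single_subst hF0 h10, hlinF]
    fin_cases j <;> simp [Fin.sum_univ_two, hlinF, MvPowerSeries.coeff_X, Finsupp.single_left_inj (one_ne_zero : (1 : ℕ) ≠ 0)]
  let FG : FormalGroup O := ⟨F, ordGE_one_iff.mp hF0, hlinF 0, hlinF 1, hassoc⟩
  refine ⟨FG, ⟨hcomm⟩, (isEndo_iff hf hF0).mpr hF, fun G h0 h1 h2 hG => huniq G ?_⟩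
  have hG0 : OrdGE 1 G := ordGE_one_iff.mpr h0
  refine ⟨hG0, ordGE_two_iff.mpr ⟨by rw [map_sub, h0, ordGE_one_iff.mp (ordGE_linForm _), sub_zero],
    fun i => ?_⟩, (isEndo_iff hf hG0).mp hG⟩
  rw [map_sub, coeff_linForm]
  fin_cases i <;> simp [h1, h2]

end Groth.Agent.S15049
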