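import Groth.Statements.S15050
import Groth.Agent.Lib.LubinTate.PS

set_option autoImplicit false
universe u
open LubinTate

namespace Groth.Agent.S15050

open GrothLib.Morse GrothLib.LubinTate

/-- Let O be a discrete valuation ring with finite residue field of cardinality q, π a uniformizer of O,
and f = πT + T^q ∈ O[[T]]. For every α ∈ O there is a unique power series g = [α] ∈ O[[T]] with zero
constant term and linear coefficient α which commutes with f under substitution, g(f(T)) = f(g(T)).
(The published statement is for the ring of integers of a finite extension of ℚ_p or of 𝔽_q((X));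
completeness is not used and any discrete valuation ring with finite residue field is allowed here.) -/
theorem result (O : Type u) [CommRing O] [IsDomain O] [IsDiscreteValuationRing O]
    [Finite (IsLocalRing.ResidueField O)] (π : O) (hπ : Irreducible π) (f : PowerSeries O)
    (hf : f = π • PowerSeries.X + PowerSeries.X ^ Nat.card (IsLocalRing.ResidueField O)) (α : O) :
    ∃! g : PowerSeries O, g.constantCoeff = 0 ∧ g.coeff 1 = α ∧
      PowerSeries.subst g f = PowerSeries.subst f g := by
  obtain ⟨g, ⟨hg0, hg1, hg⟩, huniq⟩ := existsUnique_isEndo (σ := Unit) hπ (fun _ => α)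
  have hlin : ∀ φ : MvPowerSeries Unit O, OrdGE 1 φ →
      (OrdGE 2 (φ - linForm (fun _ : Unit => α)) ↔ MvPowerSeries.coeff (Finsupp.single () 1) φ = α) := by
    intro φ hφ
    rw [ordGE_two_iff, map_sub, ordGE_one_iff.mp hφ, ordGE_one_iff.mp (ordGE_linForm _), sub_self]
    simp only [map_sub, coeff_linForm, sub_eq_zero, true_and]
    exact ⟨fun h => h (), fun h _ => h⟩
  refine ⟨g, ⟨ordGE_one_iff.mp hg0, (hlin g hg0).mp hg1, (isEndo_ps_iff hf (ordGE_one_iff.mp hg0)).mpr hg⟩, ?_⟩
  rintro φ ⟨h0, h1, h2⟩
  exact huniq φ ⟨ps_ordGE_one h0, (hlin φ (ps_ordGE_one h0)).mpr h1, (isEndo_ps_iff hf h0).mp h2⟩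

end Groth.Agent.S15050
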