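import Groth.Statements.S15051
import Groth.Agent.Lib.LubinTate.PS

set_option autoImplicit false
universe u
open LubinTate

namespace Groth.Agent.S15051

open GrothLib.Morse GrothLib.LubinTate

/-- Let O be a discrete valuation ring with finite residue field of cardinality q, π a uniformizer of O,
and f = πT + T^q ∈ O[[T]]; let F be a one-dimensional formal group law over O for which f is an
endomorphism, f(F(X,Y)) = F(f(X), f(Y)), and g ∈ O[[T]] a power series with zero constant term which
commutes with f, g(f(T)) = f(g(T)). Then g is an endomorphism of F, that is g(F(X,Y)) = F(g(X),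
g(Y)); so α ↦ [α] maps O into the endomorphisms of the Lubin–Tate formal group. (The published
statement is for the ring of integers of a finite extension of ℚ_p or of 𝔽_q((X)); completeness is
not used and any discrete valuation ring with finite residue field is allowed here.) -/
theorem result (O : Type u) [CommRing O] [IsDomain O] [IsDiscreteValuationRing O]
    [Finite (IsLocalRing.ResidueField O)] (π : O) (hπ : Irreducible π) (f : PowerSeries O)
    (hf : f = π • PowerSeries.X + PowerSeries.X ^ Nat.card (IsLocalRing.ResidueField O))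
    (F : FormalGroup O)
    (hF : PowerSeries.subst F.toPowerSeries f =
        MvPowerSeries.subst (fun i : Fin 2 => PowerSeries.subst (MvPowerSeries.X i : MvPowerSeries (Fin 2) O) f) F.toPowerSeries)
    (g : PowerSeries O) (hg0 : g.constantCoeff = 0)
    (hgf : PowerSeries.subst g f = PowerSeries.subst f g) :
    PowerSeries.subst F.toPowerSeries g =
      MvPowerSeries.subst (fun i : Fin 2 => PowerSeries.subst (MvPowerSeries.X i : MvPowerSeries (Fin 2) O) g)
        F.toPowerSeries := by
  have hq : Nat.card (IsLocalRing.ResidueField O) ≠ 0 := (two_le_card.trans_lt' Nat.zero_lt_two).ne'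
  have hF0 : OrdGE 1 F.toPowerSeries := ordGE_one_iff.mpr F.zero_constantCoeff
  have hFe := (isEndo_iff hf hF0).mp hF
  have hge := (isEndo_ps_iff hf hg0).mp hgf
  have hg1 := ps_ordGE_one hg0
  have hl : ∀ _ : Unit, OrdGE 1 F.toPowerSeries := fun _ => hF0
  have hr : ∀ i : Fin 2, OrdGE 1 (PowerSeries.subst (MvPowerSeries.X i : MvPowerSeries (Fin 2) O) g) :=
    fun i => OrdGE.subst (fun _ => ordGE_X i) hg1
  refine IsEndo.ext hπ (OrdGE.subst hl hg1) (OrdGE.subst hr hF0) (hge.subst hq hl fun _ => hFe)
    (hFe.subst hq hr fun i => hge.subst hq (fun _ => ordGE_X i) fun _ => isEndo_X hq i) fun j => ?_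
  rw [PowerSeries.subst_def, coeff_single_subst hg1 hl, coeff_single_subst hF0 hr]
  simp only [Fintype.sum_unique, Fin.sum_univ_two, PowerSeries.subst_def,
    coeff_single_subst hg1 (fun _ : Unit => ordGE_X (0 : Fin 2)), coeff_single_subst hg1 (fun _ : Unit => ordGE_X (1 : Fin 2)),
    F.lin_coeff_X, F.lin_coeff_Y, one_mul]
  fin_cases j <;> simp [F.lin_coeff_X, F.lin_coeff_Y, MvPowerSeries.coeff_X, Finsupp.single_left_inj (one_ne_zero : (1 : ℕ) ≠ 0)]

end Groth.Agent.S15051
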