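import Groth.Statements.S15052
import Groth.Agent.Lib.LubinTate.PS

set_option autoImplicit false
universe u
open LubinTate

namespace Groth.Agent.S15052

open GrothLib.Morse GrothLib.LubinTate

/-- Let O be a discrete valuation ring with finite residue field of cardinality q, π a uniformizer of O,
and f = πT + T^q ∈ O[[T]]; let K be the fraction field of O and F a one-dimensional formal group law
over O for which f is an endomorphism, f(F(X,Y)) = F(f(X), f(Y)). Then there is a unique power
series ℓ ∈ K[[T]] with zero constant term and linear coefficient 1 such that ℓ(f(T)) = π·ℓ(T); this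
logarithm is a homomorphism to the additive formal group, ℓ(F(T,S)) = ℓ(T) + ℓ(S), and it is
O-linear in the sense that ℓ(g(T)) = α·ℓ(T) for every α ∈ O and every series g ∈ O[[T]] with zero
constant term and linear coefficient α commuting with f. (The published statement is for the ring of
integers of a finite extension of ℚ_p; completeness is not used and any discrete valuation ring with
finite residue field is allowed here.) -/
theorem result (O : Type u) [CommRing O] [IsDomain O] [IsDiscreteValuationRing O]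
    [Finite (IsLocalRing.ResidueField O)] (K : Type u) [Field K] [Algebra O K] [IsFractionRing O K]
    (π : O) (hπ : Irreducible π) (f : PowerSeries O)
    (hf : f = π • PowerSeries.X + PowerSeries.X ^ Nat.card (IsLocalRing.ResidueField O))
    (F : FormalGroup O)
    (hF : PowerSeries.subst F.toPowerSeries f =
        MvPowerSeries.subst (fun i : Fin 2 => PowerSeries.subst (MvPowerSeries.X i : MvPowerSeries (Fin 2) O) f) F.toPowerSeries) :
    ∃ ℓ : PowerSeries K, (ℓ.constantCoeff = 0 ∧ ℓ.coeff 1 = 1 ∧
      PowerSeries.subst (PowerSeries.map (algebraMap O K) f) ℓ = algebraMap O K π • ℓ) ∧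
      (∀ ℓ' : PowerSeries K, ℓ'.constantCoeff = 0 → ℓ'.coeff 1 = 1 →
        PowerSeries.subst (PowerSeries.map (algebraMap O K) f) ℓ' = algebraMap O K π • ℓ' → ℓ' = ℓ) ∧
      PowerSeries.subst ((F.toPowerSeries).map (algebraMap O K)) ℓ =
        PowerSeries.subst (MvPowerSeries.X (0 : Fin 2) : MvPowerSeries (Fin 2) K) ℓ +
          PowerSeries.subst (MvPowerSeries.X (1 : Fin 2) : MvPowerSeries (Fin 2) K) ℓ ∧
      (∀ (α : O) (g : PowerSeries O), g.constantCoeff = 0 → g.coeff 1 = α →
        PowerSeries.subst g f = PowerSeries.subst f g →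
        PowerSeries.subst (PowerSeries.map (algebraMap O K) g) ℓ = algebraMap O K α • ℓ) := by
  set q := Nat.card (IsLocalRing.ResidueField O) with hqdef
  have hq2 : 2 ≤ q := two_le_card
  have hq : q ≠ 0 := by omega
  let c := algebraMap O K π
  have hc : ∀ t, 2 ≤ t → c ^ t ≠ c := fun t ht h => pow_ne_self hπ t ht
    (IsFractionRing.injective O K (by rw [map_pow]; exact h))
  have hfK : PowerSeries.map (algebraMap O K) f = c • PowerSeries.X + PowerSeries.X ^ q := by
    rw [hf, map_add, map_pow, PowerSeries.map_X, PowerSeries.smul_eq_C_mul, map_mul, PowerSeries.map_C,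
      PowerSeries.map_X, ← PowerSeries.smul_eq_C_mul]
  have hlog : ∀ ℓ : PowerSeries K, PowerSeries.subst (PowerSeries.map (algebraMap O K) f) ℓ = c • ℓ ↔
      IsLog c q (ℓ : MvPowerSeries Unit K) := fun ℓ => by
    rw [PowerSeries.subst_def, ps_eq_ltSub hfK]; rfl
  obtain ⟨ℓ, ⟨hl0, hl1, hl⟩, -⟩ := existsUnique_isLog (σ := Unit) c hc hq2 (fun _ => 1)
  have hl1' : MvPowerSeries.coeff (Finsupp.single () 1) ℓ = 1 := by
    have := (ordGE_two_iff.mp hl1).2 ()
    rwa [map_sub, coeff_linForm, sub_eq_zero] at this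
  have hF0 : OrdGE 1 (F.toPowerSeries.map (algebraMap O K)) := ordGE_one_iff.mpr (by
    rw [MvPowerSeries.constantCoeff_map, F.zero_constantCoeff, map_zero])
  have hFe := ((isEndo_iff hf (ordGE_one_iff.mpr F.zero_constantCoeff)).mp hF).map (algebraMap O K) hq
  refine ⟨ℓ, ⟨ordGE_one_iff.mp hl0, hl1', (hlog ℓ).mpr hl⟩, fun ℓ' h0 h1 h2 => ?_, ?_, fun α g hg0 hg1 hgf => ?_⟩
  · exact IsLog.ext hc hq2 (ps_ordGE_one h0) hl0 ((hlog ℓ').mp h2) hl fun _ => h1.trans hl1'.symm
  · have hl' : ∀ _ : Unit, OrdGE 1 (F.toPowerSeries.map (algebraMap O K)) := fun _ => hF0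
    have hx : ∀ (i : Fin 2) (_ : Unit), OrdGE 1 (MvPowerSeries.X i : MvPowerSeries (Fin 2) K) := fun i _ => ordGE_X i
    refine IsLog.ext hc hq2 (OrdGE.subst hl' hl0) ((OrdGE.subst (hx 0) hl0).add (OrdGE.subst (hx 1) hl0))
      (hl.subst hq hl' fun _ => hFe)
      (IsLog.add hq (hl.subst hq (hx 0) fun _ => isEndo_X hq 0) (hl.subst hq (hx 1) fun _ => isEndo_X hq 1))
      fun j => ?_
    simp only [PowerSeries.subst_def, map_add, coeff_single_subst hl0 hl', coeff_single_subst hl0 (hx 0),
      coeff_single_subst hl0 (hx 1), Fintype.sum_unique, MvPowerSeries.coeff_map]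
    fin_cases j <;> simp [hl1', F.lin_coeff_X, F.lin_coeff_Y, MvPowerSeries.coeff_X, Finsupp.single_left_inj (one_ne_zero : (1 : ℕ) ≠ 0)]
  · have hgK : ∀ _ : Unit, OrdGE 1 (MvPowerSeries.map (algebraMap O K) (g : MvPowerSeries Unit O)) := fun _ =>
      ordGE_one_iff.mpr (by rw [MvPowerSeries.constantCoeff_map]; exact (congrArg _ hg0).trans (map_zero _))
    refine IsLog.ext hc hq2 (OrdGE.subst hgK hl0) (by rw [MvPowerSeries.smul_eq_C_mul]; exact hl0.mul_left _)
      (hl.subst hq hgK fun _ => ((isEndo_ps_iff hf hg0).mp hgf).map (algebraMap O K) hq)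
      (hl.smul hq _) fun j => ?_
    change MvPowerSeries.coeff (Finsupp.single j 1) (MvPowerSeries.subst (fun _ : Unit => MvPowerSeries.map (algebraMap O K) g) ℓ) = _
    rw [coeff_single_subst hl0 hgK, Fintype.sum_unique, MvPowerSeries.coeff_map, map_smul]
    show MvPowerSeries.coeff (Finsupp.single () 1) ℓ * algebraMap O K (PowerSeries.coeff 1 g) =
      algebraMap O K α • MvPowerSeries.coeff (Finsupp.single () 1) ℓ
    rw [hl1', hg1, smul_eq_mul, one_mul, mul_one]

end Groth.Agent.S15052
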