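import Groth.Statements.S15053
import Groth.Agent.Lib.Hopf.OrderPrimeComm

set_option autoImplicit false
universe u v
open Hopf

namespace Groth.Agent.S15053

/-- Let R be a commutative ring, p a prime number and A a commutative Hopf algebra over R which is
finitely generated and projective as an R-module, of rank p at every prime of R (a finite locally
free R-group scheme G = Spec A of order p, not assumed commutative). Then G is commutative: the
comultiplication of A is cocommutative. (The published statement assumes a Noetherian base ring
which is an algebra over a certain ring of integers Λ of a cyclotomic field; this row allows any
commutative base ring.) -/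
theorem result (R : Type u) [CommRing R] (p : ℕ) [Fact p.Prime] (A : Type v) [CommRing A]
    [HopfAlgebra R A] [Module.Finite R A] [Module.Projective R A]
    (hp : ∀ q : PrimeSpectrum R, Module.rankAtStalk A q = p) :
    Coalgebra.IsCocomm R A := by
  exact GrothLib.Hopf.OrderPrime.isCocomm_of_rankAtStalk_eq Fact.out hp

end Groth.Agent.S15053
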