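import Groth.Statements.S15054
import Mathlib.CategoryTheory.Monoidal.Cartesian.Grp
-- import your own Groth.Agent.* helpers here

set_option autoImplicit false
universe u
open CategoryTheory CategoryTheory.Limits MonoidalCategory CartesianMonoidalCategory MonObj GrpObj AlgebraicGeometry
open BTGrp

namespace Groth.Agent.S15054

/-- Let ℓ be a prime and G = (G_ν)_ν an ℓ-divisible (Barsotti–Tate) group of height h over a scheme S,
given as the system of its finite locally free layers G_ν of order ℓ^{νh} with inclusions G_ν →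
G_{ν+1} exhibiting G_ν as the ℓ^ν-torsion of G_{ν+1} and projections G_{ν+1} → G_ν (multiplication
by ℓ). Let i_t : G_1 → G_{t+1} denote the iterated inclusions, pinned by i_0 = id and i_{t+1} = i_t
followed by G_{t+1} → G_{t+2}. Then for every t, i_t identifies G_1 with the kernel of
multiplication by ℓ on G_{t+1}: the ℓ-torsion of every layer is the first layer. (The published
statement identifies G_v with the ℓ^v-torsion of G_{v+t} for all v; this row is its case v = 1. The
published base is the spectrum of a Noetherian ring; the argument is formal and any base scheme is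
allowed here.) -/
theorem result {S : Scheme.{u}} (ℓ h : ℕ) [Fact ℓ.Prime] (G : BTGrp.ProBT ℓ S h)
    (i : (t : ℕ) → (G.G 1 ⟶ G.G (t + 1))) (hi0 : i 0 = 𝟙 (G.G 1))
    (hi : ∀ t : ℕ, i (t + 1) = i t ≫ G.incl (t + 1)) (t : ℕ) :
    AlgGrp.IsKernel (i t) ((𝟙 (G.G (t + 1))) ^ ℓ) := by
  have hmono : ∀ ν, Mono (G.incl ν) := fun ν => ⟨fun a b e => (G.isKernel ν).hom_ext e (Subsingleton.elim _ _)⟩
  have hpow : ∀ {X : Over S} (ν n : ℕ) (x : X ⟶ G.G ν), x ≫ (𝟙 (G.G ν)) ^ n = x ^ n := fun ν n x => by
    rw [MonObj.comp_pow, Category.comp_id]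
  have hi1 : ∀ t, i t ≫ (𝟙 (G.G (t + 1))) ^ ℓ = 1 := by
    intro t
    induction t with
    | zero =>
      have h0 := (G.isKernel 0).w
      rw [pow_zero, pow_one, Category.comp_id, ← Hom.one_def] at h0
      rw [hi0, Category.id_comp, ← G.proj_incl 0, h0, MonObj.comp_one]
    | succ t ih =>
      rw [hi, hpow, ← MonObj.pow_comp, ← hpow, ih, MonObj.one_comp]
  have hlift : ∀ t {X : Over S} (x : X ⟶ G.G (t + 1)), x ^ ℓ = 1 → ∃ y : X ⟶ G.G 1, y ≫ i t = x := by
    intro t
    induction t with
    | zero => exact fun x _ => ⟨x, by rw [hi0]; exact Category.comp_id x⟩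
    | succ t ih =>
      intro X x hx
      obtain ⟨y, hy⟩ : ∃ y : X ⟶ G.G (t + 1), y ≫ G.incl (t + 1) = x := by
        refine ⟨(G.isKernel (t + 1)).lift x (toUnit X) ?_, (G.isKernel (t + 1)).lift_fst _ _ _⟩
        rw [hpow, pow_succ', pow_mul, hx, one_pow, Hom.one_def]
      have hy1 : y ^ ℓ = 1 := by
        have := hmono (t + 1)
        rw [← cancel_mono (G.incl (t + 1)), MonObj.pow_comp, hy, hx, MonObj.one_comp]
      obtain ⟨z, hz⟩ := ih y hy1
      exact ⟨z, by rw [hi, ← Category.assoc, hz, hy]⟩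
  have him : ∀ t, Mono (i t) := by
    intro t
    induction t with
    | zero => rw [hi0]; infer_instance
    | succ t ih => rw [hi]; have := hmono (t + 1); infer_instance
  have hw : i t ≫ (𝟙 (G.G (t + 1))) ^ ℓ = toUnit (G.G 1) ≫ η := by rw [hi1, Hom.one_def]
  have hc : ∀ c : Limits.PullbackCone ((𝟙 (G.G (t + 1))) ^ ℓ) η[G.G (t + 1)], c.fst ^ ℓ = 1 := fun c => by
    exact (hpow _ _ c.fst).symm.trans (c.condition.trans (by rw [Hom.one_def, Subsingleton.elim c.snd (toUnit _)]))
  choose y hy using fun c => hlift t _ (hc c)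
  exact ⟨⟨hw⟩, ⟨Limits.PullbackCone.IsLimit.mk _ y hy (fun c => Subsingleton.elim _ _)
    fun c m hm _ => by have := him t; exact (cancel_mono (i t)).mp (hm.trans (hy c).symm)⟩⟩


end Groth.Agent.S15054
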