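import Groth.Statements.S15055
import Groth.Agent.S15054
import Groth.Agent.Lib.FinGrpExact13.Basic
-- import your own Groth.Agent.* helpers here

set_option autoImplicit false
universe u
open CategoryTheory CategoryTheory.Limits MonoidalCategory CartesianMonoidalCategory MonObj GrpObj AlgebraicGeometry
open BTGrp

namespace Groth.Agent.S15055

/-- Let R be a Noetherian ring, ℓ a prime and G = (G_ν)_ν an ℓ-divisible (Barsotti–Tate) group of height
h over Spec R, given as the system of its finite locally free layers G_ν of order ℓ^{νh} with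
inclusions exhibiting G_ν as the ℓ^ν-torsion of G_{ν+1} and projections j_t : G_{t+1} → G_t through
which multiplication by ℓ on G_{t+1} factors. Let i_t : G_1 → G_{t+1} be the iterated inclusions
(i_0 = id, i_{t+1} = i_t followed by G_{t+1} → G_{t+2}). Then for every t the sequence 1 → G_1 →
G_{t+1} → G_t → 1 is exact: i_t is the kernel of j_t, and j_t is finite locally free of degree ℓ^h
and surjective; in particular multiplication by ℓ is an epimorphism of fppf sheaves on the
ℓ-divisible group, with kernel of order ℓ^h. (The published statement treats the sequence 0 → G_v →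
G_{v+t} → G_t → 0 for every v; this row is its case v = 1, combined with the consequence, stated
separately in the text, that multiplication by ℓ on the ℓ-divisible group is finite locally free of
degree ℓ^h and surjective.) -/
theorem result (R : Type u) [CommRing R] [IsNoetherianRing R] (ℓ h : ℕ)
    [Fact ℓ.Prime] (G : BTGrp.ProBT ℓ (Spec (CommRingCat.of R)) h)
    (i : (t : ℕ) → (G.G 1 ⟶ G.G (t + 1))) (hi0 : i 0 = 𝟙 (G.G 1))
    (hi : ∀ t : ℕ, i (t + 1) = i t ≫ G.incl (t + 1)) (t : ℕ) :
    AlgGrp.IsKernel (i t) (G.proj t) ∧ Mor2.IsFinLocFreeOfDeg (ℓ ^ h) (G.proj t).left ∧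
      Surjective (G.proj t).left := by
  have hker : AlgGrp.IsKernel (i t) (G.proj t) := by
    have h := Groth.Agent.S15054.result ℓ h G i hi0 hi t
    haveI : Mono (G.incl t) := ⟨fun a b e => (G.isKernel t).hom_ext e (Subsingleton.elim _ _)⟩
    have hw : i t ≫ G.proj t = toUnit _ ≫ η[G.G t] := by
      rw [← cancel_mono (G.incl t), Category.assoc, G.proj_incl, h.toCommSq.w, Category.assoc, IsMonHom.one_hom]
    refine IsPullback.of_isLimit' ⟨hw⟩ (PullbackCone.IsLimit.mk _
      (fun c => IsPullback.lift h c.fst c.snd (by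
        rw [← G.proj_incl, ← Category.assoc, c.condition, Category.assoc, IsMonHom.one_hom]))
      (fun c => IsPullback.lift_fst h _ _ _) (fun c => Subsingleton.elim _ _)
      fun c m h1 _ => IsPullback.hom_ext h (h1.trans (IsPullback.lift_fst h _ _ _).symm) (Subsingleton.elim _ _))
  refine ⟨hker, ?_⟩
  have hd : ℓ ^ ((t + 1) * h) = ℓ ^ (t * h) * ℓ ^ h := by rw [← pow_add, Nat.succ_mul]
  refine GrothLib.FinGrpExact13.isFinLocFreeOfDeg_of_orders (G.proj t) (i t) hker (ℓ ^ (t * h)) (ℓ ^ h)
    (pow_ne_zero h (Fact.out : ℓ.Prime).ne_zero) (hd ▸ G.finLocFree (t + 1)) (G.finLocFree t) ?_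
  have h1 := G.finLocFree 1
  rwa [Nat.one_mul] at h1

end Groth.Agent.S15055
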