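import Groth.Statements.S15056
import Mathlib.RingTheory.LocalRing.ResidueField.Ideal
import Mathlib.RingTheory.Noetherian.Nilpotent
import Mathlib.FieldTheory.IsAlgClosed.AlgebraicClosure
import Mathlib.RingTheory.IntegralClosure.IsIntegral.Basic

-- import your own Groth.Agent.* helpers here

set_option autoImplicit false
universe u
open scoped TensorProduct
open FrobAlg

namespace Groth.Agent.S15056

/-- Let p be a prime number, R a Noetherian ring of characteristic p and A a finitely generated
commutative Hopf algebra over R (an affine algebraic R-group G = Spec A). The n-fold relative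
Frobenius of G is the trivial homomorphism exactly when a^(p^n) = 0 for every a in the augmentation
ideal; G has finite Frobenius height when this holds for some n. Then G has finite Frobenius height
if and only if A is a finite R-module and, for every algebraically closed field K and every ring
homomorphism R → K, the base change K ⊗_R A is a local ring (G is finite over R with connected
geometric fibres). -/
theorem result (p : ℕ) [Fact p.Prime] (R : Type u) [CommRing R] [CharP R p]
    [IsNoetherianRing R] (A : Type u) [CommRing A] [HopfAlgebra R A] [Algebra.FiniteType R A] :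
    (∃ n : ℕ, ∀ a : A, Bialgebra.counitAlgHom R A a = 0 → a ^ p ^ n = 0) ↔
      (Module.Finite R A ∧ ∀ (K : Type u) [Field K] [IsAlgClosed K] [Algebra R K], IsLocalRing (K ⊗[R] A)) := by
  constructor
  · rintro ⟨n, hn⟩
    have hnil : ∀ a : A, IsNilpotent (a - algebraMap R A (Bialgebra.counitAlgHom R A a)) := fun a =>
      ⟨p ^ n, hn _ (by simp)⟩
    have hint : Algebra.IsIntegral R A := ⟨fun a => by
      have h0 : IsIntegral R (a - algebraMap R A (Bialgebra.counitAlgHom R A a)) := by
        refine IsIntegral.of_pow (pow_pos (Fact.out : p.Prime).pos n) ?_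
        rw [hn _ (by simp)]; exact isIntegral_zero
      have h := h0.add
        (isIntegral_algebraMap (x := Bialgebra.counitAlgHom R A a) (R := R) (A := A))
      rwa [sub_add_cancel] at h⟩
    refine ⟨Algebra.IsIntegral.finite, fun K _ _ _ => ?_⟩
    let ε : K ⊗[R] A →ₐ[K] K :=
      Algebra.TensorProduct.lift (Algebra.ofId K K) ((Algebra.ofId R K).comp (Bialgebra.counitAlgHom R A))
        (fun _ _ => Commute.all _ _)
    have hε : ∀ x, IsNilpotent (x - algebraMap K (K ⊗[R] A) (ε x)) := by
      intro x
      induction x using TensorProduct.induction_on with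
      | zero => simp
      | tmul c a =>
        have e : c ⊗ₜ[R] a - algebraMap K (K ⊗[R] A) (ε (c ⊗ₜ[R] a)) =
            c ⊗ₜ[R] (a - algebraMap R A (Bialgebra.counitAlgHom R A a)) := by
          simp only [ε, Algebra.TensorProduct.lift_tmul, AlgHom.comp_apply, Algebra.ofId_apply,
            Algebra.TensorProduct.algebraMap_apply, Algebra.algebraMap_self, RingHom.id_apply,
            TensorProduct.tmul_sub]
          rw [Algebra.algebraMap_eq_smul_one (A := A), ← TensorProduct.smul_tmul, Algebra.smul_def, mul_comm]
        rw [e]
        obtain ⟨m, hm⟩ := hnil a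
        exact ⟨m, by rw [Algebra.TensorProduct.tmul_pow, hm, TensorProduct.tmul_zero]⟩
      | add x y hx hy =>
        rw [map_add, map_add, add_sub_add_comm]
        exact (Commute.all _ _).isNilpotent_add hx hy
    haveI : Nontrivial (K ⊗[R] A) :=
      ε.toRingHom.domain_nontrivial
    refine IsLocalRing.of_isUnit_or_isUnit_one_sub_self fun x => ?_
    by_cases h0 : ε x = 0
    · right
      have h := hε x
      rw [h0, map_zero, sub_zero] at h
      exact h.isUnit_one_sub
    · left
      have h := (hε x).isUnit_add_left_of_commute ((isUnit_iff_ne_zero.mpr h0).map (algebraMap K (K ⊗[R] A)))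
        (Commute.all _ _)
      rwa [add_sub_cancel] at h
  · rintro ⟨hfin, hloc⟩
    haveI : IsNoetherianRing A := Algebra.FiniteType.isNoetherianRing R A
    let I : Ideal A := RingHom.ker (Bialgebra.counitAlgHom R A)
    have hI : I ≤ nilradical A := by
      intro a ha
      rw [nilradical_eq_sInf, Ideal.mem_sInf]
      intro P hP
      haveI : P.IsPrime := hP
      let K := AlgebraicClosure P.ResidueField
      letI : Algebra R K := ((algebraMap A K).comp (algebraMap R A)).toAlgebra
      let χ : A →ₐ[R] K := { algebraMap A K with commutes' := fun r => rfl }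
      let ε : K ⊗[R] A →ₐ[K] K :=
        Algebra.TensorProduct.lift (Algebra.ofId K K) ((Algebra.ofId R K).comp (Bialgebra.counitAlgHom R A))
          (fun _ _ => Commute.all _ _)
      let χK : K ⊗[R] A →ₐ[K] K :=
        Algebra.TensorProduct.lift (Algebra.ofId K K) χ (fun _ _ => Commute.all _ _)
      haveI := hloc K
      have h1 := IsLocalRing.eq_maximalIdeal (RingHom.ker_isMaximal_of_surjective ε
        fun c => ⟨algebraMap K _ c, ε.commutes c⟩)
      have h2 := IsLocalRing.eq_maximalIdeal (RingHom.ker_isMaximal_of_surjective χK
        fun c => ⟨algebraMap K _ c, χK.commutes c⟩)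
      have h3 : (1 : K) ⊗ₜ[R] a ∈ RingHom.ker ε := by
        rw [RingHom.mem_ker] at ha ⊢
        simp [ε, ha]
      rw [h1, ← h2, RingHom.mem_ker] at h3
      have h4 : algebraMap A K a = 0 := by simpa [χK, χ] using h3
      rw [IsScalarTower.algebraMap_apply A P.ResidueField K,
        map_eq_zero] at h4
      exact Ideal.algebraMap_residueField_eq_zero.mp h4
    obtain ⟨N, hN⟩ := (Ideal.FG.isNilpotent_iff_le_nilradical (IsNoetherian.noetherian I)).mpr hI
    refine ⟨N, fun a ha => ?_⟩
    have hmem : a ^ N ∈ I ^ N := Ideal.pow_mem_pow (RingHom.mem_ker.mpr ha) N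
    rw [hN] at hmem
    exact pow_eq_zero_of_le ((Nat.lt_pow_self (Fact.out : p.Prime).one_lt).le) hmem

end Groth.Agent.S15056
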