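import Groth.Statements.S15059
import Groth.Agent.Lib.HopfFinQuot.Basic
import Groth.Agent.Lib.HopfFinQuot.Rank

set_option autoImplicit false
universe u v
open scoped TensorProduct
open Hopf

namespace Groth.Agent.S15059

/-- Let R be a Noetherian ring, A a commutative Hopf algebra over R which is finitely generated and
projective as an R-module (a finite flat R-group G = Spec A) and I a Hopf ideal of A such that A/I
is projective over R (a finite flat closed subgroup G' = Spec (A/I) of G). Let B ⊆ A be the
R-subalgebra of functions invariant under right translation by G', namely the equaliser of the two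
algebra maps A → A ⊗_R (A/I) given by a ↦ (id ⊗ π)(Δ a) and a ↦ a ⊗ 1, so that the quotient G/G' is
Spec B and its rank is the index (G : G'). Then for every prime q of R the rank of A at q is the
rank of A/I at q times the rank of B at q: the order of G is the order of G' times the index. -/
theorem result (R : Type u) [CommRing R] [IsNoetherianRing R] (A : Type v) [CommRing A]
    [HopfAlgebra R A] [Module.Finite R A] [Module.Projective R A] (I : Ideal A) [I.IsHopfIdeal R]
    [Module.Projective R (A ⧸ I)] (q : PrimeSpectrum R) :
    Module.rankAtStalk A q =
      Module.rankAtStalk (A ⧸ I) q *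
        Module.rankAtStalk
          (↥(AlgHom.equalizer
            ((Algebra.TensorProduct.map (AlgHom.id R A) (Ideal.Quotient.mkₐ R I)).comp (Bialgebra.comulAlgHom R A))
            (Algebra.TensorProduct.includeLeft : A →ₐ[R] A ⊗[R] (A ⧸ I)))) q := by
  haveI : Module.Finite R (A ⧸ I) :=
    Module.Finite.of_surjective (Ideal.Quotient.mkₐ R I).toLinearMap Ideal.Quotient.mk_surjective
  haveI := GrothLib.HopfFinQuot.finite_inv R I
  haveI := GrothLib.HopfFinQuot.projective_inv R I
  obtain ⟨h1, h2⟩ := GrothLib.HopfFinQuot.finite_projective_invariants R I
  haveI := h1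
  haveI := h2
  exact GrothLib.HopfFinQuot.rankAtStalk_tower (B := GrothLib.HopfFinQuot.Inv R I) (M := A) q _ fun p hp => by
    rw [GrothLib.HopfFinQuot.rank_inv R I p, hp]

end Groth.Agent.S15059
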