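import Groth.Statements.S15061
import Groth.Agent.Lib.HopfFinQuot.Connected

set_option autoImplicit false
universe u
open scoped TensorProduct
open Hopf

namespace Groth.Agent.S15061

/-- Let R be a henselian Noetherian local ring and A a commutative Hopf algebra over R which is finite
and flat as an R-module (a finite flat R-group G = Spec A, not assumed commutative); let e ∈ A be an
idempotent with ε(e) = 1 such that A/(1 − e) is a local ring, so that G⁰ = Spec A/(1 − e) is the
connected component of the unit section, and let B ⊆ A be the subalgebra of functions invariant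
under right translation by G⁰: the equaliser of a ↦ (id ⊗ π)(Δ a) and a ↦ a ⊗ 1 into A ⊗_R A/(1 −
e). Then B is a sub-Hopf-algebra of A (comultiplication and antipode preserve it), B is finite étale
over R, A is faithfully flat over B, and the ideal of A generated by the elements of B killed by the
counit is exactly (1 − e). In other words G^ét := Spec B is a finite étale R-group, G → G^ét is a
faithfully flat homomorphism, and its kernel is G⁰: the sequence 1 → G⁰ → G → G^ét → 1 is exact. -/
theorem result (R : Type u) [CommRing R] [HenselianLocalRing R] [IsNoetherianRing R]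
    (A : Type u) [CommRing A] [HopfAlgebra R A] [Module.Finite R A] [Module.Flat R A]
    (e : A) (he : IsIdempotentElem e) (hε : Bialgebra.counitAlgHom R A e = 1)
    [IsLocalRing (A ⧸ Ideal.span ({1 - e} : Set A))] :
    SGA3.IsHopfSubalgebra R A
        (AlgHom.equalizer
          ((Algebra.TensorProduct.map (AlgHom.id R A) (Ideal.Quotient.mkₐ R (Ideal.span ({1 - e} : Set A)))).comp
            (Bialgebra.comulAlgHom R A))
          (Algebra.TensorProduct.includeLeft : A →ₐ[R] A ⊗[R] (A ⧸ Ideal.span ({1 - e} : Set A)))) ∧
      Algebra.Etale R ↥(AlgHom.equalizer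
          ((Algebra.TensorProduct.map (AlgHom.id R A) (Ideal.Quotient.mkₐ R (Ideal.span ({1 - e} : Set A)))).comp
            (Bialgebra.comulAlgHom R A))
          (Algebra.TensorProduct.includeLeft : A →ₐ[R] A ⊗[R] (A ⧸ Ideal.span ({1 - e} : Set A)))) ∧
      Module.FaithfullyFlat ↥(AlgHom.equalizer
          ((Algebra.TensorProduct.map (AlgHom.id R A) (Ideal.Quotient.mkₐ R (Ideal.span ({1 - e} : Set A)))).comp
            (Bialgebra.comulAlgHom R A))
          (Algebra.TensorProduct.includeLeft : A →ₐ[R] A ⊗[R] (A ⧸ Ideal.span ({1 - e} : Set A)))) A ∧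
      SGA3.augIdealSpan R A
        (AlgHom.equalizer
          ((Algebra.TensorProduct.map (AlgHom.id R A) (Ideal.Quotient.mkₐ R (Ideal.span ({1 - e} : Set A)))).comp
            (Bialgebra.comulAlgHom R A))
          (Algebra.TensorProduct.includeLeft : A →ₐ[R] A ⊗[R] (A ⧸ Ideal.span ({1 - e} : Set A)))) =
        Ideal.span ({1 - e} : Set A) := by
  haveI : Module.FinitePresentation R A := Module.finitePresentation_of_finite R A
  haveI : Module.Projective R A := Module.Flat.projective_of_finitePresentation
  haveI := GrothLib.HopfFinQuot.isHopfIdeal he hε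
  haveI := GrothLib.HopfFinQuot.projective_component (R := R) he
  exact ⟨GrothLib.HopfFinQuot.isHopfSubalgebra he hε, GrothLib.HopfFinQuot.etale_inv he hε,
    GrothLib.HopfFinQuot.faithfullyFlat_inv, GrothLib.HopfFinQuot.augIdealSpan_eq hε⟩

end Groth.Agent.S15061
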