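import Groth.Statements.S15062
import Groth.Agent.Lib.HopfFinQuot.Connected

set_option autoImplicit false
universe u
open scoped TensorProduct
open Hopf

namespace Groth.Agent.S15062

/-- Let R be a henselian Noetherian local ring and A a commutative Hopf algebra over R which is finite
and flat as an R-module (a finite flat R-group G = Spec A, not assumed commutative); let e ∈ A be an
idempotent with ε(e) = 1 such that A/(1 − e) is a local ring, so that G⁰ = Spec A/(1 − e) is the
connected component of the unit section, and let B ⊆ A be the subalgebra of functions invariant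
under right translation by G⁰: the equaliser of a ↦ (id ⊗ π)(Δ a) and a ↦ a ⊗ 1 into A ⊗_R A/(1 − e)
(so Spec B = G^ét). Then: (2) for every commutative Hopf algebra C over R which is finite étale over
R (a finite étale R-group H) and every bialgebra homomorphism φ : C → A (a homomorphism G → H), the
image of φ lies in B — the homomorphism factors (necessarily uniquely, A being faithfully flat over
B) through G → G^ét; (3) for every commutative Hopf algebra D over R which is finite and flat over R
and a local ring (a connected finite flat R-group H) and every bialgebra homomorphism ψ : A → D (a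
homomorphism H → G), ψ(e) = 1, i.e. ψ kills the ideal (1 − e) and the homomorphism factors
(uniquely) through G⁰ → G. -/
theorem result (R : Type u) [CommRing R] [HenselianLocalRing R] [IsNoetherianRing R]
    (A : Type u) [CommRing A] [HopfAlgebra R A] [Module.Finite R A] [Module.Flat R A]
    (e : A) (he : IsIdempotentElem e) (hε : Bialgebra.counitAlgHom R A e = 1)
    [IsLocalRing (A ⧸ Ideal.span ({1 - e} : Set A))] :
    (∀ (C : Type u) [CommRing C] [HopfAlgebra R C] [Module.Finite R C] [Algebra.Etale R C] (φ : C →ₐc[R] A) (c : C),
        φ c ∈ (AlgHom.equalizer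
          ((Algebra.TensorProduct.map (AlgHom.id R A) (Ideal.Quotient.mkₐ R (Ideal.span ({1 - e} : Set A)))).comp
            (Bialgebra.comulAlgHom R A))
          (Algebra.TensorProduct.includeLeft : A →ₐ[R] A ⊗[R] (A ⧸ Ideal.span ({1 - e} : Set A))))) ∧
      ∀ (D : Type u) [CommRing D] [HopfAlgebra R D] [Module.Finite R D] [Module.Flat R D] [IsLocalRing D]
        (ψ : A →ₐc[R] D), ψ e = 1 := by
  haveI : Module.FinitePresentation R A := Module.finitePresentation_of_finite R A
  haveI : Module.Projective R A := Module.Flat.projective_of_finitePresentation
  haveI := GrothLib.HopfFinQuot.isHopfIdeal he hε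
  haveI := GrothLib.HopfFinQuot.projective_component (R := R) he
  refine ⟨fun C _ _ _ _ φ c => GrothLib.HopfFinQuot.map_mem_inv hε φ c, fun D _ _ _ _ _ ψ => ?_⟩
  have hψ : IsIdempotentElem (ψ e) := he.map ψ
  rcases IsLocalRing.isUnit_or_isUnit_one_sub_self (ψ e) with h | h
  · exact (IsIdempotentElem.iff_eq_one_of_isUnit h).1 hψ
  · have h0 : ψ e = 0 := by simpa using (IsIdempotentElem.iff_eq_one_of_isUnit h).1 hψ.one_sub
    have h1 := CoalgHomClass.counit_comp_apply (R := R) ψ e
    rw [h0, map_zero, show Coalgebra.counit (R := R) e = 1 from hε] at h1
    exact absurd h1 zero_ne_one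

end Groth.Agent.S15062
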