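import Groth.Statements.S15064
import Groth.Agent.Lib.OrderP.Subgroup
import Groth.Agent.Lib.Chevalley.Exists
import Mathlib.RingTheory.Artinian.Module
import Mathlib.LinearAlgebra.Dual.Lemmas
import Mathlib.RingTheory.Nakayama

set_option autoImplicit false
universe u
open scoped TensorProduct
open Hopf

namespace Groth.Agent.S15064

open scoped TensorProduct

/-- Let k be a field of characteristic p > 0 and A a finite-dimensional commutative and cocommutative
Hopf algebra over k (a finite commutative k-group G = Spec A) which is bi-infinitesimal — A is a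
local ring and so is the dual algebra Hom_k(A, k) with the convolution product (G and its Cartier
dual are connected) — with dim_k A > 1, and assume G is simple: every Hopf ideal of A is either zero
or the augmentation ideal (G has no closed subgroup schemes other than G and 1). Then G is
isomorphic to α_p: A has a primitive element x (Δ(x) = x ⊗ 1 + 1 ⊗ x) with x^p = 0 whose powers 1,
x, …, x^(p−1) are linearly independent over k, and dim_k A = p (so A = k[x]/(x^p) with x primitive). -/
theorem result (k : Type u) [Field k] (p : ℕ) [Fact p.Prime] [CharP k p]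
    (A : Type u) [CommRing A] [HopfAlgebra k A] [Coalgebra.IsCocomm k A] [FiniteDimensional k A] [IsLocalRing A]
    (hdual : IsLocalRing (WithConv (A →ₗ[k] k))) (hA : 1 < Module.finrank k A)
    (hsimple : ∀ I : Ideal A, I.IsHopfIdeal k → I = ⊥ ∨ I = RingHom.ker (Bialgebra.counitAlgHom k A)) :
    ∃ x : A, Coalgebra.comul x = x ⊗ₜ[k] (1 : A) + (1 : A) ⊗ₜ[k] x ∧ x ^ p = 0 ∧
      LinearIndependent k (fun i : Fin p => x ^ (i : ℕ)) ∧ Module.finrank k A = p := by
  classical
  let D := WithConv (A →ₗ[k] k)
  let m := RingHom.ker (Bialgebra.counitAlgHom k A)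
  haveI : m.IsMaximal := RingHom.ker_isMaximal_of_surjective _
    fun c => ⟨algebraMap k A c, by simp⟩
  have hmax : m = IsLocalRing.maximalIdeal A := IsLocalRing.eq_maximalIdeal inferInstance
  haveI : IsNoetherianRing A := isNoetherian_of_tower k inferInstance
  let U : Submodule k A := Submodule.span k {(1 : A)} ⊔ (m * m).restrictScalars k
  have hU : U ≠ ⊤ := fun htop => by
    have hle : m ≤ m • m := fun y hy => by
      obtain ⟨a, ha, b, hb, hab⟩ := Submodule.mem_sup.1 (htop ▸ Submodule.mem_top : y ∈ U)
      obtain ⟨c, rfl⟩ := Submodule.mem_span_singleton.1 ha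
      have hy0 : Bialgebra.counitAlgHom k A y = 0 := hy
      have hb0 : Bialgebra.counitAlgHom k A b = 0 := Ideal.mul_le_left (I := m) hb
      rw [← hab, map_add, hb0, add_zero, map_smul, map_one, smul_eq_mul, mul_one] at hy0
      rw [← hab, hy0, zero_smul, zero_add, smul_eq_mul]
      exact hb
    have hbot : m = ⊥ := Submodule.eq_bot_of_le_smul_of_le_jacobson_bot m m (IsNoetherian.noetherian m) hle
      (by rw [IsLocalRing.jacobson_eq_maximalIdeal ⊥ bot_ne_top, hmax])
    have hinj : Function.Injective (Bialgebra.counitAlgHom k A) := (RingHom.injective_iff_ker_eq_bot _).2 hbot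
    have h1 := LinearMap.finrank_le_finrank_of_injective (f := (Bialgebra.counitAlgHom k A).toLinearMap) hinj
    rw [Module.finrank_self] at h1
    omega
  obtain ⟨f, hf0, hf⟩ := Submodule.exists_le_ker_of_lt_top U hU.lt_top
  have h1 : f 1 = 0 := hf (Submodule.mem_sup_left (Submodule.mem_span_singleton_self _))
  let Y : D := WithConv.toConv f
  have hY : GrothLib.OrderP.IsDer Y := by
    intro a b
    have hm : ∀ c : A, c - Coalgebra.counit (R := k) c • (1 : A) ∈ m := fun c => by
      simp [m, RingHom.mem_ker]
    have h0 : f ((a - Coalgebra.counit (R := k) a • (1 : A)) * (b - Coalgebra.counit (R := k) b • (1 : A))) = 0 :=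
      hf (Submodule.mem_sup_right (Ideal.mul_mem_mul (hm a) (hm b)))
    simp only [sub_mul, mul_sub, smul_mul_assoc, mul_smul_comm, one_mul, mul_one, map_sub, map_smul, smul_eq_mul,
      h1, mul_zero, sub_zero] at h0
    show f (a * b) = _
    linear_combination h0
  haveI : IsLocalRing D := hdual
  haveI : Module.Finite k D := Module.Finite.equiv (WithConv.linearEquiv k (A →ₗ[k] k)).symm
  haveI : IsArtinianRing D := IsArtinianRing.of_finite k D
  have hnil : IsNilpotent Y := by
    have hnu : ¬ IsUnit Y := fun hu => by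
      let ev : D →* k :=
        { toFun := fun φ => φ 1
          map_one' := by simp
          map_mul' := fun φ ψ => by
            rw [LinearMap.convMul_apply, Bialgebra.comul_one, Algebra.TensorProduct.one_def]
            rfl }
      exact (hu.map ev).ne_zero h1
    have : Y ∈ nilradical D := by
      rw [nilradical, Ideal.radical_eq_sInf, Submodule.mem_sInf]
      rintro P ⟨-, hP⟩
      haveI : Ideal.IsMaximal P := IsArtinianRing.isMaximal_of_isPrime P
      rw [IsLocalRing.eq_maximalIdeal (I := P) inferInstance]
      exact hnu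
    exact this
  have hex : ∃ i, Y ^ p ^ i = 0 := by
    obtain ⟨n, hn⟩ := hnil
    exact ⟨n, pow_eq_zero_of_le (Nat.lt_pow_self (Fact.out : p.Prime).one_lt).le hn⟩
  obtain ⟨i, hi⟩ : ∃ i, Nat.find hex = i + 1 := by
    refine Nat.exists_eq_succ_of_ne_zero fun h => hf0 ?_
    have := Nat.find_spec hex
    rw [h, pow_zero, pow_one] at this
    exact congrArg WithConv.ofConv this
  have hne : Y ^ p ^ i ≠ 0 := Nat.find_min hex (by omega)
  have hzero : (Y ^ p ^ i) ^ p = 0 := by
    rw [← pow_mul, ← pow_succ, ← hi]
    exact Nat.find_spec hex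
  obtain ⟨g, hg⟩ := GrothLib.OrderP.exists_alphaP (GrothLib.OrderP.isDer_pow_pow hY i) hne hzero
  haveI := GrothLib.Chevalley.isHopfIdeal_ker g hg
  have hinj : Function.Injective g := by
    refine (RingHom.injective_iff_ker_eq_bot (g : A →ₐ[k] AlphaP.A p k)).2 ?_
    rcases hsimple _ this with h | h
    · exact h
    · exfalso
      obtain ⟨a, ha⟩ := hg (AlphaP.x p k)
      have hε : Bialgebra.counitAlgHom k A a = 0 := by
        change Coalgebra.counit (R := k) a = 0
        rw [← CoalgHomClass.counit_comp_apply g a, ha, AlphaP.counit_x]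
      have ha' : g a = 0 := (h ▸ hε : a ∈ RingHom.ker (g : A →ₐ[k] AlphaP.A p k))
      have hb := AlphaP.basis_apply p k ⟨1, (Fact.out : p.Prime).one_lt⟩
      rw [pow_one, ← ha, ha'] at hb
      exact (AlphaP.basis p k).ne_zero _ hb
  let E := LinearEquiv.ofBijective (g : A →ₐ[k] AlphaP.A p k).toLinearMap ⟨hinj, hg⟩
  obtain ⟨x, hx⟩ := hg (AlphaP.x p k)
  refine ⟨x, ?_, hinj (by rw [map_pow, hx, AlphaP.x_pow, map_zero]), ?_, E.finrank_eq.trans (AlphaP.finrank_eq p k)⟩
  · have hi2 : Function.Injective (TensorProduct.map (g : A →ₐ[k] AlphaP.A p k).toLinearMap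
        (g : A →ₐ[k] AlphaP.A p k).toLinearMap) := by
      rw [← LinearMap.lTensor_comp_rTensor]
      exact (Module.Flat.lTensor_preserves_injective_linearMap _ hinj).comp
        (Module.Flat.rTensor_preserves_injective_linearMap _ hinj)
    refine hi2 ?_
    refine (CoalgHomClass.map_comp_comul_apply g x).trans ?_
    rw [hx, AlphaP.comul_x, map_add]
    change _ = g x ⊗ₜ[k] g 1 + g 1 ⊗ₜ[k] g x
    rw [hx, map_one]
  · refine LinearIndependent.of_comp (g : A →ₐ[k] AlphaP.A p k).toLinearMap ?_
    have : (g : A →ₐ[k] AlphaP.A p k).toLinearMap ∘ (fun i : Fin p => x ^ (i : ℕ)) = AlphaP.basis p k := funext fun i => by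
      change g (x ^ (i : ℕ)) = _
      rw [map_pow, hx, AlphaP.basis_apply]
    rw [this]
    exact (AlphaP.basis p k).linearIndependent


end Groth.Agent.S15064
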