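import Groth.Statements.S15065
import Groth.Agent.Lib.HopfAG.PointSub
import Mathlib.GroupTheory.SpecificGroups.Cyclic

set_option autoImplicit false
universe u
open Hopf

namespace Groth.Agent.S15065

/-- Let k be an algebraically closed field and A a finite-dimensional commutative and cocommutative Hopf
algebra over k which is reduced (a finite étale commutative k-group G = Spec A), with dim_k A > 1,
and assume G is simple: every Hopf ideal of A is either zero or the augmentation ideal (no closed
subgroup schemes other than G and 1). Then the order dim_k A is a prime number ℓ, so that G is the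
constant group ℤ/ℓℤ. (The published statement lists the simple finite commutative groups over an
algebraically closed field of characteristic p > 0; the étale case does not use the characteristic
and is stated here for any algebraically closed field.) -/
theorem result (k : Type u) [Field k] [IsAlgClosed k] (A : Type u) [CommRing A] [HopfAlgebra k A]
    [Coalgebra.IsCocomm k A] [FiniteDimensional k A] [IsReduced A] (hA : 1 < Module.finrank k A)
    (hsimple : ∀ I : Ideal A, I.IsHopfIdeal k → I = ⊥ ∨ I = RingHom.ker (Bialgebra.counitAlgHom k A)) :
    (Module.finrank k A).Prime := by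
  classical
  haveI := GrothLib.ArtAC.finite_algHom k (A := A)
  haveI : Fintype (A →ₐ[k] k) := Fintype.ofFinite _
  letI : Fintype (WithConv (A →ₐ[k] k)) := Fintype.ofEquiv _ (WithConv.equiv _).symm
  let ev := AlgEquiv.ofBijective _ (GrothLib.ArtAC.eval_bijective_of_isReduced k (A := A))
  have hcard : Module.finrank k A = Fintype.card (WithConv (A →ₐ[k] k)) := by
    rw [ev.toLinearEquiv.finrank_eq, Module.finrank_pi]
    exact Fintype.card_congr (WithConv.equiv (A →ₐ[k] k)).symm
  haveI : Nontrivial (WithConv (A →ₐ[k] k)) := Fintype.one_lt_card_iff_nontrivial.mp (hcard ▸ hA)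
  haveI : IsSimpleGroup (WithConv (A →ₐ[k] k)) := by
    refine ⟨fun H _ => ?_⟩
    rcases hsimple _ (GrothLib.HopfAG.isHopfIdeal_iInf_ker H) with h | h
    · right
      refine eq_top_iff.mpr fun g _ => ?_
      exact GrothLib.HopfAG.mem_of_iInf_ker_le (g := g.ofConv) (h.le.trans bot_le)
    · left
      refine (Subgroup.eq_bot_iff_forall _).mpr fun g hg => ?_
      have hle : RingHom.ker (Bialgebra.counitAlgHom k A) ≤ RingHom.ker (g.ofConv : A →ₐ[k] k) :=
        h.ge.trans (iInf₂_le g hg)
      refine WithConv.ext (AlgHom.ext fun a => ?_)
      have h1 := hle (show a - algebraMap k A (Coalgebra.counit (R := k) a) ∈ RingHom.ker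
        (Bialgebra.counitAlgHom k A) by simp [RingHom.mem_ker])
      rw [RingHom.mem_ker, map_sub, AlgHom.commutes, sub_eq_zero] at h1
      exact h1
  rw [hcard, ← Nat.card_eq_fintype_card]
  exact IsSimpleGroup.prime_card

end Groth.Agent.S15065
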