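import Groth.Statements.S15066
import Groth.Agent.S11928
import Groth.Agent.Lib.ArtAC.Basic
import Groth.Agent.Lib.Hopf.FiniteRank
import Mathlib.RingTheory.HopfAlgebra.GroupLike
import Mathlib.RingTheory.Bialgebra.MonoidAlgebra
import Mathlib.GroupTheory.QuotientGroup.Basic
import Mathlib.GroupTheory.OrderOfElement
import Mathlib.RingTheory.Artinian.Module
import Mathlib.LinearAlgebra.Dual.Lemmas
-- import your own Groth.Agent.* helpers here

set_option autoImplicit false
universe u
open Hopf

namespace Groth.Agent.S15066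

/-- Let k be an algebraically closed field of characteristic p > 0 and A a finite-dimensional
commutative and cocommutative Hopf algebra over k (a finite commutative k-group G = Spec A) which is
a local ring (G connected) and whose dual algebra Hom_k(A, k) with the convolution product is
reduced (the Cartier dual of G is étale, i.e. G is multiplicative), with dim_k A > 1, and assume G
is simple: every Hopf ideal of A is either zero or the augmentation ideal (no closed subgroup
schemes other than G and 1). Then G is isomorphic to μ_p: A has a group-like element g (Δ(g) = g ⊗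
g, ε(g) = 1) with g^p = 1 whose powers 1, g, …, g^(p−1) are linearly independent over k, and dim_k A
= p (so A = k[g]/(g^p − 1)). -/
theorem result (k : Type u) [Field k] [IsAlgClosed k] (p : ℕ) [Fact p.Prime]
    [CharP k p] (A : Type u) [CommRing A] [HopfAlgebra k A] [Coalgebra.IsCocomm k A] [FiniteDimensional k A]
    [IsLocalRing A] (hdual : IsReduced (WithConv (A →ₗ[k] k))) (hA : 1 < Module.finrank k A)
    (hsimple : ∀ I : Ideal A, I.IsHopfIdeal k → I = ⊥ ∨ I = RingHom.ker (Bialgebra.counitAlgHom k A)) :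
    ∃ g : A, IsGroupLikeElem k g ∧ g ^ p = 1 ∧ LinearIndependent k (fun i : Fin p => g ^ (i : ℕ)) ∧
      Module.finrank k A = p := by
  classical
  haveI : IsReduced (WithConv (A →ₗ[k] k)) := hdual
  haveI : Module.Finite k (WithConv (A →ₗ[k] k)) := Module.Finite.equiv (WithConv.linearEquiv k (A →ₗ[k] k)).symm
  have hspan : Submodule.span k (Set.range (GroupLike.val (R := k) (A := A))) = ⊤ := by
    rw [← Subspace.dualAnnihilator_inj, Submodule.dualAnnihilator_top, eq_bot_iff]
    intro φ hφ
    rw [Submodule.mem_bot]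
    have h0 : WithConv.toConv φ = 0 := by
      refine (GrothLib.ArtAC.eval_bijective_of_isReduced k (A := WithConv (A →ₗ[k] k))).1 ?_
      rw [map_zero]
      funext χ
      obtain ⟨x, ⟨hx, hxe⟩, -⟩ := (Groth.Agent.S11928.result k A).1 χ
      change χ (WithConv.toConv φ) = 0
      rw [hxe]
      exact (Submodule.mem_dualAnnihilator φ).mp hφ x (Submodule.subset_span ⟨⟨x, hx⟩, rfl⟩)
    exact congrArg WithConv.ofConv h0
  let b : Module.Basis (GroupLike k A) k A := Module.Basis.mk linearIndep_groupLikeVal hspan.ge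
  haveI : Finite (GroupLike k A) := Module.Finite.finite_basis b
  haveI : Fintype (GroupLike k A) := Fintype.ofFinite _
  have hcard : Module.finrank k A = Fintype.card (GroupLike k A) := Module.finrank_eq_card_basis b
  haveI : Nontrivial (GroupLike k A) := Fintype.one_lt_card_iff_nontrivial.mp (hcard ▸ hA)
  obtain ⟨g₀, hg₀⟩ := exists_ne (1 : GroupLike k A)
  haveI : CharP A p := charP_of_injective_algebraMap (algebraMap k A).injective p
  haveI : IsArtinianRing A := IsArtinianRing.of_finite k A
  have hpow : ∀ g : GroupLike k A, ∃ N : ℕ, g ^ p ^ N = 1 := by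
    intro g
    have hmem : (g : A) - 1 ∈ IsLocalRing.maximalIdeal A := fun hu => by
      have h1 := hu.map (Bialgebra.counitAlgHom k A)
      simp [g.2.counit_eq_one] at h1
    obtain ⟨N, hN⟩ : IsNilpotent ((g : A) - 1) := IsArtinianRing.isNilpotent_jacobson_bot (R := A) |>
      fun ⟨n, hn⟩ => ⟨n, by
        have := Ideal.pow_mem_pow (IsLocalRing.jacobson_eq_maximalIdeal (⊥ : Ideal A) bot_ne_top ▸ hmem :
          (g : A) - 1 ∈ (⊥ : Ideal A).jacobson) n
        rwa [hn] at this⟩
    refine ⟨N, GroupLike.val_injective ?_⟩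
    have h2 : ((g : A) - 1) ^ p ^ N = 0 := pow_eq_zero_of_le (Nat.lt_pow_self (Fact.out : p.Prime).one_lt).le hN
    rw [sub_pow_char_pow, one_pow, sub_eq_zero] at h2
    simpa using h2
  obtain ⟨N, hN⟩ := hpow g₀
  obtain ⟨g, hg⟩ : ∃ g : GroupLike k A, orderOf g = p := by
    obtain ⟨j, -, hj⟩ := (Nat.dvd_prime_pow (Fact.out : p.Prime)).mp (orderOf_dvd_of_pow_eq_one hN)
    have hj0 : j ≠ 0 := fun h => hg₀ (orderOf_eq_one_iff.mp (by rw [hj, h, pow_zero]))
    exact ⟨g₀ ^ p ^ (j - 1), orderOf_eq_prime (by rw [← pow_mul, ← pow_succ, Nat.sub_add_cancel (Nat.one_le_iff_ne_zero.mpr hj0), ← hj, pow_orderOf_eq_one]) (fun h => by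
      have h1 := orderOf_dvd_of_pow_eq_one h
      rw [hj] at h1
      have := (Nat.pow_dvd_pow_iff_le_right (Fact.out : p.Prime).one_lt).mp h1
      omega)⟩
  have hg1 : (g : A) ≠ 1 := fun h => (Fact.out : p.Prime).ne_one (hg ▸ orderOf_eq_one_iff.mpr (GroupLike.val_injective (h.trans GroupLike.val_one.symm)))
  let I : Ideal A := Ideal.span {(g : A) - 1}
  have hI : I.IsHopfIdeal k := by
    refine GrothLib.Hopf.FiniteRank.isHopfIdeal_of I ?_ ?_ ?_
    · intro a ha
      obtain ⟨c, rfl⟩ := Ideal.mem_span_singleton'.mp ha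
      change Bialgebra.counitAlgHom k A (c * ((g : A) - 1)) = 0
      rw [map_mul, map_sub, map_one, show Bialgebra.counitAlgHom k A (g : A) = 1 from g.2.counit_eq_one]
      simp
    · intro a ha
      obtain ⟨c, rfl⟩ := Ideal.mem_span_singleton'.mp ha
      have h0 : Ideal.Quotient.mkₐ k I (g : A) = 1 := by
        rw [← sub_eq_zero, ← map_one (Ideal.Quotient.mkₐ k I), ← map_sub]
        exact Ideal.Quotient.eq_zero_iff_mem.mpr (Ideal.mem_span_singleton_self _)
      rw [map_mul, map_mul]
      refine mul_eq_zero_of_right _ ?_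
      rw [map_sub, map_one, map_sub, map_one, show Bialgebra.comulAlgHom k A (g : A) = (g : A) ⊗ₜ[k] (g : A) from g.2.comul_eq_tmul_self,
        Algebra.TensorProduct.map_tmul, h0, Algebra.TensorProduct.one_def, sub_self]
    · intro a ha
      obtain ⟨c, rfl⟩ := Ideal.mem_span_singleton'.mp ha
      rw [← HopfAlgebra.antipodeAlgHom_apply, map_mul, map_sub, map_one]
      refine Ideal.mul_mem_left _ _ ?_
      have h1 : HopfAlgebra.antipodeAlgHom k A (g : A) = ((g⁻¹ : GroupLike k A) : A) := rfl
      have h2 : ((g⁻¹ : GroupLike k A) : A) * (g : A) = 1 := by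
        rw [← GroupLike.val_mul, inv_mul_cancel, GroupLike.val_one]
      refine Ideal.mem_span_singleton'.mpr ⟨-((g⁻¹ : GroupLike k A) : A), ?_⟩
      rw [h1, neg_mul, mul_sub, h2, mul_one]
      ring
  have hIne : I ≠ ⊥ := fun h => hg1 (sub_eq_zero.mp (Ideal.span_singleton_eq_bot.mp h))
  have hIker := (hsimple I hI).resolve_left hIne
  let val : GroupLike k A →* A := { toFun := GroupLike.val, map_one' := rfl, map_mul' := fun _ _ => rfl }
  let φ : MonoidAlgebra k (GroupLike k A) →ₐ[k] A := MonoidAlgebra.lift k A (GroupLike k A) val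
  have hφ : ∀ h : GroupLike k A, φ (MonoidAlgebra.single h 1) = (h : A) := fun h => by simp [φ, val]
  have hbij : Function.Bijective φ := by
    have e : ∀ z : MonoidAlgebra k (GroupLike k A), φ z = Finsupp.linearCombination k (GroupLike.val (R := k) (A := A)) z.coeff := fun z => by
      change (MonoidAlgebra.lift k A (GroupLike k A) val) z = _
      rw [MonoidAlgebra.lift_apply, Finsupp.linearCombination_apply]
      rfl
    refine ⟨fun x y h => ?_, fun a => ?_⟩
    · rw [e, e] at h
      exact MonoidAlgebra.coeff_injective (linearIndep_groupLikeVal (R := k) (A := A) h)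
    · obtain ⟨c, hc⟩ := Finsupp.mem_span_range_iff_exists_finsupp.mp (hspan.ge (Submodule.mem_top : a ∈ ⊤))
      exact ⟨MonoidAlgebra.ofCoeff c, (e _).trans (by rw [Finsupp.linearCombination_apply]; exact hc)⟩
  have htop : Subgroup.zpowers g = ⊤ := by
    refine eq_top_iff.mpr fun h _ => ?_
    have hh : (h : A) - 1 ∈ I := by
      rw [hIker, RingHom.mem_ker, map_sub, map_one, show Bialgebra.counitAlgHom k A (h : A) = 1 from h.2.counit_eq_one, sub_self]
    obtain ⟨c, hc⟩ := Ideal.mem_span_singleton'.mp hh
    obtain ⟨c, rfl⟩ := hbij.2 c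
    have h3 : c * (MonoidAlgebra.single g 1 - 1) = MonoidAlgebra.single h 1 - 1 := hbij.1 (by
      rw [map_mul, map_sub, map_sub, map_one, hφ, hφ]; exact hc)
    let q : MonoidAlgebra k (GroupLike k A) →ₐ[k] MonoidAlgebra k (GroupLike k A ⧸ Subgroup.zpowers g) :=
      MonoidAlgebra.mapDomainAlgHom k k (QuotientGroup.mk' (Subgroup.zpowers g))
    have hq : ∀ x : GroupLike k A, q (MonoidAlgebra.single x 1) = MonoidAlgebra.single (QuotientGroup.mk' (Subgroup.zpowers g) x) 1 :=
      fun x => MonoidAlgebra.mapDomain_single ..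
    have h4 := congrArg q h3
    rw [map_mul, map_sub, map_sub, map_one, hq, hq,
      show QuotientGroup.mk' (Subgroup.zpowers g) g = 1 from (QuotientGroup.eq_one_iff g).mpr (Subgroup.mem_zpowers g),
      MonoidAlgebra.one_def, sub_self, mul_zero, eq_comm, sub_eq_zero] at h4
    exact (QuotientGroup.eq_one_iff h).mp (Finsupp.single_left_injective one_ne_zero (congrArg MonoidAlgebra.coeff h4))
  refine ⟨g, g.2, ?_, ?_, ?_⟩
  · rw [← GroupLike.val_pow, ← hg, pow_orderOf_eq_one, GroupLike.val_one]
  · have hinj : Function.Injective fun i : Fin p => g ^ (i : ℕ) := fun i j h => Fin.ext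
      (pow_injOn_Iio_orderOf (show (i : ℕ) < orderOf g from hg ▸ i.2) (show (j : ℕ) < orderOf g from hg ▸ j.2) h)
    exact (linearIndep_groupLikeVal (R := k) (A := A)).comp _ hinj
  · rw [hcard, ← Nat.card_eq_fintype_card, ← Subgroup.card_top, ← htop, Nat.card_zpowers, hg]

end Groth.Agent.S15066
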