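import Groth.Statements.S15067
import Groth.Agent.Lib.HopfFinQuot.Kernel

set_option autoImplicit false
universe u
open scoped TensorProduct
open Hopf

namespace Groth.Agent.S15067

/-- Let R be a henselian Noetherian local ring, A and A'' commutative Hopf algebras over R which are
finite and flat as R-modules (finite flat R-groups G = Spec A, G'' = Spec A''), and A'' → A an
R-algebra homomorphism compatible with the comultiplications and counits (a homomorphism π : G →
G'') making A a faithfully flat A''-module (π faithfully flat). Let J ⊆ A be the ideal generated by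
the image of the augmentation ideal of A'', so that G' = Spec A/J is the kernel of π and 1 → G' → G
→ G'' → 1 is an exact sequence of finite flat R-groups. Then: (2) if A'' and A/J are local rings
(G'' and G' connected), A is a local ring (G is connected); (3) if A'' and A/J are étale over R (G''
and G' finite étale), A is étale over R (G is finite étale). -/
theorem result (R : Type u) [CommRing R] [HenselianLocalRing R] [IsNoetherianRing R]
    (A A'' : Type u) [CommRing A] [HopfAlgebra R A] [Module.Finite R A] [Module.Flat R A]
    [CommRing A''] [HopfAlgebra R A''] [Module.Finite R A''] [Module.Flat R A'']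
    [Algebra A'' A] [IsScalarTower R A'' A] [Module.FaithfullyFlat A'' A]
    (hΔ : (Bialgebra.comulAlgHom R A).comp (IsScalarTower.toAlgHom R A'' A) =
      (Algebra.TensorProduct.map (IsScalarTower.toAlgHom R A'' A) (IsScalarTower.toAlgHom R A'' A)).comp
        (Bialgebra.comulAlgHom R A''))
    (hε : (Bialgebra.counitAlgHom R A).comp (IsScalarTower.toAlgHom R A'' A) = Bialgebra.counitAlgHom R A'') :
    ((IsLocalRing A'' ∧
        IsLocalRing (A ⧸ (RingHom.ker (Bialgebra.counitAlgHom R A'')).map (algebraMap A'' A))) → IsLocalRing A) ∧
      ((Algebra.Etale R A'' ∧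
        Algebra.Etale R (A ⧸ (RingHom.ker (Bialgebra.counitAlgHom R A'')).map (algebraMap A'' A))) →
        Algebra.Etale R A) := by
  refine ⟨fun ⟨h1, h2⟩ => ?_, fun ⟨h1, h2⟩ => ?_⟩
  · haveI := h1
    haveI := h2
    haveI : Nontrivial A := (Bialgebra.counitAlgHom R A).toRingHom.domain_nontrivial
    haveI : Module.Finite A'' A := Module.Finite.of_restrictScalars_finite R A'' A
    haveI : Algebra.IsIntegral A'' A := Algebra.IsIntegral.of_finite A'' A
    have hJ : ∀ M : Ideal A, M.IsMaximal → GrothLib.HopfFinQuot.kerIdeal R A A'' ≤ M := by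
      intro M hM
      haveI := hM
      rw [GrothLib.HopfFinQuot.kerIdeal, Ideal.map_le_iff_le_comap,
        IsLocalRing.eq_maximalIdeal (Ideal.isMaximal_comap_of_isIntegral_of_isMaximal (R := A'') M)]
      exact IsLocalRing.le_maximalIdeal (RingHom.ker_ne_top _)
    refine IsLocalRing.of_unique_max_ideal ?_
    obtain ⟨M, hM⟩ := Ideal.exists_maximal A
    refine ⟨M, hM, fun N hN => ?_⟩
    let q := Ideal.Quotient.mk (GrothLib.HopfFinQuot.kerIdeal R A A'')
    have key : ∀ P : Ideal A, P.IsMaximal →
        P = (IsLocalRing.maximalIdeal (A ⧸ GrothLib.HopfFinQuot.kerIdeal R A A'')).comap q := by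
      intro P hP
      refine hP.eq_of_le (Ideal.comap_ne_top _ (IsLocalRing.maximalIdeal.isMaximal _).ne_top) ?_
      have hk : RingHom.ker q ≤ P := by rw [Ideal.mk_ker]; exact hJ P hP
      rcases Ideal.map_eq_top_or_isMaximal_of_surjective q Ideal.Quotient.mk_surjective hP with h | h
      · exfalso
        have := congrArg (Ideal.comap q) h
        rw [Ideal.comap_map_of_surjective q Ideal.Quotient.mk_surjective, ← RingHom.ker_eq_comap_bot,
          sup_eq_left.2 hk, Ideal.comap_top] at this
        exact hP.ne_top this
      · rw [← IsLocalRing.eq_maximalIdeal h]; exact Ideal.le_comap_map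
    rw [key N hN, key M hM]
  · haveI := h1
    haveI : Algebra.Etale R (A ⧸ GrothLib.HopfFinQuot.kerIdeal R A A'') := h2
    haveI := GrothLib.HopfFinQuot.etale_of_kernel (R := R) (A := A) (A'' := A'') hΔ
    exact Algebra.Etale.comp R A'' A

end Groth.Agent.S15067
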