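import Groth.Statements.S15068
import Groth.Agent.Lib.HopfFinQuot.Kernel
import Mathlib.RingTheory.Unramified.LocalRing
import Mathlib.RingTheory.Flat.EquationalCriterion
import Mathlib.RingTheory.Henselian

set_option autoImplicit false
universe u
open scoped TensorProduct
open Hopf

namespace Groth.Agent.S15068

/-- Let R be a henselian Noetherian local ring, A and A'' commutative Hopf algebras over R which are
finite and flat as R-modules, and A'' → A an R-algebra homomorphism compatible with
comultiplications and counits making A faithfully flat over A'' (a faithfully flat homomorphism π :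
G → G'' of finite flat R-groups); let J ⊆ A be the ideal generated by the image of the augmentation
ideal of A'' (G' = Spec A/J = ker π, so 1 → G' → G → G'' → 1 is exact). Assume A'' is a local ring
(G'' connected) and A/J is étale over R (G' finite étale), and let e ∈ A be an idempotent with ε(e)
= 1 such that A/(1 − e) is local (G⁰ = Spec A/(1 − e), the unit component of G). Then the composite
A'' → A → A/(1 − e) is bijective: the restriction G⁰ → G'' of π is an isomorphism, whose inverse
splits the extension, G ≅ G' × G''. -/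
theorem result (R : Type u) [CommRing R] [HenselianLocalRing R]
    [IsNoetherianRing R] (A A'' : Type u) [CommRing A] [HopfAlgebra R A] [Module.Finite R A] [Module.Flat R A]
    [CommRing A''] [HopfAlgebra R A''] [Module.Finite R A''] [Module.Flat R A'']
    [Algebra A'' A] [IsScalarTower R A'' A] [Module.FaithfullyFlat A'' A]
    (hΔ : (Bialgebra.comulAlgHom R A).comp (IsScalarTower.toAlgHom R A'' A) =
      (Algebra.TensorProduct.map (IsScalarTower.toAlgHom R A'' A) (IsScalarTower.toAlgHom R A'' A)).comp
        (Bialgebra.comulAlgHom R A''))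
    (hε : (Bialgebra.counitAlgHom R A).comp (IsScalarTower.toAlgHom R A'' A) = Bialgebra.counitAlgHom R A'')
    [IsLocalRing A''] [Algebra.Etale R (A ⧸ (RingHom.ker (Bialgebra.counitAlgHom R A'')).map (algebraMap A'' A))]
    (e : A) (he : IsIdempotentElem e) (heε : Bialgebra.counitAlgHom R A e = 1)
    [IsLocalRing (A ⧸ Ideal.span ({1 - e} : Set A))] :
    Function.Bijective ((Ideal.Quotient.mkₐ R (Ideal.span ({1 - e} : Set A))).comp (IsScalarTower.toAlgHom R A'' A)) := by
  haveI : Module.FinitePresentation R A := Module.finitePresentation_of_finite R A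
  haveI : Module.Projective R A := Module.Flat.projective_of_finitePresentation
  let K := GrothLib.HopfFinQuot.kerIdeal R A A''
  haveI : Algebra.Etale R (A ⧸ K) := ‹_›
  haveI := GrothLib.HopfFinQuot.etale_of_kernel (R := R) (A := A) (A'' := A'') hΔ
  let I₀ : Ideal A := Ideal.span {1 - e}
  haveI : IsLocalRing (A ⧸ I₀) := ‹_›
  haveI : Module.Finite A'' A := Module.Finite.of_restrictScalars_finite R A'' A
  haveI : Module.Finite A'' (A ⧸ I₀) :=
    Module.Finite.of_surjective (Ideal.Quotient.mkₐ A'' I₀).toLinearMap Ideal.Quotient.mk_surjective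
  haveI : Algebra.FormallyUnramified A'' (A ⧸ I₀) :=
    Algebra.FormallyUnramified.of_surjective (Ideal.Quotient.mkₐ A'' I₀) Ideal.Quotient.mk_surjective
  let s : A ⧸ I₀ →ₗ[A''] A := Submodule.liftQ (Submodule.restrictScalars A'' I₀) (LinearMap.mulLeft A'' e) fun x hx => by
    obtain ⟨c, rfl⟩ := Ideal.mem_span_singleton'.1 (show x ∈ I₀ from hx)
    rw [LinearMap.mem_ker, LinearMap.mulLeft_apply]
    linear_combination (-c) * he.eq
  haveI : Module.Flat A'' (A ⧸ I₀) := by
    refine Module.Flat.of_retract s (Ideal.Quotient.mkₐ A'' I₀).toLinearMap (LinearMap.ext fun x => ?_)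
    obtain ⟨a, rfl⟩ := Ideal.Quotient.mk_surjective x
    change Ideal.Quotient.mk I₀ (e * a) = Ideal.Quotient.mk I₀ a
    rw [Ideal.Quotient.eq, show e * a - a = (-a) * (1 - e) by ring]
    exact Ideal.mul_mem_left _ _ (Ideal.subset_span rfl)
  haveI : IsLocalHom (algebraMap A'' (A ⧸ I₀)) := by
    haveI : Algebra.IsIntegral A'' (A ⧸ I₀) := Algebra.IsIntegral.of_finite A'' _
    refine ((IsLocalRing.local_hom_TFAE (algebraMap A'' (A ⧸ I₀))).out 0 4).2 ?_
    exact IsLocalRing.eq_maximalIdeal (Ideal.isMaximal_comap_of_isIntegral_of_isMaximal _)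
  let ε₀ : A ⧸ I₀ →ₐ[R] R := Ideal.Quotient.liftₐ _ (Bialgebra.counitAlgHom R A) fun a ha => by
    obtain ⟨c, rfl⟩ := Ideal.mem_span_singleton'.1 ha
    rw [map_mul, map_sub, heε, map_one, sub_self, mul_zero]
  refine ⟨?_, ?_⟩
  · haveI : Module.FaithfullyFlat A'' (A ⧸ I₀) := Module.FaithfullyFlat.of_flat_of_isLocalHom
    exact FaithfulSMul.algebraMap_injective A'' (A ⧸ I₀)
  · have hm : (IsLocalRing.maximalIdeal A'').map (algebraMap A'' (A ⧸ I₀)) = IsLocalRing.maximalIdeal _ :=
      Algebra.FormallyUnramified.map_maximalIdeal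
    have hrange : LinearMap.range (Algebra.linearMap A'' (A ⧸ I₀)) = ⊤ := by
      refine Submodule.eq_top_iff'.2 fun x => ?_
      have hle : (⊤ : Submodule A'' (A ⧸ I₀)) ≤ LinearMap.range (Algebra.linearMap A'' (A ⧸ I₀)) := by
        refine Submodule.le_of_le_smul_of_le_jacobson_bot Module.Finite.fg_top
          (IsLocalRing.maximalIdeal_le_jacobson ⊥) fun y _ => ?_
        rw [Ideal.smul_top_eq_map, hm, show y = algebraMap A'' (A ⧸ I₀) (algebraMap R A'' (ε₀ y)) +
          (y - algebraMap R (A ⧸ I₀) (ε₀ y)) by rw [← IsScalarTower.algebraMap_apply]; ring]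
        refine Submodule.add_mem_sup ⟨_, rfl⟩ ?_
        refine (IsLocalRing.le_maximalIdeal (RingHom.ker_ne_top ε₀) : _ ≤ IsLocalRing.maximalIdeal (A ⧸ I₀)) ?_
        rw [RingHom.mem_ker, map_sub, AlgHom.commutes, Algebra.algebraMap_self_apply, sub_self]
      exact hle trivial
    exact LinearMap.range_eq_top.1 hrange

end Groth.Agent.S15068
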