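import Groth.Statements.S1507
import Groth.Agent.Lib.PerfHom.Examples
import Mathlib.Algebra.Homology.DerivedCategory.SingleTriangle
-- import your own Groth.Agent.* helpers here

set_option autoImplicit false
universe u
attribute [local instance] HasDerivedCategory.standard
open FlatMor

namespace Groth.Agent.S1507

/-- Let A → B be flat and of finite presentation and I an ideal of B. Then A → B/I is a pseudo-coherent
ring map if and only if I is a pseudo-coherent B-module. -/
theorem result {A B : Type u} [CommRing A] [CommRing B] [Algebra A B] [Module.Flat A B] [Algebra.FinitePresentation A B] (I : Ideal B) :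
    MoreMor.IsPseudoCoherentHom A (B ⧸ I) ↔ DRing.IsPseudoCoherentModule' B ↥I := by
  have hAB : MoreMor.IsPseudoCoherentHom A B := GrothLib.PHom.of_flat
  let S : CategoryTheory.ShortComplex (ModuleCat.{u} B) :=
    CategoryTheory.ShortComplex.mk (ModuleCat.ofHom I.subtype) (ModuleCat.ofHom I.mkQ) (by ext x; exact (Submodule.Quotient.mk_eq_zero I).2 x.2)
  have hS : S.ShortExact := {
    exact := (CategoryTheory.ShortComplex.ShortExact.moduleCat_exact_iff_function_exact S).2 (LinearMap.exact_subtype_mkQ I)
    mono_f := (ModuleCat.mono_iff_injective _).2 Subtype.val_injective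
    epi_g := (ModuleCat.epi_iff_surjective _).2 (Submodule.mkQ_surjective I) }
  have hT := GrothLib.DR.isPseudoCoherent'_triangle _ hS.singleTriangle_distinguished
  have hB : DRing.IsPseudoCoherentModule' B B := GrothLib.DR.isPseudoCoherentModule'_of_finite_free B
  have hs : Function.Surjective (algebraMap B (B ⧸ I)) := Ideal.Quotient.mk_surjective
  constructor
  · intro h
    exact hT.2.2 hB (GrothLib.PHom.module_of_surjective hs (GrothLib.PHom.of_comp hAB h))
  · intro h
    exact GrothLib.PHom.comp hAB (GrothLib.PHom.of_surjective hs (hT.1 h hB))

end Groth.Agent.S1507
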