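import Groth.Statements.S15070
import Groth.Agent.Lib.SurfRef9.Basic

set_option autoImplicit false
universe u
open CategoryTheory CategoryTheory.Limits AlgebraicGeometry
open OrdSurf

namespace Groth.Agent.S15070

/-- Let k be an algebraically closed field of characteristic zero and X a smooth projective surface over
k (an integral k-scheme, smooth over k, of dimension two, admitting a closed immersion over k into
some projective space P^n_k). Let N be a coherent O_X-module all of whose stalks are torsion-free
modules over the local rings, M a finite locally free O_X-module and φ : M → N an epimorphism of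
O_X-modules. Then the kernel of φ is a finite locally free O_X-module. -/
theorem result (k : Type u) [Field k] [IsAlgClosed k] [CharZero k]
    (X : Scheme.{u}) [X.Over (Spec (CommRingCat.of k))] [IsIntegral X]
    [Smooth (X ↘ Spec (CommRingCat.of k))] (hdim : topologicalKrullDim X = 2)
    (hproj : ∃ (n : ℕ) (ι : X ⟶ CohB1.ProjSpace n k), IsClosedImmersion ι ∧
      ι ≫ CohB1.ProjSpace.toSpec n k = X ↘ Spec (CommRingCat.of k))
    (N : X.Modules) (hN : Coh.IsCoh N) (hNtf : TorSh.IsTorsionFree N)
    (M : X.Modules) (hM : FlatMod.IsFinLocFree M) (φ : M ⟶ N) [Epi φ] :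
    FlatMod.IsFinLocFree (kernel φ) := by
  haveI : IsLocallyNoetherian X := LocallyOfFiniteType.isLocallyNoetherian (X ↘ Spec (CommRingCat.of k))
  exact GrothLib.SurfRef9.isFinLocFree_kernel k (X ↘ Spec (CommRingCat.of k)) hdim.le hM hN hNtf φ

end Groth.Agent.S15070
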