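import Groth.Statements.S15071
import Groth.Agent.Lib.SurfRef9.Basic

set_option autoImplicit false
universe u
open CategoryTheory CategoryTheory.Limits AlgebraicGeometry
open OrdSurf

namespace Groth.Agent.S15071

/-- Let k be an algebraically closed field of characteristic zero and X a smooth projective surface over
k (an integral k-scheme, smooth over k, of dimension two, admitting a closed immersion over k into
some projective space P^n_k). Let φ : M → N be a monomorphism between finite locally free
O_X-modules. Then either φ is an isomorphism, or the support of the cokernel of φ contains a point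
of X whose local ring has Krull dimension at most one, i.e. the support has codimension at most one
in X. (The published statement phrases the first alternative as M and N being isomorphic; the
argument shows that the given monomorphism is an isomorphism, which is the form stated here.) -/
theorem result (k : Type u) [Field k] [IsAlgClosed k] [CharZero k]
    (X : Scheme.{u}) [X.Over (Spec (CommRingCat.of k))] [IsIntegral X]
    [Smooth (X ↘ Spec (CommRingCat.of k))] (hdim : topologicalKrullDim X = 2)
    (hproj : ∃ (n : ℕ) (ι : X ⟶ CohB1.ProjSpace n k), IsClosedImmersion ι ∧
      ι ≫ CohB1.ProjSpace.toSpec n k = X ↘ Spec (CommRingCat.of k))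
    (M N : X.Modules) (hM : FlatMod.IsFinLocFree M) (hN : FlatMod.IsFinLocFree N)
    (φ : M ⟶ N) [Mono φ] :
    IsIso φ ∨ ∃ x : X, x ∈ CohB1.support (cokernel φ) ∧ ringKrullDim (X.presheaf.stalk x) ≤ 1 := by
  haveI : IsLocallyNoetherian X := LocallyOfFiniteType.isLocallyNoetherian (X ↘ Spec (CommRingCat.of k))
  exact GrothLib.SurfRef9.isIso_or_exists k (X ↘ Spec (CommRingCat.of k)) hM hN φ

end Groth.Agent.S15071
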