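import Groth.Statements.S15075
import Groth.Agent.Lib.OrdSurf9.SimpleStalk

set_option autoImplicit false
universe u
open CategoryTheory CategoryTheory.Limits AlgebraicGeometry TopologicalSpace Opposite
open OrdSurf

namespace Groth.Agent.S15075

/-- Let k be an algebraically closed field of characteristic zero and X a smooth projective surface over
k (an integral k-scheme, smooth over k, of dimension two, admitting a closed immersion over k into
some projective space P^n_k), with generic point η. Let A be a sheaf of rings on X with a morphism φ
: O_X → A of sheaves of rings with central image (a sheaf of O_X-algebras) whose generic stalk A_η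
is a division ring, i.e. simple as a left module over itself. Let M and N be sheaves of A-modules
whose underlying O_X-modules (through φ) are coherent with torsion-free stalks, and whose generic
stalks M_η and N_η are simple A_η-modules (one-dimensional over the division ring A_η). Then every
nonzero morphism of sheaves of A-modules M → N is a monomorphism. (The published statement takes A
to be an order on X — coherent and torsion-free over O_X with A_η a central division algebra over
k(X) — and M, N torsion-free A-modules of rank one; of these hypotheses only the ones listed are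
assumed here, the others playing no role in the argument.) -/
theorem result (k : Type u) [Field k] [IsAlgClosed k] [CharZero k]
    (X : Scheme.{u}) [X.Over (Spec (CommRingCat.of k))] [IsIntegral X]
    [Smooth (X ↘ Spec (CommRingCat.of k))] (hdim : topologicalKrullDim X = 2)
    (hproj : ∃ (n : ℕ) (ι : X ⟶ CohB1.ProjSpace n k), IsClosedImmersion ι ∧
      ι ≫ CohB1.ProjSpace.toSpec n k = X ↘ Spec (CommRingCat.of k))
    (A : Sheaf (Opens.grothendieckTopology X) RingCat.{u}) (φ : X.ringCatSheaf ⟶ A)
    (hcen : ∀ (U : (Opens X)ᵒᵖ) (s : X.ringCatSheaf.obj.obj U) (a : A.obj.obj U),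
      φ.hom.app U s * a = a * φ.hom.app U s)
    (hAη : IsSimpleModule (↑(TopCat.Presheaf.stalk (C := RingCat.{u}) (X := X.carrier) A.obj (genericPoint X))) (↑(TopCat.Presheaf.stalk (C := RingCat.{u}) (X := X.carrier) A.obj (genericPoint X))))
    (M N : SheafOfModules.{u} A)
    (hMc : Coh.IsCoh (X := X) ((SheafOfModules.restrictScalars φ).obj M))
    (hNc : Coh.IsCoh (X := X) ((SheafOfModules.restrictScalars φ).obj N))
    (hMt : TorSh.IsTorsionFree (X := X) ((SheafOfModules.restrictScalars φ).obj M))
    (hNt : TorSh.IsTorsionFree (X := X) ((SheafOfModules.restrictScalars φ).obj N))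
    (hMη : IsSimpleModule (↑(TopCat.Presheaf.stalk (C := RingCat.{u}) (X := X.carrier) A.obj (genericPoint X))) (↑(TopCat.Presheaf.stalk (C := Ab.{u}) (X := X.carrier) M.val.presheaf (genericPoint X))))
    (hNη : IsSimpleModule (↑(TopCat.Presheaf.stalk (C := RingCat.{u}) (X := X.carrier) A.obj (genericPoint X))) (↑(TopCat.Presheaf.stalk (C := Ab.{u}) (X := X.carrier) N.val.presheaf (genericPoint X))))
    (ψ : M ⟶ N) (hψ : ψ ≠ 0) : Mono ψ := by
  haveI := hMc.1
  haveI := hNc.1
  haveI : IsSimpleModule (GrothLib.OrdSurf9.Aη A) (GrothLib.OrdSurf9.Mη A M) := hMη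
  exact GrothLib.OrdSurf9.mono_of_ne_zero φ hMt hNt hψ

end Groth.Agent.S15075
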