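import Groth.Statements.S15077
-- import your own Groth.Agent.* helpers here
import Groth.Agent.Lib.CurveMult.TwistHom
import Groth.Agent.Lib.Algz56.Sheaves
import Groth.Agent.Lib.Euler.TensorSupport
import Groth.Agent.Lib.Euler.Basic
import Groth.Agent.Lib.ResProp22.Ample
import Groth.Agent.Lib.Chow.Prod
import Mathlib.AlgebraicGeometry.Morphisms.Proper

set_option autoImplicit false
set_option maxHeartbeats 1600000
set_option linter.style.haveILetI false
set_option backward.isDefEq.respectTransparency false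
universe u
open CategoryTheory CategoryTheory.Limits AlgebraicGeometry
open OrdSurf

namespace Groth.Agent.S15077

open GrothLib

section
variable {X : Scheme.{u}}

noncomputable abbrev T (A B : X.Modules) : X.Modules := CohB1.tensorMod A B

noncomputable def comm' (A B : X.Modules) : T A B ≅ T B A :=
  show ((DCoh.tensorBi (X := X)).obj A).obj B ≅ ((DCoh.tensorBi (X := X)).obj B).obj A from
    ((OX.tensorBraiding (X := X)).app B).app A

noncomputable def assoc' (A B C : X.Modules) : T (T A B) C ≅ T A (T B C) :=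
  show ((DCoh.tensorBi (X := X)).obj (((DCoh.tensorBi (X := X)).obj A).obj B)).obj C ≅
      ((DCoh.tensorBi (X := X)).obj A).obj (((DCoh.tensorBi (X := X)).obj B).obj C) from
    OX.tensorAssoc A B C

noncomputable def unit' (A : X.Modules) : T (Coh.structureModule X) A ≅ A :=
  show ((DCoh.tensorBi (X := X)).obj (Coh.structureModule X)).obj A ≅ A from
    (OX.tensorUnitNatIso (X := X)).app A

noncomputable def map' {A B : X.Modules} (e : A ≅ B) (N : X.Modules) : T A N ≅ T B N :=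
  show (Euler.tF N).obj A ≅ (Euler.tF N).obj B from (Euler.tF N).mapIso e

noncomputable def four (A B C D N : X.Modules) : T (A ⊞ B ⊞ C ⊞ D) N ≅ T A N ⊞ T B N ⊞ T C N ⊞ T D N :=
  haveI := preservesBinaryBiproducts_of_preservesBinaryCoproducts (Euler.tF N)
  show (Euler.tF N).obj (A ⊞ B ⊞ C ⊞ D) ≅
      (Euler.tF N).obj A ⊞ (Euler.tF N).obj B ⊞ (Euler.tF N).obj C ⊞ (Euler.tF N).obj D from
    (Euler.tF N).mapBiprod _ _ ≪≫ biprod.mapIso (Iso.refl _) ((Euler.tF N).mapBiprod _ _ ≪≫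
      biprod.mapIso (Iso.refl _) ((Euler.tF N).mapBiprod _ _))

noncomputable def swap12 (A B C D : X.Modules) : (A ⊞ B ⊞ C ⊞ D) ≅ B ⊞ A ⊞ C ⊞ D :=
  (biprod.associator A B (C ⊞ D)).symm ≪≫ biprod.mapIso (biprod.braiding A B) (Iso.refl _) ≪≫
    biprod.associator B A (C ⊞ D)

noncomputable def swap34 (A B C D : X.Modules) : (A ⊞ B ⊞ C ⊞ D) ≅ A ⊞ B ⊞ D ⊞ C :=
  biprod.mapIso (Iso.refl _) (biprod.mapIso (Iso.refl _) (biprod.braiding C D))

noncomputable def swap23 (A B C D : X.Modules) : (A ⊞ B ⊞ C ⊞ D) ≅ A ⊞ C ⊞ B ⊞ D :=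
  biprod.mapIso (Iso.refl _) ((biprod.associator B C D).symm ≪≫
    biprod.mapIso (biprod.braiding B C) (Iso.refl _) ≪≫ biprod.associator C B D)

noncomputable def map4 {A A' B B' C C' D D' : X.Modules} (a : A ≅ A') (b : B ≅ B') (c : C ≅ C') (d : D ≅ D') :
    (A ⊞ B ⊞ C ⊞ D) ≅ A' ⊞ B' ⊞ C' ⊞ D' :=
  biprod.mapIso a (biprod.mapIso b (biprod.mapIso c d))

theorem isIso_of_unit (h : Coh.structureModule X ⟶ Coh.structureModule X) {a : Γ(X, ⊤)} (ha : IsUnit a)
    (hh : h.app ⊤ (FinCov.one X ⊤) = (a : Γ(X, ⊤)) • FinCov.one X ⊤) : IsIso h := by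
  obtain ⟨u, rfl⟩ := ha
  let g : Coh.structureModule X ⟶ Coh.structureModule X := FinCov.homOfSection (((↑u⁻¹ : Γ(X, ⊤))) • FinCov.one X ⊤)
  have hg : g.app ⊤ (FinCov.one X ⊤) = ((↑u⁻¹ : Γ(X, ⊤))) • FinCov.one X ⊤ :=
    (FinCov.homOfSection_one _ ⊤).trans (InvExt.mres_self _ _)
  refine ⟨g, CurveMult.hom_ext_one _ _ ?_, CurveMult.hom_ext_one _ _ ?_⟩
  · rw [Scheme.Modules.Hom.comp_app, ConcreteCategory.comp_apply, hh, Scheme.Modules.Hom.app_smul, hg,
      smul_smul, Units.mul_inv, one_smul]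
    rfl
  · rw [Scheme.Modules.Hom.comp_app, ConcreteCategory.comp_apply, hg, Scheme.Modules.Hom.app_smul, hh,
      smul_smul, Units.inv_mul, one_smul]
    rfl

theorem exists_isIso_of_sum (hf : IsField Γ(X, ⊤)) (h : Fin 4 → (Coh.structureModule X ⟶ Coh.structureModule X))
    (hs : h 0 + (h 1 + (h 2 + h 3)) = 𝟙 _) : ∃ i, IsIso (h i) := by
  by_contra hc
  push Not at hc
  have hz : ∀ i, h i = 0 := fun i => by
    let a : Γ(X, ⊤) := (h i).app ⊤ (FinCov.one X ⊤)
    have ha : (h i).app ⊤ (FinCov.one X ⊤) = a • FinCov.one X ⊤ := (FinCov.smul_one ⊤ a).symm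
    by_cases h0 : a = 0
    · exact CurveMult.eq_zero_of_app_one _ (by rw [ha, h0, zero_smul])
    · refine absurd (isIso_of_unit (h i) ?_ ha) (hc i)
      obtain ⟨b, hb⟩ := hf.mul_inv_cancel h0
      exact isUnit_iff_exists_inv.2 ⟨b, hb⟩
  simp only [hz, add_zero] at hs
  haveI := hf.nontrivial
  have h1 := congrArg (fun f : Coh.structureModule X ⟶ Coh.structureModule X => f.app ⊤ (FinCov.one X ⊤)) hs
  exact zero_ne_one (α := Γ(X, ⊤)) h1

theorem iso_of_summand (hf : IsField Γ(X, ⊤)) {L A B C D : X.Modules} (hL : PicF.IsInvertible L)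
    (hA : PicF.IsInvertible A) (hB : PicF.IsInvertible B) (hC : PicF.IsInvertible C) (hD : PicF.IsInvertible D)
    {L' : X.Modules} (e : Nonempty (CohB1.tensorMod L L' ≅ Coh.structureModule X))
    (e' : Nonempty (CohB1.tensorMod L' L ≅ Coh.structureModule X))
    (s : L ⟶ A ⊞ B ⊞ C ⊞ D) (r : (A ⊞ B ⊞ C ⊞ D) ⟶ L) (hsr : s ≫ r = 𝟙 L) :
    Nonempty (L ≅ A) ∨ Nonempty (L ≅ B) ∨ Nonempty (L ≅ C) ∨ Nonempty (L ≅ D) := by
  obtain ⟨e⟩ := e; obtain ⟨e'⟩ := e'
  let f : Fin 4 → (L ⟶ L) := ![(s ≫ biprod.fst) ≫ biprod.inl ≫ r,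
    (s ≫ biprod.snd ≫ biprod.fst) ≫ biprod.inl ≫ biprod.inr ≫ r,
    (s ≫ biprod.snd ≫ biprod.snd ≫ biprod.fst) ≫ biprod.inl ≫ biprod.inr ≫ biprod.inr ≫ r,
    (s ≫ biprod.snd ≫ biprod.snd ≫ biprod.snd) ≫ biprod.inr ≫ biprod.inr ≫ biprod.inr ≫ r]
  have hsum : f 0 + (f 1 + (f 2 + f 3)) = 𝟙 L := by
    rw [← hsr]
    conv_rhs => rw [← Category.id_comp r, ← biprod.total, ← Category.id_comp (biprod.inr : (B ⊞ C ⊞ D) ⟶ _),
      ← biprod.total, ← Category.id_comp (biprod.inr : (C ⊞ D) ⟶ _), ← biprod.total]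
    simp only [f, Matrix.cons_val_zero, Matrix.cons_val_one, Matrix.cons_val, Preadditive.add_comp,
      Preadditive.comp_add, Category.assoc]
  let F := Euler.tF L'
  let θ : F.obj L ≅ Coh.structureModule X := e
  let g : Fin 4 → (Coh.structureModule X ⟶ Coh.structureModule X) := fun i => θ.inv ≫ F.map (f i) ≫ θ.hom
  obtain ⟨i, hi⟩ := exists_isIso_of_sum hf g (by
    simp only [g, ← Preadditive.comp_add, ← Preadditive.add_comp, ← F.map_add, hsum]
    simp)
  haveI : IsIso (F.map (f i)) := by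
    haveI := hi
    have : F.map (f i) = θ.hom ≫ g i ≫ θ.inv := by simp [g]
    rw [this]; infer_instance
  have hfi : IsIso (f i) := (NatIso.isIso_map_iff (CurveMult.twistInverseIso e') (f i)).1
    (inferInstanceAs (IsIso ((Euler.tF L).map (F.map (f i)))))
  have retract : ∀ {M : X.Modules}, PicF.IsInvertible M → ∀ (p : L ⟶ M) (q : M ⟶ L), IsIso (p ≫ q) →
      Nonempty (L ≅ M) := fun {M} hM p q h => by
    haveI := h
    haveI : Epi q := epi_of_epi p q
    haveI := Algz56.isIso_of_epi_invertible hM hL q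
    exact ⟨(asIso q).symm⟩
  fin_cases i
  · exact Or.inl (retract hA (s ≫ biprod.fst) (biprod.inl ≫ r) hfi)
  · exact Or.inr (Or.inl (retract hB (s ≫ biprod.snd ≫ biprod.fst) (biprod.inl ≫ biprod.inr ≫ r) hfi))
  · exact Or.inr (Or.inr (Or.inl (retract hC (s ≫ biprod.snd ≫ biprod.snd ≫ biprod.fst)
      (biprod.inl ≫ biprod.inr ≫ biprod.inr ≫ r) hfi)))
  · exact Or.inr (Or.inr (Or.inr (retract hD (s ≫ biprod.snd ≫ biprod.snd ≫ biprod.snd)
      (biprod.inr ≫ biprod.inr ≫ biprod.inr ≫ r) hfi)))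

end

/-- Let k be an algebraically closed field of characteristic zero and X a smooth projective surface over
k (an integral k-scheme, smooth over k, of dimension two, admitting a closed immersion over k into
some projective space P^n_k). Let I and J be invertible O_X-modules that are two-torsion, I ⊗ I ≅
O_X and J ⊗ J ≅ O_X, let K = I ⊗ J, and let F = O_X ⊕ I ⊕ J ⊕ K (so that O_X, I, J, K form a Klein
four-group of classes in Pic X when I, J, K are nontrivial and distinct). Then for every invertible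
O_X-module L, the O_X-modules F ⊗ L and F are isomorphic if and only if L is isomorphic to one of
O_X, I, J, K. (The published statement is for the abelian surface E_1 × E_2, with I and J pulled
back from two-torsion line bundles on the two elliptic curves and F the underlying module of the
quaternion algebra built from them; this row is stated on any smooth projective surface for any
two-torsion invertible I and J.) -/
theorem result (k : Type u) [Field k] [IsAlgClosed k] [CharZero k]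
    (X : Scheme.{u}) [X.Over (Spec (CommRingCat.of k))] [IsIntegral X]
    [Smooth (X ↘ Spec (CommRingCat.of k))] (hdim : topologicalKrullDim X = 2)
    (hproj : ∃ (n : ℕ) (ι : X ⟶ CohB1.ProjSpace n k), IsClosedImmersion ι ∧
      ι ≫ CohB1.ProjSpace.toSpec n k = X ↘ Spec (CommRingCat.of k))
    (I J : X.Modules) (hI : PicF.IsInvertible I) (hJ : PicF.IsInvertible J)
    (hI2 : Nonempty (CohB1.tensorMod I I ≅ Coh.structureModule X))
    (hJ2 : Nonempty (CohB1.tensorMod J J ≅ Coh.structureModule X))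
    (L : X.Modules) (hL : PicF.IsInvertible L) :
    Nonempty (CohB1.tensorMod (Coh.structureModule X ⊞ I ⊞ J ⊞ CohB1.tensorMod I J) L ≅
        Coh.structureModule X ⊞ I ⊞ J ⊞ CohB1.tensorMod I J) ↔
      (Nonempty (L ≅ Coh.structureModule X) ∨ Nonempty (L ≅ I) ∨ Nonempty (L ≅ J) ∨
        Nonempty (L ≅ CohB1.tensorMod I J)) := by
  obtain ⟨m, ι, hι, hιs⟩ := hproj
  haveI : IsProper (X ↘ Spec (CommRingCat.of k)) := by
    haveI := hι
    haveI := GrothLib.Chow.isProper_toSpec m k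
    rw [← hιs]; infer_instance
  haveI := GrothLib.Euler.isNoetherian_of_proper (X := X) k
  have hfld : IsField Γ(X, ⊤) := isField_of_universallyClosed (K := k) (X ↘ Spec (CommRingCat.of k))
  let O := Coh.structureModule X
  obtain ⟨eI⟩ := hI2
  obtain ⟨eJ⟩ := hJ2
  let K := T I J
  let eIK : T I K ≅ J := (assoc' I I J).symm ≪≫ map' eI J ≪≫ unit' J
  let eKI : T K I ≅ J := comm' K I ≪≫ eIK
  let eKJ : T K J ≅ I := assoc' I J J ≪≫ comm' I (T J J) ≪≫ map' eJ I ≪≫ unit' I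
  let eKK : T K K ≅ O := assoc' I J K ≪≫ comm' I (T J K) ≪≫ map' (comm' J K ≪≫ eKJ) I ≪≫ eI
  constructor
  · rintro ⟨φ⟩
    have hO : PicF.IsInvertible O := GrothLib.Euler.isInvertible_structure
    obtain ⟨L', hL', h1, h2⟩ : ∃ L' : X.Modules, PicF.IsInvertible L' ∧
        Nonempty (CohB1.tensorMod L L' ≅ Coh.structureModule X) ∧
        Nonempty (CohB1.tensorMod L' L ≅ Coh.structureModule X) := by
      obtain ⟨M, hM, e⟩ := GrothLib.ResProp22.exists_inverse hL
      exact ⟨M, hM, e, e.map fun e => comm' M L ≪≫ e⟩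
    let G := T O L ⊞ T I L ⊞ T J L ⊞ T K L
    let ψ : G ≅ O ⊞ I ⊞ J ⊞ K := (four O I J K L).symm ≪≫ φ
    exact iso_of_summand hfld hL hO hI hJ (GrothLib.Ample.isInvertible_tensorMod hI hJ) h1 h2
      (((unit' L).inv ≫ biprod.inl) ≫ ψ.hom) (ψ.inv ≫ biprod.fst ≫ (unit' L).hom) (by
        rw [Category.assoc, Category.assoc, Iso.hom_inv_id_assoc, biprod.inl_fst_assoc, Iso.inv_hom_id])
  · intro h
    have fin : ∀ {P : X.Modules}, (L ≅ P) → (T (O ⊞ I ⊞ J ⊞ K) P ≅ O ⊞ I ⊞ J ⊞ K) →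
        Nonempty (T (O ⊞ I ⊞ J ⊞ K) L ≅ O ⊞ I ⊞ J ⊞ K) := fun {P} e w =>
      ⟨comm' _ L ≪≫ map' e _ ≪≫ comm' P _ ≪≫ w⟩
    rcases h with ⟨⟨e⟩⟩ | ⟨⟨e⟩⟩ | ⟨⟨e⟩⟩ | ⟨⟨e⟩⟩
    · exact fin e (comm' _ O ≪≫ unit' _)
    · exact fin e (four O I J K I ≪≫ map4 (unit' I) eI (comm' J I) eKI ≪≫ swap12 _ _ _ _ ≪≫ swap34 _ _ _ _)
    · exact fin e (four O I J K J ≪≫ map4 (unit' J) (Iso.refl K) eJ eKJ ≪≫
        (swap12 _ _ _ _ ≪≫ swap23 _ _ _ _ ≪≫ swap12 _ _ _ _ ≪≫ swap34 _ _ _ _ ≪≫ swap23 _ _ _ _ ≪≫ swap34 _ _ _ _))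
    · exact fin e (four O I J K K ≪≫ map4 (unit' K) eIK (comm' J K ≪≫ eKJ) eKK ≪≫
        (swap34 _ _ _ _ ≪≫ swap23 _ _ _ _ ≪≫ swap12 _ _ _ _ ≪≫ swap34 _ _ _ _ ≪≫ swap23 _ _ _ _ ≪≫ swap34 _ _ _ _))

end Groth.Agent.S15077
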