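import Groth.Statements.S15078
-- import your own Groth.Agent.* helpers here
import Groth.Agent.Lib.TwistLead17.Basic


set_option autoImplicit false
universe u v
open MovLem

namespace Groth.Agent.S15078

/-- Let k be an infinite perfect field, r, m ≥ 1, and let f be a nonzero polynomial in the variable t
with coefficients in the polynomial ring k[x_1, …, x_r]. Then there are a nonzero polynomial h in
k[x_1, …, x_r] and an integer s₀ such that for every s ≥ s₀, every field K over k and every point g
of K^r with h(g) ≠ 0, the polynomial obtained from f by the substitution x_i ↦ x_i + t^{s(m+1)} g_i,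
t ↦ t has as leading coefficient in t a nonzero constant of K; in particular, after dividing by that
constant it is monic in t over K[x_1, …, x_r]. (The published statement asks for a nonempty open
subset of affine r-space over k, independent of s, such that this holds at each of its points g with
residue field K = k(g); the locus h ≠ 0 used here is such an open subset, and every nonempty open
subset contains one of this form.) -/
theorem result
    {k : Type u} [Field k] [Infinite k] [PerfectField k] (r m : ℕ) (hr : 1 ≤ r) (hm : 1 ≤ m)
    (f : Polynomial (MvPolynomial (Fin r) k)) (hf : f ≠ 0) :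
    ∃ h : MvPolynomial (Fin r) k, h ≠ 0 ∧ ∃ s₀ : ℕ, ∀ s : ℕ, s₀ ≤ s →
      ∀ (K : Type v) [Field K] [Algebra k K] (g : Fin r → K), MvPolynomial.aeval g h ≠ 0 →
        ∃ c : K, c ≠ 0 ∧
          (Polynomial.eval₂ (MvPolynomial.aeval (fun i : Fin r => Polynomial.C (MvPolynomial.X i) + Polynomial.C (MvPolynomial.C (g i)) * Polynomial.X ^ (s * (m + 1))) : MvPolynomial (Fin r) k →ₐ[k] Polynomial (MvPolynomial (Fin r) K)).toRingHom Polynomial.X f).leadingCoeff = MvPolynomial.C c := by
  classical
  obtain ⟨D, j, hj, hjD, -, hlead⟩ := GrothLib.TwistLead17.exists_lead.{u, v} f hf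
  refine ⟨MvPolynomial.homogeneousComponent D (f.coeff j),
    hjD ▸ GrothLib.TwistLead17.homogeneousComponent_totalDegree_ne_zero (Polynomial.mem_support_iff.1 hj),
    f.natDegree + 1, fun s hs K _ _ g hg => ⟨_, hg, ?_⟩⟩
  have hS : f.natDegree < s * (m + 1) := lt_of_lt_of_le (Nat.lt_of_succ_le hs) (Nat.le_mul_of_pos_right s (Nat.succ_pos m))
  obtain ⟨h1, h2⟩ := hlead _ hS K g
  show (Polynomial.eval₂ (GrothLib.TwistLead17.twist g (s * (m + 1))).toRingHom Polynomial.X f).leadingCoeff = _
  rw [Polynomial.leadingCoeff, Polynomial.natDegree_eq_of_le_of_coeff_ne_zero h1 (by rw [h2]; exact fun h => hg (MvPolynomial.C_eq_zero.1 h))]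
  exact h2

end Groth.Agent.S15078
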