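import Groth.Statements.S15079
-- import your own Groth.Agent.* helpers here
import Groth.Agent.Lib.TwistLead17.Basic


set_option autoImplicit false
universe u v
open MovLem

namespace Groth.Agent.S15079

/-- Let k be an infinite perfect field, r, m ≥ 1, and let f be an irreducible polynomial in t over
k[x_1, …, x_r] whose constant term in t is a unit of k[x_1, …, x_r], so that the hypersurface Z : f
= 0 in affine (r+1)-space with coordinates x_1, …, x_r, t is integral and does not meet the divisor
t = 0 (the modulus condition in cubical degree one). Then there are a nonzero polynomial h in k[x_1,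
…, x_r] and an integer s₀ such that for every s ≥ s₀, every field K over k and every point g of K^r
with h(g) ≠ 0, the translate of Z_K by the automorphism x_i ↦ x_i + t^{s(m+1)} g_i, t ↦ t is finite
and surjective over affine r-space over K: the quotient of K[x_1, …, x_r][t] by the translated
equation is a finitely generated K[x_1, …, x_r]-module and K[x_1, …, x_r] maps injectively into it.
(The published statement allows every nonzero point g of affine r-space; for r = 2 and f = x_1 t − 1
the point g = (0, 1) translates Z to itself, which is not finite over the affine plane, so the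
conclusion is stated here for g in a nonempty open subset h ≠ 0, which is what the published proof
establishes.) -/
theorem result
    {k : Type u} [Field k] [Infinite k] [PerfectField k] (r m : ℕ) (hr : 1 ≤ r) (hm : 1 ≤ m)
    (f : Polynomial (MvPolynomial (Fin r) k)) (hirr : Irreducible f) (h0 : IsUnit (f.coeff 0)) :
    ∃ h : MvPolynomial (Fin r) k, h ≠ 0 ∧ ∃ s₀ : ℕ, ∀ s : ℕ, s₀ ≤ s →
      ∀ (K : Type v) [Field K] [Algebra k K] (g : Fin r → K), MvPolynomial.aeval g h ≠ 0 →
        ∀ F : Polynomial (MvPolynomial (Fin r) K),
          F = Polynomial.eval₂ (MvPolynomial.aeval (fun i : Fin r => Polynomial.C (MvPolynomial.X i) + Polynomial.C (MvPolynomial.C (g i)) * Polynomial.X ^ (s * (m + 1))) : MvPolynomial (Fin r) k →ₐ[k] Polynomial (MvPolynomial (Fin r) K)).toRingHom Polynomial.X f →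
          Module.Finite (MvPolynomial (Fin r) K) (Polynomial (MvPolynomial (Fin r) K) ⧸ Ideal.span {F}) ∧
          Function.Injective ((Ideal.Quotient.mk (Ideal.span {F})).comp (algebraMap (MvPolynomial (Fin r) K) (Polynomial (MvPolynomial (Fin r) K)))) := by
  classical
  have hf : f ≠ 0 := hirr.ne_zero
  have hpos : 0 < f.natDegree := by
    rw [pos_iff_ne_zero]
    intro h
    refine hirr.not_isUnit ?_
    rw [Polynomial.eq_C_of_natDegree_eq_zero h]
    exact Polynomial.isUnit_C.2 h0
  obtain ⟨D, j, hj, hjD, hDj, hlead⟩ := GrothLib.TwistLead17.exists_lead.{u, v} f hf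
  refine ⟨MvPolynomial.homogeneousComponent D (f.coeff j),
    hjD ▸ GrothLib.TwistLead17.homogeneousComponent_totalDegree_ne_zero (Polynomial.mem_support_iff.1 hj),
    f.natDegree + 1, fun s hs K _ _ g hg F hF => ?_⟩
  have hS : f.natDegree < s * (m + 1) := lt_of_lt_of_le (Nat.lt_of_succ_le hs) (Nat.le_mul_of_pos_right s (Nat.succ_pos m))
  obtain ⟨h1, h2⟩ := hlead _ hS K g
  change F = Polynomial.eval₂ (GrothLib.TwistLead17.twist g (s * (m + 1))).toRingHom Polynomial.X f at hF
  rw [← hF] at h1 h2
  set c := MvPolynomial.aeval g (MvPolynomial.homogeneousComponent D (f.coeff j))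
  have hc : (MvPolynomial.C c : MvPolynomial (Fin r) K) ≠ 0 := by simpa using hg
  have hdeg : F.natDegree = s * (m + 1) * D + j := Polynomial.natDegree_eq_of_le_of_coeff_ne_zero h1 (h2 ▸ hc)
  have hN : 0 < F.natDegree := by
    rw [hdeg]
    rcases Nat.eq_zero_or_pos D with h | h
    · exact Nat.add_pos_right _ (hDj hpos h)
    · exact Nat.add_pos_left (Nat.mul_pos (by omega) h) _
  have hlc : F.leadingCoeff = MvPolynomial.C c := by rw [Polynomial.leadingCoeff, hdeg, h2]
  have hu : IsUnit (Polynomial.C (MvPolynomial.C c⁻¹) : Polynomial (MvPolynomial (Fin r) K)) :=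
    Polynomial.isUnit_C.2 ((isUnit_iff_ne_zero.2 (inv_ne_zero hg)).map MvPolynomial.C)
  have hmon : (Polynomial.C (MvPolynomial.C c⁻¹) * F).Monic := by
    rw [Polynomial.Monic, Polynomial.leadingCoeff_mul, Polynomial.leadingCoeff_C, hlc, ← map_mul, inv_mul_cancel₀ hg, map_one]
  have hspan : Ideal.span {F} = Ideal.span {Polynomial.C (MvPolynomial.C c⁻¹) * F} :=
    (Ideal.span_singleton_mul_left_unit hu F).symm
  refine ⟨?_, ?_⟩
  · rw [hspan]; exact hmon.finite_quotient
  · intro a b hab
    rw [RingHom.comp_apply, RingHom.comp_apply, Ideal.Quotient.eq, Ideal.mem_span_singleton, ← map_sub,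
      Polynomial.algebraMap_eq] at hab
    by_contra hne
    have := Polynomial.natDegree_le_of_dvd hab (Polynomial.C_ne_zero.2 (sub_ne_zero.2 hne))
    rw [Polynomial.natDegree_C] at this
    omega

end Groth.Agent.S15079
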