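import Groth.Statements.S15084
-- import your own Groth.Agent.* helpers here
import Mathlib.RingTheory.IntegralClosure.Algebra.Basic
import Mathlib.RingTheory.Noetherian.Basic

set_option autoImplicit false
universe u
open MovLem

namespace Groth.Agent.S15084

/-- Let A be a Noetherian integrally closed domain with fraction field K, let B be a domain with
fraction field L, and let A → B be an injective ring homomorphism, with K → L the induced map of
fraction fields, such that Spec B → Spec A is surjective (every prime ideal of A is the contraction
of a prime ideal of B). If a ∈ K is such that its image in L lies in B, then a ∈ A. (The published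
statement: for a surjective morphism f : Y → X of normal integral separated schemes of finite type
over a perfect field and a Cartier divisor D on X, if f^*D is effective then D is effective; a
Cartier divisor is locally the divisor of a nonzero rational function a, effectivity of div(a) on a
normal scheme means that a is a regular function, and this row is that local statement, which is
what the published proof establishes.) -/
theorem result
    (A B K L : Type u) [CommRing A] [IsDomain A] [IsNoetherianRing A] [IsIntegrallyClosed A]
    [CommRing B] [IsDomain B] [Field K] [Field L]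
    [Algebra A B] [Algebra A K] [IsFractionRing A K] [Algebra B L] [IsFractionRing B L]
    [Algebra K L] [Algebra A L] [IsScalarTower A K L] [IsScalarTower A B L]
    (hinj : Function.Injective (algebraMap A B))
    (hsurj : ∀ p : Ideal A, p.IsPrime → ∃ q : Ideal B, q.IsPrime ∧ q.comap (algebraMap A B) = p)
    (a : K) (ha : algebraMap K L a ∈ (algebraMap B L).range) :
    a ∈ (algebraMap A K).range := by
  classical
  by_contra hna
  let I : K → Ideal A := fun b => Submodule.comap (LinearMap.toSpanSingleton A K b) (LinearMap.range (Algebra.linearMap A K))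
  have hI : ∀ b (c : A), c ∈ I b ↔ algebraMap A K c * b ∈ (algebraMap A K).range := fun b c => by
    show c • b ∈ LinearMap.range (Algebra.linearMap A K) ↔ _
    rw [Algebra.smul_def]
    rfl
  let S : Set (Ideal A) := {J | ∃ c : A, algebraMap A K c * a ∉ (algebraMap A K).range ∧ J = I (algebraMap A K c * a)}
  have hne : S.Nonempty := ⟨I a, 1, by simpa using hna, by simp⟩
  obtain ⟨p, ⟨c, hc, rfl⟩, hmax⟩ := set_has_maximal_iff_noetherian.mpr inferInstance S hne
  set b := algebraMap A K c * a with hb
  have hprime : (I b).IsPrime := by
    refine ⟨(Ideal.ne_top_iff_one _).mpr fun h => hc (by simpa using (hI b 1).mp h), fun {x y} hxy => ?_⟩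
    by_contra hcon
    push Not at hcon
    obtain ⟨hx, hy⟩ := hcon
    have hyb : algebraMap A K (y * c) * a ∉ (algebraMap A K).range := fun h => hy ((hI b y).mpr (by
      rw [map_mul, mul_assoc] at h; exact h))
    have hle : I b ≤ I (algebraMap A K (y * c) * a) := fun z hz => by
      rw [hI] at hz ⊢
      obtain ⟨w, hw⟩ := hz
      exact ⟨y * w, by rw [map_mul, hw, hb, map_mul]; ring⟩
    have heq := eq_of_le_of_not_lt hle (hmax _ ⟨_, hyb, rfl⟩)
    refine hx (heq ▸ (hI _ x).mpr ?_)
    have := (hI b (x * y)).mp hxy
    rw [hb, map_mul] at this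
    rw [map_mul]
    convert this using 1
    ring
  obtain ⟨x₀, y₀, hy₀, hxy⟩ := IsFractionRing.div_surjective A b
  have hy0 : algebraMap A K y₀ ≠ 0 := fun h => nonZeroDivisors.ne_zero hy₀ ((IsFractionRing.injective A K) (h.trans (map_zero _).symm))
  have hymem : y₀ ∈ I b := (hI b y₀).mpr ⟨x₀, by rw [← hxy, mul_div_cancel₀ _ hy0]⟩
  let N : Submodule A K := Submodule.map (Algebra.linearMap A K) (I b)
  by_cases hstab : ∀ π ∈ I b, ∃ u ∈ I b, algebraMap A K u = algebraMap A K π * b
  · have hint : IsIntegral A b := by
      refine isIntegral_of_smul_mem_submodule N ?_ ((IsNoetherian.noetherian (I b)).map _) b ?_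
      · intro hbot
        exact hy0 ((Submodule.mem_bot A).mp (hbot ▸ ⟨y₀, hymem, rfl⟩))
      · rintro _ ⟨π, hπ, rfl⟩
        obtain ⟨u, hu, hue⟩ := hstab π hπ
        exact ⟨u, hu, by rw [Algebra.linearMap_apply, hue, Algebra.linearMap_apply, smul_eq_mul, mul_comm]⟩
    obtain ⟨w, hw⟩ := IsIntegrallyClosed.isIntegral_iff.mp hint
    exact hc ⟨w, hw⟩
  · push Not at hstab
    obtain ⟨π, hπ, hπu⟩ := hstab
    obtain ⟨u, hu⟩ := (hI b π).mp hπ
    have hup : u ∉ I b := fun h => hπu u h hu
    obtain ⟨q, hq, hqp⟩ := hsurj (I b) hprime
    obtain ⟨β, hβ⟩ := ha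
    have heq : algebraMap A B π * (algebraMap A B c * β) = algebraMap A B u := by
      apply IsFractionRing.injective B L
      rw [map_mul, map_mul, hβ, ← IsScalarTower.algebraMap_apply, ← IsScalarTower.algebraMap_apply,
        ← IsScalarTower.algebraMap_apply, IsScalarTower.algebraMap_apply A K L u, hu, hb, map_mul, map_mul,
        ← IsScalarTower.algebraMap_apply, ← IsScalarTower.algebraMap_apply]
    refine hup (hqp ▸ ?_)
    show algebraMap A B u ∈ q
    rw [← heq]
    refine q.mul_mem_right _ ?_
    have : π ∈ q.comap (algebraMap A B) := hqp.symm ▸ hπ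
    exact this

end Groth.Agent.S15084
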