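import Groth.Statements.S15085
-- import your own Groth.Agent.* helpers here
import Groth.Agent.Lib.AffDom.PointDim
import Groth.Agent.Lib.K0Sub.Coh


set_option autoImplicit false
universe u
open CategoryTheory CategoryTheory.Limits AlgebraicGeometry
open MovLem

namespace Groth.Agent.S15085

/-- Let k be a field, X an affine scheme of finite type over k which is equidimensional (all irreducible
components have the same dimension), B̂ a proper smooth geometrically integral k-scheme and B ⊆ B̂ a
nonempty affine open subscheme. Let Z be an integral closed subscheme of X ×_k B of dimension dim X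
(that is, of codimension dim B, the product X ×_k B being equidimensional of dimension dim X + dim
B). Then the projection Z → X is finite and maps Z onto an irreducible component of X if and only if
Z is closed in X ×_k B̂. (The published statement allows X to be essentially of finite type, i.e.
also a localization of such a scheme at finitely many points, takes B̂ projective of positive
dimension, and phrases the dimension condition as codimension dim B; this row is the finite-type
case with properness in place of projectivity.) -/
theorem result
    {k : Type u} [Field k] {X Bhat Z : Scheme.{u}}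
    (sX : X ⟶ Spec (CommRingCat.of k)) (sB : Bhat ⟶ Spec (CommRingCat.of k))
    [IsAffine X] [LocallyOfFiniteType sX]
    (hXeq : ∀ T ∈ irreducibleComponents (X : Type u), topologicalKrullDim T = topologicalKrullDim X)
    [IsProper sB] [Smooth sB] [GeometricallyIntegral sB]
    (B : Bhat.Opens) (hB : IsAffineOpen B) (hBne : (B : Set Bhat).Nonempty)
    [IsIntegral Z] (ι : Z ⟶ ((pullback.snd sX sB) ⁻¹ᵁ B).toScheme) [IsClosedImmersion ι]
    (hZ : topologicalKrullDim Z = topologicalKrullDim X)
    (j : Z ⟶ pullback sX sB) (hj : j = ι ≫ ((pullback.snd sX sB) ⁻¹ᵁ B).ι) :
    (IsFinite (j ≫ pullback.fst sX sB) ∧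
        Set.range (j ≫ pullback.fst sX sB).base ∈ irreducibleComponents (X : Type u)) ↔
      IsClosed (Set.range j.base) := by
  open GrothLib CategoryTheory.Limits in
  classical
  haveI : IsSeparated sX := IsSeparated.of_comp sX (Limits.terminal.from _)
  constructor
  · rintro ⟨hfin, -⟩
    haveI := hfin
    haveI : IsSeparated (pullback.fst sX sB) := inferInstance
    haveI : IsFinite j := IsFinite.of_comp j (pullback.fst sX sB)
    exact j.isClosedMap.isClosed_range
  · intro hcl
    haveI : IsPreimmersion j := hj ▸ inferInstance
    haveI : IsClosedImmersion j := IsClosedImmersion.of_isPreimmersion j hcl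
    haveI : IsAffineHom sX := isAffineHom_of_isAffine sX
    haveI : IsAffineHom (pullback.snd sX sB) := MorphismProperty.pullback_snd sX sB ‹_›
    haveI : IsAffine ((pullback.snd sX sB) ⁻¹ᵁ B).toScheme := by
      have hm : IsAffineOpen ((pullback.snd sX sB) ⁻¹ᵁ B) := hB.preimage _
      exact hm
    haveI : IsAffine Z := isAffine_of_isAffineHom ι
    let p := j ≫ pullback.fst sX sB
    haveI : IsProper p := inferInstance
    haveI : IsAffineHom p := isAffineHom_of_isAffine p
    haveI hfin : IsFinite p := IsFinite.iff_isProper_and_isAffineHom.2 ⟨inferInstance, inferInstance⟩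
    refine ⟨hfin, ?_⟩
    set z := genericPoint Z
    have hrange : Set.range p = closure {p z} := by
      rw [← Set.image_univ, ← (genericPoint_spec Z).def, ← p.isClosedMap.closure_image_eq_of_continuous p.continuous, Set.image_singleton]
    obtain ⟨T, hT, hsub⟩ := exists_mem_irreducibleComponents_subset_of_isIrreducible (closure {p z})
      isIrreducible_singleton.closure
    obtain ⟨t, ht⟩ := QuasiSober.sober hT.1 (isClosed_of_mem_irreducibleComponents T hT)
    have hdimz : topologicalKrullDim Z = topologicalKrullDim ↥(closure ({p z} : Set X)) := by
      have h1 : topologicalKrullDim Z = AffDom.ptDim z := by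
        rw [AffDom.ptDim, (genericPoint_spec Z).def]
        exact (IsHomeomorph.topologicalKrullDim_eq _ (Homeomorph.Set.univ Z).isHomeomorph).symm
      have h2 := AffDom.ptDim_fiberι p sX (p z) (p.asFiber z)
      rw [p.fiberι_asFiber] at h2
      rw [h1, h2]
      have hfinfib : Finite (p.fiber (p z)) := by
        have := p.finite_preimage_singleton (p z)
        rw [← p.range_fiberι] at this
        have h := this.preimage (f := p.fiberι (p z)) (p.fiberι (p z)).isEmbedding.injective.injOn
        rw [Set.preimage_range] at h
        exact Set.finite_univ_iff.1 h
      haveI := hfinfib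
      haveI : DiscreteTopology (p.fiber (p z)) := inferInstance
      have h0 : AffDom.ptDim (p.asFiber z) = 0 := by
        rw [AffDom.ptDim, closure_discrete]
        refine le_antisymm (topologicalKrullDim_zero_of_discreteTopology _) ?_
        haveI : Nonempty ↥({p.asFiber z} : Set (p.fiber (p z))) := ⟨⟨_, rfl⟩⟩
        haveI : Nonempty (TopologicalSpace.IrreducibleCloseds ↥({p.asFiber z} : Set (p.fiber (p z)))) :=
          ⟨⟨{⟨_, rfl⟩}, isIrreducible_singleton, isClosed_discrete _⟩⟩
        exact Order.krullDim_nonneg
      rw [h0, add_zero]
      rfl
    have htp : t ⤳ p z := ht.specializes (hsub (subset_closure rfl))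
    have heq : t = p z := by
      by_contra hne
      obtain ⟨n, hn, -⟩ := AffDom.exists_dim_closure sX (p z)
      have hlt := K0Sub.dim_closure_lt htp hne n hn.ge
      rw [ht.def, hXeq T hT, ← hZ, hdimz, hn] at hlt
      have : n + 1 ≤ n := by exact_mod_cast hlt
      omega
    show Set.range p ∈ irreducibleComponents X
    rw [hrange, ← heq, ht.def]
    exact hT

end Groth.Agent.S15085
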