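import Groth.Statements.S15086
-- import your own Groth.Agent.* helpers here
import Groth.Agent.Lib.EtaleCount.Basic
import Mathlib.RingTheory.Etale.Field

set_option autoImplicit false
universe u
open CategoryTheory CategoryTheory.Limits AlgebraicGeometry
open MovLem

open CategoryTheory CategoryTheory.Limits AlgebraicGeometry

namespace GrothAux.S15086

variable {k : Type u} [Field k]

theorem card_fibre {Z : Scheme.{u}} (s : Z ⟶ Spec (CommRingCat.of k)) {L : Type u} [Field L] [IsSepClosed L]
    (i : Spec (CommRingCat.of L) ⟶ Spec (CommRingCat.of k)) (z : Z) (a : CommRingCat.of k ⟶ Z.residueField z)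
    (ha : Spec.map a = Z.fromSpecResidueField z ≫ s)
    (hfin : a.hom.Finite) (het : a.hom.Etale) :
    ((pullback.fst s i).base ⁻¹' {z}).encard = (letI := a.hom.toAlgebra; Module.finrank k (Z.residueField z)) := by
  let j := Z.fromSpecResidueField z
  haveI : IsFinite (j ≫ s) := by rw [← ha, IsFinite.SpecMap_iff]; exact hfin
  haveI : Etale (j ≫ s) := by rw [← ha]; exact (HasRingHomProperty.Spec_iff (P := @Etale)).2 het
  haveI : IsFinite (pullback.snd (j ≫ s) i) := MorphismProperty.pullback_snd _ _ inferInstance
  haveI : Etale (pullback.snd (j ≫ s) i) := MorphismProperty.pullback_snd _ _ inferInstance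
  let p := pullback.fst s i
  haveI : IsPreimmersion (pullback.snd j p) := inferInstance
  have h1 : ((p.base ⁻¹' {z} : Set _)).encard = ENat.card ↥(pullback (j ≫ s) i) := by
    rw [← Z.range_fromSpecResidueField z, Set.encard,
      ← ENat.card_congr (pullbackRightPullbackFstIso s i j).hom.homeomorph.toEquiv]
    refine (ENat.card_congr ?_).symm
    exact (Equiv.ofInjective _ (pullback.snd j p).isEmbedding.injective).trans
      (Equiv.setCongr (Scheme.Pullback.range_snd j p))
  rw [h1, GrothLib.EtaleCount.card_eq_finrank (pullback.snd (j ≫ s) i) (IsLocalRing.closedPoint _)]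
  erw [Scheme.Hom.finrank_pullback_snd]
  letI := a.hom.toAlgebra
  haveI : Module.Finite k (Z.residueField z) := hfin
  simp only [j]
  rw [← ha]
  congr 1
  show (Spec.map (CommRingCat.ofHom (algebraMap k (Z.residueField z)))).finrank _ = _
  erw [Scheme.Hom.finrank_SpecMap_algebraMap]
  rw [Module.rankAtStalk_eq_finrank_of_free]
  rfl

theorem finite_etale [PerfectField k] {Z : Scheme.{u}} (s : Z ⟶ Spec (CommRingCat.of k)) [LocallyOfFiniteType s]
    (z : Z) (hz : IsClosed ({z} : Set Z)) (a : CommRingCat.of k ⟶ Z.residueField z)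
    (ha : Spec.map a = Z.fromSpecResidueField z ≫ s) : a.hom.Finite ∧ a.hom.Etale := by
  haveI : IsClosedImmersion (Z.fromSpecResidueField z) :=
    IsClosedImmersion.of_isPreimmersion _ (by rw [Z.range_fromSpecResidueField]; exact hz)
  have hft : a.hom.FiniteType := by
    apply (HasRingHomProperty.Spec_iff (P := @LocallyOfFiniteType)).1
    rw [ha]; infer_instance
  letI : Algebra k (Z.residueField z) := a.hom.toAlgebra
  haveI : Algebra.FiniteType k (Z.residueField z) := hft
  haveI : Module.Finite k (Z.residueField z) := finite_of_finite_type_of_isJacobsonRing k _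
  refine ⟨‹Module.Finite k (Z.residueField z)›, RingHom.etale_algebraMap.mpr ?_⟩
  haveI : Algebra.IsSeparable k (Z.residueField z) := Algebra.IsAlgebraic.isSeparable_of_perfectField
  haveI : Algebra.FormallyEtale k (Z.residueField z) := (Algebra.FormallyEtale.iff_isSeparable _ _).2 inferInstance
  haveI : Algebra.FinitePresentation k (Z.residueField z) := Algebra.FinitePresentation.of_finiteType.1 inferInstance
  exact ⟨inferInstance, inferInstance⟩

end GrothAux.S15086

namespace Groth.Agent.S15086

/-- Let k be an infinite perfect field with algebraic closure k̄, let φ : X → Y be a finite morphism of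
k-schemes locally of finite type, let x be a closed point of X and y = φ(x). Let π_X : X_{k̄} → X
and π_Y : Y_{k̄} → Y be the base-change projections and φ_{k̄} : X_{k̄} → Y_{k̄} the induced
morphism. Then the number of points of π_Y⁻¹(y) is at most the number of points of π_X⁻¹(x);
equality holds if and only if the residue field extension k(y) → k(x) is an isomorphism; and
equality holds whenever φ_{k̄} is injective on π_X⁻¹(x). (Cardinalities are taken in ℕ ∪ {∞}; both
fibres are in fact finite.) -/
theorem result
    {k : Type u} [Field k] [Infinite k] [PerfectField k] {X Y : Scheme.{u}}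
    (sX : X ⟶ Spec (CommRingCat.of k)) (sY : Y ⟶ Spec (CommRingCat.of k))
    [LocallyOfFiniteType sX] [LocallyOfFiniteType sY]
    (φ : X ⟶ Y) (hφ : φ ≫ sY = sX) [IsFinite φ]
    (i : Spec (CommRingCat.of (AlgebraicClosure k)) ⟶ Spec (CommRingCat.of k))
    (hi : i = Spec.map (CommRingCat.ofHom (algebraMap k (AlgebraicClosure k))))
    (φbar : pullback sX i ⟶ pullback sY i)
    (h1 : φbar ≫ pullback.fst sY i = pullback.fst sX i ≫ φ)
    (h2 : φbar ≫ pullback.snd sY i = pullback.snd sX i)
    (x : X) (hx : IsClosed ({x} : Set X)) :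
    ((pullback.fst sY i).base ⁻¹' {φ.base x}).encard ≤ ((pullback.fst sX i).base ⁻¹' {x}).encard ∧
      (((pullback.fst sY i).base ⁻¹' {φ.base x}).encard = ((pullback.fst sX i).base ⁻¹' {x}).encard ↔
          Function.Bijective (φ.residueFieldMap x).hom) ∧
      (Set.InjOn φbar.base ((pullback.fst sX i).base ⁻¹' {x}) →
        ((pullback.fst sY i).base ⁻¹' {φ.base x}).encard = ((pullback.fst sX i).base ⁻¹' {x}).encard) := by
  open GrothAux.S15086 in
  haveI : IsSepClosed (AlgebraicClosure k) := inferInstance
  let y := φ.base x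
  have hy : IsClosed ({y} : Set Y) := by
    have := φ.isClosedMap _ hx
    rwa [Set.image_singleton] at this
  obtain ⟨a, ha⟩ := Spec.map_surjective (Y.fromSpecResidueField y ≫ sY)
  let ρ := φ.residueFieldMap x
  have hb : Spec.map (a ≫ ρ) = X.fromSpecResidueField x ≫ sX := by
    rw [Spec.map_comp, ha, ← hφ, ← Category.assoc, ← Category.assoc]
    congr 1
    exact φ.SpecMap_residueFieldMap_fromSpecResidueField x
  obtain ⟨hfy, hey⟩ := finite_etale sY y hy a ha
  obtain ⟨hfx, hex⟩ := finite_etale sX x hx (a ≫ ρ) hb
  have eY := card_fibre sY i y a ha hfy hey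
  have eX := card_fibre sX i x (a ≫ ρ) hb hfx hex
  let Ky := Y.residueField y
  let Kx := X.residueField x
  letI : Algebra k Ky := a.hom.toAlgebra
  letI : Algebra k Kx := (a ≫ ρ).hom.toAlgebra
  letI : Algebra Ky Kx := ρ.hom.toAlgebra
  haveI : IsScalarTower k Ky Kx := IsScalarTower.of_algebraMap_eq fun _ => rfl
  haveI : Module.Finite k Kx := hfx
  haveI : Module.Finite k Ky := hfy
  haveI : Module.Finite Ky Kx := Module.Finite.of_restrictScalars_finite k Ky Kx
  have hmul : Module.finrank k Ky * Module.finrank Ky Kx = Module.finrank k Kx := Module.finrank_mul_finrank k Ky Kx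
  have hpos : 0 < Module.finrank k Ky := Module.finrank_pos
  have hpos' : 0 < Module.finrank Ky Kx := Module.finrank_pos
  have hle : Module.finrank k Ky ≤ Module.finrank k Kx := by
    rw [← hmul]; exact Nat.le_mul_of_pos_right _ hpos'
  have hiff : Module.finrank k Ky = Module.finrank k Kx ↔ Function.Bijective ρ.hom := by
    constructor
    · intro h
      have h1 : Module.finrank Ky Kx = 1 :=
        Nat.eq_of_mul_eq_mul_left hpos (by rw [hmul, mul_one, h])
      exact bijective_algebraMap_of_linearEquiv (LinearEquiv.ofFinrankEq Ky Kx (by rw [h1, Module.finrank_self]))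
    · intro h
      have h1 : Module.finrank Ky Kx = 1 := by
        rw [← (LinearEquiv.ofBijective (Algebra.linearMap Ky Kx) h).finrank_eq, Module.finrank_self]
      rw [← hmul, h1, mul_one]
  rw [eY, eX]
  refine ⟨by exact_mod_cast hle, by rw [Nat.cast_inj]; exact hiff, fun hinj => ?_⟩
  have hm : Set.MapsTo φbar.base ((pullback.fst sX i).base ⁻¹' {x}) ((pullback.fst sY i).base ⁻¹' {φ.base x}) := by
    intro w hw
    show pullback.fst sY i (φbar w) = φ x
    rw [← Scheme.Hom.comp_apply, h1, Scheme.Hom.comp_apply]
    exact congrArg φ hw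
  have h3 := Set.encard_le_encard_of_injOn hm hinj
  rw [eY, eX] at h3
  exact le_antisymm (by exact_mod_cast hle) h3

end Groth.Agent.S15086
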