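import Groth.Statements.S15087
-- import your own Groth.Agent.* helpers here
import Groth.Agent.Lib.FibreDimAt6.Valuation
import Mathlib.RingTheory.Jacobson.Ring

set_option autoImplicit false
universe u v w
open MovLem

open MvPolynomial

namespace GrothAux.S15087

theorem integral_quot {A : Type*} [CommRing A] {r : ℕ} (p : Polynomial A) (hp : p.Monic) :
    Algebra.IsIntegral A (MvPolynomial (Fin r) A ⧸ Ideal.span (Set.range fun i => Polynomial.aeval (X i : MvPolynomial (Fin r) A) p)) := by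
  constructor
  intro z
  obtain ⟨z, rfl⟩ := Ideal.Quotient.mk_surjective z
  induction z using MvPolynomial.induction_on with
  | C c => exact isIntegral_algebraMap (R := A) (x := c)
  | add p q hp hq => rw [map_add]; exact hp.add hq
  | mul_X q i hq =>
    rw [map_mul]
    refine hq.mul ⟨p, hp, ?_⟩
    rw [← Polynomial.aeval_def, ← Ideal.Quotient.mkₐ_eq_mk A, Polynomial.aeval_algHom_apply, Ideal.Quotient.mkₐ_eq_mk]
    exact Ideal.Quotient.eq_zero_iff_mem.2 (Ideal.subset_span ⟨i, rfl⟩)

theorem exists_face_poly {k : Type u} [Field k] {r : ℕ} {A : Type u} [CommRing A] [Algebra k A] [Algebra.FiniteType k A]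
    (hA : ringKrullDim A ≤ (r - 1 : ℕ)) (hr : 1 ≤ r)
    (x : Fin r → A) (t : A) (u : A) (hu : u * t = 1) (N : ℕ) (p : Polynomial k) (hp : p.Monic) :
    ∃ h : MvPolynomial (Fin r) k, h ≠ 0 ∧ ∀ (L : Type w) [Field L] [Algebra k L] (a : A →ₐ[k] L) (ξ g : Fin r → L),
      (∀ i, Polynomial.aeval (ξ i) p = 0) → (∀ i, a (x i) = ξ i + a t ^ N * g i) → aeval g h = 0 := by
  let p' : Polynomial A := p.map (algebraMap k A)
  let Q : Ideal (MvPolynomial (Fin r) A) := Ideal.span (Set.range fun i => Polynomial.aeval (X i : MvPolynomial (Fin r) A) p')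
  haveI : Algebra.IsIntegral A (MvPolynomial (Fin r) A ⧸ Q) := integral_quot p' (hp.map _)
  haveI : Algebra.FiniteType A (MvPolynomial (Fin r) A ⧸ Q) := inferInstance
  haveI : Algebra.FiniteType k (MvPolynomial (Fin r) A ⧸ Q) := Algebra.FiniteType.trans (S := A) inferInstance inferInstance
  let G : MvPolynomial (Fin r) k →ₐ[k] MvPolynomial (Fin r) A ⧸ Q :=
    aeval fun i => (algebraMap A _ (x i) - Ideal.Quotient.mk Q (X i)) * algebraMap A _ u ^ N
  have hnot : ¬ Function.Injective G := by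
    intro hinj
    have h1 := (GrothLib.FibreDimAt6.le_dim_of_injective k _ r G hinj).trans
      ((GrothLib.Dim.ringKrullDim_le_of_isIntegral A _).trans hA)
    have h2 : r ≤ r - 1 := by exact_mod_cast h1
    omega
  rw [injective_iff_map_eq_zero] at hnot
  push Not at hnot
  obtain ⟨h, hh, hh0⟩ := hnot
  refine ⟨h, hh0, fun L _ _ a ξ g hξ hx => ?_⟩
  have hap : ∀ i, Polynomial.eval₂ a.toRingHom (ξ i) p' = 0 := fun i => by
    rw [Polynomial.eval₂_map]
    refine Eq.trans ?_ (hξ i)
    rw [Polynomial.aeval_def]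
    congr 1
    exact a.comp_algebraMap
  let b0 : MvPolynomial (Fin r) A →+* L := eval₂Hom a.toRingHom ξ
  have hQ : ∀ q ∈ Q, b0 q = 0 := by
    intro q hq
    refine (RingHom.mem_ker).1 ((Ideal.span_le.2 ?_ : Q ≤ RingHom.ker b0) hq)
    rintro _ ⟨i, rfl⟩
    refine RingHom.mem_ker.2 ?_
    beta_reduce
    rw [Polynomial.aeval_def, Polynomial.hom_eval₂]
    refine Eq.trans ?_ (hap i)
    congr 1
    · exact RingHom.ext fun c => eval₂Hom_C _ _ c
    · exact eval₂Hom_X' _ _ _
  let b : MvPolynomial (Fin r) A ⧸ Q →ₐ[k] L :=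
    { Ideal.Quotient.lift Q b0 hQ with
      commutes' := fun c => by
        show b0 (C (algebraMap k A c)) = _
        rw [eval₂Hom_C]
        exact a.commutes c }
  have hι : ∀ q, b (algebraMap A _ q) = a q := fun q => eval₂Hom_C _ _ q
  have hut : a u * a t = 1 := by rw [← map_mul, hu, map_one]
  have hb : b.comp G = aeval g := MvPolynomial.algHom_ext fun i => by
    have h1 : b (Ideal.Quotient.mk Q (X i)) = ξ i := eval₂Hom_X' _ _ _
    simp only [G, AlgHom.comp_apply, aeval_X, map_mul, map_sub, map_pow, hι, h1, hx i]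
    rw [add_sub_cancel_left, mul_right_comm, ← mul_pow, mul_comm (a t), hut, one_pow, one_mul]
  rw [← hb, AlgHom.comp_apply, hh, map_zero]

theorem exists_rootPoly {k : Type*} [Field k] {r : ℕ} (Sigma : Finset (Ideal (MvPolynomial (Fin r) k)))
    (hSigma : ∀ P ∈ Sigma, P.IsMaximal) :
    ∃ p : Polynomial k, p.Monic ∧ ∀ P ∈ Sigma, ∀ i, Polynomial.aeval (X i : MvPolynomial (Fin r) k) p ∈ P := by
  classical
  have h1 : ∀ P : Sigma, ∀ i : Fin r, ∃ p : Polynomial k, p.Monic ∧
      Polynomial.aeval (X i : MvPolynomial (Fin r) k) p ∈ P.1 := by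
    intro P i
    haveI := hSigma P.1 P.2
    letI := Ideal.Quotient.field P.1
    haveI : Module.Finite k (MvPolynomial (Fin r) k ⧸ P.1) := finite_of_finite_type_of_isJacobsonRing k _
    obtain ⟨p, hp, hp0⟩ := Algebra.IsIntegral.isIntegral (R := k) (Ideal.Quotient.mk P.1 (X i))
    refine ⟨p, hp, Ideal.Quotient.eq_zero_iff_mem.1 ?_⟩
    rw [← Ideal.Quotient.mkₐ_eq_mk k, ← Polynomial.aeval_algHom_apply]
    exact hp0
  choose p hp0 hp using h1
  refine ⟨∏ P : Sigma, ∏ i, p P i, Polynomial.monic_prod_of_monic _ _ fun P _ =>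
    Polynomial.monic_prod_of_monic _ _ fun i _ => hp0 P i, fun P hP i => ?_⟩
  obtain ⟨q, hq⟩ : p ⟨P, hP⟩ i ∣ ∏ P : Sigma, ∏ i, p P i :=
    (Finset.dvd_prod_of_mem _ (Finset.mem_univ i)).trans
      (Finset.dvd_prod_of_mem (fun P => ∏ i, p P i) (Finset.mem_univ (⟨P, hP⟩ : Sigma)))
  rw [hq, map_mul]
  exact Ideal.mul_mem_right _ _ (hp ⟨P, hP⟩ i)

end GrothAux.S15087

namespace Groth.Agent.S15087

/-- Let k be an infinite perfect field, r, m, s ≥ 1 and d ≥ 0, and put N = s(m+1). In affine space with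
coordinates x_1, …, x_r, t, y_1, …, y_d (the cube of dimension d taken as affine d-space with faces
given by setting some coordinates equal to 0 or 1), let Z = V(I) be an integral closed subscheme of
dimension r which does not meet the hyperplane t = 0 and which meets every face {y_i = ε_i for i ∈
S} (S nonempty, ε_i ∈ {0, 1}) in dimension at most r − |S|. Let Σ be a finite set of closed points
of affine r-space over k. Then there is a nonzero polynomial h in k[g_1, …, g_r] such that for every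
field K over k and every g ∈ K^r with h(g) ≠ 0, the translate of Z_K by x ↦ x + t^N g meets no set
{x ∈ Σ} × A^1 × F with F a proper face: for every field L over K, every point ξ of affine r-space
over L lying on a point of Σ, every t ∈ L and every y ∈ L^d lying on a proper face, the point (ξ +
t^N g, t, y) is not a zero of I. (The published statement assumes that Z is an irreducible
admissible additive cycle meeting the faces through Σ properly; the two consequences of
admissibility that its proof uses — Z misses t = 0, and Z meets all faces properly — are the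
hypotheses here, and the dense open subset of affine r-space is given as the locus h ≠ 0.) -/
theorem result
    {k : Type u} [Field k] [Infinite k] [PerfectField k] (r m s d : ℕ) (hr : 1 ≤ r) (hm : 1 ≤ m) (hs : 1 ≤ s)
    (I : Ideal (MvPolynomial (Fin r ⊕ (Unit ⊕ Fin d)) k)) (hI : I.IsPrime)
    (hdim : ringKrullDim (MvPolynomial (Fin r ⊕ (Unit ⊕ Fin d)) k ⧸ I) = r)
    (ht0 : I ⊔ Ideal.span {MvPolynomial.X (Sum.inr (Sum.inl ()))} = ⊤)
    (hface : ∀ (S : Finset (Fin d)), S.Nonempty → ∀ (ε : Fin d → k), (∀ i, ε i = 0 ∨ ε i = 1) →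
      ringKrullDim (MvPolynomial (Fin r ⊕ (Unit ⊕ Fin d)) k ⧸
        (I ⊔ Ideal.span ((fun i => MvPolynomial.X (Sum.inr (Sum.inr i)) - MvPolynomial.C (ε i)) '' (S : Set (Fin d))))) ≤ (r - S.card : ℕ))
    (Sigma : Finset (Ideal (MvPolynomial (Fin r) k))) (hSigma : ∀ P ∈ Sigma, P.IsMaximal) :
    ∃ h : MvPolynomial (Fin r) k, h ≠ 0 ∧
      ∀ (K : Type v) [Field K] [Algebra k K] (g : Fin r → K), MvPolynomial.aeval g h ≠ 0 →
        ∀ (L : Type w) [Field L] [Algebra k L] [Algebra K L] [IsScalarTower k K L]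
          (ξ : Fin r → L) (t : L) (y : Fin d → L),
          ∀ P ∈ Sigma, (∀ p ∈ P, MvPolynomial.aeval ξ p = 0) →
            ∀ (S : Finset (Fin d)), S.Nonempty → ∀ (ε : Fin d → k), (∀ i, ε i = 0 ∨ ε i = 1) →
              (∀ i ∈ S, y i = algebraMap k L (ε i)) →
                ¬ (∀ q ∈ I, MvPolynomial.aeval
                    (Sum.elim (fun i => ξ i + t ^ (s * (m + 1)) * algebraMap K L (g i))
                      (Sum.elim (fun _ : Unit => t) y)) q = 0) := by
  classical
  let σ := Fin r ⊕ (Unit ⊕ Fin d)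
  let N := s * (m + 1)
  let Xt : MvPolynomial σ k := X (Sum.inr (Sum.inl ()))
  obtain ⟨p, hpm, hp⟩ := GrothAux.S15087.exists_rootPoly Sigma hSigma
  have hone : (1 : MvPolynomial σ k) ∈ I ⊔ Ideal.span {Xt} := by rw [ht0]; trivial
  obtain ⟨c, hc, w0, hw0, hcw⟩ := Submodule.mem_sup.1 hone
  obtain ⟨u, rfl⟩ := Ideal.mem_span_singleton'.1 hw0
  have hu : u * Xt - 1 ∈ I := by
    have : u * Xt - 1 = -c := by rw [← hcw]; ring
    rw [this]; exact I.neg_mem hc
  let e : Bool → k := fun b => if b then 1 else 0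
  let J : Fin d → Bool → Ideal (MvPolynomial σ k) := fun i b =>
    I ⊔ Ideal.span {X (Sum.inr (Sum.inr i)) - C (e b)}
  have hJ : ∀ i b, ∃ h : MvPolynomial (Fin r) k, h ≠ 0 ∧ ∀ (L : Type w) [Field L] [Algebra k L] (z : σ → L) (ξ g : Fin r → L),
      (∀ q ∈ J i b, aeval z q = 0) → (∀ j, Polynomial.aeval (ξ j) p = 0) →
        (∀ j, z (Sum.inl j) = ξ j + z (Sum.inr (Sum.inl ())) ^ N * g j) → aeval g h = 0 := by
    intro i b
    have h1 := hface {i} (Finset.singleton_nonempty i) (fun _ => e b) (fun _ => by cases b <;> simp [e])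
    rw [Finset.coe_singleton, Set.image_singleton, Finset.card_singleton] at h1
    obtain ⟨h, h0, h2⟩ := GrothAux.S15087.exists_face_poly.{u, w} (k := k) (A := MvPolynomial σ k ⧸ J i b) h1 hr
      (fun j => Ideal.Quotient.mk _ (X (Sum.inl j))) (Ideal.Quotient.mk _ Xt) (Ideal.Quotient.mk _ u)
      (by rw [← map_mul, ← map_one (Ideal.Quotient.mk (J i b))]; exact Ideal.Quotient.eq.2 (Ideal.mem_sup_left hu)) N p hpm
    refine ⟨h, h0, fun L _ _ z ξ g hz hξ hx => ?_⟩
    refine h2 L (Ideal.Quotient.liftₐ _ (aeval z) hz) ξ g hξ fun j => ?_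
    simpa [Xt] using hx j
  choose h hh0 hh using hJ
  refine ⟨∏ i, ∏ b, h i b, Finset.prod_ne_zero_iff.2 fun i _ => Finset.prod_ne_zero_iff.2 fun b _ => hh0 i b, ?_⟩
  intro K _ _ g hg L _ _ _ _ ξ t y P hP hξ S hS ε hε hy hzero
  obtain ⟨i, hi⟩ := hS
  obtain ⟨b, hb⟩ : ∃ b, e b = ε i := (hε i).elim (fun h0 => ⟨false, by simp [e, h0]⟩) fun h1 => ⟨true, by simp [e, h1]⟩
  apply hg
  rw [map_prod]
  refine Finset.prod_eq_zero (Finset.mem_univ i) ?_
  rw [map_prod]
  refine Finset.prod_eq_zero (Finset.mem_univ b) ?_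
  apply (algebraMap K L).injective
  rw [map_zero, ← aeval_algebraMap_apply]
  refine hh i b L (Sum.elim (fun j => ξ j + t ^ N * algebraMap K L (g j)) (Sum.elim (fun _ : Unit => t) y)) ξ _ ?_ ?_
    (fun j => rfl)
  · intro q hq
    refine (RingHom.mem_ker).1 ((sup_le ?_ ?_ : J i b ≤ RingHom.ker
      (aeval (Sum.elim (fun j => ξ j + t ^ N * algebraMap K L (g j)) (Sum.elim (fun _ : Unit => t) y))).toRingHom) hq)
    · exact fun q hq => RingHom.mem_ker.2 (hzero q hq)
    · rw [Ideal.span_le, Set.singleton_subset_iff]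
      refine RingHom.mem_ker.2 ?_
      simp [hy i hi, hb]
  · intro j
    rw [← aeval_X (R := k) ξ j, Polynomial.aeval_algHom_apply]
    exact hξ _ (hp P hP j)

end Groth.Agent.S15087
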