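import Groth.Statements.S15088
-- import your own Groth.Agent.* helpers here
import Mathlib.RingTheory.Jacobson.Ring
import Mathlib.FieldTheory.IsAlgClosed.AlgebraicClosure
import Mathlib.RingTheory.Ideal.GoingUp
import Mathlib.Algebra.MvPolynomial.Equiv


set_option autoImplicit false
universe u v
open MovLem

open MvPolynomial

namespace GrothAux.S15088

set_option linter.all false

theorem isIntegral_map {A B : Type*} [Field A] [Field B] [Algebra A B] [Algebra.IsAlgebraic A B] (σ : Type*) :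
    (MvPolynomial.map (algebraMap A B) : MvPolynomial σ A →+* MvPolynomial σ B).IsIntegral := by
  intro q
  induction q using MvPolynomial.induction_on with
  | C c =>
    obtain ⟨p, hp, hpc⟩ := Algebra.IsIntegral.isIntegral (R := A) c
    refine ⟨p.map MvPolynomial.C, hp.map _, ?_⟩
    rw [Polynomial.eval₂_map]
    have : (MvPolynomial.map (algebraMap A B) : MvPolynomial σ A →+* MvPolynomial σ B).comp MvPolynomial.C =
        MvPolynomial.C.comp (algebraMap A B) := RingHom.ext fun z => MvPolynomial.map_C _ _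
    rw [this, ← Polynomial.hom_eval₂, hpc, map_zero]
  | add p q hp hq => exact RingHom.IsIntegralElem.add _ hp hq
  | mul_X p i hp =>
    refine RingHom.IsIntegralElem.mul _ hp ?_
    rw [← MvPolynomial.map_X (algebraMap A B) i]
    exact RingHom.isIntegralElem_map _

theorem exists_multiple {A B : Type*} [Field A] [Field B] [Algebra A B] [Algebra.IsAlgebraic A B] {σ : Type*}
    (H : MvPolynomial σ B) (hH : H ≠ 0) :
    ∃ h : MvPolynomial σ A, h ≠ 0 ∧ H ∣ MvPolynomial.map (algebraMap A B) h := by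
  let f : MvPolynomial σ A →+* MvPolynomial σ B := MvPolynomial.map (algebraMap A B)
  letI := f.toAlgebra
  haveI : Algebra.IsIntegral (MvPolynomial σ A) (MvPolynomial σ B) := ⟨isIntegral_map σ⟩
  have hne : (Ideal.span {H}).comap (algebraMap (MvPolynomial σ A) (MvPolynomial σ B)) ≠ ⊥ :=
    Ideal.comap_ne_bot_of_integral_mem hH (Ideal.mem_span_singleton_self H) (Algebra.IsIntegral.isIntegral H)
  obtain ⟨h, hh, h0⟩ := Submodule.exists_mem_ne_zero_of_ne_bot hne
  exact ⟨h, h0, Ideal.mem_span_singleton.1 hh⟩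

/-- The substitution `x ↦ ξ + τ^N G` keeps a nonzero polynomial nonzero. -/
theorem subst_ne_zero {A B : Type*} [Field A] [Field B] [Algebra A B] {r : ℕ} (a : MvPolynomial (Fin r) A) (ha : a ≠ 0)
    (ξ : Fin r → B) (c : B) (hc : c ≠ 0) :
    aeval (fun i => (C (ξ i) + C c * X i : MvPolynomial (Fin r) B)) a ≠ 0 := by
  intro h
  apply ha
  apply MvPolynomial.map_injective (algebraMap A B) (algebraMap A B).injective
  let u : MvPolynomial (Fin r) B →ₐ[B] MvPolynomial (Fin r) B := aeval fun i => C c⁻¹ * (X i - C (ξ i))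
  have h1 := congrArg (fun z => (u.restrictScalars A) z) h
  simp only [map_zero] at h1
  rw [← AlgHom.comp_apply, comp_aeval] at h1
  rw [map_zero, ← h1]
  have h2 : (fun i => (u.restrictScalars A) (C (ξ i) + C c * X i)) = fun i => (X i : MvPolynomial (Fin r) B) := by
    funext i
    simp only [u, AlgHom.restrictScalars_apply, map_add, map_mul, aeval_C, aeval_X, MvPolynomial.algebraMap_eq]
    rw [← mul_assoc, ← map_mul, mul_inv_cancel₀ hc, map_one, one_mul, add_sub_cancel]
  rw [h2]
  exact (AlgHom.congr_fun (MvPolynomial.algHom_ext (f := MvPolynomial.mapAlgHom (Algebra.ofId A B)) fun i => by simp) a)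

theorem exists_rootPoly {k : Type*} [Field k] {r : ℕ} (Sigma : Finset (Ideal (MvPolynomial (Fin r) k)))
    (hSigma : ∀ P ∈ Sigma, P.IsMaximal) :
    ∃ p : Polynomial k, p ≠ 0 ∧ ∀ P ∈ Sigma, ∀ i, Polynomial.aeval (X i : MvPolynomial (Fin r) k) p ∈ P := by
  classical
  have h1 : ∀ P : Sigma, ∀ i : Fin r, ∃ p : Polynomial k, p ≠ 0 ∧
      Polynomial.aeval (X i : MvPolynomial (Fin r) k) p ∈ P.1 := by
    intro P i
    haveI := hSigma P.1 P.2
    letI := Ideal.Quotient.field P.1
    haveI : Module.Finite k (MvPolynomial (Fin r) k ⧸ P.1) := finite_of_finite_type_of_isJacobsonRing k _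
    obtain ⟨p, hp, hp0⟩ := Algebra.IsIntegral.isIntegral (R := k) (Ideal.Quotient.mk P.1 (X i))
    refine ⟨p, hp.ne_zero, Ideal.Quotient.eq_zero_iff_mem.1 ?_⟩
    rw [← Ideal.Quotient.mkₐ_eq_mk k, ← Polynomial.aeval_algHom_apply]
    exact hp0
  choose p hp0 hp using h1
  refine ⟨∏ P : Sigma, ∏ i, p P i, Finset.prod_ne_zero_iff.2 fun P _ => Finset.prod_ne_zero_iff.2 fun i _ => hp0 P i,
    fun P hP i => ?_⟩
  obtain ⟨q, hq⟩ : p ⟨P, hP⟩ i ∣ ∏ P : Sigma, ∏ i, p P i :=
    (Finset.dvd_prod_of_mem _ (Finset.mem_univ i)).trans (Finset.dvd_prod_of_mem (fun P => ∏ i, p P i) (Finset.mem_univ (⟨P, hP⟩ : Sigma)))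
  rw [hq, map_mul]
  exact Ideal.mul_mem_right _ _ (hp ⟨P, hP⟩ i)

theorem exists_point.{w'} {R : Type w'} [CommRing R] (a' b' : Polynomial R) (hb : b'.Monic) (M : Ideal R) [M.IsPrime]
    (hker : ∀ z : R, Polynomial.C z ∈ Ideal.span {a', b'} → z ∈ M) :
    ∃ (L : Type w') (_ : Field L) (_ : IsAlgClosed L) (ψ : Polynomial R →+* L),
      ψ a' = 0 ∧ ψ b' = 0 ∧ ∀ z ∈ M, ψ (Polynomial.C z) = 0 := by
  let Q : Ideal (Polynomial R) := Ideal.span {a', b'}
  let φ : R →+* Polynomial R ⧸ Q := (Ideal.Quotient.mk Q).comp Polynomial.C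
  have hint : φ.IsIntegral := by
    intro z
    obtain ⟨z, rfl⟩ := Ideal.Quotient.mk_surjective z
    have hTint : φ.IsIntegralElem (Ideal.Quotient.mk Q Polynomial.X) := by
      refine ⟨b', hb, ?_⟩
      rw [← Polynomial.hom_eval₂, Polynomial.eval₂_C_X]
      exact Ideal.Quotient.eq_zero_iff_mem.2 (Ideal.subset_span (by simp))
    induction z using Polynomial.induction_on with
    | C c => exact RingHom.isIntegralElem_map φ
    | add p q hp hq => rw [map_add]; exact RingHom.IsIntegralElem.add φ hp hq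
    | monomial n c hc =>
      rw [pow_succ, ← mul_assoc, map_mul]
      exact RingHom.IsIntegralElem.mul φ hc hTint
  letI := φ.toAlgebra
  haveI : Algebra.IsIntegral R (Polynomial R ⧸ Q) := ⟨hint⟩
  obtain ⟨q, -, hq, hqM⟩ := Ideal.exists_ideal_over_prime_of_isIntegral M (⊥ : Ideal (Polynomial R ⧸ Q)) (by
    intro z hz
    exact hker z (Ideal.Quotient.eq_zero_iff_mem.1 hz))
  haveI := hq
  let F := FractionRing ((Polynomial R ⧸ Q) ⧸ q)
  let ψ0 : Polynomial R →+* AlgebraicClosure F :=
    (algebraMap F _).comp ((algebraMap ((Polynomial R ⧸ Q) ⧸ q) F).comp ((Ideal.Quotient.mk q).comp (Ideal.Quotient.mk Q)))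
  refine ⟨AlgebraicClosure F, inferInstance, inferInstance, ψ0, ?_, ?_, fun z hz => ?_⟩
  · simp [ψ0, Ideal.Quotient.eq_zero_iff_mem.2 (show a' ∈ Q from Ideal.subset_span (by simp))]
  · simp [ψ0, Ideal.Quotient.eq_zero_iff_mem.2 (show b' ∈ Q from Ideal.subset_span (by simp))]
  · rw [← hqM] at hz
    simp only [ψ0, RingHom.comp_apply]
    rw [Ideal.Quotient.eq_zero_iff_mem.2 (show Ideal.Quotient.mk Q (Polynomial.C z) ∈ q from hz), map_zero, map_zero]

end GrothAux.S15088

namespace Groth.Agent.S15088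

set_option backward.isDefEq.respectTransparency false

/-- Let k be an infinite perfect field, r, m, s ≥ 1 and d ≥ 0, and put N = s(m+1). In affine space with
coordinates x_1, …, x_r, t, y_1, …, y_d let Z = V(I) be an integral closed subscheme of dimension r
which does not meet t = 0 and such that neither the projection of Z to the x-coordinates nor its
projection to the t-line is dominant (I contains a nonzero polynomial in the x's alone and a nonzero
polynomial in t alone). Let Σ be a finite set of closed points of affine r-space over k. Then there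
is a nonzero polynomial h in k[g_1, …, g_r] such that for every field K over k and every g ∈ K^r
with h(g) ≠ 0 the translate Z_g = {(x, t, y) : (x + t^N g, t, y) ∈ Z_K} of Z_K is empty over an open
neighbourhood of the points of affine r-space over K lying over Σ: the closure of the image of Z_g
in affine r-space over K (the zero set of the contraction to K[x_1, …, x_r] of the ideal of Z_g)
contains no point lying over a point of Σ. (The published statement assumes that Z is an irreducible
admissible additive cycle meeting the faces through Σ properly; of this its proof uses only that Z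
misses t = 0, which is a hypothesis here, and the dense open subset of affine r-space is given as
the locus h ≠ 0.) -/
theorem result
    {k : Type u} [Field k] [Infinite k] [PerfectField k] (r m s d : ℕ) (hr : 1 ≤ r) (hm : 1 ≤ m) (hs : 1 ≤ s)
    (I : Ideal (MvPolynomial (Fin r ⊕ (Unit ⊕ Fin d)) k)) (hI : I.IsPrime)
    (hdim : ringKrullDim (MvPolynomial (Fin r ⊕ (Unit ⊕ Fin d)) k ⧸ I) = r)
    (ht0 : I ⊔ Ideal.span {MvPolynomial.X (Sum.inr (Sum.inl ()))} = ⊤)
    (hx : Ideal.comap (MvPolynomial.rename (Sum.inl : Fin r → Fin r ⊕ (Unit ⊕ Fin d)) :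
        MvPolynomial (Fin r) k →ₐ[k] MvPolynomial (Fin r ⊕ (Unit ⊕ Fin d)) k) I ≠ ⊥)
    (ht : Ideal.comap (MvPolynomial.rename (fun _ : Unit => (Sum.inr (Sum.inl ()) : Fin r ⊕ (Unit ⊕ Fin d))) :
        MvPolynomial Unit k →ₐ[k] MvPolynomial (Fin r ⊕ (Unit ⊕ Fin d)) k) I ≠ ⊥)
    (Sigma : Finset (Ideal (MvPolynomial (Fin r) k))) (hSigma : ∀ P ∈ Sigma, P.IsMaximal) :
    ∃ h : MvPolynomial (Fin r) k, h ≠ 0 ∧
      ∀ (K : Type v) [Field K] [Algebra k K] (g : Fin r → K), MvPolynomial.aeval g h ≠ 0 →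
        ∀ P ∈ Sigma,
          Ideal.comap (MvPolynomial.rename (Sum.inl : Fin r → Fin r ⊕ (Unit ⊕ Fin d)) :
              MvPolynomial (Fin r) K →ₐ[K] MvPolynomial (Fin r ⊕ (Unit ⊕ Fin d)) K)
            (Ideal.map (MvPolynomial.aeval
                (Sum.elim (fun i : Fin r => MvPolynomial.X (Sum.inl i) +
                    MvPolynomial.X (Sum.inr (Sum.inl ())) ^ (s * (m + 1)) * MvPolynomial.C (g i))
                  (fun j : Unit ⊕ Fin d => MvPolynomial.X (Sum.inr j))) :
                MvPolynomial (Fin r ⊕ (Unit ⊕ Fin d)) k →ₐ[k] MvPolynomial (Fin r ⊕ (Unit ⊕ Fin d)) K) I) ⊔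
            Ideal.map (MvPolynomial.map (algebraMap k K) : MvPolynomial (Fin r) k →+* MvPolynomial (Fin r) K) P = ⊤ := by
  classical
  let N := s * (m + 1)
  let kb := AlgebraicClosure k
  let Xt : MvPolynomial (Fin r ⊕ (Unit ⊕ Fin d)) k := X (Sum.inr (Sum.inl ()))
  obtain ⟨a, haI, ha0⟩ := Submodule.exists_mem_ne_zero_of_ne_bot hx
  obtain ⟨bm, hbI, hb0⟩ := Submodule.exists_mem_ne_zero_of_ne_bot ht
  have hXt : Xt ∉ I := fun h => hI.ne_top (by
    rw [← ht0]; exact (sup_eq_left.2 ((Ideal.span_singleton_le_iff_mem _).2 h)).symm)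
  let b := pUnitAlgEquiv k bm
  have hbne : b ≠ 0 := fun h => hb0 ((pUnitAlgEquiv k).injective (h.trans (map_zero _).symm))
  have hbI' : Polynomial.aeval Xt b ∈ I := by
    have : Polynomial.aeval Xt b = rename (fun _ : Unit => (Sum.inr (Sum.inl ()) : Fin r ⊕ (Unit ⊕ Fin d))) bm := by
      have h := AlgHom.congr_fun (show (Polynomial.aeval Xt).comp (pUnitAlgEquiv k).toAlgHom =
        rename (fun _ : Unit => (Sum.inr (Sum.inl ()) : Fin r ⊕ (Unit ⊕ Fin d))) from
          MvPolynomial.algHom_ext fun _ => by simp [Xt]) bm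
      exact h
    rw [this]
    exact hbI
  obtain ⟨c0, hc0, hc0'⟩ := Polynomial.exists_eq_pow_rootMultiplicity_mul_and_not_dvd b hbne 0
  rw [map_zero, sub_zero] at hc0 hc0'
  let b0 := c0 * Polynomial.C c0.leadingCoeff⁻¹
  have hc0ne : c0 ≠ 0 := fun h => hc0' (h ▸ dvd_zero _)
  have hmon : b0.Monic := Polynomial.monic_mul_leadingCoeff_inv hc0ne
  have hb0I : Polynomial.aeval Xt b0 ∈ I := by
    rw [map_mul]
    refine Ideal.mul_mem_right _ _ ?_
    rw [hc0, map_mul, map_pow, Polynomial.aeval_X] at hbI'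
    exact (hI.mem_or_mem hbI').resolve_left fun h => hXt (hI.mem_of_pow_mem _ h)
  have hb00 : b0.coeff 0 ≠ 0 := by
    rw [Polynomial.mul_coeff_zero, Polynomial.coeff_C_zero]
    exact mul_ne_zero (fun h => hc0' (Polynomial.X_dvd_iff.2 h)) (inv_ne_zero (Polynomial.leadingCoeff_ne_zero.2 hc0ne))
  obtain ⟨p, hp0, hp⟩ := GrothAux.S15088.exists_rootPoly Sigma hSigma
  let S : Finset ((Fin r → kb) × kb) :=
    (Fintype.piFinset fun _ : Fin r => (p.aroots kb).toFinset) ×ˢ (b0.aroots kb).toFinset
  have hτ : ∀ z ∈ S, z.2 ≠ 0 := by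
    intro z hz h0
    have := (Polynomial.mem_aroots.1 (Multiset.mem_toFinset.1 (Finset.mem_product.1 hz).2)).2
    rw [h0, ← Polynomial.coeff_zero_eq_aeval_zero'] at this
    exact hb00 ((algebraMap k kb).injective (this.trans (map_zero _).symm))
  let H : MvPolynomial (Fin r) kb := ∏ z ∈ S, aeval (fun i => (C (z.1 i) + C (z.2 ^ N) * X i : MvPolynomial (Fin r) kb)) a
  have hH : H ≠ 0 := Finset.prod_ne_zero_iff.2 fun z hz =>
    GrothAux.S15088.subst_ne_zero a ha0 _ _ (pow_ne_zero _ (hτ z hz))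
  obtain ⟨h, hh0, hdvd⟩ := GrothAux.S15088.exists_multiple (A := k) H hH
  refine ⟨h, hh0, fun K _ _ g hg P hP => ?_⟩
  by_contra hne
  obtain ⟨M, hM, hle⟩ := Ideal.exists_le_maximal _ hne
  let T : Polynomial (MvPolynomial (Fin r) K) := Polynomial.X
  let a' : Polynomial (MvPolynomial (Fin r) K) := aeval (fun i => Polynomial.C (X i : (MvPolynomial (Fin r) K)) + T ^ N * Polynomial.C (C (g i))) a
  let b' : Polynomial (MvPolynomial (Fin r) K) := b0.map (algebraMap k (MvPolynomial (Fin r) K))
  let θ : Polynomial (MvPolynomial (Fin r) K) →ₐ[k] MvPolynomial (Fin r ⊕ (Unit ⊕ Fin d)) K :=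
    { Polynomial.eval₂RingHom (rename Sum.inl : (MvPolynomial (Fin r) K) →ₐ[K] _).toRingHom (X (Sum.inr (Sum.inl ()))) with
      commutes' := fun c => by
        simp [IsScalarTower.algebraMap_apply k K (MvPolynomial (Fin r) K), MvPolynomial.algebraMap_eq] }
  let φg : MvPolynomial (Fin r ⊕ (Unit ⊕ Fin d)) k →ₐ[k] MvPolynomial (Fin r ⊕ (Unit ⊕ Fin d)) K :=
    aeval (Sum.elim (fun i : Fin r => X (Sum.inl i) + X (Sum.inr (Sum.inl ())) ^ N * C (g i))
      (fun j : Unit ⊕ Fin d => X (Sum.inr j)))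
  have hθa : θ a' = φg (rename Sum.inl a) := by
    have h1 := AlgHom.congr_fun (show θ.comp (aeval fun i => Polynomial.C (X i : (MvPolynomial (Fin r) K)) + T ^ N * Polynomial.C (C (g i))) =
      φg.comp (rename Sum.inl) from MvPolynomial.algHom_ext fun i => by simp [θ, φg, T]; ring) a
    exact h1
  have hθb : θ b' = φg (Polynomial.aeval Xt b0) := by
    have h1 := AlgHom.congr_fun (show θ.comp (Polynomial.aeval T) = φg.comp (Polynomial.aeval Xt) from
      Polynomial.algHom_ext (by simp [θ, φg, T, Xt])) b0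
    refine Eq.trans (congrArg θ ?_) h1
    show b' = Polynomial.aeval T b0
    rw [Polynomial.aeval_def, ← Polynomial.eval₂_C_X (p := b'), Polynomial.eval₂_map]
    rfl
  haveI := hM.isPrime
  obtain ⟨L, _, _, ψ0, haq, hbq, hMq⟩ := GrothAux.S15088.exists_point a' b' (hmon.map _) M (fun z hz => by
    refine hle (Ideal.mem_sup_left ?_)
    rw [Ideal.mem_comap]
    have hQ : Ideal.span {a', b'} ≤ (Ideal.map φg I).comap θ := by
      rw [Ideal.span_le]
      rintro _ (rfl | rfl)
      · refine Ideal.mem_comap.2 ?_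
        rw [hθa]; exact Ideal.mem_map_of_mem _ haI
      · refine Ideal.mem_comap.2 ?_
        rw [hθb]; exact Ideal.mem_map_of_mem _ hb0I
    have h1 : θ (Polynomial.C z) ∈ Ideal.map φg I := hQ hz
    simpa [θ, φg, N] using h1)
  letI : Algebra K L := (ψ0.comp (algebraMap K (Polynomial (MvPolynomial (Fin r) K)))).toAlgebra
  letI : Algebra k L := ((algebraMap K L).comp (algebraMap k K)).toAlgebra
  haveI : IsScalarTower k K L := IsScalarTower.of_algebraMap_eq fun _ => rfl
  let ψ : Polynomial (MvPolynomial (Fin r) K) →ₐ[K] L := { ψ0 with commutes' := fun _ => rfl }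
  have hψM : ∀ z ∈ M, ψ (Polynomial.C z) = 0 := fun z hz => hMq z hz
  let ξ : Fin r → L := fun i => ψ (Polynomial.C (X i))
  let τ : L := ψ T
  have hξ : ∀ i, Polynomial.aeval (ξ i) p = 0 := fun i => by
    have h1 : MvPolynomial.map (algebraMap k K) (Polynomial.aeval (X i) p) ∈ M :=
      hle (Ideal.mem_sup_right (Ideal.mem_map_of_mem _ (hp P hP i)))
    have h2 := hψM _ h1
    refine Eq.trans ?_ h2
    let u : MvPolynomial (Fin r) k →ₐ[k] L :=
      { (ψ.toRingHom.comp Polynomial.C).comp (MvPolynomial.map (algebraMap k K)) with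
        commutes' := fun c => by
          show ψ (Polynomial.C (MvPolynomial.map (algebraMap k K) (C c))) = _
          rw [map_C, IsScalarTower.algebraMap_apply k K L, ← ψ.commutes (algebraMap k K c)]
          rfl }
    have h3 : u (X i) = ξ i := by
      show ψ (Polynomial.C (MvPolynomial.map (algebraMap k K) (X i))) = _
      rw [map_X]
    rw [← h3, Polynomial.aeval_algHom_apply]
    rfl
  have hτb : Polynomial.aeval τ b0 = 0 := by
    have h2 := (show ψ b' = 0 from hbq)
    refine Eq.trans ?_ h2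
    rw [show b' = Polynomial.aeval T b0 by
      rw [Polynomial.aeval_def, ← Polynomial.eval₂_C_X (p := b'), Polynomial.eval₂_map]; rfl]
    exact Polynomial.aeval_algHom_apply (ψ.restrictScalars k) T b0
  let e : kb →ₐ[k] L := IsAlgClosed.lift
  have hpull : ∀ (f : Polynomial k), f ≠ 0 → ∀ z : L, Polynomial.aeval z f = 0 → ∃ w ∈ (f.aroots kb).toFinset, e w = z := by
    intro f hf z hz
    have hsp : (f.map (algebraMap k kb)).Splits := IsAlgClosed.splits _
    have hz' : z ∈ f.aroots L := Polynomial.mem_aroots.2 ⟨hf, hz⟩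
    rw [Polynomial.aroots_def, ← e.comp_algebraMap, ← Polynomial.map_map, hsp.roots_map] at hz'
    obtain ⟨w, hw, rfl⟩ := Multiset.mem_map.1 hz'
    exact ⟨w, Multiset.mem_toFinset.2 hw, rfl⟩
  choose w hw hwe using fun i => hpull p hp0 (ξ i) (hξ i)
  obtain ⟨v, hv, hve⟩ := hpull b0 hmon.ne_zero τ hτb
  have hmem : (w, v) ∈ S := Finset.mem_product.2 ⟨Fintype.mem_piFinset.2 hw, hv⟩
  obtain ⟨W, hW⟩ := (Finset.dvd_prod_of_mem _ hmem).trans hdvd
  apply hg
  apply (algebraMap K L).injective
  rw [map_zero, ← aeval_algebraMap_apply]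
  let E : MvPolynomial (Fin r) kb →+* L := eval₂Hom e.toRingHom fun i => algebraMap K L (g i)
  have h4 := congrArg E hW
  rw [map_mul] at h4
  have h5 : E (aeval (fun i => (C (w i) + C (v ^ N) * X i : MvPolynomial (Fin r) kb)) a) = 0 := by
    refine Eq.trans ?_ (show ψ a' = 0 from haq)
    let E' : MvPolynomial (Fin r) kb →ₐ[k] L :=
      { E with
        commutes' := fun c => by
          simp [E, IsScalarTower.algebraMap_apply k kb (MvPolynomial (Fin r) kb)] }
    have h6 := AlgHom.congr_fun (show E'.comp (aeval fun i => (C (w i) + C (v ^ N) * X i : MvPolynomial (Fin r) kb)) =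
      (ψ.restrictScalars k).comp (aeval fun i => Polynomial.C (X i : (MvPolynomial (Fin r) K)) + T ^ N * Polynomial.C (C (g i))) from
        MvPolynomial.algHom_ext fun i => by
          have h7 : ψ (Polynomial.C (C (g i))) = algebraMap K L (g i) := ψ.commutes (g i)
          simp [E', E, hwe, hve, h7, ξ, τ, T]; ring) a
    exact h6
  rw [h5, zero_mul] at h4
  refine Eq.trans ?_ h4
  show _ = eval₂ e.toRingHom _ (MvPolynomial.map (algebraMap k kb) h)
  rw [eval₂_map, aeval_def]
  congr 1
  exact e.comp_algebraMap.symm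

end Groth.Agent.S15088
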