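import Groth.Statements.S15092
import Groth.Agent.Lib.PlaneBlow28.Fibration
import Groth.Agent.Lib.NegVan7.Main
import Groth.Agent.Lib.CurveMult.OmegaField

set_option autoImplicit false
universe u
open CategoryTheory CategoryTheory.Limits AlgebraicGeometry TopologicalSpace
open Surf

namespace Groth.Agent.S15092

/-- Let k be an algebraically closed field, X a smooth projective surface over k (integral, proper and
smooth, of dimension 2), C a smooth projective curve over k (integral, proper and smooth, of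
dimension 1) and f : X → C a semi-stable fibration: a surjective k-morphism with O_C → f_*O_X an
isomorphism which is an at-worst-nodal family (flat, of finite presentation, all fibres
one-dimensional with at worst nodal singularities), whose fibre over some closed point q₀ is smooth
with χ(O) = 1 − g for some g ≥ 2 (computed on X through the direct image of the structure sheaf of
the fibre), and with no exceptional curve of the first kind in a fibre (no integral vertical curve E
with χ(O_E) = 1 and E² = −1). Let ω_{X/C} = ω_X ⊗ (f^*Ω_{C/k})^{-1} be the relative dualizing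
module, ω_X a second exterior power of Ω_{X/k} and (f^*Ω_{C/k})^{-1} a tensor inverse of f^*Ω_{C/k}.
Let D ⊆ X be an integral curve (integral closed subscheme of dimension 1) lying in a fibre of f, and
O_X(D) a tensor inverse of its ideal sheaf. Then (ω_{X/C}·O_X(D)) ≥ 0; and if (ω_{X/C}·O_X(D)) = 0
then χ(O_D) = 1 and (D·D) = −2, that is, D is a smooth rational curve of self-intersection −2. Here
(L·L') = χ(O_X) − χ(L) − χ(L') + χ(L ⊗ L') for invertible L, L'. -/
theorem result (k : Type u) [Field k] [IsAlgClosed k]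
    (X : Scheme.{u}) [X.Over (Spec (CommRingCat.of k))] [IsProper (X ↘ (Spec (CommRingCat.of k)))]
    [Smooth (X ↘ (Spec (CommRingCat.of k)))] [IsIntegral X] (hdim : topologicalKrullDim X = 2)
    (C : Scheme.{u}) [C.Over (Spec (CommRingCat.of k))] [IsProper (C ↘ (Spec (CommRingCat.of k)))]
    [Smooth (C ↘ (Spec (CommRingCat.of k)))] [IsIntegral C] (hdimC : topologicalKrullDim C = 1)
    (f : X ⟶ C) [f.IsOver (Spec (CommRingCat.of k))] [Surjective f] (hconn : IsIso (ClSub.unitToPush f))
    (hss : Curv2.IsNodalFamily f)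
    (q₀ : C) (hq₀ : IsClosed ({q₀} : Set C)) (hsm : Smooth (f.fiberToSpecResidueField q₀))
    (g : ℕ) (hg2 : 2 ≤ g) (hg : Curv2.euler k X (ClSub.quotMod (f.fiberι q₀).ker) = 1 - (g : ℤ))
    (hmin : ∀ E : X.IdealSheafData, IsIntegral E.subscheme → topologicalKrullDim (E.support : Set X) = 1 →
      (∃ c : C, ∀ x : X, x ∈ E.support → f.base x = c) → Curv2.euler k X (ClSub.quotMod E) = 1 →
      FGA.intNum k X 2 ![ClSub.idealMod E, ClSub.idealMod E] (Coh.structureModule X) ≠ -1)
    (WX : X.Modules) (hWX : ExtPow.IsExtPow 2 (Omega.sheaf (X ↘ (Spec (CommRingCat.of k)))) WX)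
    (M : X.Modules) (hM : ClSub.IsInverseOf M ((Scheme.Modules.pullback f).obj (Omega.sheaf (C ↘ (Spec (CommRingCat.of k))))))
    (D : X.IdealSheafData) (hD : IsIntegral D.subscheme) (hD1 : topologicalKrullDim (D.support : Set X) = 1)
    (hDv : ∃ c : C, ∀ x : X, x ∈ D.support → f.base x = c)
    (LD : X.Modules) (hLD : ClSub.IsInverseOf LD (ClSub.idealMod D)) :
    0 ≤ FGA.intNum k X 2 ![(CohB1.tensorMod WX M), LD] (Coh.structureModule X) ∧
      (FGA.intNum k X 2 ![(CohB1.tensorMod WX M), LD] (Coh.structureModule X) = 0 →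
        Curv2.euler k X (ClSub.quotMod D) = 1 ∧ FGA.intNum k X 2 ![LD, LD] (Coh.structureModule X) = -2) := by
  obtain ⟨hs2, n, ι, hι, hιc⟩ := GrothLib.SurfRR28.exists_embedding k X hdim
  haveI := hι
  have hA := GrothLib.HodgeIndex.isAmple_hyperplane ι
  haveI := GrothLib.Euler.isNoetherian_of_proper (X := X) k
  haveI : GrothLib.CurveRR.RegCurve C := GrothLib.CurveRR.regCurve_of_smooth (C ↘ Spec (CommRingCat.of k)) hdimC
  have hΩ : PicF.IsInvertible (Omega.sheaf (C ↘ Spec (CommRingCat.of k))) := GrothLib.CurveMult.OmegaField.isInvertible k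
  have hfΩ := GrothLib.Ample.isInvertible_pullback f hΩ
  have hM' : ClSub.IsInverseOf ((Scheme.Modules.pullback f).obj (Omega.sheaf (C ↘ Spec (CommRingCat.of k)))) M :=
    hM.map fun e => ((GrothLib.OX.tensorBraiding (X := X)).app M).app _ ≪≫ e
  have hMi := GrothLib.NegVan7.isInvertible_of_inverse k hfΩ hM'
  have hWi := GrothLib.SurfRR28.isInvertible_W k hdim hWX
  have hcM : GrothLib.Cube.clsMod hMi = (GrothLib.Cube.pull f (GrothLib.Cube.clsMod hΩ))⁻¹ := by
    refine eq_inv_of_mul_eq_one_left ?_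
    rw [← GrothLib.Cube.clsMod_pullback f hΩ, ← GrothLib.Cube.clsMod_tensorMod hMi hfΩ]
    exact (GrothLib.Cube.clsMod_eq_one_iff _).2 hM
  have hDI := GrothLib.HodgeIndex.inv_curve k hdim hD hD1
  have hLDi := GrothLib.ArSurf29.isInvertible_of_isInverseOf (GrothLib.IdealModSec.isEffCartier_of_isInvertible hDI) hLD
  have hcD : GrothLib.Cube.clsMod hLDi = GrothLib.HodgeIndex.cCl D := by
    rw [GrothLib.HodgeIndex.cCl, dif_pos hDI]
    exact GrothLib.ArSurf29.cls_of_isInverseOf hLDi hDI hLD
  have hfk : f ≫ C ↘ Spec (CommRingCat.of k) = X ↘ Spec (CommRingCat.of k) := comp_over f (Spec (CommRingCat.of k))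
  have hsurj : Function.Surjective f := f.surjective
  obtain ⟨c, hc⟩ := hDv
  have hv := GrothLib.PlaneBlow28.vertical_isect k hdim f hfk hD hD1 hc
  obtain ⟨hFI, hp, heF⟩ := GrothLib.PlaneBlow28.fibre_ideal k hdimC f hsurj hq₀
  obtain ⟨hFF, hWF⟩ := GrothLib.PlaneBlow28.fibre_canonical k hdim hdimC f hfk hsurj hq₀ hFI hWX
  rw [hg] at hWF
  have hDF : GrothLib.HodgeIndex.isect k (GrothLib.Cube.clsMod hFI)⁻¹ (GrothLib.HodgeIndex.cCl D) = 0 := by
    rw [heF, ← map_inv]; exact hv _
  rw [GrothLib.SurfRR28.intNum_eq_isect' k hdim.le (GrothLib.Ample.isInvertible_tensorMod hWi hMi) hLDi,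
    GrothLib.SurfRR28.intNum_eq_isect' k hdim.le hLDi hLDi, GrothLib.Cube.clsMod_tensorMod hWi hMi, hcD, hcM,
    GrothLib.HodgeIndex.isect_mul_left k hdim.le, ← map_inv, hv, add_zero]
  have hadj := GrothLib.SurfRR28.adjunction_isect k hdim hA hWX D hD hD1
  rw [GrothLib.HodgeIndex.isect_comm k (GrothLib.HodgeIndex.cCl D) (GrothLib.Cube.clsMod _)] at hadj
  have hchi : Curv2.euler k X (ClSub.quotMod D) ≤ 1 := by
    rw [GrothLib.SurfRR28.euler_quotMod_curve k D hD hD1]; omega
  have hmin' := hmin D hD hD1 ⟨c, hc⟩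
  rw [GrothLib.PlaneBlow28.intNum_self k hdim hD hD1] at hmin'
  obtain ⟨F, hF⟩ : ∃ F, F = (GrothLib.Cube.clsMod hFI)⁻¹ := ⟨_, rfl⟩
  obtain ⟨d, hd⟩ : ∃ d, d = GrothLib.HodgeIndex.cCl D := ⟨_, rfl⟩
  obtain ⟨w, hw⟩ : ∃ w, w = GrothLib.Cube.clsMod hWi := ⟨_, rfl⟩
  rw [← hd] at hDF hadj hmin' ⊢
  rw [← hF] at hDF hFF hWF
  rw [← hw] at hWF hadj ⊢
  have hpos : GrothLib.HodgeIndex.isect k d d ≤ 0 := by
    by_contra hpos
    have h := GrothLib.HodgeIndex.isect_eq_zero_of_orth k hdim hA (d := d) (z := F) (not_le.1 hpos)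
      (by rw [GrothLib.HodgeIndex.isect_comm]; exact hDF) hFF.ge w
    rw [GrothLib.HodgeIndex.isect_comm] at h
    omega
  have hzero : GrothLib.HodgeIndex.isect k d d = 0 → 0 < GrothLib.HodgeIndex.isect k w d := fun hdd => by
    obtain ⟨hh, hhe⟩ : ∃ hh, hh = GrothLib.Cube.clsMod hA.1 := ⟨_, rfl⟩
    have hdh : 0 < GrothLib.HodgeIndex.isect k hh d := by
      rw [hhe, hd]
      exact GrothLib.HodgeIndex.isect_ample_curve_pos k hdim hD hD1 hA
    have hFh : 0 < GrothLib.HodgeIndex.isect k hh F := by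
      by_contra hle
      rw [hhe, hF] at hle
      have htop := GrothLib.HodgeIndex.eq_top_of_degree_nonpos k hdim hA hFI (not_lt.1 hle)
      have hI1 : GrothLib.Cube.clsMod hFI = 1 := by
        have : ∀ {I : X.IdealSheafData} (hI : PicF.IsInvertible (ClSub.idealMod I)), I = ⊤ → GrothLib.Cube.clsMod hI = 1 := by
          intro I hI e; subst e; exact GrothLib.HodgeIndex.cls_idealMod_top hI
        exact this hFI htop
      rw [hF, hI1, inv_one, GrothLib.HodgeIndex.isect_comm, GrothLib.HodgeIndex.isect_one_left k hdim.le] at hWF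
      omega
    obtain ⟨a, ha⟩ : ∃ a : ℕ, (a : ℤ) = GrothLib.HodgeIndex.isect k hh d := ⟨_, Int.toNat_of_nonneg hdh.le⟩
    obtain ⟨b, hb⟩ : ∃ b : ℕ, (b : ℤ) = GrothLib.HodgeIndex.isect k hh F := ⟨_, Int.toNat_of_nonneg hFh.le⟩
    have hle := hdim.le
    have h := GrothLib.HodgeIndex.isect_eq_zero_of_orth k hdim hA (d := hh) (z := F ^ a * (d ^ b)⁻¹)
      (by rw [hhe]; exact GrothLib.HodgeIndex.isect_self_pos k hle hdim hA)
      (by rw [GrothLib.HodgeIndex.isect_mul_right k hle, GrothLib.HodgeIndex.isect_inv_right k hle,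
        GrothLib.HodgeIndex.isect_pow_right k hle, GrothLib.HodgeIndex.isect_pow_right k hle, ha, hb]; ring)
      (le_of_eq (by
        simp only [GrothLib.HodgeIndex.isect_mul_left k hle, GrothLib.HodgeIndex.isect_mul_right k hle,
          GrothLib.HodgeIndex.isect_inv_left k hle, GrothLib.HodgeIndex.isect_inv_right k hle,
          GrothLib.HodgeIndex.isect_pow_left k hle, GrothLib.HodgeIndex.isect_pow_right k hle,
          GrothLib.HodgeIndex.isect_comm k d F, hDF, hFF, hdd]
        ring)) w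
    rw [GrothLib.HodgeIndex.isect_mul_left k hle, GrothLib.HodgeIndex.isect_inv_left k hle,
      GrothLib.HodgeIndex.isect_pow_left k hle, GrothLib.HodgeIndex.isect_pow_left k hle,
      GrothLib.HodgeIndex.isect_comm k F w, GrothLib.HodgeIndex.isect_comm k d w, hWF, ha, hb] at h
    have hl : 0 < GrothLib.HodgeIndex.isect k hh d * (-2 * (1 - (g : ℤ))) := mul_pos hdh (by omega)
    exact pos_of_mul_pos_right (by linarith) hFh.le
  have key : GrothLib.HodgeIndex.isect k d d = 0 ∨ GrothLib.HodgeIndex.isect k d d ≤ -1 := by omega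
  constructor
  · by_contra hlt
    rcases key with h0 | h0
    · have := hzero h0; omega
    · exact hmin' (by omega) (by omega)
  · intro h0w
    rcases key with h0 | h0
    · have := hzero h0; omega
    · exact ⟨by omega, by omega⟩

end Groth.Agent.S15092
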