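import Groth.Statements.S15093
import Groth.Agent.Lib.FrobDer12.Vanish

set_option autoImplicit false
set_option linter.all false
set_option backward.isDefEq.respectTransparency false
universe u
open CategoryTheory CategoryTheory.Limits AlgebraicGeometry TopologicalSpace
open KodV

namespace Groth.Agent.S15093

/-- Let k be an algebraically closed field of characteristic p > 0, X a proper integral scheme over k
all of whose local rings are integrally closed domains (a normal variety), and L an invertible
O_X-module with tensor inverse L⁻¹. If H⁰(X, (L⁻¹)^{⊗p} ⊗ Ω¹_{X/k}) = 0 and H¹(X, (L⁻¹)^{⊗p}) = 0,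
then H¹(X, L⁻¹) = 0. (The published statement is for a normal projective variety; properness is all
that is assumed here, the argument being local and cohomological.) -/
theorem result (k : Type u) [Field k] [IsAlgClosed k] (p : ℕ) [Fact p.Prime] [CharP k p]
    (X : Scheme.{u}) [X.Over (Spec (CommRingCat.of k))] [IsProper (X ↘ (Spec (CommRingCat.of k)))] [IsIntegral X] (hXn : Pi1.IsNormalScheme X)
    (L Linv : X.Modules) (hL : PicF.IsInvertible L) (hLinv : ClSub.IsInverseOf Linv L)
    (h0 : Subsingleton (Coh.HH X (CohB1.tensorMod (CohB1.tensorPow Linv p) (Omega.sheaf (X ↘ (Spec (CommRingCat.of k))))) 0))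
    (h1 : Subsingleton (Coh.HH X (CohB1.tensorPow Linv p) 1)) :
    Subsingleton (Coh.HH X Linv 1) := by
  obtain ⟨e⟩ := hLinv
  have hi : PicF.IsInvertible Linv := GrothLib.Seesaw26.isInvertible_of_tensor_iso
    (((GrothLib.OX.tensorBraiding (X := X)).app Linv).app L ≪≫ e) hL
  exact GrothLib.FrobDer12.subsingleton_HH_one_of_pow k p X hXn Linv hi h0 h1

end Groth.Agent.S15093
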