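import Groth.Statements.S15094
import Groth.Agent.Lib.FrobDer12.Vanish
import Groth.Agent.Lib.Snapper.Positive
import Groth.Agent.Lib.Hilb20.Reflexive
import Groth.Agent.Lib.Ample.Functorial

set_option autoImplicit false
set_option linter.all false
set_option backward.isDefEq.respectTransparency false
universe u
open CategoryTheory CategoryTheory.Limits AlgebraicGeometry TopologicalSpace
open KodV

namespace Groth.Agent.S15094

/-- Let k be an algebraically closed field of characteristic p > 0, X a smooth proper integral scheme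
over k, and L an invertible O_X-module with tensor inverse L⁻¹. If H⁰(X, (L⁻¹)^{⊗p^n} ⊗ Ω¹_{X/k}) =
0 for every n ≥ 1 and H¹(X, (L⁻¹)^{⊗p^{n₀}}) = 0 for some n₀, then H¹(X, L⁻¹) = 0. (The published
statement says smooth projective variety over a field of characteristic p; smooth, proper and
integral over an algebraically closed field is assumed here, the setting of the proposition it is
deduced from.) -/
theorem result (k : Type u) [Field k] [IsAlgClosed k] (p : ℕ) [Fact p.Prime] [CharP k p]
    (X : Scheme.{u}) [X.Over (Spec (CommRingCat.of k))] [IsProper (X ↘ (Spec (CommRingCat.of k)))] [Smooth (X ↘ (Spec (CommRingCat.of k)))] [IsIntegral X]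
    (L Linv : X.Modules) (hL : PicF.IsInvertible L) (hLinv : ClSub.IsInverseOf Linv L)
    (h0 : ∀ n : ℕ, 1 ≤ n → Subsingleton (Coh.HH X (CohB1.tensorMod (CohB1.tensorPow Linv (p ^ n)) (Omega.sheaf (X ↘ (Spec (CommRingCat.of k))))) 0))
    (h1 : ∃ n₀ : ℕ, Subsingleton (Coh.HH X (CohB1.tensorPow Linv (p ^ n₀)) 1)) :
    Subsingleton (Coh.HH X Linv 1) := by
  obtain ⟨e⟩ := hLinv
  have hi : PicF.IsInvertible Linv := GrothLib.Seesaw26.isInvertible_of_tensor_iso
    (((GrothLib.OX.tensorBraiding (X := X)).app Linv).app L ≪≫ e) hL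
  have hXn : Pi1.IsNormalScheme X := GrothLib.Hilb20.isNormalScheme_of_smooth (k := k)
  obtain ⟨n₀, hn₀⟩ := h1
  have key : ∀ j n : ℕ, n + j = n₀ → Subsingleton (Coh.HH X (CohB1.tensorPow Linv (p ^ n)) 1) := by
    intro j
    induction j with
    | zero => intro n hn; rw [Nat.add_zero] at hn; subst hn; exact hn₀
    | succ j ih =>
      intro n hn
      obtain ⟨e⟩ := GrothLib.Snapper.nonempty_tensorPow_mul Linv (p ^ n) p
      rw [← pow_succ] at e
      exact GrothLib.FrobDer12.subsingleton_HH_one_of_pow k p X hXn _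
        (GrothLib.Ample.isInvertible_tensorPow hi _)
        (GrothLib.FrobDer12.subsingleton_HH_of_iso (((DCoh.tensorBi (X := X)).mapIso e.symm).app _) 0
          (h0 (n + 1) n.succ_pos))
        (GrothLib.FrobDer12.subsingleton_HH_of_iso e.symm 1 (ih (n + 1) (by omega)))
  refine GrothLib.FrobDer12.subsingleton_HH_of_iso ?_ 1 (key n₀ 0 (Nat.zero_add n₀))
  rw [pow_zero]
  exact GrothLib.OX.tensorUnitLeftIso Linv

end Groth.Agent.S15094
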