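import Groth.Statements.S15098
import Groth.Agent.Lib.HodgeIndex.NegCurves
import Groth.Agent.Lib.HodgeIndex.IdealMul
import Groth.Agent.Lib.BlowUp.EffCartier
import Groth.Agent.Lib.IdealModSec.Basic

set_option autoImplicit false
set_option linter.all false
universe u
open CategoryTheory CategoryTheory.Limits AlgebraicGeometry TopologicalSpace
open Surf

namespace Groth.Agent.S15098

/-- Let k be an algebraically closed field, X a smooth projective surface over k (integral, proper and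
smooth, of dimension 2) and D an effective Cartier divisor on X, given by its ideal sheaf I_D, which
is numerically positive: (D·D) > 0 and (D·Γ) ≥ 0 for every integral curve Γ ⊆ X, that is χ(O_Γ ⊗
I_D) − χ(O_Γ) ≤ 0. Then D is numerically connected: whenever D = D₁ + D₂ with D₁, D₂ non-zero
effective Cartier divisors (I_D = I_{D₁}·I_{D₂} with both ideal sheaves different from O_X), (D₁·D₂)
> 0. Intersection numbers of divisors are computed on their ideal sheaves: (D₁·D₂) = χ(O_X) −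
χ(I_{D₁}) − χ(I_{D₂}) + χ(I_{D₁} ⊗ I_{D₂}). (The published lemma sits in a positive-characteristic
setting; its argument does not use the characteristic, so none is assumed here.) -/
theorem result (k : Type u) [Field k] [IsAlgClosed k]
    (X : Scheme.{u}) [X.Over (Spec (CommRingCat.of k))] [IsProper (X ↘ (Spec (CommRingCat.of k)))]
    [Smooth (X ↘ (Spec (CommRingCat.of k)))] [IsIntegral X] (hdim : topologicalKrullDim X = 2)
    (D : X.IdealSheafData) (hD : FGA.IsEffCartier D)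
    (hpos : 0 < FGA.intNum k X 2 ![(ClSub.idealMod D), (ClSub.idealMod D)] (Coh.structureModule X))
    (hnef : ∀ Γ : X.IdealSheafData, IsIntegral Γ.subscheme → topologicalKrullDim (Γ.support : Set X) = 1 →
      Curv2.euler k X (CohB1.tensorMod (ClSub.quotMod Γ) (ClSub.idealMod D)) - Curv2.euler k X (ClSub.quotMod Γ) ≤ 0)
    (D₁ D₂ : X.IdealSheafData) (hD₁ : FGA.IsEffCartier D₁) (hD₂ : FGA.IsEffCartier D₂)
    (hne₁ : D₁ ≠ ⊤) (hne₂ : D₂ ≠ ⊤) (hsum : D = D₁ * D₂) :
    0 < FGA.intNum k X 2 ![(ClSub.idealMod D₁), (ClSub.idealMod D₂)] (Coh.structureModule X) := by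
  have hd : topologicalKrullDim X = ((2 : ℕ) : WithBot ℕ∞) := hdim
  obtain ⟨H, hH⟩ := GrothLib.Goodman.exists_ample_of_smooth_surface k hd
  have h1 := GrothLib.HodgeIndex.invertible_of_effCartier hD₁
  have h2 := GrothLib.HodgeIndex.invertible_of_effCartier hD₂
  have h0 := GrothLib.HodgeIndex.invertible_of_effCartier hD
  obtain ⟨x, hx⟩ : ∃ x, x = (GrothLib.Cube.clsMod h1)⁻¹ := ⟨_, rfl⟩
  obtain ⟨y, hy⟩ : ∃ y, y = (GrothLib.Cube.clsMod h2)⁻¹ := ⟨_, rfl⟩
  obtain ⟨h, hhh⟩ : ∃ h, h = GrothLib.Cube.clsMod hH.1 := ⟨_, rfl⟩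
  have hxy : GrothLib.Cube.clsMod h0 = (x * y)⁻¹ := by
    subst hsum
    rw [hx, hy, ← mul_inv, inv_inv]
    exact GrothLib.HodgeIndex.cls_idealMod_mul (X := X) h0 h1 h2
  rw [GrothLib.HodgeIndex.intNum_eq_isect k hd.le hH h0 h0, hxy, GrothLib.HodgeIndex.isect_inv_left k hd.le,
    GrothLib.HodgeIndex.isect_inv_right k hd.le, neg_neg] at hpos
  rw [GrothLib.HodgeIndex.intNum_eq_isect k hd.le hH h1 h2,
    show GrothLib.Cube.clsMod h1 = x⁻¹ by rw [hx, inv_inv], show GrothLib.Cube.clsMod h2 = y⁻¹ by rw [hy, inv_inv],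
    GrothLib.HodgeIndex.isect_inv_left k hd.le, GrothLib.HodgeIndex.isect_inv_right k hd.le, neg_neg]
  have hnef' : ∀ z, GrothLib.Snapper.IsTop 1 z → 0 ≤ GrothLib.HodgeIndex.deg k z (x * y) := fun z hz => by
    rw [show x * y = (GrothLib.Cube.clsMod h0)⁻¹ by rw [hxy, inv_inv]]
    rw [GrothLib.Goodman.deg_inv k hz, neg_nonneg]
    have hs : topologicalKrullDim ((GrothLib.HodgeIndex.curveIdeal z).support : Set X) = 1 := by
      rw [← (GrothLib.HodgeIndex.curveIdeal z).range_subschemeι, GrothLib.Snapper.range_pt z]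
      exact hz
    have h' := hnef _ (GrothLib.Snapper.isIntegral_pt z) hs
    rw [GrothLib.HodgeIndex.deg_eq_mixed k h0,
      show GrothLib.Snapper.ptMod z = ClSub.quotMod (GrothLib.HodgeIndex.curveIdeal z) from rfl,
      ← GrothLib.HodgeIndex.euler_sub_eq_mixed k h0]
    exact_mod_cast h'
  have hpl : ∀ {F : X.IdealSheafData} (hF : PicF.IsInvertible (ClSub.idealMod F)),
      GrothLib.Kodaira.PLe (1 : GrothLib.Cube.Pic X) (GrothLib.Cube.clsMod hF)⁻¹ := fun {F} hF => by
    have h := ((GrothLib.Kodaira.pLe_iff hF (GrothLib.Euler.isInvertible_structure (X := X))).2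
      ⟨ClSub.idealModι F, inferInstanceAs (Mono (kernel.ι (ClSub.toSubscheme F)))⟩).mul_right
        (GrothLib.Cube.clsMod hF)⁻¹
    rwa [mul_inv_cancel, (GrothLib.Cube.clsMod_eq_one_iff _).2 ⟨Iso.refl _⟩, one_mul] at h
  have hside : ∀ {F : X.IdealSheafData} (hF : PicF.IsInvertible (ClSub.idealMod F)), F ≠ ⊤ →
      0 ≤ GrothLib.HodgeIndex.isect k (x * y) (GrothLib.Cube.clsMod hF)⁻¹ ∧
        0 < GrothLib.HodgeIndex.isect k (GrothLib.Cube.clsMod hF)⁻¹ h := fun {F} hF hne => by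
    refine ⟨?_, ?_⟩
    · have := GrothLib.HodgeIndex.sum_isect_nonneg k hd (ι := Fin 1) (fun _ => 1) (fun _ => x * y)
        (fun z hz => by simpa using hnef' z hz) (hpl hF)
      simpa using this
    · rw [GrothLib.HodgeIndex.isect_comm, hhh]
      by_contra hle
      exact hne (GrothLib.HodgeIndex.eq_top_of_degree_nonpos k hd hH hF (not_lt.1 hle))
  obtain ⟨ax, ha⟩ := hside h1 hne₁
  obtain ⟨ay, hb⟩ := hside h2 hne₂
  rw [← hx] at ax ha
  rw [← hy] at ay hb
  simp only [GrothLib.HodgeIndex.isect_mul_left k hd.le, GrothLib.HodgeIndex.isect_mul_right k hd.le,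
    GrothLib.HodgeIndex.isect_comm k y x] at hpos ax ay
  by_contra hle
  push Not at hle
  obtain ⟨a, ha'⟩ : ∃ a : ℕ, GrothLib.HodgeIndex.isect k x h = a := ⟨_, (Int.toNat_of_nonneg ha.le).symm⟩
  obtain ⟨b, hb'⟩ : ∃ b : ℕ, GrothLib.HodgeIndex.isect k y h = b := ⟨_, (Int.toNat_of_nonneg hb.le).symm⟩
  have := GrothLib.HodgeIndex.hodge k hd hH (x := x ^ b * (y ^ a)⁻¹) (by
    rw [← hhh, GrothLib.HodgeIndex.isect_mul_left k hd.le, GrothLib.HodgeIndex.isect_inv_left k hd.le,
      GrothLib.HodgeIndex.isect_pow_left k hd.le, GrothLib.HodgeIndex.isect_pow_left k hd.le, ha', hb']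
    ring)
  simp only [GrothLib.HodgeIndex.isect_mul_left k hd.le, GrothLib.HodgeIndex.isect_mul_right k hd.le,
    GrothLib.HodgeIndex.isect_inv_left k hd.le, GrothLib.HodgeIndex.isect_inv_right k hd.le,
    GrothLib.HodgeIndex.isect_pow_left k hd.le, GrothLib.HodgeIndex.isect_pow_right k hd.le,
    GrothLib.HodgeIndex.isect_comm k y x] at this
  rw [ha'] at ha
  rw [hb'] at hb
  nlinarith [mul_pos ha hb, mul_pos ha ha, mul_pos hb hb, mul_nonpos_of_nonneg_of_nonpos (mul_pos ha hb).le hle]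

end Groth.Agent.S15098
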