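import Groth.Statements.S15099
import Groth.Agent.Lib.NumConn12.Bound
-- import your own Groth.Agent.* helpers here

set_option autoImplicit false
universe u
open CategoryTheory CategoryTheory.Limits AlgebraicGeometry TopologicalSpace
open Surf

namespace Groth.Agent.S15099

/-- Let k be an algebraically closed field, X a smooth projective surface over k (integral, proper and
smooth, of dimension 2) and D a non-zero effective Cartier divisor on X (ideal sheaf I_D ≠ O_X)
which is numerically connected: whenever D = D₁ + D₂ with D₁, D₂ non-zero effective Cartier divisors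
(I_D = I_{D₁}·I_{D₂}, both different from O_X), (D₁·D₂) = χ(O_X) − χ(I_{D₁}) − χ(I_{D₂}) + χ(I_{D₁}
⊗ I_{D₂}) > 0. Then H⁰(D, O_D) = k, i.e. it is one-dimensional over k (computed on X through the
direct image of O_D). (The published lemma sits in a positive-characteristic setting; the printed
argument does not use the characteristic, so none is assumed here.) -/
theorem result (k : Type u) [Field k] [IsAlgClosed k]
    (X : Scheme.{u}) [X.Over (Spec (CommRingCat.of k))] [IsProper (X ↘ (Spec (CommRingCat.of k)))]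
    [Smooth (X ↘ (Spec (CommRingCat.of k)))] [IsIntegral X] (hdim : topologicalKrullDim X = 2)
    (D : X.IdealSheafData) (hD : FGA.IsEffCartier D) (hD0 : D ≠ ⊤)
    (hnc : ∀ D₁ D₂ : X.IdealSheafData, FGA.IsEffCartier D₁ → FGA.IsEffCartier D₂ → D₁ ≠ ⊤ → D₂ ≠ ⊤ →
      D = D₁ * D₂ → 0 < FGA.intNum k X 2 ![(ClSub.idealMod D₁), (ClSub.idealMod D₂)] (Coh.structureModule X)) :
    Module.finrank k (Coh.HH X (ClSub.quotMod D) 0) = 1 := by
  have hd : topologicalKrullDim X = ((2 : ℕ) : WithBot ℕ∞) := hdim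
  haveI := GrothLib.Euler.isNoetherian_of_proper (X := X) k
  obtain ⟨H, hH⟩ := GrothLib.Goodman.exists_ample_of_smooth_surface k hd
  have hD' : _root_.BlowUp.IsEffCartierIdeal D := hD
  have hnc' : ∀ A K : X.IdealSheafData, ∀ (hA : PicF.IsInvertible (ClSub.idealMod A))
      (hK : PicF.IsInvertible (ClSub.idealMod K)), A ≠ ⊤ → K ≠ ⊤ → D = A * K →
      0 < GrothLib.HodgeIndex.isect k (GrothLib.Cube.clsMod hA)⁻¹ (GrothLib.Cube.clsMod hK)⁻¹ := by
    intro A K hA hK hA0 hK0 he
    obtain ⟨hAc, hKc⟩ := GrothLib.BlowUp.isEffCartierIdeal_factors_of_mul (he ▸ hD')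
    have h := hnc A K hAc hKc hA0 hK0 he
    rw [GrothLib.HodgeIndex.intNum_eq_isect k hd.le hH hA hK] at h
    rwa [GrothLib.HodgeIndex.isect_inv_left k hd.le, GrothLib.HodgeIndex.isect_inv_right k hd.le, neg_neg]
  have hO : PicF.IsInvertible (Coh.structureModule X) := GrothLib.Euler.isInvertible_structure
  have hdeg' : ∀ y, GrothLib.Snapper.IsTop 1 y → y ∈ (D.support : Set X) →
      GrothLib.HodgeIndex.deg k y (GrothLib.Cube.clsMod hO) ≤ 0 := fun y hy _ => by
    rw [(GrothLib.Cube.clsMod_eq_one_iff hO).2 ⟨Iso.refl _⟩, GrothLib.Goodman.deg_one k hy]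
  have h1 := GrothLib.NumConn12.finrank_le_one k hd hO hD' hD0 hnc' hdeg'
  rw [(GrothLib.Euler.hhEquiv (A := k) (GrothLib.Euler.tFUnitIso (ClSub.quotMod D)) 0).finrank_eq] at h1
  refine le_antisymm h1 ?_
  obtain ⟨x, hx⟩ : ∃ x, x ∈ (D.support : Set X) := by
    by_contra hem
    push Not at hem
    rw [Ne, ← Scheme.IdealSheafData.support_eq_bot_iff] at hD0
    exact hD0 (SetLike.ext fun x => ⟨fun hx => absurd hx (hem x), fun hx => False.elim (show x ∈ (∅ : Set X) from hx)⟩)
  rw [← D.range_subschemeι] at hx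
  obtain ⟨z, -⟩ := hx
  haveI := GrothLib.ProjCoh.moduleFinite_HH k (ClSub.quotMod D) (GrothLib.QCoh.pushUnit_isCoh D.subschemeι) 0
  haveI : Nontrivial Γ(D.subscheme, ⊤) := (D.subscheme.presheaf.germ ⊤ z trivial).hom.domain_nontrivial
  haveI : Nontrivial Γ(ClSub.quotMod D, ⊤) := ‹Nontrivial Γ(D.subscheme, ⊤)›
  haveI : Nontrivial (Coh.HH X (ClSub.quotMod D) 0) := (GrothLib.ProjCoh.H0top _).toEquiv.nontrivial
  exact Module.finrank_pos (R := k)


end Groth.Agent.S15099
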