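import Groth.Statements.S15100
import Mathlib
-- import your own Groth.Agent.* helpers here

set_option autoImplicit false
universe u
open TensorProduct
open CAlg

namespace Groth.Agent.S15100

/-- Let V be a discrete valuation ring with uniformizer u and V → R → A commutative V-algebras with A an
R-algebra compatibly; assume A is a Noetherian local domain of Krull dimension 3 with u in its
maximal ideal, that Ω_{A/V} is a free A-module of rank 2 and that A ⊗_R Ω_{R/V} is a free A-module
of rank 1. Suppose that on the special fibre Ω_{A/R} is locally free exactly away from the closed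
point: for every prime P of A containing u other than the maximal ideal the localization (Ω_{A/R})_P
is free over A_P, while Ω_{A/R} is not free over A. Then Ω_{A/R} is not locally free on the generic
fibre: there is a prime Q of A not containing u with (Ω_{A/R})_Q not free over A_Q. (In the
published statement R is a regular local ring of dimension 2 and A a local ring of dimension 3, both
smooth over V, which yields the two freeness hypotheses used here, and the hypothesis is phrased as
local freeness of Ω of the special fibre of A over that of R away from the closed point.) -/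
theorem result
    (V R A : Type u) [CommRing V] [IsDomain V] [IsDiscreteValuationRing V] [CommRing R] [CommRing A]
    [IsDomain A] [IsNoetherianRing A] [IsLocalRing A]
    [Algebra V R] [Algebra V A] [Algebra R A] [IsScalarTower V R A]
    (u : V) (hu : Irreducible u) (huA : algebraMap V A u ∈ IsLocalRing.maximalIdeal A)
    (hdimA : ringKrullDim A = 3)
    (hΩA : Module.Free A (Ω[A⁄V])) (hrkA : Module.finrank A (Ω[A⁄V]) = 2)
    (hΩR : Module.Free A (A ⊗[R] Ω[R⁄V])) (hrkR : Module.finrank A (A ⊗[R] Ω[R⁄V]) = 1)
    (h0 : ∀ P : PrimeSpectrum A, algebraMap V A u ∈ P.asIdeal → P.asIdeal ≠ IsLocalRing.maximalIdeal A →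
      Module.Free (Localization.AtPrime P.asIdeal) (LocalizedModule P.asIdeal.primeCompl (Ω[A⁄R])))
    (hm : ¬ Module.Free A (Ω[A⁄R])) :
    ∃ Q : PrimeSpectrum A, algebraMap V A u ∉ Q.asIdeal ∧
      ¬ Module.Free (Localization.AtPrime Q.asIdeal) (LocalizedModule Q.asIdeal.primeCompl (Ω[A⁄R])) := by
  classical
  haveI := hΩA
  haveI := hΩR
  haveI : Module.Finite A (Ω[A⁄V]) := Module.finite_of_finrank_pos (by omega)
  haveI : Module.Finite A (A ⊗[R] Ω[R⁄V]) := Module.finite_of_finrank_pos (by omega)
  let e₂ := (Module.finBasisOfFinrankEq A (Ω[A⁄V]) hrkA).equivFun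
  let e₁ := (Module.finBasisOfFinrankEq A (A ⊗[R] Ω[R⁄V]) hrkR)
  set v : Fin 2 → A := e₂ (KaehlerDifferential.mapBaseChange V R A (e₁ 0)) with hv
  let π : (Fin 2 → A) →ₗ[A] Ω[A⁄R] := (KaehlerDifferential.map V R A A).comp e₂.symm.toLinearMap
  have hπs : Function.Surjective π := (KaehlerDifferential.map_surjective V R A).comp e₂.symm.surjective
  have hπk : ∀ w, π w = 0 ↔ ∃ c : A, c • v = w := fun w => by
    show KaehlerDifferential.map V R A A (e₂.symm w) = 0 ↔ _
    rw [KaehlerDifferential.exact_mapBaseChange_map V R A]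
    constructor
    · rintro ⟨z, hz⟩
      refine ⟨e₁.repr z 0, ?_⟩
      rw [hv, ← map_smul, ← map_smul, e₂.symm_apply_eq.1 hz.symm]
      congr
      conv_rhs => rw [← e₁.sum_repr z, Fin.sum_univ_one]
    · rintro ⟨c, rfl⟩
      exact ⟨c • e₁ 0, by rw [map_smul, map_smul, hv, e₂.symm_apply_apply]⟩
  have hv0 : v ≠ 0 := fun h => hm (Module.Free.of_equiv (LinearEquiv.ofBijective π
    ⟨(injective_iff_map_eq_zero π).2 fun w hw => by
      obtain ⟨c, rfl⟩ := (hπk w).1 hw
      rw [h, smul_zero], hπs⟩))
  have hmem : ∀ i, v i ∈ IsLocalRing.maximalIdeal A := by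
    intro i
    by_contra hi
    rw [IsLocalRing.notMem_maximalIdeal] at hi
    let f : (Fin 2 → A) →ₗ[A] A := (LinearMap.proj (1 - i)) - (v (1 - i) * ↑hi.unit⁻¹) • (LinearMap.proj i)
    have hf : Function.Surjective f := fun a => ⟨Pi.single (1 - i) a, by
      fin_cases i <;> simp [f]⟩
    have hfk : LinearMap.ker f = LinearMap.ker π := by
      ext w
      rw [LinearMap.mem_ker, LinearMap.mem_ker, hπk]
      constructor
      · intro hw
        refine ⟨w i * ↑hi.unit⁻¹, funext fun j => ?_⟩
        simp only [f, LinearMap.sub_apply, LinearMap.smul_apply, LinearMap.proj_apply, sub_eq_zero, smul_eq_mul] at hw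
        rcases (show j = i ∨ j = 1 - i by omega) with rfl | rfl
        · rw [Pi.smul_apply, smul_eq_mul, mul_assoc, IsUnit.val_inv_mul, mul_one]
        · rw [hw, Pi.smul_apply, smul_eq_mul]; ring
      · rintro ⟨c, rfl⟩
        simp only [f, LinearMap.sub_apply, LinearMap.smul_apply, LinearMap.proj_apply, Pi.smul_apply, smul_eq_mul]
        have h1 : (↑hi.unit⁻¹ : A) * v i = 1 := hi.val_inv_mul
        linear_combination (-(c * v (1 - i))) * h1
    exact hm (Module.Free.of_equiv ((f.quotKerEquivOfSurjective hf).symm ≪≫ₗ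
      (Submodule.quotEquivOfEq _ _ hfk) ≪≫ₗ π.quotKerEquivOfSurjective hπs))
  have hJ : Ideal.span (Set.range v) ≠ ⊤ := fun h => (IsLocalRing.maximalIdeal.isMaximal A).ne_top
    (top_le_iff.1 (h ▸ Ideal.span_le.2 (Set.range_subset_iff.2 hmem)))
  obtain ⟨P, hP, hPm⟩ : ∃ P : Ideal A, ∃ _ : P.IsPrime, P ≠ IsLocalRing.maximalIdeal A ∧ ∀ i, v i ∈ P := by
    obtain ⟨P, hP⟩ := Ideal.nonempty_minimalPrimes hJ
    haveI := hP.1.1
    refine ⟨P, inferInstance, fun h => ?_, fun i => hP.1.2 (Ideal.subset_span ⟨i, rfl⟩)⟩
    have h2 : P.height ≤ ((Ideal.span (Set.range v)).spanFinrank : ℕ∞) := by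
      refine (Ideal.height_le_spanRank_toENat_of_mem_minimalPrimes _ _ hP).trans_eq ?_
      rw [Submodule.fg_iff_spanRank_eq_spanFinrank.2 (IsNoetherian.noetherian _)]
      simp
    have h3 : (Ideal.span (Set.range v)).spanFinrank ≤ 2 := by
      refine (Submodule.spanFinrank_span_le_ncard_of_finite (Set.finite_range v)).trans ?_
      rw [← Set.image_univ]
      exact (Set.ncard_image_le Set.finite_univ).trans (by simp [Set.ncard_univ])
    rw [h, ← WithBot.coe_le_coe, IsLocalRing.maximalIdeal_height_eq_ringKrullDim, hdimA] at h2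
    have h4 : ((Ideal.span (Set.range v)).spanFinrank : ℕ∞) ≤ 2 := (Nat.cast_le.2 h3).trans (by simp)
    have h5 : (3 : WithBot ℕ∞) ≤ 2 := h2.trans (WithBot.coe_le_coe.2 h4)
    revert h5; decide
  let S := Localization.AtPrime P
  let L := LocalizedModule P.primeCompl (Ω[A⁄R])
  suffices hnot : ¬ Module.Free S L from ⟨⟨P, hP⟩, fun hu' => hnot (h0 ⟨P, hP⟩ hu' hPm.1), hnot⟩
  intro hfree
  haveI := hfree
  let w₀ : Fin 2 → S := fun j => algebraMap A S (v j)
  have hinj : Function.Injective (algebraMap A S) := IsLocalization.injective S P.primeCompl_le_nonZeroDivisors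
  let p : (Fin 2 → S) →ₗ[S] L :=
    Fintype.linearCombination S fun i => LocalizedModule.mkLinearMap P.primeCompl _ (π (Pi.single i 1))
  have hp : ∀ w : Fin 2 → A, p (fun j => algebraMap A S (w j)) = LocalizedModule.mkLinearMap P.primeCompl _ (π w) := fun w => by
    conv_rhs => rw [pi_eq_sum_univ' w]
    simp only [p, Fintype.linearCombination_apply, map_sum, map_smul, algebraMap_smul]
  have hps : Function.Surjective p := fun y => by
    induction y using LocalizedModule.induction_on with
    | h n s =>
      obtain ⟨w, rfl⟩ := hπs n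
      refine ⟨IsLocalization.mk' S (1 : A) s • fun j => algebraMap A S (w j), ?_⟩
      rw [map_smul, hp]
      show IsLocalization.mk' S (1 : A) s • LocalizedModule.mk (π w) 1 = _
      rw [← Localization.mk_eq_mk', LocalizedModule.mk_smul_mk, one_smul, mul_one]
  obtain ⟨σ, hσ⟩ := Module.projective_lifting_property p (LinearMap.id : L →ₗ[S] L) hps
  have hw0 : w₀ ≠ 0 := fun h => hv0 (funext fun j => hinj ((congrFun h j).trans (map_zero _).symm))
  have hker : ∀ w, p w = 0 → w ∈ Submodule.span S {w₀} := fun w hw => by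
    obtain ⟨s, hs⟩ := IsLocalization.exist_integer_multiples_of_finite P.primeCompl w
    choose w' hw' using hs
    have h1 : p (fun j => algebraMap A S (w' j)) = 0 := by
      rw [show (fun j => algebraMap A S (w' j)) = algebraMap A S s • w from
        funext fun j => (hw' j).trans (Algebra.smul_def _ _), map_smul, hw, smul_zero]
    rw [hp, IsLocalizedModule.eq_zero_iff P.primeCompl (LocalizedModule.mkLinearMap P.primeCompl _)] at h1
    obtain ⟨t, ht⟩ := h1
    change (t : A) • π w' = 0 at ht
    rw [← map_smul, hπk] at ht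
    obtain ⟨c, hc⟩ := ht
    rw [Submodule.mem_span_singleton]
    refine ⟨IsLocalization.mk' S c (t * s), funext fun j => ?_⟩
    have hu : IsUnit (algebraMap A S (t * s : P.primeCompl)) := IsLocalization.map_units S _
    refine hu.mul_left_cancel ?_
    rw [Pi.smul_apply, smul_eq_mul, ← mul_assoc, IsLocalization.mk'_spec', ← map_mul]
    have hcj : c * v j = t * w' j := congrFun hc j
    rw [hcj, map_mul, hw' j, Algebra.smul_def, Submonoid.coe_mul, map_mul, mul_assoc]
  let τ : (Fin 2 → S) →ₗ[S] S := ((LinearEquiv.toSpanNonzeroSingleton S _ w₀ hw0).symm.toLinearMap).comp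
    ((LinearMap.id - σ.comp p).codRestrict (Submodule.span S {w₀}) fun w => hker _ (by
      have := DFunLike.congr_fun hσ (p w)
      simp only [LinearMap.comp_apply, LinearMap.id_apply] at this
      simp [map_sub, this]))
  have hτ : τ w₀ = 1 := by
    have h1 : p w₀ = 0 := by
      show p (fun j => algebraMap A S (v j)) = 0
      rw [hp, (hπk v).2 ⟨1, one_smul _ _⟩, map_zero]
    show (LinearEquiv.toSpanNonzeroSingleton S _ w₀ hw0).symm _ = 1
    rw [LinearEquiv.symm_apply_eq]
    refine Subtype.ext ?_
    simp [h1, LinearEquiv.toSpanNonzeroSingleton]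
  have hbad : τ w₀ ∈ IsLocalRing.maximalIdeal S := by
    rw [pi_eq_sum_univ' w₀, map_sum]
    refine sum_mem fun j _ => ?_
    rw [map_smul, smul_eq_mul]
    exact Ideal.mul_mem_right _ _ ((IsLocalization.AtPrime.to_map_mem_maximal_iff S P (v j)).2 (hPm.2 j))
  rw [hτ] at hbad
  exact (IsLocalRing.maximalIdeal.isMaximal S).ne_top ((Ideal.eq_top_iff_one _).2 hbad)

end Groth.Agent.S15100
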