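import Groth.Statements.S15104
import Groth.Agent.Lib.ArSurf29.RedFibre
import Groth.Agent.Lib.ArSurf29.Torsion
import Groth.Agent.Lib.ArSurf29.Genus
import Groth.Agent.Lib.ArSurf29.GcdDivisor

set_option autoImplicit false
universe u
open CategoryTheory CategoryTheory.Limits AlgebraicGeometry
open Models

namespace Groth.Agent.S15104

/-- Let R be a discrete valuation ring with algebraically closed residue field k and fraction field K, C
a smooth proper curve over K with H⁰(C, O_C) = K and dim_K H¹(C, O_C) = g ≥ 2, and X → Spec R a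
minimal regular model of C: a regular proper model none of whose vertical prime divisors is an
exceptional curve of the first kind. Let Γ₁, …, Γ_n enumerate the irreducible components of the
closed fibre, with multiplicities r_i having gcd 1, and suppose the closed fibre is not reduced
(some r_i ≥ 2). Then dim_k H¹((X_k)_red, O) < g, the left side computed as the R-length of H¹(X, O_X
/ I) for I the ideal sheaf of the reduced closed fibre. (The published lemma states this for any
regular model with gcd(r_i) = 1; its proof uses, in the last step, that the component added last is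
not an exceptional curve, the standing hypothesis of the result it serves, and the inequality fails
after blowing up a node of a reduced semi-stable fibre, so minimality is assumed here.) -/
theorem result
    (R : Type u) [CommRing R] [IsDomain R] [IsDiscreteValuationRing R]
    (hk : IsAlgClosed (IsLocalRing.ResidueField R))
    (C : Scheme.{u}) (fC : C ⟶ (Spec (CommRingCat.of (FractionRing R)))) [IsProper fC] [Smooth fC]
    (hC0 : Models.hRank (FractionRing R) C fC (Coh.structureModule C) 0 = 1)
    (g : ℕ) (hg2 : 2 ≤ g) (hg : Models.curveGenus (FractionRing R) C fC = g)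
    (X : Scheme.{u}) (p : X ⟶ (Spec (CommRingCat.of R))) (hX : Models.IsMinimalModel R X p C fC)
    {n : ℕ} (Γ : Fin n → ArSurf.VertComp R (Over.mk p)) (hΓ : Models.IsComponentList R (Over.mk p) Γ)
    (hgcd : Models.multGcd R (Over.mk p) Γ = 1) (hnr : ∃ i, 2 ≤ Models.mult R (Over.mk p) (Γ i)) :
    Models.lengthH R (Over.mk p) (ClSub.quotMod (Models.redFibreIdeal R (Over.mk p))) 1 < g := by
  haveI : Flat (Over.mk p).hom := hX.1.1.1
  haveI : IsProper (Over.mk p).hom := hX.1.2.1
  haveI : IsLocallyNoetherian (Over.mk p).left :=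
    LocallyOfFiniteType.isLocallyNoetherian (Over.mk p).hom
  haveI := hk
  obtain ⟨g', hg'⟩ := hX.1.1.2.2.2
  have hH0 : IsIso fC.appTop := by
    letI : C.Over (Spec (CommRingCat.of (FractionRing R))) := ⟨fC⟩
    letI := GrothLib.GlobalConst.algΓ (FractionRing R) (X := C)
    have hfr : Module.finrank (FractionRing R) Γ(C, ⊤) = 1 :=
      (GrothLib.GlobalConst.h0Equiv (FractionRing R) (X := C)).finrank_eq.symm.trans hC0
    haveI : Nontrivial Γ(C, ⊤) := Module.nontrivial_of_finrank_eq_succ (hfr.trans rfl)
    refine (ConcreteCategory.isIso_iff_bijective _).2 ?_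
    refine (Function.Bijective.of_comp_iff _ (ConcreteCategory.bijective_of_isIso (Scheme.ΓSpecIso (CommRingCat.of (FractionRing R))).inv)).1 ?_
    refine ⟨RingHom.injective (((Scheme.ΓSpecIso (CommRingCat.of (FractionRing R))).inv ≫ fC.appTop).hom), fun y => ?_⟩
    obtain ⟨c, hc⟩ := (finrank_eq_one_iff_of_nonzero' (1 : Γ(C, ⊤)) one_ne_zero).1 hfr y
    exact ⟨c, ((Algebra.algebraMap_eq_smul_one c).trans hc :)⟩
  obtain ⟨L, hL⟩ := GrothLib.ArSurf29.exists_inverses (X := Over.mk p) hX.1.2.2 hΓ
  have hconn := GrothLib.ArSurf29.isPreconnected_fibre (X := Over.mk p) hg' hH0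
  obtain ⟨i, hi⟩ := hnr
  have hex : ∃ a b, Models.mult R (Over.mk p) (Γ a) ≠ Models.mult R (Over.mk p) (Γ b) := by
    by_contra hc
    push Not at hc
    have h1 : Models.mult R (Over.mk p) (Γ i) = 1 := by
      refine Nat.dvd_one.1 ?_
      rw [← hgcd]
      exact Finset.dvd_gcd fun j _ => by rw [hc j i]
    omega
  obtain ⟨a, b, hab⟩ := hex
  haveI : Nontrivial (Fin n) := ⟨a, b, fun h => hab (by rw [h])⟩
  have h2 := (GrothLib.ArSurf29.chiD_redFibre_ge (X := Over.mk p) hX.1.2.2 hΓ hL hconn hX.2).2 ⟨a, b, hab⟩
  rw [GrothLib.ArSurf29.chiD_fibre (X := Over.mk p) hΓ hg' hH0] at h2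
  simp only [GrothLib.ArSurf29.chiD, GrothLib.ArSurf29.lengthH_redFibre_zero (X := Over.mk p) hX.1.2.2 hΓ hconn, hg] at h2
  omega

end Groth.Agent.S15104
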