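import Groth.Statements.S15115
import Groth.Agent.Lib.LunaFin.Invariants
import Mathlib

set_option autoImplicit false
universe u
open HopfRep

namespace Groth.Agent.S15115

open TensorProduct

open TensorProduct in
/-- Let k be an algebraically closed field, H a finite-dimensional commutative Hopf algebra over k all
of whose finite-dimensional comodules are semisimple (a finite linearly reductive group scheme G
over k), A a commutative k-algebra, and M an A-module with an H-coaction that is A-linear (G acts on
M by A-module maps, A carrying the trivial action). Let A' be a commutative A-algebra and N = A' ⊗_A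
M its base change, exhibited by an A-linear map φ : M → N, with the induced coaction: A'-linear and
compatible with φ. Then invariants commute with this base change: writing M^G for the A-submodule of
coinvariant elements of M, the natural map A' ⊗_A M^G → N, a' ⊗ m ↦ a' φ(m), is injective and its
image is exactly the set of coinvariant elements of N. (The published statement is the isomorphism
ρ^* π_* F → π'_* σ^* F for a tame Deligne–Mumford stack with coarse moduli space π and any base
change ρ of the coarse space; this row is the statement about invariants to which its proof reduces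
it, for modules that need not be finitely generated.) -/
theorem result (k : Type u) [Field k] [IsAlgClosed k]
    (H : Type u) [CommRing H] [HopfAlgebra k H] [Module.Finite k H] (hred : HopfRep.IsLinearlyReductive k H)
    (A : Type u) [CommRing A] [Algebra k A]
    (M : Type u) [AddCommGroup M] [Module k M] [Module A M] [IsScalarTower k A M] [HopfRep.Comod k H M]
    (hlin : ∀ (a : A) (m : M), HopfRep.Comod.coact (k := k) (A := H) (a • m) = a • HopfRep.Comod.coact (k := k) (A := H) m)
    (A' : Type u) [CommRing A'] [Algebra k A'] [Algebra A A'] [IsScalarTower k A A']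
    (N : Type u) [AddCommGroup N] [Module k N] [Module A N] [Module A' N]
    [IsScalarTower k A N] [IsScalarTower A A' N] [IsScalarTower k A' N] [HopfRep.Comod k H N]
    (φ : M →ₗ[A] N) (hφ : IsBaseChange A' φ)
    (hcomp : ∀ m : M, HopfRep.Comod.coact (k := k) (A := H) (φ m) =
      LinearMap.rTensor H (φ.restrictScalars k) (HopfRep.Comod.coact (k := k) (A := H) m))
    (hlinN : ∀ (a' : A') (n : N), HopfRep.Comod.coact (k := k) (A := H) (a' • n) = a' • HopfRep.Comod.coact (k := k) (A := H) n)
    (P : Submodule A M) (hP : (P : Set M) = (HopfRep.fixedPts k H M : Set M)) :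
    Function.Injective (TensorProduct.lift (((Algebra.lsmul A A N : A' →ₐ[A] Module.End A N).toLinearMap).compl₂ (φ ∘ₗ P.subtype))) ∧
      Set.range (TensorProduct.lift (((Algebra.lsmul A A N : A' →ₐ[A] Module.End A N).toLinearMap).compl₂ (φ ∘ₗ P.subtype))) =
        (HopfRep.fixedPts k H N : Set N) := by
  obtain ⟨α, hα, h1⟩ := GrothLib.LRCoh.exists_integral hred
  have hsmulM : ∀ (a : A) (m : M), GrothLib.LunaFin.rey α M (a • m) = a • GrothLib.LunaFin.rey α M m := fun a m => by
    rw [GrothLib.LunaFin.rey_apply, GrothLib.LunaFin.rey_apply, hlin]
    induction HopfRep.Comod.coact (k := k) (A := H) m using TensorProduct.induction_on with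
    | zero => simp
    | add p q hp hq => simp only [smul_add, map_add, hp, hq]
    | tmul p q => simpa [TensorProduct.smul_tmul'] using smul_comm _ a p
  have hsmulN : ∀ (a : A') (n : N), GrothLib.LunaFin.rey α N (a • n) = a • GrothLib.LunaFin.rey α N n := fun a n => by
    rw [GrothLib.LunaFin.rey_apply, GrothLib.LunaFin.rey_apply, hlinN]
    induction HopfRep.Comod.coact (k := k) (A := H) n using TensorProduct.induction_on with
    | zero => simp
    | add p q hp hq => simp only [smul_add, map_add, hp, hq]
    | tmul p q => simpa [TensorProduct.smul_tmul'] using smul_comm _ a p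
  have hP' : ∀ m : M, m ∈ P ↔ HopfRep.Comod.coact (k := k) (A := H) m = m ⊗ₜ[k] (1 : H) := fun m => by
    rw [← SetLike.mem_coe, hP]
    rfl
  let EP : M →ₗ[A] P :=
    { toFun := fun m => ⟨GrothLib.LunaFin.rey α M m, (hP' _).2 (GrothLib.LunaFin.rey_coact α hα m)⟩
      map_add' := fun x y => Subtype.ext (map_add _ x y)
      map_smul' := fun a x => Subtype.ext (hsmulM a x) }
  have hEP : EP ∘ₗ P.subtype = LinearMap.id := LinearMap.ext fun p =>
    Subtype.ext (GrothLib.LunaFin.rey_fixed α h1 ((hP' _).1 p.2))
  set L := TensorProduct.lift (((Algebra.lsmul A A N : A' →ₐ[A] Module.End A N).toLinearMap).compl₂ (φ ∘ₗ P.subtype))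
  have hL : ∀ t, L t = hφ.equiv (P.subtype.lTensor A' t) := fun t => by
    induction t using TensorProduct.induction_on with
    | zero => simp
    | add p q hp hq => simp only [map_add, hp, hq]
    | tmul a p => simp [L, hφ.equiv_tmul]
  have hcom : Hoch.IsComodHom H (φ.restrictScalars k) := LinearMap.ext fun m => hcomp m
  constructor
  · intro x y h
    rw [hL, hL] at h
    have h2 := congrArg (EP.lTensor A') (hφ.equiv.injective h)
    rwa [← LinearMap.comp_apply, ← LinearMap.comp_apply, ← LinearMap.lTensor_comp, hEP, LinearMap.lTensor_id] at h2
  · ext n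
    constructor
    · rintro ⟨t, rfl⟩
      induction t using TensorProduct.induction_on with
      | zero => simp
      | add p q hp hq => rw [map_add]; exact add_mem hp hq
      | tmul a p =>
        show HopfRep.Comod.coact (k := k) (A := H) (L (a ⊗ₜ[A] p)) = L (a ⊗ₜ[A] p) ⊗ₜ[k] (1 : H)
        have h : L (a ⊗ₜ[A] p) = a • φ (p : M) := by simp [L]
        rw [h, hlinN, hcomp, (hP' _).1 p.2]
        simp [TensorProduct.smul_tmul']
    · intro hn
      obtain ⟨t, rfl⟩ := hφ.equiv.surjective n
      refine ⟨EP.lTensor A' t, ?_⟩
      rw [← GrothLib.LunaFin.rey_fixed α h1 (show HopfRep.Comod.coact (k := k) (A := H) (hφ.equiv t) = _ from hn)]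
      clear hn
      induction t using TensorProduct.induction_on with
      | zero => simp
      | add p q hp hq => simp only [map_add, hp, hq]
      | tmul a m =>
        rw [hφ.equiv_tmul, hsmulN, show φ m = (φ.restrictScalars k) m from rfl, GrothLib.LunaFin.rey_natural α hcom]
        simp [L, EP]

end Groth.Agent.S15115
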