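import Groth.Statements.S15116
import Mathlib

set_option autoImplicit false
universe u v
open NRGIT

namespace Groth.Agent.S15116

/-- Let k be a characteristic-zero field and A a commutative k-algebra, graded by the integers with all
pieces of positive degree zero, and D a k-derivation of A that raises degrees by a fixed positive
integer l. If no maximal ideal of A contains both every piece of negative degree and the image of D,
then there is f with D f = 1. (The published statement is for an affine variety with an action of
the semidirect product of the additive and multiplicative groups, the multiplicative group acting on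
the coordinate ring with non-positive weights and on the Lie algebra of the additive group with
positive weight: the derivation is a generator of that Lie algebra, the maximal ideals containing
the pieces of negative degree are the limit points under the multiplicative group, and a limit point
has trivial additive stabiliser exactly when the image of D is not contained in its ideal; this row
keeps only this algebraic content, for any such graded algebra. The first assertion of the published
lemma, that every point has a limit in the variety under the multiplicative group as t → 0, is not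
part of this row.) -/
theorem result (k : Type u) [Field k] [CharZero k]
    (A : Type v) [CommRing A] [Algebra k A] (𝒜 : ℤ → Submodule k A) [GradedAlgebra 𝒜]
    (hpos : ∀ i : ℤ, 0 < i → 𝒜 i = ⊥)
    (D : Derivation k A A) (l : ℤ) (hl : 0 < l)
    (hD : ∀ (i : ℤ) (a : A), a ∈ 𝒜 i → D a ∈ 𝒜 (i + l))
    (hfree : ∀ m : Ideal A, m.IsMaximal → (∀ i : ℤ, i < 0 → (𝒜 i : Set A) ⊆ m) → ∃ a : A, D a ∉ m) :
    ∃ f : A, D f = 1 := by
  classical
  set N : Ideal A := Ideal.span (⋃ i : ℤ, ⋃ _ : i < 0, (𝒜 i : Set A)) ⊔ Ideal.span (Set.range D) with hN
  have htop : N = ⊤ := by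
    by_contra h
    obtain ⟨m, hm, hle⟩ := Ideal.exists_le_maximal N h
    obtain ⟨a, ha⟩ := hfree m hm (fun i hi x hx => hle ((le_sup_left : _ ≤ N)
      (Ideal.subset_span (Set.mem_iUnion.2 ⟨i, Set.mem_iUnion.2 ⟨hi, hx⟩⟩))))
    exact ha (hle ((le_sup_right : _ ≤ N) (Ideal.subset_span ⟨a, rfl⟩)))
  let p : A →+ A := GradedRing.proj 𝒜 0
  have hp : ∀ {i : ℤ} {x : A}, x ∈ 𝒜 i → i ≠ 0 → p x = 0 := fun hx hi => by
    rw [GradedRing.proj_apply]; exact DirectSum.decompose_of_mem_ne 𝒜 hx hi
  have hpos' : ∀ {i : ℤ} {x : A}, x ∈ 𝒜 i → 0 < i → x = 0 := fun hx hi => by
    rw [hpos _ hi] at hx; exact (Submodule.mem_bot k).1 hx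
  let S : Submodule k A := LinearMap.range (D : A →ₗ[k] A)
  have key : ∀ x ∈ N, ∀ r : A, p (r * x) ∈ S := by
    have hsup : N = Ideal.span ((⋃ i : ℤ, ⋃ _ : i < 0, (𝒜 i : Set A)) ∪ Set.range D) := by
      rw [hN, Ideal.span_union]
    intro x hx
    rw [hsup] at hx
    induction hx using Submodule.span_induction with
    | mem x hx =>
      intro r
      induction r using DirectSum.Decomposition.inductionOn 𝒜 with
      | zero => simp
      | add r r' hr hr' => rw [add_mul, map_add]; exact S.add_mem hr hr'
      | homogeneous r =>
        rename_i i
        rcases lt_or_ge 0 i with hi | hi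
        · rw [hpos' r.2 hi, zero_mul, map_zero]; exact S.zero_mem
        rcases hx with hx | ⟨b, rfl⟩
        · simp only [Set.mem_iUnion] at hx
          obtain ⟨j, hj, hx⟩ := hx
          rw [hp (SetLike.mul_mem_graded r.2 hx) (by omega)]
          exact S.zero_mem
        · induction b using DirectSum.Decomposition.inductionOn 𝒜 with
          | zero => simp
          | add b b' hb hb' => rw [map_add, mul_add, map_add]; exact S.add_mem hb hb'
          | homogeneous b =>
            rename_i j
            rcases lt_or_ge 0 (j + l) with hjl | hjl
            · rw [hpos' (hD j b b.2) hjl, mul_zero, map_zero]; exact S.zero_mem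
            rcases eq_or_ne (i + (j + l)) 0 with h0 | h0
            · have hi0 : i = 0 := by omega
              refine ⟨r * b, ?_⟩
              have hr : D (r : A) = 0 := hpos' (hD i r r.2) (by omega)
              change D ((r : A) * b) = _
              rw [Derivation.leibniz, hr, smul_zero, add_zero, smul_eq_mul, GradedRing.proj_apply]
              exact (DirectSum.decompose_of_mem_same 𝒜 (h0 ▸ SetLike.mul_mem_graded r.2 (hD j b b.2))).symm
            · rw [hp (SetLike.mul_mem_graded r.2 (hD j b b.2)) h0]; exact S.zero_mem
    | zero => intro r; simp
    | add x y _ _ hx hy => intro r; rw [mul_add, map_add]; exact S.add_mem (hx r) (hy r)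
    | smul s x _ ih => intro r; rw [smul_eq_mul, ← mul_assoc]; exact ih (r * s)
  obtain ⟨f, hf⟩ := key 1 (htop ▸ Submodule.mem_top) 1
  refine ⟨f, ?_⟩
  rw [one_mul, GradedRing.proj_apply, DirectSum.decompose_of_mem_same 𝒜 SetLike.GradedOne.one_mem] at hf
  exact hf

end Groth.Agent.S15116
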