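import Groth.Statements.S15117
import Mathlib

set_option autoImplicit false
universe u v w
open TensorProduct
open NRGIT

namespace Groth.Agent.S15117

/-- Let k be a field, π : A → B a map of commutative bialgebras over k, W a right A-comodule and V ⊆ W a
subcomodule all of whose elements are coinvariant for the B-coaction induced through π. Then the
coaction of every v ∈ V lies in V ⊗ A' ⊆ W ⊗ A, where A' ⊆ A is the set of elements a with (π ⊗
id)(Δ a) = 1 ⊗ a, i.e. coinvariant for the coaction of B on A through π on the left factor; the row
states membership in the span of the pure tensors w ⊗ a with w ∈ V and a ∈ A'. (The published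
statement is for a linear algebraic group H over an algebraically closed field of characteristic
zero, a normal subgroup N and an H-stable space V of N-invariant sections of a linearised line
bundle, with the coaction landing in O(H)^N ⊗ V, where O(H)^N is the ring of functions on H
invariant under N acting by right multiplication; this row is the comodule form, for any bialgebra
map over a field, where normality of N is not needed.) -/
theorem result (k : Type u) [Field k]
    (A B : Type v) [CommRing A] [CommRing B] [Bialgebra k A] [Bialgebra k B] (π : A →ₐc[k] B)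
    (W : Type w) [AddCommGroup W] [Module k W] [HopfRep.Comod k A W]
    (V : Submodule k W) (hV : HopfRep.IsSubcomod (k := k) (A := A) V)
    (hfix : ∀ v ∈ V, (π.toLinearMap.lTensor W) (HopfRep.Comod.coact (k := k) (A := A) v) = v ⊗ₜ[k] (1 : B))
    (v : W) (hv : v ∈ V) :
    HopfRep.Comod.coact (k := k) (A := A) v ∈
      Submodule.span k {x : W ⊗[k] A | ∃ w ∈ V, ∃ a : A,
        (π.toLinearMap.rTensor A) (Coalgebra.comul (R := k) a) = (1 : B) ⊗ₜ[k] a ∧ x = w ⊗ₜ[k] a} := by
  classical
  obtain ⟨y, hy⟩ := hV v hv
  let G : A →ₗ[k] B ⊗[k] A :=
    π.toLinearMap.rTensor A ∘ₗ Coalgebra.comul (R := k) - TensorProduct.mk k B A 1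
  let P : W →ₗ[k] W ⊗[k] B := π.toLinearMap.lTensor W ∘ₗ HopfRep.Comod.coact (k := k) (A := A)
  have h1 : (π.toLinearMap.rTensor A ∘ₗ Coalgebra.comul (R := k)).lTensor W
      (HopfRep.Comod.coact (k := k) (A := A) v) =
      TensorProduct.assoc k W B A (P.rTensor A (HopfRep.Comod.coact (k := k) (A := A) v)) := by
    have h := LinearMap.congr_fun (HopfRep.Comod.coassoc (k := k) (A := A) (V := W)) v
    simp only [LinearMap.comp_apply, LinearEquiv.coe_coe] at h
    rw [LinearMap.lTensor_comp, LinearMap.comp_apply, ← h, LinearMap.rTensor_comp, LinearMap.comp_apply]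
    generalize (HopfRep.Comod.coact (k := k) (A := A) (V := W)).rTensor A
      (HopfRep.Comod.coact (k := k) (A := A) v) = z
    induction z using TensorProduct.induction_on with
    | zero => simp
    | add a b ha hb => simp only [map_add, ha, hb]
    | tmul x a =>
      induction x using TensorProduct.induction_on with
      | zero => simp
      | add p q hp hq => simp only [TensorProduct.add_tmul, map_add, hp, hq]
      | tmul p q => rfl
  have hP : P ∘ₗ V.subtype = (TensorProduct.mk k W B).flip 1 ∘ₗ V.subtype :=
    LinearMap.ext fun w => hfix w w.2
  have h2 : (π.toLinearMap.rTensor A ∘ₗ Coalgebra.comul (R := k)).lTensor W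
      (V.subtype.rTensor A y) = (TensorProduct.mk k B A 1).lTensor W (V.subtype.rTensor A y) := by
    conv_lhs => rw [hy, h1, ← hy, ← LinearMap.rTensor_comp_apply, hP, LinearMap.rTensor_comp_apply]
    generalize V.subtype.rTensor A y = z
    induction z using TensorProduct.induction_on with
    | zero => simp
    | add a b ha hb => simp only [map_add, ha, hb]
    | tmul x a => simp
  have h3 : G.lTensor V y = 0 := by
    refine Module.Flat.rTensor_preserves_injective_linearMap (M := B ⊗[k] A) V.subtype V.injective_subtype ?_
    rw [map_zero, ← LinearMap.comp_apply, LinearMap.rTensor_comp_lTensor, ← LinearMap.lTensor_comp_rTensor,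
      LinearMap.comp_apply, LinearMap.lTensor_sub, LinearMap.sub_apply, h2, sub_self]
  obtain ⟨z, hz⟩ := (Module.Flat.lTensor_exact V (LinearMap.exact_subtype_ker_map G) y).1 h3
  rw [← hy, ← hz]
  clear hz
  induction z using TensorProduct.induction_on with
  | zero => simp
  | add a b ha hb => simp only [map_add]; exact add_mem ha hb
  | tmul w a =>
    refine Submodule.subset_span ⟨(w : W), w.2, (a : A), ?_, rfl⟩
    have ha := LinearMap.mem_ker.1 a.2
    exact sub_eq_zero.1 ha

end Groth.Agent.S15117
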