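import Groth.Statements.S15121

-- import your own Groth.Agent.* helpers here

set_option autoImplicit false
universe u v w
open InvQ

namespace Groth.Agent.S15121

/-- Let k be a field of characteristic zero and A a commutative k-algebra graded by a finitely generated
free abelian group Λ (the character group of a torus acting on Spec A) whose grading monoid is
positive: if the pieces of degrees w and −w are both non-zero then w = 0. Let δ be a locally
nilpotent k-derivation of A (an action of the additive group) that is homogeneous of degree d, with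
the piece of degree d equal to zero (the graded condition on the Lie algebra weight). Suppose that
no maximal ideal of A contains both all graded pieces of non-zero degree and the image of δ (every
torus-fixed closed point has trivial stabiliser under the additive group). Then δ has a homogeneous
slice: some s of degree −d with δ s = 1. (The published statement is for the coordinate ring of an
affine variety over an algebraically closed field of characteristic zero and concludes moreover that
the quotient map by the additive group is a trivial principal bundle, which follows from the slice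
by a standard argument not restated here; this row keeps the algebraic content, for any such graded
algebra.) -/
theorem result
    (k : Type u) [Field k] [CharZero k]
    (A : Type v) [CommRing A] [Algebra k A]
    (Λ : Type w) [AddCommGroup Λ] [DecidableEq Λ] [Module.Free ℤ Λ] [Module.Finite ℤ Λ]
    (𝒜 : Λ → Submodule k A) [GradedAlgebra 𝒜]
    (hpos : ∀ w : Λ, 𝒜 w ≠ ⊥ → 𝒜 (-w) ≠ ⊥ → w = 0)
    (δ : Derivation k A A) (hnil : ∀ a : A, ∃ n : ℕ, ((δ : A →ₗ[k] A) ^ n) a = 0)
    (d : Λ) (hhom : ∀ (w : Λ) (a : A), a ∈ 𝒜 w → δ a ∈ 𝒜 (w + d)) (hd : 𝒜 d = ⊥)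
    (hfix : ∀ m : Ideal A, m.IsMaximal → (∀ w : Λ, w ≠ 0 → (𝒜 w : Set A) ⊆ m) → ¬ (Set.range δ ⊆ m)) :
    ∃ s ∈ 𝒜 (-d), δ s = 1 := by
  classical
  have hI : Ideal.span (Set.range δ ∪ ⋃ (w : Λ) (_ : w ≠ 0), (𝒜 w : Set A)) = ⊤ := by
    by_contra h
    obtain ⟨M, hM, hle⟩ := Ideal.exists_le_maximal _ h
    exact hfix M hM (fun w hw x hx => hle (Ideal.subset_span (Or.inr (Set.mem_biUnion (t := fun w : Λ => (𝒜 w : Set A)) (s := {w | w ≠ 0}) hw hx))))
      (fun x hx => hle (Ideal.subset_span (Or.inl hx)))
  let pr : A → A := fun x => (DirectSum.decompose 𝒜 x 0 : A)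
  have hadd : ∀ x y, pr (x + y) = pr x + pr y := fun x y => by simp [pr]
  -- products of nonzero opposite degrees vanish
  have hopp : ∀ (i j : Λ) (x y : A), x ∈ 𝒜 i → y ∈ 𝒜 j → i + j = 0 → i ≠ 0 → x * y = 0 := by
    intro i j x y hx hy hij hi
    obtain rfl : j = -i := eq_neg_of_add_eq_zero_right hij
    by_cases h1 : 𝒜 i = ⊥
    · rw [h1, Submodule.mem_bot] at hx; rw [hx, zero_mul]
    · by_cases h2 : 𝒜 (-i) = ⊥
      · rw [h2, Submodule.mem_bot] at hy; rw [hy, mul_zero]
      · exact absurd (hpos i h1 h2) hi
  have hδ0 : ∀ x ∈ 𝒜 0, δ x = 0 := fun x hx => by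
    have := hhom 0 x hx
    rwa [zero_add, hd, Submodule.mem_bot] at this
  have key : ∀ x ∈ Ideal.span (Set.range δ ∪ ⋃ (w : Λ) (_ : w ≠ 0), (𝒜 w : Set A)),
      ∀ c : A, ∃ s ∈ 𝒜 (-d), pr (c * x) = δ s := by
    intro x hx
    induction hx using Submodule.span_induction with
    | zero => exact fun c => ⟨0, zero_mem _, by simp [pr]⟩
    | smul e x _ ih => exact fun c => by simpa [mul_assoc] using ih (c * e)
    | add x y _ _ ihx ihy =>
      intro c
      obtain ⟨s, hs, e1⟩ := ihx c
      obtain ⟨t, ht, e2⟩ := ihy c
      exact ⟨s + t, add_mem hs ht, by rw [mul_add, hadd, e1, e2, map_add]⟩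
    | mem x hx =>
      intro c
      induction c using DirectSum.Decomposition.inductionOn 𝒜 with
      | zero => exact ⟨0, zero_mem _, by simp [pr]⟩
      | add c c' h h' =>
        obtain ⟨s, hs, e1⟩ := h
        obtain ⟨t, ht, e2⟩ := h'
        exact ⟨s + t, add_mem hs ht, by rw [add_mul, hadd, e1, e2, map_add]⟩
      | @homogeneous i c =>
        rcases hx with ⟨b, rfl⟩ | hx
        · induction b using DirectSum.Decomposition.inductionOn 𝒜 with
          | zero => exact ⟨0, zero_mem _, by simp [pr]⟩
          | add b b' h h' =>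
            obtain ⟨s, hs, e1⟩ := h
            obtain ⟨t, ht, e2⟩ := h'
            exact ⟨s + t, add_mem hs ht, by rw [map_add, mul_add, hadd, e1, e2, map_add]⟩
          | @homogeneous j b =>
            have hm : (c : A) * δ b ∈ 𝒜 (i + (j + d)) := SetLike.mul_mem_graded c.2 (hhom j b b.2)
            by_cases he : i + (j + d) = 0
            · by_cases hi : i = 0
              · subst hi
                rw [zero_add] at he hm
                refine ⟨(c : A) * b, ?_, ?_⟩
                · have h3 : (c : A) * b ∈ 𝒜 (0 + j) := SetLike.mul_mem_graded c.2 b.2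
                  exact (congrArg 𝒜 ((zero_add j).trans (eq_neg_of_add_eq_zero_left he))).le h3
                · rw [show pr ((c : A) * δ b) = (c : A) * δ b from DirectSum.decompose_of_mem_same 𝒜 ((congrArg 𝒜 he).le hm),
                    Derivation.leibniz, hδ0 _ c.2, smul_zero, add_zero, smul_eq_mul]
              · exact ⟨0, zero_mem _, by simp [pr, hopp _ _ _ _ c.2 (hhom j b b.2) he hi]⟩
            · exact ⟨0, zero_mem _, by rw [map_zero]; exact DirectSum.decompose_of_mem_ne 𝒜 hm he⟩
        · simp only [Set.mem_iUnion] at hx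
          obtain ⟨w, hw, hxw⟩ := hx
          have hm : (c : A) * x ∈ 𝒜 (i + w) := SetLike.mul_mem_graded c.2 hxw
          by_cases he : i + w = 0
          · have hi : i ≠ 0 := fun h => hw (by simpa [h] using he)
            exact ⟨0, zero_mem _, by simp [pr, hopp _ _ _ _ c.2 hxw he hi]⟩
          · exact ⟨0, zero_mem _, by rw [map_zero]; exact DirectSum.decompose_of_mem_ne 𝒜 hm he⟩
  obtain ⟨s, hs, e⟩ := key 1 (hI ▸ trivial) 1
  refine ⟨s, hs, ?_⟩
  rw [← e, mul_one]
  exact DirectSum.decompose_of_mem_same 𝒜 (SetLike.one_mem_graded 𝒜)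

end Groth.Agent.S15121
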