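import Groth.Statements.S15122
import Mathlib

set_option autoImplicit false
universe u v w
open GIT

namespace Groth.Agent.S15122

/-- Let R be a commutative ring, A a commutative R-algebra graded by the natural numbers, σ a
homogeneous element of degree zero, and B the localisation of A away from σ, equipped with a grading
by the natural numbers for which the localisation map ι : A → B is a graded ring homomorphism (such
a grading is necessarily the one induced from A). Then the homogeneous ideal of B generated by the
image of the irrelevant ideal of A is the whole irrelevant ideal of B; in other words the induced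
rational map from Proj B to Proj A is defined everywhere. (The published statement also assumes σ a
non-zero-divisor, which this step does not use, and goes on to conclude that Proj B → Proj A is an
open immersion onto the basic open set of σ.) -/
theorem result
    (R : Type u) (A : Type v) (B : Type w) [CommRing R] [CommRing A] [CommRing B] [Algebra R A] [Algebra R B]
    [Algebra A B] [IsScalarTower R A B]
    (𝒜 : ℕ → Submodule R A) [GradedAlgebra 𝒜] (ℬ : ℕ → Submodule R B) [GradedAlgebra ℬ]
    (σ : A) (hσ0 : σ ∈ 𝒜 0) [IsLocalization.Away σ B]
    (ι : 𝒜 →+*ᵍ ℬ) (hι : ∀ a : A, ι a = algebraMap A B a) :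
    (HomogeneousIdeal.irrelevant 𝒜).map ι = HomogeneousIdeal.irrelevant ℬ := by
  classical
  refine le_antisymm ?_ ?_
  · rw [HomogeneousIdeal.map_le_iff_le_comap]
    intro a ha
    rw [HomogeneousIdeal.mem_irrelevant_iff] at ha
    change ι a ∈ HomogeneousIdeal.irrelevant ℬ
    rw [HomogeneousIdeal.mem_irrelevant_iff, GradedRing.proj_apply,
      ← GradedRingHom.map_directSumDecompose, ← GradedRing.proj_apply, ha, map_zero]
  · rw [HomogeneousIdeal.irrelevant_le]
    intro i hi b hb
    change b ∈ ℬ i at hb
    change b ∈ ((HomogeneousIdeal.irrelevant 𝒜).map ι).toIdeal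
    obtain ⟨N, a, hab⟩ := IsLocalization.Away.surj σ b
    have hu : IsUnit (algebraMap A B σ ^ N) := (IsLocalization.Away.algebraMap_isUnit σ).pow N
    refine (Ideal.mul_unit_mem_iff_mem _ hu).1 ?_
    have hσN : algebraMap A B σ ^ N ∈ ℬ 0 := by
      rw [← map_pow, ← hι]
      refine GradedFunLike.map_mem ι ?_
      simpa using SetLike.pow_mem_graded N hσ0
    have hmem : b * algebraMap A B σ ^ N ∈ ℬ i := by
      simpa using SetLike.mul_mem_graded hb hσN
    rw [hab, ← hι] at hmem
    rw [hab, ← hι, ← DirectSum.decompose_of_mem_same ℬ hmem, ← GradedRingHom.map_directSumDecompose,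
      HomogeneousIdeal.toIdeal_map]
    exact Ideal.mem_map_of_mem ι (HomogeneousIdeal.mem_irrelevant_of_mem _ hi (SetLike.coe_mem _))

end Groth.Agent.S15122
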