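import Groth.Statements.S15124
import Groth.Agent.Lib.AffQuot.Torus

set_option autoImplicit false
universe u v w
open InvQ

namespace Groth.Agent.S15124

/-- Let k be an algebraically closed field of characteristic zero, Λ a finitely generated free abelian
group with group algebra k[Λ] (the coordinate Hopf algebra of a torus T), and R a reduced finitely
generated commutative k-algebra with a multiplicative coaction of k[Λ] (an action of T on the affine
variety X = Spec R) whose grading monoid is positive: if R has non-zero eigenvectors of weights w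
and −w then w = 0. Let I be the ideal of R generated by all eigenvectors of non-zero weight (the
ideal of the fixed-point subscheme X^T). Then the composite of the inclusion of the ring of
invariants R^T into R with the projection R → R/I is bijective: the fixed-point subscheme maps
isomorphically onto the affine quotient Spec R^T. (The published statement phrases this as: X^T is
affine and X → X^T is a good quotient; the good-quotient property itself is not restated here.) -/
theorem result
    (k : Type u) [Field k] [IsAlgClosed k] [CharZero k]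
    (Λ : Type v) [AddCommGroup Λ] [Module.Free ℤ Λ] [Module.Finite ℤ Λ]
    (R : Type w) [CommRing R] [Algebra k R] [Algebra.FiniteType k R] [IsReduced R]
    [HopfRep.Comod k (AddMonoidAlgebra k Λ) R] [GLin.IsCoactAlg k (AddMonoidAlgebra k Λ) R]
    (hpos : ∀ w : Λ, HopfRep.eigenspace k (AddMonoidAlgebra k Λ) R (AddMonoidAlgebra.single w 1) ≠ ⊥ →
      HopfRep.eigenspace k (AddMonoidAlgebra k Λ) R (AddMonoidAlgebra.single (-w) 1) ≠ ⊥ → w = 0) :
    Function.Bijective
      ((Ideal.Quotient.mkₐ k (Ideal.span {f : R | ∃ w : Λ, w ≠ 0 ∧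
          f ∈ HopfRep.eigenspace k (AddMonoidAlgebra k Λ) R (AddMonoidAlgebra.single w 1)})).comp
        (GLin.invariants k (AddMonoidAlgebra k Λ) R).val) := by
  classical
  set I := Ideal.span {f : R | ∃ w : Λ, w ≠ 0 ∧
    f ∈ HopfRep.eigenspace k (AddMonoidAlgebra k Λ) R (AddMonoidAlgebra.single w 1)} with hI
  have hone : (1 : AddMonoidAlgebra k Λ) = AddMonoidAlgebra.single 0 1 := rfl
  have hinv : ∀ f : R, f ∈ GLin.invariants k (AddMonoidAlgebra k Λ) R ↔
      f ∈ HopfRep.eigenspace k (AddMonoidAlgebra k Λ) R (AddMonoidAlgebra.single 0 1) := fun f => by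
    rw [← hone]; exact Iff.rfl
  have hzero : ∀ f ∈ I, GrothLib.AffQuot.Torus.comp (k := k) (0 : Λ) f = 0 := by
    intro f hf
    suffices ∀ r : R, GrothLib.AffQuot.Torus.comp (k := k) (0 : Λ) (r * f) = 0 by simpa using this 1
    induction hf using Submodule.span_induction with
    | mem e he =>
      obtain ⟨w, hw, he⟩ := he
      intro r
      have hmulmem : ∀ (v : Λ) (a : R), a ∈ HopfRep.eigenspace k (AddMonoidAlgebra k Λ) R (AddMonoidAlgebra.single v 1) →
          a * e ∈ HopfRep.eigenspace k (AddMonoidAlgebra k Λ) R (AddMonoidAlgebra.single (v + w) 1) := fun v a ha => by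
        change HopfRep.Comod.coact (k := k) (A := AddMonoidAlgebra k Λ) (a * e) = _
        rw [GLin.IsCoactAlg.coact_mul,
          show HopfRep.Comod.coact (k := k) (A := AddMonoidAlgebra k Λ) a = _ from ha,
          show HopfRep.Comod.coact (k := k) (A := AddMonoidAlgebra k Λ) e = _ from he]
        simp [AddMonoidAlgebra.single_mul_single]
      conv_lhs => rw [← GrothLib.AffQuot.Torus.sum_comp (k := k) (Λ := Λ) r, Finsupp.sum, Finset.sum_mul, map_sum]
      refine Finset.sum_eq_zero fun v _ => ?_
      have hv := GrothLib.AffQuot.Torus.comp_mem (k := k) v r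
      change GrothLib.AffQuot.Torus.comp (k := k) (0 : Λ) (GrothLib.AffQuot.Torus.comp (k := k) v r * e) = 0
      rw [GrothLib.AffQuot.Torus.comp_of_mem (hmulmem v _ hv) 0]
      split_ifs with hvw
      · by_contra hne
        refine hw (hpos w (Submodule.ne_bot_iff _ |>.2 ⟨e, he, fun h => hne (by rw [h, mul_zero])⟩) ?_)
        rw [← eq_neg_of_add_eq_zero_left hvw]
        exact (Submodule.ne_bot_iff _).2 ⟨_, hv, fun h => hne (by rw [h, zero_mul])⟩
      · rfl
    | zero => simp
    | add a b _ _ ha hb => intro r; rw [mul_add, map_add, ha, hb, add_zero]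
    | smul s a _ ih => intro r; rw [smul_eq_mul, ← mul_assoc]; exact ih (r * s)
  refine ⟨(injective_iff_map_eq_zero _).2 fun a ha => ?_, fun q => ?_⟩
  · have h := hzero _ (Ideal.Quotient.eq_zero_iff_mem.1 ha)
    exact Subtype.ext (((GrothLib.AffQuot.Torus.comp_of_mem ((hinv _).1 a.2) 0).trans (if_pos rfl)).symm.trans h)
  · obtain ⟨f, rfl⟩ := Ideal.Quotient.mk_surjective q
    refine ⟨⟨GrothLib.AffQuot.Torus.comp (k := k) (0 : Λ) f, (hinv _).2 (GrothLib.AffQuot.Torus.comp_mem 0 f)⟩, ?_⟩
    change Ideal.Quotient.mk I (GrothLib.AffQuot.Torus.comp (k := k) (0 : Λ) f) = Ideal.Quotient.mk I f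
    conv_rhs => rw [← GrothLib.AffQuot.Torus.sum_comp (k := k) (Λ := Λ) f, Finsupp.sum, map_sum]
    symm
    refine Finset.sum_eq_single (0 : Λ) (fun v _ hv => ?_) (fun h0 => ?_)
    · exact Ideal.Quotient.eq_zero_iff_mem.2 (Ideal.subset_span ⟨v, hv, GrothLib.AffQuot.Torus.comp_mem v f⟩)
    · rw [Finsupp.notMem_support_iff.1 h0, map_zero]

end Groth.Agent.S15124
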