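import Groth.Statements.S15123
import Groth.Agent.Lib.AffQuot.Torus
import Groth.Agent.S15124

set_option autoImplicit false
universe u v w
open InvQ

namespace Groth.Agent.S15123

/-- Let k be an algebraically closed field of characteristic zero, Λ a finitely generated free abelian
group and k[Λ] its group algebra, the coordinate Hopf algebra of the torus with character group Λ.
Let R be a reduced finitely generated commutative k-algebra with a multiplicative coaction of k[Λ]
(an action of the torus on the affine variety Spec R), and suppose the grading monoid is positive: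
if R has a non-zero eigenvector of weight w and one of weight −w then w = 0. Then for every k-point
x of Spec R, the orbit of x is closed if and only if x is a fixed point. (The published statement
also asserts that the fixed-point subvariety is affine and is a good quotient for the action; only
the description of the closed orbits is stated here.) -/
theorem result
    (k : Type u) [Field k] [IsAlgClosed k] [CharZero k]
    (Λ : Type v) [AddCommGroup Λ] [Module.Free ℤ Λ] [Module.Finite ℤ Λ]
    (R : Type w) [CommRing R] [Algebra k R] [Algebra.FiniteType k R] [IsReduced R]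
    [HopfRep.Comod k (AddMonoidAlgebra k Λ) R] [GLin.IsCoactAlg k (AddMonoidAlgebra k Λ) R]
    (hpos : ∀ w : Λ, HopfRep.eigenspace k (AddMonoidAlgebra k Λ) R (AddMonoidAlgebra.single w 1) ≠ ⊥ →
      HopfRep.eigenspace k (AddMonoidAlgebra k Λ) R (AddMonoidAlgebra.single (-w) 1) ≠ ⊥ → w = 0)
    (x : R →ₐ[k] k) :
    GLin.IsClosedOrbit k (AddMonoidAlgebra k Λ) x ↔ GLin.IsFixedPt k (AddMonoidAlgebra k Λ) x := by
  classical
  let A := AddMonoidAlgebra k Λ
  have hunit : ∀ w : Λ, IsUnit (AddMonoidAlgebra.single w (1 : k) : A) := fun w =>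
    IsUnit.of_mul_eq_one (AddMonoidAlgebra.single (-w) (1 : k)) (by
      rw [AddMonoidAlgebra.single_mul_single, add_neg_cancel, one_mul]; rfl)
  have horb : ∀ (w : Λ) (f : R), f ∈ HopfRep.eigenspace k A R (AddMonoidAlgebra.single w 1) →
      GLin.orbitHom k A x f = x f • AddMonoidAlgebra.single w (1 : k) := fun w f hf => by
    simp only [GLin.orbitHom, AlgHom.comp_apply, GLin.coactAlgHom_apply,
      show HopfRep.Comod.coact (k := k) (A := A) f = f ⊗ₜ[k] AddMonoidAlgebra.single w (1 : k) from hf,
      Algebra.TensorProduct.map_tmul, AlgHom.id_apply]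
    exact TensorProduct.lid_tmul _ _
  have hfix : GLin.IsFixedPt k A x ↔
      ∀ (w : Λ) (f : R), w ≠ 0 → f ∈ HopfRep.eigenspace k A R (AddMonoidAlgebra.single w 1) → x f = 0 := by
    constructor
    · intro h w f hw hf
      have h1 := (horb w f hf).symm.trans (AlgHom.congr_fun h f)
      have h2 := congrArg (fun a : A => AddMonoidAlgebra.coeff a w) h1
      change (x f • AddMonoidAlgebra.single w (1 : k) : A).coeff w = (algebraMap k A (x f)).coeff w at h2
      rw [Algebra.algebraMap_eq_smul_one, show (1 : A) = AddMonoidAlgebra.single 0 1 from rfl,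
        AddMonoidAlgebra.coeff_smul, AddMonoidAlgebra.coeff_smul, Finsupp.smul_apply, Finsupp.smul_apply,
        AddMonoidAlgebra.coeff_single, AddMonoidAlgebra.coeff_single, Finsupp.single_eq_same,
        Finsupp.single_eq_of_ne hw, smul_zero, smul_eq_mul, mul_one] at h2
      exact h2
    · intro h
      refine AlgHom.ext fun f => ?_
      conv_lhs => rw [← GrothLib.AffQuot.Torus.sum_comp (k := k) (Λ := Λ) f, Finsupp.sum, map_sum]
      conv_rhs => rw [← GrothLib.AffQuot.Torus.sum_comp (k := k) (Λ := Λ) f, Finsupp.sum, map_sum]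
      refine Finset.sum_congr rfl fun v _ => ?_
      have hv := GrothLib.AffQuot.Torus.comp_mem (k := k) v f
      change GLin.orbitHom k A x (GrothLib.AffQuot.Torus.comp v f) = _
      rw [horb v _ hv, AlgHom.comp_apply]
      rcases eq_or_ne v 0 with rfl | hne
      · rw [Algebra.ofId_apply, Algebra.algebraMap_eq_smul_one]; rfl
      · change _ = Algebra.ofId k A (x (GrothLib.AffQuot.Torus.comp v f))
        rw [h v _ hne hv, zero_smul, map_zero]
  haveI hmax : (RingHom.ker x).IsMaximal :=
    RingHom.ker_isMaximal_of_surjective x fun c => ⟨algebraMap k R c, x.commutes c⟩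
  rw [hfix]
  unfold GLin.IsClosedOrbit
  constructor
  · intro hc
    -- the limit point: the weight zero part
    let q := (RingEquiv.ofBijective ((Ideal.Quotient.mkₐ k (Ideal.span {f : R | ∃ w : Λ, w ≠ 0 ∧
          f ∈ HopfRep.eigenspace k A R (AddMonoidAlgebra.single w 1)})).comp (GLin.invariants k A R).val)
        (Groth.Agent.S15124.result k Λ R hpos))
    let z : R →+* k := ((x.toRingHom.comp (GLin.invariants k A R).val.toRingHom).comp q.symm.toRingHom).comp
      (Ideal.Quotient.mk _)
    have hz0 : ∀ (w : Λ) (f : R), w ≠ 0 → f ∈ HopfRep.eigenspace k A R (AddMonoidAlgebra.single w 1) → z f = 0 :=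
      fun w f hw hf => by
        change (x.toRingHom.comp (GLin.invariants k A R).val.toRingHom) (q.symm (Ideal.Quotient.mk _ f)) = 0
        rw [Ideal.Quotient.eq_zero_iff_mem.2 (Ideal.subset_span (s := {f : R | ∃ w : Λ, w ≠ 0 ∧
          f ∈ HopfRep.eigenspace k A R (AddMonoidAlgebra.single w 1)}) ⟨w, hw, hf⟩), map_zero, map_zero]
    have hzinv : ∀ a : GLin.invariants k A R, z a = x a := fun a => by
      have : q.symm (Ideal.Quotient.mk _ (a : R)) = a := q.symm_apply_apply a
      change x ((q.symm (Ideal.Quotient.mk _ (a : R)) : GLin.invariants k A R) : R) = _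
      rw [this]
    have hle : RingHom.ker (GLin.orbitHom k A x).toRingHom ≤ RingHom.ker z := by
      intro f hf
      rw [RingHom.mem_ker] at hf ⊢
      have h0 : x (GrothLib.AffQuot.Torus.comp (k := k) (0 : Λ) f) = 0 := by
        change GLin.orbitHom k A x f = 0 at hf
        rw [← GrothLib.AffQuot.Torus.sum_comp (k := k) (Λ := Λ) f, Finsupp.sum, map_sum] at hf
        have hterm : ∀ v : Λ, GLin.orbitHom k A x (GrothLib.AffQuot.Torus.coords
            (HopfRep.Comod.coact (k := k) (A := AddMonoidAlgebra k Λ) f) v) =
            x (GrothLib.AffQuot.Torus.comp (k := k) v f) • AddMonoidAlgebra.single v (1 : k) :=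
          fun v => horb v _ (GrothLib.AffQuot.Torus.comp_mem (k := k) v f)
        let L : AddMonoidAlgebra k Λ →ₗ[k] k :=
          Finsupp.lapply (0 : Λ) ∘ₗ (AddMonoidAlgebra.coeffLinearEquiv k).toLinearMap
        have hL : ∀ (v : Λ) (c : k), L (c • AddMonoidAlgebra.single v (1 : k)) = if v = 0 then c else 0 := fun v c => by
          rw [map_smul]
          change c • (Finsupp.single v (1 : k) : Λ →₀ k) 0 = _
          rw [Finsupp.single_apply]
          split_ifs <;> simp
        have h3 := congrArg L hf
        simp only [hterm, map_sum, hL, map_zero] at h3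
        rw [Finset.sum_ite_eq'] at h3
        split_ifs at h3 with hmem0
        · exact h3
        · have h' : GrothLib.AffQuot.Torus.comp (k := k) (0 : Λ) f = 0 := Finsupp.notMem_support_iff.1 hmem0
          rw [h', map_zero]
      rw [← GrothLib.AffQuot.Torus.sum_comp (k := k) (Λ := Λ) f, Finsupp.sum, map_sum]
      refine Finset.sum_eq_zero fun v _ => ?_
      rcases eq_or_ne v 0 with rfl | hne
      · have hm : GrothLib.AffQuot.Torus.comp (k := k) (0 : Λ) f ∈ GLin.invariants k A R :=
          GrothLib.AffQuot.Torus.comp_mem (k := k) 0 f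
        exact (hzinv ⟨_, hm⟩).trans h0
      · exact hz0 v _ hne (GrothLib.AffQuot.Torus.comp_mem v f)
    haveI : (RingHom.ker z).IsPrime := RingHom.ker_isPrime z
    have hmem : (⟨RingHom.ker z, ‹_›⟩ : PrimeSpectrum R) ∈
        closure (Set.range (PrimeSpectrum.comap (GLin.orbitHom k A x).toRingHom)) := by
      rw [PrimeSpectrum.closure_range_comap, PrimeSpectrum.mem_zeroLocus, SetLike.coe_subset_coe]
      exact hle
    rw [hc.closure_eq] at hmem
    obtain ⟨P, hP⟩ := hmem
    intro w f hw hf
    by_contra hxf
    have h1 : f ∈ P.asIdeal.comap (GLin.orbitHom k A x).toRingHom :=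
      (congrArg PrimeSpectrum.asIdeal hP).ge (RingHom.mem_ker.2 (hz0 w f hw hf))
    rw [Ideal.mem_comap] at h1
    change GLin.orbitHom k A x f ∈ P.asIdeal at h1
    rw [horb w f hf, Algebra.smul_def] at h1
    exact P.isPrime.ne_top (Ideal.eq_top_of_isUnit_mem _ h1
      (((isUnit_iff_ne_zero.2 hxf).map (algebraMap k A)).mul (hunit w)))
  · intro h
    have hfx : GLin.orbitHom k A x = (Algebra.ofId k A).comp x := hfix.2 h
    suffices e : Set.range (PrimeSpectrum.comap (GLin.orbitHom k A x).toRingHom) = {⟨RingHom.ker x, hmax.isPrime⟩} by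
      rw [e]
      exact (PrimeSpectrum.isClosed_singleton_iff_isMaximal _).2 hmax
    haveI : Nontrivial A := (Bialgebra.counitAlgHom k A).toRingHom.domain_nontrivial
    have key : ∀ P : PrimeSpectrum A,
        PrimeSpectrum.comap (GLin.orbitHom k A x).toRingHom P = ⟨RingHom.ker x, hmax.isPrime⟩ := fun P => by
      refine PrimeSpectrum.ext (hmax.eq_of_le (Ideal.IsPrime.ne_top inferInstance) fun f hf => ?_).symm
      change GLin.orbitHom k A x f ∈ P.asIdeal
      rw [hfx, AlgHom.comp_apply, RingHom.mem_ker.1 hf, map_zero]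
      exact P.asIdeal.zero_mem
    obtain ⟨P⟩ := (inferInstance : Nonempty (PrimeSpectrum A))
    exact Set.eq_singleton_iff_unique_mem.2 ⟨⟨P, key P⟩, by rintro _ ⟨Q, rfl⟩; exact key Q⟩

end Groth.Agent.S15123
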