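import Groth.Statements.S15125
import Mathlib
-- import your own Groth.Agent.* helpers here

set_option autoImplicit false
universe u
open scoped TensorProduct
open Fields

namespace Groth.Agent.S15125

section Helpers
variable {K L : Type u} [Field K] [Field L] [Algebra K L]

theorem D_eq_zero_of_mul {F : Type u} [Field F] [Algebra K F] (x : F) (s : F ⊗[K] F)
    (hs : Algebra.TensorProduct.lmul' K (S := F) s ≠ 0)
    (h : s * (x ⊗ₜ[K] (1 : F) - (1 : F) ⊗ₜ x) = 0) : KaehlerDifferential.D K F x = 0 := by
  set c := Algebra.TensorProduct.lmul' K (S := F) s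
  set d := (1 : F) ⊗ₜ[K] x - x ⊗ₜ (1 : F) with hd
  have hdI : d ∈ KaehlerDifferential.ideal K F :=
    KaehlerDifferential.one_smul_sub_smul_one_mem_ideal K x
  have hsd : s * d = 0 := by
    rw [hd, ← neg_sub, mul_neg, h, neg_zero]
  have hm : (c⁻¹ ⊗ₜ[K] (1 : F)) * ((c ⊗ₜ 1 - s) * d) ∈ KaehlerDifferential.ideal K F ^ 2 := by
    refine Ideal.mul_mem_left _ _ ?_
    rw [pow_two]
    exact Ideal.mul_mem_mul (by simp [KaehlerDifferential.ideal, c]) hdI
  rw [sub_mul, hsd, sub_zero, ← mul_assoc, Algebra.TensorProduct.tmul_mul_tmul,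
    inv_mul_cancel₀ hs, one_mul, ← Algebra.TensorProduct.one_def, one_mul] at hm
  show (KaehlerDifferential.ideal K F).toCotangent ⟨d, hdI⟩ = 0
  rwa [Ideal.toCotangent_eq_zero]

theorem exists_restrict (F : IntermediateField K L) (x : F) (u : L ⊗[K] L)
    (hu : Algebra.TensorProduct.lmul' K (S := L) u ≠ 0)
    (h : u * ((x : L) ⊗ₜ[K] (1 : L) - (1 : L) ⊗ₜ (x : L)) = 0) :
    ∃ s : F ⊗[K] F, Algebra.TensorProduct.lmul' K (S := F) s ≠ 0 ∧
      s * (x ⊗ₜ[K] (1 : F) - (1 : F) ⊗ₜ x) = 0 := by
  classical
  let b := Module.Free.chooseBasis F L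
  let c := fun i => ((b.coord i).restrictScalars K : L →ₗ[K] F)
  let φ := fun i j => TensorProduct.map (c i) (c j)
  have hφ : ∀ i j, φ i j u * (x ⊗ₜ[K] (1 : F) - (1 : F) ⊗ₜ x) = 0 := by
    intro i j
    have key : ∀ z : L ⊗[K] L, φ i j (z * ((x : L) ⊗ₜ[K] (1 : L) - (1 : L) ⊗ₜ (x : L))) =
        φ i j z * (x ⊗ₜ[K] (1 : F) - (1 : F) ⊗ₜ x) := by
      intro z
      induction z using TensorProduct.induction_on with
      | zero => simp
      | tmul y w =>
        have hy : c i (y * (x : L)) = c i y * x := by
          rw [mul_comm]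
          show b.coord i (x • y) = _
          rw [map_smul, smul_eq_mul, mul_comm]
          rfl
        have hw : c j (w * (x : L)) = c j w * x := by
          rw [mul_comm]
          show b.coord j (x • w) = _
          rw [map_smul, smul_eq_mul, mul_comm]
          rfl
        simp only [mul_sub, Algebra.TensorProduct.tmul_mul_tmul, mul_one, map_sub, φ,
          TensorProduct.map_tmul, hy, hw]
      | add z w hz hw => simp only [add_mul, map_add, hz, hw]
    rw [← key, h, map_zero]
  by_contra! hne
  apply hu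
  have hzero : ∀ i j, Algebra.TensorProduct.lmul' K (S := F) (φ i j u) = 0 := fun i j => by
    by_contra hc
    exact hne _ hc (hφ i j)
  let q : L ⊗[K] L →ₗ[K] L ⊗[F] L :=
    TensorProduct.lift ((TensorProduct.mk F L L).restrictScalars₁₂ K K)
  have hq : ∀ z i j, (b.tensorProduct b).repr (q z) (i, j) =
      Algebra.TensorProduct.lmul' K (S := F) (φ i j z) := by
    intro z i j
    induction z using TensorProduct.induction_on with
    | zero => simp
    | tmul y w => simp [q, φ, c, mul_comm]
    | add z w hz hw => simp [hz, hw]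
  have hqu : q u = 0 := by
    apply (b.tensorProduct b).repr.injective
    ext ⟨i, j⟩
    simp [hq, hzero]
  have hμ : ∀ z, Algebra.TensorProduct.lmul' K (S := L) z =
      Algebra.TensorProduct.lmul' F (S := L) (q z) := by
    intro z
    induction z using TensorProduct.induction_on with
    | zero => simp
    | tmul y w => simp [q]
    | add z w hz hw => simp [hz, hw]
  rw [hμ, hqu, map_zero]

theorem isSeparable_of_D_eq_zero (x : L)
    (h : KaehlerDifferential.D K (IntermediateField.adjoin K {x})
      ⟨x, IntermediateField.mem_adjoin_simple_self K x⟩ = 0) : IsSeparable K x := by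
  set F := IntermediateField.adjoin K {x}
  have hD : ∀ y (hy : y ∈ F), KaehlerDifferential.D K F ⟨y, hy⟩ = 0 := by
    intro y hy
    induction hy using IntermediateField.adjoin_induction with
    | mem y hy =>
      obtain rfl : y = x := hy
      exact h
    | algebraMap a => exact (KaehlerDifferential.D K F).map_algebraMap a
    | add y z hy hz h1 h2 =>
      show KaehlerDifferential.D K F (⟨y, hy⟩ + ⟨z, hz⟩) = 0
      rw [map_add, h1, h2, add_zero]
    | inv y hy h1 =>
      show KaehlerDifferential.D K F ((⟨y, hy⟩ : F)⁻¹) = 0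
      rw [Derivation.leibniz_inv, h1, smul_zero]
    | mul y z hy hz h1 h2 =>
      show KaehlerDifferential.D K F (⟨y, hy⟩ * ⟨z, hz⟩) = 0
      rw [Derivation.leibniz, h1, h2, smul_zero, smul_zero, add_zero]
  have : Subsingleton (Ω[F⁄K]) := by
    rw [← Submodule.subsingleton_iff F, ← subsingleton_iff_bot_eq_top, eq_comm,
      ← KaehlerDifferential.span_range_derivation, Submodule.span_eq_bot]
    rintro _ ⟨⟨y, hy⟩, rfl⟩
    exact hD y hy
  have : Algebra.FormallyUnramified K F := ⟨this⟩
  have : Algebra.EssFiniteType K F := by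
    rw [IntermediateField.essFiniteType_iff]
    exact IntermediateField.fg_adjoin_of_finite (Set.finite_singleton x)
  have : Algebra.IsSeparable K F := (Algebra.FormallyUnramified.iff_isSeparable K F).1 ‹_›
  have := Algebra.IsSeparable.isSeparable K (⟨x, IntermediateField.mem_adjoin_simple_self K x⟩ : F)
  rwa [IsSeparable, IntermediateField.minpoly_eq] at this

end Helpers


/-- Let L be a finitely generated field extension of K, and I ⊆ L ⊗_K L the kernel of multiplication L
⊗_K L → L. An element x of L has the property that x ⊗ 1 and 1 ⊗ x have the same image in the I-adic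
completion of L ⊗_K L if and only if x is separable algebraic over K. Equivalently, the equaliser of
the two natural maps from L to that completion is the separable algebraic closure of K in L. -/
theorem result
    (K L : Type u) [Field K] [Field L] [Algebra K L]
    (hfg : (⊤ : IntermediateField K L).FG) (x : L) :
    AdicCompletion.of (KaehlerDifferential.ideal K L) (L ⊗[K] L) (x ⊗ₜ[K] (1 : L)) =
        AdicCompletion.of (KaehlerDifferential.ideal K L) (L ⊗[K] L) ((1 : L) ⊗ₜ[K] x) ↔
      x ∈ separableClosure K L := by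
  set I := KaehlerDifferential.ideal K L
  have : Algebra.EssFiniteType K L := IntermediateField.fg_top_iff.1 hfg
  have : IsNoetherianRing (L ⊗[K] L) := Algebra.EssFiniteType.isNoetherianRing L (L ⊗[K] L)
  set d := x ⊗ₜ[K] (1 : L) - (1 : L) ⊗ₜ[K] x with hd
  have hdI : d ∈ I := by simp [I, KaehlerDifferential.ideal, hd]
  have hiff : AdicCompletion.of I (L ⊗[K] L) (x ⊗ₜ[K] (1 : L)) =
      AdicCompletion.of I (L ⊗[K] L) ((1 : L) ⊗ₜ[K] x) ↔ ∃ r : I, (r : L ⊗[K] L) • d = d := by
    rw [← Ideal.mem_iInf_smul_pow_eq_bot_iff, ← sub_eq_zero, ← map_sub, ← hd, Submodule.mem_iInf]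
    constructor
    · intro h n
      have := congrArg (fun a => a.1 n) h
      rwa [AdicCompletion.of_apply, Submodule.mkQ_apply, AdicCompletion.val_zero_apply,
        Submodule.Quotient.mk_eq_zero] at this
    · intro h
      ext n
      rw [AdicCompletion.of_apply, Submodule.mkQ_apply, AdicCompletion.val_zero_apply,
        Submodule.Quotient.mk_eq_zero]
      exact h n
  rw [hiff, mem_separableClosure_iff]
  constructor
  · rintro ⟨⟨r, hr⟩, hrd⟩
    rw [smul_eq_mul] at hrd
    have hr' : Algebra.TensorProduct.lmul' K (S := L) r = 0 := hr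
    obtain ⟨s, hs, hsd⟩ := exists_restrict (IntermediateField.adjoin K {x})
      ⟨x, IntermediateField.mem_adjoin_simple_self K x⟩ (1 - r)
      (by simp [hr']) (by rw [sub_mul, one_mul, hrd, sub_self])
    exact isSeparable_of_D_eq_zero x (D_eq_zero_of_mul _ s hs hsd)
  · intro hx
    set f := minpoly K x
    set g := f.map (algebraMap K (L ⊗[K] L))
    have ha : g.eval (x ⊗ₜ[K] (1 : L)) = 0 := by
      rw [Polynomial.eval_map_algebraMap, ← Algebra.TensorProduct.includeLeft_apply (S := K),
        Polynomial.aeval_algHom_apply, minpoly.aeval, map_zero]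
    have hb : g.eval ((1 : L) ⊗ₜ[K] x) = 0 := by
      rw [Polynomial.eval_map_algebraMap, ← Algebra.TensorProduct.includeRight_apply,
        Polynomial.aeval_algHom_apply, minpoly.aeval, map_zero]
    obtain ⟨k, hk⟩ := Polynomial.binomExpansion g ((1 : L) ⊗ₜ[K] x) d
    rw [show (1 : L) ⊗ₜ[K] x + d = x ⊗ₜ[K] (1 : L) by rw [hd]; abel, ha, hb, zero_add] at hk
    set c := Polynomial.aeval x (Polynomial.derivative f)
    have hc : c ≠ 0 := hx.aeval_derivative_ne_zero (minpoly.aeval K x)
    set gg := g.derivative.eval ((1 : L) ⊗ₜ[K] x) + k * d with hgg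
    have hgd : gg * d = 0 := by rw [hk, hgg]; ring
    have hμ : Algebra.TensorProduct.lmul' K (S := L) gg = c := by
      have : Algebra.TensorProduct.lmul' K (S := L) d = 0 := hdI
      rw [hgg, map_add, map_mul, this, mul_zero, add_zero, Polynomial.derivative_map,
        Polynomial.eval_map_algebraMap, ← Polynomial.aeval_algHom_apply]
      simp [c]
    refine ⟨⟨(c⁻¹ ⊗ₜ[K] (1 : L)) * (c ⊗ₜ[K] (1 : L) - gg), Ideal.mul_mem_left _ _ ?_⟩, ?_⟩
    · simp [I, KaehlerDifferential.ideal, hμ]
    · simp only [smul_eq_mul]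
      rw [mul_assoc, sub_mul, hgd, sub_zero, ← mul_assoc, Algebra.TensorProduct.tmul_mul_tmul,
        inv_mul_cancel₀ hc, one_mul, ← Algebra.TensorProduct.one_def, one_mul]

end Groth.Agent.S15125
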