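import Groth.Statements.S15126
import Mathlib

set_option autoImplicit false
universe u
open Formal

namespace Groth.Agent.S15126

/-- Affine case. Let k be a field, n > 0, and R a commutative algebra over the power series ring
k[[z_1,…,z_n]]; for a commutative k-algebra Q regard Q[[z_1,…,z_n]] as a k[[z]]-algebra
coefficientwise. Then the functor Q ↦ Hom_{k[[z]]-alg}(R, Q[[z]]) on commutative k-algebras is
corepresentable: there exist a commutative k-algebra P and a k[[z]]-algebra homomorphism u : R →
P[[z]] such that every k[[z]]-algebra homomorphism R → Q[[z]] arises from u by applying a unique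
k-algebra homomorphism P → Q coefficientwise. If moreover R is countably generated as a
k[[z]]-algebra, P may be taken countably generated over k. (The published statement is for an adic
formal scheme Y over the formal disc Spf k[[z]], asserting that the sheaf of sections of Y over the
disc is a scheme, affine over the fibre of Y at the origin, and of pro-finite type when Y is; this
row is the case Y = Spf R, to which the published argument reduces, stated for the underlying
algebra R; k is algebraically closed there, which is not used.) -/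
theorem result
    (k : Type u) [Field k] (n : ℕ) (hn : 0 < n)
    (R : Type u) [CommRing R] [Algebra (MvPowerSeries (Fin n) k) R] :
    ∃ (P : Type u) (_ : CommRing P) (_ : Algebra k P)
      (u : R →ₐ[MvPowerSeries (Fin n) k] MvPowerSeries (Fin n) P),
      (∀ (Q : Type u) [CommRing Q] [Algebra k Q]
          (f : R →ₐ[MvPowerSeries (Fin n) k] MvPowerSeries (Fin n) Q),
          ∃! g : P →ₐ[k] Q,
            (MvPowerSeries.map (σ := Fin n) (g : P →+* Q)).comp (u : R →+* MvPowerSeries (Fin n) P) =
              (f : R →+* MvPowerSeries (Fin n) Q)) ∧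
      ((∃ s : Set R, s.Countable ∧ Algebra.adjoin (MvPowerSeries (Fin n) k) s = ⊤) →
        ∃ t : Set P, t.Countable ∧ Algebra.adjoin k t = ⊤) := by
  classical
  let V := R × (Fin n →₀ ℕ)
  let U : R → MvPowerSeries (Fin n) (MvPolynomial V k) := fun r e => MvPolynomial.X (r, e)
  let Φ := MvPowerSeries.map (σ := Fin n) (algebraMap k (MvPolynomial V k))
  let Rel : Set (MvPolynomial V k) :=
    {p | (∃ r s e, p = MvPowerSeries.coeff e (U (r + s) - U r - U s)) ∨
      (∃ r s e, p = MvPowerSeries.coeff e (U (r * s) - U r * U s)) ∨
      ∃ c e, p = MvPowerSeries.coeff e (U (algebraMap (MvPowerSeries (Fin n) k) R c) - Φ c)}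
  let J := Ideal.span Rel
  let P := MvPolynomial V k ⧸ J
  let q : MvPowerSeries (Fin n) (MvPolynomial V k) →+* MvPowerSeries (Fin n) P :=
    MvPowerSeries.map (Ideal.Quotient.mk J)
  have hq : ∀ a b : MvPowerSeries (Fin n) (MvPolynomial V k),
      (∀ e, MvPowerSeries.coeff e (a - b) ∈ J) → q a = q b := by
    intro a b h
    ext e
    simp only [q, MvPowerSeries.coeff_map]
    rw [Ideal.Quotient.eq, ← map_sub]
    exact h e
  have hadd : ∀ r s, q (U (r + s)) = q (U r) + q (U s) := by
    intro r s
    rw [← map_add]
    refine hq _ _ fun e => ?_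
    rw [← sub_sub]
    exact Ideal.subset_span (Or.inl ⟨r, s, e, rfl⟩)
  have hmul : ∀ r s, q (U (r * s)) = q (U r) * q (U s) := by
    intro r s
    rw [← map_mul]
    exact hq _ _ fun e => Ideal.subset_span (Or.inr (Or.inl ⟨r, s, e, rfl⟩))
  have halg : ∀ c, q (U (algebraMap (MvPowerSeries (Fin n) k) R c)) =
      algebraMap (MvPowerSeries (Fin n) k) (MvPowerSeries (Fin n) P) c := by
    intro c
    refine (hq _ (Φ c) fun e => Ideal.subset_span (Or.inr (Or.inr ⟨c, e, rfl⟩))).trans ?_
    ext e
    rfl
  have h0 : q (U 0) = 0 := by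
    have := halg 0
    rwa [map_zero, map_zero] at this
  have h1 : q (U 1) = 1 := by
    have := halg 1
    rwa [map_one, map_one] at this
  let u : R →ₐ[MvPowerSeries (Fin n) k] MvPowerSeries (Fin n) P :=
    { toFun := fun r => q (U r)
      map_one' := h1
      map_mul' := hmul
      map_zero' := h0
      map_add' := hadd
      commutes' := halg }
  refine ⟨P, inferInstance, inferInstance, u, fun Q _ _ f => ?_, ?_⟩
  · let g0 : MvPolynomial V k →ₐ[k] Q := MvPolynomial.aeval fun v => MvPowerSeries.coeff v.2 (f v.1)
    have hg0 : ∀ r, MvPowerSeries.map (σ := Fin n) (g0 : MvPolynomial V k →+* Q) (U r) = f r := by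
      intro r
      ext e
      exact MvPolynomial.aeval_X _ (r, e)
    have hΦ : ∀ c, MvPowerSeries.map (σ := Fin n) (g0 : MvPolynomial V k →+* Q) (Φ c) =
        algebraMap (MvPowerSeries (Fin n) k) (MvPowerSeries (Fin n) Q) c := by
      intro c
      ext e
      exact g0.commutes _
    have hJ : ∀ p ∈ J, g0 p = 0 := by
      intro p hp
      refine (Ideal.span_le.2 ?_ : J ≤ RingHom.ker (g0 : MvPolynomial V k →+* Q)) hp
      intro x hx
      have key : ∀ (a : MvPowerSeries (Fin n) (MvPolynomial V k)) (e : Fin n →₀ ℕ),
          (g0 : MvPolynomial V k →+* Q) (MvPowerSeries.coeff e a) =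
            MvPowerSeries.coeff e (MvPowerSeries.map (g0 : MvPolynomial V k →+* Q) a) := fun a e =>
        (MvPowerSeries.coeff_map _ _ _).symm
      rcases hx with ⟨r, s, e, rfl⟩ | ⟨r, s, e, rfl⟩ | ⟨c, e, rfl⟩ <;>
        rw [SetLike.mem_coe, RingHom.mem_ker, key]
      · simp only [map_sub, hg0, map_add, add_sub_cancel_left, sub_self, map_zero]
      · rw [map_sub, map_mul (MvPowerSeries.map _), hg0, hg0, hg0, map_mul f, sub_self, map_zero]
      · rw [map_sub, hg0, hΦ, AlgHom.commutes, sub_self, map_zero]
    let g : P →ₐ[k] Q := Ideal.Quotient.liftₐ J g0 hJ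
    refine ⟨g, ?_, fun g' hg' => ?_⟩
    · refine RingHom.ext fun r => MvPowerSeries.ext fun e => ?_
      exact MvPolynomial.aeval_X _ (r, e)
    · refine Ideal.Quotient.algHom_ext _ (MvPolynomial.algHom_ext fun v => ?_)
      have := congrArg (MvPowerSeries.coeff v.2) (RingHom.congr_fun hg' v.1)
      exact this.trans (MvPolynomial.aeval_X (fun v : V => MvPowerSeries.coeff v.2 (f v.1)) v).symm
  · rintro ⟨s, hs, hadj⟩
    refine ⟨Set.image2 (fun r e => MvPowerSeries.coeff e (u r)) s Set.univ,
      hs.image2 Set.countable_univ _, ?_⟩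
    set B := Algebra.adjoin k (Set.image2 (fun r e => MvPowerSeries.coeff e (u r)) s Set.univ)
    have hall : ∀ r : R, ∀ e, MvPowerSeries.coeff e (u r) ∈ B := by
      intro r
      have hr : r ∈ Algebra.adjoin (MvPowerSeries (Fin n) k) s := hadj ▸ Algebra.mem_top
      induction hr using Algebra.adjoin_induction with
      | mem x hx => exact fun e => Algebra.subset_adjoin ⟨x, hx, e, trivial, rfl⟩
      | algebraMap c =>
        intro e
        rw [AlgHom.commutes]
        exact B.algebraMap_mem _
      | add x y _ _ hx hy => exact fun e => by rw [map_add, map_add]; exact add_mem (hx e) (hy e)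
      | mul x y _ _ hx hy =>
        intro e
        rw [map_mul, MvPowerSeries.coeff_mul]
        exact sum_mem fun p _ => mul_mem (hx _) (hy _)
    refine eq_top_iff.2 fun p _ => ?_
    obtain ⟨p, rfl⟩ := Ideal.Quotient.mk_surjective p
    induction p using MvPolynomial.induction_on with
    | C a => exact B.algebraMap_mem a
    | add a b ha hb => rw [map_add]; exact add_mem (ha trivial) (hb trivial)
    | mul_X a v ha =>
      rw [map_mul]
      exact mul_mem (ha trivial) (hall v.1 v.2)

end Groth.Agent.S15126
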