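import Groth.Statements.S15127
import Groth.Agent.Lib.AffQuot.Orbit
import Groth.Agent.Lib.Hopf.Sub
import Groth.Agent.Lib.HopfAG.UnipFun
import Groth.Agent.Lib.Comod.Semi

set_option autoImplicit false
set_option linter.style.haveILetI false

universe u
open scoped TensorProduct
open GLin

namespace Groth.Agent.S15127

open TensorProduct GrothLib.AffQuot

variable {k : Type u} [Field k]

/-- A point in the orbit closure of a point under a unipotent group has the same orbit closure. -/
theorem cl_symm {H : Type u} [CommRing H] [HopfAlgebra k H] (hU : HopfRep.IsUnipotent k H)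
    {R : Type u} [CommRing R] [Algebra k R] [HopfRep.Comod k H R] [GLin.IsCoactAlg k H R]
    {x z : R →ₐ[k] k} (h : Cl k H x z) : Cl k H z x := by
  intro f hf
  let φx := (GLin.orbitHom k H x).toLinearMap
  let I := LinearMap.ker (GLin.orbitHom k H z).toLinearMap
  have hI : HopfRep.IsSubcomod (k := k) (A := H) (I.map φx) :=
    GrothLib.Comodule.IsComodHom.map_isSubcomod (isComodHom_orbitHom x)
      (GrothLib.Comodule.IsComodHom.ker_isSubcomod (isComodHom_orbitHom z))
  obtain ⟨U, hUfin, hfU, hUsub⟩ := GrothLib.Comodule.exists_finite_subcomod (k := k) (C := H) (φx f)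
  let S := U ⊓ I.map φx
  have hS : HopfRep.IsSubcomod (k := k) (A := H) S := GrothLib.Comodule.isSubcomod_inf hUsub hI
  haveI := hUfin
  haveI : FiniteDimensional k S := Submodule.finiteDimensional_of_le inf_le_left
  have hzero : φx f = 0 := by
    by_contra hne
    letI := ComodSub.Comod.restr (A := H) (inferInstance : HopfRep.Comod k H H) S hS
    have hsub : Hoch.IsComodHom H S.subtype := ComodSub.isComodHom_subtype (inferInstance : HopfRep.Comod k H H) S hS
    haveI : Nontrivial S := ⟨⟨⟨φx f, hfU, f, hf, rfl⟩, 0, fun e => hne (congrArg Subtype.val e)⟩⟩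
    obtain ⟨v, hv, hv0⟩ := (Submodule.ne_bot_iff _).1 (hU S inferInstance inferInstance)
    have hfix : Coalgebra.comul (R := k) (v : H) = (v : H) ⊗ₜ[k] (1 : H) := by
      have h1 := GrothLib.Comodule.IsComodHom.apply hsub v
      rw [show HopfRep.Comod.coact (k := k) (A := H) v = v ⊗ₜ[k] (1 : H) from hv, LinearMap.rTensor_tmul] at h1
      exact h1
    have hconst : (v : H) = algebraMap k H (Coalgebra.counit (R := k) (v : H)) := by
      have h2 := congrArg (TensorProduct.lid k H) (Coalgebra.rTensor_counit_comul (R := k) (v : H))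
      rw [hfix, LinearMap.rTensor_tmul, TensorProduct.lid_tmul, TensorProduct.lid_tmul, one_smul] at h2
      rw [Algebra.algebraMap_eq_smul_one]
      exact h2.symm
    obtain ⟨e, he, hev⟩ := v.2.2
    have h3 := h (e - algebraMap k R (Coalgebra.counit (R := k) (v : H))) (by
      rw [map_sub, AlgHom.commutes, ← hconst]
      exact sub_eq_zero.2 hev)
    have hze : z e = 0 := by
      rw [← counit_orbitHom (A := H) z e, show GLin.orbitHom k H z e = 0 from he, map_zero]
    rw [map_sub, AlgHom.commutes, hze, zero_sub, neg_eq_zero] at h3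
    refine hv0 (Subtype.ext ?_)
    rw [hconst, show Coalgebra.counit (R := k) (v : H) = 0 from h3, map_zero]
    rfl
  rw [← counit_orbitHom (A := H) x f, show GLin.orbitHom k H x f = 0 from hzero, map_zero]


/-- Let k be an algebraically closed field, H a commutative Hopf k-algebra such that every nonzero
finite-dimensional H-comodule has a nonzero fixed vector (the affine group U = Spec H is unipotent),
which is the increasing union of a sequence of finitely generated subalgebras B_0 ⊆ B_1 ⊆ ⋯ each
stable under comultiplication and antipode, with H free as a module over each B_i (so U is the limit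
of the unipotent algebraic quotients Spec B_i). Let A be a countably generated commutative k-algebra
with a multiplicative H-coaction (an action of U on the affine scheme Spec A) and x : A → k a
k-point. Then the orbit of x under U is closed: the image of the orbit morphism Spec H → Spec A is a
closed subset. (The published statement is for a pro-unipotent group — a countable successive
extension of copies of the additive group — acting on an affine scheme that is a countable limit of
affine schemes of finite type; such a group has coordinate ring a polynomial ring in countably many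
variables filtered by the finitely generated Hopf subalgebras of its algebraic quotients, hence
satisfies the hypotheses here, which are the ones the argument uses.) -/
theorem result
    (k : Type u) [Field k] [IsAlgClosed k]
    (H : Type u) [CommRing H] [HopfAlgebra k H]
    (hU : HopfRep.IsUnipotent k H)
    (B : ℕ → Subalgebra k H) (hmono : Monotone B) (hcov : ∀ h : H, ∃ i, h ∈ B i)
    (hfg : ∀ i, (B i).FG)
    (hcomul : ∀ i, ∀ b ∈ B i, CoalgebraStruct.comul (R := k) (A := H) b ∈
      LinearMap.range (TensorProduct.map (B i).val.toLinearMap (B i).val.toLinearMap))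
    (hanti : ∀ i, ∀ b ∈ B i, HopfAlgebraStruct.antipode (R := k) (A := H) b ∈ B i)
    (hfree : ∀ i, Module.Free (B i) H)
    (A : Type u) [CommRing A] [Algebra k A] [HopfRep.Comod k H A] [GLin.IsCoactAlg k H A]
    (hA : ∃ s : Set A, s.Countable ∧ Algebra.adjoin k s = ⊤)
    (x : A →ₐ[k] k) :
    GLin.IsClosedOrbit k H x := by
  classical
  suffices hsub : PrimeSpectrum.zeroLocus ((RingHom.ker (GLin.orbitHom k H x).toRingHom : Ideal A) : Set A) ⊆
      Set.range (PrimeSpectrum.comap (GLin.orbitHom k H x).toRingHom) by
    refine closure_subset_iff_isClosed.1 ?_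
    rw [PrimeSpectrum.closure_range_comap]
    exact hsub
  intro P hP
  rw [PrimeSpectrum.mem_zeroLocus, SetLike.coe_subset_coe] at hP
  rw [PrimeSpectrum.mem_range_comap_iff]
  refine le_antisymm (fun s hs => ?_) Ideal.le_comap_map
  by_contra hsP
  let φ := GLin.orbitHom k H x
  obtain ⟨T, hT, hsT⟩ := Submodule.mem_span_finite_of_mem_span
    (show φ s ∈ Submodule.span H (φ '' (P.asIdeal : Set A)) from hs)
  obtain ⟨p, hp, rfl⟩ := Finset.subset_set_image_iff.1 hT
  obtain ⟨g, -, hg⟩ := Submodule.mem_span_finset.1 hsT
  obtain ⟨W, hW, hle, -, hfgW⟩ := GrothLib.Hopf.Comod.exists_smallest (k := k) (C := H) (V := A)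
    (Submodule.span k ((insert s p : Finset A) : Set A))
  haveI : Module.Finite k W := Module.Finite.iff_fg.2 (hfgW ⟨_, rfl⟩)
  let bW := Module.finBasis k W
  have hρ : ∀ j, ∃ S : Finset (W × H), HopfRep.Comod.coact (k := k) (A := H) (bW j : A) =
      ∑ i ∈ S, (i.1 : A) ⊗ₜ[k] i.2 := fun j => by
    obtain ⟨y, hy⟩ := hW (bW j : A) (bW j).2
    obtain ⟨S, hS⟩ := TensorProduct.exists_finset (R := k) y
    exact ⟨S, by rw [← hy, hS, map_sum]; rfl⟩
  choose S hS using hρ
  let F : Finset H := (Finset.univ.biUnion fun j => (S j).image Prod.snd) ∪ (p.image φ).image g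
  obtain ⟨C, hCfg, hCH, hFC⟩ := GrothLib.Hopf.Sub.exists_fg (k := k) F
  let A' : Subalgebra k A := Algebra.adjoin k (Set.range fun j => (bW j : A))
  have hWA' : ∀ w : W, (w : A) ∈ A' := fun w => by
    rw [← bW.sum_repr w, Submodule.coe_sum]
    exact sum_mem fun j _ => A'.smul_mem (Algebra.subset_adjoin ⟨j, rfl⟩) _
  let ι2 : ↥A' ⊗[k] ↥C →ₐ[k] A ⊗[k] H := Algebra.TensorProduct.map A'.val C.val
  have hι2 : Function.Injective ι2 :=
    TensorProduct.map_injective_of_flat_flat A'.val.toLinearMap C.val.toLinearMap Subtype.val_injective Subtype.val_injective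
  have hrange : ∀ a : A', GLin.coactAlgHom k H A (a : A) ∈ ι2.range := by
    intro a
    refine (show A' ≤ ι2.range.comap (GLin.coactAlgHom k H A) from Algebra.adjoin_le ?_) a.2
    rintro _ ⟨j, rfl⟩
    refine ⟨∑ i ∈ (S j).attach, (⟨(i.1.1 : A), hWA' _⟩ : A') ⊗ₜ[k] (⟨i.1.2, hFC (Finset.mem_union_left _
      (Finset.mem_biUnion.2 ⟨j, Finset.mem_univ _, Finset.mem_image_of_mem _ i.2⟩))⟩ : C), ?_⟩
    change ι2 _ = GLin.coactAlgHom k H A (bW j : A)
    rw [GLin.coactAlgHom_apply, hS j, map_sum, ← Finset.sum_attach (S j)]
    exact Finset.sum_congr rfl fun i _ => rfl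
  let c' : A' →ₐ[k] ↥A' ⊗[k] ↥C := (AlgEquiv.ofInjective ι2 hι2).symm.toAlgHom.comp
    (((GLin.coactAlgHom k H A).comp A'.val).codRestrict ι2.range hrange)
  have hc' : ∀ a : A', ι2 (c' a) = HopfRep.Comod.coact (k := k) (A := H) (a : A) := fun a => by
    have h := AlgEquiv.ofInjective_apply ι2 hι2 (c' a)
    simp only [c', AlgHom.comp_apply] at h
    erw [AlgEquiv.apply_symm_apply] at h
    exact h.symm
  letI := GrothLib.Hopf.Sub.hopfAlgebra hCH
  let v := GrothLib.Hopf.Sub.valHom hCH
  have hv : Function.Injective v := Subtype.val_injective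
  have hUC : HopfRep.IsUnipotent k C := GrothLib.Unip.isUnipotent_of_injective v hv hU
  haveI : Algebra.FiniteType k C := ⟨(Subalgebra.fg_top C).2 hCfg⟩
  haveI : Algebra.FiniteType k A' := ⟨(Subalgebra.fg_top A').2 (Subalgebra.fg_def.2 ⟨_, Set.finite_range _, rfl⟩)⟩
  letI cA' : HopfRep.Comod k C A' :=
    { coact := c'.toLinearMap
      coassoc := by
        refine LinearMap.ext fun a => ?_
        have hi : Function.Injective (TensorProduct.map A'.val.toLinearMap
            (TensorProduct.map C.val.toLinearMap C.val.toLinearMap)) :=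
          TensorProduct.map_injective_of_flat_flat _ _ Subtype.val_injective
            (TensorProduct.map_injective_of_flat_flat _ _ Subtype.val_injective Subtype.val_injective)
        apply hi
        have h := LinearMap.congr_fun (HopfRep.Comod.coassoc (k := k) (A := H) (V := A)) (a : A)
        simp only [LinearMap.comp_apply, LinearEquiv.coe_coe] at h ⊢
        have h1 : ∀ t : ↥A' ⊗[k] ↥C, TensorProduct.map A'.val.toLinearMap
            (TensorProduct.map C.val.toLinearMap C.val.toLinearMap)
              (TensorProduct.assoc k A' C C (c'.toLinearMap.rTensor C t)) =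
            TensorProduct.assoc k A H H ((HopfRep.Comod.coact (k := k) (A := H)).rTensor H (ι2 t)) := fun t => by
          induction t using TensorProduct.induction_on with
          | zero => simp
          | tmul q r =>
            rw [show ι2 (q ⊗ₜ[k] r) = (q : A) ⊗ₜ[k] (r : H) from rfl, LinearMap.rTensor_tmul, LinearMap.rTensor_tmul,
              ← hc' q, AlgHom.toLinearMap_apply]
            induction c' q using TensorProduct.induction_on with
            | zero => simp
            | tmul a b => rfl
            | add a b ha hb => simp only [map_add, TensorProduct.add_tmul, ha, hb]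
          | add q r hq hr => simp only [map_add, hq, hr]
        have h2 : ∀ t : ↥A' ⊗[k] ↥C, TensorProduct.map A'.val.toLinearMap
            (TensorProduct.map C.val.toLinearMap C.val.toLinearMap)
              ((Coalgebra.comul (R := k) (A := C)).lTensor A' t) =
            (Coalgebra.comul (R := k) (A := H)).lTensor A (ι2 t) := fun t => by
          induction t using TensorProduct.induction_on with
          | zero => simp
          | tmul q r =>
            rw [show ι2 (q ⊗ₜ[k] r) = (q : A) ⊗ₜ[k] (r : H) from rfl, LinearMap.lTensor_tmul, LinearMap.lTensor_tmul,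
              TensorProduct.map_tmul]
            exact congrArg ((q : A) ⊗ₜ[k] ·) (GrothLib.Hopf.Sub.incl₂_comul hCH r)
          | add q r hq hr => simp only [map_add, hq, hr]
        erw [h1, h2]
        simp only [AlgHom.toLinearMap_apply, hc']
        exact h
      counit_comp := by
        refine LinearMap.ext fun a => ?_
        have hi : Function.Injective (A'.val.toLinearMap.rTensor k) :=
          Module.Flat.rTensor_preserves_injective_linearMap _ Subtype.val_injective
        apply hi
        have h := LinearMap.congr_fun (HopfRep.Comod.counit_comp (k := k) (A := H) (V := A)) (a : A)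
        simp only [LinearMap.comp_apply] at h
        rw [← hc' a] at h
        simp only [LinearMap.comp_apply, LinearMap.flip_apply, TensorProduct.mk_apply, LinearMap.rTensor_tmul,
          AlgHom.toLinearMap_apply] at h ⊢
        refine Eq.trans ?_ h
        generalize c' a = t
        induction t using TensorProduct.induction_on with
        | zero => simp
        | tmul q r => rfl
        | add q r hq hr => simp only [map_add, hq, hr] }
  haveI : GLin.IsCoactAlg k C A' := ⟨map_one c', map_mul c'⟩
  let x' : A' →ₐ[k] k := x.comp A'.val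
  have horb : ∀ a : A', ((GLin.orbitHom k C x' a : C) : H) = φ (a : A) := fun a => by
    have key : ∀ t : ↥A' ⊗[k] ↥C, ((Algebra.TensorProduct.lid k C
        (Algebra.TensorProduct.map x' (AlgHom.id k C) t) : C) : H) =
        Algebra.TensorProduct.lid k H (Algebra.TensorProduct.map x (AlgHom.id k H) (ι2 t)) := fun t => by
      induction t using TensorProduct.induction_on with
      | zero => simp
      | tmul q r => simp [ι2, x']
      | add q r hq hr => simp only [map_add, Subalgebra.coe_add, hq, hr]
    refine (key (c' a)).trans ?_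
    rw [hc']
    rfl
  have hsW : s ∈ A' := hWA' ⟨s, hle (Submodule.subset_span (by simp))⟩
  haveI : (P.asIdeal.comap A'.val).IsPrime := Ideal.IsPrime.comap _
  obtain ⟨z, hz, hzs⟩ := exists_point_ne_zero (k := k) (p := P.asIdeal.comap A'.val) (f := (⟨s, hsW⟩ : A')) hsP
  have hcl : Cl k C x' z := fun a ha => by
    refine hz a (hP (RingHom.mem_ker.2 ?_))
    show φ (a : A) = 0
    rw [← horb a, ha]
    rfl
  obtain ⟨u, hu⟩ := orb_of_cl_cl hcl (cl_symm hUC hcl)
  refine hzs ?_
  have hgC : ∀ q ∈ p, g (φ q) ∈ C := fun q hq =>
    hFC (Finset.mem_union_right _ (Finset.mem_image_of_mem g (Finset.mem_image_of_mem φ hq)))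
  have hmemA : ∀ q ∈ p, q ∈ A' := fun q hq =>
    hWA' ⟨q, hle (Submodule.subset_span (Finset.mem_coe.2 (Finset.mem_insert_of_mem hq)))⟩
  have hdec : (GLin.orbitHom k C x' ⟨s, hsW⟩ : C) ∈ RingHom.ker u := by
    have hmem : ∀ y ∈ p.image φ, ∃ w : C, (w : H) = y ∧ u w = 0 := fun y hy => by
      obtain ⟨q, hq, rfl⟩ := Finset.mem_image.1 hy
      refine ⟨GLin.orbitHom k C x' ⟨q, hmemA q hq⟩, horb _, ?_⟩
      rw [← AlgHom.comp_apply, hu]
      exact hz _ (hp hq)
    choose! w hw hw0 using hmem
    have e : (GLin.orbitHom k C x' ⟨s, hsW⟩ : C) = ∑ y ∈ (p.image φ).attach,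
        (⟨g y.1, hFC (Finset.mem_union_right _ (Finset.mem_image_of_mem g y.2))⟩ : C) * w y.1 := by
      apply Subtype.ext
      rw [horb, AddSubmonoidClass.coe_finsetSum]
      refine hg.symm.trans ?_
      rw [← Finset.sum_attach (p.image φ)]
      exact Finset.sum_congr rfl fun y _ => by rw [Subalgebra.coe_mul, hw y.1 y.2]; rfl
    rw [RingHom.mem_ker, e, map_sum]
    exact Finset.sum_eq_zero fun y _ => by rw [map_mul, hw0 y.1 y.2, mul_zero]
  rw [← hu]
  exact hdec


end Groth.Agent.S15127
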