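import Groth.Statements.S15130
import Mathlib
import Groth.Agent.Lib.ArtinFlat.Complex

set_option autoImplicit false
universe u v
open CAlg

namespace Groth.Agent.S15130

/-- Let A be an Artinian local ring with residue field k and P → Q → R → M → 0 a complex of A-modules
with P, Q, R flat which is exact at R and at M. If the reduced complex k ⊗ P → k ⊗ Q → k ⊗ R is
exact (the rest of the reduced sequence is then automatically exact), then M is flat and the
original complex is exact at Q as well. (The published statement is for local Artinian algebras over
an algebraically closed field of characteristic zero having that field as residue field; this row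
allows any Artinian local ring.) -/
theorem result
    (A : Type u) [CommRing A] [IsLocalRing A] [IsArtinianRing A]
    (P Q R M : Type v) [AddCommGroup P] [Module A P] [AddCommGroup Q] [Module A Q]
    [AddCommGroup R] [Module A R] [AddCommGroup M] [Module A M]
    [Module.Flat A P] [Module.Flat A Q] [Module.Flat A R]
    (f : P →ₗ[A] Q) (g : Q →ₗ[A] R) (h : R →ₗ[A] M)
    (hfg : g ∘ₗ f = 0) (hgh : Function.Exact g h) (hh : Function.Surjective h)
    (hred : Function.Exact (f.lTensor (IsLocalRing.ResidueField A)) (g.lTensor (IsLocalRing.ResidueField A))) :
    Module.Flat A M ∧ Function.Exact f g := by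
  obtain ⟨h1, h2, -⟩ := GrothLib.ArtinFlat.exact_of_reduction f g hfg hred
  exact ⟨Module.Flat.of_linearEquiv (hgh.linearEquivOfSurjective hh).symm, h1⟩

end Groth.Agent.S15130
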