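import Groth.Statements.S15133
import Mathlib
import Groth.Agent.Lib.ArtinFlat.Complex

set_option autoImplicit false
universe u
open CategoryTheory
open CAlg

namespace Groth.Agent.S15133

/-- Let A be an Artinian local ring with residue field k, n ≥ 1, and 0 → I → P₀ → P₁ → ⋯ → Pₙ a complex
of A-modules with P₀, …, Pₙ flat whose reduction 0 → k ⊗ I → k ⊗ P₀ → ⋯ → k ⊗ Pₙ is exact. Then I
and coker(Pₙ₋₁ → Pₙ) are flat. The complex is written as a cochain complex C indexed by ℕ with C⁰ =
I and Cⁱ⁺¹ = Pᵢ; its terms in degrees above n + 1 play no role. (The published statement adds that I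
maps onto the kernel of k ⊗ P₀ → k ⊗ P₁, which is already part of the exactness hypothesis, and is
for local Artinian algebras over an algebraically closed field of characteristic zero having that
field as residue field; this row allows any Artinian local ring.) -/
theorem result
    (A : Type u) [CommRing A] [IsLocalRing A] [IsArtinianRing A] (n : ℕ) (hn : 0 < n)
    (C : CochainComplex (ModuleCat.{u} A) ℕ)
    (hflat : ∀ i, i ≤ n → Module.Flat A (C.X (i + 1)))
    (hred : ∀ j, j ≤ n →
      (((MonoidalCategory.tensorLeft (ModuleCat.of A (IsLocalRing.ResidueField A))).mapHomologicalComplex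
        (ComplexShape.up ℕ)).obj C).ExactAt j) :
    Module.Flat A (C.X 0) ∧ Module.Flat A (C.X (n + 1) ⧸ LinearMap.range (C.d n (n + 1)).hom) := by
  have key : ∀ a b c : ℕ, b = a + 1 → c = b + 1 → b ≤ n →
      Function.Exact ((C.d a b).hom.lTensor (IsLocalRing.ResidueField A))
        ((C.d b c).hom.lTensor (IsLocalRing.ResidueField A)) := by
    rintro a b c rfl rfl hb
    have h := hred (a + 1) hb
    rw [HomologicalComplex.exactAt_iff' _ a (a + 1) (a + 1 + 1) (CochainComplex.prev_nat_succ a)
      (CochainComplex.next ℕ (a + 1))] at h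
    exact ((CategoryTheory.ShortComplex.ShortExact.moduleCat_exact_iff_function_exact _).1 h)
  have hstep : ∀ a : ℕ, a + 1 ≤ n →
      Module.Flat A (C.X (a + 1 + 1) ⧸ LinearMap.range (C.d (a + 1) (a + 1 + 1)).hom) ∧
      Module.Flat A (C.X (a + 1) ⧸ LinearMap.range (C.d a (a + 1)).hom) := fun a ha => by
    haveI := hflat (a + 1) ha
    exact (GrothLib.ArtinFlat.exact_of_reduction (C.d a (a + 1)).hom (C.d (a + 1) (a + 1 + 1)).hom
      (by rw [← ModuleCat.hom_comp, C.d_comp_d, ModuleCat.hom_zero]) (key a _ _ rfl rfl ha)).2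
  obtain ⟨m, rfl⟩ : ∃ m, n = m + 1 := ⟨n - 1, by omega⟩
  refine ⟨?_, (hstep m le_rfl).1⟩
  have h0 := hred 0 (Nat.zero_le _)
  rw [HomologicalComplex.exactAt_iff' _ 0 0 1 CochainComplex.prev_nat_zero
      (CochainComplex.next ℕ 0)] at h0
  have h0' : Function.Exact ((0 : C.X 0 →ₗ[A] C.X 0).lTensor (IsLocalRing.ResidueField A))
      ((C.d 0 1).hom.lTensor (IsLocalRing.ResidueField A)) := by
    have h1 : Function.Exact ((C.d 0 0).hom.lTensor (IsLocalRing.ResidueField A))
        ((C.d 0 1).hom.lTensor (IsLocalRing.ResidueField A)) :=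
      (CategoryTheory.ShortComplex.ShortExact.moduleCat_exact_iff_function_exact _).1 h0
    rwa [C.shape 0 0 (by simp), ModuleCat.hom_zero] at h1
  haveI := hflat 0 (Nat.zero_le _)
  haveI := (GrothLib.ArtinFlat.exact_of_reduction (0 : C.X 0 →ₗ[A] C.X 0) (C.d 0 1).hom
    (LinearMap.comp_zero _) h0').2.2
  exact Module.Flat.of_linearEquiv (M := C.X 0 ⧸ LinearMap.range (0 : C.X 0 →ₗ[A] C.X 0))
    (Submodule.quotEquivOfEqBot _ LinearMap.range_zero).symm

end Groth.Agent.S15133
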