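import Groth.Agent.Lib.ArtFun.SmallExt
import Groth.Statements.S15134
-- import your own Groth.Agent.* helpers here

set_option autoImplicit false
universe u v
open CategoryTheory
open ArtFun

namespace Groth.Agent.S15134

/-- Let k be a field and F a functor on local Artinian k-algebras with residue field k with F(k) a
point. If F satisfies (H2') — the comparison map F(A₁ ×_k A₂) → F(A₁) × F(A₂) is bijective for every
pair of objects — then F satisfies condition (L): for every small extension f : B → A with kernel J,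
writing P = B ×_k B, Q = A ×_k A, r : P → Q for the map induced by f, and C = P/K with K the ideal
of P consisting of the pairs (b, b) with b ∈ J, every element of F(Q) whose two images in F(A) agree
lifts along F(C) → F(Q). Here P and Q are pinned as fibre products over k, K is described through
the two projections, and the two inequalities on K (it lies in the maximal ideal of P and is killed
by r), which always hold, are taken as hypotheses so that the quotient object and the factored map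
can be named. -/
theorem result
    {k : Type u} [Field k] (F : ArtFun.Art k k ⥤ Type v) (h0 : ArtFun.H0 F)
    (h2' : ∀ ⦃P A' A'' : ArtFun.Art k k⦄ (p' : P ⟶ A') (p'' : P ⟶ A'')
      (h : ArtFun.Art.IsFibreProd p' p'' (ArtFun.Art.toBase A') (ArtFun.Art.toBase A'')),
      Function.Bijective (ArtFun.cmp F h))
    ⦃B A : ArtFun.Art k k⦄ (f : B ⟶ A) (hf : ArtFun.Art.IsSmallExt f)
    ⦃P : ArtFun.Art k k⦄ (p₁ p₂ : P ⟶ B)
    (hP : ArtFun.Art.IsFibreProd p₁ p₂ (ArtFun.Art.toBase B) (ArtFun.Art.toBase B))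
    ⦃Q : ArtFun.Art k k⦄ (q₁ q₂ : Q ⟶ A)
    (hQ : ArtFun.Art.IsFibreProd q₁ q₂ (ArtFun.Art.toBase A) (ArtFun.Art.toBase A))
    (r : P ⟶ Q) (hr₁ : r ≫ q₁ = p₁ ≫ f) (hr₂ : r ≫ q₂ = p₂ ≫ f)
    (hK : Ideal.span {z : P | p₁ z = p₂ z ∧ f (p₁ z) = 0} ≤ IsLocalRing.maximalIdeal P)
    (hKr : Ideal.span {z : P | p₁ z = p₂ z ∧ f (p₁ z) = 0} ≤ RingHom.ker r.toAlgHom)
    (y : F.obj Q) (hy : F.map q₁ y = F.map q₂ y) :
    ∃ z : F.obj (ArtFun.Art.quot P (Ideal.span {z : P | p₁ z = p₂ z ∧ f (p₁ z) = 0}) hK),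
      F.map (ArtFun.Art.quotFactor hK r hKr) z = y := by
  obtain ⟨Δ, hΔ₁, hΔ₂⟩ := GrothLib.ArtFun.fp_exists_lift hP (𝟙 B) (𝟙 B) rfl
  obtain ⟨s, hs⟩ := GrothLib.ArtFun.exists_factor hf.1 (Δ ≫ Art.quotMk P _ hK) (fun b hb => by
    rw [GrothLib.ArtFun.mem_ker_iff] at hb ⊢
    refine (GrothLib.ArtFun.quotMk_eq_zero_iff hK).2 (Ideal.subset_span ⟨?_, ?_⟩)
    · exact (GrothLib.ArtFun.apply_congr_hom hΔ₁ b).trans (GrothLib.ArtFun.apply_congr_hom hΔ₂ b).symm
    · exact (congrArg f (GrothLib.ArtFun.apply_congr_hom hΔ₁ b)).trans hb)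
  have e₁ : s ≫ Art.quotFactor hK r hKr ≫ q₁ = 𝟙 A := GrothLib.ArtFun.hom_ext_apply fun a => by
    obtain ⟨b, rfl⟩ := hf.1 a
    refine (GrothLib.ArtFun.apply_congr_hom (g := f) ?_ b : (f ≫ s ≫ Art.quotFactor hK r hKr ≫ q₁) b = f b)
    rw [reassoc_of% hs, ← Category.assoc (Art.quotMk P _ hK), Art.quotMk_quotFactor, hr₁,
      reassoc_of% hΔ₁]
  have e₂ : s ≫ Art.quotFactor hK r hKr ≫ q₂ = 𝟙 A := GrothLib.ArtFun.hom_ext_apply fun a => by
    obtain ⟨b, rfl⟩ := hf.1 a
    refine (GrothLib.ArtFun.apply_congr_hom (g := f) ?_ b : (f ≫ s ≫ Art.quotFactor hK r hKr ≫ q₂) b = f b)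
    rw [reassoc_of% hs, ← Category.assoc (Art.quotMk P _ hK), Art.quotMk_quotFactor, hr₂,
      reassoc_of% hΔ₂]
  refine ⟨F.map s (F.map q₁ y), GrothLib.ArtFun.eq_of_cmp_injective (h2' q₁ q₂ hQ).1 ?_ ?_⟩
  · rw [GrothLib.ArtFun.map_map, GrothLib.ArtFun.map_map, e₁, GrothLib.ArtFun.map_id']
  · rw [GrothLib.ArtFun.map_map, GrothLib.ArtFun.map_map, e₂, GrothLib.ArtFun.map_id', hy]

end Groth.Agent.S15134
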