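import Groth.Agent.Lib.EmbDef.Basic
import Groth.Statements.S15135
-- import your own Groth.Agent.* helpers here

set_option autoImplicit false
universe u v
open Deform

namespace Groth.Agent.S15135

/-- For R-modules M ⊆ N, the first-order embedded deformations of M in N are in canonical bijection with
Hom_R(M, N/M). Writing N ⊗ k[ε] = N ⊕ εN as N × N (the pair (x, y) standing for x + εy), such a
deformation is an R-submodule L of N × N which is stable under multiplication by ε (if (x, y) ∈ L
then (0, x) ∈ L), reduces to M (x ∈ M exactly when (x, y) ∈ L for some y) and is flat over the dual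
numbers, flatness being stated elementwise as: (0, y) ∈ L only if y ∈ M (for a submodule reducing to
M this is the equality of the kernel and the image of ε on L, i.e. flatness over k[ε] when R is an
algebra over a field k). To φ : M → N/M corresponds the submodule of all (x, y) with x ∈ M and y ≡
φ(x) mod M. The first clause says this rule defines exactly one submodule for each φ; the second
says that a submodule has the three properties precisely when its membership is given by this rule
for some φ. (The published statement is a linear isomorphism t_G ≅ Hom_R(M, N/M) for the functor G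
of flat deformations of M inside N ⊗ A over local Artinian algebras A; this row states only the
underlying bijection, and the obstruction half is not stated here.) -/
theorem result
    (R : Type u) [CommRing R] (N : Type v) [AddCommGroup N] [Module R N] (M : Submodule R N) :
    (∀ φ : M →ₗ[R] (N ⧸ M), ∃! L : Submodule R (N × N),
        ∀ x y : N, (x, y) ∈ L ↔ ∃ h : x ∈ M, Submodule.Quotient.mk y = φ ⟨x, h⟩) ∧
    (∀ L : Submodule R (N × N),
      ((∀ x y : N, (x, y) ∈ L → ((0 : N), x) ∈ L) ∧
        (∀ x : N, x ∈ M ↔ ∃ y : N, (x, y) ∈ L) ∧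
        (∀ y : N, ((0 : N), y) ∈ L → y ∈ M)) ↔
      ∃ φ : M →ₗ[R] (N ⧸ M), ∀ x y : N, (x, y) ∈ L ↔ ∃ h : x ∈ M, Submodule.Quotient.mk y = φ ⟨x, h⟩) := by
  refine ⟨fun φ => ?_, fun L => ⟨?_, ?_⟩⟩
  · let L : Submodule R (N × N) :=
      { carrier := {z | ∃ h : z.1 ∈ M, Submodule.Quotient.mk z.2 = φ ⟨z.1, h⟩}
        add_mem' := fun {x y} hx hy => ⟨M.add_mem hx.1 hy.1, by
          rw [Prod.snd_add, Submodule.Quotient.mk_add, hx.2, hy.2, ← map_add]
          exact congrArg φ (Subtype.ext rfl)⟩
        zero_mem' := ⟨M.zero_mem, by rw [Prod.snd_zero, Submodule.Quotient.mk_zero]; exact (map_zero φ).symm⟩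
        smul_mem' := fun c x hx => ⟨M.smul_mem c hx.1, by
          rw [Prod.smul_snd, Submodule.Quotient.mk_smul, hx.2, ← map_smul]
          exact congrArg φ (Subtype.ext rfl)⟩ }
    exact ⟨L, fun x y => Iff.rfl, fun L' h => Submodule.ext fun z => h z.1 z.2⟩
  · rintro ⟨he, hM, hf⟩
    obtain ⟨φ, hφ⟩ := GrothLib.EmbDef.exists_graph M M.mkQ L hM fun y => by
      rw [Submodule.mkQ_apply, Submodule.Quotient.mk_eq_zero]
      refine ⟨hf y, fun hy => ?_⟩
      obtain ⟨w, hw⟩ := (hM y).1 hy
      exact he y w hw
    exact ⟨φ, hφ⟩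
  · rintro ⟨φ, hφ⟩
    obtain ⟨h1, h2⟩ := GrothLib.EmbDef.fibre_of_graph (S := fun x y => (x, y) ∈ L)
      M.mkQ_surjective hφ
    exact ⟨fun x y h => (h2 x).2 ((Submodule.Quotient.mk_eq_zero M).2 ((h1 x).2 ⟨y, h⟩)), h1,
      fun y h => (Submodule.Quotient.mk_eq_zero M).1 ((h2 y).1 h)⟩

end Groth.Agent.S15135
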