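import Groth.Statements.S15138
import Groth.Agent.Lib.RatSing29.UnitDegree


set_option autoImplicit false
universe u
open CategoryTheory CategoryTheory.Limits AlgebraicGeometry
open Resolve

namespace Groth.Agent.S15138

/-- Let A → B be a finite injective ring map between excellent Noetherian normal domains of Krull
dimension two (the affine form of a finite surjective morphism of two-dimensional excellent normal
integral schemes), let K ⊆ L be the induced extension of fraction fields, and assume that the degree
[L : K] is a unit in A. If B has rational singularities, in the sense that its localization at every
maximal ideal of height two defines a rational singularity (every proper morphism onto the spectrum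
from an integral normal scheme which is an isomorphism over a nonempty open has H^1 of the structure
sheaf zero), then A has rational singularities in the same sense. (The published statement is for
schemes; the property is local on the target and a finite morphism is affine, so this row is its
affine form.) -/
theorem result (A B : Type u) [CommRing A] [CommRing B]
    [IsDomain A] [IsDomain B] [IsNoetherianRing A] [IsNoetherianRing B] [IsIntegrallyClosed A] [IsIntegrallyClosed B]
    (hAe : EGA4.IsExcellent A) (hBe : EGA4.IsExcellent B) (hA2 : ringKrullDim A = 2) (hB2 : ringKrullDim B = 2)
    [Algebra A B] [Module.Finite A B] (hinj : Function.Injective (algebraMap A B))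
    (K L : Type u) [Field K] [Field L] [Algebra A K] [IsFractionRing A K] [Algebra B L] [IsFractionRing B L]
    [Algebra K L] [Algebra A L] [IsScalarTower A K L] [IsScalarTower A B L]
    (hdeg : IsUnit ((Module.finrank K L : ℕ) : A))
    (hB : ∀ (n : Ideal B) [n.IsMaximal], ringKrullDim (Localization.AtPrime n) = 2 →
      Curv2.IsRationalSing (Localization.AtPrime n))
    (m : Ideal A) [m.IsMaximal] (hm : ringKrullDim (Localization.AtPrime m) = 2) :
    Curv2.IsRationalSing (Localization.AtPrime m) := by
  exact GrothLib.RatSing29.isRationalSing_localization_of_unit_degree hinj K L hdeg hB2.le hB m hm

end Groth.Agent.S15138
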