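import Groth.Statements.S15139
import Groth.Agent.Lib.RatSing29.Dominate
import Groth.Agent.Lib.RatSing29.NormalModel
import Groth.Agent.Lib.CycP1.Graph
import Groth.Agent.Lib.CurvePoints.Basic
import Groth.Agent.S15137
import Groth.Agent.S15136
import Groth.Agent.S2656

set_option autoImplicit false
universe u
open CategoryTheory CategoryTheory.Limits AlgebraicGeometry Opposite
open Models TopologicalSpace

namespace Groth.Agent.S15139

/-- Let R be a discrete valuation ring whose fraction field K has characteristic zero, and let C be a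
proper K-curve, smooth of relative dimension 1 and geometrically connected over K. An admissible
model of C is a scheme X with a proper flat morphism p : X → Spec R (hence of finite type) and a
morphism g : C → X making C the generic fibre of p, such that X is normal, cohomologically flat over
R in dimension 0 (the restriction H^0(X, O_X) → H^0(X_s, O_{X_s}) to the closed fibre X_s, cut out
by 𝔪_R · O_X, is surjective), and has rational singularities (the local ring at every closed point
defines a rational singularity: every proper morphism onto its spectrum from an integral normal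
scheme which is an isomorphism over a nonempty open has H^1 of the structure sheaf zero). Then any
two admissible models (X₁, p₁, g₁) and (X₂, p₂, g₂) of C are dominated by a third: there are an
admissible model (X₃, p₃, g₃) of C and proper R-morphisms ρ₁ : X₃ → X₁ and ρ₂ : X₃ → X₂ with g₃ ≫ ρ₁
= g₁ and g₃ ≫ ρ₂ = g₂ (so ρ₁ and ρ₂ are proper and birational, inducing the given identifications on
generic fibres). -/
theorem result (R : Type u) [CommRing R] [IsDomain R]
    [IsDiscreteValuationRing R] [CharZero (FractionRing R)]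
    (C : Scheme.{u}) (f : C ⟶ Spec (CommRingCat.of (FractionRing R)))
    [SmoothOfRelativeDimension 1 f] [IsProper f] [GeometricallyConnected f]
    (X₁ X₂ : Scheme.{u}) (p₁ : X₁ ⟶ Spec (CommRingCat.of R)) (p₂ : X₂ ⟶ Spec (CommRingCat.of R))
    [IsProper p₁] [Flat p₁] [IsProper p₂] [Flat p₂]
    (g₁ : C ⟶ X₁) (g₂ : C ⟶ X₂)
    (hg₁ : IsPullback g₁ f p₁ (Spec.map (CommRingCat.ofHom (algebraMap R (FractionRing R)))))
    (hg₂ : IsPullback g₂ f p₂ (Spec.map (CommRingCat.ofHom (algebraMap R (FractionRing R)))))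
    (hn₁ : Pi1.IsNormalScheme X₁) (hn₂ : Pi1.IsNormalScheme X₂)
    (hcf₁ : Function.Surjective (Sheaf.H.map ((SheafOfModules.toSheaf X₁.ringCatSheaf).map
        (ClSub.toSubscheme (Models.specialFibreIdeal R (Over.mk p₁)))) 0))
    (hcf₂ : Function.Surjective (Sheaf.H.map ((SheafOfModules.toSheaf X₂.ringCatSheaf).map
        (ClSub.toSubscheme (Models.specialFibreIdeal R (Over.mk p₂)))) 0))
    (hrat₁ : ∀ x : X₁, IsClosed ({x} : Set X₁) → Curv2.IsRationalSing (X₁.presheaf.stalk x))
    (hrat₂ : ∀ x : X₂, IsClosed ({x} : Set X₂) → Curv2.IsRationalSing (X₂.presheaf.stalk x)) :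
    ∃ (X₃ : Scheme.{u}) (p₃ : X₃ ⟶ Spec (CommRingCat.of R)) (g₃ : C ⟶ X₃) (ρ₁ : X₃ ⟶ X₁) (ρ₂ : X₃ ⟶ X₂),
      IsProper p₃ ∧ Flat p₃ ∧
      IsPullback g₃ f p₃ (Spec.map (CommRingCat.ofHom (algebraMap R (FractionRing R)))) ∧
      Pi1.IsNormalScheme X₃ ∧
      Function.Surjective (Sheaf.H.map ((SheafOfModules.toSheaf X₃.ringCatSheaf).map
        (ClSub.toSubscheme (Models.specialFibreIdeal R (Over.mk p₃)))) 0) ∧
      (∀ x : X₃, IsClosed ({x} : Set X₃) → Curv2.IsRationalSing (X₃.presheaf.stalk x)) ∧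
      IsProper ρ₁ ∧ IsProper ρ₂ ∧ ρ₁ ≫ p₁ = p₃ ∧ ρ₂ ≫ p₂ = p₃ ∧ g₃ ≫ ρ₁ = g₁ ∧ g₃ ≫ ρ₂ = g₂ := by
  let S := Spec (CommRingCat.of R)
  let T := Spec (CommRingCat.of (FractionRing R))
  let gn : T ⟶ S := Spec.map (CommRingCat.ofHom (algebraMap R (FractionRing R)))
  haveI : IsOpenImmersion gn := by
    obtain ⟨π, hπ⟩ := IsDiscreteValuationRing.exists_irreducible R
    haveI := GrothLib.ArSurf29.isLocalizationAway_fractionRing hπ
    exact IsOpenImmersion.of_isLocalization π
  have hinjK : Function.Injective (algebraMap R (FractionRing R)) := IsFractionRing.injective R (FractionRing R)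
  haveI : CharZero R := ⟨fun a b h => Nat.cast_injective (R := FractionRing R) (by
    simpa using congrArg (algebraMap R (FractionRing R)) h)⟩
  have hNR : CAlg.IsNagata R := Groth.Agent.S2656.result R
  haveI : Smooth f := SmoothOfRelativeDimension.smooth (n := 1) f
  haveI : UniversallyOpen f := inferInstance
  haveI : ConnectedSpace C := GeometricallyConnected.connectedSpace f f.isOpenMap
  haveI : IsIntegral C := GrothLib.Euler.isIntegral_of_smooth_connected (FractionRing R) f
  have hC : topologicalKrullDim C = 1 := GrothLib.CotTangent.topologicalKrullDim_integral_of_smoothOfRelativeDimension f 1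
  let XO : Over S := Over.mk p₁
  haveI : Flat XO.hom := ‹Flat p₁›
  haveI : IsProper XO.hom := ‹IsProper p₁›
  haveI : IsIntegral X₁ := GrothLib.RatSing29.isIntegral_of_normalModel (X := XO) hg₁ hn₁
  haveI : IsLocallyNoetherian X₁ := LocallyOfFiniteType.isLocallyNoetherian p₁
  haveI : CompactSpace X₁ := QuasiCompact.compactSpace_of_compactSpace p₁
  haveI : IsNoetherian X₁ := {}
  have hdim : topologicalKrullDim X₁ ≤ 2 := GrothLib.RatSing29.dim_le_two_of_normalModel (X := XO) hg₁ hn₁ hC.le
  haveI : IsOpenImmersion g₁ := MorphismProperty.of_isPullback (P := @IsOpenImmersion) hg₁.flip inferInstance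
  -- the closure of the graph
  let pX := pullback p₁ p₂
  let γ : C ⟶ pX := pullback.lift g₁ g₂ (hg₁.w.trans hg₂.w.symm)
  haveI : CompactSpace C := QuasiCompact.compactSpace_of_compactSpace f
  let pS : pX ⟶ S := pullback.fst p₁ p₂ ≫ p₁
  haveI : IsProper pS := inferInstance
  haveI : QuasiCompact γ := by
    haveI : pX.IsSeparated := ⟨by rw [← terminal.comp_from pS]; infer_instance⟩
    infer_instance
  haveI : IsImmersion γ := by
    haveI : IsImmersion (γ ≫ pullback.fst p₁ p₂) := by
      rw [pullback.lift_fst]; infer_instance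
    exact IsImmersion.of_comp γ (pullback.fst p₁ p₂)
  let Z := γ.image
  haveI : IsIntegral Z := GrothLib.CycP1.isIntegral_image γ
  let pr : Z ⟶ X₁ := γ.imageι ≫ pullback.fst p₁ p₂
  haveI : IsProper (pullback.fst p₁ p₂) := MorphismProperty.pullback_fst p₁ p₂ ‹IsProper p₂›
  haveI : IsProper pr := inferInstance
  have hσ : γ.toImage ≫ pr = g₁ := by
    simp only [pr, Scheme.Hom.toImage_imageι_assoc]
    exact pullback.lift_fst _ _ _
  let K := pullback pS gn
  let γK : C ⟶ K := pullback.lift γ f (by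
    simp only [pS, γ, pullback.lift_fst_assoc]; exact hg₁.w)
  haveI : IsProper γK := by
    haveI : IsProper (γK ≫ pullback.snd pS gn) := by
      rw [pullback.lift_snd]; infer_instance
    haveI : IsSeparated (pullback.snd pS gn) := MorphismProperty.pullback_snd pS gn inferInstance
    exact IsProper.of_comp γK (pullback.snd pS gn)
  have hclosed : ∀ z : Z, pr z ∈ Set.range g₁ → z ∈ Set.range γ.toImage := by
    rintro z ⟨c, hc⟩
    have h1 : pS (γ.imageι z) ∈ Set.range gn := ⟨f c, by
      show gn (f c) = p₁ (pr z)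
      rw [← hc, ← Scheme.Hom.comp_apply, ← Scheme.Hom.comp_apply]
      exact congrArg (fun m : C ⟶ S => m c) hg₁.w.symm⟩
    obtain ⟨k, hk⟩ : γ.imageι z ∈ Set.range (pullback.fst pS gn) := by
      rw [Scheme.Pullback.range_fst]; exact h1
    have h2 : k ∈ Set.range γK := by
      have h3 : γ.imageι z ∈ closure (Set.range γ) := by
        have h4 := map_mem_closure γ.imageι.continuous (γ.toImage.denseRange z) (t := Set.range γ) (by
          rintro _ ⟨c', rfl⟩
          exact ⟨c', by rw [← Scheme.Hom.comp_apply, Scheme.Hom.toImage_imageι]⟩)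
        exact h4
      rw [← γK.isClosedMap.isClosed_range.closure_eq, (pullback.fst pS gn).isEmbedding.isInducing.closure_eq_preimage_closure_image,
        Set.mem_preimage, hk]
      refine closure_mono ?_ h3
      rintro _ ⟨c', rfl⟩
      exact ⟨γK c', ⟨c', rfl⟩, by rw [← Scheme.Hom.comp_apply, pullback.lift_fst]⟩
    obtain ⟨c', hc'⟩ := h2
    refine ⟨c', γ.imageι.isClosedEmbedding.injective ?_⟩
    rw [← Scheme.Hom.comp_apply, Scheme.Hom.toImage_imageι, ← hk, ← hc', ← Scheme.Hom.comp_apply, pullback.lift_fst]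
  obtain ⟨hsqZ, hprU⟩ := GrothLib.RatSing29.isPullback_of_section pr g₁ γ.toImage hσ hclosed
  -- the normalisation
  have hNX : ∀ V : X₁.affineOpens, CAlg.IsNagata Γ(X₁, V.1) :=
    GrothLib.BlowUpProper.isNagata_of_locallyOfFiniteType p₁ (GrothLib.RatSing29.isNagata_spec hNR)
  haveI : IsLocallyNoetherian Z := LocallyOfFiniteType.isLocallyNoetherian pr
  haveI : CompactSpace Z := QuasiCompact.compactSpace_of_compactSpace pr
  haveI : IsNoetherian Z := {}
  haveI : QuasiCompact (Z.fromSpecStalk (genericPoint Z)) := inferInstance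
  haveI : QuasiSeparated (Z.fromSpecStalk (genericPoint Z)) := inferInstance
  have hfin := GrothLib.NormFib.isFinite_of_nagata (GrothLib.BlowUpProper.isNagata_of_locallyOfFiniteType pr hNX)
  haveI := hfin
  let ν := Curv2.normalizationι Z
  let W := Curv2.normalization Z
  have hWn : Pi1.IsNormalScheme W := GrothLib.NormFib.isNormalScheme_normalization
  let ρ : W ⟶ X₁ := ν ≫ pr
  haveI : IsProper ρ := inferInstance
  have hne : ((g₁.opensRange : X₁.Opens) : Set X₁).Nonempty := ⟨_, ⟨genericPoint C, rfl⟩⟩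
  obtain ⟨V₀, hV₀, hV₀i⟩ := GrothLib.RatSing29.exists_isIso_comp ν pr (GrothLib.NormFib.exists_isIso_of_finite hfin)
    ⟨g₁.opensRange, hne, hprU⟩
  haveI : IsIso (ρ ∣_ g₁.opensRange) := by
    haveI : Nonempty (g₁.opensRange : X₁.Opens).toScheme := ⟨⟨_, hne.some_mem⟩⟩
    haveI : IsIntegral (g₁.opensRange : X₁.Opens).toScheme := isIntegral_of_isOpenImmersion (g₁.opensRange).ι
    obtain ⟨u, hu⟩ := hne
    obtain ⟨v, hv⟩ := hV₀
    have hη : genericPoint X₁ ∈ g₁.opensRange := (genericPoint_specializes u).mem_open (g₁.opensRange).isOpen hu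
    haveI : Nonempty (ρ ⁻¹ᵁ g₁.opensRange : W.Opens).toScheme := by
      haveI := hV₀i
      obtain ⟨q, hq⟩ := (ρ ∣_ V₀).homeomorph.surjective ⟨genericPoint X₁, (genericPoint_specializes v).mem_open V₀.isOpen hv⟩
      refine ⟨⟨q.1, ?_⟩⟩
      show ρ q.1 ∈ g₁.opensRange
      have h : ρ q.1 = genericPoint X₁ := by
        have h0 := congrArg Subtype.val hq
        rw [show ((ρ ∣_ V₀).homeomorph q).1 = ((ρ ∣_ V₀) ≫ V₀.ι) q from rfl, morphismRestrict_ι] at h0
        exact h0
      rw [h]
      exact hη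
    haveI : IsIntegral (ρ ⁻¹ᵁ g₁.opensRange : W.Opens).toScheme := isIntegral_of_isOpenImmersion (ρ ⁻¹ᵁ g₁.opensRange).ι
    have hdC : topologicalKrullDim (g₁.opensRange : X₁.Opens).toScheme ≤ 1 := by
      rw [← (g₁.isoOpensRange).inv.homeomorph.symm.isHomeomorph.topologicalKrullDim_eq]
      exact hC.le
    haveI : IsProper (ρ ∣_ g₁.opensRange) := IsZariskiLocalAtTarget.restrict ‹IsProper ρ› _
    haveI : CompactSpace (g₁.opensRange : X₁.Opens).toScheme := isCompact_iff_compactSpace.1 (NoetherianSpace.isCompact _)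
    haveI : IsNoetherian (g₁.opensRange : X₁.Opens).toScheme := {}
    refine GrothLib.RatSing29.isIso_of_dim_le_one (ρ ∣_ g₁.opensRange) ((g₁.opensRange).ι ⁻¹ᵁ V₀)
      ⟨⟨genericPoint X₁, hη⟩, (genericPoint_specializes v).mem_open V₀.isOpen hv⟩ ?_ (fun y => ?_) hdC
    · refine ((MorphismProperty.isomorphisms Scheme.{u}).arrow_mk_iso_iff
        (morphismRestrictRestrict ρ g₁.opensRange ((g₁.opensRange).ι ⁻¹ᵁ V₀))).mpr ?_
      rw [Scheme.Hom.image_preimage_eq_opensRange_inf, Scheme.Opens.opensRange_ι]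
      haveI := hV₀i
      exact GrothLib.Nagata6.isIso_restrict_of_le ρ V₀ _ inf_le_right
    · haveI := (hn₁ ((g₁.opensRange).ι y)).2
      exact IsIntegrallyClosed.of_equiv (asIso ((g₁.opensRange).ι.stalkMap y)).commRingCatIsoToRingEquiv
  obtain ⟨g₃, hg₃sq⟩ := GrothLib.RatSing29.exists_isPullback_of_iso_over ρ g₁ inferInstance
  have hg₃ρ : g₃ ≫ ρ = g₁ := by simpa using hg₃sq.w
  have hg₃ν : g₃ ≫ ν = γ.toImage := by
    have hw : (g₃ ≫ ν) ≫ pr = 𝟙 C ≫ g₁ := by rw [Category.assoc, hg₃ρ, Category.id_comp]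
    have h2 := hsqZ.lift_fst (g₃ ≫ ν) (𝟙 C) hw
    have h3 : hsqZ.lift (g₃ ≫ ν) (𝟙 C) hw = 𝟙 C := by simpa using hsqZ.lift_snd (g₃ ≫ ν) (𝟙 C) hw
    rw [h3, Category.id_comp] at h2
    exact h2.symm
  let p₃ : W ⟶ S := ρ ≫ p₁
  let ρ₂ : W ⟶ X₂ := ν ≫ γ.imageι ≫ pullback.snd p₁ p₂
  have hp2 : ρ₂ ≫ p₂ = p₃ := by
    simp only [ρ₂, p₃, ρ, pr, Category.assoc, pullback.condition]
  have hsq₃ : IsPullback g₃ f p₃ gn := by simpa using hg₃sq.paste_vert hg₁
  haveI : IsProper p₃ := inferInstance
  haveI : IsProper ρ₂ := by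
    haveI : IsProper (ρ₂ ≫ p₂) := by rw [hp2]; infer_instance
    exact IsProper.of_comp ρ₂ p₂
  have hflat : Flat p₃ := by
    refine GrothLib.CurvePoints.flat_of_dominant ?_ (fun y => (GrothLib.ProperFib19.isNormalScheme_spec R y).2) p₃ ?_
    · rw [show topologicalKrullDim S = ringKrullDim R from PrimeSpectrum.topologicalKrullDim_eq_ringKrullDim R]
      exact le_of_eq (IsDiscreteValuationRing.ringKrullDim_eq_one R)
    · have h1 : p₃ (g₃ (genericPoint C)) = genericPoint S := by
        rw [← Scheme.Hom.comp_apply, hsq₃.w, Scheme.Hom.comp_apply]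
        rw [show f (genericPoint C) = (default : T) from Subsingleton.elim _ _]
        exact GrothLib.ProperFib19.genMap_default R (FractionRing R)
      have h2 : p₃ (genericPoint W) ⤳ genericPoint S := h1 ▸ (genericPoint_specializes (g₃ (genericPoint C))).map p₃.continuous
      exact (h2.antisymm (genericPoint_specializes _)).eq
  haveI := hflat
  have hWr : ∀ w : W, IsClosed ({w} : Set W) → Curv2.IsRationalSing (W.presheaf.stalk w) := fun w hw =>
    GrothLib.RatSing29.isRationalSing_stalk_of_target hNX hn₁ hdim ρ hWn ⟨g₁.opensRange, hne, inferInstance⟩ w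
      (hrat₁ _ (by rw [← Set.image_singleton]; exact ρ.isClosedMap _ hw))
  refine ⟨W, p₃, g₃, ρ, ρ₂, inferInstance, hflat, hsq₃, hWn, ?_, hWr, inferInstance, inferInstance, rfl, hp2, hg₃ρ, ?_⟩
  · letI : X₁.Over S := ⟨p₁⟩
    letI : W.Over S := ⟨p₃⟩
    haveI : IsProper (X₁ ↘ Spec (CommRingCat.of R)) := ‹IsProper p₁›
    haveI : IsProper (W ↘ Spec (CommRingCat.of R)) := ‹IsProper p₃›
    haveI : Flat (X₁ ↘ Spec (CommRingCat.of R)) := ‹Flat p₁›
    haveI : Flat (W ↘ Spec (CommRingCat.of R)) := hflat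
    obtain ⟨-, -, ⟨e⟩⟩ := Groth.Agent.S15137.result R X₁ C f ⟨‹Flat p₁›, inferInstance, inferInstance, g₁, hg₁⟩ hn₁ hrat₁ W ρ rfl hWn
      ⟨g₁.opensRange, hne, inferInstance⟩
    haveI := (Groth.Agent.S15136.result R X₁).1 hcf₁
    refine (Groth.Agent.S15136.result R W).2 ?_
    exact Function.Injective.noZeroSMulDivisors _ e.symm.injective (map_zero _) (map_smul e.symm)
  · simp only [ρ₂, ← Category.assoc, hg₃ν, Scheme.Hom.toImage_imageι]
    exact pullback.lift_snd _ _ _

end Groth.Agent.S15139
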