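import Groth.Statements.S15140
import Groth.Agent.Lib.FinNormalGD.Basic
import Groth.Agent.Lib.CurvePoints.Basic
import Groth.Agent.Lib.EtFibre.Basic
import Groth.Agent.S0386
import Mathlib.AlgebraicGeometry.Morphisms.QuasiFinite

set_option autoImplicit false
universe u
open CategoryTheory CategoryTheory.Limits AlgebraicGeometry
open Models

namespace Groth.Agent.S15140

/-- Let R be a discrete valuation ring whose fraction field has characteristic zero and let X and Y be
relative curves over R: flat, of finite type and separated over Spec R, normal and integral, of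
dimension two (pure relative dimension one; properness is not assumed). Let f : X → Y be a finite
surjective morphism over R. Then there is an open subset V ⊆ Y such that the complement of V in Y
and the complement of f⁻¹(V) in X are finite sets of points at which the local rings have Krull
dimension two (closed points of the closed fibres), and f is flat over V. -/
theorem result (R : Type u) [CommRing R] [IsDomain R]
    [IsDiscreteValuationRing R] [CharZero (FractionRing R)]
    (X Y : Scheme.{u}) (pX : X ⟶ Spec (CommRingCat.of R)) (pY : Y ⟶ Spec (CommRingCat.of R))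
    [Flat pX] [LocallyOfFiniteType pX] [QuasiCompact pX] [IsSeparated pX]
    [Flat pY] [LocallyOfFiniteType pY] [QuasiCompact pY] [IsSeparated pY]
    [IsIntegral X] [IsIntegral Y] (hnX : Pi1.IsNormalScheme X) (hnY : Pi1.IsNormalScheme Y)
    (hdX : topologicalKrullDim X = 2) (hdY : topologicalKrullDim Y = 2)
    (f : X ⟶ Y) [IsFinite f] [Surjective f] (hf : f ≫ pY = pX) :
    ∃ V : Y.Opens, ((V : Set Y)ᶜ).Finite ∧ (∀ y : Y, y ∉ V → ringKrullDim (Y.presheaf.stalk y) = 2) ∧
      (((f ⁻¹ᵁ V : X.Opens) : Set X)ᶜ).Finite ∧ (∀ x : X, x ∉ f ⁻¹ᵁ V → ringKrullDim (X.presheaf.stalk x) = 2) ∧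
      Flat (f ∣_ V) := by
  haveI : IsLocallyNoetherian Y := LocallyOfFiniteType.isLocallyNoetherian pY
  haveI : CompactSpace Y := QuasiCompact.compactSpace_of_compactSpace pY
  haveI : IsNoetherian Y := {}
  haveI : LocallyOfFinitePresentation f := inferInstance
  have hg : f (genericPoint X) = genericPoint Y := by
    have h1 : IsGenericPoint (f (genericPoint X)) (closure (Set.range f)) := by
      simpa [Set.image_univ] using (genericPoint_spec X).image f.continuous
    rw [f.surjective.range_eq, closure_univ] at h1
    exact h1.eq (genericPoint_spec Y)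
  have hO : IsOpen {x : X | (f.stalkMap x).hom.Flat} := Groth.Agent.S0386.result f
  let V : Y.Opens := ⟨(f '' {x : X | (f.stalkMap x).hom.Flat}ᶜ)ᶜ,
    (f.isClosedMap _ hO.isClosed_compl).isOpen_compl⟩
  have hle : ∀ {T : Scheme.{u}}, topologicalKrullDim T = 2 → ∀ t : T, Order.coheight t ≤ 2 := by
    intro T hd t
    have h := (Order.coheight_le_krullDim t).trans ((Order.krullDim_eq_of_orderIso
      (irreducibleSetEquivPoints (α := ↥T))).symm.le.trans hd.le)
    exact WithBot.coe_le_coe.1 (h.trans_eq rfl)
  have hY2 : ∀ y : Y, y ∉ V → Order.coheight y = 2 := by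
    intro y hy
    have hy' : y ∈ f '' {x : X | (f.stalkMap x).hom.Flat}ᶜ := by
      by_contra h'
      exact hy h'
    obtain ⟨x, hx, rfl⟩ := hy'
    refine le_antisymm (hle hdY _) ?_
    by_contra hlt
    apply hx
    have h1 : Order.coheight (f x) ≤ 1 := Order.le_of_lt_succ (not_le.1 hlt)
    have hinj := GrothLib.CurvePoints.stalkMap_injective f hg x
    let := (f.stalkMap x).hom.toAlgebra
    show Module.Flat (Y.presheaf.stalk (f x)) (X.presheaf.stalk x)
    haveI : Ring.KrullDimLE 1 (Y.presheaf.stalk (f x)) := krullDimLE_of_coheight_le h1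
    haveI : IsIntegrallyClosed (Y.presheaf.stalk (f x)) := (hnY _).2
    haveI : Ring.DimensionLEOne (Y.presheaf.stalk (f x)) := ⟨fun hp hp' =>
      Ideal.IsPrime.isMaximal_of_ne_bot hp' hp⟩
    haveI : IsDedekindDomain (Y.presheaf.stalk (f x)) := {}
    haveI : Module.IsTorsionFree (Y.presheaf.stalk (f x)) (X.presheaf.stalk x) :=
      Module.isTorsionFree_iff_algebraMap_injective.2 hinj
    infer_instance
  have hclosed : ∀ y : Y, y ∉ V → IsClosed ({y} : Set Y) := by
    intro y hy
    refine isClosed_of_closure_subset fun z hz => ?_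
    by_contra hne
    have hzy : z ≤ y := specializes_iff_mem_closure.2 hz
    have hlt : z < y := lt_iff_le_not_ge.2 ⟨hzy, fun h => hne ((Specializes.antisymm hzy h).eq.symm)⟩
    have h2 := Order.coheight_add_one_le hlt
    rw [hY2 y hy] at h2
    exact absurd (h2.trans (hle hdY z)) (by decide)
  have hfin : ((V : Set Y)ᶜ).Finite := by
    obtain ⟨S, hS, hSc, hSi, hcov⟩ :=
      TopologicalSpace.NoetherianSpace.exists_finite_set_isClosed_irreducible V.2.isClosed_compl
    have hcov' : (V : Set Y)ᶜ = ⋃₀ S := hcov
    rw [hcov']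
    refine hS.sUnion fun C hC => ?_
    obtain ⟨c, hc⟩ := QuasiSober.sober (hSi C hC) (hSc C hC)
    have hcV : c ∈ (V : Set Y)ᶜ := hcov' ▸ Set.subset_sUnion_of_mem hC hc.mem
    rw [← hc.def, (hclosed c hcV).closure_eq]
    exact Set.finite_singleton c
  refine ⟨V, hfin, fun y hy => ?_, ?_, fun x hx => ?_, ?_⟩
  · rw [ringKrullDim_stalk_eq_coheight, hY2 y hy]; rfl
  · exact f.finite_preimage hfin
  · have h1 : Order.coheight (f x) ≤ Order.coheight x :=
      GrothLib.EtFibre.coheight_le_of_generalizingMap f.continuous
        (GrothLib.FinNormalGD.generalizingMap f fun y => (hnY y).2) x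
    rw [hY2 (f x) hx] at h1
    rw [ringKrullDim_stalk_eq_coheight, le_antisymm (hle hdX x) h1]; rfl
  · refine Flat.of_stalkMap _ fun x => ?_
    rw [RingHom.Flat.respectsIso.arrow_mk_iso_iff (morphismRestrictStalkMap f V x)]
    by_contra h
    exact x.2 ⟨x.1, h, rfl⟩

end Groth.Agent.S15140
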