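import Groth.Statements.S15141
import Groth.Agent.Lib.RatSing29.Separate
import Groth.Agent.Lib.RatSing29.FiniteModel

set_option autoImplicit false
universe u
open CategoryTheory CategoryTheory.Limits AlgebraicGeometry Opposite
open Models TopologicalSpace

namespace Groth.Agent.S15141

/-- Let R be a discrete valuation ring whose fraction field K has characteristic zero, let C and D be
proper K-curves, smooth of relative dimension 1 and geometrically connected, and let f_K : C → D be
a finite K-morphism. An admissible model of C is a scheme X with a proper flat morphism p : X → Spec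
R and a morphism g : C → X making C the generic fibre of p, with X normal, cohomologically flat over
R in dimension 0 (the restriction H^0(X, O_X) → H^0(X_s, O_{X_s}) to the closed fibre, cut out by
𝔪_R · O_X, is surjective) and with rational singularities (the local ring at every closed point
defines a rational singularity: every proper morphism onto its spectrum from an integral normal
scheme which is an isomorphism over a nonempty open has H^1 of the structure sheaf zero); likewise
for D. Suppose (X, p, g) and (Y, q, h) are admissible models of C and D. Then there are admissible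
models (X', p', g') of C and (Y', q', h') of D, proper R-morphisms ρ : X' → X and σ : Y' → Y with g'
≫ ρ = g and h' ≫ σ = h (so X' dominates X and Y' dominates Y), and a finite R-morphism f' : X' → Y'
with g' ≫ f' = f_K ≫ h', i.e. f' restricts to f_K on generic fibres. -/
theorem result (R : Type u) [CommRing R]
    [IsDomain R] [IsDiscreteValuationRing R] [CharZero (FractionRing R)]
    (C D : Scheme.{u}) (fC : C ⟶ Spec (CommRingCat.of (FractionRing R))) (fD : D ⟶ Spec (CommRingCat.of (FractionRing R)))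
    [SmoothOfRelativeDimension 1 fC] [IsProper fC] [GeometricallyConnected fC]
    [SmoothOfRelativeDimension 1 fD] [IsProper fD] [GeometricallyConnected fD]
    (fK : C ⟶ D) [IsFinite fK] (hfK : fK ≫ fD = fC)
    (X Y : Scheme.{u}) (p : X ⟶ Spec (CommRingCat.of R)) (q : Y ⟶ Spec (CommRingCat.of R)) [IsProper p] [Flat p] [IsProper q] [Flat q]
    (g : C ⟶ X) (h : D ⟶ Y)
    (hg : IsPullback g fC p (Spec.map (CommRingCat.ofHom (algebraMap R (FractionRing R))))) (hh : IsPullback h fD q (Spec.map (CommRingCat.ofHom (algebraMap R (FractionRing R)))))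
    (hnX : Pi1.IsNormalScheme X) (hnY : Pi1.IsNormalScheme Y)
    (hcfX : Function.Surjective (Sheaf.H.map ((SheafOfModules.toSheaf X.ringCatSheaf).map
        (ClSub.toSubscheme (Models.specialFibreIdeal R (Over.mk p)))) 0))
    (hcfY : Function.Surjective (Sheaf.H.map ((SheafOfModules.toSheaf Y.ringCatSheaf).map
        (ClSub.toSubscheme (Models.specialFibreIdeal R (Over.mk q)))) 0))
    (hratX : ∀ x : X, IsClosed ({x} : Set X) → Curv2.IsRationalSing (X.presheaf.stalk x))
    (hratY : ∀ y : Y, IsClosed ({y} : Set Y) → Curv2.IsRationalSing (Y.presheaf.stalk y)) :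
    ∃ (X' Y' : Scheme.{u}) (p' : X' ⟶ Spec (CommRingCat.of R)) (q' : Y' ⟶ Spec (CommRingCat.of R)) (g' : C ⟶ X') (h' : D ⟶ Y')
      (ρ : X' ⟶ X) (σ : Y' ⟶ Y) (f' : X' ⟶ Y'),
      (IsProper p' ∧ Flat p' ∧ IsPullback g' fC p' (Spec.map (CommRingCat.ofHom (algebraMap R (FractionRing R)))) ∧ Pi1.IsNormalScheme X' ∧
        Function.Surjective (Sheaf.H.map ((SheafOfModules.toSheaf X'.ringCatSheaf).map
        (ClSub.toSubscheme (Models.specialFibreIdeal R (Over.mk p')))) 0) ∧
        (∀ x : X', IsClosed ({x} : Set X') → Curv2.IsRationalSing (X'.presheaf.stalk x))) ∧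
      (IsProper q' ∧ Flat q' ∧ IsPullback h' fD q' (Spec.map (CommRingCat.ofHom (algebraMap R (FractionRing R)))) ∧ Pi1.IsNormalScheme Y' ∧
        Function.Surjective (Sheaf.H.map ((SheafOfModules.toSheaf Y'.ringCatSheaf).map
        (ClSub.toSubscheme (Models.specialFibreIdeal R (Over.mk q')))) 0) ∧
        (∀ x : Y', IsClosed ({x} : Set Y') → Curv2.IsRationalSing (Y'.presheaf.stalk x))) ∧
      IsProper ρ ∧ IsProper σ ∧ ρ ≫ p = p' ∧ σ ≫ q = q' ∧ g' ≫ ρ = g ∧ h' ≫ σ = h ∧
      IsFinite f' ∧ f' ≫ q' = p' ∧ g' ≫ f' = fK ≫ h' := by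
  classical
  haveI : Smooth fC := SmoothOfRelativeDimension.smooth (n := 1) fC
  haveI : Smooth fD := SmoothOfRelativeDimension.smooth (n := 1) fD
  haveI : UniversallyOpen fC := inferInstance
  haveI : UniversallyOpen fD := inferInstance
  haveI : ConnectedSpace C := GeometricallyConnected.connectedSpace fC fC.isOpenMap
  haveI : ConnectedSpace D := GeometricallyConnected.connectedSpace fD fD.isOpenMap
  haveI : IsIntegral C := GrothLib.Euler.isIntegral_of_smooth_connected (FractionRing R) fC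
  haveI : IsIntegral D := GrothLib.Euler.isIntegral_of_smooth_connected (FractionRing R) fD
  have hC1 : topologicalKrullDim C = 1 := GrothLib.CotTangent.topologicalKrullDim_integral_of_smoothOfRelativeDimension fC 1
  have hD1 : topologicalKrullDim D = 1 := GrothLib.CotTangent.topologicalKrullDim_integral_of_smoothOfRelativeDimension fD 1
  haveI : Flat (Over.mk p).hom := ‹Flat p›
  haveI : IsProper (Over.mk p).hom := ‹IsProper p›
  haveI : Flat (Over.mk q).hom := ‹Flat q›
  haveI : IsProper (Over.mk q).hom := ‹IsProper q›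
  haveI : IsIntegral X := GrothLib.RatSing29.isIntegral_of_normalModel (X := Over.mk p) hg hnX
  haveI : IsIntegral Y := GrothLib.RatSing29.isIntegral_of_normalModel (X := Over.mk q) hh hnY
  haveI : IsLocallyNoetherian Y := LocallyOfFiniteType.isLocallyNoetherian q
  haveI : CompactSpace Y := QuasiCompact.compactSpace_of_compactSpace q
  haveI : IsNoetherian Y := {}
  have heK : fK (genericPoint C) = genericPoint D := by
    by_contra hne
    have hcl : IsClosed ({fK (genericPoint C)} : Set D) := GrothLib.CurvePoints.isClosed_singleton hD1.le hne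
    have hall : ∀ c : C, c ∈ fK ⁻¹' {fK (genericPoint C)} := fun c =>
      ((genericPoint_specializes c).map fK.continuous).mem_closed hcl rfl
    haveI : DiscreteTopology ↥(fK ⁻¹' {fK (genericPoint C)}) := isDiscrete_iff_discreteTopology.1 (fK.isDiscrete_preimage_singleton _)
    let hom : C ≃ₜ ↥(fK ⁻¹' {fK (genericPoint C)}) := { toFun := fun c => ⟨c, hall c⟩, invFun := Subtype.val, left_inv := fun c => rfl, right_inv := fun c => rfl, continuous_toFun := continuous_id.subtype_mk _, continuous_invFun := continuous_subtype_val }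
    have h0 := topologicalKrullDim_zero_of_discreteTopology ↥(fK ⁻¹' {fK (genericPoint C)})
    rw [← hom.isHomeomorph.topologicalKrullDim_eq, hC1] at h0
    norm_num at h0
  haveI : Surjective fK := ⟨fun d => by
    have h1 : closure ({genericPoint D} : Set D) ⊆ Set.range fK :=
      fK.isClosedMap.isClosed_range.closure_subset_iff.mpr (Set.singleton_subset_iff.mpr ⟨_, heK⟩)
    exact h1 ((genericPoint_spec D).symm ▸ Set.mem_univ d)⟩
  let gn := Spec.map (CommRingCat.ofHom (algebraMap R (FractionRing R)))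
  -- the first graph
  obtain ⟨W₀, hW₀, ρ₀, τ₀, σ₀, hW₀n, hρ₀, hτ₀, hpq₀, hσρ₀, hστ₀, hsq₀, hfl₀, hbir₀⟩ :=
    GrothLib.RatSing29.exists_normal_graph fC p q g (fK ≫ h) hg
      (by rw [Category.assoc, hh.w, ← Category.assoc, hfK]) hC1.le hnX
  haveI := hW₀; haveI := hρ₀; haveI := hτ₀; haveI := hfl₀
  let p₀ := ρ₀ ≫ p
  haveI : IsProper p₀ := inferInstance
  haveI : Flat (Over.mk p₀).hom := hfl₀
  haveI : IsProper (Over.mk p₀).hom := ‹IsProper p₀›
  haveI : IsLocallyNoetherian W₀ := LocallyOfFiniteType.isLocallyNoetherian p₀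
  haveI : CompactSpace W₀ := QuasiCompact.compactSpace_of_compactSpace p₀
  haveI : IsNoetherian W₀ := {}
  haveI : IsOpenImmersion σ₀ := GrothLib.ArSurf29.isOpenImmersion_generic (X := Over.mk p₀) hsq₀
  haveI : IsOpenImmersion h := GrothLib.ArSurf29.isOpenImmersion_generic (X := Over.mk q) hh
  have heσ : σ₀ (genericPoint C) = genericPoint W₀ := genericPoint_eq_of_isOpenImmersion σ₀
  have heh : h (genericPoint D) = genericPoint Y := genericPoint_eq_of_isOpenImmersion h
  have heτ : τ₀ (genericPoint W₀) = genericPoint Y := by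
    rw [← heσ, ← Scheme.Hom.comp_apply, hστ₀, Scheme.Hom.comp_apply, heK, heh]
  have hd₀ : topologicalKrullDim W₀ ≤ 2 := GrothLib.RatSing29.dim_le_two_of_normalModel (X := Over.mk p₀) hsq₀ hW₀n hC1.le
  have halg : letI := (GrothLib.RatSing29.ffmap τ₀ heτ).toAlgebra; Algebra.IsAlgebraic Y.functionField W₀.functionField := by
    letI := (GrothLib.RatSing29.ffmap τ₀ heτ).toAlgebra
    obtain ⟨V, hV, hηV, -⟩ := exists_isAffineOpen_mem_and_subset (show genericPoint D ∈ (⊤ : D.Opens) from trivial)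
    have hfd := (GrothLib.NormAmple.affine_data fK hV hηV).1
    letI := (GrothLib.NormAmple.fmap fK).hom.toAlgebra
    haveI := hfd
    have hbσ : Function.Bijective (GrothLib.RatSing29.ffmap σ₀ heσ) := by
      refine (ConcreteCategory.bijective_of_isIso (σ₀.stalkMap (genericPoint C))).comp ⟨?_, ?_⟩
      · refine Function.LeftInverse.injective (g := W₀.presheaf.stalkSpecializes (specializes_of_eq heσ.symm)) fun t => ?_
        show W₀.presheaf.stalkSpecializes _ (W₀.presheaf.stalkSpecializes _ t) = t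
        simp [TopCat.Presheaf.stalkSpecializes_comp_apply]
      · refine Function.RightInverse.surjective (g := W₀.presheaf.stalkSpecializes (specializes_of_eq heσ.symm)) fun t => ?_
        show W₀.presheaf.stalkSpecializes _ (W₀.presheaf.stalkSpecializes _ t) = t
        simp [TopCat.Presheaf.stalkSpecializes_comp_apply]
    have hbh : Function.Bijective (GrothLib.RatSing29.ffmap h heh) := by
      refine (ConcreteCategory.bijective_of_isIso (h.stalkMap (genericPoint D))).comp ⟨?_, ?_⟩
      · refine Function.LeftInverse.injective (g := Y.presheaf.stalkSpecializes (specializes_of_eq heh.symm)) fun t => ?_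
        show Y.presheaf.stalkSpecializes _ (Y.presheaf.stalkSpecializes _ t) = t
        simp [TopCat.Presheaf.stalkSpecializes_comp_apply]
      · refine Function.RightInverse.surjective (g := Y.presheaf.stalkSpecializes (specializes_of_eq heh.symm)) fun t => ?_
        show Y.presheaf.stalkSpecializes _ (Y.presheaf.stalkSpecializes _ t) = t
        simp [TopCat.Presheaf.stalkSpecializes_comp_apply]
    have e1 : (σ₀ ≫ τ₀) (genericPoint C) = genericPoint Y := by rw [Scheme.Hom.comp_apply, heσ, heτ]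
    have hsquare : (GrothLib.RatSing29.ffmap σ₀ heσ).comp (GrothLib.RatSing29.ffmap τ₀ heτ) =
        ((GrothLib.RatSing29.ffmap fK heK)).comp (GrothLib.RatSing29.ffmap h heh) := by
      rw [← GrothLib.RatSing29.ffmap_comp σ₀ τ₀ heσ heτ e1, GrothLib.RatSing29.ffmap_congr hστ₀ e1,
        GrothLib.RatSing29.ffmap_comp fK h heK heh]
    refine ⟨fun z => ?_⟩
    obtain ⟨P, hP0, hP⟩ := (Algebra.IsAlgebraic.isAlgebraic (R := D.functionField) (GrothLib.RatSing29.ffmap σ₀ heσ z))
    let eh : Y.functionField ≃+* D.functionField := RingEquiv.ofBijective _ hbh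
    refine ⟨P.map eh.symm.toRingHom, (Polynomial.map_ne_zero_iff eh.symm.injective).2 hP0, hbσ.1 ?_⟩
    rw [map_zero, Polynomial.aeval_def, Polynomial.eval₂_map, Polynomial.hom_eval₂, ← hP, Polynomial.aeval_def]
    refine congrArg (fun e => Polynomial.eval₂ e _ P) (RingHom.ext fun c => ?_)
    exact (RingHom.congr_fun hsquare (eh.symm c)).trans (congrArg (GrothLib.RatSing29.ffmap fK heK) (eh.apply_symm_apply c))
  -- the separating ideals
  have hfin : {x : W₀ | x ∈ Models.specialFibreSet R (Over.mk p₀) ∧ ¬ IsClosed ({x} : Set W₀)}.Finite :=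
    GrothLib.ExcP1.finite_nonclosed (C := Models.specialFibreSet R (Over.mk p₀)) hd₀ (Models.isClosed_specialFibreSet R _) fun hη => by
      rw [← heσ] at hη
      exact (GrothLib.ArSurf29.range_generic (X := Over.mk p₀) hsq₀).le ⟨_, rfl⟩ hη
  have hE : ∀ ξ : W₀, ξ ∈ hfin.toFinset → ∃ E : Y.IdealSheafData, E ≠ ⊥ ∧ ∀ (W₁ Y' : Scheme.{u}) [IsIntegral W₁] [IsIntegral Y']
        (ρ₁ : W₁ ⟶ W₀) (τ₁ : W₁ ⟶ Y') (r : Y' ⟶ Y) (pY' : Y' ⟶ Spec (CommRingCat.of R)) [LocallyOfFiniteType pY'],
        ρ₁ ≫ τ₀ = τ₁ ≫ r → τ₁ ≫ pY' = ρ₁ ≫ p₀ → ρ₁ (genericPoint W₁) = genericPoint W₀ →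
        _root_.BlowUp.IsEffCartierIdeal (E.comap r) →
        ∀ ξ₁ : W₁, ρ₁ ξ₁ = ξ → ¬ IsClosed ({τ₁ ξ₁} : Set Y') := fun ξ hξ => by
    obtain ⟨hs, hnc⟩ := hfin.mem_toFinset.1 hξ
    obtain ⟨c, hc, hcc⟩ := GrothLib.ArSurf29.exists_isClosed_specialization ξ
    haveI : IsDomain (W₀.presheaf.stalk ξ) := (hW₀n ξ).1
    haveI := GrothLib.RatSing29.isDiscreteValuationRing_stalk_of_curve hd₀ hc (fun e => hnc (e ▸ hcc)) (fun e => by
      rw [e, ← heσ] at hs
      exact (GrothLib.ArSurf29.range_generic (X := Over.mk p₀) hsq₀).le ⟨_, rfl⟩ hs) (hW₀n ξ).2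
    exact GrothLib.RatSing29.exists_separating_ideal p₀ τ₀ heτ halg ξ hs hnc
  choose! Efun hEne hEprop using hE
  let E : Y.IdealSheafData := (hfin.toFinset.toList.map Efun).foldr (· * ·) ⊤
  have key : ∀ L : List Y.IdealSheafData, (∀ I ∈ L, I ≠ ⊥) → L.foldr (· * ·) ⊤ ≠ ⊥ ∧
      ∀ {T : Scheme.{u}} (r : T ⟶ Y), _root_.BlowUp.IsEffCartierIdeal ((L.foldr (· * ·) ⊤).comap r) →
        ∀ I ∈ L, _root_.BlowUp.IsEffCartierIdeal (I.comap r) := by
    have hsupp : ∀ I : Y.IdealSheafData, I ≠ ⊥ ↔ genericPoint Y ∉ (I.support : Set Y) := fun I => by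
      constructor
      · intro hI hη
        refine hI (Scheme.IdealSheafData.support_eq_top_iff.1 (SetLike.ext' (Set.eq_univ_of_forall fun z => ?_)))
        exact (genericPoint_specializes z).mem_closed I.support.isClosed hη
      · intro hη hI
        refine hη ?_
        rw [hI, Scheme.IdealSheafData.support_bot]
        trivial
    intro L
    induction L with
    | nil =>
      intro _
      refine ⟨(hsupp _).2 ?_, fun r _ I hI => by simp at hI⟩
      simp
    | cons I L ih =>
      intro hL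
      obtain ⟨h1, h2⟩ := ih fun J hJ => hL J (List.mem_cons_of_mem _ hJ)
      refine ⟨(hsupp _).2 ?_, fun r hr J hJ => ?_⟩
      · rw [List.foldr_cons, Scheme.IdealSheafData.support_mul, TopologicalSpace.Closeds.coe_sup]
        exact fun h => h.elim ((hsupp _).1 (hL I List.mem_cons_self)) ((hsupp _).1 h1)
      · rw [List.foldr_cons, GrothLib.BlowUp.comap_mul] at hr
        obtain ⟨hI', hL'⟩ := GrothLib.BlowUp.isEffCartierIdeal_factors_of_mul hr
        rcases List.mem_cons.1 hJ with rfl | hJ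
        · exact hI'
        · exact h2 r hL' J hJ
  obtain ⟨hEb, hEfac⟩ := key (hfin.toFinset.toList.map Efun) fun I hI => by
    obtain ⟨ξ, hξ, rfl⟩ := List.mem_map.1 hI
    exact hEne ξ (Finset.mem_toList.1 hξ)
  obtain ⟨Y', qr, hqr, hY', hY'n, hY'b, hY'E⟩ :=
    GrothLib.RatSing29.exists_normal_blowUp Y (GrothLib.RatSing29.isNagata_of_charZero q) E hEb
  haveI := hqr; haveI := hY'
  obtain ⟨h', hh'q, hsqY, hflY, -⟩ := GrothLib.RatSing29.exists_lift_of_modification hD1.le q hh hnY qr hY'b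
  haveI := hflY
  haveI : IsLocallyNoetherian Y' := LocallyOfFiniteType.isLocallyNoetherian qr
  -- the second graph
  obtain ⟨W₁, hW₁, ρ₁, τ₁, σ₁, hW₁n, hρ₁, hτ₁, hpq₁, hσρ₁, hστ₁, hsq₁, hfl₁, -⟩ :=
    GrothLib.RatSing29.exists_normal_graph fC p₀ (qr ≫ q) σ₀ (fK ≫ h') hsq₀
      (by rw [Category.assoc, hsqY.w, ← Category.assoc, hfK]) hC1.le hW₀n
  haveI := hW₁; haveI := hρ₁; haveI := hτ₁
  haveI : Flat (τ₁ ≫ qr ≫ q) := hpq₁ ▸ hfl₁
  haveI : IsOpenImmersion σ₁ := GrothLib.ArSurf29.isOpenImmersion_generic (X := Over.mk (ρ₁ ≫ p₀)) hsq₁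
  have heσ₁ : σ₁ (genericPoint C) = genericPoint W₁ := genericPoint_eq_of_isOpenImmersion σ₁
  have hcomm : ρ₁ ≫ τ₀ = τ₁ ≫ qr := by
    haveI : IsDominant σ₁ := ⟨by
      rw [DenseRange, dense_iff_closure_eq]
      exact Set.eq_univ_of_forall fun z => (genericPoint_specializes z).mem_closed isClosed_closure
        (subset_closure ⟨_, heσ₁⟩)⟩
    haveI : Y.IsSeparated := ⟨by rw [← terminal.comp_from q]; infer_instance⟩
    refine ext_of_isDominant σ₁ ?_
    rw [← Category.assoc, hσρ₁, hστ₀, ← Category.assoc σ₁, hστ₁, Category.assoc, hh'q]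
  -- the finite model
  obtain ⟨X', hX', m, f', hf', hmf, hm, hX'n, hsq'⟩ :=
    GrothLib.RatSing29.exists_finite_normal_model fK hfK hW₁n (qr ≫ q) τ₁ σ₁ h'
      (by rw [← hpq₁]; exact hsq₁) hsqY hστ₁
  haveI := hX'; haveI := hf'; haveI := hm
  let g' := σ₁ ≫ m
  let p' := f' ≫ qr ≫ q
  haveI : IsProper p' := inferInstance
  haveI : Flat p' := by
    refine GrothLib.CurvePoints.flat_of_dominant ?_ (fun y => (GrothLib.ProperFib19.isNormalScheme_spec R y).2) _ ?_
    · rw [show topologicalKrullDim (Spec (CommRingCat.of R)) = ringKrullDim R from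
        PrimeSpectrum.topologicalKrullDim_eq_ringKrullDim R]
      exact le_of_eq (IsDiscreteValuationRing.ringKrullDim_eq_one R)
    · have h1 : p' (g' (genericPoint C)) = genericPoint (Spec (CommRingCat.of R)) := by
        rw [← Scheme.Hom.comp_apply, hsq'.w, Scheme.Hom.comp_apply]
        rw [show fC (genericPoint C) = (default : Spec (CommRingCat.of (FractionRing R))) from Subsingleton.elim _ _]
        exact GrothLib.ProperFib19.genMap_default R (FractionRing R)
      have h2 : p' (genericPoint X') ⤳ genericPoint (Spec (CommRingCat.of R)) :=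
        h1 ▸ (genericPoint_specializes (g' (genericPoint C))).map p'.continuous
      exact (h2.antisymm (genericPoint_specializes _)).eq
  haveI : IsProper (Over.mk p').hom := ‹IsProper p'›
  haveI : Flat (Over.mk p').hom := ‹Flat p'›
  haveI : IsOpenImmersion g' := GrothLib.ArSurf29.isOpenImmersion_generic (X := Over.mk p') hsq'
  haveI : IsLocallyNoetherian X' := LocallyOfFiniteType.isLocallyNoetherian p'
  haveI : CompactSpace X' := QuasiCompact.compactSpace_of_compactSpace p'
  have heg' : g' (genericPoint C) = genericPoint X' := genericPoint_eq_of_isOpenImmersion g'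
  have hd' : topologicalKrullDim X' ≤ 2 := GrothLib.RatSing29.dim_le_two_of_normalModel (X := Over.mk p') hsq' hX'n hC1.le
  haveI : IsIntegral (Over.mk p').left := hX'
  haveI : IsIntegral (Over.mk p₀).left := hW₀
  obtain ⟨ψ, hψ⟩ := GrothLib.RatSing29.exists_hom_of_centered fC hC1.le (Over.mk p') (Over.mk p₀) hX'n hW₀n g' hsq' σ₀ hsq₀ (by
    intro ξ hξ hs hnc
    have hρη : ρ₁ (genericPoint W₁) = genericPoint W₀ := by rw [← heσ₁, ← Scheme.Hom.comp_apply, hσρ₁, heσ]
    obtain ⟨ξ₁, hξ₁⟩ : ξ ∈ Set.range ρ₁ :=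
      (genericPoint_specializes ξ).mem_closed ρ₁.isClosedMap.isClosed_range ⟨_, hρη⟩
    subst hξ₁
    have hy : ¬ IsClosed ({τ₁ ξ₁} : Set Y') :=
      hEprop _ (hfin.mem_toFinset.2 ⟨hs, hnc⟩) W₁ Y' ρ₁ τ₁ qr (qr ≫ q) hcomm hpq₁.symm hρη
        (hEfac qr hY'E _ (List.mem_map.2 ⟨_, Finset.mem_toList.2 (hfin.mem_toFinset.2 ⟨hs, hnc⟩), rfl⟩)) ξ₁ rfl
    let ξ' := m ξ₁
    have hξ'c : ¬ IsClosed ({ξ'} : Set X') := fun hc => hy (by
      have := f'.isClosedMap _ hc
      rw [Set.image_singleton] at this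
      rwa [show f' ξ' = τ₁ ξ₁ from by rw [← hmf]; rfl] at this)
    have hσ₁v : σ₁ (genericPoint C) ⤳ ξ₁ := heσ₁ ▸ genericPoint_specializes ξ₁
    have hg'v : g' (genericPoint C) ⤳ ξ' := heg' ▸ genericPoint_specializes ξ'
    have hs' : p' ξ' = IsLocalRing.closedPoint R := by
      have hs0 : p₀ (ρ₁ ξ₁) = IsLocalRing.closedPoint R := hs
      rw [← hs0, ← Scheme.Hom.comp_apply, ← Scheme.Hom.comp_apply]
      simp only [p', ← Category.assoc, hmf]
      rw [Category.assoc, ← hpq₁]
    obtain ⟨c, hc, hcc⟩ := GrothLib.ArSurf29.exists_isClosed_specialization ξ'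
    haveI : IsDomain (X'.presheaf.stalk ξ') := (hX'n ξ').1
    haveI := GrothLib.RatSing29.isDiscreteValuationRing_stalk_of_curve hd' hc (fun e => hξ'c (e ▸ hcc)) (fun e => by
      rw [e, ← heg'] at hs'
      exact (GrothLib.ArSurf29.range_generic (X := Over.mk p') hsq').le ⟨_, rfl⟩ hs') (hX'n ξ').2
    obtain ⟨c₀, hc₀, hcc₀⟩ := GrothLib.ArSurf29.exists_isClosed_specialization (ρ₁ ξ₁)
    haveI : IsDomain (W₀.presheaf.stalk (ρ₁ ξ₁)) := (hW₀n _).1
    haveI := GrothLib.RatSing29.isDiscreteValuationRing_stalk_of_curve hd₀ hc₀ (fun e => hnc (e ▸ hcc₀)) (fun e => by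
      have hs0 : p₀ (ρ₁ ξ₁) = IsLocalRing.closedPoint R := hs
      rw [e, ← heσ] at hs0
      exact (GrothLib.ArSurf29.range_generic (X := Over.mk p₀) hsq₀).le ⟨_, rfl⟩ hs0) (hW₀n _).2
    refine ⟨ξ', hg'v, ?_⟩
    have h1 := GrothLib.RatSing29.range_eq_of_dominates (K := C.functionField) (GrothLib.RatSing29.jmap g' (genericPoint C) hg'v)
      (GrothLib.RatSing29.jmap σ₁ (genericPoint C) hσ₁v) (m.stalkMap ξ₁).hom (GrothLib.RatSing29.jmap_injective g' _) (GrothLib.RatSing29.jmap_injective σ₁ _)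
      (fun b => GrothLib.RatSing29.jmap_stalkMap σ₁ m rfl _ hσ₁v hg'v b) (GrothLib.RatSing29.jmap_frac g' hg'v)
    have h2 := GrothLib.RatSing29.range_eq_of_dominates (K := C.functionField) (GrothLib.RatSing29.jmap σ₀ (genericPoint C) hξ)
      (GrothLib.RatSing29.jmap σ₁ (genericPoint C) hσ₁v) (ρ₁.stalkMap ξ₁).hom (GrothLib.RatSing29.jmap_injective σ₀ _) (GrothLib.RatSing29.jmap_injective σ₁ _)
      (fun b => GrothLib.RatSing29.jmap_stalkMap σ₁ ρ₁ hσρ₁ _ hσ₁v hξ b) (GrothLib.RatSing29.jmap_frac σ₀ hξ)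
    exact h1.trans h2.symm)
  let ρ : X' ⟶ X := ψ.left ≫ ρ₀
  have hψp : ψ.left ≫ p₀ = p' := Over.w ψ
  have hρp : ρ ≫ p = p' := by rw [Category.assoc]; exact hψp
  haveI : IsProper ψ.left := by
    haveI : IsProper (ψ.left ≫ p₀) := by rw [hψp]; infer_instance
    exact IsProper.of_comp ψ.left p₀
  haveI : IsProper ρ := inferInstance
  have hg'ρ : g' ≫ ρ = g := by
    simp only [ρ, ← Category.assoc]
    rw [show g' ≫ ψ.left = σ₀ from hψ, hσρ₀]
  haveI : IsOpenImmersion g := GrothLib.ArSurf29.isOpenImmersion_generic (X := Over.mk p) hg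
  have hρb : ∃ V : X.Opens, (V : Set X).Nonempty ∧ IsIso (ρ ∣_ V) := by
    obtain ⟨-, hU⟩ := GrothLib.RatSing29.isPullback_of_section ρ g g' hg'ρ fun z hz => by
      have h1 : ρ z ∈ (Models.specialFibreSet R (Over.mk p))ᶜ := (GrothLib.ArSurf29.range_generic (X := Over.mk p) hg).le hz
      refine (GrothLib.ArSurf29.range_generic (X := Over.mk p') hsq').ge fun hc => h1 ?_
      show p (ρ z) = IsLocalRing.closedPoint R
      rw [← Scheme.Hom.comp_apply, hρp]
      exact hc
    exact ⟨g.opensRange, ⟨_, ⟨genericPoint C, rfl⟩⟩, hU⟩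
  haveI : Flat (ρ ≫ p) := hρp ▸ ‹Flat p'›
  have hX'a := GrothLib.RatSing29.admissible_of_modification p hg hnX hcfX hratX hX'n ρ hρb
  have hY'a := GrothLib.RatSing29.admissible_of_modification q hh hnY hcfY hratY hY'n qr hY'b
  refine ⟨X', Y', p', qr ≫ q, g', h', ρ, qr, f', ⟨inferInstance, inferInstance, hsq', hX'n, ?_, hX'a.2⟩,
    ⟨inferInstance, hflY, hsqY, hY'n, hY'a.1, hY'a.2⟩, inferInstance, inferInstance, hρp, rfl, hg'ρ, hh'q, hf', rfl, ?_⟩
  · rw [← hρp]
    exact hX'a.1
  · rw [Category.assoc, hmf, hστ₁]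

end Groth.Agent.S15141
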