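import Groth.Statements.S1648
import Groth.Agent.Lib.RatSing29.SeqH1
import Groth.Agent.Lib.ArSurf29.MinimalEngine
import Groth.Agent.Lib.WeilExt.Extend

set_option autoImplicit false
universe u
open CategoryTheory CategoryTheory.Limits AlgebraicGeometry
open Resolve

namespace Groth.Agent.S1648

/-- A Nagata regular local ring of dimension two defines a rational singularity: every normal
modification of its spectrum has vanishing H^1 of the structure sheaf. -/
theorem result (A : Type u) [CommRing A] [IsRegularLocalRing A] (hN : CAlg.IsNagata A)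
    (hdim : ringKrullDim A = 2) : Curv2.IsRationalSing A := by
  intro X f hf hX hXn hbir
  haveI := hf
  haveI := hX
  haveI := GrothLib.CMFree.isDomain_of_isRegularLocalRing A
  haveI : IsRegularRing A := GrothLib.BlowUpRegular.isRegularRing_of_isRegularLocalRing A
  obtain ⟨U, hU, hiso⟩ := hbir
  have hregS : ∀ p : Spec (CommRingCat.of A), IsRegularLocalRing ((Spec (CommRingCat.of A)).presheaf.stalk p) :=
    fun p => GrothLib.WeilExt.isRegularLocalRing_stalk_spec A p
  have hdS : topologicalKrullDim (Spec (CommRingCat.of A)) = 2 :=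
    (PrimeSpectrum.topologicalKrullDim_eq_ringKrullDim A).trans hdim
  haveI := hiso
  obtain ⟨W, r, h, hr, hh, -⟩ := GrothLib.ArSurf29.exists_seq_extend (𝟙 (Spec (CommRingCat.of A))) f hregS
    hdS.le U hU (inv (f ∣_ U) ≫ (f ⁻¹ᵁ U).ι) (by
      rw [Category.assoc, ← morphismRestrict_ι, IsIso.inv_hom_id_assoc, Category.comp_id])
  rw [Category.comp_id] at hh
  have h0 : Subsingleton (Coh.HH (Spec (CommRingCat.of A)) (Coh.structureModule _) 1) :=
    @Equiv.subsingleton _ _ (GrothLib.Cohom.HEquivTop (Coh.toAb (Coh.structureModule (Spec (CommRingCat.of A)))) 1).toEquiv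
      (GrothLib.Cohom.subsingleton_ext_freeFun_of_isAffineOpen (isAffineOpen_top _) _ 0)
  obtain ⟨hW, hWn, hWi, hrp, hWreg, V, hV, hVi⟩ := @GrothLib.RatSing29.subsingleton_seq _ _ _ hr _ _ hregS h0
  haveI := hWi; haveI := hrp; haveI := hVi; haveI := hWn
  haveI : IsProper h := by
    haveI : IsProper (h ≫ f) := by rw [hh]; infer_instance
    exact IsProper.of_comp h f
  let O : (Spec (CommRingCat.of A)).Opens := U ⊓ V
  haveI hfO : IsIso (f ∣_ O) := GrothLib.Nagata6.isIso_restrict_of_le f U O inf_le_left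
  have hrO : IsIso (r ∣_ O) := GrothLib.Nagata6.isIso_restrict_of_le r V O inf_le_right
  haveI hhO : IsIso (h ∣_ (f ⁻¹ᵁ O)) := by
    have h1 := hrO
    rw [← hh, morphismRestrict_comp] at h1
    haveI := h1
    haveI := hfO
    exact @IsIso.of_isIso_comp_right _ _ _ _ _ (h ∣_ (f ⁻¹ᵁ O)) (f ∣_ O) hfO h1
  obtain ⟨u, hu⟩ := hU
  obtain ⟨v, hv⟩ := hV
  obtain ⟨q, hq⟩ := (f ∣_ O).homeomorph.surjective
    ⟨genericPoint _, (genericPoint_specializes u).mem_open U.isOpen hu, (genericPoint_specializes v).mem_open V.isOpen hv⟩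
  exact GrothLib.RatSing29.subsingleton_of_source h
    (GrothLib.RatSing29.isIso_app_of_birational h (fun x => (hXn x).2) (f ⁻¹ᵁ O) ⟨_, q.2⟩ hhO) hW

end Groth.Agent.S1648
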