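import Groth.Statements.S15142
import Groth.Agent.Lib.RatSing29.UnitDegree
import Groth.Agent.S1648
import Groth.Agent.S4710
import Groth.Agent.Lib.RLpsi8.ExcellentNagata
import Groth.Agent.Lib.WildQuot.Invariants


set_option autoImplicit false
universe u
open CategoryTheory CategoryTheory.Limits AlgebraicGeometry
open Resolve

namespace Groth.Agent.S15142

/-- Let R be a Noetherian domain, let A be an excellent Noetherian regular domain of Krull dimension two
(all localizations at primes are regular local rings) which is essentially of finite type over R,
and suppose a finite group G acts on A through ring automorphisms that commute with the R-action. If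
the order of G is a unit in A, then the ring of invariants A^G has rational singularities: its
localization at every maximal ideal of height two defines a rational singularity (every proper
morphism onto the spectrum from an integral normal scheme which is an isomorphism over a nonempty
open has H^1 of the structure sheaf zero). (The published statement does not assume the ring of
invariants excellent; its argument passes through the finite extension A^G ⊆ A of two-dimensional
excellent normal domains of degree dividing the order of G, and this row carries the excellence of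
A^G as a hypothesis.) -/
theorem result (R A : Type u) [CommRing R] [IsDomain R]
    [IsNoetherianRing R] [CommRing A] [IsDomain A] [IsNoetherianRing A] [Algebra R A] [Algebra.EssFiniteType R A]
    (hAe : EGA4.IsExcellent A) (hA2 : ringKrullDim A = 2)
    (hreg : ∀ (p : Ideal A) [p.IsPrime], IsRegularLocalRing (Localization.AtPrime p))
    (G : Type u) [Group G] [Finite G] [MulSemiringAction G A] [SMulCommClass G R A]
    (hG : IsUnit ((Nat.card G : ℕ) : A))
    (hGe : EGA4.IsExcellent (FixedPoints.subring A G))
    (m : Ideal (FixedPoints.subring A G)) [m.IsMaximal] (hm : ringKrullDim (Localization.AtPrime m) = 2) :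
    Curv2.IsRationalSing (Localization.AtPrime m) := by
  classical
  haveI : IsIntegrallyClosed A := IsIntegrallyClosed.of_localization_maximal fun p _ hp => by
    haveI := hp.isPrime
    haveI := hreg p
    exact GrothLib.RegLoc.isIntegrallyClosed_of_isRegularLocalRing _
  let H := (MulSemiringAction.toRingAut G A).range
  let F := FixedPoints.subring A G
  haveI : IsNoetherianRing F := hGe.1
  haveI : Algebra.IsInvariant F A H := ⟨fun a ha => ⟨⟨a, fun σ => ha ⟨_, σ, rfl⟩⟩, rfl⟩⟩
  haveI : SMulCommClass H F A := ⟨fun h b a => by
    obtain ⟨_, σ, rfl⟩ := h
    show σ • ((b : A) * a) = (b : A) * σ • a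
    rw [smul_mul', b.2 σ]⟩
  haveI : FaithfulSMul H A := ⟨fun {h₁ h₂} e => Subtype.ext (RingEquiv.ext fun a => e a)⟩
  haveI : IsGaloisGroup H F A := ⟨inferInstance, inferInstance, inferInstance⟩
  haveI : Finite H := Finite.of_surjective _ (MulSemiringAction.toRingAut G A).rangeRestrict_surjective
  haveI : IsIntegrallyClosed F :=
    GrothLib.WildQuot.isIntegrallyClosed_of_isInvariant F A H Subtype.val_injective
  haveI : Algebra.IsIntegral F A := Algebra.IsInvariant.isIntegral F A H
  haveI : FaithfulSMul F A := (faithfulSMul_iff_algebraMap_injective F A).2 Subtype.val_injective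
  letI : Algebra (FractionRing F) (FractionRing A) := FractionRing.liftAlgebra F (FractionRing A)
  haveI : IsScalarTower F (FractionRing F) (FractionRing A) := FractionRing.isScalarTower_liftAlgebra F (FractionRing A)
  letI := IsFractionRing.mulSemiringAction H A (FractionRing A)
  haveI : IsGaloisGroup H (FractionRing F) (FractionRing A) := inferInstance
  haveI : IsGalois (FractionRing F) (FractionRing A) := IsGaloisGroup.isGalois H _ _
  haveI : FiniteDimensional (FractionRing F) (FractionRing A) := IsGaloisGroup.finiteDimensional H _ _
  haveI : IsIntegralClosure A F (FractionRing A) := IsIntegralClosure.of_isIntegrallyClosed _ _ _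
  haveI : Module.Finite F A := IsIntegralClosure.finite F (FractionRing F) (FractionRing A) A
  have hdeg : IsUnit ((Module.finrank (FractionRing F) (FractionRing A) : ℕ) : F) := by
    rw [← IsGaloisGroup.card_eq_finrank H]
    suffices hu : IsUnit (((Nat.card H : ℕ) : A)) by
      obtain ⟨w, hw⟩ := hu
      refine IsUnit.of_mul_eq_one ⟨↑w⁻¹, fun σ => ?_⟩ (Subtype.ext (by simp [← hw]))
      have h1 : σ • (↑w⁻¹ : A) * σ • ((Nat.card H : ℕ) : A) = 1 := by
        rw [← smul_mul', ← hw, Units.inv_mul, smul_one]
      have h2 : σ • ((Nat.card H : ℕ) : A) = ((Nat.card H : ℕ) : A) :=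
        map_natCast (MulSemiringAction.toRingHom G A σ) _
      rw [h2, ← hw] at h1
      exact Units.eq_inv_of_mul_eq_one_left ((mul_comm _ _).trans h1)
    obtain ⟨c, hc⟩ := Subgroup.card_range_dvd (MulSemiringAction.toRingAut G A)
    rw [hc, Nat.cast_mul] at hG
    exact (IsUnit.mul_iff.1 hG).1
  refine GrothLib.RatSing29.isRationalSing_localization_of_unit_degree (A := F) (B := A) Subtype.val_injective
    (FractionRing F) (FractionRing A) hdeg hA2.le (fun n _ hn => ?_) m hm
  haveI := hreg n
  exact Groth.Agent.S1648.result _ (Groth.Agent.S4710.result _ (GrothLib.RLpsi8.isNagata_of_isExcellent hAe) n.primeCompl) hn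

end Groth.Agent.S15142
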