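import Groth.Statements.S15146
import Groth.Agent.Lib.BranchSing26.Basic

set_option autoImplicit false
universe u
open HilbZeta

namespace Groth.Agent.S15146

/-- Let k be a field, s a natural number and R a k-subalgebra of the product of s copies of the power
series ring k[[x]], of finite codimension δ over k and local with residue field k (all components of
an element of R have the same constant term); write v_i for the x-adic order of the i-th component
of an s-tuple, and let c = (c_1, …, c_s) be the conductor exponents, so that an s-tuple f satisfies
f·g ∈ R for every s-tuple g exactly when v_i(f) ≥ c_i for all i (over an algebraically closed field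
such an R is precisely the completed local ring of a reduced curve singularity having s branches
sitting inside its normalisation, δ is its delta invariant and the conductor ideal is generated by
the x_i^{c_i}). If J is an ideal of R of finite colength which contains, for each i, an element f_i
with v_i(f_i) = l_i, then every s-tuple g with v_i(g) ≥ l_i + c_i for all i lies in R and belongs to
J. (The published statement is over an algebraically closed field; this row allows any field.) -/
theorem result (k : Type u) [Field k] (s : ℕ)
    (R : Subalgebra k (Fin s → PowerSeries k))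
    (hfin : Module.Finite k ((Fin s → PowerSeries k) ⧸ Subalgebra.toSubmodule R))
    (hloc : ∀ f ∈ R, ∀ i j : Fin s, PowerSeries.constantCoeff (f i) = PowerSeries.constantCoeff (f j))
    (c : Fin s → ℕ)
    (hc : ∀ f : Fin s → PowerSeries k,
      (∀ g : Fin s → PowerSeries k, g * f ∈ R) ↔ ∀ i, ((c i : ℕ) : ℕ∞) ≤ (f i).order)
    (J : Ideal ↥R) (hJ : Module.Finite k (↥R ⧸ J))
    (l : Fin s → ℕ) (hl : ∀ i : Fin s, ∃ f ∈ J, ((f : Fin s → PowerSeries k) i).order = ((l i : ℕ) : ℕ∞))
    (g : Fin s → PowerSeries k) (hg : ∀ i : Fin s, ((l i + c i : ℕ) : ℕ∞) ≤ (g i).order) :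
    ∃ hgR : g ∈ R, (⟨g, hgR⟩ : ↥R) ∈ J := by
  refine GrothLib.BranchSing26.mem_ideal_of_dvd hc J l (fun i => ?_) g
    fun i => GrothLib.BranchSing26.le_order_iff_dvd.1 (hg i)
  obtain ⟨f, hf, he⟩ := hl i
  exact ⟨f, hf, GrothLib.BranchSing26.le_order_iff_dvd.1 he.ge, GrothLib.BranchSing26.not_dvd_of_order_eq he⟩

end Groth.Agent.S15146
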