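import Groth.Statements.S15147
import Groth.Agent.Lib.BranchSing26.Basic

set_option autoImplicit false
universe u
open HilbZeta

namespace Groth.Agent.S15147

/-- Let k be a field, s a natural number and R a k-subalgebra of the product of s copies of the power
series ring k[[x]], of finite codimension δ over k and local with residue field k (all components of
an element of R have the same constant term); write v_i for the x-adic order of the i-th component
of an s-tuple, and let c = (c_1, …, c_s) be the conductor exponents, so that an s-tuple f satisfies
f·g ∈ R for every s-tuple g exactly when v_i(f) ≥ c_i for all i (over an algebraically closed field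
such an R is precisely the completed local ring of a reduced curve singularity having s branches
sitting inside its normalisation, δ is its delta invariant and the conductor ideal is generated by
the x_i^{c_i}). Let I be an ideal of R of finite colength with branch-length vector a = (a_1, …,
a_s): for every i the ideal of k[[x]] generated by the i-th components of the elements of I is
(x^{a_i}), so that the pullback of Spec R/I to the i-th branch has length a_i. Then F^{a+c} ⊆ I ⊆
F^a: every s-tuple g with v_i(g) ≥ a_i + c_i for all i lies in R and belongs to I, and every element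
of I has v_i ≥ a_i for all i. (The published statement is over an algebraically closed field; this
row allows any field.) -/
theorem result (k : Type u) [Field k] (s : ℕ)
    (R : Subalgebra k (Fin s → PowerSeries k))
    (hfin : Module.Finite k ((Fin s → PowerSeries k) ⧸ Subalgebra.toSubmodule R))
    (hloc : ∀ f ∈ R, ∀ i j : Fin s, PowerSeries.constantCoeff (f i) = PowerSeries.constantCoeff (f j))
    (c : Fin s → ℕ)
    (hc : ∀ f : Fin s → PowerSeries k,
      (∀ g : Fin s → PowerSeries k, g * f ∈ R) ↔ ∀ i, ((c i : ℕ) : ℕ∞) ≤ (f i).order)
    (I : Ideal ↥R) (hI : Module.Finite k (↥R ⧸ I)) (a : Fin s → ℕ)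
    (ha : (∀ i : Fin s, Ideal.map ((Pi.evalAlgHom k (fun _ : Fin s => PowerSeries k) i).comp R.val) I = Ideal.span {PowerSeries.X ^ (a i)})) :
    (∀ g : Fin s → PowerSeries k, (∀ i : Fin s, ((a i + c i : ℕ) : ℕ∞) ≤ (g i).order) →
      ∃ hgR : g ∈ R, (⟨g, hgR⟩ : ↥R) ∈ I) ∧
    (∀ f ∈ I, ∀ i : Fin s, ((a i : ℕ) : ℕ∞) ≤ ((f : Fin s → PowerSeries k) i).order) := by
  exact ⟨fun g hg => GrothLib.BranchSing26.mem_ideal_of_map_eq hc I a ha g
      fun i => GrothLib.BranchSing26.le_order_iff_dvd.1 (hg i),
    fun f hf i => GrothLib.BranchSing26.le_order_iff_dvd.2
      (((GrothLib.BranchSing26.map_eq_span_iff R I i (a i)).1 (ha i)).1 f hf)⟩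

end Groth.Agent.S15147
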