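import Groth.Statements.S1515
import Groth.Agent.Lib.PerfHom.DiagPerfect
-- import your own Groth.Agent.* helpers here

set_option autoImplicit false
universe u
attribute [local instance] HasDerivedCategory.standard
open FlatMor

namespace Groth.Agent.S1515

open AlgebraicGeometry CategoryTheory Limits in
/-- (1) ⇔ (2) ⇔ (4): let f : X → Y be separated and of finite type between locally Noetherian schemes,
with diagonal Δ (a closed immersion). Then f is smooth iff f is flat and Δ is a regular closed
immersion, iff f is flat and Δ is a perfect morphism. -/
theorem result {X Y : Scheme.{u}} (f : X ⟶ Y) [IsSeparated f] [LocallyOfFiniteType f] [QuasiCompact f] [IsLocallyNoetherian X] [IsLocallyNoetherian Y] :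
    (Smooth f ↔ Flat f ∧ Mor2.IsRegularClosedImmersion (pullback.diagonal f)) ∧
    (Smooth f ↔ Flat f ∧ MoreMor.IsPerfectMor (pullback.diagonal f)) := by
  exact GrothLib.PHom.smooth_iff_diagonal f

end Groth.Agent.S1515
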