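import Groth.Statements.S15150
import Groth.Agent.Lib.BranchSing26.PointFlat

set_option autoImplicit false
universe u
open HilbZeta

namespace Groth.Agent.S15150

/-- Let A be a reduced commutative ring, S an A-algebra together with an A-algebra homomorphism π : S →
A (a section of Spec S → Spec A), with kernel m, and I an ideal of S such that S/I is a finite
projective A-module of constant rank d and m is contained in the radical of I (the finite flat
subscheme Spec S/I of degree d lies, as a set, on the section). Then m^d ⊆ I: the subscheme lies in
the (d−1)-st infinitesimal neighbourhood of the section. (The published statement is for a closed
subscheme, flat and proper of degree d over a Noetherian base, of a family of reduced curve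
singularities with a section, with no reducedness assumption on the base; over the dual numbers k[ε]
the ideal (x − ε) of k[ε][x] has quotient free of rank one and radical containing x but does not
contain x, so the base is taken reduced here, and the statement is given in its affine form, to
which the argument reduces at once; the curve hypotheses play no role and are dropped; the condition
that Spec S/I lies set-theoretically on the section, which the published argument deduces from
properness of Z inside the germ, is a hypothesis here.) -/
theorem result (A : Type u) [CommRing A] [IsReduced A]
    (S : Type u) [CommRing S] [Algebra A S] (π : S →ₐ[A] A) (I : Ideal S) (d : ℕ)
    [Module.Finite A (S ⧸ I)] [Module.Projective A (S ⧸ I)]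
    (hrank : ∀ p : PrimeSpectrum A, Module.rankAtStalk (R := A) (S ⧸ I) p = d)
    (hsupp : RingHom.ker π ≤ I.radical) :
    RingHom.ker π ^ d ≤ I := by
  exact GrothLib.BranchSing26.ker_pow_le (RingHom.ker π) I d hrank hsupp

end Groth.Agent.S15150
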