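import Groth.Statements.S15151
import Mathlib

set_option autoImplicit false
universe u
open CategoryTheory AlgebraicGeometry
open HilbZeta

namespace Groth.Agent.S15151

/-- Let k be a field, and let f : X → Y and g : Y → Spec k[t] be morphisms of schemes with f
quasi-compact and with zero kernel ideal sheaf (Y is the scheme-theoretic image of f), such that the
composite X → Spec k[t] is flat. Then g is flat; in particular a k[t]-subalgebra of a flat
k[t]-algebra is flat. (The published statement has no quasi-compactness hypothesis on f and is over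
an algebraically closed field; this row assumes f quasi-compact and allows any field.) -/
theorem result (k : Type u) [Field k]
    (X Y : Scheme.{u}) (f : X ⟶ Y) (g : Y ⟶ Spec (CommRingCat.of (Polynomial k)))
    [QuasiCompact f] (hker : f.ker = ⊥) [Flat (f ≫ g)] : Flat g := by
  rw [HasRingHomProperty.iff_of_iSup_eq_top (P := @Flat) (fun W : Y.affineOpens => W) (iSup_affineOpens_eq_top Y)]
  intro W
  set R := Γ(Spec (CommRingCat.of (Polynomial k)), ⊤)
  haveI : IsDomain R := (Scheme.ΓSpecIso (CommRingCat.of (Polynomial k))).commRingCatIsoToRingEquiv.toMulEquiv.isDomain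
  haveI : IsPrincipalIdealRing R := IsPrincipalIdealRing.of_surjective
    (Scheme.ΓSpecIso (CommRingCat.of (Polynomial k))).inv.hom
    (Scheme.ΓSpecIso (CommRingCat.of (Polynomial k))).commRingCatIsoToRingEquiv.symm.surjective
  letI := (g.appLE ⊤ W.1 le_top).hom.toAlgebra
  refine RingHom.flat_algebraMap_iff.2 ?_
  rw [IsDedekindDomain.flat_iff_torsion_eq_bot, eq_bot_iff]
  rintro z ⟨⟨p, hp⟩, hpz⟩
  rw [Submodule.mem_bot]
  replace hpz : (g.appLE ⊤ W.1 le_top).hom p * z = 0 := hpz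
  have hinj : RingHom.ker (f.app W.1).hom = ⊥ := by
    rw [← Scheme.Hom.ker_apply f W, hker]
    rfl
  refine (Ideal.mem_bot).1 (hinj ▸ ?_)
  rw [RingHom.mem_ker]
  refine TopCat.Sheaf.eq_of_locally_eq' X.sheaf
    (fun V : {V : X.affineOpens // V.1 ≤ f ⁻¹ᵁ W.1} => V.1.1) (f ⁻¹ᵁ W.1) (fun V => homOfLE V.2) ?_ _ _ fun V => ?_
  · intro x hx
    obtain ⟨V, hV, hxV, hVle⟩ := TopologicalSpace.Opens.isBasis_iff_nbhd.1 X.isBasis_affineOpens hx
    exact TopologicalSpace.Opens.mem_iSup.2 ⟨⟨⟨V, hV⟩, hVle⟩, hxV⟩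
  refine Eq.trans ?_ (map_zero (X.presheaf.map (homOfLE V.2).op).hom).symm
  show (f.app W.1 ≫ X.presheaf.map (homOfLE V.2).op).hom z = 0
  have hfl : ((f ≫ g).appLE ⊤ V.1.1 le_top).hom.Flat := Flat.flat_appLE _ (isAffineOpen_top _) V.1.2 _
  have hcomp : (g.appLE ⊤ W.1 le_top ≫ f.appLE W.1 V.1.1 V.2) = (f ≫ g).appLE ⊤ V.1.1 le_top :=
    Scheme.Hom.appLE_comp_appLE f g ⊤ W.1 V.1.1 le_top V.2
  have h0 : (f ≫ g).appLE ⊤ V.1.1 le_top p * (f.appLE W.1 V.1.1 V.2).hom z = 0 := by
    rw [← hcomp]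
    show (f.appLE W.1 V.1.1 V.2).hom ((g.appLE ⊤ W.1 le_top).hom p) * _ = 0
    rw [← map_mul, hpz, map_zero]
  letI := ((f ≫ g).appLE ⊤ V.1.1 le_top).hom.toAlgebra
  haveI : Module.Flat R Γ(X, V.1.1) := RingHom.flat_algebraMap_iff.1 hfl
  exact (Module.Flat.isSMulRegular_of_nonZeroDivisors hp).right_eq_zero_of_smul (r := p)
    (x := (f.appLE W.1 V.1.1 V.2).hom z) h0

end Groth.Agent.S15151
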