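import Groth.Statements.S15152
import Groth.Agent.Lib.BranchSing26.Model

set_option autoImplicit false
universe u
open HilbZeta

namespace Groth.Agent.S15152

/-- Let k be a field, s a natural number and R a k-subalgebra of the product of s copies of the power
series ring k[[x]], of finite codimension δ over k and local with residue field k (all components of
an element of R have the same constant term); write v_i for the x-adic order of the i-th component
of an s-tuple, and let c = (c_1, …, c_s) be the conductor exponents, so that an s-tuple f satisfies
f·g ∈ R for every s-tuple g exactly when v_i(f) ≥ c_i for all i (over an algebraically closed field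
such an R is precisely the completed local ring of a reduced curve singularity having s branches
sitting inside its normalisation, δ is its delta invariant and the conductor ideal is generated by
the x_i^{c_i}). Let A be the k-subalgebra of the product of s polynomial rings k[x] consisting of
the tuples whose image in the power series product lies in R, and m₀ its ideal of tuples with zero
constant terms. Then: A is of finite type over k and has no idempotents besides 0 and 1; the product
of polynomial rings is a finite A-module, and for some N every product of N elements of m₀
multiplies all of it into A; every element of R is approximated to any x-adic order by elements of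
A; and for every N there is an M such that every element of A whose components are all divisible by
x^M lies in m₀^N. In words: Y = Spec A is a connected affine curve whose normalisation is the
disjoint union of s affine lines and is an isomorphism away from the origin, and the completed local
ring of Y at the origin is R, compatibly with the inclusion of the polynomial product in the power
series product. (The published statement asserts the existence of such a curve Y and is over an
algebraically closed field; this row names Y and allows any field.) -/
theorem result (k : Type u) [Field k] (s : ℕ)
    (R : Subalgebra k (Fin s → PowerSeries k))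
    (hfin : Module.Finite k ((Fin s → PowerSeries k) ⧸ Subalgebra.toSubmodule R))
    (hloc : ∀ f ∈ R, ∀ i j : Fin s, PowerSeries.constantCoeff (f i) = PowerSeries.constantCoeff (f j))
    (c : Fin s → ℕ)
    (hc : ∀ f : Fin s → PowerSeries k,
      (∀ g : Fin s → PowerSeries k, g * f ∈ R) ↔ ∀ i, ((c i : ℕ) : ℕ∞) ≤ (f i).order)
    (A : Subalgebra k (Fin s → Polynomial k))
    (hA : ∀ g : Fin s → Polynomial k, g ∈ A ↔ (fun i => ((g i : Polynomial k) : PowerSeries k)) ∈ R) :
    Algebra.FiniteType k ↥A ∧
    (∀ e ∈ A, e * e = e → e = 0 ∨ e = 1) ∧
    Module.Finite ↥A (Fin s → Polynomial k) ∧
    (∃ N : ℕ, ∀ g : Fin N → (Fin s → Polynomial k),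
      (∀ n, g n ∈ A ∧ ∀ i, (g n i).coeff 0 = 0) → ∀ p : Fin s → Polynomial k, p * ∏ n, g n ∈ A) ∧
    (∀ f ∈ R, ∀ N : ℕ, ∃ g ∈ A, ∀ i : Fin s, (N : ℕ∞) ≤ (f i - ((g i : Polynomial k) : PowerSeries k)).order) ∧
    (∀ N : ℕ, ∃ M : ℕ, ∀ g : ↥A, (∀ i : Fin s, Polynomial.X ^ M ∣ (g : Fin s → Polynomial k) i) →
      g ∈ (Ideal.span {h : ↥A | ∀ i : Fin s, ((h : Fin s → Polynomial k) i).coeff 0 = 0}) ^ N) := by
  exact ⟨GrothLib.BranchSing26.model_finiteType hc hA, GrothLib.BranchSing26.model_idempotent hA hloc,
    GrothLib.BranchSing26.model_finite hc hA, GrothLib.BranchSing26.model_conductor hc hA,
    GrothLib.BranchSing26.model_dense hc hA, GrothLib.BranchSing26.model_adic hc hA⟩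

end Groth.Agent.S15152
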