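import Mathlib
import Groth.Statements.S15153
-- import your own Groth.Agent.* helpers here

set_option autoImplicit false
universe u
open TensorProduct
open HilbZeta

namespace Groth.Agent.S15153

/-- Let A be a Noetherian commutative ring, S a commutative A-algebra and Q an S-module which is finite
and flat as an A-module. For a prime p of A with residue field κ(p), multiplication by an element of
S induces a κ(p)-linear endomorphism of the fibre κ(p) ⊗_A Q; let φ(p) be the κ(p)-dimension of the
span of these endomorphisms, which is the colength of the annihilator of the fibre module κ(p) ⊗_A Q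
in the fibre algebra κ(p) ⊗_A S (the length of the smallest subscheme of the fibre carrying it).
Then p ↦ φ(p) is a constructible function: for every n the primes with φ(p) = n form a constructible
subset of Spec A. (The published statement is for a coherent sheaf, flat and finite over a
Noetherian base, on a family of reduced curve singularities with a section, and its function of the
base point is this colength; the curve hypotheses play no role and the row is the affine form over
any Noetherian ring.) -/
theorem result (A : Type u) [CommRing A] [IsNoetherianRing A]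
    (S : Type u) [CommRing S] [Algebra A S]
    (Q : Type u) [AddCommGroup Q] [Module A Q] [Module S Q] [IsScalarTower A S Q]
    [Module.Finite A Q] [Module.Flat A Q] (n : ℕ) :
    Topology.IsConstructible {p : PrimeSpectrum A |
      Module.finrank p.asIdeal.ResidueField
        (Submodule.span p.asIdeal.ResidueField
          (Set.range fun s : S =>
            LinearMap.baseChange p.asIdeal.ResidueField (DistribSMul.toLinearMap A Q s))) = n} := by
  classical
  haveI : Module.FinitePresentation A Q := Module.finitePresentation_of_finite A Q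
  haveI : Module.Projective A Q := Module.Flat.projective_of_finitePresentation
  obtain ⟨N, r, hr⟩ := Module.Finite.exists_fin' A Q
  obtain ⟨ι, hι⟩ := Module.projective_lifting_property r LinearMap.id hr
  let V : S → (Fin N × Fin N → A) := fun s ij => ι (s • r (Pi.single ij.2 1)) ij.1
  let φ : PrimeSpectrum A → ℕ := fun p => Module.finrank p.asIdeal.ResidueField
    (Submodule.span p.asIdeal.ResidueField
      (Set.range fun s : S => LinearMap.baseChange p.asIdeal.ResidueField (DistribSMul.toLinearMap A Q s)))
  let ψ : PrimeSpectrum A → ℕ := fun p => Module.finrank p.asIdeal.ResidueField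
    (Submodule.span p.asIdeal.ResidueField
      (Set.range fun s : S => (algebraMap A p.asIdeal.ResidueField ∘ V s : Fin N × Fin N → _)))
  have hφψ : ∀ p, φ p = ψ p := fun p => by
    let κ := p.asIdeal.ResidueField
    let coord : Fin N → (κ ⊗[A] Q →ₗ[κ] κ) := fun i =>
      (AlgebraTensorModule.rid A κ κ).toLinearMap ∘ₗ ((LinearMap.proj i).comp ι).baseChange κ
    have hcoord : ∀ i (c : κ) (q : Q), coord i (c ⊗ₜ q) = c * algebraMap A κ (ι q i) := fun i c q => by
      show (AlgebraTensorModule.rid A κ κ) ((((LinearMap.proj i).comp ι).baseChange κ) (c ⊗ₜ[A] q)) = _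
      rw [LinearMap.baseChange_tmul, AlgebraTensorModule.rid_tmul, Algebra.smul_def, mul_comm]
      rfl
    have hsum : ∀ q : Q, q = ∑ i, ι q i • r (Pi.single i 1) := fun q => by
      conv_lhs => rw [show q = r (ι q) from (LinearMap.congr_fun hι q).symm, ← Finset.univ_sum_single (ι q), map_sum]
      exact Finset.sum_congr rfl fun i _ => by rw [← map_smul, ← Pi.single_smul, smul_eq_mul, mul_one]
    have hz : ∀ z : κ ⊗[A] Q, z = ∑ i, coord i z • ((1 : κ) ⊗ₜ[A] r (Pi.single i 1)) := fun z => by
      induction z using TensorProduct.induction_on with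
      | zero => simp
      | add a b ha hb =>
        conv_lhs => rw [ha, hb]
        rw [← Finset.sum_add_distrib]
        exact Finset.sum_congr rfl fun i _ => by rw [map_add, add_smul]
      | tmul c q =>
        conv_lhs => rw [hsum q, TensorProduct.tmul_sum]
        refine Finset.sum_congr rfl fun i _ => ?_
        rw [hcoord, TensorProduct.smul_tmul', smul_eq_mul, mul_one, ← TensorProduct.smul_tmul, Algebra.smul_def, mul_comm]
    let L : (κ ⊗[A] Q →ₗ[κ] κ ⊗[A] Q) →ₗ[κ] (Fin N × Fin N → κ) :=
      { toFun := fun T ij => coord ij.1 (T ((1 : κ) ⊗ₜ r (Pi.single ij.2 1)))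
        map_add' := fun T T' => by funext ij; simp
        map_smul' := fun c T => by funext ij; simp }
    have hL : Function.Injective L := by
      rw [injective_iff_map_eq_zero]
      intro T hT
      have h1 : ∀ j, T ((1 : κ) ⊗ₜ r (Pi.single j 1)) = 0 := fun j => by
        rw [hz (T _)]
        exact Finset.sum_eq_zero fun i _ => by
          rw [show coord i (T _) = 0 from congrFun hT (i, j), zero_smul]
      refine LinearMap.ext fun z => ?_
      rw [hz z, map_sum]
      exact Finset.sum_eq_zero fun i _ => by rw [map_smul, h1, smul_zero]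
    have himg : ∀ s : S, L (LinearMap.baseChange κ (DistribSMul.toLinearMap A Q s)) = algebraMap A κ ∘ V s := fun s => by
      funext ij
      simp only [L, LinearMap.coe_mk, AddHom.coe_mk]
      rw [LinearMap.baseChange_tmul, hcoord, one_mul]
      rfl
    show Module.finrank κ _ = Module.finrank κ _
    rw [LinearEquiv.finrank_eq (Submodule.equivMapOfInjective L hL _), Submodule.map_span, ← Set.range_comp]
    rw [show (L ∘ fun s : S => LinearMap.baseChange κ (DistribSMul.toLinearMap A Q s)) =
      fun s => algebraMap A κ ∘ V s from funext himg]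
  have hopen : ∀ m, IsOpen {p | m ≤ ψ p} := fun m => isOpen_iff_forall_mem_open.2 fun p hp => by
    let κ := p.asIdeal.ResidueField
    let vec : S → (Fin N × Fin N → κ) := fun s => algebraMap A κ ∘ V s
    obtain ⟨t, ht, htspan, hli⟩ := exists_linearIndependent κ (Set.range vec)
    haveI : Finite t := hli.finite
    haveI := Fintype.ofFinite t
    have hcard : ψ p = Fintype.card t := by
      show Module.finrank κ (Submodule.span κ (Set.range vec)) = _
      rw [← htspan]
      have h' := finrank_span_eq_card hli
      rwa [Subtype.range_coe] at h'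
    let e : Fin (Fintype.card t) ≃ t := (Fintype.equivFin t).symm
    choose s hs using fun a : t => ht a.2
    have hm' : m ≤ Fintype.card t := hcard ▸ hp
    let sel : Fin m → S := fun a => s (e (Fin.castLE hm' a))
    let Vm : Matrix (Fin m) (Fin N × Fin N) A := fun a => V (sel a)
    have hliM : LinearIndependent κ (fun a => algebraMap A κ ∘ Vm a) := by
      have : (fun a => algebraMap A κ ∘ Vm a) = (fun x : t => (x : Fin N × Fin N → κ)) ∘ (e ∘ Fin.castLE hm') :=
        funext fun a => hs _
      rw [this]
      exact hli.comp _ (e.injective.comp (Fin.castLE_injective hm'))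
    obtain ⟨W₀, hW₀⟩ : ∃ W : Matrix (Fin N × Fin N) (Fin m) κ, Vm.map (algebraMap A κ) * W = 1 := by
      refine Matrix.mulVec_surjective_iff_exists_right_inverse.1 ?_
      have hinj : Function.Injective (Vm.map (algebraMap A κ)).vecMul :=
        Matrix.vecMul_injective_iff.2 hliM
      have := Matrix.vecMul_injective_iff.2 hliM
      intro y
      have hsurj : Function.Surjective (Vm.map (algebraMap A κ)).mulVecLin := by
        rw [← LinearMap.range_eq_top]
        refine Submodule.eq_top_of_finrank_eq ?_
        rw [← Matrix.rank, ← Matrix.rank_transpose, Module.finrank_fin_fun]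
        have hinj' : Function.Injective (Vm.map (algebraMap A κ)).transpose.mulVecLin := fun a b h => hinj (by
          simpa [Matrix.mulVec_transpose] using h)
        rw [Matrix.rank, LinearMap.finrank_range_of_inj hinj', Module.finrank_fin_fun]
      exact hsurj y
    obtain ⟨u, hu⟩ := IsLocalization.exist_integer_multiples_of_finite (nonZeroDivisors (A ⧸ p.asIdeal))
      (fun ab : (Fin N × Fin N) × Fin m => W₀ ab.1 ab.2)
    choose w hw using fun ab => hu ab
    choose W hW using fun ab : (Fin N × Fin N) × Fin m => Ideal.Quotient.mk_surjective (w ab)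
    let Wm : Matrix (Fin N × Fin N) (Fin m) A := fun i a => W (i, a)
    have hκ : ∀ x : A, algebraMap A κ x = algebraMap (A ⧸ p.asIdeal) κ (Ideal.Quotient.mk _ x) := fun x =>
      IsScalarTower.algebraMap_apply A (A ⧸ p.asIdeal) κ x
    have hWm : Wm.map (algebraMap A κ) = algebraMap (A ⧸ p.asIdeal) κ (u : A ⧸ p.asIdeal) • W₀ := by
      ext i a
      rw [Matrix.map_apply, hκ, hW]
      exact (hw (i, a)).trans (Algebra.smul_def _ _)
    have hu0 : algebraMap (A ⧸ p.asIdeal) κ (u : A ⧸ p.asIdeal) ≠ 0 :=
      fun h => nonZeroDivisors.coe_ne_zero u ((IsFractionRing.injective (A ⧸ p.asIdeal) κ) (h.trans (map_zero _).symm))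
    have hdet : (Vm * Wm).det ∉ p.asIdeal := fun h => by
      have h1 : algebraMap A κ (Vm * Wm).det = 0 := by
        rw [hκ, Ideal.Quotient.eq_zero_iff_mem.2 h, map_zero]
      rw [RingHom.map_det, RingHom.mapMatrix_apply, Matrix.map_mul, hWm, Matrix.mul_smul, hW₀, Matrix.det_smul,
        Matrix.det_one, mul_one] at h1
      exact hu0 (eq_zero_of_pow_eq_zero h1)
    refine ⟨PrimeSpectrum.basicOpen (Vm * Wm).det, fun q hq => ?_, (PrimeSpectrum.basicOpen _).isOpen, hdet⟩
    let κ' := q.asIdeal.ResidueField
    have hne : algebraMap A κ' (Vm * Wm).det ≠ 0 := fun h =>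
      (hq : (Vm * Wm).det ∉ q.asIdeal) ((Ideal.algebraMap_residueField_eq_zero).1 h)
    rw [RingHom.map_det, RingHom.mapMatrix_apply, Matrix.map_mul] at hne
    have hli' : LinearIndependent κ' (fun a => algebraMap A κ' ∘ Vm a) := by
      refine Matrix.vecMul_injective_iff (M := Vm.map (algebraMap A κ')) |>.1 fun a b hab => ?_
      have hu := (Matrix.isUnit_iff_isUnit_det _).2 (isUnit_iff_ne_zero.2 hne)
      refine Matrix.vecMul_injective_iff_isUnit.2 hu ?_
      show Matrix.vecMul a (Vm.map (algebraMap A κ') * Wm.map (algebraMap A κ')) =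
        Matrix.vecMul b (Vm.map (algebraMap A κ') * Wm.map (algebraMap A κ'))
      rw [← Matrix.vecMul_vecMul, ← Matrix.vecMul_vecMul]
      exact congrArg (fun v => Matrix.vecMul v (Wm.map (algebraMap A κ'))) hab
    show m ≤ ψ q
    have h2 : Submodule.span κ' (Set.range fun a => algebraMap A κ' ∘ Vm a) ≤
        Submodule.span κ' (Set.range fun s : S => (algebraMap A κ' ∘ V s : Fin N × Fin N → κ')) :=
      Submodule.span_mono (by rintro _ ⟨a, rfl⟩; exact ⟨sel a, rfl⟩)
    have h3 := Submodule.finrank_mono h2
    rwa [finrank_span_eq_card hli', Fintype.card_fin] at h3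
  have hc : ∀ m, Topology.IsConstructible {p | m ≤ ψ p} := fun m =>
    ((TopologicalSpace.NoetherianSpace.isCompact _).isRetrocompact (hopen m)).isConstructible (hopen m)
  have : {p : PrimeSpectrum A | φ p = n} = {p | n ≤ ψ p} \ {p | n + 1 ≤ ψ p} := by
    ext p
    simp only [Set.mem_setOf_eq, Set.mem_diff, hφψ]
    omega
  show Topology.IsConstructible {p : PrimeSpectrum A | φ p = n}
  rw [this]
  exact (hc n).sdiff (hc (n + 1))

end Groth.Agent.S15153
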