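import Groth.Statements.S15155
import Mathlib


set_option autoImplicit false
set_option linter.all false
set_option maxHeartbeats 1000000
open CAlg

namespace Groth.Agent.S15155

theorem transpose_J {R : Type*} [CommRing R] {m : ℕ} :
    (Matrix.fromBlocks 0 1 (-1) 0 : Matrix (Fin m ⊕ Fin m) (Fin m ⊕ Fin m) R).transpose =
      -Matrix.fromBlocks 0 1 (-1) 0 := by
  simp [Matrix.fromBlocks_transpose, Matrix.fromBlocks_neg]

theorem map_J {R R' : Type*} [CommRing R] [CommRing R'] {m : ℕ} (φ : R →+* R') :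
    (Matrix.fromBlocks 0 1 (-1) 0 : Matrix (Fin m ⊕ Fin m) (Fin m ⊕ Fin m) R).map φ =
      Matrix.fromBlocks 0 1 (-1) 0 := by
  ext (i | i) (j | j) <;> simp [Matrix.fromBlocks, Matrix.one_apply, apply_ite φ]

theorem det_J {R : Type*} [CommRing R] {m : ℕ} :
    (Matrix.fromBlocks 0 1 (-1) 0 : Matrix (Fin m ⊕ Fin m) (Fin m ⊕ Fin m) R).det = 1 := by
  have h : (Matrix.fromBlocks 0 1 (-1) 0 : Matrix (Fin m ⊕ Fin m) (Fin m ⊕ Fin m) R) =
      Matrix.fromBlocks 1 1 0 1 * Matrix.fromBlocks 1 0 (-1) 1 * Matrix.fromBlocks 1 1 0 1 := by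
    simp [Matrix.fromBlocks_multiply]
  rw [h, Matrix.det_mul, Matrix.det_mul, Matrix.det_fromBlocks_zero₂₁, Matrix.det_fromBlocks_zero₁₂]
  simp

theorem mapMatrix_smul {R R' : Type*} [CommRing R] [CommRing R'] {n : Type*} [Fintype n] [DecidableEq n]
    (φ : R →+* R') (c : R) (M : Matrix n n R) : φ.mapMatrix (c • M) = φ c • φ.mapMatrix M := by
  ext i j
  simp

open Classical in
theorem isSquare_det_field {K : Type*} [Field K] (h2 : (2 : K) ≠ 0) (N : ℕ) :
    ∀ {n : Type} [Fintype n] [DecidableEq n] {M : Matrix n n K}, Fintype.card n = N → M.transpose = -M →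
      IsSquare M.det := by
  induction N using Nat.strong_induction_on with
  | _ N ih =>
    intro n _ _ M hN hM
    by_cases h0 : ∀ i j, M i j = 0
    · have hM0 : M = 0 := Matrix.ext h0
      rcases isEmpty_or_nonempty n with hn | hn
      · rw [Matrix.det_isEmpty]; exact IsSquare.one
      · rw [hM0, Matrix.det_zero]; exact IsSquare.zero
    push Not at h0
    obtain ⟨i, j, hij⟩ := h0
    have hskew : ∀ a b, M b a = -M a b := fun a b => congrFun (congrFun hM a) b
    have hdiag : ∀ a, M a a = 0 := fun a => by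
      have h := hskew a a
      have : (2 : K) * M a a = 0 := by linear_combination h
      exact (mul_eq_zero.1 this).resolve_left h2
    have hne : i ≠ j := fun h => hij (h ▸ hdiag i)
    let p : n → Prop := fun x => x = i ∨ x = j
    let e := Equiv.sumCompl p
    let a := M.submatrix (fun x : {x // p x} => x.1) (fun x : {x // p x} => x.1)
    let B := M.submatrix (fun x : {x // p x} => x.1) (fun x : {x // ¬ p x} => x.1)
    let D := M.submatrix (fun x : {x // ¬ p x} => x.1) (fun x : {x // ¬ p x} => x.1)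
    have hblock : M.submatrix e e = Matrix.fromBlocks a B (-B.transpose) D := by
      ext (x | x) (y | y)
      · rfl
      · rfl
      · exact hskew y.1 x.1
      · rfl
    let f : Fin 2 → {x // p x} := ![⟨i, Or.inl rfl⟩, ⟨j, Or.inr rfl⟩]
    have hf : Function.Bijective f := by
      constructor
      · intro x y h
        fin_cases x <;> fin_cases y <;>
          first | rfl | exact absurd (congrArg Subtype.val h) hne | exact absurd (congrArg Subtype.val h) hne.symm
      · rintro ⟨x, rfl | rfl⟩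
        · exact ⟨0, rfl⟩
        · exact ⟨1, rfl⟩
    have hadet : a.det = M i j * M i j := by
      rw [← Matrix.det_submatrix_equiv_self (Equiv.ofBijective f hf) a, Matrix.det_fin_two]
      show M i i * M j j - M i j * M j i = _
      rw [hdiag, hskew i j]
      ring
    haveI : Invertible a.det := invertibleOfNonzero (by rw [hadet]; exact mul_ne_zero hij hij)
    haveI : Invertible a := Matrix.invertibleOfDetInvertible a
    rw [← Matrix.det_submatrix_equiv_self e M, hblock, Matrix.det_fromBlocks₁₁, hadet]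
    refine IsSquare.mul (show IsSquare (M i j * M i j) from ⟨M i j, rfl⟩) (ih _ ?_ rfl ?_)
    · rw [← hN, Fintype.card_subtype_compl]
      have : 0 < Fintype.card {x // p x} := Fintype.card_pos_iff.2 ⟨⟨i, Or.inl rfl⟩⟩
      have h2 := Fintype.card_subtype_le p
      omega
    · have haT : a.transpose = -a := by
        ext x y
        exact hskew x.1 y.1
      have hDT : D.transpose = -D := by
        ext x y
        exact hskew x.1 y.1
      have hinvT : (⅟ a).transpose = -(⅟ a) := by
        have h1 : (⅟ a).transpose * a.transpose = 1 := by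
          rw [← Matrix.transpose_mul, mul_invOf_self, Matrix.transpose_one]
        rw [haT, mul_neg] at h1
        have h3 := congrArg (fun z => -(z * ⅟ a)) h1
        simpa [mul_assoc] using h3
      rw [Matrix.transpose_sub, Matrix.transpose_mul, Matrix.transpose_mul, hinvT, hDT,
        Matrix.transpose_neg, Matrix.transpose_transpose]
      simp only [Matrix.mul_neg, Matrix.neg_mul, neg_neg, sub_neg_eq_add, neg_add, Matrix.mul_assoc]
      abel

theorem isSquare_det_skew {R : Type*} [CommRing R] [IsDomain R] [IsIntegrallyClosed R] (h2 : (2 : R) ≠ 0)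
    {n : Type} [Fintype n] [DecidableEq n] {M : Matrix n n R} (hM : M.transpose = -M) : IsSquare M.det := by
  let K := FractionRing R
  let φ := algebraMap R K
  have h2' : (2 : K) ≠ 0 := by
    rw [← map_ofNat φ 2]
    exact fun h => h2 (IsFractionRing.injective R K (h.trans (map_zero φ).symm))
  obtain ⟨z, hz⟩ := isSquare_det_field h2' (Fintype.card n) (M := M.map φ) rfl (by
    rw [← Matrix.transpose_map, hM]
    ext i j
    simp)
  rw [show (M.map φ).det = φ M.det from (RingHom.map_det φ M).symm] at hz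
  obtain ⟨y, hy⟩ := IsIntegrallyClosed.isIntegral_iff.1
    (show IsIntegral R z from IsIntegral.of_pow (n := 2) (by norm_num) (by rw [pow_two, ← hz]; exact isIntegral_algebraMap))
  exact ⟨y, IsFractionRing.injective R K (by rw [map_mul, hy]; exact hz)⟩


/-- Let J be the 2m × 2m block matrix with blocks 0, I_m in the first row and −I_m, 0 in the second,
over the complex numbers. On the set of complex 2m × 2m matrices A with ᵗA · J = J · A (equivalently
ᵗA = J A J⁻¹, J being invertible), the characteristic polynomial is the square of a single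
polynomial in the entries of A with coefficients in ℂ[X], and the determinant is the square of a
single polynomial in the entries of A. -/
theorem result (m : ℕ) :
    (∃ P : MvPolynomial ((Fin m ⊕ Fin m) × (Fin m ⊕ Fin m)) (Polynomial ℂ),
      ∀ A : Matrix (Fin m ⊕ Fin m) (Fin m ⊕ Fin m) ℂ,
        A.transpose * Matrix.fromBlocks 0 1 (-1) 0 = Matrix.fromBlocks 0 1 (-1) 0 * A →
        A.charpoly = (MvPolynomial.eval (fun ij => Polynomial.C (A ij.1 ij.2)) P) ^ 2) ∧
    (∃ Q : MvPolynomial ((Fin m ⊕ Fin m) × (Fin m ⊕ Fin m)) ℂ,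
      ∀ A : Matrix (Fin m ⊕ Fin m) (Fin m ⊕ Fin m) ℂ,
        A.transpose * Matrix.fromBlocks 0 1 (-1) 0 = Matrix.fromBlocks 0 1 (-1) 0 * A →
        A.det = (MvPolynomial.eval (fun ij => A ij.1 ij.2) Q) ^ 2) := by
  classical
  refine ⟨?_, ?_⟩
  · -- the characteristic polynomial
    let J : Matrix (Fin m ⊕ Fin m) (Fin m ⊕ Fin m) (MvPolynomial ((Fin m ⊕ Fin m) × (Fin m ⊕ Fin m)) (Polynomial ℂ)) := Matrix.fromBlocks 0 1 (-1) 0
    let Ag : Matrix (Fin m ⊕ Fin m) (Fin m ⊕ Fin m) (MvPolynomial ((Fin m ⊕ Fin m) × (Fin m ⊕ Fin m)) (Polynomial ℂ)) := Matrix.of fun i j => MvPolynomial.X (i, j)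
    let half : (MvPolynomial ((Fin m ⊕ Fin m) × (Fin m ⊕ Fin m)) (Polynomial ℂ)) := MvPolynomial.C (Polynomial.C (2⁻¹ : ℂ))
    let M : Matrix (Fin m ⊕ Fin m) (Fin m ⊕ Fin m) (MvPolynomial ((Fin m ⊕ Fin m) × (Fin m ⊕ Fin m)) (Polynomial ℂ)) :=
      (MvPolynomial.C Polynomial.X : (MvPolynomial ((Fin m ⊕ Fin m) × (Fin m ⊕ Fin m)) (Polynomial ℂ))) • J - half • (J * Ag - (J * Ag).transpose)
    have hM : M.transpose = -M := by
      simp only [M, Matrix.transpose_sub, Matrix.transpose_smul, Matrix.transpose_transpose]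
      rw [show J.transpose = -J from transpose_J]
      rw [smul_neg, smul_sub, smul_sub]
      abel
    have h2 : (2 : (MvPolynomial ((Fin m ⊕ Fin m) × (Fin m ⊕ Fin m)) (Polynomial ℂ))) ≠ 0 := two_ne_zero
    obtain ⟨P, hP⟩ := isSquare_det_skew (R := (MvPolynomial ((Fin m ⊕ Fin m) × (Fin m ⊕ Fin m)) (Polynomial ℂ))) h2 hM
    refine ⟨P, fun A hA => ?_⟩
    let φ : (MvPolynomial ((Fin m ⊕ Fin m) × (Fin m ⊕ Fin m)) (Polynomial ℂ)) →+* Polynomial ℂ := MvPolynomial.eval (fun ij => Polynomial.C (A ij.1 ij.2))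
    let J' : Matrix (Fin m ⊕ Fin m) (Fin m ⊕ Fin m) (Polynomial ℂ) := Matrix.fromBlocks 0 1 (-1) 0
    have hA' : (A.map Polynomial.C).transpose * J' = J' * A.map Polynomial.C := by
      have := congrArg (fun B : Matrix _ _ ℂ => B.map Polynomial.C) hA
      simp only [Matrix.map_mul, Matrix.transpose_map, map_J] at this
      exact this
    have hJ : φ.mapMatrix J = J' := map_J φ
    have hAg : φ.mapMatrix Ag = A.map Polynomial.C := by
      ext i j
      simp [φ, Ag]
    have key : φ.mapMatrix M = J' * A.charmatrix := by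
      have e1 : (φ.mapMatrix Ag).transpose = φ.mapMatrix Ag.transpose := (Matrix.transpose_map).symm
      simp only [M, map_sub]
      rw [mapMatrix_smul, mapMatrix_smul, map_sub, map_mul, hJ, hAg,
        show φ.mapMatrix (J * Ag).transpose = (φ.mapMatrix (J * Ag)).transpose from Matrix.transpose_map.symm,
        map_mul, hJ, hAg, Matrix.transpose_mul, show J'.transpose = -J' from transpose_J, mul_neg, hA', sub_neg_eq_add,
        ← two_smul (Polynomial ℂ), smul_smul]
      rw [show φ half * 2 = 1 by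
          simp only [φ, half, MvPolynomial.eval_C]
          rw [show (2 : Polynomial ℂ) = Polynomial.C 2 from (map_ofNat _ 2).symm, ← map_mul,
            inv_mul_cancel₀ two_ne_zero, map_one],
        one_smul, show φ (MvPolynomial.C Polynomial.X) = Polynomial.X from MvPolynomial.eval_C _,
        Matrix.charmatrix, Matrix.mul_sub, Matrix.scalar_apply, ← Matrix.smul_one_eq_diagonal, Matrix.mul_smul,
        mul_one]
      rfl
    have hdet := congrArg Matrix.det key
    rw [← RingHom.map_det, Matrix.det_mul, det_J, one_mul] at hdet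
    rw [Matrix.charpoly, ← hdet, hP, map_mul, pow_two]
  · let J : Matrix (Fin m ⊕ Fin m) (Fin m ⊕ Fin m) (MvPolynomial ((Fin m ⊕ Fin m) × (Fin m ⊕ Fin m)) ℂ) := Matrix.fromBlocks 0 1 (-1) 0
    let Ag : Matrix (Fin m ⊕ Fin m) (Fin m ⊕ Fin m) (MvPolynomial ((Fin m ⊕ Fin m) × (Fin m ⊕ Fin m)) ℂ) := Matrix.of fun i j => MvPolynomial.X (i, j)
    let half : (MvPolynomial ((Fin m ⊕ Fin m) × (Fin m ⊕ Fin m)) ℂ) := MvPolynomial.C (2⁻¹ : ℂ)
    let M : Matrix (Fin m ⊕ Fin m) (Fin m ⊕ Fin m) (MvPolynomial ((Fin m ⊕ Fin m) × (Fin m ⊕ Fin m)) ℂ) := half • (J * Ag - (J * Ag).transpose)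
    have hM : M.transpose = -M := by
      simp only [M, Matrix.transpose_sub, Matrix.transpose_smul, Matrix.transpose_transpose]
      rw [← smul_neg, neg_sub]
    have h2 : (2 : (MvPolynomial ((Fin m ⊕ Fin m) × (Fin m ⊕ Fin m)) ℂ)) ≠ 0 := two_ne_zero
    obtain ⟨P, hP⟩ := isSquare_det_skew (R := (MvPolynomial ((Fin m ⊕ Fin m) × (Fin m ⊕ Fin m)) ℂ)) h2 hM
    refine ⟨P, fun A hA => ?_⟩
    let φ : (MvPolynomial ((Fin m ⊕ Fin m) × (Fin m ⊕ Fin m)) ℂ) →+* ℂ := MvPolynomial.eval (fun ij => A ij.1 ij.2)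
    let J' : Matrix (Fin m ⊕ Fin m) (Fin m ⊕ Fin m) ℂ := Matrix.fromBlocks 0 1 (-1) 0
    have hJ : φ.mapMatrix J = J' := map_J φ
    have hAg : φ.mapMatrix Ag = A := by
      ext i j
      simp [φ, Ag]
    have key : φ.mapMatrix M = J' * A := by
      simp only [M]
      rw [mapMatrix_smul, map_sub, show φ.mapMatrix (J * Ag).transpose = (φ.mapMatrix (J * Ag)).transpose from Matrix.transpose_map.symm,
        map_mul, hJ, hAg, Matrix.transpose_mul, show J'.transpose = -J' from transpose_J, mul_neg,
        show A.transpose * J' = J' * A from hA, sub_neg_eq_add, ← two_smul ℂ, smul_smul,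
        show φ half * 2 = 1 by
          simp only [φ, half, MvPolynomial.eval_C]
          exact inv_mul_cancel₀ two_ne_zero, one_smul]
    have hdet := congrArg Matrix.det key
    rw [← RingHom.map_det, Matrix.det_mul, det_J, one_mul] at hdet
    rw [← hdet, hP, map_mul, pow_two]

end Groth.Agent.S15155
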