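import Groth.Statements.S15156
import Groth.Agent.Lib.Euler.Slope3
import Groth.Agent.Lib.CurveMult.RelNef
import Groth.Agent.Lib.OX.LocFreeTensor

set_option autoImplicit false
open CategoryTheory CategoryTheory.Limits AlgebraicGeometry
open VBCurve

namespace Groth.Agent.S15156

set_option backward.isDefEq.respectTransparency false

theorem isFinLocFreeOfRank_pullback' {X Y : Scheme.{0}} (f : X ⟶ Y) {M : Y.Modules} {n : ℕ}
    (h : FlatMod.IsFinLocFreeOfRank n M) : FlatMod.IsFinLocFreeOfRank n ((Scheme.Modules.pullback f).obj M) := fun x => by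
  obtain ⟨U, hx, ⟨e⟩⟩ := h (f x)
  exact ⟨f ⁻¹ᵁ U, hx, ⟨(GrothLib.OX.pullSquareIso f U).app M ≪≫ (Scheme.Modules.pullback (f ∣_ U)).mapIso e ≪≫
    GrothLib.OX.pullFreeModIso _ n⟩⟩

theorem mono_pullback_of_isIso {X Y : Scheme.{0}} (f : X ⟶ Y) [IsIso f] {A B : Y.Modules} (i : A ⟶ B) [Mono i] :
    Mono ((Scheme.Modules.pullback f).map i) := by
  have e := (Scheme.Modules.restrictFunctorIsoPullback f).inv.naturality i
  have h : (Scheme.Modules.pullback f).map i = (Scheme.Modules.restrictFunctorIsoPullback f).inv.app A ≫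
      (Scheme.Modules.restrictFunctor f).map i ≫ (Scheme.Modules.restrictFunctorIsoPullback f).hom.app B := by
    rw [← Category.assoc, ← e, Category.assoc, Iso.inv_hom_id_app, Category.comp_id]
  rw [h]
  haveI : Mono ((Scheme.Modules.restrictFunctor f).map i) := inferInstance
  infer_instance


/-- Let X be a smooth proper integral curve of genus at least 2 over the complex numbers with an
involution σ ≠ id over the complex numbers, and (E, φ) a σ-linearized finite locally free module of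
rank r ≥ 1: φ : σ^*E ≅ E with φ ∘ σ^*φ equal to the canonical identification σ^*σ^*E ≅ E. A
submodule F ⊂ E is σ-invariant when the composite σ^*F → σ^*E → E factors through F. Then (E, φ) is
semistable with respect to σ-invariant finite locally free submodules (deg F · r ≤ deg E · rk F for
each such F of positive rank) if and only if E is slope-semistable (the same inequality for every
finite locally free submodule of positive rank); degrees are χ − rank · χ(O). -/
theorem result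
    (X : Scheme.{0}) [X.Over (Spec (CommRingCat.of ℂ))] [IsIntegral X] [IsProper (X ↘ Spec (CommRingCat.of ℂ))] [Smooth (X ↘ Spec (CommRingCat.of ℂ))]
    (hdim : topologicalKrullDim X = 1) (hg : 2 ≤ Curv2.genus ℂ X)
    (σ : X ⟶ X) (hσS : σ ≫ (X ↘ Spec (CommRingCat.of ℂ)) = X ↘ Spec (CommRingCat.of ℂ)) (hσ : σ ≫ σ = 𝟙 X) (hσ1 : σ ≠ 𝟙 X)
    (r : ℕ) (hr : 0 < r) (E : X.Modules) (hE : FlatMod.IsFinLocFreeOfRank r E)
    (φ : (Scheme.Modules.pullback σ).obj E ≅ E)
    (hφ : (Scheme.Modules.pullback σ).map φ.hom ≫ φ.hom =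
      (Scheme.Modules.pullbackComp σ σ).hom.app E ≫ (Scheme.Modules.pullbackCongr hσ).hom.app E ≫
        (Scheme.Modules.pullbackId X).hom.app E) :
    (∀ (F : X.Modules) (r' : ℕ) (i : F ⟶ E), Mono i → 0 < r' → FlatMod.IsFinLocFreeOfRank r' F →
      (∃ j : (Scheme.Modules.pullback σ).obj F ⟶ F, j ≫ i = (Scheme.Modules.pullback σ).map i ≫ φ.hom) →
      Curv2.deg ℂ X F r' * (r : ℤ) ≤ Curv2.deg ℂ X E r * (r' : ℤ)) ↔
    (∀ (F : X.Modules) (r' : ℕ) (i : F ⟶ E), Mono i → 0 < r' → FlatMod.IsFinLocFreeOfRank r' F →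
      Curv2.deg ℂ X F r' * (r : ℤ) ≤ Curv2.deg ℂ X E r * (r' : ℤ)) := by
  refine ⟨fun h F r' i hi hr' hF => ?_, fun h F r' i hi hr' hF _ => h F r' i hi hr' hF⟩
  haveI : IsIso σ := ⟨⟨σ, hσ, hσ⟩⟩
  haveI := GrothLib.Euler.isNoetherian_of_proper (X := X) ℂ
  have hd := hdim.le
  have hpid := GrothLib.Euler.isPrincipalIdealRing_stalk_of_smooth (X ↘ Spec (CommRingCat.of ℂ)) hd
  obtain ⟨E₁, r₁, i₁, hi₁, hr₁, hE₁, hm⟩ := GrothLib.Euler.exists_max_slope ℂ hd hr hE
  haveI := hi₁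
  have hE₁' := isFinLocFreeOfRank_pullback' σ hE₁
  haveI : E₁.IsQuasicoherent :=
    (GrothLib.Euler.isCoh_of_isFinLocFree (GrothLib.FinCov.isFinLocFree_of_rank hE₁)).1
  have hdeg : Curv2.deg ℂ X ((Scheme.Modules.pullback σ).obj E₁) r₁ = Curv2.deg ℂ X E₁ r₁ := by
    rw [Curv2.deg, Curv2.deg, GrothLib.CurveMult.RelNef.euler_pullback_iso σ hσS E₁]
  haveI := mono_pullback_of_isIso σ i₁
  let i₁' : (Scheme.Modules.pullback σ).obj E₁ ⟶ E := (Scheme.Modules.pullback σ).map i₁ ≫ φ.hom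
  haveI : Mono i₁' := mono_comp _ _
  obtain ⟨j, hj⟩ := GrothLib.Euler.exists_factor_max_slope ℂ hd hpid hr₁ hr₁ hE hE₁' hE₁ i₁' i₁
    (by rw [hdeg]; exact fun G r'' a ha h1 h2 => (hm G r'' a ha h1 h2).1)
    (fun G r'' a ha h1 h2 => (hm G r'' a ha h1 h2).1)
    (fun Q s a ha hs hQ => (haveI := ha; GrothLib.Euler.quotient_slope_lt ℂ hd hpid hr₁ hE hE₁ i₁ hm a hs hQ))
  have h1 := h E₁ r₁ i₁ hi₁ hr₁ hE₁ ⟨j, hj⟩
  have h2 := (hm F r' i hi hr' hF).1
  have hr₁Z : (0 : ℤ) < r₁ := by exact_mod_cast hr₁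
  refine le_of_mul_le_mul_left ?_ hr₁Z
  calc (r₁ : ℤ) * (Curv2.deg ℂ X F r' * r) = (Curv2.deg ℂ X F r' * r₁) * r := by ring
    _ ≤ (Curv2.deg ℂ X E₁ r₁ * r') * r := mul_le_mul_of_nonneg_right h2 (by positivity)
    _ = (Curv2.deg ℂ X E₁ r₁ * r) * r' := by ring
    _ ≤ (Curv2.deg ℂ X E r * r₁) * r' := mul_le_mul_of_nonneg_right h1 (by positivity)
    _ = (r₁ : ℤ) * (Curv2.deg ℂ X E r * r') := by ring

end Groth.Agent.S15156
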