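import Groth.Statements.S15157
-- import your own Groth.Agent.* helpers here
import Groth.Agent.Lib.DoubleCan28.Field
import Groth.Agent.Lib.KummerCov28.Pull
import Groth.Agent.Lib.CurveMult.OmegaField
import Groth.Agent.Lib.TwoCovers28.Sch

set_option autoImplicit false
set_option maxHeartbeats 1600000
set_option linter.style.haveILetI false
set_option backward.isDefEq.respectTransparency false
open CategoryTheory CategoryTheory.Limits AlgebraicGeometry
open Curves

namespace Groth.Agent.S15157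

/-- Let X be a smooth proper integral curve of genus at least 2 over the complex numbers with an
involution σ ≠ id over the complex numbers, and π : X → Y its quotient double cover: Y a smooth
proper integral curve and π a finite flat morphism of constant rank 2 over the complex numbers with
π ∘ σ = π. Then the sheaf of differentials of X over the complex numbers descends to Y: it is
isomorphic to π^*M for some invertible O_Y-module M (existence of M and of an isomorphism only). -/
theorem result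
    (X Y : Scheme.{0}) [X.Over (Spec (CommRingCat.of ℂ))] [Y.Over (Spec (CommRingCat.of ℂ))]
    [IsIntegral X] [IsProper (X ↘ Spec (CommRingCat.of ℂ))] [Smooth (X ↘ Spec (CommRingCat.of ℂ))] (hdimX : topologicalKrullDim X = 1)
    (hg : 2 ≤ Curv2.genus ℂ X)
    [IsIntegral Y] [IsProper (Y ↘ Spec (CommRingCat.of ℂ))] [Smooth (Y ↘ Spec (CommRingCat.of ℂ))] (hdimY : topologicalKrullDim Y = 1)
    (σ : X ⟶ X) (hσS : σ ≫ (X ↘ Spec (CommRingCat.of ℂ)) = X ↘ Spec (CommRingCat.of ℂ)) (hσ : σ ≫ σ = 𝟙 X) (hσ1 : σ ≠ 𝟙 X)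
    (π : X ⟶ Y) [IsFinite π] [Flat π] (hπ : π ≫ (Y ↘ Spec (CommRingCat.of ℂ)) = X ↘ Spec (CommRingCat.of ℂ))
    (hrk : ∀ y : ↥Y, Scheme.Hom.finrank π y = 2) (hσπ : σ ≫ π = π) :
    ∃ M : Y.Modules, PicF.IsInvertible M ∧
      Nonempty ((Scheme.Modules.pullback π).obj M ≅ Omega.sheaf (X ↘ Spec (CommRingCat.of ℂ))) := by
  haveI := GrothLib.CurveRR.regCurve_of_smooth (X ↘ Spec (CommRingCat.of ℂ)) hdimX
  haveI := GrothLib.CurveRR.regCurve_of_smooth (Y ↘ Spec (CommRingCat.of ℂ)) hdimY
  obtain ⟨e, d⟩ := GrothLib.TwoCovers28.range_and_finrank ℂ π hπ hrk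
  have hX0 := GrothLib.CurveRR.finrank_H0_structure_eq_one ℂ (X := X)
  have hY0 := GrothLib.CurveRR.finrank_H0_structure_eq_one ℂ (X := Y)
  have hKX := GrothLib.CurveRR.isFunctionField ℂ hX0
  have hKY := GrothLib.CurveRR.isFunctionField ℂ hY0
  letI := (GrothLib.CurveMult.Hurwitz.ψ e).toAlgebra
  haveI : IsScalarTower ℂ Y.functionField X.functionField :=
    .of_algebraMap_eq fun c => (GrothLib.CurveMult.Hurwitz.ψ_algebraMap ℂ e hπ c).symm
  haveI : FiniteDimensional Y.functionField X.functionField := Module.finite_of_finrank_pos (by omega)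
  obtain ⟨D, hD⟩ := GrothLib.DoubleCan28.exists_canonical_conorm hKX hKY d two_ne_zero
  obtain ⟨C, hC, ⟨eC⟩⟩ := GrothLib.CurveMult.OmegaField.exists_iso_canonical ℂ hdimX hX0
  obtain ⟨hl, hdg⟩ := GrothLib.FunFld.ell_canonical hKX hD
  obtain ⟨e'⟩ := GrothLib.CurveMult.DivIso.nonempty_iso_of_sub_mem ℂ
    (GrothLib.FunFld.sub_mem_prinDivs_of_canonical hKX hC hdg (le_of_eq hl.symm))
  obtain ⟨e''⟩ := GrothLib.KummerCov28.nonempty_pullback_iso ℂ e hπ D
  exact ⟨GrothLib.CurveRR.oD ℂ D, GrothLib.CurveRR.isInvertible_oD ℂ D, ⟨e'' ≪≫ e' ≪≫ eC.symm⟩⟩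

end Groth.Agent.S15157
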