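import Groth.Statements.S15159
import Mathlib
-- import your own Groth.Agent.* helpers here

set_option autoImplicit false
open CAlg

namespace Groth.Agent.S15159

/-- Let W be a finite-dimensional complex vector space with an involution s, H a finite-dimensional
complex vector space and q : H → H → W a nonzero bilinear map with q(x)(y) = s(q(y)(x)). Write V^⊥ =
{x | q(x)(y) = 0 for all y ∈ V} and call V totally isotropic when q vanishes on V × V. The pair (H,
q) is semistable (dim V + dim V^⊥ ≤ dim H for every nonzero totally isotropic subspace V),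
respectively stable (strict inequality), if and only if the line of q is semistable, respectively
stable, for the action of SL(H), the latter being expressed through one-parameter subgroups: for
every decomposition H = ⊕_i H_i into subspaces with integer weights m_i such that Σ_i m_i dim H_i =
0 and some nonzero H_i has nonzero weight, there are indices i, j with q(H_i, H_j) ≠ 0 and m_i + m_j
≤ 0, respectively m_i + m_j < 0. (The published statement speaks of semistability and stability of
the point of the projective space of such forms under SL(H); this row states the numerical condition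
on one-parameter subgroups to which that is equivalent and which the published argument verifies.) -/
theorem result
    (W : Type) [AddCommGroup W] [Module ℂ W] [FiniteDimensional ℂ W]
    (s : W →ₗ[ℂ] W) (hs : s ∘ₗ s = LinearMap.id)
    (H : Type) [AddCommGroup H] [Module ℂ H] [FiniteDimensional ℂ H]
    (q : H →ₗ[ℂ] H →ₗ[ℂ] W) (hq : ∀ x y : H, q x y = s (q y x)) (hq0 : q ≠ 0) :
    ((∀ V : Submodule ℂ H, V ≠ ⊥ → (∀ x ∈ V, ∀ y ∈ V, q x y = 0) →
        Module.finrank ℂ V + Module.finrank ℂ ↥(⨅ (y : H) (_ : y ∈ V), LinearMap.ker (q.flip y) : Submodule ℂ H) ≤ Module.finrank ℂ H) ↔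
      (∀ (ι : Type) [Fintype ι] [DecidableEq ι] (Hs : ι → Submodule ℂ H) (m : ι → ℤ),
        DirectSum.IsInternal Hs → (∑ i, m i * (Module.finrank ℂ (Hs i) : ℤ)) = 0 →
        (∃ i, m i ≠ 0 ∧ Hs i ≠ ⊥) →
        ∃ i j, (∃ x ∈ Hs i, ∃ y ∈ Hs j, q x y ≠ 0) ∧ m i + m j ≤ 0)) ∧
    ((∀ V : Submodule ℂ H, V ≠ ⊥ → (∀ x ∈ V, ∀ y ∈ V, q x y = 0) →
        Module.finrank ℂ V + Module.finrank ℂ ↥(⨅ (y : H) (_ : y ∈ V), LinearMap.ker (q.flip y) : Submodule ℂ H) < Module.finrank ℂ H) ↔
      (∀ (ι : Type) [Fintype ι] [DecidableEq ι] (Hs : ι → Submodule ℂ H) (m : ι → ℤ),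
        DirectSum.IsInternal Hs → (∑ i, m i * (Module.finrank ℂ (Hs i) : ℤ)) = 0 →
        (∃ i, m i ≠ 0 ∧ Hs i ≠ ⊥) →
        ∃ i j, (∃ x ∈ Hs i, ∃ y ∈ Hs j, q x y ≠ 0) ∧ m i + m j < 0)) := by
  have dimsup : ∀ {ι : Type} [DecidableEq ι] (Hs : ι → Submodule ℂ H), iSupIndep Hs →
      ∀ S : Finset ι, (Module.finrank ℂ ↥(S.sup Hs) : ℤ) = ∑ i ∈ S, (Module.finrank ℂ (Hs i) : ℤ) := by
    intro ι _ Hs hind S
    induction S using Finset.induction_on with
    | empty =>
      rw [Finset.sup_empty, Finset.sum_empty, finrank_bot]; rfl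
    | insert a S ha ih =>
      have hd : Disjoint (Hs a) (S.sup Hs) :=
        (hind.supIndep' (insert a S)) (Finset.subset_insert a S) (Finset.mem_insert_self a S) ha
      have h := Submodule.finrank_sup_add_finrank_inf_eq (Hs a) (S.sup Hs)
      rw [hd.eq_bot, finrank_bot, add_zero] at h
      rw [Finset.sup_insert, Finset.sum_insert ha, h, Nat.cast_add, ih]
  have telescope : ∀ (M : ℕ) (z : ℤ), |z| ≤ M →
      (∑ k ∈ Finset.range M, ((if (k : ℤ) + 1 ≤ z then (1 : ℤ) else 0) - (if z ≤ -((k : ℤ) + 1) then 1 else 0))) = z := by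
    intro M z hz
    have : ∀ N : ℕ, (∑ k ∈ Finset.range N, ((if (k : ℤ) + 1 ≤ z then (1 : ℤ) else 0) - (if z ≤ -((k : ℤ) + 1) then 1 else 0)))
        = max (-(N : ℤ)) (min z N) := by
      intro N
      induction N with
      | zero => simp
      | succ N ih => rw [Finset.sum_range_succ, ih]; push_cast; split_ifs <;> omega
    rw [this]; rw [abs_le] at hz; omega
  -- the data attached to a one-parameter subgroup and a level
  have level : ∀ {ι : Type} [Fintype ι] [DecidableEq ι] (Hs : ι → Submodule ℂ H) (m : ι → ℤ) (a b : ℤ),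
      DirectSum.IsInternal Hs → (∀ i j, m i ≤ a → m j ≤ b → ∀ x ∈ Hs j, ∀ y ∈ Hs i, q x y = 0) → a ≤ b →
      ∃ V : Submodule ℂ H, (∀ x ∈ V, ∀ y ∈ V, q x y = 0) ∧
        ((V = ⊥ ↔ (Finset.univ.filter (fun i => m i ≤ a)).sup Hs = ⊥)) ∧
        ((∑ i, if m i ≤ a then (Module.finrank ℂ (Hs i) : ℤ) else 0) = Module.finrank ℂ V) ∧
        (∑ i, if m i ≤ b then (Module.finrank ℂ (Hs i) : ℤ) else 0) ≤
          Module.finrank ℂ ↥(⨅ (y : H) (_ : y ∈ V), LinearMap.ker (q.flip y) : Submodule ℂ H) := by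
    intro ι _ _ Hs m a b hint hz hab
    set P := Finset.univ.filter (fun i => m i ≤ a) with hP
    set Q := Finset.univ.filter (fun i => m i ≤ b) with hQ
    have hle : Q.sup Hs ≤ ⨅ (y : H) (_ : y ∈ P.sup Hs), LinearMap.ker (q.flip y) := by
      refine Finset.sup_le fun j hj x hx => ?_
      simp only [Submodule.mem_iInf, LinearMap.mem_ker, LinearMap.flip_apply]
      intro y hy
      have : P.sup Hs ≤ LinearMap.ker (q x) :=
        Finset.sup_le fun i hi y hy => hz i j (by simpa [hP] using hi) (by simpa [hQ] using hj) x hx y hy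
      exact this hy
    refine ⟨P.sup Hs, fun x hx y hy => ?_, Iff.rfl, ?_, ?_⟩
    · have hPQ : P ⊆ Q := fun i hi => by
        simp only [hP, hQ, Finset.mem_filter, Finset.mem_univ, true_and] at hi ⊢; omega
      have hx' : x ∈ Q.sup Hs := (Finset.sup_mono (f := Hs) hPQ) hx
      have := hle hx'
      simp only [Submodule.mem_iInf, LinearMap.mem_ker, LinearMap.flip_apply] at this
      exact this y hy
    · rw [dimsup Hs hint.submodule_iSupIndep, hP, Finset.sum_filter]
    · have h1 := dimsup Hs hint.submodule_iSupIndep Q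
      rw [hQ, Finset.sum_filter] at h1
      rw [← h1]
      exact_mod_cast Submodule.finrank_mono hle
  have htot : ∀ {ι : Type} [Fintype ι] [DecidableEq ι] (Hs : ι → Submodule ℂ H),
      DirectSum.IsInternal Hs → (Module.finrank ℂ H : ℤ) = ∑ i, (Module.finrank ℂ (Hs i) : ℤ) := by
    intro ι _ _ Hs hint
    have h := dimsup Hs hint.submodule_iSupIndep Finset.univ
    rwa [Finset.sup_univ_eq_iSup, hint.submodule_iSup_eq_top, finrank_top] at h
  have sumid : ∀ {ι : Type} [Fintype ι] [DecidableEq ι] (Hs : ι → Submodule ℂ H) (m : ι → ℤ),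
      (∑ i, m i * (Module.finrank ℂ (Hs i) : ℤ)) = 0 → ∃ M : ℕ, (∀ i, |m i| ≤ M) ∧
      (∑ k ∈ Finset.range M, ∑ i, ((if (k : ℤ) + 1 ≤ m i then (1 : ℤ) else 0)
        - (if m i ≤ -((k : ℤ) + 1) then 1 else 0)) * (Module.finrank ℂ (Hs i) : ℤ)) = 0 := by
    intro ι _ _ Hs m hsum
    refine ⟨∑ i, (m i).natAbs, fun i => ?_, ?_⟩
    · rw [Int.abs_eq_natAbs]
      exact_mod_cast Finset.single_le_sum (f := fun i => (m i).natAbs) (fun i _ => Nat.zero_le _) (Finset.mem_univ i)
    · rw [Finset.sum_comm]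
      refine Eq.trans (Finset.sum_congr rfl fun i _ => ?_) hsum
      rw [← Finset.sum_mul, telescope]
      rw [Int.abs_eq_natAbs]
      exact_mod_cast Finset.single_le_sum (f := fun i => (m i).natAbs) (fun i _ => Nat.zero_le _) (Finset.mem_univ i)
  -- three-step decomposition
  have dec : ∀ V : Submodule ℂ H, (∀ x ∈ V, ∀ y ∈ V, q x y = 0) → V ≠ ⊥ →
      Module.finrank ℂ H ≤ Module.finrank ℂ V +
        Module.finrank ℂ ↥(⨅ (y : H) (_ : y ∈ V), LinearMap.ker (q.flip y) : Submodule ℂ H) →
      ∃ (Hs : Fin 3 → Submodule ℂ H) (m : Fin 3 → ℤ), DirectSum.IsInternal Hs ∧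
        (∑ i, m i * (Module.finrank ℂ (Hs i) : ℤ)) = 0 ∧ (∃ i, m i ≠ 0 ∧ Hs i ≠ ⊥) ∧
        ∀ i j, (∃ x ∈ Hs i, ∃ y ∈ Hs j, q x y ≠ 0) →
          (0 ≤ m i + m j ∧ (Module.finrank ℂ H < Module.finrank ℂ V +
            Module.finrank ℂ ↥(⨅ (y : H) (_ : y ∈ V), LinearMap.ker (q.flip y) : Submodule ℂ H) →
            0 < m i + m j)) := by
    intro V hV hV0 hbig
    set U := (⨅ (y : H) (_ : y ∈ V), LinearMap.ker (q.flip y) : Submodule ℂ H) with hU
    have hVU : V ≤ U := fun x hx => by
      simp only [hU, Submodule.mem_iInf, LinearMap.mem_ker, LinearMap.flip_apply]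
      exact fun y hy => hV x hx y hy
    obtain ⟨A0, hA0⟩ := Submodule.exists_isCompl V
    obtain ⟨C, hC⟩ := Submodule.exists_isCompl U
    set A := A0 ⊓ U with hA
    have hVA : V ⊔ A = U := by
      rw [hA, sup_comm, inf_comm, inf_sup_assoc_of_le _ hVU, sup_comm A0 V, hA0.sup_eq_top, inf_top_eq]
    have hdA : Module.finrank ℂ V + Module.finrank ℂ A = Module.finrank ℂ U := by
      have h := Submodule.finrank_sup_add_finrank_inf_eq V A
      have hbot : V ⊓ A = ⊥ := by
        rw [hA, ← inf_assoc, hA0.inf_eq_bot, bot_inf_eq]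
      rw [hVA, hbot, finrank_bot, add_zero] at h
      omega
    have hdC := Submodule.finrank_add_eq_of_isCompl hC
    set a : ℤ := ((Module.finrank ℂ V : ℕ) : ℤ) with ha
    set b : ℤ := ((Module.finrank ℂ A : ℕ) : ℤ) with hb
    set c : ℤ := ((Module.finrank ℂ C : ℕ) : ℤ) with hc
    refine ⟨![V, A, C], ![-(b + c), a - c, (b + c) + (a - c)], ?_, ?_, ⟨0, ?_, by simpa using hV0⟩, ?_⟩
    · have hsurj : Function.Surjective (DirectSum.coeLinearMap ![V, A, C]) := by
        rw [← LinearMap.range_eq_top, DirectSum.range_coeLinearMap, eq_top_iff, ← hC.sup_eq_top, ← hVA]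
        refine sup_le (sup_le ?_ ?_) ?_
        · exact le_iSup ![V, A, C] 0
        · exact le_iSup ![V, A, C] 1
        · exact le_iSup ![V, A, C] 2
      have hfr : Module.finrank ℂ (DirectSum (Fin 3) fun i => ↥(![V, A, C] i)) = Module.finrank ℂ H := by
        rw [Module.finrank_directSum, Fin.sum_univ_three]
        show Module.finrank ℂ V + Module.finrank ℂ A + Module.finrank ℂ C = _
        omega
      exact ⟨(LinearMap.injective_iff_surjective_of_finrank_eq_finrank hfr).2 hsurj, hsurj⟩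
    · rw [Fin.sum_univ_three]
      show -(b + c) * a + (a - c) * b + ((b + c) + (a - c)) * c = 0
      ring
    · show -(b + c) ≠ 0
      intro h0
      refine hq0 ?_
      have hAt : Module.finrank ℂ V = Module.finrank ℂ H := by omega
      have htop := Submodule.eq_top_of_finrank_eq hAt
      refine LinearMap.ext fun x => LinearMap.ext fun y => ?_
      exact hV x (htop ▸ trivial) y (htop ▸ trivial)
    · have hzVU : ∀ x ∈ U, ∀ y ∈ V, q x y = 0 ∧ q y x = 0 := by
        intro x hx y hy
        simp only [hU, Submodule.mem_iInf, LinearMap.mem_ker, LinearMap.flip_apply] at hx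
        exact ⟨hx y hy, by rw [hq, hx y hy, map_zero]⟩
      have hAU : A ≤ U := inf_le_right
      rintro i j ⟨x, hx, y, hy, hne⟩
      fin_cases i <;> fin_cases j <;>
        simp only [Fin.zero_eta, Fin.mk_one, Fin.reduceFinMk, Matrix.cons_val_zero, Matrix.cons_val_one,
          Matrix.cons_val] at hx hy ⊢ <;>
        first
          | exact absurd (hV x hx y hy) hne
          | exact absurd (hzVU y (hAU hy) x hx).2 hne
          | exact absurd (hzVU x (hAU hx) y hy).1 hne
          | (constructor <;> (try intro) <;> omega)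
  refine ⟨⟨fun h ι _ _ Hs m hint hsum hne => ?_, fun h V hV0 hV => ?_⟩,
    ⟨fun h ι _ _ Hs m hint hsum hne => ?_, fun h V hV0 hV => ?_⟩⟩
  · by_contra hcon
    push Not at hcon
    obtain ⟨M, hM, hz⟩ := sumid Hs m hsum
    have key : ∀ k ∈ Finset.range M, (∑ i, if m i = (k : ℤ) + 1 then (Module.finrank ℂ (Hs i) : ℤ) else 0) ≤
        ∑ i, ((if (k : ℤ) + 1 ≤ m i then (1 : ℤ) else 0)
          - (if m i ≤ -((k : ℤ) + 1) then 1 else 0)) * (Module.finrank ℂ (Hs i) : ℤ) := by
      intro k _
      obtain ⟨V, hViso, -, hdV, hdU⟩ := level Hs m (-((k : ℤ) + 1)) ((k : ℤ) + 1) hint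
        (fun i j hi hj x hx y hy => by
          by_contra hne
          have := hcon j i ⟨x, hx, y, hy, hne⟩
          omega) (by omega)
      have expand : (∑ i, ((if (k : ℤ) + 1 ≤ m i then (1 : ℤ) else 0)
          - (if m i ≤ -((k : ℤ) + 1) then 1 else 0)) * (Module.finrank ℂ (Hs i) : ℤ))
          = (∑ i, if m i = (k : ℤ) + 1 then (Module.finrank ℂ (Hs i) : ℤ) else 0)
            + ((∑ i, (Module.finrank ℂ (Hs i) : ℤ)) - (∑ i, if m i ≤ (k : ℤ) + 1 then (Module.finrank ℂ (Hs i) : ℤ) else 0)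
              - (∑ i, if m i ≤ -((k : ℤ) + 1) then (Module.finrank ℂ (Hs i) : ℤ) else 0)) := by
        rw [← Finset.sum_sub_distrib, ← Finset.sum_sub_distrib, ← Finset.sum_add_distrib]
        refine Finset.sum_congr rfl fun i _ => ?_
        split_ifs <;> omega
      rw [expand, ← htot Hs hint, hdV]
      have hUn : (∑ i, if m i ≤ (k : ℤ) + 1 then (Module.finrank ℂ (Hs i) : ℤ) else 0) ≤ Module.finrank ℂ H := by
        rw [htot Hs hint]; exact Finset.sum_le_sum fun i _ => by split_ifs <;> omega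
      rcases eq_or_ne V ⊥ with rfl | hne'
      · rw [finrank_bot]; push_cast; omega
      · have := h V hne' hViso; omega
    have hnn : ∀ k ∈ Finset.range M, (0 : ℤ) ≤ ∑ i, if m i = (k : ℤ) + 1 then (Module.finrank ℂ (Hs i) : ℤ) else 0 :=
      fun k _ => Finset.sum_nonneg fun i _ => by split_ifs <;> omega
    have hzero := (Finset.sum_eq_zero_iff_of_nonneg hnn).1
      (le_antisymm ((Finset.sum_le_sum key).trans_eq hz) (Finset.sum_nonneg hnn))
    have hpos : ∀ i, m i * (Module.finrank ℂ (Hs i) : ℤ) ≤ 0 := by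
      intro i
      rcases le_or_gt (m i) 0 with hi | hi
      · exact mul_nonpos_of_nonpos_of_nonneg hi (by omega)
      · have hk := hzero (m i - 1).toNat (Finset.mem_range.2 (by have := hM i; rw [abs_le] at this; omega))
        have := (Finset.sum_eq_zero_iff_of_nonneg (fun j _ => by split_ifs <;> omega)).1 hk i (Finset.mem_univ i)
        rw [if_pos (by omega)] at this
        rw [this, mul_zero]
    obtain ⟨i, hmi, hHi⟩ := hne
    have := (Finset.sum_eq_zero_iff_of_nonpos fun j _ => hpos j).1 hsum i (Finset.mem_univ i)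
    rcases mul_eq_zero.1 this with h0 | h0
    · exact hmi h0
    · exact hHi (Submodule.finrank_eq_zero.1 (by exact_mod_cast h0))
  · by_contra hlt
    obtain ⟨Hs, m, hint, hsum, hne, hp⟩ := dec V hV hV0 (by omega)
    obtain ⟨i, j, hij, hle⟩ := h (Fin 3) Hs m hint hsum hne
    have := (hp i j hij).2 (by omega)
    omega
  · by_contra hcon
    push Not at hcon
    obtain ⟨M, hM, hz⟩ := sumid Hs m hsum
    have key : ∀ k ∈ Finset.range M, (0 : ℤ) ≤ ∑ i, ((if (k : ℤ) + 1 ≤ m i then (1 : ℤ) else 0)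
          - (if m i ≤ -((k : ℤ) + 1) then 1 else 0)) * (Module.finrank ℂ (Hs i) : ℤ) ∧
        ((∑ i, ((if (k : ℤ) + 1 ≤ m i then (1 : ℤ) else 0)
          - (if m i ≤ -((k : ℤ) + 1) then 1 else 0)) * (Module.finrank ℂ (Hs i) : ℤ)) = 0 →
          ∀ i, m i ≤ -((k : ℤ) + 1) → Hs i = ⊥) := by
      intro k _
      obtain ⟨V, hViso, hVbot, hdV, hdU⟩ := level Hs m (-((k : ℤ) + 1)) (k : ℤ) hint
        (fun i j hi hj x hx y hy => by
          by_contra hne
          have := hcon j i ⟨x, hx, y, hy, hne⟩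
          omega) (by omega)
      have expand : (∑ i, ((if (k : ℤ) + 1 ≤ m i then (1 : ℤ) else 0)
          - (if m i ≤ -((k : ℤ) + 1) then 1 else 0)) * (Module.finrank ℂ (Hs i) : ℤ))
          = (∑ i, (Module.finrank ℂ (Hs i) : ℤ)) - (∑ i, if m i ≤ (k : ℤ) then (Module.finrank ℂ (Hs i) : ℤ) else 0)
              - (∑ i, if m i ≤ -((k : ℤ) + 1) then (Module.finrank ℂ (Hs i) : ℤ) else 0) := by
        rw [← Finset.sum_sub_distrib, ← Finset.sum_sub_distrib]
        refine Finset.sum_congr rfl fun i _ => ?_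
        split_ifs <;> omega
      rw [expand, ← htot Hs hint, hdV]
      have hUn : (∑ i, if m i ≤ (k : ℤ) then (Module.finrank ℂ (Hs i) : ℤ) else 0) ≤ Module.finrank ℂ H := by
        rw [htot Hs hint]; exact Finset.sum_le_sum fun i _ => by split_ifs <;> omega
      rcases eq_or_ne V ⊥ with rfl | hne'
      · refine ⟨by rw [finrank_bot]; push_cast; omega, fun _ i hi => ?_⟩
        exact le_bot_iff.1 ((Finset.le_sup (f := Hs) (Finset.mem_filter.2 ⟨Finset.mem_univ i, hi⟩)).trans
          (hVbot.1 rfl).le)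
      · have := h V hne' hViso
        exact ⟨by omega, fun h0 => by omega⟩
    have hzero := (Finset.sum_eq_zero_iff_of_nonneg fun k hk => (key k hk).1).1 hz
    have hpos : ∀ i, 0 ≤ m i * (Module.finrank ℂ (Hs i) : ℤ) := by
      intro i
      rcases le_or_gt 0 (m i) with hi | hi
      · positivity
      · have hk : (-(m i) - 1).toNat ∈ Finset.range M :=
          Finset.mem_range.2 (by have := hM i; rw [abs_le] at this; omega)
        rw [(key _ hk).2 (hzero _ hk) i (by omega), finrank_bot]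
        simp
    obtain ⟨i, hmi, hHi⟩ := hne
    have := (Finset.sum_eq_zero_iff_of_nonneg fun j _ => hpos j).1 hsum i (Finset.mem_univ i)
    rcases mul_eq_zero.1 this with h0 | h0
    · exact hmi h0
    · exact hHi (Submodule.finrank_eq_zero.1 (by exact_mod_cast h0))
  · by_contra hlt
    obtain ⟨Hs, m, hint, hsum, hne, hp⟩ := dec V hV hV0 (by omega)
    obtain ⟨i, j, hij, hle⟩ := h (Fin 3) Hs m hint hsum hne
    have := (hp i j hij).1
    omega

end Groth.Agent.S15159
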