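import Groth.Statements.S15161
-- import your own Groth.Agent.* helpers here
import Groth.Agent.Lib.DoubleCan28.Sheaf
import Groth.Agent.Lib.Cohom.Serre
import Groth.Agent.Lib.CurveMult.OmegaField
import Groth.Agent.Lib.TwoCovers28.Sch

set_option autoImplicit false
set_option maxHeartbeats 1600000
set_option linter.style.haveILetI false
set_option backward.isDefEq.respectTransparency false
open CategoryTheory CategoryTheory.Limits AlgebraicGeometry
open Curves

namespace Groth.Agent.S15161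

open WithZero in
theorem cancel (k : Type) [Field k] [IsAlgClosed k] {Y : Scheme.{0}} [IsIntegral Y] [GrothLib.CurveRR.RegCurve Y]
    [Y.Over (Spec (CommRingCat.of k))] [IsProper (Y ↘ Spec (CommRingCat.of k))]
    (Δ : FunFld.Divisor k Y.functionField) (hΔ : FunFld.ell Δ = 0) {D : Y.Modules}
    (g : GrothLib.CurveRR.oD k (0 : FunFld.Divisor k Y.functionField) ⊞ D ≅
      GrothLib.CurveRR.oD k (0 : FunFld.Divisor k Y.functionField) ⊞ GrothLib.CurveRR.oD k Δ) :
    Nonempty (D ≅ GrothLib.CurveRR.oD k Δ) := by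
  have hfg := GrothLib.CurveRR.isFG k (X := Y)
  have hzero : ∀ φ : GrothLib.CurveRR.oD k (0 : FunFld.Divisor k Y.functionField) ⟶ GrothLib.CurveRR.oD k Δ, φ = 0 := by
    intro φ
    obtain ⟨c, hc⟩ := GrothLib.CurveMult.DivIso.exists_factor k φ
    have hmem : c ∈ FunFld.L Δ := fun P => by
      obtain ⟨x, rfl⟩ := GrothLib.CurveRR.place_surjective (k := k) P
      simpa using GrothLib.CurveMult.DivIso.le_of_factor k hc x
    haveI := GrothLib.FunFld.IsFG.finite_L hfg Δ
    rw [Submodule.finrank_eq_zero.1 hΔ, Submodule.mem_bot] at hmem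
    exact Scheme.Modules.hom_ext _ _ fun V => by
      ext s
      exact GrothLib.CurveRR.oval_ext fun hV => by rw [hc, hmem, zero_mul]; rfl
  set c := biprod.inl ≫ g.hom ≫ biprod.fst with hc
  have hinl : biprod.inl ≫ g.hom = c ≫ biprod.inl := by
    apply biprod.hom_ext
    · simp [hc]
    · simp only [Category.assoc, biprod.inl_snd, comp_zero]
      exact hzero _
  haveI hmono : Mono c := by
    have : Mono (c ≫ (biprod.inl : GrothLib.CurveRR.oD k (0 : FunFld.Divisor k Y.functionField) ⟶ GrothLib.CurveRR.oD k (0 : FunFld.Divisor k Y.functionField) ⊞ GrothLib.CurveRR.oD k Δ)) := by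
      rw [← hinl]; exact mono_comp _ _
    exact mono_of_mono c (biprod.inl : GrothLib.CurveRR.oD k (0 : FunFld.Divisor k Y.functionField) ⟶ GrothLib.CurveRR.oD k (0 : FunFld.Divisor k Y.functionField) ⊞ GrothLib.CurveRR.oD k Δ)
  haveI : IsIso c := by
    obtain ⟨a, ha⟩ := GrothLib.CurveMult.DivIso.exists_factor k c
    have hmem : a ∈ FunFld.L (0 : FunFld.Divisor k Y.functionField) := fun P => by
      obtain ⟨x, rfl⟩ := GrothLib.CurveRR.place_surjective (k := k) P
      simpa using GrothLib.CurveMult.DivIso.le_of_factor k ha x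
    rw [GrothLib.FunFld.L_zero_eq_one
      (GrothLib.CurveRR.isFunctionField k (GrothLib.CurveRR.finrank_H0_structure_eq_one k (X := Y)))] at hmem
    obtain ⟨r, hr⟩ := Submodule.mem_one.mp hmem
    obtain ⟨V, g₀, hη, hg0, hg⟩ := GrothLib.CurveRR.exists_gen k (0 : FunFld.Divisor k Y.functionField) (genericPoint Y)
    have ha0 : a ≠ 0 := fun h0 => by
      have he : GrothLib.CurveRR.mkSec k (0 : FunFld.Divisor k Y.functionField) V g₀ (fun x hx => (hg x hx).le) = 0 := by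
        refine GrothLib.Cohom.app_injective_of_mono c V ?_
        rw [map_zero]
        exact GrothLib.CurveRR.oval_ext fun hV => by rw [ha, h0, zero_mul]; rfl
      exact hg0 (congrArg (fun t => GrothLib.CurveRR.oval k t hη) he)
    have hr0 : r ≠ 0 := fun h0 => ha0 (by rw [← hr, h0, map_zero])
    have hb : ∀ x : GrothLib.CurveRR.CP Y, exp ((0 : FunFld.Divisor k Y.functionField) (GrothLib.CurveRR.place k x)) *
        (GrothLib.CurveRR.place k x).1 a⁻¹ ≤ exp ((0 : FunFld.Divisor k Y.functionField) (GrothLib.CurveRR.place k x)) := fun x => by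
      rw [← hr, ← map_inv₀]
      exact mul_le_of_le_one_right' (GrothLib.FunFld.val_le_one_of_const (GrothLib.CurveRR.place k x) r⁻¹)
    refine ⟨⟨GrothLib.CurveMult.DivIso.mulFn k a⁻¹ hb, ?_, ?_⟩⟩ <;>
    · refine Scheme.Modules.hom_ext _ _ fun V => ?_
      ext s
      refine GrothLib.CurveRR.oval_ext fun hV => ?_
      first
        | exact (congrArg (a⁻¹ * ·) (ha V s hV)).trans (inv_mul_cancel_left₀ ha0 _)
        | exact (ha V _ hV).trans (mul_inv_cancel_left₀ ha0 _)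
  have hinv : biprod.inl ≫ g.inv = inv c ≫ biprod.inl := by
    rw [← cancel_mono g.hom, Category.assoc, Category.assoc, Iso.inv_hom_id, Category.comp_id, hinl, IsIso.inv_hom_id_assoc]
  have total : ∀ {A B : Y.Modules}, (𝟙 (A ⊞ B)) = biprod.fst ≫ biprod.inl + biprod.snd ≫ biprod.inr := fun {A B} =>
    biprod.total.symm
  refine ⟨⟨biprod.inr ≫ g.hom ≫ biprod.snd, biprod.inr ≫ g.inv ≫ biprod.snd, ?_, ?_⟩⟩
  · calc (biprod.inr ≫ g.hom ≫ biprod.snd) ≫ biprod.inr ≫ g.inv ≫ biprod.snd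
        = biprod.inr ≫ g.hom ≫ (biprod.fst ≫ biprod.inl + biprod.snd ≫ biprod.inr) ≫ g.inv ≫ biprod.snd := by
          simp only [Preadditive.add_comp, Preadditive.comp_add, Category.assoc]
          rw [← Category.assoc biprod.inl g.inv biprod.snd, hinv]
          simp
      _ = 𝟙 D := by rw [← total, Category.id_comp]; simp
  · calc (biprod.inr ≫ g.inv ≫ biprod.snd) ≫ biprod.inr ≫ g.hom ≫ biprod.snd
        = biprod.inr ≫ g.inv ≫ (biprod.fst ≫ biprod.inl + biprod.snd ≫ biprod.inr) ≫ g.hom ≫ biprod.snd := by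
          simp only [Preadditive.add_comp, Preadditive.comp_add, Category.assoc]
          rw [← Category.assoc biprod.inl g.hom biprod.snd, hinl]
          simp
      _ = 𝟙 _ := by rw [← total, Category.id_comp]; simp

/-- Let X be a smooth proper integral curve of genus at least 2 over the complex numbers with an
involution σ ≠ id over the complex numbers, and π : X → Y its quotient double cover (Y a smooth
proper integral curve, π finite flat of constant rank 2 over the complex numbers, π ∘ σ = π;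
ramified or étale). If D is an O_Y-module with π_*O_X ≅ O_Y ⊕ D, then there is an invertible
O_Y-module Δ with Δ ⊗ D ≅ O_Y such that π^*(Ω_Y ⊗ Δ) ≅ Ω_X, where Ω denotes differentials over the
complex numbers (existence of isomorphisms only). -/
theorem result
    (X Y : Scheme.{0}) [X.Over (Spec (CommRingCat.of ℂ))] [Y.Over (Spec (CommRingCat.of ℂ))]
    [IsIntegral X] [IsProper (X ↘ Spec (CommRingCat.of ℂ))] [Smooth (X ↘ Spec (CommRingCat.of ℂ))] (hdimX : topologicalKrullDim X = 1)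
    (hg : 2 ≤ Curv2.genus ℂ X)
    [IsIntegral Y] [IsProper (Y ↘ Spec (CommRingCat.of ℂ))] [Smooth (Y ↘ Spec (CommRingCat.of ℂ))] (hdimY : topologicalKrullDim Y = 1)
    (σ : X ⟶ X) (hσS : σ ≫ (X ↘ Spec (CommRingCat.of ℂ)) = X ↘ Spec (CommRingCat.of ℂ)) (hσ : σ ≫ σ = 𝟙 X) (hσ1 : σ ≠ 𝟙 X)
    (π : X ⟶ Y) [IsFinite π] [Flat π] (hπ : π ≫ (Y ↘ Spec (CommRingCat.of ℂ)) = X ↘ Spec (CommRingCat.of ℂ))
    (hrk : ∀ y : ↥Y, Scheme.Hom.finrank π y = 2) (hσπ : σ ≫ π = π)
    (D : Y.Modules)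
    (hD : Nonempty ((Scheme.Modules.pushforward π).obj (Coh.structureModule X) ≅ Coh.structureModule Y ⊞ D)) :
    ∃ Δ : Y.Modules, PicF.IsInvertible Δ ∧ Nonempty (CohB1.tensorMod Δ D ≅ Coh.structureModule Y) ∧
      Nonempty ((Scheme.Modules.pullback π).obj (CohB1.tensorMod (Omega.sheaf (Y ↘ Spec (CommRingCat.of ℂ))) Δ) ≅
        Omega.sheaf (X ↘ Spec (CommRingCat.of ℂ))) := by
  haveI := GrothLib.CurveRR.regCurve_of_smooth (X ↘ Spec (CommRingCat.of ℂ)) hdimX
  haveI := GrothLib.CurveRR.regCurve_of_smooth (Y ↘ Spec (CommRingCat.of ℂ)) hdimY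
  obtain ⟨e, d⟩ := GrothLib.TwoCovers28.range_and_finrank ℂ π hπ hrk
  have hX0 := GrothLib.CurveRR.finrank_H0_structure_eq_one ℂ (X := X)
  have hY0 := GrothLib.CurveRR.finrank_H0_structure_eq_one ℂ (X := Y)
  have hKX := GrothLib.CurveRR.isFunctionField ℂ hX0
  have hKY := GrothLib.CurveRR.isFunctionField ℂ hY0
  letI := (GrothLib.CurveMult.Hurwitz.ψ e).toAlgebra
  haveI : IsScalarTower ℂ Y.functionField X.functionField :=
    .of_algebraMap_eq fun c => (GrothLib.CurveMult.Hurwitz.ψ_algebraMap ℂ e hπ c).symm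
  haveI : FiniteDimensional Y.functionField X.functionField := Module.finite_of_finrank_pos (by omega)
  obtain ⟨y, Δ, -, hΔ, huniq, hex, hsplit, hcan⟩ := GrothLib.DoubleCan28.exists_data hKX hKY d two_ne_zero
  obtain ⟨e₁⟩ := GrothLib.DoubleCan28.nonempty_push_iso ℂ e hπ Δ y huniq hex hsplit
  obtain ⟨eD⟩ := hD
  obtain ⟨eO⟩ := GrothLib.CurveRR.nonempty_iso_oD_zero ℂ (X := Y)
  obtain ⟨eΔ⟩ := cancel ℂ Δ hΔ ((biprod.mapIso eO.symm (Iso.refl D)) ≪≫ eD.symm ≪≫ e₁ ≪≫ biprod.mapIso eO (Iso.refl _))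
  obtain ⟨C, hC, ⟨eC⟩⟩ := GrothLib.CurveMult.OmegaField.exists_iso_canonical ℂ hdimY hY0
  obtain ⟨C', hC', ⟨eC'⟩⟩ := GrothLib.CurveMult.OmegaField.exists_iso_canonical ℂ hdimX hX0
  obtain ⟨hl, hdg⟩ := GrothLib.FunFld.ell_canonical hKX (hcan C hC)
  obtain ⟨e'⟩ := GrothLib.CurveMult.DivIso.nonempty_iso_of_sub_mem ℂ
    (GrothLib.FunFld.sub_mem_prinDivs_of_canonical hKX hC' hdg (le_of_eq hl.symm))
  obtain ⟨e''⟩ := GrothLib.KummerCov28.nonempty_pullback_iso ℂ e hπ (C - Δ)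
  obtain ⟨e3⟩ := GrothLib.CurveRR.nonempty_tensor_iso ℂ eC (Iso.refl (GrothLib.CurveRR.oD ℂ (-Δ)))
  obtain ⟨e4⟩ := GrothLib.CurveRR.nonempty_tensor_iso ℂ (Iso.refl (GrothLib.CurveRR.oD ℂ (-Δ))) eΔ
  refine ⟨GrothLib.CurveRR.oD ℂ (-Δ), GrothLib.CurveRR.isInvertible_oD ℂ _,
    ⟨e4 ≪≫ eqToIso (congrArg (GrothLib.CurveRR.oD ℂ) (neg_add_cancel Δ)) ≪≫ eO.symm⟩, ⟨?_⟩⟩
  exact (Scheme.Modules.pullback π).mapIso (e3 ≪≫ eqToIso (congrArg (GrothLib.CurveRR.oD ℂ) (sub_eq_add_neg C Δ).symm)) ≪≫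
    e'' ≪≫ e' ≪≫ eC'.symm

end Groth.Agent.S15161
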