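import Groth.Statements.S15162
import Mathlib.LinearAlgebra.Matrix.ToLinearEquiv
import Mathlib.Tactic.LinearCombination
import Mathlib.Tactic.NoncommRing

set_option autoImplicit false
open Matrix
open BddFin

namespace Groth.Agent.S15162

open Matrix in
theorem eq_one_of_det_one {γ : Matrix (Fin 2) (Fin 2) ℤ} (hdet : γ.det = 1) (v : Fin 2 → ℤ) (hv : v ≠ 0)
    (hfix : γ *ᵥ v = v) (k : ℕ) (hk : 0 < k) (hpow : γ ^ k = 1) : γ = 1 := by
  have h0 : (γ - 1).det = 0 := by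
    rw [← Matrix.exists_mulVec_eq_zero_iff]
    exact ⟨v, hv, by rw [Matrix.sub_mulVec, Matrix.one_mulVec, hfix, sub_self]⟩
  rw [Matrix.det_fin_two] at hdet h0
  simp only [Matrix.sub_apply, Matrix.one_apply_eq, Matrix.one_apply_ne (show (0 : Fin 2) ≠ 1 by decide),
    Matrix.one_apply_ne (show (1 : Fin 2) ≠ 0 by decide), sub_zero] at h0
  have htr : γ 0 0 + γ 1 1 = 2 := by linear_combination -h0 + hdet
  have hsq : (γ - 1) * (γ - 1) = 0 := by
    ext i j
    fin_cases i <;> fin_cases j <;> simp [Matrix.mul_apply, Fin.sum_univ_two]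
    · linear_combination -hdet + (γ 0 0) * htr
    · linear_combination (γ 0 1) * htr
    · linear_combination (γ 1 0) * htr
    · linear_combination -hdet + (γ 1 1) * htr
  have hlin : ∀ j : ℕ, γ ^ j = 1 + j • (γ - 1) := by
    intro j
    induction j with
    | zero => simp
    | succ j ih =>
      rw [pow_succ, ih, add_mul, one_mul, smul_mul_assoc, succ_nsmul,
        show (γ - 1) * γ = γ - 1 by rw [← sub_eq_zero, ← hsq]; noncomm_ring]
      abel
  rw [hlin, add_eq_left] at hpow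
  ext i j
  have := congrFun (congrFun hpow i) j
  simp only [Matrix.smul_apply, Matrix.zero_apply, nsmul_eq_mul, mul_eq_zero, Nat.cast_eq_zero, hk.ne', false_or,
    Matrix.sub_apply, sub_eq_zero] at this
  exact this

/-- Let Γ be a finite subgroup of GL_2(ℤ) acting on ℤ² by matrix multiplication. If every element of Γ
has a non-zero fixed vector in ℤ², then there is a non-zero vector of ℤ² fixed by all of Γ. -/
theorem result
    (Γ : Subgroup (Matrix.GeneralLinearGroup (Fin 2) ℤ)) [Finite Γ]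
    (h : ∀ γ ∈ Γ, ∃ v : Fin 2 → ℤ, v ≠ 0 ∧ (γ : Matrix (Fin 2) (Fin 2) ℤ) *ᵥ v = v) :
    ∃ v : Fin 2 → ℤ, v ≠ 0 ∧ ∀ γ ∈ Γ, (γ : Matrix (Fin 2) (Fin 2) ℤ) *ᵥ v = v := by
  have key : ∀ γ ∈ Γ, (γ : Matrix (Fin 2) (Fin 2) ℤ).det = 1 → γ = 1 := fun γ hγ hdet => by
    obtain ⟨v, hv, hfix⟩ := h γ hγ
    refine Units.ext (eq_one_of_det_one hdet v hv hfix (Nat.card Γ) Nat.card_pos ?_)
    have h1 : γ ^ Nat.card Γ = 1 := congrArg Subtype.val (pow_card_eq_one' (x := (⟨γ, hγ⟩ : Γ)))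
    rw [← Units.val_pow_eq_pow_val, h1, Units.val_one]
  have hdet : ∀ γ ∈ Γ, γ ≠ 1 → (γ : Matrix (Fin 2) (Fin 2) ℤ).det = -1 := fun γ hγ hne => by
    rcases Int.isUnit_iff.1 ((Matrix.isUnit_iff_isUnit_det _).1 γ.isUnit) with h1 | h1
    · exact absurd (key γ hγ h1) hne
    · exact h1
  by_cases hall : ∀ γ ∈ Γ, γ = 1
  · refine ⟨fun _ => 1, fun h0 => one_ne_zero (congrFun h0 0), fun γ hγ => ?_⟩
    rw [hall γ hγ, Units.val_one, Matrix.one_mulVec]
  push Not at hall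
  obtain ⟨g, hg, hg1⟩ := hall
  obtain ⟨v, hv, hfix⟩ := h g hg
  refine ⟨v, hv, fun γ hγ => ?_⟩
  by_cases hγ1 : γ = 1
  · rw [hγ1, Units.val_one, Matrix.one_mulVec]
  have h1 : g * γ = 1 := key _ (mul_mem hg hγ) (by rw [Units.val_mul, Matrix.det_mul, hdet g hg hg1, hdet γ hγ hγ1]; norm_num)
  have h2 : g * g = 1 := key _ (mul_mem hg hg) (by rw [Units.val_mul, Matrix.det_mul, hdet g hg hg1]; norm_num)
  rw [mul_left_cancel (h1.trans h2.symm)]
  exact hfix

end Groth.Agent.S15162
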