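import Groth.Statements.S15163
import Groth.Agent.S15162
import Mathlib.LinearAlgebra.Matrix.ToLinearEquiv
import Mathlib.LinearAlgebra.Matrix.Trace

set_option autoImplicit false
open Matrix
open BddFin

namespace Groth.Agent.S15163

open Matrix in
theorem abs_trace_le_two {γ : Matrix (Fin 2) (Fin 2) ℤ} (hdet : |γ.det| = 1) (k : ℕ) (hk : 0 < k)
    (hpow : γ ^ k = 1) : |γ 0 0 + γ 1 1| ≤ 2 := by
  set t := γ 0 0 + γ 1 1 with ht
  by_contra hlt
  push Not at hlt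
  have hCH : γ * γ = t • γ - γ.det • (1 : Matrix (Fin 2) (Fin 2) ℤ) := by
    ext i j
    rw [Matrix.sub_apply, Matrix.smul_apply, Matrix.smul_apply, smul_eq_mul, smul_eq_mul]
    fin_cases i <;> fin_cases j <;> simp [Matrix.mul_apply, Fin.sum_univ_two, Matrix.det_fin_two, ht] <;> ring
  let s : ℕ → ℤ := fun j => (γ ^ j) 0 0 + (γ ^ j) 1 1
  have hrec : ∀ j, s (j + 2) = t * s (j + 1) - γ.det * s j := fun j => by
    have e1 : γ ^ (j + 2) = γ ^ j * (t • γ - γ.det • (1 : Matrix (Fin 2) (Fin 2) ℤ)) := by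
      rw [pow_add, pow_two, hCH]
    have e2 : γ ^ (j + 2) = t • γ ^ (j + 1) - γ.det • γ ^ j := by
      rw [e1, mul_sub, mul_smul_comm, mul_smul_comm, mul_one, pow_succ]
    show (γ ^ (j + 2)) 0 0 + (γ ^ (j + 2)) 1 1 = _
    rw [e2]
    simp [s, -zsmul_eq_mul]; ring
  have hgrow : ∀ j, |s j| < |s (j + 1)| ∧ 2 ≤ |s j| := by
    intro j
    induction j with
    | zero =>
      refine ⟨?_, by simp [s]⟩
      show |(γ ^ 0) 0 0 + (γ ^ 0) 1 1| < |(γ ^ (0 + 1)) 0 0 + (γ ^ (0 + 1)) 1 1|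
      simpa using hlt
    | succ j ih =>
      refine ⟨?_, by linarith [ih.1, ih.2]⟩
      rw [hrec]
      have h1 := abs_sub_abs_le_abs_sub (t * s (j + 1)) (γ.det * s j)
      rw [abs_mul, abs_mul, hdet, one_mul] at h1
      have h2 : 3 * |s (j + 1)| ≤ |t| * |s (j + 1)| := mul_le_mul_of_nonneg_right (by linarith) (abs_nonneg _)
      linarith [ih.1, ih.2]
  have hs : ∀ j, 0 < j → 2 < |s j| := fun j hj => by
    obtain ⟨i, rfl⟩ : ∃ i, j = i + 1 := ⟨j - 1, by omega⟩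
    linarith [(hgrow i).1, (hgrow i).2]
  have := hs k hk
  simp [s, hpow] at this

/-- Let Γ be a finite subgroup of GL_2(ℤ) and d > 6 an integer. Suppose some vector w of (ℤ/dℤ)², with
m·w ≠ 0 for all 0 < m < d, is fixed by the reduction modulo d of every element of Γ. Then some
non-zero vector of ℤ² is fixed by all of Γ. -/
theorem result
    (Γ : Subgroup (Matrix.GeneralLinearGroup (Fin 2) ℤ)) [Finite Γ] (d : ℕ) (hd : 6 < d)
    (w : Fin 2 → ZMod d) (hw : ∀ m : ℕ, 0 < m → m < d → m • w ≠ 0)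
    (hfix : ∀ γ ∈ Γ, ((γ : Matrix (Fin 2) (Fin 2) ℤ).map (Int.castRingHom (ZMod d))) *ᵥ w = w) :
    ∃ v : Fin 2 → ℤ, v ≠ 0 ∧ ∀ γ ∈ Γ, (γ : Matrix (Fin 2) (Fin 2) ℤ) *ᵥ v = v := by
  refine Groth.Agent.S15162.result Γ fun γ hγ => ?_
  set M : Matrix (Fin 2) (Fin 2) ℤ := (γ : Matrix (Fin 2) (Fin 2) ℤ) with hM
  obtain ⟨v, hv, hv'⟩ : ∃ v : Fin 2 → ℤ, v ≠ 0 ∧ (M - 1) *ᵥ v = 0 := by
    rw [Matrix.exists_mulVec_eq_zero_iff]
    have hdiv : ((d : ℤ)) ∣ (M - 1).det := by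
      rw [← ZMod.intCast_zmod_eq_zero_iff_dvd]
      set N := (M - 1).map (Int.castRingHom (ZMod d)) with hN
      have hdN : ((M - 1).det : ZMod d) = N.det := (RingHom.map_det (Int.castRingHom (ZMod d)) (M - 1))
      have hNw : N *ᵥ w = 0 := by
        rw [hN, Matrix.map_sub _ (by simp), Matrix.map_one _ (map_zero _) (map_one _), Matrix.sub_mulVec, hfix γ hγ,
          Matrix.one_mulVec, sub_self]
      have h0 : N.det • w = 0 := by
        rw [← Matrix.one_mulVec w, ← Matrix.smul_mulVec, ← Matrix.adjugate_mul, ← Matrix.mulVec_mulVec, hNw,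
          Matrix.mulVec_zero]
      rw [hdN]
      have : NeZero d := ⟨by omega⟩
      by_contra hne
      refine hw N.det.val (Nat.pos_of_ne_zero fun h => hne ((ZMod.val_eq_zero _).1 h)) (ZMod.val_lt _) ?_
      rw [← Nat.cast_smul_eq_nsmul (ZMod d), ZMod.natCast_zmod_val, h0]
    have hdet : |M.det| = 1 := by
      rcases Int.isUnit_iff.1 ((Matrix.isUnit_iff_isUnit_det _).1 γ.isUnit) with h1 | h1 <;> simp [hM, h1]
    have hpow : M ^ Nat.card Γ = 1 := by
      have h1 : γ ^ Nat.card Γ = 1 := congrArg Subtype.val (pow_card_eq_one' (x := (⟨γ, hγ⟩ : Γ)))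
      rw [hM, ← Units.val_pow_eq_pow_val, h1, Units.val_one]
    have htr := abs_trace_le_two hdet (Nat.card Γ) Nat.card_pos hpow
    refine Int.eq_zero_of_abs_lt_dvd hdiv ?_
    have hexp : (M - 1).det = M.det - (M 0 0 + M 1 1) + 1 := by
      simp [Matrix.det_fin_two]; ring
    rw [hexp, abs_lt]
    rw [abs_le] at htr
    have := abs_le.1 hdet.le
    constructor <;> omega
  refine ⟨v, hv, ?_⟩
  rwa [Matrix.sub_mulVec, Matrix.one_mulVec, sub_eq_zero] at hv'

end Groth.Agent.S15163
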