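import Groth.Statements.S15164
import Mathlib.LinearAlgebra.QuadraticForm.Basic
import Mathlib.Algebra.CharP.Lemmas
import Mathlib.Algebra.CharP.Algebra
import Mathlib.Tactic.LinearCombination

set_option autoImplicit false
universe u v
open BddFin

namespace Groth.Agent.S15164

/-- Let K be a field of characteristic p > 2, V a finite-dimensional K-vector space and q a quadratic
form on V that does not represent zero (q x = 0 only for x = 0). Then the group of K-linear
automorphisms of V preserving q has no element of order p: if g preserves q and g ^ p = 1 then g =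
1. (Non-degeneracy of q, also assumed in the published statement, follows from anisotropy since 2 is
invertible, so it is not repeated here.) -/
theorem result
    (K : Type u) [Field K] (p : ℕ) [Fact p.Prime] [CharP K p] (hp : p ≠ 2)
    (V : Type v) [AddCommGroup V] [Module K V] [FiniteDimensional K V]
    (q : QuadraticForm K V) (hq : q.Anisotropic)
    (g : V ≃ₗ[K] V) (hg : ∀ x : V, q (g x) = q x) (hgp : g ^ p = 1) : g = 1 := by
  have hN : ((g : V →ₗ[K] V) - 1) ^ p = 0 := by
    rcases subsingleton_or_nontrivial V with hV | hV
    · exact LinearMap.ext fun x => Subsingleton.elim _ _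
    have : CharP (Module.End K V) p := charP_of_injective_algebraMap (algebraMap K (Module.End K V)).injective p
    rw [sub_pow_char_of_commute (p := p) (x := (g : V →ₗ[K] V)) (y := 1) (Commute.one_right _), one_pow]
    have : ((g : V →ₗ[K] V)) ^ p = 1 := by
      have := congrArg (fun e : V ≃ₗ[K] V => (e : V →ₗ[K] V)) hgp
      rw [show ((g ^ p : V ≃ₗ[K] V) : V →ₗ[K] V) = (g : V →ₗ[K] V) ^ p from map_pow (LinearEquiv.automorphismGroup.toLinearMapMonoidHom) g p] at this
      exact this
    rw [this, sub_self]
  set N := (g : V →ₗ[K] V) - 1 with hNdef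
  by_contra hg1
  obtain ⟨m, hm⟩ : ∃ m, N ^ (m + 1) ≠ 0 ∧ N ^ (m + 2) = 0 := by
    have hex : ∃ j, N ^ j = 0 := ⟨p, hN⟩
    classical
    have h1 : 2 ≤ Nat.find hex := by
      by_contra hlt
      have hspec := Nat.find_spec hex
      have : N ^ 1 = 0 := pow_eq_zero_of_le (by omega) hspec
      rw [pow_one, hNdef, sub_eq_zero] at this
      exact hg1 (LinearEquiv.toLinearMap_injective this)
    refine ⟨Nat.find hex - 2, Nat.find_min hex (by omega), ?_⟩
    rw [show Nat.find hex - 2 + 2 = Nat.find hex by omega]
    exact Nat.find_spec hex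
  obtain ⟨z, hz⟩ := DFunLike.ne_iff.1 hm.1
  set x := (N ^ m) z
  set y := N x with hy
  have hy0 : y ≠ 0 := by
    rw [pow_succ', Module.End.mul_apply] at hz
    exact hz
  have hgx : g x = x + y := by rw [hy, hNdef]; simp
  have hNy : N y = 0 := by
    have := DFunLike.congr_fun hm.2 z
    rw [pow_succ', pow_succ', Module.End.mul_apply, Module.End.mul_apply] at this
    exact this
  have hgy : g y = y := by
    rw [hNdef] at hNy; simpa [sub_eq_zero] using hNy
  have h1 := hg x
  have h2 := hg (g x)
  rw [hgx, map_add, hgx, hgy, add_assoc] at h2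
  rw [hgx] at h1
  have hp2 : (2 : K) ≠ 0 := Ring.two_ne_zero (by rw [ringChar.eq K p]; exact hp)
  rw [QuadraticMap.map_add q x] at h1 h2
  try rw [QuadraticMap.map_add q x y] at h2
  rw [← two_smul K y, QuadraticMap.polar_smul_right, QuadraticMap.map_smul, smul_eq_mul, smul_eq_mul] at h2
  refine hy0 (hq y ?_)
  have : (2 : K) * q y = 0 := by linear_combination h2 - h1
  exact (mul_eq_zero.1 this).resolve_left hp2

end Groth.Agent.S15164
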