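import Groth.Statements.S15165
import Groth.Agent.S15164
import Mathlib.RingTheory.Polynomial.Basic
import Mathlib.FieldTheory.Separable
import Mathlib.Tactic.LinearCombination

set_option autoImplicit false
universe u v
open Polynomial
open BddFin

namespace Groth.Agent.S15165

/-- Let K be a field of characteristic different from 2 such that K contains all roots of unity (for
every n ≥ 1 the polynomial X^n − 1 splits into linear factors over K), V a finite-dimensional
K-vector space and q a quadratic form on V that does not represent zero. If a K-linear automorphism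
g of V preserves q and has finite order (g ^ d = 1 for some d ≥ 1), then g ^ 2 = 1. (The published
statement also covers perfect fields of characteristic 2; this row is the case of characteristic ≠
2.) -/
theorem result
    (K : Type u) [Field K] (hK : ∀ n : ℕ, 0 < n → (X ^ n - 1 : K[X]).Splits) (h2 : (2 : K) ≠ 0)
    (V : Type v) [AddCommGroup V] [Module K V] [FiniteDimensional K V]
    (q : QuadraticForm K V) (hq : q.Anisotropic)
    (g : V ≃ₗ[K] V) (hg : ∀ x : V, q (g x) = q x) (d : ℕ) (hd : 0 < d) (hgd : g ^ d = 1) :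
    g ^ 2 = 1 := by
  induction d using Nat.strong_induction_on with
  | _ d ih =>
  by_cases hdK : (d : K) = 0
  · set p := ringChar K
    have : CharP K p := ringChar.charP K
    have hpd : p ∣ d := (CharP.cast_eq_zero_iff K p d).1 hdK
    have hp : p.Prime := (CharP.char_is_prime_or_zero K p).resolve_right fun h0 => by
      rw [h0] at hpd; exact hd.ne' (Nat.eq_zero_of_zero_dvd hpd)
    have : Fact p.Prime := ⟨hp⟩
    have hiso : ∀ (j : ℕ) (x : V), q ((g ^ j) x) = q x := fun j => by
      induction j with
      | zero => intro x; rfl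
      | succ j hj => intro x; rw [pow_succ, LinearEquiv.mul_apply, hj, hg]
    obtain ⟨e, rfl⟩ := hpd
    have he : 0 < e := Nat.pos_of_mul_pos_left hd
    refine ih e (lt_mul_of_one_lt_left he hp.one_lt) he ?_
    refine Groth.Agent.S15164.result K p (fun h0 => h2 ?_) V q hq _ (hiso e) (by rw [← pow_mul, mul_comm, hgd])
    rw [← Nat.cast_ofNat (R := K), ← h0, CharP.cast_eq_zero]
  classical
  set G : Module.End K V := (g : V →ₗ[K] V) with hG
  have hsep : (X ^ d - 1 : K[X]).Separable := X_pow_sub_one_separable_iff.2 hdK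
  have hspl := hK d hd
  have hm : (X ^ d - 1 : K[X]).Monic := by simpa using monic_X_pow_sub_C (1 : K) hd.ne'
  set R := (X ^ d - 1 : K[X]).roots.toFinset
  have hprod : (X ^ d - 1 : K[X]) = ∏ ζ ∈ R, (X - C ζ) := by
    rw [Finset.prod_eq_multiset_prod, Multiset.toFinset_val, (nodup_roots hsep).dedup]
    exact hspl.eq_prod_roots_of_monic hm
  have hdvd : (X ^ d - 1 : K[X]) ∣ (X ^ 2 - 1) * ∏ ζ ∈ R.filter (fun ζ => ζ ^ 2 ≠ 1), (X - C ζ) := by
    rw [hprod, ← Finset.prod_filter_mul_prod_filter_not R (fun ζ => ζ ^ 2 = 1)]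
    refine mul_dvd_mul ?_ dvd_rfl
    refine Finset.prod_dvd_of_coprime (fun a _ b _ hab => pairwise_coprime_X_sub_C Function.injective_id hab) fun ζ hζ => ?_
    rw [dvd_iff_isRoot]
    simp [(Finset.mem_filter.1 hζ).2]
  have hgd' : aeval G (X ^ d - 1 : K[X]) = 0 := by
    rw [map_sub, map_pow, aeval_X, map_one, sub_eq_zero]
    have := congrArg (fun e : V ≃ₗ[K] V => (e : V →ₗ[K] V)) hgd
    rw [show ((g ^ d : V ≃ₗ[K] V) : V →ₗ[K] V) = G ^ d from map_pow (LinearEquiv.automorphismGroup.toLinearMapMonoidHom) g d] at this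
    exact this
  obtain ⟨Q, hQ⟩ := hdvd
  have hzero : aeval G ((∏ ζ ∈ R.filter (fun ζ => ζ ^ 2 ≠ 1), (X - C ζ)) * (X ^ 2 - 1) : K[X]) = 0 := by
    rw [mul_comm, hQ, map_mul, hgd', zero_mul]
  have hinj : ∀ s ⊆ R.filter (fun ζ => ζ ^ 2 ≠ 1), Function.Injective (aeval G (∏ ζ ∈ s, (X - C ζ))) := by
    intro s hs
    induction s using Finset.induction_on with
    | empty => simp [Function.Injective]
    | insert ζ t hζt iht =>
      rw [Finset.prod_insert hζt, map_mul, Module.End.mul_eq_comp, LinearMap.coe_comp]
      refine Function.Injective.comp ?_ (iht fun x hx => hs (Finset.mem_insert_of_mem hx))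
      refine (injective_iff_map_eq_zero _).2 fun v hv => hq v ?_
      have hζ := (Finset.mem_filter.1 (hs (Finset.mem_insert_self ζ t))).2
      have hgv : g v = ζ • v := by
        simpa [sub_eq_zero, hG, Module.algebraMap_end_apply] using hv
      have h1 := hg v
      rw [hgv, QuadraticMap.map_smul, smul_eq_mul] at h1
      have h3 : (ζ ^ 2 - 1) * q v = 0 := by linear_combination h1
      exact (mul_eq_zero.1 h3).resolve_left (sub_ne_zero.2 hζ)
  refine LinearEquiv.toLinearMap_injective ?_
  rw [show ((g ^ 2 : V ≃ₗ[K] V) : V →ₗ[K] V) = G ^ 2 from map_pow (LinearEquiv.automorphismGroup.toLinearMapMonoidHom) g 2]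
  refine LinearMap.ext fun v => sub_eq_zero.1 (hinj _ (Finset.Subset.refl _) ?_)
  rw [map_zero]
  have := DFunLike.congr_fun hzero v
  rw [map_mul, Module.End.mul_apply, map_sub, map_pow, aeval_X, map_one, LinearMap.sub_apply] at this
  exact this

end Groth.Agent.S15165
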