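import Groth.Statements.S15166
import Groth.Agent.S15165
import Mathlib.LinearAlgebra.FiniteDimensional.Lemmas

set_option autoImplicit false
universe u v
open Polynomial
open BddFin

namespace Groth.Agent.S15166

theorem card_le_two_pow {K : Type u} [Field K] (h2 : (2 : K) ≠ 0) :
    ∀ (n : ℕ) (V : Type v) [AddCommGroup V] [Module K V] [FiniteDimensional K V], Module.finrank K V = n →
      ∀ (G : Subgroup (V ≃ₗ[K] V)), (∀ g ∈ G, g * g = 1) → (∀ g ∈ G, ∀ h ∈ G, g * h = h * g) →
        Finite G ∧ Nat.card G ≤ 2 ^ n := by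
  intro n
  induction n using Nat.strong_induction_on with
  | _ n ih =>
  intro V _ _ _ hn G hsq hcomm
  by_cases hsc : ∀ g ∈ G, g = 1 ∨ g = LinearEquiv.neg K
  · have hsub : (G : Set (V ≃ₗ[K] V)) ⊆ {1, LinearEquiv.neg K} := fun g hg => by simpa using hsc g hg
    have hfin : (G : Set (V ≃ₗ[K] V)).Finite := (Set.toFinite _).subset hsub
    refine ⟨hfin.to_subtype, ?_⟩
    show Nat.card (G : Set (V ≃ₗ[K] V)) ≤ _
    rw [Nat.card_coe_set_eq]
    rcases Nat.eq_zero_or_pos n with rfl | hpos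
    · have : Subsingleton V := Module.finrank_zero_iff.1 hn
      have : Subsingleton (V ≃ₗ[K] V) := ⟨fun a b => LinearEquiv.ext fun x => Subsingleton.elim _ _⟩
      simpa using Set.ncard_le_one_of_subsingleton (G : Set (V ≃ₗ[K] V))
    · refine (Set.ncard_le_ncard hsub).trans ((Set.ncard_insert_le _ _).trans ?_)
      rw [Set.ncard_singleton]
      calc 1 + 1 = 2 ^ 1 := rfl
        _ ≤ 2 ^ n := Nat.pow_le_pow_right (by norm_num) hpos
  push Not at hsc
  obtain ⟨a, ha, ha1, han⟩ := hsc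
  set P := LinearMap.ker ((a : V →ₗ[K] V) - 1) with hP
  set M := LinearMap.ker ((a : V →ₗ[K] V) + 1) with hM
  have haa : ∀ x, a (a x) = x := fun x => LinearEquiv.congr_fun (hsq a ha) x
  have hPm : ∀ x, x ∈ P ↔ a x = x := fun x => by simp [hP, sub_eq_zero]
  have hMm : ∀ x, x ∈ M ↔ a x = -x := fun x => by simp [hM, eq_neg_iff_add_eq_zero]
  have hcompl : IsCompl P M := by
    refine ⟨Submodule.disjoint_def.2 fun x h1 h1' => ?_, codisjoint_iff.2 (eq_top_iff.2 fun x _ => ?_)⟩
    · rw [hPm] at h1; rw [hMm, h1] at h1'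
      have : (2 : K) • x = 0 := by rw [two_smul]; nth_rw 1 [h1']; exact neg_add_cancel x
      exact (smul_eq_zero.1 this).resolve_left h2
    · refine Submodule.mem_sup.2 ⟨(2 : K)⁻¹ • (x + a x), ?_, (2 : K)⁻¹ • (x - a x), ?_, ?_⟩
      · rw [hPm, map_smul, map_add, haa, add_comm]
      · rw [hMm, map_smul, map_sub, haa, ← smul_neg, neg_sub]
      · rw [← smul_add, show x + a x + (x - a x) = (2 : K) • x by rw [two_smul]; abel, smul_smul, inv_mul_cancel₀ h2, one_smul]
  have hsum := Submodule.finrank_add_eq_of_isCompl hcompl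
  rw [hn] at hsum
  have hPpos : 0 < Module.finrank K P := by
    refine Nat.pos_of_ne_zero fun h0 => han (LinearEquiv.ext fun x => ?_)
    rw [Submodule.finrank_eq_zero] at h0
    have hM' : M = ⊤ := by simpa [h0] using hcompl.sup_eq_top
    exact (hMm x).1 (hM' ▸ Submodule.mem_top)
  have hMpos : 0 < Module.finrank K M := by
    refine Nat.pos_of_ne_zero fun h0 => ha1 (LinearEquiv.ext fun x => ?_)
    rw [Submodule.finrank_eq_zero] at h0
    have hP' : P = ⊤ := by simpa [h0] using hcompl.sup_eq_top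
    exact (hPm x).1 (hP' ▸ Submodule.mem_top)
  -- restriction
  have hres : ∀ (W : Submodule K V), (∀ g ∈ G, ∀ x ∈ W, g x ∈ W) → Module.finrank K W < n →
      ∃ ρ : G →* (W ≃ₗ[K] W), (∀ (g : G) (x : W), (ρ g x : V) = (g : V ≃ₗ[K] V) x) ∧
        Finite ρ.range ∧ Nat.card ρ.range ≤ 2 ^ Module.finrank K W := by
    intro W hW hlt
    let r : G → (W ≃ₗ[K] W) := fun g => LinearEquiv.ofLinear
      (((g : V ≃ₗ[K] V) : V →ₗ[K] V).restrict fun x hx => hW _ g.2 x hx)
      ((((g : V ≃ₗ[K] V)⁻¹ : V ≃ₗ[K] V) : V →ₗ[K] V).restrict fun x hx => hW _ (G.inv_mem g.2) x hx)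
      (LinearMap.ext fun x => Subtype.ext (LinearEquiv.apply_symm_apply _ _))
      (LinearMap.ext fun x => Subtype.ext (LinearEquiv.symm_apply_apply _ _))
    let ρ : G →* (W ≃ₗ[K] W) :=
      { toFun := r, map_one' := LinearEquiv.ext fun x => Subtype.ext rfl,
        map_mul' := fun g h => LinearEquiv.ext fun x => Subtype.ext rfl }
    refine ⟨ρ, fun g x => rfl, ih _ hlt W rfl ρ.range ?_ ?_⟩
    · rintro _ ⟨g, rfl⟩
      rw [← map_mul, show g * g = 1 from Subtype.ext (hsq g g.2), map_one]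
    · rintro _ ⟨g, rfl⟩ _ ⟨h, rfl⟩
      rw [← map_mul, ← map_mul, show g * h = h * g from Subtype.ext (hcomm g g.2 h h.2)]
  have hca : ∀ g ∈ G, ∀ x, a (g x) = g (a x) := fun g hg x => LinearEquiv.congr_fun (hcomm a ha g hg) x
  obtain ⟨ρ, hρ, hfP, hcP⟩ := hres P (fun g hg x hx => by rw [hPm] at hx ⊢; rw [hca g hg, hx]) (by omega)
  obtain ⟨σ, hσ, hfM, hcM⟩ := hres M (fun g hg x hx => by rw [hMm] at hx ⊢; rw [hca g hg, hx, map_neg]) (by omega)
  have hinj : Function.Injective fun g : G => ((⟨ρ g, g, rfl⟩ : ρ.range), (⟨σ g, g, rfl⟩ : σ.range)) := fun g h e => by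
    simp only [Prod.ext_iff, Subtype.ext_iff] at e
    refine Subtype.ext (LinearEquiv.ext fun x => ?_)
    obtain ⟨y, hy, z, hz, rfl⟩ := Submodule.mem_sup.1 (hcompl.sup_eq_top ▸ Submodule.mem_top : x ∈ P ⊔ M)
    rw [map_add, map_add, ← hρ g ⟨y, hy⟩, ← hρ h ⟨y, hy⟩, ← hσ g ⟨z, hz⟩, ← hσ h ⟨z, hz⟩, e.1, e.2]
  refine ⟨Finite.of_injective _ hinj, (Nat.card_le_card_of_injective _ hinj).trans ?_⟩
  rw [Nat.card_prod, ← hsum, pow_add]
  exact Nat.mul_le_mul hcP hcM

/-- Let K be a field of characteristic different from 2 such that K contains all roots of unity (for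
every n ≥ 1 the polynomial X^n − 1 splits into linear factors over K), V a finite-dimensional
K-vector space and q a quadratic form on V that does not represent zero. Then every finite subgroup
of the group of K-linear automorphisms of V preserving q is abelian and has order at most 2 ^ (dim
V). (The published statement also covers perfect fields of characteristic 2; this row is the case of
characteristic ≠ 2.) -/
theorem result
    (K : Type u) [Field K] (hK : ∀ n : ℕ, 0 < n → (X ^ n - 1 : K[X]).Splits) (h2 : (2 : K) ≠ 0)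
    (V : Type v) [AddCommGroup V] [Module K V] [FiniteDimensional K V]
    (q : QuadraticForm K V) (hq : q.Anisotropic)
    (G : Subgroup (V ≃ₗ[K] V)) [Finite G] (hG : ∀ g ∈ G, ∀ x : V, q (g x) = q x) :
    (∀ g ∈ G, ∀ h ∈ G, g * h = h * g) ∧ Nat.card G ≤ 2 ^ Module.finrank K V := by
  have hsq : ∀ g ∈ G, g * g = 1 := fun g hg => by
    rw [← pow_two]
    exact Groth.Agent.S15165.result K hK h2 V q hq g (hG g hg) (Nat.card G) Nat.card_pos
      (congrArg Subtype.val (pow_card_eq_one' (x := (⟨g, hg⟩ : G))))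
  have hcomm : ∀ g ∈ G, ∀ h ∈ G, g * h = h * g := fun g hg h hh => by
    have h1 := hsq _ (mul_mem hg hh)
    calc g * h = g * (g * h * (g * h)) * h := by rw [h1, mul_one]
      _ = g * g * (h * g) * (h * h) := by simp [mul_assoc]
      _ = _ := by rw [hsq g hg, hsq h hh, one_mul, mul_one]
  exact ⟨hcomm, (card_le_two_pow h2 _ V rfl G hsq hcomm).2⟩

end Groth.Agent.S15166
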