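import Groth.Statements.S15167
import Groth.Agent.Lib.BddFinDiv.RootsOfUnity

set_option autoImplicit false
universe u v
open Polynomial
open BddFin

namespace Groth.Agent.S15167

/-- Let K be a field such that K contains all roots of unity (for every n ≥ 1 the polynomial X^n − 1
splits into linear factors over K), A a central simple K-algebra of dimension n ^ 2, and x an
invertible element of A some power x ^ m (m ≥ 1) of which lies in K. Then there are a positive
integer r dividing n and elements a_i of K such that the minimal polynomial of x over K is the
product of the polynomials X ^ r − a_i. -/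
theorem result
    (K : Type u) [Field K] (hK : ∀ n : ℕ, 0 < n → (X ^ n - 1 : K[X]).Splits)
    (A : Type v) [Ring A] [Algebra K A] [Algebra.IsCentral K A] [IsSimpleRing A] [FiniteDimensional K A]
    (n : ℕ) (hn : Module.finrank K A = n ^ 2)
    (x : A) (hx : IsUnit x) (hxm : ∃ m : ℕ, 0 < m ∧ x ^ m ∈ (algebraMap K A).range) :
    ∃ r : ℕ, 0 < r ∧ r ∣ n ∧ ∃ s : Multiset K, minpoly K x = (s.map fun a : K => X ^ r - C a).prod := by
  exact GrothLib.BddFinDiv.minpoly_binomials hK n hn x hx hxm

end Groth.Agent.S15167
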