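import Groth.Statements.S15168
import Groth.Agent.Lib.BddFinDiv.RootsOfUnity

set_option autoImplicit false
universe u v
open Polynomial
open BddFin

namespace Groth.Agent.S15168

/-- Let K be a field such that K contains all roots of unity (for every n ≥ 1 the polynomial X^n − 1
splits into linear factors over K), A a central division algebra of dimension n ^ 2 over K, and x an
element of A some power x ^ m (m ≥ 1) of which lies in K. Then x ^ n lies in K; that is, the order
of the class of x in the quotient of the unit group of A by that of K divides n. -/
theorem result
    (K : Type u) [Field K] (hK : ∀ n : ℕ, 0 < n → (X ^ n - 1 : K[X]).Splits)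
    (A : Type v) [DivisionRing A] [Algebra K A] [Algebra.IsCentral K A] [FiniteDimensional K A]
    (n : ℕ) (hn : Module.finrank K A = n ^ 2)
    (x : A) (hxm : ∃ m : ℕ, 0 < m ∧ x ^ m ∈ (algebraMap K A).range) :
    x ^ n ∈ (algebraMap K A).range := by
  exact GrothLib.BddFinDiv.pow_mem_of_division hK n hn x hxm

end Groth.Agent.S15168
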