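import Groth.Statements.S15169
import Groth.Agent.Lib.BddFinDiv.DivAlg
import Mathlib.Algebra.Polynomial.Expand

set_option autoImplicit false
universe u v
open BddFin

namespace Groth.Agent.S15169

open GrothLib

/-- (1) ⇒ (2): let K be a field with char K = p > 0 and A a central division K-algebra with dim_K A = p
^ 2. If some element of A is not separable over K, then there are v, u in A with v ^ p and u ^ p in
K and v * u - u * v = 1 which generate A as a K-algebra. -/
theorem result
    (K : Type u) [Field K] (p : ℕ) [Fact p.Prime] [CharP K p]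
    (A : Type v) [DivisionRing A] [Algebra K A] [Algebra.IsCentral K A] [FiniteDimensional K A]
    (hA : Module.finrank K A = p ^ 2) (h : ∃ v : A, ¬ IsSeparable K v) :
    ∃ v u : A, v ^ p ∈ (algebraMap K A).range ∧ u ^ p ∈ (algebraMap K A).range ∧ v * u - u * v = 1 ∧
      Algebra.adjoin K {v, u} = ⊤ := by
  obtain ⟨v, hv⟩ := h
  have hp : p.Prime := Fact.out
  have hpA : CharP A p := charP_of_injective_algebraMap (algebraMap K A).injective p
  have hint : IsIntegral K v := Algebra.IsIntegral.isIntegral v
  have hvK : v ∉ (algebraMap K A).range := by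
    rintro ⟨c, rfl⟩
    exact hv (by simp [IsSeparable, minpoly.eq_X_sub_C, Polynomial.separable_X_sub_C])
  obtain ⟨hdim, -⟩ := BddFinDiv.finrank_adjoin_eq hp hA hvK
  have hdeg : (minpoly K v).natDegree = p :=
    (BddFinDiv.finrank_adjoin_eq_natDegree _).symm.trans hdim
  have hvp : v ^ p ∈ (algebraMap K A).range := by
    have hd : Polynomial.derivative (minpoly K v) = 0 := by
      by_contra h
      exact hv ((Polynomial.separable_iff_derivative_ne_zero (minpoly.irreducible hint)).2 h)
    have hexp := Polynomial.expand_contract p hd hp.ne_zero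
    have hg : (Polynomial.contract p (minpoly K v)).natDegree = 1 := by
      have := congr_arg Polynomial.natDegree hexp
      rw [Polynomial.natDegree_expand, hdeg] at this
      exact Nat.eq_of_mul_eq_mul_right hp.pos (this.trans (one_mul p).symm)
    obtain ⟨a, b, hab⟩ := Polynomial.exists_eq_X_add_C_of_natDegree_le_one hg.le
    have hev := minpoly.aeval K v
    rw [← hexp, hab, Polynomial.expand_aeval] at hev
    simp only [map_add, map_mul, Polynomial.aeval_C, Polynomial.aeval_X] at hev
    have ha : a ≠ 0 := fun ha => by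
      rw [hab, ha] at hg; simp at hg
    refine ⟨-(a⁻¹ * b), ?_⟩
    rw [← Algebra.smul_def] at hev
    have h2 := congr_arg (a⁻¹ • ·) hev
    simp only [smul_add, smul_smul, inv_mul_cancel₀ ha, one_smul, smul_zero] at h2
    rw [eq_neg_of_add_eq_zero_left h2, map_neg, map_mul, ← Algebra.smul_def]
  have key : ∀ c : A, (LinearMap.mulLeft K c - LinearMap.mulRight K c) ^ p =
      LinearMap.mulLeft K (c ^ p) - LinearMap.mulRight K (c ^ p) := fun c => by
    have : CharP (Module.End K A) p :=
      charP_of_injective_algebraMap (algebraMap K (Module.End K A)).injective p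
    rw [sub_pow_char_of_commute (p := p) (LinearMap.commute_mulLeft_right c c),
      LinearMap.pow_mulLeft, LinearMap.pow_mulRight]
  set δ := LinearMap.mulLeft K v - LinearMap.mulRight K v with hδ
  obtain ⟨c, hc⟩ := hvp
  have hδp : δ ^ p = 0 := by
    rw [hδ, key]
    refine LinearMap.ext fun x => ?_
    simp [← hc, Algebra.commutes]
  obtain ⟨w, hw⟩ : ∃ w, δ w ≠ 0 := by
    by_contra hcon
    push Not at hcon
    refine hvK (BddFinDiv.mem_range_of_commute_all fun x => ?_)
    exact (sub_eq_zero.1 (hcon x)).symm
  obtain ⟨m, hm, hm'⟩ : ∃ m : ℕ, (δ ^ (m + 1)) w ≠ 0 ∧ (δ ^ (m + 2)) w = 0 := by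
    by_contra hcon
    push Not at hcon
    have : ∀ m, (δ ^ (m + 1)) w ≠ 0 := by
      intro m
      induction m with
      | zero => simpa using hw
      | succ m ih => exact hcon m ih
    obtain ⟨q, hq⟩ : ∃ q, p = q + 1 := ⟨p - 1, (Nat.succ_pred_eq_of_pos hp.pos).symm⟩
    exact this q (by rw [← hq, hδp]; rfl)
  set x := (δ ^ m) w with hxdef
  have hx1 : v * x - x * v ≠ 0 := by
    rw [pow_succ' δ, Module.End.mul_apply] at hm
    exact hm
  have hx2 : v * (v * x - x * v) = (v * x - x * v) * v := by
    rw [pow_succ' δ, pow_succ' δ, Module.End.mul_apply, Module.End.mul_apply] at hm'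
    exact sub_eq_zero.1 hm'
  set z := v * x - x * v with hzdef
  have hzinv : v * z⁻¹ = z⁻¹ * v := (Commute.inv_right₀ (show Commute v z from hx2)).eq
  set u := x * z⁻¹ with hudef
  have hvu : v * u - u * v = 1 := by
    rw [hudef, mul_assoc x, ← hzinv, ← mul_assoc, ← mul_assoc, ← sub_mul, ← hzdef,
      mul_inv_cancel₀ hx1]
  have hncomm : ¬ Commute v u := fun h => by rw [h.eq, sub_self] at hvu; exact zero_ne_one hvu
  have hup : u ^ p ∈ (algebraMap K A).range := by
    refine BddFinDiv.mem_range_of_commute₂ hp hA hncomm ?_ (Commute.pow_self u p)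
    have h1 := LinearMap.congr_fun (key u) v
    obtain ⟨q, hq⟩ : ∃ q, p = q + 2 := ⟨p - 2, by have := hp.two_le; omega⟩
    have h2 : ((LinearMap.mulLeft K u - LinearMap.mulRight K u) ^ p) v = 0 := by
      have h3 : (LinearMap.mulLeft K u - LinearMap.mulRight K u) v = -1 := by
        simp [← hvu]
      rw [hq, pow_add, Module.End.mul_apply, pow_two, Module.End.mul_apply, h3]
      simp
    rw [h2] at h1
    exact sub_eq_zero.1 h1.symm
  refine ⟨v, u, ⟨c, hc⟩, hup, hvu, ?_⟩
  set S := Algebra.adjoin K ({v, u} : Set A) with hS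
  let : DivisionRing S := divisionRingOfFiniteDimensional K S
  obtain ⟨-, hSd⟩ := CSA.centralizer_theorem S
  have hsub : Algebra.adjoin K {v} ≤ S := Algebra.adjoin_mono (by simp)
  have hlt : Module.finrank K (Algebra.adjoin K {v}) < Module.finrank K S := by
    refine lt_of_le_of_ne (LinearMap.finrank_le_finrank_of_injective
      (f := (Subalgebra.inclusion hsub).toLinearMap) (Subalgebra.inclusion_injective hsub)) ?_
    intro he
    have := Subalgebra.eq_of_le_of_finrank_eq hsub he
    have huS : u ∈ Algebra.adjoin K {v} := this ▸ Algebra.subset_adjoin (by simp)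
    exact hncomm (BddFinDiv.commute_adjoin (Commute.refl v) huS)
  rw [hA] at hSd
  obtain ⟨i, hi, hSi⟩ := (Nat.dvd_prime_pow hp).1 (Dvd.intro _ hSd.symm)
  rw [hdim, hSi] at hlt
  have hi2 : i = 2 := by
    interval_cases i
    · simp only [pow_zero] at hlt; exact absurd hlt (not_lt.2 hp.one_lt.le)
    · simp at hlt
    · rfl
  exact Subalgebra.eq_of_le_of_finrank_eq le_top (by
    rw [hSi, hi2, Subalgebra.topEquiv.toLinearEquiv.finrank_eq, hA])

end Groth.Agent.S15169
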