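import Groth.Statements.S1517
import Mathlib.RingTheory.SimpleRing.Basic
import Mathlib.RingTheory.TwoSidedIdeal.Operations

set_option autoImplicit false
universe u
open Brauer

namespace Groth.Agent.S1517

open MulOpposite

/-- Let A be a ring with no nontrivial two-sided ideals and M a nonzero right ideal, viewed as a right
A-module with endomorphism ring A'. Then every A'-linear endomorphism of M is right multiplication
by exactly one element of A; that is, the natural map from A to the bicommutant of M is a bijection. -/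
theorem result (A : Type u) [Ring A] [IsSimpleRing A]
    (M : Submodule Aᵐᵒᵖ A) (hM : M ≠ ⊥)
    (g : Module.End (Module.End Aᵐᵒᵖ M) M) :
    ∃! a : A, ∀ m : M, (g m : A) = (m : A) * a := by
  classical
  let mAm : M → A → Module.End Aᵐᵒᵖ M := fun m x =>
    { toFun := fun z => ⟨(m : A) * (x * z), by
        have := M.smul_mem (op (x * (z : A))) m.2
        simpa using this⟩
      map_add' := fun z z' => Subtype.ext (by simp [mul_add])
      map_smul' := fun c z => Subtype.ext (by
        show (m : A) * (x * ((z : A) * c.unop)) = (m : A) * (x * (z : A)) * c.unop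
        simp [mul_assoc]) }
  have hg : ∀ (m : M) (x : A) (z : M), g (mAm m x z) = mAm m x (g z) := fun m x z => g.map_smul (mAm m x) z
  let I : TwoSidedIdeal A := TwoSidedIdeal.span (M : Set A)
  obtain ⟨m₀, hm₀, hne⟩ := Submodule.exists_mem_ne_zero_of_ne_bot hM
  have h1 : (1 : A) ∈ I := by
    rcases (IsSimpleRing.simple (R := A)).eq_bot_or_eq_top I with h | h
    · exfalso
      have : m₀ ∈ I := TwoSidedIdeal.subset_span hm₀
      rw [h] at this
      exact hne (by simpa using this)
    · rw [h]; trivial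
  rw [TwoSidedIdeal.mem_span_iff_mem_addSubgroup_closure] at h1
  have key : ∀ y ∈ AddSubgroup.closure {y | ∃ p ∈ (M : Set A), ∃ a b, y = a * p * b},
      ∃ b : A, ∀ m : M, ∃ z : M, (z : A) = (m : A) * y ∧ (g z : A) = (m : A) * b := by
    intro y hy
    induction hy using AddSubgroup.closure_induction with
    | mem y hy =>
      obtain ⟨p, hp, a, b, rfl⟩ := hy
      let z : M := ⟨p * b, by simpa using M.smul_mem (op b) hp⟩
      exact ⟨a * (g z : A), fun m => ⟨mAm m a z, by show (m : A) * (a * (p * b)) = _; simp [mul_assoc], by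
        rw [hg]; rfl⟩⟩
    | zero => exact ⟨0, fun m => ⟨0, by simp, by simp⟩⟩
    | add y y' _ _ hy hy' =>
      obtain ⟨b, hb⟩ := hy
      obtain ⟨b', hb'⟩ := hy'
      refine ⟨b + b', fun m => ?_⟩
      obtain ⟨z, hz, hz'⟩ := hb m
      obtain ⟨w, hw, hw'⟩ := hb' m
      exact ⟨z + w, by simp [hz, hw, mul_add], by simp [hz', hw', mul_add]⟩
    | neg y _ hy =>
      obtain ⟨b, hb⟩ := hy
      refine ⟨-b, fun m => ?_⟩
      obtain ⟨z, hz, hz'⟩ := hb m
      exact ⟨-z, by simp [hz], by simp [hz']⟩
  obtain ⟨a, ha⟩ := key 1 (by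
    convert h1 using 3
    ext y
    constructor
    · rintro ⟨p, hp, a, b, rfl⟩; exact ⟨a * p, ⟨a, trivial, p, hp, rfl⟩, b, trivial, rfl⟩
    · rintro ⟨_, ⟨a, -, p, hp, rfl⟩, b, -, rfl⟩; exact ⟨p, hp, a, b, rfl⟩)
  have hga : ∀ m : M, (g m : A) = (m : A) * a := fun m => by
    obtain ⟨z, hz, hz'⟩ := ha m
    obtain rfl : z = m := Subtype.ext (by rw [hz, mul_one])
    exact hz'
  refine ⟨a, hga, fun a' ha' => ?_⟩
  have hz : ∀ y ∈ AddSubgroup.closure {y | ∃ p ∈ (M : Set A), ∃ a b, y = a * p * b}, y * (a' - a) = 0 := by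
    intro y hy
    induction hy using AddSubgroup.closure_induction with
    | mem y hy =>
      obtain ⟨p, hp, x, b, rfl⟩ := hy
      let z : M := ⟨p * b, by simpa using M.smul_mem (op b) hp⟩
      have h3 : p * b * a' = p * b * a := (ha' z).symm.trans (hga z)
      rw [mul_assoc x, mul_assoc, mul_sub, h3, sub_self, mul_zero]
    | zero => simp
    | add y y' _ _ hy hy' => rw [add_mul, hy, hy', add_zero]
    | neg y _ hy => rw [neg_mul, hy, neg_zero]
  have h4 := hz 1 (by
    convert h1 using 3
    ext y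
    constructor
    · rintro ⟨p, hp, a, b, rfl⟩; exact ⟨a * p, ⟨a, trivial, p, hp, rfl⟩, b, trivial, rfl⟩
    · rintro ⟨_, ⟨a, -, p, hp, rfl⟩, b, -, rfl⟩; exact ⟨p, hp, a, b, rfl⟩)
  rw [one_mul, sub_eq_zero] at h4
  exact h4

end Groth.Agent.S1517
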