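import Groth.Statements.S15170
import Groth.Agent.Lib.BddFinDiv.DivAlg

set_option autoImplicit false
universe u v
open BddFin

namespace Groth.Agent.S15170

open GrothLib

/-- (2) ⇒ (3): let K be a field with char K = p > 0 and A a central division K-algebra with dim_K A = p
^ 2. If v, u in A satisfy v ^ p ∈ K, u ^ p ∈ K and v * u - u * v = 1, then some Galois extension L
of K with [L : K] = p admits a K-algebra embedding into A (so A has a Galois subfield of degree p
over K). -/
theorem result
    (K : Type u) [Field K] (p : ℕ) [Fact p.Prime] [CharP K p]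
    (A : Type v) [DivisionRing A] [Algebra K A] [Algebra.IsCentral K A] [FiniteDimensional K A]
    (hA : Module.finrank K A = p ^ 2) (v u : A) (hv : v ^ p ∈ (algebraMap K A).range)
    (hu : u ^ p ∈ (algebraMap K A).range) (hvu : v * u - u * v = 1) :
    ∃ (L : Type v) (_ : Field L) (_ : Algebra K L), IsGalois K L ∧ Module.finrank K L = p ∧
      Nonempty (L →ₐ[K] A) := by
  have hp : p.Prime := Fact.out
  have hu0 : u ≠ 0 := fun h => by simp [h] at hvu
  have hconj : u * (v * u) * u⁻¹ = v * u - 1 := by
    rw [mul_assoc, mul_inv_cancel_right₀ hu0]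
    exact eq_sub_of_add_eq (by rw [← hvu]; abel)
  have hne : u * (v * u) * u⁻¹ ≠ v * u := by rw [hconj]; simp
  have hx : v * u ∉ (algebraMap K A).range := by
    rintro ⟨c, hc⟩
    exact hne (by rw [← hc, ← Algebra.commutes, mul_inv_cancel_right₀ hu0])
  obtain ⟨-, -, hS⟩ := BddFinDiv.pow_mem_of_normalize hp hA hx hu0
    (hconj ▸ Subalgebra.sub_mem _ (Algebra.self_mem_adjoin_singleton K _) (Subalgebra.one_mem _))
    hne
  obtain ⟨S, hSdef, hcomm⟩ := BddFinDiv.exists_adjoin_field (K := K) (v * u)
  let : CommRing S := { S.toRing with mul_comm := fun a b => Subtype.ext (hcomm a a.2 b b.2) }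
  let := fieldOfFiniteDimensional K S
  obtain ⟨σ, -, hσ, hcard⟩ := hS S hSdef
  have hSp : Module.finrank K S = p := by
    rw [hSdef]; exact (BddFinDiv.finrank_adjoin_eq hp hA hx).1
  refine ⟨S, inferInstance, inferInstance, ?_, hSp, ⟨S.val⟩⟩
  refine IsGalois.of_card_aut_eq_finrank K S (le_antisymm ?_ ?_)
  · rw [Nat.card_eq_fintype_card]; exact AlgEquiv.card_le
  · rw [hSp, ← hcard]
    exact Finite.card_subtype_le _

end Groth.Agent.S15170
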