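import Groth.Statements.S15171
import Groth.Agent.Lib.BddFinDiv.DivAlg

set_option autoImplicit false
universe u v w
open BddFin

namespace Groth.Agent.S15171

open GrothLib

/-- (3) ⇒ (1): let K be a field with char K = p > 0 and A a central division K-algebra with dim_K A = p
^ 2. If some Galois extension L of K with [L : K] = p admits a K-algebra embedding into A, then some
element of A is not separable over K. -/
theorem result
    (K : Type u) [Field K] (p : ℕ) [Fact p.Prime] [CharP K p]
    (A : Type v) [DivisionRing A] [Algebra K A] [Algebra.IsCentral K A] [FiniteDimensional K A]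
    (hA : Module.finrank K A = p ^ 2) (L : Type w) [Field L] [Algebra K L] [IsGalois K L]
    (hL : Module.finrank K L = p) (ι : L →ₐ[K] A) :
    ∃ v : A, ¬ IsSeparable K v := by
  have hp : p.Prime := Fact.out
  have : FiniteDimensional K L := Module.finite_of_finrank_pos (hL ▸ hp.pos)
  have : Nontrivial (L ≃ₐ[K] L) := Finite.one_lt_card_iff_nontrivial.1 (by
    rw [IsGalois.card_aut_eq_finrank, hL]; exact hp.one_lt)
  obtain ⟨σ, hσ⟩ := exists_ne (1 : L ≃ₐ[K] L)
  obtain ⟨z, hz⟩ : ∃ z, σ z ≠ z := by
    by_contra h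
    push Not at h
    exact hσ (AlgEquiv.ext h)
  obtain ⟨y, hy⟩ := CSA.skolem_noether (k := K) (A := A) (B := L) (ι.comp σ.toAlgHom) ι
  have hza : ι z ∉ (algebraMap K A).range := by
    rintro ⟨c, hc⟩
    rw [← ι.commutes] at hc
    exact hz (by rw [← ι.toRingHom.injective hc, AlgEquiv.commutes])
  have hconj : (y : A) * ι z * (y : A)⁻¹ = ι (σ z) := by
    rw [← Units.val_inv_eq_inv_val]; exact (hy z).symm
  obtain ⟨h1, h2, -⟩ := BddFinDiv.pow_mem_of_normalize hp hA hza y.ne_zero
    (hconj ▸ BddFinDiv.mem_adjoin_of_commute hp hA hza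
      (show Commute (ι (σ z)) (ι z) from (Commute.all (σ z) z).map ι))
    (fun h => hz (ι.toRingHom.injective (hconj.symm.trans h)))
  exact ⟨y, BddFinDiv.not_isSeparable_of_pow_mem h1 h2⟩

end Groth.Agent.S15171
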