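import Groth.Statements.S15172
import Mathlib.Algebra.Polynomial.Roots

set_option autoImplicit false
universe u v
open Polynomial
open BddFin

namespace Groth.Agent.S15172

/-- Let L be a field of characteristic p > 0 and s a finite subset of L containing 0 and closed under
addition (a finite additive subgroup). Then the polynomial f = ∏_{a ∈ s} (X - a) is additive: f (x +
y) = f x + f y for all x, y in any commutative L-algebra (equivalently, as an identity of
polynomials in two variables). -/
theorem result
    (L : Type u) [Field L] (p : ℕ) [Fact p.Prime] [CharP L p] (s : Finset L) (h0 : (0 : L) ∈ s)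
    (hadd : ∀ a ∈ s, ∀ b ∈ s, a + b ∈ s) (R : Type v) [CommRing R] [Algebra L R] (x y : R) :
    aeval (x + y) (∏ a ∈ s, (X - C a)) = aeval x (∏ a ∈ s, (X - C a)) + aeval y (∏ a ∈ s, (X - C a)) := by
  classical
  have key : ∀ a ∈ s, (∏ b ∈ s, (X - C b)).comp (X + C a) = ∏ b ∈ s, (X - C b) := by
    intro a ha
    rw [prod_comp]
    have hinj : Set.InjOn (fun b => b - a) (s : Set L) := fun b _ c _ h => sub_left_injective h
    have himg : s.image (fun b => b - a) = s := by
      symm
      refine Finset.eq_of_subset_of_card_le (fun b hb => ?_) ?_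
      · exact Finset.mem_image.2 ⟨b + a, hadd b hb a ha, add_sub_cancel_right b a⟩
      · exact (Finset.card_image_of_injOn hinj).le
    calc ∏ b ∈ s, (X - C b).comp (X + C a) = ∏ b ∈ s, (X - C (b - a)) :=
          Finset.prod_congr rfl fun b _ => by simp [sub_comp, C_sub]; ring
      _ = ∏ b ∈ s.image (fun b => b - a), (X - C b) :=
          (Finset.prod_image (f := fun b => X - C b) hinj).symm
      _ = _ := by rw [himg]
  set F := ∏ b ∈ s, (X - C b) with hF
  have hmonic : F.Monic := monic_prod_of_monic _ _ fun b _ => monic_X_sub_C b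
  have hdeg : F.natDegree = s.card := by
    rw [hF, natDegree_prod_of_monic _ _ fun b _ => monic_X_sub_C b]
    simp
  let H : L[X][X] := (F.map C).comp (X + C X) - C F - F.map C
  have hH : H = 0 := by
    refine eq_zero_of_natDegree_lt_card_of_eval_eq_zero' H (s.image C) ?_ ?_
    · intro t ht
      obtain ⟨a, ha, rfl⟩ := Finset.mem_image.1 ht
      have h1 : F.eval a = 0 := by
        rw [hF, eval_prod]; exact Finset.prod_eq_zero ha (by simp)
      have h2 : (F.map C).eval (C a + X) = F := by
        rw [eval_map, ← comp, add_comm]; exact key a ha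
      have h3 : (F.map C).eval (C a) = 0 := by rw [eval_map_apply, h1, map_zero]
      simp [H, eval_comp, h2, h3]
    · rw [Finset.card_image_of_injective _ C_injective]
      have h1 : ((F.map (C : L →+* L[X])).comp (X + C X)).natDegree = s.card := by
        rw [natDegree_comp, natDegree_map_eq_of_injective C_injective, natDegree_X_add_C, mul_one, hdeg]
      have hs : 0 < s.card := Finset.card_pos.2 ⟨0, h0⟩
      have h2 : H.natDegree ≤ s.card := by
        refine (natDegree_sub_le _ _).trans (max_le ((natDegree_sub_le _ _).trans (max_le h1.le ?_)) ?_)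
        · rw [natDegree_C]; exact Nat.zero_le _
        · rw [natDegree_map_eq_of_injective C_injective, hdeg]
      refine lt_of_le_of_ne h2 fun he => ?_
      have hc : H.coeff s.card = 0 := by
        have hm1 : ((F.map (C : L →+* L[X])).comp (X + C X)).coeff s.card = 1 := by
          rw [← h1]; exact ((hmonic.map C).comp_X_add_C X).coeff_natDegree
        simp only [H, coeff_sub, hm1, coeff_map, coeff_C, if_neg hs.ne']
        rw [← hdeg, hmonic.coeff_natDegree, map_one, sub_zero, sub_self]
      have hne : H ≠ 0 := fun h => by rw [h, natDegree_zero] at he; omega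
      exact leadingCoeff_ne_zero.2 hne (by rw [leadingCoeff, he, hc])
  have h4 := congr_arg (eval₂ (aeval x : L[X] →ₐ[L] R).toRingHom y) hH
  simp only [H, eval₂_sub, eval₂_C, eval₂_comp, eval₂_add, eval₂_X, eval₂_zero, eval₂_map,
    RingHom.coe_coe, AlgHom.toRingHom_eq_coe] at h4
  have h5 : ((aeval x : L[X] →ₐ[L] R) : L[X] →+* R).comp C = algebraMap L R := by ext c; simp
  rw [h5, aeval_X, ← aeval_def, ← aeval_def, sub_sub, sub_eq_zero, add_comm y x] at h4
  exact h4

end Groth.Agent.S15172
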