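import Groth.Statements.S15173
import Groth.Agent.Lib.BddFin21.Unbounded
import Mathlib.Algebra.Algebra.Basic
import Mathlib.RingTheory.Polynomial.Cyclotomic.Roots

set_option autoImplicit false
universe u v
open Polynomial
open BddFin

namespace Groth.Agent.S15173

/-- Let K be a field of characteristic p > 0 such that K contains all roots of unity (for every n ≥ 1
the polynomial X^n − 1 splits into linear factors over K), and A a finite-dimensional central
division algebra over K. If A contains an element w not in K with w ^ p in K, then the quotient of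
the unit group of A by that of K has unbounded finite subgroups: for every N there is a subgroup H
of the units of A containing the units of K as a subgroup of finite index greater than N. (The
published statement assumes only that some element of A is inseparable over K and passes at once to
a purely inseparable subfield of degree p; this row assumes an element generating such a subfield
directly, which is what the rest of the printed argument uses.) -/
theorem result
    (K : Type u) [Field K] (p : ℕ) [Fact p.Prime] [CharP K p] (hK : ∀ n : ℕ, 0 < n → (X ^ n - 1 : K[X]).Splits)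
    (A : Type v) [DivisionRing A] [Algebra K A] [Algebra.IsCentral K A] [FiniteDimensional K A]
    (w : A) (hw : w ^ p ∈ (algebraMap K A).range) (hwK : w ∉ (algebraMap K A).range) (N : ℕ) :
    ∃ H : Subgroup Aˣ, (Units.map (algebraMap K A : K →* A)).range ≤ H ∧
      N < ((Units.map (algebraMap K A : K →* A)).range).relIndex H := by
  have hfinK : Infinite K := by
    by_contra h
    rw [not_infinite_iff_finite] at h
    have := Fintype.ofFinite K
    obtain ⟨q, hq⟩ := Nat.exists_infinite_primes (max (p + 1) (Fintype.card K + 1))
    have hqK : (q : K) ≠ 0 := by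
      rw [Ne, CharP.cast_eq_zero_iff K p q, Nat.prime_dvd_prime_iff_eq Fact.out hq.2]
      omega
    have : NeZero ((q : ℕ) : K) := ⟨hqK⟩
    have hne : (X ^ q - 1 : K[X]) ≠ 0 := by simpa using Polynomial.X_pow_sub_C_ne_zero hq.2.pos (1 : K)
    obtain ⟨ζ, hζ'⟩ := ((hK q hq.2.pos).of_dvd hne (Polynomial.cyclotomic.dvd_X_pow_sub_one q K)).exists_eval_eq_zero
      (by rw [Polynomial.degree_cyclotomic]; exact_mod_cast (Nat.totient_pos.mpr hq.2.pos).ne')
    have hζ : IsPrimitiveRoot ζ q := Polynomial.isRoot_cyclotomic_iff.mp hζ'
    obtain ⟨u, rfl⟩ := hζ.isUnit hq.2.ne_zero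
    have h1 := Fintype.card_le_of_injective (fun i : Fin q => ((u : K) ^ (i : ℕ)))
      (fun i j hij => Fin.ext (hζ.pow_inj i.2 j.2 hij))
    rw [Fintype.card_fin] at h1
    omega
  let C := (Units.map (algebraMap K A : K →* A)).range
  have hC : C.Normal := ⟨fun a ⟨c, hc⟩ g => ⟨c, by
    rw [← hc]
    refine Units.ext ?_
    show algebraMap K A c = (g : A) * algebraMap K A c * ((g⁻¹ : Aˣ) : A)
    rw [← Algebra.commutes, mul_assoc, Units.mul_inv, mul_one]⟩⟩
  obtain ⟨G, hG, hN⟩ := GrothLib.BddFin21.unbounded (QuotientGroup.mk' C) (QuotientGroup.ker_mk' C) w hwK hw N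
  refine ⟨G.comap (QuotientGroup.mk' C), fun a ha => ?_, ?_⟩
  · show QuotientGroup.mk' C a ∈ G
    rw [show QuotientGroup.mk' C a = 1 from (QuotientGroup.eq_one_iff a).mpr ha]
    exact G.one_mem
  show N < C.relIndex _
  have h := Subgroup.relIndex_comap (⊥ : Subgroup (Aˣ ⧸ C)) (QuotientGroup.mk' C) (G.comap (QuotientGroup.mk' C))
  rw [MonoidHom.comap_bot, QuotientGroup.ker_mk', Subgroup.map_comap_eq_self_of_surjective
    (QuotientGroup.mk'_surjective C), Subgroup.relIndex_bot_left] at h
  rwa [h]

end Groth.Agent.S15173
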