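import Groth.Statements.S15175
import Groth.Agent.AnisoTorus21.Main

set_option autoImplicit false
universe u
open CategoryTheory MonoidalCategory CartesianMonoidalCategory MonObj GrpObj AlgebraicGeometry
open Polynomial
open BddFin

namespace Groth.Agent.S15175

/-- Let K be a field such that K contains all roots of unity (for every n ≥ 1 the polynomial X^n − 1
splits into linear factors over K), and T a K-group scheme that is an n-dimensional torus (it
becomes isomorphic, as a group scheme, to the split torus D(ℤ^n) = 𝔾_m^n after some field extension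
L of K) and is anisotropic (no homomorphism 𝔾_m → T of K-group schemes is a monomorphism, i.e. T
contains no subtorus isomorphic to 𝔾_m); T(K) is the group of sections Spec K → T. Then a torsion
element of T(K) has order invertible in K (prime to the characteristic) and at most |H| for some
finite subgroup H of GL_n(ℤ) (that is, at most Υ(n), the largest such order), and a finite subgroup
of T(K) has at most |H| ^ n elements for some finite subgroup H of GL_n(ℤ) (at most Υ(n) ^ n). (The
published corollary also records that a finite subgroup of T(K) has order prime to the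
characteristic; that follows from the first clause applied to its elements of prime order and is not
restated.) -/
theorem result
    (K : Type u) [Field K] (hK : ∀ n : ℕ, 0 < n → (X ^ n - 1 : K[X]).Splits) (n : ℕ)
    (T : Over (Spec (CommRingCat.of K))) [GrpObj T]
    (hT : ∃ (L : Type u) (_ : Field L) (_ : Algebra K L),
      Red.IsSplitTorusWith (Fin n → ℤ) (Red.bc (Spec.map (CommRingCat.ofHom (algebraMap K L))) T))
    (haniso : ∀ i : Red.Gm (Spec (CommRingCat.of K)) ⟶ T, IsMonHom i → Mono i → False) :
    (∀ x : 𝟙_ (Over (Spec (CommRingCat.of K))) ⟶ T, IsOfFinOrder x →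
        ((orderOf x : ℕ) : K) ≠ 0 ∧
        ∃ H : Subgroup (Matrix.GeneralLinearGroup (Fin n) ℤ), Finite H ∧ orderOf x ≤ Nat.card H) ∧
    (∀ G : Subgroup (𝟙_ (Over (Spec (CommRingCat.of K))) ⟶ T), Finite G →
        ∃ H : Subgroup (Matrix.GeneralLinearGroup (Fin n) ℤ), Finite H ∧ Nat.card G ≤ Nat.card H ^ n) := by
  obtain ⟨L, _, _, H, Φ, hfin, hinj, hmono, hinv⟩ := AnisoTorus21.exists_data hT
  have hnf : AnisoTorus21.NoFixed H := by
    by_contra hc
    obtain ⟨i, h1, h2⟩ := hmono hc
    exact haniso i h1 h2
  haveI := hfin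
  have hpow : ∀ (N : ℕ) (x : 𝟙_ (Over (Spec (CommRingCat.of K))) ⟶ T), 0 < N → x ^ N = 1 →
      ∀ m : Fin n → ℤ, Φ x (Multiplicative.ofAdd m) ^ Nat.card H = 1 := fun N x hN hx =>
    AnisoTorus21.pow_card_eq_one H hnf (Φ x)
      (hinv N x (AnisoTorus21.range_of_splits hN (hK N hN)) hx)
  refine ⟨fun x hx => ⟨AnisoTorus21.orderOf_natCast_ne_zero Φ hinj x hx, H, hfin,
    Nat.le_of_dvd Nat.card_pos (AnisoTorus21.orderOf_dvd_of_pow Φ hinj x _
      (hpow _ x hx.orderOf_pos (pow_orderOf_eq_one x)))⟩, fun G hG => ⟨H, hfin, ?_⟩⟩
  exact AnisoTorus21.card_le_pow Nat.card_pos (Φ.comp G.subtype) (hinj.comp Subtype.val_injective) fun a m =>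
    hpow (Nat.card G) a Nat.card_pos (by rw [← SubmonoidClass.coe_pow, pow_card_eq_one']; rfl) m

end Groth.Agent.S15175
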