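import Groth.Statements.S15176
import Groth.Agent.AnisoTorus21.Main

set_option autoImplicit false
universe u
open CategoryTheory MonoidalCategory CartesianMonoidalCategory MonObj GrpObj AlgebraicGeometry
open Polynomial
open BddFin

namespace Groth.Agent.S15176

/-- Let K be a field such that K contains all roots of unity (for every n ≥ 1 the polynomial X^n − 1
splits into linear factors over K), and T a K-group scheme that is a 2-dimensional torus (it becomes
isomorphic, as a group scheme, to the split torus D(ℤ^2) = 𝔾_m^2 after some field extension L of K)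
and is anisotropic (no homomorphism 𝔾_m → T of K-group schemes is a monomorphism, i.e. T contains no
subtorus isomorphic to 𝔾_m); T(K) is the group of sections Spec K → T. Then torsion elements of T(K)
have order ≤ 6, and finite subgroups of T(K) have at most 36 elements. -/
theorem result
    (K : Type u) [Field K] (hK : ∀ n : ℕ, 0 < n → (X ^ n - 1 : K[X]).Splits)
    (T : Over (Spec (CommRingCat.of K))) [GrpObj T]
    (hT : ∃ (L : Type u) (_ : Field L) (_ : Algebra K L),
      Red.IsSplitTorusWith (Fin 2 → ℤ) (Red.bc (Spec.map (CommRingCat.ofHom (algebraMap K L))) T))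
    (haniso : ∀ i : Red.Gm (Spec (CommRingCat.of K)) ⟶ T, IsMonHom i → Mono i → False) :
    (∀ x : 𝟙_ (Over (Spec (CommRingCat.of K))) ⟶ T, IsOfFinOrder x → orderOf x ≤ 6) ∧
    (∀ G : Subgroup (𝟙_ (Over (Spec (CommRingCat.of K))) ⟶ T), Finite G → Nat.card G ≤ 36) := by
  obtain ⟨L, _, _, H, Φ, hfin, hinj, hmono, hinv⟩ := AnisoTorus21.exists_data hT
  have hnf : AnisoTorus21.NoFixed H := by
    by_contra hc
    obtain ⟨i, h1, h2⟩ := hmono hc
    exact haniso i h1 h2
  haveI := hfin
  obtain ⟨k, hk1, hk4, hpow⟩ : ∃ k : ℕ, 1 ≤ k ∧ k ≤ 4 ∧ ∀ (N : ℕ) (x : 𝟙_ (Over (Spec (CommRingCat.of K))) ⟶ T),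
      0 < N → x ^ N = 1 → ∀ m : Fin 2 → ℤ, Φ x (Multiplicative.ofAdd m) ^ k = 1 := by
    rcases AnisoTorus21.exists_bound_two H with h2 | ⟨h, hh, k, hk1, hk4, hk⟩
    · exact ⟨Nat.card H, Nat.card_pos, by omega, fun N x hN hx => AnisoTorus21.pow_card_eq_one H hnf (Φ x)
        (hinv N x (AnisoTorus21.range_of_splits hN (hK N hN)) hx)⟩
    · exact ⟨k, hk1, hk4, fun N x hN hx => AnisoTorus21.pow_det_eq_one h hk (Φ x)
        (hinv N x (AnisoTorus21.range_of_splits hN (hK N hN)) hx h hh)⟩
  refine ⟨fun x hx => ?_, fun G hG => ?_⟩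
  · have h1 := Nat.le_of_dvd hk1 (AnisoTorus21.orderOf_dvd_of_pow Φ hinj x _
      (hpow _ x hx.orderOf_pos (pow_orderOf_eq_one x)))
    omega
  · have h1 := AnisoTorus21.card_le_pow hk1 (Φ.comp G.subtype) (hinj.comp Subtype.val_injective) fun a m =>
      hpow (Nat.card G) a Nat.card_pos (by rw [← SubmonoidClass.coe_pow, pow_card_eq_one']; rfl) m
    have h2 : k ^ 2 ≤ 4 ^ 2 := Nat.pow_le_pow_left hk4 2
    omega

end Groth.Agent.S15176
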