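import Groth.Statements.S15177
import Groth.Agent.Lib.HopfAG.Unip

set_option autoImplicit false
universe u v
open BddFin

namespace Groth.Agent.S15177

theorem key {K : Type u} [Field K] {A : Type v} [CommRing A] [HopfAlgebra K A]
    (g : WithConv (A →ₐ[K] K)) (hg : IsOfFinOrder g) (hcop : ((orderOf g : ℕ) : K) ≠ 0) :
    ∀ n, ∀ a ∈ GrothLib.Unip.soc K A A n, ∀ j : ℕ, (g ^ j).ofConv a = Coalgebra.counit (R := K) a := by
  intro n
  induction n with
  | zero =>
    intro a ha j
    rw [GrothLib.Unip.soc_zero, Submodule.mem_bot] at ha
    simp [ha]
  | succ n ih =>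
    intro a ha
    have hb := GrothLib.Unip.act_sub_one_mem g.ofConv (GrothLib.Unip.soc_succ (k := K) (A := A) (V := A) n ▸ ha)
    have hstep : ∀ (j : ℕ) (c : A), (g ^ (j + 1)).ofConv c =
        (g ^ j).ofConv (HopfRep.Comod.act K A A g.ofConv c) := fun j c => by
      rw [pow_succ, AlgHom.convMul_def]
      show _ = (g ^ j).ofConv (TensorProduct.rid K A (g.ofConv.toLinearMap.lTensor A (CoalgebraStruct.comul (R := K) c)))
      simp only [WithConv.ofConv_toConv, AlgHom.comp_apply]
      show Algebra.TensorProduct.lmul' K (Algebra.TensorProduct.map (g ^ j).ofConv g.ofConv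
        (CoalgebraStruct.comul (R := K) c)) = _
      induction CoalgebraStruct.comul (R := K) c using TensorProduct.induction_on with
      | zero => simp
      | add p q hp hq => simp only [map_add, hp, hq]
      | tmul p q => simp [mul_comm]
    have hall : ∀ j : ℕ, (g ^ j).ofConv a = Coalgebra.counit (R := K) a +
        (j : K) * Coalgebra.counit (R := K) (HopfRep.Comod.act K A A g.ofConv a - a) := by
      intro j
      induction j with
      | zero => simp [AlgHom.convOne_def]
      | succ j ihj =>
        rw [hstep, ← sub_add_cancel (HopfRep.Comod.act K A A g.ofConv a) a, map_add, ihj,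
          ih _ hb j, sub_add_cancel]
        push_cast
        ring
    have h0 : Coalgebra.counit (R := K) (HopfRep.Comod.act K A A g.ofConv a - a) = 0 := by
      have h := hall (orderOf g)
      rw [pow_orderOf_eq_one] at h
      have h1 : (1 : WithConv (A →ₐ[K] K)).ofConv a = Coalgebra.counit (R := K) a := by
        simp [AlgHom.convOne_def]
      rw [h1, left_eq_add] at h
      exact (mul_eq_zero.mp h).resolve_left hcop
    intro j
    rw [hall, h0, mul_zero, add_zero]

/-- Let K be a field and Γ a unipotent linear algebraic group over K, given here by its coordinate Hopf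
algebra A (a finitely generated, formally smooth commutative Hopf algebra over K all of whose
non-zero finite-dimensional comodules have a non-zero fixed vector). Then the group Γ(K) of K-points
(K-algebra maps A → K under convolution) has no non-trivial element of finite order coprime to the
characteristic of K: an element of finite order whose order is non-zero in K is the identity. -/
theorem result
    (K : Type u) [Field K] (A : Type v) [CommRing A] [HopfAlgebra K A] [Algebra.FiniteType K A]
    [Algebra.FormallySmooth K A] (hU : HopfRep.IsUnipotent K A)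
    (g : WithConv (A →ₐ[K] K)) (hg : IsOfFinOrder g) (hcop : ((orderOf g : ℕ) : K) ≠ 0) : g = 1 := by
  refine WithConv.ofConv_injective (AlgHom.ext fun a => ?_)
  obtain ⟨n, hn⟩ := GrothLib.Unip.exists_mem_soc hU a
  have h := key g hg hcop n a hn
  rw [show g = g ^ 1 from (pow_one g).symm, h 1]
  exact ((h 0).symm.trans (by rw [pow_zero]))

end Groth.Agent.S15177
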