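import Groth.Statements.S15180
import Groth.Agent.Lib.FiniteSub21.Line
set_option backward.isDefEq.respectTransparency false

set_option autoImplicit false
universe u
open CategoryTheory MonoidalCategory CartesianMonoidalCategory MonObj GrpObj AlgebraicGeometry
open BddFin

namespace Groth.Agent.S15180

open AlgebraicGeometry CategoryTheory CategoryTheory.Limits MonoidalCategory CartesianMonoidalCategory MonObj in
theorem transport {K : Type u} [Field K] {G G₀ H : Over (Spec (CommRingCat.of K))} [GrpObj G] [GrpObj G₀]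
    [GrpObj H] (e : Grp.mk G ≅ Grp.mk G₀) (i : H ⟶ G) [IsMonHom i] [Mono i]
    (h : ∀ (j : H ⟶ G₀) [IsMonHom j] [Mono j], ∃ φ : G₀ ⟶ G₀, IsMonHom φ ∧ AlgGrp.IsKernel j φ ∧
      Flat φ.left ∧ Surjective φ.left) :
    ∃ φ : G ⟶ G, IsMonHom φ ∧ AlgGrp.IsKernel i φ ∧ Flat φ.left ∧ Surjective φ.left := by
  let ε : G ≅ G₀ := (Grp.forget _).mapIso e
  haveI : IsMonHom ε.hom := e.hom.hom.isMonHom_hom
  haveI : IsMonHom ε.inv := e.inv.hom.isMonHom_hom
  obtain ⟨φ, hφ, hker, hflat, hsurj⟩ := h (i ≫ ε.hom)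
  refine ⟨ε.hom ≫ φ ≫ ε.inv, inferInstance, ?_, ?_, ?_⟩
  · exact IsPullback.of_iso hker (Iso.refl _) ε.symm (Iso.refl _) ε.symm (by simp) (by simp)
      (by simp) (by simp [IsMonHom.one_hom ε.inv])
  all_goals
    haveI : IsIso ε.hom.left := inferInstanceAs (IsIso ((Over.forget _).map ε.hom))
    haveI : IsIso ε.inv.left := inferInstanceAs (IsIso ((Over.forget _).map ε.inv))
    simp only [Over.comp_left]
    infer_instance

/-- Let K be an arbitrary field, G a K-group scheme isomorphic (as a group scheme) to 𝔾_a (additive) or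
to 𝔾_m (multiplicative), and H a finite subgroup scheme of G (a monomorphic homomorphism H → G with
H finite over K). Then the quotient G/H is isomorphic to G; equivalently, there is a homomorphism of
K-group schemes G → G which is flat and surjective and whose kernel is H. -/
theorem result
    (K : Type u) [Field K] (G H : Over (Spec (CommRingCat.of K))) [GrpObj G] [GrpObj H]
    (hG : Nonempty (Grp.mk G ≅ Grp.mk (Red.Ga (Spec (CommRingCat.of K)))) ∨
      Nonempty (Grp.mk G ≅ Grp.mk (Red.Gm (Spec (CommRingCat.of K)))))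
    (i : H ⟶ G) [IsMonHom i] [Mono i] [IsFinite H.hom] :
    ∃ φ : G ⟶ G, IsMonHom φ ∧ AlgGrp.IsKernel i φ ∧ Flat φ.left ∧ Surjective φ.left := by
  rcases hG with ⟨⟨e⟩⟩ | ⟨⟨e⟩⟩
  · exact transport e i fun j _ _ => GrothLib.FiniteSub21.exists_endo_Ga j
  · exact transport e i fun j _ _ => GrothLib.FiniteSub21.exists_endo_Gm j

end Groth.Agent.S15180
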