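import Groth.Statements.S15182
import Groth.Agent.GaTrace21.Main

set_option autoImplicit false
universe u
open CategoryTheory MonoidalCategory CartesianMonoidalCategory MonObj GrpObj AlgebraicGeometry
open BddFin

namespace Groth.Agent.S15182

/-- Let K be a perfect field, Γ a connected linear algebraic group over K (affine, smooth, connected, of
finite type) which is not reductive, and X an integral separated K-scheme of finite type with a
faithful action of Γ (a point of Γ with values in a K-scheme T acting trivially on all points of X
over T is the identity). Then X is birational over K to ℙ¹ × Y for some K-variety Y: there are an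
integral K-scheme Y locally of finite type, a non-empty open subscheme U of X and an open subscheme
V of the affine line over Y, with U and V isomorphic over K. -/
theorem result
    (K : Type u) [Field K] [PerfectField K] (Γ X : Over (Spec (CommRingCat.of K))) [GrpObj Γ]
    [IsAffine Γ.left] [Smooth Γ.hom] [ConnectedSpace Γ.left] [LocallyOfFiniteType Γ.hom]
    (hnr : ¬ Red.IsReductive Γ)
    [IsIntegral X.left] [LocallyOfFiniteType X.hom] [QuasiCompact X.hom] [IsSeparated X.hom]
    (a : AlgGrp.Action Γ X)
    (hfaith : ∀ (T : Over (Spec (CommRingCat.of K))) (g : T ⟶ Γ),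
      (∀ (T' : Over (Spec (CommRingCat.of K))) (f : T' ⟶ T) (x : T' ⟶ X), lift (f ≫ g) x ≫ a.act = x) → g = 1) :
    ∃ (Y : Over (Spec (CommRingCat.of K))) (_ : IsIntegral Y.left) (_ : LocallyOfFiniteType Y.hom)
      (U : X.left.Opens) (V : (𝔸(ULift.{u} (Fin 1); Y.left)).Opens), (U : Set X.left).Nonempty ∧
      Nonempty (Over.mk (U.ι ≫ X.hom) ≅
        Over.mk (V.ι ≫ (𝔸(ULift.{u} (Fin 1); Y.left) ↘ Y.left) ≫ Y.hom)) := by
  exact GrothLib.GaTrace21.exists_ruling_of_not_reductive Γ X hnr a hfaith

end Groth.Agent.S15182
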