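import Groth.Statements.S15183
import Groth.Agent.Lib.CSAExtra.Basic
import Mathlib.RingTheory.Polynomial.Cyclotomic.Roots

set_option autoImplicit false
universe u v
open Polynomial
open BddFin

namespace Groth.Agent.S15183

/-- Let K be a field such that K contains all roots of unity (for every n ≥ 1 the polynomial X^n − 1
splits into linear factors over K), and A a finite-dimensional central simple K-algebra which is not
a division algebra (some non-zero element is not a unit). Then the quotient of the unit group of A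
by that of K has elements of every finite order invertible in K: for every d ≥ 1 with d ≠ 0 in K
there is a unit x of A with x ^ d in K and x ^ k not in K for 0 < k < d. (The published assertion is
phrased for the automorphism group of the Severi–Brauer variety of A, which is isomorphic to the
units of A modulo those of K; this row is the algebra-side statement its proof establishes.) -/
theorem result
    (K : Type u) [Field K] (hK : ∀ n : ℕ, 0 < n → (X ^ n - 1 : K[X]).Splits)
    (A : Type v) [Ring A] [Algebra K A] [Algebra.IsCentral K A] [IsSimpleRing A] [FiniteDimensional K A]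
    (hA : ∃ y : A, y ≠ 0 ∧ ¬ IsUnit y) (d : ℕ) (hd : 0 < d) (hdK : (d : K) ≠ 0) :
    ∃ x : A, IsUnit x ∧ x ^ d ∈ (algebraMap K A).range ∧
      ∀ k : ℕ, 0 < k → k < d → x ^ k ∉ (algebraMap K A).range := by
  classical
  obtain ⟨r, hr, D, _, _, hDc, hDf, ⟨e⟩⟩ := GrothLib.CSAExtra.exists_matrix_centralDivisionRing (k := K) A
  have h1 : 2 ≤ r := by
    by_contra h
    have hr1 : r = 1 := by have := NeZero.ne r; omega
    subst hr1
    obtain ⟨y, hy0, hy⟩ := hA
    refine hy ((MulEquiv.isUnit_map e).mp ?_)
    have hy00 : e y 0 0 ≠ 0 := fun h0 => hy0 (e.injective (by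
      ext i j; fin_cases i; fin_cases j; simpa using h0))
    refine ⟨⟨e y, Matrix.of fun _ _ => (e y 0 0)⁻¹, ?_, ?_⟩, rfl⟩ <;>
      (ext i j; fin_cases i; fin_cases j; simp [Matrix.mul_apply, hy00])
  have : NeZero ((d : ℕ) : K) := ⟨hdK⟩
  have hne : (X ^ d - 1 : K[X]) ≠ 0 := by simpa using Polynomial.X_pow_sub_C_ne_zero hd (1 : K)
  obtain ⟨ζ, hζ'⟩ := ((hK d hd).of_dvd hne (Polynomial.cyclotomic.dvd_X_pow_sub_one d K)).exists_eval_eq_zero
    (by rw [Polynomial.degree_cyclotomic]; exact_mod_cast (Nat.totient_pos.mpr hd).ne')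
  have hζ : IsPrimitiveRoot ζ d := Polynomial.isRoot_cyclotomic_iff.mp hζ'
  let v : Fin r → K := fun i => if i = ⟨0, by omega⟩ then ζ else 1
  let x := e.symm (Matrix.diagonal fun i => algebraMap K D (v i))
  have hpow : ∀ k : ℕ, e (x ^ k) = Matrix.diagonal fun i => algebraMap K D (v i ^ k) := fun k => by
    rw [map_pow, e.apply_symm_apply, Matrix.diagonal_pow]
    simp [Pi.pow_def]
  have hxd : x ^ d = 1 := e.injective (by
    rw [hpow, map_one, ← Matrix.diagonal_one]
    congr 1
    funext i
    simp only [v]
    split_ifs <;> simp [hζ.pow_eq_one])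
  refine ⟨x, IsUnit.of_pow_eq_one hxd hd.ne', ⟨1, by rw [map_one, hxd]⟩, fun k hk hkd => ?_⟩
  rintro ⟨c, hc⟩
  have h2 := congrArg e hc
  rw [e.commutes, hpow, Matrix.algebraMap_eq_diagonal] at h2
  have h3 := congrFun (Matrix.diagonal_injective h2) ⟨0, by omega⟩
  have h4 := congrFun (Matrix.diagonal_injective h2) ⟨1, by omega⟩
  simp only [v, Pi.algebraMap_apply, if_true, if_neg (show (⟨1, by omega⟩ : Fin r) ≠ ⟨0, by omega⟩ by simp [Fin.ext_iff])] at h3 h4
  rw [one_pow] at h4
  exact hζ.pow_ne_one_of_pos_of_lt hk.ne' hkd ((algebraMap K D).injective (h3.symm.trans h4))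

end Groth.Agent.S15183
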