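import Groth.Statements.S15184
import Groth.Agent.Lib.BddFinDiv.DivAlg
import Mathlib.Tactic.LinearCombination

set_option autoImplicit false
universe u v
open BddFin

namespace Groth.Agent.S15184

open GrothLib

section
variable {K : Type u} [Field K] {A : Type v} [DivisionRing A] [Algebra K A]

theorem quad {a b : A} {c₁ c₀ : K} (ha : a ^ 2 + c₁ • a + c₀ • (1 : A) = 0)
    (hb : b ^ 2 + c₁ • b + c₀ • (1 : A) = 0) :
    (b - a) * b = (-(c₁ • (1 : A)) - a) * (b - a) := by
  rw [← sub_eq_zero]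
  calc (b - a) * b - (-(c₁ • (1 : A)) - a) * (b - a)
      = (b ^ 2 + c₁ • b + c₀ • (1 : A)) - (a ^ 2 + c₁ • a + c₀ • (1 : A)) := by
        simp only [sub_mul, mul_sub, neg_mul, smul_mul_assoc, one_mul, pow_two, mul_neg]
        abel
    _ = 0 := by rw [ha, hb, sub_zero]

theorem cubic_root {a b : A} {c₂ c₁ c₀ : K}
    (ha : a ^ 3 + c₂ • a ^ 2 + c₁ • a + c₀ • (1 : A) = 0)
    (hb : b ^ 3 + c₂ • b ^ 2 + c₁ • b + c₀ • (1 : A) = 0) (r : A)
    (hr : r * (b - a) = (b - a) * b) :
    (r ^ 2 + (a + c₂ • (1 : A)) * r + (a ^ 2 + c₂ • a + c₁ • (1 : A))) * (b - a) = 0 := by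
  have hr2 : r ^ 2 * (b - a) = (b - a) * b ^ 2 := by
    rw [pow_two, mul_assoc, hr, ← mul_assoc, hr, mul_assoc, pow_two]
  rw [add_mul, add_mul, hr2, mul_assoc, hr]
  calc _ = (b ^ 3 + c₂ • b ^ 2 + c₁ • b + c₀ • (1 : A)) -
        (a ^ 3 + c₂ • a ^ 2 + c₁ • a + c₀ • (1 : A)) := by
        simp only [sub_mul, mul_sub, add_mul, smul_mul_assoc, one_mul, mul_one, pow_two, pow_three,
          mul_assoc, mul_smul_comm, smul_sub]
        abel
    _ = 0 := by rw [ha, hb, sub_zero]

theorem wedderburn {a r : A} {c₂ c₁ c₀ : K}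
    (ha : a ^ 3 + c₂ • a ^ 2 + c₁ • a + c₀ • (1 : A) = 0)
    (hr : r ^ 3 + c₂ • r ^ 2 + c₁ • r + c₀ • (1 : A) = 0)
    (hE : r ^ 2 + (a + c₂ • (1 : A)) * r + (a ^ 2 + c₂ • a + c₁ • (1 : A)) = 0) :
    (a * r - r * a) * a = r * (a * r - r * a) ∧
      (a * r - r * a) * r = (-(c₂ • (1 : A)) - a - r) * (a * r - r * a) := by
  have h1 : (r ^ 2 + (a + c₂ • (1 : A)) * r + (a ^ 2 + c₂ • a + c₁ • (1 : A))) * a = 0 := by
    rw [hE, zero_mul]
  have h2 : r * (r ^ 2 + (a + c₂ • (1 : A)) * r + (a ^ 2 + c₂ • a + c₁ • (1 : A))) = 0 := by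
    rw [hE, mul_zero]
  have h3 : a * (r ^ 2 + (a + c₂ • (1 : A)) * r + (a ^ 2 + c₂ • a + c₁ • (1 : A))) = 0 := by
    rw [hE, mul_zero]
  constructor <;> rw [← sub_eq_zero]
  · calc _ = ((r ^ 2 + (a + c₂ • (1 : A)) * r + (a ^ 2 + c₂ • a + c₁ • (1 : A))) * a -
            (a ^ 3 + c₂ • a ^ 2 + c₁ • a + c₀ • (1 : A))) -
          (r * (r ^ 2 + (a + c₂ • (1 : A)) * r + (a ^ 2 + c₂ • a + c₁ • (1 : A))) -
            (r ^ 3 + c₂ • r ^ 2 + c₁ • r + c₀ • (1 : A))) := by
          simp only [sub_mul, mul_sub, add_mul, mul_add, smul_mul_assoc, one_mul, mul_one, pow_two,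
            pow_three, mul_assoc, mul_smul_comm, smul_sub, smul_add]
          abel
      _ = 0 := by rw [h1, h2, ha, hr]; simp
  · calc _ = (a * (r ^ 2 + (a + c₂ • (1 : A)) * r + (a ^ 2 + c₂ • a + c₁ • (1 : A))) -
            (a ^ 3 + c₂ • a ^ 2 + c₁ • a + c₀ • (1 : A))) -
          ((r ^ 2 + (a + c₂ • (1 : A)) * r + (a ^ 2 + c₂ • a + c₁ • (1 : A))) * a -
            (a ^ 3 + c₂ • a ^ 2 + c₁ • a + c₀ • (1 : A))) := by
          simp only [sub_mul, mul_sub, add_mul, mul_add, smul_mul_assoc, one_mul, mul_one, pow_two,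
            pow_three, mul_assoc, mul_smul_comm, smul_sub, smul_add, neg_mul]
          abel
      _ = 0 := by rw [h1, h3]; simp

end

/-- Let K be a field with char K = p > 0 and A a central division K-algebra with dim_K A = p ^ 2. If p =
2 or p = 3, then some element of A is not separable over K. -/
theorem result
    (K : Type u) [Field K] (p : ℕ) [Fact p.Prime] [CharP K p]
    (A : Type v) [DivisionRing A] [Algebra K A] [Algebra.IsCentral K A] [FiniteDimensional K A]
    (hA : Module.finrank K A = p ^ 2) (hp : p = 2 ∨ p = 3) :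
    ∃ v : A, ¬ IsSeparable K v := by
  have h23 := hp
  clear hp
  have hp : p.Prime := Fact.out
  obtain ⟨a, haK⟩ : ∃ a : A, a ∉ (algebraMap K A).range := by
    by_contra hcon
    push Not at hcon
    have hbot : (⊥ : Subalgebra K A) = ⊤ := eq_top_iff.2 fun x _ => by
      obtain ⟨c, hc⟩ := hcon x; exact ⟨c, hc⟩
    rw [Subalgebra.bot_eq_top_iff_finrank_eq_one, hA] at hbot
    exact (Nat.one_lt_pow two_ne_zero hp.one_lt).ne' hbot
  by_contra hall
  push Not at hall
  have hsep : IsSeparable K a := hall a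
  have hint : IsIntegral K a := Algebra.IsIntegral.isIntegral a
  obtain ⟨hdim, -⟩ := BddFinDiv.finrank_adjoin_eq hp hA haK
  have hdeg : (minpoly K a).natDegree = p :=
    (BddFinDiv.finrank_adjoin_eq_natDegree _).symm.trans hdim
  have hsum := minpoly.aeval K a
  rw [Polynomial.aeval_eq_sum_range, hdeg] at hsum
  have hlead : (minpoly K a).coeff p = 1 := hdeg ▸ (minpoly.monic hint).coeff_natDegree
  have hnp : a ^ p ∉ (algebraMap K A).range := fun h =>
    BddFinDiv.not_isSeparable_of_pow_mem h haK hsep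
  have hp0 : ∀ x : A, (p : K) • x = 0 := fun x => by rw [CharP.cast_eq_zero, zero_smul]
  obtain ⟨w, hw⟩ : ∃ w, a * w ≠ w * a := by
    by_contra hcon
    push Not at hcon
    exact haK (BddFinDiv.mem_range_of_commute_all fun y => (hcon y).symm)
  have hw0 : w ≠ 0 := fun h => hw (by simp [h])
  set a' := w * a * w⁻¹ with ha'
  have hne : a' - a ≠ 0 := fun h => hw (by
    rw [sub_eq_zero, ha', mul_inv_eq_iff_eq_mul₀ hw0] at h
    exact h.symm)
  have hconjpow : ∀ (y : A), y ≠ 0 → ∀ m : ℕ, (y * a * y⁻¹) ^ m = y * a ^ m * y⁻¹ := fun y hy m => by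
    induction m with
    | zero => simp [hy]
    | succ m ih => rw [pow_succ, ih, pow_succ]; simp [mul_assoc, hy]
  have hroot : ∀ y : A, y ≠ 0 →
      ∑ i ∈ Finset.range (p + 1), (minpoly K a).coeff i • (y * a * y⁻¹) ^ i = 0 := fun y hy => by
    rw [Finset.sum_congr rfl fun i _ => show (minpoly K a).coeff i • (y * a * y⁻¹) ^ i =
        y * ((minpoly K a).coeff i • a ^ i) * y⁻¹ by
      rw [hconjpow y hy, mul_smul_comm, smul_mul_assoc]]
    rw [← Finset.sum_mul, ← Finset.mul_sum, hsum, mul_zero, zero_mul]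
  set r := (a' - a) * a' * (a' - a)⁻¹ with hrdef
  have hry : r = ((a' - a) * w) * a * ((a' - a) * w)⁻¹ := by
    rw [hrdef, ha', mul_inv_rev]; simp only [mul_assoc]
  have hr : r * (a' - a) = (a' - a) * a' := by rw [hrdef, inv_mul_cancel_right₀ hne]
  have hy0 : (a' - a) * w ≠ 0 := mul_ne_zero hne hw0
  have fin : r ∈ Algebra.adjoin K {a} → r ≠ a → False := fun h1 h2 => by
    obtain ⟨hy1, hy2, -⟩ :=
      BddFinDiv.pow_mem_of_normalize hp hA haK hy0 (hry ▸ h1) (hry ▸ h2)
    exact BddFinDiv.not_isSeparable_of_pow_mem hy1 hy2 (hall _)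
  have ha2 := hroot w hw0
  have hr2 := hroot _ hy0
  rw [← hry] at hr2
  rw [← ha'] at ha2
  rcases h23 with rfl | rfl
  · simp only [Finset.sum_range_succ, Finset.sum_range_zero, zero_add, hlead, one_smul,
      pow_zero, pow_one] at hsum ha2
    have hq : (minpoly K a).coeff 1 • (1 : A) ∈ Algebra.adjoin K {a} :=
      Subalgebra.smul_mem _ (Subalgebra.one_mem _) _
    have h1 := quad (a := a) (b := a') (c₁ := (minpoly K a).coeff 1) (c₀ := (minpoly K a).coeff 0)
      (by rw [← hsum]; abel) (by rw [← ha2]; abel)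
    have hr' : r = -((minpoly K a).coeff 1 • (1 : A)) - a := by
      rw [hrdef, h1, mul_inv_cancel_right₀ hne]
    refine fin (hr' ▸ Subalgebra.sub_mem _ (neg_mem hq) (Algebra.self_mem_adjoin_singleton K a))
      fun he => ?_
    rw [hr'] at he
    have h2 : (minpoly K a).coeff 1 • (1 : A) = 0 := by
      have h3 : (minpoly K a).coeff 1 • (1 : A) + (2 : K) • a = 0 := by
        rw [two_smul]
        linear_combination (norm := abel) -he
      rwa [show (2 : K) = ((2 : ℕ) : K) from Nat.cast_ofNat.symm, hp0, add_zero] at h3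
    have h4 : (minpoly K a).coeff 1 = 0 := by simpa using h2
    refine hnp ⟨-(minpoly K a).coeff 0, ?_⟩
    rw [h4, zero_smul, add_zero] at hsum
    rw [map_neg, Algebra.algebraMap_eq_smul_one, neg_eq_iff_add_eq_zero, hsum]
  · simp only [Finset.sum_range_succ, Finset.sum_range_zero, zero_add, hlead, one_smul,
      pow_zero, pow_one] at hsum ha2 hr2
    set c₀ := (minpoly K a).coeff 0
    set c₁ := (minpoly K a).coeff 1
    set c₂ := (minpoly K a).coeff 2
    have hfa : a ^ 3 + c₂ • a ^ 2 + c₁ • a + c₀ • (1 : A) = 0 := by rw [← hsum]; abel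
    have hfa' : a' ^ 3 + c₂ • a' ^ 2 + c₁ • a' + c₀ • (1 : A) = 0 := by rw [← ha2]; abel
    have hfr : r ^ 3 + c₂ • r ^ 2 + c₁ • r + c₀ • (1 : A) = 0 := by rw [← hr2]; abel
    have hE := (mul_eq_zero.1 (cubic_root hfa hfa' r hr)).resolve_right hne
    obtain ⟨hza, hzr⟩ := wedderburn hfa hfr hE
    set z := a * r - r * a with hz
    have hra : r ≠ a := by
      intro he
      rw [he] at hE
      have h3 : (2 * c₂) • a + c₁ • (1 : A) = 0 := by
        have h4 : ((3 : ℕ) : K) • a ^ 2 + ((2 * c₂) • a + c₁ • (1 : A)) = 0 := by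
          rw [← hE, show ((3 : ℕ) : K) = 1 + 1 + 1 by norm_num, add_smul, add_smul, one_smul,
            two_mul, add_smul, add_mul, smul_mul_assoc, one_mul, pow_two]
          abel
        rwa [hp0, zero_add] at h4
      have h2K : (2 : K) ≠ 0 := fun h => by
        have := (CharP.cast_eq_zero_iff K 3 2).1 (by exact_mod_cast h)
        norm_num at this
      have hc2 : c₂ = 0 := by
        by_contra hc2
        refine haK ⟨-((2 * c₂)⁻¹ * c₁), ?_⟩
        have h5 := congr_arg ((2 * c₂)⁻¹ • ·) h3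
        simp only [smul_add, smul_smul, inv_mul_cancel₀ (mul_ne_zero h2K hc2), one_smul,
          smul_zero] at h5
        rw [map_neg, Algebra.algebraMap_eq_smul_one, neg_eq_iff_add_eq_zero, add_comm]
        exact h5
      rw [hc2, mul_zero, zero_smul, zero_add, smul_eq_zero] at h3
      refine hnp ⟨-c₀, ?_⟩
      rw [hc2, h3.resolve_right one_ne_zero, zero_smul, zero_smul, add_zero, add_zero] at hfa
      rw [map_neg, Algebra.algebraMap_eq_smul_one, neg_eq_iff_add_eq_zero, add_comm]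
      exact hfa
    by_cases hz0 : z = 0
    · exact fin (BddFinDiv.mem_adjoin_of_commute hp hA haK (sub_eq_zero.1 hz0).symm) hra
    set a₃ := -(c₂ • (1 : A)) - a - r with ha₃
    have hz3 : z * a₃ = a * z := by
      rw [ha₃, mul_sub, mul_sub, hza, hzr, ha₃]
      simp only [sub_mul, neg_mul, mul_neg, smul_mul_assoc, mul_smul_comm, one_mul, mul_one]
      abel
    have hzK : z ∉ (algebraMap K A).range := by
      rintro ⟨c, hc⟩
      refine hra (mul_right_cancel₀ hz0 ?_)
      rw [← hza, ← hc, Algebra.commutes]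
    have hzz : ∀ x y : A, z * x = y * z → ∀ q, z * (x * q) = y * (z * q) := fun x y h q => by
      rw [← mul_assoc, h, mul_assoc]
    have hca : Commute (z ^ 3) a := by
      show z ^ 3 * a = a * z ^ 3
      rw [pow_three]
      simp only [mul_assoc]
      rw [hza, hzz _ _ hzr, hzz _ _ hz3]
    have hcr : Commute (z ^ 3) r := by
      show z ^ 3 * r = r * z ^ 3
      rw [pow_three]
      simp only [mul_assoc]
      rw [hzr, hzz _ _ hz3, hzz _ _ hza]
    have hmem := BddFinDiv.mem_range_of_commute₂ hp hA (a := a) (b := r)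
      (fun h => hz0 (sub_eq_zero.2 h.eq)) hca hcr
    exact BddFinDiv.not_isSeparable_of_pow_mem hmem hzK (hall z)

end Groth.Agent.S15184
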