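import Groth.Statements.S15185
import Groth.Agent.Lib.BddFinDiv.RootsOfUnity

set_option autoImplicit false
universe u v
open Polynomial
open BddFin

namespace Groth.Agent.S15185

open GrothLib

/-- Let K be a field of characteristic p > 0 such that K contains all roots of unity (for every n ≥ 1
the polynomial X^n − 1 splits into linear factors over K), A a central division algebra of dimension
n ^ 2 over K, and write n = n' · p ^ m with n' prime to p; let N be the reduced norm of A. Consider
the kernel of the homomorphism from the units of A modulo those of K to Kˣ/(Kˣ)^(p^m) induced by N.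
Every element of finite order of that kernel has order dividing n': if x ≠ 0 in A has x ^ r in K for
some r ≥ 1 and N x is a (p ^ m)-th power of a non-zero element of K, then x ^ n' lies in K. -/
theorem result
    (K : Type u) [Field K] (p : ℕ) [Fact p.Prime] [CharP K p] (hK : ∀ n : ℕ, 0 < n → (X ^ n - 1 : K[X]).Splits)
    (A : Type v) [DivisionRing A] [Algebra K A] [Algebra.IsCentral K A] [FiniteDimensional K A]
    (n n' m : ℕ) (hA : Module.finrank K A = n ^ 2) (hn : n = n' * p ^ m) (hn' : ¬ p ∣ n')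
    (N : A →* K) (hN : CSAGal.IsRedNorm K A N)
    (x : A) (hx : x ≠ 0) (hxr : ∃ r : ℕ, 0 < r ∧ x ^ r ∈ (algebraMap K A).range)
    (hNx : ∃ b : K, b ≠ 0 ∧ N x = b ^ (p ^ m)) :
    x ^ n' ∈ (algebraMap K A).range := by
  have hp : p.Prime := Fact.out
  obtain ⟨c, hc⟩ := BddFinDiv.pow_mem_of_division hK n hA x hxr
  obtain ⟨b, hb, hNb⟩ := hNx
  obtain ⟨g⟩ := RedNorm.exists_rep (L := AlgebraicClosure K) hA
  have hn0 : 0 < n := RedNorm.degree_pos hA
  have hNc : (b ^ p ^ m) ^ n = c ^ n := by
    rw [← hNb, ← map_pow, ← hc]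
    apply (algebraMap K (AlgebraicClosure K)).injective
    rw [RedNorm.redNorm_eq hA hN g, AlgHom.commutes, Matrix.algebraMap_eq_diagonal,
      Matrix.det_diagonal]
    simp
  have hc0 : c ≠ 0 := fun h => by
    rw [h, map_zero, eq_comm] at hc
    exact pow_ne_zero n hx hc
  set ζ := c / b ^ p ^ m with hζ
  have hζn : ζ ^ n' = 1 := by
    have h1 : ζ ^ n = 1 := by
      rw [hζ, div_pow, hNc, div_self (pow_ne_zero _ hc0)]
    rw [hn, pow_mul] at h1
    refine frobenius_inj K p |>.iterate m (?_)
    rwa [iterate_frobenius, iterate_frobenius, one_pow]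
  obtain ⟨η, hη⟩ : ∃ η : K, η ^ p ^ m = ζ := by
    have hcop : Nat.Coprime (p ^ m) n' := ((hp.coprime_iff_not_dvd).2 hn').pow_left m
    rcases eq_or_lt_of_le (show 1 ≤ n' from Nat.pos_of_ne_zero fun h => hn' (h ▸ dvd_zero p)) with h1 | h1
    · exact ⟨1, by rw [one_pow, ← hζn, ← h1, pow_one]⟩
    obtain ⟨e, -, he⟩ := Nat.exists_mul_mod_eq_one_of_coprime hcop h1
    refine ⟨ζ ^ e, ?_⟩
    rw [← pow_mul, mul_comm, ← Nat.div_add_mod (p ^ m * e) n', he, pow_add, pow_mul, hζn, one_pow,
      one_mul, pow_one]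
  refine ⟨η * b, ?_⟩
  have : CharP A p := charP_of_injective_algebraMap (algebraMap K A).injective p
  have h : (x ^ n' - algebraMap K A (η * b)) ^ p ^ m = 0 := by
    rw [sub_pow_char_pow_of_commute p m (Algebra.commute_algebraMap_right (η * b) (x ^ n')),
      ← pow_mul, ← hn, ← map_pow, ← hc, mul_pow, hη, hζ,
      div_mul_cancel₀ _ (pow_ne_zero _ hb), sub_self]
  exact (sub_eq_zero.1 (eq_zero_of_pow_eq_zero h)).symm

end Groth.Agent.S15185
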