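import Groth.Statements.S15189
import Groth.Agent.Lib.SBAut21.Aut
import Groth.Agent.Lib.RedNorm.Rat
import Groth.Agent.Lib.CSAExtra.Basic
import Groth.Agent.Lib.BddFinDiv.DivAlg
import Mathlib.LinearAlgebra.Matrix.Adjugate
import Mathlib.LinearAlgebra.Matrix.Trace
import Mathlib.GroupTheory.Finiteness
import Mathlib.GroupTheory.FiniteAbelian.Basic
import Mathlib.Tactic.LinearCombination

set_option autoImplicit false
universe u
open CategoryTheory CategoryTheory.Limits AlgebraicGeometry
open BddFin

namespace Groth.Agent.S15189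

open Module

theorem exists_trace_eq {k : Type u} [Field k] {A : Type u} [Ring A] [Algebra k A] [Algebra.IsCentral k A]
    [IsSimpleRing A] [FiniteDimensional k A] {n : ℕ} (hn : finrank k A = n ^ 2) {L : Type u} [Field L]
    [Algebra k L] [IsAlgClosed L] (g : A →ₐ[k] Matrix (Fin n) (Fin n) L) (a : A) :
    ∃ c : k, (g a).trace = algebraMap k L c := by
  obtain ⟨K, _, _, m, hm, ⟨e⟩⟩ := GrothLib.CSA.exists_galois_intermediate k A
  have h1 := e.toLinearEquiv.finrank_eq
  rw [Module.finrank_baseChange, hn, Module.finrank_matrix, Fintype.card_fin, Module.finrank_self,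
    mul_one, ← sq] at h1
  obtain rfl := Nat.pow_left_injective two_ne_zero h1
  let g₀ : A →ₐ[k] Matrix (Fin n) (Fin n) K :=
    (e.toAlgHom.restrictScalars k).comp Algebra.TensorProduct.includeRight
  have hfix : ∀ σ : K ≃ₐ[k] K, σ (g₀ a).trace = (g₀ a).trace := fun σ => by
    calc σ (g₀ a).trace = ((σ.toAlgHom.mapMatrix.comp g₀) a).trace := by simp [Matrix.trace, map_sum]
      _ = _ := GrothLib.RedNorm.trace_eq_of_reps hn _ g₀ a
  obtain ⟨c, hc⟩ := (IsGalois.mem_range_algebraMap_iff_fixed (F := k) (g₀ a).trace).2 hfix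
  refine ⟨c, ?_⟩
  let i : K →ₐ[k] L := IsAlgClosed.lift
  rw [GrothLib.RedNorm.trace_eq_of_reps hn g (i.mapMatrix.comp g₀) a]
  calc _ = i (g₀ a).trace := by simp [Matrix.trace, map_sum]
    _ = _ := by rw [← hc, i.commutes]

theorem sq_of_trace_zero {L : Type u} [CommRing L] (M : Matrix (Fin 2) (Fin 2) L) (h : M.trace = 0) :
    M ^ 2 = (-M.det) • (1 : Matrix (Fin 2) (Fin 2) L) := by
  rw [Matrix.trace_fin_two] at h
  have h1 : M 1 1 = - M 0 0 := by linear_combination h
  ext i j
  fin_cases i <;> fin_cases j <;>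
    simp [sq, Matrix.mul_apply, Fin.sum_univ_two, Matrix.det_fin_two, h1] <;> ring

theorem cube_of_trace_zero {L : Type u} [CommRing L] (M : Matrix (Fin 3) (Fin 3) L) (h : M.trace = 0)
    (h' : M.adjugate.trace = 0) : M ^ 3 = M.det • (1 : Matrix (Fin 3) (Fin 3) L) := by
  have key : M ^ 3 = M.det • (1 : Matrix (Fin 3) (Fin 3) L) + M.trace • M ^ 2 - M.adjugate.trace • M := by
    ext i j
    fin_cases i <;> fin_cases j <;>
      simp [pow_succ, Matrix.mul_apply, Fin.sum_univ_three, Matrix.det_fin_three, Matrix.trace_fin_three,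
        Matrix.adjugate_fin_three] <;> ring
  rw [key, h, h', zero_smul, zero_smul, add_zero, sub_zero]

theorem exists_mem_ker_not_mem {k V W : Type*} [Field k] [AddCommGroup V] [Module k V] [FiniteDimensional k V]
    [AddCommGroup W] [Module k W] [FiniteDimensional k W] (T : V →ₗ[k] W) (S : Submodule k V)
    (h : finrank k W + finrank k S < finrank k V) : ∃ v, T v = 0 ∧ v ∉ S := by
  by_contra! hc
  have h1 := T.finrank_range_add_finrank_ker
  have h2 := Submodule.finrank_mono (show LinearMap.ker T ≤ S from fun v hv => hc v hv)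
  have h3 := Submodule.finrank_le (LinearMap.range T)
  omega

theorem exists_pow_mem (k : Type u) [Field k] (p : ℕ) [Fact p.Prime] [CharP k p] (hp : p = 2 ∨ p = 3)
    (A : Type u) [Ring A] [Algebra k A] [Algebra.IsCentral k A] [IsSimpleRing A] [FiniteDimensional k A]
    (hA : finrank k A = p * p) :
    ∃ x : A, x ∉ (algebraMap k A).range ∧ x ^ p ∈ (algebraMap k A).range := by
  classical
  obtain ⟨r, hr, D, _, _, hDc, hDf, ⟨e⟩⟩ := GrothLib.CSAExtra.exists_matrix_centralDivisionRing (k := k) A
  by_cases h1 : 2 ≤ r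
  · refine ⟨e.symm (Matrix.single ⟨0, by omega⟩ ⟨1, by omega⟩ 1), ?_, 0, ?_⟩
    · rintro ⟨c, hc⟩
      have h2 := congrFun (congrFun (congrArg e hc) ⟨0, by omega⟩) ⟨1, by omega⟩
      rw [e.commutes, e.apply_symm_apply, Matrix.algebraMap_matrix_apply,
        if_neg (by simp [Fin.ext_iff]), Matrix.single_apply_same] at h2
      exact zero_ne_one h2
    · rw [map_zero, ← map_pow]
      refine (((map_eq_zero_iff e.symm e.symm.injective).mpr ?_)).symm
      refine pow_eq_zero_of_le (Nat.Prime.two_le Fact.out) ?_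
      rw [sq, Matrix.single_mul_single_of_ne]
      simp [Fin.ext_iff]
  have hr1 : r = 1 := by have := NeZero.ne r; omega
  subst hr1
  let e₁ : A ≃+* D := e.toRingEquiv.trans
    { toFun := fun M => M 0 0
      invFun := fun d => Matrix.of fun _ _ => d
      left_inv := fun M => by ext i j; fin_cases i; fin_cases j; rfl
      right_inv := fun d => rfl
      map_mul' := fun M N => by simp [Matrix.mul_apply]
      map_add' := fun M N => rfl }
  have hAdiv : ∀ a : A, a ≠ 0 → IsUnit a := fun a ha => by
    have h2 : IsUnit (e₁ a) := isUnit_iff_ne_zero.mpr (by simpa using ha)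
    simpa using h2.map e₁.symm
  have hA2 : finrank k A = p ^ 2 := by rw [hA, sq]
  let L := AlgebraicClosure k
  obtain ⟨g⟩ := GrothLib.RedNorm.exists_rep (L := L) (k := k) (A := A) hA2
  choose T hT using exists_trace_eq hA2 g
  have hinj : Function.Injective g := by
    have : Nonempty (Fin p) := ⟨⟨0, (Nat.Prime.pos Fact.out)⟩⟩
    exact g.toRingHom.injective
  let Tl : A →ₗ[k] k :=
    { toFun := T
      map_add' := fun a b => (algebraMap k L).injective (by
        rw [map_add, ← hT, ← hT, ← hT, map_add, Matrix.trace_add])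
      map_smul' := fun c a => (algebraMap k L).injective (by
        rw [RingHom.id_apply, smul_eq_mul, map_mul, ← hT, ← hT, map_smul, Matrix.trace_smul,
          Algebra.smul_def]) }
  have hTl : ∀ a, (g a).trace = algebraMap k L (Tl a) := hT
  have hscal : ∀ (x : A) (c : L), g (x ^ p) = c • 1 → (g x).det = c ∨ (g x).det = -c →
      x ^ p ∈ (algebraMap k A).range := fun x c hx hc => by
    obtain ⟨d, hd⟩ := GrothLib.RedNorm.exists_det_eq hA2 g x
    rcases hc with hc | hc
    · refine ⟨d, hinj ?_⟩
      rw [g.commutes, hx, ← hc, hd, Algebra.algebraMap_eq_smul_one, algebraMap_smul]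
    · refine ⟨-d, hinj ?_⟩
      rw [g.commutes, hx, show c = -(g x).det by rw [hc, neg_neg], hd, Algebra.algebraMap_eq_smul_one,
        ← map_neg, algebraMap_smul]
  rcases hp with rfl | rfl
  · obtain ⟨x, hx, hxk⟩ := exists_mem_ker_not_mem Tl (Submodule.span k {(1 : A)}) (by
      rw [hA, finrank_self]
      have := finrank_span_le_card (R := k) ({(1 : A)} : Set A)
      simp at this
      omega)
    refine ⟨x, fun ⟨c, hc⟩ => hxk (Submodule.mem_span_singleton.mpr
      ⟨c, by rw [← hc, Algebra.algebraMap_eq_smul_one]⟩), ?_⟩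
    refine hscal x (-(g x).det) ?_ (Or.inr (neg_neg _).symm)
    rw [map_pow, sq_of_trace_zero _ (by rw [hTl, hx, map_zero])]
  · -- degree three
    obtain ⟨a, ha⟩ : ∃ a : A, a ∉ (algebraMap k A).range := by
      by_contra! h
      have h2 : finrank k A ≤ 1 := finrank_le_one (1 : A) fun a => by
        obtain ⟨c, hc⟩ := h a
        exact ⟨c, by rw [← hc, Algebra.algebraMap_eq_smul_one]⟩
      omega
    letI : DivisionRing A := DivisionRing.ofIsUnitOrEqZero fun a =>
      (eq_or_ne a 0).symm.imp (hAdiv a) id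
    obtain ⟨hdim, -⟩ := GrothLib.BddFinDiv.finrank_adjoin_eq (K := k) (A := A) Nat.prime_three hA2 ha
    let S := Algebra.adjoin k ({a} : Set A)
    have hSinv : ∀ d ∈ S, d ≠ 0 → d⁻¹ ∈ S := fun d hd hd0 => by
      obtain ⟨d', hd'⟩ := (LinearMap.injective_iff_surjective (f := LinearMap.mulLeft k (⟨d, hd⟩ : S))).mp
        (fun u v huv => Subtype.ext (mul_left_cancel₀ hd0 (congrArg Subtype.val huv))) 1
      rw [inv_eq_of_mul_eq_one_right (congrArg Subtype.val hd' : d * (d' : A) = 1)]
      exact d'.2
    let b := Module.finBasis k S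
    obtain ⟨v, hv, hvS⟩ := exists_mem_ker_not_mem
      (LinearMap.pi fun i => Tl ∘ₗ LinearMap.mulLeft k (b i : A)) (Subalgebra.toSubmodule S) (by
        rw [hA, finrank_fintype_fun_eq_card, Fintype.card_fin, Subalgebra.finrank_toSubmodule, hdim]
        norm_num)
    have hvT : ∀ c ∈ S, Tl (c * v) = 0 := fun c hc => by
      have h2 : (c : A) = ∑ i, b.repr ⟨c, hc⟩ i • (b i : A) := by
        have := congrArg S.val (b.sum_repr ⟨c, hc⟩)
        rw [map_sum] at this
        simp only [map_smul] at this
        exact this.symm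
      rw [h2, Finset.sum_mul, map_sum]
      refine Finset.sum_eq_zero fun i _ => ?_
      rw [smul_mul_assoc, map_smul]
      rw [show Tl ((b i : A) * v) = 0 from congrFun hv i, smul_zero]
    have hv0 : v ≠ 0 := fun e0 => hvS (e0 ▸ zero_mem _)
    obtain ⟨d, hdker, hd0⟩ : ∃ d ∈ LinearMap.ker (Tl ∘ₗ LinearMap.mulLeft k v⁻¹ ∘ₗ S.val.toLinearMap),
        d ≠ 0 := by
      refine Submodule.exists_mem_ne_zero_of_ne_bot fun hbot => ?_
      have h2 := LinearMap.finrank_le_finrank_of_injective (LinearMap.ker_eq_bot.mp hbot)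
      rw [hdim, finrank_self] at h2
      omega
    have hd0' : (d : A) ≠ 0 := fun e0 => hd0 (Subtype.ext e0)
    let x := (d : A)⁻¹ * v
    refine ⟨x, fun ⟨c, hc⟩ => hvS ?_, ?_⟩
    · have h2 : v = (d : A) * algebraMap k A c := by rw [hc, mul_inv_cancel_left₀ hd0']
      rw [h2]
      exact S.mul_mem d.2 (S.algebraMap_mem c)
    have hx0 : x ≠ 0 := mul_ne_zero (inv_ne_zero hd0') hv0
    have htr : (g x).trace = 0 := by
      rw [hTl, hvT _ (hSinv _ d.2 hd0'), map_zero]
    have htr' : (g x⁻¹).trace = 0 := by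
      rw [hTl, show x⁻¹ = v⁻¹ * (d : A) by rw [mul_inv_rev, inv_inv],
        show Tl (v⁻¹ * (d : A)) = 0 from hdker, map_zero]
    refine hscal x (g x).det ?_ (Or.inl rfl)
    rw [map_pow]
    refine cube_of_trace_zero _ htr ?_
    have h2 : g x * g x⁻¹ = 1 := by rw [← map_mul, mul_inv_cancel₀ hx0, map_one]
    have h3 : (g x).adjugate = (g x).det • g x⁻¹ := by
      calc (g x).adjugate = (g x).adjugate * (g x * g x⁻¹) := by rw [h2, mul_one]
        _ = _ := by rw [← mul_assoc, Matrix.adjugate_mul, smul_mul_assoc, one_mul]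
    rw [h3, Matrix.trace_smul, htr', smul_zero]

theorem unbounded {k : Type u} [Field k] [Infinite k] {p : ℕ} [Fact p.Prime] [CharP k p]
    {A : Type u} [Ring A] [Algebra k A] {Q : Type*} [Group Q] (ξ : Aˣ →* Q)
    (hker : ξ.ker = (Units.map (algebraMap k A : k →* A)).range) (x : A)
    (hx : x ∉ (algebraMap k A).range) (hxp : x ^ p ∈ (algebraMap k A).range) (N : ℕ) :
    ∃ G : Subgroup Q, Finite G ∧ N < Nat.card G := by
  classical
  obtain ⟨t, ht⟩ := hxp
  have hA : Nontrivial A := by
    by_contra h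
    rw [not_nontrivial_iff_subsingleton] at h
    exact hx ⟨0, Subsingleton.elim _ _⟩
  have : CharP A p := charP_of_injective_algebraMap (algebraMap k A).injective p
  have hfin : {c : k | c ^ p + t = 0}.Finite := by
    refine Set.Subsingleton.finite fun c hc c' hc' => frobenius_inj k p ?_
    show c ^ p = c' ^ p
    rw [eq_neg_of_add_eq_zero_left hc, eq_neg_of_add_eq_zero_left hc']
  obtain ⟨s, hs, hcard⟩ := (hfin.infinite_compl).exists_subset_card_eq (N + 1)
  have hpow : ∀ c : k, (algebraMap k A c + x) ^ p = algebraMap k A (c ^ p + t) := fun c => by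
    rw [add_pow_char_of_commute p (Algebra.commute_algebraMap_left c x), map_add, map_pow, ht]
  have hu : ∀ c ∈ s, IsUnit (algebraMap k A c + x) := fun c hc => by
    rw [← isUnit_pow_iff (Nat.Prime.ne_zero (Fact.out : p.Prime)), hpow]
    exact (isUnit_iff_ne_zero.mpr (hs hc)).map _
  let q : s → Q := fun c => ξ (hu c c.2).unit
  have hqp : ∀ c, q c ^ p = 1 := fun c => by
    rw [← map_pow, ← MonoidHom.mem_ker, hker]
    refine ⟨Units.mk0 _ (hs c.2), Units.ext ?_⟩
    simp [hpow]
  have hcomm : ∀ c c', q c * q c' = q c' * q c := fun c c' => by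
    rw [← map_mul, ← map_mul]
    congr 1
    refine Units.ext ?_
    show (algebraMap k A c + x) * (algebraMap k A c' + x) = (algebraMap k A c' + x) * (algebraMap k A c + x)
    exact ((Algebra.commute_algebraMap_left (c : k) _).add_left
      ((Algebra.commute_algebraMap_right (c' : k) x).add_right (Commute.refl x))).eq
  have hinj : Function.Injective q := fun c c' h => by
    have h1 : ξ ((hu c c.2).unit * ((hu c' c'.2).unit)⁻¹) = 1 := by
      rw [map_mul, map_inv, mul_inv_eq_one]; exact h
    rw [← MonoidHom.mem_ker, hker] at h1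
    obtain ⟨u, hu'⟩ := h1
    rw [eq_mul_inv_iff_mul_eq, ← Units.val_inj] at hu'
    replace hu' : algebraMap k A (u : k) * (algebraMap k A c' + x) = algebraMap k A c + x := by
      simpa using hu'
    by_cases hu1 : (u : k) = 1
    · rw [hu1, map_one, one_mul, add_left_inj] at hu'
      exact (Subtype.ext ((algebraMap k A).injective hu')).symm
    · refine absurd ⟨((u : k) - 1)⁻¹ * ((c : k) - (u : k) * (c' : k)), ?_⟩ hx
      have h2 : algebraMap k A ((u : k) - 1) * x = algebraMap k A ((c : k) - (u : k) * (c' : k)) := by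
        rw [map_sub, map_sub, map_one, sub_mul, one_mul, map_mul]
        rw [mul_add] at hu'
        rw [eq_sub_of_add_eq' hu']
        abel
      rw [map_mul, ← h2, ← mul_assoc, ← map_mul, inv_mul_cancel₀ (sub_ne_zero.mpr hu1), map_one, one_mul]
  let G := Subgroup.closure (Set.range q)
  letI hG : CommGroup G :=
    Subgroup.closureCommGroupOfComm (fun a ⟨c, hc⟩ b ⟨c', hc'⟩ => hc ▸ hc' ▸ hcomm c c')
  have : Group.FG G := (Group.fg_iff_subgroup_fg G).mpr ⟨Finset.univ.image q, by simp [G]⟩
  have htor : IsMulTorsion G := fun g => by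
    refine isOfFinOrder_iff_pow_eq_one.mpr ⟨p, Nat.Prime.pos Fact.out, ?_⟩
    obtain ⟨g, hg⟩ := g
    refine Subtype.ext ?_
    show g ^ p = 1
    have : ∀ y ∈ G, y ^ p = 1 ∧ ∀ c, q c * y = y * q c := fun y hy => by
      induction hy using Subgroup.closure_induction with
      | mem z hz => obtain ⟨c, rfl⟩ := hz; exact ⟨hqp c, fun c' => hcomm c' c⟩
      | one => simp
      | mul y z hy hz ihy ihz =>
        refine ⟨?_, fun c => Commute.mul_right (ihy.2 c) (ihz.2 c)⟩
        have hc : Commute y z := by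
          have := congrArg Subtype.val (hG.mul_comm ⟨y, hy⟩ ⟨z, hz⟩)
          exact this
        rw [hc.mul_pow, ihy.1, ihz.1, one_mul]
      | inv y _ ihy => exact ⟨by rw [inv_pow, ihy.1, inv_one], fun c => Commute.inv_right (ihy.2 c)⟩
    exact (this g hg).1
  have hfinG : Finite G := CommGroup.finite_of_fg_isMulTorsion G htor
  refine ⟨G, hfinG, ?_⟩
  have h2 := Nat.card_le_card_of_injective (fun c => (⟨q c, Subgroup.subset_closure ⟨c, rfl⟩⟩ : G))
    (fun c c' h => hinj (congrArg Subtype.val h))
  rw [Nat.card_eq_finsetCard, hcard] at h2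
  omega

/-- Let p be 2 or 3, k an infinite field of characteristic p, A a central simple k-algebra of dimension
p², and X → Spec k the Severi–Brauer variety of A (X represents the functor of left ideals of A with
projective quotient of corank p² − p; X has dimension p − 1). Then the group of automorphisms of X
over k has unbounded finite subgroups: for every N it has a finite subgroup of order greater than N. -/
theorem result
    (k : Type u) [Field k] [Infinite k] (p : ℕ) [Fact p.Prime] [CharP k p] (hp : p = 2 ∨ p = 3)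
    (A : Type u) [Ring A] [Algebra k A] [Algebra.IsCentral k A] [IsSimpleRing A]
    (hA : Module.finrank k A = p * p)
    {X : Scheme.{u}} (f : X ⟶ Spec (CommRingCat.of k)) (hX : BrSev.IsSBOf k A (p * p - p) f) (N : ℕ) :
    ∃ G : Subgroup (Aut (Over.mk f)), Finite G ∧ N < Nat.card G := by
  obtain ⟨s⟩ := hX
  have hp0 : 0 < p := Nat.Prime.pos Fact.out
  have : FiniteDimensional k A := Module.finite_of_finrank_pos (by rw [hA]; exact Nat.mul_pos hp0 hp0)
  obtain ⟨x, hx, hxp⟩ := exists_pow_mem k p hp A hA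
  exact unbounded (GrothLib.SBAut21.xi s) (GrothLib.SBAut21.xi_ker s hp0 hA) x hx hxp N

end Groth.Agent.S15189
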