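import Groth.Statements.S15190
import Groth.Agent.S15185
import Groth.Agent.Lib.SBAut21.Aut
import Groth.Agent.Lib.RedNorm.Rat
import Mathlib.GroupTheory.SchurZassenhaus
import Mathlib.GroupTheory.Perm.Cycle.Type

set_option autoImplicit false
universe u
open CategoryTheory CategoryTheory.Limits AlgebraicGeometry Polynomial
open BddFin

namespace Groth.Agent.S15190

theorem exists_isRedNorm (k : Type u) [Field k] (A : Type u) [Ring A] [Algebra k A] [Algebra.IsCentral k A]
    [IsSimpleRing A] [FiniteDimensional k A] {n : ℕ} (hn : Module.finrank k A = n ^ 2) :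
    ∃ N : A →* k, CSAGal.IsRedNorm k A N := by
  obtain ⟨K, hK, hgal, m, hm, ⟨e⟩⟩ := GrothLib.CSA.exists_galois_intermediate k A
  have h1 := e.toLinearEquiv.finrank_eq
  rw [Module.finrank_baseChange, hn, Module.finrank_matrix, Fintype.card_fin, Module.finrank_self,
    mul_one, ← sq] at h1
  obtain rfl := Nat.pow_left_injective two_ne_zero h1
  let g₀ : A →ₐ[k] Matrix (Fin n) (Fin n) K :=
    (e.toAlgHom.restrictScalars k).comp Algebra.TensorProduct.includeRight
  let L := AlgebraicClosure k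
  let i : K →ₐ[k] L := IsAlgClosed.lift
  have h : ∀ a, ∃ c : k, (g₀ a).det = algebraMap k K c := fun a => by
    obtain ⟨c, hc⟩ := GrothLib.RedNorm.exists_det_eq hn (i.mapMatrix.comp g₀) a
    refine ⟨c, i.injective (?_ : i (g₀ a).det = i (algebraMap k K c))⟩
    rw [i.map_det, i.commutes]
    exact hc
  choose N hN using h
  refine ⟨{ toFun := N, map_one' := ?_, map_mul' := fun a b => ?_ }, K, inferInstance, inferInstance,
    hK, n, e, fun a => (hN a).symm⟩
  · apply (algebraMap k K).injective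
    rw [← hN, map_one, Matrix.det_one, map_one]
  · apply (algebraMap k K).injective
    rw [← hN, map_mul, Matrix.det_mul, map_mul, hN a, hN b]

open scoped Classical in
theorem exists_semidirect {Q : Type*} [Group Q] {E : Type*} [CommGroup E] {p n' m : ℕ} (hp : p.Prime)
    (hn' : ¬ p ∣ n') (ψ : Q →* E) (hE : ∀ x : E, x ^ p ^ m = 1)
    (hker : ∀ h : Q, IsOfFinOrder h → ψ h = 1 → h ^ n' = 1)
    (G : Subgroup Q) [Finite G] :
    ∃ H S : Subgroup Q, H ≤ G ∧ S ≤ G ∧
      (∀ g ∈ G, ∀ h ∈ H, g * h * g⁻¹ ∈ H) ∧ H ⊓ S = ⊥ ∧ H ⊔ S = G ∧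
      (∀ h ∈ H, ¬ p ∣ orderOf h) ∧
      (∀ s ∈ S, ∀ t ∈ S, s * t = t * s) ∧ (∀ s ∈ S, s ^ (p ^ m) = 1) := by
  let N : Subgroup G := (ψ.comp G.subtype).ker
  have hN : ∀ h : G, h ∈ N → orderOf h ∣ n' := fun h hh => by
    rw [← Subgroup.orderOf_coe h]
    exact orderOf_dvd_of_pow_eq_one (hker h ((Subgroup.subtype G).isOfFinOrder (isOfFinOrder_of_finite h)) hh)
  have hcop : Nat.Coprime (Nat.card N) N.index := by
    refine Nat.coprime_of_dvd fun q hq hq1 hq2 => ?_
    have := Fact.mk hq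
    obtain ⟨x, hx⟩ := exists_prime_orderOf_dvd_card' (G := N) q hq1
    have hqn : q ∣ n' := by
      rw [← hx, ← Subgroup.orderOf_coe]; exact hN x x.2
    obtain ⟨y, hy⟩ := exists_prime_orderOf_dvd_card' (G := G ⧸ N) q hq2
    have hy1 : y ^ p ^ m = 1 := by
      obtain ⟨z, rfl⟩ := QuotientGroup.mk'_surjective N y
      rw [← map_pow, QuotientGroup.mk'_apply, QuotientGroup.eq_one_iff]
      show ψ ((z ^ p ^ m : G) : Q) = 1
      rw [Subgroup.coe_pow, map_pow, hE]
    have hqp : q ∣ p ^ m := hy ▸ orderOf_dvd_of_pow_eq_one hy1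
    exact hn' ((Nat.prime_dvd_prime_iff_eq hq hp).mp (hq.dvd_of_dvd_pow hqp) ▸ hqn)
  obtain ⟨T, hT⟩ := Subgroup.exists_right_complement'_of_coprime hcop
  have hinj : ∀ s ∈ T.map G.subtype, ψ s = 1 → s = 1 := by
    rintro _ ⟨s, hs, rfl⟩ h
    have : s ∈ N ⊓ T := ⟨h, hs⟩
    rw [hT.disjoint.eq_bot, Subgroup.mem_bot] at this
    rw [this, map_one]
  refine ⟨N.map G.subtype, T.map G.subtype, ?_, ?_, ?_, ?_, ?_, ?_, ?_, ?_⟩
  · exact (Subgroup.map_le_range _ _).trans G.range_subtype.le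
  · exact (Subgroup.map_le_range _ _).trans G.range_subtype.le
  · rintro g hg _ ⟨h, hh, rfl⟩
    exact ⟨⟨g, hg⟩ * h * ⟨g, hg⟩⁻¹, (inferInstance : N.Normal).conj_mem h hh _, rfl⟩
  · rw [← Subgroup.map_inf _ _ _ G.subtype_injective, hT.disjoint.eq_bot, Subgroup.map_bot]
  · rw [← Subgroup.map_sup, hT.sup_eq_top, ← MonoidHom.range_eq_map, G.range_subtype]
  · rintro _ ⟨h, hh, rfl⟩ hd
    exact hn' ((hd.trans (dvd_of_eq (Subgroup.orderOf_coe h))).trans (hN h hh))
  · intro s hs t ht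
    have h1 : s * t * s⁻¹ * t⁻¹ = 1 := hinj _ ((T.map G.subtype).mul_mem ((T.map G.subtype).mul_mem
      ((T.map G.subtype).mul_mem hs ht) (inv_mem hs)) (inv_mem ht)) (by
      rw [map_mul, map_mul, map_mul, map_inv, map_inv, mul_comm (ψ s) (ψ t), mul_inv_cancel_right,
        mul_inv_cancel])
    rw [mul_inv_eq_one, mul_inv_eq_iff_eq_mul] at h1
    exact h1
  · intro s hs
    exact hinj _ (pow_mem hs _) (by rw [map_pow, hE])

open GrothLib.SBAut21 in
theorem main (k : Type u) [Field k] (p : ℕ) [Fact p.Prime] [CharP k p]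
    (hk : ∀ r : ℕ, 0 < r → (X ^ r - 1 : k[X]).Splits)
    (A : Type u) [DivisionRing A] [Algebra k A] [Algebra.IsCentral k A] [FiniteDimensional k A]
    (n n' m : ℕ) (hn0 : 0 < n) (hA : Module.finrank k A = n * n) (hn : n = n' * p ^ m) (hn' : ¬ p ∣ n')
    {Q : Type*} [Group Q] (ξ : Aˣ →* Q) (hξ : Function.Surjective ξ)
    (hker : ξ.ker = (Units.map (algebraMap k A : k →* A)).range) (G : Subgroup Q) [Finite G] :
    ∃ H S : Subgroup Q, H ≤ G ∧ S ≤ G ∧
      (∀ g ∈ G, ∀ h ∈ H, g * h * g⁻¹ ∈ H) ∧ H ⊓ S = ⊥ ∧ H ⊔ S = G ∧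
      (∀ h ∈ H, ((orderOf h : ℕ) : k) ≠ 0) ∧
      (∀ s ∈ S, ∀ t ∈ S, s * t = t * s) ∧ (∀ s ∈ S, s ^ (p ^ m) = 1) := by
  obtain ⟨N, hN⟩ := exists_isRedNorm k A (n := n) (by rw [hA, sq])
  let P : Subgroup kˣ := (powMonoidHom (p ^ m)).range
  let φ : Aˣ →* kˣ ⧸ P := (QuotientGroup.mk' P).comp (Units.map N)
  have hφ : ξ.ker ≤ φ.ker := by
    rw [hker]
    rintro _ ⟨c, rfl⟩
    rw [MonoidHom.mem_ker]
    show QuotientGroup.mk' P (Units.map N (Units.map (algebraMap k A : k →* A) c)) = 1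
    rw [QuotientGroup.mk'_apply, QuotientGroup.eq_one_iff]
    refine ⟨c ^ n', Units.ext ?_⟩
    obtain ⟨g⟩ := GrothLib.RedNorm.exists_rep (L := AlgebraicClosure k) (k := k) (A := A) (n := n) (by rw [hA, sq])
    apply (algebraMap k (AlgebraicClosure k)).injective
    simp only [powMonoidHom_apply, Units.val_pow_eq_pow_val, Units.coe_map, MonoidHom.coe_coe]
    rw [GrothLib.RedNorm.redNorm_eq (by rw [hA, sq]) hN g, g.commutes, Matrix.algebraMap_eq_diagonal,
      Matrix.det_diagonal]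
    simp [← pow_mul, ← hn, map_pow]
  let ψ : Q →* kˣ ⧸ P := MonoidHom.liftOfSurjective ξ hξ ⟨φ, hφ⟩
  have hψ : ∀ a, ψ (ξ a) = φ a := fun a => MonoidHom.liftOfRightInverse_comp_apply _ _ _ _ _
  obtain ⟨H, S, h1, h2, h3, h4, h5, h6, h7, h8⟩ := exists_semidirect (E := kˣ ⧸ P) (p := p) (n' := n') (m := m)
    Fact.out hn' ψ (fun x => by
      obtain ⟨x, rfl⟩ := QuotientGroup.mk'_surjective P x
      exact (map_pow (QuotientGroup.mk' P) x _).symm.trans ((QuotientGroup.eq_one_iff _).mpr ⟨x, rfl⟩)) (fun h hfin h1 => by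
      obtain ⟨a, rfl⟩ := hξ h
      rw [hψ] at h1
      obtain ⟨b, hb⟩ := (QuotientGroup.eq_one_iff _).mp h1
      obtain ⟨r, hr, har⟩ := hfin.exists_pow_eq_one
      rw [← map_pow, ← MonoidHom.mem_ker, hker] at har
      obtain ⟨t, ht⟩ := har
      obtain ⟨c, hc⟩ := Groth.Agent.S15185.result k p hk A n n' m (by rw [hA, sq]) hn hn' N hN
        (a : A) a.ne_zero ⟨r, hr, (t : k), by rw [← Units.val_pow_eq_pow_val, ← ht]; rfl⟩
        ⟨(b : k), b.ne_zero, (by simpa using congrArg Units.val hb.symm)⟩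
      rw [← map_pow, ← MonoidHom.mem_ker, hker]
      have hc0 : c ≠ 0 := fun e => pow_ne_zero n' a.ne_zero (by rw [← hc, e, map_zero])
      exact ⟨Units.mk0 c hc0, Units.ext (by rw [Units.val_pow_eq_pow_val]; exact hc)⟩) G
  exact ⟨H, S, h1, h2, h3, h4, h5, fun h hh e => h6 h hh ((CharP.cast_eq_zero_iff k p _).mp e), h7, h8⟩

/-- Let k be a field of characteristic p > 0 such that k contains all roots of unity (for every r ≥ 1
the polynomial X^r − 1 splits into linear factors over k), A a central division algebra of dimension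
n² over k with n = n' · p ^ m and n' prime to p, and X → Spec k the Severi–Brauer variety of A (X
represents the functor of left ideals of A with projective quotient of corank n² − n). Then every
finite subgroup G of the group of automorphisms of X over k is a semidirect product: there are
subgroups H and S of G with H normal in G, H ∩ S trivial and H S = G, such that every element of H
has order prime to p and S is abelian with s ^ (p ^ m) = 1 for all s in S. (The published statement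
also bounds the order of H; that bound is not part of this row.) -/
theorem result
    (k : Type u) [Field k] (p : ℕ) [Fact p.Prime] [CharP k p]
    (hk : ∀ r : ℕ, 0 < r → (X ^ r - 1 : k[X]).Splits)
    (A : Type u) [DivisionRing A] [Algebra k A] [Algebra.IsCentral k A]
    (n n' m : ℕ) (hn0 : 0 < n) (hA : Module.finrank k A = n * n) (hn : n = n' * p ^ m) (hn' : ¬ p ∣ n')
    {X : Scheme.{u}} (f : X ⟶ Spec (CommRingCat.of k)) (hX : BrSev.IsSBOf k A (n * n - n) f)
    (G : Subgroup (Aut (Over.mk f))) [Finite G] :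
    ∃ H S : Subgroup (Aut (Over.mk f)), H ≤ G ∧ S ≤ G ∧
      (∀ g ∈ G, ∀ h ∈ H, g * h * g⁻¹ ∈ H) ∧ H ⊓ S = ⊥ ∧ H ⊔ S = G ∧
      (∀ h ∈ H, ((orderOf h : ℕ) : k) ≠ 0) ∧
      (∀ s ∈ S, ∀ t ∈ S, s * t = t * s) ∧ (∀ s ∈ S, s ^ (p ^ m) = 1) := by
  obtain ⟨s⟩ := hX
  have : FiniteDimensional k A := Module.finite_of_finrank_pos (by rw [hA]; exact Nat.mul_pos hn0 hn0)
  exact main k p hk A n n' m hn0 hA hn hn' (GrothLib.SBAut21.xi s)
    (GrothLib.SBAut21.xi_surjective s hn0 hA) (GrothLib.SBAut21.xi_ker s hn0 hA) G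

end Groth.Agent.S15190
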