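import Groth.Statements.S15218
import Groth.Agent.Lib.Hilb20.Slope

set_option autoImplicit false
open CategoryTheory CategoryTheory.Limits AlgebraicGeometry Polynomial
universe u
open ShStab

namespace Groth.Agent.S15218

/-- Let X be a scheme proper over a field k with an ample invertible sheaf L, all Hilbert polynomials
being taken with respect to L, and let d ≥ 1. For an O_X-module E the following are equivalent: (i)
E is stable of dimension d in the sense of Gieseker, i.e. coherent, nonzero, pure of dimension d,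
with reduced Hilbert polynomial p(F) < p(E) for every nonzero proper coherent submodule F; (ii) E is
ℓ-stable of dimension d for ℓ = d, i.e. coherent, nonzero, pure of dimension d, and p_d(F) < p_d(E)
for the reduced d-truncated Hilbert polynomials of every coherent submodule F whose multiplicity
satisfies 0 < α_d(F) < α_d(E). (The published remark is made for coherent sheaves on a connected
smooth projective variety with a very ample polarisation and records no argument; this row states
the equivalence for X proper over any field with L ample.) -/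
theorem result (k : Type u) [Field k] (X : Scheme.{u})
    [X.Over (Spec (CommRingCat.of k))] [IsProper (X ↘ Spec (CommRingCat.of k))]
    (L : X.Modules) (hL : CohB1.IsAmple L) (d : ℕ) (hd : 1 ≤ d) (E : X.Modules) :
    ShStab.IsStable k X L E d ↔ ShStab.IsEllStable k X L E d d := by
  constructor
  · intro hE
    refine ⟨hE.1, hE.2.1, hE.2.2.1, fun F ι hι hF pF pE hpF hpE h1 h2 => ?_⟩
    have dF := GrothLib.Hilb20.degree_lt_of_dimLT hL.1 hF (GrothLib.Hilb20.isPure_dimLT hE.2.2.1 ι hF) hpF
    have dE := GrothLib.Hilb20.degree_lt_of_dimLT hL.1 hE.1 (GrothLib.Hilb20.isPure_self_dimLT hE.1 hE.2.2.1) hpE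
    have hF0 : ¬ IsZero F := fun hz => by
      rw [GrothLib.Hilb20.isHilbPoly_unique hpF (GrothLib.Hilb20.isHilbPoly_of_isZero hz)] at h1
      simp [StabCat.alpha] at h1
    have hni : ¬ IsIso ι := fun hi =>
      h2.ne (congrArg (StabCat.alpha d) (GrothLib.Hilb20.isHilbPoly_unique (GrothLib.Hilb20.isHilbPoly_congr (asIso ι) hpF) hpE))
    exact (by
      rw [GrothLib.Hilb20.topPart_self dF, GrothLib.Hilb20.topPart_self dE]
      exact hE.2.2.2 F ι hι hF hF0 hni pF pE hpF hpE)
  · intro hE
    refine ⟨hE.1, hE.2.1, hE.2.2.1, fun F ι hι hF hF0 hni pF pE hpF hpE => ?_⟩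
    have dF := GrothLib.Hilb20.degree_lt_of_dimLT hL.1 hF (GrothLib.Hilb20.isPure_dimLT hE.2.2.1 ι hF) hpF
    have dE := GrothLib.Hilb20.degree_lt_of_dimLT hL.1 hE.1 (GrothLib.Hilb20.isPure_self_dimLT hE.1 hE.2.2.1) hpE
    have hsub := GrothLib.Hilb20.alpha_le_of_mono hL hF hE.1 (GrothLib.Hilb20.isPure_self_dimLT hE.1 hE.2.2.1) ι hpF hpE
    rcases lt_or_eq_of_le hsub with hlt | heq
    · have h := hE.2.2.2 F ι hι hF pF pE hpF hpE (GrothLib.Hilb20.alpha_pos_of_pure hL hE.2.2.1 ι hF hF0 hpF) hlt
      rwa [GrothLib.Hilb20.topPart_self dF, GrothLib.Hilb20.topPart_self dE] at h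
    · exact (GrothLib.Hilb20.redLT_of_alpha_eq hL hF hE.1 (GrothLib.Hilb20.isPure_self_dimLT hE.1 hE.2.2.1) ι hni hpF hpE heq
        (GrothLib.Hilb20.alpha_pos_self hL hE.1 hE.2.1 hE.2.2.1 hpE))

end Groth.Agent.S15218
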