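import Groth.Statements.S1522
import Groth.Agent.Lib.CurveMult.H1Bound
import Groth.Agent.Lib.CurveRR.Setup

set_option autoImplicit false
universe u
open CategoryTheory CategoryTheory.Limits AlgebraicGeometry
open Variety

namespace Groth.Agent.S1522

/-- On a proper curve over an algebraically closed field with g the dimension of H^1 of the structure
sheaf, every invertible module of degree at least 2g - 1 has H^1 equal to zero. -/
theorem result (k : Type u) [Field k] [IsAlgClosed k] (X : Scheme.{u}) [X.Over (Spec (CommRingCat.of k))]
    [IsIntegral X] [IsProper (X ↘ (Spec (CommRingCat.of k)))] (hdim : topologicalKrullDim X = 1)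
    (L : X.Modules) (hL : PicF.IsInvertible L)
    (hdeg : 2 * (Curv2.genus k X : ℤ) - 1 ≤ Curv2.deg k X L 1) :
    Subsingleton (Coh.HH X L 1) := by
  haveI := GrothLib.Euler.isNoetherian_of_proper (X := X) k
  rcases subsingleton_or_nontrivial (Coh.HH X L 1) with h | h
  · exact h
  · exfalso
    have h0 := GrothLib.CurveRR.finrank_H0_structure_eq_one k (X := X)
    have e := GrothLib.Euler.euler_structure (X := X) k hdim.le
    rw [h0] at e
    have := GrothLib.CurveMult.euler_le_of_H1_nontrivial k hdim.le (𝟙 L) hL (GrothLib.Euler.isCoh_of_isInvertible hL) h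
    rw [Curv2.deg] at hdeg
    push_cast at *
    linarith

end Groth.Agent.S1522
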