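import Groth.Statements.S15224
import Mathlib.Data.Nat.Choose.Sum
import Mathlib.Tactic.FieldSimp
import Mathlib.Tactic.LinearCombination
import Mathlib.Tactic.Ring

set_option autoImplicit false
open Finset
open W4c2rk2extmaps

namespace Groth.Agent.S15224

theorem alt_sum_zero (R : Type*) [CommRing R] [Algebra ℚ R] (y : R)
    (c : ℕ → R) (hc : ∀ k : ℕ, c k = ((Nat.factorial k : ℚ)⁻¹) • y ^ k) (k : ℕ) (hk : k ≠ 0) :
    ∑ i ∈ Finset.range (k + 1), (-1 : R) ^ i * c i * c (k - i) = 0 := by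
  have h : ∀ i ∈ Finset.range (k + 1), (-1 : R) ^ i * c i * c (k - i)
      = (((-1 : ℤ) ^ i * (k.choose i : ℤ) : ℤ) : R) * c k := by
    intro i hi
    have hi' : i ≤ k := Nat.lt_succ_iff.mp (Finset.mem_range.mp hi)
    rw [hc, hc, hc, mul_assoc, smul_mul_smul_comm, ← pow_add, Nat.add_sub_cancel' hi']
    have e : ((i.factorial : ℚ)⁻¹ * ((k - i).factorial : ℚ)⁻¹) = (k.choose i : ℚ) * (k.factorial : ℚ)⁻¹ := by
      rw [← Nat.choose_mul_factorial_mul_factorial hi']
      have := Nat.choose_pos hi'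
      have := Nat.factorial_pos i
      have := Nat.factorial_pos (k - i)
      push_cast
      field_simp
    rw [e, ← smul_smul, Nat.cast_smul_eq_nsmul, nsmul_eq_mul]
    push_cast
    ring
  rw [Finset.sum_congr rfl h, ← Finset.sum_mul, ← Int.cast_sum, Int.alternating_sum_range_choose, if_neg hk]
  simp

/-- In a commutative ℚ-algebra R let y be an element and put c_k = y^k / k! for every k. Then for k ≥ 2,
Σ_{i=1}^{k-1} (-1)^(i-1) c_i c_(k-i) + (-1)^(k-1) c_k = c_k. (The published statement concerns the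
Chern classes of a specific vector bundle on a Jacobian, which are of the form c_k = (4θ)^k / k!;
the printed argument establishes the identity for every sequence of this form in a commutative
ℚ-algebra, which is the form stated here.) -/
theorem result (R : Type*) [CommRing R] [Algebra ℚ R] (y : R)
    (c : ℕ → R) (hc : ∀ k : ℕ, c k = ((Nat.factorial k : ℚ)⁻¹) • y ^ k)
    (k : ℕ) (hk : 2 ≤ k) :
    (∑ i ∈ Finset.Ico 1 k, (-1 : R) ^ (i - 1) * c i * c (k - i)) + (-1 : R) ^ (k - 1) * c k = c k := by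
  have h0 := alt_sum_zero R y c hc k (by omega)
  rw [Finset.sum_range_succ, Finset.range_eq_Ico,
    Finset.sum_eq_sum_Ico_succ_bot (by omega : 0 < k)] at h0
  have hc0 : c 0 = 1 := by simp [hc]
  have hs : ∀ i ∈ Finset.Ico (0 + 1) k, (-1 : R) ^ i * c i * c (k - i) = -((-1 : R) ^ (i - 1) * c i * c (k - i)) := by
    intro i hi
    rw [Finset.mem_Ico] at hi
    obtain ⟨j, rfl⟩ : ∃ j, i = j + 1 := ⟨i - 1, by omega⟩
    rw [Nat.add_sub_cancel, pow_succ]; ring
  rw [Finset.sum_congr rfl hs, Finset.sum_neg_distrib] at h0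
  obtain ⟨j, rfl⟩ : ∃ j, k = j + 1 := ⟨k - 1, by omega⟩
  simp only [Nat.add_sub_cancel, Nat.sub_zero, Nat.sub_self, hc0, pow_zero, zero_add, pow_succ] at h0 ⊢
  linear_combination -h0

end Groth.Agent.S15224
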