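import Groth.Statements.S15227
import Groth.Agent.Lib.CurveMult.TwistHom
import Groth.Agent.Lib.CurveMult.OmegaApp
import Groth.Agent.Lib.CurveMult.OmegaField
import Groth.Agent.Lib.CurveMult.DivIso
import Groth.Agent.Lib.CurveMult.RankTwo
import Groth.Agent.Lib.RelProjK.Local

set_option autoImplicit false
open CategoryTheory CategoryTheory.Limits AlgebraicGeometry MonoidalCategory
open VBCurve

namespace Groth.Agent.S15227

/-- Let X be a smooth proper integral curve over ℂ of genus g ≥ 3 which is non-hyperelliptic, K a module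
isomorphic to its sheaf of differentials, and N an invertible module of degree g − 1 with H^0(N) =
0, so that the complete linear system of K ⊗ N maps X to a projective space of dimension 2g − 3 as a
curve of degree 3g − 3. An effective divisor D of degree d, recorded through its invertible ideal
sheaf I ⊂ O_X (of degree −d), is a d-secant when its linear span has dimension d − 2, i.e. h^0(I ⊗ K
⊗ N) = h^0(K ⊗ N) − d + 1. Then there is no (g − 1)-secant: no invertible ideal I ⊂ O_X of degree 1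
− g satisfies h^0(I ⊗ K ⊗ N) + (g − 2) = h^0(K ⊗ N). -/
theorem result
    (X : Scheme.{0}) [X.Over (Spec (CommRingCat.of ℂ))] [IsIntegral X]
    [IsProper (X ↘ Spec (CommRingCat.of ℂ))] [Smooth (X ↘ Spec (CommRingCat.of ℂ))]
    (hdim : topologicalKrullDim X = 1) (hg : 2 ≤ Curv2.genus ℂ X)
    (hnh : ∀ M : X.Modules, PicF.IsInvertible M → Curv2.deg ℂ X M 1 = 2 →
      Module.finrank ℂ (Coh.HH X M 0) ≤ 1)
    (K : X.Modules) (eK : K ≅ Omega.sheaf (X ↘ Spec (CommRingCat.of ℂ)))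
    (g : ℕ) (hg3 : 3 ≤ g) (hgen : Curv2.genus ℂ X = g)
    (N : X.Modules) (hN : PicF.IsInvertible N) (hdN : Curv2.deg ℂ X N 1 = (g : ℤ) - 1)
    (h0 : Module.finrank ℂ (Coh.HH X N 0) = 0) :
    ¬ ∃ (I : X.Modules) (ι : I ⟶ Coh.structureModule X),
        PicF.IsInvertible I ∧ Mono ι ∧ Curv2.deg ℂ X I 1 = -((g : ℤ) - 1) ∧
        Module.finrank ℂ (Coh.HH X (CohB1.tensorMod I (CohB1.tensorMod K N)) 0) + (g - 2) =
          Module.finrank ℂ (Coh.HH X (CohB1.tensorMod K N) 0) := by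
  rintro ⟨I, ι, hI, hι, hId, heq⟩
  haveI := GrothLib.Euler.isNoetherian_of_proper (X := X) ℂ
  haveI := GrothLib.CurveRR.regCurve_of_smooth (X ↘ Spec (CommRingCat.of ℂ)) hdim
  have h00 := GrothLib.CurveRR.finrank_H0_structure_eq_one ℂ (X := X)
  have hK := GrothLib.CurveRR.isFunctionField ℂ h00
  have hgg := GrothLib.CurveRR.genus_eq ℂ h00
  obtain ⟨C, hC, ⟨eΩ⟩⟩ := GrothLib.CurveMult.OmegaField.exists_iso_canonical ℂ hdim h00
  have hCd := GrothLib.CurveRR.deg_canonical ℂ hK hC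
  obtain ⟨DN, ⟨eN⟩⟩ := GrothLib.CurveRR.exists_iso_oD ℂ hN
  obtain ⟨DI, ⟨eI⟩⟩ := GrothLib.CurveRR.exists_iso_oD ℂ hI
  obtain ⟨e1⟩ := GrothLib.CurveRR.nonempty_tensor_iso ℂ (eK ≪≫ eΩ) eN
  obtain ⟨e2⟩ := GrothLib.CurveRR.nonempty_tensor_iso ℂ eI e1
  have hdN' := GrothLib.CurveMult.OmegaApp.deg_of_iso ℂ eN
  have hdI' := GrothLib.CurveMult.OmegaApp.deg_of_iso ℂ eI
  rw [GrothLib.CurveMult.OmegaApp.finrank_H0_of_iso ℂ e1, GrothLib.CurveMult.OmegaApp.finrank_H0_of_iso ℂ e2] at heq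
  have hRR := GrothLib.FunFld.riemann_roch' hK hC (C + DN)
  have hz : FunFld.ell (C - (C + DN)) = 0 := GrothLib.FunFld.IsFG.ell_eq_zero_of_deg_neg hK.1
    (by rw [GrothLib.FunFld.deg_sub, GrothLib.FunFld.deg_add]; omega)
  rw [hz, GrothLib.FunFld.deg_add] at hRR
  have hmem := GrothLib.FunFld.sub_mem_prinDivs_of_canonical hK hC (A := DI + (C + DN))
    (by rw [GrothLib.FunFld.deg_add, GrothLib.FunFld.deg_add]; omega) (by omega)
  obtain ⟨e3⟩ := GrothLib.CurveRR.nonempty_tensor_iso ℂ eI eN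
  obtain ⟨e4⟩ := GrothLib.CurveMult.DivIso.nonempty_iso_of_sub_mem ℂ
    (D := DI + DN) (E := (0 : FunFld.Divisor ℂ X.functionField)) (by
      rw [sub_zero]; convert hmem using 1; abel)
  let t : CohB1.tensorMod I N ≅ Coh.structureModule X :=
    e3 ≪≫ e4 ≪≫ (GrothLib.CurveRR.nonempty_iso_oD_zero ℂ).some.symm
  haveI := hι
  have hne : ι ≠ 0 := fun h => by
    haveI : Mono (0 : I ⟶ Coh.structureModule X) := h ▸ hι
    exact GrothLib.CurveMult.not_isZero_of_invertible hI ((IsZero.iff_id_eq_zero _).2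
      ((cancel_mono (0 : I ⟶ Coh.structureModule X)).1 (by simp)))
  have hnt := GrothLib.CurveMult.nontrivial_H0_of_hom (f := t.inv ≫ (GrothLib.Euler.tF N).map ι ≫
    (GrothLib.OX.tensorUnitLeftIso N).hom) fun h => by
      have e' : CohB1.tensorMod N I ≅ Coh.structureModule X :=
        (((GrothLib.OX.tensorBraiding (X := X)).app N).app I).symm ≪≫ t
      refine GrothLib.CurveMult.tF_map_ne_zero e' hne ?_
      exact (cancel_mono (GrothLib.OX.tensorUnitLeftIso N).hom).1 (((cancel_epi t.inv).1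
        (h.trans comp_zero.symm)).trans zero_comp.symm)
  haveI := GrothLib.Euler.finiteDimensional_HH ℂ (GrothLib.Euler.isCoh_of_isInvertible hN) 0
  exact (Module.finrank_pos (R := ℂ) (M := Coh.HH X N 0)).ne' h0

end Groth.Agent.S15227
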