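import Groth.Statements.S15228
import Groth.Agent.Lib.CurveMult.TwistHom
import Groth.Agent.Lib.CurveMult.OmegaApp
import Groth.Agent.Lib.CurveMult.OmegaField
import Groth.Agent.Lib.CurveMult.DivIso
import Groth.Agent.Lib.CurveMult.RankTwo
import Groth.Agent.Lib.CurveMult.SimpleRankTwo
import Groth.Agent.Lib.CurveMult.VeryStable
import Groth.Agent.Lib.RelProjK.Local
import Groth.Agent.Lib.Euler.InvHom

set_option autoImplicit false
open CategoryTheory CategoryTheory.Limits AlgebraicGeometry MonoidalCategory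
open VBCurve

namespace Groth.Agent.S15228

/-- Let X be a smooth proper integral curve over ℂ of genus g ≥ 3 which is non-hyperelliptic, K a module
isomorphic to its sheaf of differentials, and N an invertible module of degree g with h^0(N) ≤ 1, so
that the complete linear system of K ⊗ N maps X to a projective space of dimension 2g − 2 as a curve
of degree 3g − 2. An effective divisor D of degree d, recorded through its invertible ideal sheaf I
⊂ O_X (of degree −d), is a d-secant when its linear span has dimension d − 2, i.e. h^0(I ⊗ K ⊗ N) =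
h^0(K ⊗ N) − d + 1. Then X has exactly one g-secant: some invertible ideal I ⊂ O_X of degree −g
satisfies h^0(I ⊗ K ⊗ N) + (g − 1) = h^0(K ⊗ N), and any two such ideals are equal as subobjects of
O_X (an isomorphism between them commutes with the inclusions). -/
theorem result
    (X : Scheme.{0}) [X.Over (Spec (CommRingCat.of ℂ))] [IsIntegral X]
    [IsProper (X ↘ Spec (CommRingCat.of ℂ))] [Smooth (X ↘ Spec (CommRingCat.of ℂ))]
    (hdim : topologicalKrullDim X = 1) (hg : 2 ≤ Curv2.genus ℂ X)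
    (hnh : ∀ M : X.Modules, PicF.IsInvertible M → Curv2.deg ℂ X M 1 = 2 →
      Module.finrank ℂ (Coh.HH X M 0) ≤ 1)
    (K : X.Modules) (eK : K ≅ Omega.sheaf (X ↘ Spec (CommRingCat.of ℂ)))
    (g : ℕ) (hg3 : 3 ≤ g) (hgen : Curv2.genus ℂ X = g)
    (N : X.Modules) (hN : PicF.IsInvertible N) (hdN : Curv2.deg ℂ X N 1 = (g : ℤ))
    (h0 : Module.finrank ℂ (Coh.HH X N 0) ≤ 1) :
    (∃ (I : X.Modules) (ι : I ⟶ Coh.structureModule X),
        PicF.IsInvertible I ∧ Mono ι ∧ Curv2.deg ℂ X I 1 = -((g : ℤ)) ∧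
        Module.finrank ℂ (Coh.HH X (CohB1.tensorMod I (CohB1.tensorMod K N)) 0) + (g - 1) =
          Module.finrank ℂ (Coh.HH X (CohB1.tensorMod K N) 0)) ∧
      ∀ (I I' : X.Modules) (ι : I ⟶ Coh.structureModule X) (ι' : I' ⟶ Coh.structureModule X),
        (PicF.IsInvertible I ∧ Mono ι ∧ Curv2.deg ℂ X I 1 = -((g : ℤ)) ∧
        Module.finrank ℂ (Coh.HH X (CohB1.tensorMod I (CohB1.tensorMod K N)) 0) + (g - 1) =
          Module.finrank ℂ (Coh.HH X (CohB1.tensorMod K N) 0)) →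
        (PicF.IsInvertible I' ∧ Mono ι' ∧ Curv2.deg ℂ X I' 1 = -((g : ℤ)) ∧
        Module.finrank ℂ (Coh.HH X (CohB1.tensorMod I' (CohB1.tensorMod K N)) 0) + (g - 1) =
          Module.finrank ℂ (Coh.HH X (CohB1.tensorMod K N) 0)) →
        ∃ φ : I' ≅ I, φ.hom ≫ ι = ι' := by
  haveI := GrothLib.Euler.isNoetherian_of_proper (X := X) ℂ
  haveI := GrothLib.CurveRR.regCurve_of_smooth (X ↘ Spec (CommRingCat.of ℂ)) hdim
  have h00 := GrothLib.CurveRR.finrank_H0_structure_eq_one ℂ (X := X)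
  have hK := GrothLib.CurveRR.isFunctionField ℂ h00
  have hgg := GrothLib.CurveRR.genus_eq ℂ h00
  obtain ⟨C, hC, ⟨eΩ⟩⟩ := GrothLib.CurveMult.OmegaField.exists_iso_canonical ℂ hdim h00
  have hCd := GrothLib.CurveRR.deg_canonical ℂ hK hC
  have hCl : (FunFld.ell C : ℕ) = FunFld.genus ℂ X.functionField := (GrothLib.FunFld.ell_canonical hK hC).1
  obtain ⟨DN, ⟨eN⟩⟩ := GrothLib.CurveRR.exists_iso_oD ℂ hN
  obtain ⟨e1⟩ := GrothLib.CurveRR.nonempty_tensor_iso ℂ (eK ≪≫ eΩ) eN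
  have hdN' := GrothLib.CurveMult.OmegaApp.deg_of_iso ℂ eN
  have hRR := GrothLib.FunFld.riemann_roch' hK hC (C + DN)
  have hz : FunFld.ell (C - (C + DN)) = 0 := GrothLib.FunFld.IsFG.ell_eq_zero_of_deg_neg hK.1
    (by rw [GrothLib.FunFld.deg_sub, GrothLib.FunFld.deg_add]; omega)
  rw [hz, GrothLib.FunFld.deg_add] at hRR
  have hKN := GrothLib.CurveMult.OmegaApp.finrank_H0_of_iso ℂ e1
  have hNl := GrothLib.FunFld.riemann_roch' hK hC DN
  have hN0 := GrothLib.CurveMult.OmegaApp.finrank_H0_of_iso ℂ eN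
  haveI := GrothLib.Euler.finiteDimensional_HH ℂ (GrothLib.Euler.isCoh_of_isInvertible hN) 0
  have hN1 : Module.finrank ℂ (Coh.HH X N 0) = 1 := by omega
  -- such ideals are inverse to `N`
  have hinv : ∀ I : X.Modules, PicF.IsInvertible I → Curv2.deg ℂ X I 1 = -((g : ℤ)) →
      Module.finrank ℂ (Coh.HH X (CohB1.tensorMod I (CohB1.tensorMod K N)) 0) + (g - 1) =
        Module.finrank ℂ (Coh.HH X (CohB1.tensorMod K N) 0) →
      Nonempty (CohB1.tensorMod I N ≅ Coh.structureModule X) := by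
    intro I hI hId heq
    obtain ⟨DI, ⟨eI⟩⟩ := GrothLib.CurveRR.exists_iso_oD ℂ hI
    obtain ⟨e2⟩ := GrothLib.CurveRR.nonempty_tensor_iso ℂ eI e1
    have hdI' := GrothLib.CurveMult.OmegaApp.deg_of_iso ℂ eI
    rw [hKN, GrothLib.CurveMult.OmegaApp.finrank_H0_of_iso ℂ e2] at heq
    have hmem := GrothLib.FunFld.sub_mem_prinDivs_of_canonical hK hC (A := DI + (C + DN))
      (by rw [GrothLib.FunFld.deg_add, GrothLib.FunFld.deg_add]; omega) (by omega)
    obtain ⟨e3⟩ := GrothLib.CurveRR.nonempty_tensor_iso ℂ eI eN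
    obtain ⟨e4⟩ := GrothLib.CurveMult.DivIso.nonempty_iso_of_sub_mem ℂ
      (D := DI + DN) (E := (0 : FunFld.Divisor ℂ X.functionField)) (by
        rw [sub_zero]; convert hmem using 1; abel)
    exact ⟨e3 ≪≫ e4 ≪≫ (GrothLib.CurveRR.nonempty_iso_oD_zero ℂ).some.symm⟩
  refine ⟨?_, ?_⟩
  · obtain ⟨M, hM, hMd, ⟨e⟩, ⟨e'⟩⟩ := GrothLib.CurveMult.exists_inverse ℂ hdim.le hN
    have hnt : Nontrivial (Coh.HH X (CohB1.tensorMod (Coh.structureModule X) N) 0) := by
      haveI : Nontrivial (Coh.HH X N 0) := Module.nontrivial_of_finrank_pos (R := ℂ) (by omega)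
      exact (GrothLib.Euler.hhEquiv (A := ℂ) (GrothLib.OX.tensorUnitLeftIso N) 0).toEquiv.nontrivial
    obtain ⟨j, hj⟩ := GrothLib.CurveMult.exists_hom_of_twist e e' hnt
    refine ⟨M, j, hM, GrothLib.Euler.mono_of_ne_zero hM GrothLib.Euler.isInvertible_structure hj, by omega, ?_⟩
    obtain ⟨DM, ⟨eM⟩⟩ := GrothLib.CurveRR.exists_iso_oD ℂ hM
    obtain ⟨e2⟩ := GrothLib.CurveRR.nonempty_tensor_iso ℂ eM e1
    obtain ⟨e3⟩ := GrothLib.CurveRR.nonempty_tensor_iso ℂ eM eN
    have hp := GrothLib.CurveMult.DivIso.sub_mem_of_iso ℂ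
      (e3.symm ≪≫ e' ≪≫ (GrothLib.CurveRR.nonempty_iso_oD_zero ℂ).some)
    obtain ⟨e4⟩ := GrothLib.CurveMult.DivIso.nonempty_iso_of_sub_mem ℂ
      (D := DM + (C + DN)) (E := C) (by rw [sub_zero] at hp; convert hp using 1; abel)
    rw [hKN, GrothLib.CurveMult.OmegaApp.finrank_H0_of_iso ℂ (e2 ≪≫ e4)]
    omega
  · rintro I I' ι ι' ⟨hI, hι, hId, heq⟩ ⟨hI', hι', hI'd, heq'⟩
    obtain ⟨t⟩ := hinv I hI hId heq
    obtain ⟨t'⟩ := hinv I' hI' hI'd heq'
    have tN : CohB1.tensorMod N I ≅ Coh.structureModule X :=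
      (((GrothLib.OX.tensorBraiding (X := X)).app N).app I).symm ≪≫ t
    haveI := GrothLib.CurveMult.isEquivalence_tF' ℂ hN
    let ψ : I' ≅ I := (GrothLib.Euler.tF N).preimageIso (t' ≪≫ t.symm)
    let O := Coh.structureModule X
    let T : (I' ⟶ O) → (Coh.structureModule X ⟶ N) := fun f =>
      t'.inv ≫ (GrothLib.Euler.tF N).map f ≫ (GrothLib.OX.tensorUnitLeftIso N).hom
    have hne : ∀ {A : X.Modules} (f : A ⟶ O), PicF.IsInvertible A → Mono f → f ≠ 0 := fun {A} f hA hf h => by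
      haveI : Mono (0 : A ⟶ O) := h ▸ hf
      exact GrothLib.CurveMult.not_isZero_of_invertible hA ((IsZero.iff_id_eq_zero _).2
        ((cancel_mono (0 : A ⟶ O)).1 (by simp)))
    have hT : ∀ f, T f = 0 → f = 0 := fun f h => by
      refine (GrothLib.Euler.tF N).map_injective ?_
      rw [Functor.map_zero]
      exact (cancel_mono (GrothLib.OX.tensorUnitLeftIso N).hom).1 (((cancel_epi t'.inv).1
        (h.trans comp_zero.symm)).trans zero_comp.symm)
    haveI := hι
    haveI := hι'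
    have hf0 : T (ψ.hom ≫ ι) ≠ 0 := fun h => hne _ hI' (mono_comp ψ.hom ι) (hT _ h)
    have hg0 : T ι' ≠ 0 := fun h => hne _ hI' hι' (hT _ h)
    -- one section up to constants
    let sec : (Coh.structureModule X ⟶ N) → Coh.HH X N 0 := fun f =>
      (GrothLib.ProjCoh.H0top N).symm (f.app ⊤ (GrothLib.FinCov.one X ⊤))
    have hsec : ∀ f, f ≠ 0 → sec f ≠ 0 := fun f hf h => hf (GrothLib.CurveMult.eq_zero_of_app_one f
      ((GrothLib.ProjCoh.H0top N).symm.injective (h.trans (map_zero _).symm)))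
    obtain ⟨c, hc⟩ := (finrank_eq_one_iff_of_nonzero' (sec (T (ψ.hom ≫ ι))) (hsec _ hf0)).1 hN1 (sec (T ι'))
    have hc0 : c ≠ 0 := fun h => hsec _ hg0 (by rw [← hc, h, zero_smul])
    have hTT : T ι' = T (ψ.hom ≫ ι) ≫ GrothLib.CurveMult.scalarHom ℂ N c := by
      refine GrothLib.CurveMult.hom_ext_one _ _ ?_
      have h1 := congrArg (GrothLib.ProjCoh.H0top N) hc
      rw [GrothLib.ProjCoh.H0top_smul, AddEquiv.apply_symm_apply, AddEquiv.apply_symm_apply] at h1
      refine h1.symm.trans (Eq.trans ?_ (GrothLib.Euler.smulMod_app _ _ ⊤ _).symm)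
      congr 1
      rw [show (homOfLE (le_top : (⊤ : X.Opens) ≤ ⊤)).op = 𝟙 _ from Subsingleton.elim _ _,
        CategoryTheory.Functor.map_id]
      rfl
    obtain ⟨a, ha⟩ := GrothLib.CurveMult.exists_eq_endScalar ℂ hdim.le GrothLib.Euler.isInvertible_structure
      ((GrothLib.Euler.tF N).preimage ((GrothLib.OX.tensorUnitLeftIso N).hom ≫
        GrothLib.CurveMult.scalarHom ℂ N c ≫ (GrothLib.OX.tensorUnitLeftIso N).inv))
    have hι'eq : ι' = ψ.hom ≫ ι ≫ GrothLib.CurveMult.scalarHom ℂ O a := by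
      refine (GrothLib.Euler.tF N).map_injective ?_
      refine (cancel_mono (GrothLib.OX.tensorUnitLeftIso N).hom).1 ((cancel_epi t'.inv).1 ?_)
      refine hTT.trans ?_
      show (t'.inv ≫ (GrothLib.Euler.tF N).map (ψ.hom ≫ ι) ≫ (GrothLib.OX.tensorUnitLeftIso N).hom) ≫ _ = _
      rw [← ha, (GrothLib.Euler.tF N).map_comp ψ.hom, (GrothLib.Euler.tF N).map_comp ψ.hom,
        (GrothLib.Euler.tF N).map_comp ι, Functor.map_preimage]
      simp only [Category.assoc]
      erw [Iso.inv_hom_id, Category.comp_id]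
      exact congrArg (fun f => t'.inv ≫ f) (Category.assoc _ _ _)
    have ha0 : a ≠ 0 := fun h => hne ι' hI' hι' (by
      rw [hι'eq, h, show GrothLib.CurveMult.scalarHom ℂ O 0 = 0 from map_zero _, comp_zero, comp_zero])
    have hi : ∀ b : ℂ, b ≠ 0 → IsIso (GrothLib.CurveMult.scalarHom ℂ I b) := fun b hb =>
      (isUnit_iff_isIso _).1 ((isUnit_iff_ne_zero.2 hb).map (GrothLib.CurveMult.endScalar ℂ I))
    haveI := hi a ha0
    refine ⟨ψ ≪≫ asIso (GrothLib.CurveMult.scalarHom ℂ I a), ?_⟩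
    rw [hι'eq, GrothLib.CurveMult.endScalar_natural, Iso.trans_hom, asIso_hom, Category.assoc]

end Groth.Agent.S15228
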