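import Groth.Statements.S15229
import Groth.Agent.S15224
import Mathlib.Tactic.Ring

set_option autoImplicit false
open Finset
open W4c2rk2extmaps

namespace Groth.Agent.S15229

/-- In a commutative ℚ-algebra R let θ, η be elements and g a natural number, and put c_k = (4θ)^k / k!.
Suppose θ^(g+1) = 0 and that η satisfies the relation η^(g+1) = Σ_{i=1}^{g+1} (-1)^(i-1) c_i
η^(g+1-i). Then η^(g+k) θ^(g-k) = c_k η^g θ^(g-k) for every 1 ≤ k ≤ g. (The published statement
concerns the first Chern class η of the tautological line bundle on a projective bundle P(U) over a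
g-dimensional Jacobian, with c_k the Chern classes of U, which are (4θ)^k / k!; there θ^(g+1)
vanishes for dimension reasons and the displayed relation is the projective-bundle relation, and the
printed argument derives the identity from exactly these three inputs, which is the form stated
here.) -/
theorem result (R : Type*) [CommRing R] [Algebra ℚ R]
    (θ η : R) (g : ℕ) (c : ℕ → R) (hc : ∀ k : ℕ, c k = ((Nat.factorial k : ℚ)⁻¹) • ((4 : R) * θ) ^ k)
    (hθ : θ ^ (g + 1) = 0)
    (hrel : η ^ (g + 1) = ∑ i ∈ Finset.Ico 1 (g + 2), (-1 : R) ^ (i - 1) * c i * η ^ (g + 1 - i))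
    (k : ℕ) (hk1 : 1 ≤ k) (hkg : k ≤ g) :
    η ^ (g + k) * θ ^ (g - k) = c k * η ^ g * θ ^ (g - k) := by
  have key : ∀ m : ℕ, m ≤ g → η ^ (g + m) * θ ^ (g - m) = c m * η ^ g * θ ^ (g - m) := by
    intro m
    induction m using Nat.strong_induction_on with
    | _ m ih =>
    intro hmg
    rcases Nat.eq_zero_or_pos m with rfl | hm
    · simp [hc]
    have e1 : η ^ (g + m) * θ ^ (g - m) = η ^ (g + 1) * η ^ (m - 1) * θ ^ (g - m) := by
      rw [← pow_add]; congr 2; omega
    rw [e1, hrel, Finset.sum_mul, Finset.sum_mul,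
      ← Finset.sum_Ico_consecutive _ (by omega : 1 ≤ m + 1) (by omega : m + 1 ≤ g + 2)]
    have hz : ∑ i ∈ Finset.Ico (m + 1) (g + 2),
        (-1 : R) ^ (i - 1) * c i * η ^ (g + 1 - i) * η ^ (m - 1) * θ ^ (g - m) = 0 := by
      apply Finset.sum_eq_zero
      intro i hi
      rw [Finset.mem_Ico] at hi
      have : c i * θ ^ (g - m) = 0 := by
        rw [hc, mul_pow, smul_mul_assoc, mul_assoc, ← pow_add]
        have : θ ^ (i + (g - m)) = 0 := by
          rw [show i + (g - m) = g + 1 + (i - m - 1) by omega, pow_add, hθ, zero_mul]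
        rw [this, mul_zero, smul_zero]
      linear_combination ((-1 : R) ^ (i - 1) * η ^ (g + 1 - i) * η ^ (m - 1)) * this
    rw [hz, add_zero]
    have hterm : ∀ i ∈ Finset.Ico 1 m,
        (-1 : R) ^ (i - 1) * c i * η ^ (g + 1 - i) * η ^ (m - 1) * θ ^ (g - m)
        = (-1 : R) ^ (i - 1) * c i * c (m - i) * (η ^ g * θ ^ (g - m)) := by
      intro i hi
      rw [Finset.mem_Ico] at hi
      have e2 : η ^ (g + 1 - i) * η ^ (m - 1) = η ^ (g + (m - i)) := by
        rw [← pow_add]; congr 1; omega
      have e3 : θ ^ i * θ ^ (g - m) = θ ^ (g - (m - i)) := by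
        rw [← pow_add]; congr 1; omega
      have ihh := ih (m - i) (by omega) (by omega)
      have hci : c i = (((i.factorial : ℚ)⁻¹) • (4 : R) ^ i) * θ ^ i := by
        rw [hc, mul_pow, smul_mul_assoc]
      generalize hq : ((i.factorial : ℚ)⁻¹) • (4 : R) ^ i = q at hci
      rw [hci]
      linear_combination ((-1 : R) ^ (i - 1) * q) *
        (θ ^ i * θ ^ (g - m) * e2 + η ^ (g + (m - i)) * e3 + ihh - c (m - i) * η ^ g * e3)
    rw [Finset.sum_Ico_succ_top hm, Finset.sum_congr rfl hterm, ← Finset.sum_mul]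
    have hlast : η ^ (g + 1 - m) * η ^ (m - 1) = η ^ g := by
      rw [← pow_add]; congr 1; omega
    rcases Nat.eq_or_lt_of_le hm with h1 | h2
    · obtain rfl : m = 1 := by omega
      simp
    · linear_combination (η ^ g * θ ^ (g - m)) * Groth.Agent.S15224.result R ((4 : R) * θ) c hc m h2 +
        ((-1 : R) ^ (m - 1) * c m * θ ^ (g - m)) * hlast
  exact key k hkg

end Groth.Agent.S15229
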