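import Groth.Statements.S1523
import Groth.Agent.Lib.CurveMult.Drop
import Groth.Agent.S1522
import Groth.Agent.Lib.Euler.AmpleCurve

set_option autoImplicit false
universe u
open CategoryTheory CategoryTheory.Limits AlgebraicGeometry
open Variety

namespace Groth.Agent.S1523

/-- On a proper curve over an algebraically closed field there is an invertible module whose H^0 is
one-dimensional and whose H^1 vanishes, and an invertible module whose H^0 and H^1 both vanish. -/
theorem result (k : Type u) [Field k] [IsAlgClosed k] (X : Scheme.{u}) [X.Over (Spec (CommRingCat.of k))]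
    [IsIntegral X] [IsProper (X ↘ (Spec (CommRingCat.of k)))] (hdim : topologicalKrullDim X = 1) :
    (∃ L : X.Modules, PicF.IsInvertible L ∧ Module.finrank k (Coh.HH X L 0) = 1 ∧ Subsingleton (Coh.HH X L 1)) ∧
    (∃ N : X.Modules, PicF.IsInvertible N ∧ Subsingleton (Coh.HH X N 0) ∧ Subsingleton (Coh.HH X N 1)) := by
  haveI := GrothLib.Euler.isNoetherian_of_proper (X := X) k
  obtain ⟨x, hxη, hreg⟩ := GrothLib.CurveMult.exists_regular_point k hdim
  obtain ⟨P, hP, hdP, -⟩ := GrothLib.CurveMult.exists_point_bundle k hdim.le hxη hreg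
  obtain ⟨c, ⟨e⟩⟩ := GrothLib.Ample.exists_cocycle hP
  have hinv : PicF.IsInvertible (c.twist (2 * Curv2.genus k X + 1)) := c.isInvertible_twist _
  have hdeg : Curv2.deg k X (c.twist (2 * Curv2.genus k X + 1)) 1 = 2 * (Curv2.genus k X : ℤ) + 1 := by
    rw [GrothLib.Euler.deg_twist k c hdim.le, ← GrothLib.Euler.deg_of_iso k e, hdP, mul_one]
    push_cast
    ring
  have h1 := Groth.Agent.S1522.result k X hdim _ hinv (by rw [hdeg]; omega)
  have hstep : ∀ (j : ℕ) (L : X.Modules), PicF.IsInvertible L → Subsingleton (Coh.HH X L 1) →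
      Module.finrank k (Coh.HH X L 0) = j → ∀ i ≤ j,
        ∃ M : X.Modules, PicF.IsInvertible M ∧ Module.finrank k (Coh.HH X M 0) = i ∧ Subsingleton (Coh.HH X M 1) := by
    intro j
    induction j with
    | zero => exact fun L hL hL1 hj i hi => ⟨L, hL, by omega, hL1⟩
    | succ j ih =>
      intro L hL hL1 hj i hi
      rcases Nat.lt_or_eq_of_le hi with hi | hi
      · obtain ⟨L', hL', hL'1, hL'0⟩ := GrothLib.CurveMult.exists_drop k hdim hL hL1 (by omega)
        exact ih L' hL' hL'1 (by omega) i (by omega)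
      · exact ⟨L, hL, by omega, hL1⟩
  have hpos : 1 ≤ Module.finrank k (Coh.HH X (c.twist (2 * Curv2.genus k X + 1)) 0) := by
    have h0 := GrothLib.CurveRR.finrank_H0_structure_eq_one k (X := X)
    have e0 := GrothLib.Euler.euler_structure (X := X) k hdim.le
    rw [h0] at e0
    haveI := (GrothLib.Euler.isCoh_of_isInvertible hinv).1
    have e1 := GrothLib.Euler.euler_le_finrank_H0 k hdim.le (c.twist (2 * Curv2.genus k X + 1))
    rw [Curv2.deg] at hdeg
    push_cast at *
    omega
  refine ⟨hstep _ _ hinv h1 rfl 1 hpos, ?_⟩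
  obtain ⟨N, hN, hN0, hN1⟩ := hstep _ _ hinv h1 rfl 0 (Nat.zero_le _)
  haveI := GrothLib.Euler.finiteDimensional_HH k (GrothLib.Euler.isCoh_of_isInvertible hN) 0
  exact ⟨N, hN, Module.finrank_zero_iff.1 hN0, hN1⟩

end Groth.Agent.S1523
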