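import Groth.Statements.S15231
import Groth.Agent.Lib.DCxRing.Fibres

set_option autoImplicit false
universe u
open CategoryTheory CategoryTheory.Limits
attribute [local instance] HasDerivedCategory.standard
open DRing

namespace Groth.Agent.S15231

/-- Let R be a Noetherian local commutative ring with residue field κ, let P be any object of D(R) and
a, b integers. Suppose that H^i(P ⊗^L_R κ) = 0 for every i outside [a, b] (over the field κ this
says exactly that P ⊗^L_R κ has tor amplitude in [a, b] as an object of D(κ)). Then for every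
R-module N of finite length, H^i(P ⊗^L_R N) = 0 for every i outside [a, b]. The derived base change
to κ and the derived tensor products with R-modules are the total left derived functors on D(R),
assumed to exist for every R-module (as they do). -/
theorem result (R : Type u) [CommRing R] [IsNoetherianRing R]
    [IsLocalRing R] [DRing.HasLBaseChange (IsLocalRing.residue R)] [∀ M : ModuleCat.{u} R, DRing.HasLTensor R M]
    (P : Dual.D R) (a b : ℤ)
    (h : ∀ i : ℤ, (i < a ∨ b < i) →
      Subsingleton (Dual.HD (IsLocalRing.ResidueField R) ((DRing.LBaseChange (IsLocalRing.residue R)).obj P) i))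
    (N : Type u) [AddCommGroup N] [Module R N] (hN : IsFiniteLength R N) (i : ℤ) (hi : i < a ∨ b < i) :
    Subsingleton (Dual.HD R ((DRing.LTensor R (ModuleCat.of R N)).obj P) i) := by
  obtain ⟨Q, hQ, hQf, ⟨e⟩⟩ := GrothLib.KF.exists_kflat_rep P
  obtain ⟨eN⟩ := GrothLib.KF.lTensor_value (ModuleCat.of R N) hQ
  refine GrothLib.DR.subsingleton_HD_of_iso (eN.symm ≪≫ (DRing.LTensor R (ModuleCat.of R N)).mapIso e) i
    ((GrothLib.DR.exactAt_iff _ i).1 ?_)
  have hN' := isFiniteLength_iff_isNoetherian_isArtinian.1 hN
  haveI : IsNoetherian R N := hN'.1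
  haveI : IsArtinian R N := hN'.2
  let m := IsLocalRing.maximalIdeal R
  obtain ⟨k, hk⟩ : ∃ k : ℕ, m ^ k • (⊤ : Submodule R N) = ⊥ := by
    obtain ⟨k, hk⟩ := IsArtinian.monotone_stabilizes (R := R) (M := N)
      ⟨fun j => OrderDual.toDual (m ^ j • (⊤ : Submodule R N)), fun a b hab =>
        Submodule.smul_mono_left (Ideal.pow_le_pow_right hab)⟩
    refine ⟨k, Submodule.eq_bot_of_le_smul_of_le_jacobson_bot m _ (IsNoetherian.noetherian _) ?_
      (IsLocalRing.maximalIdeal_le_jacobson _)⟩
    have := OrderDual.toDual.injective (hk (k + 1) (by omega))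
    rw [← Submodule.mul_smul, ← pow_succ']
    exact le_of_eq this
  refine GrothLib.DR.exactAt_tensor_of_pow hQf m i (fun X hX => ?_) k (ModuleCat.of R N) hk
  refine GrothLib.DR.exactAt_tensor_of_killed (IsLocalRing.residue R) IsLocalRing.residue_surjective i
    (fun M => GrothLib.DR.exactAt_tensor_of_field _ i
      (GrothLib.DR.exactAt_bc_of_lBase (IsLocalRing.residue R) hQ ⟨e⟩ i (h i hi)) M) X ?_
  rw [IsLocalRing.ker_residue]
  exact hX

end Groth.Agent.S15231
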