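import Groth.Statements.S15232
import Groth.Agent.Lib.DCxRing.Fibres

set_option autoImplicit false
universe u
open CategoryTheory CategoryTheory.Limits
attribute [local instance] HasDerivedCategory.standard
open DRing

namespace Groth.Agent.S15232

/-- Let R be a Noetherian commutative ring and I an ideal contained in the Jacobson radical of R, and
assume the derived base change D(R) → D(R/I) exists. Let P be a pseudo-coherent object of D(R) and
a, b integers. If P ⊗^L_R R/I has tor amplitude in [a, b] as an object of D(R/I), then P has tor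
amplitude in [a, b] as an object of D(R). Tor amplitude is taken in the flat-representative form
(isomorphic in the derived category to a complex of flat modules vanishing outside [a, b]). -/
theorem result (R : Type u) [CommRing R] [IsNoetherianRing R]
    (I : Ideal R) (hI : I ≤ Ideal.jacobson (⊥ : Ideal R)) [DRing.HasLBaseChange (Ideal.Quotient.mk I)]
    (P : Dual.D R) (hP : DRing.IsPseudoCoherent' R P) (a b : ℤ)
    (h : DRing.HasTorAmplitudeIn (R ⧸ I) a b ((DRing.LBaseChange (Ideal.Quotient.mk I)).obj P)) :
    DRing.HasTorAmplitudeIn R a b P := by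
  refine (GrothLib.DR.hasTorAmplitudeIn_of_fibres P hP a b fun Q hQ e m hm i hi => ?_).2
  have hIm : I ≤ m := hI.trans (sInf_le ⟨bot_le, hm⟩)
  obtain ⟨eQ⟩ := GrothLib.KF.lBase_value (Ideal.Quotient.mk I) hQ
  have h' := (GrothLib.KF.hasTorAmplitudeIn_iff_kflat (GrothLib.KF.isKFlat_bc (Ideal.Quotient.mk I) hQ) a b).1
    (GrothLib.DR.hasTorAmplitudeIn_of_iso ((DRing.LBaseChange (Ideal.Quotient.mk I)).mapIso e.some.symm ≪≫ eQ) h)
  refine (GrothLib.DR.exactAt_bc_iff (Ideal.Quotient.mk m) Q i).2 ((GrothLib.DR.tExact_iff Q (R ⧸ m) i).2 ?_)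
  refine GrothLib.DR.exactAt_tensor_of_killed (Ideal.Quotient.mk I) Ideal.Quotient.mk_surjective i
    (fun M => h' M i hi) _ ?_
  rw [Ideal.mk_ker]
  refine le_bot_iff.1 (Submodule.smul_le.2 fun r hr x _ => ?_)
  obtain ⟨y, rfl⟩ := Ideal.Quotient.mk_surjective x
  rw [Submodule.mem_bot]
  exact (Ideal.Quotient.eq_zero_iff_mem).2 (m.mul_mem_right y (hIm hr))

end Groth.Agent.S15232
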