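import Groth.Statements.S15233
import Groth.Agent.Lib.SheafCoh.Acyclic
-- import your own Groth.Agent.* helpers here

set_option autoImplicit false
universe u
open CategoryTheory CategoryTheory.Limits Opposite
open CohSite

namespace Groth.Agent.S15233

/-- Let C be a small category with a Grothendieck topology J, and let B be a class of objects forming a
prebasis: for every object V and every covering sieve S of V, the arrows of S whose domain lies in B
generate a covering sieve of V. If F is a presheaf of abelian groups on C such that F(U) = 0 for
every object U in B, then the sheafification of F is zero. -/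
theorem result {C : Type u} [SmallCategory C] (J : GrothendieckTopology C)
    (B : ObjectProperty C)
    (hB : ∀ (V : C) (S : Sieve V), S ∈ J V →
      Sieve.generate (fun (U : C) => {g : U ⟶ V | S.arrows g ∧ B U}) ∈ J V)
    (F : Cᵒᵖ ⥤ AddCommGrpCat.{u}) (hF : ∀ U : C, B U → IsZero (F.obj (op U))) :
    IsZero ((presheafToSheaf J AddCommGrpCat.{u}).obj F) := GrothLib.SheafCoh.isZero_sheafify_of_res_locally_zero F fun U x =>
  ⟨_, hB U ⊤ (J.top_mem U), fun V f hf => by
    obtain ⟨W, h, g, ⟨-, hW⟩, rfl⟩ := hf
    have hz := @Subsingleton.elim _ (AddCommGrpCat.subsingleton_of_isZero (hF W hW))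
      ((F.map g.op).hom x) 0
    rw [op_comp, F.map_comp, ConcreteCategory.comp_apply]
    exact (congrArg _ hz).trans (map_zero _)⟩

end Groth.Agent.S15233
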