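import Groth.Statements.S15235
import Mathlib.CategoryTheory.CofilteredSystem
-- import your own Groth.Agent.* helpers here

set_option autoImplicit false
universe u
open CategoryTheory Opposite
open HomAlg3

namespace Groth.Agent.S15235

/-- Let (G_j) be an inverse system of abelian groups indexed by the natural numbers, with transition
maps G_{j+1} → G_j, and let j₀ be a natural number such that the transition map G_{j+1} → G_j is
surjective for every j ≥ j₀. Then: (a) the system satisfies the Mittag-Leffler condition; (b) the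
evaluation map from the inverse limit (realised as the set of compatible families) to G_{j₀} is
surjective; (c) if in addition the transition maps G_{j+1} → G_j are injective for every j ≥ j₀,
that evaluation map is bijective. (The published statement indexes the system by the negative
integers and assumes j₀ ≥ 1; this row indexes it by the natural numbers and allows j₀ = 0, which
changes nothing.) -/
theorem result (G : ℕᵒᵖ ⥤ AddCommGrpCat.{u})
    (j₀ : ℕ) (hs : ∀ j : ℕ, j₀ ≤ j → Function.Surjective (G.map (homOfLE (Nat.le_succ j)).op).hom) :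
    (G ⋙ forget AddCommGrpCat.{u}).IsMittagLeffler ∧
      Function.Surjective (fun s : (G ⋙ forget AddCommGrpCat.{u}).sections => s.1 (op j₀)) ∧
      ((∀ j : ℕ, j₀ ≤ j → Function.Injective (G.map (homOfLE (Nat.le_succ j)).op).hom) →
        Function.Bijective (fun s : (G ⋙ forget AddCommGrpCat.{u}).sections => s.1 (op j₀))) := by
  classical
  let τ : ∀ {m n : ℕ}, n ≤ m → G.obj (op m) → G.obj (op n) := fun h x => (G.map (homOfLE h).op).hom x
  have τc : ∀ {m n l : ℕ} (h : n ≤ m) (h' : l ≤ n) (x : G.obj (op m)), τ h' (τ h x) = τ (h'.trans h) x :=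
    fun h h' x => (ConcreteCategory.congr_hom (G.map_comp (homOfLE h).op (homOfLE h').op) x).symm
  have τi : ∀ {m : ℕ} (x : G.obj (op m)), τ (le_refl m) x = x :=
    fun x => ConcreteCategory.congr_hom (G.map_id _) x
  have hsur : ∀ (j m : ℕ), j₀ ≤ j → ∀ (h : j ≤ m), Function.Surjective (τ h) := by
    intro j m hj h
    induction m, h using Nat.le_induction with
    | base => exact fun y => ⟨y, τi y⟩
    | succ m hm ih =>
        intro y
        obtain ⟨a, ha⟩ := ih y
        obtain ⟨b, hb⟩ := hs m (hj.trans hm) a
        exact ⟨b, (τc (Nat.le_succ m) hm b).symm.trans ((congrArg (τ hm) hb).trans ha)⟩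
  refine ⟨?_, ?_, fun hinj => ⟨?_, ?_⟩⟩
  · rw [Functor.isMittagLeffler_iff_subset_range_comp]
    intro j
    refine ⟨op (max j.unop j₀), (homOfLE (le_max_left _ _)).op, fun k g => ?_⟩
    rintro y ⟨x, rfl⟩
    have hle : max j.unop j₀ ≤ k.unop := g.unop.le
    obtain ⟨z, hz⟩ := hsur _ _ (le_max_right _ _) hle x
    refine ⟨z, ?_⟩
    exact ((τc hle (le_max_left _ _) z).symm.trans (congrArg (τ (le_max_left _ _)) hz))
  · intro y
    let r : ∀ k : ℕ, G.obj (op (j₀ + k)) := fun k =>
      Nat.rec (motive := fun k => G.obj (op (j₀ + k))) y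
        (fun k x => (hs (j₀ + k) (Nat.le_add_right _ _) x).choose) k
    have hr : ∀ k, τ (Nat.le_succ (j₀ + k)) (r (k + 1)) = r k := fun k =>
      (hs (j₀ + k) (Nat.le_add_right _ _) (r k)).choose_spec
    have hr' : ∀ k l (h : k ≤ l), τ (Nat.add_le_add_left h j₀) (r l) = r k := by
      intro k l h
      induction l, h using Nat.le_induction with
      | base => exact τi _
      | succ l hl ih =>
          exact (τc (Nat.le_succ (j₀ + l)) (Nat.add_le_add_left hl j₀) (r (l + 1))).symm.trans
            ((congrArg (τ _) (hr l)).trans ih)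
    refine ⟨⟨fun n => τ (Nat.le_add_left n.unop j₀) (r n.unop), fun {n m} g => ?_⟩, ?_⟩
    · have hle : m.unop ≤ n.unop := g.unop.le
      refine ((τc _ hle (r n.unop)).trans ?_)
      exact (τc (Nat.add_le_add_left hle j₀) (Nat.le_add_left _ _) (r n.unop)).symm.trans
        (congrArg (τ _) (hr' _ _ hle))
    · exact hr' 0 j₀ (Nat.zero_le _)
  · rintro ⟨a, ha⟩ ⟨b, hb⟩ hab
    have hge : ∀ j, j₀ ≤ j → a (op j) = b (op j) := by
      intro j hj
      induction j, hj using Nat.le_induction with
      | base => exact hab
      | succ j hj ih => exact hinj j hj ((ha _).trans (ih.trans (hb _).symm))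
    refine Subtype.ext (funext fun j => ?_)
    exact (ha (homOfLE (le_max_left j.unop j₀)).op).symm.trans
      ((congrArg _ (hge _ (le_max_right _ _))).trans (hb _))
  · intro y
    let r : ∀ k : ℕ, G.obj (op (j₀ + k)) := fun k =>
      Nat.rec (motive := fun k => G.obj (op (j₀ + k))) y
        (fun k x => (hs (j₀ + k) (Nat.le_add_right _ _) x).choose) k
    have hr : ∀ k, τ (Nat.le_succ (j₀ + k)) (r (k + 1)) = r k := fun k =>
      (hs (j₀ + k) (Nat.le_add_right _ _) (r k)).choose_spec
    have hr' : ∀ k l (h : k ≤ l), τ (Nat.add_le_add_left h j₀) (r l) = r k := by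
      intro k l h
      induction l, h using Nat.le_induction with
      | base => exact τi _
      | succ l hl ih =>
          exact (τc (Nat.le_succ (j₀ + l)) (Nat.add_le_add_left hl j₀) (r (l + 1))).symm.trans
            ((congrArg (τ _) (hr l)).trans ih)
    refine ⟨⟨fun n => τ (Nat.le_add_left n.unop j₀) (r n.unop), fun {n m} g => ?_⟩, ?_⟩
    · have hle : m.unop ≤ n.unop := g.unop.le
      refine ((τc _ hle (r n.unop)).trans ?_)
      exact (τc (Nat.add_le_add_left hle j₀) (Nat.le_add_left _ _) (r n.unop)).symm.trans
        (congrArg (τ _) (hr' _ _ hle))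
    · exact hr' 0 j₀ (Nat.zero_le _)

end Groth.Agent.S15235
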