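import Groth.Statements.S15236
import Groth.Agent.Lib.GenFib0.Main
-- import your own Groth.Agent.* helpers here

set_option autoImplicit false
open CategoryTheory CategoryTheory.Limits AlgebraicGeometry
universe u
open Variety

namespace Groth.Agent.S15236

/-- Let k be an uncountable algebraically closed field of characteristic zero, T an integral k-scheme of
finite type and f : X → T a flat morphism of finite type. Then there are countably many closed
subsets Z₀, Z₁, … of T, none of them equal to T, such that for every closed point t of T lying in no
Zₙ the fibre X_t = X ×_T Spec κ(t) is isomorphic, as a scheme, to the geometric generic fibre X ×_T
Spec L, where L is an algebraic closure of the residue field of T at its generic point (existence of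
an isomorphism of schemes only; that such an isomorphism preserves rational equivalence of algebraic
cycles, as the published statement adds, is automatic and is not restated). (The published statement
fixes the countable family of closed subsets before the family X → T and allows any flat T-scheme X
over any integral k-scheme T. Both fail: for T the affine line and X the spectrum of its function
field every closed fibre is empty while the geometric generic fibre is a point, and for any fixed
countable family of proper closed subsets of the affine line, X the complement of a closed point
outside all of them has an empty fibre there. This row takes T and f of finite type and lets the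
closed subsets depend on f.) -/
theorem result (k : Type u) [Field k] [IsAlgClosed k]
    [CharZero k] [Uncountable k] (T X : Scheme.{u}) (sT : T ⟶ Spec (CommRingCat.of k)) [IsIntegral T]
    [LocallyOfFiniteType sT] [QuasiCompact sT] (f : X ⟶ T) [Flat f] [LocallyOfFiniteType f]
    [QuasiCompact f] :
    ∃ Z : ℕ → TopologicalSpace.Closeds T, (∀ n, (Z n : Set T) ≠ Set.univ) ∧
      ∀ t : T, IsClosed ({t} : Set T) → (∀ n, t ∉ Z n) →
        Nonempty (f.fiber t ≅ pullback f (Spec.map (CommRingCat.ofHom (algebraMap
          (T.residueField (genericPoint T)) (AlgebraicClosure (T.residueField (genericPoint T))))) ≫
            T.fromSpecResidueField (genericPoint T))) := by
  exact GrothLib.GenFib0.exists_closeds_fiber_iso k T X sT f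

end Groth.Agent.S15236
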