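import Groth.Statements.S15240
import Groth.Agent.Lib.Orbit27.Prod
-- import your own Groth.Agent.* helpers here

set_option autoImplicit false
universe u
open CategoryTheory CategoryTheory.Limits MonoidalCategory CartesianMonoidalCategory MonObj GrpObj AlgebraicGeometry
open AGF

namespace Groth.Agent.S15240

/-- Let k be an algebraically closed field, B a connected solvable affine algebraic group over k
(affine, smooth, connected, solvable k-group scheme) acting on a complete k-scheme X (separated, of
finite type and proper over k) with finitely many orbits (finitely many subsets of X arise as images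
of orbit maps of k-points), and Y a separated k-scheme of finite type on which B acts trivially.
Then every closed irreducible subset Z of X ×_k Y which is stable under the translations by all
k-points of B (acting on the first factor) is of the form V × W: there are a B-stable closed
irreducible subset V of X and a closed irreducible subset W of Y with Z equal to the set of points
whose two projections lie in V and in W. -/
theorem result (k : Type u) [Field k] [IsAlgClosed k]
    (B X Y : Over (Spec (CommRingCat.of k))) [GrpObj B] [IsAffine B.left] [Smooth B.hom] [ConnectedSpace ↥B.left]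
    (hsolv : Red.IsSolvableGrp B)
    [IsProper X.hom]
    [IsSeparated Y.hom] [LocallyOfFiniteType Y.hom] [QuasiCompact Y.hom]
    (a : AlgGrp.Action B X)
    (hfin : Set.Finite {S : Set ↥X.left | ∃ x : 𝟙_ (Over (Spec (CommRingCat.of k))) ⟶ X, S = Set.range ⇑(a.orbitMap x).left.base})
    (Z : Set ↥(X ⊗ Y).left) (hZc : IsClosed Z) (hZi : IsIrreducible Z)
    (hZs : ∀ b : 𝟙_ (Over (Spec (CommRingCat.of k))) ⟶ B,
      ⇑(CartesianMonoidalCategory.lift (CartesianMonoidalCategory.toUnit (X ⊗ Y) ≫ b) (𝟙 (X ⊗ Y)) ≫
          (α_ B X Y).inv ≫ (a.act ▷ Y)).left.base '' Z ⊆ Z) :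
    ∃ (V : Set ↥X.left) (W : Set ↥Y.left), IsClosed V ∧ IsIrreducible V ∧ IsClosed W ∧ IsIrreducible W ∧
      (∀ b : 𝟙_ (Over (Spec (CommRingCat.of k))) ⟶ B,
        ⇑(CartesianMonoidalCategory.lift (CartesianMonoidalCategory.toUnit X ≫ b) (𝟙 X) ≫ a.act).left.base '' V ⊆ V) ∧
      Z = ⇑(CartesianMonoidalCategory.fst X Y).left.base ⁻¹' V ∩ ⇑(CartesianMonoidalCategory.snd X Y).left.base ⁻¹' W := by
  refine GrothLib.Orbit27.main a hfin Z hZc hZi fun b => ?_
  rw [← GrothLib.Orbit27.translate_eq]
  exact hZs b

end Groth.Agent.S15240
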