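import Groth.Statements.S15245
import Groth.Agent.Lib.RootDatum.Weyl
import Mathlib.Data.Set.Card

set_option autoImplicit false
universe u
open CategoryTheory AlgebraicGeometry
open RedSub

namespace Groth.Agent.S15245

section helpers

open GrothLib.RootDatum

variable {idx M N : Type} [Finite idx] [AddCommGroup M] [AddCommGroup N] {P : RootPairing idx ℤ M N}

theorem wordPerm_apply (l : List idx) (k : idx) : RedSub.wordPerm P l k = word P l • k := by
  induction l generalizing k with
  | nil => simp [RedSub.wordPerm, word]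
  | cons a t ih =>
    simp only [RedSub.wordPerm, word, List.map_cons, List.prod_cons, Equiv.Perm.mul_apply, mul_smul] at ih ⊢
    rw [ih, refl_smul]

theorem posRoots_iff (b : P.Base) (k : idx) :
    (k ∈ RedSub.posRoots P b ↔ 0 < (IsSimple.of_base P b).ht k) ∧
      (k ∈ RedSub.negRoots P b ↔ (IsSimple.of_base P b).ht k < 0) := by
  have h := IsSimple.of_base P b
  refine ⟨h.mem_posOf_iff_ht, ?_⟩
  have : k ∈ RedSub.negRoots P b ↔ nr P k ∈ RootD.posOf P (b.support : Set idx) := by
    simp only [RedSub.negRoots, RootD.posOf, RootD.natSpan, Set.mem_ofPred_eq, Set.mem_setOf_eq, root_nr]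
  rw [this, h.mem_posOf_iff_ht, h.ht_nr, neg_pos]

end helpers

section inversions

open GrothLib.RootDatum

variable {idx M N : Type} [Finite idx] [AddCommGroup M] [AddCommGroup N] {P : RootPairing idx ℤ M N}
  {Δ : Set idx} (h : IsSimple P Δ)

/-- The positive roots made negative by g. -/
noncomputable def inv' (g : P.Aut) : Set idx := {a | 0 < h.ht a ∧ h.ht (g • a) < 0}

include h in
theorem ht_ne_zero (k : idx) : h.ht k ≠ 0 := by
  intro e
  rcases h.mem_or_neg_mem k with hk | hk
  · have := h.ht_pos hk; omega
  · have hk' : nr P k ∈ RootD.posOf P Δ := by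
      simp only [RootD.posOf, Set.mem_ofPred_eq, Set.mem_setOf_eq, root_nr]
      exact hk
    have := h.ht_pos hk'
    rw [h.ht_nr] at this; omega

theorem ht_reflection (j k : idx) :
    h.ht (P.reflectionPerm j k) = h.ht k - pz P k j * h.ht j := by
  classical
  have hc : h.coeff (P.reflectionPerm j k) = h.coeff k - pz P k j • h.coeff j := by
    refine (h.eq_coeff ?_ ?_).symm
    · refine (Finset.coe_subset.mpr Finsupp.support_sub).trans ?_
      rw [Finset.coe_union]
      exact Set.union_subset (h.coeff_support k)
        ((Finset.coe_subset.mpr Finsupp.support_smul).trans (h.coeff_support j))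
    · rw [map_sub, map_smul, h.linearCombination_coeff, h.linearCombination_coeff, root_refl]
  simp only [IsSimple.ht, hc]
  rw [Finsupp.sum_sub_index (fun _ _ _ => rfl), Finsupp.sum_smul_index' (fun _ => rfl)]
  simp only [smul_eq_mul, Finsupp.sum, Finset.mul_sum]

theorem ncard_lt (g : P.Aut) {c : idx} (hc : 0 < h.ht c) (hd : 0 < h.ht (g⁻¹ • c)) :
    (inv' h g).ncard < (inv' h (refl P c * g)).ncard := by
  classical
  set d := g⁻¹ • c
  set s := P.reflectionPerm d
  have hcd : g • d = c := smul_inv_smul g c
  have hss : ∀ x, s (s x) = x := P.reflectionPerm_self d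
  have hgs : refl P c * g = g * refl P d := by
    rw [← hcd, ← conj_refl, inv_mul_cancel_right]
  have key : ∀ a ∈ inv' h g, ¬ 0 < h.ht (s a) → h.ht (g • s a) < 0 := by
    rintro a ⟨ha, hga⟩ hn
    rw [ht_reflection h d a] at hn
    have hp : 0 < pz P a d := by nlinarith
    have e : g • s a = P.reflectionPerm c (g • a) := by
      have := congrArg (fun k : P.Aut => k • a) hgs
      simp only [mul_smul, refl_smul] at this
      exact this.symm
    rw [e, ht_reflection h c (g • a), ← hcd, pz_smul, hcd]
    nlinarith [mul_pos hp hc]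
  let φ : idx → idx := fun a => if 0 < h.ht (s a) then s a else a
  have hsub : φ '' inv' h g ⊆ inv' h (refl P c * g) := by
    rintro _ ⟨a, ha, rfl⟩
    by_cases hp : 0 < h.ht (s a)
    · simp only [φ, if_pos hp]
      refine ⟨hp, ?_⟩
      rw [hgs, mul_smul, refl_smul, hss]
      exact ha.2
    · simp only [φ, if_neg hp]
      refine ⟨ha.1, ?_⟩
      rw [hgs, mul_smul, refl_smul]
      exact key a ha hp
  have hinj : Set.InjOn φ (inv' h g) := by
    intro a ha a' ha' e
    simp only [φ] at e
    split_ifs at e with h1 h2 h2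
    · exact s.injective e
    · rw [← e, hss] at h2; exact absurd ha.1 h2
    · rw [e, hss] at h1; exact absurd ha'.1 h1
    · exact e
  have hmem : d ∈ inv' h (refl P c * g) := by
    refine ⟨hd, ?_⟩
    rw [mul_smul, hcd, refl_smul, show P.reflectionPerm c c = nr P c from rfl, h.ht_nr]
    omega
  have hnot : d ∉ φ '' inv' h g := by
    rintro ⟨a, ha, e⟩
    simp only [φ] at e
    split_ifs at e with h1
    · have : a = nr P d := by rw [← hss a, e]
      rw [this] at ha
      have := ha.1
      rw [h.ht_nr] at this; omega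
    · rw [e] at ha
      have := ha.2
      rw [hcd] at this; omega
  calc (inv' h g).ncard = (φ '' inv' h g).ncard := (Set.ncard_image_of_injOn hinj).symm
    _ < _ := Set.ncard_lt_ncard ⟨hsub, fun hh => hnot (hh hmem)⟩ (Set.toFinite _)

end inversions

/-- Let Φ be a finite reduced root system (a reduced root pairing over ℤ on a finite index set) with a
base b, w an element of its Weyl group, given as the product of the reflections along a word l and
acting on the roots, and γ a positive root. Writing ℓ(u) for the number of positive roots a with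
u(a) negative, one has ℓ(w) < ℓ(σ_γ w) if and only if w⁻¹(γ) is positive. (Here the length is taken
as the number of inverted positive roots.) -/
theorem result {idx M N : Type}
    [AddCommGroup M] [AddCommGroup N] [Finite idx]
    (P : RootPairing idx ℤ M N) [P.IsReduced] (b : P.Base) (l : List idx) (c : idx)
    (hc : c ∈ RedSub.posRoots P b) :
    Set.ncard {a : idx | a ∈ RedSub.posRoots P b ∧ RedSub.wordPerm P l a ∈ RedSub.negRoots P b} <
        Set.ncard {a : idx | a ∈ RedSub.posRoots P b ∧
          (P.reflectionPerm c * RedSub.wordPerm P l) a ∈ RedSub.negRoots P b} ↔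
      (RedSub.wordPerm P l)⁻¹ c ∈ RedSub.posRoots P b := by
  classical
  set g := GrothLib.RootDatum.word P l with hg
  set hb := GrothLib.RootDatum.IsSimple.of_base P b with hbdef
  have hc' := (posRoots_iff b c).1.mp hc
  have e1 : {a : idx | a ∈ RedSub.posRoots P b ∧ RedSub.wordPerm P l a ∈ RedSub.negRoots P b} = inv' hb g := by
    ext a; simp [inv', (posRoots_iff b _).1, (posRoots_iff b _).2, wordPerm_apply, hg]
  have e2 : {a : idx | a ∈ RedSub.posRoots P b ∧ (P.reflectionPerm c * RedSub.wordPerm P l) a ∈ RedSub.negRoots P b} =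
      inv' hb (GrothLib.RootDatum.refl P c * g) := by
    ext a
    simp only [inv', Set.mem_ofPred_eq, Set.mem_setOf_eq, Equiv.Perm.mul_apply, (posRoots_iff b _).1, (posRoots_iff b _).2, wordPerm_apply, mul_smul, GrothLib.RootDatum.refl_smul, ← hg, ← hbdef]
  have e3 : (RedSub.wordPerm P l)⁻¹ c = g⁻¹ • c := by
    rw [Equiv.Perm.inv_def, Equiv.symm_apply_eq, wordPerm_apply, ← hg, smul_inv_smul]
  rw [e1, e2, (posRoots_iff b _).1, e3, ← hbdef]
  refine ⟨fun hlt => ?_, fun hpos => ncard_lt hb g hc' hpos⟩
  by_contra hn
  have hd : (GrothLib.RootDatum.refl P c * g)⁻¹ • c = GrothLib.RootDatum.nr P (g⁻¹ • c) := by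
    rw [mul_inv_rev, mul_smul, inv_eq_of_mul_eq_one_right (GrothLib.RootDatum.refl_mul_self c),
      GrothLib.RootDatum.refl_smul, GrothLib.RootDatum.smul_nr]
  have h' := ncard_lt hb (GrothLib.RootDatum.refl P c * g) hc' (by
    rw [hd, hb.ht_nr]
    have := ht_ne_zero hb (g⁻¹ • c)
    omega)
  rw [← mul_assoc, GrothLib.RootDatum.refl_mul_self, one_mul] at h'
  omega

end Groth.Agent.S15245
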