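import Groth.Statements.S15246
import Groth.Agent.Lib.Kleiman27.Apps
-- import your own Groth.Agent.* helpers here

set_option autoImplicit false
universe u
open CategoryTheory CategoryTheory.Limits MonoidalCategory CartesianMonoidalCategory MonObj GrpObj AlgebraicGeometry
open AGF

namespace Groth.Agent.S15246

/-- Let k be an algebraically closed field of characteristic zero, G a group variety over k (integral,
separated, of finite type k-group scheme) acting on a smooth variety X over k (integral, separated,
smooth of finite type) of dimension n with finitely many orbits (finitely many subsets of X arise as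
images of orbit maps of k-points), and let Y₁, Y₂ be closed irreducible subsets of X of dimensions r
and s which meet every orbit closure properly: for every k-point x of X whose orbit closure has
dimension d, every irreducible component of Y₁ ∩ closure(orbit), resp. Y₂ ∩ closure(orbit), has
dimension r + d − n, resp. s + d − n. Then there is a nonempty open V ⊆ G such that for every
k-point g of G lying in V the translate g · Y₁ meets Y₂ properly — every irreducible component of g
· Y₁ ∩ Y₂ has dimension r + s − n — and g · Y₁ ∩ Y₂ meets every orbit closure properly — for every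
k-point x whose orbit closure has dimension d, every irreducible component of (g · Y₁ ∩ Y₂) ∩
closure(orbit) has dimension r + s + d − 2n. (The published statement also asserts multiplicity one
along each component of g · Y₁ ∩ Y₂, which is not stated here. The published setting is over the
complex numbers with G affine; this row assumes an algebraically closed field of characteristic zero
and any group variety, which is all the printed argument uses.) -/
theorem result (k : Type u) [Field k] [IsAlgClosed k]
    [CharZero k] (G X : Over (Spec (CommRingCat.of k))) [GrpObj G] (a : AlgGrp.Action G X)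
    [IsIntegral G.left] [IsSeparated G.hom] [LocallyOfFiniteType G.hom] [QuasiCompact G.hom]
    [IsIntegral X.left] [IsSeparated X.hom] [Smooth X.hom] [QuasiCompact X.hom]
    (hfin : Set.Finite {S : Set ↥X.left | ∃ x : 𝟙_ (Over (Spec (CommRingCat.of k))) ⟶ X, S = Set.range ⇑(a.orbitMap x).left.base})
    (Y₁ Y₂ : Set ↥X.left) (h₁c : IsClosed Y₁) (h₁i : IsIrreducible Y₁) (h₂c : IsClosed Y₂) (h₂i : IsIrreducible Y₂)
    (n r s : ℕ) (hn : topologicalKrullDim ↥X.left = n) (hr : topologicalKrullDim ↥Y₁ = r)
    (hs : topologicalKrullDim ↥Y₂ = s)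
    (hproper : ∀ (x : 𝟙_ (Over (Spec (CommRingCat.of k))) ⟶ X) (d : ℕ), topologicalKrullDim ↥(closure (Set.range ⇑(a.orbitMap x).left.base)) = d →
      (∀ C ∈ irreducibleComponents ↥(Y₁ ∩ closure (Set.range ⇑(a.orbitMap x).left.base)),
          n ≤ r + d ∧ topologicalKrullDim ↥C = ((r + d - n : ℕ) : WithBot ℕ∞)) ∧
      (∀ C ∈ irreducibleComponents ↥(Y₂ ∩ closure (Set.range ⇑(a.orbitMap x).left.base)),
          n ≤ s + d ∧ topologicalKrullDim ↥C = ((s + d - n : ℕ) : WithBot ℕ∞))) :
    ∃ V : G.left.Opens, (V : Set ↥G.left).Nonempty ∧
      ∀ σ : 𝟙_ (Over (Spec (CommRingCat.of k))) ⟶ G, Set.range ⇑σ.left.base ⊆ (V : Set ↥G.left) →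
        (∀ C ∈ irreducibleComponents ↥(⇑(CartesianMonoidalCategory.lift (CartesianMonoidalCategory.toUnit X ≫ σ) (𝟙 X) ≫ a.act).left.base '' Y₁ ∩ Y₂),
          n ≤ r + s ∧ topologicalKrullDim ↥C = ((r + s - n : ℕ) : WithBot ℕ∞)) ∧
        ∀ (x : 𝟙_ (Over (Spec (CommRingCat.of k))) ⟶ X) (d : ℕ), topologicalKrullDim ↥(closure (Set.range ⇑(a.orbitMap x).left.base)) = d →
          ∀ C ∈ irreducibleComponents ↥((⇑(CartesianMonoidalCategory.lift (CartesianMonoidalCategory.toUnit X ≫ σ) (𝟙 X) ≫ a.act).left.base '' Y₁ ∩ Y₂) ∩ closure (Set.range ⇑(a.orbitMap x).left.base)),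
            2 * n ≤ r + s + d ∧ topologicalKrullDim ↥C = ((r + s + d - 2 * n : ℕ) : WithBot ℕ∞) := by
  exact GrothLib.Kleiman27.proper a hfin Y₁ Y₂ h₁c h₂c h₂i n r s hn hs hproper

end Groth.Agent.S15246
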