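import Groth.Statements.S15247
import Groth.Agent.Lib.Dim.Ring
import Mathlib.RingTheory.AlgebraicIndependent.TranscendenceBasis
import Mathlib.Data.Sym.Card
import Mathlib.RingTheory.MvPolynomial.Basic
import Mathlib.RingTheory.KrullDimension.Basic
import Mathlib.RingTheory.KrullDimension.Zero
import Mathlib.Data.Finsupp.Multiset
import Mathlib.LinearAlgebra.Dimension.Constructions
import Groth.Agent.Lib.FanoGen.Incidence

set_option autoImplicit false
set_option linter.all false
open Fano

namespace Groth.Agent.S15247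

/-- Over ℂ, let Y be an irreducible closed subscheme of projective m-space of dimension m − d, where 1 ≤
d and d + 1 ≤ m. Then the hypersurfaces of degree d + 1 containing Y form a linear family of
codimension at least m + 1 (that is, greater than m) in the projective space of all hypersurfaces of
degree d + 1. Here Y is given by a homogeneous ideal I of ℂ[x_0, …, x_m] whose radical is prime and
with dim ℂ[x_0, …, x_m]/I = m + 1 − d, a hypersurface contains Y when its form lies in I, and the
conclusion reads: the forms of degree d + 1 in I span a subspace of codimension at least m + 1 in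
the space of all forms of degree d + 1. -/
theorem result (m d : ℕ) (hd : 1 ≤ d) (hdm : d + 1 ≤ m)
    (I : Ideal (MvPolynomial (Fin (m + 1)) ℂ))
    (hI : I.IsHomogeneous (CohB1.polyGrading m ℂ))
    (hirr : I.radical.IsPrime)
    (hdim : ringKrullDim (MvPolynomial (Fin (m + 1)) ℂ ⧸ I) = ((m + 1 - d : ℕ) : WithBot ℕ∞)) :
    m + 1 + Module.finrank ℂ ↥(CohB1.polyGrading m ℂ (d + 1) ⊓ Submodule.restrictScalars ℂ I)
      ≤ Module.finrank ℂ (LefPen.Form m ℂ (d + 1)) := by
  classical
  set P := I.radical
  haveI := hirr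
  let A := MvPolynomial (Fin (m + 1)) ℂ ⧸ P
  obtain ⟨r, hr, hr'⟩ := GrothLib.Dim.exists_nat_trdeg_eq_and_ringKrullDim_eq ℂ A
  have hr0 : r = m + 1 - d := by
    have h1 : ringKrullDim A = ringKrullDim (MvPolynomial (Fin (m + 1)) ℂ ⧸ I) := by
      rw [ringKrullDim_quotient, ringKrullDim_quotient, PrimeSpectrum.zeroLocus_radical]
    rw [hr', hdim] at h1
    exact_mod_cast h1
  let q : MvPolynomial (Fin (m + 1)) ℂ →ₐ[ℂ] A := Ideal.Quotient.mkₐ ℂ P
  let s : Set A := Set.range fun i => q (MvPolynomial.X i)
  haveI : Algebra.IsAlgebraic (Algebra.adjoin ℂ s) A := ⟨fun a => by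
    have htop : Algebra.adjoin ℂ s = ⊤ := by
      rw [show s = q '' Set.range MvPolynomial.X by rw [← Set.range_comp]; rfl, ← AlgHom.map_adjoin,
        MvPolynomial.adjoin_range_X, Algebra.map_top, AlgHom.range_eq_top]
      exact Ideal.Quotient.mkₐ_surjective ℂ P
    exact isAlgebraic_algebraMap (⟨a, htop ▸ Algebra.mem_top⟩ : Algebra.adjoin ℂ s)⟩
  obtain ⟨t, hts, ht⟩ := exists_isTranscendenceBasis_subset (R := ℂ) s
  have hcard := ht.cardinalMk_eq_trdeg
  rw [hr] at hcard
  have hfin : Finite t := (Set.finite_range _).subset hts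
  haveI := Fintype.ofFinite t
  have htcard : Fintype.card t = m + 1 - d := by
    rw [Cardinal.mk_fintype] at hcard
    rw [← hr0]
    exact_mod_cast hcard
  choose idx hidx using fun a : t => hts a.2
  -- monomials of degree `d + 1` in the independent coordinates
  let v : Sym t (d + 1) → MvPolynomial (Fin (m + 1)) ℂ := fun x =>
    MvPolynomial.rename idx (MvPolynomial.monomial (Multiset.toFinsupp (x : Multiset t)) 1)
  have hv : ∀ x, v x ∈ CohB1.polyGrading m ℂ (d + 1) := fun x => by
    refine (MvPolynomial.mem_homogeneousSubmodule _ _).2 (MvPolynomial.IsHomogeneous.rename_isHomogeneous ?_)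
    refine MvPolynomial.isHomogeneous_monomial _ ?_
    rw [Finsupp.degree_apply]
    have h := Multiset.toFinsupp_sum_eq (x : Multiset t)
    rw [show Multiset.card (x : Multiset t) = d + 1 from x.2] at h
    simpa [Finsupp.sum] using h
  let f : LefPen.Form m ℂ (d + 1) →ₗ[ℂ] A := q.toLinearMap.comp (CohB1.polyGrading m ℂ (d + 1)).subtype
  have hli : LinearIndependent ℂ fun x => f ⟨v x, hv x⟩ := by
    have h1 : LinearIndependent ℂ fun x : Sym t (d + 1) =>
        (MvPolynomial.monomial (Multiset.toFinsupp (x : Multiset t)) (1 : ℂ)) := by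
      have := (MvPolynomial.basisMonomials t ℂ).linearIndependent.comp
        (fun x : Sym t (d + 1) => Multiset.toFinsupp (x : Multiset t))
        (Multiset.toFinsupp.injective.comp Sym.coe_injective)
      simpa [Function.comp_def, MvPolynomial.coe_basisMonomials] using this
    have h2 := h1.map' (MvPolynomial.aeval (R := ℂ) ((↑) : t → A)).toLinearMap (LinearMap.ker_eq_bot.2 ht.1)
    have hcomp : q.comp (MvPolynomial.rename idx) = MvPolynomial.aeval ((↑) : t → A) :=
      MvPolynomial.algHom_ext fun a => by simp [← hidx a]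
    have e : (fun x => f ⟨v x, hv x⟩) =
        (MvPolynomial.aeval (R := ℂ) ((↑) : t → A)).toLinearMap ∘ fun x : Sym t (d + 1) =>
          MvPolynomial.monomial (Multiset.toFinsupp (x : Multiset t)) (1 : ℂ) :=
      funext fun x => AlgHom.congr_fun hcomp _
    rw [e]
    exact h2
  haveI : Module.Finite ℂ ↥(CohB1.polyGrading m ℂ (d + 1)) := Module.Finite.equiv
    (GrothLib.FanoGen.coeffs (k := ℂ) (n := m) (d := d + 1)).symm
  have hrange : Fintype.card (Sym t (d + 1)) ≤ Module.finrank ℂ ↥(LinearMap.range f) := by
    have h3 : LinearIndependent ℂ fun x => f.rangeRestrict ⟨v x, hv x⟩ :=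
      LinearIndependent.of_comp (LinearMap.range f).subtype hli
    exact h3.fintype_card_le_finrank
  have hker : Module.finrank ℂ ↥(CohB1.polyGrading m ℂ (d + 1) ⊓ Submodule.restrictScalars ℂ I) ≤
      Module.finrank ℂ ↥(LinearMap.ker f) := by
    refine LinearMap.finrank_le_finrank_of_injective (f :=
      ((Submodule.inclusion (inf_le_left : CohB1.polyGrading m ℂ (d + 1) ⊓ Submodule.restrictScalars ℂ I ≤ _)).codRestrict
        (LinearMap.ker f) fun x => Ideal.Quotient.eq_zero_iff_mem.2 (Ideal.le_radical x.2.2))) ?_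
    exact fun a b h => Subtype.ext (congrArg (fun z : ↥(LinearMap.ker f) => z.1.1) h)
  have hsum := LinearMap.finrank_range_add_finrank_ker f
  have hcnt : m + 1 ≤ Fintype.card (Sym t (d + 1)) := by
    rw [Sym.card_sym_eq_choose, htcard, show m + 1 - d + (d + 1) - 1 = m + 1 by omega]
    have key : ∀ a l : ℕ, a + 1 + l + 1 ≤ (a + 1 + l + 1).choose (a + 1) := by
      intro a l
      induction l with
      | zero => simp [Nat.choose_succ_self_right]
      | succ l ih =>
        rw [show a + 1 + (l + 1) + 1 = (a + 1 + l + 1) + 1 by omega, Nat.choose_succ_succ']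
        have hpos := Nat.choose_pos (show a ≤ a + 1 + l + 1 by omega)
        omega
    obtain ⟨l, rfl⟩ : ∃ l, m = d + 1 + l := ⟨m - (d + 1), by omega⟩
    exact key d l
  omega

end Groth.Agent.S15247
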