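import Groth.Statements.S15249
import Groth.Agent.Lib.RegSeqGen12.Lines
import Mathlib.Analysis.Complex.Polynomial.Basic

set_option autoImplicit false
open Fano

namespace Groth.Agent.S15249

/-- Over ℂ, let 1 ≤ d ≤ n − 3. For a general hypersurface X of degree d in projective n-space and every
point p of X, the lines contained in X and passing through p form a family of dimension at most n −
d − 1. Here X is given by a form Φ of degree d in n + 1 variables; general means on a set of forms
containing the non-vanishing locus of a nonzero polynomial function; a point of X is a nonzero zero
v of Φ; and the family of lines through [v] on X is measured by the cone C_v of all w in ℂ^(n+1)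
such that Φ vanishes identically on the span of v and w, whose codimension in ℂ^(n+1) is asked to be
at least d (C_v is the inverse image in ℂ^(n+1) of the affine cone over that family of lines, a
subset of the projective space of lines through [v], so this says the family has dimension at most n
− d − 1). (The published statement concludes that, for general X, the projection onto X of the
scheme of pointed lines on X is flat with fibres of dimension n − d − 1; this row states only the
upper bound n − d − 1 on the dimension of the family of lines through each point of X.) -/
theorem result (n d : ℕ) (hd : 1 ≤ d) (hdn : d + 3 ≤ n) :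
    LefPen.IsGeneric ℂ {Φ : LefPen.Form n ℂ d |
      ∀ v : Fin (n + 1) → ℂ, v ≠ 0 → MvPolynomial.eval v Φ.1 = 0 →
        LefPen.CodimGE ℂ {w : Fin (n + 1) → ℂ | ∀ s t : ℂ, MvPolynomial.eval (s • v + t • w) Φ.1 = 0} d} := by
  obtain ⟨m, rfl⟩ : ∃ m, n = m + 1 := ⟨n - 1, by omega⟩
  exact GrothLib.RegSeqGen12.isGeneric_lines (by omega)

end Groth.Agent.S15249
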