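import Groth.Statements.S15252
import Groth.Agent.Lib.CubicForm.Eckardt
import Groth.Agent.S14372
import Mathlib.LinearAlgebra.Matrix.Notation
import Mathlib.Algebra.Module.Submodule.Union
import Mathlib.Analysis.Complex.Polynomial.Basic

set_option autoImplicit false
set_option linter.all false
open Fano

namespace Groth.Agent.S15252

/-- Let X be a smooth cubic hypersurface in projective 4-space over ℂ and let L₁, L₂ be two distinct
lines on X which meet. Then there is a finite set G of points of L₁ such that every line on X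
meeting both L₁ and L₂ passes through a point of G. Here X is given by a cubic form f in five
variables satisfying the Jacobian smoothness condition at every nonzero zero, a line on X is a
2-dimensional subspace of ℂ^5 on which f vanishes, two lines meet when the subspaces intersect
non-trivially, and a point of L₁ is a 1-dimensional subspace of it. (The published statement also
covers two disjoint lines; this row assumes that L₁ and L₂ meet.) -/
theorem result
    (f : MvPolynomial (Fin 5) ℂ) (hf : f.IsHomogeneous 3)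
    (hsm : ∀ u : Fin 5 → ℂ, u ≠ 0 → MvPolynomial.eval u f = 0 →
      ∃ i : Fin 5, MvPolynomial.eval u (MvPolynomial.pderiv i f) ≠ 0)
    (L₁ L₂ : Submodule ℂ (Fin 5 → ℂ)) (h₁ : Module.finrank ℂ ↥L₁ = 2) (h₂ : Module.finrank ℂ ↥L₂ = 2)
    (hf₁ : ∀ u ∈ L₁, MvPolynomial.eval u f = 0) (hf₂ : ∀ u ∈ L₂, MvPolynomial.eval u f = 0)
    (hne : L₁ ≠ L₂) (hmeet : L₁ ⊓ L₂ ≠ ⊥) :
    ∃ G : Set (Submodule ℂ (Fin 5 → ℂ)), G.Finite ∧ (∀ g ∈ G, Module.finrank ℂ ↥g = 1 ∧ g ≤ L₁) ∧
      ∀ L : Submodule ℂ (Fin 5 → ℂ), Module.finrank ℂ ↥L = 2 → (∀ u ∈ L, MvPolynomial.eval u f = 0) →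
        L ⊓ L₁ ≠ ⊥ → L ⊓ L₂ ≠ ⊥ → ∃ g ∈ G, g ≤ L := by
  classical
  set T := GrothLib.CubicForm.ofPoly f with hT
  have hiff := GrothLib.CubicForm.ofPoly_line_iff hf
  obtain ⟨o, hom, ho0⟩ := Submodule.exists_mem_ne_zero_of_ne_bot hmeet
  obtain ⟨p, hp, hpo⟩ := GrothLib.CubicForm.exists_mem_notMem_span_singleton (U := L₁) (by rw [h₁]) o
  obtain ⟨q, hq, hqo⟩ := GrothLib.CubicForm.exists_mem_notMem_span_singleton (U := L₂) (by rw [h₂]) o
  have e₁ := GrothLib.CubicForm.eq_span_pair h₁ hom.1 hp ho0 hpo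
  have e₂ := GrothLib.CubicForm.eq_span_pair h₂ hom.2 hq ho0 hqo
  have z₁ : ∀ a ∈ L₁, ∀ b ∈ L₁, ∀ c ∈ L₁, T a b c = 0 := fun a ha b hb c hc =>
    T.eq_zero_of_cube_eq_zero L₁ ((hiff L₁).2 hf₁) ha hb hc
  have z₂ : ∀ a ∈ L₂, ∀ b ∈ L₂, ∀ c ∈ L₂, T a b c = 0 := fun a ha b hb c hc =>
    T.eq_zero_of_cube_eq_zero L₂ ((hiff L₂).2 hf₂) ha hb hc
  let e : (Fin 3 → ℂ) →ₗ[ℂ] (Fin 5 → ℂ) :=
    { toFun := fun x => x 0 • o + x 1 • p + x 2 • q
      map_add' := fun x y => by simp only [Pi.add_apply]; module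
      map_smul' := fun r x => by simp only [Pi.smul_apply, RingHom.id_apply, smul_eq_mul]; module }
  let l : (Fin 3 → ℂ) →ₗ[ℂ] ℂ := (2 * T o p q) • LinearMap.proj 0 + (T p p q) • LinearMap.proj 1 +
    (T p q q) • LinearMap.proj 2
  have hcube : ∀ x, T.cube (e x) = 3 * (x 1 * x 2) * l x := by
    intro x
    have a := z₁ o hom.1 o hom.1 o hom.1
    have b := z₁ o hom.1 o hom.1 p hp
    have c := z₁ o hom.1 p hp p hp
    have d := z₁ p hp p hp p hp
    have a' := z₂ o hom.2 o hom.2 q hq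
    have c' := z₂ o hom.2 q hq q hq
    have d' := z₂ q hq q hq q hq
    simp [GrothLib.CubicForm.Tri.cube, e, l, T.symm₁ p o, T.symm₁ q o, T.symm₁ q p, T.symm₂ o p o, T.symm₂ o q o,
      T.symm₂ o q p, T.symm₂ p p o, T.symm₂ p q o, T.symm₂ p q p, T.symm₂ q q o, T.symm₂ q q p,
      a, b, c, d, a', c', d']
    ring
  -- the plane of the two lines is three dimensional and not contained in the threefold
  have hsup : L₁ ⊔ L₂ = LinearMap.range e := by
    refine le_antisymm ?_ ?_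
    · rw [e₁, e₂]
      refine sup_le (Submodule.span_le.2 ?_) (Submodule.span_le.2 ?_)
      · rintro v (rfl | rfl)
        · exact ⟨![1, 0, 0], by simp [e]⟩
        · exact ⟨![0, 1, 0], by simp [e]⟩
      · rintro v (rfl | rfl)
        · exact ⟨![1, 0, 0], by simp [e]⟩
        · exact ⟨![0, 0, 1], by simp [e]⟩
    · rintro v ⟨x, rfl⟩
      exact Submodule.mem_sup.2 ⟨x 0 • o + x 1 • p, L₁.add_mem (L₁.smul_mem _ hom.1) (L₁.smul_mem _ hp),
        x 2 • q, L₂.smul_mem _ hq, rfl⟩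
  have h3 : 3 ≤ Module.finrank ℂ ↥(LinearMap.range e) := by
    rw [← hsup]
    have hlt : L₁ < L₁ ⊔ L₂ := lt_of_le_of_ne le_sup_left fun h =>
      hne (Submodule.eq_of_le_of_finrank_eq (h ▸ le_sup_right) (h₂.trans h₁.symm)).symm
    have := Submodule.finrank_lt_finrank_of_lt hlt
    omega
  have hinj : Function.Injective e := by
    have h1 := LinearMap.finrank_range_add_finrank_ker e
    rw [Module.finrank_fin_fun] at h1
    rw [← LinearMap.ker_eq_bot, ← Submodule.finrank_eq_zero]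
    omega
  have hl : l ≠ 0 := by
    intro hl0
    have h := Groth.Agent.S14372.result ℂ 4 3 (by norm_num) f hf (LinearMap.range e)
      (fun u hu => by
        obtain ⟨x, rfl⟩ := hu
        exact (GrothLib.CubicForm.ofPoly_cube_eq_zero_iff hf _).1 (by rw [← hT, hcube, hl0]; simp))
      (fun u hu hu0 => hsm u hu0 (by
        obtain ⟨x, rfl⟩ := hu
        exact (GrothLib.CubicForm.ofPoly_cube_eq_zero_iff hf _).1 (by rw [← hT, hcube, hl0]; simp)))
    exact absurd ((Nat.mul_le_mul_left 2 h3).trans h) (by norm_num)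
  -- the residual line
  let L₃ : Submodule ℂ (Fin 5 → ℂ) := (LinearMap.ker l).map e
  refine ⟨{g | Module.finrank ℂ ↥g = 1 ∧ g ≤ L₁ ∧ (g = ℂ ∙ o ∨ g = L₃ ⊓ L₁)},
    Set.Finite.subset ((Set.finite_singleton (L₃ ⊓ L₁)).insert (ℂ ∙ o)) (fun g hg => hg.2.2), fun g hg => ⟨hg.1, hg.2.1⟩,
    fun L hL hfL hm₁ hm₂ => ?_⟩
  have ho1 : Module.finrank ℂ ↥(ℂ ∙ o : Submodule ℂ (Fin 5 → ℂ)) = 1 := finrank_span_singleton ho0
  have hole : (ℂ ∙ o : Submodule ℂ (Fin 5 → ℂ)) ≤ L₁ := (Submodule.span_singleton_le_iff_mem o L₁).2 hom.1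
  by_cases hoL : o ∈ L
  · exact ⟨ℂ ∙ o, ⟨ho1, hole, Or.inl rfl⟩, (Submodule.span_singleton_le_iff_mem o L).2 hoL⟩
  obtain ⟨a, ha, ha0⟩ := Submodule.exists_mem_ne_zero_of_ne_bot hm₁
  obtain ⟨b, hb, hb0⟩ := Submodule.exists_mem_ne_zero_of_ne_bot hm₂
  have hab : b ∉ Submodule.span ℂ {a} := by
    intro hba
    obtain ⟨r, rfl⟩ := Submodule.mem_span_singleton.1 hba
    have hmem : r • a ∈ L₁ ⊓ L₂ := ⟨L₁.smul_mem r ha.2, hb.2⟩
    have hle : L₁ ⊓ L₂ ≤ ℂ ∙ o := by
      have h1 : L₁ ⊓ L₂ < L₁ := lt_of_le_of_ne inf_le_left fun h =>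
        hne (Submodule.eq_of_le_of_finrank_eq (inf_eq_left.1 h) (h₁.trans h₂.symm))
      have h2 := Submodule.finrank_lt_finrank_of_lt h1
      refine (Submodule.eq_of_le_of_finrank_le ((Submodule.span_singleton_le_iff_mem o _).2 hom) (by omega)).ge
    obtain ⟨s, hs⟩ := Submodule.mem_span_singleton.1 (hle hmem)
    have hs0 : s ≠ 0 := fun h => hb0 (by rw [← hs, h, zero_smul])
    refine hoL ?_
    have := L.smul_mem s⁻¹ hb.1
    rwa [← hs, inv_smul_smul₀ hs0] at this
  have hLspan := GrothLib.CubicForm.eq_span_pair hL ha.1 hb.1 ha0 hab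
  have hLe : L ≤ LinearMap.range e := by
    rw [hLspan, ← hsup]
    refine Submodule.span_le.2 ?_
    rintro v (rfl | rfl)
    · exact Submodule.mem_sup_left ha.2
    · exact Submodule.mem_sup_right hb.2
  -- one of the three factors vanishes on the line
  let U := L.comap e
  let K : Fin 3 → Submodule ℂ U := ![(LinearMap.ker ((LinearMap.proj 1).comp U.subtype)),
    (LinearMap.ker ((LinearMap.proj 2).comp U.subtype)), (LinearMap.ker (l.comp U.subtype))]
  obtain ⟨i, hi⟩ : ∃ i, K i = ⊤ := by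
    by_contra! h
    obtain ⟨x, hx⟩ := Submodule.exists_forall_notMem_of_forall_ne_top K h
    have h0 := (GrothLib.CubicForm.ofPoly_cube_eq_zero_iff hf _).2 (hfL _ x.2)
    rw [← hT, hcube] at h0
    rcases mul_eq_zero.1 h0 with h1 | h1
    · rcases mul_eq_zero.1 ((mul_eq_zero.1 h1).resolve_left three_ne_zero) with h2 | h2
      · exact hx 0 (by simpa [K] using h2)
      · exact hx 1 (by simpa [K] using h2)
    · exact hx 2 (by simpa [K] using h1)
  have hi' : ∀ x : Fin 3 → ℂ, ∀ hx : e x ∈ L, (⟨x, hx⟩ : U) ∈ K i := fun x hx => hi ▸ Submodule.mem_top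
  fin_cases i
  · -- in the second line
    refine absurd ?_ hoL
    have hL2 : L ≤ L₂ := fun v hv => by
      obtain ⟨x, rfl⟩ := hLe hv
      have hx : x 1 = 0 := by simpa [K] using hi' x hv
      show x 0 • o + x 1 • p + x 2 • q ∈ L₂
      rw [hx, zero_smul, add_zero]
      exact L₂.add_mem (L₂.smul_mem _ hom.2) (L₂.smul_mem _ hq)
    rw [Submodule.eq_of_le_of_finrank_eq hL2 (hL.trans h₂.symm)]
    exact hom.2
  · refine absurd ?_ hoL
    have hL1 : L ≤ L₁ := fun v hv => by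
      obtain ⟨x, rfl⟩ := hLe hv
      have hx : x 2 = 0 := by simpa [K] using hi' x hv
      show x 0 • o + x 1 • p + x 2 • q ∈ L₁
      rw [hx, zero_smul, add_zero]
      exact L₁.add_mem (L₁.smul_mem _ hom.1) (L₁.smul_mem _ hp)
    rw [Submodule.eq_of_le_of_finrank_eq hL1 (hL.trans h₁.symm)]
    exact hom.1
  · have hL3 : L ≤ L₃ := fun v hv => by
      obtain ⟨x, rfl⟩ := hLe hv
      exact ⟨x, by simpa [K] using hi' x hv, rfl⟩
    have h3eq : L = L₃ := by
      refine Submodule.eq_of_le_of_finrank_le hL3 ?_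
      have h1 : Module.finrank ℂ ↥L₃ = Module.finrank ℂ ↥(LinearMap.ker l) :=
        (LinearEquiv.finrank_eq (Submodule.equivMapOfInjective e hinj (LinearMap.ker l))).symm
      have h2 : LinearMap.ker l < ⊤ := lt_top_iff_ne_top.2 fun h => hl (LinearMap.ker_eq_top.1 h)
      have h4 := Submodule.finrank_lt h2.ne
      rw [Module.finrank_fin_fun] at h4
      omega
    refine ⟨L ⊓ L₁, ⟨?_, inf_le_right, Or.inr (by rw [h3eq])⟩, inf_le_left⟩
    have h5 : L ⊓ L₁ < L := lt_of_le_of_ne inf_le_left fun h =>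
      hoL (by rw [Submodule.eq_of_le_of_finrank_eq (inf_eq_left.1 h) (hL.trans h₁.symm)]; exact hom.1)
    have h6 := Submodule.finrank_lt_finrank_of_lt h5
    have h7 : Module.finrank ℂ ↥(L ⊓ L₁) ≠ 0 := by rw [Ne, Submodule.finrank_eq_zero]; exact hm₁
    omega

end Groth.Agent.S15252
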