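import Groth.Statements.S15254
import Groth.Agent.Lib.SerreVanish.Ample
import Groth.Agent.Lib.Snapper.Growth
import Groth.Agent.Lib.Snapper.Intersection
import Groth.Agent.Lib.Euler.Divisor

set_option autoImplicit false
universe u
open CategoryTheory CategoryTheory.Limits AlgebraicGeometry TopologicalSpace
open W4c2seshadripos

namespace Groth.Agent.S15254

/-- Let X be an integral scheme proper over a field k (the published statement: a projective variety), x
a closed point of X with ideal sheaf m_x, and L an ample invertible O_X-module. Then there is m₀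
such that for every m ≥ m₀, every i > 1 and every a ≥ 0 the cohomology group H^i(X, m_x^a ⊗ L^{⊗m})
vanishes (here m_x^a ⊗ L^{⊗m} = m_x^a · L^{⊗m}, the ideal sheaf m_x^a being taken as an O_X-module). -/
theorem result (k : Type u) [Field k] (X : Scheme.{u})
    [X.Over (Spec (CommRingCat.of k))] [IsProper (X ↘ (Spec (CommRingCat.of k)))] [IsIntegral X]
    (x : X) (hx : IsClosed ({x} : Set X)) (L : X.Modules) (hL : CohB1.IsAmple L) :
    ∃ m₀ : ℕ, ∀ m : ℕ, m₀ ≤ m → ∀ i : ℕ, 1 < i → ∀ a : ℕ,
      Subsingleton (Coh.HH X (CohB1.tensorMod (ClSub.idealMod ((W4c2seshadripos.pointIdeal x hx) ^ a))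
        (CohB1.tensorPow L m)) i) := by
  classical
  haveI := GrothLib.Euler.isNoetherian_of_proper (X := X) k
  let O := Coh.structureModule X
  have hO : Coh.IsCoh O := GrothLib.Euler.isCoh_of_isInvertible GrothLib.Euler.isInvertible_structure
  obtain ⟨m₀, hm₀⟩ := GrothLib.SerreVanish.exists_forall_subsingleton k hL hO
  refine ⟨m₀, fun m hm i hi a => ?_⟩
  let I := (W4c2seshadripos.pointIdeal x hx) ^ a
  have hsupp : CohB1.support (ClSub.quotMod I) ⊆ {x} := by
    refine (GrothLib.Snapper.support_quotMod I).trans ?_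
    rcases Nat.eq_zero_or_pos a with ha | ha
    · rw [show I = 1 by simp [I, ha], Scheme.IdealSheafData.one_eq_top, Scheme.IdealSheafData.support_top]
      exact Set.empty_subset _
    · rw [Scheme.IdealSheafData.support_pow _ a ha.ne']
      exact (Scheme.IdealSheafData.coe_support_vanishingIdeal _).subset
  haveI : Epi (ClSub.toSubscheme I) := GrothLib.Euler.epi_toSubscheme I
  let S : ShortComplex X.Modules := ShortComplex.mk (ClSub.idealModι I) (ClSub.toSubscheme I) (Limits.kernel.condition _)
  have hS : S.ShortExact := by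
    haveI : Mono S.f := inferInstanceAs (Mono (Limits.kernel.ι (ClSub.toSubscheme I)))
    haveI : Epi S.g := ‹Epi (ClSub.toSubscheme I)›
    exact { exact := ShortComplex.exact_of_f_is_kernel _ (Limits.kernelIsKernel (ClSub.toSubscheme I)) }
  have hS' := GrothLib.Snapper.shortExact_twist hL.1 m hS
  obtain ⟨i', rfl⟩ : ∃ i', i = i' + 1 := ⟨i - 1, by omega⟩
  have h3 : Subsingleton (Coh.HH X ((GrothLib.Euler.tF (CohB1.tensorPow L m)).obj (ClSub.quotMod I)) i') := by
    have hs : CohB1.support ((GrothLib.Euler.tF (CohB1.tensorPow L m)).obj (ClSub.quotMod I)) ⊆ {x} :=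
      (GrothLib.Snapper.support_twist_subset hL.1 m).trans hsupp
    haveI := (GrothLib.Snapper.isCoh_twist k hL.1 (GrothLib.Snapper.isCoh_quotMod k I) m).1
    exact GrothLib.Euler.subsingleton_HH_of_finite_support _ ((Set.finite_singleton x).subset hs)
      (fun y hy => (hs hy : y = x) ▸ hx) i' (by omega)
  refine subsingleton_of_forall_eq 0 fun y => ?_
  obtain ⟨w, hw⟩ := ((GrothLib.Cohom.exact₁ (A := k) hS' i') y).1 (@Subsingleton.elim _ (hm₀ m hm (i' + 1) (by omega)) _ _)
  rw [← hw, @Subsingleton.elim _ h3 w 0]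
  exact map_zero _

end Groth.Agent.S15254
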