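import Groth.Statements.S15255
import Groth.Agent.Lib.SerreVanish.Ample
import Groth.Agent.Lib.Snapper.Growth
import Groth.Agent.Lib.Snapper.Intersection
import Groth.Agent.Lib.Euler.Divisor
import Groth.Agent.Lib.HodgeIndex.IdealLe
import Groth.Agent.Lib.HodgeIndex.Walls

set_option autoImplicit false
universe u
open CategoryTheory CategoryTheory.Limits AlgebraicGeometry TopologicalSpace
open W4c2seshadripos

namespace Groth.Agent.S15255

/-- Let X be an integral scheme proper over a field k (the published statement: a projective variety), x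
a closed point of X with ideal sheaf m_x, L an invertible O_X-module and a, m > 0 integers. If
H^1(X, m_x^a ⊗ L^{⊗m}) is nonzero then so is H^1(X, m_x^(a+1) ⊗ L^{⊗m}) (the ideal sheaves m_x^a
being taken as O_X-modules, so that m_x^a ⊗ L^{⊗m} = m_x^a · L^{⊗m}). -/
theorem result (k : Type u) [Field k]
    (X : Scheme.{u}) [X.Over (Spec (CommRingCat.of k))] [IsProper (X ↘ (Spec (CommRingCat.of k)))]
    [IsIntegral X] (x : X) (hx : IsClosed ({x} : Set X)) (L : X.Modules) (hL : PicF.IsInvertible L)
    (a m : ℕ) (ha : 0 < a) (hm : 0 < m)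
    (h : Nontrivial (Coh.HH X (CohB1.tensorMod (ClSub.idealMod ((W4c2seshadripos.pointIdeal x hx) ^ a))
      (CohB1.tensorPow L m)) 1)) :
    Nontrivial (Coh.HH X (CohB1.tensorMod (ClSub.idealMod ((W4c2seshadripos.pointIdeal x hx) ^ (a + 1)))
      (CohB1.tensorPow L m)) 1) := by
  classical
  haveI := GrothLib.Euler.isNoetherian_of_proper (X := X) k
  let P := W4c2seshadripos.pointIdeal x hx
  have hle : P ^ (a + 1) ≤ P ^ a := Scheme.IdealSheafData.le_def.2 fun U => by
    rw [Scheme.IdealSheafData.ideal_pow, Scheme.IdealSheafData.ideal_pow]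
    exact Ideal.pow_le_pow_right (Nat.le_succ a)
  let ι := GrothLib.HodgeIndex.idealIncl hle
  haveI : Mono ι := GrothLib.HodgeIndex.mono_idealIncl hle
  haveI : Epi (cokernel.π ι) := coequalizer.π_epi
  let S : ShortComplex X.Modules := ShortComplex.mk ι (cokernel.π ι) (cokernel.condition ι)
  have hS : S.ShortExact := by
    haveI : Mono S.f := ‹Mono ι›
    haveI : Epi S.g := ‹Epi (cokernel.π ι)›
    exact { exact := ShortComplex.exact_of_g_is_cokernel _ (cokernelIsCokernel ι) }
  have hsuppI : ∀ b : ℕ, 0 < b → ∀ y, y ≠ x → y ∉ ((P ^ b).support : Set X) := by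
    intro b hb y hy hmem
    rw [Scheme.IdealSheafData.support_pow _ b hb.ne'] at hmem
    exact hy ((Scheme.IdealSheafData.coe_support_vanishingIdeal _).subset hmem)
  have hsupp : CohB1.support S.X₃ ⊆ {x} := by
    intro y hy
    by_contra hyx
    refine GrothLib.QCoh.notMem_support_cokernel_of_surjective ι ?_ hy
    have h1 := GrothLib.HodgeIndex.stalk_bijective_idealModι (P ^ (a + 1)) (hsuppI (a + 1) (Nat.succ_pos a) y hyx)
    have h2 := GrothLib.HodgeIndex.stalk_bijective_idealModι (P ^ a) (hsuppI a ha y hyx)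
    intro z
    obtain ⟨w, hw⟩ := h1.2 (GrothLib.QCoh.stalkLin (ClSub.idealModι (P ^ a)) y z)
    refine ⟨w, h2.1 ?_⟩
    rw [← hw, ← GrothLib.QCoh.stalkLin_comp]
    have : ι ≫ ClSub.idealModι (P ^ a) = ClSub.idealModι (P ^ (a + 1)) := kernel.lift_ι _ _ _
    rw [this]
  have hS' := GrothLib.Snapper.shortExact_twist hL m hS
  have h3 : Subsingleton (Coh.HH X ((GrothLib.Euler.tF (CohB1.tensorPow L m)).obj S.X₃) 1) := by
    have hs : CohB1.support ((GrothLib.Euler.tF (CohB1.tensorPow L m)).obj S.X₃) ⊆ {x} :=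
      (GrothLib.Snapper.support_twist_subset hL m).trans hsupp
    exact GrothLib.Euler.subsingleton_HH_of_finite_support _ ((Set.finite_singleton x).subset hs)
      (fun y hy => (hs hy : y = x) ▸ hx) 1 le_rfl
  rw [← not_subsingleton_iff_nontrivial] at h ⊢
  intro h1
  refine h (subsingleton_of_forall_eq 0 fun y => ?_)
  obtain ⟨w, hw⟩ := ((GrothLib.Cohom.exact₂ (A := k) hS' 1) y).1 (@Subsingleton.elim _ h3 _ _)
  rw [← hw, @Subsingleton.elim _ h1 w 0]
  exact map_zero _

end Groth.Agent.S15255
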