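import Groth.Statements.S15261
import Mathlib
import Groth.Agent.Lib.AlgMisc.LocEssFT

set_option autoImplicit false
universe u
open CategoryTheory CategoryTheory.Limits AlgebraicGeometry TopologicalSpace
open W4c2seshadripos

namespace Groth.Agent.S15261

/-- Say a morphism of schemes h : S → T is locally essentially of finite type when for every affine open
U = Spec A of T the preimage h⁻¹(U) is covered by affine opens V = Spec B of S with A → B
essentially of finite type (the every-affine-open form of the notion). If f : X → Y is locally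
essentially of finite type and g : Y' → Y is any morphism of schemes, then the base change X ×_Y Y'
→ Y' is locally essentially of finite type. (The quasi-compact variant, essentially of finite type,
follows since quasi-compactness is stable under base change.) -/
theorem result {X Y Y' : Scheme.{u}} (f : X ⟶ Y) (g : Y' ⟶ Y)
    (hf : ∀ U : Y.affineOpens, ∃ T : Set X.affineOpens, (⋃ V ∈ T, ((V : X.Opens) : Set ↥X)) = ((f ⁻¹ᵁ (U : Y.Opens)) : Set ↥X) ∧
        ∀ V ∈ T, ∃ e : (V : X.Opens) ≤ f ⁻¹ᵁ (U : Y.Opens), (f.appLE (U : Y.Opens) (V : X.Opens) e).hom.EssFiniteType)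
    (U : Y'.affineOpens) :
    ∃ T : Set (pullback f g).affineOpens, (⋃ V ∈ T, ((V : (pullback f g).Opens) : Set ↥(pullback f g))) = (((pullback.snd f g) ⁻¹ᵁ (U : Y'.Opens)) : Set ↥(pullback f g)) ∧
        ∀ V ∈ T, ∃ e : (V : (pullback f g).Opens) ≤ (pullback.snd f g) ⁻¹ᵁ (U : Y'.Opens), ((pullback.snd f g).appLE (U : Y'.Opens) (V : (pullback f g).Opens) e).hom.EssFiniteType := by
  exact Lib.AlgMisc.LocEssFT.preimageForm _
    (Lib.AlgMisc.LocEssFT.locEFT_pullback_snd f g
      ((Lib.AlgMisc.LocEssFT.locEFT_iff_forall f).mpr hf)) U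

end Groth.Agent.S15261
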