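import Groth.Statements.S15270
import Groth.Agent.Lib.FibreFree20.Basic
import Groth.Agent.Lib.FTDesc.LocFree
import Groth.Agent.Lib.Chow.Prod
import Groth.Agent.Lib.FunMor20.CohInd

set_option autoImplicit false
set_option maxHeartbeats 1000000
set_option linter.style.haveILetI false
set_option backward.isDefEq.respectTransparency.types false
open CategoryTheory CategoryTheory.Limits AlgebraicGeometry
open Coherent TensorProduct

namespace Groth.Agent.S15270

/-- Over the complex numbers, let S be a separated scheme of finite type, X a closed subscheme of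
projective n-space over S which is flat over S, and ξ a section of X over S. Let F be a coherent
sheaf on X, flat over S, such that for every complex point t of S the restriction F_t to the fibre
X_t, polarised by the pull-back of O(1), is semistable of dimension d (nonzero, pure of dimension d,
reduced Hilbert polynomials of nonzero proper coherent subsheaves at most that of F_t for large
arguments) and has a filtration by coherent subsheaves with stable d-dimensional successive
quotients of the reduced Hilbert polynomial of F_t whose associated graded sheaf is finite locally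
free on an open neighbourhood of the point ξ(t). Then F is locally free along ξ: for every complex
point t of S, F is finite locally free on an open neighbourhood of the point ξ(t) of X. (The
published statement is for modules over a sheaf of rings of differential operators, on a projective
flat family with irreducible fibres of dimension d, and uses closed points; this row is the case of
the structure sheaf with complex points, which are the closed points here, and does not assume the
fibres irreducible.) -/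
theorem result
    (S : Scheme.{0}) (sS : S ⟶ Spec (CommRingCat.of ℂ)) [LocallyOfFiniteType sS] [QuasiCompact sS] [IsSeparated sS]
    (n : ℕ) (X : Scheme.{0}) (i : X ⟶ CohB1.ProjSpaceOver n S) [IsClosedImmersion i] [Flat (i ≫ (CohB1.ProjSpaceOver n S ↘ S))] (d : ℕ)
    (ξ : S ⟶ X) (hξ : ξ ≫ (i ≫ (CohB1.ProjSpaceOver n S ↘ S)) = 𝟙 S)
    (F : X.Modules) (hF : Coh.IsCoh F) (hFfl : FlatMod.IsFlatOver (i ≫ (CohB1.ProjSpaceOver n S ↘ S)) F)
    (hss : ∀ (t : Spec (CommRingCat.of ℂ) ⟶ S), t ≫ sS = 𝟙 (Spec (CommRingCat.of ℂ)) →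
      @ShStab.IsSemistable ℂ _ (PicF.XT (i ≫ (CohB1.ProjSpaceOver n S ↘ S)) (Over.mk t)) ⟨PicF.XTproj (i ≫ (CohB1.ProjSpaceOver n S ↘ S)) (Over.mk t)⟩ ((Scheme.Modules.pullback (pullback.fst (i ≫ (CohB1.ProjSpaceOver n S ↘ S)) (Over.mk t).hom ≫ i)).obj (Twist.twistOver n S 1)) ((Scheme.Modules.pullback (pullback.fst (i ≫ (CohB1.ProjSpaceOver n S ↘ S)) (Over.mk t).hom)).obj F) d)
    (hLF : ∀ (t : Spec (CommRingCat.of ℂ) ⟶ S), t ≫ sS = 𝟙 (Spec (CommRingCat.of ℂ)) →
      ∃ sF : LTSeries (Subobject ((Scheme.Modules.pullback (pullback.fst (i ≫ (CohB1.ProjSpaceOver n S ↘ S)) (Over.mk t).hom)).obj F)), @ShStab.IsJHFiltration ℂ _ (PicF.XT (i ≫ (CohB1.ProjSpaceOver n S ↘ S)) (Over.mk t)) ⟨PicF.XTproj (i ≫ (CohB1.ProjSpaceOver n S ↘ S)) (Over.mk t)⟩ ((Scheme.Modules.pullback (pullback.fst (i ≫ (CohB1.ProjSpaceOver n S ↘ S)) (Over.mk t).hom ≫ i)).obj (Twist.twistOver n S 1)) ((Scheme.Modules.pullback (pullback.fst (i ≫ (CohB1.ProjSpaceOver n S ↘ S)) (Over.mk t).hom)).obj F) d sF ∧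
        ∀ x ∈ Set.range (PicF.secT (i ≫ (CohB1.ProjSpaceOver n S ↘ S)) ξ hξ (Over.mk t)).base, ∃ V : (PicF.XT (i ≫ (CohB1.ProjSpaceOver n S ↘ S)) (Over.mk t)).Opens, x ∈ V ∧ FlatMod.IsFinLocFree ((StabCat.grObj sF).restrict V.ι))
    (t : Spec (CommRingCat.of ℂ) ⟶ S) (ht : t ≫ sS = 𝟙 (Spec (CommRingCat.of ℂ))) :
    ∀ x ∈ Set.range (t ≫ ξ).base, ∃ U : X.Opens, x ∈ U ∧ FlatMod.IsFinLocFree (F.restrict U.ι) := by
  rintro x ⟨pt, rfl⟩
  let f := i ≫ (CohB1.ProjSpaceOver n S ↘ S)
  haveI : IsLocallyNoetherian S := LocallyOfFiniteType.isLocallyNoetherian sS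
  haveI : IsProper (CohB1.ProjSpaceOver n S ↘ S) := GrothLib.Chow.isProper_toBase n S
  haveI : IsProper f := inferInstanceAs (IsProper (i ≫ (CohB1.ProjSpaceOver n S ↘ S)))
  haveI : IsLocallyNoetherian X := LocallyOfFiniteType.isLocallyNoetherian f
  haveI : CompactSpace ↥S := QuasiCompact.compactSpace_of_compactSpace sS
  haveI : CompactSpace ↥X := QuasiCompact.compactSpace_of_compactSpace f
  haveI : IsNoetherian X := {}
  let T : Over S := Over.mk t
  let p₁ : PicF.XT f T ⟶ X := pullback.fst f T.hom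
  let p₂ : PicF.XT f T ⟶ Spec (CommRingCat.of ℂ) := pullback.snd f T.hom
  haveI : IsProper p₂ := inferInstanceAs (IsProper (pullback.snd f t))
  haveI : IsLocallyNoetherian (PicF.XT f T) := LocallyOfFiniteType.isLocallyNoetherian p₂
  let E : (PicF.XT f T).Modules := (Scheme.Modules.pullback p₁).obj F
  -- the stalk of the fibre over the complex point
  let xt : ↥(PicF.XT f T) := (PicF.secT f ξ hξ T).base pt
  obtain ⟨sF, ⟨hb, htop, hfac⟩, hV⟩ := hLF t ht
  obtain ⟨V, hxV, hVf⟩ := hV xt ⟨pt, rfl⟩
  have hgr := GrothLib.Ref1.free_of_isFinLocFree_restrict V hVf xt hxV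
  have hfree : Module.Free ((PicF.XT f T).presheaf.stalk xt) (E.presheaf.stalk xt) :=
    GrothLib.FibreFree20.free_stalk_of_filtration sF (fun j => (hfac j).1.1) hb htop xt hgr
  -- comparison with the scheme-theoretic fibre
  let s : S := (Scheme.SpecToEquivOfField ℂ S t).1
  let φ : S.residueField s ⟶ CommRingCat.of ℂ := (Scheme.SpecToEquivOfField ℂ S t).2
  have hφ : Spec.map φ ≫ S.fromSpecResidueField s = t :=
    (Scheme.SpecToEquivOfField ℂ S).symm_apply_apply t
  let ψ : CommRingCat.of ℂ ⟶ S.residueField s := Spec.preimage (S.fromSpecResidueField s ≫ sS)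
  have hψ : ψ ≫ φ = 𝟙 _ := Spec.map_injective (by
    rw [Spec.map_comp, Spec.map_id, Spec.map_preimage, ← Category.assoc, hφ, ht])
  haveI : IsIso φ := by
    refine (ConcreteCategory.isIso_iff_bijective φ).2
      ⟨φ.hom.injective, fun c => ⟨ψ.hom c, ?_⟩⟩
    exact ConcreteCategory.congr_hom hψ c
  let e : PicF.XT f T ⟶ f.fiber s :=
    pullback.map f t f (S.fromSpecResidueField s) (𝟙 X) (Spec.map φ) (𝟙 S) (by simp) (by simp [hφ])
  haveI : IsIso (Spec.map φ) := inferInstance
  haveI : IsIso e := pullback.map_isIso _ _ _ _ _ _ _ _ _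
  have he : e ≫ f.fiberι s = p₁ := (pullback.lift_fst _ _ _).trans (Category.comp_id _)
  let eM : (Scheme.Modules.pullback (f.fiberι s)).obj F ≅ (Scheme.Modules.pullback (inv e)).obj E :=
    (Scheme.Modules.pullbackCongr (show f.fiberι s = inv e ≫ p₁ by rw [← he, IsIso.inv_hom_id_assoc])).app F ≪≫
      ((Scheme.Modules.pullbackComp (inv e) p₁).app F).symm
  let z : ↥(f.fiber s) := e.base xt
  have hz : (inv e).base z = xt := by
    change (e ≫ inv e).base xt = xt
    rw [IsIso.hom_inv_id]; rfl
  have hz' : Module.Free ((PicF.XT f T).presheaf.stalk ((inv e).base z)) (E.presheaf.stalk ((inv e).base z)) :=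
    hz.symm ▸ hfree
  have hfib : Module.Free ((f.fiber s).presheaf.stalk z)
      (((Scheme.Modules.pullback (f.fiberι s)).obj F).presheaf.stalk z) := by
    letI : Algebra ((PicF.XT f T).presheaf.stalk ((inv e).base z)) ((f.fiber s).presheaf.stalk z) :=
      ((inv e).stalkMap z).hom.toAlgebra
    haveI := hz'
    let a : ((Scheme.Modules.pullback (f.fiberι s)).obj F).presheaf.stalk z ≃ₗ[(f.fiber s).presheaf.stalk z]
        ((f.fiber s).presheaf.stalk z) ⊗[(PicF.XT f T).presheaf.stalk ((inv e).base z)]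
          E.presheaf.stalk ((inv e).base z) :=
      ((GrothLib.OX.stalk z).mapIso eM ≪≫ (GrothLib.OX.pullStalkIso (inv e) z).app E).toLinearEquiv
    exact Module.Free.of_equiv a.symm
  have hx : f.fiberι s z = (t ≫ ξ).base pt := by
    change (e ≫ f.fiberι s).base xt = _
    rw [he]
    change ((PicF.secT f ξ hξ T) ≫ pullback.fst f T.hom).base pt = _
    rw [PicF.secT, pullback.lift_fst]
    rfl
  have hmain := GrothLib.FibreFree20.free_stalk_of_fibre f (GrothLib.FunMor20.isFP_of_isCoh hF) hFfl s z hfib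
  have hrel := GrothLib.HomSh.hasRel_of_isCoh hF
  refine ⟨⟨{y : X | Module.Free (X.presheaf.stalk y) (F.presheaf.stalk y)}, GrothLib.Ref1.isOpen_free hrel⟩, ?_,
    GrothLib.Ref1.isFinLocFree_restrict_of_free hrel _ (fun y hy => hy)⟩
  change Module.Free (X.presheaf.stalk ((t ≫ ξ).base pt)) (F.presheaf.stalk ((t ≫ ξ).base pt))
  rw [← hx]
  exact hmain

end Groth.Agent.S15270
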