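import Groth.Statements.S15268
import Groth.Agent.Lib.FlatHomZero20.Core
import Groth.Agent.S15270
import Groth.Agent.Lib.Hilb20.FibreInj
import Groth.Agent.Lib.FlatDesc.Basic
import Groth.Agent.Lib.GrpSchField.Pts
import Groth.Agent.Lib.HilbStrat10.ProjSpace
import Groth.Agent.Lib.NormAmple.Descent
import Groth.Agent.Lib.Ample.RelAmple
import Groth.Agent.Lib.ModDesc.Approx
import Groth.Agent.Lib.MaxSupp.Basic

set_option autoImplicit false
set_option maxHeartbeats 1000000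
set_option linter.style.haveILetI false
set_option backward.isDefEq.respectTransparency.types false
universe u
open CategoryTheory CategoryTheory.Limits AlgebraicGeometry
open Coherent TensorProduct

namespace Groth.Agent.S15268

/-- A map of coherent modules which vanishes at the closed points is zero. -/
theorem eq_zero_of_closedPoints {X : Scheme.{u}} [IsLocallyNoetherian X] [CompactSpace ↥X] {E F : X.Modules}
    (φ : E ⟶ F) (hE : Coh.IsCoh E) (hF : Coh.IsCoh F)
    (h : ∀ x : X, IsClosed ({x} : Set X) → (GrothLib.OX.stalk x).map φ = 0) : φ = 0 := by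
  haveI : IsNoetherian X := {}
  have hI : Coh.IsCoh (Abelian.image φ) :=
    GrothLib.QCoh.isCoh_kernel _ hF (GrothLib.QCoh.isCoh_cokernel φ hE hF)
  by_contra hne
  have hz : ¬ IsZero (Abelian.image φ) := fun h0 =>
    hne (by rw [← Abelian.image.fac φ, h0.eq_zero_of_tgt (Abelian.factorThruImage φ), zero_comp])
  have hne' : (CohB1.support (Abelian.image φ)).Nonempty := by
    by_contra he
    exact hz (GrothLib.Hilb20.isZero_of_support_eq_empty (Set.not_nonempty_iff_eq_empty.1 he))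
  have hcl := GrothLib.QCoh.isClosed_support_of_isCoh hI
  obtain ⟨y, hy, hyc⟩ := IsClosed.exists_closed_singleton hcl hne'
  have h1 : (GrothLib.OX.stalk y).map (Abelian.factorThruImage φ) ≫
      (GrothLib.OX.stalk y).map (Abelian.image.ι φ) = 0 := by
    rw [← Functor.map_comp, Abelian.image.fac, h y hyc]
  haveI : Mono ((GrothLib.OX.stalk y).map (Abelian.image.ι φ)) := inferInstance
  haveI : Epi ((GrothLib.OX.stalk y).map (Abelian.factorThruImage φ)) := inferInstance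
  have h2 : (GrothLib.OX.stalk y).map (Abelian.factorThruImage φ) = 0 := by
    rw [← cancel_mono ((GrothLib.OX.stalk y).map (Abelian.image.ι φ)), h1, zero_comp]
  have h3 : IsZero ((GrothLib.OX.stalk y).obj (Abelian.image φ)) := IsZero.of_epi_eq_zero _ h2
  haveI := ModuleCat.subsingleton_of_isZero h3
  exact not_subsingleton_iff_nontrivial.2 ((GrothLib.MaxSupp.mem_support_iff_nontrivial _ y).1 hy)
    (inferInstanceAs (Subsingleton ((GrothLib.OX.stalk y).obj (Abelian.image φ))))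

/-- Pullbacks of a map killed by a further pullback. -/
theorem pullback_map_map_eq_zero {X S U V : Scheme.{u}} (ξ' : V ⟶ U) (j : U ⟶ X) (ξ : S ⟶ X) {l : V ⟶ S}
    (h : ξ' ≫ j = l ≫ ξ) {E F : X.Modules} (φ : E ⟶ F) (hφ : (Scheme.Modules.pullback ξ).map φ = 0) :
    (Scheme.Modules.pullback ξ').map ((Scheme.Modules.pullback j).map φ) = 0 := by
  haveI : (Scheme.Modules.pullback l).Additive :=
    (Scheme.Modules.pullbackPushforwardAdjunction l).left_adjoint_additive
  let θ : Scheme.Modules.pullback j ⋙ Scheme.Modules.pullback ξ' ≅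
      Scheme.Modules.pullback ξ ⋙ Scheme.Modules.pullback l :=
    Scheme.Modules.pullbackComp ξ' j ≪≫ Scheme.Modules.pullbackCongr h ≪≫ (Scheme.Modules.pullbackComp l ξ).symm
  have e := θ.hom.naturality φ
  simp only [Functor.comp_map, hφ, Functor.map_zero, comp_zero] at e
  exact (cancel_mono (θ.hom.app F)).1 (e.trans zero_comp.symm)

/-- The retraction of local rings from a section. -/
theorem exists_retraction {U V : Scheme.{u}} (σ : V ⟶ U) (g : U ⟶ V) (hσ : σ ≫ g = 𝟙 V) (v : V) (x₀ : U)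
    (hx : σ v = x₀) {E F : U.Modules} (φ : E ⟶ F) (hφ : (Scheme.Modules.pullback σ).map φ = 0) :
    ∃ (ρ : U.presheaf.stalk x₀ →+* V.presheaf.stalk (g x₀)) (_ : IsLocalHom ρ),
      (∀ r, ρ ((g.stalkMap x₀).hom r) = r) ∧
      ∀ e : (GrothLib.OX.stalk x₀).obj E, ((GrothLib.OX.stalk x₀).map φ).hom e ∈
        RingHom.ker ρ • (⊤ : Submodule (U.presheaf.stalk x₀) ((GrothLib.OX.stalk x₀).obj F)) := by
  subst hx
  have hv : g (σ v) = v := congrArg (fun k : V ⟶ V => k v) hσ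
  let c := V.presheaf.stalkCongr (.of_eq hv)
  have key : g.stalkMap (σ v) ≫ σ.stalkMap v = c.hom := by
    rw [← Scheme.Hom.stalkMap_comp, Scheme.Hom.stalkMap_congr_hom _ _ hσ, Scheme.Hom.stalkMap_id]
    exact Category.comp_id _
  have hcinj : Function.Injective c.inv.hom := ((ConcreteCategory.isIso_iff_bijective c.inv).1 inferInstance).1
  haveI : IsLocalHom c.inv.hom := isLocalHom_of_isIso _
  haveI : IsLocalHom (σ.stalkMap v).hom := inferInstance
  refine ⟨c.inv.hom.comp (σ.stalkMap v).hom, inferInstance, fun r => ?_, fun e => ?_⟩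
  · show c.inv.hom ((g.stalkMap (σ v) ≫ σ.stalkMap v).hom r) = r
    rw [key]
    exact Iso.hom_inv_id_apply c r
  · rw [RingHom.ker_comp_of_injective _ hcinj]
    refine GrothLib.FlatHomZero20.mem_ker_smul_of_pullback_eq_zero σ v φ (fun b => ?_) hφ e
    refine ⟨(g.stalkMap (σ v)).hom (c.inv.hom b), ?_⟩
    show (g.stalkMap (σ v) ≫ σ.stalkMap v).hom (c.inv.hom b) = b
    rw [key]
    exact Iso.inv_hom_id_apply c b

/-- A stalk map vanishing after restriction vanishes. -/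
theorem stalk_eq_zero_of_restrict {X : Scheme.{u}} (U : X.Opens) {E F : X.Modules} (φ : E ⟶ F) (y : U.toScheme)
    (h : (GrothLib.OX.stalk y).map ((Scheme.Modules.pullback U.ι).map φ) = 0)
    (e : (GrothLib.OX.stalk (U.ι y)).obj E) : ((GrothLib.OX.stalk (U.ι y)).map φ).hom e = 0 := by
  have hb := (ConcreteCategory.isIso_iff_bijective (U.ι.stalkMap y)).1 inferInstance
  letI : Algebra (X.presheaf.stalk (U.ι y)) (U.toScheme.presheaf.stalk y) := (U.ι.stalkMap y).hom.toAlgebra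
  let EM := ((GrothLib.OX.pullStalkIso U.ι y).app E).toLinearEquiv
  have h1 := GrothLib.FlatHomZero20.pullStalk_natural U.ι y φ
    (EM.symm (show (ModuleCat.extendScalars (U.ι.stalkMap y).hom).obj _ from
      (1 : U.toScheme.presheaf.stalk y) ⊗ₜ[X.presheaf.stalk (U.ι y)] e))
  rw [h, EM.apply_symm_apply] at h1
  have h2 : (1 : U.toScheme.presheaf.stalk y) ⊗ₜ[X.presheaf.stalk (U.ι y)]
      ((GrothLib.OX.stalk (U.ι y)).map φ).hom e = 0 := h1.symm.trans (map_zero _)
  have h3 := (GrothLib.LocFreeHom.one_tmul_eq_zero_iff (R := X.presheaf.stalk (U.ι y)) hb.2 _).1 h2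
  rw [show RingHom.ker (algebraMap (X.presheaf.stalk (U.ι y)) (U.toScheme.presheaf.stalk y)) = ⊥ from
    (RingHom.injective_iff_ker_eq_bot _).1 hb.1, Submodule.bot_smul] at h3
  exact (Submodule.mem_bot _).1 h3

/-- The polarisation of a fibre is ample. -/
theorem isAmple_fibre {n : ℕ} {S Z T : Scheme.{u}} (q : Z ⟶ CohB1.ProjSpaceOver n S) [IsAffineHom q]
    (p : Z ⟶ T) (t : T ⟶ S) (V : S.Opens) (hV : IsAffineOpen V)
    (hw : q ≫ (CohB1.ProjSpaceOver n S ↘ S) = p ≫ t) (ht : ∀ z : T, t z ∈ V) :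
    CohB1.IsAmple ((Scheme.Modules.pullback q).obj (Twist.twistOver n S 1)) := by
  have h := (GrothLib.NormAmple.isRelAmple_pullback (g := q) (CohB1.ProjSpaceOver.toBase n S)
    (GrothLib.HilbStrat10.isRelAmple_one (n := n) (S := S))).2 ⟨V, hV⟩
  let W : Z.Opens := (q ≫ CohB1.ProjSpaceOver.toBase n S) ⁻¹ᵁ V
  have hW : W = ⊤ := top_le_iff.1 fun z _ => by
    show (q ≫ (CohB1.ProjSpaceOver n S ↘ S)) z ∈ V
    rw [hw]; exact ht (p z)
  haveI : IsIso W.ι := hW ▸ (inferInstanceAs (IsIso (Scheme.topIso Z).hom) : IsIso (⊤ : Z.Opens).ι)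
  let L := (Scheme.Modules.pullback q).obj (Twist.twistOver n S 1)
  refine (GrothLib.Ample.isAmple_iff_of_iso ?_).1
    (GrothLib.Ample.isAmple_pullback_of_isAffineHom (inv W.ι) h)
  exact (Scheme.Modules.pullback (inv W.ι)).mapIso ((Scheme.Modules.restrictFunctorIsoPullback W.ι).app L) ≪≫
    (Scheme.Modules.pullbackComp (inv W.ι) W.ι).app L ≪≫
    (Scheme.Modules.pullbackCongr (IsIso.inv_hom_id W.ι)).app L ≪≫ (Scheme.Modules.pullbackId Z).app L

/-- Over the complex numbers, let S be a separated scheme of finite type, X a closed subscheme of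
projective n-space over S which is flat over S and whose fibre X_t over every complex point t of S
is irreducible of dimension d, and ξ a section of X over S. Let E and F be coherent sheaves on X,
flat over S, such that for every complex point t of S, on the fibre X_t polarised by the pull-back
of O(1): the restrictions E_t and F_t are semistable of dimension d (nonzero, pure of dimension d,
reduced Hilbert polynomials of nonzero proper coherent subsheaves at most that of the sheaf for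
large arguments) with the same reduced Hilbert polynomial (r(F_t)·p_{E_t} = r(E_t)·p_{F_t}, r
denoting d! times the degree-d coefficient), and each of E_t, F_t has a filtration by coherent
subsheaves with stable d-dimensional successive quotients of that reduced Hilbert polynomial whose
associated graded sheaf is finite locally free on an open neighbourhood of the point ξ(t). Then
every morphism φ from E to F whose pull-back along ξ is the zero map is zero. (The published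
statement is for modules over a sheaf of rings of differential operators and imposes the fibre
conditions at the closed points of the base; this row is the case of the structure sheaf, with the
conditions at complex points, which are the closed points here.) -/
theorem result
    (S : Scheme.{0}) (sS : S ⟶ Spec (CommRingCat.of ℂ)) [LocallyOfFiniteType sS] [QuasiCompact sS] [IsSeparated sS]
    (n : ℕ) (X : Scheme.{0}) (i : X ⟶ CohB1.ProjSpaceOver n S) [IsClosedImmersion i] [Flat (i ≫ (CohB1.ProjSpaceOver n S ↘ S))] (d : ℕ)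
    (ξ : S ⟶ X) (hξ : ξ ≫ (i ≫ (CohB1.ProjSpaceOver n S ↘ S)) = 𝟙 S)
    (hfib : ∀ (t : Spec (CommRingCat.of ℂ) ⟶ S), t ≫ sS = 𝟙 (Spec (CommRingCat.of ℂ)) →
      IrreducibleSpace (PicF.XT (i ≫ (CohB1.ProjSpaceOver n S ↘ S)) (Over.mk t)) ∧ topologicalKrullDim (PicF.XT (i ≫ (CohB1.ProjSpaceOver n S ↘ S)) (Over.mk t)) = (d : WithBot ℕ∞))
    (E F : X.Modules) (hE : Coh.IsCoh E) (hF : Coh.IsCoh F)
    (hEfl : FlatMod.IsFlatOver (i ≫ (CohB1.ProjSpaceOver n S ↘ S)) E) (hFfl : FlatMod.IsFlatOver (i ≫ (CohB1.ProjSpaceOver n S ↘ S)) F)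
    (hss : ∀ (t : Spec (CommRingCat.of ℂ) ⟶ S), t ≫ sS = 𝟙 (Spec (CommRingCat.of ℂ)) →
      @ShStab.IsSemistable ℂ _ (PicF.XT (i ≫ (CohB1.ProjSpaceOver n S ↘ S)) (Over.mk t)) ⟨PicF.XTproj (i ≫ (CohB1.ProjSpaceOver n S ↘ S)) (Over.mk t)⟩ ((Scheme.Modules.pullback (pullback.fst (i ≫ (CohB1.ProjSpaceOver n S ↘ S)) (Over.mk t).hom ≫ i)).obj (Twist.twistOver n S 1)) ((Scheme.Modules.pullback (pullback.fst (i ≫ (CohB1.ProjSpaceOver n S ↘ S)) (Over.mk t).hom)).obj E) d ∧
      @ShStab.IsSemistable ℂ _ (PicF.XT (i ≫ (CohB1.ProjSpaceOver n S ↘ S)) (Over.mk t)) ⟨PicF.XTproj (i ≫ (CohB1.ProjSpaceOver n S ↘ S)) (Over.mk t)⟩ ((Scheme.Modules.pullback (pullback.fst (i ≫ (CohB1.ProjSpaceOver n S ↘ S)) (Over.mk t).hom ≫ i)).obj (Twist.twistOver n S 1)) ((Scheme.Modules.pullback (pullback.fst (i ≫ (CohB1.ProjSpaceOver n S ↘ S)) (Over.mk t).hom)).obj F) d ∧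
      ∀ pE pF : Polynomial ℚ, @ShStab.IsHilbPoly ℂ _ (PicF.XT (i ≫ (CohB1.ProjSpaceOver n S ↘ S)) (Over.mk t)) ⟨PicF.XTproj (i ≫ (CohB1.ProjSpaceOver n S ↘ S)) (Over.mk t)⟩ ((Scheme.Modules.pullback (pullback.fst (i ≫ (CohB1.ProjSpaceOver n S ↘ S)) (Over.mk t).hom ≫ i)).obj (Twist.twistOver n S 1)) ((Scheme.Modules.pullback (pullback.fst (i ≫ (CohB1.ProjSpaceOver n S ↘ S)) (Over.mk t).hom)).obj E) pE →
        @ShStab.IsHilbPoly ℂ _ (PicF.XT (i ≫ (CohB1.ProjSpaceOver n S ↘ S)) (Over.mk t)) ⟨PicF.XTproj (i ≫ (CohB1.ProjSpaceOver n S ↘ S)) (Over.mk t)⟩ ((Scheme.Modules.pullback (pullback.fst (i ≫ (CohB1.ProjSpaceOver n S ↘ S)) (Over.mk t).hom ≫ i)).obj (Twist.twistOver n S 1)) ((Scheme.Modules.pullback (pullback.fst (i ≫ (CohB1.ProjSpaceOver n S ↘ S)) (Over.mk t).hom)).obj F) pF → StabCat.RedEq d pE pF)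
    (hLF : ∀ (t : Spec (CommRingCat.of ℂ) ⟶ S), t ≫ sS = 𝟙 (Spec (CommRingCat.of ℂ)) →
      (∃ sE : LTSeries (Subobject ((Scheme.Modules.pullback (pullback.fst (i ≫ (CohB1.ProjSpaceOver n S ↘ S)) (Over.mk t).hom)).obj E)), @ShStab.IsJHFiltration ℂ _ (PicF.XT (i ≫ (CohB1.ProjSpaceOver n S ↘ S)) (Over.mk t)) ⟨PicF.XTproj (i ≫ (CohB1.ProjSpaceOver n S ↘ S)) (Over.mk t)⟩ ((Scheme.Modules.pullback (pullback.fst (i ≫ (CohB1.ProjSpaceOver n S ↘ S)) (Over.mk t).hom ≫ i)).obj (Twist.twistOver n S 1)) ((Scheme.Modules.pullback (pullback.fst (i ≫ (CohB1.ProjSpaceOver n S ↘ S)) (Over.mk t).hom)).obj E) d sE ∧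
          ∀ x ∈ Set.range (PicF.secT (i ≫ (CohB1.ProjSpaceOver n S ↘ S)) ξ hξ (Over.mk t)).base, ∃ U : (PicF.XT (i ≫ (CohB1.ProjSpaceOver n S ↘ S)) (Over.mk t)).Opens, x ∈ U ∧ FlatMod.IsFinLocFree ((StabCat.grObj sE).restrict U.ι)) ∧
      (∃ sF : LTSeries (Subobject ((Scheme.Modules.pullback (pullback.fst (i ≫ (CohB1.ProjSpaceOver n S ↘ S)) (Over.mk t).hom)).obj F)), @ShStab.IsJHFiltration ℂ _ (PicF.XT (i ≫ (CohB1.ProjSpaceOver n S ↘ S)) (Over.mk t)) ⟨PicF.XTproj (i ≫ (CohB1.ProjSpaceOver n S ↘ S)) (Over.mk t)⟩ ((Scheme.Modules.pullback (pullback.fst (i ≫ (CohB1.ProjSpaceOver n S ↘ S)) (Over.mk t).hom ≫ i)).obj (Twist.twistOver n S 1)) ((Scheme.Modules.pullback (pullback.fst (i ≫ (CohB1.ProjSpaceOver n S ↘ S)) (Over.mk t).hom)).obj F) d sF ∧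
          ∀ x ∈ Set.range (PicF.secT (i ≫ (CohB1.ProjSpaceOver n S ↘ S)) ξ hξ (Over.mk t)).base, ∃ U : (PicF.XT (i ≫ (CohB1.ProjSpaceOver n S ↘ S)) (Over.mk t)).Opens, x ∈ U ∧ FlatMod.IsFinLocFree ((StabCat.grObj sF).restrict U.ι)))
    (φ : E ⟶ F) (hφ : (Scheme.Modules.pullback ξ).map φ = 0) : φ = 0 := by
  let π : CohB1.ProjSpaceOver n S ⟶ S := CohB1.ProjSpaceOver n S ↘ S
  let f : X ⟶ S := i ≫ π
  haveI : IsLocallyNoetherian S := LocallyOfFiniteType.isLocallyNoetherian sS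
  haveI : IsProper π := GrothLib.Chow.isProper_toBase n S
  haveI : IsProper f := inferInstanceAs (IsProper (i ≫ π))
  haveI : IsLocallyNoetherian X := LocallyOfFiniteType.isLocallyNoetherian f
  haveI : CompactSpace ↥S := QuasiCompact.compactSpace_of_compactSpace sS
  haveI : CompactSpace ↥X := QuasiCompact.compactSpace_of_compactSpace f
  refine eq_zero_of_closedPoints φ hE hF fun x hx => ?_
  let s : S := f x
  have hs : IsClosed ({s} : Set S) := by
    simpa [Set.image_singleton, s] using f.isClosedMap _ hx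
  haveI : LocallyOfFiniteType (Over.mk sS).hom := ‹LocallyOfFiniteType sS›
  obtain ⟨a, ha⟩ := GrothLib.GrpSchField.exists_point_of_isClosed (k := ℂ) ℂ (X := Over.mk sS) (x := s) hs
  let t : Spec (CommRingCat.of ℂ) ⟶ S := a.left
  have ht : t ≫ sS = 𝟙 (Spec (CommRingCat.of ℂ)) := by
    refine (Over.w a).trans ?_
    show Spec.map (CommRingCat.ofHom (algebraMap ℂ ℂ)) = _
    exact Spec.map_id _
  haveI : IsClosedImmersion (t ≫ sS) := by rw [ht]; infer_instance
  haveI : IsClosedImmersion t := IsClosedImmersion.of_comp t sS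
  haveI : Subsingleton (Spec (CommRingCat.of ℂ)) := inferInstanceAs (Subsingleton (PrimeSpectrum ℂ))
  let pt : Spec (CommRingCat.of ℂ) := (default : PrimeSpectrum ℂ)
  have htpt : t pt = s := by
    rw [Subsingleton.elim pt (IsLocalRing.closedPoint ℂ)]; exact ha
  -- an affine neighbourhood of the point
  obtain ⟨V, hV, hsV, -⟩ := exists_isAffineOpen_mem_and_subset (show s ∈ (⊤ : S.Opens) from trivial)
  haveI : IsAffine V.toScheme := hV
  let U : X.Opens := f ⁻¹ᵁ V
  haveI : IsLocallyNoetherian U.toScheme := isLocallyNoetherian_of_isOpenImmersion U.ι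
  haveI : IsLocallyNoetherian V.toScheme := isLocallyNoetherian_of_isOpenImmersion V.ι
  let f' : U.toScheme ⟶ V.toScheme := f ∣_ V
  have hsq : IsPullback U.ι f' f V.ι := (isPullback_morphismRestrict f V).flip
  have htr : Set.range t.base ⊆ Set.range V.ι.base := by
    rw [Scheme.Opens.range_ι]
    rintro _ ⟨q, rfl⟩
    rw [Subsingleton.elim q pt]
    exact htpt ▸ hsV
  let t' : Spec (CommRingCat.of ℂ) ⟶ V.toScheme := IsOpenImmersion.lift V.ι t htr
  have ht' : t' ≫ V.ι = t := IsOpenImmersion.lift_fac _ _ _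
  haveI : IsClosedImmersion (t' ≫ V.ι) := by rw [ht']; infer_instance
  haveI : IsClosedImmersion t' := IsClosedImmersion.of_comp t' V.ι
  let T : Over S := Over.mk t
  let p₁ : PicF.XT f T ⟶ X := pullback.fst f t
  let p₂ : PicF.XT f T ⟶ Spec (CommRingCat.of ℂ) := pullback.snd f t
  have hbig : IsPullback p₁ p₂ f t := IsPullback.of_hasPullback f t
  have hrange : Set.range p₁.base ⊆ Set.range U.ι.base := by
    rw [Scheme.Opens.range_ι]
    rintro _ ⟨z, rfl⟩
    show f (p₁ z) ∈ V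
    rw [show f (p₁ z) = t (p₂ z) from congrArg (fun g : PicF.XT f T ⟶ S => g z) hbig.w,
      Subsingleton.elim (p₂ z) pt, htpt]
    exact hsV
  let i₀ : PicF.XT f T ⟶ U.toScheme := IsOpenImmersion.lift U.ι p₁ hrange
  have hi₀ : i₀ ≫ U.ι = p₁ := IsOpenImmersion.lift_fac _ _ _
  have hpb : IsPullback i₀ p₂ f' t' := by
    refine IsPullback.of_right (h₁₂ := U.ι) (h₂₂ := V.ι) (v₁₃ := f) ?_ ?_ hsq
    · rw [hi₀, ht']; exact hbig
    · rw [← cancel_mono V.ι, Category.assoc, Category.assoc, ← hsq.w, reassoc_of% hi₀, ht']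
      exact hbig.w
  let E' : U.toScheme.Modules := (Scheme.Modules.pullback U.ι).obj E
  let F' : U.toScheme.Modules := (Scheme.Modules.pullback U.ι).obj F
  let φ' : E' ⟶ F' := (Scheme.Modules.pullback U.ι).map φ
  have hF' : Coh.IsCoh F' := GrothLib.ModDesc.isCoh_pullback U.ι F hF
  haveI := hF.1
  have hfl' : FlatMod.IsFlatOver f' F' := GrothLib.FlatDesc.isFlatOver_baseChange hsq F hFfl
  -- the point of the section
  let σ₀ : Spec (CommRingCat.of ℂ) ⟶ PicF.XT f T := PicF.secT f ξ hξ T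
  let z₀ : PicF.XT f T := σ₀ pt
  let x₀ : U.toScheme := i₀ z₀
  have hx₀ : U.ι x₀ = (t ≫ ξ) pt := by
    show (σ₀ ≫ i₀ ≫ U.ι) pt = _
    rw [hi₀]
    show (PicF.secT f ξ hξ T ≫ pullback.fst f T.hom) pt = _
    rw [PicF.secT, pullback.lift_fst]
    rfl
  obtain ⟨W, hxW, hW⟩ := Groth.Agent.S15270.result S sS n X i d ξ hξ F hF hFfl
    (fun t ht => (hss t ht).2.1) (fun t ht => (hLF t ht).2) t ht ((t ≫ ξ) pt) ⟨pt, rfl⟩
  haveI hfree₀ : Module.Free (X.presheaf.stalk (U.ι x₀)) (F.presheaf.stalk (U.ι x₀)) :=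
    GrothLib.Ref1.free_of_isFinLocFree_restrict W hW _ (hx₀.symm ▸ hxW)
  haveI hfree : Module.Free (U.toScheme.presheaf.stalk x₀) ((GrothLib.OX.stalk x₀).obj F') := by
    letI : Algebra (X.presheaf.stalk (U.ι x₀)) (U.toScheme.presheaf.stalk x₀) :=
      (U.ι.stalkMap x₀).hom.toAlgebra
    let e : (GrothLib.OX.stalk x₀).obj F' ≃ₗ[U.toScheme.presheaf.stalk x₀]
        (U.toScheme.presheaf.stalk x₀) ⊗[X.presheaf.stalk (U.ι x₀)] F.presheaf.stalk (U.ι x₀) :=
      ((GrothLib.OX.pullStalkIso U.ι x₀).app F).toLinearEquiv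
    exact Module.Free.of_equiv e.symm
  -- the restricted section
  have hξr : Set.range (V.ι ≫ ξ).base ⊆ Set.range U.ι.base := by
    rw [Scheme.Opens.range_ι]
    rintro _ ⟨v, rfl⟩
    show f ((V.ι ≫ ξ) v) ∈ V
    rw [show f ((V.ι ≫ ξ) v) = (V.ι ≫ ξ ≫ f) v from rfl, hξ, Category.comp_id]
    exact v.2
  let ξ' : V.toScheme ⟶ U.toScheme := IsOpenImmersion.lift U.ι (V.ι ≫ ξ) hξr
  have hξ' : ξ' ≫ U.ι = V.ι ≫ ξ := IsOpenImmersion.lift_fac _ _ _
  have hξ'f : ξ' ≫ f' = 𝟙 _ := by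
    rw [← cancel_mono V.ι, Category.assoc, ← hsq.w, reassoc_of% hξ', hξ, Category.id_comp]
    exact Category.comp_id _
  have hv : ξ' (t' pt) = x₀ := by
    apply U.ι.isOpenEmbedding.injective
    show (t' ≫ ξ' ≫ U.ι) pt = U.ι x₀
    rw [hξ', reassoc_of% ht', hx₀]
  have hφ0 : (Scheme.Modules.pullback ξ').map φ' = 0 :=
    pullback_map_map_eq_zero ξ' U.ι ξ hξ' φ hφ
  obtain ⟨ρ, hρl, hρ, hρφ⟩ := exists_retraction ξ' f' hξ'f (t' pt) x₀ hv φ' hφ0
  have hs' : f' x₀ = t' pt := by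
    rw [← hv]; exact congrArg (fun g : V.toScheme ⟶ V.toScheme => g (t' pt)) hξ'f
  have hsc : IsClosed ({t' pt} : Set V.toScheme) := by
    have h := t'.isClosedEmbedding.isClosed_range
    rwa [show Set.range t'.base = {t' pt} from Set.eq_singleton_iff_unique_mem.2
      ⟨⟨pt, rfl⟩, fun _ ⟨q, hq⟩ => by rw [← hq, Subsingleton.elim q pt]⟩] at h
  have hxU : x ∈ U := hsV
  have hkill : (GrothLib.OX.stalk (⟨x, hxU⟩ : U.toScheme)).map φ' = 0 := by
    refine GrothLib.FlatHomZero20.stalk_map_eq_zero f' φ' hfl' i₀ p₂ t' hpb z₀ hF' x₀ rfl (t' pt) hs' hsc ρ hρ hρφ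
      (fun ψ hψ => ?_) ⟨x, hxU⟩ ?_
    swap
    · apply V.ι.isOpenEmbedding.injective
      show (f' ≫ V.ι) (⟨x, hxU⟩ : U.toScheme) = (t' ≫ V.ι) pt
      rw [← hsq.w, ht']
      exact htpt.symm
    -- the fibre
    letI : (PicF.XT (i ≫ (CohB1.ProjSpaceOver n S ↘ S)) (Over.mk t)).Over (Spec (CommRingCat.of ℂ)) :=
      ⟨PicF.XTproj (i ≫ (CohB1.ProjSpaceOver n S ↘ S)) (Over.mk t)⟩
    haveI : IsProper p₂ := inferInstanceAs (IsProper (pullback.snd f t))
    haveI : IsProper ((PicF.XT (i ≫ (CohB1.ProjSpaceOver n S ↘ S)) (Over.mk t)) ↘ Spec (CommRingCat.of ℂ)) :=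
      ‹IsProper p₂›
    haveI : IsLocallyNoetherian (PicF.XT f T) := LocallyOfFiniteType.isLocallyNoetherian p₂
    haveI hir : IrreducibleSpace (PicF.XT f T) := (hfib t ht).1
    haveI : Nonempty (Spec (CommRingCat.of ℂ)) := ⟨pt⟩
    have hLt : CohB1.IsAmple ((Scheme.Modules.pullback (p₁ ≫ i)).obj (Twist.twistOver n S 1)) :=
      isAmple_fibre (p₁ ≫ i) p₂ t V hV (by rw [Category.assoc]; exact hbig.w)
        (fun q => by rw [Subsingleton.elim q pt, htpt]; exact hsV)
    obtain ⟨hEs, hFs, hred⟩ := hss t ht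
    obtain ⟨⟨sE, hsE, -⟩, ⟨sF, hsF, hgF⟩⟩ := hLF t ht
    obtain ⟨U₀, hzU₀, hU₀⟩ := hgF z₀ ⟨pt, rfl⟩
    have hr : Set.range σ₀.base ⊆ U₀ := by
      rintro _ ⟨q, rfl⟩
      rw [Subsingleton.elim q pt]; exact hzU₀
    let cE : (Scheme.Modules.pullback i₀).obj E' ≅ (Scheme.Modules.pullback p₁).obj E :=
      (Scheme.Modules.pullbackComp i₀ U.ι).app E ≪≫ (Scheme.Modules.pullbackCongr hi₀).app E
    let cF : (Scheme.Modules.pullback i₀).obj F' ≅ (Scheme.Modules.pullback p₁).obj F :=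
      (Scheme.Modules.pullbackComp i₀ U.ι).app F ≪≫ (Scheme.Modules.pullbackCongr hi₀).app F
    have h0 : (Scheme.Modules.pullback σ₀).map ψ = 0 :=
      GrothLib.FlatHomZero20.pullback_map_eq_zero_of_field ψ σ₀ (fun q e => by
        obtain rfl : q = pt := Subsingleton.elim _ _
        exact hψ e)
    haveI : (Scheme.Modules.pullback σ₀).Additive :=
      (Scheme.Modules.pullbackPushforwardAdjunction σ₀).left_adjoint_additive
    obtain ⟨pE, hpE⟩ := GrothLib.Hilb20.exists_isHilbPoly_pure (k := ℂ) hLt hEs.1 hEs.2.2.1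
    obtain ⟨pF, hpF⟩ := GrothLib.Hilb20.exists_isHilbPoly_pure (k := ℂ) hLt hFs.1 hFs.2.2.1
    have hz : cE.inv ≫ ψ ≫ cF.hom = 0 :=
      GrothLib.Hilb20.eq_zero_of_pullback_eq_zero (k := ℂ) (hfib t ht).2 hLt σ₀ U₀ hr sE hsE sF hsF hU₀ hpE hpF
        (GrothLib.Hilb20.alpha_pos_self hLt hEs.1 hEs.2.1 hEs.2.2.1 hpE).ne'
        (GrothLib.Hilb20.alpha_pos_self hLt hFs.1 hFs.2.1 hFs.2.2.1 hpF).ne'
        (hred pE pF hpE hpF) _ (by rw [Functor.map_comp, Functor.map_comp, h0, zero_comp, comp_zero])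
    rw [← cancel_epi cE.inv, ← cancel_mono cF.hom, Category.assoc, hz]
    simp
  ext e
  exact stalk_eq_zero_of_restrict U φ ⟨x, hxU⟩ hkill e

end Groth.Agent.S15268
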