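import Groth.Statements.S1527
import Groth.Agent.Lib.Euler.Support
import Groth.Agent.Lib.Ample.Generation

set_option autoImplicit false
universe u
open CategoryTheory CategoryTheory.Limits AlgebraicGeometry
open Variety

namespace Groth.Agent.S1527

/-- On a proper scheme over a field, a coherent module whose support has dimension at most zero is
globally generated (a quotient of a free module). -/
theorem result (k : Type u) [Field k] (X : Scheme.{u}) [X.Over (Spec (CommRingCat.of k))] [IsProper (X ↘ (Spec (CommRingCat.of k)))]
    (F : X.Modules) (hF : Coh.IsCoh F) (hsupp : topologicalKrullDim (CohB1.support F) ≤ 0) :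
    Curv2.IsGloballyGenerated F := by
  have := GrothLib.Euler.isNoetherian_of_proper (X := X) k
  have hZ := GrothLib.QCoh.isClosed_support_of_isCoh hF
  have := GrothLib.Euler.isFlasque_of_finite_support F (GrothLib.Euler.finite_of_dim_le_zero hZ hsupp)
    (fun x hx => GrothLib.Euler.isClosed_singleton_of_dim_le_zero hZ hsupp hx)
  refine GrothLib.Ample.isGloballyGenerated_of_local F fun O m x hx => ⟨O, le_rfl, hx, ?_⟩
  obtain ⟨t, ht⟩ := (AddCommGrpCat.epi_iff_surjective _).1
    (TopCat.Presheaf.IsFlasque.epi (X := X.carrier) (F := (Coh.toAb F).obj)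
      (homOfLE (le_top : O ≤ ⊤)).op) m
  rw [GrothLib.InvExt.mres_self]
  exact Submodule.subset_span ⟨t, ht⟩

end Groth.Agent.S1527
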