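import Groth.Statements.S15272
import Groth.Agent.Lib.Hilb20.AbCat
import Groth.Agent.Lib.Hilb20.GiesekerRun

set_option autoImplicit false
set_option maxHeartbeats 1000000
set_option linter.style.haveILetI false
set_option backward.isDefEq.respectTransparency.types false
open CategoryTheory CategoryTheory.Limits AlgebraicGeometry
open Coherent

namespace Groth.Agent.S15272

/-- Over the complex numbers, let X be a proper scheme with an ample invertible sheaf L, and let E and F
be coherent sheaves on X which are semistable of dimension d with respect to L (nonzero, pure of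
dimension d, and the reduced Hilbert polynomial of every nonzero proper coherent subsheaf is at most
that of the sheaf for large arguments), with the same reduced Hilbert polynomial (r(F)·p_E =
r(E)·p_F for Hilbert polynomials p_E of E and p_F of F with respect to L, r denoting d! times the
degree-d coefficient). Then for every morphism f from E to F: the kernel of f is either zero or
semistable of dimension d with every Hilbert polynomial p_K of it satisfying r(E)·p_K = r(K)·p_E;
and the cokernel of f is either zero or semistable of dimension d with every Hilbert polynomial p_Q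
of it satisfying r(E)·p_Q = r(Q)·p_E. In other words the semistable sheaves of dimension d with a
fixed reduced Hilbert polynomial form an abelian subcategory. (The published statement is for
modules over a sheaf of rings of differential operators; this row is the case of the structure
sheaf.) -/
theorem result
    (X : Scheme.{0}) [X.Over (Spec (CommRingCat.of ℂ))] [IsProper (X ↘ Spec (CommRingCat.of ℂ))]
    (L : X.Modules) (hL : CohB1.IsAmple L) (d : ℕ)
    (E F : X.Modules) (hE : ShStab.IsSemistable ℂ X L E d) (hF : ShStab.IsSemistable ℂ X L F d)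
    (pE pF : Polynomial ℚ) (hpE : ShStab.IsHilbPoly ℂ X L E pE) (hpF : ShStab.IsHilbPoly ℂ X L F pF)
    (hred : StabCat.RedEq d pE pF) (f : E ⟶ F) :
    (IsZero (kernel f) ∨ (ShStab.IsSemistable ℂ X L (kernel f) d ∧
        ∀ pK : Polynomial ℚ, ShStab.IsHilbPoly ℂ X L (kernel f) pK → StabCat.RedEq d pK pE)) ∧
    (IsZero (cokernel f) ∨ (ShStab.IsSemistable ℂ X L (cokernel f) d ∧
        ∀ pQ : Polynomial ℚ, ShStab.IsHilbPoly ℂ X L (cokernel f) pQ → StabCat.RedEq d pQ pE)) := by
  haveI := GrothLib.Euler.isNoetherian_of_proper (X := X) ℂ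
  have hαF := GrothLib.Hilb20.alpha_pos_self hL hF.1 hF.2.1 hF.2.2.1 hpF
  have hFE : StabCat.RedEq d pF pE := GrothLib.Hilb20.redEq_symm hred
  by_cases hf : f = 0
  · subst hf
    have e1 : kernel (0 : E ⟶ F) ≅ E := kernelZeroIsoSource
    have e2 : cokernel (0 : E ⟶ F) ≅ F := cokernelZeroIsoTarget
    refine ⟨Or.inr ⟨GrothLib.Hilb20.isSemistable_of_iso ℂ e1.symm hE, fun p hp => ?_⟩,
      Or.inr ⟨GrothLib.Hilb20.isSemistable_of_iso ℂ e2.symm hF, fun p hp => ?_⟩⟩
    · rw [GrothLib.Hilb20.isHilbPoly_unique (GrothLib.Hilb20.isHilbPoly_congr e1 hp) hpE]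
      exact GrothLib.Hilb20.redEq_of_eq rfl
    · rw [GrothLib.Hilb20.isHilbPoly_unique (GrothLib.Hilb20.isHilbPoly_congr e2 hp) hpF]
      exact hFE
  obtain ⟨w, hS⟩ := GrothLib.QCoh.shortExact_kernel_image f
  have hK := GrothLib.QCoh.isCoh_kernel f hE.1 hF.1
  have hI := GrothLib.Hilb20.isCoh_image (k := ℂ) f hE.1 hF.1
  obtain ⟨pK, hpK⟩ := GrothLib.Hilb20.exists_isHilbPoly_sub (k := ℂ) hL hE.2.2.1 (kernel.ι f) hK
  obtain ⟨pI, hpI⟩ := GrothLib.Hilb20.exists_isHilbPoly_sub (k := ℂ) hL hF.2.2.1 (Abelian.image.ι f) hI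
  have eE : pE = pK + pI := GrothLib.Hilb20.eq_add_of_shortExact hL.1 hS hK hE.1 hI hpK hpE hpI
  obtain ⟨hQ, -, pQ, hpQ, eF⟩ := GrothLib.Hilb20.exists_quotient_poly hL hI hF.1 (Abelian.image.ι f) hpI hpF
  have hαE := GrothLib.Hilb20.alpha_pos_self hL hE.1 hE.2.1 hE.2.2.1 hpE
  have hIE := GrothLib.Hilb20.redEq_image hL hE hF hf hpE hpF hred hpI
  have hKE : StabCat.RedEq d pK pE := by
    rw [show pK = pE - pI from by rw [eE]; ring]
    exact GrothLib.Hilb20.redEq_sub hIE
  let e : cokernel (Abelian.image.ι f) ≅ cokernel f :=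
    (cokernelEpiComp (Abelian.factorThruImage f) (Abelian.image.ι f)).symm ≪≫ cokernelIsoOfEq (Abelian.image.fac f)
  have hQ' := GrothLib.QCoh.isCoh_of_iso e hQ
  have hpQ' := GrothLib.Hilb20.isHilbPoly_congr e hpQ
  have hQF : StabCat.RedEq d pQ pF := by
    rw [show pQ = pF - pI from by rw [eF]; ring]
    exact GrothLib.Hilb20.redEq_sub (GrothLib.Hilb20.redEq_trans hαE.ne' hIE hred)
  refine ⟨(em (IsZero (kernel f))).imp id fun h0 => ?_, (em (IsZero (cokernel f))).imp id fun h0 => ?_⟩
  · have hall : ∀ p, ShStab.IsHilbPoly ℂ X L (kernel f) p → StabCat.RedEq d p pE := fun p hp => by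
      rw [GrothLib.Hilb20.isHilbPoly_unique hp hpK]; exact hKE
    exact ⟨GrothLib.Hilb20.isSemistable_kernel hL hE f hF.1 h0 hpE hall, hall⟩
  · refine ⟨GrothLib.Hilb20.isSemistable_quotient hL hF (cokernel.π f) hQ' h0 hpF hpQ' hQF, fun p hp => ?_⟩
    rw [GrothLib.Hilb20.isHilbPoly_unique hp hpQ']
    exact GrothLib.Hilb20.redEq_trans hαF.ne' hQF hFE

end Groth.Agent.S15272
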