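import Groth.Statements.S15283
import Groth.Agent.Lib.NagataFP.Basic
import Mathlib.RingTheory.Smooth.Fiber
import Mathlib.RingTheory.Unramified.LocalRing

set_option autoImplicit false
universe u
open CAlg

namespace Groth.Agent.S15283


open IsLocalRing

/-- An extension of valuation rings composed of two étale extensions is étale. -/
theorem etale_composite {V W : Type u} [CommRing V] [IsDomain V] [ValuationRing V]
    [CommRing W] [IsDomain W] [IsLocalRing W] [Algebra V W] [IsLocalHom (algebraMap V W)]
    (hinj : Function.Injective (algebraMap V W)) (P : Ideal W) [P.IsPrime]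
    (hden : ∀ s ∉ P, ∃ c ∉ P.comap (algebraMap V W), s ∣ algebraMap V W c)
    (hA : (Localization.localRingHom (P.comap (algebraMap V W)) P (algebraMap V W) rfl).Etale)
    (hB : (Ideal.quotientMap P (algebraMap V W) (le_refl (P.comap (algebraMap V W)))).Etale) :
    Algebra.Etale V W := by
  classical
  set p := P.comap (algebraMap V W) with hp
  haveI hpprime : p.IsPrime := Ideal.comap_isPrime _ P
  -- elements outside `p` divide all elements of `p`
  have hdvd : ∀ c ∉ p, ∀ a ∈ p, ∃ a' ∈ p, a = c * a' := by
    intro c hc a ha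
    rcases ValuationRing.dvd_total c a with ⟨a', rfl⟩ | ⟨t, rfl⟩
    · exact ⟨a', (hpprime.mem_or_mem ha).resolve_left hc, rfl⟩
    · exact absurd (p.mul_mem_right t ha) hc
  letI : Algebra (Localization.AtPrime p) (Localization.AtPrime P) :=
    (Localization.localRingHom p P (algebraMap V W) rfl).toAlgebra
  haveI : IsScalarTower V (Localization.AtPrime p) (Localization.AtPrime P) :=
    IsScalarTower.of_algebraMap_eq fun x => by
      rw [RingHom.algebraMap_toAlgebra, Localization.localRingHom_to_map,
        ← IsScalarTower.algebraMap_apply V W (Localization.AtPrime P)]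
  haveI : IsLocalHom (algebraMap (Localization.AtPrime p) (Localization.AtPrime P)) :=
    Localization.isLocalHom_localRingHom _ _ _ _
  haveI hetA : Algebra.Etale (Localization.AtPrime p) (Localization.AtPrime P) := hA
  letI : Algebra (V ⧸ p) (W ⧸ P) :=
    (Ideal.quotientMap P (algebraMap V W) (le_refl p)).toAlgebra
  haveI : IsScalarTower V (V ⧸ p) (W ⧸ P) :=
    IsScalarTower.of_algebraMap_eq fun x => rfl
  haveI hetB : Algebra.Etale (V ⧸ p) (W ⧸ P) := hB
  have hinjP : Function.Injective (algebraMap W (Localization.AtPrime P)) :=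
    IsLocalization.injective _ P.primeCompl_le_nonZeroDivisors
  -- scaling inside `p W`
  have hscale : ∀ c ∉ p, ∀ x ∈ p.map (algebraMap V W), ∃ y ∈ p.map (algebraMap V W),
      x = algebraMap V W c * y := by
    intro c hc x hx
    induction hx using Submodule.span_induction with
    | zero => exact ⟨0, Ideal.zero_mem _, by simp⟩
    | mem x h =>
      obtain ⟨a, ha, rfl⟩ := h
      obtain ⟨a', ha', rfl⟩ := hdvd c hc a ha
      exact ⟨_, Ideal.mem_map_of_mem _ ha', by rw [map_mul]⟩
    | add x y _ _ hx hy =>
      obtain ⟨x', hx', rfl⟩ := hx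
      obtain ⟨y', hy', rfl⟩ := hy
      exact ⟨x' + y', Ideal.add_mem _ hx' hy', by ring⟩
    | smul r x _ hx =>
      obtain ⟨x', hx', rfl⟩ := hx
      exact ⟨r * x', Ideal.mul_mem_left _ r hx', by rw [smul_eq_mul]; ring⟩
  -- `P = p W`
  have hPp : p.map (algebraMap V W) = P := by
    refine le_antisymm Ideal.map_comap_le fun x hx => ?_
    have h1 : algebraMap W (Localization.AtPrime P) x ∈
        (p.map (algebraMap V W)).map (algebraMap W (Localization.AtPrime P)) := by
      rw [Ideal.map_map, ← IsScalarTower.algebraMap_eq,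
        IsScalarTower.algebraMap_eq V (Localization.AtPrime p) (Localization.AtPrime P), ← Ideal.map_map,
        Localization.AtPrime.map_eq_maximalIdeal, Algebra.FormallyUnramified.map_maximalIdeal,
        ← Localization.AtPrime.map_eq_maximalIdeal]
      exact Ideal.mem_map_of_mem _ hx
    obtain ⟨s, hs, hsx⟩ := (IsLocalization.algebraMap_mem_map_algebraMap_iff P.primeCompl _ _ x).mp h1
    obtain ⟨c, hc, t, ht⟩ := hden s hs
    obtain ⟨y, hy, hxy⟩ := hscale c hc (algebraMap V W c * x) (by
      rw [ht, mul_comm s t, mul_assoc]; exact Ideal.mul_mem_left _ t hsx)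
    have hc0 : algebraMap V W c ≠ 0 := fun h => hc (by
      rw [(injective_iff_map_eq_zero _).mp hinj c h]; exact p.zero_mem)
    rwa [mul_left_cancel₀ hc0 hxy]
  -- generators
  obtain ⟨X, hX⟩ := (inferInstance : Algebra.FiniteType (V ⧸ p) (W ⧸ P)).out
  obtain ⟨Z, hZ⟩ := (inferInstance : Algebra.FiniteType (Localization.AtPrime p) (Localization.AtPrime P)).out
  have hclear : ∀ z : Localization.AtPrime P, ∃ c ∉ p, ∃ w : W,
      algebraMap V (Localization.AtPrime P) c * z = algebraMap W (Localization.AtPrime P) w := by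
    intro z
    obtain ⟨⟨w, s⟩, hz⟩ := IsLocalization.surj P.primeCompl z
    obtain ⟨c, hc, t, ht⟩ := hden s s.2
    refine ⟨c, hc, t * w, ?_⟩
    rw [IsScalarTower.algebraMap_apply V W (Localization.AtPrime P), ht, map_mul, map_mul, ← hz]
    ring
  choose cZ hcZ wZ hwZ using hclear
  choose lX hlX using fun x : W ⧸ P => Ideal.Quotient.mk_surjective x
  set S := Algebra.adjoin V ((lX '' (X : Set (W ⧸ P))) ∪ (wZ '' (Z : Set (Localization.AtPrime P)))) with hS
  have hfrac : ∀ z : Localization.AtPrime P, ∃ c ∉ p, ∃ r ∈ S,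
      algebraMap V (Localization.AtPrime P) c * z = algebraMap W (Localization.AtPrime P) r := by
    intro z
    have hz : z ∈ Algebra.adjoin (Localization.AtPrime p) (Z : Set (Localization.AtPrime P)) :=
      hZ ▸ Algebra.mem_top
    induction hz using Algebra.adjoin_induction with
    | mem x hx =>
      exact ⟨cZ x, hcZ x, wZ x, Algebra.subset_adjoin (Or.inr ⟨x, hx, rfl⟩), hwZ x⟩
    | algebraMap r =>
      obtain ⟨⟨a, s⟩, hr⟩ := IsLocalization.surj p.primeCompl r
      refine ⟨s, s.2, algebraMap V W a, S.algebraMap_mem a, ?_⟩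
      rw [← IsScalarTower.algebraMap_apply, IsScalarTower.algebraMap_apply V (Localization.AtPrime p)
        (Localization.AtPrime P), IsScalarTower.algebraMap_apply V (Localization.AtPrime p)
        (Localization.AtPrime P) a, ← map_mul, mul_comm]
      exact congrArg _ hr
    | add x y _ _ hx hy =>
      obtain ⟨c, hc, r, hr, hcr⟩ := hx
      obtain ⟨d, hd, q, hq, hdq⟩ := hy
      refine ⟨c * d, fun h => (hpprime.mem_or_mem h).elim hc hd,
        algebraMap V W d * r + algebraMap V W c * q,
        S.add_mem (S.mul_mem (S.algebraMap_mem d) hr) (S.mul_mem (S.algebraMap_mem c) hq), ?_⟩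
      rw [map_add, map_mul, map_mul, map_mul, ← IsScalarTower.algebraMap_apply,
        ← IsScalarTower.algebraMap_apply, ← hcr, ← hdq]
      ring
    | mul x y _ _ hx hy =>
      obtain ⟨c, hc, r, hr, hcr⟩ := hx
      obtain ⟨d, hd, q, hq, hdq⟩ := hy
      refine ⟨c * d, fun h => (hpprime.mem_or_mem h).elim hc hd, r * q, S.mul_mem hr hq, ?_⟩
      rw [map_mul, map_mul, ← hcr, ← hdq]
      ring
  have hpS : ∀ x ∈ p.map (algebraMap V W), x ∈ S := by
    have key : ∀ a ∈ p, ∀ w : W, algebraMap V W a * w ∈ S := by
      intro a ha w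
      obtain ⟨c, hc, r, hr, hcr⟩ := hfrac (algebraMap W (Localization.AtPrime P) w)
      rw [IsScalarTower.algebraMap_apply V W (Localization.AtPrime P), ← map_mul] at hcr
      obtain ⟨a', _, rfl⟩ := hdvd c hc a ha
      rw [map_mul, mul_comm (algebraMap V W c), mul_assoc, hinjP hcr]
      exact S.mul_mem (S.algebraMap_mem a') hr
    intro x hx
    suffices ∀ w : W, x * w ∈ S by simpa using this 1
    induction hx using Submodule.span_induction with
    | zero => intro w; rw [zero_mul]; exact S.zero_mem
    | mem x h => obtain ⟨a, ha, rfl⟩ := h; exact key a ha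
    | add x y _ _ hx hy => intro w; rw [add_mul]; exact S.add_mem (hx w) (hy w)
    | smul r x _ hx =>
      intro w
      rw [smul_eq_mul, show r * x * w = x * (r * w) by ring]
      exact hx _
  have htop : S = ⊤ := by
    refine eq_top_iff.mpr fun w _ => ?_
    have hw : Ideal.Quotient.mk P w ∈ Algebra.adjoin (V ⧸ p) (X : Set (W ⧸ P)) := hX ▸ Algebra.mem_top
    obtain ⟨r, hr, hrw⟩ : ∃ r ∈ S, Ideal.Quotient.mk P r = Ideal.Quotient.mk P w := by
      generalize Ideal.Quotient.mk P w = u at hw ⊢
      induction hw using Algebra.adjoin_induction with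
      | mem x hx => exact ⟨lX x, Algebra.subset_adjoin (Or.inl ⟨x, hx, rfl⟩), hlX x⟩
      | algebraMap r =>
        obtain ⟨a, rfl⟩ := Ideal.Quotient.mk_surjective r
        exact ⟨algebraMap V W a, S.algebraMap_mem a, rfl⟩
      | add x y _ _ hx hy =>
        obtain ⟨r, hr, rfl⟩ := hx
        obtain ⟨q, hq, rfl⟩ := hy
        exact ⟨r + q, S.add_mem hr hq, map_add _ _ _⟩
      | mul x y _ _ hx hy =>
        obtain ⟨r, hr, rfl⟩ := hx
        obtain ⟨q, hq, rfl⟩ := hy
        exact ⟨r * q, S.mul_mem hr hq, map_mul _ _ _⟩
    have h2 : w - r ∈ S := hpS _ (hPp.symm ▸ Ideal.Quotient.eq.mp hrw.symm)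
    simpa using S.add_mem h2 hr
  haveI : Algebra.FiniteType V W := by
    refine ⟨htop ▸ ?_⟩
    rw [hS]
    exact ⟨X.image lX ∪ Z.image wZ, by simp⟩
  -- flat and finitely presented
  haveI : Module.IsTorsionFree V W := by
    refine Module.IsTorsionFree.of_smul_eq_zero fun a x h => ?_
    rw [Algebra.smul_def, mul_eq_zero] at h
    exact h.imp (fun h => (injective_iff_map_eq_zero _).mp hinj a h) id
  haveI : Module.Flat V W := by
    rw [Module.Flat.flat_iff_torsion_eq_bot_of_isBezout, ← Submodule.isTorsionFree_iff_torsion_eq_bot]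
    infer_instance
  haveI : Algebra.FinitePresentation V W := by
    obtain ⟨n, f, hf⟩ := Algebra.FiniteType.iff_quotient_mvPolynomial''.1
      (inferInstance : Algebra.FiniteType V W)
    letI : Algebra (MvPolynomial (Fin n) V) W := f.toRingHom.toAlgebra
    have hsurj : Function.Surjective (algebraMap (MvPolynomial (Fin n) V) W) := hf
    haveI : Module.Finite (MvPolynomial (Fin n) V) W :=
      Module.Finite.of_surjective (Algebra.linearMap _ W) hsurj
    haveI : Module.FinitePresentation (MvPolynomial (Fin n) V) W :=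
      GrothLib.NagataFP.finitePresentation_of_torsionFree fun a m ha h => by
        rw [Algebra.smul_def, mul_eq_zero] at h
        refine h.resolve_left fun h' => ha ?_
        exact (injective_iff_map_eq_zero _).mp hinj a ((f.commutes a).symm.trans h')
    refine Algebra.FinitePresentation.of_surjective (f := f) hf ?_
    exact Module.FinitePresentation.fg_ker (Algebra.linearMap (MvPolynomial (Fin n) V) W) hsurj
  -- unramified
  haveI : IsLocalRing (W ⧸ P) := .of_surjective' (Ideal.Quotient.mk P) Ideal.Quotient.mk_surjective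
  haveI : IsLocalRing (V ⧸ p) := .of_surjective' (Ideal.Quotient.mk p) Ideal.Quotient.mk_surjective
  haveI : IsLocalHom (algebraMap (V ⧸ p) (W ⧸ P)) := by
    refine ⟨fun x hx => ?_⟩
    obtain ⟨a, rfl⟩ := Ideal.Quotient.mk_surjective x
    haveI := IsLocalHom.of_surjective _ (Ideal.Quotient.mk_surjective (I := P))
    have h1 : IsUnit (algebraMap V W a) := isUnit_of_map_unit (Ideal.Quotient.mk P) _ hx
    exact (isUnit_of_map_unit (algebraMap V W) _ h1).map (Ideal.Quotient.mk p)
  haveI : Algebra.FormallyUnramified V (V ⧸ p) := Algebra.FormallyUnramified.quotient _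
  haveI : Algebra.FormallyUnramified V (W ⧸ P) := Algebra.FormallyUnramified.comp V (V ⧸ p) _
  haveI : Algebra.FormallyUnramified V (ResidueField W) :=
    Algebra.FormallyUnramified.of_surjective
      (Ideal.Quotient.factorₐ V (I := P) (J := maximalIdeal W) (IsLocalRing.le_maximalIdeal (Ideal.IsPrime.ne_top ‹_›)))
      (Ideal.Quotient.factor_surjective (IsLocalRing.le_maximalIdeal (Ideal.IsPrime.ne_top ‹_›)))
  haveI : Algebra.FormallyUnramified (ResidueField V) (ResidueField W) :=
    Algebra.FormallyUnramified.of_restrictScalars V _ _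
  haveI : Algebra.EssFiniteType V (ResidueField W) := Algebra.EssFiniteType.comp V W _
  haveI : Algebra.EssFiniteType (ResidueField V) (ResidueField W) := Algebra.EssFiniteType.of_comp V _ _
  haveI : Algebra.IsSeparable (ResidueField V) (ResidueField W) := Algebra.FormallyUnramified.isSeparable _ _
  haveI : Algebra.FormallyUnramified V W := by
    refine Algebra.FormallyUnramified.of_map_maximalIdeal ?_
    refine le_antisymm (((local_hom_TFAE (algebraMap V W)).out 0 2 rfl rfl).mp ‹_›) fun x hx => ?_
    have h2 : Ideal.Quotient.mk P x ∈ (maximalIdeal (V ⧸ p)).map (algebraMap (V ⧸ p) (W ⧸ P)) := by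
      rw [Algebra.FormallyUnramified.map_maximalIdeal, mem_maximalIdeal]
      haveI := IsLocalHom.of_surjective _ (Ideal.Quotient.mk_surjective (I := P))
      exact fun h => hx (isUnit_of_map_unit (Ideal.Quotient.mk P) _ h)
    haveI := IsLocalHom.of_surjective _ (Ideal.Quotient.mk_surjective (I := p))
    rw [← map_maximalIdeal_of_surjective (Ideal.Quotient.mk p) Ideal.Quotient.mk_surjective,
      Ideal.map_map,
      show (algebraMap (V ⧸ p) (W ⧸ P)).comp (Ideal.Quotient.mk p) =
        (Ideal.Quotient.mk P).comp (algebraMap V W) from RingHom.ext fun _ => rfl,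
      ← Ideal.map_map] at h2
    have h3 : x ∈ ((maximalIdeal V).map (algebraMap V W)) ⊔ P := by
      have := Ideal.mem_comap.mpr h2
      rwa [Ideal.comap_map_of_surjective' _ Ideal.Quotient.mk_surjective, Ideal.mk_ker] at this
    have h4 : P ≤ (maximalIdeal V).map (algebraMap V W) :=
      hPp ▸ Ideal.map_mono (IsLocalRing.le_maximalIdeal hpprime.ne_top)
    exact (sup_le le_rfl h4 : _ ⊔ P ≤ (maximalIdeal V).map (algebraMap V W)) h3
  exact Algebra.Etale.of_formallyUnramified_of_flat


/-- Let L/K be a finite extension of valued fields, v_L extending v_K up to equivalence, such that the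
valuation rings K° and L° both have finitely many prime ideals, and let P be a prime ideal of L°
lying over the prime p of K°. Then v_K is composed from the valuation of K with ring the
localization (K°)_p and the valuation of the residue field of (K°)_p with ring K°/p, and similarly
for v_L with (L°)_P and L°/P. If the induced homomorphisms (K°)_p → (L°)_P and K°/p → L°/P are both
étale, then K° → L° is étale. (For finite extensions of valued fields of finite height, being
unramified is the same as the map of valuation rings being étale, so this is the statement that an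
extension composed from two unramified extensions is unramified.) -/
theorem result
    {K L Γ₀ Γ₁ : Type u} [Field K] [Field L] [Algebra K L] [FiniteDimensional K L]
    [LinearOrderedCommGroupWithZero Γ₀] [LinearOrderedCommGroupWithZero Γ₁]
    (vK : Valuation K Γ₀) (vL : Valuation L Γ₁) [vK.HasExtension vL]
    [Finite (PrimeSpectrum vK.valuationSubring)] [Finite (PrimeSpectrum vL.valuationSubring)]
    (P : Ideal vL.valuationSubring) [P.IsPrime]
    (hA : (Localization.localRingHom (Ideal.comap (algebraMap vK.valuationSubring vL.valuationSubring) P) P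
      (algebraMap vK.valuationSubring vL.valuationSubring) rfl).Etale)
    (hB : (Ideal.quotientMap P (algebraMap vK.valuationSubring vL.valuationSubring)
      (le_refl (Ideal.comap (algebraMap vK.valuationSubring vL.valuationSubring) P))).Etale) :
    Algebra.Etale vK.valuationSubring vL.valuationSubring := by
  classical
  have hinj : Function.Injective (algebraMap vK.valuationSubring vL.valuationSubring) := fun a b h =>
    Subtype.ext ((algebraMap K L).injective (congrArg (Subtype.val) h))
  refine etale_composite hinj P (fun s hs => ?_) hA hB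
  have hs0 : (s : L) ≠ 0 := fun h => hs (by
    rw [show s = 0 from Subtype.ext h]; exact P.zero_mem)
  set f := minpoly K (s : L) with hf
  have hfs : ∑ i ∈ f.support, algebraMap K L (f.coeff i) * (s : L) ^ i = 0 := by
    rw [← minpoly.aeval K (s : L), Polynomial.aeval_def, Polynomial.eval₂_eq_sum, Polynomial.sum_def]
  obtain ⟨i, hi, j, hj, hij, hval⟩ : ∃ i ∈ f.support, ∃ j ∈ f.support, i < j ∧
      vL (algebraMap K L (f.coeff i) * (s : L) ^ i) = vL (algebraMap K L (f.coeff j) * (s : L) ^ j) := by
    by_contra hcon
    push Not at hcon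
    have hne : f.support.Nonempty := Polynomial.support_nonempty.mpr
      (minpoly.ne_zero (IsIntegral.of_finite K _))
    obtain ⟨j, hj, hmax⟩ := Finset.exists_max_image f.support
      (fun i => vL (algebraMap K L (f.coeff i) * (s : L) ^ i)) hne
    have h := Valuation.map_sum_eq_of_lt (v := vL) (f := fun i => algebraMap K L (f.coeff i) * (s : L) ^ i)
      (j := j) hj ?_
    · rw [hfs, map_zero] at h
      have h0 := (map_eq_zero vL).mp h.symm
      rcases mul_eq_zero.mp h0 with h1 | h1
      · exact Polynomial.mem_support_iff.mp hj ((map_eq_zero _).mp h1)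
      · exact hs0 (eq_zero_of_pow_eq_zero h1)
    · intro k hk
      rw [Finset.mem_sdiff, Finset.mem_singleton] at hk
      refine lt_of_le_of_ne (hmax k hk.1) fun he => ?_
      rcases lt_or_gt_of_ne hk.2 with h | h
      · exact hcon k hk.1 j hj h he
      · exact hcon j hj k hk.1 h he.symm
  obtain ⟨m, rfl⟩ := Nat.exists_eq_add_of_lt hij
  rw [show i + m + 1 = i + (m + 1) from rfl] at hval hj
  have hi' : algebraMap K L (f.coeff i) ≠ 0 := by simpa using Polynomial.mem_support_iff.mp hi
  have hj' : algebraMap K L (f.coeff (i + (m + 1))) ≠ 0 := by simpa using Polynomial.mem_support_iff.mp hj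
  set c : K := f.coeff i / f.coeff (i + (m + 1)) with hc
  have hvc : vL (algebraMap K L c) = vL (s : L) ^ (m + 1) := by
    rw [hc, map_div₀, map_div₀, div_eq_iff ((map_ne_zero vL).mpr hj')]
    simp only [map_mul, map_pow, pow_add] at hval ⊢
    apply mul_right_cancel₀ (pow_ne_zero i ((map_ne_zero vL).mpr hs0))
    rw [hval]
    ac_rfl
  have hs1 : vL (s : L) ≤ 1 := s.2
  have hc1 : c ∈ vK.valuationSubring :=
    (Valuation.mem_valuationSubring_iff _ _).mpr ((Valuation.HasExtension.val_map_le_one_iff vK vL c).mp
      (hvc ▸ pow_le_one₀ zero_le hs1))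
  have hcs : (s : L) ^ (m + 1) ≠ 0 := pow_ne_zero _ hs0
  have hval1 : vL (algebraMap K L c / (s : L) ^ (m + 1)) = 1 := by
    rw [map_div₀, map_pow, hvc, div_self (pow_ne_zero _ ((map_ne_zero vL).mpr hs0))]
  have hval2 : vL ((s : L) ^ (m + 1) / algebraMap K L c) = 1 := by
    rw [map_div₀, map_pow, hvc, div_self (pow_ne_zero _ ((map_ne_zero vL).mpr hs0))]
  let u : vL.valuationSubring := ⟨_, ((Valuation.mem_valuationSubring_iff _ _).mpr hval1.le)⟩
  let u' : vL.valuationSubring := ⟨_, ((Valuation.mem_valuationSubring_iff _ _).mpr hval2.le)⟩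
  have hc0 : algebraMap K L c ≠ 0 := by rw [hc, map_div₀]; exact div_ne_zero hi' hj'
  have he : algebraMap vK.valuationSubring vL.valuationSubring ⟨c, hc1⟩ = s ^ (m + 1) * u :=
    Subtype.ext (by simp [u, mul_div_cancel₀ _ hcs])
  have he' : s ^ (m + 1) = algebraMap vK.valuationSubring vL.valuationSubring ⟨c, hc1⟩ * u' :=
    Subtype.ext (by simp [u', mul_div_cancel₀ _ hc0])
  refine ⟨⟨c, hc1⟩, fun h => hs (Ideal.IsPrime.mem_of_pow_mem ‹_› (m + 1) (he' ▸ P.mul_mem_right u' h)),
    ⟨s ^ m * u, by rw [he, pow_succ']; ring⟩⟩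

end Groth.Agent.S15283
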