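import Groth.Statements.S15285
import Groth.Agent.Lib.PicCat.Act

set_option autoImplicit false
universe v v' u u'
open PicCat

namespace Groth.Agent.S15285

open CategoryTheory MonoidalCategory in
/-- Let C and D be Picard categories (monoidal groupoids in which tensoring on either side with any
object is an equivalence of categories) and F : C ⥤ D a lax monoidal functor. If F induces a
bijection on isomorphism classes of objects (it is essentially surjective, and F X ≅ F Y only when X
≅ Y) and a bijection on endomorphisms of the unit object, then F is an equivalence of categories. -/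
theorem result
    {C : Type u} [Category.{v} C] [MonoidalCategory C] [IsGroupoid C]
    {D : Type u'} [Category.{v'} D] [MonoidalCategory D] [IsGroupoid D]
    (hC : ∀ X : C, (tensorLeft X).IsEquivalence ∧ (tensorRight X).IsEquivalence)
    (hD : ∀ X : D, (tensorLeft X).IsEquivalence ∧ (tensorRight X).IsEquivalence)
    (F : C ⥤ D) [F.LaxMonoidal] [F.EssSurj]
    (h0 : ∀ X Y : C, Nonempty (F.obj X ≅ F.obj Y) → Nonempty (X ≅ Y))
    (h1 : Function.Bijective (fun φ : 𝟙_ C ⟶ 𝟙_ C => F.map φ)) :
    F.IsEquivalence := by
  have hb := GrothLib.PicAct.map_bijective F (fun X => (hC X).2) (fun X => (hD X).2) h1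
  haveI : F.Faithful := ⟨fun {X Y} f g h => by
    have h2 : F.map (f ≫ inv g) = F.map (𝟙 X) := by simp [h]
    have h3 := (hb X).1 h2
    rwa [IsIso.comp_inv_eq, Category.id_comp] at h3⟩
  haveI : F.Full := ⟨fun {X Y} f => by
    obtain ⟨e⟩ := h0 X Y ⟨asIso f⟩
    obtain ⟨a, ha⟩ := (hb X).2 (f ≫ F.map e.inv)
    exact ⟨a ≫ e.hom, by simp only at ha; simp [ha]⟩⟩
  exact {}

end Groth.Agent.S15285
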