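import Groth.Statements.S15286
import Groth.Agent.Lib.PicCat.Act

set_option autoImplicit false
universe v v' u u'
open PicCat

namespace Groth.Agent.S15286

open CategoryTheory MonoidalCategory in
/-- Let C be a Picard category, D a commutative (braided) Picard category, F, G : C ⥤ D lax monoidal
functors and θ₀ : F ⟶ G a monoidal natural transformation. Identify an endomorphism φ of the unit of
D with the automorphism λ⁻¹ ≫ (φ ▷ Z) ≫ λ of any object Z. Then the monoidal natural transformations
F ⟶ G form a torsor under the monoid homomorphisms χ from the monoid of isomorphism classes of C to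
End(𝟙_D): every monoidal θ : F ⟶ G is X ↦ θ₀_X ≫ (action of χ[X] on G X) for a unique such χ, and
for every χ this formula defines a monoidal natural transformation. (The published statement allows
D non-commutative; for a non-braided monoidal groupoid the classes so obtained are crossed rather
than plain homomorphisms, so D is taken braided here.) -/
theorem result
    {C : Type u} [Category.{v} C] [MonoidalCategory C] [IsGroupoid C]
    {D : Type u'} [Category.{v'} D] [MonoidalCategory D] [BraidedCategory D] [IsGroupoid D]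
    (hC : ∀ X : C, (tensorLeft X).IsEquivalence ∧ (tensorRight X).IsEquivalence)
    (hD : ∀ X : D, (tensorLeft X).IsEquivalence ∧ (tensorRight X).IsEquivalence)
    (F G : C ⥤ D) [F.LaxMonoidal] [G.LaxMonoidal] (θ₀ : F ⟶ G) [NatTrans.IsMonoidal θ₀] :
    (∀ θ : F ⟶ G, NatTrans.IsMonoidal θ →
      ∃! χ : Skeleton C →* End (𝟙_ D), ∀ X : C,
        θ.app X = θ₀.app X ≫ (λ_ (G.obj X)).inv ≫
          ((χ (toSkeleton X) : 𝟙_ D ⟶ 𝟙_ D) ▷ G.obj X) ≫ (λ_ (G.obj X)).hom) ∧
    (∀ χ : Skeleton C →* End (𝟙_ D), ∃ θ : F ⟶ G, NatTrans.IsMonoidal θ ∧ ∀ X : C,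
        θ.app X = θ₀.app X ≫ (λ_ (G.obj X)).inv ≫
          ((χ (toSkeleton X) : 𝟙_ D ⟶ 𝟙_ D) ▷ G.obj X) ≫ (λ_ (G.obj X)).hom) := by
  have hb : ∀ Z : D, Function.Bijective (fun φ : 𝟙_ D ⟶ 𝟙_ D => GrothLib.PicAct.act φ Z) :=
    fun Z => haveI := (hD Z).2; GrothLib.PicAct.act_bijective Z
  open GrothLib.PicAct Functor.LaxMonoidal in
  refine ⟨fun θ hθ => ?_, fun χ => ?_⟩
  · choose c hc using fun X : C => (hb (G.obj X)).2 (inv (θ₀.app X) ≫ θ.app X)
    simp only at hc
    have hc' : ∀ X, θ.app X = θ₀.app X ≫ act (c X) (G.obj X) := fun X => by simp [hc]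
    have hiso : ∀ {X Y : C}, (X ≅ Y) → c X = c Y := fun {X Y} e => by
      apply (hb (G.obj X)).1
      have h := θ.naturality e.hom
      rw [hc', hc', reassoc_of% θ₀.naturality, Category.assoc, cancel_epi, act_naturality,
        cancel_mono] at h
      exact h.symm
    have hone : c (𝟙_ C) = 𝟙 _ := by
      have h := hθ.unit
      rw [hc', ← Category.assoc, (inferInstance : NatTrans.IsMonoidal θ₀).unit, act_naturality, act_unit] at h
      exact (cancel_mono (ε G)).1 (h.trans (Category.id_comp _).symm)
    have hten : ∀ X Y, c (X ⊗ Y) = c Y ≫ c X := fun X Y => by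
      have h := hθ.tensor X Y
      rw [hc', ← Category.assoc, (inferInstance : NatTrans.IsMonoidal θ₀).tensor, Category.assoc,
        hc', hc', ← tensorHom_comp_tensorHom_assoc, cancel_epi, act_naturality, cancel_mono,
        tensorHom_def', act_whiskerLeft, act_whiskerRight, ← act_comp] at h
      exact (hb _).1 h
    let χ : Skeleton C →* End (𝟙_ D) :=
      { toFun := fun X => c X.out
        map_one' := (hiso (fromSkeletonToSkeletonIso (𝟙_ C))).trans hone
        map_mul' := fun X Y =>
          (hiso (fromSkeletonToSkeletonIso (Quotient.out X ⊗ Quotient.out Y))).trans (hten X.out Y.out) }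
    have hχ : ∀ X, χ (toSkeleton X) = c X := fun X => hiso (fromSkeletonToSkeletonIso X)
    refine ⟨χ, fun X => ?_, fun χ' hχ' => MonoidHom.ext fun X => ?_⟩
    · rw [hχ]; exact hc' X
    · induction X using Quotient.inductionOn with
      | h X =>
        show χ' (toSkeleton X) = χ (toSkeleton X)
        rw [hχ]
        exact (hb (G.obj X)).1 ((cancel_epi (θ₀.app X)).1 ((hχ' X).symm.trans (hc' X)))
  · refine ⟨{ app := fun X => θ₀.app X ≫ act (χ (toSkeleton X)) (G.obj X),
              naturality := fun X Y f => ?_ }, ⟨?_, fun X Y => ?_⟩, fun X => rfl⟩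
    · have : toSkeleton X = toSkeleton Y := Quotient.sound ⟨asIso f⟩
      rw [reassoc_of% θ₀.naturality, this, act_naturality, Category.assoc]
    · simp only
      rw [← Category.assoc, (inferInstance : NatTrans.IsMonoidal θ₀).unit, ← Skeleton.one_eq, map_one,
        act_naturality]
      exact (congrArg (· ≫ ε G) (act_id _)).trans (Category.id_comp _)
    · simp only
      rw [← Category.assoc, (inferInstance : NatTrans.IsMonoidal θ₀).tensor, Category.assoc,
        ← tensorHom_comp_tensorHom_assoc, act_naturality, Skeleton.toSkeleton_tensorObj, map_mul]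
      congr 1
      congr 1
      rw [tensorHom_def', act_whiskerLeft, act_whiskerRight, ← act_comp]
      rfl

end Groth.Agent.S15286
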