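import Groth.Statements.S15287
import Groth.Agent.Lib.AmpSpread10.SemiLocal
import Groth.Agent.Lib.QCohTwist9.Basic
import Groth.Agent.Lib.VA.Eventually
import Groth.Agent.Lib.FinCov.FrameFree
import Groth.Prelude.Def_PicGrp

set_option autoImplicit false
universe u
open CategoryTheory AlgebraicGeometry
open PicF

namespace Groth.Agent.S15287

set_option backward.isDefEq.respectTransparency false


/-- Let Y be a scheme proper over a field k carrying an ample invertible O_Y-module A, let L be an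
invertible O_Y-module and y_1, …, y_m finitely many points of Y. Then there is N₀ such that for
every N ≥ N₀ the module L ⊗ A^{⊗ N} has a global section generating it at every y_i (each y_i lies
in the largest open over which the section is a basis). (The published statement takes Y projective
over k and A very ample; this row takes Y proper over k and A ample.) -/
theorem result
    (k : Type u) [Field k] (Y : Scheme.{u}) (f : Y ⟶ Spec (CommRingCat.of k)) [IsProper f]
    (A : Y.Modules) (hA : CohB1.IsAmple A) (L : Y.Modules) (hL : PicF.IsInvertible L)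
    (ι : Type) [Finite ι] (y : ι → ↥Y) :
    ∃ N₀ : ℕ, ∀ N : ℕ, N₀ ≤ N →
      ∃ s : Coh.structureModule Y ⟶ CohB1.tensorMod L (CohB1.tensorPow A N),
        ∀ i : ι, y i ∈ CohB1.genLocus (CohB1.tensorMod L (CohB1.tensorPow A N)) s := by
  classical
  haveI : CompactSpace Y := QuasiCompact.compactSpace_of_compactSpace f
  haveI : QuasiSeparatedSpace Y := quasiSeparatedSpace_of_quasiSeparated f
  haveI : L.IsQuasicoherent := GrothLib.InvExt.isQuasicoherent_of_isInvertible hL
  obtain ⟨c, ⟨eA⟩⟩ := GrothLib.Ample.exists_cocycle hA.1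
  obtain ⟨n, a, hZ, -, haff⟩ := c.exists_affine_locus_finite ((c.isAmple_iff eA).mp hA).2
    (Set.finite_range y) (U := ⊤) (Set.subset_univ _)
  have hβ : ∀ r : Fin (n + 1), ∃ t : Γ(c.modTwist L r, c.locus a), ∀ z ∈ Set.range y, GrothLib.VA.GenAt _ t z :=
    fun r => GrothLib.AmpSpread10.exists_section_genAt_finite (GrothLib.VA.isInvertible_modTwist c hL r)
      haff (Set.finite_range y) hZ
  choose β hβ using hβ
  have hm : ∀ r : Fin (n + 1), ∃ m₀ : ℕ, ∀ m, m₀ ≤ m →
      ∃ b : c.msect L ((r : ℕ) + (n + 1) * m) ⊤,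
        c.msectRes (le_top : c.locus a ≤ ⊤) b = c.mraise a (β r) m := fun r => by
    obtain ⟨m₀, h⟩ := c.exists_mextend_uniform (M := L) (fun _ : Unit => a) (fun _ => β r)
    exact ⟨m₀, fun m hm => h m hm ()⟩
  choose m₀ hm₀ using hm
  refine ⟨(n + 1) * (Finset.univ.sup m₀ + 1), fun N hN => ?_⟩
  obtain ⟨r, m, rfl⟩ : ∃ (r : Fin (n + 1)) (m : ℕ), N = (r : ℕ) + (n + 1) * m :=
    ⟨⟨N % (n + 1), Nat.mod_lt _ n.succ_pos⟩, N / (n + 1), (Nat.mod_add_div _ _).symm⟩
  have hrm : m₀ r ≤ m := by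
    by_contra hlt
    have h1 : m < Finset.univ.sup m₀ + 1 :=
      (Nat.lt_of_not_le hlt).trans_le (Nat.le_succ_of_le (Finset.le_sup (Finset.mem_univ r)))
    have h2 : (r : ℕ) < n + 1 := r.2
    have h3 : (n + 1) * (m + 1) ≤ (n + 1) * (Finset.univ.sup m₀ + 1) := Nat.mul_le_mul_left _ h1
    rw [Nat.mul_succ] at h3
    omega
  obtain ⟨b, hb⟩ := hm₀ r m hrm
  let b' : Γ(c.modTwist L ((r : ℕ) + (n + 1) * m), ⊤) := b
  have hgen : ∀ i : ι, GrothLib.VA.GenAt _ b' (y i) := by
    intro j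
    obtain ⟨i, hi⟩ := c.exists_mem (y j)
    have hza : y j ∈ c.locus a := hZ ⟨j, rfl⟩
    refine (GrothLib.VA.genAt_modTwist c hL b (i := i) (show y j ∈ (⊤ : Y.Opens) from trivial) hi).mpr ?_
    have h1 : GrothLib.VA.GenAt L ((β r : c.msect L r (c.locus a)).1 i) (y j) :=
      (GrothLib.VA.genAt_modTwist c hL (β r) (i := i) hza hi).mp (hβ r _ ⟨j, rfl⟩)
    have h2 := congrArg (fun w : c.msect L _ (c.locus a) => w.1 i) hb
    simp only [GrothLib.Ample.Cocycle.msectRes_apply, GrothLib.Ample.Cocycle.mraise_apply] at h2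
    have h4 : GrothLib.VA.GenAt L (GrothLib.InvExt.mres L
        (inf_le_inf_right (c.D i) (le_top : c.locus a ≤ ⊤)) (b.1 i)) (y j) := by
      rw [h2, GrothLib.VA.genAt_smul_iff hL]
      refine ⟨?_, h1⟩
      rcases Nat.eq_zero_or_pos m with hm0 | hm0
      · rw [hm0, pow_zero, Scheme.basicOpen_of_isUnit _ isUnit_one]
        exact ⟨hza, hi⟩
      · rw [Scheme.basicOpen_pow _ _ hm0, GrothLib.Ample.mem_basicOpen_res]
        exact ⟨⟨hza, hi⟩, (c.mem_locus_iff a hi).mp hza⟩
    exact ((GrothLib.VA.genAt_mres _ _).mp h4).2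
  obtain ⟨eN⟩ := c.nonempty_tensorPow_iso eA ((r : ℕ) + (n + 1) * m)
  obtain ⟨q⟩ := c.nonempty_tensor_modTwist L ((r : ℕ) + (n + 1) * m)
  let φ := q.symm ≪≫ PicGrp.tensorModIso (Iso.refl L) eN.symm
  refine ⟨GrothLib.FinCov.homOfSection b' ≫ φ.hom, fun j => ?_⟩
  obtain ⟨W, hW, hjW, hWgen⟩ := hgen j
  refine (GrothLib.QCohTwist9.mem_genLocus_iff (U := W) _
    (GrothLib.VA.isGen_map_iso φ.hom hWgen) (c := 1) ?_ hjW).mpr ?_
  · rw [one_smul]
    show φ.hom.app W ((GrothLib.FinCov.homOfSection b').app W (GrothLib.FinCov.one Y W)) = _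
    rw [GrothLib.FinCov.homOfSection_one]
  · simp

end Groth.Agent.S15287
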