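import Groth.Statements.S7411
import Groth.Agent.Lib.RLpsi8.FibreVanish
import Groth.Agent.S0403

set_option autoImplicit false
universe u
open Lim

namespace Groth.Agent.S7411

open AlgebraicGeometry CategoryTheory in
/-- Let `f : X → Y` be proper and `y ∈ Y` a point whose fibre `X_y` has dimension at most `d`. Then for
every quasi-coherent `O_X`-module `F` and every `i > d` the stalk `(R^i f_* F)_y` vanishes. (The
published statement assumes that the fibre has dimension exactly `d`; this row assumes dimension at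
most `d`.) -/
theorem result {X Y : Scheme.{u}} (f : X ⟶ Y) [IsProper f]
    (y : Y) (d : ℕ) (hd : topologicalKrullDim ↥(f.fiber y) ≤ d) (M : X.Modules) [Coh.IsQCoh M] (i : ℕ)
    (hi : d < i) :
    Limits.IsZero (TopCat.Presheaf.stalk ((Coh.RpushAb f i).obj (Coh.toAb M)).obj y) := by
  obtain ⟨V, hV, hyV, hVU⟩ := exists_isAffineOpen_mem_and_subset
    (U := (⟨{s : Y | topologicalKrullDim (f.fiber s) ≤ (d : WithBot ℕ∞)}, Groth.Agent.S0403.result f d⟩ : Y.Opens))
    (x := y) hd
  haveI : M.IsQuasicoherent := ‹Coh.IsQCoh M›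
  haveI : Subsingleton ↑(TopCat.Presheaf.stalk (C := AddCommGrpCat.{u}) (X := Y.carrier) ((Coh.RpushAb f i).obj (Coh.toAb M)).obj y) := by
    refine subsingleton_of_forall_eq 0 fun t => ?_
    obtain ⟨W, hyW, s, rfl⟩ := TopCat.Presheaf.germ_exist _ t
    obtain ⟨W', hW', hyW', hW'le⟩ := exists_isAffineOpen_mem_and_subset (U := (W ⊓ V : Y.Opens)) (x := y) ⟨hyW, hyV⟩
    haveI := GrothLib.RLpsi8.FibreVanish.subsingleton_sections f d hW'
      (fun s hs => hVU (hW'le hs).2) M i hi
    rw [← TopCat.Presheaf.germ_res_apply _ (homOfLE (show W' ≤ W from fun _ h => (hW'le h).1)) y hyW',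
      Subsingleton.elim (((Coh.RpushAb f i).obj (Coh.toAb M)).obj.map (homOfLE (show W' ≤ W from fun _ h => (hW'le h).1)).op s) 0,
      map_zero]
  exact AddCommGrpCat.isZero_of_subsingleton _

end Groth.Agent.S7411
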