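import Groth.Statements.S15288
import Groth.Agent.S7411
import Groth.Agent.Lib.KSix19.RpushAmp.Main
import Groth.Agent.Lib.RelAmp22.Triangle
import Groth.Agent.Lib.RelAmp22.Stalk
import Groth.Agent.Lib.CanonTriv.Basic
import Groth.Agent.Lib.OX.PerfectEnvelope
import Groth.Agent.Lib.AlgSp.FieldFibreDim
import Groth.Agent.Lib.BlowCoh8.LocFree
import Groth.Agent.Lib.BlowK17.RpushInD
import Groth.Agent.Lib.PBC25.ProperBC
import Groth.Agent.Lib.RpushSupp20.Main
-- import your own Groth.Agent.* helpers here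

set_option autoImplicit false
universe u
open CategoryTheory CategoryTheory.Limits AlgebraicGeometry
attribute [local instance] HasDerivedCategory.standard
open Perf

namespace Groth.Agent.S15288

/-- Let f : X ⟶ Y be locally projective (locally on Y, X is a closed subscheme of some projective space
ℙ^N_Y), flat, surjective and locally of finite presentation, with every fibre of local dimension n
at each of its points, and assume the derived direct image Rf_* exists on D(O_X). If E ∈ D(O_X) is
perfect and is represented by a complex of flat O_X-modules concentrated in degrees [a, b], then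
Rf_*E has tor amplitude in [a, b + n]: for every O_Y-module F the cohomology sheaves of Rf_*E ⊗^L F
vanish outside [a, b + n]. (Rf_*E is moreover perfect; that part is the flat proper finitely
presented case stated separately.) -/
theorem result
    {X Y : Scheme.{u}} (f : X ⟶ Y) (n : ℕ)
    (hproj : RedSub.IsLocallyProjective (Over.mk f))
    [Flat f] [Surjective f] [LocallyOfFinitePresentation f]
    (hdim : ∀ x : ↥X, FlatMor.fibreDimAt f x = n)
    [DCoh.HasRpush f] (E : DCoh.D X) (hE : DCoh.IsPerfect E) (a b : ℤ)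
    (hab : DCoh.HasFlatAmplitudeIn a b E) :
    DCoh.HasTorAmplitudeIn a (b + n) ((DCoh.Rpush f).obj E) := by
  haveI : IsProper f := GrothLib.CanonTriv.isProper_of_isLocallyProjective f hproj
  haveI := GrothLib.RpushSupp20.hasInjectiveResolutions X
  have hfib : ∀ y : Y, topologicalKrullDim ↥(f.fiber y) ≤ ((n : ℕ) : WithBot ℕ∞) := fun y => by
    refine (GrothLib.AlgSp.topologicalKrullDim_le_iff_localDim _).2 fun z => ?_
    have key : ∀ (y : Y) (x : X) (z : ↥(f.fiber y)), f.fiberι y z = x → f x = y →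
        FlatMor.localDim ↥(f.fiber y) z ≤ ((n : ℕ) : WithBot ℕ∞) := fun y x z hzx hxy => by
      subst hxy
      have hz : z = f.asFiber x :=
        (f.fiberι (f x)).isEmbedding.injective (hzx.trans (f.fiberι_asFiber x).symm)
      rw [hz]
      exact le_of_eq (hdim x)
    refine key y _ z rfl ?_
    have h : f.fiberι y z ∈ Set.range (f.fiberι y) := ⟨z, rfl⟩
    rwa [f.range_fiberι] at h
  have hvan : ∀ M : X.Modules, Coh.IsQCoh M → ∀ k : ℤ, (n : ℤ) < k →
      IsZero (DCoh.HD ((GrothLib.SiteDer.Rres (GrothLib.OX.rmor f)).obj (DCoh.inD X M)) k) := fun M hM k hk => by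
    obtain ⟨q, rfl⟩ := Int.eq_ofNat_of_zero_le (show 0 ≤ k by omega)
    haveI := hM
    exact ((GrothLib.BlowCoh8.isZero_RpushAb_iff (f := f) M q).1 (GrothLib.PBC25.isZero_of_stalks _ fun y =>
      S7411.result f y n (hfib y) M q (by omega))).of_iso
        (GrothLib.SiteDer.nonempty_homology_Rres_single (GrothLib.OX.rmor f) M q).some
  have hqc : DCoh.IsQCohD E := GrothLib.OX.isQCohD_of_isPerfect hE
  obtain ⟨E₀, hv, hfl, ⟨e₀⟩⟩ := hab
  let G := DerivedCategory.Q.objPreimage ((DCoh.Rpush f).obj E)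
  let e : DCoh.toD Y G ≅ (DCoh.Rpush f).obj E := DerivedCategory.Q.objObjPreimageIso _
  have hamp : DerSch.HasTorAmplitude f a b E₀ := (GrothLib.RelAmp22.hasTorAmplitude_iff f a b E₀).2 fun x =>
    GrothLib.RelAmp22.ampAt_of_relFlat f ⟨E₀, hv, fun i => GrothLib.RelAmp22.flatOver_of_flat f (hfl i), ⟨Iso.refl _⟩⟩ x
  haveI : E₀.IsStrictlyGE a := (CochainComplex.isStrictlyGE_iff _ _).2 fun i hi => hv i (Or.inl hi)
  haveI : (DCoh.toD X E₀).IsGE a := inferInstanceAs ((DerivedCategory.Q.obj E₀).IsGE a)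
  haveI : (DCoh.toD X E₀).IsLE b := GrothLib.KSix19.isLE_of_torAmplitude f hamp
  have hq₀ : DCoh.IsQCohD (DCoh.toD X E₀) := GrothLib.KSix19.BettiExact.isQCohD_of_iso' e₀.symm hqc
  have hst : ∀ y : Y, DerSch.HasTorAmplitudeAt (𝟙 Y) a (b + n) G y := fun y => by
    refine GrothLib.KSix19.RpushAmp.torAmplitudeD_Rpush f (𝟙 Y) f (Category.comp_id f) E₀ hq₀ (a := a) (b := b) ⊤
      (fun x _ => hamp x) (fun i hi => Functor.map_isZero _ ?_) G (e ≪≫ (DCoh.Rpush f).mapIso e₀.symm) (y := y) trivial
    exact (GrothLib.KSix19.RpushAmp.isZero_Rres_of_mod' f (n : ℤ) hvan (DCoh.toD X E₀) a b hq₀ i hi).of_iso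
        ((DerivedCategory.homologyFunctor _ i).mapIso ((GrothLib.OX.rpushIsoRres f).app _))
  exact GrothLib.OX.hasTorAmplitudeIn_of_amp
    (GrothLib.OX.amp_of_iso e (GrothLib.OX.amp_of_vanishesOutside (GrothLib.KSix19.flatAmplitude_of_stalks' hst)))

end Groth.Agent.S15288
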