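import Groth.Statements.S15293
import Mathlib
import Groth.Agent.Lib.DeRhamFam.Basic

set_option autoImplicit false
universe u
open DeRham

namespace Groth.Agent.S15293

open exteriorPower

variable (R S A B : Type u) [CommRing R] [CommRing S] [CommRing A] [CommRing B]
    [Algebra R S] [Algebra R A] [Algebra R B] [Algebra A B] [Algebra S B]
    [IsScalarTower R A B] [IsScalarTower R S B]

/-- Pullback of forms as an alternating map over `A`. -/
noncomputable def pull (p : ℕ) : Ω[A⁄R] [⋀^Fin p]→ₗ[A] ↥(⋀[B]^p (Ω[B⁄S])) :=
  { ((ιMulti B p (M := Ω[B⁄S])).toMultilinearMap.restrictScalars A).compLinearMap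
      (fun _ => KaehlerDifferential.map R S A B) with
    map_eq_zero_of_eq' := fun v i j h hij =>
      (ιMulti B p).map_eq_zero_of_eq _ (congrArg (KaehlerDifferential.map R S A B) h) hij }


open exteriorPower in
/-- For a commutative square of ring maps R → A → B, R → S → B (B an algebra over R, A and S
compatibly), there is a family of additive maps ψ_p from the p-forms of A over R to the p-forms of B
over S, p ≥ 0, which is the map of de Rham complexes induced by the square: ψ_p sends b₀ db₁ ∧ … ∧
db_p to g(b₀) d(g b₁) ∧ … ∧ d(g b_p), where g : A → B is the structure map. In degree 0 this is g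
and in degree 1 the induced map on Kähler differentials. -/
theorem result (R S A B : Type u) [CommRing R] [CommRing S] [CommRing A] [CommRing B]
    [Algebra R S] [Algebra R A] [Algebra R B] [Algebra A B] [Algebra S B]
    [IsScalarTower R A B] [IsScalarTower R S B] :
    ∃ ψ : ∀ p : ℕ, ↥(⋀[A]^p (Ω[A⁄R])) →+ ↥(⋀[B]^p (Ω[B⁄S])),
      DeRham.IsCxMap (KaehlerDifferential.D R A) (KaehlerDifferential.D S B) (algebraMap A B) ψ := by
  refine ⟨fun p => (exteriorPower.alternatingMapLinearEquiv (pull R S A B p)).toAddMonoidHom, fun p b₀ b => ?_⟩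
  show exteriorPower.alternatingMapLinearEquiv (pull R S A B p) (b₀ • _) = _
  rw [map_smul, exteriorPower.alternatingMapLinearEquiv_apply_ιMulti]
  show b₀ • exteriorPower.ιMulti B p (fun i => KaehlerDifferential.map R S A B (KaehlerDifferential.D R A (b i))) = _
  simp only [KaehlerDifferential.map_D]
  exact (algebraMap_smul B b₀ _).symm

end Groth.Agent.S15293
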