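import Groth.Statements.S15295
import Mathlib
import Groth.Agent.Lib.DeRhamFam.Basic

set_option autoImplicit false
universe u
open DeRham

namespace Groth.Agent.S15295

open exteriorPower TensorProduct

variable {A M : Type u} [CommRing A] [AddCommGroup M] [Module A M]

lemma retraction (p : ℕ) : ∃ π : ExteriorAlgebra A M →ₗ[A] ↥(⋀[A]^p M),
    π ∘ₗ (⋀[A]^p M).subtype = LinearMap.id :=
  ⟨(DirectSum.component A ℕ (fun i => ↥(⋀[A]^i M)) p).comp
      (DirectSum.decomposeLinearEquiv fun i : ℕ => ⋀[A]^i M).toLinearMap,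
    LinearMap.ext fun x => by
      simp [DirectSum.decomposeLinearEquiv, DirectSum.decompose_coe]
      exact DirectSum.of_eq_same (β := fun i => ↥(⋀[A]^i M)) p x⟩

variable (R S A B : Type u) [CommRing R] [CommRing S] [CommRing A] [CommRing B]
    [Algebra R S] [Algebra R A] [Algebra R B] [Algebra A B] [Algebra S B]
    [IsScalarTower R A B] [IsScalarTower R S B] [Algebra.IsPushout R S A B]

include R in
lemma span_pull : Submodule.span B (Set.range fun a : A => KaehlerDifferential.D S B (algebraMap A B a)) = ⊤ := by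
  rw [eq_top_iff]
  intro w hw
  clear hw
  obtain ⟨z, rfl⟩ := (KaehlerDifferential.tensorKaehlerEquiv R S A B).surjective w
  induction z using TensorProduct.induction_on with
  | zero => rw [map_zero]; exact zero_mem _
  | add u v hu hv => rw [map_add]; exact add_mem hu hv
  | tmul b ω =>
    have hω : ω ∈ Submodule.span A (Set.range (KaehlerDifferential.D R A)) := by
      rw [DRFam.span_D]; exact Submodule.mem_top
    induction hω using Submodule.span_induction generalizing b with
    | mem x hx =>
      obtain ⟨a, rfl⟩ := hx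
      rw [KaehlerDifferential.tensorKaehlerEquiv_tmul_D]
      exact Submodule.smul_mem _ _ (Submodule.subset_span ⟨a, rfl⟩)
    | zero => rw [TensorProduct.tmul_zero, map_zero]; exact zero_mem _
    | add x y _ _ hx hy => rw [TensorProduct.tmul_add, map_add]; exact add_mem (hx b) (hy b)
    | smul c x _ hx => rw [← TensorProduct.smul_tmul]; exact hx _

/-- The comparison map into the base change of the exterior algebra. -/
noncomputable def g : Ω[B⁄S] →ₗ[B] B ⊗[A] ExteriorAlgebra A (Ω[A⁄R]) :=
  (LinearMap.baseChange B (ExteriorAlgebra.ι A (M := Ω[A⁄R]))).comp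
    (KaehlerDifferential.tensorKaehlerEquiv R S A B).symm.toLinearMap

lemma g_sq (w : Ω[B⁄S]) : g R S A B w * g R S A B w = 0 := by
  set F := LinearMap.baseChange B (ExteriorAlgebra.ι A (M := Ω[A⁄R]))
  have anti : ∀ x y, F x * F y + F y * F x = 0 := by
    intro x y
    induction x using TensorProduct.induction_on with
    | zero => simp
    | add u v hu hv =>
      rw [map_add, add_mul, mul_add, add_add_add_comm, hu, hv, add_zero]
    | tmul b u =>
      induction y using TensorProduct.induction_on with
      | zero => simp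
      | add v v' hv hv' =>
        rw [map_add, add_mul, mul_add, add_add_add_comm, hv, hv', add_zero]
      | tmul c v =>
        simp only [F, LinearMap.baseChange_tmul, Algebra.TensorProduct.tmul_mul_tmul]
        rw [mul_comm c b, ← TensorProduct.tmul_add, ExteriorAlgebra.ι_add_mul_swap, TensorProduct.tmul_zero]
  have hsq : ∀ x, F x * F x = 0 := by
    intro x
    induction x using TensorProduct.induction_on with
    | zero => simp
    | add u v hu hv =>
      rw [map_add, add_mul, mul_add, mul_add, hu, hv, zero_add, add_zero]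
      exact anti u v
    | tmul b u =>
      simp only [F, LinearMap.baseChange_tmul, Algebra.TensorProduct.tmul_mul_tmul]
      rw [ExteriorAlgebra.ι_sq_zero, TensorProduct.tmul_zero]
  exact hsq _

noncomputable def G : ExteriorAlgebra B (Ω[B⁄S]) →ₐ[B] B ⊗[A] ExteriorAlgebra A (Ω[A⁄R]) :=
  ExteriorAlgebra.lift B ⟨g R S A B, g_sq R S A B⟩

lemma G_ι_D (a : A) : G R S A B (ExteriorAlgebra.ι B (KaehlerDifferential.D S B (algebraMap A B a))) =
    1 ⊗ₜ[A] ExteriorAlgebra.ι A (KaehlerDifferential.D R A a) := by
  rw [G, ExteriorAlgebra.lift_ι_apply, g, LinearMap.comp_apply, LinearEquiv.coe_toLinearMap]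
  have : (KaehlerDifferential.tensorKaehlerEquiv R S A B).symm (KaehlerDifferential.D S B (algebraMap A B a)) =
      1 ⊗ₜ[A] KaehlerDifferential.D R A a := by
    rw [LinearEquiv.symm_apply_eq, KaehlerDifferential.tensorKaehlerEquiv_tmul_D, one_smul]
  rw [this, LinearMap.baseChange_tmul]

lemma G_psi (ψ : ∀ p : ℕ, ↥(⋀[A]^p (Ω[A⁄R])) →+ ↥(⋀[B]^p (Ω[B⁄S])))
    (hψ : DeRham.IsCxMap (KaehlerDifferential.D R A) (KaehlerDifferential.D S B) (algebraMap A B) ψ)
    (p : ℕ) (x : ↥(⋀[A]^p (Ω[A⁄R]))) :
    G R S A B (ψ p x : ExteriorAlgebra B (Ω[B⁄S])) = 1 ⊗ₜ[A] (x : ExteriorAlgebra A (Ω[A⁄R])) := by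
  have h := DRFam.hom_ext (KaehlerDifferential.D R A) (DRFam.span_D R A) (p := p)
    ((G R S A B).toLinearMap.toAddMonoidHom.comp ((⋀[B]^p (Ω[B⁄S])).subtype.toAddMonoidHom.comp (ψ p)))
    ((TensorProduct.mk A B (ExteriorAlgebra A (Ω[A⁄R])) 1).toAddMonoidHom.comp
      (⋀[A]^p (Ω[A⁄R])).subtype.toAddMonoidHom) fun a b => by
    show G R S A B (ψ p (DeRham.gen (KaehlerDifferential.D R A) p a b) : ExteriorAlgebra B (Ω[B⁄S])) =
      (1 : B) ⊗ₜ[A] ((a • exteriorPower.ιMulti A p fun i => KaehlerDifferential.D R A (b i) :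
        ↥(⋀[A]^p (Ω[A⁄R]))) : ExteriorAlgebra A (Ω[A⁄R]))
    rw [hψ, DeRham.gen, Submodule.coe_smul, Submodule.coe_smul, map_smul, exteriorPower.ιMulti_apply_coe,
      exteriorPower.ιMulti_apply_coe, ExteriorAlgebra.ιMulti_apply, ExteriorAlgebra.ιMulti_apply, map_list_prod,
      List.map_ofFn, TensorProduct.tmul_smul, algebraMap_smul]
    congr 1
    have e : (G R S A B ∘ fun i => ExteriorAlgebra.ι B (KaehlerDifferential.D S B (algebraMap A B (b i)))) =
        (Algebra.TensorProduct.includeRight : ExteriorAlgebra A (Ω[A⁄R]) →ₐ[A] B ⊗[A] ExteriorAlgebra A (Ω[A⁄R])) ∘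
          fun i => ExteriorAlgebra.ι A (KaehlerDifferential.D R A (b i)) :=
      funext fun i => G_ι_D R S A B (b i)
    rw [e, ← List.map_ofFn, ← map_list_prod]
    rfl
  exact DFunLike.congr_fun h x


open exteriorPower TensorProduct in
/-- The de Rham complex commutes with base change. Let R → A and R → S be ring maps and B = S ⊗_R A (an
R-algebra over A and S with the pushout property), and let ψ be the induced map of de Rham complexes
from the p-forms of A over R to the p-forms of B over S (additive maps sending b₀ db₁ ∧ … ∧ db_p to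
g(b₀) d(g b₁) ∧ … ∧ d(g b_p), g : A → B the structure map). Then in each degree p the S-linear
extension S ⊗_R ⋀^p Ω_{A/R} → ⋀^p Ω_{B/S}, s ⊗ x ↦ s · ψ_p(x), is bijective. (This row states the
degreewise bijectivity, with the base change written S ⊗_R − rather than − ⊗_R S; the compatibility
of ψ with the differentials, which makes this an isomorphism of complexes, holds for any square of
ring maps.) -/
theorem result (R S A B : Type u) [CommRing R] [CommRing S] [CommRing A] [CommRing B]
    [Algebra R S] [Algebra R A] [Algebra R B] [Algebra A B] [Algebra S B]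
    [IsScalarTower R A B] [IsScalarTower R S B] [Algebra.IsPushout R S A B]
    (ψ : ∀ p : ℕ, ↥(⋀[A]^p (Ω[A⁄R])) →+ ↥(⋀[B]^p (Ω[B⁄S])))
    (hψ : DeRham.IsCxMap (KaehlerDifferential.D R A) (KaehlerDifferential.D S B) (algebraMap A B) ψ)
    (p : ℕ) (Φ : S ⊗[R] ↥(⋀[A]^p (Ω[A⁄R])) →+ ↥(⋀[B]^p (Ω[B⁄S])))
    (hΦ : ∀ (s : S) (x : ↥(⋀[A]^p (Ω[A⁄R]))), Φ (s ⊗ₜ[R] x) = s • ψ p x) :
    Function.Bijective Φ := by
  constructor
  · rw [injective_iff_map_eq_zero]
    intro z hz
    have hG : ∀ z : S ⊗[R] ↥(⋀[A]^p (Ω[A⁄R])), G R S A B (Φ z : ExteriorAlgebra B (Ω[B⁄S])) =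
        ((⋀[A]^p (Ω[A⁄R])).subtype.baseChange B)
          ((Algebra.IsPushout.cancelBaseChange R S A B ↥(⋀[A]^p (Ω[A⁄R]))).symm z) := by
      intro z
      induction z using TensorProduct.induction_on with
      | zero => simp
      | add x y hx hy => simp only [map_add, Submodule.coe_add, hx, hy]
      | tmul s x =>
        rw [hΦ, Algebra.IsPushout.cancelBaseChange_symm_tmul, LinearMap.baseChange_tmul,
          ← algebraMap_smul B s (ψ p x), Submodule.coe_smul, map_smul, G_psi R S A B ψ hψ p x,
          TensorProduct.smul_tmul', smul_eq_mul, mul_one]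
        rfl
    have h := hG z
    rw [hz, ZeroMemClass.coe_zero, map_zero] at h
    have hinj : Function.Injective ((⋀[A]^p (Ω[A⁄R])).subtype.baseChange B) := by
      obtain ⟨π, hπ⟩ := retraction (A := A) (M := Ω[A⁄R]) p
      refine Function.LeftInverse.injective (g := π.baseChange B) fun w => ?_
      rw [← LinearMap.comp_apply, ← LinearMap.baseChange_comp, hπ, LinearMap.baseChange_id, LinearMap.id_apply]
    have h2 := hinj (h.symm.trans (map_zero _).symm)
    exact (LinearEquiv.map_eq_zero_iff _).1 h2
  · intro y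
    have hspan : Submodule.span B (Set.range fun a : A => KaehlerDifferential.D S B (algebraMap A B a)) = ⊤ :=
      span_pull R S A B
    have hzero := DRFam.hom_ext (fun a : A => KaehlerDifferential.D S B (algebraMap A B a)) hspan (p := p)
      (QuotientAddGroup.mk' Φ.range) 0 fun c b => by
      show QuotientAddGroup.mk' Φ.range _ = 0
      rw [QuotientAddGroup.mk'_apply, QuotientAddGroup.eq_zero_iff]
      haveI : Algebra.IsPushout R A S B := Algebra.IsPushout.symm inferInstance
      obtain ⟨c, rfl⟩ := (Algebra.IsPushout.equiv R A S B).surjective c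
      induction c using TensorProduct.induction_on with
      | zero => rw [map_zero, zero_smul]; exact zero_mem _
      | add u v hu hv => rw [map_add, add_smul]; exact add_mem hu hv
      | tmul a s =>
        refine ⟨s ⊗ₜ[R] DeRham.gen (KaehlerDifferential.D R A) p a b, ?_⟩
        rw [hΦ, hψ, Algebra.IsPushout.equiv_tmul, DeRham.gen, ← algebraMap_smul B s (algebraMap A B a • _), smul_smul,
          mul_comm (algebraMap S B s)]
    exact (QuotientAddGroup.eq_zero_iff y).1 (DFunLike.congr_fun hzero y)

end Groth.Agent.S15295
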