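import Groth.Statements.S15296
import Mathlib
import Groth.Agent.Lib.DeRhamFam.Basic
import Groth.Agent.Lib.ExtDeRham.Basic

set_option autoImplicit false
universe u
open DeRham

namespace Groth.Agent.S15296

open exteriorPower CliffordAlgebra

section
variable {A M N : Type u} [CommRing A] [AddCommGroup M] [Module A M] [AddCommGroup N] [Module A N]

lemma coe_map (f : M →ₗ[A] N) (p : ℕ) (x : ↥(⋀[A]^p M)) :
    (exteriorPower.map p f x : ExteriorAlgebra A N) = ExteriorAlgebra.map f (x : ExteriorAlgebra A M) := by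
  have h : ((⋀[A]^p N).subtype.comp (exteriorPower.map p f)) =
      ((ExteriorAlgebra.map f).toLinearMap.comp (⋀[A]^p M).subtype) := by
    refine exteriorPower.linearMap_ext (AlternatingMap.ext fun v => ?_)
    simp [exteriorPower.map_apply_ιMulti, ExteriorAlgebra.map_apply_ιMulti]
  exact DFunLike.congr_fun h x

lemma coe_oneEquiv_symm (v : M) :
    (((exteriorPower.oneEquiv A M).symm v : ↥(⋀[A]^1 M)) : ExteriorAlgebra A M) = ExteriorAlgebra.ι A v := by
  have : (exteriorPower.oneEquiv A M).symm v = ιMulti A 1 (fun _ => v) := by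
    rw [LinearEquiv.symm_apply_eq, exteriorPower.oneEquiv_ιMulti]
  rw [this, exteriorPower.ιMulti_apply_coe, ExteriorAlgebra.ιMulti_apply]
  simp

end

variable {R A Ω' : Type u} [CommRing R] [CommRing A] [Algebra R A] [AddCommGroup Ω'] [Module A Ω']

lemma d_prod {p : ℕ} (b : Fin p → A) : GrothLib.ExtDeRham.d R A
    (List.ofFn fun i => ExteriorAlgebra.ι A (KaehlerDifferential.D R A (b i))).prod = 0 := by
  induction p with
  | zero =>
    rw [List.ofFn_zero, List.prod_nil, ← map_one (algebraMap A (ExteriorAlgebra A (Ω[A⁄R]))),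
      GrothLib.ExtDeRham.d_algebraMap, Derivation.map_one_eq_zero, map_zero]
  | succ p ih =>
    rw [List.ofFn_succ, List.prod_cons, GrothLib.ExtDeRham.d_mul, ih, GrothLib.ExtDeRham.d_ι_D, mul_zero,
      zero_mul, add_zero]

lemma d_coe (dA : ∀ p : ℕ, ↥(⋀[A]^p (Ω[A⁄R])) →ₗ[R] ↥(⋀[A]^(p + 1) (Ω[A⁄R])))
    (hdA : DeRham.IsDiff (KaehlerDifferential.D R A) dA) (p : ℕ) (x : ↥(⋀[A]^p (Ω[A⁄R]))) :
    (dA p x : ExteriorAlgebra A (Ω[A⁄R])) = GrothLib.ExtDeRham.d R A (x : ExteriorAlgebra A (Ω[A⁄R])) := by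
  have h := DRFam.hom_ext (KaehlerDifferential.D R A) (DRFam.span_D R A) (p := p)
    ((⋀[A]^(p + 1) (Ω[A⁄R])).subtype.toAddMonoidHom.comp (dA p).toAddMonoidHom)
    ((GrothLib.ExtDeRham.d R A).toAddMonoidHom.comp (⋀[A]^p (Ω[A⁄R])).subtype.toAddMonoidHom) fun a b => by
    show (dA p (DeRham.gen (KaehlerDifferential.D R A) p a b) : ExteriorAlgebra A (Ω[A⁄R])) =
      GrothLib.ExtDeRham.d R A ((a • ιMulti A p fun i => KaehlerDifferential.D R A (b i) :
        ↥(⋀[A]^p (Ω[A⁄R]))) : ExteriorAlgebra A (Ω[A⁄R]))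
    rw [hdA.1 p a b, exteriorPower.ιMulti_apply_coe, ExteriorAlgebra.ιMulti_apply, Submodule.coe_smul,
      exteriorPower.ιMulti_apply_coe, ExteriorAlgebra.ιMulti_apply, Algebra.smul_def, GrothLib.ExtDeRham.d_mul,
      d_prod, mul_zero, zero_add, GrothLib.ExtDeRham.d_algebraMap, List.ofFn_succ, List.prod_cons]
    simp
  exact DFunLike.congr_fun h x

/-- Relation: vectors in the kernel vanish. -/
def rel (π : Ω[A⁄R] →ₗ[A] Ω') : ExteriorAlgebra A (Ω[A⁄R]) → ExteriorAlgebra A (Ω[A⁄R]) → Prop :=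
  fun x y => ∃ v, π v = 0 ∧ x = ExteriorAlgebra.ι A v ∧ y = 0

lemma inv_map (π : Ω[A⁄R] →ₗ[A] Ω') (x : ExteriorAlgebra A (Ω[A⁄R])) :
    ExteriorAlgebra.map π (involute x) = involute (ExteriorAlgebra.map π x) := by
  induction x using ExteriorAlgebra.induction with
  | algebraMap r => simp only [AlgHom.commutes]
  | ι w =>
    rw [show involute (ExteriorAlgebra.ι A w) = -ExteriorAlgebra.ι A w from CliffordAlgebra.involute_ι w,
      map_neg, ExteriorAlgebra.map_apply_ι]
    exact (CliffordAlgebra.involute_ι _).symm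
  | mul a b ha hb => simp only [map_mul, ha, hb]
  | add a b ha hb => simp only [map_add, ha, hb]

lemma rel_inv (π : Ω[A⁄R] →ₗ[A] Ω')
    (hω : ∀ v, π v = 0 → ExteriorAlgebra.map π (GrothLib.ExtDeRham.d R A (ExteriorAlgebra.ι A v)) = 0)
    {x y : ExteriorAlgebra A (Ω[A⁄R])} (h : Relation.EqvGen (RingQuot.Rel (rel π)) x y) :
    ExteriorAlgebra.map π x = ExteriorAlgebra.map π y ∧
      ExteriorAlgebra.map π (GrothLib.ExtDeRham.d R A x) = ExteriorAlgebra.map π (GrothLib.ExtDeRham.d R A y) := by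
  induction h with
  | refl => exact ⟨rfl, rfl⟩
  | symm _ _ _ ih => exact ⟨ih.1.symm, ih.2.symm⟩
  | trans _ _ _ _ _ ih1 ih2 => exact ⟨ih1.1.trans ih2.1, ih1.2.trans ih2.2⟩
  | rel a b h =>
    induction h with
    | of h =>
      obtain ⟨v, hv, rfl, rfl⟩ := h
      simp only [ExteriorAlgebra.map_apply_ι, hv, hω v hv, map_zero, and_self]
    | add_left _ ih =>
      simp only [map_add, ih.1, ih.2, and_self]
    | mul_left _ ih =>
      simp only [map_mul, GrothLib.ExtDeRham.d_mul, map_add, inv_map, ih.1, ih.2, and_self]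
    | mul_right _ ih =>
      simp only [map_mul, GrothLib.ExtDeRham.d_mul, map_add, inv_map, ih.1, ih.2, and_self]

lemma map_d_eq_zero (π : Ω[A⁄R] →ₗ[A] Ω') (hπ : Function.Surjective π)
    (hω : ∀ v, π v = 0 → ExteriorAlgebra.map π (GrothLib.ExtDeRham.d R A (ExteriorAlgebra.ι A v)) = 0)
    (x : ExteriorAlgebra A (Ω[A⁄R])) (hx : ExteriorAlgebra.map π x = 0) :
    ExteriorAlgebra.map π (GrothLib.ExtDeRham.d R A x) = 0 := by
  let mk := RingQuot.mkAlgHom A (rel π)
  have hker : LinearMap.ker π ≤ LinearMap.ker (mk.toLinearMap.comp (ExteriorAlgebra.ι A)) := fun v hv => by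
    show mk (ExteriorAlgebra.ι A v) = 0
    exact (RingQuot.mkAlgHom_rel A ⟨v, hv, rfl, rfl⟩).trans (map_zero _)
  let g₀ : Ω' →ₗ[A] RingQuot (rel π) :=
    ((LinearMap.ker π).liftQ _ hker).comp (π.quotKerEquivOfSurjective hπ).symm.toLinearMap
  have hg₀ : ∀ v, g₀ (π v) = mk (ExteriorAlgebra.ι A v) := fun v => by
    have : (π.quotKerEquivOfSurjective hπ).symm (π v) = Submodule.Quotient.mk v :=
      (π.quotKerEquivOfSurjective hπ).symm_apply_eq.2 rfl
    show (LinearMap.ker π).liftQ _ hker _ = _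
    rw [LinearEquiv.coe_toLinearMap, this]
    rfl
  let g : ExteriorAlgebra A Ω' →ₐ[A] RingQuot (rel π) := ExteriorAlgebra.lift A ⟨g₀, fun w => by
    obtain ⟨v, rfl⟩ := hπ w
    rw [hg₀, ← map_mul, ExteriorAlgebra.ι_sq_zero, map_zero]⟩
  have hcomp : g.comp (ExteriorAlgebra.map π) = mk := by
    refine ExteriorAlgebra.hom_ext (LinearMap.ext fun v => ?_)
    show g (ExteriorAlgebra.map π (ExteriorAlgebra.ι A v)) = mk (ExteriorAlgebra.ι A v)
    rw [ExteriorAlgebra.map_apply_ι, ExteriorAlgebra.lift_ι_apply, hg₀]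
  have h0 : mk x = mk 0 := by
    rw [← hcomp]
    show g (ExteriorAlgebra.map π x) = g (ExteriorAlgebra.map π 0)
    rw [hx, map_zero (ExteriorAlgebra.map π)]
  have h' : RingQuot.mkRingHom (rel π) x = RingQuot.mkRingHom (rel π) 0 := by
    rw [← RingQuot.mkAlgHom_coe A (rel π)]; exact h0
  rw [RingQuot.mkRingHom_def] at h'
  simp at h'
  have := (rel_inv π hω (Quot.eqvGen_exact h')).2
  rwa [map_zero, map_zero] at this


open exteriorPower in
/-- Let R → A be a ring map, π a surjective A-linear map from the Kähler differentials of A over R onto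
an A-module Ω', δ = π ∘ d the induced derivation A → Ω', and d_A a de Rham differential of the
Kähler differentials. Suppose the kernel of π is generated over A by elements ω with π(ω) = 0 whose
differential d_A(ω) is killed by the second exterior power of π. Then the exterior powers of Ω' over
A carry a de Rham differential for δ: a family of R-linear maps d from p-forms to (p+1)-forms with
d(f₀ δf₁ ∧ … ∧ δf_p) = δf₀ ∧ δf₁ ∧ … ∧ δf_p and d ∘ d = 0; moreover d is compatible with d_A through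
the exterior powers of π. -/
theorem result (R A Ω' : Type u) [CommRing R] [CommRing A] [Algebra R A]
    [AddCommGroup Ω'] [Module A Ω'] [Module R Ω'] [IsScalarTower R A Ω']
    (π : Ω[A⁄R] →ₗ[A] Ω') (hπ : Function.Surjective π)
    (dA : ∀ p : ℕ, ↥(⋀[A]^p (Ω[A⁄R])) →ₗ[R] ↥(⋀[A]^(p + 1) (Ω[A⁄R])))
    (hdA : DeRham.IsDiff (KaehlerDifferential.D R A) dA)
    (hker : LinearMap.ker π ≤ Submodule.span A {ω : Ω[A⁄R] | π ω = 0 ∧
      exteriorPower.map 2 π (dA 1 ((exteriorPower.oneEquiv A (Ω[A⁄R])).symm ω)) = 0}) :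
    ∃ d : ∀ p : ℕ, ↥(⋀[A]^p Ω') →ₗ[R] ↥(⋀[A]^(p + 1) Ω'),
      DeRham.IsDiff (π.compDer (KaehlerDifferential.D R A)) d ∧
        ∀ (p : ℕ) (x : ↥(⋀[A]^p (Ω[A⁄R]))),
          d p (exteriorPower.map p π x) = exteriorPower.map (p + 1) π (dA p x) := by
  classical
  have hdc : ∀ (p : ℕ) (x : ↥(⋀[A]^p (Ω[A⁄R]))), (dA p x : ExteriorAlgebra A (Ω[A⁄R])) =
      GrothLib.ExtDeRham.d R A (x : ExteriorAlgebra A (Ω[A⁄R])) := fun p x => d_coe dA hdA p x
  have hω : ∀ v, π v = 0 → ExteriorAlgebra.map π (GrothLib.ExtDeRham.d R A (ExteriorAlgebra.ι A v)) = 0 := by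
    intro v hv
    have hv' := hker (LinearMap.mem_ker.2 hv)
    suffices ∀ a : A, ExteriorAlgebra.map π (GrothLib.ExtDeRham.d R A (ExteriorAlgebra.ι A (a • v))) = 0 by
      simpa using this 1
    clear hv
    induction hv' using Submodule.span_induction with
    | mem w hw =>
      obtain ⟨hw1, hw2⟩ := hw
      intro a
      have h1 := congrArg Subtype.val hw2
      rw [coe_map, hdc, ZeroMemClass.coe_zero, coe_oneEquiv_symm] at h1
      rw [map_smul, Algebra.smul_def, GrothLib.ExtDeRham.d_mul, map_add, map_mul, map_mul,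
        ExteriorAlgebra.map_apply_ι, hw1, h1, map_zero, mul_zero, mul_zero, add_zero]
    | zero => intro a; simp
    | add x y _ _ hx hy => intro a; rw [smul_add, map_add, map_add, map_add, hx, hy, add_zero]
    | smul c x _ hx => intro a; rw [smul_smul]; exact hx _
  have hkill : ∀ (p : ℕ) (x : ↥(⋀[A]^p (Ω[A⁄R]))), exteriorPower.map p π x = 0 →
      exteriorPower.map (p + 1) π (dA p x) = 0 := fun p x hx => by
    apply Subtype.ext
    rw [coe_map, hdc, ZeroMemClass.coe_zero]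
    exact map_d_eq_zero π hπ hω _ (by rw [← coe_map, hx]; rfl)
  let q : ∀ p, ↥(⋀[A]^p (Ω[A⁄R])) →ₗ[R] ↥(⋀[A]^p Ω') := fun p => (exteriorPower.map p π).restrictScalars R
  have hq : ∀ p, Function.Surjective (q p) := fun p => exteriorPower.map_surjective hπ
  have hle : ∀ p, LinearMap.ker (q p) ≤ LinearMap.ker (q (p + 1) ∘ₗ dA p) := fun p x hx => hkill p x hx
  let e : ∀ p, (↥(⋀[A]^p (Ω[A⁄R])) ⧸ LinearMap.ker (q p)) ≃ₗ[R] ↥(⋀[A]^p Ω') := fun p =>
    (q p).quotKerEquivOfSurjective (hq p)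
  let d : ∀ p : ℕ, ↥(⋀[A]^p Ω') →ₗ[R] ↥(⋀[A]^(p + 1) Ω') := fun p =>
    ((LinearMap.ker (q p)).liftQ (q (p + 1) ∘ₗ dA p) (hle p)).comp (e p).symm.toLinearMap
  have hd : ∀ (p : ℕ) (x : ↥(⋀[A]^p (Ω[A⁄R]))),
      d p (exteriorPower.map p π x) = exteriorPower.map (p + 1) π (dA p x) := fun p x => by
    have : (e p).symm (exteriorPower.map p π x) = Submodule.Quotient.mk x :=
      (e p).symm_apply_eq.2 rfl
    show (LinearMap.ker (q p)).liftQ _ (hle p) ((e p).symm _) = _
    rw [this]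
    rfl
  refine ⟨d, ⟨fun p b₀ b => ?_, fun p => LinearMap.ext fun y => ?_⟩, hd⟩
  · have e1 : DeRham.gen (π.compDer (KaehlerDifferential.D R A)) p b₀ b =
        exteriorPower.map p π (DeRham.gen (KaehlerDifferential.D R A) p b₀ b) := by
      rw [DeRham.gen, DeRham.gen, map_smul, exteriorPower.map_apply_ιMulti]
      rfl
    rw [e1, hd, hdA.1, exteriorPower.map_apply_ιMulti]
    congr 1
    funext i
    refine Fin.cases ?_ (fun j => ?_) i <;> simp
  · obtain ⟨x, rfl⟩ := hq p y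
    show d (p + 1) (d p (exteriorPower.map p π x)) = 0
    rw [hd, hd, ← LinearMap.comp_apply, hdA.2 p, LinearMap.zero_apply, map_zero]

end Groth.Agent.S15296
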