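import Groth.Statements.S15298
import Mathlib
import Groth.Agent.Lib.SecSeries.Basic
-- import your own Groth.Agent.* helpers here

set_option autoImplicit false
universe u
open CAlg

namespace Groth.Agent.S15298

/-- Let k be a field, A a Noetherian k-algebra and x a non-zero-divisor of A such that A is separated
and complete for the (x)-adic topology, and assume that B = A/xA is formally smooth over k. Then A
is a power series ring over B in the variable x: there is a k-algebra isomorphism e : B[[T]] ≅ A
with e(T) = x whose reduction modulo x is the constant-coefficient map, i.e. e(f) ≡ f(0) mod x for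
every power series f. -/
theorem result (k A : Type u) [Field k]
    [CommRing A] [Algebra k A] [IsNoetherianRing A] (x : A) (hx : x ∈ nonZeroDivisors A)
    [IsAdicComplete (Ideal.span {x}) A] [Algebra.FormallySmooth k (A ⧸ Ideal.span {x})] :
    ∃ e : PowerSeries (A ⧸ Ideal.span {x}) ≃ₐ[k] A,
      e PowerSeries.X = x ∧
      ∀ f : PowerSeries (A ⧸ Ideal.span {x}),
        Ideal.Quotient.mk (Ideal.span {x}) (e f) = PowerSeries.constantCoeff f := by
  obtain ⟨σ, hσ⟩ := GrothLib.SecSeries.exists_section (k := k) (Ideal.span {x})
  letI : Algebra (A ⧸ Ideal.span {x}) A := σ.toRingHom.toAlgebra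
  haveI : IsScalarTower k (A ⧸ Ideal.span {x}) A := IsScalarTower.of_algebraMap_eq fun r => (σ.commutes r).symm
  have hid : (Ideal.Quotient.mk (Ideal.span {x})).comp (algebraMap (A ⧸ Ideal.span {x}) A) = RingHom.id _ :=
    RingHom.ext fun b => AlgHom.congr_fun hσ b
  have hreg : IsSMulRegular A x := fun a b h => (mul_cancel_left_mem_nonZeroDivisors hx).1 h
  obtain ⟨φ, hX, hbij, hφ⟩ := GrothLib.SecSeries.exists_powerSeries_algHom_bijective (A ⧸ Ideal.span {x}) A x hreg
    (by rw [hid]; exact Function.bijective_id)
  refine ⟨AlgEquiv.ofBijective (φ.restrictScalars k) hbij, hX, fun f => ?_⟩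
  have h := hφ f 1
  rw [Finset.sum_range_one, pow_zero, mul_one, pow_one, ← Ideal.Quotient.eq] at h
  refine h.trans ((RingHom.congr_fun hid _).trans ?_)
  rw [RingHom.id_apply, PowerSeries.coeff_zero_eq_constantCoeff]

end Groth.Agent.S15298
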