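import Groth.Statements.S15301
import Groth.Agent.Lib.LimCoh25.Sheaf
-- import your own Groth.Agent.* helpers here

set_option autoImplicit false
universe u
open HomAlg3

namespace Groth.Agent.S15301

open CategoryTheory Limits Opposite Abelian GrothLib.SheafCoh GrothLib.LimCoh25 TopologicalSpace in
/-- Both halves over an open, from the statement about `Ext`. -/
theorem aux {X : TopCat.{u}} (F : ℕᵒᵖ ⥤ CohTop.Ab X) (U : Opens X) (i j : ℕ)
    (h : (∀ ξ : ∀ n : ℕ, Ext.{u} (freeY (Opens.grothendieckTopology X) U) (F.obj (op n)) i,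
      (∀ n, (ξ (n + 1)).comp (Ext.mk₀ (F.map (homOfLE (Nat.le_succ n)).op)) (add_zero i) = ξ n) →
        ∃ η : Ext (freeY (Opens.grothendieckTopology X) U) (limit F) i,
          ∀ n, η.comp (Ext.mk₀ (limit.π F (op n))) (add_zero i) = ξ n) ∧
    Nonempty ((AddMonoidHom.mk' (fun (η : Ext.{u} (freeY (Opens.grothendieckTopology X) U) (limit F) i) (n : ℕ) =>
        η.comp (Ext.mk₀ (limit.π F (op n))) (add_zero i))
        (fun a b => funext fun n => Ext.add_comp a b _ _)).ker ≃+
      Formal2.limOne (fun n : ℕ => Ext.{u} (freeY (Opens.grothendieckTopology X) U) (F.obj (op n)) j)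
        (fun n : ℕ => (Ext.mk₀ (F.map (homOfLE (Nat.le_succ n)).op)).postcomp _ (add_zero j)))) :
    (∀ ξ : ∀ n : ℕ, CohTop.HU (F.obj (op n)) i U,
      (∀ n, CohTop.HUmap (F.map (homOfLE (Nat.le_succ n)).op) i U (ξ (n + 1)) = ξ n) →
        ∃ η : CohTop.HU (limit F) i U, ∀ n, CohTop.HUmap (limit.π F (op n)) i U η = ξ n) ∧
    Nonempty ((AddMonoidHom.pi fun n : ℕ => CohTop.HUmap (limit.π F (op n)) i U).ker ≃+
      Formal2.limOne (fun n : ℕ => CohTop.HU (F.obj (op n)) j U)
        (fun n : ℕ => CohTop.HUmap (F.map (homOfLE (Nat.le_succ n)).op) j U)) := by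
  obtain ⟨h1, ⟨e⟩⟩ := h
  let a : ∀ (G : CohTop.Ab X) (q : ℕ), CohTop.HU G q U ≃+ Ext.{u} (freeY (Opens.grothendieckTopology X) U) G q :=
    fun G q => HUext (J := Opens.grothendieckTopology X) G q U
  have ha : ∀ {G H : CohTop.Ab X} (g : G ⟶ H) (q : ℕ) ξ,
      a H q (CohTop.HUmap g q U ξ) = (a G q ξ).comp (Ext.mk₀ g) (add_zero q) := fun g q ξ => map_eq g q U ξ
  constructor
  · intro ξ hξ
    obtain ⟨η, hη⟩ := h1 (fun n => a _ i (ξ n)) fun n => (ha _ i _).symm.trans (congrArg _ (hξ n))
    refine ⟨(a _ i).symm η, fun n => (a _ i).injective ?_⟩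
    rw [ha, AddEquiv.apply_symm_apply, hη]
  · let K := (AddMonoidHom.pi fun n : ℕ => CohTop.HUmap (limit.π F (op n)) i U).ker
    let K' := (AddMonoidHom.mk' (fun (η : Ext.{u} (freeY (Opens.grothendieckTopology X) U) (limit F) i) (n : ℕ) =>
        η.comp (Ext.mk₀ (limit.π F (op n))) (add_zero i))
        (fun a b => funext fun n => Ext.add_comp a b _ _)).ker
    have hK : K.map (a (limit F) i).toAddMonoidHom = K' := by
      ext η
      constructor
      · rintro ⟨ξ, hξ, rfl⟩
        refine funext fun n => ?_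
        exact (ha _ i ξ).symm.trans ((congrArg _ (congrFun hξ n)).trans (map_zero _))
      · intro hη
        refine ⟨(a (limit F) i).symm η, funext fun n => (a _ i).injective ?_, (a _ i).apply_symm_apply η⟩
        refine (ha (limit.π F (op n)) i _).trans ?_
        rw [AddEquiv.apply_symm_apply]
        exact (congrFun hη n).trans (map_zero _).symm
    let eK : K ≃+ K' := ((a (limit F) i).addSubgroupMap K).trans (AddEquiv.addSubgroupCongr hK)
    let π := AddEquiv.piCongrRight fun n : ℕ => a (F.obj (op n)) j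
    have hr : (Formal2.towerDiff (fun n : ℕ => CohTop.HU (F.obj (op n)) j U)
          (fun n : ℕ => CohTop.HUmap (F.map (homOfLE (Nat.le_succ n)).op) j U)).range.map π.toAddMonoidHom =
        (Formal2.towerDiff (fun n : ℕ => Ext.{u} (freeY (Opens.grothendieckTopology X) U) (F.obj (op n)) j)
          (fun n : ℕ => (Ext.mk₀ (F.map (homOfLE (Nat.le_succ n)).op)).postcomp _ (add_zero j))).range := by
      have key : ∀ x, π (Formal2.towerDiff (fun n : ℕ => CohTop.HU (F.obj (op n)) j U)
          (fun n : ℕ => CohTop.HUmap (F.map (homOfLE (Nat.le_succ n)).op) j U) x) =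
        Formal2.towerDiff (fun n : ℕ => Ext.{u} (freeY (Opens.grothendieckTopology X) U) (F.obj (op n)) j)
          (fun n : ℕ => (Ext.mk₀ (F.map (homOfLE (Nat.le_succ n)).op)).postcomp _ (add_zero j)) (π x) := by
        intro x
        funext n
        exact (map_sub (a (F.obj (op n)) j) (x n) _).trans (congrArg (fun z => a _ j (x n) - z) (ha _ j (x (n + 1))))
      rw [AddMonoidHom.map_range]
      ext y
      constructor
      · rintro ⟨x, rfl⟩
        exact ⟨π x, (key x).symm⟩
      · rintro ⟨x, rfl⟩
        exact ⟨π.symm x, (key _).trans (by rw [AddEquiv.apply_symm_apply])⟩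
    exact ⟨eK.trans (e.trans (QuotientAddGroup.congr _ _ π hr).symm)⟩


open CategoryTheory CategoryTheory.Limits TopologicalSpace Opposite in
/-- For the functor of sections over an open U, let (F_n)_n be a tower of sheaves of abelian groups on a
topological space X, indexed by the natural numbers, with limit sheaf lim F_n, and let B be a basis
of opens of X such that for every V in B (a) every transition map F_{n+1}(V) → F_n(V) is surjective
and (b) every H^i(V, F_n) with i > 0 vanishes. Then for every open U and every i = j + 1 ≥ 1 there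
is a short exact sequence 0 → lim¹_n H^j(U, F_n) → H^i(U, lim F_n) → lim_n H^i(U, F_n) → 0: every
family of classes in the H^i(U, F_n) compatible under the transition maps comes from a class on lim
F_n, and the kernel of H^i(U, lim F_n) → ∏_n H^i(U, F_n) is isomorphic to lim¹ of the tower (H^j(U,
F_n))_n (existence of an isomorphism only). In particular the comparison map is injective as soon as
that lim¹ vanishes. (The published statement is for any functor T on abelian sheaves commuting with
products, such as Γ, Γ_Y, f_*; this row is the case T = Γ(U, −).) -/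
theorem result {X : TopCat.{u}} (F : ℕᵒᵖ ⥤ CohTop.Ab X)
    (B : Set (Opens X)) (hB : Opens.IsBasis B)
    (hsurj : ∀ V ∈ B, ∀ n : ℕ,
      Function.Surjective ((F.map (homOfLE (Nat.le_succ n)).op).hom.app (op V)).hom)
    (hvan : ∀ V ∈ B, ∀ (n i : ℕ), 0 < i → Subsingleton (CohTop.HU (F.obj (op n)) i V))
    (U : Opens X) (i j : ℕ) (hij : j + 1 = i) :
    (∀ ξ : ∀ n : ℕ, CohTop.HU (F.obj (op n)) i U,
      (∀ n, CohTop.HUmap (F.map (homOfLE (Nat.le_succ n)).op) i U (ξ (n + 1)) = ξ n) →
        ∃ η : CohTop.HU (limit F) i U, ∀ n, CohTop.HUmap (limit.π F (op n)) i U η = ξ n) ∧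
    Nonempty ((AddMonoidHom.pi fun n : ℕ => CohTop.HUmap (limit.π F (op n)) i U).ker ≃+
      Formal2.limOne (fun n : ℕ => CohTop.HU (F.obj (op n)) j U)
        (fun n : ℕ => CohTop.HUmap (F.map (homOfLE (Nat.le_succ n)).op) j U)) := aux F U i j (GrothLib.LimCoh25.cohomology_tower F B hB hsurj hvan _ i j hij)

end Groth.Agent.S15301
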