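import Groth.Statements.S15302
import Mathlib.CategoryTheory.Abelian.Injective.Resolution
import Mathlib.Algebra.Homology.HomologicalComplexBiprod
import Mathlib.Algebra.Homology.Homotopy

set_option autoImplicit false
set_option linter.all false
universe v u
open HomAlg3

namespace Groth.Agent.S15302

section Aux

open CategoryTheory CategoryTheory.Limits

variable {C : Type u} [Category.{v} C] [Abelian C] (I : CochainComplex C ℕ)

noncomputable def DX : ℕ → C
  | 0 => I.X 0
  | p + 1 => I.X (p + 1) ⊞ I.X p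

noncomputable def Dd : ∀ p, DX I p ⟶ DX I (p + 1)
  | 0 => biprod.lift (I.d 0 1) (𝟙 _)
  | p + 1 => biprod.lift (biprod.fst ≫ I.d (p + 1) (p + 2)) (biprod.fst - biprod.snd ≫ I.d p (p + 1))

theorem Dd_sq : ∀ p, Dd I p ≫ Dd I (p + 1) = 0
  | 0 => by
    show biprod.lift (I.d 0 1) (𝟙 _) ≫
      biprod.lift (biprod.fst ≫ I.d 1 2) (biprod.fst - biprod.snd ≫ I.d 0 1) = 0
    apply biprod.hom_ext <;> simp
  | p + 1 => by
    show biprod.lift (biprod.fst ≫ I.d (p + 1) (p + 2)) (biprod.fst - biprod.snd ≫ I.d p (p + 1)) ≫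
      biprod.lift (biprod.fst ≫ I.d (p + 2) (p + 3)) (biprod.fst - biprod.snd ≫ I.d (p + 1) (p + 2)) = 0
    apply biprod.hom_ext <;> simp

noncomputable def D : CochainComplex C ℕ := CochainComplex.of (DX I) (Dd I) (Dd_sq I)

noncomputable def proj : ∀ p, DX I p ⟶ I.X p
  | 0 => 𝟙 _
  | _ + 1 => biprod.fst

theorem proj_comm : ∀ p, proj I p ≫ I.d p (p + 1) = Dd I p ≫ proj I (p + 1)
  | 0 => by
    show 𝟙 _ ≫ I.d 0 1 = biprod.lift (I.d 0 1) (𝟙 _) ≫ biprod.fst
    simp
  | p + 1 => by
    show biprod.fst ≫ I.d (p + 1) (p + 2) = biprod.lift (biprod.fst ≫ I.d (p + 1) (p + 2))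
      (biprod.fst - biprod.snd ≫ I.d p (p + 1)) ≫ biprod.fst
    simp

noncomputable def π : D I ⟶ I where
  f := proj I
  comm' i j h := by
    obtain rfl : i + 1 = j := h
    exact (proj_comm I i).trans (congrArg (· ≫ proj I (i + 1))
      (CochainComplex.of_d (DX I) (Dd I) i).symm)

noncomputable def sec : ∀ p, I.X p ⟶ DX I p
  | 0 => 𝟙 _
  | _ + 1 => biprod.inl

theorem sec_proj : ∀ p, sec I p ≫ proj I p = 𝟙 _
  | 0 => Category.id_comp _
  | _ + 1 => biprod.inl_fst

noncomputable def hh : ∀ p, DX I (p + 1) ⟶ DX I p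
  | 0 => biprod.snd
  | p + 1 => biprod.lift biprod.snd 0

theorem hh_zero : Dd I 0 ≫ hh I 0 = 𝟙 _ := biprod.lift_snd _ _

theorem gen_zero {A B E : C} (d₀ : A ⟶ B) (d₁ : B ⟶ E) :
    biprod.lift (biprod.fst ≫ d₁) (biprod.fst - biprod.snd ≫ d₀) ≫ biprod.lift biprod.snd 0 +
      biprod.snd ≫ biprod.lift d₀ (𝟙 A) = 𝟙 (B ⊞ A) := by
  apply biprod.hom_ext <;> simp

theorem gen_succ {A B E F : C} (d₀ : A ⟶ B) (d₁ : B ⟶ E) (d₂ : E ⟶ F) :
    biprod.lift (biprod.fst ≫ d₂) (biprod.fst - biprod.snd ≫ d₁) ≫ biprod.lift biprod.snd 0 +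
      biprod.lift biprod.snd 0 ≫ biprod.lift (biprod.fst ≫ d₁) (biprod.fst - biprod.snd ≫ d₀) =
        𝟙 (E ⊞ B) := by
  apply biprod.hom_ext <;> simp

theorem hh_succ : ∀ p, Dd I (p + 1) ≫ hh I (p + 1) + hh I p ≫ Dd I p = 𝟙 _
  | 0 => gen_zero (I.d 0 1) (I.d 1 2)
  | p + 1 => gen_succ (I.d p (p + 1)) (I.d (p + 1) (p + 2)) (I.d (p + 2) (p + 3))

theorem D_d (p : ℕ) : (D I).d p (p + 1) = Dd I p := CochainComplex.of_d (DX I) (Dd I) p

noncomputable def contract : Homotopy (𝟙 (D I)) 0 := by
  let h : ∀ i j, (ComplexShape.up ℕ).Rel j i → ((D I).X i ⟶ (D I).X j) := fun i j hij =>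
    (show j + 1 = i from hij) ▸ hh I j
  refine (Homotopy.ofEq ?_).trans (Homotopy.nullHomotopy' h)
  ext p
  cases p with
  | zero =>
    rw [Homotopy.nullHomotopicMap'_f_of_not_rel_right (show (ComplexShape.up ℕ).Rel 0 1 from rfl)
      (fun l hl => Nat.succ_ne_zero l hl) h]
    rw [HomologicalComplex.id_f]
    exact ((congrArg (· ≫ hh I 0) (D_d I 0)).trans (hh_zero I)).symm
  | succ p =>
    rw [Homotopy.nullHomotopicMap'_f (show (ComplexShape.up ℕ).Rel p (p + 1) from rfl)
      (show (ComplexShape.up ℕ).Rel (p + 1) (p + 2) from rfl) h]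
    rw [HomologicalComplex.id_f]
    have h1 := hh_succ I p
    rw [← D_d, ← D_d] at h1
    exact h1.symm

theorem injective_DX [∀ p, Injective (I.X p)] : ∀ p, Injective (DX I p)
  | 0 => inferInstanceAs (Injective (I.X 0))
  | p + 1 => inferInstanceAs (Injective (I.X (p + 1) ⊞ I.X p))

theorem exists_split {X Y : C} (f : X ⟶ Y) (s : Y ⟶ X) (h : s ≫ f = 𝟙 Y) :
    ∃ (K : C) (e : X ≅ Y ⊞ K), f = e.hom ≫ biprod.fst :=
  ⟨kernel f,
    { hom := biprod.lift f (kernel.lift f (𝟙 X - f ≫ s) (by simp [h]))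
      inv := biprod.desc s (kernel.ι f)
      hom_inv_id := by simp [biprod.lift_desc]
      inv_hom_id := by
        apply biprod.hom_ext' <;> apply biprod.hom_ext <;> simp [h, ← cancel_mono (kernel.ι f), reassoc_of% h] },
    (biprod.lift_fst _ _).symm⟩

end Aux

open CategoryTheory CategoryTheory.Limits in
/-- In an abelian category with enough injectives, let α : G ⟶ F be a morphism and I an injective
resolution of F. Then G has an injective resolution J together with a morphism of cochain complexes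
β : J ⟶ I lying over α (the augmentations commute with α and β) such that for every p there are an
object K^p and an isomorphism J^p ≅ I^p ⊕ K^p identifying β^p with the projection onto the first
factor (so K^p is injective as well). (The published statement is for abelian sheaves on a
topological space; its proof uses only an embedding of G into an injective object and cokernels, so
the row is stated in any abelian category with enough injectives.) -/
theorem result {C : Type u} [Category.{v} C] [Abelian C]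
    [EnoughInjectives C] {G F : C} (α : G ⟶ F) (I : InjectiveResolution F) :
    ∃ (J : InjectiveResolution G) (β : J.cocomplex ⟶ I.cocomplex),
      J.ι ≫ β = (CochainComplex.single₀ C).map α ≫ I.ι ∧
      ∀ p : ℕ, ∃ (K : C) (e : J.cocomplex.X p ≅ I.cocomplex.X p ⊞ K), β.f p = e.hom ≫ biprod.fst := by
  let J0 : InjectiveResolution G := InjectiveResolution.of G
  let φ : J0.cocomplex ⟶ I.cocomplex := InjectiveResolution.desc α I J0
  have hφ : J0.ι ≫ φ = (CochainComplex.single₀ C).map α ≫ I.ι := InjectiveResolution.desc_commutes α I J0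
  let E := D I.cocomplex
  let inl : J0.cocomplex ⟶ J0.cocomplex ⊞ E := biprod.inl
  let inr : E ⟶ J0.cocomplex ⊞ E := biprod.inr
  have hqis : QuasiIso inl := by
    refine ⟨fun n => ?_⟩
    rw [quasiIsoAt_iff_isIso_homologyMap]
    refine ⟨⟨HomologicalComplex.homologyMap biprod.fst n, ?_, ?_⟩⟩
    · rw [← HomologicalComplex.homologyMap_comp, biprod.inl_fst, HomologicalComplex.homologyMap_id]
    · have h0 : HomologicalComplex.homologyMap (biprod.snd ≫ inr : J0.cocomplex ⊞ E ⟶ _) n = 0 := by
        rw [HomologicalComplex.homologyMap_comp]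
        have : HomologicalComplex.homologyMap (𝟙 E) n = 0 := by
          rw [(contract I.cocomplex).homologyMap_eq n, HomologicalComplex.homologyMap_zero]
        rw [HomologicalComplex.homologyMap_id] at this
        rw [← Category.id_comp (HomologicalComplex.homologyMap inr n), this]
        simp
      rw [← HomologicalComplex.homologyMap_comp, ← HomologicalComplex.homologyMap_id]
      conv_rhs => rw [show 𝟙 (J0.cocomplex ⊞ E) = biprod.fst ≫ inl + biprod.snd ≫ inr from biprod.total.symm,
        HomologicalComplex.homologyMap_add, h0, add_zero]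
  haveI := hqis
  have hinj : ∀ n, Injective ((J0.cocomplex ⊞ E).X n) := by
    intro n
    haveI : Injective (E.X n) := injective_DX I.cocomplex n
    exact Injective.of_iso (HomologicalComplex.biprodXIso J0.cocomplex E n).symm inferInstance
  let J : InjectiveResolution G :=
    { cocomplex := J0.cocomplex ⊞ E, injective := hinj, ι := J0.ι ≫ inl }
  refine ⟨J, biprod.desc φ (π I.cocomplex), ?_, fun p => ?_⟩
  · show (J0.ι ≫ inl) ≫ biprod.desc φ (π I.cocomplex) = _
    rw [Category.assoc, biprod.inl_desc, hφ]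
  · refine exists_split _ (sec I.cocomplex p ≫ inr.f p) ?_
    show (sec I.cocomplex p ≫ inr.f p) ≫ (biprod.desc φ (π I.cocomplex) : J0.cocomplex ⊞ E ⟶ _).f p = 𝟙 _
    refine (Category.assoc _ _ _).trans ?_
    show sec I.cocomplex p ≫ inr.f p ≫ (biprod.desc φ (π I.cocomplex) : J0.cocomplex ⊞ E ⟶ _).f p = 𝟙 _
    have h2 : inr.f p ≫ (biprod.desc φ (π I.cocomplex) : J0.cocomplex ⊞ E ⟶ _).f p = proj I.cocomplex p :=
      (HomologicalComplex.comp_f inr _ p).symm.trans (HomologicalComplex.congr_hom (biprod.inr_desc _ _) p)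
    exact (congrArg (sec I.cocomplex p ≫ ·) h2).trans (sec_proj I.cocomplex p)

end Groth.Agent.S15302
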