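import Groth.Statements.S15303
import Groth.Agent.Lib.SmLift3.Local
import Mathlib.AlgebraicGeometry.Morphisms.Etale
-- import your own Groth.Agent.* helpers here

set_option autoImplicit false
universe u
open EtBase

namespace Groth.Agent.S15303

set_option linter.all false
set_option backward.isDefEq.respectTransparency false

open TensorProduct in
open GrothLib.SmLift3 in
/-- An étale quotient through a subscheme which is unramified over the base, near a prime. -/
theorem exists_etale_quotient {A B C : Type u} [CommRing A] [CommRing B] [Algebra A B] [CommRing C] [Algebra A C]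
    [Algebra B C] [IsScalarTower A B C] (hC : Function.Surjective (algebraMap B C)) [Algebra.Smooth A B]
    [Algebra.FormallyUnramified A C] (p : Ideal B) [p.IsPrime] (hp : RingHom.ker (algebraMap B C) ≤ p) :
    ∃ a ∉ p, ∀ (B' : Type u) [CommRing B'] [Algebra A B'] [Algebra B B'] [IsScalarTower A B B']
      [IsLocalization.Away a B'],
      ∃ K : Ideal B', K ≤ (RingHom.ker (algebraMap B C)).map (algebraMap B B') ∧ Algebra.Etale A (B' ⧸ K) := by
  classical
  have hkerκ : RingHom.ker (algebraMap B C) ≤ RingHom.ker (algebraMap B p.ResidueField) := fun x hx =>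
    Ideal.algebraMap_residueField_eq_zero.mpr (hp hx)
  letI : Algebra C p.ResidueField :=
    ((algebraMap B C).liftOfSurjective hC ⟨algebraMap B p.ResidueField, hkerκ⟩).toAlgebra
  haveI : IsScalarTower B C p.ResidueField := IsScalarTower.of_algebraMap_eq fun x =>
    ((algebraMap B C).liftOfRightInverse_comp_apply _ _ ⟨algebraMap B p.ResidueField, hkerκ⟩ x).symm
  have hsum := finrank_span_add (A := A) (A₀ := A) p Function.surjective_id hC
  have h0 : Module.finrank p.ResidueField (p.ResidueField ⊗[C] Ω[C⁄A]) = 0 := Module.finrank_zero_of_subsingleton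
  rw [h0, add_zero] at hsum
  let S : Set B := (RingHom.ker (algebraMap B C) : Set B)
  have htop : Submodule.span p.ResidueField (dd (A := A) p '' S) = ⊤ := Submodule.eq_top_of_finrank_eq hsum
  obtain ⟨b, hb, hli, hspan⟩ := exists_dd_basis (A := A) p S _ hsum
  obtain ⟨ψ, hψ⟩ := exists_functional (A := A) p b hli
  let N := Submodule.span B (Set.range fun i => KaehlerDifferential.D A B (b i))
  have hb1 : ∀ i, (1 : p.ResidueField) ⊗ₜ[B] N.mkQ (KaehlerDifferential.D A B (b i)) = 0 := fun i => by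
    rw [Submodule.mkQ_apply, (Submodule.Quotient.mk_eq_zero N).2 (Submodule.subset_span ⟨i, rfl⟩), tmul_zero]
  obtain ⟨g, hg, hgN⟩ := exists_killer p (M := Ω[B⁄A] ⧸ N) fun v => by
    obtain ⟨w, rfl⟩ := N.mkQ_surjective v
    have hw : (1 : p.ResidueField) ⊗ₜ[B] w ∈ Submodule.span p.ResidueField (Set.range fun i => dd (A := A) p (b i)) := by
      refine Submodule.span_le.2 ?_ (htop.ge (Submodule.mem_top (x := (1 : p.ResidueField) ⊗ₜ[B] w)))
      rintro _ ⟨x, hx, rfl⟩
      exact hspan x hx
    have h2 : (N.mkQ).baseChange p.ResidueField ((1 : p.ResidueField) ⊗ₜ[B] w) = 0 := by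
      refine Submodule.span_induction (p := fun z _ => (N.mkQ).baseChange p.ResidueField z = 0) ?_ (map_zero _)
        (fun a a' _ _ h h' => by rw [map_add, h, h', add_zero]) (fun r a _ h => by rw [map_smul, h, smul_zero]) hw
      rintro _ ⟨i, rfl⟩
      exact hb1 i
    exact h2
  let det := (Matrix.of fun i j => ψ (KaehlerDifferential.D A B (b i)) j).det
  refine ⟨det * g, fun h => ((inferInstance : p.IsPrime).mem_or_mem h).elim hψ hg, fun B' => ?_⟩
  intro _ _ _ _ _
  have hu := IsLocalization.Away.algebraMap_isUnit (S := B') (det * g)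
  rw [map_mul, IsUnit.mul_iff] at hu
  haveI : Algebra.FormallyEtale B B' := Algebra.FormallyEtale.of_isLocalization (Submonoid.powers (det * g))
  haveI : Algebra.Smooth B B' := ⟨inferInstance, IsLocalization.Away.finitePresentation (det * g)⟩
  haveI : Algebra.Smooth A B' := Algebra.Smooth.comp A B B'
  let K := Ideal.span (Set.range fun i => algebraMap B B' (b i))
  refine ⟨K, Ideal.span_le.2 ?_, ?_⟩
  · rintro _ ⟨i, rfl⟩; exact Ideal.mem_map_of_mem _ (hb i)
  haveI : Algebra.Smooth A (B' ⧸ K) := smooth_quotient b ψ B' hu.1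
  haveI : Algebra.FormallyUnramified A (B' ⧸ K) := by
    refine ⟨subsingleton_of_forall_eq 0 fun v => ?_⟩
    have hmap : ∀ w : Ω[B⁄A], KaehlerDifferential.map A A B (B' ⧸ K) w = 0 := by
      intro w
      have hN : ∀ u ∈ N, KaehlerDifferential.map A A B (B' ⧸ K) u = 0 := fun u hu => by
        refine Submodule.span_induction (p := fun z _ => KaehlerDifferential.map A A B (B' ⧸ K) z = 0) ?_ (map_zero _)
          (fun a a' _ _ h h' => by rw [map_add, h, h', add_zero]) (fun r a _ h => by rw [map_smul, h, smul_zero]) hu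
        rintro _ ⟨i, rfl⟩
        show KaehlerDifferential.map A A B (B' ⧸ K) (KaehlerDifferential.D A B (b i)) = 0
        rw [KaehlerDifferential.map_D, IsScalarTower.algebraMap_apply B B' (B' ⧸ K),
          Ideal.Quotient.algebraMap_eq, (Ideal.Quotient.eq_zero_iff_mem (I := K)).2 (show algebraMap B B' (b i) ∈ K from Ideal.subset_span ⟨i, rfl⟩), map_zero]
      have h1 := hN (g • w) ((Submodule.Quotient.mk_eq_zero N).1 (hgN (N.mkQ w)))
      rw [map_smul, ← IsScalarTower.algebraMap_smul (B' ⧸ K)] at h1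
      have hgu : IsUnit (algebraMap B (B' ⧸ K) g) := by
        rw [IsScalarTower.algebraMap_apply B B' (B' ⧸ K)]; exact hu.2.map _
      exact (hgu.smul_eq_zero).1 h1
    have hv : v ∈ Submodule.span (B' ⧸ K) (Set.range (KaehlerDifferential.D A (B' ⧸ K))) := by
      rw [KaehlerDifferential.span_range_derivation]; trivial
    induction hv using Submodule.span_induction with
    | mem y hy =>
      obtain ⟨x, rfl⟩ := hy
      obtain ⟨x, rfl⟩ := Ideal.Quotient.mk_surjective x
      obtain ⟨⟨c, s⟩, hc⟩ := IsLocalization.surj (Submonoid.powers (det * g)) x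
      have h3 := congrArg (fun t => KaehlerDifferential.D A (B' ⧸ K) (Ideal.Quotient.mk K t)) hc
      simp only [map_mul, Derivation.leibniz] at h3
      have hd : ∀ y : B, KaehlerDifferential.D A (B' ⧸ K) (Ideal.Quotient.mk K (algebraMap B B' y)) = 0 := fun y => by
        have := hmap (KaehlerDifferential.D A B y)
        rwa [KaehlerDifferential.map_D, IsScalarTower.algebraMap_apply B B' (B' ⧸ K)] at this
      rw [hd, hd, smul_zero, zero_add] at h3
      have hsu : IsUnit (Ideal.Quotient.mk K (algebraMap B B' s.1)) :=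
        (IsLocalization.map_units B' s).map _
      exact (hsu.smul_eq_zero).1 h3
    | zero => rfl
    | add y z _ _ hy hz => rw [hy, hz, add_zero]
    | smul c y _ hy => rw [hy, smul_zero]
  exact { formallyEtale := Algebra.FormallyEtale.of_formallyUnramified_and_formallySmooth
          finitePresentation := inferInstance }

open CategoryTheory AlgebraicGeometry in
/-- Let k be a field of characteristic zero, X and Y smooth k-schemes, f : X ⟶ Y a smooth k-morphism and
i : Z ⟶ X a closed immersion such that the composite Z ⟶ Y is again a closed immersion. Then for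
every point z of Z there are an open neighbourhood U of i(z) in X and a closed subscheme j : W ⟶ U
of U which is étale over Y (through U ⊆ X ⟶ Y) and contains Z ∩ U, i.e. the restriction of i over U
factors through j. -/
theorem result (k : Type u) [Field k] [CharZero k]
    {X Y Z : Scheme.{u}} [X.Over (Spec (CommRingCat.of k))] [Y.Over (Spec (CommRingCat.of k))]
    [Smooth (X ↘ Spec (CommRingCat.of k))] [Smooth (Y ↘ Spec (CommRingCat.of k))]
    (f : X ⟶ Y) [f.IsOver (Spec (CommRingCat.of k))] [Smooth f]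
    (i : Z ⟶ X) [IsClosedImmersion i] [IsClosedImmersion (i ≫ f)] (z : Z) :
    ∃ (U : X.Opens) (_ : i.base z ∈ U) (W : Scheme.{u}) (j : W ⟶ (U : Scheme.{u})) (_ : IsClosedImmersion j)
      (_ : Etale (j ≫ U.ι ≫ f)) (g : ((i ⁻¹ᵁ U : Z.Opens) : Scheme.{u}) ⟶ W), g ≫ j = i ∣_ U := by
  classical
  let x := i.base z
  obtain ⟨_, ⟨U₁, hU₁, rfl⟩, hfxU, -⟩ :=
    Y.isBasis_affineOpens.exists_subset_of_mem_open (Set.mem_univ (f.base x)) isOpen_univ
  obtain ⟨_, ⟨Vt, hVt, rfl⟩, hxV, hle⟩ :=
    X.isBasis_affineOpens.exists_subset_of_mem_open (show x ∈ (f ⁻¹ᵁ U₁ : X.Opens) from hfxU) (f ⁻¹ᵁ U₁).isOpen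
  replace hle : Vt ≤ f ⁻¹ᵁ U₁ := hle
  let A := Γ(Y, U₁)
  let B := Γ(X, Vt)
  let C := Γ(Z, i ⁻¹ᵁ Vt)
  letI : Algebra A B := (f.appLE U₁ Vt hle).hom.toAlgebra
  letI : Algebra B C := (i.app Vt).hom.toAlgebra
  letI : Algebra A C := ((i.app Vt).hom.comp (f.appLE U₁ Vt hle).hom).toAlgebra
  haveI : IsScalarTower A B C := IsScalarTower.of_algebraMap_eq fun _ => rfl
  haveI : Algebra.Smooth A B := f.smooth_appLE hU₁ hVt hle
  haveI : Algebra.FormallyUnramified A C := by
    have e : i ⁻¹ᵁ Vt ≤ (i ≫ f) ⁻¹ᵁ U₁ := fun y hy => hle hy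
    have h := HasRingHomProperty.appLE (P := @FormallyUnramified) (i ≫ f) inferInstance ⟨U₁, hU₁⟩ ⟨_, hVt.preimage i⟩ e
    have heq : ((i ≫ f).appLE U₁ (i ⁻¹ᵁ Vt) e).hom = algebraMap A C := by
      rw [RingHom.algebraMap_toAlgebra, ← CommRingCat.hom_comp]
      congr 1
      simp only [Scheme.Hom.app_eq_appLE, Scheme.Hom.appLE_comp_appLE]
    rw [show ((i ≫ f).appLE (⟨U₁, hU₁⟩ : Y.affineOpens).1 (i ⁻¹ᵁ Vt) e).hom = algebraMap A C from heq] at h
    exact RingHom.formallyUnramified_algebraMap.mp h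
  let p := (hVt.primeIdealOf ⟨x, hxV⟩).asIdeal
  have hC : Function.Surjective (algebraMap B C) := i.app_surjective Vt hVt
  have hker : RingHom.ker (algebraMap B C) = i.ker.ideal ⟨Vt, hVt⟩ := (Scheme.Hom.ker_apply i ⟨Vt, hVt⟩).symm
  have hp : RingHom.ker (algebraMap B C) ≤ p := fun r hr => by
    rw [GrothLib.SmLift3.mem_primeIdealOf_iff]
    intro hm
    have h1 : z ∈ i ⁻¹ᵁ X.basicOpen r := hm
    rw [Scheme.preimage_basicOpen, show (i.app Vt).hom r = 0 from hr, Scheme.basicOpen_zero] at h1
    exact h1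
  obtain ⟨a, ha, hB'⟩ := exists_etale_quotient (A := A) hC p hp
  let U : X.Opens := X.basicOpen a
  have hU : IsAffineOpen U := hVt.basicOpen a
  have hUle : U ≤ Vt := X.basicOpen_le a
  have hxU : x ∈ U := by_contra fun h => ha ((GrothLib.SmLift3.mem_primeIdealOf_iff _ _ _).2 h)
  letI : Algebra A Γ(X, U) := (f.appLE U₁ U (hUle.trans hle)).hom.toAlgebra
  letI : Algebra B Γ(X, U) := (X.presheaf.map (homOfLE hUle).op).hom.toAlgebra
  haveI : IsScalarTower A B Γ(X, U) := IsScalarTower.of_algebraMap_eq fun x =>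
    (ConcreteCategory.congr_hom (f.appLE_map hle (homOfLE hUle).op) x).symm
  haveI : IsLocalization.Away a Γ(X, U) := hVt.isLocalization_basicOpen a
  obtain ⟨K, hK, het⟩ := hB' Γ(X, U)
  have hKi : K ≤ i.ker.ideal ⟨U, hU⟩ := by
    rw [← i.ker.map_ideal (U := ⟨U, hU⟩) (V := ⟨Vt, hVt⟩) hUle, ← hker]
    exact hK
  let q := CommRingCat.ofHom (Ideal.Quotient.mk K)
  let j : Spec (CommRingCat.of (Γ(X, U) ⧸ K)) ⟶ (U : Scheme.{u}) := Spec.map q ≫ hU.isoSpec.inv
  haveI : IsClosedImmersion (Spec.map q) := IsClosedImmersion.spec_of_surjective _ Ideal.Quotient.mk_surjective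
  have hj : IsClosedImmersion j := inferInstance
  have hjet : Etale (j ≫ U.ι ≫ f) := by
    have h1 : j ≫ U.ι ≫ f = Spec.map (f.appLE U₁ U (hUle.trans hle) ≫ q) ≫ hU₁.fromSpec := by
      simp only [Spec.map_comp, Category.assoc]
      rw [IsAffineOpen.SpecMap_appLE_fromSpec f hU₁ hU (hUle.trans hle)]
      simp only [j, Category.assoc, ← hU.isoSpec_inv_ι]
    rw [h1]
    haveI : Etale (Spec.map (f.appLE U₁ U (hUle.trans hle) ≫ q)) := by
      rw [HasRingHomProperty.Spec_iff (P := @Etale)]
      exact RingHom.etale_algebraMap.mpr het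
    infer_instance
  have hKi' : K ≤ RingHom.ker (i.app U).hom := hKi.trans (Scheme.Hom.ker_apply i ⟨U, hU⟩).le
  let g : ((i ⁻¹ᵁ U : Z.Opens) : Scheme.{u}) ⟶ Spec (CommRingCat.of (Γ(X, U) ⧸ K)) :=
    (hU.preimage i).isoSpec.hom ≫ Spec.map (CommRingCat.ofHom (Ideal.Quotient.lift K (i.app U).hom hKi'))
  refine ⟨U, hxU, _, j, hj, hjet, g, ?_⟩
  rw [← cancel_mono U.ι, morphismRestrict_ι]
  simp only [g, j, Category.assoc, hU.isoSpec_inv_ι]
  rw [← Spec.map_comp_assoc, show q ≫ CommRingCat.ofHom (Ideal.Quotient.lift K (i.app U).hom hKi') = i.app U from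
    CommRingCat.hom_ext (RingHom.ext fun _ => rfl), Scheme.Hom.app_eq_appLE,
    IsAffineOpen.SpecMap_appLE_fromSpec i hU (hU.preimage i) le_rfl, IsAffineOpen.isoSpec_hom_fromSpec_assoc]

end Groth.Agent.S15303
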