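import Groth.Statements.S15304
import Groth.Agent.Lib.TowerDiag0.Sheaf
-- import your own Groth.Agent.* helpers here

set_option autoImplicit false
universe u
open Coh

namespace Groth.Agent.S15304

open CategoryTheory CategoryTheory.Limits AlgebraicGeometry Opposite in
/-- Let X be a finite-type scheme over a field k, G a countably quasi-coherent O_X-module
(quasi-coherent, with countably generated sections over every affine open) and H_1 ⊇ H_2 ⊇ ⋯ a
descending sequence of quasi-coherent submodules, presented here as a tower of quasi-coherent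
quotients Q_n = G/H_n receiving compatible epimorphisms from G. If the induced map G → lim_n G/H_n
is an epimorphism of sheaves, then H_n stops changing from some index on: all transition maps
Q_{n+1} → Q_n with n large are isomorphisms. -/
theorem result (k : Type u) [Field k] (X : Scheme.{u})
    [X.Over (Spec (CommRingCat.of k))] [LocallyOfFiniteType (X ↘ Spec (CommRingCat.of k))] [CompactSpace X]
    (Q : ℕᵒᵖ ⥤ X.Modules) (hQ : ∀ n : ℕ, Coh.IsQCoh (Q.obj (op n))) (c : Cone Q)
    (hG : Coh.IsQCoh c.pt)
    (hGc : (∀ U : X.affineOpens, ∃ s : Set (c.pt.val.obj (op (U : X.Opens))),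
        s.Countable ∧ Submodule.span (X.ringCatSheaf.obj.obj (op (U : X.Opens))) s = ⊤))
    (hepi : ∀ n : ℕ, Epi (c.π.app (op n))) (hlim : Epi (limit.lift Q c)) :
    ∃ N : ℕ, ∀ n : ℕ, N ≤ n → IsIso (Q.map (homOfLE (Nat.le_succ n)).op) := by
  exact GrothLib.TowerDiag0.exists_isIso Q c k hQ hG hGc hepi hlim

end Groth.Agent.S15304
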