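import Groth.Statements.S15307
import Mathlib.Algebra.Homology.ShortComplex.Ab
import Mathlib.Algebra.Homology.ShortComplex.ExactFunctor
import Mathlib.CategoryTheory.Limits.ConcreteCategory.Basic
import Mathlib.CategoryTheory.Limits.FunctorCategory.EpiMono
import Mathlib.Algebra.Category.Grp.EpiMono
import Mathlib.CategoryTheory.Functor.OfSequence
-- import your own Groth.Agent.* helpers here

set_option autoImplicit false
universe u
open HomAlg3

namespace Groth.Agent.S15307

open CategoryTheory Limits Opposite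

/-- `ℤ` in levels `≤ n`, zero above. -/
def stdSub (n j : ℕ) : AddSubgroup (ULift.{u} ℤ) where
  carrier := {z | n < j → z = 0}
  zero_mem' := fun _ => rfl
  add_mem' := fun ha hb h => by rw [ha h, hb h, add_zero]
  neg_mem' := fun ha h => by rw [ha h, neg_zero]

theorem stdSub_anti (n : ℕ) {i j : ℕ} (h : i ≤ j) : stdSub.{u} n j ≤ stdSub n i :=
  fun _ hz hni => hz (lt_of_lt_of_le hni h)

theorem stdSub_mono {n m : ℕ} (h : n ≤ m) (j : ℕ) : stdSub.{u} n j ≤ stdSub m j :=
  fun _ hz hmj => hz (lt_of_le_of_lt h hmj)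

/-- The free tower on one generator in level `n`. -/
def stdTower (n : ℕ) : ℕᵒᵖ ⥤ AddCommGrpCat.{u} where
  obj j := AddCommGrpCat.of (stdSub.{u} n j.unop)
  map f := AddCommGrpCat.ofHom (AddSubgroup.inclusion (stdSub_anti n (leOfHom f.unop)))

theorem injective_tower_surjective (I : ℕᵒᵖ ⥤ AddCommGrpCat.{u}) [Injective I] (n : ℕ) :
    Function.Surjective (I.map (homOfLE (Nat.le_succ n)).op) := by
  intro a
  let app : ∀ j : ℕᵒᵖ, (stdTower.{u} n).obj j ⟶ I.obj j := fun j => AddCommGrpCat.ofHom
    (AddMonoidHom.mk' (fun z => if h : j.unop ≤ n then z.1.down • I.map (homOfLE h).op a else 0)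
      (fun z w => by
        split_ifs
        · exact add_smul _ _ _
        · exact (add_zero 0).symm))
  let φ : stdTower.{u} n ⟶ I :=
    { app := app
      naturality := fun i j f => by
        ext z
        show (if h : j.unop ≤ n then z.1.down • I.map (homOfLE h).op a else 0) =
          I.map f (if h : i.unop ≤ n then z.1.down • I.map (homOfLE h).op a else 0)
        have hle : j.unop ≤ i.unop := leOfHom f.unop
        by_cases hi : i.unop ≤ n
        · rw [dif_pos hi, dif_pos (hle.trans hi), map_zsmul, ← ConcreteCategory.comp_apply, ← I.map_comp]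
          rfl
        · rw [dif_neg hi, map_zero]
          by_cases hj : j.unop ≤ n
          · rw [dif_pos hj, show z.1 = 0 from z.2 (not_le.1 hi)]; exact zero_smul _ _
          · rw [dif_neg hj] }
  let ι : stdTower.{u} n ⟶ stdTower.{u} (n + 1) :=
    { app := fun j => AddCommGrpCat.ofHom (AddSubgroup.inclusion (stdSub_mono (Nat.le_succ n) _)) }
  haveI : ∀ j, Mono (ι.app j) := fun j =>
    (AddCommGrpCat.mono_iff_injective _).2 (AddSubgroup.inclusion_injective (stdSub_mono (Nat.le_succ n) j.unop))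
  haveI : Mono ι := NatTrans.mono_of_mono_app ι
  let ψ := Injective.factorThru φ ι
  have hψ : ι ≫ ψ = φ := Injective.comp_factorThru φ ι
  let e : (stdTower.{u} (n + 1)).obj (op (n + 1)) :=
    (⟨ULift.up (1 : ℤ), fun h => absurd h (lt_irrefl _)⟩ : stdSub.{u} (n + 1) (n + 1))
  let e' : (stdTower.{u} n).obj (op n) :=
    (⟨ULift.up (1 : ℤ), fun h => absurd h (lt_irrefl _)⟩ : stdSub.{u} n n)
  refine ⟨ψ.app (op (n + 1)) e, ?_⟩
  rw [← ConcreteCategory.comp_apply, ← ψ.naturality, ConcreteCategory.comp_apply]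
  have h1 : ψ.app (op n) (ι.app (op n) e') = φ.app (op n) e' := by
    rw [← ConcreteCategory.comp_apply, ← NatTrans.comp_app, hψ]
  refine h1.trans ?_
  show (if h : n ≤ n then (1 : ℤ) • I.map (homOfLE h).op a else 0) = a
  rw [dif_pos le_rfl, one_smul]
  exact congrArg (fun g => g a) (I.map_id (op n))

open CategoryTheory CategoryTheory.Limits in
/-- For abelian groups, for an inverse system (A_n) of abelian groups indexed by the natural numbers,
the right derived functors lim^(i) A_n of the inverse limit vanish for every i ≥ 2. (The two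
instance hypotheses, enough injectives in the category of towers of abelian groups and additivity of
the limit functor, always hold. The published statement is made in an axiomatic setting that also
covers quasi-coherent sheaves; this row is the case of abelian groups.) -/
theorem result
    [EnoughInjectives (ℕᵒᵖ ⥤ AddCommGrpCat.{u})]
    [(lim : (ℕᵒᵖ ⥤ AddCommGrpCat.{u}) ⥤ AddCommGrpCat.{u}).Additive]
    (A : ℕᵒᵖ ⥤ AddCommGrpCat.{u}) (i : ℕ) (hi : 2 ≤ i) :
    IsZero (((lim : (ℕᵒᵖ ⥤ AddCommGrpCat.{u}) ⥤ AddCommGrpCat.{u}).rightDerived i).obj A) := by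
  classical
  obtain ⟨m, rfl⟩ : ∃ m, i = m + 2 := ⟨i - 2, by omega⟩
  let P := injectiveResolution A
  let L : (ℕᵒᵖ ⥤ AddCommGrpCat.{u}) ⥤ AddCommGrpCat.{u} := lim
  refine IsZero.of_iso ?_ (P.isoRightDerivedObj L (m + 2))
  show IsZero (((L.mapHomologicalComplex _).obj P.cocomplex).homology (m + 2))
  rw [← HomologicalComplex.exactAt_iff_isZero_homology,
    HomologicalComplex.exactAt_iff' _ (m + 1) (m + 2) (m + 3) (by simp)
      (CochainComplex.next ℕ (m + 2)), ShortComplex.ab_exact_iff]
  intro x hx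
  let X := P.cocomplex
  have ex : ∀ (q : ℕ) (n : ℕ) (y : (X.X (q + 1)).obj (op n)), (X.d (q + 1) (q + 2)).app (op n) y = 0 →
      ∃ z : (X.X q).obj (op n), (X.d q (q + 1)).app (op n) z = y := by
    intro q n
    have h := (P.exact_succ q).map ((evaluation ℕᵒᵖ AddCommGrpCat.{u}).obj (op n))
    rw [ShortComplex.ab_exact_iff] at h
    exact h
  let r : ∀ (q n : ℕ), (X.X q).obj (op (n + 1)) ⟶ (X.X q).obj (op n) := fun q n =>
    (X.X q).map (homOfLE (Nat.le_succ n)).op
  have hr : ∀ q n, Function.Surjective (r q n) := fun q n => by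
    haveI := P.injective q
    exact injective_tower_surjective (X.X q) n
  have hnat : ∀ (p q n : ℕ) (y : (X.X p).obj (op (n + 1))),
      (X.d p q).app (op n) (r p n y) = r q n ((X.d p q).app (op (n + 1)) y) := fun p q n y => by
    simp only [r, ← ConcreteCategory.comp_apply, (X.d p q).naturality]
  let xn : ∀ n, (X.X (m + 2)).obj (op n) := fun n => limit.π (X.X (m + 2)) (op n) x
  have hxn : ∀ n, (X.d (m + 2) (m + 3)).app (op n) (xn n) = 0 := fun n => by
    have h0 : limit.π (X.X (m + 3)) (op n) (L.map (X.d (m + 2) (m + 3)) x) = 0 := by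
      rw [show L.map (X.d (m + 2) (m + 3)) x = 0 from hx, map_zero]
    rw [← h0, ← ConcreteCategory.comp_apply, ← ConcreteCategory.comp_apply]
    congr 1
    exact (limMap_π (X.d (m + 2) (m + 3)) (op n)).symm ▸ rfl
  have hxr : ∀ n, r (m + 2) n (xn (n + 1)) = xn n := fun n => by
    simp only [r, xn, ← ConcreteCategory.comp_apply, limit.w]
  have step : ∀ n (y : (X.X (m + 1)).obj (op n)), (X.d (m + 1) (m + 2)).app (op n) y = xn n →
      ∃ y' : (X.X (m + 1)).obj (op (n + 1)),
        (X.d (m + 1) (m + 2)).app (op (n + 1)) y' = xn (n + 1) ∧ r (m + 1) n y' = y := by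
    intro n y hy
    obtain ⟨y', hy'⟩ := ex (m + 1) (n + 1) _ (hxn (n + 1))
    obtain ⟨z, hz⟩ := ex m n (r (m + 1) n y' - y) (by rw [map_sub, hnat, hy', hxr, hy, sub_self])
    obtain ⟨z', rfl⟩ := hr m n z
    refine ⟨y' - (X.d m (m + 1)).app (op (n + 1)) z', ?_, ?_⟩
    · rw [map_sub, hy', ← ConcreteCategory.comp_apply, ← NatTrans.comp_app, X.d_comp_d]
      exact sub_zero _
    · rw [map_sub, ← hnat, hz, sub_sub_cancel]
  let Y : ∀ n, {y : (X.X (m + 1)).obj (op n) // (X.d (m + 1) (m + 2)).app (op n) y = xn n} := fun n =>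
    Nat.rec ⟨(ex (m + 1) 0 _ (hxn 0)).choose, (ex (m + 1) 0 _ (hxn 0)).choose_spec⟩
      (fun n y => ⟨(step n y.1 y.2).choose, (step n y.1 y.2).choose_spec.1⟩) n
  have hY : ∀ n, r (m + 1) n (Y (n + 1)).1 = (Y n).1 := fun n => (step n _ (Y n).2).choose_spec.2
  have hYle : ∀ {a b : ℕ} (h : a ≤ b), (X.X (m + 1)).map (homOfLE h).op (Y b).1 = (Y a).1 := by
    intro a b h
    induction b, h using Nat.le_induction with
    | base => exact congrArg (fun g => g (Y a).1) ((X.X (m + 1)).map_id (op a))
    | succ b hab ih =>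
      rw [← ih, ← hY b]
      simp only [r, ← ConcreteCategory.comp_apply, ← Functor.map_comp]
      rfl
  let c : Cone (X.X (m + 1)) :=
    { pt := AddCommGrpCat.of (ULift.{u} ℤ)
      π :=
      { app := fun j => AddCommGrpCat.ofHom
          (AddMonoidHom.mk' (fun z : ULift.{u} ℤ => z.down • (Y j.unop).1) (fun z w => add_smul _ _ _))
        naturality := fun j k f => by
          ext z
          show z.down • (Y k.unop).1 = (X.X (m + 1)).map f (z.down • (Y j.unop).1)
          rw [map_zsmul, ← hYle (leOfHom f.unop)]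
          rfl } }
  refine ⟨limit.lift (X.X (m + 1)) c (ULift.up (1 : ℤ)), ?_⟩
  refine Concrete.limit_ext _ _ _ fun j => ?_
  show limit.π (X.X (m + 2)) j (limMap (X.d (m + 1) (m + 2)) _) = xn j.unop
  rw [← ConcreteCategory.comp_apply, ← ConcreteCategory.comp_apply, limMap_π, limit.lift_π_assoc]
  show (X.d (m + 1) (m + 2)).app j ((1 : ℤ) • (Y j.unop).1) = _
  rw [one_smul]
  exact (Y j.unop).2

end Groth.Agent.S15307
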