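import Groth.Statements.S15315
import Mathlib.RingTheory.Length
import Mathlib.Tactic.LinearCombination
import Mathlib.RingTheory.Ideal.Quotient.Operations

set_option autoImplicit false
universe u
open ArLef

namespace Groth.Agent.S15315

/-- For a Noetherian commutative ring A, elements a, b with a a non-zero-divisor on A/(b), and an ideal
I, one has length(A/(aI + bA)) = length(A/(a, b)) + length(A/(I + bA)) as extended natural numbers;
in particular when two of the three quotients have finite length so does the third. -/
theorem result (A : Type u) [CommRing A] [IsNoetherianRing A] (a b : A) (I : Ideal A)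
    (ha : IsSMulRegular (A ⧸ Ideal.span ({b} : Set A)) a) :
    Module.length A (A ⧸ (Ideal.span {a} * I ⊔ Ideal.span {b})) =
      Module.length A (A ⧸ Ideal.span ({a, b} : Set A)) + Module.length A (A ⧸ (I ⊔ Ideal.span {b})) := by
  set J : Ideal A := Ideal.span {a} * I ⊔ Ideal.span {b} with hJ
  set K : Ideal A := I ⊔ Ideal.span {b} with hK
  have hsub : J ≤ Ideal.span ({a, b} : Set A) := by
    refine sup_le (Ideal.mul_le_left.trans (Ideal.span_mono (Set.singleton_subset_iff.mpr (Set.mem_insert a _)))) (Ideal.span_mono (Set.subset_insert _ _))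
  let f : (A ⧸ K) →ₗ[A] (A ⧸ J) := Submodule.mapQ K J (LinearMap.mulLeft A a) (by
    refine sup_le (fun x hx => ?_) fun x hx => ?_
    · exact Submodule.mem_sup_left (Ideal.mul_mem_mul (Ideal.mem_span_singleton_self a) hx)
    · exact Submodule.mem_sup_right (Ideal.mul_mem_left _ a hx))
  let g : (A ⧸ J) →ₗ[A] (A ⧸ Ideal.span ({a, b} : Set A)) := Submodule.factor hsub
  have hf : Function.Injective f := by
    rw [injective_iff_map_eq_zero]
    intro x hx
    obtain ⟨x, rfl⟩ := Submodule.Quotient.mk_surjective _ x
    rw [Submodule.mapQ_apply, LinearMap.mulLeft_apply, Submodule.Quotient.mk_eq_zero] at hx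
    obtain ⟨y, hy, z, hz, hyz⟩ := Submodule.mem_sup.mp hx
    obtain ⟨i, hi, rfl⟩ := Ideal.mem_span_singleton_mul.mp hy
    rw [Submodule.Quotient.mk_eq_zero]
    have h0 : a • (Submodule.Quotient.mk (x - i) : A ⧸ Ideal.span ({b} : Set A)) = a • 0 := by
      rw [← Submodule.Quotient.mk_smul, smul_zero, Submodule.Quotient.mk_eq_zero]
      rw [show a • (x - i) = z by rw [smul_eq_mul]; linear_combination -hyz]
      exact hz
    have h1 := (Submodule.Quotient.mk_eq_zero _).mp (ha h0)
    rw [show x = i + (x - i) by ring]
    exact Submodule.add_mem_sup hi h1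
  have hg : Function.Surjective g := Submodule.factor_surjective hsub
  have hex : Function.Exact f g := by
    intro y
    obtain ⟨y, rfl⟩ := Submodule.Quotient.mk_surjective _ y
    constructor
    · intro hy
      have hy' : y ∈ Ideal.span ({a, b} : Set A) := (Submodule.Quotient.mk_eq_zero _).mp hy
      obtain ⟨c, d, hcd⟩ := Ideal.mem_span_pair.mp hy'
      refine ⟨Submodule.Quotient.mk c, ?_⟩
      rw [Submodule.mapQ_apply, LinearMap.mulLeft_apply, Submodule.Quotient.eq]
      rw [show a * c - y = -d * b by linear_combination hcd]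
      exact Submodule.mem_sup_right (Ideal.mul_mem_left _ _ (Ideal.mem_span_singleton_self b))
    · rintro ⟨x, hx⟩
      obtain ⟨x, rfl⟩ := Submodule.Quotient.mk_surjective _ x
      rw [← hx, Submodule.mapQ_apply, LinearMap.mulLeft_apply]
      exact (Submodule.Quotient.mk_eq_zero _).mpr (Ideal.mul_mem_right _ _ (Ideal.subset_span (by simp)))
  rw [Module.length_eq_add_of_exact f g hf hg hex, add_comm]

end Groth.Agent.S15315
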