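import Groth.Statements.S15318
import Groth.Agent.Lib.ArLef.NodeThm

set_option autoImplicit false
universe u
open ArLef ArLef.NodeAlg

namespace Groth.Agent.S15318

/-- Let B be a discrete valuation ring with uniformizer π, N = B[[t, e]]/(te - π), and σ a B-algebra
automorphism of N switching the two branches of the closed fibre (σ(t) associated to e, σ(e)
associated to t). Then the fixed-point ideal of σ is principal, generated by an element h of order
one (h is not in (t, e)²), and π is a non-zero-divisor modulo h: the fixed locus is a horizontal
regular divisor through the point with empty residual part. (Stated in the complete local ring,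
where the published argument takes place; the published setting has B complete with algebraically
closed residue field.) -/
theorem result (B : Type u) [CommRing B] [IsDomain B] [IsDiscreteValuationRing B] (π : B) (hπ : Irreducible π)
    (σ : ArLef.NodeAlg B π ≃ₐ[B] ArLef.NodeAlg B π)
    (ht : Associated (σ (ArLef.NodeAlg.t π)) (ArLef.NodeAlg.e π))
    (he : Associated (σ (ArLef.NodeAlg.e π)) (ArLef.NodeAlg.t π)) :
    ∃ h : ArLef.NodeAlg B π, ArLef.fixIdeal σ = Ideal.span {h} ∧
      h ∉ (Ideal.span ({ArLef.NodeAlg.t π, ArLef.NodeAlg.e π} : Set (ArLef.NodeAlg B π))) ^ 2 ∧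
      IsSMulRegular (ArLef.NodeAlg B π ⧸ Ideal.span ({h} : Set (ArLef.NodeAlg B π))) π := by
  exact GrothLib.NodeAlg.fix_switches hπ σ ht he

end Groth.Agent.S15318
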