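import Groth.Statements.S15319
import Groth.Agent.Lib.ArLef.NodeThm

set_option autoImplicit false
universe u
open ArLef ArLef.NodeAlg

namespace Groth.Agent.S15319

/-- Let B be a discrete valuation ring with uniformizer π, N = B[[t, e]]/(te - π) the complete local
ring of a semi-stable arithmetic surface over B at a singular point of the closed fibre, and σ a
ring automorphism of N sending π to π + γ π^j with γ a unit of B and j ≥ 1 (σ lies over an
automorphism τ of B with v(τ(π) - π) = j). Then the fixed-point ideal of σ is not contained in (π^j)
= (t^j e^j): the two branches through the point cannot both occur with multiplicity j in the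
divisorial part of the fixed locus. (The published setting has B complete with algebraically closed
residue field.) -/
theorem result (B : Type u) [CommRing B] [IsDomain B] [IsDiscreteValuationRing B] (π : B) (hπ : Irreducible π)
    (j : ℕ) (hj : 1 ≤ j) (γ : B) (hγ : IsUnit γ)
    (σ : ArLef.NodeAlg B π ≃+* ArLef.NodeAlg B π)
    (hσ : σ (algebraMap B (ArLef.NodeAlg B π) π) = algebraMap B (ArLef.NodeAlg B π) (π + γ * π ^ j)) :
    ¬ ArLef.fixIdeal σ ≤ Ideal.span ({algebraMap B (ArLef.NodeAlg B π) (π ^ j)} : Set (ArLef.NodeAlg B π)) := by
  exact GrothLib.NodeAlg.not_fix_le hπ hj hγ σ hσ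

end Groth.Agent.S15319
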