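import Groth.Statements.S15320
import Groth.Agent.Lib.ArLef.NodeThm

set_option autoImplicit false
universe u
open ArLef ArLef.NodeAlg

namespace Groth.Agent.S15320

/-- Let B be a discrete valuation ring with uniformizer π, N = B[[t, e]]/(te - π) the complete local
ring of a semi-stable arithmetic surface over B at a singular point x of the closed fibre, and σ a
ring automorphism of N over an automorphism τ of B with v(τ(π) - π) = j ≥ 1, that is σ(π) = π + γ
π^j with γ a unit of B, and with σ(b) - b ∈ π^j N for every b ∈ B (automatic when B is totally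
ramified over the fixed ring of τ, as in the published setting, where the residue field is
algebraically closed). If σ switches the two branches through x (σ(t) associated to e and σ(e) to
t), then the fixed-point ideal I of σ is contained in no proper principal ideal (x is not on the
divisorial part of the fixed locus) and N/I has length 2j - 1 (the multiplicity of x in the residual
fixed-point scheme). -/
theorem result (B : Type u) [CommRing B] [IsDomain B] [IsDiscreteValuationRing B] (π : B) (hπ : Irreducible π)
    (j : ℕ) (hj : 1 ≤ j) (γ : B) (hγ : IsUnit γ)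
    (σ : ArLef.NodeAlg B π ≃+* ArLef.NodeAlg B π)
    (hσB : ∀ b : B, σ (algebraMap B (ArLef.NodeAlg B π) b) - algebraMap B (ArLef.NodeAlg B π) b ∈
      Ideal.span ({algebraMap B (ArLef.NodeAlg B π) (π ^ j)} : Set (ArLef.NodeAlg B π)))
    (hσπ : σ (algebraMap B (ArLef.NodeAlg B π) π) = algebraMap B (ArLef.NodeAlg B π) (π + γ * π ^ j))
    (ht : Associated (σ (ArLef.NodeAlg.t π)) (ArLef.NodeAlg.e π)) (he : Associated (σ (ArLef.NodeAlg.e π)) (ArLef.NodeAlg.t π)) :
    (∀ g : ArLef.NodeAlg B π, ArLef.fixIdeal σ ≤ Ideal.span ({g} : Set (ArLef.NodeAlg B π)) → IsUnit g) ∧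
      Module.length (ArLef.NodeAlg B π) (ArLef.NodeAlg B π ⧸ ArLef.fixIdeal σ) = ((2 * j - 1 : ℕ) : ℕ∞) := by
  exact GrothLib.NodeAlg.length_switches hπ hj hγ σ hσB hσπ ht he

end Groth.Agent.S15320
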