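import Groth.Statements.S15322
import Mathlib.AlgebraicGeometry.Morphisms.Etale
open CategoryTheory.Limits

set_option autoImplicit false
universe u
open CategoryTheory AlgebraicGeometry
open ArLef

namespace Groth.Agent.S15322

/-- Let f : D → C be a morphism, τ an automorphism of C and σ an automorphism of D with σ f = f τ; call
σ a good lifting of τ when the fixed-point scheme of σ is the full preimage of that of τ, i.e. every
morphism z : Z → D with z f τ = z f has z σ = z. If f is etale, separated and surjective with D
connected and the fixed-point scheme of τ is non-empty (some point of C, with its residue field, is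
fixed by τ), then τ has at most one good lifting. (The published statement is for a finite etale
cover of smooth projective irreducible curves over a field and a non-trivial τ; the argument uses
only the hypotheses stated here.) -/
theorem result {C D : Scheme.{u}} (f : D ⟶ C) [Etale f] [IsSeparated f] [Surjective f]
    [ConnectedSpace D] (τ : C ≅ C) (σ σ' : D ≅ D)
    (hσ : σ.hom ≫ f = f ≫ τ.hom) (hσ' : σ'.hom ≫ f = f ≫ τ.hom)
    (good : ∀ (Z : Scheme.{u}) (z : Z ⟶ D), z ≫ f ≫ τ.hom = z ≫ f → z ≫ σ.hom = z)
    (good' : ∀ (Z : Scheme.{u}) (z : Z ⟶ D), z ≫ f ≫ τ.hom = z ≫ f → z ≫ σ'.hom = z)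
    (x : C) (hx : C.fromSpecResidueField x ≫ τ.hom = C.fromSpecResidueField x) :
    σ = σ' := by
  obtain ⟨y, rfl⟩ := f.surjective x
  have hy : D.fromSpecResidueField y ≫ f ≫ τ.hom = D.fromSpecResidueField y ≫ f := by
    rw [← Category.assoc, ← Scheme.Hom.SpecMap_residueFieldMap_fromSpecResidueField, Category.assoc, hx]
  -- the equalizer of `σ` and `σ'` is open and closed
  let l : D ⟶ pullback f f := pullback.lift σ.hom σ'.hom (hσ.trans hσ'.symm)
  let j := pullback.fst l (pullback.diagonal f)
  have hclopen : IsClopen (Set.range j.base) := ⟨j.isClosedEmbedding.isClosed_range, j.isOpenEmbedding.isOpen_range⟩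
  let t : Spec (D.residueField y) ⟶ pullback l (pullback.diagonal f) :=
    pullback.lift (D.fromSpecResidueField y) (D.fromSpecResidueField y) (by
      apply pullback.hom_ext
      · rw [Category.assoc, Category.assoc, pullback.lift_fst, pullback.diagonal_fst, Category.comp_id, good _ _ hy]
      · rw [Category.assoc, Category.assoc, pullback.lift_snd, pullback.diagonal_snd, Category.comp_id, good' _ _ hy])
  obtain ⟨s⟩ : Nonempty (Spec (D.residueField y)) := inferInstance
  have hne : (Set.range j.base).Nonempty := ⟨_, t s, rfl⟩
  have : IsIso j := isIso_of_isOpenImmersion_of_opensRange_eq_top j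
    (TopologicalSpace.Opens.ext (IsClopen.eq_univ hclopen hne))
  have e1 : j ≫ σ.hom = pullback.snd l (pullback.diagonal f) := by
    have := congr($(pullback.condition (f := l) (g := pullback.diagonal f)) ≫ pullback.fst _ _)
    rwa [Category.assoc, Category.assoc, pullback.lift_fst, pullback.diagonal_fst, Category.comp_id] at this
  have e2 : j ≫ σ'.hom = pullback.snd l (pullback.diagonal f) := by
    have := congr($(pullback.condition (f := l) (g := pullback.diagonal f)) ≫ pullback.snd _ _)
    rwa [Category.assoc, Category.assoc, pullback.lift_snd, pullback.diagonal_snd, Category.comp_id] at this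
  exact Iso.ext ((cancel_epi j).1 (e1.trans e2.symm))

end Groth.Agent.S15322
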