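import Groth.Statements.S15323
import Groth.Agent.Lib.ArLef.NodeThm

set_option autoImplicit false
universe u
open ArLef ArLef.NodeAlg

namespace Groth.Agent.S15323

/-- In the cases where the branches through the point do not lie in the divisorial part of the fixed
locus, let B be a discrete valuation ring with uniformizer π, N = B[[t, e]]/(te - π) the complete
local ring of a semi-stable arithmetic surface over B at a singular point x of the closed fibre, and
σ a ring automorphism of N with σ(π) = π + γ π^j (γ a unit of B, j ≥ 1) and σ(b) - b ∈ π^j N for all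
b ∈ B (σ lies over an automorphism τ of B with v(τ(π) - π) = j, B totally ramified over the fixed
ring as in the published setting). Suppose σ fixes the branches, σ(t) = α t and σ(e) = β e with
units α, β, and that t does not divide β - 1 and e does not divide α - 1. Then the length of N
modulo the fixed-point ideal of σ (the multiplicity of x in the residual fixed-point scheme) is j
(s₁ + s₂) + 1, where s₁ = length N/(t, β - 1) and s₂ = length N/(e, α - 1) are the fixed-point
multiplicities of σ at x along the two branches, each lowered by one. -/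
theorem result (B : Type u) [CommRing B] [IsDomain B] [IsDiscreteValuationRing B] (π : B) (hπ : Irreducible π)
    (j : ℕ) (hj : 1 ≤ j) (γ : B) (hγ : IsUnit γ)
    (σ : ArLef.NodeAlg B π ≃+* ArLef.NodeAlg B π)
    (hσB : ∀ b : B, σ (algebraMap B (ArLef.NodeAlg B π) b) - algebraMap B (ArLef.NodeAlg B π) b ∈
      Ideal.span ({algebraMap B (ArLef.NodeAlg B π) (π ^ j)} : Set (ArLef.NodeAlg B π)))
    (hσπ : σ (algebraMap B (ArLef.NodeAlg B π) π) = algebraMap B (ArLef.NodeAlg B π) (π + γ * π ^ j))
    (α β : (ArLef.NodeAlg B π)ˣ) (ht : σ (ArLef.NodeAlg.t π) = (α : ArLef.NodeAlg B π) * ArLef.NodeAlg.t π) (he : σ (ArLef.NodeAlg.e π) = (β : ArLef.NodeAlg B π) * ArLef.NodeAlg.e π)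
    (htb : ¬ (ArLef.NodeAlg.t π ∣ (β : ArLef.NodeAlg B π) - 1)) (hea : ¬ (ArLef.NodeAlg.e π ∣ (α : ArLef.NodeAlg B π) - 1)) :
    Module.length (ArLef.NodeAlg B π) (ArLef.NodeAlg B π ⧸ ArLef.fixIdeal σ) =
      (j : ℕ∞) * (Module.length (ArLef.NodeAlg B π) (ArLef.NodeAlg B π ⧸ Ideal.span ({ArLef.NodeAlg.t π, (β : ArLef.NodeAlg B π) - 1} : Set (ArLef.NodeAlg B π))) +
        Module.length (ArLef.NodeAlg B π) (ArLef.NodeAlg B π ⧸ Ideal.span ({ArLef.NodeAlg.e π, (α : ArLef.NodeAlg B π) - 1} : Set (ArLef.NodeAlg B π)))) + 1 := by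
  obtain ⟨p, rfl⟩ : ∃ p, j = p + 1 := ⟨j - 1, by omega⟩
  obtain ⟨hfix, hL⟩ := GrothLib.NodeAlg.length_stab_dvd hπ 0 0 p p (Nat.zero_add _).symm (Nat.zero_add _).symm
    hγ σ hσB hσπ α β ht he _ _
    (by rw [pow_zero, pow_zero, one_mul, one_mul]) (by rw [pow_zero, pow_zero, one_mul, one_mul]) hea htb
  rw [hfix.trans (show _ = Ideal.span ({((α : ArLef.NodeAlg B π) - 1) * ArLef.NodeAlg.t π,
    ((β : ArLef.NodeAlg B π) - 1) * ArLef.NodeAlg.e π} : Set (ArLef.NodeAlg B π)) by simp),
    mul_add, add_comm _ (1 : ℕ∞), ← add_assoc]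
  exact hL

end Groth.Agent.S15323
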