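import Groth.Statements.S15325
import Groth.Agent.Lib.ArLef.NodeThm

set_option autoImplicit false
universe u
open ArLef ArLef.NodeAlg

namespace Groth.Agent.S15325

/-- Let k be a field, A = k[[t, e]]/(te) the complete local ring of a nodal curve at a node x, and σ a
k-algebra automorphism of A fixing the two branches, σ(t) = α t and σ(e) = β e with units α, β.
Writing I for the fixed-point ideal of σ (generated by all σ(r) - r), the fixed-point multiplicity
length(A/I) of σ at x and the fixed-point multiplicities length(A/(I + (t))), length(A/(I + (e))) of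
the automorphisms induced on the two branches satisfy length(A/I) + 1 = length(A/(I + (t))) +
length(A/(I + (e))), as extended natural numbers (both sides are infinite when σ fixes a branch
pointwise). (The published setting has k algebraically closed.) -/
theorem result (k : Type u) [Field k]
    (σ : ArLef.NodeAlg k 0 ≃ₐ[k] ArLef.NodeAlg k 0) (α β : (ArLef.NodeAlg k 0)ˣ)
    (ht : σ (ArLef.NodeAlg.t (0 : k)) = (α : ArLef.NodeAlg k 0) * ArLef.NodeAlg.t (0 : k)) (he : σ (ArLef.NodeAlg.e (0 : k)) = (β : ArLef.NodeAlg k 0) * ArLef.NodeAlg.e (0 : k)) :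
    Module.length (ArLef.NodeAlg k 0) (ArLef.NodeAlg k 0 ⧸ ArLef.fixIdeal σ) + 1 =
      Module.length (ArLef.NodeAlg k 0) (ArLef.NodeAlg k 0 ⧸ (ArLef.fixIdeal σ ⊔ Ideal.span ({ArLef.NodeAlg.t (0 : k)} : Set (ArLef.NodeAlg k 0)))) +
        Module.length (ArLef.NodeAlg k 0) (ArLef.NodeAlg k 0 ⧸ (ArLef.fixIdeal σ ⊔ Ideal.span ({ArLef.NodeAlg.e (0 : k)} : Set (ArLef.NodeAlg k 0)))) := by
  exact GrothLib.NodeAlg.length_branches σ α β ht he

end Groth.Agent.S15325
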