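import Groth.Statements.S15329
import Mathlib
-- import your own Groth.Agent.* helpers here

set_option autoImplicit false
open TensorProduct LaurentPolynomial
universe u v
open CAlg

namespace Groth.Agent.S15329

/-- Let k be a field, E a k-vector space and F an increasing ℤ-indexed filtration of E by subspaces. In
E[T, T⁻¹] = k[T, T⁻¹] ⊗ E the Rees module of (E, F) is the k-span of the elements T^n ⊗ v with v ∈ F
n; it is the module of global sections of the equivariant bundle on the affine line attached to (E,
F), and E[T, T⁻¹] that of its sections away from the origin. For a linear form α on E and an integer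
p, the k[T, T⁻¹]-linear form m ↦ T^p · (id ⊗ α)(m) is the invariant section α of the dual bundle
away from the origin multiplied by T^p, and it extends over the origin exactly when it maps the Rees
module into the polynomial subring k[T]. This happens if and only if α vanishes on F(−p − 1); so the
dual equivariant bundle corresponds to the dual space filtered by the annihilators of the F(−p − 1).
(The published statement has the annihilator of F(−p + 1), over the complex numbers; for E = k with
F n = 0 for n < 0 and F n = E for n ≥ 0 the form with p = 0 and α ≠ 0 maps the Rees module into k[T]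
although α does not vanish on F(1) = E, and the published argument gives the index −p − 1, which
this row states, over any field.) -/
theorem result
    (k : Type u) [Field k] (E : Type v) [AddCommGroup E] [Module k E]
    (F : ℤ → Submodule k E) (hF : Monotone F)
    (α : Module.Dual k E) (p : ℤ) :
    (∀ m ∈ Submodule.span k {x : k[T;T⁻¹] ⊗[k] E | ∃ (n : ℤ) (v : E), v ∈ F n ∧ x = T n ⊗ₜ[k] v},
      T p * (TensorProduct.AlgebraTensorModule.rid k k[T;T⁻¹] k[T;T⁻¹]) (LinearMap.baseChange k[T;T⁻¹] α m)
        ∈ (Polynomial.toLaurent : Polynomial k →+* k[T;T⁻¹]).range) ↔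
    ∀ v ∈ F (-p - 1), α v = 0 := by
  set Φ : k[T;T⁻¹] ⊗[k] E →ₗ[k[T;T⁻¹]] k[T;T⁻¹] :=
    (TensorProduct.AlgebraTensorModule.rid k k[T;T⁻¹] k[T;T⁻¹]).toLinearMap ∘ₗ LinearMap.baseChange k[T;T⁻¹] α
  have hΦ : ∀ (n : ℤ) (v : E), T p * Φ (T n ⊗ₜ[k] v) = LaurentPolynomial.C (α v) * T (n + p) := by
    intro n v
    simp only [Φ, LinearMap.coe_comp, LinearEquiv.coe_coe, Function.comp_apply, LinearMap.baseChange_tmul,
      TensorProduct.AlgebraTensorModule.rid_tmul]
    rw [LaurentPolynomial.smul_eq_C_mul, mul_left_comm, ← T_add, add_comm p n]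
  constructor
  · intro h v hv
    have h1 : T p * Φ (T (-p - 1) ⊗ₜ[k] v) ∈ (Polynomial.toLaurent : Polynomial k →+* k[T;T⁻¹]).range :=
      h _ (Submodule.subset_span ⟨_, v, hv, rfl⟩)
    rw [hΦ, show -p - 1 + p = (-1 : ℤ) by ring] at h1
    obtain ⟨q, hq⟩ := h1
    have hc := congrArg (fun f : k[T;T⁻¹] => f.coeff (-1)) hq
    simp only [← single_eq_C_mul_T, AddMonoidAlgebra.coeff_single, Finsupp.single_eq_same] at hc
    rw [← hc, coeff_toLaurent]
    exact Finsupp.mapDomain_notin_range _ _ (by simp)
  · intro h m hm
    show T p * Φ m ∈ _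
    induction hm using Submodule.span_induction with
    | mem x hx =>
      obtain ⟨n, v, hv, rfl⟩ := hx
      rw [hΦ]
      rcases lt_or_ge (n + p) 0 with hlt | hge
      · rw [h v (hF (by omega) hv), map_zero, zero_mul]
        exact zero_mem _
      · obtain ⟨i, hi⟩ := Int.eq_ofNat_of_zero_le hge
        exact ⟨Polynomial.C (α v) * Polynomial.X ^ i, by rw [Polynomial.toLaurent_C_mul_X_pow, hi]⟩
    | zero => rw [map_zero, mul_zero]; exact zero_mem _
    | add x y _ _ hx hy => rw [map_add, mul_add]; exact add_mem hx hy
    | smul c x _ hx =>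
      rw [LinearMap.map_smul_of_tower, LaurentPolynomial.smul_eq_C_mul, mul_left_comm]
      exact mul_mem ⟨Polynomial.C c, Polynomial.toLaurent_C c⟩ hx

end Groth.Agent.S15329
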