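import Groth.Statements.S1533
import Groth.Agent.Lib.CurveMult.H1Bound

set_option autoImplicit false
universe u
open CategoryTheory CategoryTheory.Limits AlgebraicGeometry
open Curves

namespace Groth.Agent.S1533

/-- Let X be a proper integral one-dimensional scheme over k whose global functions are k, of genus g.
Every invertible module of degree at least 2g is globally generated. -/
theorem result (k : Type u) [Field k] (X : Scheme.{u}) [X.Over (Spec (CommRingCat.of k))]
    [IsProper (X ↘ (Spec (CommRingCat.of k)))] [IsIntegral X] (hdim : topologicalKrullDim X = 1)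
    (h0 : Module.finrank k (Coh.HH X (Coh.structureModule X) 0) = 1)
    (L : X.Modules) (hL : PicF.IsInvertible L) (hdeg : 2 * (Curv2.genus k X : ℤ) ≤ Curv2.deg k X L 1) :
    Curv2.IsGloballyGenerated L := by
  refine GrothLib.CurveMult.isGloballyGenerated_of_deg_ge k hdim.le hL ?_
  have e := GrothLib.Euler.euler_structure (X := X) k hdim.le
  rw [h0] at e
  rw [Curv2.deg] at hdeg
  push_cast at *
  linarith

end Groth.Agent.S1533
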