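import Groth.Statements.S15330
import Groth.Agent.Lib.CurveMult.HiggsSlope

set_option autoImplicit false
open CategoryTheory AlgebraicGeometry CategoryTheory.Limits
open VBCurve

namespace Groth.Agent.S15330

/-- Let X be a smooth proper integral curve over the complex numbers, L an invertible module on X, and
(E, φ_E), (F, φ_F) two L-valued Higgs bundles on X of the same rank r ≥ 1 and the same degree d
(degree = χ − rank · χ(O)), each semistable: deg G · r ≤ d · s for every finite locally free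
submodule G of rank s ≥ 1 to which the Higgs field restricts. Let E_0 ⊂ E_1 ⊂ … ⊂ E_n = E with E_0 =
0 and F = F_0 ⊃ F_1 ⊃ … ⊃ F_n = 0 be chains of finite locally free submodules to which the Higgs
fields restrict, of ranks with rk E_i + rk F_i = r, which are opposite: E_{i+1}/E_i ≅ F_i/F_{i+1} as
O-modules for i < n. Then every E_i of positive rank and every F_i of positive rank has slope d/r,
that is deg · r = d · rank, and is semistable for its restricted Higgs field; and each graded piece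
E_{i+1}/E_i of positive rank is finite locally free of rank rk E_{i+1} − rk E_i, of slope d/r, and
semistable for every Higgs field on it compatible with that of E_{i+1} along the projection. (The
published statement indexes the second chain so that F_i/F_{i+1} matches E_i/E_{i−1} and takes the
isomorphisms of graded pieces as Higgs bundles; here they are assumed as O-modules only, together
with the rank bookkeeping rk E_i + rk F_i = r that they imply.) -/
theorem result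
    (X : Scheme.{0}) [X.Over (Spec (CommRingCat.of ℂ))] [IsIntegral X]
    [IsProper (X ↘ Spec (CommRingCat.of ℂ))] [Smooth (X ↘ Spec (CommRingCat.of ℂ))]
    (hdim : topologicalKrullDim X = 1)
    (L : X.Modules) (hL : PicF.IsInvertible L) (r : ℕ) (hr : 0 < r) (d : ℤ)
    (E : X.Modules) (hE : FlatMod.IsFinLocFreeOfRank r E) (φE : E ⟶ CohB1.tensorMod E L)
    (hEd : Curv2.deg ℂ X E r = d)
    (hEss : (∀ (G : X.Modules) (s : ℕ) (j : G ⟶ E) (χ : G ⟶ CohB1.tensorMod G L), Mono j → 0 < s →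
        FlatMod.IsFinLocFreeOfRank s G →
        χ ≫ (CohB1.sheafifyMod X).map (MonoidalCategoryStruct.whiskerRight (C := CohB1.PMod X) j.val (CohB1.toPMod L)) = j ≫ φE →
        Curv2.deg ℂ X G s * (r : ℤ) ≤ Curv2.deg ℂ X E r * (s : ℤ)))
    (F : X.Modules) (hF : FlatMod.IsFinLocFreeOfRank r F) (φF : F ⟶ CohB1.tensorMod F L)
    (hFd : Curv2.deg ℂ X F r = d)
    (hFss : (∀ (G : X.Modules) (s : ℕ) (j : G ⟶ F) (χ : G ⟶ CohB1.tensorMod G L), Mono j → 0 < s →
        FlatMod.IsFinLocFreeOfRank s G →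
        χ ≫ (CohB1.sheafifyMod X).map (MonoidalCategoryStruct.whiskerRight (C := CohB1.PMod X) j.val (CohB1.toPMod L)) = j ≫ φF →
        Curv2.deg ℂ X G s * (r : ℤ) ≤ Curv2.deg ℂ X F r * (s : ℤ)))
    (n : ℕ)
    (Es : ℕ → X.Modules) (rE : ℕ → ℕ) (hEs : ∀ i, FlatMod.IsFinLocFreeOfRank (rE i) (Es i))
    (ιE : ∀ i, Es i ⟶ E) (hιE : ∀ i, Mono (ιE i))
    (ψE : ∀ i, Es i ⟶ CohB1.tensorMod (Es i) L)
    (hψE : ∀ i, ψE i ≫ (CohB1.sheafifyMod X).map (MonoidalCategoryStruct.whiskerRight (C := CohB1.PMod X) (ιE i).val (CohB1.toPMod L)) = ιE i ≫ φE)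
    (a : ∀ i, Es i ⟶ Es (i + 1)) (ha : ∀ i, a i ≫ ιE (i + 1) = ιE i)
    (hE0 : IsZero (Es 0)) (hEn : IsIso (ιE n))
    (Fs : ℕ → X.Modules) (rF : ℕ → ℕ) (hFs : ∀ i, FlatMod.IsFinLocFreeOfRank (rF i) (Fs i))
    (ιF : ∀ i, Fs i ⟶ F) (hιF : ∀ i, Mono (ιF i))
    (ψF : ∀ i, Fs i ⟶ CohB1.tensorMod (Fs i) L)
    (hψF : ∀ i, ψF i ≫ (CohB1.sheafifyMod X).map (MonoidalCategoryStruct.whiskerRight (C := CohB1.PMod X) (ιF i).val (CohB1.toPMod L)) = ιF i ≫ φF)
    (b : ∀ i, Fs (i + 1) ⟶ Fs i) (hb : ∀ i, b i ≫ ιF i = ιF (i + 1))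
    (hF0 : IsIso (ιF 0)) (hFn : IsZero (Fs n))
    (hrk : ∀ i, i ≤ n → rE i + rF i = r)
    (hopp : ∀ i, i < n → Nonempty (cokernel (a i) ≅ cokernel (b i))) :
    (∀ i, i ≤ n → 0 < rE i →
      Curv2.deg ℂ X (Es i) (rE i) * (r : ℤ) = d * (rE i : ℤ) ∧
      (∀ (G : X.Modules) (s : ℕ) (j : G ⟶ (Es i)) (χ : G ⟶ CohB1.tensorMod G L), Mono j → 0 < s →
        FlatMod.IsFinLocFreeOfRank s G →
        χ ≫ (CohB1.sheafifyMod X).map (MonoidalCategoryStruct.whiskerRight (C := CohB1.PMod X) j.val (CohB1.toPMod L)) = j ≫ ψE i →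
        Curv2.deg ℂ X G s * (rE i : ℤ) ≤ Curv2.deg ℂ X (Es i) (rE i) * (s : ℤ))) ∧
    (∀ i, i ≤ n → 0 < rF i →
      Curv2.deg ℂ X (Fs i) (rF i) * (r : ℤ) = d * (rF i : ℤ) ∧
      (∀ (G : X.Modules) (s : ℕ) (j : G ⟶ (Fs i)) (χ : G ⟶ CohB1.tensorMod G L), Mono j → 0 < s →
        FlatMod.IsFinLocFreeOfRank s G →
        χ ≫ (CohB1.sheafifyMod X).map (MonoidalCategoryStruct.whiskerRight (C := CohB1.PMod X) j.val (CohB1.toPMod L)) = j ≫ ψF i →
        Curv2.deg ℂ X G s * (rF i : ℤ) ≤ Curv2.deg ℂ X (Fs i) (rF i) * (s : ℤ))) ∧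
    (∀ i, i < n → rE i < rE (i + 1) →
      FlatMod.IsFinLocFreeOfRank (rE (i + 1) - rE i) (cokernel (a i)) ∧
      Curv2.deg ℂ X (cokernel (a i)) (rE (i + 1) - rE i) * (r : ℤ) = d * ((rE (i + 1) - rE i : ℕ) : ℤ) ∧
      ∀ (φ' : cokernel (a i) ⟶ CohB1.tensorMod (cokernel (a i)) L),
        cokernel.π (a i) ≫ φ' = ψE (i + 1) ≫ (CohB1.sheafifyMod X).map (MonoidalCategoryStruct.whiskerRight (C := CohB1.PMod X) (cokernel.π (a i)).val (CohB1.toPMod L)) →
        (∀ (G : X.Modules) (s : ℕ) (j : G ⟶ cokernel (a i)) (χ : G ⟶ CohB1.tensorMod G L), Mono j → 0 < s →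
        FlatMod.IsFinLocFreeOfRank s G →
        χ ≫ (CohB1.sheafifyMod X).map (MonoidalCategoryStruct.whiskerRight (C := CohB1.PMod X) j.val (CohB1.toPMod L)) = j ≫ φ' →
        Curv2.deg ℂ X G s * ((rE (i + 1) - rE i : ℕ) : ℤ) ≤ Curv2.deg ℂ X (cokernel (a i)) (rE (i + 1) - rE i) * (s : ℤ))) := by
  haveI := GrothLib.Euler.isNoetherian_of_proper (X := X) ℂ
  haveI := GrothLib.CurveRR.regCurve_of_smooth (X ↘ Spec (CommRingCat.of ℂ)) hdim
  have degIso : ∀ {A B : X.Modules}, (A ≅ B) →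
      GrothLib.Euler.degree ℂ A = GrothLib.Euler.degree ℂ B ∧ GrothLib.Euler.grank A = GrothLib.Euler.grank B :=
    fun e => ⟨by rw [GrothLib.Euler.degree, GrothLib.Euler.degree, GrothLib.Euler.euler_of_iso ℂ e,
      GrothLib.Euler.grank_of_iso e], GrothLib.Euler.grank_of_iso e⟩
  have hEsC : ∀ i, Coh.IsCoh (Es i) := fun i =>
    GrothLib.Euler.isCoh_of_isFinLocFree (GrothLib.FinCov.isFinLocFree_of_rank (hEs i))
  have hFsC : ∀ i, Coh.IsCoh (Fs i) := fun i =>
    GrothLib.Euler.isCoh_of_isFinLocFree (GrothLib.FinCov.isFinLocFree_of_rank (hFs i))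
  have ham : ∀ i, Mono (a i) := fun i => by
    haveI := hιE i
    haveI : Mono (a i ≫ ιE (i + 1)) := by rw [ha]; infer_instance
    exact mono_of_mono (a i) (ιE (i + 1))
  have hbm : ∀ i, Mono (b i) := fun i => by
    haveI := hιF (i + 1)
    haveI : Mono (b i ≫ ιF i) := by rw [hb]; infer_instance
    exact mono_of_mono (b i) (ιF i)
  have hsum : ∀ i, i ≤ n → GrothLib.Euler.degree ℂ (Es i) + GrothLib.Euler.degree ℂ (Fs i) = d := by
    intro i hi
    induction i with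
    | zero =>
      haveI := hF0
      rw [GrothLib.Euler.degree_of_isZero ℂ hE0, (degIso (asIso (ιF 0))).1, ← GrothLib.Euler.deg_eq_degree ℂ hF, hFd,
        zero_add]
    | succ i ih =>
      haveI := ham i
      haveI := hbm i
      obtain ⟨e⟩ := hopp i (by omega)
      have hCa := GrothLib.QCoh.isCoh_cokernel (a i) (hEsC i) (hEsC (i + 1))
      have hCb := GrothLib.QCoh.isCoh_cokernel (b i) (hFsC (i + 1)) (hFsC i)
      have d1 := (GrothLib.Euler.degree_quotient ℂ _ _ _ (GrothLib.Euler.cokernel_shortExact (a i)) (hEsC i) (hEsC (i + 1)) hCa).1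
      have d2 := (GrothLib.Euler.degree_quotient ℂ _ _ _ (GrothLib.Euler.cokernel_shortExact (b i)) (hFsC (i + 1)) (hFsC i) hCb).1
      have := ih (by omega)
      have := (degIso e).1
      omega
  have hE' := GrothLib.CurveMult.pairLe_of_pos ℂ hEss
  have hF' := GrothLib.CurveMult.pairLe_of_pos ℂ hFss
  rw [hEd] at hE'
  rw [hFd] at hF'
  have hbd : ∀ i, i ≤ n → GrothLib.Euler.degree ℂ (Es i) * (r : ℤ) = d * (rE i : ℤ) ∧
      GrothLib.Euler.degree ℂ (Fs i) * (r : ℤ) = d * (rF i : ℤ) := by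
    intro i hi
    have h1 := hE' _ _ (ιE i) (hιE i) (hEs i) ⟨ψE i, hψE i⟩
    have h2 := hF' _ _ (ιF i) (hιF i) (hFs i) ⟨ψF i, hψF i⟩
    have h3 : d * (r : ℤ) = d * rE i + d * rF i := by rw [← mul_add]; congr 1; exact_mod_cast (hrk i hi).symm
    have h4 : d * (r : ℤ) = GrothLib.Euler.degree ℂ (Es i) * r + GrothLib.Euler.degree ℂ (Fs i) * r := by
      rw [← add_mul, hsum i hi]
    constructor <;> linarith
  have sub : ∀ (A : X.Modules) (m : ℕ) (E₀ : X.Modules) (φ₀ : E₀ ⟶ (GrothLib.Euler.tF L).obj E₀) (ι : A ⟶ E₀)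
      (χ₀ : A ⟶ (GrothLib.Euler.tF L).obj A), Mono ι → χ₀ ≫ (GrothLib.Euler.tF L).map ι = ι ≫ φ₀ →
      GrothLib.CurveMult.PairLe ℂ L φ₀ d r → GrothLib.Euler.degree ℂ A * (r : ℤ) = d * (m : ℤ) →
      GrothLib.CurveMult.PairLe ℂ L χ₀ (GrothLib.Euler.degree ℂ A) m := by
    intro A m E₀ φ₀ ι χ₀ hι hχ₀ hle heq G s j hj hG hinv
    haveI := hι
    haveI := hj
    have h := hle G s (j ≫ ι) (mono_comp _ _) hG (GrothLib.CurveMult.inv_comp hχ₀ hinv)
    refine le_of_mul_le_mul_right ?_ (show (0 : ℤ) < r by exact_mod_cast hr)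
    calc GrothLib.Euler.degree ℂ G * m * r = GrothLib.Euler.degree ℂ G * r * m := by ring
      _ ≤ d * s * m := mul_le_mul_of_nonneg_right h (Int.natCast_nonneg _)
      _ = GrothLib.Euler.degree ℂ A * s * r := by rw [mul_right_comm (GrothLib.Euler.degree ℂ A), heq]; ring
  have hEi := fun i (hi : i ≤ n) => sub _ (rE i) E φE (ιE i) (ψE i) (hιE i) (hψE i) hE' (hbd i hi).1
  have hFi := fun i (hi : i ≤ n) => sub _ (rF i) F φF (ιF i) (ψF i) (hιF i) (hψF i) hF' (hbd i hi).2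
  refine ⟨fun i hi hpos => ⟨?_, fun G s j χ hj hs hG hχ => ?_⟩, fun i hi hpos => ⟨?_, fun G s j χ hj hs hG hχ => ?_⟩,
    fun i hi hlt => ?_⟩
  · rw [GrothLib.Euler.deg_eq_degree ℂ (hEs i)]; exact (hbd i hi).1
  · rw [GrothLib.Euler.deg_eq_degree ℂ hG, GrothLib.Euler.deg_eq_degree ℂ (hEs i)]
    exact hEi i hi G s j hj hG ⟨χ, hχ⟩
  · rw [GrothLib.Euler.deg_eq_degree ℂ (hFs i)]; exact (hbd i hi).2
  · rw [GrothLib.Euler.deg_eq_degree ℂ hG, GrothLib.Euler.deg_eq_degree ℂ (hFs i)]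
    exact hFi i hi G s j hj hG ⟨χ, hχ⟩
  · haveI := ham i
    haveI := hιE (i + 1)
    have hm : (0 : ℤ) < rE (i + 1) := by omega
    have hinv : GrothLib.CurveMult.Inv L (ψE (i + 1)) (a i) := by
      refine ⟨ψE i, ?_⟩
      haveI := GrothLib.CurveMult.isEquivalence_tF' ℂ hL
      haveI : Mono ((GrothLib.Euler.tF L).map (ιE (i + 1))) := inferInstance
      refine (cancel_mono ((GrothLib.Euler.tF L).map (ιE (i + 1)))).1 ?_
      refine (Category.assoc _ _ _).trans ((congrArg (ψE i ≫ ·) ((GrothLib.Euler.tF L).map_comp _ _).symm).trans ?_)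
      refine ((congrArg (fun g => ψE i ≫ (GrothLib.Euler.tF L).map g) (ha i)).trans ?_).trans (Category.assoc _ _ _).symm
      refine (hψE i).trans ?_
      refine Eq.trans ?_ (congrArg (a i ≫ ·) (hψE (i + 1))).symm
      exact ((congrArg (· ≫ φE) (ha i)).symm.trans (Category.assoc _ _ _))
    obtain ⟨hC, hle, hCd, hq⟩ := GrothLib.CurveMult.quotient_pairLe ℂ hL (show 0 < rE (i + 1) by omega)
      (hEs (i + 1)) (GrothLib.Euler.deg_eq_degree ℂ (hEs (i + 1))) (hEi (i + 1) (by omega)) (a i) (hEs i) hinv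
      (by
        refine mul_right_cancel₀ (show (r : ℤ) ≠ 0 by exact_mod_cast hr.ne') ?_
        rw [mul_right_comm, (hbd i (by omega)).1, mul_right_comm (GrothLib.Euler.degree ℂ (Es (i + 1))),
          (hbd (i + 1) (by omega)).1]
        ring)
    refine ⟨hC, ?_, fun φ' hφ' G s j χ hj hs hG hχ => ?_⟩
    · rw [GrothLib.Euler.deg_eq_degree ℂ hC]
      refine mul_right_cancel₀ hm.ne' ?_
      rw [mul_right_comm, hCd, mul_right_comm, (hbd (i + 1) (by omega)).1]
      ring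
    · rw [GrothLib.Euler.deg_eq_degree ℂ hG, GrothLib.Euler.deg_eq_degree ℂ hC]
      exact hq φ' hφ' G s j hj hG ⟨χ, hχ⟩

end Groth.Agent.S15330
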