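import Groth.Statements.S15331
import Groth.Agent.Lib.Euler.Slope

set_option autoImplicit false
universe u
open CategoryTheory CategoryTheory.Limits AlgebraicGeometry
open VBCurve

namespace Groth.Agent.S15331

/-- Let X be a smooth proper integral curve (integral, smooth and proper of dimension one) over an
algebraically closed field k and E a finite locally free O_X-module of rank r ≥ 1. Then the degrees
of the finite locally free submodules F of E, of any rank r' (degree meaning χ(F) − r'·χ(O_X)), are
bounded above. -/
theorem result (k : Type u) [Field k] [IsAlgClosed k] (X : Scheme.{u}) [X.Over (Spec (CommRingCat.of k))]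
    [IsIntegral X] [IsProper (X ↘ Spec (CommRingCat.of k))] [Smooth (X ↘ Spec (CommRingCat.of k))]
    (hdim : topologicalKrullDim X = 1)
    (r : ℕ) (hr : 0 < r) (E : X.Modules) (hE : FlatMod.IsFinLocFreeOfRank r E) :
    ∃ N : ℤ, ∀ (F : X.Modules) (r' : ℕ) (i : F ⟶ E), Mono i → FlatMod.IsFinLocFreeOfRank r' F →
      Curv2.deg k X F r' ≤ N := by
  refine ⟨(Module.finrank k (Coh.HH X E 0) : ℤ) + r * Curv2.genus k X, fun F r' i hi hF => ?_⟩
  haveI := hi
  have hEc := GrothLib.Euler.isCoh_of_isFinLocFree (GrothLib.FinCov.isFinLocFree_of_rank hE)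
  have h1 := GrothLib.Euler.deg_le_of_sub k hdim.le i hF hEc
  have h2 : r' ≤ r := by
    have := GrothLib.Euler.grank_le_of_mono i hEc
    rwa [GrothLib.Euler.grank_of_locFree hF, GrothLib.Euler.grank_of_locFree hE] at this
  have h3 : (r' : ℤ) * Curv2.genus k X ≤ r * Curv2.genus k X :=
    mul_le_mul_of_nonneg_right (by exact_mod_cast h2) (by positivity)
  have h4 : (0 : ℤ) ≤ r' := by positivity
  rw [mul_sub, mul_one] at h1
  linarith

end Groth.Agent.S15331
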