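import Groth.Statements.S15336
import Groth.Agent.Lib.WeilFin11.TorsorSq

set_option autoImplicit false
universe u
open CategoryTheory CategoryTheory.Limits AlgebraicGeometry
open VBCurve

namespace Groth.Agent.S15336

set_option backward.isDefEq.respectTransparency false


/-- Let X be a smooth proper integral curve (integral, smooth and proper of dimension one) over an
algebraically closed field k, G a finite group scheme over k of order n, meaning dim_k H^0(G, O_G) =
n, and j : P → X a torsor (fppf-locally trivial) under the X-group scheme G ×_k X. Put E = j_*O_P.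
Then there is an isomorphism of O_X-modules E ⊗ E ≅ E ⊕ ⋯ ⊕ E (n copies); in particular E is a
finite vector bundle in the sense of Weil (two distinct polynomials in E agree). Existence of an
isomorphism only. (The published statement asserts only that E is finite in this sense; this row
states the isomorphism its argument gives, with n = dim_k H^0(G, O_G).) -/
theorem result (k : Type u) [Field k] [IsAlgClosed k] (X : Scheme.{u}) [X.Over (Spec (CommRingCat.of k))]
    [IsIntegral X] [IsProper (X ↘ Spec (CommRingCat.of k))] [Smooth (X ↘ Spec (CommRingCat.of k))]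
    (hdim : topologicalKrullDim X = 1)
    (G : Scheme.{u}) [G.Over (Spec (CommRingCat.of k))] [GrpObj (G.asOver (Spec (CommRingCat.of k)))]
    [IsFinite (G ↘ Spec (CommRingCat.of k))] (n : ℕ)
    (hn : Module.finrank k (Coh.HH G (Coh.structureModule G) 0) = n)
    (P : Over X) (a : AlgGrp.Action (Red.bc (X ↘ Spec (CommRingCat.of k)) (G.asOver (Spec (CommRingCat.of k)))) P)
    (hP : NonAbH1.IsTorsorFor Scheme.fppfPrecoverage a) :
    Nonempty (CohB1.tensorMod ((Coh.push P.hom).obj (Coh.structureModule P.left))
        ((Coh.push P.hom).obj (Coh.structureModule P.left)) ≅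
      ∐ fun _ : Fin n => (Coh.push P.hom).obj (Coh.structureModule P.left)) := by
  have ha' := GrothLib.Torsor21.isTorsorFor_fpqc hP
  let B := G ↘ Spec (CommRingCat.of k)
  haveI : IsFinite (Red.bc (X ↘ Spec (CommRingCat.of k)) (G.asOver (Spec (CommRingCat.of k)))).hom :=
    inferInstanceAs (IsFinite (pullback.snd B (X ↘ Spec (CommRingCat.of k))))
  haveI : IsFinite P.hom := GrothLib.Torsor21.isFinite_hom hP
  haveI : Flat B := inferInstance
  haveI : LocallyOfFinitePresentation B := inferInstance
  haveI : Flat (Red.bc (X ↘ Spec (CommRingCat.of k)) (G.asOver (Spec (CommRingCat.of k)))).hom :=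
    inferInstanceAs (Flat (pullback.snd B (X ↘ Spec (CommRingCat.of k))))
  haveI : LocallyOfFinitePresentation (Red.bc (X ↘ Spec (CommRingCat.of k)) (G.asOver (Spec (CommRingCat.of k)))).hom :=
    inferInstanceAs (LocallyOfFinitePresentation (pullback.snd B (X ↘ Spec (CommRingCat.of k))))
  haveI : MorphismProperty.DescendsAlong @Flat (@Surjective ⊓ @Flat ⊓ @QuasiCompact : MorphismProperty Scheme.{u}) :=
    HasRingHomProperty.descendsAlong_flat (P := @Flat) GrothLib.AlgSp.codescendsAlong_flat
  haveI : Flat P.hom := GrothLib.Torsor21.property @Flat ha' inferInstance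
  haveI : LocallyOfFinitePresentation P.hom := GrothLib.Torsor21.property @LocallyOfFinitePresentation ha' inferInstance
  haveI : Surjective P.hom := GrothLib.Torsor21.surjective_hom ha'
  obtain ⟨d, -, hd⟩ := GrothLib.WeilFin11.exists_const_finrank P.hom
  exact GrothLib.WeilFin11.nonempty_tensorSq_iso k hn P hd a hP.1

end Groth.Agent.S15336
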