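import Groth.Statements.S15339
import Groth.Agent.Lib.WeilFin11.Basic
import Groth.Agent.Lib.DCoh.LocFree
import Groth.Agent.Lib.ASBun21.IndecInv
import Groth.Agent.Lib.PerfLim10.Main
import Groth.Agent.Lib.ResProp22.Ample

set_option autoImplicit false
universe u
open CategoryTheory CategoryTheory.Limits AlgebraicGeometry
open VBCurve

namespace Groth.Agent.S15339

set_option backward.isDefEq.respectTransparency false


/-- Let X be a smooth proper integral curve (integral, smooth and proper of dimension one) over an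
algebraically closed field k and L an invertible O_X-module. Then L is finite in the sense of Weil:
there are two distinct polynomials P ≠ Q with natural-number coefficients such that P(L) ≅ Q(L),
where P(L) denotes the direct sum over i of P_i copies of the i-th tensor power L^{⊗ i} (L^{⊗ 0} =
O_X) if and only if L^{⊗ m} ≅ O_X for some m > 0. -/
theorem result (k : Type u) [Field k] [IsAlgClosed k] (X : Scheme.{u}) [X.Over (Spec (CommRingCat.of k))]
    [IsIntegral X] [IsProper (X ↘ Spec (CommRingCat.of k))] [Smooth (X ↘ Spec (CommRingCat.of k))]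
    (hdim : topologicalKrullDim X = 1)
    (L : X.Modules) (hL : PicF.IsInvertible L) :
    (∃ P Q : Polynomial ℕ, P ≠ Q ∧ Nonempty ((∐ fun i : Fin (P.natDegree + 1) => ∐ fun _ : Fin (P.coeff ↑i) => CohB1.tensorPow L ↑i) ≅
      (∐ fun i : Fin (Q.natDegree + 1) => ∐ fun _ : Fin (Q.coeff ↑i) => CohB1.tensorPow L ↑i))) ↔
    ∃ m : ℕ, 0 < m ∧ Nonempty (CohB1.tensorPow L m ≅ Coh.structureModule X) := by
  classical
  have hLf : FlatMod.IsFinLocFree L :=
    GrothLib.OX.isFinLocFree_of_rank' (GrothLib.Euler.isFinLocFreeOfRank_one_of_invertible hL)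
  have hInv : ∀ n, PicF.IsInvertible (CohB1.tensorPow L n) := fun n => GrothLib.PerfLim10.isInvertible_tensorPow hL n
  have hks : ∀ n, GrothLib.WeilFin11.ks k (CohB1.tensorPow L n) = {GrothLib.ASBun21.cls (CohB1.tensorPow L n)} := fun n =>
    GrothLib.WeilFin11.ks_indec k (GrothLib.ASBun21.indec_of_invertible (hInv n))
      (GrothLib.WeilFin11.finEnd_of_isFinLocFree k (GrothLib.WeilFin11.isFinLocFree_tensorPow hLf n))
  constructor
  · intro h
    obtain ⟨s, hs, hmem⟩ := (GrothLib.WeilFin11.weilFinite_iff k hLf).1 h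
    obtain ⟨a, b, hab, heq⟩ := (Set.Finite.exists_lt_map_eq_of_forall_mem (t := s)
      (f := fun n => GrothLib.ASBun21.cls (CohB1.tensorPow L n))
      (fun n => hmem n _ (by rw [hks n]; exact Multiset.mem_singleton_self _)) hs)
    obtain ⟨m, rfl⟩ := Nat.exists_eq_add_of_le hab.le
    obtain ⟨e⟩ := GrothLib.ASBun21.cls_eq.1 heq
    obtain ⟨e'⟩ := GrothLib.Snapper.nonempty_tensorPow_add L a m
    obtain ⟨K, hK, ⟨u⟩⟩ := GrothLib.ResProp22.exists_inverse (hInv a)
    refine ⟨m, by omega, ⟨?_⟩⟩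
    exact (GrothLib.Euler.tFUnitIso (CohB1.tensorPow L m)).symm ≪≫
      GrothLib.WeilFin11.congrIso (Iso.refl _) u.symm ≪≫
      (GrothLib.OX.tensorAssoc (CohB1.tensorPow L m) (CohB1.tensorPow L a) K).symm ≪≫
      GrothLib.WeilFin11.congrIso (GrothLib.WeilFin11.swapIso _ _ ≪≫ e'.symm ≪≫ e.symm) (Iso.refl K) ≪≫ u
  · rintro ⟨m, hm, ⟨e⟩⟩
    refine ⟨Polynomial.X ^ m, 1, fun h => by simpa [Polynomial.coeff_one, hm.ne', hm.ne] using congrArg (fun R => Polynomial.coeff R m) h, ?_⟩
    refine GrothLib.WeilFin11.nonempty_iso_of_ks_eq k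
      (GrothLib.WeilFin11.finEnd_of_isCoh k (GrothLib.WeilFin11.isCoh_polyObj k hLf _))
      (GrothLib.WeilFin11.finEnd_of_isCoh k (GrothLib.WeilFin11.isCoh_polyObj k hLf _)) ?_
    refine (GrothLib.WeilFin11.ks_polyObj k hLf (Polynomial.X ^ m) (N := m + 1) (by simp)).trans
      (Eq.trans ?_ (GrothLib.WeilFin11.ks_polyObj k hLf (1 : Polynomial ℕ) (N := m + 1) (by simp)).symm)
    rw [Finset.sum_eq_single m (fun i _ hi => by rw [Polynomial.coeff_X_pow, if_neg hi, zero_smul]) (by simp),
      Finset.sum_eq_single 0 (fun i _ hi => by rw [Polynomial.coeff_one, if_neg hi, zero_smul]) (by simp),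
      Polynomial.coeff_X_pow, if_pos rfl, Polynomial.coeff_one, if_pos rfl, one_smul, one_smul]
    exact GrothLib.WeilFin11.ks_iso k (GrothLib.WeilFin11.finEnd_of_isFinLocFree k
      (GrothLib.WeilFin11.isFinLocFree_tensorPow hLf 0)) e

end Groth.Agent.S15339
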