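import Groth.Statements.S15340
import Groth.Agent.Lib.Euler.Slope

set_option autoImplicit false
universe u
open CategoryTheory CategoryTheory.Limits AlgebraicGeometry
open VBCurve

namespace Groth.Agent.S15340

/-- Let X be a smooth proper integral curve (integral, smooth and proper of dimension one) over an
algebraically closed field k and E a finite locally free O_X-module of rank r ≥ 1 which is
slope-semistable and slope-stable (deg G · r ≤ deg E · r' for finite locally free submodules G of
rank r' ≥ 1, strictly when r' < r; degree = χ − rank·χ(O_X)). Then E is indecomposable: it is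
nonzero and whenever E ≅ E₁ ⊞ E₂ as O_X-modules, one of E₁, E₂ is zero. -/
theorem result (k : Type u) [Field k] [IsAlgClosed k] (X : Scheme.{u}) [X.Over (Spec (CommRingCat.of k))]
    [IsIntegral X] [IsProper (X ↘ Spec (CommRingCat.of k))] [Smooth (X ↘ Spec (CommRingCat.of k))]
    (hdim : topologicalKrullDim X = 1)
    (r : ℕ) (hr : 0 < r) (E : X.Modules) (hE : FlatMod.IsFinLocFreeOfRank r E)
    (hEss : ModFun.IsSlopeSemistable k X E r) (hEst : ModFun.IsSlopeStable k X E r) :
    ¬ IsZero E ∧ ∀ (E₁ E₂ : X.Modules), Nonempty (E ≅ E₁ ⊞ E₂) → IsZero E₁ ∨ IsZero E₂ := by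
  have hpid := GrothLib.Euler.isPrincipalIdealRing_stalk_of_smooth (X ↘ Spec (CommRingCat.of k)) hdim.le
  constructor
  · intro hz
    have h1 : GrothLib.Euler.grank E = 0 := by
      haveI : Subsingleton (E.presheaf.stalk (genericPoint X)) := by
        refine subsingleton_of_forall_eq 0 fun e => ?_
        obtain ⟨U, hU, s, rfl⟩ := TopCat.Presheaf.exists_germ_eq E.presheaf e
        have h2 : (𝟙 E : E ⟶ E) = 0 := hz.eq_of_src _ _
        have hs : s = 0 := congrArg (fun φ : E ⟶ E => φ.app U s) h2
        rw [hs, map_zero]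
      exact Module.finrank_zero_of_subsingleton
    rw [GrothLib.Euler.grank_of_locFree hE] at h1
    omega
  · rintro E₁ E₂ ⟨e⟩
    let q : E ⟶ E := e.hom ≫ biprod.fst ≫ biprod.inl ≫ e.inv
    by_cases hq : q = 0
    · left
      rw [IsZero.iff_id_eq_zero]
      have := congrArg (fun φ : E ⟶ E => biprod.inl ≫ e.inv ≫ φ ≫ e.hom ≫ biprod.fst) hq
      simpa [q] using this
    · right
      haveI := GrothLib.Euler.isIso_of_ne_zero_endo k hdim.le hpid hr hE hEst q hq
      haveI : Mono (e.hom ≫ biprod.fst) := by
        haveI : Mono ((e.hom ≫ biprod.fst) ≫ biprod.inl ≫ e.inv) := by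
          rw [Category.assoc]; exact inferInstanceAs (Mono q)
        exact mono_of_mono _ (biprod.inl ≫ e.inv)
      rw [IsZero.iff_id_eq_zero]
      have h0 : (biprod.inr : E₂ ⟶ E₁ ⊞ E₂) ≫ e.inv = 0 := by
        rw [← cancel_mono (e.hom ≫ biprod.fst)]
        simp
      have := congrArg (fun φ : E₂ ⟶ E => φ ≫ e.hom ≫ biprod.snd) h0
      simpa using this

end Groth.Agent.S15340
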