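import Groth.Statements.S15342
import Groth.Agent.Lib.WeilFin11.Basic
import Groth.Agent.Lib.DCoh.LocFree

set_option autoImplicit false
universe u
open CategoryTheory CategoryTheory.Limits AlgebraicGeometry
open VBCurve

namespace Groth.Agent.S15342

set_option backward.isDefEq.respectTransparency false


/-- Let X be a smooth proper integral curve (integral, smooth and proper of dimension one) over an
algebraically closed field k, and E₁, E₂ finite locally free O_X-modules of ranks r₁, r₂ whose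
direct sum E₁ ⊞ E₂ is finite in the sense of Weil: P(E₁ ⊞ E₂) ≅ Q(E₁ ⊞ E₂) for two distinct
polynomials P ≠ Q with natural-number coefficients, P(E) being the direct sum over i of P_i copies
of E^{⊗ i} (E^{⊗ 0} = O_X). Then E₁ is finite in the same sense (and so is E₂, by symmetry). -/
theorem result (k : Type u) [Field k] [IsAlgClosed k] (X : Scheme.{u}) [X.Over (Spec (CommRingCat.of k))]
    [IsIntegral X] [IsProper (X ↘ Spec (CommRingCat.of k))] [Smooth (X ↘ Spec (CommRingCat.of k))]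
    (hdim : topologicalKrullDim X = 1)
    (r₁ r₂ : ℕ) (E₁ E₂ : X.Modules) (hE₁ : FlatMod.IsFinLocFreeOfRank r₁ E₁) (hE₂ : FlatMod.IsFinLocFreeOfRank r₂ E₂)
    (h : (∃ P Q : Polynomial ℕ, P ≠ Q ∧ Nonempty ((∐ fun i : Fin (P.natDegree + 1) => ∐ fun _ : Fin (P.coeff ↑i) => CohB1.tensorPow (E₁ ⊞ E₂) ↑i) ≅
      (∐ fun i : Fin (Q.natDegree + 1) => ∐ fun _ : Fin (Q.coeff ↑i) => CohB1.tensorPow (E₁ ⊞ E₂) ↑i)))) :
    (∃ P₁ Q₁ : Polynomial ℕ, P₁ ≠ Q₁ ∧ Nonempty ((∐ fun i : Fin (P₁.natDegree + 1) => ∐ fun _ : Fin (P₁.coeff ↑i) => CohB1.tensorPow E₁ ↑i) ≅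
      (∐ fun i : Fin (Q₁.natDegree + 1) => ∐ fun _ : Fin (Q₁.coeff ↑i) => CohB1.tensorPow E₁ ↑i))) := by
  have f₁ := GrothLib.OX.isFinLocFree_of_rank' hE₁
  have f₃ := GrothLib.DCoh.isFinLocFree_biprod f₁ (GrothLib.OX.isFinLocFree_of_rank' hE₂)
  exact (GrothLib.WeilFin11.weilFinite_iff k f₁).2 (GrothLib.WeilFin11.FinType.of_retract k f₃
    (biprod.inl : E₁ ⟶ E₁ ⊞ E₂) biprod.fst biprod.inl_fst ((GrothLib.WeilFin11.weilFinite_iff k f₃).1 h))

end Groth.Agent.S15342
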