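import Groth.Statements.S15343
import Groth.Agent.Lib.WeilFin11.Pushforward
import Groth.Agent.Lib.Torsor21.ExtendFinite

set_option autoImplicit false
universe u
open CategoryTheory CategoryTheory.Limits AlgebraicGeometry
open VBCurve

namespace Groth.Agent.S15343

set_option backward.isDefEq.respectTransparency false


/-- Let X be a smooth proper integral curve (integral, smooth and proper of dimension one) over an
algebraically closed field k of characteristic zero, G a finite group scheme over k and j : P → X a
torsor (fppf-locally trivial) under the X-group scheme G ×_k X. If E is a finite locally free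
O_X-module of rank r with j^*E ≅ O_P^{⊕ r}, then E is finite in the sense of Weil: there are
distinct polynomials P' ≠ Q' with natural-number coefficients and P'(E) ≅ Q'(E), P'(E) being the
direct sum over i of P'_i copies of E^{⊗ i}. (The published statement says that in characteristic
zero an essentially finite bundle is finite; this row takes as hypothesis the characterisation of
essentially finite bundles as those trivialised by a torsor under a finite group scheme.) -/
theorem result (k : Type u) [Field k] [IsAlgClosed k] (X : Scheme.{u}) [X.Over (Spec (CommRingCat.of k))]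
    [IsIntegral X] [IsProper (X ↘ Spec (CommRingCat.of k))] [Smooth (X ↘ Spec (CommRingCat.of k))]
    (hdim : topologicalKrullDim X = 1) [CharZero k]
    (G : Scheme.{u}) [G.Over (Spec (CommRingCat.of k))] [GrpObj (G.asOver (Spec (CommRingCat.of k)))]
    [IsFinite (G ↘ Spec (CommRingCat.of k))]
    (P : Over X) (a : AlgGrp.Action (Red.bc (X ↘ Spec (CommRingCat.of k)) (G.asOver (Spec (CommRingCat.of k)))) P)
    (hP : NonAbH1.IsTorsorFor Scheme.fppfPrecoverage a)
    (r : ℕ) (E : X.Modules) (hE : FlatMod.IsFinLocFreeOfRank r E)
    (htriv : Nonempty ((Scheme.Modules.pullback P.hom).obj E ≅ FlatMod.freeMod P.left r)) :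
    ∃ P' Q' : Polynomial ℕ, P' ≠ Q' ∧ Nonempty ((∐ fun i : Fin (P'.natDegree + 1) => ∐ fun _ : Fin (P'.coeff ↑i) => CohB1.tensorPow E ↑i) ≅
      (∐ fun i : Fin (Q'.natDegree + 1) => ∐ fun _ : Fin (Q'.coeff ↑i) => CohB1.tensorPow E ↑i)) := by
  have ha' := GrothLib.Torsor21.isTorsorFor_fpqc hP
  let B := G ↘ Spec (CommRingCat.of k)
  haveI : IsFinite (Red.bc (X ↘ Spec (CommRingCat.of k)) (G.asOver (Spec (CommRingCat.of k)))).hom :=
    inferInstanceAs (IsFinite (pullback.snd B (X ↘ Spec (CommRingCat.of k))))
  haveI : IsFinite P.hom := GrothLib.Torsor21.isFinite_hom hP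
  haveI : Flat B := inferInstance
  haveI : LocallyOfFinitePresentation B := inferInstance
  haveI : Flat (Red.bc (X ↘ Spec (CommRingCat.of k)) (G.asOver (Spec (CommRingCat.of k)))).hom :=
    inferInstanceAs (Flat (pullback.snd B (X ↘ Spec (CommRingCat.of k))))
  haveI : LocallyOfFinitePresentation (Red.bc (X ↘ Spec (CommRingCat.of k)) (G.asOver (Spec (CommRingCat.of k)))).hom :=
    inferInstanceAs (LocallyOfFinitePresentation (pullback.snd B (X ↘ Spec (CommRingCat.of k))))
  haveI : MorphismProperty.DescendsAlong @Flat (@Surjective ⊓ @Flat ⊓ @QuasiCompact : MorphismProperty Scheme.{u}) :=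
    HasRingHomProperty.descendsAlong_flat (P := @Flat) GrothLib.AlgSp.codescendsAlong_flat
  haveI : Flat P.hom := GrothLib.Torsor21.property @Flat ha' inferInstance
  haveI : LocallyOfFinitePresentation P.hom := GrothLib.Torsor21.property @LocallyOfFinitePresentation ha' inferInstance
  haveI : Surjective P.hom := GrothLib.Torsor21.surjective_hom ha'
  obtain ⟨d, hd0, hd⟩ := GrothLib.WeilFin11.exists_const_finrank P.hom
  obtain ⟨e⟩ := htriv
  have hE' : FlatMod.IsFinLocFree E := fun x => by
    obtain ⟨U, hx, he⟩ := hE x
    exact ⟨U, r, hx, he⟩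
  exact GrothLib.WeilFin11.exists_iso_of_finType k hE' (GrothLib.WeilFin11.finType_of_trivial_pullback P.hom k hd
    (GrothLib.WeilFin11.isUnit_natCast_of_charZero k hd0) hE' e)

end Groth.Agent.S15343
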