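import Groth.Statements.S15345
import Mathlib.AlgebraicGeometry.Morphisms.FiniteType
import Mathlib.AlgebraicGeometry.PullbackCarrier

set_option autoImplicit false
universe u
open CategoryTheory CategoryTheory.Limits AlgebraicGeometry
open Mor

namespace Groth.Agent.S15345

/-- Let f : Y ⟶ X be a morphism of schemes, X quasi-separated. If for every morphism X' ⟶ X locally of
finite type the projection Y ×_X X' ⟶ X' reflects specializations (the image of y₁ specializing to
the image of y₀ forces y₁ to specialize to y₀), then the same holds for every morphism X' ⟶ X. (The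
published statement assumes moreover that f is a monomorphism; this row does not.) -/
theorem result {X Y : Scheme.{u}} [QuasiSeparatedSpace ↥X]
    (f : Y ⟶ X)
    (h : ∀ (X' : Scheme.{u}) (g : X' ⟶ X) [LocallyOfFiniteType g] (y₀ y₁ : ↥(pullback f g)),
      (pullback.snd f g).base y₁ ⤳ (pullback.snd f g).base y₀ → y₁ ⤳ y₀) :
    ∀ (X' : Scheme.{u}) (g : X' ⟶ X) (y₀ y₁ : ↥(pullback f g)),
        (pullback.snd f g).base y₁ ⤳ (pullback.snd f g).base y₀ → y₁ ⤳ y₀ := by
  intro X' g y₀ y₁ hsp
  obtain ⟨V, hV, hzV, -⟩ := exists_isAffineOpen_mem_and_subset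
    (show g ((pullback.snd f g).base y₀) ∈ (⊤ : X.Opens) from trivial)
  obtain ⟨W, hW, hzW, hWV⟩ := exists_isAffineOpen_mem_and_subset
    (show (pullback.snd f g).base y₀ ∈ g ⁻¹ᵁ V from hzV)
  have hyV : f ((pullback.fst f g).base y₀) ∈ V := by
    have e := congrArg (fun q : pullback f g ⟶ X => q.base y₀) (pullback.condition (f := f) (g := g))
    exact (show f ((pullback.fst f g).base y₀) = g ((pullback.snd f g).base y₀) from e) ▸ hzV
  obtain ⟨U, hU, hyU, hUV⟩ := exists_isAffineOpen_mem_and_subset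
    (show (pullback.fst f g).base y₀ ∈ f ⁻¹ᵁ V from hyV)
  -- the projection to Y of y₁ specialises to that of y₀
  have hy1U : (pullback.fst f g).base y₁ ∈ U := by
    let O : (pullback f g).Opens := (pullback.snd f g) ⁻¹ᵁ (g ⁻¹ᵁ V)
    have h0 : y₀ ∈ O := hzV
    have h1 : y₁ ∈ O := hsp.mem_open (g ⁻¹ᵁ V).isOpen hzV
    have hrange : Set.range (O.ι ≫ pullback.snd f g ≫ g) ⊆ Set.range V.ι := by
      rw [Scheme.Opens.range_ι]
      rintro _ ⟨t, rfl⟩
      exact t.2
    let m : (O : Scheme.{u}) ⟶ pullback f V.ι :=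
      pullback.lift (O.ι ≫ pullback.fst f g) (IsOpenImmersion.lift V.ι (O.ι ≫ pullback.snd f g ≫ g) hrange)
        (by rw [IsOpenImmersion.lift_fac, Category.assoc, pullback.condition])
    have hv : V.ι.base ((pullback.snd f V.ι).base (m.base ⟨y₁, h1⟩)) ⤳ V.ι.base ((pullback.snd f V.ι).base (m.base ⟨y₀, h0⟩)) := by
      have e : m ≫ pullback.snd f V.ι ≫ V.ι = O.ι ≫ pullback.snd f g ≫ g := by
        rw [pullback.lift_snd_assoc, IsOpenImmersion.lift_fac]
      have e0 := congrArg (fun q : (O : Scheme.{u}) ⟶ X => q.base ⟨y₀, h0⟩) e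
      have e1 := congrArg (fun q : (O : Scheme.{u}) ⟶ X => q.base ⟨y₁, h1⟩) e
      simp only [Scheme.Hom.comp_base, TopCat.comp_app] at e0 e1
      rw [e0, e1]
      exact hsp.map g.continuous
    have hm := h _ V.ι _ _ ((Topology.IsInducing.specializes_iff V.ι.isOpenEmbedding.isInducing).1 hv)
    have h2 := hm.map (pullback.fst f V.ι).continuous
    have e : m ≫ pullback.fst f V.ι = O.ι ≫ pullback.fst f g := pullback.lift_fst _ _ _
    have e0 := congrArg (fun q : (O : Scheme.{u}) ⟶ Y => q.base ⟨y₀, h0⟩) e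
    have e1 := congrArg (fun q : (O : Scheme.{u}) ⟶ Y => q.base ⟨y₁, h1⟩) e
    simp only [Scheme.Hom.comp_base, TopCat.comp_app] at e0 e1
    rw [e0, e1] at h2
    exact h2.mem_open U.isOpen hyU
  letI : Algebra Γ(X, V) Γ(Y, U) := (f.appLE V U hUV).hom.toAlgebra
  letI : Algebra Γ(X, V) Γ(X', W) := (g.appLE V W hWV).hom.toAlgebra
  let A := Γ(X, V)
  let B := Γ(Y, U)
  let R := Γ(X', W)
  let sA : Spec (CommRingCat.of B) ⟶ Spec (CommRingCat.of A) := Spec.map (CommRingCat.ofHom (algebraMap A B))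
  let sR : Spec (CommRingCat.of R) ⟶ Spec (CommRingCat.of A) := Spec.map (CommRingCat.ofHom (algebraMap A R))
  have eA : sA ≫ hV.fromSpec = hU.fromSpec ≫ f := IsAffineOpen.SpecMap_appLE_fromSpec f hV hU hUV
  have eR : sR ≫ hV.fromSpec = hW.fromSpec ≫ g := IsAffineOpen.SpecMap_appLE_fromSpec g hV hW hWV
  let J : Spec (CommRingCat.of (TensorProduct A B R)) ⟶ pullback f g :=
    (pullbackSpecIso A B R).inv ≫ pullback.map sA sR f g hU.fromSpec hW.fromSpec hV.fromSpec eA eR
  have hJ : ∀ y : ↥(pullback f g), (pullback.fst f g).base y ∈ U → (pullback.snd f g).base y ∈ W → ∃ P, J.base P = y := by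
    intro y hy hy'
    have hr : y ∈ Set.range (pullback.map sA sR f g hU.fromSpec hW.fromSpec hV.fromSpec eA eR).base := by
      rw [Scheme.Pullback.range_map]
      exact ⟨by rw [hU.range_fromSpec]; exact hy, by rw [hW.range_fromSpec]; exact hy'⟩
    obtain ⟨t, ht⟩ := hr
    refine ⟨(pullbackSpecIso A B R).hom.base t, ?_⟩
    rw [← ht]
    show ((pullbackSpecIso A B R).hom ≫ J).base t = _
    rw [Iso.hom_inv_id_assoc]
  obtain ⟨P₀, rfl⟩ := hJ y₀ hyU hzW
  obtain ⟨P₁, rfl⟩ := hJ y₁ hy1U (hsp.mem_open W.isOpen hzW)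
  refine Specializes.map ?_ J.continuous
  refine (PrimeSpectrum.le_iff_specializes P₁ P₀).1 fun c hc => ?_
  obtain ⟨R', hfg, c', rfl⟩ : ∃ (R' : Subalgebra A R) (_ : R'.FG) (c' : TensorProduct A B R'),
      Algebra.TensorProduct.map (AlgHom.id A B) R'.val c' = c := by
    clear hc
    induction c using TensorProduct.induction_on with
    | zero => exact ⟨⊥, Subalgebra.fg_bot, 0, map_zero _⟩
    | tmul b r =>
      exact ⟨Algebra.adjoin A {r}, ⟨{r}, by rw [Finset.coe_singleton]⟩,
        b ⊗ₜ[A] (⟨r, Algebra.subset_adjoin rfl⟩ : Algebra.adjoin A {r}), rfl⟩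
    | add c d hc hd =>
      obtain ⟨R₁, h₁, c₁, rfl⟩ := hc
      obtain ⟨R₂, h₂, c₂, rfl⟩ := hd
      refine ⟨R₁ ⊔ R₂, h₁.sup h₂, Algebra.TensorProduct.map (AlgHom.id A B) (Subalgebra.inclusion le_sup_left) c₁ +
        Algebra.TensorProduct.map (AlgHom.id A B) (Subalgebra.inclusion le_sup_right) c₂, ?_⟩
      rw [map_add]
      congr 1 <;> (rw [← AlgHom.comp_apply, ← Algebra.TensorProduct.map_comp]; rfl)
  haveI : Algebra.FiniteType A R' := R'.fg_iff_finiteType.1 hfg
  let g' : Spec (CommRingCat.of R') ⟶ X := Spec.map (CommRingCat.ofHom (algebraMap A R')) ≫ hV.fromSpec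
  haveI : LocallyOfFiniteType (Spec.map (CommRingCat.ofHom (algebraMap A R'))) :=
    (HasRingHomProperty.Spec_iff (P := @LocallyOfFiniteType)).2 (RingHom.finiteType_algebraMap.2 inferInstance)
  haveI : LocallyOfFiniteType g' := inferInstance
  let J' : Spec (CommRingCat.of (TensorProduct A B R')) ⟶ pullback f g' :=
    (pullbackSpecIso A B R').inv ≫ pullback.map sA (Spec.map (CommRingCat.ofHom (algebraMap A R'))) f g'
      hU.fromSpec (𝟙 _) hV.fromSpec eA (Category.id_comp _).symm
  have eJ : J' ≫ pullback.snd f g' = Spec.map (CommRingCat.ofHom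
      (RingHomClass.toRingHom (Algebra.TensorProduct.includeRight : R' →ₐ[A] TensorProduct A B R'))) := by
    rw [Category.assoc, pullback.map, pullback.lift_snd, Category.comp_id]
    exact pullbackSpecIso_inv_snd A B R'
  let ψ := (Algebra.TensorProduct.map (AlgHom.id A B) R'.val).toRingHom
  let Q : ↥(Spec (CommRingCat.of (TensorProduct A B R))) → ↥(Spec (CommRingCat.of (TensorProduct A B R'))) :=
    fun P => (Spec.map (CommRingCat.ofHom ψ)).base P
  have hR : (Spec.map (CommRingCat.ofHom (RingHomClass.toRingHom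
      (Algebra.TensorProduct.includeRight : R →ₐ[A] TensorProduct A B R)))).base P₁ ⤳
      (Spec.map (CommRingCat.ofHom (RingHomClass.toRingHom
      (Algebra.TensorProduct.includeRight : R →ₐ[A] TensorProduct A B R)))).base P₀ := by
    have e : J ≫ pullback.snd f g = Spec.map (CommRingCat.ofHom (RingHomClass.toRingHom
      (Algebra.TensorProduct.includeRight : R →ₐ[A] TensorProduct A B R))) ≫ hW.fromSpec := by
      rw [Category.assoc, pullback.map, pullback.lift_snd, ← Category.assoc]
      exact congrArg (· ≫ hW.fromSpec) (pullbackSpecIso_inv_snd A B R)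
    have e0 := congrArg (fun q : Spec (CommRingCat.of (TensorProduct A B R)) ⟶ X' => q.base P₀) e
    have e1 := congrArg (fun q : Spec (CommRingCat.of (TensorProduct A B R)) ⟶ X' => q.base P₁) e
    simp only [Scheme.Hom.comp_base, TopCat.comp_app] at e0 e1
    rw [e0, e1] at hsp
    exact hW.fromSpec.isOpenEmbedding.isInducing.specializes_iff.1 hsp
  have hsnd : (pullback.snd f g').base (J'.base (Q P₁)) ⤳ (pullback.snd f g').base (J'.base (Q P₀)) := by
    have e : Spec.map (CommRingCat.ofHom ψ) ≫ J' ≫ pullback.snd f g' =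
        Spec.map (CommRingCat.ofHom (RingHomClass.toRingHom
          (Algebra.TensorProduct.includeRight : R →ₐ[A] TensorProduct A B R))) ≫
        Spec.map (CommRingCat.ofHom R'.val.toRingHom) := by
      rw [eJ, ← Spec.map_comp, ← Spec.map_comp]
      congr 1
    have e0 := congrArg (fun q : Spec (CommRingCat.of (TensorProduct A B R)) ⟶ Spec (CommRingCat.of R') => q.base P₀) e
    have e1 := congrArg (fun q : Spec (CommRingCat.of (TensorProduct A B R)) ⟶ Spec (CommRingCat.of R') => q.base P₁) e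
    simp only [Scheme.Hom.comp_base, TopCat.comp_app] at e0 e1
    show (pullback.snd f g').base (J'.base ((Spec.map (CommRingCat.ofHom ψ)).base P₁)) ⤳ _
    rw [e1]
    refine (hR.map (Spec.map (CommRingCat.ofHom R'.val.toRingHom)).continuous).trans ?_
    rw [← e0]
  have hq := h _ g' _ _ hsnd
  haveI : IsOpenImmersion J' := inferInstance
  have hQ : Q P₁ ⤳ Q P₀ := J'.isOpenEmbedding.isInducing.specializes_iff.1 hq
  exact ((PrimeSpectrum.le_iff_specializes _ _).2 hQ : (Q P₁).asIdeal ≤ (Q P₀).asIdeal) hc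

end Groth.Agent.S15345
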