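import Groth.Statements.S15347
import Mathlib.AlgebraicGeometry.ValuativeCriterion
import Mathlib.AlgebraicGeometry.Morphisms.Immersion

set_option autoImplicit false
universe u
open CategoryTheory CategoryTheory.Limits AlgebraicGeometry
open Mor

namespace Groth.Agent.S15347

/-- Let f : Y ⟶ X be an immersion of schemes. Then: for every valuation ring A with fraction field K and
every commutative square Spec K ⟶ Y, Spec A ⟶ X over f such that some morphism from the spectrum of
the residue field of A to Y lies over Spec A ⟶ X, the square admits a lift; and for every integral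
domain A and every morphism s : Spec A ⟶ X such that the points of a dense subset of Spec A lift to
Y (the residue field of each such point maps to Y over s), there is a nonempty open subscheme U of
Spec A with a morphism U ⟶ Y over s. (The published statement is for a representable, locally
finitely presented morphism of algebraic stacks with locally Noetherian target and a quasi-compact
immersion, and also lists that f is a monomorphism; this row is the case of schemes, for any
immersion and any target.) -/
theorem result {X Y : Scheme.{u}} (f : Y ⟶ X) [IsImmersion f] :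
    (∀ S : ValuativeCommSq f,
        (∃ l₀ : Spec (CommRingCat.of (IsLocalRing.ResidueField S.R)) ⟶ Y,
            l₀ ≫ f = Spec.map (CommRingCat.ofHom (IsLocalRing.residue S.R)) ≫ S.i₂) →
          S.commSq.HasLift) ∧
      ∀ (A : Type u) [CommRing A] [IsDomain A] (s : Spec (CommRingCat.of A) ⟶ X) (D : Set ↥(Spec (CommRingCat.of A))),
        Dense D →
        (∀ p ∈ D, ∃ l : Spec ((Spec (CommRingCat.of A)).residueField p) ⟶ Y,
            l ≫ f = (Spec (CommRingCat.of A)).fromSpecResidueField p ≫ s) →
          ∃ U : (Spec (CommRingCat.of A)).Opens, (U : Set ↥(Spec (CommRingCat.of A))).Nonempty ∧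
            ∃ l : (U : Scheme.{u}) ⟶ Y, l ≫ f = U.ι ≫ s := by
  have hrange : Set.range f ⊆ (f.coborderRange : Set X) := by
    intro x hx
    exact (subset_coborder (s := Set.range f) hx)
  refine ⟨fun S ⟨l₀, hl₀⟩ ↦ ?_, fun A _ _ s D hD hl ↦ ?_⟩
  · let ι := f.coborderRange.ι
    have hU : Set.range S.i₂ ⊆ Set.range ι := by
      rw [Scheme.Opens.range_ι]
      rintro _ ⟨p, rfl⟩
      have hc : S.i₂ (IsLocalRing.closedPoint S.R) ∈ f.coborderRange := by
        apply hrange
        refine ⟨l₀ (IsLocalRing.closedPoint _), ?_⟩
        rw [← Scheme.Hom.comp_apply, hl₀, Scheme.Hom.comp_apply]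
        congr 1
        exact IsLocalRing.comap_closedPoint (IsLocalRing.residue S.R)
      exact ((IsLocalRing.specializes_closedPoint p).map S.i₂.continuous).mem_open
        f.coborderRange.isOpen hc
    let i₂ := IsOpenImmersion.lift ι S.i₂ hU
    have w : S.i₁ ≫ f.liftCoborder = Spec.map (CommRingCat.ofHom (algebraMap S.R S.K)) ≫ i₂ := by
      rw [← cancel_mono ι]
      simp only [Category.assoc, i₂, IsOpenImmersion.lift_fac]
      rw [f.liftCoborder_ι]
      exact S.commSq.w
    have hE : ValuativeCriterion.Existence f.liftCoborder := by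
      have h : UniversallyClosed f.liftCoborder := inferInstance
      rw [UniversallyClosed.eq_valuativeCriterion] at h
      exact h.1
    obtain ⟨⟨l⟩⟩ := hE ⟨S.R, S.K, S.i₁, i₂, ⟨w⟩⟩
    exact ⟨⟨⟨l.l, l.fac_left, (l.l ≫= f.liftCoborder_ι.symm).trans (by
      rw [← Category.assoc, l.fac_right]
      exact IsOpenImmersion.lift_fac _ _ _)⟩⟩⟩
  · let O := s ⁻¹ᵁ f.coborderRange
    let q := pullback.snd f.liftCoborder (s ∣_ f.coborderRange)
    have hq : Surjective q := by
      refine ⟨fun x ↦ ?_⟩
      have hsub : O.ι ⁻¹' D ⊆ Set.range q := by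
        intro p hp
        obtain ⟨l, hl⟩ := hl _ hp
        rw [Scheme.Pullback.range_snd]
        let pt : (Spec ((Spec (CommRingCat.of A)).residueField (O.ι p)) : Scheme) := IsLocalRing.closedPoint _
        refine ⟨l pt, ?_⟩
        apply f.coborderRange.ι.isOpenEmbedding.injective
        rw [← Scheme.Hom.comp_apply, f.liftCoborder_ι, ← Scheme.Hom.comp_apply, hl,
          Scheme.Hom.comp_apply, Scheme.fromSpecResidueField_apply]
        exact (congr($(morphismRestrict_ι s f.coborderRange) p)).symm
      have hd : Dense (O.ι ⁻¹' D) := hD.preimage O.ι.isOpenEmbedding.isOpenMap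
      exact closure_minimal hsub q.isClosedEmbedding.isClosed_range (hd x)
    have : IsReduced (O : Scheme) := isReduced_of_isOpenImmersion O.ι
    have : IsIso q := isIso_of_isClosedImmersion_of_surjective q
    have hne : (O : Set ↥(Spec (CommRingCat.of A))).Nonempty := by
      obtain ⟨p, hp⟩ := hD.nonempty
      obtain ⟨l, hl⟩ := hl p hp
      refine ⟨p, hrange ⟨l (IsLocalRing.closedPoint _), ?_⟩⟩
      rw [← Scheme.Hom.comp_apply, hl, Scheme.Hom.comp_apply, Scheme.fromSpecResidueField_apply]
    refine ⟨O, hne, inv q ≫ pullback.fst _ _, ?_⟩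
    refine (_ ≫= f.liftCoborder_ι.symm).trans ?_
    rw [Category.assoc, pullback.condition_assoc, IsIso.inv_hom_id_assoc, morphismRestrict_ι]

end Groth.Agent.S15347
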