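import Groth.Statements.S15352
import Groth.Agent.Lib.GrpSchField.Components

set_option autoImplicit false
universe u
open CategoryTheory CategoryTheory.Limits MonoidalCategory CartesianMonoidalCategory MonObj GrpObj AlgebraicGeometry
open GrpSch

namespace Groth.Agent.S15352

/-- Let k be an algebraically closed field, G a group scheme locally of finite type over k, G⁰ ⊆ G the
connected component of the unit point, and U a nonempty open subscheme of G contained in G⁰. Then
every point of G⁰ is in the image of the morphism U ×_k U ⟶ G, (g, h) ↦ g·h⁻¹. (The published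
statement writes U as an open of G mapping to G⁰ × G⁰; this row makes the containment U ⊆ G⁰
explicit.) -/
theorem result (k : Type u) [Field k] [IsAlgClosed k]
    (G : Over (Spec (CommRingCat.of k))) [GrpObj G] [LocallyOfFiniteType G.hom] (U : G.left.Opens)
    (hne : (U : Set ↥G.left).Nonempty)
    (hU : (U : Set ↥G.left) ⊆ connectedComponent (η[G].left.base (IsLocalRing.closedPoint k))) :
    connectedComponent (η[G].left.base (IsLocalRing.closedPoint k)) ⊆ Set.range
      ((((Over.homMk U.ι rfl : Over.mk (U.ι ≫ G.hom) ⟶ G) ⊗ₘ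
          ((Over.homMk U.ι rfl : Over.mk (U.ι ≫ G.hom) ⟶ G) ≫ ι[G])) ≫ μ[G]).left.base) := by
  intro x hx
  let pt := η[G].left.base (IsLocalRing.closedPoint k)
  let C : G.left.Opens := ⟨irreducibleComponent pt,
    GrothLib.GrpSchField.isOpen_of_mem_irreducibleComponents G
      (irreducibleComponent_mem_irreducibleComponents pt)⟩
  have hCeq : connectedComponent pt = (C : Set G.left) :=
    GrothLib.GrpSchField.connectedComponent_eq_irreducibleComponent G pt
  rw [hCeq] at hU hx
  let A : Over (Spec (CommRingCat.of k)) := Over.mk (G.left.fromSpecResidueField x ≫ G.hom)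
  let g : A ⟶ G := Over.homMk (G.left.fromSpecResidueField x) rfl
  let φ : A ⊗ G ⟶ G := (fst A G ≫ g⁻¹) * snd A G
  let π : A ⊗ G ⟶ G := snd A G
  let σ : A ⊗ G ⟶ A ⊗ G := CartesianMonoidalCategory.lift (fst A G) φ
  have hσ : IsIso σ := by
    refine ⟨CartesianMonoidalCategory.lift (fst A G) ((fst A G ≫ g) * snd A G), ?_, ?_⟩ <;>
      simp [σ, φ, comp_lift, MonObj.comp_mul, GrpObj.comp_inv]
  have : IsIso σ.left := GrothLib.GrpSchField.isIso_left σ
  have hσπ : σ ≫ π = φ := CartesianMonoidalCategory.lift_snd _ _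
  let ε : A ⟶ A ⊗ G := CartesianMonoidalCategory.lift (𝟙 A) g
  let a₀ : A.left := IsLocalRing.closedPoint (G.left.residueField x)
  have hε₁ : π.left (ε.left a₀) = x := by
    rw [← Scheme.Hom.comp_apply, ← Over.comp_left, CartesianMonoidalCategory.lift_snd]
    exact Scheme.fromSpecResidueField_apply _ _
  have hε₂ : φ.left (ε.left a₀) = pt := by
    have e : ε ≫ φ = toUnit A ≫ η[G] := by
      simp [ε, φ, MonObj.comp_mul, Hom.one_def]
    rw [← Scheme.Hom.comp_apply, ← Over.comp_left, e, Over.comp_left, Scheme.Hom.comp_apply]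
    exact congrArg η[G].left (Subsingleton.elim (α := Spec (CommRingCat.of k)) _ _)
  let W : Set ↥(A ⊗ G).left := π.left ⁻¹' (C : Set G.left)
  have hirr : IsIrreducible W := by
    have : IrreducibleSpace A.left :=
      inferInstanceAs (IrreducibleSpace (Spec (G.left.residueField x)))
    have : IrreducibleSpace C.toScheme :=
      { isPreirreducible_univ := by
          have h := (isIrreducible_irreducibleComponent (x := pt)).2.preimage C.ι.isOpenEmbedding
          rwa [show C.ι ⁻¹' irreducibleComponent pt = Set.univ from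
            Set.eq_univ_of_forall fun y => y.2] at h
        toNonempty := ⟨⟨pt, mem_irreducibleComponent⟩⟩ }
    have := GrothLib.GrpSchField.irreducibleSpace_pullback A.hom (C.ι ≫ G.hom)
    let J : Limits.pullback A.hom (C.ι ≫ G.hom) ⟶ (A ⊗ G).left :=
      Limits.pullback.map _ _ A.hom G.hom (𝟙 _) C.ι (𝟙 _) (by simp) (by simp)
    have hJ : Set.range J = W := by
      simp only [J]
      rw [Scheme.Pullback.range_map, Scheme.Opens.range_ι]
      simp [W, π]
    rw [← hJ, ← Set.image_univ]
    exact (IrreducibleSpace.isIrreducible_univ _).image J J.continuous.continuousOn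
  have hW : IsClopen W :=
    ⟨isClosed_irreducibleComponent.preimage π.left.continuous, C.2.preimage π.left.continuous⟩
  have h₁ : W ⊆ φ.left ⁻¹' (C : Set G.left) := by
    intro w hw
    have hi := hirr.image φ.left φ.left.continuous.continuousOn
    have : φ.left '' W ⊆ connectedComponent pt :=
      hi.isConnected.subset_connectedComponent ⟨_, (show π.left (ε.left a₀) ∈ (C : Set G.left) by
        rw [hε₁]; exact hx), hε₂⟩
    rw [hCeq] at this
    exact this ⟨w, hw, rfl⟩
  have hφW : φ.left ⁻¹' (C : Set G.left) = σ.left ⁻¹' W := by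
    rw [← hσπ, Over.comp_left]
    rfl
  have h₂ : φ.left ⁻¹' (C : Set G.left) ⊆ W := by
    have hεW : ε.left a₀ ∈ W := by
      show π.left (ε.left a₀) ∈ (C : Set G.left)
      rw [hε₁]; exact hx
    refine IsPreconnected.subset_isClopen ?_ hW ⟨ε.left a₀, h₁ hεW, hεW⟩
    rw [hφW]
    exact (hirr.2.preimage σ.left.isOpenEmbedding).isPreconnected
  obtain ⟨u₀, hu₀⟩ := hne
  obtain ⟨p, -, hp⟩ := Scheme.Pullback.exists_preimage_pullback (f := A.hom) (g := G.hom)
    a₀ u₀ (Subsingleton.elim (α := Spec (CommRingCat.of k)) _ _)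
  obtain ⟨p', hp'⟩ : ∃ p', φ.left p' = u₀ := by
    obtain ⟨p', rfl⟩ := σ.left.homeomorph.surjective p
    refine ⟨p', ?_⟩
    rw [← hσπ, Over.comp_left, Scheme.Hom.comp_apply]
    exact hp
  obtain ⟨w, -, hw₁, hw₂⟩ := hirr.2 _ _ (U.2.preimage π.left.continuous)
    (U.2.preimage φ.left.continuous)
    ⟨p, show π.left p ∈ (C : Set G.left) from by erw [hp]; exact hU hu₀,
      show π.left p ∈ (U : Set G.left) from by erw [hp]; exact hu₀⟩
    ⟨p', h₂ (show φ.left p' ∈ (C : Set G.left) by rw [hp']; exact hU hu₀),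
      show φ.left p' ∈ (U : Set G.left) by rw [hp']; exact hu₀⟩
  let B : Over (Spec (CommRingCat.of k)) := Over.mk (U.ι ≫ G.hom)
  let u : B ⟶ G := Over.homMk U.ι rfl
  show x ∈ Set.range ((u ⊗ₘ (u ≫ ι[G])) ≫ μ[G]).left
  have e : (u ⊗ₘ (u ≫ ι[G])) ≫ μ[G] = (u ⊗ₘ u) ≫ (fst G G * (snd G G)⁻¹) := by
    rw [MonObj.comp_mul, GrpObj.comp_inv, tensorHom_fst, tensorHom_snd, Hom.mul_def, Hom.inv_def]
    congr 1
  rw [e, Over.comp_left, Scheme.Hom.comp_base, TopCat.coe_comp, Set.range_comp]
  refine ⟨(CartesianMonoidalCategory.lift π φ).left w, ?_, ?_⟩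
  · rw [Over.tensorHom_left, Scheme.Pullback.range_map]
    constructor
    · show (fst G G).left _ ∈ Set.range U.ι
      rw [Scheme.Opens.range_ι, ← Scheme.Hom.comp_apply, ← Over.comp_left,
        CartesianMonoidalCategory.lift_fst]
      exact hw₁
    · show (snd G G).left _ ∈ Set.range U.ι
      rw [Scheme.Opens.range_ι, ← Scheme.Hom.comp_apply, ← Over.comp_left,
        CartesianMonoidalCategory.lift_snd]
      exact hw₂
  · show (fst G G * (snd G G)⁻¹).left _ = x
    rw [← Scheme.Hom.comp_apply, ← Over.comp_left, MonObj.comp_mul, GrpObj.comp_inv,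
      CartesianMonoidalCategory.lift_fst, CartesianMonoidalCategory.lift_snd]
    have e' : π * φ⁻¹ = fst A G ≫ g := by
      simp [π, φ, GrpObj.comp_inv]
    rw [e', Over.comp_left, Scheme.Hom.comp_apply]
    exact Scheme.fromSpecResidueField_apply _ _

end Groth.Agent.S15352
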