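import Groth.Statements.S15353
import Mathlib

set_option autoImplicit false
universe u
open CAlg
open scoped TensorProduct

namespace Groth.Agent.S15353

variable {A' A : Type u} [CommRing A'] [CommRing A] [Algebra A' A]

theorem triv (hf : Function.Surjective (algebraMap A' A)) (hker : IsNilpotent (RingHom.ker (algebraMap A' A)))
    (P : Type u) [AddCommGroup P] [Module A' P] [Module.Finite A' P] [Module.Projective A' P]
    (e : (A ⊗[A'] P) ≃ₗ[A] A) : Nonempty (P ≃ₗ[A'] A') := by
  have hmk : Function.Surjective (fun x : P => (1 : A) ⊗ₜ[A'] x) := TensorProduct.mk_surjective A' P A hf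
  obtain ⟨x0, hx0⟩ := hmk (e.symm 1)
  simp only at hx0
  let φ : A' →ₗ[A'] P := LinearMap.toSpanSingleton A' P x0
  have hsurj : Function.Surjective φ := by
    rw [← LinearMap.range_eq_top, eq_top_iff]
    refine Submodule.le_of_le_smul_of_le_jacobson_bot (I := RingHom.ker (algebraMap A' A))
      Module.Finite.fg_top ?_ fun y _ => ?_
    · obtain ⟨k, hk⟩ := hker
      intro x hx
      rw [← Ideal.jacobson_bot.symm]
      refine nilradical_le_jacobson A' ⟨k, ?_⟩
      have := Ideal.pow_mem_pow hx k
      rwa [hk] at this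
    · obtain ⟨r, hr⟩ := hf (e ((1 : A) ⊗ₜ[A'] y))
      have h0 : (1 : A) ⊗ₜ[A'] (y - r • x0) = 0 := by
        rw [TensorProduct.tmul_sub, TensorProduct.tmul_smul, hx0, sub_eq_zero]
        apply e.injective
        rw [← algebraMap_smul A r (e.symm 1), map_smul, e.apply_symm_apply, hr, smul_eq_mul, mul_one]
      have h1 : y - r • x0 ∈ RingHom.ker (algebraMap A' A) • (⊤ : Submodule A' P) := by
        let π := Algebra.ofId A' A
        let eq : (A' ⧸ RingHom.ker (algebraMap A' A)) ≃ₗ[A'] A :=
          (Ideal.quotientKerAlgEquivOfSurjective (f := π) hf).toLinearEquiv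
        have h2 := congrArg (TensorProduct.congr eq.symm (LinearEquiv.refl A' P)) h0
        rw [map_zero, TensorProduct.congr_tmul, LinearEquiv.refl_apply] at h2
        have h3 := congrArg (TensorProduct.quotTensorEquivQuotSMul P (RingHom.ker (algebraMap A' A))) h2
        have h4 : eq.symm 1 = Ideal.Quotient.mk _ 1 := by
          rw [LinearEquiv.symm_apply_eq]
          exact (map_one (Ideal.quotientKerAlgEquivOfSurjective (f := π) hf)).symm
        rw [map_zero, h4, TensorProduct.quotTensorEquivQuotSMul_mk_tmul, one_smul] at h3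
        exact (Submodule.Quotient.mk_eq_zero _).mp h3
      refine Submodule.mem_sup.mpr ⟨r • x0, ⟨r, rfl⟩, _, h1, add_sub_cancel _ _⟩
  refine ⟨(LinearEquiv.ofBijective φ ⟨?_, hsurj⟩).symm⟩
  obtain ⟨t, ht⟩ := Module.projective_lifting_property φ LinearMap.id hsurj
  have hφ : ∀ r, φ r = r • x0 := fun r => rfl
  have ht' : t x0 • x0 = x0 := LinearMap.congr_fun ht x0
  set v := 1 - t x0 with hv
  have hv0 : φ v = 0 := by rw [hφ, hv, sub_smul, one_smul, ht', sub_self]
  have hidem : IsIdempotentElem v := by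
    have h5 : v * t x0 = 0 := by
      rw [← smul_eq_mul, ← map_smul, ← hφ, hv0, map_zero]
    show v * v = v
    calc v * v = v * 1 - v * t x0 := by rw [← mul_sub, ← hv]
      _ = v := by rw [mul_one, h5, sub_zero]
  have hvker : algebraMap A' A v = 0 := by
    have h6 := congrArg (fun z => e ((1 : A) ⊗ₜ[A'] z)) hv0
    simp only [hφ, TensorProduct.tmul_zero, map_zero, TensorProduct.tmul_smul, hx0] at h6
    rwa [← algebraMap_smul A v (e.symm 1), map_smul, e.apply_symm_apply, smul_eq_mul, mul_one] at h6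
  have hv1 : v = 0 := by
    obtain ⟨k, hk⟩ := hker
    have h7 := Ideal.pow_mem_pow (RingHom.mem_ker.mpr hvker) (k + 1)
    rw [hidem.pow_succ_eq, pow_succ, hk, zero_mul] at h7
    exact h7
  intro r r' hr
  have h8 := congrArg t hr
  have h9 : t x0 = 1 := (sub_eq_zero.mp (hv ▸ hv1)).symm
  rwa [hφ, hφ, map_smul, map_smul, h9, smul_eq_mul, smul_eq_mul, mul_one, mul_one] at h8

theorem lift (hf : Function.Surjective (algebraMap A' A)) (hker : IsNilpotent (RingHom.ker (algebraMap A' A)))
    (N : Type u) [AddCommGroup N] [Module A N] [Module.Finite A N] [Module.Projective A N] :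
    ∃ (M : Type u) (_ : AddCommGroup M) (_ : Module A' M), Module.Finite A' M ∧ Module.Projective A' M ∧
      Nonempty ((A ⊗[A'] M) ≃ₗ[A] N) := by
  classical
  let _ : Module A' N := Module.compHom N (algebraMap A' A)
  have : IsScalarTower A' A N := IsScalarTower.of_algebraMap_smul fun _ _ => rfl
  obtain ⟨n, π, hπ⟩ := Module.Finite.exists_fin' A N
  obtain ⟨s, hs⟩ := Module.projective_lifting_property π LinearMap.id hπ
  let T := LinearMap.toMatrixAlgEquiv' (R := A) (n := Fin n)
  let g := ((algebraMap A' A).mapMatrix : Matrix (Fin n) (Fin n) A' →+* Matrix (Fin n) (Fin n) A)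
  obtain ⟨k, hk⟩ := hker
  have hnil : ∀ X ∈ RingHom.ker g, IsNilpotent X := by
    intro X hX
    refine ⟨k, ?_⟩
    have hX' : ∀ i j, X i j ∈ RingHom.ker (algebraMap A' A) := fun i j =>
      RingHom.mem_ker.mpr (congrFun (congrFun hX i) j)
    have : ∀ (m : ℕ) i j, (X ^ m) i j ∈ RingHom.ker (algebraMap A' A) ^ m := by
      intro m
      induction m with
      | zero => intro i j; simp
      | succ m ih =>
        intro i j
        have hmul : (X ^ (m + 1)) i j = ∑ l, (X ^ m) i l * X l j := by
          rw [pow_succ, Matrix.mul_apply]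
        rw [hmul, pow_succ]
        exact sum_mem fun l _ => Ideal.mul_mem_mul (ih i l) (hX' l j)
    ext i j
    have h := this k i j
    rw [hk] at h
    exact h
  have hE : IsIdempotentElem (T (s ∘ₗ π)) := by
    refine IsIdempotentElem.map ?_ T
    show (s ∘ₗ π) * (s ∘ₗ π) = s ∘ₗ π
    rw [Module.End.mul_eq_comp, LinearMap.comp_assoc, ← LinearMap.comp_assoc π s π, hs,
      LinearMap.id_comp]
  have hg : T (s ∘ₗ π) ∈ g.range :=
    ⟨Matrix.of fun i j => Function.surjInv hf (T (s ∘ₗ π) i j),
      Matrix.ext fun i j => Function.surjInv_eq hf _⟩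
  obtain ⟨E, hE', hEg⟩ := exists_isIdempotentElem_eq_of_ker_isNilpotent g hnil _ hg hE
  let L : (Fin n → A') →ₗ[A'] (Fin n → A') := Matrix.toLin' E
  have hLL : ∀ z, L (L z) = L z := fun z => by
    rw [← LinearMap.comp_apply, ← Matrix.toLin'_mul, hE'.eq]
  have hproj : Module.Projective A' (LinearMap.range L) :=
    Module.Projective.of_split (LinearMap.range L).subtype L.rangeRestrict
      (LinearMap.ext fun ⟨y, z, hz⟩ => Subtype.ext (by subst hz; exact hLL z))
  refine ⟨LinearMap.range L, inferInstance, inferInstance, inferInstance, hproj, ?_⟩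
  let F : (Fin n → A') → (Fin n → A) := fun m i => algebraMap A' A (m i)
  have hFL : ∀ z, F (L z) = (s ∘ₗ π) (F z) := fun z => by
    funext i
    have h := congrFun (congrFun hEg i) 
    rw [← LinearMap.toMatrixAlgEquiv'.symm_apply_apply (s ∘ₗ π)]
    show algebraMap A' A (Matrix.mulVec E z i) = Matrix.mulVec (T (s ∘ₗ π)) (F z) i
    rw [RingHom.map_mulVec, ← hEg]
    rfl
  let φ : LinearMap.range L →ₗ[A'] A →ₗ[A] N :=
    { toFun := fun m => LinearMap.toSpanSingleton A N (π (F m.1))
      map_add' := fun a b => by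
        refine LinearMap.ext_ring ?_
        simp only [LinearMap.toSpanSingleton_apply, one_smul, LinearMap.add_apply, ← map_add]
        exact congrArg π (funext fun i => map_add _ _ _)
      map_smul' := fun r a => by
        refine LinearMap.ext_ring ?_
        simp only [RingHom.id_apply, LinearMap.toSpanSingleton_apply, one_smul, LinearMap.smul_apply]
        rw [← algebraMap_smul A r (π (F a.1)), ← map_smul]
        exact congrArg π (funext fun i => map_mul _ _ _) }
  let Φ : (A ⊗[A'] LinearMap.range L) →ₗ[A] N := TensorProduct.AlgebraTensorModule.lift φ.flip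
  let c : Fin n → LinearMap.range L := fun i => ⟨L (Pi.single i 1), _, rfl⟩
  let Ψ : N →ₗ[A] (A ⊗[A'] LinearMap.range L) :=
    ∑ i, (LinearMap.toSpanSingleton A _ ((1 : A) ⊗ₜ[A'] c i)) ∘ₗ (LinearMap.proj i ∘ₗ s)
  have hΨ : ∀ y, Ψ y = ∑ i, s y i • ((1 : A) ⊗ₜ[A'] c i) := fun y => by
    simp [Ψ, LinearMap.sum_apply]
  have hΦ : ∀ (a : A) m, Φ (a ⊗ₜ[A'] m) = a • π (F m.1) := fun a m => rfl
  refine ⟨LinearEquiv.ofLinearMap Φ Ψ (LinearMap.ext fun y => ?_) ?_⟩
  · rw [LinearMap.comp_apply, hΨ, map_sum, LinearMap.id_apply]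
    simp only [map_smul, hΦ, one_smul]
    have e1 : ∀ i, π (F (c i).1) = π (Pi.single i 1) := fun i => by
      show π (F (L (Pi.single i 1))) = _
      rw [hFL]
      have : F (Pi.single i 1) = Pi.single i 1 := funext fun j => by
        rcases eq_or_ne j i with rfl | h <;> simp [F, *]
      rw [this, ← LinearMap.comp_apply π (s ∘ₗ π), ← LinearMap.comp_assoc, hs, LinearMap.id_comp]
    simp only [e1, ← map_smul]
    rw [← map_sum, ← pi_eq_sum_univ' (s y)]
    exact LinearMap.congr_fun hs y
  · refine TensorProduct.AlgebraTensorModule.ext fun a m => ?_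
    rw [LinearMap.comp_apply, hΦ, map_smul, hΨ, LinearMap.id_apply]
    have e2 : s (π (F m.1)) = F m.1 := by
      obtain ⟨m, z, rfl⟩ := m
      show (s ∘ₗ π) (F (L z)) = F (L z)
      rw [← hFL, hLL]
    rw [e2]
    have e3 : m = ∑ i, m.1 i • c i := by
      obtain ⟨m, z, rfl⟩ := m
      refine Subtype.ext ?_
      simp only [AddSubmonoidClass.coe_finsetSum, SetLike.val_smul, c]
      simp only [← map_smul, ← map_sum]
      rw [← pi_eq_sum_univ' (L z), hLL]
    conv_rhs => rw [e3, TensorProduct.tmul_sum]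
    rw [Finset.smul_sum]
    refine Finset.sum_congr rfl fun i _ => ?_
    rw [smul_smul, TensorProduct.smul_tmul', smul_eq_mul, mul_one, TensorProduct.tmul_smul,
      ← algebraMap_smul A (m.1 i), TensorProduct.smul_tmul', smul_eq_mul, mul_comm]

theorem main (hf : Function.Surjective (algebraMap A' A)) (hker : IsNilpotent (RingHom.ker (algebraMap A' A))) :
    Function.Bijective (CommRing.Pic.mapAlgebra A' A) := by
  refine ⟨(injective_iff_map_eq_one _).mpr fun M hM => ?_, fun N => ?_⟩
  · rw [CommRing.Pic.mapAlgebra_apply] at hM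
    obtain ⟨e⟩ := triv hf hker M (CommRing.Pic.mk_eq_one_iff.mp hM).some
    rw [← CommRing.Pic.mk_eq_self (M := M)]
    exact CommRing.Pic.mk_eq_one_iff.mpr ⟨e⟩
  · obtain ⟨M, _, _, _, _, ⟨e⟩⟩ := lift hf hker N
    obtain ⟨M₂, _, _, _, _, ⟨e₂⟩⟩ := lift hf hker (Module.Dual A N)
    obtain ⟨e₃⟩ := triv hf hker (M₂ ⊗[A'] M)
      (TensorProduct.AlgebraTensorModule.distribBaseChange A' A M₂ M ≪≫ₗ TensorProduct.congr e₂ e
        ≪≫ₗ Module.Invertible.linearEquiv A N)
    have : Module.Invertible A' M := .right e₃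
    refine ⟨CommRing.Pic.mk A' M, ?_⟩
    rw [CommRing.Pic.mapAlgebra_apply, CommRing.Pic.mk_eq_iff]
    exact ⟨TensorProduct.AlgebraTensorModule.congr (.refl ..) (CommRing.Pic.mk.linearEquiv ..) ≪≫ₗ e⟩

/-- Let f : A' → A be a surjective ring homomorphism whose kernel is a nilpotent ideal. Then the induced
homomorphism of Picard groups Pic(A') → Pic(A), base change of invertible modules along f, is
bijective. -/
theorem result {A' A : Type u} [CommRing A'] [CommRing A]
    (f : A' →+* A) (hf : Function.Surjective f) (hker : IsNilpotent (RingHom.ker f)) :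
    Function.Bijective (CommRing.Pic.mapRingHom f) := by
  let _ : Algebra A' A := f.toAlgebra
  exact main hf hker

end Groth.Agent.S15353
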