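import Groth.Statements.S15355
import Groth.Agent.Lib.MorQ9.Small

set_option autoImplicit false
universe u
open CategoryTheory CategoryTheory.Limits AlgebraicGeometry
open Mor

namespace Groth.Agent.S15355

/-- Let f : Y ⟶ X be a morphism of schemes, A an integral domain and ξ, η : Spec A ⟶ Y two A-points of Y
over the same A-point of X. If ξ and η induce the same κ(p)-point of Y at every point p of some
dense subset of Spec A, then ξ and η agree on a nonempty open subscheme of Spec A. (The published
statement is an equivalence, for algebraic spaces locally of finite presentation over a Noetherian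
scheme, between local separatedness of f and conditions (a), (b); this row is the necessity of (b)
in the case of schemes, where no hypothesis on f is needed.) -/
theorem result {X Y : Scheme.{u}} (f : Y ⟶ X)
    (A : Type u) [CommRing A] [IsDomain A] (ξ η : Spec (CommRingCat.of A) ⟶ Y) (hf : ξ ≫ f = η ≫ f)
    (D : Set ↥(Spec (CommRingCat.of A))) (hD : Dense D)
    (hpt : ∀ p ∈ D, (Spec (CommRingCat.of A)).fromSpecResidueField p ≫ ξ =
      (Spec (CommRingCat.of A)).fromSpecResidueField p ≫ η) :
    ∃ U : (Spec (CommRingCat.of A)).Opens, (U : Set ↥(Spec (CommRingCat.of A))).Nonempty ∧ U.ι ≫ ξ = U.ι ≫ η := by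
  exact GrothLib.MorQ9.exists_open_eq_of_dense A ξ η D hD hpt

end Groth.Agent.S15355
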