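import Groth.Statements.S15356
import Groth.Agent.Lib.AlgSt.MonoModel
import Groth.Agent.Lib.AlgSt.MonoValuative
import Groth.Agent.Lib.AlgSt.ImmDescent


set_option autoImplicit false
set_option backward.isDefEq.respectTransparency false
set_option backward.isDefEq.respectTransparency.types false
universe u
open CategoryTheory AlgebraicGeometry
open AlgSt

namespace Groth.Agent.S15356

open GrothLib.AlgSt in
theorem lift_iff_comp {S : Scheme.{u}} {𝒳 𝒴 : AlgSt.Cat S} {f : 𝒴 ⥤ᵇ 𝒳} {W V : Over S} {w : FibCat.overCat W ⥤ᵇ 𝒳}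
    {m : V ⟶ W} (M : BCModel f w V m) {T T₁ : Over S} (g : T ⟶ T₁) (a : T₁ ⟶ W) :
    (∃ l : T.left ⟶ V.left, l ≫ m.left = g.left ≫ a.left) ↔ ∃ y : FibCat.overCat T ⥤ᵇ 𝒴,
      Nonempty (BasedFunctor.comp y f ≅
        BasedFunctor.comp (AlgSt.overMap g) (BasedFunctor.comp (AlgSt.overMap a) w)) := by
  refine (M.left_lift_iff (g ≫ a)).trans ⟨?_, ?_⟩
  · rintro ⟨y, ⟨i⟩⟩
    exact ⟨y, ⟨i ≪≫ GrothLib.FibCat.whiskerRightIso (overMapCompIso g a).symm w⟩⟩
  · rintro ⟨y, ⟨i⟩⟩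
    exact ⟨y, ⟨i ≪≫ GrothLib.FibCat.whiskerRightIso (overMapCompIso g a) w⟩⟩

theorem fppfDescends_imm_qc : GrothLib.AlgSp.FppfDescends.{u} (@IsImmersion ⊓ @QuasiCompact) :=
  fun _ _ _ _ _ _ _ _ sq hf hp hs h => ⟨GrothLib.AlgSp.fppfDescends_isImmersion _ _ _ _ sq hf hp hs h.1,
    GrothLib.AlgSp.fppfDescends_quasiCompact _ _ _ _ sq hf hp hs h.2⟩

instance : (@IsImmersion ⊓ @QuasiCompact : MorphismProperty Scheme.{u}).RespectsIso :=
  MorphismProperty.IsStableUnderBaseChange.respectsIso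

/-- Let S be a scheme, 𝒳 a locally Noetherian algebraic stack over S and f : 𝒴 ⟶ 𝒳 a morphism of
algebraic stacks over S which is representable by algebraic spaces and locally of finite
presentation. Assume: f is a monomorphism; for every discrete valuation ring A with fraction field K
and residue field k and every morphism a : Spec A ⟶ 𝒳 whose restrictions to Spec K and to Spec k
both lift to 𝒴 up to 2-isomorphism, a lifts to 𝒴 up to 2-isomorphism; and for every integral domain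
A and every a : Spec A ⟶ 𝒳 whose restrictions to the points of a dense subset of Spec A (through
their residue fields) lift to 𝒴, the restriction of a to some nonempty open subscheme of Spec A
lifts to 𝒴. Then f is a quasi-compact immersion: for every scheme U and every U-valued object of 𝒳
the 2-fibre product (Sch/U) ×_𝒳 𝒴 is an algebraic space whose morphism to U is representable by
schemes and a quasi-compact immersion after every base change. (The published statement takes all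
algebraic stacks and algebraic spaces quasi-separated; this row does not assume that.) -/
theorem result (S : Scheme.{u})
    (𝒳 𝒴 : AlgSt.Cat S) (h𝒳 : AlgSt.IsAlgStack Scheme.fppfPrecoverage 𝒳)
    (h𝒴 : AlgSt.IsAlgStack Scheme.fppfPrecoverage 𝒴)
    (hnoeth : AlgSt.SmoothLocally (fun X => IsLocallyNoetherian X) 𝒳) (f : 𝒴 ⥤ᵇ 𝒳)
    (hrep : AlgSt.RepByAlgSp1 f) (hlfp : AlgSt.RepByAlgSpWith (AlgSp.LocP @LocallyOfFinitePresentation) f)
    (ha : AlgSt.IsMono f)
    (hb : ∀ (A : Type u) [CommRing A] [IsDomain A] [IsDiscreteValuationRing A] (K : Type u) [Field K] [Algebra A K]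
      [IsFractionRing A K] (sA : Spec (CommRingCat.of A) ⟶ S) (a : FibCat.overCat (Over.mk sA) ⥤ᵇ 𝒳),
      (∃ yK : FibCat.overCat (Over.mk (Spec.map (CommRingCat.ofHom (algebraMap A K)) ≫ sA)) ⥤ᵇ 𝒴,
          Nonempty (BasedFunctor.comp yK f ≅ BasedFunctor.comp (AlgSt.overMap (Over.homMk (Spec.map (CommRingCat.ofHom (algebraMap A K))) rfl : Over.mk ((Spec.map (CommRingCat.ofHom (algebraMap A K))) ≫ sA) ⟶ Over.mk sA)) a)) →
      (∃ yk : FibCat.overCat (Over.mk (Spec.map (CommRingCat.ofHom (IsLocalRing.residue A)) ≫ sA)) ⥤ᵇ 𝒴,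
          Nonempty (BasedFunctor.comp yk f ≅ BasedFunctor.comp (AlgSt.overMap (Over.homMk (Spec.map (CommRingCat.ofHom (IsLocalRing.residue A))) rfl : Over.mk ((Spec.map (CommRingCat.ofHom (IsLocalRing.residue A))) ≫ sA) ⟶ Over.mk sA)) a)) →
      ∃ y : FibCat.overCat (Over.mk sA) ⥤ᵇ 𝒴, Nonempty (BasedFunctor.comp y f ≅ a))
    (hc : ∀ (A : Type u) [CommRing A] [IsDomain A] (sA : Spec (CommRingCat.of A) ⟶ S)
      (a : FibCat.overCat (Over.mk sA) ⥤ᵇ 𝒳) (D : Set ↥(Spec (CommRingCat.of A))), Dense D →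
      (∀ p ∈ D, ∃ yp : FibCat.overCat (Over.mk ((Spec (CommRingCat.of A)).fromSpecResidueField p ≫ sA)) ⥤ᵇ 𝒴,
          Nonempty (BasedFunctor.comp yp f ≅ BasedFunctor.comp (AlgSt.overMap (Over.homMk ((Spec (CommRingCat.of A)).fromSpecResidueField p) rfl : Over.mk (((Spec (CommRingCat.of A)).fromSpecResidueField p) ≫ sA) ⟶ Over.mk sA)) a)) →
      ∃ U : (Spec (CommRingCat.of A)).Opens, (U : Set ↥(Spec (CommRingCat.of A))).Nonempty ∧
        ∃ yU : FibCat.overCat (Over.mk (U.ι ≫ sA)) ⥤ᵇ 𝒴,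
          Nonempty (BasedFunctor.comp yU f ≅ BasedFunctor.comp (AlgSt.overMap (Over.homMk (U.ι) rfl : Over.mk ((U.ι) ≫ sA) ⟶ Over.mk sA)) a)) :
    AlgSt.RepByAlgSpWith (AlgSp.RepWith (@IsImmersion ⊓ @QuasiCompact)) f := by
  obtain ⟨W, w, hw, hws⟩ := h𝒳.atlas
  have : IsLocallyNoetherian W.left := hnoeth W w hw
  obtain ⟨V, m, hm, hfp, ⟨M⟩⟩ := GrothLib.AlgSt.exists_bcModel_mono f hlfp ha w
  have hd : GrothLib.MonoLift.DenseLift m.left := by
    intro A _ _ a D hD hl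
    let a' : Over.mk (a ≫ W.hom) ⟶ W := Over.homMk a rfl
    obtain ⟨U, hU, y, hy⟩ := hc A (a ≫ W.hom) (BasedFunctor.comp (AlgSt.overMap a') w) D hD fun p hp =>
      (lift_iff_comp M (T₁ := Over.mk (a ≫ W.hom)) _ a').1 (hl p hp)
    obtain ⟨l, hl⟩ := (lift_iff_comp M (T₁ := Over.mk (a ≫ W.hom)) _ a').2 ⟨y, hy⟩
    exact ⟨U, hU, l, hl⟩
  have hv : GrothLib.MonoLift.DvrLift m.left := by
    intro A _ _ _ K _ _ _ a h0 h1
    let a' : Over.mk (a ≫ W.hom) ⟶ W := Over.homMk a rfl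
    obtain ⟨y, hy⟩ := hb A K (a ≫ W.hom) (BasedFunctor.comp (AlgSt.overMap a') w)
      ((lift_iff_comp M (T₁ := Over.mk (a ≫ W.hom)) _ a').1 h0)
      ((lift_iff_comp M (T₁ := Over.mk (a ≫ W.hom)) _ a').1 h1)
    exact (M.left_lift_iff a').2 ⟨y, hy⟩
  have := hd.quasiCompact
  have hi : IsImmersion m.left := hv.isImmersion
  let W' : AlgSp.Space S := ⟨(AlgSp.yon S).obj W, AlgSp.IsAlgSpace.yon_obj W⟩
  refine (GrothLib.AlgSt.repByAlgSpWith_imm_iff inf_le_left fppfDescends_imm_qc h𝒴 h𝒳 f W'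
    (BasedFunctor.comp (AlgSt.toOverCat W) w) ?_ ?_ ?_).2 ?_
  · exact GrothLib.AlgSt.repByAlgSpWith_equiv_comp _ (GrothLib.AlgSt.isEquivOver_toOverCat W)
      (GrothLib.AlgSt.repByAlgSpWith_mono (fun _ _ _ _ _ h => GrothLib.AlgSp.locP_mono (fun _ _ g hg => by
        have : Smooth g := hg
        exact (inferInstance : Flat g)) h) hw)
  · exact GrothLib.AlgSt.repByAlgSpWith_equiv_comp _ (GrothLib.AlgSt.isEquivOver_toOverCat W)
      (GrothLib.AlgSt.repByAlgSpWith_mono (fun _ _ _ _ _ h => GrothLib.AlgSp.locP_mono (fun _ _ g hg => by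
        have : Smooth g := hg
        exact (inferInstance : LocallyOfFinitePresentation g)) h) hw)
  · exact GrothLib.AlgSt.repByAlgSpWith_equiv_comp _ (GrothLib.AlgSt.isEquivOver_toOverCat W) hws
  obtain ⟨i⟩ := GrothLib.AlgSt.iso_overMap_ofOverCat m
  have := GrothLib.FibCat.IsEquivOver.full (GrothLib.FibCat.IsEquivOver.refl 𝒳)
  have := GrothLib.FibCat.IsEquivOver.faithful (GrothLib.FibCat.IsEquivOver.refl 𝒳)
  let Mp := GrothLib.FibCat.Fp.map (F := w) (G := f) (F' := BasedFunctor.comp (AlgSt.toOverCat W) w) (G' := f)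
    (AlgSt.ofOverCat W) (BasedFunctor.id 𝒴) (BasedFunctor.id 𝒳)
    (GrothLib.FibCat.whiskerRightIso (GrothLib.AlgSt.ofOverCatCompIso W) w) (Iso.refl f)
  refine ⟨⟨(AlgSp.yon S).obj V, AlgSp.IsAlgSpace.yon_obj V⟩, ObjectProperty.homMk ((AlgSp.yon S).map m),
    BasedFunctor.comp (BasedFunctor.comp (AlgSt.toOverCat V) M.Φ) Mp,
    GrothLib.FibCat.IsEquivOver.comp (GrothLib.FibCat.IsEquivOver.comp (GrothLib.AlgSt.isEquivOver_toOverCat V) M.equiv)
      (GrothLib.FibCat.Fp.isEquivOver_map _ _ _ _ _ (GrothLib.AlgSt.isEquivOver_ofOverCat W)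
        (GrothLib.FibCat.IsEquivOver.refl 𝒴)),
    ⟨GrothLib.FibCat.whiskerLeftIso (AlgSt.toOverCat V)
        (GrothLib.FibCat.whiskerRightIso M.iso (AlgSt.ofOverCat W) ≪≫ i) ≪≫
      GrothLib.FibCat.whiskerRightIso (GrothLib.AlgSt.toOverCatCompIso V) (AlgSt.ofSpMap ((AlgSp.yon S).map m))⟩,
    (AlgSp.repWith_yon_map_iff (@IsImmersion ⊓ @QuasiCompact) m).2 ⟨hi, inferInstance⟩⟩

end Groth.Agent.S15356
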