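import Groth.Statements.S15357
import Groth.Agent.Lib.AlgSt.MonoModel


set_option autoImplicit false
set_option backward.isDefEq.respectTransparency false
set_option backward.isDefEq.respectTransparency.types false
universe u
open CategoryTheory AlgebraicGeometry
open AlgSt

namespace Groth.Agent.S15357

open GrothLib.AlgSt in
theorem hasRep_qc {S : Scheme.{u}} {𝒳 𝒴 : AlgSt.Cat S} {f : 𝒴 ⥤ᵇ 𝒳} {W V : Over S} {w : FibCat.overCat W ⥤ᵇ 𝒳} {m : V ⟶ W}
    (M : BCModel f w V m) (hq : QuasiCompact m.left) :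
    RepByAlgSpWith AlgSp.IsQuasiCompactMor (FibCat.fpFst w f) := by
  refine (repByAlgSpWith_iff_of_square (f := FibCat.fpFst w f)
    (f' := AlgSt.ofSpMap ((AlgSp.yon S).map m)) (BasedFunctor.comp (AlgSt.toOverCat V) M.Φ)
    (AlgSt.toOverCat W) (GrothLib.FibCat.IsEquivOver.comp (isEquivOver_toOverCat V) M.equiv)
    (isEquivOver_toOverCat W)
    ((Classical.choice (iso_toOverCat_overMap m)).symm ≪≫ GrothLib.FibCat.whiskerLeftIso (AlgSt.toOverCat V) M.iso.symm)).2 ?_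
  exact repByAlgSpWith_ofSpMap (AlgSp.IsAlgSpace.yon_obj V) (AlgSp.IsAlgSpace.yon_obj W) _ fun U c =>
    GrothLib.AlgSp.isQuasiCompactMor_of_repWith (GrothLib.AlgSp.repWith_of_isPullback
      (CategoryTheory.IsPullback.of_hasPullback c ((AlgSp.yon S).map m)).flip ((AlgSp.repWith_yon_map_iff @QuasiCompact m).2 hq))

open GrothLib.AlgSt in
theorem lift_iff_comp {S : Scheme.{u}} {𝒳 𝒴 : AlgSt.Cat S} {f : 𝒴 ⥤ᵇ 𝒳} {W V : Over S} {w : FibCat.overCat W ⥤ᵇ 𝒳}
    {m : V ⟶ W} (M : BCModel f w V m) {T T₁ : Over S} (g : T ⟶ T₁) (a : T₁ ⟶ W) :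
    (∃ l : T.left ⟶ V.left, l ≫ m.left = g.left ≫ a.left) ↔ ∃ y : FibCat.overCat T ⥤ᵇ 𝒴,
      Nonempty (BasedFunctor.comp y f ≅
        BasedFunctor.comp (AlgSt.overMap g) (BasedFunctor.comp (AlgSt.overMap a) w)) := by
  refine (M.left_lift_iff (g ≫ a)).trans ⟨?_, ?_⟩
  · rintro ⟨y, ⟨i⟩⟩
    exact ⟨y, ⟨i ≪≫ GrothLib.FibCat.whiskerRightIso (overMapCompIso g a).symm w⟩⟩
  · rintro ⟨y, ⟨i⟩⟩
    exact ⟨y, ⟨i ≪≫ GrothLib.FibCat.whiskerRightIso (overMapCompIso g a) w⟩⟩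

/-- Let S be a scheme, 𝒳 a locally Noetherian algebraic stack over S and f : 𝒴 ⟶ 𝒳 a morphism of
algebraic stacks over S which is representable by algebraic spaces, locally of finite presentation
and a monomorphism. Suppose that for every integral domain A and every a : Spec A ⟶ 𝒳 whose
restrictions to the points of a dense subset of Spec A (through their residue fields) lift to 𝒴 up
to 2-isomorphism, the restriction of a to some nonempty open subscheme of Spec A lifts to 𝒴. Then f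
is quasi-compact. (The published statement takes all algebraic stacks and algebraic spaces
quasi-separated; this row does not assume that.) -/
theorem result (S : Scheme.{u})
    (𝒳 𝒴 : AlgSt.Cat S) (h𝒳 : AlgSt.IsAlgStack Scheme.fppfPrecoverage 𝒳)
    (h𝒴 : AlgSt.IsAlgStack Scheme.fppfPrecoverage 𝒴)
    (hnoeth : AlgSt.SmoothLocally (fun X => IsLocallyNoetherian X) 𝒳) (f : 𝒴 ⥤ᵇ 𝒳)
    (hrep : AlgSt.RepByAlgSp1 f) (hlfp : AlgSt.RepByAlgSpWith (AlgSp.LocP @LocallyOfFinitePresentation) f)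
    (ha : AlgSt.IsMono f)
    (hc : ∀ (A : Type u) [CommRing A] [IsDomain A] (sA : Spec (CommRingCat.of A) ⟶ S)
      (a : FibCat.overCat (Over.mk sA) ⥤ᵇ 𝒳) (D : Set ↥(Spec (CommRingCat.of A))), Dense D →
      (∀ p ∈ D, ∃ yp : FibCat.overCat (Over.mk ((Spec (CommRingCat.of A)).fromSpecResidueField p ≫ sA)) ⥤ᵇ 𝒴,
          Nonempty (BasedFunctor.comp yp f ≅ BasedFunctor.comp (AlgSt.overMap (Over.homMk ((Spec (CommRingCat.of A)).fromSpecResidueField p) rfl : Over.mk (((Spec (CommRingCat.of A)).fromSpecResidueField p) ≫ sA) ⟶ Over.mk sA)) a)) →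
      ∃ U : (Spec (CommRingCat.of A)).Opens, (U : Set ↥(Spec (CommRingCat.of A))).Nonempty ∧
        ∃ yU : FibCat.overCat (Over.mk (U.ι ≫ sA)) ⥤ᵇ 𝒴,
          Nonempty (BasedFunctor.comp yU f ≅ BasedFunctor.comp (AlgSt.overMap (Over.homMk (U.ι) rfl : Over.mk ((U.ι) ≫ sA) ⟶ Over.mk sA)) a)) :
    AlgSt.RepByAlgSpWith AlgSp.IsQuasiCompactMor f := by
  obtain ⟨W, w, hw, hws⟩ := h𝒳.atlas
  have : IsLocallyNoetherian W.left := hnoeth W w hw
  obtain ⟨V, m, hm, hfp, ⟨M⟩⟩ := GrothLib.AlgSt.exists_bcModel_mono f hlfp ha w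
  have hd : GrothLib.MonoLift.DenseLift m.left := by
    intro A _ _ a D hD hl
    let T₁ : Over S := Over.mk (a ≫ W.hom)
    let a' : T₁ ⟶ W := Over.homMk a rfl
    obtain ⟨U, hU, y, hy⟩ := hc A (a ≫ W.hom) (BasedFunctor.comp (AlgSt.overMap a') w) D hD fun p hp =>
      (lift_iff_comp M (T₁ := T₁) _ a').1 (hl p hp)
    obtain ⟨l, hl⟩ := (lift_iff_comp M (T₁ := T₁) _ a').2 ⟨y, hy⟩
    exact ⟨U, hU, l, hl⟩
  refine GrothLib.AlgSt.repByAlgSpWith_of_fpFst GrothLib.AlgSt.isoInvariant_isQuasiCompactMor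
    GrothLib.AlgSt.descendsToSchemes_isQuasiCompactMor hrep
    (GrothLib.AlgSt.liftsFppf_of_repByAlgSpWith w ?_ ?_ hws) (hasRep_qc M hd.quasiCompact)
  · exact GrothLib.AlgSt.repByAlgSpWith_mono (fun _ _ _ _ _ h => GrothLib.AlgSp.locP_mono (fun _ _ g hg => by
      have : Smooth g := hg
      exact (inferInstance : Flat g)) h) hw
  · exact GrothLib.AlgSt.repByAlgSpWith_mono (fun _ _ _ _ _ h => GrothLib.AlgSp.locP_mono (fun _ _ g hg => by
      have : Smooth g := hg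
      exact (inferInstance : LocallyOfFinitePresentation g)) h) hw

end Groth.Agent.S15357
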