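import Groth.Statements.S15360
import Mathlib
-- import your own Groth.Agent.* helpers here

set_option autoImplicit false
universe u
open GalCoh

namespace Groth.Agent.S15360

namespace Aux

variable {p : ℕ} [Fact p.Prime]

/-- `X` occurs (mod `p`) in the `n`-th graded piece of the image. -/
def Good {𝔊 : Type u} [Group 𝔊] (ϕ : 𝔊 →* GL (Fin 2) ℤ_[p]) (n : ℕ)
    (X : Matrix (Fin 2) (Fin 2) ℤ_[p]) : Prop :=
  ∃ (g : 𝔊) (Z : Matrix (Fin 2) (Fin 2) ℤ_[p]),
    ((ϕ g : GL (Fin 2) ℤ_[p]) : Matrix (Fin 2) (Fin 2) ℤ_[p]) =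
      1 + (p : ℤ_[p]) ^ n • X + (p : ℤ_[p]) ^ (n + 1) • Z

variable {𝔊 : Type u} [Group 𝔊] {ϕ : 𝔊 →* GL (Fin 2) ℤ_[p]} {n : ℕ}

lemma Good.zero : Good ϕ n 0 := ⟨1, 0, by simp⟩

lemma Good.congr {X Y W : Matrix (Fin 2) (Fin 2) ℤ_[p]} (h : Good ϕ n X) (e : Y = X + (p : ℤ_[p]) • W) :
    Good ϕ n Y := by
  obtain ⟨g, Z, hg⟩ := h
  refine ⟨g, Z - W, ?_⟩
  rw [hg, e, smul_add, smul_sub, smul_smul, ← pow_succ]
  abel

lemma Good.add (hn : 1 ≤ n) {X Y : Matrix (Fin 2) (Fin 2) ℤ_[p]} (hX : Good ϕ n X) (hY : Good ϕ n Y) :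
    Good ϕ n (X + Y) := by
  obtain ⟨g, Z, hg⟩ := hX
  obtain ⟨g', Z', hg'⟩ := hY
  obtain ⟨k, rfl⟩ : ∃ k, n = k + 1 := ⟨n - 1, by omega⟩
  refine ⟨g * g', Z + Z' + (p : ℤ_[p]) ^ k • ((X + (p : ℤ_[p]) • Z) * (Y + (p : ℤ_[p]) • Z')), ?_⟩
  rw [map_mul, Units.val_mul, hg, hg']
  simp only [add_mul, mul_add, one_mul, mul_one, Matrix.smul_mul, Matrix.mul_smul, smul_add, smul_smul,
    ← pow_succ]
  module

lemma Good.smul (hn : 1 ≤ n) {X : Matrix (Fin 2) (Fin 2) ℤ_[p]} (hX : Good ϕ n X) (c : ℤ_[p]) :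
    Good ϕ n (c • X) := by
  have hk : ∀ k : ℕ, Good ϕ n ((k : ℤ_[p]) • X) := by
    intro k
    induction k with
    | zero => simpa using (Good.zero (ϕ := ϕ) (n := n))
    | succ k ih =>
      have := ih.add hn hX
      rwa [Nat.cast_succ, add_smul, one_smul]
  have hc : PadicInt.toZMod (c - ((PadicInt.toZMod c).val : ℤ_[p])) = 0 := by
    rw [map_sub, map_natCast, ZMod.natCast_val, ZMod.cast_id, sub_self]
  rw [← RingHom.mem_ker, PadicInt.ker_toZMod, PadicInt.maximalIdeal_eq_span_p,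
    Ideal.mem_span_singleton] at hc
  obtain ⟨d, hd⟩ := hc
  refine (hk (PadicInt.toZMod c).val).congr (W := d • X) ?_
  rw [smul_smul, ← add_smul]
  congr 1
  linear_combination hd

lemma Good.conj (hs : Function.Surjective ((Matrix.GeneralLinearGroup.map (n := Fin 2)
      (PadicInt.toZMod (p := p))).comp ϕ)) {X Y : Matrix (Fin 2) (Fin 2) ℤ_[p]} (hX : Good ϕ n X)
    (P : GL (Fin 2) ℤ_[p]) (e : (P : Matrix (Fin 2) (Fin 2) ℤ_[p]) * X = Y * P) : Good ϕ n Y := by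
  obtain ⟨g, Z, hg⟩ := hX
  obtain ⟨h, hh⟩ := hs (Matrix.GeneralLinearGroup.map PadicInt.toZMod P)
  let Q : Matrix (Fin 2) (Fin 2) ℤ_[p] := ((ϕ h : GL (Fin 2) ℤ_[p]) : Matrix (Fin 2) (Fin 2) ℤ_[p])
  let Q' : Matrix (Fin 2) (Fin 2) ℤ_[p] := ((ϕ h⁻¹ : GL (Fin 2) ℤ_[p]) : Matrix (Fin 2) (Fin 2) ℤ_[p])
  have hQQ : Q * Q' = 1 := by
    simp only [Q, Q', ← Units.val_mul, ← map_mul, mul_inv_cancel, map_one, Units.val_one]
  have hd : ∀ i j, ∃ w, Q i j - (P : Matrix (Fin 2) (Fin 2) ℤ_[p]) i j = (p : ℤ_[p]) * w := by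
    intro i j
    have h1 := congrArg (fun M : GL (Fin 2) (ZMod p) => (M : Matrix (Fin 2) (Fin 2) (ZMod p)) i j) hh
    simp only [MonoidHom.comp_apply, Matrix.GeneralLinearGroup.map_apply] at h1
    have h2 : PadicInt.toZMod (Q i j - (P : Matrix (Fin 2) (Fin 2) ℤ_[p]) i j) = 0 := by
      rw [map_sub, sub_eq_zero]; exact h1
    rw [← RingHom.mem_ker, PadicInt.ker_toZMod, PadicInt.maximalIdeal_eq_span_p,
      Ideal.mem_span_singleton] at h2
    exact h2
  choose w hw using hd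
  let W : Matrix (Fin 2) (Fin 2) ℤ_[p] := Matrix.of w
  have hQ : Q = P + (p : ℤ_[p]) • W := by
    ext i j
    simp only [Matrix.add_apply, Matrix.smul_apply, W, Matrix.of_apply, smul_eq_mul]
    linear_combination hw i j
  have hgood : Good ϕ n (Q * X * Q') := by
    refine ⟨h * g * h⁻¹, Q * Z * Q', ?_⟩
    rw [map_mul, map_mul, Units.val_mul, Units.val_mul, hg]
    show Q * _ * Q' = _
    simp only [mul_add, add_mul, mul_one, Matrix.smul_mul, Matrix.mul_smul, hQQ]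
  refine hgood.congr (W := -((W * X - Y * W) * Q')) ?_
  have h3 : Q * X * Q' - Y = (p : ℤ_[p]) • ((W * X - Y * W) * Q') := by
    have : Q * X * Q' - Y = (Q * X - Y * Q) * Q' := by
      rw [sub_mul, Matrix.mul_assoc Y, hQQ, mul_one]
    rw [this, hQ, ← Matrix.smul_mul]
    congr 1
    rw [smul_sub, add_mul, mul_add, Matrix.smul_mul, Matrix.mul_smul, e]
    abel
  rw [smul_neg, ← h3]
  abel

lemma Good.all (hn : 1 ≤ n) (hs : Function.Surjective ((Matrix.GeneralLinearGroup.map (n := Fin 2)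
      (PadicInt.toZMod (p := p))).comp ϕ)) {a : ℤ_[p]} (ha : IsUnit a)
    (h : Good ϕ n !![a, 0; 0, 0]) (X : Matrix (Fin 2) (Fin 2) ℤ_[p]) : Good ϕ n X := by
  obtain ⟨b, hb⟩ := ha.exists_right_inv
  have h11 : Good ϕ n !![(1 : ℤ_[p]), 0; 0, 0] := by
    have := h.smul hn b
    rw [Matrix.smul_of] at this
    simpa [mul_comm b a, hb] using this
  let S : GL (Fin 2) ℤ_[p] := Matrix.GeneralLinearGroup.mk'' !![(0 : ℤ_[p]), 1; 1, 0]
    (by simp [Matrix.det_fin_two])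
  let U : GL (Fin 2) ℤ_[p] := Matrix.GeneralLinearGroup.mk'' !![(1 : ℤ_[p]), 1; 0, 1]
    (by simp [Matrix.det_fin_two])
  let V : GL (Fin 2) ℤ_[p] := Matrix.GeneralLinearGroup.mk'' !![(1 : ℤ_[p]), 0; 1, 1]
    (by simp [Matrix.det_fin_two])
  have h22 : Good ϕ n !![(0 : ℤ_[p]), 0; 0, 1] := h11.conj hs S (by
    show !![(0 : ℤ_[p]), 1; 1, 0] * _ = _ * !![(0 : ℤ_[p]), 1; 1, 0]
    simp [Matrix.mul_fin_two])
  have hu : Good ϕ n !![(1 : ℤ_[p]), -1; 0, 0] := h11.conj hs U (by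
    show !![(1 : ℤ_[p]), 1; 0, 1] * _ = _ * !![(1 : ℤ_[p]), 1; 0, 1]
    simp [Matrix.mul_fin_two])
  have hv : Good ϕ n !![(1 : ℤ_[p]), 0; 1, 0] := h11.conj hs V (by
    show !![(1 : ℤ_[p]), 0; 1, 1] * _ = _ * !![(1 : ℤ_[p]), 0; 1, 1]
    simp [Matrix.mul_fin_two])
  have key := (((h11.smul hn (X 0 0 + X 0 1 - X 1 0)).add hn (h22.smul hn (X 1 1))).add hn
    (hu.smul hn (-X 0 1))).add hn (hv.smul hn (X 1 0))
  convert key using 1
  ext i j
  fin_cases i <;> fin_cases j <;> simp <;> ring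

end Aux

/-- Let 𝔊 be a profinite group and ϕ : 𝔊 → GL₂(ℤ_p) a continuous homomorphism. Then ϕ is surjective if
and only if (i) the composite of ϕ with reduction modulo p, 𝔊 → GL₂(𝔽_p), is surjective, and (ii)
for every integer n ≥ 1 there is g ∈ 𝔊 such that ϕ(g) has the form [[1 + pⁿa, pⁿ⁺¹b], [pⁿ⁺¹c, 1 +
pⁿ⁺¹d]] with a, b, c, d ∈ ℤ_p and a not divisible by p (equivalently: the image of ϕ⁻¹(1 +
pⁿM₂(ℤ_p)) in M₂(𝔽_p) under g ↦ (ϕ(g) − 1)/pⁿ contains a matrix [[x, 0], [0, 0]] with x ≠ 0).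
Continuity of ϕ is expressed through its matrix entries. -/
theorem result (p : ℕ) [Fact p.Prime]
    (𝔊 : Type u) [Group 𝔊] [TopologicalSpace 𝔊] [IsTopologicalGroup 𝔊] [CompactSpace 𝔊] [T2Space 𝔊]
    [TotallyDisconnectedSpace 𝔊]
    (ϕ : 𝔊 →* GL (Fin 2) ℤ_[p])
    (hϕ : Continuous fun g => ((ϕ g : GL (Fin 2) ℤ_[p]) : Matrix (Fin 2) (Fin 2) ℤ_[p])) :
    Function.Surjective ϕ ↔
      (Function.Surjective ((Matrix.GeneralLinearGroup.map (n := Fin 2) (PadicInt.toZMod (p := p))).comp ϕ) ∧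
        ∀ n : ℕ, 1 ≤ n → ∃ (g : 𝔊) (a b c d : ℤ_[p]), ¬ ((p : ℤ_[p]) ∣ a) ∧
          ((ϕ g : GL (Fin 2) ℤ_[p]) : Matrix (Fin 2) (Fin 2) ℤ_[p]) =
            !![1 + (p : ℤ_[p]) ^ n * a, (p : ℤ_[p]) ^ (n + 1) * b;
               (p : ℤ_[p]) ^ (n + 1) * c, 1 + (p : ℤ_[p]) ^ (n + 1) * d]) := by
  classical
  let M : GL (Fin 2) ℤ_[p] → Matrix (Fin 2) (Fin 2) ℤ_[p] := fun x => (x : Matrix (Fin 2) (Fin 2) ℤ_[p])
  have hnu : ∀ x : ℤ_[p], ¬ IsUnit x ↔ (p : ℤ_[p]) ∣ x := fun x => by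
    rw [← Ideal.mem_span_singleton, ← PadicInt.maximalIdeal_eq_span_p, IsLocalRing.mem_maximalIdeal]
    rfl
  constructor
  · intro hs
    refine ⟨?_, fun n hn => ?_⟩
    · intro γ
      choose l hl using fun i j => ZMod.ringHom_surjective (PadicInt.toZMod (p := p))
        ((γ : Matrix (Fin 2) (Fin 2) (ZMod p)) i j)
      have hmap : (PadicInt.toZMod (p := p)).mapMatrix (Matrix.of l) = (γ : Matrix (Fin 2) (Fin 2) (ZMod p)) := by
        ext i j; exact hl i j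
      have hu : IsUnit (Matrix.of l).det := by
        by_contra hc
        rw [← mem_nonunits_iff, ← IsLocalRing.mem_maximalIdeal, ← PadicInt.ker_toZMod, RingHom.mem_ker,
          RingHom.map_det, hmap] at hc
        exact ((Matrix.isUnit_iff_isUnit_det _).mp γ.isUnit).ne_zero hc
      obtain ⟨g, hg⟩ := hs (Matrix.GeneralLinearGroup.mk'' _ hu)
      refine ⟨g, Units.ext ?_⟩
      rw [MonoidHom.comp_apply, hg]
      exact hmap
    · have hp : (p : ℤ_[p]) ∣ (p : ℤ_[p]) ^ n := dvd_pow_self _ (by omega)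
      have hu : IsUnit (!![1 + (p : ℤ_[p]) ^ n, 0; 0, 1] : Matrix (Fin 2) (Fin 2) ℤ_[p]).det := by
        simp only [Matrix.det_fin_two_of, mul_one, mul_zero, sub_zero]
        by_contra hc
        rw [hnu] at hc
        exact (hnu 1).mpr ((dvd_add_left hp).mp hc) isUnit_one
      obtain ⟨g, hg⟩ := hs (Matrix.GeneralLinearGroup.mk'' _ hu)
      refine ⟨g, 1, 0, 0, 0, fun hc => (hnu 1).mpr hc isUnit_one, ?_⟩
      rw [hg]
      show (!![1 + (p : ℤ_[p]) ^ n, 0; 0, 1] : Matrix (Fin 2) (Fin 2) ℤ_[p]) = _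
      simp
  · rintro ⟨hs, h2⟩ γ
    have hall : ∀ n, 1 ≤ n → ∀ X, Aux.Good ϕ n X := by
      intro n hn X
      obtain ⟨g, a, b, c, d, ha, hg⟩ := h2 n hn
      refine Aux.Good.all hn hs (a := a) (by_contra fun h => ha ((hnu a).mp h)) ⟨g, !![0, b; c, d], ?_⟩ X
      rw [hg]
      ext i j
      fin_cases i <;> fin_cases j <;> simp <;> ring
    have happ : ∀ n, ∃ g W, M (ϕ g) = M γ + (p : ℤ_[p]) ^ (n + 1) • W := by
      intro n
      induction n with
      | zero =>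
        obtain ⟨g, hg⟩ := hs (Matrix.GeneralLinearGroup.map PadicInt.toZMod γ)
        have hd : ∀ i j, ∃ w, M (ϕ g) i j - M γ i j = (p : ℤ_[p]) * w := by
          intro i j
          have h1 := congrArg (fun x : GL (Fin 2) (ZMod p) => (x : Matrix (Fin 2) (Fin 2) (ZMod p)) i j) hg
          simp only [MonoidHom.comp_apply, Matrix.GeneralLinearGroup.map_apply] at h1
          have h2 : PadicInt.toZMod (M (ϕ g) i j - M γ i j) = 0 := by
            rw [map_sub, sub_eq_zero]; exact h1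
          rw [← RingHom.mem_ker, PadicInt.ker_toZMod, PadicInt.maximalIdeal_eq_span_p,
            Ideal.mem_span_singleton] at h2
          exact h2
        choose w hw using hd
        refine ⟨g, Matrix.of w, ?_⟩
        ext i j
        simp only [Matrix.add_apply, Matrix.smul_apply, Matrix.of_apply, smul_eq_mul, zero_add, pow_one]
        linear_combination hw i j
      | succ n ih =>
        obtain ⟨g, W, hg⟩ := ih
        obtain ⟨g', Z, hg'⟩ := hall (n + 1) (by omega) (-(M γ⁻¹ * W))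
        refine ⟨g * g', M γ * Z + (p : ℤ_[p]) ^ n • (W * (-(M γ⁻¹ * W) + (p : ℤ_[p]) • Z)), ?_⟩
        have hγ : M γ * M γ⁻¹ = 1 := γ.mul_inv
        show M (ϕ (g * g')) = _
        simp only [M, map_mul, Units.val_mul] at hg hg' hγ ⊢
        rw [hg, hg']
        simp only [add_mul, mul_add, mul_one, Matrix.smul_mul, Matrix.mul_smul, mul_neg, smul_neg,
          ← Matrix.mul_assoc, hγ, one_mul, smul_add, smul_smul, ← pow_succ]
        module
    choose g W hg using happ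
    have hclosed : IsClosed (Set.range fun g => M (ϕ g)) := (isCompact_range hϕ).isClosed
    have hlim : Filter.Tendsto (fun n => M (ϕ (g n))) Filter.atTop (nhds (M γ)) := by
      refine tendsto_pi_nhds.mpr fun i => tendsto_pi_nhds.mpr fun j => ?_
      simp only [hg, Matrix.add_apply, Matrix.smul_apply, smul_eq_mul]
      refine (tendsto_const_nhds.add ?_).trans (by rw [add_zero])
      rw [tendsto_zero_iff_norm_tendsto_zero]
      refine squeeze_zero (fun n => norm_nonneg _)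
        (fun n => (norm_mul_le _ _).trans (mul_le_of_le_one_right (norm_nonneg _) (PadicInt.norm_le_one _))) ?_
      simp only [norm_pow, PadicInt.norm_p]
      exact (tendsto_pow_atTop_nhds_zero_of_lt_one (by positivity)
        (inv_lt_one_of_one_lt₀ (by exact_mod_cast (Fact.out : p.Prime).one_lt))).comp
        (Filter.tendsto_add_atTop_nat 1)
    obtain ⟨g₀, hg₀⟩ := hclosed.mem_of_tendsto hlim (Filter.Eventually.of_forall fun n => ⟨g n, rfl⟩)
    exact ⟨g₀, Units.ext hg₀⟩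

end Groth.Agent.S15360
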