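import Groth.Statements.S15361
import Mathlib

set_option autoImplicit false
open GalCoh
open scoped Matrix

namespace Groth.Agent.S15361

open Matrix

variable {p : ℕ} [Fact p.Prime]

local notation "M₂" => Matrix (Fin 2) (Fin 2) (ZMod p)

/-- upper unipotent -/
def up (b : ZMod p) : GL (Fin 2) (ZMod p) :=
  ⟨!![1, b; 0, 1], !![1, -b; 0, 1], by ext i j; fin_cases i <;> fin_cases j <;> simp,
    by ext i j; fin_cases i <;> fin_cases j <;> simp⟩

/-- lower unipotent -/
def lo (b : ZMod p) : GL (Fin 2) (ZMod p) :=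
  ⟨!![1, 0; b, 1], !![1, 0; -b, 1], by ext i j; fin_cases i <;> fin_cases j <;> simp,
    by ext i j; fin_cases i <;> fin_cases j <;> simp⟩

lemma up_pow (b : ZMod p) (n : ℕ) : up b ^ n = up ((n : ZMod p) * b) := by
  induction n with
  | zero => ext i j; fin_cases i <;> fin_cases j <;> simp [up]
  | succ n ih => rw [pow_succ, ih]; ext i j; fin_cases i <;> fin_cases j <;> simp [up] <;> ring

lemma lo_pow (b : ZMod p) (n : ℕ) : lo b ^ n = lo ((n : ZMod p) * b) := by
  induction n with
  | zero => ext i j; fin_cases i <;> fin_cases j <;> simp [lo]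
  | succ n ih => rw [pow_succ, ih]; ext i j; fin_cases i <;> fin_cases j <;> simp [lo] <;> ring

/-- conjugating an element of order `p` so that it fixes a given vector -/
lemma exists_conj (H : Subgroup (GL (Fin 2) (ZMod p))) (hp : p ∣ Nat.card H)
    (htrans : ∀ v w : Fin 2 → ZMod p, v ≠ 0 → w ≠ 0 → ∃ h ∈ H, (h : M₂) *ᵥ v = w)
    (w : Fin 2 → ZMod p) (hw : w ≠ 0) :
    ∃ u ∈ H, u ≠ 1 ∧ u ^ p = 1 ∧ (u : M₂) *ᵥ w = w := by
  obtain ⟨u, hu⟩ := exists_prime_orderOf_dvd_card' p hp
  have hu' : orderOf (u : GL (Fin 2) (ZMod p)) = p := by rw [Subgroup.orderOf_coe, hu]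
  have hpow : (u : GL (Fin 2) (ZMod p)) ^ p = 1 := orderOf_dvd_iff_pow_eq_one.1 hu'.dvd
  have hne : (u : GL (Fin 2) (ZMod p)) ≠ 1 := fun h => by
    rw [h, orderOf_one] at hu'
    exact (Fact.out : p.Prime).one_lt.ne hu'
  have hnil : ((((u : GL (Fin 2) (ZMod p)) : M₂)) - 1) ^ p = 0 := by
    rw [sub_pow_char_of_commute p (Commute.one_right _), one_pow, ← Units.val_pow_eq_pow_val, hpow,
      Units.val_one, sub_self]
  have hdet : ((((u : GL (Fin 2) (ZMod p)) : M₂)) - 1).det = 0 := by
    have := congrArg Matrix.det hnil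
    rw [Matrix.det_pow, Matrix.det_zero] at this
    exact (pow_eq_zero_iff (Fact.out : p.Prime).ne_zero).1 this
  obtain ⟨v, hv0, hv⟩ := Matrix.exists_mulVec_eq_zero_iff.2 hdet
  rw [Matrix.sub_mulVec, Matrix.one_mulVec, sub_eq_zero] at hv
  obtain ⟨h, hh, hhv⟩ := htrans v w hv0 hw
  refine ⟨h * u * h⁻¹, H.mul_mem (H.mul_mem hh u.2) (H.inv_mem hh), ?_, ?_, ?_⟩
  · exact fun e => hne (conj_eq_one_iff.1 e)
  · rw [conj_pow, hpow, mul_one, mul_inv_cancel]
  · rw [← hhv]
    rw [Matrix.mulVec_mulVec, ← Units.val_mul, inv_mul_cancel_right, Units.val_mul,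
      ← Matrix.mulVec_mulVec, hv]

lemma up_mem (H : Subgroup (GL (Fin 2) (ZMod p))) {u : GL (Fin 2) (ZMod p)} (hu : u ∈ H)
    (hne : u ≠ 1) (hpow : u ^ p = 1) (hfix : (u : M₂) *ᵥ ![1, 0] = ![1, 0]) (b : ZMod p) :
    up b ∈ H := by
  have h00 : (u : M₂) 0 0 = 1 := by simpa [Matrix.mulVec, dotProduct, Fin.sum_univ_two] using congrFun hfix 0
  have h10 : (u : M₂) 1 0 = 0 := by simpa [Matrix.mulVec, dotProduct, Fin.sum_univ_two] using congrFun hfix 1
  have h11 : (u : M₂) 1 1 = 1 := by
    have := congrArg (fun g : GL (Fin 2) (ZMod p) => (g : M₂).det) hpow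
    simp only [Units.val_pow_eq_pow_val, Matrix.det_pow, Units.val_one, Matrix.det_one,
      ZMod.pow_card] at this
    rw [Matrix.det_fin_two, h00, h10] at this
    simpa using this
  have hu_eq : u = up ((u : M₂) 0 1) := by
    ext i j; fin_cases i <;> fin_cases j <;> simp [up, h00, h10, h11]
  have hx : (u : M₂) 0 1 ≠ 0 := fun h => hne (by
    rw [hu_eq, h]; ext i j; fin_cases i <;> fin_cases j <;> simp [up])
  have hn : ∀ n : ℕ, u ^ n = up ((n : ZMod p) * (u : M₂) 0 1) := fun n => by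
    rw [← up_pow, ← hu_eq]
  have hb : up b = u ^ (b / (u : M₂) 0 1).val := by
    rw [hn, ZMod.natCast_zmod_val, div_mul_cancel₀ _ hx]
  rw [hb]
  exact H.pow_mem hu _

lemma lo_mem (H : Subgroup (GL (Fin 2) (ZMod p))) {u : GL (Fin 2) (ZMod p)} (hu : u ∈ H)
    (hne : u ≠ 1) (hpow : u ^ p = 1) (hfix : (u : M₂) *ᵥ ![0, 1] = ![0, 1]) (b : ZMod p) :
    lo b ∈ H := by
  have h01 : (u : M₂) 0 1 = 0 := by simpa [Matrix.mulVec, dotProduct, Fin.sum_univ_two] using congrFun hfix 0
  have h11 : (u : M₂) 1 1 = 1 := by simpa [Matrix.mulVec, dotProduct, Fin.sum_univ_two] using congrFun hfix 1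
  have h00 : (u : M₂) 0 0 = 1 := by
    have := congrArg (fun g : GL (Fin 2) (ZMod p) => (g : M₂).det) hpow
    simp only [Units.val_pow_eq_pow_val, Matrix.det_pow, Units.val_one, Matrix.det_one,
      ZMod.pow_card] at this
    rw [Matrix.det_fin_two, h11, h01] at this
    simpa using this
  have hu_eq : u = lo ((u : M₂) 1 0) := by
    ext i j; fin_cases i <;> fin_cases j <;> simp [lo, h00, h01, h11]
  have hx : (u : M₂) 1 0 ≠ 0 := fun h => hne (by
    rw [hu_eq, h]; ext i j; fin_cases i <;> fin_cases j <;> simp [lo])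
  have hn : ∀ n : ℕ, u ^ n = lo ((n : ZMod p) * (u : M₂) 1 0) := fun n => by
    rw [← lo_pow, ← hu_eq]
  have hb : lo b = u ^ (b / (u : M₂) 1 0).val := by
    rw [hn, ZMod.natCast_zmod_val, div_mul_cancel₀ _ hx]
  rw [hb]
  exact H.pow_mem hu _

/-- the determinant is surjective on a quadratic subfield of the matrices -/
lemma exists_det (E : Subring M₂) (hE : IsField E) (hcard : Nat.card E = p ^ 2) (d : ZMod p) :
    ∃ M ∈ E, M.det = d := by
  have hscal : ∀ a : ZMod p, Matrix.scalar (Fin 2) a ∈ E := fun a => by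
    rw [← ZMod.natCast_zmod_val a, map_natCast]
    exact natCast_mem E _
  obtain ⟨g, hgE, hg⟩ : ∃ g ∈ E, ∀ a : ZMod p, g ≠ Matrix.scalar (Fin 2) a := by
    by_contra hcon
    push Not at hcon
    have h1 : Nat.card E ≤ Nat.card (ZMod p) := Nat.card_le_card_of_surjective
      (fun a => (⟨Matrix.scalar (Fin 2) a, hscal a⟩ : E))
      (fun x => (hcon x x.2).imp fun a ha => Subtype.ext ha.symm)
    rw [hcard, Nat.card_zmod] at h1
    have := (Fact.out : p.Prime).two_le
    nlinarith
  obtain ⟨a, b, hab⟩ : ∃ a b : ZMod p, (a + b * g 0 0) * (a + b * g 1 1) - b * g 0 1 * (b * g 1 0) = d := by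
    rcases (Fact.out : p.Prime).eq_two_or_odd with h2 | hodd
    · refine ⟨d, 0, ?_⟩
      have e : d ^ 2 = d := (congrArg (d ^ ·) h2.symm).trans (ZMod.pow_card d)
      simpa [← pow_two] using e
    · have h2 : (2 : ZMod p) ≠ 0 := by
        intro h
        have : p ∣ 2 := (ZMod.natCast_eq_zero_iff 2 p).1 (by exact_mod_cast h)
        have := Nat.le_of_dvd two_pos this
        have := (Fact.out : p.Prime).two_le
        omega
      set t := (g 0 0 + g 1 1) / 2 with ht
      set D := t ^ 2 - (g 0 0 * g 1 1 - g 0 1 * g 1 0) with hD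
      have hD0 : D ≠ 0 := by
        intro hD0
        have hD' : t ^ 2 - (g 0 0 * g 1 1 - g 0 1 * g 1 0) = 0 := hD ▸ hD0
        have e2 : g 0 0 + g 1 1 = 2 * t := by rw [ht]; field_simp
        have hN : (g - Matrix.scalar (Fin 2) t) * (g - Matrix.scalar (Fin 2) t) = 0 := by
          ext i j
          fin_cases i <;> fin_cases j <;>
            simp [Matrix.mul_apply, Fin.sum_univ_two]
          · linear_combination hD' + g 0 0 * e2
          · linear_combination g 0 1 * e2
          · linear_combination g 1 0 * e2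
          · linear_combination hD' + g 1 1 * e2
        have hxE : g - Matrix.scalar (Fin 2) t ∈ E := E.sub_mem hgE (hscal t)
        letI := hE.toField
        have : (⟨_, hxE⟩ : E) = 0 := mul_self_eq_zero.1 (Subtype.ext hN)
        exact hg t (sub_eq_zero.1 (congrArg Subtype.val this))
      obtain ⟨x, y, hxy⟩ := FiniteField.exists_root_sum_quadratic
        (f := (Polynomial.X : Polynomial (ZMod p)) ^ 2)
        (g := Polynomial.C (-D) * Polynomial.X ^ 2 - Polynomial.C d)
        (Polynomial.degree_X_pow 2)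
        (by
          have hdg : (Polynomial.C (-D) * Polynomial.X ^ 2 : Polynomial (ZMod p)).degree = 2 :=
            Polynomial.degree_C_mul_X_pow 2 (neg_ne_zero.2 hD0)
          have hlt : (Polynomial.C d).degree <
              (Polynomial.C (-D) * Polynomial.X ^ 2 : Polynomial (ZMod p)).degree := by
            rw [hdg]; exact lt_of_le_of_lt Polynomial.degree_C_le (by norm_num)
          rw [Polynomial.degree_sub_eq_left_of_degree_lt hlt, hdg])
        (by rw [ZMod.card]; exact hodd)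
      refine ⟨x - y * t, y, ?_⟩
      simp only [Polynomial.eval_pow, Polynomial.eval_X, Polynomial.eval_sub, Polynomial.eval_mul,
        Polynomial.eval_C] at hxy
      have e2 : g 0 0 + g 1 1 = 2 * t := by rw [ht]; field_simp
      rw [hD] at hxy
      linear_combination hxy + (x - y * t) * y * e2
  refine ⟨Matrix.scalar (Fin 2) a + Matrix.scalar (Fin 2) b * g,
    E.add_mem (hscal a) (E.mul_mem (hscal b) hgE), ?_⟩
  rw [Matrix.det_fin_two, ← hab]
  simp

/-- Let p be a prime and H a subgroup of GL₂(𝔽_p). Then H = GL₂(𝔽_p) if and only if (i) some non-split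
Cartan subgroup lies in H, i.e. some subgroup C ≤ H such that C ∪ {0} is a subfield of the matrix
algebra M₂(𝔽_p) with p² elements, and (ii) p divides the order of H. -/
theorem result (p : ℕ) [Fact p.Prime]
    (H : Subgroup (GL (Fin 2) (ZMod p))) :
    H = ⊤ ↔
      (∃ (C : Subgroup (GL (Fin 2) (ZMod p))) (E : Subring (Matrix (Fin 2) (Fin 2) (ZMod p))),
          C ≤ H ∧ IsField E ∧ Nat.card E = p ^ 2 ∧
            (E : Set (Matrix (Fin 2) (Fin 2) (ZMod p))) =
              insert 0 ((fun g : GL (Fin 2) (ZMod p) => (g : Matrix (Fin 2) (Fin 2) (ZMod p))) ''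
                (C : Set (GL (Fin 2) (ZMod p))))) ∧
        p ∣ Nat.card H := by
  classical
  constructor
  · rintro rfl
    haveI : Fintype (GaloisField p 2) := Fintype.ofFinite _
    let bs := Module.finBasisOfFinrankEq (ZMod p) (GaloisField p 2) (GaloisField.finrank p two_ne_zero)
    let φ := (Algebra.leftMulMatrix bs).toRingHom
    have hφ : Function.Injective φ := Algebra.leftMulMatrix_injective bs
    let C : Subgroup (GL (Fin 2) (ZMod p)) :=
      (Units.map (φ : GaloisField p 2 →* Matrix (Fin 2) (Fin 2) (ZMod p))).range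
    refine ⟨⟨C, φ.range, le_top, ?_, ?_, ?_⟩, ?_⟩
    · exact MulEquiv.isField (Field.toIsField (GaloisField p 2))
        (RingEquiv.ofBijective φ.rangeRestrict ⟨fun a b h => hφ (congrArg Subtype.val h),
          φ.rangeRestrict_surjective⟩).symm.toMulEquiv
    · rw [← GaloisField.card p 2 two_ne_zero]
      exact Nat.card_range_of_injective hφ
    · ext M
      simp only [SetLike.mem_coe, RingHom.mem_range, Set.mem_insert_iff, Set.mem_image]
      constructor
      · rintro ⟨x, rfl⟩
        by_cases hx : x = 0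
        · exact Or.inl (by rw [hx, map_zero])
        · exact Or.inr ⟨_, ⟨Units.mk0 x hx, rfl⟩, rfl⟩
      · rintro (rfl | ⟨_, ⟨x, rfl⟩, rfl⟩)
        · exact ⟨0, map_zero _⟩
        · exact ⟨x, rfl⟩
    · have h1 : orderOf (up (1 : ZMod p)) = p := by
        refine orderOf_eq_prime ?_ fun h => ?_
        · rw [up_pow, ZMod.natCast_self, zero_mul]
          ext i j; fin_cases i <;> fin_cases j <;> simp [up]
        · have := congrArg (fun g : GL (Fin 2) (ZMod p) => (g : Matrix (Fin 2) (Fin 2) (ZMod p)) 0 1) h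
          simp [up] at this
      rw [Subgroup.card_top]
      conv_lhs => rw [← h1]
      exact orderOf_dvd_natCard _
  · rintro ⟨⟨C, E, hCH, hE, hcard, hEC⟩, hp⟩
    have hEH : ∀ x ∈ E, x ≠ 0 → ∃ h ∈ H, (h : Matrix (Fin 2) (Fin 2) (ZMod p)) = x := by
      intro x hx hx0
      rw [← SetLike.mem_coe, hEC, Set.mem_insert_iff] at hx
      obtain ⟨c, hc, hcx⟩ := hx.resolve_left hx0
      exact ⟨c, hCH hc, hcx⟩
    have htrans : ∀ v w : Fin 2 → ZMod p, v ≠ 0 → w ≠ 0 →
        ∃ h ∈ H, (h : Matrix (Fin 2) (Fin 2) (ZMod p)) *ᵥ v = w := by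
      intro v w hv hw
      have hbij : Function.Bijective fun x : E => (x : Matrix (Fin 2) (Fin 2) (ZMod p)) *ᵥ v := by
        refine (Nat.bijective_iff_injective_and_card _).2 ⟨fun x y hxy => ?_, ?_⟩
        · by_contra hne
          obtain ⟨c, -, hc⟩ := hEH _ (x - y).2 (fun e => hne (sub_eq_zero.1 (Subtype.ext e)))
          have h0 : (c : Matrix (Fin 2) (Fin 2) (ZMod p)) *ᵥ v = 0 := by
            rw [hc, AddSubgroupClass.coe_sub, Matrix.sub_mulVec, sub_eq_zero]; exact hxy
          apply hv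
          have := congrArg ((↑c⁻¹ : Matrix (Fin 2) (Fin 2) (ZMod p)) *ᵥ ·) h0
          rwa [Matrix.mulVec_mulVec, ← Units.val_mul, inv_mul_cancel, Units.val_one,
            Matrix.one_mulVec, Matrix.mulVec_zero] at this
        · rw [hcard, Nat.card_fun, Nat.card_zmod, Nat.card_fin]
      obtain ⟨x, hx⟩ := hbij.2 w
      obtain ⟨h, hh, hhx⟩ := hEH x x.2 (fun e => hw (by rw [← hx]; simp [e]))
      exact ⟨h, hh, by rw [hhx]; exact hx⟩
    obtain ⟨u, hu, hu1, hu2, hu3⟩ := exists_conj H hp htrans ![1, 0] (by simp)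
    obtain ⟨u', hu', hu1', hu2', hu3'⟩ := exists_conj H hp htrans ![0, 1] (by simp)
    have hup := up_mem H hu hu1 hu2 hu3
    have hlo := lo_mem H hu' hu1' hu2' hu3'
    -- move to the stabiliser of the first basis vector
    have hmove : ∀ g : GL (Fin 2) (ZMod p), ∃ t ∈ H,
        ((t * g : GL (Fin 2) (ZMod p)) : Matrix (Fin 2) (Fin 2) (ZMod p)) 0 0 = 1 ∧
        ((t * g : GL (Fin 2) (ZMod p)) : Matrix (Fin 2) (Fin 2) (ZMod p)) 1 0 = 0 ∧
        (t : Matrix (Fin 2) (Fin 2) (ZMod p)).det = 1 := by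
      intro g
      by_cases hy : (g : Matrix (Fin 2) (Fin 2) (ZMod p)) 1 0 = 0
      · have hx : (g : Matrix (Fin 2) (Fin 2) (ZMod p)) 0 0 ≠ 0 := by
          intro hx
          have := (Matrix.isUnit_iff_isUnit_det _).1 g.isUnit
          rw [Matrix.det_fin_two, hx, hy] at this
          simp at this
        set x := (g : Matrix (Fin 2) (Fin 2) (ZMod p)) 0 0 with hxdef
        refine ⟨lo (-x) * up ((1 - x) / x) * lo 1, H.mul_mem (H.mul_mem (hlo _) (hup _)) (hlo _),
          ?_, ?_, ?_⟩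
        · simp [up, lo, Matrix.mul_apply, Fin.sum_univ_two, hy, ← hxdef]; field_simp; first | ring1 | simp
        · simp [up, lo, Matrix.mul_apply, Fin.sum_univ_two, hy, ← hxdef]; field_simp; first | ring1 | simp
        · simp [up, lo, Matrix.det_fin_two]; ring
      · set x := (g : Matrix (Fin 2) (Fin 2) (ZMod p)) 0 0 with hxdef
        set y := (g : Matrix (Fin 2) (Fin 2) (ZMod p)) 1 0 with hydef
        refine ⟨lo (-y) * up ((1 - x) / y), H.mul_mem (hlo _) (hup _), ?_, ?_, ?_⟩
        · simp [up, lo, Matrix.mul_apply, Fin.sum_univ_two, ← hxdef, ← hydef]; field_simp; first | ring1 | simp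
        · simp [up, lo, Matrix.mul_apply, Fin.sum_univ_two, ← hxdef, ← hydef]; field_simp; first | ring1 | simp
        · simp [up, lo, Matrix.det_fin_two]; ring
    rw [eq_top_iff]
    intro g _
    obtain ⟨t, ht, hg0, hg1, htdet⟩ := hmove g
    obtain ⟨M, hM, hMdet⟩ := exists_det E hE hcard (g : Matrix (Fin 2) (Fin 2) (ZMod p)).det
    obtain ⟨h, hh, hhM⟩ := hEH M hM (fun e => by
      rw [e, Matrix.det_zero] at hMdet
      exact ((Matrix.isUnit_iff_isUnit_det _).1 g.isUnit).ne_zero hMdet.symm)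
    obtain ⟨t', ht', hh0, hh1, ht'det⟩ := hmove h
    set A := ((t * g : GL (Fin 2) (ZMod p)) : Matrix (Fin 2) (Fin 2) (ZMod p)) with hA
    set B := ((t' * h : GL (Fin 2) (ZMod p)) : Matrix (Fin 2) (Fin 2) (ZMod p)) with hB
    have hA11 : A 1 1 = (g : Matrix (Fin 2) (Fin 2) (ZMod p)).det := by
      have : A.det = (g : Matrix (Fin 2) (Fin 2) (ZMod p)).det := by
        rw [hA, Units.val_mul, Matrix.det_mul, htdet, one_mul]
      rw [Matrix.det_fin_two, hg0, hg1] at this
      simpa using this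
    have hB11 : B 1 1 = (g : Matrix (Fin 2) (Fin 2) (ZMod p)).det := by
      have : B.det = (g : Matrix (Fin 2) (Fin 2) (ZMod p)).det := by
        rw [hB, Units.val_mul, Matrix.det_mul, ht'det, one_mul, hhM, hMdet]
      rw [Matrix.det_fin_two, hh0, hh1] at this
      simpa using this
    have hdne : (g : Matrix (Fin 2) (Fin 2) (ZMod p)).det ≠ 0 :=
      ((Matrix.isUnit_iff_isUnit_det _).1 g.isUnit).ne_zero
    have key : t * g = up ((A 0 1 - B 0 1) / (g : Matrix (Fin 2) (Fin 2) (ZMod p)).det) * (t' * h) := by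
      ext i j
      rw [Units.val_mul (up _), ← hA, ← hB]
      fin_cases i <;> fin_cases j <;>
        simp [up, Matrix.mul_apply, Fin.sum_univ_two, hg0, hg1, hh0, hh1, hA11, hB11]
      field_simp
      ring
    have : t * g ∈ H := key ▸ H.mul_mem (hup _) (H.mul_mem ht' hh)
    simpa using H.mul_mem (H.inv_mem ht) this

end Groth.Agent.S15361
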