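import Groth.Statements.S15362
-- import your own Groth.Agent.* helpers here

set_option autoImplicit false
universe u v w
open CAlg

namespace Groth.Agent.S15362

/-- For an algebraically closed field L of characteristic p > 0, a commutative L-algebra R integral over
L, and a finitely presented R-module M carrying an additive endomorphism φ with φ(r·m) = r^p·φ(m)
for r ∈ R, m ∈ M, the map m ↦ φ(m) − m is onto. (R is taken of exponential characteristic p so that
its Frobenius is a ring endomorphism; for a non-zero L-algebra this is automatic.) -/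
theorem result (p : ℕ) [Fact p.Prime]
    (L : Type u) [Field L] [IsAlgClosed L] [CharP L p]
    (R : Type v) [CommRing R] [Algebra L R] [Algebra.IsIntegral L R] [ExpChar R p]
    (M : Type w) [AddCommGroup M] [Module R M] [Module.FinitePresentation R M]
    (φ : M →ₛₗ[frobenius R p] M) :
    Function.Surjective fun m : M => φ m - m := by
  classical
  letI : Module L M := Module.compHom M (algebraMap L R)
  haveI : IsScalarTower L R M := ⟨fun c r m => by
    show (c • r) • m = algebraMap L R c • (r • m)
    rw [Algebra.smul_def, mul_smul]⟩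
  have hsmul : ∀ (c : L) (m : M), φ (c • m) = (c ^ p) • φ m := fun c m => by
    show φ (algebraMap L R c • m) = algebraMap L R (c ^ p) • φ m
    rw [φ.map_smulₛₗ, map_pow]; rfl
  obtain ⟨N, g, hg⟩ := Module.Finite.exists_fin (R := R) (M := M)
  intro v
  have hrep : ∀ m : M, ∃ c : Fin N → R, ∑ i, c i • g i = m := fun m =>
    (Submodule.mem_span_range_iff_exists_fun R).1 (hg ▸ Submodule.mem_top)
  choose cf hcf using hrep
  set T : Set R := Set.range (fun ij : Fin N × Fin N => cf (φ (g ij.1)) ij.2) ∪ Set.range (cf v) with hT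
  set R0 : Subalgebra L R := Algebra.adjoin L T with hR0
  haveI : Module.Finite L R0 := by
    refine Module.Finite.iff_fg.2 (fg_adjoin_of_finite ((Set.finite_range _).union (Set.finite_range _)) fun x _ => ?_)
    exact Algebra.IsIntegral.isIntegral x
  let Φ : (Fin N → R0) →ₗ[L] M :=
    { toFun := fun c => ∑ i, (c i : R) • g i
      map_add' := fun a b => by simp [add_smul, Finset.sum_add_distrib]
      map_smul' := fun l a => by simp [Finset.smul_sum, smul_assoc] }
  have hΦ : ∀ c : Fin N → R, (∀ i, c i ∈ R0) → ∑ i, c i • g i ∈ LinearMap.range Φ := fun c hc =>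
    ⟨fun i => ⟨c i, hc i⟩, rfl⟩
  set e : ℕ → M := fun i => (⇑φ)^[i] v with he
  have hesucc : ∀ i, e (i + 1) = φ (e i) := fun i => Function.iterate_succ_apply' _ _ _
  have hW : ∀ i, e i ∈ LinearMap.range Φ := by
    intro i
    induction i with
    | zero =>
      show v ∈ _
      rw [← hcf v]
      exact hΦ _ (fun j => Algebra.subset_adjoin (Or.inr ⟨j, rfl⟩))
    | succ i ih =>
      obtain ⟨c, hc⟩ := ih
      have hc' : e i = ∑ j, (c j : R) • g j := hc.symm
      have : φ (∑ j, (c j : R) • g j) = ∑ k, (∑ j, (c j : R) ^ p * cf (φ (g j)) k) • g k := by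
        simp only [map_sum, φ.map_smulₛₗ, frobenius_def, Finset.sum_smul, mul_smul]
        rw [Finset.sum_comm]
        refine Finset.sum_congr rfl fun j _ => ?_
        rw [← Finset.smul_sum, hcf]
      rw [hesucc, hc', this]
      exact hΦ _ fun k => Subalgebra.sum_mem _ fun j _ =>
        mul_mem (pow_mem (c j).2 _) (Algebra.subset_adjoin (Or.inl ⟨(j, k), rfl⟩))
  obtain ⟨n, hn⟩ : ∃ n : ℕ, e n ∈ Submodule.span L (e '' Set.Iio n) := by
    haveI : IsNoetherian L (LinearMap.range Φ) := inferInstance
    let S : ℕ →o Submodule L (LinearMap.range Φ) :=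
      ⟨fun n => (Submodule.span L (e '' Set.Iio n)).comap (LinearMap.range Φ).subtype, fun a b hab =>
        Submodule.comap_mono (Submodule.span_mono (Set.image_mono (Set.Iio_subset_Iio hab)))⟩
    obtain ⟨n, hn⟩ := monotone_stabilizes_iff_noetherian.2 inferInstance S
    refine ⟨n, ?_⟩
    have h1 : (⟨e n, hW n⟩ : LinearMap.range Φ) ∈ S (n + 1) :=
      Submodule.subset_span ⟨n, Nat.lt_succ_self n, rfl⟩
    rw [← hn (n + 1) (Nat.le_succ n)] at h1
    exact h1
  rcases n with _ | m
  · refine ⟨0, ?_⟩
    simp at hn
    show φ 0 - 0 = v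
    simpa [he] using hn.symm
  · have hset : e '' Set.Iio (m + 1) = Set.range fun i : Fin (m + 1) => e i := by
      ext x; constructor
      · rintro ⟨i, hi, rfl⟩; exact ⟨⟨i, hi⟩, rfl⟩
      · rintro ⟨i, rfl⟩; exact ⟨i, i.2, rfl⟩
    rw [hset] at hn
    obtain ⟨b', hb'⟩ := (Submodule.mem_span_range_iff_exists_fun L).1 hn
    set b : ℕ → L := fun i => if h : i < m + 1 then b' ⟨i, h⟩ else 0 with hb
    have hem : e (m + 1) = ∑ i ∈ Finset.range (m + 1), b i • e i := by
      rw [← hb', Finset.sum_range]
      refine Finset.sum_congr rfl fun i _ => ?_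
      simp only [hb, dif_pos i.2, Fin.eta]
    let P : ℕ → Polynomial L := fun i => Nat.rec (Polynomial.X ^ p * Polynomial.C (b 0) - 1)
      (fun j Pj => Pj ^ p + Polynomial.X ^ p * Polynomial.C (b (j + 1))) i
    have hpL : (p : L) = 0 := CharP.cast_eq_zero L p
    have hder : ∀ i, Polynomial.derivative (P i) = 0 := by
      intro i
      cases i with
      | zero => simp [P, Polynomial.derivative_pow, hpL]
      | succ i => simp [P, Polynomial.derivative_pow, hpL]
    have hdeg : (P m - Polynomial.X).degree ≠ 0 := fun h => by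
      have h' := Polynomial.eq_C_of_degree_le_zero h.le
      have := congrArg Polynomial.derivative h'
      simp [hder] at this
    obtain ⟨x, hx⟩ := IsAlgClosed.exists_root _ hdeg
    have hxm : (P m).eval x = x := by simpa [Polynomial.IsRoot, sub_eq_zero] using hx
    let c : ℕ → L := fun i => (P i).eval x
    have hc0 : c 0 = x ^ p * b 0 - 1 := by
      show (Polynomial.X ^ p * Polynomial.C (b 0) - 1).eval x = _
      simp only [Polynomial.eval_sub, Polynomial.eval_mul, Polynomial.eval_pow, Polynomial.eval_X, Polynomial.eval_C, Polynomial.eval_one]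
    have hcs : ∀ i, c (i + 1) = c i ^ p + x ^ p * b (i + 1) := fun i => by
      show (P i ^ p + Polynomial.X ^ p * Polynomial.C (b (i + 1))).eval x = _
      simp only [Polynomial.eval_add, Polynomial.eval_mul, Polynomial.eval_pow, Polynomial.eval_X, Polynomial.eval_C]
      rfl
    refine ⟨∑ i ∈ Finset.range (m + 1), c i • e i, ?_⟩
    show φ (∑ i ∈ Finset.range (m + 1), c i • e i) - (∑ i ∈ Finset.range (m + 1), c i • e i) = v
    have h1 : φ (∑ i ∈ Finset.range (m + 1), c i • e i) =
        ∑ i ∈ Finset.range (m + 1), c i ^ p • e (i + 1) := by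
      rw [map_sum]
      exact Finset.sum_congr rfl fun i _ => by rw [hsmul, hesucc]
    have hcm : c m = x := hxm
    rw [h1, Finset.sum_range_succ, hcm, hem, Finset.smul_sum, Finset.sum_range_succ' (fun i => x ^ p • b i • e i),
      Finset.sum_range_succ' (fun i => c i • e i)]
    simp only [hcs, hc0, sub_smul, add_smul, one_smul, mul_smul, Finset.sum_add_distrib]
    show _ = e 0
    abel

end Groth.Agent.S15362
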