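import Groth.Statements.S15364
-- import your own Groth.Agent.* helpers here
import Groth.Agent.Lib.Rigidity.SmoothGroup
import Groth.Agent.Lib.Rigidity.Relative.Descent
import Mathlib.AlgebraicGeometry.Morphisms.QuasiFinite
import Mathlib.Topology.Separation.Connected

set_option autoImplicit false
universe u
open CategoryTheory CategoryTheory.Limits MonoidalCategory CartesianMonoidalCategory AlgebraicGeometry
open AbSch

namespace Groth.Agent.S15364

/-- For an abelian scheme f : A → T (a commutative T-group scheme, proper and smooth over T with
geometrically connected fibres) and a commutative group scheme H finite and locally free over T, the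
adjunction map H → f_* f^* H of fppf sheaves on T is an isomorphism, i.e. for every T-scheme U the
map H(U) → H(A ×_T U), s ↦ s ∘ pr, is bijective. This row states the case U = T, to which the
general case reduces by base change: composition with the structure morphism A → T is a bijection
from the sections of H over T onto the T-morphisms A → H. The group structure of H plays no role and
is not assumed. (The published statement has an arbitrary base T; the published argument rests on
the rigidity lemma in its form for Noetherian schemes, so T is taken locally Noetherian here.) -/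
theorem result {T : Scheme.{u}} [IsLocallyNoetherian T]
    (A : Over T) [GrpObj A] [IsCommMonObj A] [IsProper A.hom] [Smooth A.hom] [GeometricallyConnected A.hom]
    (H : Over T) [IsFinite H.hom] [Flat H.hom] [LocallyOfFinitePresentation H.hom] :
    Function.Bijective fun s : (𝟙_ (Over T) ⟶ H) => toUnit A ≫ s := by
  haveI : GeometricallyReduced A.hom := ⟨fun _ _ _ _ _ snd h =>
    have : Smooth snd := MorphismProperty.of_isPullback h ‹_›
    GrothLib.Rigidity.isReduced_of_smooth snd⟩
  have hret : (MonObj.one (X := A)) ≫ toUnit A = 𝟙 _ := Subsingleton.elim _ _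
  refine ⟨fun s s' h => ?_, fun f => ⟨(MonObj.one (X := A)) ≫ f, ?_⟩⟩
  · have := congrArg (fun z => (MonObj.one (X := A)) ≫ z) h
    simpa [← Category.assoc, hret] using this
  obtain ⟨W, -, hWiff, hWeq⟩ := GrothLib.Rigidity.exists_isClopen_factor_of_section A.hom (MonObj.one (X := A)).left (Over.w (MonObj.one (X := A)))
    (𝟙 T) H.hom f.left (by rw [Over.w, Category.comp_id])
  have hall : ∀ t : T, t ∈ W := by
    intro t
    rw [← hWiff]
    have hconn : _root_.IsPreconnected (f.left '' (A.hom ⁻¹' {t})) :=
      (A.hom.isConnected_preimage_singleton t).2.image _ f.left.continuous.continuousOn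
    have hsub : f.left '' (A.hom ⁻¹' {t}) ⊆ H.hom ⁻¹' {t} := by
      rintro _ ⟨a, ha, rfl⟩
      show H.hom (f.left a) = t
      rw [← Scheme.Hom.comp_apply, Over.w]; exact ha
    haveI : DiscreteTopology ↥(f.left '' (A.hom ⁻¹' {t})) :=
      isDiscrete_iff_discreteTopology.mp ((H.hom.isDiscrete_preimage_singleton t).mono hsub)
    haveI := isPreconnected_iff_preconnectedSpace.mp hconn
    exact Set.subsingleton_coe _ |>.mp PreconnectedSpace.trivial_of_discrete
  have htop : (A.hom ⁻¹ᵁ W) = ⊤ := eq_top_iff.mpr fun z _ => hall _
  haveI : IsIso (A.hom ⁻¹ᵁ W).ι := by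
    rw [htop, ← Scheme.topIso_hom]
    infer_instance
  refine Over.OverMorphism.ext ?_
  rw [← cancel_epi (A.hom ⁻¹ᵁ W).ι, hWeq]
  simp [Over.comp_left, Over.toUnit_left]

end Groth.Agent.S15364
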