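import Groth.Statements.S15365
import Mathlib.RingTheory.Smooth.StandardSmoothCotangent
import Mathlib.Algebra.TrivSqZeroExt.Basic

set_option autoImplicit false
universe u
open scoped BigOperators
open CAlg

namespace Groth.Agent.S15365

/-- Let A be a commutative ring of characteristic p > 0 and (h_{ij})_{1 ≤ i,j ≤ n} a square matrix over
A, the matrix of a commutative p-Lie algebra (L, φ) with L free with basis e_1, …, e_n and φ(e_j) =
Σ_i h_{ij} e_i. The associated finite group scheme Spec A[X_1, …, X_n]/(X_j^p − Σ_i h_{ij} X_i)_{1 ≤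
j ≤ n} is étale over A if and only if the matrix (h_{ij}) is invertible, i.e. its determinant is a
unit of A. Only the algebra structure enters this assertion. -/
theorem result (p : ℕ) [Fact p.Prime]
    (A : Type u) [CommRing A] [CharP A p] (n : ℕ) (h : Matrix (Fin n) (Fin n) A) :
    Algebra.Etale A (MvPolynomial (Fin n) A ⧸ Ideal.span (Set.range fun j : Fin n =>
        (MvPolynomial.X j : MvPolynomial (Fin n) A) ^ p -
          ∑ i : Fin n, MvPolynomial.C (h i j) * MvPolynomial.X i)) ↔
      IsUnit h.det := by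
  classical
  have hp : p ≠ 0 := (Fact.out : p.Prime).ne_zero
  let v : Fin n → MvPolynomial (Fin n) A := fun j =>
    (MvPolynomial.X j : MvPolynomial (Fin n) A) ^ p -
      ∑ i : Fin n, MvPolynomial.C (h i j) * MvPolynomial.X i
  let P := Algebra.PreSubmersivePresentation.naive (R := A) (v := v) id Function.injective_id
  have hjm : P.jacobiMatrix = (-h).map MvPolynomial.C := by
    refine Matrix.ext fun i j => ?_
    refine (Algebra.PreSubmersivePresentation.jacobiMatrix_naive (v := v) _ _ _ _ i j).trans ?_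
    show MvPolynomial.pderiv i (v j) = _
    simp [v, MvPolynomial.pderiv_X, Pi.single_apply, Finset.sum_ite_eq', Finset.sum_ite_eq,
      CharP.cast_eq_zero (MvPolynomial (Fin n) A) p]
  constructor
  · intro het
    by_contra hdet
    obtain ⟨m, hm, hdm⟩ := exists_max_ideal_of_mem_nonunits hdet
    let := Ideal.Quotient.field m
    have hdet0 : (h.map (Ideal.Quotient.mk m)).transpose.det = 0 := by
      rw [Matrix.det_transpose, ← RingHom.mapMatrix_apply, ← RingHom.map_det]
      exact Ideal.Quotient.eq_zero_iff_mem.2 hdm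
    obtain ⟨w, hw0, hw⟩ := Matrix.exists_mulVec_eq_zero_iff.2 hdet0
    let I : Ideal (TrivSqZeroExt (A ⧸ m) (A ⧸ m)) :=
      RingHom.ker (TrivSqZeroExt.fstHom A (A ⧸ m) (A ⧸ m))
    have hI : I ^ 2 = ⊥ := by
      rw [pow_two, eq_bot_iff, Ideal.mul_le]
      intro x hx y hy
      have hx' : TrivSqZeroExt.fst x = 0 := hx
      have hy' : TrivSqZeroExt.fst y = 0 := hy
      rw [Submodule.mem_bot]
      ext <;> simp [hx', hy']
    let e₀ := MvPolynomial.aeval (R := A) fun _ : Fin n => (0 : TrivSqZeroExt (A ⧸ m) (A ⧸ m))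
    let e₁ := MvPolynomial.aeval (R := A) fun i : Fin n =>
      (TrivSqZeroExt.inr (w i) : TrivSqZeroExt (A ⧸ m) (A ⧸ m))
    have hsq : ∀ c : A ⧸ m,
        (TrivSqZeroExt.inr c : TrivSqZeroExt (A ⧸ m) (A ⧸ m)) ^ p = 0 := by
      intro c
      obtain ⟨q, hq⟩ := Nat.exists_eq_add_of_le (Fact.out : p.Prime).two_le
      rw [hq, pow_add, pow_two, TrivSqZeroExt.inr_mul_inr, zero_mul]
    have h₀ : ∀ x ∈ Ideal.span (Set.range v), e₀ x = 0 := by
      intro x hx
      refine (Ideal.span_le (I := RingHom.ker e₀)).2 ?_ hx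
      rintro _ ⟨j, rfl⟩
      simp [v, e₀, hp, RingHom.mem_ker]
    have h₁ : ∀ x ∈ Ideal.span (Set.range v), e₁ x = 0 := by
      intro x hx
      refine (Ideal.span_le (I := RingHom.ker e₁)).2 ?_ hx
      rintro _ ⟨j, rfl⟩
      have hj : ∑ i, algebraMap A (A ⧸ m) (h i j) * w i = 0 := congrFun hw j
      have hterm : ∀ i, algebraMap A (TrivSqZeroExt (A ⧸ m) (A ⧸ m)) (h i j) *
          TrivSqZeroExt.inr (w i) = TrivSqZeroExt.inr (algebraMap A (A ⧸ m) (h i j) * w i) := by
        intro i
        rw [TrivSqZeroExt.algebraMap_eq_inl', TrivSqZeroExt.inl_mul_inr, smul_eq_mul]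
      simp only [SetLike.mem_coe, RingHom.mem_ker, v, e₁, map_sub, map_pow, map_sum, map_mul,
        MvPolynomial.aeval_X, MvPolynomial.aeval_C, hsq, hterm]
      rw [← TrivSqZeroExt.inr_sum]
      simp [← Ideal.Quotient.algebraMap_eq, hj]
    have heq := Algebra.FormallyUnramified.comp_injective (R := A) I hI
      (a₁ := Ideal.Quotient.liftₐ _ e₀ h₀) (a₂ := Ideal.Quotient.liftₐ _ e₁ h₁) (by
        refine Ideal.Quotient.algHom_ext _ (MvPolynomial.algHom_ext fun i => ?_)
        simp only [AlgHom.comp_apply, Ideal.Quotient.mkₐ_eq_mk]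
        refine Ideal.Quotient.eq.2 ?_
        show TrivSqZeroExt.fst (e₀ (MvPolynomial.X i) - e₁ (MvPolynomial.X i)) = 0
        simp [e₀, e₁])
    refine hw0 (funext fun i => ?_)
    have hi := DFunLike.congr_fun heq (Ideal.Quotient.mk _ (MvPolynomial.X i))
    have hi' : e₀ (MvPolynomial.X i) = e₁ (MvPolynomial.X i) := hi
    simp only [e₀, e₁, MvPolynomial.aeval_X] at hi'
    simpa using (congrArg TrivSqZeroExt.snd hi').symm
  · intro hdet
    let S : Algebra.SubmersivePresentation A (MvPolynomial (Fin n) A ⧸ Ideal.span (Set.range v))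
        (Fin n) (Fin n) :=
      { P with
        jacobian_isUnit := by
          rw [Algebra.PreSubmersivePresentation.jacobian_eq_jacobiMatrix_det, hjm,
            ← RingHom.mapMatrix_apply, ← RingHom.map_det]
          refine (IsUnit.map _ ?_).map _
          rw [Matrix.det_neg]
          exact (isUnit_one.neg.pow _).mul hdet }
    haveI : Algebra.IsStandardSmoothOfRelativeDimension 0 A
        (MvPolynomial (Fin n) A ⧸ Ideal.span (Set.range v)) :=
      S.isStandardSmoothOfRelativeDimension (by simp [Algebra.Presentation.dimension])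
    infer_instance

end Groth.Agent.S15365
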