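import Groth.Statements.S15366
import Mathlib
-- import your own Groth.Agent.* helpers here

set_option autoImplicit false
universe u
open CAlg

namespace Groth.Agent.S15366

/-- Let k be an algebraically closed field of characteristic p > 0, R = k[[t₁, t₂]], and O = R_{(t₁)}
the local ring of Spec R at the generic point x of the divisor t₁ = 0 (a discrete valuation ring,
with uniformizer t₁ and residue field k((t₂))). Then O embeds, by an injective local k-algebra map
φ, into some complete discrete valuation ring A containing k whose residue field is algebraically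
closed and in which φ(t₁) is still a uniformizer. The prime ideal (t₁) is passed as an ideal P equal
to it together with its primality. -/
theorem result
    (p : ℕ) [Fact p.Prime] (k : Type u) [Field k] [IsAlgClosed k] [CharP k p]
    (P : Ideal (MvPowerSeries (Fin 2) k))
    (hP : P = Ideal.span {(MvPowerSeries.X 0 : MvPowerSeries (Fin 2) k)}) [P.IsPrime] :
    ∃ (A : Type u) (_ : CommRing A) (_ : IsDomain A) (_ : IsDiscreteValuationRing A) (_ : Algebra k A)
      (φ : Localization.AtPrime P →ₐ[k] A),
      IsAdicComplete (IsLocalRing.maximalIdeal A) A ∧ IsAlgClosed (IsLocalRing.ResidueField A) ∧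
        Function.Injective φ ∧ IsLocalHom φ.toRingHom ∧
          Irreducible (φ (algebraMap (MvPowerSeries (Fin 2) k) (Localization.AtPrime P)
            (MvPowerSeries.X 0))) := by
  classical
  let R₁ := MvPowerSeries (Fin 1) k
  let L := AlgebraicClosure (FractionRing R₁)
  let e : MvPowerSeries (Fin 2) k ≃ₐ[k] PowerSeries R₁ := MvPowerSeries.finSuccEquiv k 1
  let ι : R₁ →ₐ[k] L := (IsScalarTower.toAlgHom k (FractionRing R₁) L).comp (IsScalarTower.toAlgHom k R₁ (FractionRing R₁))
  have hι : Function.Injective ι := (algebraMap (FractionRing R₁) L).injective.comp (IsFractionRing.injective R₁ _)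
  let ψ : MvPowerSeries (Fin 2) k →ₐ[k] PowerSeries L := (PowerSeries.mapAlgHom ι).comp e.toAlgHom
  have hψ0 : ψ (MvPowerSeries.X 0) = PowerSeries.X := by
    show PowerSeries.map ι.toRingHom (MvPowerSeries.finSuccEquiv k 1 (MvPowerSeries.X 0)) = _
    rw [MvPowerSeries.finSuccEquiv_X_zero, PowerSeries.map_X]
  have hψ : Function.Injective ψ := by
    intro a b h
    refine e.injective (PowerSeries.ext fun n => hι ?_)
    have := congrArg (PowerSeries.coeff n) h
    exact this
  have hmem : ∀ a, a ∈ P ↔ ¬ IsUnit (ψ a) := fun a => by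
    rw [PowerSeries.isUnit_iff_constantCoeff, isUnit_iff_ne_zero, not_not,
      ← PowerSeries.coeff_zero_eq_constantCoeff_apply]
    show a ∈ P ↔ ι (PowerSeries.coeff 0 (e a)) = 0
    rw [map_eq_zero_iff _ hι, PowerSeries.coeff_zero_eq_constantCoeff_apply, ← PowerSeries.X_dvd_iff, hP,
      Ideal.mem_span_singleton, ← map_dvd_iff e.toMulEquiv]
    show e (MvPowerSeries.X 0) ∣ e a ↔ _
    rw [MvPowerSeries.finSuccEquiv_X_zero]
  have hunit : ∀ s : P.primeCompl, IsUnit (ψ s) := fun s => by
    by_contra h
    exact s.2 ((hmem _).2 h)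
  let φ : Localization.AtPrime P →ₐ[k] PowerSeries L := IsLocalization.liftAlgHom (M := P.primeCompl) (f := ψ) hunit
  have hφ : ∀ a, φ (algebraMap _ _ a) = ψ a := fun a => IsLocalization.lift_eq _ a
  refine ⟨PowerSeries L, inferInstance, inferInstance, inferInstance, inferInstance, φ, ?_, ?_, ?_, ?_, ?_⟩
  · rw [PowerSeries.maximalIdeal_eq_span_X]; infer_instance
  · exact IsAlgClosed.of_ringEquiv _ _ PowerSeries.residueFieldOfPowerSeries.symm
  · intro x y h
    obtain ⟨a, s, rfl⟩ := IsLocalization.exists_mk'_eq P.primeCompl x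
    obtain ⟨b, t, rfl⟩ := IsLocalization.exists_mk'_eq P.primeCompl y
    rw [IsLocalization.mk'_eq_iff_eq]
    refine congrArg _ (hψ ?_)
    rw [← hφ, ← hφ, map_mul, map_mul, map_mul, map_mul]
    have ea := congrArg φ (IsLocalization.mk'_spec (Localization.AtPrime P) a s)
    have eb := congrArg φ (IsLocalization.mk'_spec (Localization.AtPrime P) b t)
    rw [map_mul] at ea eb
    rw [← ea, ← eb, h]; ring
  · refine ⟨fun x hx => ?_⟩
    obtain ⟨a, s, rfl⟩ := IsLocalization.exists_mk'_eq P.primeCompl x
    rw [IsLocalization.AtPrime.isUnit_mk'_iff]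
    intro ha
    refine (hmem a).1 ha ?_
    rw [← hφ, ← IsLocalization.mk'_spec (Localization.AtPrime P) a s, map_mul]
    exact hx.mul (by rw [hφ]; exact hunit s)
  · rw [hφ, hψ0]; exact PowerSeries.X_prime.irreducible

end Groth.Agent.S15366
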