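import Groth.Statements.S15367
import Groth.Agent.Lib.DvrTors.Basic
-- import your own Groth.Agent.* helpers here

set_option autoImplicit false
universe u v
open TensorProduct
open CAlg

namespace Groth.Agent.S15367

/-- Let R be a discrete valuation ring with uniformizer π and residue field k, n ≥ 0, and M₀ a finitely
generated module over R/πⁿR, viewed as an R-module killed by πⁿ; put M₀* = Hom_R(M₀, R/πⁿR). Then
dim_k(M₀*/πM₀*) = dim_k(M₀/πM₀). The published lemma is stated for a finitely presented module over
the quotient of the ring of integers of an algebraic closure of K by the elements of valuation ≥ t,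
with its dual into that quotient ring, and the published proof reduces it by descent to exactly this
statement over the valuation ring of a finite extension of K; the row states that step. -/
theorem result
    (R : Type u) [CommRing R] [IsDomain R] [IsDiscreteValuationRing R] (ϖ : R) (hϖ : Irreducible ϖ) (n : ℕ)
    (M : Type v) [AddCommGroup M] [Module R M] [Module.Finite R M] (hM : ∀ m : M, ϖ ^ n • m = 0) :
    Module.finrank (IsLocalRing.ResidueField R)
        (IsLocalRing.ResidueField R ⊗[R] (M →ₗ[R] (R ⧸ Ideal.span {ϖ ^ n}))) =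
      Module.finrank (IsLocalRing.ResidueField R) (IsLocalRing.ResidueField R ⊗[R] M) := by
  rcases Nat.eq_zero_or_pos n with rfl | hn
  · have : Subsingleton M := subsingleton_of_forall_eq 0 fun m => by simpa using hM m
    have : Subsingleton (M →ₗ[R] R ⧸ Ideal.span {ϖ ^ 0}) :=
      subsingleton_of_forall_eq 0 fun f => LinearMap.ext fun m => by rw [Subsingleton.elim m 0]; simp
    rw [Module.finrank_zero_of_subsingleton, Module.finrank_zero_of_subsingleton]
  obtain ⟨m, rfl⟩ := Nat.exists_eq_succ_of_ne_zero (by omega : n ≠ 0)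
  let Q := R ⧸ Ideal.span {ϖ ^ (m + 1)}
  have hsurj : Function.Surjective (algebraMap R (IsLocalRing.ResidueField R)) :=
    IsLocalRing.residue_surjective
  -- the socle of `Q` is a copy of the residue field
  have hle : IsLocalRing.maximalIdeal R ≤
      LinearMap.ker ((Ideal.span {ϖ ^ (m + 1)}).mkQ ∘ₗ LinearMap.toSpanSingleton R R (ϖ ^ m)) := by
    rw [hϖ.maximalIdeal_eq, Ideal.span_singleton_le_iff_mem, LinearMap.mem_ker]
    refine (Submodule.Quotient.mk_eq_zero _).2 (Ideal.mem_span_singleton.2 ?_)
    simp [pow_succ']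
  let j : IsLocalRing.ResidueField R →ₗ[R] Q :=
    Submodule.liftQ (IsLocalRing.maximalIdeal R) _ hle
  have hj : ∀ r : R, j (Submodule.Quotient.mk r) = Submodule.Quotient.mk (r * ϖ ^ m) := fun r => rfl
  have hjinj : Function.Injective j := by
    rw [injective_iff_map_eq_zero]
    intro z hz
    obtain ⟨r, rfl⟩ := IsLocalRing.residue_surjective z
    have hz' : r * ϖ ^ m ∈ Ideal.span {ϖ ^ (m + 1)} := (Submodule.Quotient.mk_eq_zero _).1 hz
    rw [Ideal.mem_span_singleton, pow_succ', mul_dvd_mul_iff_right (pow_ne_zero m hϖ.ne_zero)] at hz'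
    rw [IsLocalRing.residue_eq_zero_iff, hϖ.maximalIdeal_eq, Ideal.mem_span_singleton]
    exact hz'
  have hjrange : ∀ q : Q, ϖ • q = 0 → q ∈ LinearMap.range j := by
    intro q hq
    obtain ⟨r, rfl⟩ := Submodule.Quotient.mk_surjective _ q
    rw [← Submodule.Quotient.mk_smul, Submodule.Quotient.mk_eq_zero, smul_eq_mul,
      Ideal.mem_span_singleton, pow_succ', mul_dvd_mul_iff_left hϖ.ne_zero] at hq
    obtain ⟨c, rfl⟩ := hq
    exact ⟨Submodule.Quotient.mk c, by rw [hj, mul_comm]⟩
  have hkill : ∀ z : IsLocalRing.ResidueField R, ϖ • z = 0 := fun z => by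
    rw [Algebra.smul_def, IsLocalRing.ResidueField.algebraMap_eq,
      (IsLocalRing.residue_eq_zero_iff ϖ).2 (hϖ.maximalIdeal_eq ▸ Ideal.mem_span_singleton_self ϖ),
      zero_mul]
  let F : (M →ₗ[R] IsLocalRing.ResidueField R) →ₗ[R]
      LinearMap.ker (LinearMap.lsmul R (M →ₗ[R] Q) ϖ) :=
    LinearMap.codRestrict _ (LinearMap.compRight R j) fun g => LinearMap.mem_ker.2 <|
      LinearMap.ext fun y => by
        show ϖ • j (g y) = 0
        rw [← map_smul, hkill, map_zero]
  have hF : Function.Bijective F := by
    constructor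
    · intro g g' h
      exact LinearMap.ext fun y => hjinj (LinearMap.congr_fun (congrArg Subtype.val h) y)
    · rintro ⟨f, hf⟩
      have hfy : ∀ y, f y ∈ LinearMap.range j := fun y =>
        hjrange _ (LinearMap.congr_fun (LinearMap.mem_ker.1 hf) y)
      let e := LinearEquiv.ofInjective j hjinj
      refine ⟨e.symm.toLinearMap ∘ₗ LinearMap.codRestrict _ f hfy, Subtype.ext (LinearMap.ext fun y => ?_)⟩
      exact congrArg Subtype.val (e.apply_symm_apply ⟨f y, hfy y⟩)
  have hQ : ∀ q : Q, ϖ ^ (m + 1) • q = 0 := by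
    intro q
    obtain ⟨r, rfl⟩ := Submodule.Quotient.mk_surjective _ q
    rw [← Submodule.Quotient.mk_smul, Submodule.Quotient.mk_eq_zero, smul_eq_mul]
    exact Ideal.mul_mem_right _ _ (Ideal.mem_span_singleton_self _)
  have hM' : ∀ f : M →ₗ[R] Q, ϖ ^ (m + 1) • f = 0 := fun f => LinearMap.ext fun y => hQ (f y)
  let k := IsLocalRing.ResidueField R
  have h1 := GrothLib.DvrTors.length_ker_lsmul hϖ (m + 1) (M →ₗ[R] Q) hM'
  rw [← (LinearEquiv.ofBijective F hF).length_eq,
    ((LinearMap.liftBaseChangeEquiv k (M := M) (N := k)).restrictScalars R).length_eq,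
    Module.length_eq_of_surjective (R := k) hsurj, Module.length_eq_finrank,
    Module.finrank_linearMap_self] at h1
  exact_mod_cast h1.symm

end Groth.Agent.S15367
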