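import Groth.Statements.S15368
import Groth.Agent.Lib.DvrTors.Basic
-- import your own Groth.Agent.* helpers here

set_option autoImplicit false
universe u v
open TensorProduct
open CAlg

namespace Groth.Agent.S15368

/-- Let R be a discrete valuation ring with uniformizer π and residue field k, n ≥ 0, M₀ a finitely
generated R-module killed by πⁿ and N₀ a submodule of M₀. Then dim_k(N₀/πN₀) ≤ dim_k(M₀/πM₀). The
published lemma is stated for a finitely presented submodule N of a finitely presented module M over
the quotient of the ring of integers of an algebraic closure of K by the elements of valuation ≥ t,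
and the published proof reduces it by descent to exactly this statement over the valuation ring of a
finite extension of K (comparing π-torsion with π-cotorsion by additivity of length); the row states
that step. -/
theorem result
    (R : Type u) [CommRing R] [IsDomain R] [IsDiscreteValuationRing R] (ϖ : R) (hϖ : Irreducible ϖ) (n : ℕ)
    (M : Type v) [AddCommGroup M] [Module R M] [Module.Finite R M] (hM : ∀ m : M, ϖ ^ n • m = 0)
    (N : Submodule R M) :
    Module.finrank (IsLocalRing.ResidueField R) (IsLocalRing.ResidueField R ⊗[R] N) ≤
      Module.finrank (IsLocalRing.ResidueField R) (IsLocalRing.ResidueField R ⊗[R] M) := by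
  have h1 := GrothLib.DvrTors.length_ker_lsmul hϖ n M hM
  have hN : ∀ m : N, ϖ ^ n • m = 0 := fun m => Subtype.ext (by simpa using hM m.1)
  have h2 := GrothLib.DvrTors.length_ker_lsmul hϖ n N hN
  let i : LinearMap.ker (LinearMap.lsmul R N ϖ) →ₗ[R] LinearMap.ker (LinearMap.lsmul R M ϖ) :=
    N.subtype.restrict fun x hx => by
      have := congrArg Subtype.val (LinearMap.mem_ker.1 hx)
      simpa using this
  have h3 := Module.length_le_of_injective i fun a b hab => by
    have h : ((i a).1 : M) = (i b).1 := congrArg Subtype.val hab
    exact Subtype.ext (Subtype.ext h)
  rw [h1, h2] at h3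
  exact_mod_cast h3

end Groth.Agent.S15368
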