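import Groth.Statements.S1537
import Groth.Agent.Lib.BaseChange.AlgClosedIn

set_option autoImplicit false
universe u
open CategoryTheory CategoryTheory.Limits AlgebraicGeometry
open Variety

namespace Groth.Agent.S1537

/-- A connected k-scheme is geometrically connected as soon as it has a point whose residue field
contains no element integral over k other than the elements of k. -/
theorem result (k : Type u) [Field k] (X : Scheme.{u}) [X.Over (Spec (CommRingCat.of k))] [ConnectedSpace X]
    (x : X) (hx : ∀ a : X.residueField x, (Curv2.resMap k X x).IsIntegralElem a → a ∈ (Curv2.resMap k X x).range) :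
    GeometricallyConnected (X ↘ (Spec (CommRingCat.of k))) := by
    open GrothLib.BaseChange in
    obtain ⟨z₀, hz₀⟩ := (Curv2.bcFst k X (SeparableClosure k)).surjective x
    have : ConnectedSpace (Curv2.bc k X (SeparableClosure k)) := by
      refine connectedSpace_iff_connectedComponent.mpr ⟨z₀, Set.eq_univ_of_forall fun z => ?_⟩
      obtain ⟨c, hc, hcx⟩ : x ∈ Curv2.bcFst k X (SeparableClosure k) '' connectedComponent z := by
        rw [image_connectedComponent,
          PreconnectedSpace.connectedComponent_eq_univ (Curv2.bcFst k X (SeparableClosure k) z)]
        trivial
      rw [eq_of_algClosedIn_separable k X hx (SeparableClosure k) c z₀ hcx hz₀] at hc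
      rw [connectedComponent_eq_iff_mem.mpr hc]
      exact mem_connectedComponent
    exact geometricallyConnected_of_connected_bc k X (SeparableClosure k)

end Groth.Agent.S1537
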