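import Groth.Statements.S15376
import Groth.Agent.Lib.SurfRR28.Canonical
import Groth.Agent.Lib.SurfRR28.Effective
import Groth.Agent.Lib.BlowPt28.Num
import Groth.Agent.Lib.CotTangent.Components
import Groth.Agent.Lib.LM28.Dual

set_option autoImplicit false
universe u
open CategoryTheory CategoryTheory.Limits AlgebraicGeometry
open Biell

namespace Groth.Agent.S15376

/-- Let k be an algebraically closed field and X a (quasi-)bielliptic surface over k, meaning here: X is
an integral k-scheme, proper and smooth of relative dimension 2 over k and carrying an ample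
invertible sheaf, whose canonical sheaf ω (a second exterior power of Ω_{X/k}) is numerically
trivial (degree 0 on every integral closed curve in X) and whose second ℓ-adic Betti number (the
rank of lim_ν H²(X_et, Z/ℓ^ν)) equals 2 for every prime ℓ invertible in k. Then the geometric genus
p_g(X) = dim_k H²(X, O_X) equals 1 if and only if ω ≅ O_X, i.e. ω has order 1 in Pic(X). (The
published statement is for bielliptic surfaces and has a third equivalent condition, non-reducedness
of the identity component of the Picard scheme, which is not stated here; the equivalence of the two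
conditions stated rests only on the numerical triviality of ω on an integral smooth projective
surface, so this row states it for quasi-bielliptic surfaces as well.) -/
theorem result (k : Type u) [Field k] [IsAlgClosed k] (X : Scheme.{u}) [X.Over (Spec (CommRingCat.of k))]
    [IsIntegral X] [IsProper (X ↘ Spec (CommRingCat.of k))] [SmoothOfRelativeDimension 2 (X ↘ Spec (CommRingCat.of k))]
    (hproj : ∃ H : X.Modules, CohB1.IsAmple H)
    (ω : X.Modules) (hω : Canon.IsTopDiff (X ↘ Spec (CommRingCat.of k)) 2 ω) (hnum : Pic13.IsNumEquivZero k X ω)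
    (hb2 : ∀ ℓ : ℕ, ℓ.Prime → (ℓ : k) ≠ 0 → EtAdic.betti X ℓ 2 = 2) :
    Module.finrank k (Coh.HH X (Coh.structureModule X) 2) = 1 ↔ Nonempty (ω ≅ Coh.structureModule X) := by
  obtain ⟨H, hH⟩ := hproj
  haveI := SmoothOfRelativeDimension.smooth (n := 2) (f := X ↘ Spec (CommRingCat.of k))
  haveI : Nonempty X := IsIntegral.nonempty
  have hdim : topologicalKrullDim X = ((2 : ℕ) : WithBot ℕ∞) :=
    GrothLib.CotTangent.topologicalKrullDim_integral_of_smoothOfRelativeDimension (X ↘ Spec (CommRingCat.of k)) 2
  obtain ⟨hs, N, ι, hι, hιc⟩ := GrothLib.LM28.surface_data k hdim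
  haveI := hι
  haveI := GrothLib.Euler.isNoetherian_of_proper (X := X) k
  have hω' : ExtPow.IsExtPow 2 (Omega.sheaf (X ↘ Spec (CommRingCat.of k))) ω := hω
  have hωi := GrothLib.SurfRR28.isInvertible_W k hdim hω'
  have hO := GrothLib.Euler.isInvertible_structure (X := X)
  have hO1 : GrothLib.Cube.clsMod hO = 1 := GrothLib.SurfRR28.clsMod_structure
  rw [GrothLib.SurfRR28.hh_serre k ι hιc _ hω' hωi hO hωi (by rw [hO1, inv_one, mul_one]) (p := 2) le_rfl]
  refine ⟨fun h => ?_, fun ⟨e⟩ => ?_⟩
  · refine (GrothLib.Cube.clsMod_eq_one_iff hωi).1 (GrothLib.Goodman.eq_one_of_pLe_of_degree_zero k hdim hH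
      (GrothLib.SurfRR28.pLe_one_of_nontrivial hωi (Module.nontrivial_of_finrank_pos (R := k) ?_)) ?_)
    · exact lt_of_lt_of_le one_pos h.ge
    · exact GrothLib.BlowPt28.isect_eq_zero_of_numTrivial k hdim hH hωi hnum _
  · rw [(GrothLib.Euler.hhEquiv (A := k) e (2 - 2)).finrank_eq]
    exact GrothLib.ConnH0.finrank_H0_eq_one k

end Groth.Agent.S15376
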