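import Groth.Statements.S15383
import Mathlib
import Groth.Prelude.Def_GmPts
-- import your own Groth.Agent.* helpers here

set_option autoImplicit false
universe u
open GmDual

namespace Groth.Agent.S15383

set_option backward.isDefEq.respectTransparency false

section
open CategoryTheory CategoryTheory.Limits AlgebraicGeometry Opposite

theorem normPt_comp {K : Precoverage Scheme.{u}} {X X' : Scheme.{u}} (f : X' ⟶ X)
    [(QuotSh.J K X).Subcanonical] [(QuotSh.J K X').Subcanonical]
    (N : CGrpSh3.pushGm K f ⟶ CGrpSh2.Gm K X) {T T' : Over X} (j : T' ⟶ T)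
    (t : (Over.pullback f).obj T ⟶ Red.Gm X') :
    CGrpSh3.normPt K f N T' ((Over.pullback f).map j ≫ t) = j ≫ CGrpSh3.normPt K f N T t := by
  rw [CGrpSh3.normPt_def, CGrpSh3.normPt_def]
  have h := CategoryTheory.congr_fun (N.hom.naturality j.op) (ULift.up (Additive.ofMul t))
  exact congrArg (fun z => z.down.toMul) h

end



open CategoryTheory AlgebraicGeometry in
/-- Let f : X' ⟶ X be a finite flat morphism of Noetherian schemes (so finite locally free). A morphism
of abelian sheaves N : f_* 𝔾_{m,X'} ⟶ 𝔾_{m,X} on the big fppf site of X is called a norm map of f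
when, on every affine test scheme T over X for which the functions of T ×_X X' form a finite free
algebra over those of T, it sends an invertible function on T ×_X X' to the determinant of
multiplication by it. Two norm maps of f are equal: a norm map is determined by its affine-local
description by determinants. -/
theorem result (X X' : Scheme.{u}) (f : X' ⟶ X) [IsFinite f] [Flat f]
    [AlgebraicGeometry.IsNoetherian X]
    (N N' : CGrpSh3.pushGm Scheme.fppfPrecoverage f ⟶ CGrpSh2.Gm Scheme.fppfPrecoverage X)
    (hN : CGrpSh3.IsNormMap Scheme.fppfPrecoverage f N) (hN' : CGrpSh3.IsNormMap Scheme.fppfPrecoverage f N') :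
    N = N' := by
  classical
  refine Sheaf.hom_ext (NatTrans.ext (funext fun T => AddCommGrpCat.ext fun x => ?_))
  obtain ⟨T⟩ := T
  obtain ⟨t⟩ := x
  apply ULift.ext
  change (N.hom.app (Opposite.op T) (ULift.up t)).down = (N'.hom.app (Opposite.op T) (ULift.up t)).down
  apply Additive.toMul.injective
  show CGrpSh3.normPt _ f N T t.toMul = CGrpSh3.normPt _ f N' T t.toMul
  apply GmPts.gmFn_injective
  refine TopCat.Presheaf.section_ext T.left.sheaf ⊤ _ _ fun p _ => ?_
  let T' : Over X := Over.mk (T.left.fromSpecStalk p ≫ T.hom)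
  let j : T' ⟶ T := Over.homMk (T.left.fromSpecStalk p) rfl
  haveI : IsAffine T'.left := inferInstanceAs (IsAffine (Spec _))
  haveI : IsLocalRing Γ(T'.left, ⊤) :=
    (Scheme.ΓSpecIso (T.left.presheaf.stalk p)).commRingCatIsoToRingEquiv.symm.isLocalRing
  let g := Limits.pullback.fst T'.hom f
  letI : Algebra Γ(T'.left, ⊤) Γ(((Over.pullback f).obj T').left, ⊤) := g.appTop.hom.toAlgebra
  haveI : Module.Finite Γ(T'.left, ⊤) Γ(((Over.pullback f).obj T').left, ⊤) := g.finite_appTop
  haveI : Module.Flat Γ(T'.left, ⊤) Γ(((Over.pullback f).obj T').left, ⊤) := by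
    haveI : IsAffine (Limits.pullback T'.hom f) := isAffine_of_isAffineHom g
    exact g.flat_appTop
  haveI : Module.Free Γ(T'.left, ⊤) Γ(((Over.pullback f).obj T').left, ⊤) :=
    Module.free_of_flat_of_isLocalRing
  have key := (hN T' (fun a => rfl) ((Over.pullback f).map j ≫ t.toMul)).trans
    (hN' T' (fun a => rfl) ((Over.pullback f).map j ≫ t.toMul)).symm
  rw [normPt_comp f N j, normPt_comp f N' j, GmPts.gmFn_comp, GmPts.gmFn_comp] at key
  have hgerm : ∀ s, T.left.presheaf.germ ⊤ p trivial s =
      (Scheme.ΓSpecIso (T.left.presheaf.stalk p)).hom ((T.left.fromSpecStalk p).appTop s) := fun s => by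
    rw [Scheme.fromSpecStalk_appTop, CommRingCat.comp_apply, CommRingCat.comp_apply]
    show _ = (Scheme.ΓSpecIso (T.left.presheaf.stalk p)).hom
      ((Scheme.ΓSpecIso (T.left.presheaf.stalk p)).inv (T.left.presheaf.germ ⊤ p trivial s))
    rw [← CommRingCat.comp_apply, Iso.inv_hom_id, CommRingCat.id_apply]
  exact (hgerm _).trans ((congrArg _ key).trans (hgerm _).symm)

end Groth.Agent.S15383
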