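import Groth.Statements.S15385
import Groth.Agent.Lib.FrobTors13.Fibre
-- import your own Groth.Agent.* helpers here

set_option autoImplicit false
universe u
open StackCount

namespace Groth.Agent.S15385

open CategoryTheory AlgebraicGeometry in
/-- A finite scheme over a finite field has finitely many points in a field algebraic over it. -/
theorem finite_geom_pts {k : Type u} [Field k] [Finite k] (G : Over (Spec (CommRingCat.of k))) [IsFinite G.hom]
    (Ω : Type u) [Field Ω] [Algebra k Ω] : Finite (SGA7.pt (K := k) Ω ⟶ G) := by
  classical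
  haveI : IsAffine G.left := isAffine_of_isAffineHom G.hom
  let φ := (Scheme.ΓSpecIso (CommRingCat.of k)).inv ≫ G.hom.appTop
  letI : Algebra k Γ(G.left, ⊤) := φ.hom.toAlgebra
  haveI : Module.Finite k Γ(G.left, ⊤) := by
    have h1 : G.hom.appTop.hom.Finite := G.hom.finite_appTop
    exact h1.comp (RingHom.Finite.of_surjective _
      (ConcreteCategory.bijective_of_isIso (Scheme.ΓSpecIso (CommRingCat.of k)).inv).2)
  haveI : Finite (Γ(G.left, ⊤) →ₐ[k] Ω) := by
    haveI : Finite Γ(G.left, ⊤) := Module.finite_of_finite k
    refine Finite.of_injective (β := ∀ a : Γ(G.left, ⊤), ((minpoly k a).rootSet Ω : Set Ω))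
      (fun f a => ⟨f a, (Polynomial.mem_rootSet_of_ne (minpoly.ne_zero (Algebra.IsIntegral.isIntegral a))).2
        (by rw [Polynomial.aeval_algHom_apply, minpoly.aeval, map_zero])⟩)
      fun f f' h => AlgHom.ext fun a => congrArg Subtype.val (congrFun h a)
  have key : G.left.isoSpec.hom ≫ Spec.map φ = G.hom := by
    rw [Spec.map_comp, Scheme.isoSpec_hom_naturality_assoc, Scheme.isoSpec_hom, toSpecΓ_SpecMap_ΓSpecIso_inv,
      Category.comp_id]
  refine Finite.of_injective (β := Γ(G.left, ⊤) →ₐ[k] Ω)
    (fun x => ⟨(Spec.preimage (x.left ≫ G.left.isoSpec.hom)).hom, fun c => ?_⟩) fun x y h => ?_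
  · have : φ ≫ Spec.preimage (x.left ≫ G.left.isoSpec.hom) = CommRingCat.ofHom (algebraMap k Ω) := by
      apply Spec.map_injective
      rw [Spec.map_comp, Spec.map_preimage, Category.assoc, key]
      exact Over.w x
    exact congr($this c)
  · have h' := congrArg Spec.map (CommRingCat.hom_ext (congrArg (fun f : Γ(G.left, ⊤) →ₐ[k] Ω => f.toRingHom) h) :
      Spec.preimage (x.left ≫ G.left.isoSpec.hom) = Spec.preimage (y.left ≫ G.left.isoSpec.hom))
    rw [Spec.map_preimage, Spec.map_preimage, cancel_mono] at h'
    exact Over.OverMorphism.ext h'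



open CategoryTheory AlgebraicGeometry in
/-- Let k be a finite field and G a finite etale group scheme over k (in particular affine over k, so
that every G-torsor is a scheme). For every finite field extension k' of k, the point count of the
classifying stack B(G) over k' — the sum, over the isomorphism classes of the groupoid of
etale-locally trivial G-torsors over Spec k', of the inverse orders of their automorphism groups —
equals 1. The finiteness of that groupoid (finitely many classes, finite automorphism groups) is
carried as a hypothesis. -/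
theorem result (k : Type u) [Field k] [Finite k]
    (G : Over (Spec (CommRingCat.of k))) [GrpObj G] [IsFinite G.hom] [Etale G.hom]
    (k' : Type u) [Field k'] [Algebra k k'] [Module.Finite k k']
    (h : StkCnt.IsEssFinite (StkCnt.pts (AlgSt.BG Scheme.etalePrecoverage G) k')) :
    StkCnt.ptCount (AlgSt.BG Scheme.etalePrecoverage G) k' h = 1 := by
  classical
  let kb := AlgebraicClosure k'
  haveI : Finite k' := Module.finite_of_finite k
  obtain ⟨σ, hσ⟩ := GrothLib.FrobTors13.exists_frob k' kb
  haveI : Finite (SGA7.pt (K := k) kb ⟶ G) := finite_geom_pts G kb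
  haveI : LocallyOfFiniteType (MonoidalCategoryStruct.tensorUnit (Over (Spec (CommRingCat.of k)))).hom :=
    inferInstanceAs (LocallyOfFiniteType (𝟙 (Spec (CommRingCat.of k))))
  haveI : Subsingleton (SGA7.pt (K := k) kb ⟶ MonoidalCategoryStruct.tensorUnit (Over (Spec (CommRingCat.of k)))) :=
    ⟨fun a b => CartesianMonoidalCategory.toUnit_unique a b⟩
  let e : GrothLib.FrobTors13.Ob (AlgSt.trivAction G) σ ≃ (SGA7.pt (K := k) kb ⟶ G) :=
    { toFun := fun o => o.1.1
      invFun := fun g => ⟨(g, CartesianMonoidalCategory.toUnit _), Subsingleton.elim _ _⟩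
      left_inv := fun o => Subtype.ext (Prod.ext rfl (Subsingleton.elim _ _))
      right_inv := fun g => rfl }
  haveI : Finite (GrothLib.FrobTors13.Ob (AlgSt.trivAction G) σ) := Finite.of_equiv _ e.symm
  open scoped MonObj in
  letI : Fintype (_root_.Quotient (MulAction.orbitRel (SGA7.pt (K := k) kb ⟶ G)
    (GrothLib.FrobTors13.Ob (AlgSt.trivAction G) σ))) := Fintype.ofFinite _
  show StkCnt.count _ h = 1
  open scoped MonObj in
  rw [GrothLib.FrobTors13.count_eq (aX := AlgSt.trivAction G) hσ h,
    GrothLib.FrobTors13.sum_orbits_inv_stab, Nat.card_congr e, div_self (Nat.cast_ne_zero.2 Nat.card_pos.ne')]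


end Groth.Agent.S15385
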