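import Groth.Statements.S15386
import Groth.Agent.Lib.QuotSt.BalProd


set_option autoImplicit false
set_option backward.isDefEq.respectTransparency false
set_option backward.isDefEq.respectTransparency.types false
universe u
open QuotStk

namespace Groth.Agent.S15386

open GrothLib.BalQuot CategoryTheory CategoryTheory.Limits AlgebraicGeometry CategoryTheory.MonoidalCategory CategoryTheory.CartesianMonoidalCategory CategoryTheory.MonObj in
theorem isBalProd_of_isHomog {S : Scheme.{u}} {G H X Q : Over S} [GrpObj G] [GrpObj H] (i : H ⟶ G) [IsMonHom i]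
    (aX : AlgGrp.Action G X) (aQ : AlgGrp.Action G Q) (q₀ : 𝟙_ (Over S) ⟶ Q)
    (hQ : ChGrp.IsHomog Scheme.fppfPrecoverage i aQ q₀) :
    ChGrp.IsBalProd Scheme.fppfPrecoverage i (aX.restrict i) (aQ.prod aX)
      (lift (fst G X ≫ aQ.orbitMap q₀) aX.act) := by
  have hj : ∀ {T : Over S} (g : T ⟶ G) (x : T ⟶ X),
      lift g x ≫ lift (fst G X ≫ aQ.orbitMap q₀) aX.act = lift (g ≫ aQ.orbitMap q₀) (act aX g x) := fun g x => by
    rw [comp_lift, lift_fst_assoc]
  have hinv : ∀ {T : Over S} (g : T ⟶ G) (h : T ⟶ H),
      g ≫ aQ.orbitMap q₀ = (g * (h ≫ i)) ≫ aQ.orbitMap q₀ := fun g h => by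
    have e := congrArg (lift g h ≫ ·) hQ.2.1.w
    simp only [lift_fst_assoc, Category.assoc, lift_whiskerLeft_assoc] at e
    rw [e, Hom.mul_def, Category.assoc]
  refine ⟨?_, ?_, ?_⟩
  · apply AlgGrp.Action.hom_ext_lift₂
    intro T g gx
    obtain ⟨h, x, rfl⟩ := exists_pair gx
    rw [AlgGrp.Action.lift_prod_act_assoc, AlgGrp.Action.lift_trivial_act, lift_whiskerLeft_assoc, hj, hj,
      AlgGrp.Action.lift_prod_act]
    change lift ((lift g h ≫ μ[G]) ≫ _) (act aX (lift g h ≫ μ[G]) x) = _
    rw [← Hom.mul_def, AlgGrp.Action.comp_orbitMap, AlgGrp.Action.comp_orbitMap, aQ.lift_mul_act, mul_act]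
  · have key : ∀ {T : Over S} (h : T ⟶ H) (g : T ⟶ G) (x : T ⟶ X),
        lift h (lift g x) ≫ (ChGrp.twist i (aX.restrict i)).act = lift (g * (h ≫ i)⁻¹) (act aX (h ≫ i) x) :=
      fun h g x => by rw [ChGrp.lift_twist_act, AlgGrp.Action.lift_restrict_act]
    refine isPullback_of_points ?_ fun T a b e => ?_
    · apply AlgGrp.Action.hom_ext_lift₂
      intro T h gx
      obtain ⟨g, x, rfl⟩ := exists_pair gx
      rw [← Category.assoc, key, lift_snd_assoc, hj, hj, ← mul_act, inv_mul_cancel_right]
      refine congrArg (lift · _) ?_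
      conv_lhs => rw [hinv _ h, inv_mul_cancel_right]
    · obtain ⟨g', x', rfl⟩ := exists_pair a
      obtain ⟨g, x, rfl⟩ := exists_pair b
      rw [hj, hj] at e
      have e1 : g ≫ aQ.orbitMap q₀ = g' ≫ aQ.orbitMap q₀ := by simpa using (congrArg (· ≫ fst Q X) e).symm
      have e2 : act aX g' x' = act aX g x := by simpa using congrArg (· ≫ snd Q X) e
      obtain ⟨g'', h₀, hh⟩ := exists_pair (hQ.2.1.lift g g' e1)
      have h1 : g'' = g := by simpa [hh] using hQ.2.1.lift_fst g g' e1
      subst h1
      have h2 : g'' * (h₀ ≫ i) = g' := by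
        rw [← hQ.2.1.lift_snd g'' g' e1, hh, lift_whiskerLeft_assoc, Hom.mul_def]
      refine ⟨lift h₀⁻¹ (lift g'' x), ⟨?_, lift_snd _ _⟩, ?_⟩
      · rw [key, GrpObj.inv_comp, inv_inv, h2]
        congr 1
        rw [← act_inv_act aX g' x', e2, ← mul_act]
        congr 1
        rw [← h2, _root_.mul_inv_rev, inv_mul_cancel_right]
      · rintro k ⟨k1, k2⟩
        obtain ⟨h, y, rfl⟩ := exists_pair k
        obtain rfl : y = lift g'' x := by simpa using k2
        rw [key] at k1
        have k1' : g'' * (h ≫ i)⁻¹ = g' := by simpa using congrArg (· ≫ fst G X) k1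
        have hl : lift g'' h⁻¹ = hQ.2.1.lift g'' g' e1 :=
          hQ.2.1.hom_ext (by rw [lift_fst, hQ.2.1.lift_fst])
            (by rw [hQ.2.1.lift_snd, lift_whiskerLeft_assoc, ← Hom.mul_def, GrpObj.inv_comp, k1'])
        obtain rfl : h⁻¹ = h₀ := by simpa using congrArg (· ≫ snd G H) (hl.trans hh)
        rw [inv_inv]
  · have hp : IsPullback (fst G X) (lift (fst G X ≫ aQ.orbitMap q₀) aX.act) (aQ.orbitMap q₀) (fst Q X) := by
      refine isPullback_of_points (by rw [lift_fst]) fun T g qx e => ?_
      obtain ⟨q, x, rfl⟩ := exists_pair qx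
      rw [lift_fst] at e
      subst e
      refine ⟨lift g (act aX g⁻¹ x), ⟨lift_fst _ _, by rw [hj, act_act_inv]⟩, ?_⟩
      rintro k ⟨k1, k2⟩
      obtain ⟨g', y, rfl⟩ := exists_pair k
      obtain rfl : g' = g := by simpa using k1
      rw [hj] at k2
      have k3 : act aX g' y = x := by simpa using congrArg (· ≫ snd Q X) k2
      rw [← k3, act_inv_act]
    exact GrothLib.TorsorDesc.isLocallyTrivialFor_of_isPullback _ (hp.map (Over.forget S)) hQ.2.2

open CategoryTheory MonoidalCategory CartesianMonoidalCategory MonObj AlgebraicGeometry in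
/-- Let k be a field, G a smooth affine k-group scheme, H ⟶ G a closed subgroup scheme, X a k-scheme
with a G-action, and (Q, q₀) a pointed G-scheme which is the homogeneous space G/H for the fppf
topology (the stabiliser of q₀ is H and the orbit map G ⟶ Q acquires sections fppf-locally on Q).
Then the quotient stack of X by H (restricted action; torsors locally trivial for the fppf topology,
as schemes) is equivalent, as a category over (Sch/k), to the quotient stack of Q ×_k X by G acting
diagonally; only the existence of such an equivalence is asserted. (The published statement is that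
the square of quotient stacks formed by the quotient of G/H × Y by H, two copies of the quotient of
Y by H, and the quotient of Y by G is 2-cartesian; this row is the equivalence between the quotient
of X by H and the quotient of G/H × X by G proved on the way, from which that follows.) -/
theorem result (k : Type u) [Field k]
    (G H X Q : Over (Spec (CommRingCat.of k))) [GrpObj G] [GrpObj H]
    (i : H ⟶ G) [IsMonHom i] [IsClosedImmersion i.left] [Smooth G.hom] [IsAffineHom G.hom]
    (aX : AlgGrp.Action G X) (aQ : AlgGrp.Action G Q) (q₀ : 𝟙_ (Over (Spec (CommRingCat.of k))) ⟶ Q)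
    (hQ : ChGrp.IsHomog Scheme.fppfPrecoverage i aQ q₀) :
    AlgSt.IsQuotientOf Scheme.fppfPrecoverage H (aX.restrict i)
      (AlgSt.QuotSt Scheme.fppfPrecoverage G (aQ.prod aX)) := by
  exact GrothLib.BalQuot.isQuotientOf_balProd (isBalProd_of_isHomog i aX aQ q₀ hQ)

end Groth.Agent.S15386
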