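import Groth.Statements.S15391
import Mathlib

set_option autoImplicit false
universe u
open TensorProduct
open TorFree

namespace Groth.Agent.S15391

/-- Let R be a reduced Noetherian commutative ring, M a finitely generated torsion-free R-module (no
non-zero element of M is annihilated by a non-zero-divisor of R), and t an element of M whose image
1 ⊗ t in the fibre κ(p) ⊗_R M vanishes for every prime ideal p of R, κ(p) being the residue field at
p. Then t = 0. This is the affine form of the claim that a global section of a coherent torsion-free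
module on a reduced Noetherian scheme which vanishes in every fibre is zero. -/
theorem result (R : Type u) [CommRing R] [IsReduced R] [IsNoetherianRing R]
    (M : Type u) [AddCommGroup M] [Module R M] [Module.Finite R M] [Module.IsTorsionFree R M]
    (t : M) (ht : ∀ p : PrimeSpectrum R, (1 : p.asIdeal.ResidueField) ⊗ₜ[R] t = (0 : p.asIdeal.ResidueField ⊗[R] M)) :
    t = 0 := by
  have hmin : ∀ p ∈ minimalPrimes R, ∃ s ∉ p, s • t = 0 := by
    intro p hp
    have hpr : p.IsPrime := hp.1.1
    let L := Localization.AtPrime p
    have : Ideal.map (algebraMap R L) p = ⊥ := by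
      have h1 := IsLocalization.AtPrime.radical_map_of_mem_minimalPrimes (I := (⊥ : Ideal R)) L p hp
      rw [Ideal.map_bot] at h1
      rw [← h1]
      exact nilradical_eq_zero _
    have hinj : Function.Injective (algebraMap L p.ResidueField) := by
      rw [RingHom.injective_iff_ker_eq_bot]
      rw [show RingHom.ker (algebraMap L p.ResidueField) = IsLocalRing.maximalIdeal L from
        IsLocalRing.ker_residue, ← Localization.AtPrime.map_eq_maximalIdeal]
      exact this
    let e : L ≃ₗ[R] p.ResidueField := LinearEquiv.ofBijective
      ((IsScalarTower.toAlgHom R L p.ResidueField).toLinearMap)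
      ⟨hinj, Ideal.Quotient.mk_surjective⟩
    have h0 : (1 : L) ⊗ₜ[R] t = 0 := by
      apply (TensorProduct.congr e (LinearEquiv.refl R M)).injective
      rw [map_zero, TensorProduct.congr_tmul]
      have he : e 1 = 1 := map_one (algebraMap L p.ResidueField)
      rw [he]
      exact ht ⟨p, hpr⟩
    obtain ⟨s, hs⟩ := (IsLocalizedModule.eq_zero_iff p.primeCompl (TensorProduct.mk R L M 1)).1 h0
    exact ⟨s.1, s.2, hs⟩
  let J : Ideal R := LinearMap.ker (LinearMap.toSpanSingleton R M t)
  have hJ : ¬ ((J : Set R) ⊆ ⋃ p ∈ (minimalPrimes.finite_of_isNoetherianRing R).toFinset, (p : Ideal R)) := by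
    intro hsub
    obtain ⟨p, hp, hle⟩ := (Ideal.subset_union_prime (f := fun p : Ideal R => p) ⊥ ⊥
      (fun p hp _ _ => ((Set.Finite.mem_toFinset _).1 hp).1.1)).1 hsub
    obtain ⟨s, hs, hst⟩ := hmin p ((Set.Finite.mem_toFinset _).1 hp)
    exact hs (hle (show s ∈ J from hst))
  obtain ⟨s, hs, hns⟩ := Set.not_subset.1 hJ
  have hnzd : IsRegular s := by
    refine isRegular_iff_mem_nonZeroDivisors.2 (mem_nonZeroDivisors_iff_right.2 fun y hy => ?_)
    refine (IsReduced.eq_zero y ?_)
    rw [← mem_nilradical, nilradical, ← Ideal.sInf_minimalPrimes, Submodule.mem_sInf]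
    intro p hp
    have : s ∉ p := fun hsp => hns (Set.mem_biUnion ((Set.Finite.mem_toFinset _).2 hp) hsp)
    exact (hp.1.1.mem_or_mem (show y * s ∈ p by rw [hy]; exact p.zero_mem)).resolve_right this
  exact Module.IsTorsionFree.isSMulRegular hnzd (show s • t = s • 0 by rw [smul_zero]; exact hs)

end Groth.Agent.S15391
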