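import Groth.Statements.S15392
-- import your own Groth.Agent.* helpers here
import Groth.Agent.Lib.IsogPushPull15.Main
import Groth.Agent.Lib.Euler.Coh

set_option autoImplicit false
universe u
open CategoryTheory CategoryTheory.Limits MonoidalCategory CartesianMonoidalCategory MonObj GrpObj AlgebraicGeometry
open AbVar

namespace Groth.Agent.S15392

/-- Let k be an algebraically closed field of characteristic zero, A and B abelian varieties over k
(proper smooth k-group schemes with geometrically connected fibres), π : A → B a homomorphism which
is an isogeny (finite and surjective), and E a finite locally free O_A-module. For a k-rational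
point a of A write t_a : A → A for the translation by a (the product of the identity and the
constant map a in the group Hom(A, A)). Then π^*π_*E is isomorphic to the direct sum of the
translates t_a^*E over the k-rational points a of A with π(a) equal to the unit of B, that is over
the k-points of the kernel of π (existence of an isomorphism). -/
theorem result (k : Type u) [Field k] [IsAlgClosed k] [CharZero k]
    (A B : Over (Spec (CommRingCat.of k))) [GrpObj A] [IsProper A.hom] [Smooth A.hom] [GeometricallyConnected A.hom]
    [GrpObj B] [IsProper B.hom] [Smooth B.hom] [GeometricallyConnected B.hom]
    (π : A ⟶ B) [IsMonHom π] [IsFinite π.left] [Surjective π.left]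
    (E : A.left.Modules) (hE : FlatMod.IsFinLocFree E) :
    Nonempty ((Scheme.Modules.pullback π.left).obj ((Scheme.Modules.pushforward π.left).obj E) ≅
      ∐ fun a : {a : 𝟙_ (Over (Spec (CommRingCat.of k))) ⟶ A // a ≫ π = 1} =>
        (Scheme.Modules.pullback (𝟙 A * (toUnit A ≫ a.1)).left).obj E) := by
  exact GrothLib.IsogPushPull15.main A B π E (GrothLib.Euler.isQuasicoherent_of_isFinLocFree hE)

end Groth.Agent.S15392
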