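import Groth.Statements.S15394
import Groth.Agent.Lib.FMK22.IdealTensor
-- import your own Groth.Agent.* helpers here

set_option autoImplicit false
universe u
open CategoryTheory CategoryTheory.Limits MonoidalCategory CartesianMonoidalCategory MonObj GrpObj AlgebraicGeometry
attribute [local instance] HasDerivedCategory.standard
open AbVar

namespace Groth.Agent.S15394

set_option maxHeartbeats 1000000
set_option linter.style.haveILetI false

/-- Supports of kernels of twisted maps. -/
theorem support_kernel_map {X : Scheme.{u}} {A B : X.Modules} (p : A ⟶ B) {N : X.Modules}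
    (hN : PicF.IsInvertible N) :
    CohB1.support (kernel ((GrothLib.Euler.tF N).map p)) ⊆ CohB1.support (kernel p) := by
  obtain ⟨_, _, _⟩ := GrothLib.FMTrans15.exact_tF' hN
  rw [← GrothLib.QCoh.support_eq_of_iso (PreservesKernel.iso (GrothLib.Euler.tF N) p)]
  exact GrothLib.FMK22.support_tF_subset_finLocFree (GrothLib.LocFreeHom.isFinLocFree_of_isInvertible hN)

/-- Let k be an algebraically closed field of characteristic zero, A an abelian variety over k (a proper
smooth k-group scheme with geometrically connected fibres), (A^t, φ) a given dual abelian variety of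
A for the fppf topology with A^t itself an abelian variety, and P an invertible module on A ×_k A^t
whose class is a Poincaré class; for a k-rational point α of A^t write P_α for the restriction of P
along A = A × {α} → A ×_k A^t. For an object K of D(O_A) and i ≥ 0 let V^i(K) ⊆ A^t be the set of
points underlying the k-rational points α with hypercohomology H^i(A, K ⊗^L P_α) ≠ 0, and call K a
GV object when for every i ≥ 0 the closure of V^i(K) has codimension at least i in A^t (its
dimension plus i is at most dim A^t); for an O_A-module the same words are used with sheaf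
cohomology H^i(A, F ⊗ P_α). Let I and J be quasi-coherent ideal sheaves of O_A whose closed
subschemes have dimension at most one, and M an invertible O_A-module. If the derived tensor product
I ⊗^L J ⊗ M is a GV object, then the ordinary tensor product I ⊗ J ⊗ M is a GV module and so is IJ ⊗
M, IJ being the product ideal sheaf. The derived functors involved are assumed to exist. -/
theorem result (k : Type u) [Field k] [IsAlgClosed k] [CharZero k]
    (A At : Over (Spec (CommRingCat.of k))) [GrpObj A] [IsProper A.hom] [Smooth A.hom] [GeometricallyConnected A.hom]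
    [GrpObj At] [IsProper At.hom] [Smooth At.hom] [GeometricallyConnected At.hom]
    (φ : ∀ T : Over (Spec (CommRingCat.of k)), PicF.Cl (PicF.XT A.hom T) → (T ⟶ At))
    (hφ : AbDual.IsDualAV Scheme.fppfPrecoverage A At φ)
    (P : (pullback A.hom At.hom).Modules) (hP : PicF.IsInvertible P)
    (hPξ : AbDual.IsPoincareCl A At φ (PicF.cl P))
    (I J : A.left.IdealSheafData) (hI : topologicalKrullDim ↥I.subscheme ≤ 1) (hJ : topologicalKrullDim ↥J.subscheme ≤ 1)
    (M : A.left.Modules) (hM : PicF.IsInvertible M)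
    [DCoh.HasLTensorMod (ClSub.idealMod J)] [DCoh.HasLTensorMod M]
    [∀ α : 𝟙_ (Over (Spec (CommRingCat.of k))) ⟶ At, DCoh.HasLTensorMod ((Scheme.Modules.pullback (CartesianMonoidalCategory.lift (𝟙 A) (toUnit A ≫ α)).left).obj P)]
    [DCoh.HasRΓ A.left]
    (hGV : ∀ i : ℕ, topologicalKrullDim ↥(closure {y : ↥At.left | ∃ α : 𝟙_ (Over (Spec (CommRingCat.of k))) ⟶ At, (∃ p : ↥(𝟙_ (Over (Spec (CommRingCat.of k)))).left, α.left p = y) ∧ ¬ IsZero ((DerivedCategory.homologyFunctor AddCommGrpCat.{u} (i : ℤ)).obj ((DCoh.RΓ A.left).obj ((DCoh.LTensorMod ((Scheme.Modules.pullback (CartesianMonoidalCategory.lift (𝟙 A) (toUnit A ≫ α)).left).obj P)).obj ((DCoh.LTensorMod M).obj ((DCoh.LTensorMod (ClSub.idealMod J)).obj (DCoh.inD A.left (ClSub.idealMod I)))))))}) + (i : WithBot ℕ∞) ≤ topologicalKrullDim ↥At.left) :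
    (∀ i : ℕ, topologicalKrullDim ↥(closure {y : ↥At.left | ∃ α : 𝟙_ (Over (Spec (CommRingCat.of k))) ⟶ At, (∃ p : ↥(𝟙_ (Over (Spec (CommRingCat.of k)))).left, α.left p = y) ∧ ¬ Subsingleton (Coh.HH A.left (CohB1.tensorMod (CohB1.tensorMod (CohB1.tensorMod (ClSub.idealMod I) (ClSub.idealMod J)) M) ((Scheme.Modules.pullback (CartesianMonoidalCategory.lift (𝟙 A) (toUnit A ≫ α)).left).obj P)) i)}) + (i : WithBot ℕ∞) ≤ topologicalKrullDim ↥At.left) ∧
    (∀ i : ℕ, topologicalKrullDim ↥(closure {y : ↥At.left | ∃ α : 𝟙_ (Over (Spec (CommRingCat.of k))) ⟶ At, (∃ p : ↥(𝟙_ (Over (Spec (CommRingCat.of k)))).left, α.left p = y) ∧ ¬ Subsingleton (Coh.HH A.left (CohB1.tensorMod (CohB1.tensorMod (ClSub.idealMod (I * J)) M) ((Scheme.Modules.pullback (CartesianMonoidalCategory.lift (𝟙 A) (toUnit A ≫ α)).left).obj P)) i)}) + (i : WithBot ℕ∞) ≤ topologicalKrullDim ↥At.left) := by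
  haveI : IsNoetherian A.left := GrothLib.RightAdj22.isNoetherian_of_proper A.hom
  haveI := GrothLib.Dual.geometricallyIntegral_of_abScheme A
  haveI : IsCommMonObj A := GrothLib.Cube.isCommMonObj_abVar
  obtain ⟨g, hg⟩ := GrothLib.AbTors.exists_dim A
  let MI := ClSub.idealMod I
  let MJ := ClSub.idealMod J
  have hreg := GrothLib.FMK22.regular_over_field A.hom
  have hperf : ∀ (Z : A.left.IdealSheafData), DCoh.IsPerfect (DCoh.inD A.left (ClSub.idealMod Z)) := fun Z => by
    haveI : (DCoh.inD A.left (ClSub.idealMod Z)).IsGE 0 :=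
      inferInstanceAs (((DerivedCategory.singleFunctor A.left.Modules 0).obj (ClSub.idealMod Z)).IsGE 0)
    haveI : (DCoh.inD A.left (ClSub.idealMod Z)).IsLE 0 :=
      inferInstanceAs (((DerivedCategory.singleFunctor A.left.Modules 0).obj (ClSub.idealMod Z)).IsLE 0)
    exact GrothLib.BlowK17.isPerfect_of_regular17 hreg
      (GrothLib.RightAdj22.isCohD_inD (GrothLib.RegPow.isCoh_idealMod Z)) (a := 0) (b := 0)
  let K := (DCoh.LTensorMod MJ).obj (DCoh.inD A.left MI)
  have hKp : DCoh.IsPerfect K := by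
    obtain ⟨hS, ⟨e⟩⟩ := GrothLib.FMK22.nonempty_twist_single MJ (E := DCoh.inD A.left MI)
    haveI := hS
    obtain ⟨S', hS', ⟨eS⟩⟩ := GrothLib.OX.exists_kflat_rep (DCoh.toD A.left
      ((HomologicalComplex.single A.left.Modules (ComplexShape.up ℤ) 0).obj MJ))
    haveI := GrothLib.OX.hasLTensorCx S'
    obtain ⟨c⟩ := GrothLib.FMK22.nonempty_ltensorCx_congr eS.symm (DCoh.inD A.left MI)
    exact GrothLib.OX.isPerfect_of_iso (GrothLib.OX.isPerfect_ltensor S' hS'
      (GrothLib.OX.isPerfect_of_iso (hperf J)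
        (((DerivedCategory.singleFunctorIsoCompQ A.left.Modules 0).app MJ) ≪≫ eS.symm)) (hperf I))
      (c.symm ≪≫ e.symm)
  obtain ⟨hpos, hneg, π, hπ, hπi⟩ := GrothLib.FMK22.exists_tensor_ideal_comparison I J
  haveI := hπ
  obtain ⟨mu, hmu, hmui⟩ := GrothLib.FMK22.exists_mul_epi I J
  haveI := hmu
  obtain ⟨a, ha⟩ := GrothLib.KSix19.ProjPush.exists_isGE_of_isPerfect hKp
  haveI := ha
  haveI : K.IsLE 0 := (DerivedCategory.isLE_iff K 0).2 fun q hq => hpos q hq
  have hC : ∀ x ∈ (J.support : Set A.left), Order.height x ≤ 1 := fun x hx => WithBot.coe_le_coe.1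
    ((GrothLib.FMK22.height_le_dim_embedding (X := A.left) (Y := ↥J.subscheme) (f := fun z => J.subschemeι z)
      J.subschemeι.isClosedEmbedding.isEmbedding (x := x) (fun z hz => by
        have : z ∈ (J.support : Set A.left) := hz.mem_closed J.support.isClosed hx
        rwa [← J.range_subschemeι] at this)).trans hJ)
  have key : ∀ (W : A.left.Modules) (q : DCoh.HD K 0 ⟶ W), Epi q →
      (∀ x : A.left, x ∉ (J.support : Set A.left) → Function.Injective (GrothLib.QCoh.stalkLin q x)) →
      ∀ i : ℕ, topologicalKrullDim ↥(closure {y : ↥At.left | ∃ α : 𝟙_ (Over (Spec (CommRingCat.of k))) ⟶ At, (∃ p : ↥(𝟙_ (Over (Spec (CommRingCat.of k)))).left, α.left p = y) ∧ ¬ Subsingleton (Coh.HH A.left (CohB1.tensorMod (CohB1.tensorMod W M) ((Scheme.Modules.pullback (CartesianMonoidalCategory.lift (𝟙 A) (toUnit A ≫ α)).left).obj P)) i)}) + (i : WithBot ℕ∞) ≤ topologicalKrullDim ↥At.left := by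
    intro W q hq hqi i
    rcases Nat.eq_zero_or_pos i with rfl | hi
    · rw [Nat.cast_zero, add_zero]
      exact topologicalKrullDim_subspace_le _ _
    refine le_trans (add_le_add ?_ le_rfl) (hGV i)
    refine (Topology.IsEmbedding.inclusion (closure_mono ?_)).isInducing.topologicalKrullDim_le
    rintro y ⟨α, hy, hW⟩
    refine ⟨α, hy, fun hz => hW ?_⟩
    let N := (Scheme.Modules.pullback (CartesianMonoidalCategory.lift (𝟙 A) (toUnit A ≫ α)).left).obj P
    have hN : PicF.IsInvertible N :=
      ((GrothLib.Cube.hasCls_clsMod (X := (A ⊗ At).left) hP).pullback _).1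
    obtain ⟨_, _, _⟩ := GrothLib.FMTrans15.exact_tF' hM
    obtain ⟨_, _, _⟩ := GrothLib.FMTrans15.exact_tF' hN
    obtain ⟨tM⟩ := GrothLib.FMTrans15.nonempty_ltensor_iso M
    obtain ⟨tN⟩ := GrothLib.FMTrans15.nonempty_ltensor_iso N
    let FM := GrothLib.Euler.tF M
    let FN := GrothLib.Euler.tF N
    let K₁ := FM.mapDerivedCategory.obj K
    let K' := FN.mapDerivedCategory.obj K₁
    haveI : K₁.IsGE a := GrothLib.DerTrunc.isGE_mapDerivedCategory (F := FM) K a
    haveI : K₁.IsLE 0 := GrothLib.DerTrunc.isLE_mapDerivedCategory (F := FM) K 0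
    haveI : K'.IsGE a := GrothLib.DerTrunc.isGE_mapDerivedCategory (F := FN) K₁ a
    haveI : K'.IsLE 0 := GrothLib.DerTrunc.isLE_mapDerivedCategory (F := FN) K₁ 0
    let w : ∀ l : ℤ, DCoh.HD K' l ≅ FN.obj (FM.obj (DCoh.HD K l)) := fun l =>
      (GrothLib.DerTrunc.homologyMapIso FN l).app K₁ ≪≫
        FN.mapIso ((GrothLib.DerTrunc.homologyMapIso FM l).app K)
    haveI := hq
    haveI : Epi (FM.map q) := inferInstance
    haveI : Epi (FN.map (FM.map q)) := inferInstance
    let p : DCoh.HD K' 0 ⟶ FN.obj (FM.obj W) := (w 0).hom ≫ FN.map (FM.map q)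
    haveI : Epi p := inferInstance
    have hsub : ∀ (Z : A.left.Modules), CohB1.support (FN.obj (FM.obj Z)) ⊆ CohB1.support Z := fun Z =>
      (GrothLib.FMK22.support_tF_subset_finLocFree (GrothLib.LocFreeHom.isFinLocFree_of_isInvertible hN)).trans
        (GrothLib.FMK22.support_tF_subset_finLocFree (GrothLib.LocFreeHom.isFinLocFree_of_isInvertible hM))
    refine GrothLib.FMK22.subsingleton_HH_of_hyper g hg.le (J.support : Set A.left) hC K' a (fun l hl => ?_) p ?_ i hi
      (hz.of_iso ((DerivedCategory.homologyFunctor AddCommGrpCat.{u} (i : ℤ)).mapIso ((DCoh.RΓ A.left).mapIso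
        (FN.mapDerivedCategory.mapIso (tM.app K).symm ≪≫ (tN.app _).symm))))
    · rw [GrothLib.QCoh.support_eq_of_iso (w l)]
      exact (hsub _).trans (hneg l hl)
    · rw [GrothLib.QCoh.support_eq_of_iso (kernelIsIsoComp (w 0).hom (FN.map (FM.map q)))]
      refine ((support_kernel_map _ hN).trans (support_kernel_map _ hM)).trans fun x hx => ?_
      by_contra hxC
      exact GrothLib.QCoh.notMem_support_kernel_of_injective q (hqi x hxC) hx
  exact ⟨key _ π hπ hπi, key _ (π ≫ mu) inferInstance fun x hx u v huv => by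
    rw [GrothLib.HodgeIndex.stalkLin_comp_apply, GrothLib.HodgeIndex.stalkLin_comp_apply] at huv
    exact hπi x hx (hmui x hx huv)⟩

end Groth.Agent.S15394
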