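import Groth.Statements.S15395
import Groth.Agent.Lib.FMK22.GVTensor
-- import your own Groth.Agent.* helpers here

set_option autoImplicit false
universe u
open CategoryTheory CategoryTheory.Limits MonoidalCategory CartesianMonoidalCategory MonObj GrpObj AlgebraicGeometry
attribute [local instance] HasDerivedCategory.standard
open AbVar

namespace Groth.Agent.S15395

/-- Let k be an algebraically closed field of characteristic zero, A an abelian variety over k (a proper
smooth k-group scheme with geometrically connected fibres), (A^t, φ) a given dual abelian variety of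
A for the fppf topology with A^t itself an abelian variety, and P an invertible module on A ×_k A^t
whose class is a Poincaré class; for a k-rational point α of A^t write P_α for the restriction of P
along A = A × {α} → A ×_k A^t. Let E be a coherent O_A-module satisfying IT(0): H^i(A, E ⊗ P_α) = 0
for every i ≥ 1 and every α. Let F be an object of D(O_A), bounded with coherent cohomology sheaves,
which is a GV object: for every i ≥ 0 the closure in A^t of the set of points underlying the
k-rational points α with hypercohomology H^i(A, F ⊗^L P_α) ≠ 0 has codimension at least i (its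
dimension plus i is at most dim A^t). Then the derived tensor product F ⊗^L E satisfies the IT(0)
vanishing: H^i(A, (F ⊗^L E) ⊗^L P_α) = 0 for every i ≥ 1 and every k-rational point α of A^t. The
derived functors involved are assumed to exist. (IT(0) is taken to mean vanishing of H^i for every i
≥ 1 and every α; nothing is asserted about H^0 or about negative degrees, where F ⊗^L E may have
hypercohomology.) -/
theorem result (k : Type u) [Field k] [IsAlgClosed k] [CharZero k]
    (A At : Over (Spec (CommRingCat.of k))) [GrpObj A] [IsProper A.hom] [Smooth A.hom] [GeometricallyConnected A.hom]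
    [GrpObj At] [IsProper At.hom] [Smooth At.hom] [GeometricallyConnected At.hom]
    (φ : ∀ T : Over (Spec (CommRingCat.of k)), PicF.Cl (PicF.XT A.hom T) → (T ⟶ At))
    (hφ : AbDual.IsDualAV Scheme.fppfPrecoverage A At φ)
    (P : (pullback A.hom At.hom).Modules) (hP : PicF.IsInvertible P)
    (hPξ : AbDual.IsPoincareCl A At φ (PicF.cl P))
    (E : A.left.Modules) (hE : Coh.IsCoh E)
    (hE0 : ∀ (α : 𝟙_ (Over (Spec (CommRingCat.of k))) ⟶ At) (i : ℕ), 1 ≤ i → Subsingleton (Coh.HH A.left (CohB1.tensorMod E ((Scheme.Modules.pullback (CartesianMonoidalCategory.lift (𝟙 A) (toUnit A ≫ α)).left).obj P)) i))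
    (F : DCoh.D A.left) (hF : DCoh.IsCohD F) (m n : ℤ) (hFm : DerivedCategory.IsGE F m) (hFn : DerivedCategory.IsLE F n)
    [DCoh.HasLTensorMod E] [∀ α : 𝟙_ (Over (Spec (CommRingCat.of k))) ⟶ At, DCoh.HasLTensorMod ((Scheme.Modules.pullback (CartesianMonoidalCategory.lift (𝟙 A) (toUnit A ≫ α)).left).obj P)] [DCoh.HasRΓ A.left]
    (hGV : ∀ i : ℕ, topologicalKrullDim ↥(closure {y : ↥At.left | ∃ α : 𝟙_ (Over (Spec (CommRingCat.of k))) ⟶ At, (∃ p : ↥(𝟙_ (Over (Spec (CommRingCat.of k)))).left, α.left p = y) ∧ ¬ IsZero ((DerivedCategory.homologyFunctor AddCommGrpCat.{u} (i : ℤ)).obj ((DCoh.RΓ A.left).obj ((DCoh.LTensorMod ((Scheme.Modules.pullback (CartesianMonoidalCategory.lift (𝟙 A) (toUnit A ≫ α)).left).obj P)).obj F)))}) + (i : WithBot ℕ∞) ≤ topologicalKrullDim ↥At.left)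
    (α : 𝟙_ (Over (Spec (CommRingCat.of k))) ⟶ At) (i : ℕ) (hi : 1 ≤ i) :
    IsZero ((DerivedCategory.homologyFunctor AddCommGrpCat.{u} (i : ℤ)).obj ((DCoh.RΓ A.left).obj ((DCoh.LTensorMod ((Scheme.Modules.pullback (CartesianMonoidalCategory.lift (𝟙 A) (toUnit A ≫ α)).left).obj P)).obj ((DCoh.LTensorMod E).obj F)))) := by
  haveI := GrothLib.Dual.geometricallyIntegral_of_abScheme At
  haveI : IsCommMonObj At := GrothLib.Cube.isCommMonObj_abVar
  haveI : IsNoetherian At.left := GrothLib.RightAdj22.isNoetherian_of_proper At.hom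
  haveI : IsNoetherian A.left := GrothLib.RightAdj22.isNoetherian_of_proper A.hom
  haveI : JacobsonSpace At.left := LocallyOfFiniteType.jacobsonSpace At.hom
  obtain ⟨g, hg⟩ := GrothLib.AbTors.exists_dim At
  haveI : DCoh.HasLpull (fst A At).left := GrothLib.OX.hasLpull _
  haveI : DCoh.HasLTensorMod (X := (A ⊗ At).left) P := GrothLib.OX.hasLTensorMod _
  haveI : DCoh.HasRpush (snd A At).left := GrothLib.KInj.hasRightDerivedFunctor _
  haveI : F.IsGE m := hFm
  haveI : F.IsLE n := hFn
  have hFp := GrothLib.BlowK17.isPerfect_of_regular17 (GrothLib.FMK22.regular_over_field A.hom) hF (a := m) (b := n)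
  refine GrothLib.FMK22.isZero_rGamma_tensor_it0 hφ P hP hPξ E hE hE0 F hFp g hg (fun j y hy => ?_) α i hi
  have hC := GrothLib.QCoh.isClosed_support_of_isCoh
    (GrothLib.FMK22.isCohD_of_perfect (GrothLib.FMK22.isPerfect_transform (A := A) (At := At) P hP hFp) (j : ℤ))
  rw [← closure_inter_closedPoints hC] at hy
  have h2 := hGV j
  rw [hg] at h2
  refine WithBot.coe_le_coe.1 ?_
  push_cast
  refine le_trans (add_le_add (GrothLib.FMK22.height_le_dim_closed (X := At.left) isClosed_closure
    (closure_mono ?_ hy)) le_rfl) h2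
  intro z hz
  by_contra hzS
  refine GrothLib.FMK22.notMem_support_transform (A := A) (At := At) P hP hFp j z hz.2 (fun x hx => ?_) hz.1
  by_contra hx'
  exact hzS ⟨x, hx, hx'⟩

end Groth.Agent.S15395
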