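import Groth.Statements.S15397
-- import your own Groth.Agent.* helpers here
import Groth.Agent.Lib.MulSec15.Main
import Groth.Agent.Lib.Poincare.DualRel
import Groth.Agent.Lib.ProjCoh.Generic
import Mathlib.AlgebraicGeometry.Morphisms.Proper
import Mathlib.FieldTheory.IsAlgClosed.Basic

set_option autoImplicit false
universe u
open CategoryTheory CategoryTheory.Limits MonoidalCategory CartesianMonoidalCategory MonObj GrpObj AlgebraicGeometry
open AbVar

namespace Groth.Agent.S15397

/-- Let k be an algebraically closed field of characteristic zero, A an abelian variety over k (a proper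
smooth k-group scheme with geometrically connected fibres), and E a finite locally free O_A-module
of rank r which is generically globally generated: there are a non-empty open subset U of A and a
family of global sections s_j : O_A → E such that the induced map from the direct sum of copies of
O_A to E is an epimorphism after restriction to U. Assume that r is smaller than the dimension over
k of H^0(A, E), and let D be a determinant of E, that is an r-th exterior power of E. Then the
multiplication map on global sections Γ(A, E) ⊗ Γ(A, D) → Γ(A, E ⊗ D), written as the canonical map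
from the global sections of the sectionwise tensor product presheaf (the tensor being over the ring
of global functions Γ(A, O_A)) to the global sections of its sheafification, is not injective. -/
theorem result (k : Type u) [Field k] [IsAlgClosed k] [CharZero k]
    (A : Over (Spec (CommRingCat.of k))) [GrpObj A] [IsProper A.hom] [Smooth A.hom] [GeometricallyConnected A.hom]
    (E : A.left.Modules) (r : ℕ) (hE : FlatMod.IsFinLocFreeOfRank r E)
    (hgen : ∃ (U : A.left.Opens) (J : Type u) (s : J → (Coh.structureModule A.left ⟶ E)),
      (U : Set ↥A.left).Nonempty ∧ Epi ((Scheme.Modules.restrictFunctor U.ι).map (Sigma.desc s)))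
    (hlt : r < @Module.finrank k (Coh.HH A.left E 0) _ _ (@Coh.moduleOver k _ A.left ⟨A.hom⟩ E 0))
    (D : A.left.Modules) (hD : ExtPow.IsExtPow r E D) :
    ¬ Function.Injective
      ((toSheafify (Opens.grothendieckTopology ↥A.left) (CohB1.tensorPre E D).presheaf).app (Opposite.op ⊤)) := by
  obtain ⟨U, J, s, hU, he⟩ := hgen
  haveI := GrothLib.Dual.geometricallyIntegral_of_abScheme A
  haveI : IsIntegral A.left := GeometricallyIntegral.isIntegral_of_subsingleton A.hom
  haveI : IsLocallyNoetherian A.left := LocallyOfFiniteType.isLocallyNoetherian A.hom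
  letI : A.left.Over (Spec (CommRingCat.of k)) := ⟨A.hom⟩
  have hR : IsField Γ(A.left, ⊤) := isField_of_universallyClosed (K := k) A.hom
  have hsurj : Function.Surjective (Coh.toGlobal A.hom : k →+* _) := by
    let F : k →+* Γ(A.left, ⊤) := ((Scheme.ΓSpecIso (CommRingCat.of k)).inv ≫ A.hom.appTop).hom
    letI : Algebra k Γ(A.left, ⊤) := F.toAlgebra
    haveI : Module.Finite k Γ(A.left, ⊤) := RingHom.Finite.comp (finite_appTop_of_universallyClosed (K := k) A.hom)
      (RingHom.Finite.of_surjective _ ((Scheme.ΓSpecIso (CommRingCat.of k)).commRingCatIsoToRingEquiv.symm.surjective))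
    haveI : IsDomain Γ(A.left, ⊤) := hR.isDomain
    exact (IsAlgClosed.algebraMap_bijective_of_isIntegral (k := k) (K := Γ(A.left, ⊤))).2
  obtain ⟨V, t, hV, ht⟩ := GrothLib.MulSec15.exists_global_frame (he := he) hE s hU
  obtain ⟨v, hv⟩ : ∃ v : Γ(E, ⊤), v ∉ Submodule.span Γ(A.left, ⊤) (Set.range t) := by
    by_contra hall
    push Not at hall
    refine absurd hlt (not_lt.2 ?_)
    let b : Fin r → Coh.HH A.left E 0 := fun i => (GrothLib.ProjCoh.H0top E).symm (t i)
    have hspan : Submodule.span k (Set.range b) = ⊤ := by
      refine eq_top_iff.2 fun z _ => ?_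
      obtain ⟨c, hc⟩ := (Submodule.mem_span_range_iff_exists_fun _).1 (hall (GrothLib.ProjCoh.H0top E z))
      choose a ha using fun i => hsurj (c i)
      have hz : z = ∑ i, a i • b i := by
        apply (GrothLib.ProjCoh.H0top E).injective
        rw [← hc, map_sum]
        refine Finset.sum_congr rfl fun i _ => ?_
        rw [GrothLib.ProjCoh.H0top_smul, AddEquiv.apply_symm_apply]
        exact congrArg (· • t i) (ha i).symm
      rw [hz]
      exact Submodule.sum_mem _ fun i _ => Submodule.smul_mem _ _ (Submodule.subset_span ⟨i, rfl⟩)
    show Module.finrank k (Coh.HH A.left E 0) ≤ r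
    rw [← finrank_top, ← hspan]
    exact (finrank_range_le_card b).trans (Fintype.card_fin r).le
  obtain ⟨τ, hτ, hτ0⟩ := GrothLib.MulSec15.exists_mem_ker_tmL hR hE hD hV ht hv
  intro hinj
  refine hτ (@hinj τ 0 ?_)
  exact ((GrothLib.ExtPowX.Ses.tmL_eq E D ⊤ τ).symm.trans hτ0).trans (map_zero _).symm

end Groth.Agent.S15397
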