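import Groth.Statements.S15399
import Groth.Agent.Lib.PicH1.Thick

set_option autoImplicit false
universe u
open CategoryTheory CategoryTheory.Limits AlgebraicGeometry
open PicGrp

namespace Groth.Agent.S15399

/-- Let X be a quasi-compact separated scheme, J a quasi-coherent ideal of O_X with J² = 0 and X₀ the
closed subscheme it cuts out, with inclusion i, and assume that the restriction of global functions
O_X(X) → O_{X₀}(X₀) is surjective. Assume the Picard group laws on X and X₀ and that pullback of
invertible classes along i is multiplicative. Then the kernel of the pullback homomorphism Pic(X) →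
Pic(X₀) is isomorphic, as a group, to the additive group H¹(X, J) (J viewed as an O_X-module),
written multiplicatively. (Existence of a group isomorphism only; the compatibility of the
isomorphism with pullback along morphisms Y → X is not stated.) -/
theorem result (X : Scheme.{u}) [CompactSpace X] [X.IsSeparated]
    (J : X.IdealSheafData) (hJ : J * J = ⊥)
    [PicGrp.Law X] [PicGrp.Law J.subscheme] (hi : PicGrp.PullMul J.subschemeι)
    (hsurj : Function.Surjective J.subschemeι.appTop.hom) :
    Nonempty ((PicGrp.pullHom J.subschemeι hi).ker ≃* Multiplicative (Coh.HH X (ClSub.idealMod J) 1)) := by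
  have hc := GrothLib.PicH1.isSqZero_subschemeι J hJ
  have hunit : Function.Surjective (Units.map J.subschemeι.appTop.hom.toMonoidHom) := fun v => by
    obtain ⟨r, hr⟩ := hsurj v
    obtain ⟨r', hr'⟩ := hsurj ((v⁻¹ : (Γ(J.subscheme, ⊤))ˣ) : Γ(J.subscheme, ⊤))
    have hk : J.subschemeι.appTop (r * r' - 1) = 0 := by
      show J.subschemeι.appTop.hom (r * r' - 1) = 0
      rw [map_sub, map_mul, map_one, hr, hr', Units.mul_inv, sub_self]
    have h2 := hc ⊤ _ _ hk hk
    have hu : IsUnit r := IsUnit.of_mul_eq_one (r' * (1 - (r * r' - 1))) (by linear_combination -h2)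
    exact ⟨hu.unit, Units.ext hr⟩
  have hα : Function.Injective (GrothLib.PicH1.toPicKer _ hc) := by
    refine (MonoidHom.ker_eq_bot_iff _).1 ?_
    rw [GrothLib.PicH1.ker_toPicKer, eq_bot_iff]
    rintro _ ⟨v, rfl⟩
    have hv : v ∈ (GrothLib.PicH1.conn0 hc).ker := by
      rw [GrothLib.PicH1.ker_conn0 hc]
      exact hunit v
    exact hv
  exact ⟨(MulEquiv.subgroupCongr (GrothLib.PicH1.range_toPicKer hc hi)).trans
    (MonoidHom.ofInjective hα).symm⟩

end Groth.Agent.S15399
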