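import Groth.Statements.S1540
import Groth.Agent.Lib.BaseChange.AlgClosedIn
import Mathlib

set_option autoImplicit false
set_option backward.isDefEq.respectTransparency false
universe u
open CategoryTheory CategoryTheory.Limits AlgebraicGeometry
attribute [local instance] Curv2.resAlgebra Curv2.stalkAlgebra
open Variety

open TensorProduct

namespace Groth.Agent.S1540

/-- An irreducible scheme X over k with generic point ξ is geometrically irreducible if and only if the
separable algebraic closure of k in the residue field of ξ is k itself. -/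
theorem result (k : Type u) [Field k] (X : Scheme.{u}) [X.Over (Spec (CommRingCat.of k))] [IrreducibleSpace X] :
    GeometricallyIrreducible (X ↘ (Spec (CommRingCat.of k))) ↔
      ∀ a : X.residueField (genericPoint X), IsSeparable k a → a ∈ Set.range (algebraMap k (X.residueField (genericPoint X))) := by
  classical
  set η := genericPoint X
  constructor
  · intro h a ha
    by_contra hna
    let κ := X.residueField η
    let E := IntermediateField.adjoin k ({a} : Set κ)
    haveI : FiniteDimensional k E := IntermediateField.adjoin.finiteDimensional ha.isIntegral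
    haveI : Algebra.IsSeparable k E := (IntermediateField.isSeparable_adjoin_simple_iff_isSeparable k κ).mpr ha
    haveI : IrreducibleSpace (Curv2.bc k X E) := (GrothLib.BaseChange.geometricallyIrreducible_iff_forall k X).mp h E
    let sX := X ↘ (Spec (CommRingCat.of k))
    let g := Spec.map (CommRingCat.ofHom (algebraMap k E))
    let i := X.fromSpecResidueField η
    have hi : i ≫ sX = Spec.map (CommRingCat.ofHom (algebraMap k κ)) := GrothLib.BaseChange.fromSpecResidueField_over k X η
    let m := pullback.map (i ≫ sX) g sX g i (𝟙 _) (𝟙 _) (by simp) (by simp)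
    have hm : IsPullback (pullback.fst _ _) m i (pullback.fst sX g) :=
      (IsPullback.of_right (by simpa [m] using (IsPullback.of_hasPullback (i ≫ sX) g).flip)
        (by simp [m]) (IsPullback.of_hasPullback _ _).flip).flip
    haveI : IsPreimmersion m := MorphismProperty.of_isPullback hm (inferInstanceAs (IsPreimmersion (X.fromSpecResidueField η)))
    let e := pullback.congrHom hi (rfl : g = _) ≪≫ pullbackSpecIso k κ E
    let c := e.inv ≫ m
    have hfst : ∀ z, Curv2.bcFst k X E (c z) = η := by
      intro z
      show pullback.fst sX g (m (e.inv z)) = η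
      rw [← Scheme.Hom.comp_apply m, show m ≫ pullback.fst sX g = pullback.fst _ _ ≫ i from pullback.lift_fst _ _ _, Scheme.Hom.comp_apply]
      exact Scheme.fromSpecResidueField_apply _ _
    obtain ⟨t, ht⟩ := GrothLib.BaseChange.exists_generic
      (show (Set.univ : Set (Curv2.bc k X E)) ∈ irreducibleComponents _ by
        rw [irreducibleComponents_eq_singleton]; exact rfl)
    have hcz : ∀ z, c z = t := by
      intro z
      have hs : t ⤳ c z := ht.specializes trivial
      have h0 := hs.map (Curv2.bcFst k X E).continuous
      rw [hfst z] at h0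
      have h1 : Curv2.bcFst k X E t = η := (h0.antisymm (genericPoint_specializes _)).eq
      obtain ⟨w, hw⟩ : t ∈ Set.range c := by
        have : t ∈ Set.range m := by
          rw [Scheme.Pullback.range_map]
          exact ⟨⟨default, (Scheme.fromSpecResidueField_apply _ _).trans h1.symm⟩, ⟨_, rfl⟩⟩
        obtain ⟨v, hv⟩ := this
        obtain ⟨w, rfl⟩ := e.inv.surjective v
        exact ⟨w, hv⟩
      subst hw
      haveI : IsArtinianRing (κ ⊗[k] E) := IsArtinianRing.of_finite κ (κ ⊗[k] E)
      have hwz := c.isEmbedding.isInducing.specializes_iff.mp hs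
      have hle := (PrimeSpectrum.le_iff_specializes w z).mpr hwz
      haveI := IsArtinianRing.isMaximal_of_isPrime (PrimeSpectrum.asIdeal w)
      exact congrArg c (PrimeSpectrum.ext ((this.eq_of_le z.isPrime.ne_top hle)).symm)
    haveI : Subsingleton (PrimeSpectrum (κ ⊗[k] E)) :=
      ⟨fun p q => (c.isEmbedding.injective ((hcz p).trans (hcz q).symm))⟩
    haveI : Algebra.FormallyUnramified k E := Algebra.FormallyUnramified.of_isSeparable k E
    haveI : _root_.IsReduced (κ ⊗[k] E) := Algebra.FormallyUnramified.isReduced_of_field κ (κ ⊗[k] E)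
    haveI : Ring.KrullDimLE 0 (κ ⊗[k] E) := (Ring.krullDimLE_iff).mpr (Order.krullDim_nonpos_of_subsingleton)
    letI : Field (κ ⊗[k] E) :=
      ((PrimeSpectrum.subsingleton_iff_isField_of_isReduced (R := κ ⊗[k] E)).mp inferInstance).toField
    let μ : κ ⊗[k] E →ₐ[k] κ := Algebra.TensorProduct.lift (AlgHom.id k κ) E.val (fun _ _ => Commute.all _ _)
    have hμ : Function.Injective μ := RingHom.injective μ.toRingHom
    let a' : E := ⟨a, IntermediateField.mem_adjoin_simple_self k a⟩
    have heq : (a : κ) ⊗ₜ[k] (1 : E) = (1 : κ) ⊗ₜ[k] a' := hμ (by simp [μ, a'])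
    have hnot : (1 : E) ∉ Submodule.span k ({a'} : Set E) := by
      rw [Submodule.mem_span_singleton]
      rintro ⟨c, hc⟩
      refine hna ⟨c⁻¹, ?_⟩
      have h2 : c • a = 1 := congrArg Subtype.val hc
      rw [Algebra.smul_def] at h2
      rw [map_inv₀]
      exact (eq_inv_of_mul_eq_one_right h2).symm
    obtain ⟨φ, hφ1, hφ⟩ := Submodule.exists_dual_map_eq_bot_of_notMem hnot inferInstance
    have hφa : φ a' = 0 := (Submodule.eq_bot_iff _).mp hφ _ ⟨a', Submodule.subset_span rfl, rfl⟩
    let f : E →ₗ[k] k := (φ 1)⁻¹ • φ
    have hf : f 1 = 1 ∧ f a' = 0 := ⟨by simp [f, hφ1], by simp [f, hφa]⟩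
    have h3 := congrArg (fun w => TensorProduct.rid k κ (f.lTensor κ w)) heq
    simp [hf.1, hf.2] at h3
    exact hna ⟨0, by rw [map_zero, h3]⟩
  · intro h
    let L := SeparableClosure k
    haveI : Nonempty (Curv2.bc k X L) := by
      obtain ⟨z, -⟩ := (Curv2.bcFst k X L).surjective η
      exact ⟨z⟩
    haveI : IrreducibleSpace (Curv2.bc k X L) := by
      obtain ⟨z₀⟩ := ‹Nonempty (Curv2.bc k X L)›
      obtain ⟨T₀, hT₀, -⟩ := exists_mem_irreducibleComponents_subset_of_isIrreducible _ (isIrreducible_singleton (x := z₀))
      obtain ⟨t₀, ht₀⟩ := GrothLib.BaseChange.exists_generic hT₀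
      have key : ∀ T ∈ irreducibleComponents (Curv2.bc k X L), ∀ t, IsGenericPoint t T → Curv2.bcFst k X L t = η := by
        intro T hT t ht
        obtain ⟨-, h2⟩ := GrothLib.BaseChange.image_irreducibleComponent k X L hT ht
        rw [irreducibleComponents_eq_singleton] at h2
        exact IsGenericPoint.eq (S := Set.univ) (Set.mem_singleton_iff.mp h2) (genericPoint_spec X)
      suffices hu : T₀ = Set.univ by
        haveI : PreirreducibleSpace (Curv2.bc k X L) := ⟨hu ▸ hT₀.1.2⟩
        exact ⟨⟨z₀⟩⟩
      refine Set.eq_univ_of_forall fun z => ?_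
      obtain ⟨T, hT, hz⟩ := exists_mem_irreducibleComponents_subset_of_isIrreducible _ (isIrreducible_singleton (x := z))
      obtain ⟨t, ht⟩ := GrothLib.BaseChange.exists_generic hT
      have : t = t₀ := GrothLib.BaseChange.eq_of_sepClosedIn_separable k X (x := η) (fun a ha => h a ha) L t t₀
        (key T hT t ht) (key T₀ hT₀ t₀ ht₀)
      subst this
      rw [← ht₀.def, ht.def]
      exact hz rfl
    exact GrothLib.BaseChange.geometricallyIrreducible_of_irreducible_bc k X L

end Groth.Agent.S1540
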