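import Groth.Statements.S15400
import Groth.Agent.Lib.PicH1.Thick

set_option autoImplicit false
universe u
open CategoryTheory CategoryTheory.Limits AlgebraicGeometry
open PicGrp

namespace Groth.Agent.S15400

/-- Let X' be a scheme and I a quasi-coherent ideal of O_{X'} with I² = 0, cutting out the closed
subscheme X with inclusion i (so X ⊆ X' is a first-order thickening). Assume the Picard group laws
on X' and X and that pullback of invertible classes along i is multiplicative. Then there exist
group homomorphisms ε : H⁰(X', I) → Γ(X', O_{X'})ˣ, δ₀ : Γ(X, O_X)ˣ → H¹(X', I), α : H¹(X', I) →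
Pic(X') and δ₁ : Pic(X) → H²(X', I) (the cohomology groups of the O_{X'}-module I, computed on X',
which has the same underlying space as X, and written multiplicatively) such that the sequence 0 →
H⁰(X', I) → Γ(X', O_{X'})ˣ → Γ(X, O_X)ˣ → H¹(X', I) → Pic(X') → Pic(X) → H²(X', I), whose second map
is restriction of units and whose fifth map is pullback along i, is exact. (Only the existence of
the four connecting homomorphisms is asserted; they are not identified with the maps f ↦ 1 + f and
the boundary maps of the units sequence.) -/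
theorem result (X' : Scheme.{u}) (I : X'.IdealSheafData) (hI : I * I = ⊥)
    [PicGrp.Law X'] [PicGrp.Law I.subscheme] (hi : PicGrp.PullMul I.subschemeι) :
    ∃ (ε : Multiplicative (Coh.HH X' (ClSub.idealMod I) 0) →* (Γ(X', ⊤))ˣ)
      (δ₀ : (Γ(I.subscheme, ⊤))ˣ →* Multiplicative (Coh.HH X' (ClSub.idealMod I) 1))
      (α : Multiplicative (Coh.HH X' (ClSub.idealMod I) 1) →* PicLoc.PicSet X')
      (δ₁ : PicLoc.PicSet I.subscheme →* Multiplicative (Coh.HH X' (ClSub.idealMod I) 2)),
      Function.Injective ε ∧
      (Units.map I.subschemeι.appTop.hom.toMonoidHom).ker = ε.range ∧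
      δ₀.ker = (Units.map I.subschemeι.appTop.hom.toMonoidHom).range ∧
      α.ker = δ₀.range ∧
      (PicGrp.pullHom I.subschemeι hi).ker = α.range ∧
      δ₁.ker = (PicGrp.pullHom I.subschemeι hi).range := by
  have hc := GrothLib.PicH1.isSqZero_subschemeι I hI
  let e := Sheaf.H.equiv₀ (Coh.toAb (GrothLib.UnitsThick26.kerMod I.subschemeι))
    (CategoryTheory.Limits.isTerminalTop (α := X'.Opens))
  let ε : Multiplicative (Coh.HH X' (ClSub.idealMod I) 0) →* (Γ(X', ⊤))ˣ :=
    MonoidHom.mk' (fun k => GrothLib.UnitsThick26.oneAddUnit hc ⊤ (e k.toAdd)) fun k l => by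
      refine Units.ext ?_
      show 1 + GrothLib.UnitsThick26.kval I.subschemeι ⊤ (e (k.toAdd + l.toAdd)) =
        (1 + GrothLib.UnitsThick26.kval I.subschemeι ⊤ (e k.toAdd)) *
          (1 + GrothLib.UnitsThick26.kval I.subschemeι ⊤ (e l.toAdd))
      have h := hc ⊤ _ _ (GrothLib.UnitsThick26.app_kval I.subschemeι ⊤ (e k.toAdd))
        (GrothLib.UnitsThick26.app_kval I.subschemeι ⊤ (e l.toAdd))
      have h2 : GrothLib.UnitsThick26.kval I.subschemeι ⊤ (e (k.toAdd + l.toAdd)) =
          GrothLib.UnitsThick26.kval I.subschemeι ⊤ (e k.toAdd) +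
            GrothLib.UnitsThick26.kval I.subschemeι ⊤ (e l.toAdd) :=
        (congrArg _ (e.map_add k.toAdd l.toAdd)).trans (GrothLib.UnitsThick26.kval_add _ _ _ _)
      rw [h2]
      linear_combination -h
  refine ⟨ε, GrothLib.PicH1.conn0 hc, GrothLib.PicH1.toPicKer _ hc, GrothLib.PicH1.conn1 hc, ?_, ?_,
    GrothLib.PicH1.ker_conn0 hc, GrothLib.PicH1.ker_toPicKer hc, GrothLib.PicH1.range_toPicKer hc hi,
    GrothLib.PicH1.ker_conn1 hc hi⟩
  · intro k l h
    exact Multiplicative.toAdd.injective (e.injective (GrothLib.UnitsThick26.kval_injective _ _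
      (add_left_cancel (congrArg Units.val h))))
  · ext v
    constructor
    · intro hv
      obtain ⟨k, hk⟩ := GrothLib.UnitsThick26.exists_oneAdd hc v (congrArg Units.val hv)
      refine ⟨Multiplicative.ofAdd (e.symm k), ?_⟩
      show GrothLib.UnitsThick26.oneAddUnit hc ⊤ (e (e.symm k)) = v
      rw [AddEquiv.apply_symm_apply]
      exact hk
    · rintro ⟨k, rfl⟩
      refine Units.ext ?_
      show I.subschemeι.app ⊤ (1 + GrothLib.UnitsThick26.kval I.subschemeι ⊤ (e k.toAdd)) = 1
      rw [map_add, map_one, GrothLib.UnitsThick26.app_kval, add_zero]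

end Groth.Agent.S15400
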