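import Groth.Statements.S15404
import Groth.Agent.Lib.PicGlue26.Glue
import Groth.Agent.Lib.PicGlue26.Base
import Groth.Agent.Lib.PicGlue26.Bridge

set_option autoImplicit false
universe u
open CategoryTheory CategoryTheory.Limits AlgebraicGeometry
open PicGrp

namespace Groth.Agent.S15404

open GrothLib.PicGlue26

/-- Let π : X ⟶ B be quasi-compact and separated and let X be the union of the closed subschemes Y =
V(I) and Z = V(J), I and J quasi-coherent ideals with I ∩ J = 0 (so that O_X → O_Y × O_Z is
injective with cokernel O_W, W = Y ∩ Z = V(I + J)); assume that W is flat, proper and of finite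
presentation over B, that W → B has a section, and that the geometric fibres of W → B are reduced
and connected. Assume the Picard group laws on B, X, Y, Z, W and that pullback of invertible classes
along π, along the inclusions of Y, Z in X and of W in Y, Z, and along the structure maps of Y, Z, W
is multiplicative. Then the square of groups formed by Pic(X)/π^*Pic(B), Pic(Y)/Pic(B),
Pic(Z)/Pic(B) and Pic(W)/Pic(B) under restriction is cartesian: (a) an invertible class on X whose
restrictions to Y and to Z are pulled back from B is itself pulled back from B; (b) for invertible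
classes y on Y and z on Z whose restrictions to W agree up to a class pulled back from B, there is a
class on X whose restrictions to Y and Z are y and z up to classes pulled back from B. (The
published statement asserts this for the functor T ↦ Pic(X ×_B T)/Pic(T) on all B-schemes T and
assumes only that π is quasi-compact and separated, W flat over B with a section and geometrically
reduced connected fibres; its proof uses that every global unit on W comes from B, through a lemma
on flat proper morphisms, and without properness the assertion fails — over a field, two affine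
planes glued along the hyperbola ts = 1 have non-trivial Picard group — so W is taken proper and of
finite presentation over B here (finite presentation being automatic over a locally Noetherian
base), and only the value at T = B is stated.) -/
theorem result {X B : Scheme.{u}} (π : X ⟶ B)
    [QuasiCompact π] [IsSeparated π] (I J : X.IdealSheafData) (hIJ : I ⊓ J = ⊥)
    [Flat ((I ⊔ J).subschemeι ≫ π)] [IsProper ((I ⊔ J).subschemeι ≫ π)]
    [LocallyOfFinitePresentation ((I ⊔ J).subschemeι ≫ π)]
    (s : B ⟶ (I ⊔ J).subscheme) (hs : s ≫ (I ⊔ J).subschemeι ≫ π = 𝟙 B)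
    (hfib : ∀ (K : Type u) [Field K] [IsAlgClosed K] (g : Spec (CommRingCat.of K) ⟶ B),
      IsReduced (pullback ((I ⊔ J).subschemeι ≫ π) g) ∧ ConnectedSpace ↥(pullback ((I ⊔ J).subschemeι ≫ π) g))
    [PicGrp.Law B] [PicGrp.Law X] [PicGrp.Law I.subscheme] [PicGrp.Law J.subscheme] [PicGrp.Law (I ⊔ J).subscheme]
    (hπ : PicGrp.PullMul π) (hY : PicGrp.PullMul I.subschemeι) (hZ : PicGrp.PullMul J.subschemeι)
    (hπY : PicGrp.PullMul (I.subschemeι ≫ π)) (hπZ : PicGrp.PullMul (J.subschemeι ≫ π))
    (hπW : PicGrp.PullMul ((I ⊔ J).subschemeι ≫ π))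
    (hWY : PicGrp.PullMul (Scheme.IdealSheafData.inclusion (le_sup_left : I ≤ I ⊔ J)))
    (hWZ : PicGrp.PullMul (Scheme.IdealSheafData.inclusion (le_sup_right : J ≤ I ⊔ J))) :
    (∀ c : PicLoc.PicSet X,
        (∃ b₁ : PicLoc.PicSet B, PicGrp.pullHom I.subschemeι hY c = PicGrp.pullHom (I.subschemeι ≫ π) hπY b₁) →
        (∃ b₂ : PicLoc.PicSet B, PicGrp.pullHom J.subschemeι hZ c = PicGrp.pullHom (J.subschemeι ≫ π) hπZ b₂) →
          ∃ b : PicLoc.PicSet B, c = PicGrp.pullHom π hπ b) ∧
      (∀ (y : PicLoc.PicSet I.subscheme) (z : PicLoc.PicSet J.subscheme),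
        (∃ b : PicLoc.PicSet B,
            PicGrp.pullHom (Scheme.IdealSheafData.inclusion (le_sup_left : I ≤ I ⊔ J)) hWY y =
              PicGrp.pullHom (Scheme.IdealSheafData.inclusion (le_sup_right : J ≤ I ⊔ J)) hWZ z *
                PicGrp.pullHom ((I ⊔ J).subschemeι ≫ π) hπW b) →
          ∃ (c : PicLoc.PicSet X) (b₁ b₂ : PicLoc.PicSet B),
            PicGrp.pullHom I.subschemeι hY c = y * PicGrp.pullHom (I.subschemeι ≫ π) hπY b₁ ∧
              PicGrp.pullHom J.subschemeι hZ c = z * PicGrp.pullHom (J.subschemeι ≫ π) hπZ b₂) := by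

  refine ⟨fun c ⟨b₁, hb₁⟩ ⟨b₂, hb₂⟩ => ⟨b₁, ?_⟩, fun y z ⟨b, hb⟩ => ?_⟩
  · have e₁ := congrArg toPic hb₁
    have e₂ := congrArg toPic hb₂
    rw [toPic_pullHom, toPic_pullHom] at e₁ e₂
    have hW : GrothLib.Cube.pull ((I ⊔ J).subschemeι ≫ π) (toPic b₁) =
        GrothLib.Cube.pull ((I ⊔ J).subschemeι ≫ π) (toPic b₂) := by
      have f₁ := congrArg (GrothLib.Cube.pull (jY I J)) e₁
      have f₂ := congrArg (GrothLib.Cube.pull (jZ I J)) e₂
      rw [GrothLib.Cube.pull_comp, GrothLib.Cube.pull_comp, jY_ι, ← Category.assoc, jY_ι] at f₁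
      rw [GrothLib.Cube.pull_comp, GrothLib.Cube.pull_comp, jZ_ι, ← Category.assoc, jZ_ι] at f₂
      rw [← f₁, f₂]
    have hb12 : toPic b₁ = toPic b₂ := by
      have := congrArg (GrothLib.Cube.pull s) hW
      rwa [GrothLib.Cube.pull_comp, GrothLib.Cube.pull_comp, hs, GrothLib.Cube.pull_id, GrothLib.Cube.pull_id] at this
    rw [← hb12] at e₂
    apply toPic_injective
    rw [toPic_pullHom]
    refine mul_inv_eq_one.1 (eq_one_of_pieces hIJ (fun u hu => ?_) _ ?_ ?_)
    · obtain ⟨β, hβ⟩ := (bijective_app ((I ⊔ J).subschemeι ≫ π) hfib ⊤).2 u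
      obtain ⟨β', hβ'⟩ := (bijective_app ((I ⊔ J).subschemeι ≫ π) hfib ⊤).2 (show Γ((I ⊔ J).subscheme, ⊤) from ↑hu.unit⁻¹)
      have hβu : IsUnit β := IsUnit.of_mul_eq_one β' ((bijective_app ((I ⊔ J).subschemeι ≫ π) hfib ⊤).1
        (by rw [map_mul, map_one, hβ, hβ']; exact hu.mul_val_inv))
      refine ⟨(π.app ⊤).hom β, hβu.map _, ?_⟩
      rw [Scheme.Hom.app_eq_appLE] at hβ ⊢
      refine Eq.trans ?_ hβ
      exact congrArg (fun g => g.hom β)
        (Scheme.Hom.appLE_comp_appLE (I ⊔ J).subschemeι π ⊤ (π ⁻¹ᵁ ⊤) ⊤ le_rfl le_top)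
    · rw [map_mul, map_inv, GrothLib.Cube.pull_comp, e₁, _root_.mul_inv_cancel]
    · rw [map_mul, map_inv, GrothLib.Cube.pull_comp, e₂, _root_.mul_inv_cancel]
  · have e := congrArg toPic hb
    rw [toPic_pullHom, toPic_mul, toPic_pullHom, toPic_pullHom] at e
    obtain ⟨d, hdY, hdZ⟩ := exists_glue hIJ (toPic y) (toPic z * GrothLib.Cube.pull (J.subschemeι ≫ π) (toPic b)) (by
      rw [map_mul, GrothLib.Cube.pull_comp, ← Category.assoc, jZ_ι]
      exact e)
    obtain ⟨c, rfl⟩ := toPic_surjective d
    refine ⟨c, 1, b, toPic_injective ?_, toPic_injective ?_⟩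
    · rw [toPic_pullHom, toPic_mul, toPic_pullHom, toPic_one, map_one, _root_.mul_one]
      exact hdY
    · rw [toPic_pullHom, toPic_mul, toPic_pullHom]
      exact hdZ

end Groth.Agent.S15404
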