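import Groth.Statements.S15405
import Groth.Agent.Lib.ASBun21.SplitGen
set_option backward.isDefEq.respectTransparency false
set_option maxHeartbeats 1000000

set_option autoImplicit false
universe u
open CategoryTheory CategoryTheory.Limits AlgebraicGeometry
open ASBun

namespace Groth.Agent.S15405

open W4c1astiltbs12 in
section
open CategoryTheory CategoryTheory.Limits AlgebraicGeometry W4c1astiltbs12 GrothLib GrothLib.ASBun21

attribute [local instance] Abelian.hasFiniteBiproducts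

variable {k : Type u} [Field k] {X : Scheme.{u}} {p : X ⟶ Spec (CommRingCat.of k)}
  {K : Type u} [Field K] [Algebra k K]

theorem exists_pullback_cls [PicGrp.Law X] [PicGrp.Law (W4bk4gw11416.baseChange p K)]
    (hπ : PicGrp.PullMul (proj p K)) {L : (W4bk4gw11416.baseChange p K).Modules} (hL : PicF.IsInvertible L)
    {r : ℕ} {J : X.Modules} (hJ : PicF.IsInvertible J) (hJL : Nonempty (bcMod p K J ≅ CohB1.tensorPow L r))
    {Ja : X.Modules} (hJa : PicF.IsInvertible Ja) {a : ℤ} (ha : PicGrp.cls Ja hJa = PicGrp.cls J hJ ^ a) :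
    PicGrp.cls (bcMod p K Ja) (PicLoc.isInvertible_pullback (proj p K) hJa) =
      PicGrp.cls L hL ^ ((r : ℤ) * a) := by
  have h := congrArg (PicGrp.pullHom (proj p K) hπ) ha
  rw [map_zpow] at h
  have hJ' : PicGrp.pullHom (proj p K) hπ (PicGrp.cls J hJ) = PicGrp.cls L hL ^ r :=
    Subtype.ext (((PicGrp.cl_eq_cl_iff _ _).2 hJL).trans (PicGrp.cls_pow_val hL r).symm)
  rw [hJ', ← zpow_natCast, ← zpow_mul] at h
  exact h

theorem isInvertible_pow_and_cls [PicGrp.Law (W4bk4gw11416.baseChange p K)]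
    {L : (W4bk4gw11416.baseChange p K).Modules} (hL : PicF.IsInvertible L) (j : ℕ) :
    ∃ h : PicF.IsInvertible (CohB1.tensorPow L j), PicGrp.cls _ h = PicGrp.cls L hL ^ j := by
  obtain ⟨N, hN, h⟩ := PicGrp.exists_eq_cls (PicGrp.cls L hL ^ j)
  obtain ⟨φ⟩ := (PicGrp.cl_eq_cl_iff _ _).1 ((PicGrp.cls_pow_val hL j).symm.trans (congrArg Subtype.val h))
  exact ⟨ParaPair.isInvertible_of_iso φ hN, Subtype.ext (PicGrp.cls_pow_val hL j).symm⟩

theorem exists_isotypical_pow [IsProper p] [Algebra.IsAlgebraic k K]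
    [ConnectedSpace ↥(W4bk4gw11416.baseChange p K)] {L : (W4bk4gw11416.baseChange p K).Modules}
    {M₁ : X.Modules} {d₁ : ℕ} (hM : FlatMod.IsFinLocFree M₁) (hd : 0 < d₁)
    (e₁ : Nonempty (bcMod p K M₁ ≅ pow L d₁)) {j : ℕ} (hLj : PicF.IsInvertible (CohB1.tensorPow L j)) :
    ∃ (M : X.Modules) (t : ℕ), 0 < t ∧ FlatMod.IsFinLocFree M ∧ Indec M ∧
      Nonempty (bcMod p K M ≅ pow (CohB1.tensorPow L j) t) := by
  have key : ∀ i : ℕ, FlatMod.IsFinLocFree (CohB1.tensorPow M₁ i) ∧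
      Nonempty (bcMod p K (CohB1.tensorPow M₁ i) ≅ pow (CohB1.tensorPow L i) (d₁ ^ i)) := fun i => by
    induction i with
    | zero =>
      exact ⟨OX.isFinLocFree_structureModule X,
        ⟨OX.pullUnitIso _ ≪≫ (coproductUniqueIso fun _ : Fin 1 => CohB1.tensorPow L 0).symm⟩⟩
    | succ i ih =>
      obtain ⟨hf, ⟨a⟩⟩ := ih
      obtain ⟨b⟩ := e₁
      refine ⟨OX.isFinLocFree_tensor hf hM, ⟨?_⟩⟩
      rw [pow_succ]
      exact OX.pullTensorIso _ _ _ ≪≫ ((DCoh.tensorBi (X := W4bk4gw11416.baseChange p K)).mapIso a).app _ ≪≫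
        (TT _).mapIso b ≪≫ (nonempty_tensor_pow (CohB1.tensorPow L i) L (d₁ ^ i) d₁).some
  letI : X.Over (Spec (CommRingCat.of k)) := ⟨p⟩
  haveI : IsProper (X ↘ Spec (CommRingCat.of k)) := ‹IsProper p›
  letI := overBC p K
  haveI : IsProper ((BrSev.bc p K) ↘ Spec (CommRingCat.of K)) :=
    MorphismProperty.pullback_snd p _ ‹IsProper p›
  haveI := Euler.isNoetherian_of_proper (X := BrSev.bc p K) K
  obtain ⟨hf, ⟨a⟩⟩ := key j
  have hLi : Indec (CohB1.tensorPow L j) := indec_of_invertible hLj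
  have hLc := Euler.isCoh_of_isFinLocFree (Euler.isFinLocFree_of_isInvertible hLj)
  obtain ⟨m⟩ := nonempty_pow_npow (CohB1.tensorPow L j) (d₁ ^ j)
  obtain ⟨l, ⟨el⟩, hl⟩ := exists_isotypical_decomp p K hf hLi hLc (a ≪≫ m)
  match l, el, hl with
  | [], el, _ =>
    exfalso
    have hz := ((Scheme.Modules.pullback (BrSev.proj p K)).map_isZero (IsZero.of_iso isZero_lsum_nil el)).of_iso
      (a ≪≫ m).symm
    haveI := finite_hom K hLc hLc
    have := eq_of_npow_iso K hLi (r := d₁ ^ j) (s := 0) ⟨hz.iso isZero_lsum_nil⟩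
    have := pow_pos hd j
    omega
  | c :: l, el, hl =>
    obtain ⟨hci, hcf, -, t, ht, -, ⟨et⟩⟩ := hl c List.mem_cons_self
    obtain ⟨m'⟩ := nonempty_pow_npow (CohB1.tensorPow L j) t
    exact ⟨c, t, ht, hcf, hci, ⟨et ≪≫ m'.symm⟩⟩

theorem exists_twisted_type [PicGrp.Law X] [PicGrp.Law (W4bk4gw11416.baseChange p K)]
    (hπ : PicGrp.PullMul (proj p K)) {L : (W4bk4gw11416.baseChange p K).Modules} (hL : PicF.IsInvertible L)
    {r : ℕ} {J : X.Modules} (hJ : PicF.IsInvertible J) (hJL : Nonempty (bcMod p K J ≅ CohB1.tensorPow L r))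
    {Ja : X.Modules} (hJa : PicF.IsInvertible Ja) {a : ℤ} (ha : PicGrp.cls Ja hJa = PicGrp.cls J hJ ^ a)
    {M : X.Modules} {j d : ℕ} (e : Nonempty (bcMod p K M ≅ pow (CohB1.tensorPow L j) d)) :
    ∃ (N : (W4bk4gw11416.baseChange p K).Modules) (hN : PicF.IsInvertible N),
      PicGrp.cls N hN = PicGrp.cls L hL ^ ((j : ℤ) + (r : ℤ) * a) ∧
      Nonempty (bcMod p K (CohB1.tensorMod M Ja) ≅ pow N d) := by
  obtain ⟨hj, hcj⟩ := isInvertible_pow_and_cls hL j
  obtain ⟨N, hN, hcN⟩ := PicGrp.exists_eq_cls (PicGrp.cls L hL ^ ((j : ℤ) + (r : ℤ) * a))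
  obtain ⟨φ⟩ : Nonempty (CohB1.tensorMod (CohB1.tensorPow L j) (bcMod p K Ja) ≅ N) := by
    refine (PicGrp.cl_eq_cl_iff _ _).1 ((PicGrp.cls_mul_cls_val hj
      (PicLoc.isInvertible_pullback (proj p K) hJa)).symm.trans ?_)
    rw [hcj, exists_pullback_cls hπ hL hJ hJL hJa ha, ← zpow_natCast, ← zpow_add, hcN]
    rfl
  obtain ⟨ε⟩ := e
  let F := Euler.tF (bcMod p K Ja)
  exact ⟨N, hN, hcN.symm, ⟨OX.pullTensorIso _ M Ja ≪≫ F.mapIso ε ≪≫ PreservesCoproduct.iso F _ ≪≫
    Sigma.mapIso fun _ => φ⟩⟩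

end
open W4c1astiltbs12 in

/-- Let X be proper over a field k, K an algebraic closure of k such that X_K is connected, and π : X_K
→ X the projection; assume the Picard group laws on X and on X_K and that pullback of invertible
classes along π is multiplicative. Suppose that Pic(X_K) is infinite cyclic, generated by the class
of an invertible module L; that J is an invertible O_X-module with π^*J ≅ L^{⊗r} for some r ≥ 1; and
that there is an indecomposable finite locally free O_X-module (nonzero, and in any direct-sum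
decomposition one summand is zero) whose pullback to X_K is isomorphic to L^{⊕d} for some d. Then:
(a) every indecomposable finite locally free O_X-module E whose pullback to X_K is a finite direct
sum of invertible modules is isomorphic to M ⊗ J_a, where 0 ≤ j < r, M is an indecomposable finite
locally free O_X-module with π^*M ≅ (L^{⊗j})^{⊕d} for some d, a is an integer and J_a is an
invertible O_X-module whose class in Pic(X) is the a-th power of the class of J; (b) the integers a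
and j in such an expression are determined by E. (The published statement takes r to be the least
such integer, the period, and leaves the connectedness of X_K implicit; the argument treats
invertible modules on X_K as indecomposable, whence that hypothesis, and does not use the minimality
of r.) -/
theorem result (k : Type u) [Field k] {X : Scheme.{u}}
    (p : X ⟶ Spec (CommRingCat.of k)) [IsProper p] (K : Type u) [Field K] [Algebra k K] [IsAlgClosure k K]
    [ConnectedSpace ↥(W4bk4gw11416.baseChange p K)]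
    [PicGrp.Law X] [PicGrp.Law (W4bk4gw11416.baseChange p K)] (hπ : PicGrp.PullMul (proj p K))
    (L : (W4bk4gw11416.baseChange p K).Modules) (hL : PicF.IsInvertible L)
    (e : PicLoc.PicSet (W4bk4gw11416.baseChange p K) ≃* Multiplicative ℤ)
    (he : e (PicGrp.cls L hL) = Multiplicative.ofAdd 1)
    (r : ℕ) (hr : 1 ≤ r) (J : X.Modules) (hJ : PicF.IsInvertible J)
    (hJL : Nonempty (bcMod p K J ≅ CohB1.tensorPow L r))
    (hML : ∃ (M₁ : X.Modules) (d₁ : ℕ), FlatMod.IsFinLocFree M₁ ∧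
      (¬ IsZero M₁ ∧ ∀ A B : X.Modules, Nonempty (M₁ ≅ A ⊞ B) → IsZero A ∨ IsZero B) ∧
      Nonempty (bcMod p K M₁ ≅ pow L d₁))
    (E : X.Modules) (hE : FlatMod.IsFinLocFree E)
    (hEi : (¬ IsZero E ∧ ∀ A B : X.Modules, Nonempty (E ≅ A ⊞ B) → IsZero A ∨ IsZero B))
    (n : ℕ) (Ls : Fin n → (W4bk4gw11416.baseChange p K).Modules) (hLs : ∀ i, PicF.IsInvertible (Ls i))
    (hEs : Nonempty (bcMod p K E ≅ ∐ Ls)) :
    (∃ (a : ℤ) (j : ℕ), j < r ∧ ∃ (M : X.Modules) (d : ℕ) (Ja : X.Modules) (hJa : PicF.IsInvertible Ja),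
      FlatMod.IsFinLocFree M ∧ (¬ IsZero M ∧ ∀ A B : X.Modules, Nonempty (M ≅ A ⊞ B) → IsZero A ∨ IsZero B) ∧
      Nonempty (bcMod p K M ≅ pow (CohB1.tensorPow L j) d) ∧
      PicGrp.cls Ja hJa = PicGrp.cls J hJ ^ a ∧ Nonempty (E ≅ CohB1.tensorMod M Ja)) ∧
    (∀ (a a' : ℤ) (j j' : ℕ) (M M' : X.Modules) (d d' : ℕ) (Ja Ja' : X.Modules)
      (hJa : PicF.IsInvertible Ja) (hJa' : PicF.IsInvertible Ja'),
      j < r → j' < r →
      (¬ IsZero M ∧ ∀ A B : X.Modules, Nonempty (M ≅ A ⊞ B) → IsZero A ∨ IsZero B) → (¬ IsZero M' ∧ ∀ A B : X.Modules, Nonempty (M' ≅ A ⊞ B) → IsZero A ∨ IsZero B) →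
      Nonempty (bcMod p K M ≅ pow (CohB1.tensorPow L j) d) → Nonempty (bcMod p K M' ≅ pow (CohB1.tensorPow L j') d') →
      PicGrp.cls Ja hJa = PicGrp.cls J hJ ^ a → PicGrp.cls Ja' hJa' = PicGrp.cls J hJ ^ a' →
      Nonempty (E ≅ CohB1.tensorMod M Ja) → Nonempty (E ≅ CohB1.tensorMod M' Ja') → a = a' ∧ j = j') := by
  haveI : Algebra.IsAlgebraic k K := IsAlgClosure.isAlgebraic
  haveI : IsAlgClosed K := IsAlgClosure.isAlgClosed k
  letI : X.Over (Spec (CommRingCat.of k)) := ⟨p⟩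
  haveI : IsProper (X ↘ Spec (CommRingCat.of k)) := ‹IsProper p›
  haveI := GrothLib.Euler.isNoetherian_of_proper (X := X) k
  letI := GrothLib.ASBun21.overBC p K
  haveI : IsProper ((BrSev.bc p K) ↘ Spec (CommRingCat.of K)) :=
    MorphismProperty.pullback_snd p _ ‹IsProper p›
  haveI := GrothLib.Euler.isNoetherian_of_proper (X := BrSev.bc p K) K
  have hzero : ∀ {M : X.Modules} {T : (W4bk4gw11416.baseChange p K).Modules} {d : ℕ},
      FlatMod.IsFinLocFree M → ¬ IsZero M → Nonempty (bcMod p K M ≅ pow T d) → 0 < d := by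
    intro M T d hM hM0 ⟨φ⟩
    refine Nat.pos_of_ne_zero fun h => hM0 ?_
    subst h
    haveI := (GrothLib.Euler.isCoh_of_isFinLocFree hM).1
    exact GrothLib.ASBun21.isZero_of_isZero_bc p K (GrothLib.ASBun21.isZero_of_npow_zero rfl
      ⟨φ ≪≫ (GrothLib.ASBun21.nonempty_pow_npow T 0).some⟩)
  obtain ⟨hLsum⟩ := hEs
  obtain ⟨M₁, d₁, hM₁, hM₁i, he₁⟩ := hML
  have hd₁ := hzero hM₁ hM₁i.1 he₁
  let m : Fin n → ℤ := fun i => Multiplicative.toAdd (e (PicGrp.cls (Ls i) (hLs i)))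
  have hzpow : ∀ z : ℤ, e (PicGrp.cls L hL ^ z) = Multiplicative.ofAdd z := fun z => by
    rw [map_zpow, he, ← ofAdd_zsmul, smul_eq_mul, mul_one]
  have hm : ∀ i, PicGrp.cls (Ls i) (hLs i) = PicGrp.cls L hL ^ m i := fun i => e.injective (by rw [hzpow]; rfl)
  let j : Fin n → ℕ := fun i => (m i % (r : ℤ)).toNat
  let a : Fin n → ℤ := fun i => m i / (r : ℤ)
  have hr0 : (0 : ℤ) < r := by exact_mod_cast hr
  have hjr : ∀ i, j i < r := fun i => by
    have h1 := Int.emod_lt_of_pos (m i) hr0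
    have h2 := Int.emod_nonneg (m i) hr0.ne'
    simp only [j]; omega
  have hma : ∀ i, m i = (j i : ℤ) + (r : ℤ) * a i := fun i => by
    simp only [j, a, Int.toNat_of_nonneg (Int.emod_nonneg (m i) hr0.ne')]
    exact (Int.emod_add_mul_ediv (m i) r).symm
  constructor
  · have key : ∀ i, ∃ (M : X.Modules) (d : ℕ) (Ja : X.Modules) (hJa : PicF.IsInvertible Ja),
        0 < d ∧ FlatMod.IsFinLocFree M ∧ GrothLib.ASBun21.Indec M ∧
        Nonempty (bcMod p K M ≅ pow (CohB1.tensorPow L (j i)) d) ∧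
        PicGrp.cls Ja hJa = PicGrp.cls J hJ ^ a i ∧ GrothLib.ASBun21.Indec (CohB1.tensorMod M Ja) ∧
        Nonempty (bcMod p K (CohB1.tensorMod M Ja) ≅ pow (Ls i) d) := fun i => by
      obtain ⟨hj, -⟩ := isInvertible_pow_and_cls hL (j i)
      obtain ⟨M, d, hd, hMf, hMi, hMt⟩ := exists_isotypical_pow hM₁ hd₁ he₁ hj
      obtain ⟨Ja, hJa, hca⟩ := PicGrp.exists_eq_cls (PicGrp.cls J hJ ^ a i)
      obtain ⟨Jb, hJb, hcb⟩ := PicGrp.exists_eq_cls (PicGrp.cls J hJ ^ a i)⁻¹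
      obtain ⟨u⟩ := (PicGrp.cls_mul_cls_eq_one_iff hJa hJb).1 (by rw [← hca, ← hcb, mul_inv_cancel])
      obtain ⟨v⟩ := (PicGrp.cls_mul_cls_eq_one_iff hJb hJa).1 (by rw [← hca, ← hcb, inv_mul_cancel])
      obtain ⟨N, hN, hcN, ⟨ε⟩⟩ := exists_twisted_type hπ hL hJ hJL hJa hca.symm hMt
      obtain ⟨φ⟩ := (PicGrp.cls_eq_cls_iff hN (hLs i)).1 (by rw [hcN, hm i, hma i])
      exact ⟨M, d, Ja, hJa, hd, hMf, hMi, hMt, hca.symm, GrothLib.ASBun21.indec_tensor hMi u v,
        ⟨ε ≪≫ Sigma.mapIso fun _ => φ⟩⟩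
    choose M d Ja hJa hd hMf hMi hMt hca hWi hWt using key
    obtain ⟨i, hi⟩ := GrothLib.ASBun21.exists_iso_of_split hE hEi Ls hLsum
      (fun i => CohB1.tensorMod (M i) (Ja i)) d
      (fun i => GrothLib.OX.isFinLocFree_tensor (hMf i) (GrothLib.Euler.isFinLocFree_of_isInvertible (hJa i)))
      hWi hd hWt
    exact ⟨a i, j i, hjr i, M i, d i, Ja i, hJa i, hMf i, hMi i, hMt i, hca i, hi⟩
  · intro a a' j j' M M' d d' Ja Ja' hJa hJa' hj hj' _ _ hMt hMt' hca hca' ⟨φ⟩ ⟨φ'⟩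
    obtain ⟨N, hN, hcN, ⟨ε⟩⟩ := exists_twisted_type hπ hL hJ hJL hJa hca hMt
    obtain ⟨N', hN', hcN', ⟨ε'⟩⟩ := exists_twisted_type hπ hL hJ hJL hJa' hca' hMt'
    let u : bcMod p K E ≅ pow N d := (Scheme.Modules.pullback _).mapIso φ ≪≫ ε
    let u' : bcMod p K E ≅ pow N' d' := (Scheme.Modules.pullback _).mapIso φ' ≪≫ ε'
    have hNc := GrothLib.Euler.isCoh_of_isFinLocFree (GrothLib.Euler.isFinLocFree_of_isInvertible hN)
    haveI : Module.Finite K (N ⟶ N) := GrothLib.ASBun21.finite_hom K hNc hNc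
    obtain ⟨i₁⟩ := GrothLib.ASBun21.nonempty_iso_of_npow_npow K
      (GrothLib.ASBun21.indec_of_invertible hN) (GrothLib.ASBun21.indec_of_invertible hN')
      (hzero hE hEi.1 ⟨u⟩).ne'
      ⟨(GrothLib.ASBun21.nonempty_pow_npow N d).some.symm ≪≫ u.symm ≪≫ u' ≪≫
        (GrothLib.ASBun21.nonempty_pow_npow N' d').some⟩
    have h := congrArg e ((PicGrp.cls_eq_cls_iff hN hN').2 ⟨i₁⟩)
    rw [hcN, hcN', hzpow, hzpow] at h
    have h' : (j : ℤ) + (r : ℤ) * a = (j' : ℤ) + (r : ℤ) * a' := Multiplicative.ofAdd.injective h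
    have hjj : j = j' := by
      have := congrArg (· % (r : ℤ)) h'
      simp only [Int.add_mul_emod_self_left] at this
      rw [Int.emod_eq_of_lt (by positivity) (by exact_mod_cast hj),
        Int.emod_eq_of_lt (by positivity) (by exact_mod_cast hj')] at this
      exact_mod_cast this
    subst hjj
    exact ⟨mul_left_cancel₀ hr0.ne' (add_left_cancel h'), rfl⟩

end Groth.Agent.S15405
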