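import Groth.Statements.S15406
import Groth.Agent.Lib.ArSurf29.Horizontal
import Groth.Agent.Lib.ArSurf29.Torsion
import Groth.Agent.Lib.ArSurf29.Constants
import Groth.Agent.Lib.SquareOpen.Extend
-- import your own Groth.Agent.* helpers here

set_option autoImplicit false
universe u
open CategoryTheory CategoryTheory.Limits AlgebraicGeometry
open Models

namespace Groth.Agent.S15406

open GrothLib.ArSurf29 (icl inter_eq_icl)
open GrothLib.Cube (clsMod)

theorem isIso_appTop_of_hRank {K : Type u} [Field K] {C : Scheme.{u}} (f : C ⟶ Spec (CommRingCat.of K))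
    (h : Models.hRank K C f (Coh.structureModule C) 0 = 1) : IsIso f.appTop := by
  letI : C.Over (Spec (CommRingCat.of K)) := ⟨f⟩
  letI := GrothLib.GlobalConst.algΓ K (X := C)
  have hfr : Module.finrank K Γ(C, ⊤) = 1 := (GrothLib.GlobalConst.h0Equiv K (X := C)).finrank_eq.symm.trans h
  have hb : Function.Bijective fun a : K => f.appTop ((Scheme.ΓSpecIso (CommRingCat.of K)).inv a) := by
    haveI : Nontrivial Γ(C, ⊤) := Module.nontrivial_of_finrank_eq_succ (hfr.trans rfl)
    refine ⟨RingHom.injective (((Scheme.ΓSpecIso (CommRingCat.of K)).inv ≫ f.appTop).hom), fun y => ?_⟩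
    obtain ⟨c, hc⟩ := (finrank_eq_one_iff_of_nonzero' (1 : Γ(C, ⊤)) one_ne_zero).1 hfr y
    exact ⟨c, ((Algebra.algebraMap_eq_smul_one c).trans hc :)⟩
  refine (ConcreteCategory.isIso_iff_bijective _).2 ?_
  have he := ConcreteCategory.bijective_of_isIso (Scheme.ΓSpecIso (CommRingCat.of K)).inv
  exact (Function.Bijective.of_comp_iff _ he).1 hb

variable {R : Type u} [CommRing R] [IsDomain R] [IsDiscreteValuationRing R]
  {X : Over (Spec (CommRingCat.of R))} [IsProper X.hom] [Flat X.hom] [IsLocallyNoetherian X.left]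

theorem pullHom_eq_iff {C : Scheme.{u}} (g : C ⟶ X.left) [PicGrp.Law X.left] [PicGrp.Law C] (hgm : PicGrp.PullMul g)
    {L M : X.left.Modules} (hL : PicF.IsInvertible L) (hM : PicF.IsInvertible M) :
    PicGrp.pullHom g hgm (PicGrp.cls L hL) = PicGrp.pullHom g hgm (PicGrp.cls M hM) ↔
      GrothLib.Cube.pull g (clsMod hL) = GrothLib.Cube.pull g (clsMod hM) := by
  rw [PicGrp.pullHom_cls, PicGrp.pullHom_cls, PicGrp.cls_eq_cls_iff, ← GrothLib.Cube.clsMod_pullback g hL,
    ← GrothLib.Cube.clsMod_pullback g hM, GrothLib.Cube.clsMod_eq_iff]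

theorem exists_psi (hX : Models.IsRegularScheme X.left)
    {n : ℕ} {Γ : Fin n → ArSurf.VertComp R X} (hΓ : Models.IsComponentList R X Γ)
    {L : Fin n → X.left.Modules} (hL : ∀ j, ClSub.IsInverseOf (L j) (ClSub.idealMod (Γ j).ι.ker))
    {C : Scheme.{u}} {f : C ⟶ Spec (CommRingCat.of (FractionRing R))} {g : C ⟶ X.left}
    (hg : IsPullback g f X.hom (Spec.map (CommRingCat.ofHom (algebraMap R (FractionRing R)))))
    [PicGrp.Law X.left] [PicGrp.Law C] (hgm : PicGrp.PullMul g)
    (hsurj : ∀ i : Fin n, ∃ M : X.left.Modules, PicF.IsInvertible M ∧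
      ∀ j : Fin n, ArSurf.inter R X M (Γ j) = if j = i then 1 else 0) :
    ∃ ψ : Additive (PicLoc.PicSet C) →+
        ((Fin n → ℤ) ⧸ LinearMap.range (Matrix.mulVecLin
          (Matrix.of fun j i => ArSurf.inter R X (L i) (Γ j)))),
      (∀ (M : X.left.Modules) (hM : PicF.IsInvertible M),
          ψ (Additive.ofMul (PicGrp.pullHom g hgm (PicGrp.cls M hM))) =
            Submodule.Quotient.mk (fun j => ArSurf.inter R X M (Γ j))) ∧
        Function.Surjective ψ ∧
        (∀ c : PicLoc.PicSet C, ψ (Additive.ofMul c) = 0 →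
          ∃ (M : X.left.Modules) (hM : PicF.IsInvertible M),
            (∀ j, ArSurf.inter R X M (Γ j) = 0) ∧ PicGrp.pullHom g hgm (PicGrp.cls M hM) = c) := by
  classical
  haveI := GrothLib.ArSurf29.isOpenImmersion_generic hg
  let A : Matrix (Fin n) (Fin n) ℤ := Matrix.of fun j i => ArSurf.inter R X (L i) (Γ j)
  let v := GrothLib.ArSurf29.vcls hX hΓ hL
  have hA : ∀ (a : Fin n → ℤ) (j : Fin n),
      icl (Γ j) (∏ i, v i ^ a i) = Matrix.mulVecLin A a j := fun a j => by
    rw [GrothLib.ArSurf29.icl_prod_vcls, Matrix.mulVecLin_apply]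
    exact Finset.sum_congr rfl fun i _ => mul_comm _ _
  have hufd : ∀ x : X.left, UniqueFactorizationMonoid (X.left.presheaf.stalk x) := fun x => by
    haveI := hX x
    haveI := GrothLib.CMFree.isDomain_of_isRegularLocalRing (X.left.presheaf.stalk x)
    exact GrothLib.RegUFD.ufd_of_isRegularLocalRing _
  have hext : ∀ c : PicLoc.PicSet C, ∃ (M : X.left.Modules) (hM : PicF.IsInvertible M),
      PicGrp.pullHom g hgm (PicGrp.cls M hM) = c := fun c => by
    obtain ⟨N, hN, rfl⟩ := PicGrp.exists_eq_cls c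
    obtain ⟨x, hx⟩ := GrothLib.Cube.exists_pull_eq hufd g (clsMod hN)
    refine ⟨GrothLib.HodgeIndex.rep x, GrothLib.HodgeIndex.isInv_rep x, ?_⟩
    rw [PicGrp.pullHom_cls, PicGrp.cls_eq_cls_iff]
    refine (GrothLib.ArSurf29.pull_cls_eq_iff g (GrothLib.HodgeIndex.isInv_rep x) hN).2 ?_
    rw [GrothLib.HodgeIndex.cls_rep, hx]
  choose M hM hMc using hext
  let q : (Fin n → ℤ) → ((Fin n → ℤ) ⧸ LinearMap.range (Matrix.mulVecLin A)) := Submodule.Quotient.mk
  have hwd : ∀ (N : X.left.Modules) (hN : PicF.IsInvertible N),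
      q (fun j => ArSurf.inter R X (M (PicGrp.pullHom g hgm (PicGrp.cls N hN))) (Γ j)) =
        q (fun j => ArSurf.inter R X N (Γ j)) := fun N hN => by
    let c := PicGrp.pullHom g hgm (PicGrp.cls N hN)
    have h := (pullHom_eq_iff g hgm (hM c) hN).1 (hMc c)
    obtain ⟨a, ha⟩ := GrothLib.ArSurf29.exists_eq_prod_vcls' hX hΓ hL hg
      (x := clsMod (hM c) * (clsMod hN)⁻¹) (by rw [map_mul, map_inv, h, mul_inv_cancel])
    refine (Submodule.Quotient.eq _).2 ⟨fun i => (a i : ℤ), funext fun j => ?_⟩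
    rw [← hA, Pi.sub_apply, inter_eq_icl (Γ j) (hM c), inter_eq_icl (Γ j) hN]
    simp only [zpow_natCast]
    rw [← ha, GrothLib.ArSurf29.icl_mul, GrothLib.ArSurf29.icl_inv, sub_eq_add_neg]
  let ψ : Additive (PicLoc.PicSet C) →+ ((Fin n → ℤ) ⧸ LinearMap.range (Matrix.mulVecLin A)) :=
    AddMonoidHom.mk' (fun c => q fun j => ArSurf.inter R X (M c.toMul) (Γ j)) fun c d => by
      show q _ = q _ + q _
      have ht := GrothLib.Ample.isInvertible_tensorMod (hM c.toMul) (hM d.toMul)
      have e : PicGrp.pullHom g hgm (PicGrp.cls _ ht) = (c + d).toMul := by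
        rw [show PicGrp.cls _ ht = PicGrp.cls _ (hM c.toMul) * PicGrp.cls _ (hM d.toMul) from
          Subtype.ext (PicGrp.cls_mul_cls_val _ _).symm, map_mul, hMc, hMc]
        rfl
      rw [← e, hwd _ ht]
      refine Eq.trans ?_ (Submodule.Quotient.mk_add _)
      refine congrArg q (funext fun j => ?_)
      rw [Pi.add_apply, inter_eq_icl (Γ j) ht, GrothLib.Cube.clsMod_tensorMod (hM c.toMul) (hM d.toMul),
        GrothLib.ArSurf29.icl_mul, inter_eq_icl (Γ j) (hM c.toMul), inter_eq_icl (Γ j) (hM d.toMul)]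
  have hψ : ∀ (N : X.left.Modules) (hN : PicF.IsInvertible N),
      ψ (Additive.ofMul (PicGrp.pullHom g hgm (PicGrp.cls N hN))) =
        q (fun j => ArSurf.inter R X N (Γ j)) := fun N hN => hwd N hN
  refine ⟨ψ, hψ, fun b => ?_, fun c hc => ?_⟩
  · obtain ⟨w, rfl⟩ := Submodule.Quotient.mk_surjective _ b
    choose P hP hPd using hsurj
    let x := ∏ i, clsMod (hP i) ^ w i
    refine ⟨Additive.ofMul (PicGrp.pullHom g hgm (PicGrp.cls _ (GrothLib.HodgeIndex.isInv_rep x))), ?_⟩
    rw [hψ]
    refine congrArg q (funext fun j => ?_)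
    rw [inter_eq_icl (Γ j) (GrothLib.HodgeIndex.isInv_rep x), GrothLib.HodgeIndex.cls_rep,
      GrothLib.ArSurf29.icl_prod]
    simp [GrothLib.ArSurf29.icl_zpow, ← inter_eq_icl, hPd]
  · obtain ⟨a, ha⟩ := (Submodule.Quotient.mk_eq_zero _).1 hc
    let x := clsMod (hM c) * ∏ i, v i ^ (-a i)
    refine ⟨_, GrothLib.HodgeIndex.isInv_rep x, fun j => ?_, ?_⟩
    · rw [inter_eq_icl (Γ j) (GrothLib.HodgeIndex.isInv_rep x), GrothLib.HodgeIndex.cls_rep,
        GrothLib.ArSurf29.icl_mul, hA, ← inter_eq_icl (Γ j) (hM c)]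
      have h := congrFun ha j
      rw [show (fun i => -a i) = -a from rfl, map_neg, Pi.neg_apply, h]
      exact add_neg_cancel _
    · refine Eq.trans ((pullHom_eq_iff g hgm _ (hM c)).2 ?_) (hMc c)
      rw [GrothLib.HodgeIndex.cls_rep, map_mul, map_prod]
      simp only [map_zpow, v, GrothLib.ArSurf29.pull_vcls hX hΓ hL hg, one_zpow, Finset.prod_const_one, mul_one]

/-- Let R be a complete discrete valuation ring with algebraically closed residue field k and fraction
field K, C a smooth proper curve over K with H⁰(C, O_C) = K and dim_K H¹(C, O_C) ≥ 2, and X → Spec R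
a regular proper model of C, with g : C → X exhibiting C as the generic fibre. Let Γ₁, …, Γ_n
enumerate the irreducible components of the closed fibre, with multiplicities of greatest common
divisor 1, and for each i let L_i be an invertible O_X-module inverse to the ideal sheaf of Γ_i (so
that (L_i · Γ_j) is the intersection number Γ_i · Γ_j). Assume the Picard group laws on X and on C
and that pullback of invertible classes along g is multiplicative. Let G be the quotient of ℤⁿ by
the subgroup spanned by the vectors ((L_i · Γ_j))_j, i = 1, …, n. Then: (a) an invertible O_X-module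
of degree 0 on every Γ_j whose pullback to C is trivial is itself trivial; (b) there is a surjective
homomorphism ψ from Pic(C) (written additively) onto G which sends the class of g^*L, for every
invertible O_X-module L, to the class of the vector ((L · Γ_j))_j, and whose kernel consists exactly
of the classes g^*L with L invertible on X of degree 0 on every Γ_j. In other words 0 → Pic⁰(X) →
Pic(C) → G → 0 is exact, Pic⁰(X) denoting the classes of degree 0 on all components of the closed
fibre. -/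
theorem result
    (R : Type u) [CommRing R] [IsDomain R] [IsDiscreteValuationRing R]
    [IsAdicComplete (IsLocalRing.maximalIdeal R) R] (hk : IsAlgClosed (IsLocalRing.ResidueField R))
    (C : Scheme.{u}) (fC : C ⟶ Spec (CommRingCat.of (FractionRing R))) [IsProper fC] [Smooth fC]
    (hC0 : Models.hRank (FractionRing R) C fC (Coh.structureModule C) 0 = 1)
    (hg2 : 2 ≤ Models.curveGenus (FractionRing R) C fC)
    (X : Scheme.{u}) (p : X ⟶ Spec (CommRingCat.of R)) (hX : Models.IsRegularProperModel R X p C fC)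
    (g : C ⟶ X) (hg : IsPullback g fC p (Spec.map (CommRingCat.ofHom (algebraMap R (FractionRing R)))))
    {n : ℕ} (Γ : Fin n → ArSurf.VertComp R (Over.mk p)) (hΓ : Models.IsComponentList R (Over.mk p) Γ)
    (hgcd : Models.multGcd R (Over.mk p) Γ = 1)
    (LD : Fin n → X.Modules) (hLD : ∀ i, ClSub.IsInverseOf (LD i) (ClSub.idealMod (Γ i).ι.ker))
    [PicGrp.Law X] [PicGrp.Law C] (hgm : PicGrp.PullMul g) :
    (∀ (L : X.Modules) (hL : PicF.IsInvertible L), (∀ j, ArSurf.inter R (Over.mk p) L (Γ j) = 0) →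
        PicGrp.pullHom g hgm (PicGrp.cls L hL) = 1 → PicGrp.cls L hL = 1) ∧
      ∃ ψ : Additive (PicLoc.PicSet C) →+
          ((Fin n → ℤ) ⧸ LinearMap.range (Matrix.mulVecLin
            (Matrix.of fun j i => ArSurf.inter R (Over.mk p) (LD i) (Γ j)))),
        (∀ (L : X.Modules) (hL : PicF.IsInvertible L),
            ψ (Additive.ofMul (PicGrp.pullHom g hgm (PicGrp.cls L hL))) =
              Submodule.Quotient.mk (fun j => ArSurf.inter R (Over.mk p) L (Γ j))) ∧
          Function.Surjective ψ ∧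
          (∀ c : PicLoc.PicSet C, ψ (Additive.ofMul c) = 0 →
            ∃ (L : X.Modules) (hL : PicF.IsInvertible L),
              (∀ j, ArSurf.inter R (Over.mk p) L (Γ j) = 0) ∧ PicGrp.pullHom g hgm (PicGrp.cls L hL) = c) := by
  haveI : Flat (Over.mk p).hom := hX.1.1
  haveI : IsProper (Over.mk p).hom := hX.2.1
  haveI : IsLocallyNoetherian (Over.mk p).left := LocallyOfFiniteType.isLocallyNoetherian (Over.mk p).hom
  haveI := hk
  letI : PicGrp.Law (Over.mk p).left := ‹PicGrp.Law X›
  refine ⟨fun L hL hdeg hpull => ?_, exists_psi (X := Over.mk p) hX.2.2 hΓ hLD hg hgm fun i =>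
    GrothLib.ArSurf29.exists_inter_eq_ite (X := Over.mk p) hX.2.2 hΓ i⟩
  have hH0 := isIso_appTop_of_hRank fC hC0
  rw [PicGrp.pullHom_cls, PicGrp.cls_eq_one_iff, GrothLib.ArSurf29.pull_cls_eq_one_iff g hL] at hpull
  have h := GrothLib.ArSurf29.pow_multGcd_eq_one (X := Over.mk p) hX.2.2 hΓ hg hLD hH0 hpull fun i =>
    (GrothLib.ArSurf29.inter_eq_icl (Γ i) hL).symm.trans (hdeg i)
  rw [hgcd, pow_one] at h
  exact (PicGrp.cls_eq_one_iff hL).2 ((GrothLib.Cube.clsMod_eq_one_iff hL).1 h)

end Groth.Agent.S15406
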