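import Groth.Statements.S15407
import Groth.Agent.S11763
import Groth.Agent.S15406
import Groth.Agent.Lib.TorsPic29.Divisible
import Groth.Agent.Lib.TorsPic29.Model
import Groth.Agent.Lib.ArSurf29.MinimalEngine
import Groth.Agent.Lib.K0Rank22.Basic
import Groth.Agent.Lib.CurveMult.HyperSep
import Groth.Agent.Lib.Euler.Rank

set_option autoImplicit false
universe u
open CategoryTheory CategoryTheory.Limits AlgebraicGeometry
open Models

namespace Groth.Agent.S15407

/-- Let R be a complete discrete valuation ring with algebraically closed residue field k and fraction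
field K, C a smooth proper K-scheme of Krull dimension one (a curve) with H⁰(C, O_C) = K and dim_K
H¹(C, O_C) ≥ 2, X → Spec R a regular proper model of C, X_k = X ×_R Spec k its closed fibre with
inclusion i : X_k → X, and q ≥ 1 an integer which is nonzero in k. Assume the Picard group laws on X
and X_k and that pullback of invertible classes along i is multiplicative. Then (a) the restriction
Pic(X) → Pic(X_k) is surjective, and (b) its kernel N is uniquely q-divisible: for every c in N
there is exactly one d in N with d^q = c. (The published statement introduces N as the kernel of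
Pic⁰(X) → Pic⁰(X_k), Pic⁰ denoting the classes of degree 0 on every component of the closed fibre,
and asserts that this map is surjective; a class trivial on X_k has degree 0 on every component, so
N is the kernel in (b), and (a) is the equivalent surjectivity of the unrestricted map.) -/
theorem result
    (R : Type u) [CommRing R] [IsDomain R] [IsDiscreteValuationRing R]
    [IsAdicComplete (IsLocalRing.maximalIdeal R) R] (hk : IsAlgClosed (IsLocalRing.ResidueField R))
    (C : Scheme.{u}) (fC : C ⟶ Spec (CommRingCat.of (FractionRing R))) [IsProper fC] [Smooth fC]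
    (hC0 : Models.hRank (FractionRing R) C fC (Coh.structureModule C) 0 = 1)
    (hg2 : 2 ≤ Models.curveGenus (FractionRing R) C fC) (hC1 : topologicalKrullDim C = 1)
    (X : Scheme.{u}) (p : X ⟶ Spec (CommRingCat.of R)) (hX : Models.IsRegularProperModel R X p C fC)
    (q : ℕ) (hq : 1 ≤ q) (hqk : (q : IsLocalRing.ResidueField R) ≠ 0)
    [PicGrp.Law X]
    [PicGrp.Law (pullback p (Spec.map (CommRingCat.ofHom (algebraMap R (IsLocalRing.ResidueField R)))))]
    (hi : PicGrp.PullMul (pullback.fst p (Spec.map (CommRingCat.ofHom (algebraMap R (IsLocalRing.ResidueField R)))))) :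
    Function.Surjective (PicGrp.pullHom
        (pullback.fst p (Spec.map (CommRingCat.ofHom (algebraMap R (IsLocalRing.ResidueField R))))) hi) ∧
      ∀ c ∈ (PicGrp.pullHom
          (pullback.fst p (Spec.map (CommRingCat.ofHom (algebraMap R (IsLocalRing.ResidueField R))))) hi).ker,
        ∃! d : PicLoc.PicSet X,
          d ∈ (PicGrp.pullHom
            (pullback.fst p (Spec.map (CommRingCat.ofHom (algebraMap R (IsLocalRing.ResidueField R))))) hi).ker ∧
          d ^ q = c := by
  haveI := hk
  letI : C.Over (Spec (CommRingCat.of (FractionRing R))) := ⟨fC⟩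
  haveI : ConnectedSpace C := GrothLib.CurveMult.connectedSpace_of_finrank_H0 (FractionRing R) hC0
  haveI : IsIntegral C := GrothLib.Euler.isIntegral_of_smooth_connected (FractionRing R) fC
  haveI : Flat p := hX.1.1
  haveI : IsProper p := hX.2.1
  obtain ⟨g, hg⟩ := hX.1.2.2.2
  have hM : GrothLib.ArSurf29.IsMData fC X p g := ⟨hX.2.1, hX.1.1, hX.2.2, hg⟩
  haveI := hM.isIntegral
  have hdim := hM.dim_eq hC1 ‹IsProper fC›
  let Xk := pullback p (Spec.map (CommRingCat.ofHom (algebraMap R (IsLocalRing.ResidueField R))))
  let i : Xk ⟶ X := pullback.fst _ _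
  haveI : IsClosedImmersion (Spec.map (CommRingCat.ofHom (algebraMap R (IsLocalRing.ResidueField R)))) :=
    IsClosedImmersion.spec_of_surjective _ IsLocalRing.residue_surjective
  haveI : IsClosedImmersion i := MorphismProperty.pullback_fst _ _ inferInstance
  have hd : topologicalKrullDim Xk ≤ 1 := by
    have hlt : topologicalKrullDim ↥(Set.range i) < ((2 : ℕ) : WithBot ℕ∞) := by
      refine GrothLib.K0Rank22.dim_lt_of_subset_closure (x := genericPoint X) i.isClosedEmbedding.isClosed_range
        (by rw [genericPoint_closure]; exact Set.subset_univ _) ?_ 2 ?_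
      · rintro ⟨y, hy⟩
        have h1 : p (i y) = Spec.map (CommRingCat.ofHom (algebraMap R (IsLocalRing.ResidueField R))) (pullback.snd p
            (Spec.map (CommRingCat.ofHom (algebraMap R (IsLocalRing.ResidueField R)))) y) := by
          rw [← Scheme.Hom.comp_apply, ← Scheme.Hom.comp_apply, pullback.condition]
        rw [hy, Subsingleton.elim (pullback.snd p _ y) (IsLocalRing.closedPoint (IsLocalRing.ResidueField R))] at h1
        have h2 := congrArg PrimeSpectrum.asIdeal h1
        rw [GrothLib.ArSurf29.hom_genericPoint p] at h2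
        exact IsDiscreteValuationRing.not_a_field R (h2.trans
          (congrArg PrimeSpectrum.asIdeal (IsLocalRing.comap_closedPoint (IsLocalRing.residue R)))).symm
      · rw [genericPoint_closure]
        exact Topology.IsInducing.subtypeVal.topologicalKrullDim_le.trans (by rw [hdim]; norm_num)
    refine i.isClosedEmbedding.isEmbedding.toHomeomorph.isInducing.topologicalKrullDim_le.trans ?_
    rcases eq_or_ne (topologicalKrullDim ↥(Set.range i)) ⊥ with e | e
    · rw [e]; exact bot_le
    · obtain ⟨d, hd⟩ := WithBot.ne_bot_iff_exists.1 e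
      rw [← hd] at hlt ⊢
      have h3 : d < ((2 : ℕ) : ℕ∞) := WithBot.coe_lt_coe.1 hlt
      exact WithBot.coe_le_coe.2 (Order.le_of_lt_add_one (h3.trans_le (by norm_num)))
  haveI : IsNoetherianRing R := inferInstance
  have h2 : Subsingleton (Coh.HH Xk (Coh.structureModule Xk) 2) := by
    letI : Xk.Over (Spec (CommRingCat.of (IsLocalRing.ResidueField R))) := ⟨pullback.snd _ _⟩
    haveI : IsProper (Xk ↘ Spec (CommRingCat.of (IsLocalRing.ResidueField R))) :=
      MorphismProperty.pullback_snd _ _ inferInstance
    exact GrothLib.Euler.subsingleton_HH_of_two_le (IsLocalRing.ResidueField R) hd _ 2 le_rfl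
  have hqR : IsUnit (q : R) := IsLocalRing.notMem_maximalIdeal.1 fun hm => hqk (by
    rw [← map_natCast (IsLocalRing.residue R), IsLocalRing.residue_eq_zero_iff]; exact hm)
  have hpull : ∀ c, GrothLib.PicH1.picSetEquiv Xk (PicGrp.pullHom i hi c) =
      GrothLib.Cube.pull i (GrothLib.PicH1.picSetEquiv X c) := fun c => GrothLib.PicH1.picSetEquiv_pullHom i hi c
  have hker : ∀ c, c ∈ (PicGrp.pullHom i hi).ker ↔ GrothLib.Cube.pull i (GrothLib.PicH1.picSetEquiv X c) = 1 := by
    intro c
    rw [MonoidHom.mem_ker, ← hpull, MulEquiv.map_eq_one_iff]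
  refine ⟨?_, fun c hc => ?_⟩
  · intro y
    obtain ⟨L, hL, hLy⟩ := GrothLib.Contract29.exists_mod (GrothLib.PicH1.picSetEquiv Xk y)
    obtain ⟨M, hM', ⟨eM⟩⟩ := Groth.Agent.S11763.result R p h2 L hL
    refine ⟨(GrothLib.PicH1.picSetEquiv X).symm (GrothLib.Cube.clsMod hM'), (GrothLib.PicH1.picSetEquiv Xk).injective ?_⟩
    rw [hpull, MulEquiv.apply_symm_apply, ← hLy, ← GrothLib.Cube.clsMod_pullback i hM']
    exact (GrothLib.Cube.clsMod_eq_iff _ hL).2 ⟨eM⟩
  · obtain ⟨y, hy1, hy2⟩ := GrothLib.TorsPic29.exists_root_of_pull_eq_one p h2 hqR _ ((hker c).1 hc)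
    refine ⟨(GrothLib.PicH1.picSetEquiv X).symm y, ⟨(hker _).2 (by rw [MulEquiv.apply_symm_apply]; exact hy1), ?_⟩, ?_⟩
    · rw [← map_pow, hy2, MulEquiv.symm_apply_apply]
    · rintro d ⟨hd1, hd2⟩
      refine (GrothLib.PicH1.picSetEquiv X).injective ?_
      rw [MulEquiv.apply_symm_apply]
      set z := GrothLib.PicH1.picSetEquiv X d with hz
      obtain ⟨L, hL, hLz⟩ := GrothLib.Contract29.exists_mod (z * y⁻¹)
      have hz1 : GrothLib.Cube.pull i (z * y⁻¹) = 1 := by
        rw [map_mul, map_inv, (hker d).1 hd1, show GrothLib.Cube.pull i y = 1 from hy1, inv_one, mul_one]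
      obtain ⟨I, hI, hI1⟩ := GrothLib.TorsPic29.exists_ideal_specialFibre (p := p) hL
        ((GrothLib.Cube.clsMod_eq_one_iff _).1 (by
          rw [GrothLib.Cube.clsMod_pullback i hL, hLz]; exact hz1))
      have h1 := GrothLib.TorsPic29.eq_one p I hI hqR (z * y⁻¹) (by
        rw [mul_pow, inv_pow, hy2, hz, ← map_pow, hd2, mul_inv_cancel]) (hLz ▸ hI1)
      exact mul_inv_eq_one.1 h1

end Groth.Agent.S15407
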