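import Groth.Statements.S15409
import Groth.Agent.Lib.ASBun21.Bound
import Groth.Agent.Lib.ASBun21.Dual
set_option backward.isDefEq.respectTransparency false

set_option autoImplicit false
universe u
open CategoryTheory CategoryTheory.Limits AlgebraicGeometry
open ASBun

namespace Groth.Agent.S15409

open W4c1astiltbs12 in
open GrothLib in
theorem le_of_neg (k : Type u) [Field k] {X : Scheme.{u}}
    (p : X ⟶ Spec (CommRingCat.of k)) [IsProper p] (K : Type u) [Field K] [Algebra k K] [IsAlgClosure k K]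
    [ConnectedSpace ↥(BrSev.bc p K)] [PicGrp.Law (BrSev.bc p K)]
    (N N' : (BrSev.bc p K).Modules) (hN : PicF.IsInvertible N) (hN' : PicF.IsInvertible N')
    (h : PicGrp.cls N hN * PicGrp.cls N' hN' = 1)
    (W W' : X.Modules) (hW : FlatMod.IsFinLocFree W) (hW' : FlatMod.IsFinLocFree W') (hW0 : ¬ IsZero W)
    (hW'i : ASBun21.Indec W') (d d' : ℕ) (a : BrSev.bcMod p K W ≅ ∐ fun _ : Fin d => N)
    (b : BrSev.bcMod p K W' ≅ ∐ fun _ : Fin d' => N') : d' ≤ d := by
  haveI : Algebra.IsAlgebraic k K := IsAlgClosure.isAlgebraic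
  obtain ⟨φ⟩ := (PicGrp.cls_mul_cls_eq_one_iff hN hN').1 h
  exact ASBun21.le_of_inverse_types p K hW hW0 hW' hW'i hN hN' (ASBun21.indec_of_invertible hN') φ
    (ASBun21.pos_of_not_isZero p K hW hW0 a) a b

open GrothLib in
theorem le_of_shift (k : Type u) [Field k] {X : Scheme.{u}}
    (p : X ⟶ Spec (CommRingCat.of k)) [IsProper p] (K : Type u) [Field K] [Algebra k K] [IsAlgClosure k K]
    [ConnectedSpace ↥(BrSev.bc p K)] [PicGrp.Law (BrSev.bc p K)]
    (N N' : (BrSev.bc p K).Modules) (hN : PicF.IsInvertible N) (hN' : PicF.IsInvertible N')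
    (M : X.Modules) (hM : PicF.IsInvertible M)
    (h : PicGrp.cls N hN * PicGrp.cls (BrSev.bcMod p K M) (PicLoc.isInvertible_pullback (BrSev.proj p K) hM) =
      PicGrp.cls N' hN')
    (W W' : X.Modules) (hW : FlatMod.IsFinLocFree W) (hW' : FlatMod.IsFinLocFree W') (hW0 : ¬ IsZero W)
    (hW'i : ASBun21.Indec W') (d d' : ℕ) (a : BrSev.bcMod p K W ≅ ∐ fun _ : Fin d => N)
    (b : BrSev.bcMod p K W' ≅ ∐ fun _ : Fin d' => N') : d' ≤ d := by
  haveI : Algebra.IsAlgebraic k K := IsAlgClosure.isAlgebraic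
  have hMK := PicLoc.isInvertible_pullback (BrSev.proj p K) hM
  obtain ⟨φ⟩ := (PicGrp.cl_eq_cl_iff (CohB1.tensorMod N (BrSev.bcMod p K M)) N').1
    (by rw [← PicGrp.cls_mul_cls_val hN hMK, h, PicGrp.cls_val])
  let T := DCoh.tensorBi (X := BrSev.bc p K)
  haveI : PreservesColimitsOfSize.{0, 0} (T.flip.obj (BrSev.bcMod p K M)) :=
    preservesColimitsOfSize_shrink.{0, u, 0, u} _
  let c : BrSev.bcMod p K (CohB1.tensorMod W M) ≅ ∐ fun _ : Fin d => N' :=
    OX.pullTensorIso (BrSev.proj p K) W M ≪≫ (T.mapIso a).app _ ≪≫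
      PreservesCoproduct.iso (T.flip.obj (BrSev.bcMod p K M)) (fun _ : Fin d => N) ≪≫ Sigma.mapIso fun _ => φ
  exact ASBun21.le_of_same_type p K (OX.isFinLocFree_tensor hW (Euler.isFinLocFree_of_isInvertible hM)) hW' hW'i
    hN' (ASBun21.indec_of_invertible hN') (ASBun21.pos_of_not_isZero p K hW hW0 a) c b

open W4c1astiltbs12 in

/-- Let X be proper over a field k with k ≅ H⁰(X, O_X), K an algebraic closure of k with X_K connected
and projection π : X_K → X; assume the Picard group laws on X and X_K with pullback along π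
multiplicative, that Pic(X_K) is infinite cyclic generated by the class of an invertible module L,
and that J is an invertible O_X-module whose pullback to X_K has class the r-th power of the class
of L, r ≥ 1. Let j and a be integers and N, N' invertible O_{X_K}-modules with classes (cls L)^j and
(cls L)^{j'} where either j' = −j or j' = j + a·r. If W, W' are indecomposable finite locally free
O_X-modules (nonzero, and in any direct-sum decomposition one summand is zero) with π^*W ≅ N^{⊕d}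
and π^*W' ≅ N'^{⊕d'}, then d = d': the rank of the indecomposable absolutely isotypical sheaf of
type L^{⊗j} depends only on ±j modulo r. (The published statement phrases this for the sheaves
W_{L^{⊗j}}, whose existence for every j it assumes through an indecomposable absolutely isotypical
sheaf of type L; here the two sheaves are given, and r need not be minimal.) -/
theorem result (k : Type u) [Field k] {X : Scheme.{u}}
    (p : X ⟶ Spec (CommRingCat.of k)) [IsProper p] (hO : IsIso p.appTop) (K : Type u) [Field K] [Algebra k K] [IsAlgClosure k K]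
    [ConnectedSpace ↥(W4bk4gw11416.baseChange p K)]
    [PicGrp.Law X] [PicGrp.Law (W4bk4gw11416.baseChange p K)] (hπ : PicGrp.PullMul (proj p K))
    (L : (W4bk4gw11416.baseChange p K).Modules) (hL : PicF.IsInvertible L)
    (e : PicLoc.PicSet (W4bk4gw11416.baseChange p K) ≃* Multiplicative ℤ)
    (he : e (PicGrp.cls L hL) = Multiplicative.ofAdd 1)
    (r : ℕ) (hr : 1 ≤ r) (J : X.Modules) (hJ : PicF.IsInvertible J)
    (hJL : PicGrp.cls (bcMod p K J) (PicLoc.isInvertible_pullback (proj p K) hJ) = PicGrp.cls L hL ^ r)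
    (j a j' : ℤ) (hj' : j' = -j ∨ j' = j + a * r)
    (N N' : (W4bk4gw11416.baseChange p K).Modules) (hN : PicF.IsInvertible N) (hN' : PicF.IsInvertible N')
    (hNj : PicGrp.cls N hN = PicGrp.cls L hL ^ j) (hN'j : PicGrp.cls N' hN' = PicGrp.cls L hL ^ j')
    (W W' : X.Modules) (hW : FlatMod.IsFinLocFree W) (hW' : FlatMod.IsFinLocFree W')
    (hWi : (¬ IsZero W ∧ ∀ A B : X.Modules, Nonempty (W ≅ A ⊞ B) → IsZero A ∨ IsZero B)) (hW'i : (¬ IsZero W' ∧ ∀ A B : X.Modules, Nonempty (W' ≅ A ⊞ B) → IsZero A ∨ IsZero B))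
    (d d' : ℕ) (eW : Nonempty (bcMod p K W ≅ pow N d)) (eW' : Nonempty (bcMod p K W' ≅ pow N' d')) :
    d = d' := by
  obtain ⟨eW⟩ := eW
  obtain ⟨eW'⟩ := eW'
  rcases hj' with rfl | rfl
  · have h : PicGrp.cls N hN * PicGrp.cls N' hN' = 1 := by rw [hNj, hN'j, ← zpow_add, add_neg_cancel, zpow_zero]
    exact le_antisymm (le_of_neg k p K N' N hN' hN (by rw [mul_comm]; exact h) W' W hW' hW hW'i.1 hWi d' d eW' eW)
      (le_of_neg k p K N N' hN hN' h W W' hW hW' hWi.1 hW'i d d' eW eW')
  · obtain ⟨M, hM, hMc⟩ := PicGrp.exists_eq_cls (PicGrp.cls J hJ ^ a)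
    obtain ⟨M', hM', hMc'⟩ := PicGrp.exists_eq_cls (PicGrp.cls J hJ ^ (-a))
    have key : ∀ (b : ℤ) (P : X.Modules) (hP : PicF.IsInvertible P), PicGrp.cls J hJ ^ b = PicGrp.cls P hP →
        PicGrp.cls (bcMod p K P) (PicLoc.isInvertible_pullback (proj p K) hP) = PicGrp.cls L hL ^ (b * r) := by
      intro b P hP hb
      rw [← PicGrp.pullHom_cls (proj p K) hπ P hP, ← hb, map_zpow, PicGrp.pullHom_cls, hJL, ← zpow_natCast,
        ← zpow_mul, mul_comm]
    exact le_antisymm
      (le_of_shift k p K N' N hN' hN M' hM' (by rw [key _ M' hM' hMc', hN'j, hNj, ← zpow_add]; ring_nf)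
        W' W hW' hW hW'i.1 hWi d' d eW' eW)
      (le_of_shift k p K N N' hN hN' M hM (by rw [key _ M hM hMc, hN'j, hNj, ← zpow_add])
        W W' hW hW' hWi.1 hW'i d d' eW eW')

end Groth.Agent.S15409
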