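import Groth.Statements.S15411
import Mathlib.LinearAlgebra.Basis.VectorSpace
import Mathlib.RingTheory.Flat.Basic
import Mathlib.RingTheory.Bialgebra.Equiv
import Mathlib.RingTheory.Bialgebra.TensorProduct
import Mathlib.RingTheory.Flat.FaithfullyFlat.Basic
import Mathlib.LinearAlgebra.TensorProduct.Pi

set_option autoImplicit false
universe u
open scoped TensorProduct
open Hopf

namespace Groth.Agent.S15411

open scoped TensorProduct

/-- Let K be a field and let finitely many commutative K-algebras be given in two layers, K_i for each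
vertex i and K_k for each edge k, with K-algebra maps from K_{l k} and from K_{r k} into K_k for
every edge k, such that K is the equalizer of the system: every family (x_i) whose two images in K_k
agree for every k comes from exactly one element of K. Let A and B be commutative K-bialgebras
(coordinate rings of affine group or monoid schemes over K) and let u_i : K_i ⊗ B ≅ K_i ⊗ A be
isomorphisms of K_i-bialgebras such that, for every edge k, the base changes of u_{l k} and u_{r k}
to K_k agree. Then there is exactly one isomorphism of K-bialgebras v : B ≅ A inducing every u_i,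
that is with u_i (1 ⊗ b) = 1 ⊗ v b. (The published statement is for the system obtained from a
finite inverse factorization system of fields by base change to a finite separable extension K, and
for linear algebraic groups; this row keeps from that setting only what the argument uses: K is a
field and is the equalizer of the finite system, and the group schemes are affine.) -/
theorem result
    (K : Type u) [Field K] (ιv ιe : Type u) [Finite ιv] [Finite ιe]
    (Kv : ιv → Type u) [∀ i, CommRing (Kv i)] [∀ i, Algebra K (Kv i)]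
    (Ke : ιe → Type u) [∀ k, CommRing (Ke k)] [∀ k, Algebra K (Ke k)]
    (l r : ιe → ιv) (ρl : ∀ k, Kv (l k) →ₐ[K] Ke k) (ρr : ∀ k, Kv (r k) →ₐ[K] Ke k)
    (hlim : ∀ x : (∀ i, Kv i), (∀ k, ρl k (x (l k)) = ρr k (x (r k))) →
      ∃! a : K, ∀ i, algebraMap K (Kv i) a = x i)
    (A B : Type u) [CommRing A] [CommRing B] [Bialgebra K A] [Bialgebra K B]
    (u : ∀ i, (Kv i ⊗[K] B) ≃ₐc[Kv i] (Kv i ⊗[K] A))
    (hu : ∀ (k : ιe) (b : B),
      Algebra.TensorProduct.map (ρl k) (AlgHom.id K A) (u (l k) (1 ⊗ₜ[K] b)) =
        Algebra.TensorProduct.map (ρr k) (AlgHom.id K A) (u (r k) (1 ⊗ₜ[K] b))) :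
    ∃! v : B ≃ₐc[K] A, ∀ (i : ιv) (b : B), u i (1 ⊗ₜ[K] b) = 1 ⊗ₜ[K] v b := by
  classical
  haveI : Fintype ιv := Fintype.ofFinite _
  haveI : Fintype ιe := Fintype.ofFinite _
  obtain ⟨i₀, hne⟩ : ∃ i, Nontrivial (Kv i) := by
    by_contra! h
    have hs : ∀ i, Subsingleton (Kv i) := h
    obtain ⟨a, -, huniq⟩ := hlim (fun _ => 0) fun k => by simp
    exact one_ne_zero ((huniq (1 : K) fun i => Subsingleton.elim _ _).trans (huniq 0 fun i => Subsingleton.elim _ _).symm)
  let ι : K →ₗ[K] (∀ i, Kv i) := LinearMap.pi fun i => Algebra.linearMap K (Kv i)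
  let d : (∀ i, Kv i) →ₗ[K] (∀ k, Ke k) :=
    LinearMap.pi fun k => (ρl k).toLinearMap ∘ₗ LinearMap.proj (l k) - (ρr k).toLinearMap ∘ₗ LinearMap.proj (r k)
  have hι : Function.Injective ι := fun a b h => (algebraMap K (Kv i₀)).injective (congrFun h i₀)
  have hex : Function.Exact ι d := by
    intro x
    constructor
    · intro hx
      obtain ⟨a, ha, -⟩ := hlim x fun k => sub_eq_zero.mp (congrFun hx k)
      exact ⟨a, funext ha⟩
    · rintro ⟨a, rfl⟩
      funext k
      simp [d, ι]
  -- descent of elements
  have hproj : ∀ (X : Type u) [AddCommGroup X] [Module K X] (z : (∀ i, Kv i) ⊗[K] X) (i : ιv),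
      TensorProduct.piLeft K X Kv z i = LinearMap.rTensor X (LinearMap.proj i) z := by
    intro X _ _ z i
    induction z using TensorProduct.induction_on with
    | zero => simp
    | add x y hx hy => simp only [map_add, Pi.add_apply, hx, hy]
    | tmul x y => simp
  have hext : ∀ (X : Type u) [AddCommGroup X] [Module K X] (a a' : X),
      (∀ i, (1 : Kv i) ⊗ₜ[K] a = 1 ⊗ₜ[K] a') → a = a' := by
    intro X _ _ a a' h
    apply (TensorProduct.lid K X).symm.injective
    apply Module.Flat.rTensor_preserves_injective_linearMap (M := X) ι hι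
    apply (TensorProduct.piLeft K X Kv).injective
    funext i
    rw [hproj, hproj]
    simpa [ι] using h i
  have hex' : ∀ (z : ∀ i, Kv i ⊗[K] A),
      (∀ k, LinearMap.rTensor A (ρl k).toLinearMap (z (l k)) = LinearMap.rTensor A (ρr k).toLinearMap (z (r k))) →
      ∃ a : A, ∀ i, z i = (1 : Kv i) ⊗ₜ[K] a := by
    intro z hz
    let w := (TensorProduct.piLeft K A Kv).symm z
    have hw : d.rTensor A w = 0 := by
      apply (TensorProduct.piLeft K A Ke).injective
      funext k
      have hk : ∀ y : (∀ k, Ke k) ⊗[K] A, TensorProduct.piLeft K A Ke y k = LinearMap.rTensor A (LinearMap.proj k) y := by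
        intro y
        induction y using TensorProduct.induction_on with
        | zero => simp
        | add x y hx hy => simp only [map_add, Pi.add_apply, hx, hy]
        | tmul x y => simp
      rw [hk, map_zero, Pi.zero_apply, ← LinearMap.comp_apply, ← LinearMap.rTensor_comp]
      have : LinearMap.proj k ∘ₗ d = (ρl k).toLinearMap ∘ₗ LinearMap.proj (l k) - (ρr k).toLinearMap ∘ₗ LinearMap.proj (r k) :=
        LinearMap.proj_pi _ _
      rw [this, LinearMap.rTensor_sub, LinearMap.sub_apply, LinearMap.rTensor_comp, LinearMap.rTensor_comp,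
        LinearMap.comp_apply, LinearMap.comp_apply, ← hproj, ← hproj, LinearEquiv.apply_symm_apply, hz k, sub_self]
    obtain ⟨y, hy⟩ := (Module.Flat.rTensor_exact A hex w).mp hw
    refine ⟨TensorProduct.lid K A y, fun i => ?_⟩
    have h1 := congrArg (fun w => TensorProduct.piLeft K A Kv w i) hy
    simp only [w, LinearEquiv.apply_symm_apply] at h1
    rw [← h1, hproj]
    obtain ⟨a, rfl⟩ := (TensorProduct.lid K A).symm.surjective y
    simp [ι]
  have hcompat : ∀ b : B, ∃ a : A, ∀ i, u i (1 ⊗ₜ[K] b) = (1 : Kv i) ⊗ₜ[K] a := fun b => hex' _ fun k => by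
    have h1 : ∀ (C D : Type u) [CommRing C] [Algebra K C] [CommRing D] [Algebra K D] (ρ : C →ₐ[K] D) (z : C ⊗[K] A),
        LinearMap.rTensor A ρ.toLinearMap z = Algebra.TensorProduct.map ρ (AlgHom.id K A) z := by
      intro C D _ _ _ _ ρ z
      induction z using TensorProduct.induction_on with
      | zero => simp
      | add x y hx hy => simp only [map_add, hx, hy]
      | tmul x y => simp
    rw [h1, h1]
    exact hu k b
  choose v hv using hcompat
  let V : B →ₐ[K] A :=
    { toFun := v
      map_one' := hext A _ _ fun i => by rw [← hv, ← Algebra.TensorProduct.one_def, map_one, Algebra.TensorProduct.one_def]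
      map_mul' := fun x y => hext A _ _ fun i => by
        rw [← hv, show (1 : Kv i) ⊗ₜ[K] (x * y) = (1 ⊗ₜ x) * (1 ⊗ₜ y) by simp, map_mul, hv, hv]
        simp
      map_zero' := hext A _ _ fun i => by rw [← hv]; simp
      map_add' := fun x y => hext A _ _ fun i => by rw [← hv, TensorProduct.tmul_add, map_add, hv, hv, ← TensorProduct.tmul_add]
      commutes' := fun c => hext A _ _ fun i => by
        rw [← hv, Algebra.algebraMap_eq_smul_one, TensorProduct.tmul_smul, ← Algebra.TensorProduct.one_def,
          ← algebraMap_smul (Kv i), map_smul, map_one, Algebra.algebraMap_eq_smul_one (R := K) (A := A),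
          TensorProduct.tmul_smul, ← Algebra.TensorProduct.one_def, algebraMap_smul] }
  have hVε : (Bialgebra.counitAlgHom K A).comp V = Bialgebra.counitAlgHom K B := AlgHom.ext fun b => by
    apply (algebraMap K (Kv i₀)).injective
    have h1 := CoalgHomClass.counit_comp_apply (u i₀) ((1 : Kv i₀) ⊗ₜ[K] b)
    rw [hv, TensorProduct.counit_tmul, TensorProduct.counit_tmul, Bialgebra.counit_one] at h1
    rw [Algebra.algebraMap_eq_smul_one, Algebra.algebraMap_eq_smul_one]
    exact h1
  have hVΔ : (Algebra.TensorProduct.map V V).comp (Bialgebra.comulAlgHom K B) = (Bialgebra.comulAlgHom K A).comp V := by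
    refine AlgHom.ext fun b => hext (A ⊗[K] A) _ _ fun i => ?_
    have h1 := CoalgHomClass.map_comp_comul_apply (u i) ((1 : Kv i) ⊗ₜ[K] b)
    rw [hv] at h1
    let m : (Kv i ⊗[K] A) ⊗[Kv i] (Kv i ⊗[K] A) ≃ₗ[Kv i] Kv i ⊗[K] (A ⊗[K] A) :=
      (TensorProduct.AlgebraTensorModule.cancelBaseChange K (Kv i) (Kv i) (Kv i ⊗[K] A) A).trans
        (TensorProduct.AlgebraTensorModule.assoc K K (Kv i) (Kv i) A A)
    have hA : ∀ w : A ⊗[K] A, ∀ x, x = (1 : Kv i) → m (TensorProduct.AlgebraTensorModule.tensorTensorTensorComm
        K (Kv i) K (Kv i) (Kv i) (Kv i) A A ((x ⊗ₜ[Kv i] x) ⊗ₜ[K] w)) = (1 : Kv i) ⊗ₜ[K] w := by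
      rintro w x rfl
      induction w using TensorProduct.induction_on with
      | zero => simp
      | add p q hp hq => simp only [TensorProduct.tmul_add, map_add, hp, hq]
      | tmul p q => simp [m]
    have h2 := congrArg m h1
    simp only [TensorProduct.comul_tmul, Bialgebra.comul_one, Algebra.TensorProduct.one_def] at h2
    refine Eq.trans ?_ (h2.trans (hA _ 1 rfl))
    show (1 : Kv i) ⊗ₜ[K] (Algebra.TensorProduct.map V V (Coalgebra.comul (R := K) b)) = _
    induction Coalgebra.comul (R := K) b using TensorProduct.induction_on with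
    | zero => simp
    | add p q hp hq => simp only [TensorProduct.tmul_add, map_add, hp, hq]
    | tmul p q =>
      simp [m]
      rw [hv, hv]
      simp [show V p = v p from rfl, show V q = v q from rfl]
  have hinj : Function.Injective V := fun x y h => hext B _ _ fun i => (u i).injective (show u i _ = u i _ by rw [hv, hv]; exact congrArg _ h)
  have hsurj : Function.Surjective V := by
    haveI : Module.FaithfullyFlat K (Kv i₀) := inferInstance
    refine (Module.FaithfullyFlat.lTensor_surjective_iff_surjective K (Kv i₀) V.toLinearMap).mp fun z => ?_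
    obtain ⟨w, hw⟩ := (u i₀).surjective z
    refine ⟨w, Eq.trans ?_ hw⟩
    show _ = u i₀ w
    clear hw
    induction w using TensorProduct.induction_on with
    | zero => simp
    | add p q hp hq => simp only [map_add, hp, hq]
    | tmul c b =>
      rw [show c ⊗ₜ[K] b = c • ((1 : Kv i₀) ⊗ₜ[K] b) by simp [TensorProduct.smul_tmul'], map_smul (u i₀), hv,
        TensorProduct.smul_tmul', TensorProduct.smul_tmul', smul_eq_mul, mul_one]
      rfl
  let e : B ≃ₐc[K] A := BialgEquiv.ofBijective (BialgHom.ofAlgHom V hVε hVΔ) ⟨hinj, hsurj⟩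
  refine ⟨e, fun i b => hv b i, fun e' he' => BialgEquiv.ext fun b => hext A _ _ fun i => ?_⟩
  exact (he' i b).symm.trans (hv b i)

end Groth.Agent.S15411
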