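import Groth.Statements.S15412
import Groth.Agent.Lib.GSheaf21.Basic
import Mathlib.Tactic.Group

set_option autoImplicit false
universe w v u
open CategoryTheory Opposite
open Bitors

namespace Groth.Agent.S15412

/-- On a site, let G and H be sheaves of groups and P a sheaf of sets with a left G-action which is
simply transitive on every set of sections P(U). The right H-actions on P that are compatible with
restriction, commute with the G-action and are simply transitive on every P(U) (for P a G-torsor:
the structures of (G, H)-bitorsor on P) correspond exactly to the families of group isomorphisms φ_p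
: H(U) ≃ G(U), one for each section p of P over each U, compatible with restriction and with φ_{g·p}
= g φ_p g⁻¹ (the equivariant maps from P to the sheaf of isomorphisms from H to G); the
correspondence is the rule p · h = φ_p(h) · p, and the statement is that every right structure
arises by this rule from exactly one family and every family from exactly one right structure. (The
published statement takes P a left G-torsor; only the simple transitivity of the G-action on
sections enters, so local existence of sections is not assumed.) -/
theorem result
    {C : Type u} [Category.{v} C] {J : GrothendieckTopology C}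
    (G H : Sheaf J GrpCat.{w}) (P : NonAbH1.GSheaf G) (hP : P.IsPseudoTorsor) :
    (∀ ρ : Bitors.RightStr P H, ∃! φ : Bitors.IsomFamily P H,
        ∀ (U : Cᵒᵖ) (p : P.P.obj.obj U) (h : H.obj.obj U), ρ.rsmul p h = P.smul (φ.φ p h) p) ∧
    (∀ φ : Bitors.IsomFamily P H, ∃! ρ : Bitors.RightStr P H,
        ∀ (U : Cᵒᵖ) (p : P.P.obj.obj U) (h : H.obj.obj U), ρ.rsmul p h = P.smul (φ.φ p h) p) := by
  constructor
  · intro ρ
    choose a ha ha' using fun (U : Cᵒᵖ) (p : P.P.obj.obj U) (h : H.obj.obj U) => hP U p (ρ.rsmul p h)
    have hmul : ∀ U p h h', a U p (h * h') = a U p h * a U p h' := fun U p h h' => (ha' U p _ _ (by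
      show P.smul (a U p h * a U p h') p = _
      rw [P.mul_smul, ha, ρ.rsmul_mul, ← ρ.smul_rsmul, ha]
      try rfl)).symm
    have hbij : ∀ U p, Function.Bijective (a U p) := fun U p => ⟨fun h h' e => by
        refine (ρ.existsUnique_rsmul p (ρ.rsmul p h)).unique rfl ?_
        rw [← ha, ← ha, e], fun g => by
        obtain ⟨h, hh, -⟩ := ρ.existsUnique_rsmul p (P.smul g p)
        exact ⟨h, (ha' U p h g hh.symm).symm⟩⟩
    let e : ∀ U p, H.obj.obj U ≃* G.obj.obj U := fun U p =>
      MulEquiv.ofBijective (MonoidHom.mk' (a U p) (hmul U p)) (hbij U p)
    refine ⟨⟨fun {U} p => e U p, fun {U V} f p h => ha' V _ _ _ ?_, fun {U} g p h => (ha' U _ _ _ ?_).symm⟩,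
      fun U p h => (ha U p h).symm, fun φ hφ => ?_⟩
    · show P.smul (G.obj.map f (a U p h)) _ = _
      rw [← P.map_smul, ha, ρ.map_rsmul]
    · show P.smul (g * a U p h * g⁻¹) _ = _
      rw [← P.mul_smul, inv_mul_cancel_right, P.mul_smul, ha, ρ.smul_rsmul]
    · cases φ with
      | mk φ₁ h₁ h₂ =>
        congr 1
        funext U p
        exact MulEquiv.ext fun h => ha' U p h _ (hφ U p h).symm
  · intro φ
    refine ⟨{ rsmul := fun {U} p h => P.smul (φ.φ p h) p
              rsmul_one := fun p => by rw [map_one, P.one_smul]
              rsmul_mul := fun p h h' => by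
                rw [map_mul, φ.φ_smul, ← P.mul_smul]
                congr 1
                group
              map_rsmul := fun f p h => by rw [P.map_smul, φ.map_φ]
              smul_rsmul := fun g p h => by
                rw [φ.φ_smul, ← P.mul_smul, ← P.mul_smul, inv_mul_cancel_right]
              existsUnique_rsmul := fun {U} p q => ?_ }, fun U p h => rfl, fun ρ hρ => ?_⟩
    · obtain ⟨g, hg, hg'⟩ := hP U p q
      refine ⟨(φ.φ p).symm g, ?_, fun h hh => ?_⟩
      · show P.smul (φ.φ p ((φ.φ p).symm g)) p = q
        rw [MulEquiv.apply_symm_apply, hg]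
      · rw [← hg' _ hh, MulEquiv.symm_apply_apply]
    · cases ρ with
      | mk r h₁ h₂ h₃ h₄ h₅ =>
        congr 1
        funext U p h
        exact hρ U p h

end Groth.Agent.S15412
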