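import Groth.Statements.S15415
import Groth.Agent.S13692
import Groth.Agent.Lib.RedNorm.Basic
import Groth.Agent.Lib.GalDescent.Tensor

set_option autoImplicit false
universe u v w
open scoped TensorProduct
attribute [local instance] CSAGal.tensorAction GpH1.unitsAction
open GalCoh

namespace Groth.Agent.S15415

/-- For a central simple algebra over a field, the first Galois cohomology set of its norm-one group is
identified with the nonzero scalars modulo the reduced norms of units, by the boundary map of the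
sequence norm-one units → units → nonzero scalars. Finite-level form: let k be a field, K a finite
Galois extension of k whose Galois group acts on K ⊗_k A through the first factor, A a
finite-dimensional central simple k-algebra split by K, N the reduced norm of A over k and N_K the
reduced norm of K ⊗_k A over K. Then (i) every 1-cocycle a with values in the units of K ⊗_k A of
reduced norm one is of the form a σ = b⁻¹ · σ(b) for a unit b whose reduced norm is an element c of
kˣ; and (ii) for units b, b' of K ⊗_k A with reduced norms c, c' in kˣ, the cocycles σ ↦ b⁻¹σ(b) and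
σ ↦ b'⁻¹σ(b') are cohomologous through a unit of reduced norm one if and only if c' = N(x) · c for
some unit x of A. (Since K splits A the reduced norm N_K takes every value in kˣ, so (i) and (ii)
say that c ↦ class of b⁻¹σ(b), N_K b = c, is a well-defined bijection from kˣ/N(Aˣ) onto the
cohomology set of the norm-one units. The published statement is for the absolute Galois group of a
field of characteristic different from 2, an assumption playing no role here; this row is the
finite-level form over a splitting field.) -/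
theorem result
    (k : Type u) [Field k] (K : Type v) [Field K] [Algebra k K] [FiniteDimensional k K] [IsGalois k K]
    (A : Type w) [Ring A] [Algebra k A] [Algebra.IsCentral k A] [IsSimpleRing A] [FiniteDimensional k A]
    (hA : Curves.Splits k A K)
    (N : A →* k) (hN : CSAGal.IsRedNorm k A N)
    (NK : (K ⊗[k] A) →* K) (hNK : CSAGal.IsRedNorm K (K ⊗[k] A) NK) :
    (∀ a : GpH1.OneCocycle (K ≃ₐ[k] K) (K ⊗[k] A)ˣ, (∀ σ, NK (a σ : K ⊗[k] A) = 1) →
        ∃ (c : kˣ) (b : (K ⊗[k] A)ˣ), NK (b : K ⊗[k] A) = algebraMap k K (c : k) ∧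
          ∀ σ : K ≃ₐ[k] K, a σ = b⁻¹ * σ • b) ∧
    (∀ (c c' : kˣ) (b b' : (K ⊗[k] A)ˣ),
        NK (b : K ⊗[k] A) = algebraMap k K (c : k) → NK (b' : K ⊗[k] A) = algebraMap k K (c' : k) →
        ((∃ s : (K ⊗[k] A)ˣ, NK (s : K ⊗[k] A) = 1 ∧
            ∀ σ : K ≃ₐ[k] K, b'⁻¹ * σ • b' = s⁻¹ * (b⁻¹ * σ • b) * σ • s) ↔
          ∃ x : Aˣ, (c' : k) = N (x : A) * (c : k))) := by
  obtain ⟨m, hm, ⟨φ⟩⟩ := hA
  haveI : NeZero m := ⟨hm⟩
  haveI : Algebra.IsCentral K (K ⊗[k] A) := ⟨fun x hx => by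
    have hc : φ x ∈ (⊥ : Subalgebra K (Matrix (Fin m) (Fin m) K)) :=
      Algebra.IsCentral.out (Subalgebra.mem_center_iff.2 fun y => by
        obtain ⟨y, rfl⟩ := φ.surjective y
        rw [← map_mul, ← map_mul, Subalgebra.mem_center_iff.1 hx y])
    obtain ⟨c, hc⟩ := Algebra.mem_bot.1 hc
    exact Algebra.mem_bot.2 ⟨c, φ.injective ((φ.commutes c).trans hc)⟩⟩
  haveI : IsSimpleRing (K ⊗[k] A) := GrothLib.CSA.isSimpleRing_baseChange (k := k) (A := A) K
  have hn : Module.finrank k A = m ^ 2 := by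
    have h1 := φ.toLinearEquiv.finrank_eq
    rw [Module.finrank_baseChange, Module.finrank_matrix, Fintype.card_fin, Module.finrank_self,
      mul_one, ← sq] at h1
    exact h1
  have hnK : Module.finrank K (K ⊗[k] A) = m ^ 2 := by rw [Module.finrank_baseChange, hn]
  let L := AlgebraicClosure K
  -- any representation computes the reduced norm
  have hdet : ∀ (ψ : K ⊗[k] A →ₐ[K] Matrix (Fin m) (Fin m) K) (x : K ⊗[k] A), NK x = (ψ x).det := by
    intro ψ x
    apply (algebraMap K L).injective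
    rw [GrothLib.RedNorm.redNorm_eq hnK hNK ((Algebra.ofId K L).mapMatrix.comp ψ) x, RingHom.map_det]
    rfl
  have hone : ∀ y : A, NK (1 ⊗ₜ[k] y) = algebraMap k K (N y) := by
    intro y
    apply (algebraMap K L).injective
    rw [← IsScalarTower.algebraMap_apply, hdet φ.toAlgHom,
      GrothLib.RedNorm.redNorm_eq hn hN (((Algebra.ofId K L).restrictScalars k).mapMatrix.comp
        ((φ.toAlgHom.restrictScalars k).comp Algebra.TensorProduct.includeRight)) y, RingHom.map_det]
    rfl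
  have heq : ∀ (σ : K ≃ₐ[k] K) (x : K ⊗[k] A), NK (σ • x) = σ (NK x) := by
    intro σ x
    let ψ : K ⊗[k] A →ₐ[K] Matrix (Fin m) (Fin m) K :=
      { toRingHom := (σ : K →+* K).mapMatrix.comp (φ.toAlgHom.toRingHom.comp
          (MulSemiringAction.toRingHom (K ≃ₐ[k] K) (K ⊗[k] A) σ⁻¹))
        commutes' := fun c => by
          show ((σ : K →+* K).mapMatrix) (φ (σ⁻¹ • (algebraMap K (K ⊗[k] A) c))) = _
          rw [Algebra.TensorProduct.algebraMap_apply, Algebra.algebraMap_self, RingHom.id_apply,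
            TensorProduct.smul_tmul',
            show (σ⁻¹ • c) ⊗ₜ[k] (1 : A) = algebraMap K (K ⊗[k] A) (σ⁻¹ • c) from rfl, φ.commutes,
            Matrix.algebraMap_eq_diagonal, Matrix.algebraMap_eq_diagonal, RingHom.mapMatrix_apply,
            Matrix.diagonal_map (map_zero _)]
          congr 1
          funext i
          exact σ.apply_symm_apply c }
    rw [hdet ψ, hdet φ.toAlgHom]
    show Matrix.det ((σ : K →+* K).mapMatrix (φ (σ⁻¹ • (σ • x)))) = _
    rw [inv_smul_smul, ← RingHom.map_det]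
    rfl
  refine ⟨fun a ha => ?_, fun c c' b b' hc hc' => ⟨?_, ?_⟩⟩
  · obtain ⟨b, hb⟩ := Groth.Agent.S13692.exists_eq_coboundary a
    have hne : NK (b : K ⊗[k] A) ≠ 0 := (b.isUnit.map NK).ne_zero
    have hfix : ∀ σ : K ≃ₐ[k] K, σ (NK (b : K ⊗[k] A)) = NK (b : K ⊗[k] A) := by
      intro σ
      have h := ha σ
      rw [hb σ, Units.val_mul, map_mul] at h
      have h2 : NK ((σ • b : (K ⊗[k] A)ˣ) : K ⊗[k] A) = σ (NK (b : K ⊗[k] A)) := heq σ _
      have h3 : NK ((b⁻¹ : (K ⊗[k] A)ˣ) : K ⊗[k] A) * NK (b : K ⊗[k] A) = 1 := by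
        rw [← map_mul, Units.inv_mul, map_one]
      exact h2.symm.trans (mul_left_cancel₀ (left_ne_zero_of_mul_eq_one h3) (h.trans h3.symm))
    obtain ⟨c, hc⟩ := (IsGalois.mem_range_algebraMap_iff_fixed _).2 hfix
    refine ⟨Units.mk0 c fun h0 => hne (by rw [← hc, h0, map_zero]), b, hc.symm, hb⟩
  · rintro ⟨s, hs, h⟩
    let x : (K ⊗[k] A)ˣ := b' * (b * s)⁻¹
    have hx : ∀ σ : K ≃ₐ[k] K, σ • x = x := by
      intro σ
      have h' : σ • b' = b' * (s⁻¹ * (b⁻¹ * σ • b) * σ • s) := by rw [← h σ]; group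
      show σ • (b' * (b * s)⁻¹) = b' * (b * s)⁻¹
      rw [smul_mul', smul_inv', smul_mul', h']
      group
    obtain ⟨x₀, hx₀⟩ := GrothLib.GalDescent.exists_one_tmul_of_fixed
      (y := (x : K ⊗[k] A)) fun σ => congrArg Units.val (hx σ)
    obtain ⟨y₀, hy₀⟩ := GrothLib.GalDescent.exists_one_tmul_of_fixed
      (y := ((x⁻¹ : (K ⊗[k] A)ˣ) : K ⊗[k] A)) fun σ => congrArg Units.val
        ((smul_inv' σ x).trans (congrArg (·⁻¹) (hx σ)))
    have hinj : Function.Injective (fun y : A => (1 : K) ⊗ₜ[k] y) :=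
      Algebra.TensorProduct.includeRight_injective (R := k) (A := K) (B := A) (algebraMap k K).injective
    refine ⟨⟨x₀, y₀, hinj ?_, hinj ?_⟩, (algebraMap k K).injective ?_⟩
    · show (1 : K) ⊗ₜ[k] (x₀ * y₀) = (1 : K) ⊗ₜ[k] (1 : A)
      rw [← Algebra.TensorProduct.one_def, show (1 : K) ⊗ₜ[k] (x₀ * y₀) = (1 ⊗ₜ x₀) * (1 ⊗ₜ y₀) by
        rw [Algebra.TensorProduct.tmul_mul_tmul, one_mul]]
      rw [hx₀, hy₀, Units.mul_inv]
    · show (1 : K) ⊗ₜ[k] (y₀ * x₀) = (1 : K) ⊗ₜ[k] (1 : A)
      rw [← Algebra.TensorProduct.one_def, show (1 : K) ⊗ₜ[k] (y₀ * x₀) = (1 ⊗ₜ y₀) * (1 ⊗ₜ x₀) by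
        rw [Algebra.TensorProduct.tmul_mul_tmul, one_mul]]
      rw [hx₀, hy₀, Units.inv_mul]
    · rw [map_mul, ← hone, hx₀, ← hc, ← hc', ← map_mul]
      have h1 : NK ((x : K ⊗[k] A) * ((b : K ⊗[k] A) * (s : K ⊗[k] A))) = NK (b' : K ⊗[k] A) := by
        rw [← Units.val_mul, ← Units.val_mul]
        exact congrArg (fun u : (K ⊗[k] A)ˣ => NK (u : K ⊗[k] A)) (inv_mul_cancel_right b' (b * s))
      rw [← h1, map_mul, map_mul, hs, mul_one, ← map_mul]
  · rintro ⟨x, hx⟩
    let X : (K ⊗[k] A)ˣ := Units.map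
      (Algebra.TensorProduct.includeRight : A →ₐ[k] K ⊗[k] A).toRingHom.toMonoidHom x
    have hX : ∀ σ : K ≃ₐ[k] K, σ • X = X := fun σ =>
      Units.ext (GrothLib.GalDescent.one_tmul_mem_fixed (x : A) σ)
    refine ⟨b⁻¹ * X⁻¹ * b', ?_, fun σ => ?_⟩
    · have h1 : NK (b : K ⊗[k] A) * NK (X : K ⊗[k] A) * NK ((b⁻¹ * X⁻¹ * b' : (K ⊗[k] A)ˣ) : K ⊗[k] A) =
          NK (b' : K ⊗[k] A) := by
        rw [mul_comm (NK (b : K ⊗[k] A)), ← map_mul, ← map_mul, ← Units.val_mul, ← Units.val_mul]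
        congr 2
        group
      have h2 : NK (b : K ⊗[k] A) * NK (X : K ⊗[k] A) = NK (b' : K ⊗[k] A) := by
        rw [hc, hc', show (X : K ⊗[k] A) = (1 : K) ⊗ₜ[k] (x : A) from rfl, hone, ← map_mul, hx, mul_comm]
      exact mul_left_cancel₀ ((b'.isUnit.map NK).ne_zero) ((congrArg (· * _) h2.symm).trans (h1.trans (mul_one _).symm))
    · rw [smul_mul', smul_mul', smul_inv', smul_inv', hX σ]
      group

end Groth.Agent.S15415
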