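import Groth.Statements.S15421
import Groth.Agent.Lib.GrLC.RegCut

set_option autoImplicit false
universe u
open GrSyz

namespace Groth.Agent.S15421

open GrothLib.GrLC in
theorem setup {k : Type u} [Field k] {n : ℕ} {M : Type u} [AddCommGroup M] [Module (MvPolynomial (Fin n) k) M]
    {τ : Type u} [SetLike τ M] [AddSubgroupClass τ M] {ℳ : ℤ → τ}
    [DirectSum.Decomposition ℳ] [SetLike.GradedSMul (GrSyz.stdGr k (Fin n)) ℳ]
    {N : Type u} [AddCommGroup N] [Module (MvPolynomial (Fin n) k) N]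
    (π : M →ₗ[MvPolynomial (Fin n) k] N) {x : MvPolynomial (Fin n) k} (hx : x ∈ GrSyz.stdGr k (Fin n) 1)
    (hker : LinearMap.ker π = LinearMap.range (x • (LinearMap.id : M →ₗ[MvPolynomial (Fin n) k] M))) :
    Function.Exact (mulShift (gmod (GrSyz.stdGr k (Fin n)) ℳ) (linE x hx)) π := fun m =>
  ⟨fun h => (SetLike.ext_iff.1 hker m).1 h, fun h => (SetLike.ext_iff.1 hker m).2 h⟩


/-- Let k be a field, S = k[x_0, …, x_r] graded by degree, 𝔪 = (x_0, …, x_r), M a finitely generated
ℤ-graded S-module, x ∈ S_1 a linear form quasi-regular on M (the elements of M killed by x form a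
submodule of finite length) and N = M/xM, given as a graded module with a surjective
degree-preserving S-linear map π : M → N with kernel xM. Then reg M = max(end H^0_𝔪(M), reg N),
where reg is the Castelnuovo–Mumford regularity in the sense of minimal graded free resolutions (as
an extended integer, −∞ for the zero module) and end H^0_𝔪(M) is the largest degree of a nonzero
piece of the graded local cohomology H^0_𝔪(M), computed from any *injective resolution of M in the
graded category. (The published statement takes x quasi-regular without repeating that it is a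
linear form; a linear form is meant, as in the proposition it rests on.) -/
theorem result (k : Type u) [Field k] (r : ℕ)
    (M : Type u) [AddCommGroup M] [Module k M] [Module (MvPolynomial (Fin (r + 1)) k) M]
    [IsScalarTower k (MvPolynomial (Fin (r + 1)) k) M] [Module.Finite (MvPolynomial (Fin (r + 1)) k) M]
    (ℳ : ℤ → Submodule k M) [DirectSum.Decomposition ℳ] [SetLike.GradedSMul (GrSyz.stdGr k (Fin (r + 1))) ℳ]
    (x : MvPolynomial (Fin (r + 1)) k) (hx : x ∈ GrSyz.stdGr k (Fin (r + 1)) 1)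
    (hq : IsFiniteLength (MvPolynomial (Fin (r + 1)) k) ↥(Submodule.torsionBy (MvPolynomial (Fin (r + 1)) k) M x))
    (N : Type u) [AddCommGroup N] [Module k N] [Module (MvPolynomial (Fin (r + 1)) k) N]
    [IsScalarTower k (MvPolynomial (Fin (r + 1)) k) N] [Module.Finite (MvPolynomial (Fin (r + 1)) k) N]
    (𝒩 : ℤ → Submodule k N) [DirectSum.Decomposition 𝒩] [SetLike.GradedSMul (GrSyz.stdGr k (Fin (r + 1))) 𝒩]
    (π : M →ₗ[MvPolynomial (Fin (r + 1)) k] N) (hπ : Function.Surjective π) (hπg : GrLC.IsGrHom ℳ 𝒩 π)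
    (hker : LinearMap.ker π = LinearMap.range (x • (LinearMap.id : M →ₗ[MvPolynomial (Fin (r + 1)) k] M)))
    (E : GrLC.StarInjRes (GrSyz.stdGr k (Fin (r + 1))) ℳ) :
    GrSyz.reg (GrSyz.stdGr k (Fin (r + 1))) ℳ (GrSyz.irrel (GrSyz.stdGr k (Fin (r + 1)))).toIdeal =
      GrLC.endDeg (E.Hgr (GrSyz.irrel (GrSyz.stdGr k (Fin (r + 1)))) 0) ⊔ GrSyz.reg (GrSyz.stdGr k (Fin (r + 1))) 𝒩 (GrSyz.irrel (GrSyz.stdGr k (Fin (r + 1)))).toIdeal := by
  have hL := GrothLib.GrLC.hspan_linE_cons x hx
  have he := GrothLib.GrLC.deg_linE_cons x hx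
  have hfin : Module.Finite (MvPolynomial (Fin (r + 1)) k)
    (GrothLib.GrLC.gmod (GrSyz.stdGr k (Fin (r + 1))) ℳ).carrier := ‹Module.Finite (MvPolynomial (Fin (r + 1)) k) M›
  let E' := GrothLib.GrLC.starInjRes (GrSyz.stdGr k (Fin (r + 1))) 𝒩
  refine GrothLib.GrLC.eq_of_forall_le_int fun d => ?_
  rw [sup_le_iff, GrothLib.GrLC.reg_eq ℳ E, GrothLib.GrLC.reg_eq 𝒩 E', GrothLib.GrLC.iSup_endDeg_le_iff E hL d,
    GrothLib.GrLC.iSup_endDeg_le_iff E' hL d, GrothLib.GrLC.endDeg_zero_le_iff_van E hL d,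
    GrothLib.GrLC.strong_cut_iff (X := GrothLib.GrLC.gmod (GrSyz.stdGr k (Fin (r + 1))) ℳ)
      (N := GrothLib.GrLC.gmod (GrSyz.stdGr k (Fin (r + 1))) 𝒩) (x := GrothLib.GrLC.linE x hx) rfl π hπg hπ
      (setup π hx hker) hq (List.mem_cons_self ..) he d]
  exact and_comm

end Groth.Agent.S15421
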