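import Groth.Statements.S15422
import Groth.Agent.Lib.GrLC.RegCut

set_option autoImplicit false
universe u
open GrSyz

namespace Groth.Agent.S15422

/-- Let k be a field, S = k[x_0, …, x_r] graded by degree, 𝔪 = (x_0, …, x_r) and M a finitely generated
ℤ-graded S-module of finite length. Then the Castelnuovo–Mumford regularity of M, in the sense of
minimal graded free resolutions (an extended integer, −∞ for the zero module), equals the largest
degree d with M_d ≠ 0. -/
theorem result (k : Type u) [Field k] (r : ℕ)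
    (M : Type u) [AddCommGroup M] [Module k M] [Module (MvPolynomial (Fin (r + 1)) k) M]
    [IsScalarTower k (MvPolynomial (Fin (r + 1)) k) M] [Module.Finite (MvPolynomial (Fin (r + 1)) k) M]
    (ℳ : ℤ → Submodule k M) [DirectSum.Decomposition ℳ] [SetLike.GradedSMul (GrSyz.stdGr k (Fin (r + 1))) ℳ]
    (hM : IsFiniteLength (MvPolynomial (Fin (r + 1)) k) M) :
    GrSyz.reg (GrSyz.stdGr k (Fin (r + 1))) ℳ (GrSyz.irrel (GrSyz.stdGr k (Fin (r + 1)))).toIdeal = GrLC.endDeg (fun n => (ℳ n).toAddSubgroup) := by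
  have hfin : Module.Finite (MvPolynomial (Fin (r + 1)) k)
    (GrothLib.GrLC.gmod (GrSyz.stdGr k (Fin (r + 1))) ℳ).carrier := ‹Module.Finite (MvPolynomial (Fin (r + 1)) k) M›
  refine GrothLib.GrLC.eq_of_forall_le_int fun d => ?_
  rw [GrothLib.GrLC.reg_le_iff_van, GrothLib.GrLC.endDeg_le_iff,
    GrothLib.GrLC.strong_iff_of_torsion
      (GrothLib.GrLC.hpow_torsion (X := GrothLib.GrLC.gmod (GrSyz.stdGr k (Fin (r + 1))) ℳ) hM
        (GrothLib.GrLC.deg_varL k (r + 1))) d]
  exact Iff.rfl

end Groth.Agent.S15422
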