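import Groth.Statements.S15423
import Groth.Agent.Lib.GrSyz.Unique
import Mathlib.Tactic.Linarith

set_option autoImplicit false
universe u
open GrSyz

namespace Groth.Agent.S15423

/-- Let k be a field, S = k[x_0, …, x_r] graded by degree, 𝔪 = (x_0, …, x_r), M a finitely generated
ℤ-graded S-module and F a minimal graded free resolution of M by finite-rank free modules with
homogeneous bases (all matrix entries in 𝔪). Then the Castelnuovo–Mumford regularity of M (an
extended integer) is the supremum over i ≥ 0 of t_i − i, where t_i is the largest degree of a basis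
vector of F_i, that is the largest nonzero degree of Tor_i^S(M, k) (−∞ when F_i = 0). In particular
the value does not depend on the minimal resolution chosen. -/
theorem result (k : Type u) [Field k] (r : ℕ)
    (M : Type u) [AddCommGroup M] [Module k M] [Module (MvPolynomial (Fin (r + 1)) k) M]
    [IsScalarTower k (MvPolynomial (Fin (r + 1)) k) M] [Module.Finite (MvPolynomial (Fin (r + 1)) k) M]
    (ℳ : ℤ → Submodule k M) [DirectSum.Decomposition ℳ] [SetLike.GradedSMul (GrSyz.stdGr k (Fin (r + 1))) ℳ]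
    (F : GrSyz.FreeRes (GrSyz.stdGr k (Fin (r + 1))) ℳ) (hF : F.IsMinimal (GrSyz.irrel (GrSyz.stdGr k (Fin (r + 1)))).toIdeal) :
    GrSyz.reg (GrSyz.stdGr k (Fin (r + 1))) ℳ (GrSyz.irrel (GrSyz.stdGr k (Fin (r + 1)))).toIdeal =
      ⨆ i : ℕ, WithBot.map (fun t : ℤ => ((t - (i : ℤ) : ℤ) : WithTop ℤ)) (F.maxGenDeg i) := by
  classical
  let V : ℕ → WithBot (WithTop ℤ) := fun i => WithBot.map (fun t : ℤ => ((t - (i : ℤ) : ℤ) : WithTop ℤ)) (F.maxGenDeg i)
  have hb : ∀ (s : ℤ), F.IsGenLE s ↔ ∀ i, V i ≤ ((s : WithTop ℤ) : WithBot (WithTop ℤ)) := by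
    intro s
    constructor
    · intro h i
      by_cases he : (Finset.univ : Finset (Fin (F.rk i))).Nonempty
      · obtain ⟨b, -, hb⟩ := Finset.exists_mem_eq_sup _ he (fun b : Fin (F.rk i) => (F.deg i b : WithBot ℤ))
        simp only [V, GrSyz.FreeRes.maxGenDeg, hb, WithBot.map_coe, WithBot.coe_le_coe, WithTop.coe_le_coe]
        have := h i b
        linarith
      · simp [V, GrSyz.FreeRes.maxGenDeg, Finset.not_nonempty_iff_eq_empty.1 he]
    · intro h i b
      have h1 : (F.deg i b : WithBot ℤ) ≤ F.maxGenDeg i :=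
        Finset.le_sup (f := fun b : Fin (F.rk i) => (F.deg i b : WithBot ℤ)) (Finset.mem_univ b)
      have h2 := h i
      obtain ⟨t, ht⟩ : ∃ t : ℤ, F.maxGenDeg i = (t : WithBot ℤ) := by
        cases hm : F.maxGenDeg i with
        | bot => rw [hm] at h1; simp at h1
        | coe t => exact ⟨t, rfl⟩
      rw [ht, WithBot.coe_le_coe] at h1
      simp only [V, ht, WithBot.map_coe, WithBot.coe_le_coe, WithTop.coe_le_coe] at h2
      linarith
  have hreg : ∀ s : ℤ, GrSyz.IsRegLE (GrSyz.stdGr k (Fin (r + 1))) ℳ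
      (GrSyz.irrel (GrSyz.stdGr k (Fin (r + 1)))).toIdeal s ↔ F.IsGenLE s := by
    refine fun s => ⟨?_, fun h => ⟨F, hF, h⟩⟩
    rintro ⟨F', hF', h'⟩ i b
    have := GrothLib.GrSyz.betti_eq F F' hF hF' i (F.deg i b)
    have hpos : 0 < F'.betti i (F.deg i b) := by
      rw [← this]
      exact Finset.card_pos.2 ⟨b, by simp⟩
    obtain ⟨b', hb'⟩ := Finset.card_pos.1 hpos
    rw [← (Finset.mem_filter.1 hb').2]
    exact h' i b'
  simp only [GrSyz.reg, hreg, hb]
  refine le_antisymm ?_ (iSup_le fun i => le_iInf₂ fun s hs => hs i)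
  cases hz : (⨆ i, V i) with
  | bot =>
    have hV : ∀ i, V i = ⊥ := fun i => le_bot_iff.1 ((le_iSup V i).trans hz.le)
    have hle : ∀ z : ℤ, (⨅ (z : ℤ) (_ : ∀ i, V i ≤ ((z : WithTop ℤ) : WithBot (WithTop ℤ))),
        ((z : WithTop ℤ) : WithBot (WithTop ℤ))) ≤ ((z : WithTop ℤ) : WithBot (WithTop ℤ)) :=
      fun z => iInf₂_le z fun i => by rw [hV i]; exact bot_le
    generalize hx : (⨅ (z : ℤ) (_ : ∀ i, V i ≤ ((z : WithTop ℤ) : WithBot (WithTop ℤ))),
        ((z : WithTop ℤ) : WithBot (WithTop ℤ))) = x at hle ⊢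
    cases x with
    | bot => exact le_rfl
    | coe x =>
      cases x with
      | top => exact absurd (hle 0) (not_le_of_gt (WithBot.coe_lt_coe.2 (WithTop.coe_lt_top _)))
      | coe z =>
        have := hle (z - 1)
        rw [WithBot.coe_le_coe, WithTop.coe_le_coe] at this
        omega
  | coe x =>
    cases x with
    | top => exact le_top
    | coe z => exact iInf₂_le z fun i => (le_iSup V i).trans hz.le

end Groth.Agent.S15423
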