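import Groth.Statements.S15427
import Groth.Agent.Lib.GrSyz.Gens
import Mathlib.LinearAlgebra.Finsupp.LinearCombination

set_option autoImplicit false
universe u
open GrSyz

namespace Groth.Agent.S15427

/-- Let k be a field, S = k[x_0, …, x_r] graded by degree, 𝔪 = (x_0, …, x_r), M a finitely generated
ℤ-graded S-module and F a graded free resolution of M by free modules of finite rank with chosen
homogeneous bases, written as matrices d_i : F_{i+1} → F_i together with the images aug b ∈ M of the
basis of F_0. Then F is a minimal complex (every matrix entry lies in 𝔪) if and only if every map of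
the resolution carries its basis to an irredundant (minimal) family of generators of its image: for
each b, aug b is not in the S-span of the remaining aug b', and for each i and each column of d_i,
that column is not in the S-span of the remaining columns. -/
theorem result (k : Type u) [Field k] (r : ℕ)
    (M : Type u) [AddCommGroup M] [Module k M] [Module (MvPolynomial (Fin (r + 1)) k) M]
    [IsScalarTower k (MvPolynomial (Fin (r + 1)) k) M] [Module.Finite (MvPolynomial (Fin (r + 1)) k) M]
    (ℳ : ℤ → Submodule k M) [DirectSum.Decomposition ℳ] [SetLike.GradedSMul (GrSyz.stdGr k (Fin (r + 1))) ℳ]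
    (F : GrSyz.FreeRes (GrSyz.stdGr k (Fin (r + 1))) ℳ) :
    F.IsMinimal (GrSyz.irrel (GrSyz.stdGr k (Fin (r + 1)))).toIdeal ↔
      ((∀ b : Fin (F.rk 0), F.aug b ∉ Submodule.span (MvPolynomial (Fin (r + 1)) k) (F.aug '' {b' | b' ≠ b})) ∧
        ∀ (i : ℕ) (b : Fin (F.rk (i + 1))),
          (fun a => F.d i a b) ∉ Submodule.span (MvPolynomial (Fin (r + 1)) k) ((fun b' a => F.d i a b') '' {b' | b' ≠ b})) := by
  classical
  have key : ∀ {N : Type u} [AddCommGroup N] [Module (MvPolynomial (Fin (r + 1)) k) N] {m : ℕ}
      (y : Fin m → N),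
      (∀ b, y b ∉ Submodule.span (MvPolynomial (Fin (r + 1)) k) (y '' {b' | b' ≠ b})) ↔
      ∀ v, Fintype.linearCombination (MvPolynomial (Fin (r + 1)) k) y v = 0 → ∀ b, ¬ IsUnit (v b) := by
    intro N _ _ m y
    constructor
    · intro h v hv b hb
      refine h b ?_
      obtain ⟨u, hu⟩ := hb
      rw [Fintype.linearCombination_apply, ← Finset.add_sum_erase _ _ (Finset.mem_univ b),
        add_eq_zero_iff_eq_neg, ← hu] at hv
      have h2 : y b = (↑u⁻¹ : MvPolynomial (Fin (r + 1)) k) • (↑u : MvPolynomial (Fin (r + 1)) k) • y b := by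
        rw [smul_smul, Units.inv_mul, one_smul]
      rw [h2, hv]
      exact Submodule.smul_mem _ _ (Submodule.neg_mem _ (Submodule.sum_mem _ fun c hc =>
        Submodule.smul_mem _ _ (Submodule.subset_span ⟨c, Finset.ne_of_mem_erase hc, rfl⟩)))
    · intro h b hb
      rw [Finsupp.mem_span_image_iff_linearCombination] at hb
      obtain ⟨l, hl, hl'⟩ := hb
      have hlb : l b = 0 := Finsupp.notMem_support_iff.1 fun hb => hl hb rfl
      refine h (fun c => l c - if c = b then 1 else 0) ?_ b (by simp [hlb])
      simp only [Fintype.linearCombination_apply, sub_smul, Finset.sum_sub_distrib, ite_smul, one_smul,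
        zero_smul, Finset.sum_ite_eq', Finset.mem_univ, if_true]
      rw [sub_eq_zero, ← hl', Finsupp.linearCombination_apply, Finsupp.sum_fintype _ _ (by simp)]
  rw [key]
  simp only [key]
  constructor
  · intro h
    refine ⟨fun v hv b hb => ?_, fun i v hv b hb => ?_⟩
    · obtain ⟨u, rfl⟩ := F.exact_zero.le hv
      have : MvPolynomial.constantCoeff ((F.d 0).mulVec u b) = 0 := by
        simp only [Matrix.mulVec, dotProduct, map_sum, map_mul]
        exact Finset.sum_eq_zero fun c _ => by rw [GrothLib.GrSyz.mem_irrel.1 (h 0 b c), zero_mul]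
      exact not_isUnit_zero (this ▸ hb.map MvPolynomial.constantCoeff)
    · rw [GrothLib.GrSyz.lc_eq_mulVec] at hv
      obtain ⟨u, rfl⟩ := (F.exact_succ i).le (show v ∈ LinearMap.ker (Matrix.mulVecLin (F.d i)) from hv)
      have : MvPolynomial.constantCoeff ((F.d (i + 1)).mulVec u b) = 0 := by
        simp only [Matrix.mulVec, dotProduct, map_sum, map_mul]
        exact Finset.sum_eq_zero fun c _ => by rw [GrothLib.GrSyz.mem_irrel.1 (h (i + 1) b c), zero_mul]
      exact not_isUnit_zero (this ▸ hb.map MvPolynomial.constantCoeff)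
  · rintro ⟨h0, h1⟩ i a b
    rw [GrothLib.GrSyz.mem_irrel]
    by_contra hc
    have hdeg : F.deg (i + 1) b - F.deg i a = 0 := by
      by_contra hne
      exact hc (GrothLib.GrSyz.constantCoeff_of_mem hne (F.d_mem i a b))
    have hu : IsUnit (F.d i a b) := by
      have := F.d_mem i a b
      rw [hdeg] at this
      rw [GrothLib.GrSyz.mem_zero_eq_C this]
      exact (Ne.isUnit hc).map MvPolynomial.C
    have hu' : IsUnit ((F.d i).mulVec (Pi.single b 1) a) := by
      simpa [Matrix.mulVec_single] using hu
    cases i with
    | zero => exact h0 _ (F.exact_zero.ge ⟨_, rfl⟩) a hu'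
    | succ i =>
      refine h1 i _ ?_ a hu'
      rw [GrothLib.GrSyz.lc_eq_mulVec]
      exact (F.exact_succ i).ge ⟨_, rfl⟩

end Groth.Agent.S15427
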