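import Groth.Statements.S15429
import Groth.Agent.Lib.GrSyz.Hilbert
import Mathlib.Algebra.Polynomial.Eval.SMul
import Mathlib.Algebra.Polynomial.BigOperators
import Mathlib.Data.Nat.Factorial.BigOperators
import Mathlib.Data.Nat.Choose.Basic
import Mathlib.Data.Rat.Defs
import Mathlib.Tactic.Ring
import Mathlib.Algebra.Order.Field.Rat

set_option autoImplicit false
universe u
open GrSyz

namespace Groth.Agent.S15429

/-- Let k be a field, S = k[x_0, …, x_r] graded by degree and M a ℤ-graded S-module with a finite graded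
free resolution 0 → F_m → … → F_0 → M → 0 by free modules of finite rank with homogeneous bases, the
basis vectors of F_i having degrees a_{i,b}. Then there is a polynomial P with rational
coefficients, the Hilbert polynomial of M, with dim_k M_d = P(d) for every integer d such that d ≥
a_{i,b} − r for all i and b. -/
theorem result (k : Type u) [Field k] (r : ℕ)
    (M : Type u) [AddCommGroup M] [Module k M] [Module (MvPolynomial (Fin (r + 1)) k) M]
    [IsScalarTower k (MvPolynomial (Fin (r + 1)) k) M] [Module.Finite (MvPolynomial (Fin (r + 1)) k) M]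
    (ℳ : ℤ → Submodule k M) [DirectSum.Decomposition ℳ] [SetLike.GradedSMul (GrSyz.stdGr k (Fin (r + 1))) ℳ]
    (F : GrSyz.FreeRes (GrSyz.stdGr k (Fin (r + 1))) ℳ) (m : ℕ) (hF : F.HasLengthLE m) :
    ∃ P : Polynomial ℚ, ∀ d : ℤ, (∀ (i : ℕ) (b : Fin (F.rk i)), F.deg i b - (r : ℤ) ≤ d) →
      ((Module.finrank k ↥(ℳ d) : ℤ) : ℚ) = P.eval (d : ℚ) := by
  classical
  let Q : ℤ → Polynomial ℚ := fun a => Polynomial.C ((r.factorial : ℚ))⁻¹ *
    ∏ j ∈ Finset.range r, (Polynomial.X - Polynomial.C ((a : ℚ) - 1 - (j : ℚ)))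
  refine ⟨∑ i ∈ Finset.range (m + 1), ∑ b : Fin (F.rk i), Polynomial.C ((-1 : ℚ) ^ i) * Q (F.deg i b), fun d hd => ?_⟩
  rw [GrothLib.GrSyz.finrank_eq_choose_sum F hF d]
  simp only [Int.cast_sum, Int.cast_mul, Int.cast_pow, Int.cast_neg, Int.cast_one, Polynomial.eval_finsetSum,
    Polynomial.eval_mul, Polynomial.eval_C, Finset.mul_sum]
  refine Finset.sum_congr rfl fun i _ => Finset.sum_congr rfl fun b _ => congrArg _ ?_
  have hd' := hd i b
  simp only [Q, Polynomial.eval_mul, Polynomial.eval_C, Polynomial.eval_prod, Polynomial.eval_sub, Polynomial.eval_X]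
  split_ifs with h
  · obtain ⟨t, ht⟩ : ∃ t : ℕ, d = F.deg i b + t := ⟨(d - F.deg i b).toNat, by omega⟩
    subst ht
    rw [show (F.deg i b + (t : ℤ) - F.deg i b).toNat = t by omega]
    have h1 : (∏ j ∈ Finset.range r, ((((F.deg i b + (t : ℤ)) : ℤ) : ℚ) - ((F.deg i b : ℚ) - 1 - (j : ℚ)))) =
        (((t + 1).ascFactorial r : ℕ) : ℚ) := by
      rw [Nat.ascFactorial_eq_prod_range]
      push_cast
      exact Finset.prod_congr rfl fun j _ => by ring
    rw [h1, Nat.ascFactorial_eq_factorial_mul_choose, add_comm t r]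
    push_cast
    rw [← mul_assoc, inv_mul_cancel₀ (Nat.cast_ne_zero.2 r.factorial_ne_zero), one_mul]
  · rw [Int.cast_zero, Finset.prod_eq_zero (i := (F.deg i b - d - 1).toNat) (Finset.mem_range.2 (by omega)), mul_zero]
    have h1 : (((F.deg i b - d - 1).toNat : ℕ) : ℤ) = F.deg i b - d - 1 := Int.toNat_of_nonneg (by omega)
    have h2 := congrArg (fun z : ℤ => (z : ℚ)) h1
    push_cast at h2
    rw [h2]
    ring

end Groth.Agent.S15429
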