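import Groth.Statements.S1543
import Groth.Agent.Lib.AlgMisc.GeomRedAt
import Mathlib

set_option autoImplicit false
set_option backward.isDefEq.respectTransparency false
universe u
open CategoryTheory CategoryTheory.Limits AlgebraicGeometry
open Variety

namespace Groth.Agent.S1543

/-- A reduced scheme over k which is geometrically reduced at every generic point of an irreducible
component is geometrically reduced over k. -/
theorem result (k : Type u) [Field k] (X : Scheme.{u}) [X.Over (Spec (CommRingCat.of k))] [IsReduced X]
    (h : ∀ Z ∈ irreducibleComponents (X : Type u), ∀ η : X, IsGenericPoint η Z → Curv2.IsGeomReducedAt k X η) :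
    GeometricallyReduced (X ↘ (Spec (CommRingCat.of k))) := by
  refine Lib.AlgMisc.GeomRedAt.geometricallyReduced_of_maximalPoints fun η hη =>
    h (closure {η}) ⟨isIrreducible_singleton.closure, fun T hT hle => ?_⟩ η rfl
  obtain ⟨ξ, hξ⟩ := QuasiSober.sober hT.closure isClosed_closure
  have h1 : η ∈ closure ({ξ} : Set X) := by
    rw [hξ.def]; exact subset_closure (hle (subset_closure rfl))
  have h2 : η ⤳ ξ := hη ξ (specializes_iff_mem_closure.mpr h1)
  intro y hy
  have h3 : ξ ⤳ y := hξ.specializes (subset_closure hy)
  exact specializes_iff_mem_closure.mp (h2.trans h3)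

end Groth.Agent.S1543
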