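import Groth.Statements.S15431
import Groth.Agent.Lib.GrSyz.Gens

set_option autoImplicit false
universe u
open GrSyz

namespace Groth.Agent.S15431

/-- Let k be a field, S = k[x_0, …, x_r] graded by degree, 𝔪 = (x_0, …, x_r), M a finitely generated
ℤ-graded S-module and F a minimal graded free resolution of M by free modules of finite rank with
homogeneous bases (all matrix entries in 𝔪), so that its basis degrees give the graded Betti
numbers. If for some i the graded Betti numbers β_{i,j} vanish for all j < d, that is every basis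
vector of F_i has degree at least d, then β_{i+1,j+1} = 0 for all j < d: every basis vector of
F_{i+1} has degree at least d + 1. -/
theorem result (k : Type u) [Field k] (r : ℕ)
    (M : Type u) [AddCommGroup M] [Module k M] [Module (MvPolynomial (Fin (r + 1)) k) M]
    [IsScalarTower k (MvPolynomial (Fin (r + 1)) k) M] [Module.Finite (MvPolynomial (Fin (r + 1)) k) M]
    (ℳ : ℤ → Submodule k M) [DirectSum.Decomposition ℳ] [SetLike.GradedSMul (GrSyz.stdGr k (Fin (r + 1))) ℳ]
    (F : GrSyz.FreeRes (GrSyz.stdGr k (Fin (r + 1))) ℳ) (hF : F.IsMinimal (GrSyz.irrel (GrSyz.stdGr k (Fin (r + 1)))).toIdeal) (i : ℕ) (d : ℤ)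
    (h : ∀ a : Fin (F.rk i), d ≤ F.deg i a) (b : Fin (F.rk (i + 1))) :
    d + 1 ≤ F.deg (i + 1) b := by
  have hne : ∃ a, F.d i a b ≠ 0 := by
    by_contra hc
    push_neg at hc
    have hk : (Pi.single b 1 : Fin (F.rk (i + 1)) → MvPolynomial (Fin (r + 1)) k) ∈
        LinearMap.ker (Matrix.mulVecLin (F.d i)) := by
      refine LinearMap.mem_ker.2 ?_
      funext a
      simp [Matrix.mulVec_single, hc a]
    obtain ⟨u, hu⟩ := (F.exact_succ i).le hk
    have h1 : (F.d (i + 1)).mulVec u b = 1 := by
      simpa using congrFun hu b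
    have h0 : MvPolynomial.constantCoeff ((F.d (i + 1)).mulVec u b) = 0 := by
      simp only [Matrix.mulVec, dotProduct, map_sum, map_mul]
      exact Finset.sum_eq_zero fun c _ => by rw [GrothLib.GrSyz.mem_irrel.1 (hF (i + 1) b c), zero_mul]
    rw [h1, map_one] at h0
    exact one_ne_zero h0
  obtain ⟨a, ha⟩ := hne
  have h1 := F.d_mem i a b
  by_contra hlt
  rcases lt_or_eq_of_le (show F.deg (i + 1) b - F.deg i a ≤ 0 by linarith [h a]) with hl | he
  · exact ha (GrothLib.GrSyz.eq_zero_of_mem_neg hl h1)
  · rw [he] at h1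
    rw [GrothLib.GrSyz.mem_zero_eq_C h1, GrothLib.GrSyz.mem_irrel.1 (hF i a b), map_zero] at ha
    exact ha rfl

end Groth.Agent.S15431
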