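import Groth.Statements.S15432
import Groth.Agent.Lib.GrSyz.Hilbert
import Groth.Agent.Lib.GrSyz.Basic
import Mathlib.LinearAlgebra.Matrix.ToLinearEquiv

set_option autoImplicit false
universe u
open GrSyz

namespace Groth.Agent.S15432

theorem key {k : Type u} [Field k] {n : ℕ} {α β : Type*} [Fintype α] [DecidableEq α] [Fintype β] [DecidableEq β]
    (D : Matrix α β (MvPolynomial (Fin n) k))
    (hinj : ∀ v, D.mulVec v = 0 → v = 0)
    (hsat : ∀ (s : MvPolynomial (Fin n) k) (v : α → MvPolynomial (Fin n) k), s ≠ 0 →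
      (∃ w, D.mulVec w = s • v) → ∃ w, D.mulVec w = v)
    (hmin : ∀ a b, MvPolynomial.constantCoeff (D a b) = 0)
    (J : Finset β) (R : Finset α) (hJR : R.card = J.card) (hJ : J.Nonempty)
    (hz : ∀ j ∈ J, ∀ l ∉ R, D l j = 0) : False := by
  classical
  let e : R ≃ J := Finset.equivOfCardEq hJR
  let D' : Matrix R R (MvPolynomial (Fin n) k) := Matrix.of fun a b => D a (e b)
  let ext : (R → MvPolynomial (Fin n) k) → β → MvPolynomial (Fin n) k := fun z j =>
    if hj : j ∈ J then z (e.symm ⟨j, hj⟩) else 0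
  have hext : ∀ z a, D.mulVec (ext z) a = ∑ b : R, D a (e b) * z b := fun z a => by
    simp only [Matrix.mulVec, dotProduct]
    rw [← Finset.sum_subset (Finset.subset_univ J) (fun j _ hj => by simp [ext, hj]), ← Finset.sum_coe_sort,
      ← Equiv.sum_comp e]
    exact Finset.sum_congr rfl fun b _ => by simp [ext]
  have hout : ∀ z a, a ∉ R → D.mulVec (ext z) a = 0 := fun z a ha => by
    rw [hext]
    exact Finset.sum_eq_zero fun b _ => by rw [hz _ (e b).2 a ha, zero_mul]
  have hdet : D'.det ≠ 0 := fun h0 => by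
    obtain ⟨z, hz0, hzD⟩ := Matrix.exists_mulVec_eq_zero_iff.2 h0
    have h1 := hinj (ext z) (funext fun a => by
      by_cases ha : a ∈ R
      · rw [hext]
        exact congrFun hzD ⟨a, ha⟩
      · exact hout z a ha)
    exact hz0 (funext fun b => by
      have := congrFun h1 (e b)
      simpa [ext] using this)
  obtain ⟨r⟩ : Nonempty R := ⟨e.symm ⟨_, hJ.choose_spec⟩⟩
  have hD' : ∀ a b, D' a b = D a (e b) := fun _ _ => rfl
  have hadj : ∀ a b, (D' * D'.adjugate) a b = (D'.det • (1 : Matrix R R (MvPolynomial (Fin n) k))) a b :=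
    fun a b => by rw [Matrix.mul_adjugate]
  generalize D'.adjugate = Ad at hadj
  generalize D'.det = dd at hadj hdet
  clear_value ext D'
  obtain ⟨z, hzz⟩ : ∃ z : R → MvPolynomial (Fin n) k, ∀ b, z b = Ad b r := ⟨_, fun _ => rfl⟩
  have hcol : D.mulVec (ext z) = dd • Pi.single (r : α) 1 := by
    funext a
    by_cases ha : a ∈ R
    · have h := hadj ⟨a, ha⟩ r
      rw [Matrix.mul_apply] at h
      simp only [hD'] at h
      rw [hext]
      simp only [hzz]
      rw [h]
      simp [Matrix.one_apply, Pi.single_apply, Subtype.ext_iff]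
    · rw [hout _ a ha]
      simp [Pi.single_apply, show a ≠ (r : α) from fun h => ha (h ▸ r.2)]
  obtain ⟨w, hw⟩ := hsat dd (Pi.single (r : α) 1) hdet ⟨ext z, hcol⟩
  have h1 := congrArg MvPolynomial.constantCoeff (congrFun hw (r : α))
  simp [Matrix.mulVec, dotProduct, hmin] at h1

theorem quad (A B C K : ℤ) (G : ℤ) (h : ∀ g, G ≤ g → 0 ≤ A * g ^ 2 + B * g + C ∧ A * g ^ 2 + B * g + C ≤ K) :
    A = 0 ∧ B = 0 := by
  let x : ℤ := max G 0 + K + 1
  have hK : 0 ≤ K := (h G le_rfl).1.trans (h G le_rfl).2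
  have h1 := h x (by omega)
  have h2 := h (2 * x) (by omega)
  have h3 := h (3 * x) (by omega)
  have hx : K < x := by omega
  have hA : A = 0 := by
    by_contra hA
    rcases lt_or_gt_of_ne hA with hA | hA
    · nlinarith [h1, h2, h3, mul_le_mul_of_nonneg_right (show A ≤ -1 by omega) (sq_nonneg x)]
    · nlinarith [h1, h2, h3, mul_le_mul_of_nonneg_right (show 1 ≤ A by omega) (sq_nonneg x)]
  subst hA
  refine ⟨rfl, ?_⟩
  by_contra hB
  rcases lt_or_gt_of_ne hB with hB | hB
  · nlinarith [h1, h2, mul_le_mul_of_nonneg_right (show B ≤ -1 by omega) (show (0:ℤ) ≤ x by omega)]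
  · nlinarith [h1, h2, mul_le_mul_of_nonneg_right (show 1 ≤ B by omega) (show (0:ℤ) ≤ x by omega)]


/-- Let k be a field, Z a nonempty finite set of nonzero vectors of k^3, regarded as points of the
projective plane, I ⊆ S = k[x_0, x_1, x_2] the homogeneous vanishing ideal of Z (a polynomial lies
in I exactly when each of its homogeneous components vanishes at every vector of Z), M = S/I given
as a ℤ-graded S-module with a surjective degree-preserving S-linear map π : S → M with kernel I, and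
F a minimal graded free resolution of M of length at most 2 whose terms F_1 and F_2 have ranks t + 1
and t, with basis degrees a_1 ≥ … ≥ a_{t+1} for F_1 and b_1 ≥ … ≥ b_t for F_2 (non-increasing along
the chosen bases), so that the (i, j) entry of the matrix F_2 → F_1 has degree b_j − a_i. Put e_i =
b_i − a_i and f_i = b_i − a_{i+1}. Then e_i ≥ 1 and f_i ≥ 1 for every i, and Σ_i a_i = Σ_j b_j
(equivalently a_i = Σ_{j < i} e_j + Σ_{j ≥ i} f_j for every i). (The ordering of both bases is the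
standing assumption under which the published statement is made; this row carries it as the
hypotheses on the basis degrees. The further inequalities f_i ≥ e_i and f_i ≥ e_{i+1} follow at once
from the ordering and are not restated.) -/
theorem result (k : Type u) [Field k]
    (Z : Finset (Fin 3 → k)) (hZ : ∀ p ∈ Z, p ≠ 0) (hZne : Z.Nonempty) (I : Ideal (MvPolynomial (Fin 3) k))
    (hI : ∀ f : MvPolynomial (Fin 3) k, f ∈ I ↔
      ∀ p ∈ Z, ∀ j : ℕ, MvPolynomial.eval p (MvPolynomial.homogeneousComponent j f) = 0)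
    (M : Type u) [AddCommGroup M] [Module k M] [Module (MvPolynomial (Fin 3) k) M] [IsScalarTower k (MvPolynomial (Fin 3) k) M]
    (ℳ : ℤ → Submodule k M) [DirectSum.Decomposition ℳ] [SetLike.GradedSMul (GrSyz.stdGr k (Fin 3)) ℳ]
    (π : MvPolynomial (Fin 3) k →ₗ[MvPolynomial (Fin 3) k] M) (hπ : Function.Surjective π)
    (hπg : GrLC.IsGrHom (GrSyz.stdGr k (Fin 3)) ℳ π) (hker : LinearMap.ker π = I)
    (F : GrSyz.FreeRes (GrSyz.stdGr k (Fin 3)) ℳ) (hF : F.IsMinimal (GrSyz.irrel (GrSyz.stdGr k (Fin 3))).toIdeal) (hlen : F.HasLengthLE 2)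
    (t : ℕ) (h1 : F.rk 1 = t + 1) (h2 : F.rk 2 = t)
    (ha : ∀ i j : Fin (t + 1), i ≤ j → F.deg 1 (Fin.cast h1.symm j) ≤ F.deg 1 (Fin.cast h1.symm i))
    (hb : ∀ i j : Fin t, i ≤ j → F.deg 2 (Fin.cast h2.symm j) ≤ F.deg 2 (Fin.cast h2.symm i)) :
    (∀ i : Fin t, 1 ≤ F.deg 2 (Fin.cast h2.symm i) - F.deg 1 (Fin.cast h1.symm i.castSucc) ∧
        1 ≤ F.deg 2 (Fin.cast h2.symm i) - F.deg 1 (Fin.cast h1.symm i.succ)) ∧
      ∑ i : Fin (t + 1), F.deg 1 (Fin.cast h1.symm i) = ∑ j : Fin t, F.deg 2 (Fin.cast h2.symm j) := by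
  classical
  let S := MvPolynomial (Fin 3) k
  -- the module
  have h1mem : (1 : S) ∈ GrSyz.stdGr k (Fin 3) 0 := SetLike.one_mem_graded _
  have hπ1 : π 1 ∈ ℳ 0 := hπg 0 1 h1mem
  have hπ1' : π 1 ≠ 0 := fun h0 => by
    obtain ⟨p, hp⟩ := hZne
    have h := (hI 1).1 (hker ▸ LinearMap.mem_ker.2 h0) p hp 0
    simp [MvPolynomial.homogeneousComponent_zero] at h
  have hπs : ∀ f : S, π f = f • π 1 := fun f => by rw [← map_smul, smul_eq_mul, mul_one]
  have hpiece : ∀ (g : ℤ), ∀ y ∈ ℳ g, ∃ f ∈ GrSyz.stdGr k (Fin 3) g, π f = y := fun g y hy => by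
    obtain ⟨f, rfl⟩ := hπ y
    refine ⟨GrothLib.GrSyz.pr (g - 0) f, by simpa using GrothLib.GrSyz.pr_mem g f, ?_⟩
    rw [hπs, ← GrothLib.GrSyz.mc_smul ℳ f hπ1, ← hπs, GrothLib.GrSyz.mc_of_mem ℳ hy]
  have hbound : ∀ g : ℤ, Module.finrank k (ℳ g) ≤ Z.card := fun g => by
    rcases lt_or_ge g 0 with hg | hg
    · have : ℳ g = ⊥ := eq_bot_iff.2 fun y hy => by
        obtain ⟨f, hf, rfl⟩ := hpiece g y hy
        rw [GrothLib.GrSyz.eq_zero_of_mem_neg hg hf, map_zero]
        exact Submodule.zero_mem _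
      rw [this, finrank_bot]
      exact Nat.zero_le _
    obtain ⟨gn, rfl⟩ := Int.eq_ofNat_of_zero_le hg
    obtain ⟨bg⟩ := GrothLib.GrSyz.exists_basis_piece (k := k) (n := 3) gn
    haveI : Module.Finite k (GrSyz.stdGr k (Fin 3) (gn : ℤ)) := Module.Finite.of_basis bg
    let ρ : GrSyz.stdGr k (Fin 3) (gn : ℤ) →ₗ[k] ℳ (gn : ℤ) :=
      { toFun := fun f => ⟨π f, hπg _ _ f.2⟩
        map_add' := fun a b => Subtype.ext (map_add π (a : S) (b : S))
        map_smul' := fun c a => Subtype.ext (by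
          change π (c • (a : S)) = c • π a
          rw [← algebraMap_smul S c (a : S), map_smul, algebraMap_smul]) }
    let φ : GrSyz.stdGr k (Fin 3) (gn : ℤ) →ₗ[k] (Z → k) :=
      LinearMap.pi fun p => ((MvPolynomial.aeval (p : Fin 3 → k)).toLinearMap).comp (Submodule.subtype _)
    have hρ : Function.Surjective ρ := fun y => by
      obtain ⟨f, hf, h⟩ := hpiece _ y y.2
      exact ⟨⟨f, hf⟩, Subtype.ext h⟩
    have hle : LinearMap.ker φ ≤ LinearMap.ker ρ := fun f hf => by
      refine LinearMap.mem_ker.2 (Subtype.ext (LinearMap.mem_ker.1 (hker.ge ?_)))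
      refine (hI f).2 fun p hp j => ?_
      have hhom : (f : S).IsHomogeneous gn := fun d hd => by
        have h := f.2 hd
        rw [GrothLib.GrSyz.weight_one] at h
        change Finsupp.weight (fun _ : Fin 3 => (1 : ℕ)) d = gn
        rw [← Finsupp.degree_eq_weight_one]
        exact_mod_cast h
      rw [MvPolynomial.homogeneousComponent_of_mem ((MvPolynomial.mem_homogeneousSubmodule gn _).2 hhom)]
      split_ifs
      · exact congrFun (LinearMap.mem_ker.1 hf) ⟨p, hp⟩
      · exact map_zero _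
    have h3 := LinearMap.finrank_range_add_finrank_ker ρ
    have h4 := LinearMap.finrank_range_add_finrank_ker φ
    have h5 := Submodule.finrank_mono hle
    have h6 := Submodule.finrank_le (LinearMap.range φ)
    rw [LinearMap.range_eq_top.2 hρ, finrank_top] at h3
    rw [Module.finrank_fintype_fun_eq_card, Fintype.card_coe] at h6
    omega
  -- the numerical consequences
  obtain ⟨G, hG⟩ : ∃ G : ℤ, ∀ i ≤ 2, ∀ b, F.deg i b ≤ G := by
    obtain ⟨G, hG⟩ := ((Finset.range 3).biUnion fun i => Finset.univ.image (F.deg i)).bddAbove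
    exact ⟨G, fun i hi b => hG (Finset.mem_biUnion.2 ⟨i, Finset.mem_range.2 (by omega), Finset.mem_image_of_mem _ (Finset.mem_univ b)⟩)⟩
  let sA : ℕ → ℤ := fun i => ∑ _b : Fin (F.rk i), (1 : ℤ)
  let sD : ℕ → ℤ := fun i => ∑ b : Fin (F.rk i), (3 - 2 * F.deg i b)
  let sC : ℕ → ℤ := fun i => ∑ b : Fin (F.rk i), (F.deg i b - 1) * (F.deg i b - 2)
  obtain ⟨hA, hB⟩ := quad (sA 0 - sA 1 + sA 2) (sD 0 - sD 1 + sD 2) (sC 0 - sC 1 + sC 2) (2 * Z.card) G (fun g hg => by
    have h := GrothLib.GrSyz.finrank_eq_choose_sum F hlen g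
    have hsum : ∀ i ≤ 2, 2 * ∑ b : Fin (F.rk i),
        (if F.deg i b ≤ g then ((Nat.choose (2 + (g - F.deg i b).toNat) 2 : ℕ) : ℤ) else 0) =
        sA i * g ^ 2 + sD i * g + sC i := fun i hi => by
      simp only [sA, sD, sC, Finset.mul_sum, Finset.sum_mul, ← Finset.sum_add_distrib]
      refine Finset.sum_congr rfl fun b _ => ?_
      have hb : F.deg i b ≤ g := (hG i hi b).trans hg
      obtain ⟨e, he⟩ : ∃ e : ℕ, g = F.deg i b + e := ⟨(g - F.deg i b).toNat, by omega⟩
      subst he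
      rw [if_pos hb, show (F.deg i b + (e : ℤ) - F.deg i b).toNat = e by omega]
      have h2 : 2 * ((2 + e).choose 2) = (e + 2) * (e + 1) := by
        rw [add_comm 2 e, Nat.choose_two_right]
        rw [Nat.mul_div_cancel' (Nat.two_dvd_mul_sub_one (e + 2))]
        congr 1
      have h2' := congrArg (fun z : ℕ => (z : ℤ)) h2
      push_cast at h2'
      rw [h2']
      ring
    have hb' := hbound g
    rw [Finset.sum_range_succ, Finset.sum_range_succ, Finset.sum_range_one] at h
    have e0 := hsum 0 (by omega)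
    have e1 := hsum 1 (by omega)
    have e2 := hsum 2 le_rfl
    have hcast : (Module.finrank k (ℳ g) : ℤ) ≤ Z.card := by exact_mod_cast hb'
    have hnn : (0 : ℤ) ≤ Module.finrank k (ℳ g) := by positivity
    norm_num at h
    constructor <;> nlinarith [e0, e1, e2, h, hcast, hnn])
  have hr0 : F.rk 0 = 1 := by
    simp only [sA, Finset.sum_const, Finset.card_univ, Fintype.card_fin, nsmul_eq_mul, mul_one] at hA
    omega
  haveI : Unique (Fin (F.rk 0)) := (finCongr hr0).unique
  have hd0 : F.deg 0 default = 0 := by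
    obtain ⟨c, hc⟩ := F.aug_surjective (π 1)
    have hc' := congrArg (GrothLib.GrSyz.mc ℳ 0) hc
    rw [GrothLib.GrSyz.mc_linearCombination ℳ F.aug_mem, GrothLib.GrSyz.mc_of_mem ℳ hπ1,
      Fintype.linearCombination_apply, Fintype.sum_unique] at hc'
    rcases lt_trichotomy (F.deg 0 default) 0 with hd | hd | hd
    · obtain ⟨f, hf, hf'⟩ := hpiece _ _ (F.aug_mem default)
      rw [← hf', GrothLib.GrSyz.eq_zero_of_mem_neg hd hf, map_zero, smul_zero] at hc'
      exact absurd hc'.symm hπ1'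
    · exact hd
    · rw [GrothLib.GrSyz.eq_zero_of_mem_neg (g := 0 - F.deg 0 default) (by omega) (GrothLib.GrSyz.pr_mem _ _), zero_smul] at hc'
      exact absurd hc'.symm hπ1'
  refine ⟨?_, ?_⟩
  swap
  · simp only [sD, Finset.sum_sub_distrib, Fintype.sum_unique, hd0, ← Finset.mul_sum, Finset.sum_const, Finset.card_univ,
      Fintype.card_fin, h1, h2, nsmul_eq_mul, hr0] at hB
    have e1 : ∑ i : Fin (t + 1), F.deg 1 (Fin.cast h1.symm i) = ∑ b, F.deg 1 b := Equiv.sum_comp (finCongr h1.symm) (F.deg 1)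
    have e2 : ∑ j : Fin t, F.deg 2 (Fin.cast h2.symm j) = ∑ b, F.deg 2 b := Equiv.sum_comp (finCongr h2.symm) (F.deg 2)
    rw [e1, e2]
    push_cast at hB
    linarith
  have hinj : ∀ v, (F.d 1).mulVec v = 0 → v = 0 := fun v hv => by
    have : v ∈ LinearMap.ker (Matrix.mulVecLin (F.d 1)) := hv
    rw [F.exact_succ 1] at this
    obtain ⟨w, rfl⟩ := this
    haveI : IsEmpty (Fin (F.rk 3)) := by rw [hlen 3 (by omega)]; infer_instance
    rw [Subsingleton.elim w 0, map_zero]
  have hsat : ∀ (s : S) (v : Fin (F.rk 1) → S), s ≠ 0 → (∃ w, (F.d 1).mulVec w = s • v) →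
      ∃ w, (F.d 1).mulVec w = v := fun s v hs hw => by
    have hmem : s • v ∈ LinearMap.ker (Matrix.mulVecLin (F.d 0)) := by rw [F.exact_succ 0]; exact hw
    rw [LinearMap.mem_ker, map_smul, smul_eq_zero] at hmem
    have hv : v ∈ LinearMap.ker (Matrix.mulVecLin (F.d 0)) := hmem.resolve_left hs
    rw [F.exact_succ 0] at hv
    exact hv
  have hmin : ∀ a b, MvPolynomial.constantCoeff (F.d 1 a b) = 0 := fun a b => GrothLib.GrSyz.mem_irrel.1 (hF 1 a b)
  have main : ∀ i : Fin t, F.deg 1 (Fin.cast h1.symm i.castSucc) < F.deg 2 (Fin.cast h2.symm i) := fun i => by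
    by_contra hle
    push Not at hle
    refine key (F.d 1) hinj hsat hmin (Finset.Ici (Fin.cast h2.symm i)) (Finset.Ioi (Fin.cast h1.symm i.castSucc)) ?_ ⟨_, Finset.mem_Ici.2 le_rfl⟩
      fun j hj l hl => ?_
    · rw [Fin.card_Ioi, Fin.card_Ici]
      have h2' : F.rk (1 + 1) = t := h2
      simp only [Fin.val_cast, Fin.val_castSucc]
      omega
    · rw [Finset.mem_Ici] at hj
      rw [Finset.mem_Ioi, not_lt] at hl
      have ha' := ha (Fin.cast h1 l) i.castSucc (by exact hl)
      have hb' := hb i (Fin.cast h2 j) (by exact hj)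
      simp only [Fin.cast_cast, Fin.cast_eq_self] at ha' hb'
      have hd : F.deg 2 j - F.deg 1 l ≤ 0 := by linarith
      rcases hd.lt_or_eq with hd | hd
      · exact GrothLib.GrSyz.eq_zero_of_mem_neg hd (F.d_mem 1 l j)
      · have hm := F.d_mem 1 l j
        rw [show F.deg (1 + 1) j - F.deg 1 l = 0 from hd] at hm
        rw [GrothLib.GrSyz.mem_zero_eq_C hm, hmin, map_zero]
  intro i
  have h := main i
  have h' := ha i.castSucc i.succ (Fin.castSucc_lt_succ).le
  constructor <;> omega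

end Groth.Agent.S15432
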