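import Groth.Statements.S15433
import Groth.Agent.Lib.RegLen27.Basic
-- import your own Groth.Agent.* helpers here

set_option autoImplicit false
universe u
open GrSyz

namespace Groth.Agent.S15433

/-- Let k be a field, S = k[x_0, …, x_r] graded by degree, 𝔪 = (x_0, …, x_r), and M = S/I a graded
quotient of S, given with a surjective degree-preserving S-linear map π : S → M whose kernel I
contains no nonzero linear form. Let y_0, …, y_t be linear forms forming a weakly regular sequence
on M (each a non-zerodivisor modulo the previous ones) and N = M/(y_0, …, y_t)M, given as a graded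
module with a surjective degree-preserving S-linear map σ : M → N with kernel (y_0, …, y_t)M, and
suppose N has finite length ℓ. Then reg M + (r − t) ≤ ℓ, reg being the Castelnuovo–Mumford
regularity of M in the sense of minimal graded free resolutions. (The published statement is reg S_X
≤ deg X − codim X for an arithmetically Cohen–Macaulay subvariety X of P^r not contained in a
hyperplane; this row is the algebraic statement its proof establishes, with S_X any graded quotient
of S by an ideal without linear forms, the maximal regular sequence of linear forms given, deg X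
replaced by the length of S_X/(y_0, …, y_t)S_X and codim X by r − t, which agree with the degree and
the codimension in that situation.) -/
theorem result (k : Type u) [Field k] (r : ℕ)
    (M : Type u) [AddCommGroup M] [Module k M] [Module (MvPolynomial (Fin (r + 1)) k) M]
    [IsScalarTower k (MvPolynomial (Fin (r + 1)) k) M] [Module.Finite (MvPolynomial (Fin (r + 1)) k) M]
    (ℳ : ℤ → Submodule k M) [DirectSum.Decomposition ℳ] [SetLike.GradedSMul (GrSyz.stdGr k (Fin (r + 1))) ℳ]
    (π : MvPolynomial (Fin (r + 1)) k →ₗ[MvPolynomial (Fin (r + 1)) k] M) (hπ : Function.Surjective π)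
    (hπg : GrLC.IsGrHom (GrSyz.stdGr k (Fin (r + 1))) ℳ π)
    (hlin : ∀ x : MvPolynomial (Fin (r + 1)) k, x ∈ GrSyz.stdGr k (Fin (r + 1)) 1 → π x = 0 → x = 0)
    (ys : List (MvPolynomial (Fin (r + 1)) k)) (hys : ∀ y ∈ ys, y ∈ GrSyz.stdGr k (Fin (r + 1)) 1)
    (hreg : RingTheory.Sequence.IsWeaklyRegular M ys)
    (N : Type u) [AddCommGroup N] [Module k N] [Module (MvPolynomial (Fin (r + 1)) k) N]
    [IsScalarTower k (MvPolynomial (Fin (r + 1)) k) N]
    (𝒩 : ℤ → Submodule k N) [DirectSum.Decomposition 𝒩] [SetLike.GradedSMul (GrSyz.stdGr k (Fin (r + 1))) 𝒩]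
    (σ : M →ₗ[MvPolynomial (Fin (r + 1)) k] N) (hσ : Function.Surjective σ) (hσg : GrLC.IsGrHom ℳ 𝒩 σ)
    (hker : LinearMap.ker σ = Ideal.ofList ys • (⊤ : Submodule (MvPolynomial (Fin (r + 1)) k) M))
    (ℓ : ℕ) (hℓ : Module.length (MvPolynomial (Fin (r + 1)) k) N = (ℓ : ℕ∞)) :
    GrSyz.reg (GrSyz.stdGr k (Fin (r + 1))) ℳ (GrSyz.irrel (GrSyz.stdGr k (Fin (r + 1)))).toIdeal + ((((r : ℤ) + 1 - (ys.length : ℤ) : ℤ) : WithTop ℤ) : WithBot (WithTop ℤ)) ≤
      (((ℓ : ℤ) : WithTop ℤ) : WithBot (WithTop ℤ)) := by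
  have hfl : IsFiniteLength (MvPolynomial (Fin (r + 1)) k) N :=
    Module.length_ne_top_iff.1 (by rw [hℓ]; exact ENat.natCast_ne_top ℓ)
  rw [GrothLib.GrLC.reg_eq_endDeg_of_regSeq ℳ ys hys hreg 𝒩 σ hσ hσg hker hfl,
    GrothLib.GrLC.endDeg_add_le_iff]
  intro g hg
  haveI : Module.Finite (MvPolynomial (Fin (r + 1)) k) N := Module.Finite.of_surjective σ hσ
  haveI : Module.Finite (MvPolynomial (Fin (r + 1)) k) (GrothLib.GrLC.gmod (GrSyz.stdGr k (Fin (r + 1))) 𝒩).carrier :=
    ‹Module.Finite (MvPolynomial (Fin (r + 1)) k) N›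
  have hnil : ∀ (i : Fin (r + 1)) (v : N), ∃ e : ℕ, (MvPolynomial.X i : MvPolynomial (Fin (r + 1)) k) ^ e • v = 0 := by
    intro i v
    exact GrothLib.GrLC.hpow_torsion (X := GrothLib.GrLC.gmod (GrSyz.stdGr k (Fin (r + 1))) 𝒩) hfl
      (GrothLib.GrLC.deg_varL k (r + 1)) _ (List.mem_ofFn.2 ⟨i, rfl⟩) v
  obtain ⟨hfin, hle⟩ := RegLen27.finite_and_finrank_le hnil ℓ hℓ
  by_contra hne
  have hne' : 𝒩 g ≠ ⊥ := fun h => hne (by rw [h]; rfl)
  have h1 := RegLen27.deg_add_finrank_one_le 𝒩 (σ.comp π) (hσ.comp hπ)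
    (fun j x hx => hσg j _ (hπg j x hx)) hne'
  have h2 := RegLen27.le_finrank_one ℳ π hπ hπg hlin ys hys 𝒩 σ hσg hker
  push_cast at h2
  omega

end Groth.Agent.S15433
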