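import Groth.Statements.S15435
import Groth.Agent.Lib.RegCorr27.Main
import Groth.Agent.S15418

set_option autoImplicit false
universe u
open GrSyz

namespace Groth.Agent.S15435

/-- Let k be a field, S = k[x_0, …, x_r] graded by degree, 𝔪 = (x_0, …, x_r), and M a finitely generated
ℤ-graded S-module; M̃ and the M(d)~ denote the O-modules on P^r_k associated with the pieces M_n, n
≥ 0 (they depend only on the pieces of large degree), with the canonical maps M_d → H^0(P^r_k,
M(d)~); graded local cohomology is computed from any *injective resolution in the graded category;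
let d ≥ 0. Then M is d-regular, that is H^0_𝔪(M) has no nonzero piece above degree d and H^i_𝔪(M)
vanishes in degree d − i + 1 for every i > 0, if and only if: (1) the sheaf M̃ is d-regular,
H^i(P^r_k, M̃(d − i)) = 0 for 1 ≤ i ≤ r; (2) H^0_𝔪(M) vanishes in every degree e > d; and (3) the
canonical map from M_d to the global sections of M(d)~ is surjective. (The published statement
allows any integer d; it is stated here for d ≥ 0.) -/
theorem result (k : Type u) [Field k] (r : ℕ)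
    (M : Type u) [AddCommGroup M] [Module k M] [Module (MvPolynomial (Fin (r + 1)) k) M]
    [IsScalarTower k (MvPolynomial (Fin (r + 1)) k) M] [Module.Finite (MvPolynomial (Fin (r + 1)) k) M]
    (ℳ : ℤ → Submodule k M) [DirectSum.Decomposition ℳ] [SetLike.GradedSMul (GrSyz.stdGr k (Fin (r + 1))) ℳ]
    [SetLike.GradedSMul (CohB1.polyGrading r k) (fun n : ℕ => ℳ (n : ℤ))]
    (E : GrLC.StarInjRes (GrSyz.stdGr k (Fin (r + 1))) ℳ) (d : ℕ) :
    (GrLC.endDeg (E.Hgr (GrSyz.irrel (GrSyz.stdGr k (Fin (r + 1)))) 0) ≤ (((d : ℤ) : WithTop ℤ) : WithBot (WithTop ℤ)) ∧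
        ∀ i : ℕ, 0 < i → E.Hcomp (GrSyz.irrel (GrSyz.stdGr k (Fin (r + 1)))) i ((d : ℤ) - (i : ℤ) + 1) = ⊥) ↔
      (Curv2.IsMRegular k r (GrTilde.tilde (CohB1.polyGrading r k) (fun n : ℕ => ℳ (n : ℤ)) 0) (d : ℤ) ∧
        (∀ e : ℤ, (d : ℤ) < e → E.Hcomp (GrSyz.irrel (GrSyz.stdGr k (Fin (r + 1)))) 0 e = ⊥) ∧
        Function.Surjective (fun m : ↥(ℳ ((d : ℕ) : ℤ)) => GrTilde.globalOf (CohB1.polyGrading r k) (fun n : ℕ => ℳ (n : ℤ)) m)) := by
  classical
  haveI : SetLike.GradedSMul (CohB1.polyGrading r k) (RegTilde27.natFam ℳ) :=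
    ‹SetLike.GradedSMul (CohB1.polyGrading r k) (fun n : ℕ => ℳ (n : ℤ))›
  obtain ⟨F, hF⟩ := GrothLib.GrSyz.exists_freeRes_minimal (k := k) (n := r + 1) ℳ
  have hiff := Groth.Agent.S15418.result k r M ℳ F hF E (d : ℤ)
  constructor
  · intro hreg
    have hgen := hiff.2 hreg
    refine ⟨fun i hi _ => RegTilde27.subsingleton_module ℳ F hF (d : ℤ) hgen i hi _ le_rfl,
      fun e he => ?_, fun σ => ?_⟩
    · by_contra hne
      have h1 : ((e : WithTop ℤ) : WithBot (WithTop ℤ)) ≤
          GrLC.endDeg (E.Hgr (GrSyz.irrel (GrSyz.stdGr k (Fin (r + 1)))) 0) :=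
        le_iSup₂_of_le (f := fun (n : ℤ) (_ : E.Hgr (GrSyz.irrel (GrSyz.stdGr k (Fin (r + 1)))) 0 n ≠ ⊥) =>
          ((n : WithTop ℤ) : WithBot (WithTop ℤ))) e
          (fun h => hne (Submodule.toAddSubgroup_injective (h.trans rfl))) le_rfl
      have h2 := h1.trans hreg.1
      rw [WithBot.coe_le_coe, WithTop.coe_le_coe] at h2
      omega
    · obtain ⟨m, hm, h⟩ := RegCorr27.exists_secOf_of_isGenLE F hF d hgen σ
      exact ⟨⟨m, hm⟩, h⟩
  · rintro ⟨hsheaf, htors, hsurj⟩
    have hcoh : Coh.IsCoh (RegTilde27.til (r := r) (RegTilde27.natFam ℳ)) :=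
      (RegCorr27.pres0 F).isCoh (RegCorr27.pres1 F)
    have hgood : RegCorr27.Good (r := r) ℳ d := by
      refine ⟨hcoh, fun i hi t ht => RegCorr27.van_of_regular ℳ (d : ℤ) hcoh
        (fun j h1 h2 => (RegCorr27.subsingleton_T_iff _ _ j).1 (hsheaf j h1 h2)) i hi t ht,
        fun σ => ?_, fun e he m hm h => ?_⟩
      · obtain ⟨⟨m, hm⟩, h⟩ := hsurj σ
        exact ⟨m, hm, h⟩
      · exact RegCorr27.eq_zero_of_torsion E (htors e (by exact_mod_cast he)) hm
          (RegCorr27.exists_pow_smul_eq_zero hm h)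
    exact hiff.1 (RegCorr27.isGenLE_of_good F hF d hgood)

end Groth.Agent.S15435
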