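import Groth.Statements.S15437
import Groth.Agent.Lib.GrSyz.Hilbert

set_option autoImplicit false
universe u
open GrSyz

namespace Groth.Agent.S15437

/-- Let k be a field, S = k[x_0, …, x_r] graded by degree and M a ℤ-graded S-module with a finite graded
free resolution F of length at most m by free modules of finite rank with homogeneous bases; write
β_{i,j} for the number of basis vectors of F_i of degree j (the graded Betti numbers when F is
minimal) and B_j = Σ_{i ≤ m} (−1)^i β_{i,j}. Then for every integer d, dim_k M_d = Σ_j B_j C(r + d −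
j, r), where a binomial with d < j counts as zero and only finitely many j contribute; and the B_j
are recovered from the Hilbert function by B_j = dim_k M_j − Σ_{n < j} B_n C(r + j − n, r). (Stated
for any finite graded free resolution; the published statement takes the minimal one.) -/
theorem result (k : Type u) [Field k] (r : ℕ)
    (M : Type u) [AddCommGroup M] [Module k M] [Module (MvPolynomial (Fin (r + 1)) k) M]
    [IsScalarTower k (MvPolynomial (Fin (r + 1)) k) M] [Module.Finite (MvPolynomial (Fin (r + 1)) k) M]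
    (ℳ : ℤ → Submodule k M) [DirectSum.Decomposition ℳ] [SetLike.GradedSMul (GrSyz.stdGr k (Fin (r + 1))) ℳ]
    (F : GrSyz.FreeRes (GrSyz.stdGr k (Fin (r + 1))) ℳ) (m : ℕ) (hF : F.HasLengthLE m) :
    (∀ d : ℤ, (Module.finrank k ↥(ℳ d) : ℤ) =
        ∑ᶠ j : ℤ, (∑ i ∈ Finset.range (m + 1), (-1 : ℤ) ^ i * (F.betti i j : ℤ)) *
          (if j ≤ d then ((Nat.choose (r + (d - j).toNat) r : ℕ) : ℤ) else 0)) ∧
      ∀ j : ℤ, (∑ i ∈ Finset.range (m + 1), (-1 : ℤ) ^ i * (F.betti i j : ℤ)) =
        (Module.finrank k ↥(ℳ j) : ℤ) -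
          ∑ᶠ n : ℤ, (if n < j then (∑ i ∈ Finset.range (m + 1), (-1 : ℤ) ^ i * (F.betti i n : ℤ)) * ((Nat.choose (r + (j - n).toNat) r : ℕ) : ℤ) else 0) := by
  classical
  let J : Finset ℤ := (Finset.range (m + 1)).biUnion fun i => Finset.univ.image (F.deg i)
  let c : ℤ → ℤ := fun j => ∑ i ∈ Finset.range (m + 1), (-1 : ℤ) ^ i * (F.betti i j : ℤ)
  have hc : ∀ j, j ∉ J → c j = 0 := fun j hj => Finset.sum_eq_zero fun i hi => by
    have : F.betti i j = 0 := Finset.card_eq_zero.2 (Finset.filter_eq_empty_iff.2 fun b _ hb =>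
      hj (Finset.mem_biUnion.2 ⟨i, hi, Finset.mem_image.2 ⟨b, Finset.mem_univ b, hb⟩⟩))
    rw [this, Nat.cast_zero, mul_zero]
  let f : ℤ → ℤ → ℤ := fun d j => if j ≤ d then ((Nat.choose (r + (d - j).toNat) r : ℕ) : ℤ) else 0
  have h1 : ∀ d : ℤ, (Module.finrank k ↥(ℳ d) : ℤ) = ∑ j ∈ J, c j * f d j := by
    intro d
    rw [GrothLib.GrSyz.finrank_eq_choose_sum F hF d]
    simp only [c, Finset.sum_mul, mul_assoc]
    rw [Finset.sum_comm]
    refine Finset.sum_congr rfl fun i hi => ?_
    rw [← Finset.mul_sum]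
    congr 1
    rw [← Finset.sum_fiberwise_of_maps_to (g := F.deg i) (t := J)
      (fun b _ => Finset.mem_biUnion.2 ⟨i, hi, Finset.mem_image.2 ⟨b, Finset.mem_univ b, rfl⟩⟩)]
    refine Finset.sum_congr rfl fun j _ => ?_
    rw [Finset.sum_congr rfl (fun b hb => by rw [(Finset.mem_filter.1 hb).2] :
      ∀ b ∈ Finset.univ.filter (fun b => F.deg i b = j),
        (if F.deg i b ≤ d then ((Nat.choose (r + (d - F.deg i b).toNat) r : ℕ) : ℤ) else 0) = f d j),
      Finset.sum_const, nsmul_eq_mul]
    rfl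
  have hfin : ∀ g : ℤ → ℤ, (∀ j, j ∉ J → g j = 0) → (∑ᶠ j, g j) = ∑ j ∈ J, g j := fun g hg =>
    finsum_eq_sum_of_support_subset _ fun j hj => by
      by_contra h
      exact hj (hg j h)
  refine ⟨fun d => ?_, fun j => ?_⟩
  · rw [hfin _ fun j hj => mul_eq_zero_of_left (hc j hj) _]
    exact h1 d
  · show c j = _
    rw [h1 j, hfin _ fun n hn => by
      split_ifs
      · exact mul_eq_zero_of_left (hc n hn) _
      · rfl]
    rw [← Finset.sum_sub_distrib]
    have : ∀ n ∈ J, c n * f j n - (if n < j then c n * ((Nat.choose (r + (j - n).toNat) r : ℕ) : ℤ) else 0) =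
        if n = j then c n else 0 := by
      intro n _
      rcases lt_trichotomy n j with h | rfl | h
      · simp [f, h, h.le, h.ne]
      · simp [f]
      · simp [f, not_le.2 h, not_lt.2 h.le, h.ne']
    rw [Finset.sum_congr rfl this, Finset.sum_ite_eq' J j c]
    split_ifs with hj
    · rfl
    · exact hc j hj

end Groth.Agent.S15437
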