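import Groth.Statements.S15438
-- import your own Groth.Agent.* helpers here
import Groth.Agent.Lib.AlgEq26.Basic

set_option autoImplicit false
universe u
open AlgEqCyc

set_option backward.isDefEq.respectTransparency false
set_option linter.style.haveILetI false

noncomputable section

open GrothLib


namespace Groth.Agent.S15438

open AlgebraicGeometry CategoryTheory CategoryTheory.Limits in
/-- Let C be a scheme over a field k that is smooth over k, projective over k, integral and of dimension
one, and let P₁, P₂ be two k-rational points of C. Then the zero-cycle [P₁] − [P₂] on C is an
elementary algebraically trivial cycle: it is the difference of the members, at two k-rational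
points, of a single family of cycles on C parametrised by a smooth projective integral curve over k,
every component of the family dominating the parameter curve. In particular [P₁] and [P₂] are
algebraically equivalent on C. (The published statement is over an algebraically closed field of
characteristic zero, where the points are closed points and algebraic equivalence is considered on
smooth projective schemes; this row allows any field, asks the two points to be k-rational and asks
C to be projective over k.) -/
theorem result (k : Type u) [Field k]
    (C : Scheme.{u}) [DecidableEq ↥C] (q : C ⟶ Spec (CommRingCat.of k)) (hs : Smooth q)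
    (hp : Neron.IsProjectiveOver k (Over.mk q)) (hi : IsIntegral C) (hd : topologicalKrullDim ↥C = 1)
    (P₁ P₂ : Spec (CommRingCat.of k) ⟶ C) (h₁ : P₁ ≫ q = 𝟙 _) (h₂ : P₂ ≫ q = 𝟙 _) :
    AlgEqCyc.IsElemAlgTriv q
      (Function.locallyFinsuppWithin.single (P₁ (IsLocalRing.closedPoint k)) (1 : ℤ) -
        Function.locallyFinsuppWithin.single (P₂ (IsLocalRing.closedPoint k)) (1 : ℤ)) := by
  haveI := AlgEq26.isSeparated_of_isProjectiveOver hp
  exact AlgEq26.isElemAlgTriv (𝟙 C) (Category.id_comp q) hs hp hi hd P₁ P₂ h₁ h₂

end Groth.Agent.S15438
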