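import Groth.Statements.S15453
import Groth.Agent.Lib.WeilCoh.ZetaTrace

set_option autoImplicit false
universe u v
open CategoryTheory AlgebraicGeometry
open WeilCoh

namespace Groth.Agent.S15453

/-- Let k₀ be a finite field with q elements, k an algebraically closed field containing k₀, H^* a Weil
cohomology theory, with coefficient field K of characteristic zero, on nonsingular connected
projective varieties over k, X a scheme of finite type over k₀ whose base change X̄ = X ×_{k₀} k is
such a variety (as it is when X is nonsingular, projective and geometrically connected), and F =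
Frob_{X,q} × id the k-endomorphism of X̄ induced by the q-Frobenius of X. Then Z(X, t) ∈ ℚ(t): there
are polynomials P, Q ∈ ℚ[t], Q ≠ 0, with Z(X, t) · Q(t) = P(t) in ℚ⟦t⟧. (The existence of the Weil
cohomology theory is the hypothesis; F and the product square enter only to fix the setting of the
cohomological proof.) The q-Frobenius of X is pinned as the endomorphism that is the identity on
points and the q-th power on sections, X̄ as a cartesian square over Spec k → Spec k₀, and F by its
compatibility with the projection to X; the product X̄ ×_k X̄, on which the proof applies the trace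
formula, is given as any object of the category with a cartesian square p, q to X̄ over Spec k. (The
published statement takes k to be an algebraic closure of the prime field; this row allows any
algebraically closed field containing k₀.) -/
theorem result (k₀ : Type u) [Field k₀] [Finite k₀] (k : Type u) [Field k] [IsAlgClosed k] [Algebra k₀ k]
    (K : Type v) [Field K] [CharZero K] (T : WeilCoh.Theory k K)
    {X : Scheme.{u}} (f : X ⟶ Spec (CommRingCat.of k₀)) [LocallyOfFiniteType f] [QuasiCompact f]
    (FX : X ⟶ X) (hFb : FX.base = 𝟙 _) (hle : ∀ U : X.Opens, U ≤ FX ⁻¹ᵁ U)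
    (hFapp : ∀ (U : X.Opens) (s : Γ(X, U)), (FX.appLE U U (hle U)).hom s = s ^ Nat.card k₀)
    (Xb : WeilCoh.Var k) (π : Xb.obj.left ⟶ X)
    (hπ : IsPullback π Xb.obj.hom f (Spec.map (CommRingCat.ofHom (algebraMap k₀ k))))
    (F : Xb ⟶ Xb) (hF : WeilCoh.sm F ≫ π = π ≫ FX)
    (Pb : WeilCoh.Var k) (p q : Pb ⟶ Xb) (hP : WeilCoh.IsProd p q) :
    ∃ P Q : Polynomial ℚ, Q ≠ 0 ∧ Zeta.zetaFun f * (Q : PowerSeries ℚ) = (P : PowerSeries ℚ) := by
  classical
  have h := GrothLib.WeilCoh.zetaFun_mul_prod T f FX hle hFapp Xb π hπ F hF p q hP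
  simp only [← Polynomial.coeToPowerSeries.ringHom_apply] at h
  obtain ⟨Pk, Qk, hQ0, hPQ⟩ : ∃ Pk Qk : Polynomial K, Qk.coeff 0 = 1 ∧
      PowerSeries.map (algebraMap ℚ K) (Zeta.zetaFun f) * (Qk : PowerSeries K) = (Pk : PowerSeries K) := by
    refine ⟨∏ i ∈ Finset.range (WeilCoh.dim Xb.obj.left),
        (LinearMap.charpoly (T.pullDeg F ((2 * i + 1 : ℕ) : ℤ))).reverse,
      ∏ i ∈ Finset.range (WeilCoh.dim Xb.obj.left + 1),
        (LinearMap.charpoly (T.pullDeg F ((2 * i : ℕ) : ℤ))).reverse, ?_, ?_⟩
    · rw [Polynomial.coeff_zero_prod, Finset.prod_eq_one]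
      intro i _
      rw [Polynomial.coeff_zero_reverse, (LinearMap.charpoly_monic _).leadingCoeff]
    · rw [← Polynomial.coeToPowerSeries.ringHom_apply, ← Polynomial.coeToPowerSeries.ringHom_apply,
        map_prod, map_prod]
      exact h
  obtain ⟨φ, hφ⟩ := (Algebra.linearMap ℚ K).exists_leftInverse_of_injective
    (LinearMap.ker_eq_bot.2 (algebraMap ℚ K).injective)
  have h1 : φ 1 = 1 := by simpa using LinearMap.congr_fun hφ 1
  have hd : ∀ A : Polynomial K, ∃ B : Polynomial ℚ, ∀ j, B.coeff j = φ (A.coeff j) := fun A =>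
    ⟨∑ j ∈ A.support, Polynomial.monomial j (φ (A.coeff j)), fun j => by
      simp only [Polynomial.finsetSum_coeff, Polynomial.coeff_monomial, Finset.sum_ite_eq',
        Polynomial.mem_support_iff]
      split_ifs with hj
      · rfl
      · rw [not_not.1 hj, map_zero]⟩
  obtain ⟨P, hP'⟩ := hd Pk
  obtain ⟨Q, hQ'⟩ := hd Qk
  refine ⟨P, Q, fun hQ => ?_, PowerSeries.ext fun n => ?_⟩
  · have := hQ' 0
    rw [hQ, hQ0, h1] at this
    simp at this
  · rw [Polynomial.coeff_coe, hP', ← Polynomial.coeff_coe, ← hPQ, PowerSeries.coeff_mul,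
      PowerSeries.coeff_mul, map_sum]
    refine Finset.sum_congr rfl fun a _ => ?_
    rw [PowerSeries.coeff_map, Polynomial.coeff_coe, Polynomial.coeff_coe, hQ', ← Algebra.smul_def,
      map_smul, smul_eq_mul]

end Groth.Agent.S15453
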