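import Groth.Statements.S15465
import Groth.Agent.Lib.HomThree25.Basic
-- import your own Groth.Agent.* helpers here

set_option autoImplicit false
universe v u
open HomAlg

namespace Groth.Agent.S15465

open CategoryTheory CategoryTheory.Limits in
/-- In an abelian category let 0 → A₂ → B₂ → C₂ → 0 (maps i₂, π₂), 0 → A₁ → A₂ → A₃ → 0 (maps i₁, p₁)
and 0 → C₁ → C₂ → C₃ → 0 (maps j, q) be short exact sequences, let α = i₁ ≫ i₂ : A₁ → B₂ and β = π₂
≫ q : B₂ → C₃, and let K = ker β / im α be the homology object of the complex A₁ → B₂ → C₃. Let f :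
A₃ → K be the map induced by i₂ (the unique map whose composite with p₁ is the homology class of the
cycle i₂) and g : K → C₁ the map induced by π₂ (the unique map whose composite with j is the map K →
C₂ induced by π₂). Then 0 → A₃ → K → C₁ → 0, with maps f and g, is a short exact sequence. (The
hypotheses w, h₂, h₃ are consequences of i₂ ≫ π₂ = 0, carried so that the maps can be named; the
published statement assumes in addition that the category has enough injective objects, which plays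
no role in this assertion.) -/
theorem result
    {C : Type u} [Category.{v} C] [Abelian C] {A₁ A₂ A₃ B₂ C₁ C₂ C₃ : C}
    (i₁ : A₁ ⟶ A₂) (p₁ : A₂ ⟶ A₃) (wA : i₁ ≫ p₁ = 0) (hA : (ShortComplex.mk i₁ p₁ wA).ShortExact)
    (i₂ : A₂ ⟶ B₂) (π₂ : B₂ ⟶ C₂) (wB : i₂ ≫ π₂ = 0) (hB : (ShortComplex.mk i₂ π₂ wB).ShortExact)
    (j : C₁ ⟶ C₂) (q : C₂ ⟶ C₃) (wC : j ≫ q = 0) (hC : (ShortComplex.mk j q wC).ShortExact)
    (w : (i₁ ≫ i₂) ≫ (π₂ ≫ q) = 0) (h₂ : i₂ ≫ (π₂ ≫ q) = 0) (h₃ : (i₁ ≫ i₂) ≫ π₂ = 0)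
    (f : A₃ ⟶ (CategoryTheory.ShortComplex.mk (i₁ ≫ i₂) (π₂ ≫ q) w).homology)
    (g : (CategoryTheory.ShortComplex.mk (i₁ ≫ i₂) (π₂ ≫ q) w).homology ⟶ C₁)
    (hf : p₁ ≫ f = (CategoryTheory.ShortComplex.mk (i₁ ≫ i₂) (π₂ ≫ q) w).liftCycles i₂ h₂ ≫ (CategoryTheory.ShortComplex.mk (i₁ ≫ i₂) (π₂ ≫ q) w).homologyπ)
    (hg : g ≫ j = (CategoryTheory.ShortComplex.mk (i₁ ≫ i₂) (π₂ ≫ q) w).homologyι ≫ (CategoryTheory.ShortComplex.mk (i₁ ≫ i₂) (π₂ ≫ q) w).descOpcycles π₂ h₃) :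
    ∃ wfg : f ≫ g = 0, (ShortComplex.mk f g wfg).ShortExact := GrothLib.HomThree25.Data.shortExact ⟨i₁, p₁, wA, hA, i₂, π₂, wB, hB, j, q, wC, hC, w, h₂, h₃⟩ f g hf hg

end Groth.Agent.S15465
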