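import Groth.Statements.S15466
import Groth.Agent.Lib.HomThree25.Basic
-- import your own Groth.Agent.* helpers here

set_option autoImplicit false
universe v u
open HomAlg

namespace Groth.Agent.S15466

open CategoryTheory CategoryTheory.Limits in
/-- In an abelian category let 0 → A₂ → B₂ → C₂ → 0 (maps i₂, π₂), 0 → A₁ → A₂ → A₃ → 0 (maps i₁, p₁)
and 0 → C₁ → C₂ → C₃ → 0 (maps j, q) be short exact sequences, α = i₁ ≫ i₂, β = π₂ ≫ q, K = ker β /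
im α, and let f : A₃ → K and g : K → C₁ be the maps induced by i₂ and π₂ (pinned by their defining
squares), so that 0 → A₃ → K → C₁ → 0 is short exact. Sending a section s of g to the subobject B₁
of B₂ obtained by pulling the image of s back along ker β → K and then including ker β into B₂ is a
bijection from the sections of g (equivalently, the splittings of that sequence) onto the subobjects
B₁ of B₂ that complete the data to a 3 × 3 diagram with exact rows and columns: there are maps A₁ →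
B₁ → C₁ over i₁ ≫ i₂ and under π₂ forming a short exact sequence, and maps A₃ → B₂/B₁ → C₃ under i₂
and over π₂ ≫ q forming a short exact sequence. (The hypotheses w, h₂, h₃ are consequences of i₂ ≫
π₂ = 0, carried so that the maps can be named; the published statement assumes in addition that the
category has enough injective objects, which plays no role here.) -/
theorem result
    {C : Type u} [Category.{v} C] [Abelian C] {A₁ A₂ A₃ B₂ C₁ C₂ C₃ : C}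
    (i₁ : A₁ ⟶ A₂) (p₁ : A₂ ⟶ A₃) (wA : i₁ ≫ p₁ = 0) (hA : (ShortComplex.mk i₁ p₁ wA).ShortExact)
    (i₂ : A₂ ⟶ B₂) (π₂ : B₂ ⟶ C₂) (wB : i₂ ≫ π₂ = 0) (hB : (ShortComplex.mk i₂ π₂ wB).ShortExact)
    (j : C₁ ⟶ C₂) (q : C₂ ⟶ C₃) (wC : j ≫ q = 0) (hC : (ShortComplex.mk j q wC).ShortExact)
    (w : (i₁ ≫ i₂) ≫ (π₂ ≫ q) = 0) (h₂ : i₂ ≫ (π₂ ≫ q) = 0) (h₃ : (i₁ ≫ i₂) ≫ π₂ = 0)
    (f : A₃ ⟶ (CategoryTheory.ShortComplex.mk (i₁ ≫ i₂) (π₂ ≫ q) w).homology)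
    (g : (CategoryTheory.ShortComplex.mk (i₁ ≫ i₂) (π₂ ≫ q) w).homology ⟶ C₁)
    (hf : p₁ ≫ f = (CategoryTheory.ShortComplex.mk (i₁ ≫ i₂) (π₂ ≫ q) w).liftCycles i₂ h₂ ≫ (CategoryTheory.ShortComplex.mk (i₁ ≫ i₂) (π₂ ≫ q) w).homologyπ)
    (hg : g ≫ j = (CategoryTheory.ShortComplex.mk (i₁ ≫ i₂) (π₂ ≫ q) w).homologyι ≫ (CategoryTheory.ShortComplex.mk (i₁ ≫ i₂) (π₂ ≫ q) w).descOpcycles π₂ h₃) :
    (∀ B₁ : Subobject B₂,
      (∃ (a : A₁ ⟶ (B₁ : C)) (c : (B₁ : C) ⟶ C₁) (wac : a ≫ c = 0)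
         (a' : A₃ ⟶ cokernel B₁.arrow) (c' : cokernel B₁.arrow ⟶ C₃) (wac' : a' ≫ c' = 0),
         a ≫ B₁.arrow = i₁ ≫ i₂ ∧ c ≫ j = B₁.arrow ≫ π₂ ∧ (ShortComplex.mk a c wac).ShortExact ∧
         p₁ ≫ a' = i₂ ≫ cokernel.π B₁.arrow ∧ cokernel.π B₁.arrow ≫ c' = π₂ ≫ q ∧
         (ShortComplex.mk a' c' wac').ShortExact) ↔
      ∃ s : C₁ ⟶ (CategoryTheory.ShortComplex.mk (i₁ ≫ i₂) (π₂ ≫ q) w).homology, s ≫ g = 𝟙 C₁ ∧
        (Subobject.map (CategoryTheory.ShortComplex.mk (i₁ ≫ i₂) (π₂ ≫ q) w).iCycles).obj ((Subobject.pullback (CategoryTheory.ShortComplex.mk (i₁ ≫ i₂) (π₂ ≫ q) w).homologyπ).obj (imageSubobject s)) = B₁) ∧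
    (∀ s s' : C₁ ⟶ (CategoryTheory.ShortComplex.mk (i₁ ≫ i₂) (π₂ ≫ q) w).homology, s ≫ g = 𝟙 C₁ → s' ≫ g = 𝟙 C₁ →
      (Subobject.map (CategoryTheory.ShortComplex.mk (i₁ ≫ i₂) (π₂ ≫ q) w).iCycles).obj ((Subobject.pullback (CategoryTheory.ShortComplex.mk (i₁ ≫ i₂) (π₂ ≫ q) w).homologyπ).obj (imageSubobject s)) = (Subobject.map (CategoryTheory.ShortComplex.mk (i₁ ≫ i₂) (π₂ ≫ q) w).iCycles).obj ((Subobject.pullback (CategoryTheory.ShortComplex.mk (i₁ ≫ i₂) (π₂ ≫ q) w).homologyπ).obj (imageSubobject s')) → s = s') := let D : GrothLib.HomThree25.Data A₁ A₂ A₃ B₂ C₁ C₂ C₃ := ⟨i₁, p₁, wA, hA, i₂, π₂, wB, hB, j, q, wC, hC, w, h₂, h₃⟩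
  ⟨fun B₁ => D.subobjects_iff g hg B₁, fun s s' hs hs' h => D.eq_of_Φ_eq g hg s s' hs hs' h⟩

end Groth.Agent.S15466
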