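import Groth.Statements.S15475
import Groth.Agent.Lib.AlgSt.IsoNat.Main
import Groth.Agent.Lib.AlgSt.OfCompCover


set_option autoImplicit false
set_option backward.isDefEq.respectTransparency false
set_option backward.isDefEq.respectTransparency.types false
universe u
open CategoryTheory AlgebraicGeometry
open IsoNat

namespace Groth.Agent.S15475

/-- For a morphism from a scheme to an algebraic stack, being etale is detected by the presheaf of
isomorphism classes. Let 𝒳 and 𝒴 be algebraic stacks over a quasi-separated scheme S with an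
isomorphism of their presheaves of isomorphism classes, U a scheme over S, and x : U → 𝒳, y : U → 𝒴
morphisms whose isomorphism classes over U correspond under it. If x is locally of finite
presentation and etale (as a morphism representable by algebraic spaces), then so is y. Here an
algebraic stack over a quasi-separated scheme S means a stack in groupoids for the fppf topology
with a smooth surjective atlas from a scheme, whose diagonal is representable by separated
quasi-compact morphisms of algebraic spaces and whose inertia is locally of finite presentation over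
it. (The published statement compares within the wider class of quasi-algebraic stacks, which need
not have an atlas; this row compares algebraic stacks only.) -/
theorem result
    (S : Scheme.{u}) [QuasiSeparatedSpace S]
    (𝒳 𝒴 : AlgSt.Cat S)
    (h𝒳 : AlgSt.IsAlgStack Scheme.fppfPrecoverage 𝒳)
    (h𝒳d : AlgSt.RepByAlgSpWith (AlgSp.IsSeparatedMor ⊓ AlgSp.IsQuasiCompactMor)
      (FibCat.diag (FibCat.toSelf 𝒳)))
    (h𝒳i : AlgSt.RepByAlgSpWith (AlgSp.LocP @LocallyOfFinitePresentation)
      (FibCat.inertiaToBase (FibCat.toSelf 𝒳)))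
    (h𝒴 : AlgSt.IsAlgStack Scheme.fppfPrecoverage 𝒴)
    (h𝒴d : AlgSt.RepByAlgSpWith (AlgSp.IsSeparatedMor ⊓ AlgSp.IsQuasiCompactMor)
      (FibCat.diag (FibCat.toSelf 𝒴)))
    (h𝒴i : AlgSt.RepByAlgSpWith (AlgSp.LocP @LocallyOfFinitePresentation)
      (FibCat.inertiaToBase (FibCat.toSelf 𝒴)))
    (φ : IsoNat.FIso 𝒳 𝒴)
    (U : Over S) (x : FibCat.overCat U ⥤ᵇ 𝒳) (y : FibCat.overCat U ⥤ᵇ 𝒴)
    (hxy : φ.toEquiv U (IsoNat.objCls x) = IsoNat.objCls y)
    (hfp : AlgSt.RepByAlgSpWith (AlgSp.LocP @LocallyOfFinitePresentation) x)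
    (hx : AlgSt.RepByAlgSpWith AlgSp.IsEtaleMor x) :
    AlgSt.RepByAlgSpWith (AlgSp.LocP @LocallyOfFinitePresentation) y ∧ AlgSt.RepByAlgSpWith AlgSp.IsEtaleMor y := by
  --- body
  open GrothLib.IsoNat GrothLib.AlgSt in
  exact
    let h1 : AlgSt.RepByAlgSp1 y := repByAlgSp1_of_diag h𝒴.diag h𝒴.isStack.1 y
    let hl := repByAlgSpWith_lfp_of_corr h𝒳.isStack h𝒴.isStack hxy h1 h𝒴i hfp
    let hfe : AlgSt.RepByAlgSpWith AlgSp.IsFormallyEtaleMor x :=
      repByAlgSpWith_mono (fun _ _ _ hX hY h => ((GrothLib.AlgSp.isEtaleMor_iff_lfp_fe hX hY).1 h).2) hx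
    let hs := repByAlgSpWith_smooth_of_corr h𝒳.isStack h𝒴.isStack hxy h1
      (repByAlgSpWith_mono (fun _ _ _ _ _ h => h.1) h𝒴d) hl
      (repByAlgSpWith_mono (fun _ _ _ _ _ h => GrothLib.AlgSp.fs_of_fe h) hfe)
    let hu := repByAlgSpWith_fu_of_corr h𝒳.isStack h𝒴.isStack hxy
      (repByAlgSpWith_mono (fun _ _ _ _ _ h => h.1) h𝒳d) (repByAlgSpWith_mono (fun _ _ _ _ _ h => h.1) h𝒴d) hl
      (repByAlgSpWith_mono (fun _ _ _ _ _ h => GrothLib.AlgSp.fu_of_fe h) hfe)
    ⟨hl, repByAlgSpWith_mono (fun _ _ _ hX hY h => (GrothLib.AlgSp.isEtaleMor_iff_lfp_fe hX hY).2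
        ⟨h.1.1, GrothLib.AlgSp.fe_of_fs_fu (fs_of_locP_smooth hX hY h.1.2)
          ((GrothLib.AlgSp.fu_iff_locP hX hY).2 fun _ _ a b g ha hb w => (h.2 a b g ha hb w).2)⟩)
      (repByAlgSpWith_inf
        (isoInvariant_inf isoInvariant_locP isoInvariant_locP)
        (repByAlgSpWith_inf isoInvariant_locP hl hs) hu)⟩

end Groth.Agent.S15475
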