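import Groth.Statements.S15469
import Groth.Agent.Lib.AlgSt.IsoNat.Surj
import Groth.Agent.S15475
import Groth.Agent.Lib.AlgSt.OfCompCover


set_option autoImplicit false
set_option backward.isDefEq.respectTransparency false
set_option backward.isDefEq.respectTransparency.types false
universe u
open CategoryTheory AlgebraicGeometry
open IsoNat

namespace Groth.Agent.S15469

/-- The existence of a scheme with an etale surjective morphism to the stack is detected by the presheaf
of isomorphism classes. If 𝒳 and 𝒴 are algebraic stacks over a quasi-separated scheme S with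
isomorphic presheaves of isomorphism classes and 𝒳 is Deligne-Mumford, then 𝒴 is Deligne-Mumford.
Here an algebraic stack over a quasi-separated scheme S means a stack in groupoids for the fppf
topology with a smooth surjective atlas from a scheme, whose diagonal is representable by separated
quasi-compact morphisms of algebraic spaces and whose inertia is locally of finite presentation over
it. (The published statement compares within the wider class of quasi-algebraic stacks, which need
not have an atlas; this row compares algebraic stacks only.) -/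
theorem result
    (S : Scheme.{u}) [QuasiSeparatedSpace S]
    (𝒳 𝒴 : AlgSt.Cat S)
    (h𝒳 : AlgSt.IsAlgStack Scheme.fppfPrecoverage 𝒳)
    (h𝒳d : AlgSt.RepByAlgSpWith (AlgSp.IsSeparatedMor ⊓ AlgSp.IsQuasiCompactMor)
      (FibCat.diag (FibCat.toSelf 𝒳)))
    (h𝒳i : AlgSt.RepByAlgSpWith (AlgSp.LocP @LocallyOfFinitePresentation)
      (FibCat.inertiaToBase (FibCat.toSelf 𝒳)))
    (h𝒴 : AlgSt.IsAlgStack Scheme.fppfPrecoverage 𝒴)
    (h𝒴d : AlgSt.RepByAlgSpWith (AlgSp.IsSeparatedMor ⊓ AlgSp.IsQuasiCompactMor)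
      (FibCat.diag (FibCat.toSelf 𝒴)))
    (h𝒴i : AlgSt.RepByAlgSpWith (AlgSp.LocP @LocallyOfFinitePresentation)
      (FibCat.inertiaToBase (FibCat.toSelf 𝒴)))
    (φ : IsoNat.FIso 𝒳 𝒴)
    (hdm : AlgSt.IsDM Scheme.fppfPrecoverage 𝒳) :
    AlgSt.IsDM Scheme.fppfPrecoverage 𝒴 := by
  --- body
  open GrothLib.IsoNat GrothLib.AlgSt in
  exact by
    obtain ⟨U, x, hx, hs⟩ := hdm.2
    obtain ⟨y, hxy⟩ := exists_chart_of_class h𝒴.isStack φ x
    have hfp : AlgSt.RepByAlgSpWith (AlgSp.LocP @LocallyOfFinitePresentation) x :=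
      repByAlgSpWith_mono (fun _ _ _ hX hY h => ((GrothLib.AlgSp.isEtaleMor_iff_lfp_fe hX hY).1 h).1) hx
    exact ⟨h𝒴, U, y, (Groth.Agent.S15475.result S 𝒳 𝒴 h𝒳 h𝒳d h𝒳i h𝒴 h𝒴d h𝒴i φ U x y hxy hfp hx).2,
      repByAlgSpWith_surjective_of_corr h𝒳.isStack h𝒴.isStack hxy
        (repByAlgSp1_of_diag h𝒴.diag h𝒴.isStack.1 y) hs⟩

end Groth.Agent.S15469
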