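import Groth.Statements.S15470
import Groth.Agent.Lib.AlgSt.IsoNat.Square
import Groth.Agent.S15473


set_option autoImplicit false
set_option backward.isDefEq.respectTransparency false
set_option backward.isDefEq.respectTransparency.types false
universe u
open CategoryTheory AlgebraicGeometry
open IsoNat

namespace Groth.Agent.S15470

/-- A property of morphisms of algebraic stacks read on one square of smooth scheme charts is detected
by the induced map of presheaves of isomorphism classes. Let f : 𝒳 → 𝒴 and f' : 𝒳' → 𝒴' be morphisms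
of algebraic stacks over a quasi-separated scheme S, and suppose given isomorphisms of the
presheaves of isomorphism classes of 𝒳 with 𝒳' and of 𝒴 with 𝒴' under which the maps induced by f
and f' correspond. If there are smooth scheme charts x : U → 𝒳 (surjective) and y : V → 𝒴 and h : U
→ V with x followed by f 2-isomorphic to h followed by y and h having P, then the same holds for f'.
For P smooth local on the source-and-target, containing the smooth surjections and stable under
composition and base change, this is the statement that f has P if and only if f' has P (flat,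
locally of finite type, locally of finite presentation, smooth); the transfer itself holds for every
P. Here an algebraic stack over a quasi-separated scheme S means a stack in groupoids for the fppf
topology with a smooth surjective atlas from a scheme, whose diagonal is representable by separated
quasi-compact morphisms of algebraic spaces and whose inertia is locally of finite presentation over
it. -/
theorem result
    (S : Scheme.{u}) [QuasiSeparatedSpace S]
    (𝒳 𝒴 : AlgSt.Cat S)
    (h𝒳 : AlgSt.IsAlgStack Scheme.fppfPrecoverage 𝒳)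
    (h𝒳d : AlgSt.RepByAlgSpWith (AlgSp.IsSeparatedMor ⊓ AlgSp.IsQuasiCompactMor)
      (FibCat.diag (FibCat.toSelf 𝒳)))
    (h𝒳i : AlgSt.RepByAlgSpWith (AlgSp.LocP @LocallyOfFinitePresentation)
      (FibCat.inertiaToBase (FibCat.toSelf 𝒳)))
    (h𝒴 : AlgSt.IsAlgStack Scheme.fppfPrecoverage 𝒴)
    (h𝒴d : AlgSt.RepByAlgSpWith (AlgSp.IsSeparatedMor ⊓ AlgSp.IsQuasiCompactMor)
      (FibCat.diag (FibCat.toSelf 𝒴)))
    (h𝒴i : AlgSt.RepByAlgSpWith (AlgSp.LocP @LocallyOfFinitePresentation)
      (FibCat.inertiaToBase (FibCat.toSelf 𝒴)))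
    (𝒳' 𝒴' : AlgSt.Cat S)
    (h𝒳' : AlgSt.IsAlgStack Scheme.fppfPrecoverage 𝒳')
    (h𝒳'd : AlgSt.RepByAlgSpWith (AlgSp.IsSeparatedMor ⊓ AlgSp.IsQuasiCompactMor)
      (FibCat.diag (FibCat.toSelf 𝒳')))
    (h𝒳'i : AlgSt.RepByAlgSpWith (AlgSp.LocP @LocallyOfFinitePresentation)
      (FibCat.inertiaToBase (FibCat.toSelf 𝒳')))
    (h𝒴' : AlgSt.IsAlgStack Scheme.fppfPrecoverage 𝒴')
    (h𝒴'd : AlgSt.RepByAlgSpWith (AlgSp.IsSeparatedMor ⊓ AlgSp.IsQuasiCompactMor)
      (FibCat.diag (FibCat.toSelf 𝒴')))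
    (h𝒴'i : AlgSt.RepByAlgSpWith (AlgSp.LocP @LocallyOfFinitePresentation)
      (FibCat.inertiaToBase (FibCat.toSelf 𝒴')))
    (f : 𝒳 ⥤ᵇ 𝒴) (f' : 𝒳' ⥤ᵇ 𝒴') (φ : IsoNat.FIsoSq f f')
    (P : MorphismProperty (AlgSp.Sp S))
    (hf : AlgSt.LocQ P f) :
    AlgSt.LocQ P f' := by
  --- body
  open GrothLib.IsoNat GrothLib.AlgSt in
  exact by
    obtain ⟨U, V, x, y, h, α, hx, hxs, hy, hh⟩ := hf
    obtain ⟨x', hx'⟩ := exists_chart_of_class h𝒳'.isStack φ.src x
    obtain ⟨y', hy'⟩ := exists_chart_of_class h𝒴'.isStack φ.tgt y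
    obtain ⟨i⟩ := nonempty_iso_square h𝒳.isStack h𝒴.isStack h𝒴'.isStack φ α hx' hy'
    exact ⟨U, V, x', y', h, i,
      (Groth.Agent.S15473.result S 𝒳 𝒳' h𝒳 h𝒳d h𝒳i h𝒳' h𝒳'd h𝒳'i φ.src U x x' hx'
        (repByAlgSpWith_mono (fun _ _ _ _ _ h _ _ a b g ha hb w => by have := h a b g ha hb w; infer_instance) hx) hx).2,
      repByAlgSpWith_surjective_of_corr h𝒳.isStack h𝒳'.isStack hx'
        (repByAlgSp1_of_diag h𝒳'.diag h𝒳'.isStack.1 x') hxs,
      (Groth.Agent.S15473.result S 𝒴 𝒴' h𝒴 h𝒴d h𝒴i h𝒴' h𝒴'd h𝒴'i φ.tgt V y y' hy'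
        (repByAlgSpWith_mono (fun _ _ _ _ _ h _ _ a b g ha hb w => by have := h a b g ha hb w; infer_instance) hy) hy).2,
      hh⟩

end Groth.Agent.S15470
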