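import Groth.Statements.S15471
import Groth.Agent.Lib.AlgSt.IsoNat.Surj
import Groth.Agent.S15473


set_option autoImplicit false
set_option backward.isDefEq.respectTransparency false
set_option backward.isDefEq.respectTransparency.types false
universe u
open CategoryTheory AlgebraicGeometry
open IsoNat

namespace Groth.Agent.S15471

/-- A property of algebraic stacks read on smooth scheme charts is detected by the presheaf of
isomorphism classes. If 𝒳 and 𝒴 are algebraic stacks over a quasi-separated scheme S with isomorphic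
presheaves of isomorphism classes and every scheme U with a smooth U → 𝒳 has P, then every scheme
with a smooth morphism to 𝒴 has P. For P local in the smooth topology (locally Noetherian, reduced,
normal, regular) this is the statement that 𝒳 has P if and only if 𝒴 does; the transfer itself holds
for every P. Here an algebraic stack over a quasi-separated scheme S means a stack in groupoids for
the fppf topology with a smooth surjective atlas from a scheme, whose diagonal is representable by
separated quasi-compact morphisms of algebraic spaces and whose inertia is locally of finite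
presentation over it. -/
theorem result
    (S : Scheme.{u}) [QuasiSeparatedSpace S]
    (𝒳 𝒴 : AlgSt.Cat S)
    (h𝒳 : AlgSt.IsAlgStack Scheme.fppfPrecoverage 𝒳)
    (h𝒳d : AlgSt.RepByAlgSpWith (AlgSp.IsSeparatedMor ⊓ AlgSp.IsQuasiCompactMor)
      (FibCat.diag (FibCat.toSelf 𝒳)))
    (h𝒳i : AlgSt.RepByAlgSpWith (AlgSp.LocP @LocallyOfFinitePresentation)
      (FibCat.inertiaToBase (FibCat.toSelf 𝒳)))
    (h𝒴 : AlgSt.IsAlgStack Scheme.fppfPrecoverage 𝒴)
    (h𝒴d : AlgSt.RepByAlgSpWith (AlgSp.IsSeparatedMor ⊓ AlgSp.IsQuasiCompactMor)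
      (FibCat.diag (FibCat.toSelf 𝒴)))
    (h𝒴i : AlgSt.RepByAlgSpWith (AlgSp.LocP @LocallyOfFinitePresentation)
      (FibCat.inertiaToBase (FibCat.toSelf 𝒴)))
    (φ : IsoNat.FIso 𝒳 𝒴)
    (P : Scheme.{u} → Prop) (hP : AlgSt.SmoothLocally P 𝒳) :
    AlgSt.SmoothLocally P 𝒴 := by
  --- body
  open GrothLib.IsoNat GrothLib.AlgSt in
  exact by
    intro U y hy
    obtain ⟨ψ, hψ⟩ := exists_fiso_symm h𝒳.isStack.1 h𝒴.isStack.1 φ
    obtain ⟨x, hyx⟩ := exists_chart_of_class h𝒳.isStack ψ y
    have hfp : AlgSt.RepByAlgSpWith (AlgSp.LocP @LocallyOfFinitePresentation) y :=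
      repByAlgSpWith_mono (fun _ _ _ _ _ h _ _ a b g ha hb w => by have := h a b g ha hb w; infer_instance) hy
    exact hP U x (Groth.Agent.S15473.result S 𝒴 𝒳 h𝒴 h𝒴d h𝒴i h𝒳 h𝒳d h𝒳i ψ U y x hyx hfp hy).2

end Groth.Agent.S15471
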