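import Groth.Statements.S15482
import Groth.Agent.Lib.AlgSt.OpenSubQC


set_option autoImplicit false
set_option backward.isDefEq.respectTransparency false
set_option backward.isDefEq.respectTransparency.types false
universe u
open CategoryTheory AlgebraicGeometry
open IsoNat

namespace Groth.Agent.S15482

/-- A morphism f : 𝒳 → 𝒴 of algebraic stacks over a quasi-separated scheme S is quasi-compact (its base
change to every quasi-compact algebraic stack is quasi-compact) if and only if for every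
quasi-compact algebraic stack 𝒴' and every open immersion j : 𝒴' → 𝒴 (representable by open
immersions of algebraic spaces) the 2-fibre product 𝒴' ×_𝒴 𝒳 is quasi-compact. Here an algebraic
stack over a quasi-separated scheme S means a stack in groupoids for the fppf topology with a smooth
surjective atlas from a scheme, whose diagonal is representable by separated quasi-compact morphisms
of algebraic spaces and whose inertia is locally of finite presentation over it. -/
theorem result
    (S : Scheme.{u}) [QuasiSeparatedSpace S]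
    (𝒳 𝒴 : AlgSt.Cat S)
    (h𝒳 : AlgSt.IsAlgStack Scheme.fppfPrecoverage 𝒳)
    (h𝒳d : AlgSt.RepByAlgSpWith (AlgSp.IsSeparatedMor ⊓ AlgSp.IsQuasiCompactMor)
      (FibCat.diag (FibCat.toSelf 𝒳)))
    (h𝒳i : AlgSt.RepByAlgSpWith (AlgSp.LocP @LocallyOfFinitePresentation)
      (FibCat.inertiaToBase (FibCat.toSelf 𝒳)))
    (h𝒴 : AlgSt.IsAlgStack Scheme.fppfPrecoverage 𝒴)
    (h𝒴d : AlgSt.RepByAlgSpWith (AlgSp.IsSeparatedMor ⊓ AlgSp.IsQuasiCompactMor)
      (FibCat.diag (FibCat.toSelf 𝒴)))
    (h𝒴i : AlgSt.RepByAlgSpWith (AlgSp.LocP @LocallyOfFinitePresentation)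
      (FibCat.inertiaToBase (FibCat.toSelf 𝒴)))
    (f : 𝒳 ⥤ᵇ 𝒴) :
    AlgSt.IsQuasiCompactMor Scheme.fppfPrecoverage f ↔
      ∀ (𝒴' : AlgSt.Cat S), AlgSt.IsAlgStack Scheme.fppfPrecoverage 𝒴' → AlgSt.IsQuasiCompact 𝒴' →
        ∀ (j : 𝒴' ⥤ᵇ 𝒴), AlgSt.IsOpenImm j → AlgSt.IsQuasiCompact (FibCat.fp j f) := by
  exact GrothLib.AlgSt.isQuasiCompactMor_iff_openImm h𝒳 h𝒴
    (GrothLib.AlgSt.repByAlgSpWith_mono (fun _ _ _ _ _ h => h.2) h𝒴d) f

end Groth.Agent.S15482
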