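import Groth.Statements.S15486
import Groth.Agent.Lib.AlgSt.IsoNat.Bald.Main


set_option autoImplicit false
set_option backward.isDefEq.respectTransparency false
set_option backward.isDefEq.respectTransparency.types false
universe u
open CategoryTheory AlgebraicGeometry
open IsoNat

namespace Groth.Agent.S15486

/-- Bald algebraic stacks are determined by their presheaves of isomorphism classes. Let 𝒳 and 𝒴 be
algebraic stacks over a quasi-separated scheme S with proper diagonals which are bald: for every
smooth morphism x from a scheme U, the locus of U over which the object x becomes clean (trivial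
automorphism sheaf: every object mapping to it has only the identity as endomorphism over the
identity of its base) is an open subscheme schematically dense in U. If their presheaves of
isomorphism classes are isomorphic, then 𝒳 and 𝒴 are equivalent over (Sch/S). Here an algebraic
stack over a quasi-separated scheme S means a stack in groupoids for the fppf topology with a smooth
surjective atlas from a scheme, whose diagonal is representable by separated quasi-compact morphisms
of algebraic spaces and whose inertia is locally of finite presentation over it. (The published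
definition of bald asks the clean locus, an open substack, to be schematically dense in the stack;
this row uses the equivalent chart-wise form, and compares algebraic stacks rather than
quasi-algebraic ones.) -/
theorem result
    (S : Scheme.{u}) [QuasiSeparatedSpace S]
    (𝒳 𝒴 : AlgSt.Cat S)
    (h𝒳 : AlgSt.IsAlgStack Scheme.fppfPrecoverage 𝒳)
    (h𝒳d : AlgSt.RepByAlgSpWith (AlgSp.IsSeparatedMor ⊓ AlgSp.IsQuasiCompactMor)
      (FibCat.diag (FibCat.toSelf 𝒳)))
    (h𝒳i : AlgSt.RepByAlgSpWith (AlgSp.LocP @LocallyOfFinitePresentation)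
      (FibCat.inertiaToBase (FibCat.toSelf 𝒳)))
    (h𝒴 : AlgSt.IsAlgStack Scheme.fppfPrecoverage 𝒴)
    (h𝒴d : AlgSt.RepByAlgSpWith (AlgSp.IsSeparatedMor ⊓ AlgSp.IsQuasiCompactMor)
      (FibCat.diag (FibCat.toSelf 𝒴)))
    (h𝒴i : AlgSt.RepByAlgSpWith (AlgSp.LocP @LocallyOfFinitePresentation)
      (FibCat.inertiaToBase (FibCat.toSelf 𝒴)))
    (h𝒳s : AlgSt.IsSeparatedOver 𝒳)
    (h𝒳b : ∀ (U : Over S) (x : FibCat.overCat U ⥤ᵇ 𝒳), AlgSt.RepByAlgSpWith (AlgSp.LocP @Smooth) x →
      ∃ V : U.left.Opens,
        (∀ (T : Over S) (g : T ⟶ U), (∃ g' : T.left ⟶ ↑V, g' ≫ V.ι = g.left) ↔ IsoNat.IsClean (x.obj (Over.mk g))) ∧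
        CInt.IsSchematicallyDense V)
    (h𝒴s : AlgSt.IsSeparatedOver 𝒴)
    (h𝒴b : ∀ (U : Over S) (x : FibCat.overCat U ⥤ᵇ 𝒴), AlgSt.RepByAlgSpWith (AlgSp.LocP @Smooth) x →
      ∃ V : U.left.Opens,
        (∀ (T : Over S) (g : T ⟶ U), (∃ g' : T.left ⟶ ↑V, g' ≫ V.ι = g.left) ↔ IsoNat.IsClean (x.obj (Over.mk g))) ∧
        CInt.IsSchematicallyDense V)
    (φ : IsoNat.FIso 𝒳 𝒴) :
    ∃ e : 𝒳 ⥤ᵇ 𝒴, FibCat.IsEquivOver e := by
  exact GrothLib.IsoNat.Bald.exists_isEquivOver_of_bald h𝒳
    (GrothLib.AlgSt.repByAlgSpWith_mono (fun _ _ _ _ _ h => h.1) h𝒳d) h𝒳b h𝒴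
    (GrothLib.AlgSt.repByAlgSpWith_mono (fun _ _ _ _ _ h => h.1) h𝒴d) h𝒴b h𝒴i φ

end Groth.Agent.S15486
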