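import Groth.Statements.S15488
import Mathlib


set_option autoImplicit false
set_option backward.isDefEq.respectTransparency false
set_option backward.isDefEq.respectTransparency.types false
universe u
open IsoNat

namespace Groth.Agent.S15488

/-- Let A be a nontrivial commutative ring, G a finite group, g an element of G of order ν and l an
element of A with l ^ ν = 1. In the free A-module of functions G → A (the regular representation, g
acting by translation v ↦ v(g·)), the submodule of v with v(g h) = l v(h) for all h is a direct
summand, free of rank |G| / ν (stated as: free, rank · ν = |G|, and a complementary submodule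
exists). (The published statement is over an arbitrary ring and also covers Hom(A^N, −) of the
regular representation, which follows; nontriviality of A is needed for the rank to be meaningful.) -/
theorem result
    (A : Type u) [CommRing A] [Nontrivial A] (G : Type u) [Group G] [Finite G]
    (g : G) (l : A) (hl : l ^ orderOf g = 1) :
    Module.Free A (LinearMap.ker (LinearMap.funLeft A A (fun h : G => g * h) - l • LinearMap.id)) ∧
      Module.finrank A (LinearMap.ker (LinearMap.funLeft A A (fun h : G => g * h) - l • LinearMap.id)) * orderOf g = Nat.card G ∧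
      ∃ E' : Submodule A (G → A), IsCompl (LinearMap.ker (LinearMap.funLeft A A (fun h : G => g * h) - l • LinearMap.id)) E' := by
  classical
  have := Fintype.ofFinite G
  set H := Subgroup.zpowers g
  let Q := Quotient (QuotientGroup.rightRel H)
  let cl : G → Q := fun h => Quotient.mk'' h
  let rep : Q → G := fun q => q.out
  have hcl : ∀ q, cl (rep q) = q := fun q => q.out_eq
  have hex : ∀ h, ∃ i : ℕ, h = g ^ i * rep (cl h) := fun h => by
    have : h * (rep (cl h))⁻¹ ∈ H := QuotientGroup.rightRel_apply.1 (Quotient.exact' (hcl (cl h)))
    rw [← mem_powers_iff_mem_zpowers, Submonoid.mem_powers_iff] at this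
    obtain ⟨i, hi⟩ := this
    exact ⟨i, by rw [hi, inv_mul_cancel_right]⟩
  choose i hi using hex
  have hl' : ∀ a b : ℕ, g ^ a = g ^ b → l ^ a = l ^ b := fun a b e => by
    rw [← Nat.mod_add_div a (orderOf g), ← Nat.mod_add_div b (orderOf g), pow_add, pow_add, pow_mul, pow_mul, hl,
      one_pow, one_pow, mul_one, mul_one, (pow_eq_pow_iff_modEq.1 e : a % orderOf g = b % orderOf g)]
  have hcg : ∀ h, cl (g * h) = cl h := fun h => Quotient.sound' (QuotientGroup.rightRel_apply.2 (by
    rw [mul_inv_rev, mul_inv_cancel_left]
    exact H.inv_mem (Subgroup.mem_zpowers g)))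
  have hig : ∀ h, l ^ i (g * h) = l * l ^ i h := fun h => by
    rw [← pow_succ']
    apply hl'
    have e := hi (g * h)
    rw [hcg] at e
    refine mul_right_cancel (b := rep (cl h)) ?_
    rw [← e, pow_succ', mul_assoc, ← hi h]
  set E := LinearMap.ker (LinearMap.funLeft A A (fun h : G => g * h) - l • LinearMap.id) with hE
  have hmem : ∀ v, v ∈ E ↔ ∀ h, v (g * h) = l * v h := fun v => by
    simp [E, funext_iff, sub_eq_zero, LinearMap.funLeft_apply]
  let ψ : (Q → A) →ₗ[A] (G → A) :=
    { toFun := fun w h => l ^ i h * w (cl h)
      map_add' := fun w w' => by ext h; simp [mul_add]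
      map_smul' := fun c w => by ext h; simp; ring }
  have hψ : ∀ w, ψ w ∈ E := fun w => (hmem _).2 fun h => by simp [ψ, hcg, hig, mul_assoc]
  have hval : ∀ v ∈ E, ∀ (n : ℕ) (r : G), v (g ^ n * r) = l ^ n * v r := fun v hv n r => by
    induction n with
    | zero => simp
    | succ n ih => rw [pow_succ', mul_assoc, (hmem v).1 hv, ih, pow_succ']; ring
  let R : (G → A) →ₗ[A] (Q → A) := LinearMap.funLeft A A rep
  let P : (G → A) →ₗ[A] E := (ψ.comp R).codRestrict E fun v => hψ _
  have hP : ∀ v : E, P v = v := fun v => Subtype.ext (funext fun h => by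
    change l ^ i h * v.1 (rep (cl h)) = v.1 h
    rw [← hval v.1 v.2]
    exact congrArg v.1 (hi h).symm)
  have h0 : ∀ q, l ^ i (rep q) = 1 := fun q => by
    rw [hl' (i (rep q)) 0 ?_, pow_zero]
    have := hi (rep q)
    rw [hcl] at this
    simpa using mul_eq_right.1 this.symm
  let e : E ≃ₗ[A] (Q → A) := LinearEquiv.ofLinear (R.comp E.subtype) (ψ.codRestrict E hψ)
    (LinearMap.ext fun w => funext fun q => by
      change l ^ i (rep q) * w (cl (rep q)) = w q
      rw [h0, hcl, one_mul])
    (LinearMap.ext fun v => hP v)
  have hc : Nat.card Q * orderOf g = Nat.card G := by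
    rw [← Nat.card_zpowers g, Subgroup.card_eq_card_quotient_mul_card_subgroup H]
    exact congrArg (· * _) (Nat.card_congr (QuotientGroup.quotientRightRelEquivQuotientLeftRel H))
  refine ⟨Module.Free.of_equiv e.symm, ?_, _, LinearMap.isCompl_of_proj hP⟩
  rw [LinearEquiv.finrank_eq e, Module.finrank_pi, ← Nat.card_eq_fintype_card]
  exact hc

end Groth.Agent.S15488
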