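import Groth.Statements.S15489
import Groth.Agent.Lib.AlgSt.CleanSeparated


set_option autoImplicit false
set_option backward.isDefEq.respectTransparency false
set_option backward.isDefEq.respectTransparency.types false
universe u
open CategoryTheory AlgebraicGeometry
open IsoNat

namespace Groth.Agent.S15489

/-- The presheaf of isomorphism classes of an algebraic stack 𝒳 over a quasi-separated scheme S is a
sheaf exactly when 𝒳 has no non-trivial automorphisms. Stated as: every object of 𝒳 is clean (every
object mapping to it has only the identity endomorphism over the identity of its base) if and only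
if the presheaf of isomorphism classes is separated for fppf coverings — whenever T' → T is flat,
surjective and locally of finite presentation and two objects over T receive morphisms over it from
isomorphic objects over T', the two objects are isomorphic over T. (The gluing half of the sheaf
property also follows from the triviality of automorphism sheaves; only separation is needed for the
converse, and only it is stated.) Here an algebraic stack over a quasi-separated scheme S means a
stack in groupoids for the fppf topology with a smooth surjective atlas from a scheme, whose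
diagonal is representable by separated quasi-compact morphisms of algebraic spaces and whose inertia
is locally of finite presentation over it. -/
theorem result
    (S : Scheme.{u}) [QuasiSeparatedSpace S]
    (𝒳 : AlgSt.Cat S)
    (h𝒳 : AlgSt.IsAlgStack Scheme.fppfPrecoverage 𝒳)
    (h𝒳d : AlgSt.RepByAlgSpWith (AlgSp.IsSeparatedMor ⊓ AlgSp.IsQuasiCompactMor)
      (FibCat.diag (FibCat.toSelf 𝒳)))
    (h𝒳i : AlgSt.RepByAlgSpWith (AlgSp.LocP @LocallyOfFinitePresentation)
      (FibCat.inertiaToBase (FibCat.toSelf 𝒳))) :
    (∀ η : 𝒳.obj, IsoNat.IsClean η) ↔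
      ∀ (T T' : Over S) (π : T' ⟶ T) [Flat π.left] [Surjective π.left] [LocallyOfFinitePresentation π.left]
        (x₁ x₂ : 𝒳.p.Fiber T) (x₁' x₂' : 𝒳.p.Fiber T') (a₁ : x₁'.1 ⟶ x₁.1) (a₂ : x₂'.1 ⟶ x₂.1),
        𝒳.p.IsHomLift π a₁ → 𝒳.p.IsHomLift π a₂ → Nonempty (x₁' ≅ x₂') → Nonempty (x₁ ≅ x₂) := by
  refine ⟨fun hc T T' π _ _ _ x₁ x₂ x₁' x₂' a₁ a₂ h₁ h₂ he =>
    GrothLib.AlgSt.isoCl_separated_of_clean h𝒳 hc π x₁ x₂ x₁' x₂' a₁ a₂ h₁ h₂ he, fun hs η => ?_⟩
  exact GrothLib.AlgSt.clean_of_isoCl_separated h𝒳.isStack
    (GrothLib.AlgSt.repByAlgSpWith_mono (fun _ _ a _ _ h => h.1) h𝒳d) hs η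

end Groth.Agent.S15489
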