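import Groth.Statements.S15491


set_option autoImplicit false
set_option backward.isDefEq.respectTransparency false
set_option backward.isDefEq.respectTransparency.types false
universe v u
open CategoryTheory CategoryTheory.Functor
open IsoNat

namespace Groth.Agent.S15491

open CategoryTheory CategoryTheory.Limits CategoryTheory.Functor

/-- Pasting of 2-cartesian squares, stated in the 2-category of categories. Consider functors t : A → B,
t' : A' → B', t'' : A'' → B'' and l : A → A', r : B → B', l' : A' → A'', r' : B' → B'' with natural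
isomorphisms e₁ : t ⋙ r ≅ l ⋙ t' and e₂ : t' ⋙ r' ≅ l' ⋙ t''. If the lower square (t', l', r', t'',
e₂) is 2-cartesian (its comparison functor to the 2-fibre product is an equivalence), then the upper
square (t, l, r, t', e₁) is 2-cartesian if and only if the outer rectangle (t, l ⋙ l', r ⋙ r', t'')
with the pasted isomorphism is. (The published statement is for an arbitrary 2-category whose
2-morphisms are invertible; this row is the case of categories, functors and natural isomorphisms.) -/
theorem result
    {A B A' B' A'' B'' : Type u} [Category.{v} A] [Category.{v} B] [Category.{v} A'] [Category.{v} B']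
    [Category.{v} A''] [Category.{v} B'']
    (t : A ⥤ B) (l : A ⥤ A') (r : B ⥤ B') (t' : A' ⥤ B') (l' : A' ⥤ A'') (r' : B' ⥤ B'') (t'' : A'' ⥤ B'')
    (e₁ : t ⋙ r ≅ l ⋙ t') (e₂ : t' ⋙ r' ≅ l' ⋙ t'')
    (h₂ : FibCat.IsTwoCart t' l' r' t'' e₂) :
    FibCat.IsTwoCart t l r t' e₁ ↔
      FibCat.IsTwoCart t (l ⋙ l') (r ⋙ r') t''
        ((Functor.associator t r r').symm ≪≫ isoWhiskerRight e₁ r' ≪≫ Functor.associator l t' r' ≪≫
          isoWhiskerLeft l e₂ ≪≫ (Functor.associator l l' t'').symm) := by
  let K := (CategoricalPullback.CatCommSqOver.toFunctorToCategoricalPullback r' t'' A').obj ⟨t', l', e₂⟩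
  have hK : K.IsEquivalence := h₂
  let Φ : CategoricalPullback r t' ⥤ CategoricalPullback (r ⋙ r') t'' :=
    { obj := fun P => ⟨P.fst, l'.obj P.snd, r'.mapIso P.iso ≪≫ e₂.app P.snd⟩
      map := fun {P Q} φ =>
        { fst := φ.fst
          snd := l'.map φ.snd
          w := by
            have h1 : r'.map (t'.map φ.snd) ≫ e₂.hom.app Q.snd = e₂.hom.app P.snd ≫ t''.map (l'.map φ.snd) :=
              e₂.hom.naturality φ.snd
            change r'.map (r.map φ.fst) ≫ r'.map Q.iso.hom ≫ e₂.hom.app Q.snd =
              (r'.map P.iso.hom ≫ e₂.hom.app P.snd) ≫ t''.map (l'.map φ.snd)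
            rw [← r'.map_comp_assoc, φ.w, r'.map_comp, Category.assoc, h1, Category.assoc] }
      map_id := fun P => CategoricalPullback.hom_ext rfl (l'.map_id _)
      map_comp := fun φ ψ => CategoricalPullback.hom_ext rfl (l'.map_comp _ _) }
  have hΦ : Φ.IsEquivalence :=
    { faithful := ⟨fun {P Q} {φ ψ} e => by
        have ef : φ.fst = ψ.fst := congrArg (fun q : Φ.obj P ⟶ Φ.obj Q => q.fst) e
        refine CategoricalPullback.hom_ext ef (K.map_injective (CategoricalPullback.hom_ext ?_
          (congrArg (fun q : Φ.obj P ⟶ Φ.obj Q => q.snd) e :)))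
        change t'.map φ.snd = t'.map ψ.snd
        rw [← cancel_epi P.iso.hom, ← φ.w, ← ψ.w, ef]⟩
      full := ⟨fun {P Q} φ => by
        let m : K.obj P.snd ⟶ K.obj Q.snd :=
          { fst := P.iso.inv ≫ r.map φ.fst ≫ Q.iso.hom
            snd := φ.snd
            w := by
              change r'.map (P.iso.inv ≫ r.map φ.fst ≫ Q.iso.hom) ≫ e₂.hom.app Q.snd = e₂.hom.app P.snd ≫ t''.map φ.snd
              have hw : r'.map (r.map φ.fst) ≫ r'.map Q.iso.hom ≫ e₂.hom.app Q.snd =
                  (r'.map P.iso.hom ≫ e₂.hom.app P.snd) ≫ t''.map φ.snd := φ.w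
              rw [← cancel_epi (r'.map P.iso.hom), ← r'.map_comp_assoc, Iso.hom_inv_id_assoc, r'.map_comp,
                Category.assoc, hw, Category.assoc] }
        have hg : K.map (K.preimage m) = m := K.map_preimage m
        refine ⟨{ fst := φ.fst, snd := K.preimage m, w := ?_ },
          CategoricalPullback.hom_ext rfl (congrArg CategoricalPullback.Hom.snd hg :)⟩
        have h1 : t'.map (K.preimage m) = P.iso.inv ≫ r.map φ.fst ≫ Q.iso.hom :=
          congrArg CategoricalPullback.Hom.fst hg
        rw [h1, Iso.hom_inv_id_assoc]⟩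
      essSurj := ⟨fun Q => by
        let M : CategoricalPullback r' t'' := ⟨r.obj Q.fst, Q.snd, Q.iso⟩
        let i := K.objObjPreimageIso M
        let j₁ : t'.obj (K.objPreimage M) ≅ r.obj Q.fst := (CategoricalPullback.π₁ r' t'').mapIso i
        let j₂ : l'.obj (K.objPreimage M) ≅ Q.snd := (CategoricalPullback.π₂ r' t'').mapIso i
        refine ⟨⟨Q.fst, K.objPreimage M, j₁.symm⟩, ⟨CategoricalPullback.mkIso (Iso.refl _) j₂ ?_⟩⟩
        have hw : r'.map j₁.hom ≫ Q.iso.hom = e₂.hom.app (K.objPreimage M) ≫ t''.map j₂.hom := i.hom.w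
        change r'.map (r.map (𝟙 Q.fst)) ≫ Q.iso.hom = (r'.map j₁.inv ≫ e₂.hom.app (K.objPreimage M)) ≫ t''.map j₂.hom
        rw [Category.assoc, ← hw, ← r'.map_comp_assoc, Iso.inv_hom_id, r.map_id]⟩ }
  have e : (CategoricalPullback.CatCommSqOver.toFunctorToCategoricalPullback r t' A).obj ⟨t, l, e₁⟩ ⋙ Φ ≅
      (CategoricalPullback.CatCommSqOver.toFunctorToCategoricalPullback (r ⋙ r') t'' A).obj ⟨t, l ⋙ l',
        (Functor.associator t r r').symm ≪≫ isoWhiskerRight e₁ r' ≪≫ Functor.associator l t' r' ≪≫
          isoWhiskerLeft l e₂ ≪≫ (Functor.associator l l' t'').symm⟩ :=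
    NatIso.ofComponents (fun a => CategoricalPullback.mkIso (Iso.refl _) (Iso.refl _) (by simp [Φ]; rfl))
      (fun f => by apply CategoricalPullback.hom_ext <;> simp [Φ])
  constructor
  · intro h
    have : ((CategoricalPullback.CatCommSqOver.toFunctorToCategoricalPullback r t' A).obj ⟨t, l, e₁⟩).IsEquivalence := h
    exact Functor.isEquivalence_of_iso e
  · intro h
    have h' : ((CategoricalPullback.CatCommSqOver.toFunctorToCategoricalPullback (r ⋙ r') t'' A).obj ⟨t, l ⋙ l',
        (Functor.associator t r r').symm ≪≫ isoWhiskerRight e₁ r' ≪≫ Functor.associator l t' r' ≪≫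
          isoWhiskerLeft l e₂ ≪≫ (Functor.associator l l' t'').symm⟩).IsEquivalence := h
    have := Functor.isEquivalence_of_iso e.symm
    exact Functor.isEquivalence_of_comp_right _ Φ

end Groth.Agent.S15491
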