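import Groth.Statements.S15494
import Mathlib.Algebra.BigOperators.Intervals
import Mathlib.Algebra.Module.BigOperators
import Mathlib.Data.Nat.Cast.Basic
import Mathlib.Algebra.Ring.Hom.Defs

set_option autoImplicit false
universe u v
open Dieud

namespace Groth.Agent.S15494

/-- Let W be a commutative ring with a ring endomorphism σ, p a natural number, M a W-module and F an
additive self-map of M with F (w • m) = σ w • F m. Let d ≥ 1, c ≥ 1, h = d + c, and let e_1, …, e_h,
… be vectors of M on which F acts through a display matrix in normal form: F e_i = e_{i+1} for 1 ≤ i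
< d; F e_d = Σ_{i=1}^{d} a_{i,d} e_i + e_{d+1}; F e_j = Σ_{i=1}^{d} p a_{i,j} e_i + p e_{j+1} for d
< j < h; F e_h = Σ_{i=1}^{d} p a_{i,h} e_i. Then F^h e_1 = Σ_{i=1}^{d} Σ_{j=d}^{h} p^{j-d}
σ^{h-j}(a_{i,j}) F^{h+i-j-1} e_1. (The published statement is for the Dieudonné module of a
p-divisible group of dimension d and height h over the Witt ring of a field of characteristic p,
with σ the Frobenius and e_1, …, e_h a basis; this row keeps only the relations which the printed
computation uses, so W, σ, p and the vectors are arbitrary.) -/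
theorem result
    (W : Type u) [CommRing W] (σ : W →+* W) (p : ℕ)
    (M : Type v) [AddCommGroup M] [Module W M]
    (F : M →+ M) (hF : ∀ (w : W) (m : M), F (w • m) = σ w • F m)
    (d c : ℕ) (hd : 0 < d) (hc : 0 < c)
    (a : ℕ → ℕ → W) (e : ℕ → M)
    (h1 : ∀ i : ℕ, 1 ≤ i → i < d → F (e i) = e (i + 1))
    (h2 : F (e d) = (∑ i ∈ Finset.Icc 1 d, a i d • e i) + e (d + 1))
    (h3 : ∀ j : ℕ, d < j → j < d + c →
      F (e j) = (∑ i ∈ Finset.Icc 1 d, ((p : W) * a i j) • e i) + (p : W) • e (j + 1))
    (h4 : F (e (d + c)) = ∑ i ∈ Finset.Icc 1 d, ((p : W) * a i (d + c)) • e i) :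
    (⇑F)^[d + c] (e 1) = ∑ i ∈ Finset.Icc 1 d, ∑ j ∈ Finset.Icc d (d + c),
      ((p : W) ^ (j - d) * (⇑σ)^[d + c - j] (a i j)) • (⇑F)^[d + c + i - j - 1] (e 1) := by
  have hσp : σ (p : W) = p := map_natCast σ p
  have hsm : ∀ (t : ℕ) (w : W) (m : M), (⇑F)^[t] (w • m) = (⇑σ)^[t] w • (⇑F)^[t] m := by
    intro t
    induction t with
    | zero => simp
    | succ t ih => intro w m; rw [Function.iterate_succ_apply', ih, hF, Function.iterate_succ_apply', Function.iterate_succ_apply']
  have hei : ∀ i, i < d → (⇑F)^[i] (e 1) = e (i + 1) := by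
    intro i
    induction i with
    | zero => simp
    | succ i ih => intro hi; rw [Function.iterate_succ_apply', ih (by omega), h1 (i + 1) (by omega) hi]
  have hFsum : ∀ (w : ℕ → W), F (∑ i ∈ Finset.Icc 1 d, w i • e i) = ∑ i ∈ Finset.Icc 1 d, σ (w i) • (⇑F)^[i] (e 1) := by
    intro w
    rw [map_sum]
    refine Finset.sum_congr rfl fun i hi => ?_
    rw [Finset.mem_Icc] at hi
    have e1 : e i = (⇑F)^[i - 1] (e 1) := by rw [hei (i - 1) (by omega)]; congr 1; omega
    rw [hF, e1, ← Function.iterate_succ_apply' (⇑F)]
    congr 2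
    omega
  -- the general step
  have key : ∀ s, s ≤ c → (⇑F)^[d + s] (e 1) =
      (∑ i ∈ Finset.Icc 1 d, ∑ j ∈ Finset.Icc d (d + s),
        ((p : W) ^ (j - d) * (⇑σ)^[d + s - j] (a i j)) • (⇑F)^[d + s + i - j - 1] (e 1)) +
      if s < c then (p : W) ^ s • e (d + s + 1) else 0 := by
    intro s
    induction s with
    | zero =>
      intro _
      have e1 : (⇑F)^[d] (e 1) = F (e d) := by
        have h := hei (d - 1) (by omega)
        rw [show d - 1 + 1 = d by omega] at h
        rw [← h, ← Function.iterate_succ_apply' (⇑F)]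
        congr 2
        omega
      rw [Nat.add_zero, e1, h2, if_pos hc, pow_zero, one_smul]
      congr 1
      refine Finset.sum_congr rfl fun i hi => ?_
      rw [Finset.mem_Icc] at hi
      rw [Finset.Icc_self, Finset.sum_singleton, Nat.sub_self, pow_zero, one_mul, Function.iterate_zero_apply]
      congr 1
      rw [show d + i - d - 1 = i - 1 by omega, hei (i - 1) (by omega)]
      congr 1
      omega
    | succ s ih =>
      intro hs
      have ihs := ih (by omega)
      rw [if_pos (by omega)] at ihs
      rw [← Nat.add_assoc, Function.iterate_succ_apply', ihs, map_add, map_sum]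
      have hFe : F ((p : W) ^ s • e (d + s + 1)) =
          (∑ i ∈ Finset.Icc 1 d, ((p : W) ^ (s + 1) * a i (d + s + 1)) • e i) +
            if s + 1 < c then (p : W) ^ (s + 1) • e (d + s + 1 + 1) else 0 := by
        rw [hF, map_pow, hσp]
        split_ifs with hlt
        · rw [h3 (d + s + 1) (by omega) (by omega), smul_add, Finset.smul_sum, smul_smul, ← pow_succ]
          congr 1
          exact Finset.sum_congr rfl fun i _ => by rw [smul_smul, pow_succ, mul_assoc]
        · rw [show d + s + 1 = d + c by omega, h4, Finset.smul_sum, add_zero]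
          exact Finset.sum_congr rfl fun i _ => by rw [smul_smul, pow_succ, mul_assoc]
      rw [hFe, ← add_assoc, ← Finset.sum_add_distrib]
      congr 1
      refine Finset.sum_congr rfl fun i hi => ?_
      rw [Finset.mem_Icc] at hi
      rw [Finset.sum_Icc_succ_top (by omega : d ≤ d + s + 1), map_sum, Nat.sub_self,
        Function.iterate_zero_apply, show d + s + 1 - d = s + 1 by omega]
      congr 1
      · refine Finset.sum_congr rfl fun j hj => ?_
        rw [Finset.mem_Icc] at hj
        rw [hF, map_mul, map_pow, hσp, ← Function.iterate_succ_apply' (⇑σ), ← Function.iterate_succ_apply' (⇑F)]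
        congr 1
        · congr 1
          congr 1
          omega
        · congr 1
          omega
      · congr 1
        rw [show d + s + 1 + i - (d + s + 1) - 1 = i - 1 by omega, hei (i - 1) (by omega)]
        congr 1
        omega
  have h := key c le_rfl
  rwa [if_neg (lt_irrefl c), add_zero] at h

end Groth.Agent.S15494
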