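import Groth.Statements.S15495
import Mathlib.RingTheory.Artinian.Ring
import Mathlib.RingTheory.LocalRing.MaximalIdeal.Basic
import Mathlib.Algebra.Ring.GeomSum

set_option autoImplicit false
universe u
open CAlg

namespace Groth.Agent.S15495

/-- In an Artinian local ring R whose maximal ideal m contains the prime number p, the multiplicative
group 1 + m is annihilated under some power of p: there is n with (1 + x)^(p^n) = 1 for every x in
m. (The published text makes this assertion inside a proof, for Artinian local algebras over the
Witt ring of a perfect field of characteristic p; only p ∈ m and the nilpotence of m are used.) -/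
theorem result
    (R : Type u) [CommRing R] [IsLocalRing R] [IsArtinianRing R]
    (p : ℕ) (hp : p.Prime) (hpm : (p : R) ∈ IsLocalRing.maximalIdeal R) :
    ∃ n : ℕ, ∀ x ∈ IsLocalRing.maximalIdeal R, (1 + x) ^ (p ^ n) = 1 := by
  obtain ⟨k, hk⟩ := IsArtinianRing.isNilpotent_jacobson_bot (R := R)
  rw [IsLocalRing.jacobson_eq_maximalIdeal _ bot_ne_top] at hk
  refine ⟨k, fun x hx => ?_⟩
  set m := IsLocalRing.maximalIdeal R
  have key : ∀ n : ℕ, (1 + x) ^ (p ^ n) - 1 ∈ m ^ (n + 1) := by
    intro n
    induction n with
    | zero => simpa using hx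
    | succ n ih =>
      set a := (1 + x) ^ (p ^ n) with ha
      have ham : a - 1 ∈ m := Ideal.pow_le_self (Nat.succ_ne_zero n) ih
      rw [pow_succ p n, pow_mul, ← ha, ← mul_geom_sum a p, pow_succ m (n + 1)]
      refine Ideal.mul_mem_mul ih ?_
      rw [← Ideal.Quotient.eq_zero_iff_mem, map_sum]
      have h1 : Ideal.Quotient.mk m a = 1 := by
        rw [← sub_eq_zero, ← map_one (Ideal.Quotient.mk m), ← map_sub]
        exact Ideal.Quotient.eq_zero_iff_mem.2 ham
      have h2 : (Ideal.Quotient.mk m) (p : R) = 0 := Ideal.Quotient.eq_zero_iff_mem.2 hpm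
      simp only [map_pow, h1, one_pow, Finset.sum_const, Finset.card_range, nsmul_one]
      rw [← map_natCast (Ideal.Quotient.mk m)]
      exact h2
  have := Ideal.pow_le_pow_right (Nat.le_succ k) (key k)
  rw [hk] at this
  exact sub_eq_zero.1 (by simpa using this)

end Groth.Agent.S15495
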