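import Groth.Statements.S15496
import Mathlib


set_option autoImplicit false
universe u
open CAlg

namespace Groth.Agent.S15496

/-- Let R be a local ring with maximal ideal m, p a prime number lying in m, and suppose the residue
field of R is perfect, i.e. every element is a p-th power; let n ≥ 0. Then every unit of R is the
product of a p^n-th power of a unit and an element of 1 + m, and an element of 1 + m which is a
p^n-th power of a unit is a p^n-th power of an element of 1 + m; so the inclusion of 1 + m in the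
unit group induces a bijection between (1 + m)/(1 + m)^(p^n) and Rˣ/(Rˣ)^(p^n). (The published text
derives this equality of quotients, inside a proof, from perfectness of the base field K for all
Artinian local algebras over its Witt ring, whose residue fields need not be perfect; this row
assumes the residue field of R perfect of characteristic p, which the equality needs, and does not
assume R Artinian.) -/
theorem result
    (R : Type u) [CommRing R] [IsLocalRing R] (p : ℕ) (hp : p.Prime)
    (hpm : (p : R) ∈ IsLocalRing.maximalIdeal R)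
    (hperf : ∀ a : IsLocalRing.ResidueField R, ∃ b : IsLocalRing.ResidueField R, b ^ p = a)
    (n : ℕ) :
    (∀ u : Rˣ, ∃ v : Rˣ, ∃ x ∈ IsLocalRing.maximalIdeal R, (u : R) = (v : R) ^ (p ^ n) * (1 + x)) ∧
    (∀ x ∈ IsLocalRing.maximalIdeal R, (∃ v : Rˣ, (v : R) ^ (p ^ n) = 1 + x) →
      ∃ y ∈ IsLocalRing.maximalIdeal R, (1 + y) ^ (p ^ n) = 1 + x) := by
  have hperfn : ∀ m : ℕ, ∀ a : IsLocalRing.ResidueField R, ∃ b, b ^ p ^ m = a := by
    intro m
    induction m with
    | zero => exact fun a => ⟨a, by simp⟩
    | succ m ih =>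
      intro a
      obtain ⟨c, rfl⟩ := hperf a
      obtain ⟨b, rfl⟩ := ih c
      exact ⟨b, by rw [← pow_mul, pow_succ]⟩
  have : Fact p.Prime := ⟨hp⟩
  have : CharP (IsLocalRing.ResidueField R) p := by
    exact (CharP.charP_iff_prime_eq_zero hp).2
      (by rw [← map_natCast (IsLocalRing.residue R)]; exact (IsLocalRing.residue_eq_zero_iff _).2 hpm)
  refine ⟨fun u => ?_, fun x hx ⟨v, hv⟩ => ?_⟩
  · obtain ⟨b, hb⟩ := hperfn n (IsLocalRing.residue R u)
    obtain ⟨v, rfl⟩ := Ideal.Quotient.mk_surjective b
    have hvu : IsUnit (v ^ p ^ n) := by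
      refine IsLocalRing.notMem_maximalIdeal.1 fun h => ?_
      have : IsLocalRing.residue R (v ^ p ^ n) = 0 := (IsLocalRing.residue_eq_zero_iff _).2 h
      rw [map_pow] at this
      exact (IsLocalRing.notMem_maximalIdeal.2 u.isUnit) ((IsLocalRing.residue_eq_zero_iff _).1 (hb ▸ this))
    have hv : IsUnit v := (isUnit_pow_iff (pow_ne_zero n hp.ne_zero)).1 hvu
    refine ⟨hv.unit, ((hv.unit ^ p ^ n)⁻¹ : Rˣ) * u - 1, ?_, ?_⟩
    · have e : ((hv.unit ^ p ^ n)⁻¹ : Rˣ) * (u : R) - 1 =
          ((hv.unit ^ p ^ n)⁻¹ : Rˣ) * ((u : R) - v ^ p ^ n) := by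
        have h' : v ^ p ^ n = ((hv.unit ^ p ^ n : Rˣ) : R) := by simp
        rw [mul_sub, h', Units.inv_mul]
      rw [e]
      refine Ideal.mul_mem_left _ _ ((IsLocalRing.residue_eq_zero_iff _).1 ?_)
      rw [map_sub, map_pow]
      exact sub_eq_zero.2 hb.symm
    · rw [add_sub_cancel, ← mul_assoc, ← Units.val_pow_eq_pow_val, Units.mul_inv, one_mul]
  · refine ⟨(v : R) - 1, ?_, by rwa [add_sub_cancel]⟩
    refine (IsLocalRing.residue_eq_zero_iff _).1 (eq_zero_of_pow_eq_zero (n := p ^ n) ?_)
    rw [map_sub, map_one, sub_pow_char_pow, one_pow, ← map_pow, hv, map_add, map_one,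
      (IsLocalRing.residue_eq_zero_iff _).2 hx]
    simp

end Groth.Agent.S15496
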