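import Groth.Statements.S15498
import Mathlib.Algebra.Order.BigOperators.Group.Finset
import Mathlib.Algebra.BigOperators.Intervals
import Mathlib.Algebra.BigOperators.Ring.Finset
import Mathlib.Tactic.Ring
import Mathlib.Tactic.Linarith

set_option autoImplicit false
open NewtonPoly

namespace Groth.Agent.S15498

open Finset in
theorem card_fibres (m n : ℕ) :
    ((Finset.range (m + n + 1) ×ˢ Finset.range (m + 1)).filter
      (fun ij : ℕ × ℕ => ij.1 ≤ ij.2 + n ∧ ij.2 * (m + n) < ij.1 * m)).card
    = ∑ i ∈ range (m + n + 1), ((range (m + 1)).filter fun j => i ≤ j + n ∧ j * (m + n) < i * m).card := by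
  rw [card_filter, sum_product]
  exact Finset.sum_congr rfl fun i _ => (card_filter _ _).symm

open Finset in
theorem fibre_add (m n : ℕ) (hm : 0 < m) (hn : 0 < n) (hmn : Nat.Coprime m n) (i : ℕ) (hi : i < m + n) :
    ((range (m + 1)).filter fun j => i ≤ j + n ∧ j * (m + n) < i * m).card + (i - n)
      = if i = 0 then 0 else i * m / (m + n) + 1 := by
  split_ifs with h0
  · subst h0; simp
  have h : 0 < m + n := by omega
  have hcop : Nat.Coprime (m + n) m := by simpa [Nat.coprime_comm] using hmn.symm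
  have hlt : i * m / (m + n) * (m + n) < i * m := by
    rcases (Nat.div_mul_le_self (i * m) (m + n)).lt_or_eq with hh | hh
    · exact hh
    · exfalso
      have : m + n ∣ i := hcop.dvd_of_dvd_mul_right ⟨_, by rw [mul_comm (m + n)]; exact hh.symm⟩
      exact absurd (Nat.le_of_dvd (by omega) this) (by omega)
  have hq : i * m / (m + n) < m := by
    rw [Nat.div_lt_iff_lt_mul h]
    nlinarith
  have hin : i - n ≤ i * m / (m + n) := by
    rw [Nat.le_div_iff_mul_le h]
    rcases Nat.le_total i n with hh | hh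
    · simp [Nat.sub_eq_zero_of_le hh]
    · zify [hh]; nlinarith
  have : ((range (m + 1)).filter fun j => i ≤ j + n ∧ j * (m + n) < i * m)
      = Ico (i - n) (i * m / (m + n) + 1) := by
    ext j
    simp only [mem_filter, mem_range, mem_Ico]
    constructor
    · rintro ⟨-, h1, h2⟩
      refine ⟨by omega, Nat.lt_succ_of_le ?_⟩
      rw [Nat.le_div_iff_mul_le h]; exact h2.le
    · rintro ⟨h1, h2⟩
      refine ⟨by omega, by omega, lt_of_le_of_lt (Nat.mul_le_mul_right _ (Nat.lt_succ_iff.mp h2)) hlt⟩
  rw [this, Nat.card_Ico]; omega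

open Finset in
theorem floor_pair (m n : ℕ) (hmn : Nat.Coprime m n) (i : ℕ) (h1 : 0 < i) (h2 : i < m + n) :
    i * m / (m + n) + (m + n - i) * m / (m + n) + 1 = m := by
  have h : 0 < m + n := by omega
  have hcop : Nat.Coprime (m + n) m := by simpa [Nat.coprime_comm] using hmn.symm
  have hne : i * m % (m + n) ≠ 0 := fun e => by
    have : m + n ∣ i := hcop.dvd_of_dvd_mul_right (Nat.dvd_of_mod_eq_zero e)
    exact absurd (Nat.le_of_dvd h1 this) (by omega)
  have e1 := Nat.div_add_mod (i * m) (m + n)
  have e2 := Nat.div_add_mod ((m + n - i) * m) (m + n)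
  have l1 := Nat.mod_lt (i * m) h
  have l2 := Nat.mod_lt ((m + n - i) * m) h
  have es : i * m + (m + n - i) * m = (m + n) * m := by rw [← add_mul, Nat.add_sub_cancel' h2.le]
  generalize i * m / (m + n) = a at *
  generalize (m + n - i) * m / (m + n) = b at *
  generalize i * m % (m + n) = r at *
  generalize (m + n - i) * m % (m + n) = s at *
  rcases Nat.lt_trichotomy (a + b + 1) m with hh | hh | hh
  · nlinarith [Nat.mul_le_mul_left (m + n) (Nat.succ_le_of_lt hh)]
  · exact hh
  · nlinarith [Nat.mul_le_mul_left (m + n) (Nat.succ_le_of_lt hh), Nat.pos_of_ne_zero hne]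

/-- Let m, n ≥ 1 be coprime, h = m + n, δ the segment from (0,0) to (h,m) (the isoclinic Newton polygon
of slope m/h) and ρ the ordinary polygon with n slopes 0 followed with m slopes 1, so ρ(i) = max(0,
i − n). The integer points (i,j), 0 ≤ i ≤ h, on or above ρ and strictly below δ — that is max(0, i −
n) ≤ j and j·h < i·m — are (m−1)(n−1)/2 + (m+n−1) in number (which equals mn − r for r =
(m−1)(n−1)/2). (The published text works under m ≥ n > 0 coprime; the inequality m ≥ n is not used
and not assumed.) -/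
theorem result
    (m n : ℕ) (hm : 0 < m) (hn : 0 < n) (hmn : Nat.Coprime m n) :
    ((Finset.range (m + n + 1) ×ˢ Finset.range (m + 1)).filter
      (fun ij : ℕ × ℕ => ij.1 ≤ ij.2 + n ∧ ij.2 * (m + n) < ij.1 * m)).card
      = (m - 1) * (n - 1) / 2 + (m + n - 1) := by
  open Finset in
  rw [card_fibres, sum_range_succ]
  have htop : ((Finset.range (m + 1)).filter fun j => m + n ≤ j + n ∧ j * (m + n) < (m + n) * m) = ∅ := by
    rw [Finset.filter_eq_empty_iff]
    intro j hj
    rw [Finset.mem_range] at hj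
    rintro ⟨h1, h2⟩
    obtain rfl : j = m := by omega
    exact absurd h2 (by rw [mul_comm]; exact lt_irrefl _)
  rw [htop, Finset.card_empty, add_zero]
  generalize hF : (fun i => ((Finset.range (m + 1)).filter fun j => i ≤ j + n ∧ j * (m + n) < i * m).card) = F
  have hsum : ∑ i ∈ Finset.range (m + n), (F i + (i - n))
      = ∑ i ∈ Finset.range (m + n), (if i = 0 then 0 else i * m / (m + n) + 1) :=
    Finset.sum_congr rfl fun i hi => by rw [← hF]; exact fibre_add m n hm hn hmn i (Finset.mem_range.mp hi)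
  rw [Finset.sum_add_distrib] at hsum
  have hA : ∀ N : ℕ, 2 * ∑ i ∈ Finset.range N, (i - n) = (N - n) * (N - n - 1) := by
    intro N
    induction N with
    | zero => simp
    | succ N ih =>
      rw [Finset.sum_range_succ, mul_add, ih]
      rcases Nat.lt_or_ge N n with h | h
      · simp [Nat.sub_eq_zero_of_le h.le, Nat.sub_eq_zero_of_le (Nat.succ_le_of_lt h)]
      · obtain ⟨t, rfl⟩ : ∃ t, N = n + t := ⟨N - n, by omega⟩
        rw [Nat.add_sub_cancel_left, show n + t + 1 - n = t + 1 by omega, Nat.add_sub_cancel]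
        rcases t with _ | t
        · simp
        · rw [Nat.add_sub_cancel]; ring
  have hB : ∑ i ∈ Finset.range (m + n), (if i = 0 then 0 else i * m / (m + n) + 1)
      = ∑ i ∈ Finset.Ico 1 (m + n), (i * m / (m + n) + 1) := by
    rw [Finset.range_eq_Ico, Finset.sum_eq_sum_Ico_succ_bot (by omega : 0 < m + n), if_pos rfl, zero_add]
    exact Finset.sum_congr rfl fun i hi => if_neg (by rw [Finset.mem_Ico] at hi; omega)
  have hC : 2 * ∑ i ∈ Finset.Ico 1 (m + n), (i * m / (m + n) + 1) = (m + n - 1) * (m + 1) := by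
    have hr := Finset.sum_Ico_reflect (fun i => i * m / (m + n) + 1) 1 (m := m + n) (n := m + n) (by omega)
    rw [show m + n + 1 - (m + n) = 1 by omega, Nat.add_sub_cancel] at hr
    have hpair : ∑ i ∈ Finset.Ico 1 (m + n), ((m + n - i) * m / (m + n) + 1)
        + ∑ i ∈ Finset.Ico 1 (m + n), (i * m / (m + n) + 1) = (m + n - 1) * (m + 1) := by
      rw [← Finset.sum_add_distrib, Finset.sum_congr rfl (g := fun _ => m + 1), Finset.sum_const, Nat.card_Ico, Nat.nsmul_eq_mul]
      intro i hi
      rw [Finset.mem_Ico] at hi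
      have := floor_pair m n hmn i (by omega) hi.2
      omega
    rw [hr] at hpair
    omega
  have hA' := hA (m + n)
  rw [Nat.add_sub_cancel] at hA'
  rw [hB] at hsum
  obtain ⟨a, rfl⟩ : ∃ a, m = a + 1 := ⟨m - 1, by omega⟩
  obtain ⟨b, rfl⟩ : ∃ b, n = b + 1 := ⟨n - 1, by omega⟩
  simp only [Nat.add_sub_cancel] at hA' hC ⊢
  rw [show a + 1 + (b + 1) - 1 = a + b + 1 by omega] at hC ⊢
  generalize (Finset.range (a + 1 + (b + 1))).sum F = P at *
  generalize ∑ i ∈ Finset.range (a + 1 + (b + 1)), (i - (b + 1)) = Q at *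
  generalize ∑ i ∈ Finset.Ico 1 (a + 1 + (b + 1)), (i * (a + 1) / (a + 1 + (b + 1)) + 1) = S at *
  have e : 2 * P = a * b + 2 * (a + b + 1) := by nlinarith
  omega

end Groth.Agent.S15498
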