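import Groth.Statements.S15499
import Mathlib
import Groth.Agent.Lib.Horrocks.Main

set_option autoImplicit false
open Polynomial LaurentPolynomial
open scoped TensorProduct
universe u
open CAlg

namespace Groth.Agent.S15499

open LaurentPolynomial in
theorem free_cover {R : Type u} [CommRing R] (P : Type u) [AddCommGroup P] [Module R P]
    [Module.Finite R P] [Module.Projective R P] :
    ∃ (n : ℕ) (g : Fin n → R), Ideal.span (Set.range g) = ⊤ ∧
      ∀ i, Module.Free (Localization.Away (g i)) (LocalizedModule.Away (g i) P) := by
  classical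
  haveI : Module.FinitePresentation R P := Module.finitePresentation_of_projective _ _
  have h : ∀ p : PrimeSpectrum R, ∃ r ∈ p.asIdeal.primeCompl,
      Module.Free (Localization.Away r) (LocalizedModule.Away r P) := by
    intro p
    have hp : p ∈ Module.freeLocus R P := by rw [Module.freeLocus_eq_univ]; trivial
    haveI : Module.Free (Localization.AtPrime p.asIdeal) (LocalizedModule.AtPrime p.asIdeal P) := hp
    obtain ⟨r, hr, hf, -⟩ := Module.FinitePresentation.exists_free_localizedModule_powers
      p.asIdeal.primeCompl (LocalizedModule.mkLinearMap p.asIdeal.primeCompl P)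
      (Localization.AtPrime p.asIdeal)
    exact ⟨r, hr, hf⟩
  choose r hr hf using h
  have htop : Ideal.span (Set.range r) = ⊤ := by
    by_contra hne
    obtain ⟨m, hm, hle⟩ := Ideal.exists_le_maximal _ hne
    exact hr ⟨m, hm.isPrime⟩ (hle (Ideal.subset_span ⟨_, rfl⟩))
  obtain ⟨t, hts, ht⟩ := Submodule.mem_span_finite_of_mem_span
    (show (1 : R) ∈ Ideal.span (Set.range r) by rw [htop]; trivial)
  refine ⟨t.card, fun i => (t.equivFin.symm i : R), ?_, fun i => ?_⟩
  · rw [Ideal.eq_top_iff_one]
    refine Ideal.span_mono ?_ ht
    intro x hx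
    exact ⟨t.equivFin ⟨x, hx⟩, by simp⟩
  · obtain ⟨p, hp⟩ := hts (t.equivFin.symm i).2
    have := hf p
    rw [hp] at this
    exact this

theorem free_ext {R : Type u} [CommRing R] (P : Type u) [AddCommGroup P] [Module R P] (g : R)
    (M : Type u) [AddCommGroup M] [Module R[X] M] (φ : M ≃ₗ[R[X]] (R[X] ⊗[R] P))
    (hg : Module.Free (Localization.Away g) (LocalizedModule.Away g P)) :
    Module.Free (Localization.Away (Polynomial.C g : R[X]))
      (LocalizedModule (Submonoid.powers (Polynomial.C g : R[X])) M) := by
  let L := Localization.Away (Polynomial.C g : R[X])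
  let ψ : Localization.Away g →+* L := IsLocalization.Away.lift g
    (g := (algebraMap R[X] L).comp Polynomial.C)
    (IsLocalization.Away.algebraMap_isUnit (Polynomial.C g))
  letI : Algebra (Localization.Away g) L := ψ.toAlgebra
  haveI : IsScalarTower R (Localization.Away g) L := IsScalarTower.of_algebraMap_eq fun x => by
    rw [RingHom.algebraMap_toAlgebra]
    simp [ψ, IsLocalization.Away.lift_eq, IsScalarTower.algebraMap_apply R R[X] L]
  haveI : Module.Free (Localization.Away g) (Localization.Away g ⊗[R] P) :=
    Module.Free.of_equiv (LocalizedModule.equivTensorProduct (Submonoid.powers g) P)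
  let E : (L ⊗[Localization.Away g] (Localization.Away g ⊗[R] P)) ≃ₗ[L]
      LocalizedModule (Submonoid.powers (Polynomial.C g : R[X])) M :=
    (TensorProduct.AlgebraTensorModule.cancelBaseChange R (Localization.Away g) L L P).trans
      ((TensorProduct.AlgebraTensorModule.cancelBaseChange R R[X] L L P).symm.trans
        ((LinearEquiv.baseChange R[X] L M (R[X] ⊗[R] P) φ).symm.trans
          (LocalizedModule.equivTensorProduct _ M).symm))
  exact Module.Free.of_equiv E


/-- Let S = Spec R be a smooth connected affine complex variety, so that R is a finitely generated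
smooth ℂ-algebra and an integral domain, and let F be a locally free sheaf of finite rank on the
projective line over S, presented by its two standard charts: a finitely generated projective
R[X]-module P on the affine line over S, a finitely generated projective R[X]-module P' on the chart
at infinity, and an identification of their base changes to R[X, X⁻¹] that is additive, bijective
and semilinear over the R-algebra involution X ↦ X⁻¹. Then S is covered by basic open sets D(g_1),
…, D(g_n) such that F restricted to the affine line over each D(g_i) is free: the localisation of P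
at g_i is a free module over the localisation of R[X] at g_i. -/
theorem result
    (R : Type u) [CommRing R] [IsDomain R] [Algebra ℂ R] [Algebra.FiniteType ℂ R]
    [Algebra.Smooth ℂ R]
    (P : Type u) [AddCommGroup P] [Module R[X] P] [Module.Finite R[X] P]
    [Module.Projective R[X] P]
    (P' : Type u) [AddCommGroup P'] [Module R[X] P'] [Module.Finite R[X] P']
    [Module.Projective R[X] P']
    (e : R[T;T⁻¹] ⊗[R[X]] P ≃+ R[T;T⁻¹] ⊗[R[X]] P')
    (he : ∀ (a : R[T;T⁻¹]) (m : R[T;T⁻¹] ⊗[R[X]] P),
      e (a • m) = LaurentPolynomial.invert a • e m) :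
    ∃ (n : ℕ) (g : Fin n → R), Ideal.span (Set.range g) = ⊤ ∧
      ∀ i, Module.Free (Localization.Away (Polynomial.C (g i) : R[X]))
        (LocalizedModule (Submonoid.powers (Polynomial.C (g i) : R[X])) P) := by
  classical
  let f : (R[T;T⁻¹] ⊗[R[X]] P) →ₛₗ[(LaurentPolynomial.invert (R := R)).toRingEquiv.toRingHom]
      (R[T;T⁻¹] ⊗[R[X]] P') :=
    { toFun := e, map_add' := e.map_add, map_smul' := fun a m => he a m }
  obtain ⟨Q, hQ1, hQ2, ⟨φ⟩⟩ :=
    GrothLib.Horrocks.extended_of_extends_to_P1 R P P' f e.bijective
  obtain ⟨m, π, i, -, -, hπi⟩ := Module.Finite.exists_comp_eq_id_of_projective R[X] P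
  let ρ : (R[X] ⊗[R] Q) →ₗ[R] Q :=
    (TensorProduct.lid R Q).toLinearMap.comp ((Polynomial.lcoeff R 0).rTensor Q)
  let j : Q →ₗ[R] (R[X] ⊗[R] Q) := TensorProduct.mk R R[X] Q 1
  have hρj : ρ.comp j = LinearMap.id := by
    ext x; simp [ρ, j]
  haveI : Module.Projective R Q := by
    refine Module.Projective.of_split (R := R) (M := Fin m → R[X])
      (((i.comp φ.symm.toLinearMap).restrictScalars R).comp j)
      (ρ.comp ((φ.toLinearMap.comp π).restrictScalars R)) ?_
    refine LinearMap.ext fun x => ?_
    simp only [LinearMap.comp_apply, LinearMap.coe_restrictScalars, LinearEquiv.coe_coe,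
      LinearMap.id_coe, id_eq]
    rw [show π (i (φ.symm (j x))) = φ.symm (j x) from LinearMap.congr_fun hπi _,
      LinearEquiv.apply_symm_apply]
    exact LinearMap.congr_fun hρj x
  haveI : Module.Finite R[X] (R[X] ⊗[R] Q) := Module.Finite.equiv φ
  haveI : Module.Finite R Q := Module.Finite.of_finite_tensorProduct_of_faithfullyFlat R[X]
  obtain ⟨n, g, hg, hfree⟩ := free_cover (R := R) Q
  exact ⟨n, g, hg, fun i => free_ext Q (g i) P φ (hfree i)⟩

end Groth.Agent.S15499
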