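import Groth.Statements.S9694
import Groth.Agent.Lib.AffLocus9.Basic
import Groth.Agent.Lib.Ample.RelAmple
import Groth.Agent.Lib.Ample.CocPullback
import Groth.Agent.Lib.RLpsi8.Immersion

set_option autoImplicit false
universe u
open CategoryTheory CategoryTheory.Limits AlgebraicGeometry
open Mor

namespace Groth.Agent.S9694

/-- Let f : X ⟶ S be universally closed, L an O_X-module ample relative to f and s a global section of
L, viewed as a morphism O_X ⟶ L. Then the open subscheme X_s of X where s generates L is affine over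
S: the inclusion of X_s followed by f is an affine morphism. -/
theorem result {X S : Scheme.{u}} (f : X ⟶ S) [UniversallyClosed f]
    (L : X.Modules) (hL : RelAmple.IsRelAmple f L) (s : Coh.structureModule X ⟶ L) :
    IsAffineHom ((CohB1.genLocus L s).ι ≫ f) := by
  have hinv := GrothLib.Ample.isInvertible_of_isRelAmple hL
  obtain ⟨c, ⟨φ⟩⟩ := GrothLib.Ample.exists_cocycle hinv
  obtain ⟨a, ha⟩ := c.exists_sect_of_section φ s
  refine ⟨fun V hV => ?_⟩
  haveI := hL.1
  let W : X.Opens := f ⁻¹ᵁ V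
  haveI : CompactSpace (W : Scheme.{u}) := isCompact_iff_compactSpace.mp (f.isCompact_preimage hV.isCompact)
  obtain ⟨d⟩ := c.nonempty_restrict_iso W.ι φ
  obtain ⟨-, hamp⟩ := ((c.comap W.ι).isAmple_iff d).mp (hL.2 ⟨V, hV⟩)
  haveI : IsAffine (V : Scheme.{u}) := hV
  haveI : UniversallyClosed (f ∣_ V) := IsZariskiLocalAtTarget.restrict (P := @UniversallyClosed) inferInstance V
  let a' := c.pullSect W.ι (le_top : (⊤ : (W : Scheme.{u}).Opens) ≤ W.ι ⁻¹ᵁ ⊤) a
  have h1 : IsAffineOpen ((c.comap W.ι).locus a') := GrothLib.AffLocus9.isAffineOpen_locus (c.comap W.ι) (f ∣_ V) hamp a'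
  have e : (c.comap W.ι).locus a' = W.ι ⁻¹ᵁ CohB1.genLocus L s := by
    rw [← ha]
    exact c.locus_pullSect W.ι a
  rw [e] at h1
  have h2 := h1.image_of_isOpenImmersion W.ι
  rw [Scheme.Hom.image_preimage_eq_opensRange_inf, Scheme.Opens.opensRange_ι] at h2
  rw [Scheme.Hom.comp_preimage]
  apply (Scheme.Hom.isAffineOpen_iff_of_isOpenImmersion (CohB1.genLocus L s).ι).mp
  rw [Scheme.Hom.image_preimage_eq_opensRange_inf, Scheme.Opens.opensRange_ι, inf_comm]
  exact h2

end Groth.Agent.S9694
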