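import Groth.Statements.S15500
import Groth.Agent.S12128
import Groth.Agent.S9694
import Groth.Agent.Lib.Euler.AmpleExists
import Groth.Agent.Lib.KSix19.ProjPush.Divisorial
import Groth.Agent.Lib.RelDiv.Sum
import Groth.Agent.Lib.CurveStk.Smooth
import Groth.Agent.Lib.CodimExt27.Basic
import Groth.Agent.Lib.CurveLocus.Basic
import Groth.Agent.Lib.Chow.Prod

set_option autoImplicit false
open CategoryTheory AlgebraicGeometry
open An

namespace Groth.Agent.S15500

universe u
open CategoryTheory.Limits GrothLib

variable {X S : Scheme.{u}} (f : X ⟶ S)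

/-- A fibre dominated by an irreducible geometric fibre of dimension one. -/
theorem fibre_facts [LocallyOfFiniteType f]
    (hgeom : ∀ (Ω : Type u) [Field Ω] [IsAlgClosed Ω] (σ : Spec (CommRingCat.of Ω) ⟶ S),
      IrreducibleSpace ↥(pullback f σ) ∧ topologicalKrullDim ↥(pullback f σ) = 1) (s : S) :
    IrreducibleSpace ↥(f.fiber s) ∧ topologicalKrullDim ↥(f.fiber s) = 1 := by
  let Ω := AlgebraicClosure (S.residueField s)
  let φ := Spec.map (CommRingCat.ofHom (algebraMap (S.residueField s) Ω))
  obtain ⟨hirr, hd⟩ := hgeom Ω (φ ≫ S.fromSpecResidueField s)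
  let g : pullback f (φ ≫ S.fromSpecResidueField s) ⟶ f.fiber s :=
    pullback.lift (pullback.fst _ _) (pullback.snd _ _ ≫ φ)
      (by rw [Category.assoc]; exact pullback.condition)
  have H : IsPullback g (pullback.snd f _) (f.fiberToSpecResidueField s) φ := by
    refine IsPullback.of_right ?_ (pullback.lift_snd _ _ _)
      (IsPullback.of_hasPullback f (S.fromSpecResidueField s))
    erw [pullback.lift_fst]
    exact IsPullback.of_hasPullback f _
  haveI : LocallyOfFiniteType (f.fiberToSpecResidueField s) := MorphismProperty.pullback_snd f _ ‹_›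
  refine ⟨?_, (CurveLocus.topologicalKrullDim_of_isPullback (k := S.residueField s)
    (f.fiberToSpecResidueField s) H).symm.trans hd⟩
  have hφ : Surjective φ := CurveLocus.surjective_to_spec_field _
  have hg : Surjective g := MorphismProperty.of_isPullback H.flip hφ
  rw [irreducibleSpace_def]
  have := ((irreducibleSpace_def _).1 hirr).image g g.continuous.continuousOn
  rwa [Set.top_eq_univ, Set.image_univ, g.surjective.range_eq] at this

theorem component_eq_univ {α : Type*} [TopologicalSpace α] [IrreducibleSpace α] {Z : Set α}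
    (hZ : Z ∈ irreducibleComponents α) : Z = Set.univ :=
  Set.eq_univ_of_univ_subset (hZ.2 (IrreducibleSpace.isIrreducible_univ α) (Set.subset_univ _))

theorem smooth_one [Smooth f]
    (hgeom : ∀ (Ω : Type u) [Field Ω] [IsAlgClosed Ω] (σ : Spec (CommRingCat.of Ω) ⟶ S),
      IrreducibleSpace ↥(pullback f σ) ∧ topologicalKrullDim ↥(pullback f σ) = 1) :
    SmoothOfRelativeDimension 1 f := by
  refine CurveStk.smoothOfRelativeDimension_of_fibreDim f 1 fun x => ?_
  obtain ⟨hirr, hd⟩ := fibre_facts f hgeom (f x)
  haveI : LocallyOfFiniteType (f.fiberToSpecResidueField (f x)) := MorphismProperty.pullback_snd f _ (inferInstance : LocallyOfFiniteType f)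
  exact @CodimExt27.localDim_eq_of_pure _ _ _ (f.fiberToSpecResidueField (f x)) this 1 (fun Z hZ => by
    rw [component_eq_univ hZ, IsHomeomorph.topologicalKrullDim_eq _ (Homeomorph.Set.univ _).isHomeomorph, hd]; norm_num) (f.asFiber x)

/-- The complement of a finite étale multisection of a curve with irreducible fibres is affine. -/
theorem isAffineHom_compl [IsProper f] [Smooth f]
    (hgeom : ∀ (Ω : Type u) [Field Ω] [IsAlgClosed Ω] (σ : Spec (CommRingCat.of Ω) ⟶ S),
      IrreducibleSpace ↥(pullback f σ) ∧ topologicalKrullDim ↥(pullback f σ) = 1)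
    {Y : Scheme.{u}} (i : Y ⟶ X) [IsClosedImmersion i] (hfin : IsFinite (i ≫ f)) (het : Etale (i ≫ f))
    (hsurj : Function.Surjective (i ≫ f).base) (U : X.Opens) (hU : (U : Set X) = (Set.range i.base)ᶜ)
    (hdense : ∀ s : S, ∃ x ∈ U, f x = s) : IsAffineHom (U.ι ≫ f) := by
  haveI := smooth_one f hgeom
  have hfl : Mor2.IsFinLocFree (i.ker.subschemeι ≫ f) := by
    have e : i.ker.subschemeι ≫ f = inv i.toImage ≫ (i ≫ f) := by
      rw [IsIso.eq_inv_comp, ← Category.assoc]
      congr 1
      exact i.toImage_imageι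
    haveI := hfin
    haveI := het
    rw [Mor2.IsFinLocFree, e]
    exact ⟨inferInstance, inferInstance, inferInstance⟩
  have hI := RelDiv.isEffCartierIdeal_of_isFinLocFree (f := f) hfl
  have hsupp : (i.ker.support : Set X) = (U : Set X)ᶜ := by
    rw [hU, compl_compl, Scheme.Hom.support_ker, i.isClosedEmbedding.isClosed_range.closure_eq]
  obtain ⟨L, s, hL, hs⟩ := KSix19.ProjPush.exists_section_of_effCartier i.ker hI U hsupp
  obtain ⟨c, ⟨e⟩⟩ := Ample.exists_cocycle hL
  obtain ⟨a, ha⟩ := c.exists_sect_of_section e s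
  rw [hs] at ha
  suffices hamp : RelAmple.IsRelAmple f L by
    have h := Groth.Agent.S9694.result f L hamp s
    rwa [hs] at h
  refine (Groth.Agent.S12128.result f L hL).2 fun t => ?_
  obtain ⟨hirr, hd⟩ := fibre_facts f hgeom t
  let ι := f.fiberι t
  letI : (f.fiber t).Over (Spec (CommRingCat.of (S.residueField t))) := ⟨f.fiberToSpecResidueField t⟩
  haveI : IsProper ((f.fiber t) ↘ Spec (CommRingCat.of (S.residueField t))) :=
    MorphismProperty.pullback_snd f _ ‹IsProper f›
  haveI := Euler.isNoetherian_of_proper (X := f.fiber t) (S.residueField t)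
  obtain ⟨d⟩ := c.nonempty_pullback_iso ι e
  refine (Ample.isAmple_iff_of_iso d).2 (Euler.isAmple_of_section (S.residueField t) hd.le (c.comap ι) (n := 0)
    (c.pullSect ι le_top a) (fun η hη => ?_) fun C hC hC1 => ?_)
  · rw [c.locus_pullSect, ha]
    obtain ⟨x, hxU, hxt⟩ := hdense t
    obtain ⟨z, hz⟩ : x ∈ Set.range ι := by rw [f.range_fiberι]; exact hxt
    have hcl : closure ({η} : Set ↥(f.fiber t)) = Set.univ := component_eq_univ hη
    refine (specializes_iff_mem_closure.2 (hcl ▸ Set.mem_univ z)).mem_open (ι ⁻¹ᵁ U).2 ?_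
    change ι z ∈ U
    rwa [hz]
  · obtain ⟨y, hy⟩ := hsurj t
    obtain ⟨z, hz⟩ : i y ∈ Set.range ι := by rw [f.range_fiberι]; exact hy
    refine ⟨z, component_eq_univ hC ▸ Set.mem_univ z, ?_⟩
    rw [c.locus_pullSect, ha]
    intro hzU
    have h : i y ∈ (U : Set X) := hz ▸ hzU
    rw [hU] at h
    exact h ⟨y, rfl⟩


/-- An elementary fibration f : X → S of smooth complex varieties is affine and surjective, elementary
fibration being taken in the following sense: f factors as an open immersion j : X → X̄ followed by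
f̄ : X̄ → S, where f̄ is smooth and is a closed subscheme of some projective space over S with
geometrically irreducible fibres of dimension one, the complement of j(X) is the image of a closed
immersion Y → X̄ with Y finite, etale and surjective over S, and j(X) is dense in every fibre of f̄
(for smooth complex varieties the last clause is automatic, and this is the usual notion: a smooth
projective family of irreducible curves minus a finite etale multisection). -/
theorem result (X S : Scheme.{0})
    [X.Over An.SC] [Smooth (X ↘ An.SC)] [IsSeparated (X ↘ An.SC)] [QuasiCompact (X ↘ An.SC)]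
    [S.Over An.SC] [Smooth (S ↘ An.SC)] [IsSeparated (S ↘ An.SC)] [QuasiCompact (S ↘ An.SC)]
    (f : X ⟶ S) [f.IsOver An.SC] (hf : An.IsElementaryFibration f) :
    IsAffineHom f ∧ Surjective f := by
  obtain ⟨Xb, Y, j, fb, i, hjf, hj, hi, hrange, hdense, hsm, ⟨N, c, hc, hcf⟩, hgeom, hfin, het, hsurj⟩ := hf
  haveI : IsProper fb := by
    haveI := Chow.isProper_toBase N S
    rw [← hcf]; infer_instance
  have hne : ∀ s : S, ∃ x ∈ j.opensRange, fb x = s := fun s => by
    obtain ⟨y, hy⟩ := hsurj s
    have h := hdense s (show i y ∈ fb.base ⁻¹' {s} from hy)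
    obtain ⟨x, hx1, hx2⟩ := (Set.nonempty_iff_ne_empty.2 fun h0 => by rw [h0, closure_empty] at h; exact h :
      (Set.range j.base ∩ fb.base ⁻¹' {s}).Nonempty)
    exact ⟨x, hx1, hx2⟩
  constructor
  · have h := isAffineHom_compl fb hgeom i hfin het hsurj j.opensRange hrange hne
    rw [← hjf, ← j.isoOpensRange_hom_ι, Category.assoc]
    infer_instance
  · refine ⟨fun s => ?_⟩
    obtain ⟨x, ⟨x', hx'⟩, hx⟩ := hne s
    refine ⟨x', ?_⟩
    rw [← hjf]
    show fb (j x') = s
    rw [← hx, ← hx']


end Groth.Agent.S15500
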