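import Groth.Statements.S15501
import Groth.Agent.Lib.AnPts.FibBC
-- import your own Groth.Agent.* helpers here

set_option autoImplicit false
open CategoryTheory CategoryTheory.Limits AlgebraicGeometry
open An

namespace Groth.Agent.S15501

/-- The base change of an elementary fibration f : X → S of smooth complex varieties along any morphism
u : S' → S of smooth complex varieties is an elementary fibration X ×_S S' → S', elementary
fibration being taken in the following sense: f factors as an open immersion j : X → X̄ followed by
f̄ : X̄ → S, where f̄ is smooth and is a closed subscheme of some projective space over S with
geometrically irreducible fibres of dimension one, the complement of j(X) is the image of a closed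
immersion Y → X̄ with Y finite, etale and surjective over S, and j(X) is dense in every fibre of f̄
(for smooth complex varieties the last clause is automatic, and this is the usual notion: a smooth
projective family of irreducible curves minus a finite etale multisection). (The published statement
also treats rational and coordinatised elementary fibrations; this row states only the plain case.) -/
theorem result (X S S' : Scheme.{0})
    [X.Over An.SC] [Smooth (X ↘ An.SC)] [IsSeparated (X ↘ An.SC)] [QuasiCompact (X ↘ An.SC)]
    [S.Over An.SC] [Smooth (S ↘ An.SC)] [IsSeparated (S ↘ An.SC)] [QuasiCompact (S ↘ An.SC)]
    [S'.Over An.SC] [Smooth (S' ↘ An.SC)] [IsSeparated (S' ↘ An.SC)] [QuasiCompact (S' ↘ An.SC)]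
    (f : X ⟶ S) [f.IsOver An.SC] (u : S' ⟶ S) [u.IsOver An.SC]
    (hf : An.IsElementaryFibration f) :
    An.IsElementaryFibration (pullback.snd f u) := GrothLib.AnPts.isElementaryFibration_pullback_snd f u hf

end Groth.Agent.S15501
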