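import Groth.Statements.S15504
import Mathlib

set_option autoImplicit false
universe u v
open FrobAlg

namespace Groth.Agent.S15504

theorem isArtinian_of_isTorsion {W : Type*} [CommRing W] [IsDomain W] [IsPrincipalIdealRing W]
    {M : Type*} [AddCommGroup M] [Module W M] [Module.Finite W M] (hM : Module.IsTorsion W M) :
    IsArtinian W M := by
  classical
  obtain ⟨a, ha, h0⟩ : ∃ a : W, a ≠ 0 ∧ ∀ x : M, a • x = 0 := by
    obtain ⟨s, hs⟩ := (Module.Finite.fg_top (R := W) (M := M))
    choose c hc using fun x : M => hM (x := x)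
    refine ⟨∏ x ∈ s, (c x : W), Finset.prod_ne_zero_iff.2 fun x _ => nonZeroDivisors.ne_zero (c x).2, fun x => ?_⟩
    have hx : x ∈ Submodule.span W (s : Set M) := hs ▸ trivial
    induction hx using Submodule.span_induction with
    | mem x hx =>
      rw [← Finset.prod_erase_mul _ _ hx, mul_smul, show ((c x : W)) • x = 0 from hc x, smul_zero]
    | zero => simp
    | add x y _ _ hx hy => rw [smul_add, hx, hy, add_zero]
    | smul b x _ hx => rw [smul_comm, hx, smul_zero]
  let I : Ideal W := Ideal.span {a}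
  haveI : IsArtinianRing (W ⧸ I) := isArtinian_of_tower W
    (isFiniteLength_iff_isNoetherian_isArtinian.1
      (isFiniteLength_quotient_span_singleton (R := W) (mem_nonZeroDivisors_of_ne_zero ha))).2
  have htor : Module.IsTorsionBySet W M (I : Set W) := fun x => by
    rintro ⟨b, hb⟩
    obtain ⟨d, rfl⟩ := Ideal.mem_span_singleton'.1 hb
    simp [mul_smul, h0]
  letI := htor.module
  haveI : IsScalarTower W (W ⧸ I) M := htor.isScalarTower
  haveI : Module.Finite (W ⧸ I) M := Module.Finite.of_restrictScalars_finite W (W ⧸ I) M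
  exact isArtinian_of_surjective_algebraMap (R := W ⧸ I) (S := W) Ideal.Quotient.mk_surjective


/-- Let k be an algebraically closed field of characteristic p, W = W(k) the ring of p-typical Witt
vectors, M a finitely generated torsion W-module and φ a p⁻¹-linear endomorphism of M (additive,
with φ(a·m) = σ⁻¹(a)·φ(m) for the Frobenius automorphism σ of W). Then M = M_s ⊕ M_n for two
φ-stable submodules, with φ bijective on M_s and nilpotent on M_n (one iterate of φ kills M_n). -/
theorem result (p : ℕ) [Fact p.Prime]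
    (k : Type u) [Field k] [CharP k p] [IsAlgClosed k]
    (M : Type v) [AddCommGroup M] [Module (WittVector p k) M] [Module.Finite (WittVector p k) M]
    (hM : Module.IsTorsion (WittVector p k) M)
    (φ : M →ₛₗ[((WittVector.frobeniusEquiv p k).symm : WittVector p k →+* WittVector p k)] M) :
    ∃ Ms Mn : Submodule (WittVector p k) M, IsCompl Ms Mn ∧
      Set.MapsTo φ Ms Ms ∧ Set.MapsTo φ Mn Mn ∧ Set.BijOn φ Ms Ms ∧
      ∃ r : ℕ, ∀ x ∈ Mn, (⇑φ)^[r] x = 0 := by
  classical
  haveI : IsArtinian (WittVector p k) M := isArtinian_of_isTorsion hM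
  have hadd : ∀ (n : ℕ) (x y : M), φ^[n] (x - y) = φ^[n] x - φ^[n] y := fun n x y => iterate_map_sub φ n x y
  let R : ℕ → Submodule (WittVector p k) M := fun n => (fun N => Submodule.map φ N)^[n] ⊤
  let K : ℕ → Submodule (WittVector p k) M := fun n => (fun N => Submodule.comap φ N)^[n] ⊥
  have hR : ∀ n x, x ∈ R n ↔ ∃ y, φ^[n] y = x := by
    intro n
    induction n with
    | zero => exact fun x => ⟨fun _ => ⟨x, rfl⟩, fun _ => trivial⟩
    | succ n ih =>
      intro x
      simp only [R, Function.iterate_succ']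
      change x ∈ Submodule.map φ (R n) ↔ _
      simp only [Submodule.mem_map, ih]
      exact ⟨fun ⟨_, ⟨y, rfl⟩, h⟩ => ⟨y, h⟩, fun ⟨y, h⟩ => ⟨_, ⟨y, rfl⟩, h⟩⟩
  have hK : ∀ n x, x ∈ K n ↔ φ^[n] x = 0 := by
    intro n
    induction n with
    | zero => exact fun x => Iff.rfl
    | succ n ih =>
      intro x
      simp only [K, Function.iterate_succ']
      change φ x ∈ K n ↔ _
      rw [ih, ← Function.iterate_succ_apply, Function.iterate_succ']
  have hRanti : Antitone R := antitone_nat_of_succ_le fun n x hx => by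
    obtain ⟨y, rfl⟩ := (hR _ x).1 hx
    exact (hR n _).2 ⟨φ y, (Function.iterate_succ_apply φ n y).symm⟩
  have hKmono : Monotone K := monotone_nat_of_le_succ fun n x hx => by
    rw [hK] at hx ⊢
    rw [Function.iterate_succ_apply', hx, map_zero]
  obtain ⟨N₁, h₁⟩ := IsArtinian.monotone_stabilizes (M := M) (R := WittVector p k) ⟨fun n => OrderDual.toDual (R n), hRanti⟩
  obtain ⟨N₂, h₂⟩ := monotone_stabilizes_iff_noetherian.2 (inferInstance : IsNoetherian (WittVector p k) M) ⟨K, hKmono⟩
  set N := max N₁ N₂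
  have hR' : ∀ m, N ≤ m → R m = R N := fun m hm => by
    have a := h₁ m (le_trans (le_max_left _ _) hm)
    have b := h₁ N (le_max_left _ _)
    exact OrderDual.toDual_inj.1 (a.symm.trans b)
  have hK' : ∀ m, N ≤ m → K m = K N := fun m hm => by
    have a := h₂ m (le_trans (le_max_right _ _) hm)
    have b := h₂ N (le_max_right _ _)
    exact a.symm.trans b
  have hdisj : ∀ x ∈ R N, x ∈ K N → x = 0 := by
    intro x hx hx'
    obtain ⟨y, rfl⟩ := (hR N x).1 hx
    rw [hK, ← Function.iterate_add_apply] at hx'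
    have := (hK _ y).2 hx'
    rw [hK' _ (by omega), hK] at this
    exact this
  have hmapsR : Set.MapsTo φ (R N) (R N) := fun x hx => by
    obtain ⟨y, rfl⟩ := (hR N x).1 hx
    exact (hR N _).2 ⟨φ y, by rw [← Function.iterate_succ_apply, Function.iterate_succ_apply']⟩
  have hmapsK : Set.MapsTo φ (K N) (K N) := fun x hx => (hK N _).2 <| by
    rw [← Function.iterate_succ_apply, Function.iterate_succ_apply', (hK N x).1 hx, map_zero]
  refine ⟨R N, K N, IsCompl.of_eq ?_ ?_, hmapsR, hmapsK, ⟨hmapsR, ?_, ?_⟩, N, fun x hx => (hK N x).1 hx⟩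
  · exact eq_bot_iff.2 fun x hx => hdisj x hx.1 hx.2
  · refine eq_top_iff.2 fun x _ => ?_
    have h := (hR N _).2 ⟨x, rfl⟩
    rw [← hR' (N + N) (by omega), hR] at h
    obtain ⟨y, hy⟩ := h
    rw [show x = φ^[N] y + (x - φ^[N] y) by abel]
    refine Submodule.add_mem_sup ((hR N _).2 ⟨y, rfl⟩) ((hK N _).2 ?_)
    rw [hadd, ← Function.iterate_add_apply, hy, sub_self]
  · intro x hx y hy hxy
    refine sub_eq_zero.1 (hdisj _ (Submodule.sub_mem _ hx hy) ?_)
    rw [← hK' (N + 1) (by omega), hK, Function.iterate_succ_apply, map_sub, hxy, sub_self, iterate_map_zero]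
  · intro x hx
    rw [SetLike.mem_coe, ← hR' (N + 1) (by omega), hR] at hx
    obtain ⟨y, hy⟩ := hx
    exact ⟨φ^[N] y, (hR N _).2 ⟨y, rfl⟩, by rw [← Function.iterate_succ_apply' φ N y]; exact hy⟩

end Groth.Agent.S15504
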