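import Groth.Statements.S15506
import Groth.Agent.Lib.Weight.GeomPoints
import Groth.Agent.Lib.EtBasicB.OverField
-- import your own Groth.Agent.* helpers here

set_option autoImplicit false
universe u
open CategoryTheory AlgebraicGeometry
open EtBase

namespace Groth.Agent.S15506

/-- Let k be a field, K an algebraic closure of k (an algebraically closed field algebraic over k), Ω a
field containing K, and Z a scheme étale over Spec k. Composition with Spec Ω → Spec K is a
bijection from the k-morphisms Spec K → Z onto the k-morphisms Spec Ω → Z: two k-morphisms Spec K →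
Z that agree on Spec Ω are equal, and every k-morphism Spec Ω → Z factors through Spec K. (The
published statement is the case where k has characteristic zero with a chosen embedding of its
algebraic closure into the complex numbers, Ω = ℂ, and Z is the scheme of isomorphisms between two
K3 surfaces over k, known there to be étale over k; this row states the fact about an arbitrary
étale k-scheme that the argument establishes.) -/
theorem result
    (k K Ω : Type u) [Field k] [Field K] [Field Ω] [Algebra k K] [IsAlgClosed K] [Algebra.IsAlgebraic k K]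
    [Algebra K Ω] [Algebra k Ω] [IsScalarTower k K Ω]
    (Z : Scheme.{u}) (f : Z ⟶ Spec (CommRingCat.of k)) [AlgebraicGeometry.Etale f] :
    (∀ g₁ g₂ : Spec (CommRingCat.of K) ⟶ Z,
        g₁ ≫ f = Spec.map (CommRingCat.ofHom (algebraMap k K)) →
        g₂ ≫ f = Spec.map (CommRingCat.ofHom (algebraMap k K)) →
        Spec.map (CommRingCat.ofHom (algebraMap K Ω)) ≫ g₁ = Spec.map (CommRingCat.ofHom (algebraMap K Ω)) ≫ g₂ →
        g₁ = g₂) ∧
    (∀ h : Spec (CommRingCat.of Ω) ⟶ Z, h ≫ f = Spec.map (CommRingCat.ofHom (algebraMap k Ω)) →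
        ∃ g : Spec (CommRingCat.of K) ⟶ Z, g ≫ f = Spec.map (CommRingCat.ofHom (algebraMap k K)) ∧
          Spec.map (CommRingCat.ofHom (algebraMap K Ω)) ≫ g = h) := by
  let j : CommRingCat.of K ⟶ CommRingCat.of Ω := CommRingCat.ofHom (algebraMap K Ω)
  constructor
  · intro g₁ g₂ _ _ h
    apply (Scheme.SpecToEquivOfField K Z).injective
    obtain ⟨⟨x₁, φ₁⟩, rfl⟩ := (Scheme.SpecToEquivOfField K Z).symm.surjective g₁
    obtain ⟨⟨x₂, φ₂⟩, rfl⟩ := (Scheme.SpecToEquivOfField K Z).symm.surjective g₂
    rw [Equiv.apply_symm_apply, Equiv.apply_symm_apply]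
    have h' : (Scheme.SpecToEquivOfField Ω Z).symm ⟨x₁, φ₁ ≫ j⟩ =
        (Scheme.SpecToEquivOfField Ω Z).symm ⟨x₂, φ₂ ≫ j⟩ := by
      simp only [Scheme.SpecToEquivOfField_symm_apply, Spec.map_comp, Category.assoc] at h ⊢
      exact h
    have := (Scheme.SpecToEquivOfField Ω Z).symm.injective h'
    obtain ⟨e, he⟩ := Scheme.SpecToEquivOfField_eq_iff.1 this
    refine Scheme.SpecToEquivOfField_eq_iff.2 ⟨e, ?_⟩
    ext a
    exact (algebraMap K Ω).injective (congrArg (fun m : _ ⟶ CommRingCat.of Ω => m.hom a) he)
  · intro h hh
    obtain ⟨⟨z, φ⟩, rfl⟩ := (Scheme.SpecToEquivOfField Ω Z).symm.surjective h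
    haveI : LocallyQuasiFinite f := GrothLib.EtBasicB.locallyQuasiFinite_of_unramified f
    have hfin := GrothLib.Weight.finite_residueFieldMap f z
    let x : Spec (CommRingCat.of k) := f z
    let ψ : CommRingCat.of k ⟶ (Spec (CommRingCat.of k)).residueField x :=
      CommRingCat.ofHom (algebraMap k x.asIdeal.ResidueField) ≫
        (Scheme.Spec.residueFieldIso (CommRingCat.of k) x).inv
    haveI : x.asIdeal.IsMaximal := by
      rcases Ideal.eq_bot_or_top x.asIdeal with h | h
      · rw [h]; exact Ideal.bot_isMaximal
      · exact absurd h x.isPrime.ne_top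
    have hψ : Function.Surjective ψ.hom :=
      ((ConcreteCategory.isIso_iff_bijective (Scheme.Spec.residueFieldIso (CommRingCat.of k) x).inv).1
        inferInstance).surjective.comp x.asIdeal.algebraMap_residueField_surjective
    have hψ' : Spec.map ψ = (Spec (CommRingCat.of k)).fromSpecResidueField x := by
      rw [Spec.map_comp]
      exact Scheme.Spec.map_residueFieldIso_inv_eq_fromSpecResidueField _ _
    have hk : ψ ≫ f.residueFieldMap z ≫ φ = CommRingCat.ofHom (algebraMap k Ω) := by
      apply Spec.map_injective
      rw [← hh, Spec.map_comp, Spec.map_comp, hψ', Category.assoc]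
      exact congrArg (_ ≫ ·) (f.SpecMap_residueFieldMap_fromSpecResidueField z) |>.trans
        (Category.assoc _ _ _).symm
    have hrange : ∀ a, φ.hom a ∈ (algebraMap K Ω).range := by
      intro a
      have h1 : ((algebraMap k Ω)).IsIntegralElem (φ.hom a) := by
        obtain ⟨P, hP, he⟩ := (RingHom.IsIntegral.trans ψ.hom (f.residueFieldMap z).hom
          (RingHom.isIntegral_of_surjective _ hψ) (RingHom.IsIntegral.of_finite hfin)) a
        refine ⟨P, hP, ?_⟩
        have := congrArg φ.hom he
        rw [map_zero, Polynomial.hom_eval₂, ← RingHom.comp_assoc] at this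
        rw [show algebraMap k Ω = (φ.hom.comp (f.residueFieldMap z).hom).comp ψ.hom from
          (congrArg CommRingCat.Hom.hom hk).symm]
        exact this
      have h2 : IsIntegral K (φ.hom a) := IsIntegral.tower_top (R := k) h1
      exact RingHom.mem_range.2 (minpoly.mem_range_of_degree_eq_one K _
        (IsAlgClosed.degree_eq_one_of_irreducible K (minpoly.irreducible h2)))
    let e := RingEquiv.ofLeftInverse (Function.leftInverse_invFun (algebraMap K Ω).injective)
    let φ' : Z.residueField z ⟶ CommRingCat.of K :=
      CommRingCat.ofHom (e.symm.toRingHom.comp (φ.hom.codRestrict _ hrange))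
    have hφ : φ' ≫ j = φ := by
      ext a
      exact congrArg Subtype.val (e.apply_symm_apply ⟨φ.hom a, hrange a⟩)
    refine ⟨(Scheme.SpecToEquivOfField K Z).symm ⟨z, φ'⟩, ?_, ?_⟩
    · have hk' : ψ ≫ f.residueFieldMap z ≫ φ' = CommRingCat.ofHom (algebraMap k K) := by
        ext a
        apply (algebraMap K Ω).injective
        refine (congrArg (fun m : _ ⟶ CommRingCat.of Ω => m.hom ((f.residueFieldMap z).hom (ψ.hom a))) hφ).trans ?_
        refine (congrArg (fun m : _ ⟶ CommRingCat.of Ω => m.hom a) hk).trans ?_
        exact IsScalarTower.algebraMap_apply k K Ω a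
      rw [← hk', Spec.map_comp, Spec.map_comp, hψ', Category.assoc,
        f.SpecMap_residueFieldMap_fromSpecResidueField]
      exact Category.assoc _ _ _
    · change Spec.map j ≫ Spec.map φ' ≫ _ = Spec.map φ ≫ _
      rw [← hφ, Spec.map_comp, Category.assoc]

end Groth.Agent.S15506
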