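import Groth.Statements.S15509
-- import your own Groth.Agent.* helpers here
import Mathlib
import Groth.Agent.Lib.AbMul.TorsionSections
import Groth.Agent.Lib.NormalExt.Basic
import Groth.Agent.Lib.RegLoc.Normal

set_option autoImplicit false
universe u
open CategoryTheory CategoryTheory.Limits MonoidalCategory CartesianMonoidalCategory MonObj AlgebraicGeometry
open AbSch

namespace Groth.Agent.S15509

/-- Let R be a regular local ring which is a domain and contains the rational numbers, with fraction
field K and residue field k, and let A be an abelian scheme over Spec R of relative dimension g (a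
commutative group scheme which is smooth and proper with geometrically connected fibres of dimension
g). Then for every integer m ≥ 1 the number of K-valued points of A over Spec R killed by m is at
most the number of k-valued points of A over Spec R killed by m: the m-torsion of the rational
points of the generic fibre is no larger than the m-torsion of the rational points of the closed
fibre. (The published statement is for an arbitrary Noetherian regular local ring R inside a paper
whose standing setting is schemes over the complex numbers; this row keeps from that setting only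
that R contains the rationals, which is what the printed argument uses to make the m-torsion
subgroup scheme étale over the base.) -/
theorem result
    (R : Type u) [CommRing R] [IsDomain R] [IsRegularLocalRing R] [Algebra ℚ R]
    (A : Over (Spec (CommRingCat.of R))) [GrpObj A] [IsCommMonObj A] (g : ℕ) (hA : AgPol.IsAbSch A g)
    (m : ℕ) (hm : 1 ≤ m) :
    Nat.card (AbDual.torsPts A m (Over.mk (Spec.map (CommRingCat.ofHom (algebraMap R (FractionRing R)))))) ≤
      Nat.card (AbDual.torsPts A m (Over.mk (Spec.map (CommRingCat.ofHom (IsLocalRing.residue R))))) := by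
  open CategoryTheory.MonoidalCategory CategoryTheory.CartesianMonoidalCategory CategoryTheory.MonObj CategoryTheory.GrpObj in
  haveI := hA.smooth
  haveI := hA.proper
  haveI := hA.geomConnected
  haveI := GrothLib.RegLoc.isIntegrallyClosed_of_isRegularLocalRing R
  have hu : IsUnit (m : R) := by
    have h0 : IsUnit (m : ℚ) := Ne.isUnit (by exact_mod_cast (show m ≠ 0 by omega))
    simpa using h0.map (algebraMap ℚ R)
  let K := FractionRing R
  let f := (𝟙 A ^ (m : ℤ)).left
  obtain ⟨hfin, -, -⟩ := GrothLib.AbMul.isFinite_etale_surjective_pow_relative A (m : ℤ)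
    (GrothLib.AbMul.isUnit_intCast_gamma hu)
  haveI : IsFinite f := hfin
  let e := (MonObj.one : 𝟙_ (Over (Spec (CommRingCat.of R))) ⟶ A).left
  let E := CategoryTheory.Limits.pullback f e
  let g : E ⟶ Spec (CommRingCat.of R) := CategoryTheory.Limits.pullback.snd f e
  haveI : IsFinite g := MorphismProperty.pullback_snd (P := @IsFinite) f e hfin
  haveI : IsAffine E := isAffine_of_isAffineHom g
  have he : e ≫ A.hom = 𝟙 _ := Over.w (MonObj.one : 𝟙_ (Over (Spec (CommRingCat.of R))) ⟶ A)
  have hfst : CategoryTheory.Limits.pullback.fst f e ≫ A.hom = g := by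
    have := congrArg (· ≫ A.hom) (CategoryTheory.Limits.pullback.condition (f := f) (g := e))
    simp only [Category.assoc, f, Over.w] at this
    exact this.trans ((congrArg (g ≫ ·) he).trans (Category.comp_id g))
  let jK := Spec.map (CommRingCat.ofHom (algebraMap R K))
  let jk := Spec.map (CommRingCat.ofHom (IsLocalRing.residue R))
  let liftE : ∀ {T : Over (Spec (CommRingCat.of R))} (a : T ⟶ A), a ^ m = 1 → (T.left ⟶ E) := fun {T} a ha =>
    CategoryTheory.Limits.pullback.lift a.left T.hom ((GrothLib.AbMul.pow_eq_one_iff_left m a).mp ha)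
  -- extend points of the generic fibre
  have hγ : (jK.appTop ≫ (Scheme.ΓSpecIso (CommRingCat.of K)).hom) =
      (Scheme.ΓSpecIso (CommRingCat.of R)).hom ≫ CommRingCat.ofHom (algebraMap R K) :=
    Scheme.ΓSpecIso_naturality _
  have hinj : Function.Injective (jK.appTop ≫ (Scheme.ΓSpecIso (CommRingCat.of K)).hom) := by
    rw [hγ]
    exact (IsFractionRing.injective R K).comp
      (Scheme.ΓSpecIso (CommRingCat.of R)).commRingCatIsoToRingEquiv.injective
  have hcl : ∀ y : K, (jK.appTop ≫ (Scheme.ΓSpecIso (CommRingCat.of K)).hom).hom.IsIntegralElem y →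
      ∃ a, (jK.appTop ≫ (Scheme.ΓSpecIso (CommRingCat.of K)).hom) a = y := by
    intro y hy
    rw [hγ] at hy
    obtain ⟨p, hp, hp0⟩ := hy
    have hy' : IsIntegral R y := ⟨p.map (Scheme.ΓSpecIso (CommRingCat.of R)).hom.hom, hp.map _, by
      rw [Polynomial.eval₂_map]; exact hp0⟩
    obtain ⟨a, rfl⟩ := IsIntegrallyClosed.isIntegral_iff.mp hy'
    refine ⟨(Scheme.ΓSpecIso (CommRingCat.of R)).inv a, ?_⟩
    rw [hγ]
    show algebraMap R K ((Scheme.ΓSpecIso (CommRingCat.of R)).commRingCatIsoToRingEquiv
      ((Scheme.ΓSpecIso (CommRingCat.of R)).commRingCatIsoToRingEquiv.symm a)) = _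
    rw [RingEquiv.apply_symm_apply]
  have hext : ∀ a : AbDual.torsPts A m (Over.mk jK), ∃ σ : Over.mk (𝟙 (Spec (CommRingCat.of R))) ⟶ A,
      σ ^ m = 1 ∧ jK ≫ σ.left = a.1.left := by
    intro a
    obtain ⟨u, hu1, hu2⟩ := GrothLib.NormalExt.exists_section_affine g jK (liftE a.1 a.2)
      (CategoryTheory.Limits.pullback.lift_snd _ _ _) hinj hcl
    refine ⟨Over.homMk (u ≫ CategoryTheory.Limits.pullback.fst f e) (by
      show (u ≫ CategoryTheory.Limits.pullback.fst f e) ≫ A.hom = 𝟙 _
      rw [Category.assoc, hfst, hu1]), ?_, ?_⟩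
    · refine (GrothLib.AbMul.pow_eq_one_iff_left m _).mpr ?_
      show (u ≫ CategoryTheory.Limits.pullback.fst f e) ≫ f = 𝟙 _ ≫ e
      rw [Category.assoc, CategoryTheory.Limits.pullback.condition, reassoc_of% hu1, Category.id_comp]
    · show jK ≫ u ≫ CategoryTheory.Limits.pullback.fst f e = a.1.left
      rw [reassoc_of% hu2]
      exact CategoryTheory.Limits.pullback.lift_fst _ _ _
  choose σ hσ1 hσ2 using hext
  let red : Over.mk jk ⟶ Over.mk (𝟙 (Spec (CommRingCat.of R))) := Over.homMk jk (Category.comp_id _)
  let Φ : AbDual.torsPts A m (Over.mk jK) → AbDual.torsPts A m (Over.mk jk) := fun a =>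
    ⟨red ≫ σ a, by
      show (red ≫ σ a) ^ m = 1
      rw [← MonObj.comp_pow, hσ1, MonObj.comp_one]⟩
  have hΦ : Function.Injective Φ := by
    intro a b hab
    have h1 : jk ≫ (σ a).left = jk ≫ (σ b).left := congrArg (fun c => c.1.left) hab
    have h2 := GrothLib.AbMul.eq_of_pow_eq_one_of_residue hu (σ a) (σ b) (hσ1 a) (hσ1 b) h1
    exact Subtype.ext (Over.OverMorphism.ext ((hσ2 a).symm.trans ((congrArg (fun c => jK ≫ Over.Hom.left c) h2).trans (hσ2 b))))
  -- finiteness of the target
  let k := IsLocalRing.ResidueField R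
  let φ : CommRingCat.of R ⟶ Γ(E, ⊤) := (Scheme.ΓSpecIso (CommRingCat.of R)).inv ≫ g.appTop
  letI : Algebra R Γ(E, ⊤) := φ.hom.toAlgebra
  haveI : Module.Finite R Γ(E, ⊤) := by
    have h1 : g.appTop.hom.Finite := IsFinite.finite_app g ⊤ (isAffineOpen_top _)
    exact h1.comp (RingHom.Finite.of_surjective _
      (Scheme.ΓSpecIso (CommRingCat.of R)).commRingCatIsoToRingEquiv.symm.surjective)
  let toHom : AbDual.torsPts A m (Over.mk jk) → (Γ(E, ⊤) →ₐ[R] k) := fun a =>
    { ((liftE a.1 a.2).appTop ≫ (Scheme.ΓSpecIso (CommRingCat.of k)).hom).hom with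
      commutes' := fun r => by
        have h1 : liftE a.1 a.2 ≫ g = jk := CategoryTheory.Limits.pullback.lift_snd _ _ _
        show ((Scheme.ΓSpecIso (CommRingCat.of R)).inv ≫ (g.appTop ≫ (liftE a.1 a.2).appTop) ≫
          (Scheme.ΓSpecIso (CommRingCat.of k)).hom) r = algebraMap R k r
        rw [← Scheme.Hom.comp_appTop, h1, Scheme.ΓSpecIso_naturality, Iso.inv_hom_id_assoc]
        rfl }
  have htoHom : Function.Injective toHom := by
    intro a b hab
    have h1 : (liftE a.1 a.2).appTop ≫ (Scheme.ΓSpecIso (CommRingCat.of k)).hom =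
        (liftE b.1 b.2).appTop ≫ (Scheme.ΓSpecIso (CommRingCat.of k)).hom := by
      ext x
      exact AlgHom.congr_fun hab x
    have h2 : liftE a.1 a.2 = liftE b.1 b.2 := ext_of_isAffine ((cancel_mono _).mp h1)
    refine Subtype.ext (Over.OverMorphism.ext ?_)
    have := congrArg (· ≫ CategoryTheory.Limits.pullback.fst f e) h2
    exact (CategoryTheory.Limits.pullback.lift_fst _ _ _).symm.trans (this.trans (CategoryTheory.Limits.pullback.lift_fst _ _ _))
  haveI : Finite (AbDual.torsPts A m (Over.mk jk)) := Finite.of_injective toHom htoHom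
  exact Nat.card_le_card_of_injective Φ hΦ

end Groth.Agent.S15509
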