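import Groth.Statements.S1551
import Groth.Agent.Lib.AmpleDimOne.Main

set_option autoImplicit false
universe u
open CategoryTheory CategoryTheory.Limits AlgebraicGeometry
open Variety

namespace Groth.Agent.S1551

/-- A Noetherian separated scheme of dimension one has an ample invertible module. -/
theorem result (X : Scheme.{u}) [IsNoetherian X] [X.IsSeparated]
    (hdim : topologicalKrullDim X = 1) : ∃ L : X.Modules, CohB1.IsAmple L :=
  GrothLib.AmpleDimOne.exists_isAmple hdim.le

end Groth.Agent.S1551
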