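import Groth.Statements.S15510
-- import your own Groth.Agent.* helpers here
import Groth.Agent.Lib.RatPoints.Basic

set_option autoImplicit false
universe u
open CategoryTheory CategoryTheory.Limits MonoidalCategory CartesianMonoidalCategory MonObj AlgebraicGeometry
open AbVar

namespace Groth.Agent.S15510

/-- Let F be a field and A a principally polarized abelian variety over F: a commutative group scheme
over Spec F, smooth and proper with geometrically connected fibres of dimension g, given together
with a commutative group scheme At, data φ presenting At as the dual of A for the fppf topology, and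
a polarization lam : A ⟶ At which is an isomorphism. Let Q = F(t_1, …, t_n) be the field of rational
functions in n variables over F. Then base change from F to Q is a bijection from the F-rational
points of A onto the Q-valued points of A over Spec F: every Q-point of A comes from exactly one
F-point. -/
theorem result
    (F : Type u) [Field F]
    (A At : Over (Spec (CommRingCat.of F))) [GrpObj A] [IsCommMonObj A] [GrpObj At] [IsCommMonObj At]
    (g : ℕ) (hA : AgPol.IsAbSch A g)
    (φ : AgPol.DualMap A At) (hdual : AbDual.IsDualAV Scheme.fppfPrecoverage A At φ)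
    (lam : A ⟶ At) (hpol : AgPol.IsPolarization A At φ lam) (hiso : IsIso lam) (n : ℕ) :
    Function.Bijective (fun x : (Over.mk (𝟙 (Spec (CommRingCat.of F))) ⟶ A) =>
      (Over.homMk (Spec.map (CommRingCat.ofHom (algebraMap F (FractionRing (MvPolynomial (Fin n) F)))))
          (Category.comp_id _) :
        Over.mk (Spec.map (CommRingCat.ofHom (algebraMap F (FractionRing (MvPolynomial (Fin n) F))))) ⟶
          Over.mk (𝟙 (Spec (CommRingCat.of F)))) ≫ x) := by
  haveI := hA.proper
  constructor
  · intro x y hxy
    ext1
    have h := congrArg (·.left) hxy
    simp only [Over.comp_left, Over.homMk_left] at h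
    haveI : Flat (Spec.map (CommRingCat.ofHom (algebraMap F (FractionRing (MvPolynomial (Fin n) F))))) := by
      rw [HasRingHomProperty.Spec_iff (P := @Flat)]
      exact RingHom.flat_algebraMap_iff.mpr inferInstance
    haveI : Surjective (Spec.map (CommRingCat.ofHom (algebraMap F (FractionRing (MvPolynomial (Fin n) F))))) :=
      ⟨fun _ => ⟨default, Subsingleton.elim _ _⟩⟩
    haveI : Epi (Spec.map (CommRingCat.ofHom (algebraMap F (FractionRing (MvPolynomial (Fin n) F))))) :=
      Flat.epi_of_flat_of_surjective _
    exact (cancel_epi _).mp h
  · intro g
    let e : ULift.{u} (Fin n) ≃ Fin n := Equiv.ulift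
    let r : MvPolynomial (ULift.{u} (Fin n)) F ≃ₐ[F] MvPolynomial (Fin n) F := MvPolynomial.renameEquiv F e
    letI : Algebra (MvPolynomial (ULift.{u} (Fin n)) F) (FractionRing (MvPolynomial (Fin n) F)) :=
      ((algebraMap (MvPolynomial (Fin n) F) (FractionRing (MvPolynomial (Fin n) F))).comp r.toRingEquiv.toRingHom).toAlgebra
    haveI : IsFractionRing (MvPolynomial (ULift.{u} (Fin n)) F) (FractionRing (MvPolynomial (Fin n) F)) := by
      exact (IsFractionRing.isFractionRing_iff_of_base_ringEquiv (FractionRing (MvPolynomial (Fin n) F))
        r.symm.toRingEquiv).mp inferInstance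
    haveI : IsScalarTower F (MvPolynomial (ULift.{u} (Fin n)) F) (FractionRing (MvPolynomial (Fin n) F)) :=
      IsScalarTower.of_algebraMap_eq fun x => by
        show _ = algebraMap (MvPolynomial (Fin n) F) _ (r (algebraMap F _ x))
        rw [AlgEquiv.commutes, ← IsScalarTower.algebraMap_apply]
    obtain ⟨a, ha, hga⟩ := GrothLib.RatPoints.exists_constant (A := A) (ULift.{u} (Fin n))
      (FractionRing (MvPolynomial (Fin n) F)) g.left (Over.w g)
    exact ⟨Over.homMk a ha, Over.OverMorphism.ext (by simp only [Over.comp_left, Over.homMk_left]; exact hga.symm)⟩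

end Groth.Agent.S15510
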