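import Groth.Statements.S15511
-- import your own Groth.Agent.* helpers here
import Groth.Agent.Lib.Poincare.Mumford

set_option autoImplicit false
universe u
open CategoryTheory CategoryTheory.Limits MonoidalCategory CartesianMonoidalCategory MonObj AlgebraicGeometry
open AbSch

namespace Groth.Agent.S15511

/-- Let S be a connected locally Noetherian scheme, A an abelian scheme over S (a commutative group
scheme which is smooth and proper with geometrically connected fibres of dimension g) given with a
commutative group scheme At and data φ presenting At as the dual of A for the fppf topology, L an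
invertible module on A, and lam : A ⟶ At the homomorphism attached to L through φ (the morphism
sending a point x to the class of the translate of L by x tensor the inverse of L). If for some
closed point s of S the base change of lam to the fibre over s is the trivial homomorphism (the
class of L restricted to the fibre A_s has vanishing attached homomorphism, i.e. is zero in the
Néron–Severi group), then lam itself is the trivial homomorphism, the structure morphism of A
followed by the unit section of At. (The published statement does not ask S to be connected; over a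
base with two connected components, L trivial over one component and relatively ample over the other
gives an attached homomorphism vanishing on a closed fibre without vanishing identically, and the
printed proof rests on the rigidity lemma, which needs a connected base. The base is also taken
locally Noetherian, the published setting being schemes locally of finite type over ℂ.) -/
theorem result
    (S : Scheme.{u}) [IsLocallyNoetherian S] [ConnectedSpace S]
    (A At : Over S) [GrpObj A] [IsCommMonObj A] [GrpObj At] [IsCommMonObj At]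
    (g : ℕ) (hA : AgPol.IsAbSch A g)
    (φ : AgPol.DualMap A At) (hdual : AbDual.IsDualAV Scheme.fppfPrecoverage A At φ)
    (L : A.left.Modules) (hL : PicF.IsInvertible L) (lam : A ⟶ At) (hlam : AgPol.IsLambda A At φ L lam)
    (s : S) (hs : IsClosed ({s} : Set S))
    (h : (Over.pullback (S.fromSpecResidueField s)).map lam = 1) :
    lam = 1 := by
  haveI : Smooth A.hom := hA.smooth
  haveI : IsProper A.hom := hA.proper
  haveI : GeometricallyConnected A.hom := hA.geomConnected
  haveI := GrothLib.Dual.geometricallyIntegral_of_abScheme A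
  obtain ⟨N, hN, hΛ, hlamN⟩ := hlam
  subst hlamN
  have hn := GrothLib.Cube.hasCls_clsMod hN
  set n : GrothLib.Cube.Pic (A ⊗ A).left := GrothLib.Cube.clsMod hN
  have hx := GrothLib.Cube.hasCls_clsMod hL
  set x : GrothLib.Cube.Pic A.left := GrothLib.Cube.clsMod hL
  have hneq : n * GrothLib.Cube.pull (fst A A).left x * GrothLib.Cube.pull (snd A A).left x =
      GrothLib.Cube.pull (μ[A]).left x :=
    ((hn.tensor (hx.pullback _)).tensor (hx.pullback _)).eq (hx.pullback _) hΛ
  -- move `L` to a rigidified class on `A × 1`
  let T₀ : Over S := 𝟙_ (Over S)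
  set r : GrothLib.Cube.Pic T₀.left := GrothLib.Cube.pull (η[A] : T₀ ⟶ A).left x with hrdef
  let x' : GrothLib.Cube.Pic (A ⊗ T₀).left :=
    GrothLib.Cube.pull (fst A T₀).left x * (GrothLib.Cube.pull (snd A T₀).left r)⁻¹
  have hrig : GrothLib.Cube.pull (lift (1 : T₀ ⟶ A) (𝟙 T₀)).left x' = 1 := by
    rw [map_mul, map_inv, GrothLib.CubeRel26.pull_pull_over, lift_fst, GrothLib.CubeRel26.pull_pull_over, lift_snd,
      Over.id_left, GrothLib.Cube.pull_id, mul_inv_eq_one, hrdef, Hom.one_def,
      Subsingleton.elim (toUnit T₀) (𝟙 T₀), Category.id_comp]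
  -- the defect of that class is the Mumford class up to the base
  have hd : GrothLib.Dual.defect x' = GrothLib.Cube.pull (fst (A ⊗ A) T₀).left n *
      GrothLib.Cube.pull (snd (A ⊗ A) T₀).left r := by
    simp only [GrothLib.Dual.defect, x', map_mul, map_inv, GrothLib.CubeRel26.pull_pull_over, whiskerRight_snd,
      whiskerRight_fst]
    have e := congrArg (GrothLib.Cube.pull (fst (A ⊗ A) T₀).left) hneq
    simp only [map_mul, GrothLib.CubeRel26.pull_pull_over] at e
    rw [← e]
    generalize GrothLib.Cube.pull (fst (A ⊗ A) T₀).left n = a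
    generalize GrothLib.Cube.pull (snd (A ⊗ A) T₀).left r = q
    generalize GrothLib.Cube.pull (fst (A ⊗ A) T₀ ≫ fst A A).left x = b
    generalize GrothLib.Cube.pull (fst (A ⊗ A) T₀ ≫ snd A A).left x = c
    simp only [mul_inv, inv_inv]
    calc a * b * c * q⁻¹ * (b⁻¹ * q * (c⁻¹ * q)) = a * q * ((b * b⁻¹) * (c * c⁻¹) * (q⁻¹ * q)) := by ac_rfl
      _ = a * q := by rw [mul_inv_cancel, mul_inv_cancel, inv_mul_cancel, _root_.one_mul, _root_.mul_one, _root_.mul_one]
  -- the fibre at `s`
  let p := S.fromSpecResidueField s
  let P : Over S := Over.mk p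
  let Q : Over S := A ⊗ P
  let j : Q ⟶ A := fst A P
  have hz := GrothLib.Dual.pz_mumford hneq
  rw [GrothLib.Dual.dphi_eq (φ := φ) hn] at h
  -- the pullback of the Mumford class to the fibre is trivial
  have hj : j ≫ GrothLib.Dual.dphi φ A n = 1 := by
    have hone : (Over.pullback p).map (1 : A ⟶ At) = 1 := by
      exact Functor.map_one (Over.pullback p)
    refine Eq.trans ?_ (MonObj.comp_one j : j ≫ (1 : A ⟶ At) = 1)
    refine Over.OverMorphism.ext ?_
    have e := congrArg (fun m : (Over.pullback p).obj A ⟶ (Over.pullback p).obj At => m.left ≫ Limits.pullback.fst At.hom p)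
      (h.trans hone.symm)
    exact ((Limits.pullback.lift_fst _ _ _).symm.trans e).trans (Limits.pullback.lift_fst _ _ _)
  have hpn : GrothLib.Cube.pull (A ◁ j).left n = 1 := by
    refine GrothLib.Dual.eq_one_of_dphi hdual (hz.pullT j) ?_ (by rw [GrothLib.Dual.dphi_pull hdual hz j, hj])
    have e : lift (1 : Q ⟶ A) (𝟙 Q) ≫ A ◁ j = lift (1 : Q ⟶ A) j := by
      apply CartesianMonoidalCategory.hom_ext <;> simp
    have e1 : GrothLib.Cube.pull (1 : Q ⟶ A).left x = 1 := by
      rw [show (1 : Q ⟶ A) = snd A P ≫ (1 : P ⟶ A) by rw [MonObj.comp_one]]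
      exact GrothLib.Dual.pull_one_field (snd A P) x
    have e2 := congrArg (GrothLib.Cube.pull (lift (1 : Q ⟶ A) j).left) hneq
    rw [map_mul, map_mul, GrothLib.CubeRel26.pull_pull_over, GrothLib.CubeRel26.pull_pull_over,
      GrothLib.CubeRel26.pull_pull_over, lift_fst, lift_snd, e1, _root_.mul_one, ← Hom.mul_def,
      _root_.one_mul] at e2
    rw [GrothLib.CubeRel26.pull_pull_over, e]
    exact mul_eq_right.1 e2
  obtain ⟨W, hWc, hWz, hW'⟩ := GrothLib.Dual.exists_clopen_defect x' hrig
  have hsW : s ∈ W := by
    refine hWz s ?_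
    rw [hd, map_mul]
    let rT := Limits.pullback.snd (Limits.pullback.fst A.hom A.hom ≫ A.hom) T₀.hom
    have hc : rT.fiberι s ≫ rT = rT.fiberToSpecResidueField s ≫ p := Limits.pullback.condition
    have eb : GrothLib.Cube.pull (rT.fiberι s) (GrothLib.Cube.pull (snd (A ⊗ A) T₀).left r) = 1 := by
      refine (GrothLib.Cube.pull_comp _ _ _).trans ?_
      rw [show (snd (A ⊗ A) T₀).left = rT from rfl, hc, ← GrothLib.Cube.pull_comp,
        GrothLib.Cube.pic_spec_field_eq_one (F := S.residueField s) (GrothLib.Cube.pull p r), map_one]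
    rw [show GrothLib.Cube.pull (rT.fiberι s) _ = 1 from eb, _root_.mul_one]
    refine (GrothLib.Cube.pull_comp _ _ _).trans ?_
    let F : Over S := Over.mk (rT.fiberι s ≫ rT ≫ T₀.hom)
    let k₁ : F ⟶ A ⊗ A := Over.homMk (rT.fiberι s ≫ (fst (A ⊗ A) T₀).left) (by
      show (rT.fiberι s ≫ _) ≫ _ = rT.fiberι s ≫ rT ≫ T₀.hom
      rw [Category.assoc]
      exact congrArg _ Limits.pullback.condition)
    let k₂ : F ⟶ P := Over.homMk (rT.fiberToSpecResidueField s) (by
      show rT.fiberToSpecResidueField s ≫ p = rT.fiberι s ≫ rT ≫ T₀.hom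
      rw [← hc]
      exact congrArg _ (Category.comp_id rT).symm)
    have ek : k₁ = lift (k₁ ≫ fst A A) (lift (k₁ ≫ snd A A) k₂) ≫ A ◁ j := by
      apply CartesianMonoidalCategory.hom_ext <;> simp [j, Q]
    show GrothLib.Cube.pull k₁.left n = 1
    rw [ek, ← GrothLib.CubeRel26.pull_pull_over, hpn, map_one]
  haveI : ConnectedSpace ↥T₀.left := ‹ConnectedSpace ↥S›
  have hW : W = ⊤ := TopologicalSpace.Opens.ext (IsClopen.eq_univ ⟨hWc, W.isOpen⟩ ⟨s, hsW⟩)
  subst hW
  have h0 := congrArg (GrothLib.Cube.pull
    (Scheme.topIso (Limits.pullback (Limits.pullback.fst A.hom A.hom ≫ A.hom) T₀.hom)).inv) hW'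
  replace h0 := h0.trans (map_one _)
  have h2 : GrothLib.Dual.defect x' = 1 := ((GrothLib.Cube.pull_id _).symm.trans
    (congrArg (fun f => GrothLib.Cube.pull f _)
      (Scheme.topIso (Limits.pullback (Limits.pullback.fst A.hom A.hom ≫ A.hom) T₀.hom)).inv_hom_id.symm)).trans
    ((GrothLib.Cube.pull_comp _ _ _).symm.trans h0)
  rw [hd] at h2
  have h3 := congrArg (GrothLib.Cube.pull (lift (𝟙 (A ⊗ A)) (toUnit (A ⊗ A))).left) h2
  rw [map_mul, map_one, GrothLib.CubeRel26.pull_pull_over, GrothLib.CubeRel26.pull_pull_over, lift_fst, lift_snd,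
    Over.id_left, GrothLib.Cube.pull_id] at h3
  have hbase : n = GrothLib.Cube.pull (snd A A).left ((GrothLib.Cube.pull (toUnit A).left r)⁻¹) := by
    rw [eq_inv_of_mul_eq_one_left h3, map_inv, hrdef, GrothLib.CubeRel26.pull_pull_over,
      GrothLib.CubeRel26.pull_pull_over, GrothLib.CubeRel26.pull_pull_over, Category.assoc,
      ← Category.assoc (snd A A), Subsingleton.elim (snd A A ≫ toUnit A) (toUnit (A ⊗ A))]
  rw [GrothLib.Dual.dphi_eq (φ := φ) hn, hbase, GrothLib.Dual.dphi_base hdual]

end Groth.Agent.S15511
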