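import Groth.Statements.S15512
import Groth.Agent.Lib.Serre.ExtSelf
-- import your own Groth.Agent.* helpers here

set_option autoImplicit false
universe u
open CategoryTheory
open CAlg

namespace Groth.Agent.S15512

/-- Let A be a Noetherian ring which is regular (its localization at every maximal ideal is a regular
local ring) and of finite Krull dimension, M a finitely generated A-module and d a natural number.
If Ext^i_A(M, A) vanishes for every i > d, then the projective dimension of M is at most d. -/
theorem result (A : Type u) [CommRing A]
    [IsNoetherianRing A] (hreg : ∀ m : MaximalSpectrum A, IsRegularLocalRing (Localization.AtPrime m.asIdeal))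
    (hdim : ringKrullDim A < ⊤) (M : Type u) [AddCommGroup M] [Module A M] [Module.Finite A M] (d : ℕ)
    (h : ∀ i : ℕ, d < i → Subsingleton (Abelian.Ext (ModuleCat.of A M) (ModuleCat.of A A) i)) :
    HasProjectiveDimensionLT (ModuleCat.of A M) (d + 1) := by
  obtain ⟨N, hN⟩ : ∃ N : ℕ, ringKrullDim A ≤ N := by
    cases hA : ringKrullDim A with
    | bot => exact ⟨0, bot_le⟩
    | coe a =>
      cases a with
      | top => rw [hA] at hdim; exact absurd hdim (lt_irrefl _)
      | coe a => exact ⟨a, le_rfl⟩
  exact GrothLib.Serre.pdLE_of_ext_self d N (GrothLib.Serre.pdLE_of_regular_finiteDim N hN hreg)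
    fun j h1 _ => h j h1

end Groth.Agent.S15512
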