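import Groth.Statements.S15514
import Groth.Agent.Lib.LocFreeDual20.ExtGlobal
import Groth.Agent.Lib.SheafCoh.Terminal

set_option autoImplicit false
set_option maxHeartbeats 400000
set_option linter.style.haveILetI false
set_option backward.isDefEq.respectTransparency.types false
universe u
open CategoryTheory CategoryTheory.Limits AlgebraicGeometry
open Coherent

namespace Groth.Agent.S15514

/-- Let X be a scheme, E a finite locally free O_X-module with dual E^∨ = Hom_{O_X}(E, O_X), and F, G
arbitrary O_X-modules. Then for every i the group Ext^i_{O_X}(F ⊗ E, G), computed in the category of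
all O_X-modules, is isomorphic to Ext^i_{O_X}(F, G ⊗ E^∨). (Existence of an additive isomorphism
only; the published identification is the natural one, and the published statement is for an
arbitrary ringed space. The published statement says only that E is locally free; finite rank, which
its proof uses, is assumed here. The internal Hom functor of E and the Ext groups of O_X-modules are
the stated instance hypotheses, both true.) -/
theorem result (X : Scheme.{u}) (E : X.Modules)
    (hE : FlatMod.IsFinLocFree E) (F G : X.Modules) [ModSite.HasSheafHom (O := X.sheaf) E]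
    [HasExt.{u} X.Modules] (i : ℕ) :
    Nonempty (Abelian.Ext (CohB1.tensorMod F E) G i ≃+
      Abelian.Ext F (CohB1.tensorMod G ((ModSite.sheafHom (O := X.sheaf) E).obj (Coh.structureModule X))) i) := by
  let D := GrothLib.LocFreeHom.hasSheafHom E
  obtain ⟨a⟩ := GrothLib.LocFreeDual20.nonempty_ext_tensor_addEquiv hE F G i
  let e : (DCoh.sheafHom E).obj G ≅
      CohB1.tensorMod G ((ModSite.sheafHom (O := X.sheaf) E).obj (Coh.structureModule X)) :=
    ((GrothLib.LocFreeDual20.siteHomIso E).app G).symm ≪≫ GrothLib.LocFreeDual20.homObjIso hE G
  obtain ⟨b⟩ : Nonempty (Abelian.Ext F ((DCoh.sheafHom E).obj G) i ≃+ Abelian.Ext F _ i) :=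
    ⟨GrothLib.SheafCoh.extPostcompIso F e i⟩
  exact ⟨a.symm.trans b⟩

end Groth.Agent.S15514
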