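import Groth.Statements.S15521
import Groth.Agent.Lib.TensorGen.Det

set_option autoImplicit false
set_option linter.all false
universe u
open CategoryTheory CategoryTheory.Limits AlgebraicGeometry
open ExtPow

namespace Groth.Agent.S15521

/-- Let X be a scheme and E, F finite locally free O_X-modules of constant ranks e and f, with
determinants det E = Λ^e E, det F = Λ^f F and det(E ⊗ F) = Λ^(e f)(E ⊗ F) (given as O_X-modules DE,
DF, D satisfying the exterior-power predicate). Then det(E ⊗ F) is isomorphic to (det E)^{⊗ f} ⊗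
(det F)^{⊗ e}. (Existence of an isomorphism of O_X-modules only; the published statement is for a
ringed space.) -/
theorem result (X : Scheme.{u}) (E F : X.Modules) (e f : ℕ)
    (hE : FlatMod.IsFinLocFreeOfRank e E) (hF : FlatMod.IsFinLocFreeOfRank f F)
    (DE DF D : X.Modules) (hDE : ExtPow.IsExtPow e E DE) (hDF : ExtPow.IsExtPow f F DF)
    (hD : ExtPow.IsExtPow (e * f) (CohB1.tensorMod E F) D) :
    Nonempty (D ≅ CohB1.tensorMod (CohB1.tensorPow DE f) (CohB1.tensorPow DF e)) := by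
  classical
  obtain ⟨φE, hEr⟩ := hDE
  obtain ⟨φF, hFr⟩ := hDF
  obtain ⟨φD, hDr⟩ := hD
  let φE' : ∀ U : X.affineOpens, Γ(DE, U.1) ≃ₗ[Γ(X, U.1)] ↥(⋀[Γ(X, U.1)]^e Γ(E, U.1)) := φE
  let φF' : ∀ U : X.affineOpens, Γ(DF, U.1) ≃ₗ[Γ(X, U.1)] ↥(⋀[Γ(X, U.1)]^f Γ(F, U.1)) := φF
  let φD' : ∀ U : X.affineOpens,
      Γ(D, U.1) ≃ₗ[Γ(X, U.1)] ↥(⋀[Γ(X, U.1)]^(e * f) Γ(CohB1.tensorMod E F, U.1)) := φD
  have hφE := hEr
  let ι := {U : X.affineOpens // (∃ a : Fin e → Γ(E, U.1), GrothLib.FinCov.IsFrame E U.1 a) ∧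
    ∃ b : Fin f → Γ(F, U.1), GrothLib.FinCov.IsFrame F U.1 b}
  have hB : TopologicalSpace.Opens.IsBasis (Set.range fun i : ι => i.1.1) := by
    rw [TopologicalSpace.Opens.isBasis_iff_nbhd]
    intro V x hx
    obtain ⟨W, a, hxW, ha⟩ := GrothLib.FinCov.exists_frame_nhd_of_rank hE x
    obtain ⟨W', b, hxW', hb⟩ := GrothLib.FinCov.exists_frame_nhd_of_rank hF x
    obtain ⟨_, ⟨U, hU, rfl⟩, hxU, hle⟩ := X.isBasis_affineOpens.exists_subset_of_mem_open
      (show x ∈ ((V ⊓ (W ⊓ W') : X.Opens) : Set X) from ⟨hx, hxW, hxW'⟩) (V ⊓ (W ⊓ W') : X.Opens).2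
    have hle' : (U : X.Opens) ≤ V ⊓ (W ⊓ W') := hle
    exact ⟨U, ⟨⟨⟨U, hU⟩, ⟨_, GrothLib.TensorGen.isFrame_restrict ha (hle'.trans (inf_le_right.trans inf_le_left))⟩,
      _, GrothLib.TensorGen.isFrame_restrict hb (hle'.trans (inf_le_right.trans inf_le_right))⟩, rfl⟩,
      hxU, hle'.trans inf_le_left⟩
  choose a ha using fun i : ι => i.2.1
  choose b hb using fun i : ι => i.2.2
  let ωE : ∀ i : ι, Γ(DE, i.1.1) := fun i => (φE' i.1).symm (exteriorPower.ιMulti _ e (a i))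
  let ωF : ∀ i : ι, Γ(DF, i.1.1) := fun i => (φF' i.1).symm (exteriorPower.ιMulti _ f (b i))
  let ωD : ∀ i : ι, Γ(D, i.1.1) := fun i => (φD' i.1).symm (exteriorPower.ιMulti _ (e * f)
    fun k => GrothLib.VA.tm (a i (finProdFinEquiv.symm k).1) (b i (finProdFinEquiv.symm k).2))
  let T := CohB1.tensorMod (CohB1.tensorPow DE f) (CohB1.tensorPow DF e)
  let G : ∀ i : ι, Γ(T, i.1.1) := fun i =>
    GrothLib.VA.tm (GrothLib.TensorGen.pw DE (ωE i) f) (GrothLib.TensorGen.pw DF (ωF i) e)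
  have hG : ∀ i, GrothLib.InvExt.IsGen T i.1.1 (G i) := fun i =>
    GrothLib.VA.isGen_tm (GrothLib.TensorGen.isGen_pw DE (GrothLib.TensorGen.isGen_wedge hEr (ha i)) f)
      (GrothLib.TensorGen.isGen_pw DF (GrothLib.TensorGen.isGen_wedge hFr (hb i)) e)
  have hωD : ∀ i, GrothLib.InvExt.IsGen D i.1.1 (ωD i) := fun i =>
    GrothLib.TensorGen.isGen_wedge hDr (GrothLib.TensorGen.isFrame_tm (ha i) (hb i))
  have hspan : ∀ (M : X.Modules) (U : X.Opens) (m : Γ(M, U)), GrothLib.InvExt.IsGen M U m →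
      Function.Bijective (LinearMap.toSpanSingleton Γ(X, U) Γ(M, U) m) := fun M U m hm => by
    have := hm U le_rfl
    simp only [GrothLib.InvExt.mres_self] at this
    exact this
  let ψ : ∀ i : ι, Γ(D, i.1.1) ≃ₗ[Γ(X, i.1.1)] Γ(T, i.1.1) := fun i =>
    (LinearEquiv.ofBijective _ (hspan _ _ _ (hωD i))).symm ≪≫ₗ LinearEquiv.ofBijective _ (hspan _ _ _ (hG i))
  have hψ : ∀ (i : ι) (c : Γ(X, i.1.1)), ψ i (c • ωD i) = c • G i := fun i c => by
    exact (congrArg (LinearEquiv.ofBijective _ (hspan _ _ _ (hG i)))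
      (((LinearEquiv.ofBijective _ (hspan _ _ _ (hωD i))).symm_apply_eq).2 rfl :
        (LinearEquiv.ofBijective _ (hspan _ _ _ (hωD i))).symm (c • ωD i) = c)).trans rfl
  obtain ⟨φ, -⟩ := GrothLib.AffHom.exists_iso_basis (B := fun i : ι => i.1.1) hB ψ fun i j h m => by
    obtain ⟨c, rfl⟩ := (hspan _ _ _ (hωD i)).2 m
    change GrothLib.InvExt.mres T h (ψ i (c • ωD i)) = ψ j (GrothLib.InvExt.mres D h (c • ωD i))
    have hDi : GrothLib.InvExt.mres D h (ωD i) = _ :=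
      GrothLib.TensorGen.mres_wedge hDr h _ (GrothLib.TensorGen.isFrame_tm (ha j) (hb j))
    rw [hψ, GrothLib.InvExt.mres_smul, GrothLib.InvExt.mres_smul, hDi, smul_smul]
    simp only [GrothLib.VA.mres_tm]
    rw [GrothLib.TensorGen.det_tm (ha j) (hb j) (fun t => GrothLib.InvExt.mres E h (a i t))
      (fun t => GrothLib.InvExt.mres F h (b i t))]
    refine Eq.trans ?_ (hψ j _).symm
    show _ • GrothLib.InvExt.mres T h (GrothLib.VA.tm _ _) = _
    rw [GrothLib.VA.mres_tm, GrothLib.TensorGen.mres_pw, GrothLib.TensorGen.mres_pw,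
      GrothLib.TensorGen.mres_wedge hEr h _ (ha j), GrothLib.TensorGen.mres_wedge hFr h _ (hb j),
      GrothLib.TensorGen.pw_smul, GrothLib.TensorGen.pw_smul, GrothLib.VA.tm_smul_left,
      GrothLib.VA.tm_smul_right, smul_smul, smul_smul]
    congr 1
    ring
  exact ⟨φ⟩

end Groth.Agent.S15521
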