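import Groth.Statements.S15525
import Mathlib

set_option autoImplicit false
universe u
open Zeta

namespace Groth.Agent.S15525

/-- Let L be a field with a ring embedding ι into ℂ and M an r × r matrix over L all of whose
eigenvalues, the complex roots of its characteristic polynomial mapped along ι, have absolute value
1. Then every coefficient of the characteristic polynomial of the block-diagonal matrix with blocks
M and the inverse transpose of M is mapped by ι into ℝ. This is the pointwise content of the
assertion that for a lisse sheaf F pure of weight 0 the sum of F and its dual is real, the Frobenius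
of the dual acting by the inverse transpose. -/
theorem result (L : Type u) [Field L] (ι : L →+* ℂ)
    {r : ℕ} (M : Matrix (Fin r) (Fin r) L)
    (hM : ∀ z ∈ ((Matrix.charpoly M).map ι).roots, ‖z‖ = 1) (n : ℕ) :
    (ι ((Matrix.fromBlocks M 0 0 (M⁻¹).transpose).charpoly.coeff n)).im = 0 := by
  classical
  set N := M.map ι with hN
  have hcp : (Matrix.charpoly M).map ι = N.charpoly := (Matrix.charpoly_map M ι).symm
  rw [hcp] at hM
  have hsplit := IsAlgClosed.splits N.charpoly
  set S := N.charpoly.roots with hS
  have hprod : N.charpoly = (S.map fun z => Polynomial.X - Polynomial.C z).prod :=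
    hsplit.eq_prod_roots_of_monic N.charpoly_monic
  have hcard : S.card = r := by
    rw [hS, ← hsplit.natDegree_eq_card_roots, Matrix.charpoly_natDegree_eq_dim, Fintype.card_fin]
  have hdet : N.det = S.prod := Matrix.det_eq_prod_roots_charpoly N
  have hz0 : ∀ z ∈ S, z ≠ 0 := fun z hz h => by
    have := hM z hz; rw [h, norm_zero] at this; exact zero_ne_one this
  have hdet0 : N.det ≠ 0 := by
    rw [hdet]; exact Multiset.prod_ne_zero fun h => hz0 0 h rfl
  have hMdet : M.det ≠ 0 := fun h => hdet0 (by
    rw [hN, ← RingHom.mapMatrix_apply, ← RingHom.map_det, h, map_zero])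
  have hinv : (M⁻¹).map ι = N⁻¹ := by
    refine (Matrix.inv_eq_right_inv ?_).symm
    rw [hN, ← Matrix.map_mul, Matrix.mul_nonsing_inv M (Ne.isUnit hMdet), Matrix.map_one ι (map_zero ι) (map_one ι)]
  have hfull : (Matrix.fromBlocks M 0 0 (M⁻¹).transpose).charpoly.map ι =
      N.charpoly * N.charpoly.map (starRingEnd ℂ) := by
    rw [Matrix.charpoly_fromBlocks_zero₂₁, Matrix.charpoly_transpose, Polynomial.map_mul, hcp,
      ← Matrix.charpoly_map, hinv]
    congr 1
    rw [Matrix.charpoly_inv N ((Matrix.isUnit_iff_isUnit_det N).2 (Ne.isUnit hdet0)),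
      ← Matrix.reverse_charpoly, Ring.inverse_eq_inv, Fintype.card_fin, hdet, hprod,
      Polynomial.map_multiset_prod, Multiset.map_map]
    have hrev : ∀ T : Multiset ℂ, (∀ z ∈ T, z ≠ 0 ∧ (starRingEnd ℂ) z = z⁻¹) →
        (-1) ^ T.card * Polynomial.C T.prod⁻¹ *
          ((T.map fun z => Polynomial.X - Polynomial.C z).prod).reverse =
        (T.map (Polynomial.map (starRingEnd ℂ) ∘ fun z => Polynomial.X - Polynomial.C z)).prod := by
      intro T
      induction T using Multiset.induction with
      | empty => intro _; simp [show (1 : Polynomial ℂ).reverse = 1 from by rw [← Polynomial.C_1, Polynomial.reverse_C]]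
      | cons z T ih =>
        intro hT
        obtain ⟨hz, hzc⟩ := hT z (Multiset.mem_cons_self z T)
        simp only [Multiset.map_cons, Multiset.prod_cons, Multiset.card_cons,
          Polynomial.reverse_mul_of_domain]
        rw [Function.comp_apply]
        rw [← ih fun w hw => hT w (Multiset.mem_cons_of_mem hw)]
        have hrz : (Polynomial.X - Polynomial.C z).reverse = 1 - Polynomial.C z * Polynomial.X := by
          rw [Polynomial.reverse, Polynomial.natDegree_X_sub_C, Polynomial.reflect_sub,
            Polynomial.reflect_one_X, Polynomial.reflect_C, pow_one]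
        rw [hrz, Polynomial.map_sub, Polynomial.map_X, Polynomial.map_C, hzc, mul_inv, map_mul,
          pow_succ]
        have hzz : Polynomial.C z⁻¹ * Polynomial.C z = 1 := by
          rw [← map_mul, inv_mul_cancel₀ hz, map_one]
        linear_combination ((-1) ^ T.card * Polynomial.C T.prod⁻¹ *
          ((T.map fun z => Polynomial.X - Polynomial.C z).prod).reverse * Polynomial.X) * hzz
    rw [← hcard]
    refine hrev S fun z hz => ⟨hz0 z hz, ?_⟩
    rw [Complex.inv_def, Complex.normSq_eq_norm_sq, hM z hz]
    simp
  have hconj : ((Matrix.fromBlocks M 0 0 (M⁻¹).transpose).charpoly.map ι).map (starRingEnd ℂ) =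
      (Matrix.fromBlocks M 0 0 (M⁻¹).transpose).charpoly.map ι := by
    rw [hfull, Polynomial.map_mul, Polynomial.map_map,
      show (starRingEnd ℂ).comp (starRingEnd ℂ) = RingHom.id ℂ from RingHom.ext Complex.conj_conj,
      Polynomial.map_id, mul_comm]
  have := congrArg (fun p => Polynomial.coeff p n) hconj
  simp only [Polynomial.coeff_map] at this
  exact Complex.conj_eq_iff_im.1 this

end Groth.Agent.S15525
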