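import Groth.Statements.S15526
import Mathlib.RingTheory.MvPolynomial.Basic
import Mathlib.Algebra.Polynomial.Monic
import Mathlib.Algebra.Polynomial.AlgebraMap
import Mathlib.RingTheory.Ideal.Quotient.Operations

set_option autoImplicit false
universe u
open MvPolynomial
open CAlg

namespace Groth.Agent.S15526

/-- Let R be a commutative ring, P ∈ R[x] a monic polynomial of degree 2g + 1, and A = R[x, y, z]/(y^2 −
P(x), yz − 1). Then every element of A is a finite sum Σ_n Q_n(x) y^n over integers n, negative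
powers of y meaning powers of z, with each Q_n ∈ R[x] of degree at most 2g: the R-submodule of A
spanned by the classes of x^i y^n and x^i z^n with i ≤ 2g and n ≥ 0 is all of A. (The published
statement takes for R the ring of Witt vectors of a finite field and for P a lift of a separable
polynomial; the argument uses only that P is monic of degree 2g + 1.) -/
theorem result (R : Type u) [CommRing R] (g : ℕ)
    (P : Polynomial R) (hP : P.Monic) (hdeg : P.natDegree = 2 * g + 1) :
    Submodule.span R {a : MvPolynomial (Fin 3) R ⧸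
        Ideal.span ({X 1 ^ 2 - Polynomial.aeval (X 0 : MvPolynomial (Fin 3) R) P, X 1 * X 2 - 1} :
          Set (MvPolynomial (Fin 3) R)) |
        ∃ i n : ℕ, i ≤ 2 * g ∧
          (a = Ideal.Quotient.mk _ (X 0 ^ i * X 1 ^ n) ∨ a = Ideal.Quotient.mk _ (X 0 ^ i * X 2 ^ n))} =
      ⊤ := by
  classical
  let I := Ideal.span ({X 1 ^ 2 - Polynomial.aeval (X 0 : MvPolynomial (Fin 3) R) P, X 1 * X 2 - 1} :
    Set (MvPolynomial (Fin 3) R))
  let π := Ideal.Quotient.mkₐ R I
  set T : Set (MvPolynomial (Fin 3) R ⧸ I) := {a | ∃ i n : ℕ, i ≤ 2 * g ∧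
          (a = Ideal.Quotient.mk _ (X 0 ^ i * X 1 ^ n) ∨ a = Ideal.Quotient.mk _ (X 0 ^ i * X 2 ^ n))}
  set W := Submodule.span R T
  let x := π (X 0)
  let y := π (X 1)
  let z := π (X 2)
  have hmk : ∀ i n, (π (X 0 ^ i * X 1 ^ n) = x ^ i * y ^ n) ∧ (π (X 0 ^ i * X 2 ^ n) = x ^ i * z ^ n) := fun i n => by
    simp [x, y, z]
  have hy : ∀ i n, i ≤ 2 * g → x ^ i * y ^ n ∈ W := fun i n hi =>
    Submodule.subset_span ⟨i, n, hi, Or.inl (hmk i n).1.symm⟩
  have hz : ∀ i n, i ≤ 2 * g → x ^ i * z ^ n ∈ W := fun i n hi =>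
    Submodule.subset_span ⟨i, n, hi, Or.inr (hmk i n).2.symm⟩
  have hyz : y * z = 1 := by
    have h : π (X 1 * X 2 - 1) = 0 := Ideal.Quotient.eq_zero_iff_mem.2 (Ideal.subset_span (Or.inr rfl))
    rwa [map_sub, map_mul, map_one, sub_eq_zero] at h
  have hy2 : y ^ 2 = Polynomial.aeval x P := by
    have h : π (X 1 ^ 2 - Polynomial.aeval (X 0 : MvPolynomial (Fin 3) R) P) = 0 :=
      Ideal.Quotient.eq_zero_iff_mem.2 (Ideal.subset_span (Or.inl rfl))
    rwa [map_sub, map_pow, ← Polynomial.aeval_algHom_apply, sub_eq_zero] at h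
  have htop : x ^ (2 * g + 1) = y ^ 2 - ∑ i ∈ Finset.range (2 * g + 1), P.coeff i • x ^ i := by
    have h := Polynomial.aeval_eq_sum_range (R := R) (p := P) x
    rw [hdeg, Finset.sum_range_succ] at h
    have hlead : P.coeff (2 * g + 1) = 1 := hdeg ▸ hP.coeff_natDegree
    rw [hlead, one_smul] at h
    rw [hy2, h]
    ring
  have hymix : ∀ i n, i ≤ 2 * g → y * (x ^ i * z ^ n) ∈ W := fun i n hi => by
    cases n with
    | zero =>
      rw [pow_zero, mul_one, mul_comm, ← pow_one y]
      exact hy i 1 hi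
    | succ n =>
      rw [show y * (x ^ i * z ^ (n + 1)) = x ^ i * z ^ n * (y * z) by ring, hyz, mul_one]
      exact hz i n hi
  have hzmix : ∀ i n, i ≤ 2 * g → z * (x ^ i * y ^ n) ∈ W := fun i n hi => by
    cases n with
    | zero =>
      rw [pow_zero, mul_one, mul_comm, ← pow_one z]
      exact hz i 1 hi
    | succ n =>
      rw [show z * (x ^ i * y ^ (n + 1)) = x ^ i * y ^ n * (y * z) by ring, hyz, mul_one]
      exact hy i n hi
  have hstep : ∀ v ∈ T, x * v ∈ W ∧ y * v ∈ W ∧ z * v ∈ W := by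
    rintro v ⟨i, n, hi, hv⟩
    have hxv : ∀ w, (∀ j ≤ 2 * g, x ^ j * w ∈ W) → y ^ 2 * w ∈ W → x * (x ^ i * w) ∈ W := fun w hw hw2 => by
      rcases lt_or_eq_of_le hi with hlt | heq
      · rw [← mul_assoc, ← pow_succ']; exact hw _ hlt
      · rw [heq, ← mul_assoc, ← pow_succ', htop, sub_mul, Finset.sum_mul]
        refine W.sub_mem hw2 (W.sum_mem fun j hj => ?_)
        rw [smul_mul_assoc]
        exact W.smul_mem _ (hw j (Nat.lt_succ_iff.1 (Finset.mem_range.1 hj)))
    rcases hv with rfl | rfl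
    · show x * π (X 0 ^ i * X 1 ^ n) ∈ W ∧ y * π (X 0 ^ i * X 1 ^ n) ∈ W ∧ z * π (X 0 ^ i * X 1 ^ n) ∈ W
      rw [(hmk i n).1]
      refine ⟨hxv _ (fun j hj => hy j n hj) ?_, ?_, hzmix i n hi⟩
      · have := hy 0 (n + 2) (Nat.zero_le _)
        rwa [pow_zero, one_mul, pow_add, mul_comm] at this
      · rw [mul_left_comm, ← pow_succ']
        exact hy i (n + 1) hi
    · show x * π (X 0 ^ i * X 2 ^ n) ∈ W ∧ y * π (X 0 ^ i * X 2 ^ n) ∈ W ∧ z * π (X 0 ^ i * X 2 ^ n) ∈ W
      rw [(hmk i n).2]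
      refine ⟨hxv _ (fun j hj => hz j n hj) ?_, hymix i n hi, ?_⟩
      · match n with
        | 0 =>
          have := hy 0 2 (Nat.zero_le _)
          simpa using this
        | 1 =>
          have := hy 0 1 (Nat.zero_le _)
          rw [pow_zero, one_mul, pow_one] at this
          rwa [pow_one, show y ^ 2 * z = y * (y * z) by ring, hyz, mul_one]
        | n + 2 =>
          have := hz 0 n (Nat.zero_le _)
          rw [pow_zero, one_mul] at this
          rwa [show y ^ 2 * z ^ (n + 2) = z ^ n * (y * z) ^ 2 by ring, hyz, one_pow, mul_one]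
      · rw [mul_left_comm, ← pow_succ']
        exact hz i (n + 1) hi
  have hclosed : ∀ u : MvPolynomial (Fin 3) R ⧸ I, (∀ v ∈ T, u * v ∈ W) → ∀ w ∈ W, u * w ∈ W := by
    intro u hu w hw
    induction hw using Submodule.span_induction with
    | mem v hv => exact hu v hv
    | zero => rw [mul_zero]; exact W.zero_mem
    | add a b _ _ ha hb => rw [mul_add]; exact W.add_mem ha hb
    | smul c a _ ha => rw [mul_smul_comm]; exact W.smul_mem c ha
  have hvar : ∀ j : Fin 3, ∀ v ∈ T, π (X j) * v ∈ W := by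
    intro j
    fin_cases j
    · exact fun v hv => (hstep v hv).1
    · exact fun v hv => (hstep v hv).2.1
    · exact fun v hv => (hstep v hv).2.2
  refine eq_top_iff.2 fun a ha => ?_
  clear ha
  obtain ⟨f, rfl⟩ := Ideal.Quotient.mk_surjective a
  suffices h : π f * 1 ∈ W by rwa [mul_one] at h
  have h1 : (1 : MvPolynomial (Fin 3) R ⧸ I) ∈ W := by
    have := hy 0 0 (Nat.zero_le _)
    rwa [pow_zero, pow_zero, one_mul] at this
  have key : ∀ w ∈ W, π f * w ∈ W := by
    induction f using MvPolynomial.induction_on with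
    | C c =>
      intro w hw
      rw [← MvPolynomial.algebraMap_eq, AlgHom.commutes, ← Algebra.smul_def]
      exact W.smul_mem c hw
    | add p q hp hq => intro w hw; rw [map_add, add_mul]; exact W.add_mem (hp w hw) (hq w hw)
    | mul_X p j hp => intro w hw; rw [map_mul, mul_assoc]; exact hp _ (hclosed _ (hvar j) w hw)
  exact key 1 h1

end Groth.Agent.S15526
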