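import Groth.Statements.S15530
import Groth.Agent.Lib.OmegaPn27.Bott
-- import your own Groth.Agent.* helpers here

set_option autoImplicit false
universe u
open Coherent

namespace Groth.Agent.S15530

open CategoryTheory AlgebraicGeometry in
/-- For a ring A, n ≥ 1 and an O-module L on projective n-space P^n_A which is a p-th exterior power of
the sheaf of relative differentials of P^n_A over A, the cohomology group H^q(P^n_A, L) = H^q(P^n_A,
Ω^p) is zero unless 0 ≤ p = q ≤ n, i.e. it vanishes when p ≠ q or n < p. -/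
theorem result (A : Type u) [CommRing A] (n : ℕ) (hn : 1 ≤ n)
    [QuasiSeparated (CohB1.ProjSpace.toSpec n A)] (p : ℕ) (L : (CohB1.ProjSpace n A).Modules)
    (hL : ExtPow.IsExtPow p (Omega.sheaf (CohB1.ProjSpace.toSpec n A)) L) (q : ℕ) (h : p ≠ q ∨ n < p) :
    Subsingleton (Coh.HH (CohB1.ProjSpace n A) L q) := by
  obtain ⟨a⟩ := GrothLib.ExtPowX.nonempty_iso hL
    (GrothLib.ExtPowX.isExtPow_wedge (GrothLib.OmegaPn27.isFinLocFree_omegaP n A) p) (Iso.refl _)
  obtain ⟨b⟩ := GrothLib.OmegaPn27.nonempty_Wt_zero_right n A p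
  refine GrothLib.OmegaPn27.subsingleton_iso n A (a ≪≫ b) ?_
  rcases eq_or_ne p q with rfl | hpq
  · exact GrothLib.OmegaPn27.subsingleton_Wt_of_isZero n A (h.resolve_left (fun h => h rfl)) 0 p
  · exact GrothLib.OmegaPn27.subsingleton_untwisted n A p q hpq

end Groth.Agent.S15530
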