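import Groth.Statements.S15532
import Groth.Agent.Lib.OmegaPn27.Bott
-- import your own Groth.Agent.* helpers here

set_option autoImplicit false
universe u
open Coherent

namespace Groth.Agent.S15532

open CategoryTheory AlgebraicGeometry in
/-- For a ring A, n ≥ 1, p ≥ 0, an integer k > 0 and an O-module L on projective n-space P^n_A which is
a p-th exterior power of the sheaf of relative differentials of P^n_A over A, the Serre twist L(k) =
L ⊗ O(k), i.e. Ω^p(k), has H^q(P^n_A, Ω^p(k)) = 0 for all q > 0. -/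
theorem result (A : Type u) [CommRing A] (n : ℕ)
    (hn : 1 ≤ n) [QuasiSeparated (CohB1.ProjSpace.toSpec n A)] (p : ℕ) (L : (CohB1.ProjSpace n A).Modules)
    (hL : ExtPow.IsExtPow p (Omega.sheaf (CohB1.ProjSpace.toSpec n A)) L) (k : ℤ) (hk : 0 < k)
    (q : ℕ) (hq : 0 < q) :
    Subsingleton (Coh.HH (CohB1.ProjSpace n A) (CohB1.tensorMod L (Twist.twistProjSpace n A k)) q) := by
  obtain ⟨a⟩ := GrothLib.ExtPowX.nonempty_iso hL
    (GrothLib.ExtPowX.isExtPow_wedge (GrothLib.OmegaPn27.isFinLocFree_omegaP n A) p) (Iso.refl _)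
  let e : CohB1.tensorMod L (Twist.twistProjSpace n A k) ≅ GrothLib.OmegaPn27.Wt n A p k :=
    GrothLib.Ample.LineData.tensorModMapIso a (Iso.refl _)
  exact GrothLib.OmegaPn27.subsingleton_iso n A e (GrothLib.OmegaPn27.subsingleton_pos n A hk p hq)

end Groth.Agent.S15532
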