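import Groth.Statements.S15533
import Groth.Agent.Lib.UnrMono.ConstFun
import Groth.Agent.Lib.SecComp6.Smooth

set_option autoImplicit false
universe u
open OmegaSh

namespace Groth.Agent.S15533

open CategoryTheory AlgebraicGeometry in
/-- For a field k and a smooth proper k-scheme X with structure morphism f, the derivation d : O_X →
Ω_{X/k} of f vanishes on global functions: d(s) = 0 in Γ(X, Ω_{X/k}) for every s ∈ Γ(X, O_X). -/
theorem result (k : Type u) [Field k] (X : Scheme.{u})
    (f : X ⟶ Spec (CommRingCat.of k)) [IsProper f] [Smooth f] (s : Γ(X, ⊤)) :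
    (OmegaSh.dOmega f).app ⊤ s = 0 := by
  haveI := GrothLib.SecComp6.geometricallyReduced_of_smooth f
  obtain ⟨P, hP, hPs⟩ := GrothLib.UnrMono.der_global_eq_zero (K := k) f s
  letI : Algebra k Γ(X, ⊤) := (f.appTop.hom.comp (Scheme.ΓSpecIso (CommRingCat.of k)).inv.hom).toAlgebra
  letI : Module k Γ(Omega.sheaf f, ⊤) := Module.compHom _ (algebraMap k Γ(X, ⊤))
  haveI : IsScalarTower k Γ(X, ⊤) Γ(Omega.sheaf f, ⊤) := ⟨fun c a m => by
    rw [Algebra.smul_def, mul_smul]; rfl⟩
  have hconst : ∀ c : k, (OmegaSh.dOmega f).app ⊤ (algebraMap k Γ(X, ⊤) c) = 0 := fun c =>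
    (OmegaSh.dOmega f).d_app (X := Opposite.op ⊤) ((Scheme.ΓSpecIso (CommRingCat.of k)).inv.hom c)
  let D : Derivation k Γ(X, ⊤) Γ(Omega.sheaf f, ⊤) := Derivation.mk'
    { toFun := fun a => (OmegaSh.dOmega f).app ⊤ a
      map_add' := fun a b => map_add _ a b
      map_smul' := fun c a => by
        rw [RingHom.id_apply, Algebra.smul_def]
        refine ((OmegaSh.dOmega f).d_mul (X := Opposite.op ⊤) _ a).trans ?_
        change algebraMap k Γ(X, ⊤) c • (OmegaSh.dOmega f).app ⊤ a +
          a • (OmegaSh.dOmega f).app ⊤ (algebraMap k Γ(X, ⊤) c) = _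
        rw [hconst, smul_zero, add_zero]
        rfl }
    (fun a b => (OmegaSh.dOmega f).d_mul (X := Opposite.op ⊤) a b)
  exact GrothLib.UnrMono.derivation_eq_zero_of_separable D hP hPs

end Groth.Agent.S15533
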