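import Groth.Statements.S15535
import Groth.Agent.SteinEtale21.Main
import Groth.Agent.Lib.SecComp6.Smooth
-- import your own Groth.Agent.* helpers here

set_option autoImplicit false
universe u
open OmegaSh

namespace Groth.Agent.S15535

open CategoryTheory AlgebraicGeometry in
/-- For a quasi-compact quasi-separated scheme S and a proper morphism f : X → S which is smooth of
relative dimension n with all fibres nonempty (f surjective), the map d : f_*O_X → f_*Ω_{X/S}
induced by the derivation of f is zero: d(s) = 0 for every section s of O_X over an open of the form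
f⁻¹(V), V open in S. (The published lemma also asserts that f_*O_X is a finite étale O_S-algebra and
that Rf_*O_X splits off f_*O_X locally on S with perfect complement of tor amplitude in [1, ∞);
those parts are not stated here.) -/
theorem result (S X : Scheme.{u}) (f : X ⟶ S)
    [CompactSpace ↥S] [QuasiSeparatedSpace ↥S] [IsProper f] (n : ℕ) [SmoothOfRelativeDimension n f]
    [Surjective f] (V : S.Opens) (s : Γ(X, f ⁻¹ᵁ V)) :
    (OmegaSh.dOmega f).app (f ⁻¹ᵁ V) s = 0 := by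
  haveI : Smooth f := SmoothOfRelativeDimension.smooth n f
  haveI := GrothLib.SecComp6.geometricallyReduced_of_smooth f
  have key : ∀ (U : S.Opens), IsAffineOpen U → ∀ a : Γ(X, f ⁻¹ᵁ U),
      (OmegaSh.dOmega f).app (f ⁻¹ᵁ U) a = 0 := by
    intro U hU a
    have het := (Groth.Agent.SteinEtale21.finite_etale_app f hU).2
    algebraize [(f.app U).hom]
    letI : Module Γ(S, U) Γ(Omega.sheaf f, f ⁻¹ᵁ U) :=
      Module.compHom _ (algebraMap Γ(S, U) Γ(X, f ⁻¹ᵁ U))
    haveI : IsScalarTower Γ(S, U) Γ(X, f ⁻¹ᵁ U) Γ(Omega.sheaf f, f ⁻¹ᵁ U) := ⟨fun c a m => by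
      rw [Algebra.smul_def, mul_smul]; rfl⟩
    have hconst : ∀ c : Γ(S, U),
        (OmegaSh.dOmega f).app (f ⁻¹ᵁ U) (algebraMap Γ(S, U) Γ(X, f ⁻¹ᵁ U) c) = 0 := fun c =>
      (OmegaSh.dOmega f).d_app (X := Opposite.op U) c
    let D : Derivation Γ(S, U) Γ(X, f ⁻¹ᵁ U) Γ(Omega.sheaf f, f ⁻¹ᵁ U) := Derivation.mk'
      { toFun := fun a => (OmegaSh.dOmega f).app (f ⁻¹ᵁ U) a
        map_add' := fun a b => map_add _ a b
        map_smul' := fun c a => by
          rw [RingHom.id_apply, Algebra.smul_def]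
          refine ((OmegaSh.dOmega f).d_mul (X := Opposite.op (f ⁻¹ᵁ U)) _ a).trans ?_
          change algebraMap Γ(S, U) Γ(X, f ⁻¹ᵁ U) c • (OmegaSh.dOmega f).app (f ⁻¹ᵁ U) a +
            a • (OmegaSh.dOmega f).app (f ⁻¹ᵁ U) (algebraMap Γ(S, U) Γ(X, f ⁻¹ᵁ U) c) = _
          rw [hconst, smul_zero, add_zero]
          rfl }
      (fun a b => (OmegaSh.dOmega f).d_mul (X := Opposite.op (f ⁻¹ᵁ U)) a b)
    change D a = 0
    have h0 : KaehlerDifferential.D Γ(S, U) Γ(X, f ⁻¹ᵁ U) a = 0 := Subsingleton.elim _ _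
    have h1 := D.liftKaehlerDifferential_comp_D a
    rw [h0, map_zero] at h1
    exact h1.symm
  refine TopCat.Sheaf.eq_of_locally_eq' ⟨(Omega.sheaf f).presheaf, (Omega.sheaf f).isSheaf⟩
    (fun U : {U : S.Opens // IsAffineOpen U ∧ U ≤ V} => f ⁻¹ᵁ U.1) (f ⁻¹ᵁ V)
    (fun U => homOfLE (f.preimage_mono U.2.2)) ?_ _ _ ?_
  · intro x hx
    obtain ⟨_, ⟨U, hU, rfl⟩, hxU, hUV⟩ :=
      S.isBasis_affineOpens.exists_subset_of_mem_open hx V.isOpen
    exact TopologicalSpace.Opens.mem_iSup.mpr ⟨⟨U, hU, hUV⟩, hxU⟩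
  · intro U
    have h2 := (OmegaSh.dOmega f).d_map (X := Opposite.op (f ⁻¹ᵁ V))
      (Y := Opposite.op (f ⁻¹ᵁ U.1)) (homOfLE (f.preimage_mono U.2.2)).op s
    rw [map_zero]
    exact h2.symm.trans (key U.1 U.2.1 _)
end Groth.Agent.S15535
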