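import Groth.Statements.S15536
import Mathlib
import Groth.Agent.S15293
import Groth.Agent.Lib.DeRhamFam.Homotopy

set_option autoImplicit false
universe u
open DeRham

namespace Groth.Agent.S15536

open Polynomial
section

variable {R V W : Type u} [CommRing R] [AddCommGroup V] [Module R V] [AddCommGroup W] [Module R W]

/-- Elements killed by a polynomial in `L` with invertible constant term. -/
def posPart (L : Module.End R V) : Submodule R V where
  carrier := {u | ∃ q : R[X], IsUnit (q.coeff 0) ∧ Polynomial.aeval L q u = 0}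
  zero_mem' := ⟨1, by simp, by simp⟩
  add_mem' := by
    rintro u v ⟨q, hq, hu⟩ ⟨r, hr, hv⟩
    refine ⟨q * r, by rw [Polynomial.mul_coeff_zero]; exact hq.mul hr, ?_⟩
    rw [map_add]
    conv_lhs =>
      arg 1
      rw [mul_comm q r, map_mul, Module.End.mul_apply, hu, map_zero]
    rw [map_mul, Module.End.mul_apply, hv, map_zero, zero_add]
  smul_mem' := by
    rintro c u ⟨q, hq, hu⟩
    exact ⟨q, hq, by rw [map_smul, hu, smul_zero]⟩

theorem mem_posPart {L : Module.End R V} {u : V} :
    u ∈ posPart L ↔ ∃ q : R[X], IsUnit (q.coeff 0) ∧ Polynomial.aeval L q u = 0 := Iff.rfl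

theorem eq_zero_of_posPart {L : Module.End R V} {u : V} (hu : u ∈ posPart L) (h : L u = 0) :
    u = 0 := by
  obtain ⟨q, hq, hqu⟩ := hu
  rw [← q.divX_mul_X_add, map_add, map_mul, Polynomial.aeval_X, Polynomial.aeval_C,
    LinearMap.add_apply, Module.End.mul_apply, h, map_zero, zero_add,
    Module.algebraMap_end_apply] at hqu
  exact hq.smul_eq_zero.mp hqu

theorem exists_preimage_posPart {L : Module.End R V} {u : V} (hu : u ∈ posPart L) :
    ∃ z ∈ posPart L, L z = u := by
  obtain ⟨q, hq, hqu⟩ := hu
  let w : R := -((hq.unit⁻¹ : Rˣ) : R)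
  let r : R[X] := Polynomial.C w * q.divX
  have hz : Polynomial.aeval L r u ∈ posPart L :=
    ⟨q, hq, by rw [← Module.End.mul_apply, ← map_mul, mul_comm, map_mul, Module.End.mul_apply, hqu,
      map_zero]⟩
  refine ⟨_, hz, ?_⟩
  have h1 : Polynomial.X * r = Polynomial.C w * q + 1 := by
    conv_rhs => rw [← q.divX_mul_X_add]
    rw [mul_add (Polynomial.C w), ← Polynomial.C_mul, show w * q.coeff 0 = -1 by simp [w],
      show (Polynomial.C (-1) : R[X]) = -1 by simp]
    simp only [r]; ring
  have h2 := congrArg (fun p => Polynomial.aeval L p u) h1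
  simp only [map_mul, map_add, map_one, Polynomial.aeval_X, Module.End.mul_apply,
    LinearMap.add_apply, hqu, map_zero, zero_add, Module.End.one_apply] at h2
  exact h2

theorem map_posPart {L : Module.End R V} {L' : Module.End R W} (f : V →ₗ[R] W)
    (hf : ∀ x, f (L x) = L' (f x)) {u : V} (hu : u ∈ posPart L) : f u ∈ posPart L' := by
  obtain ⟨q, hq, hqu⟩ := hu
  refine ⟨q, hq, ?_⟩
  have : ∀ (p : R[X]) (x : V), f (Polynomial.aeval L p x) = Polynomial.aeval L' p (f x) := by
    intro p
    induction p using Polynomial.induction_on with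
    | C a => intro x; simp [Module.algebraMap_end_apply]
    | add p q hp hq => intro x; simp [hp, hq]
    | monomial n a h =>
      intro x
      rw [pow_succ, ← mul_assoc]
      simp only [map_mul (Polynomial.aeval L) _ Polynomial.X, map_mul (Polynomial.aeval L') _ Polynomial.X,
        Polynomial.aeval_X, Module.End.mul_apply, h, hf]
  rw [← this, hqu, map_zero]

end

section

variable (R A : Type u) [CommRing R] [CommRing A] [Algebra R A]

/-- Generators of the forms on `A[X]`. -/
noncomputable def genFun : A ⊕ Unit → A[X] := Sum.elim Polynomial.C fun _ => Polynomial.X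

theorem span_genFun :
    Submodule.span A[X] (Set.range fun i => KaehlerDifferential.D R A[X] (genFun A i)) = ⊤ := by
  rw [eq_top_iff, ← KaehlerDifferential.span_range_derivation R A[X], Submodule.span_le]
  rintro _ ⟨p, rfl⟩
  let N := Submodule.span A[X] (Set.range fun i => KaehlerDifferential.D R A[X] (genFun A i))
  have hX : KaehlerDifferential.D R A[X] Polynomial.X ∈ N :=
    Submodule.subset_span ⟨Sum.inr (), rfl⟩
  have hC : ∀ a : A, KaehlerDifferential.D R A[X] (Polynomial.C a) ∈ N :=
    fun a => Submodule.subset_span ⟨Sum.inl a, rfl⟩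
  show KaehlerDifferential.D R A[X] p ∈ N
  induction p using Polynomial.induction_on' with
  | add p q hp hq => rw [map_add]; exact add_mem hp hq
  | monomial n a =>
    rw [← Polynomial.C_mul_X_pow_eq_monomial, Derivation.leibniz, Derivation.leibniz_pow]
    exact add_mem (N.smul_mem _ (N.smul_of_tower_mem _ (N.smul_mem _ hX))) (N.smul_mem _ (hC a))

/-- Contraction with `d/dX`. -/
noncomputable def dX : Ω[A[X]⁄R] →ₗ[A[X]] A[X] :=
  ((Polynomial.derivative' (R := A)).restrictScalars R).liftKaehlerDifferential

/-- Contraction with `X d/dX`. -/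
noncomputable def euler : Ω[A[X]⁄R] →ₗ[A[X]] A[X] := (Polynomial.X : A[X]) • dX R A

theorem euler_D (p : A[X]) :
    euler R A (KaehlerDifferential.D R A[X] p) = Polynomial.X * Polynomial.derivative p := by
  simp [euler, dX]

end


open exteriorPower Polynomial in
/-- For a commutative ℚ-algebra R, an R-algebra A, de Rham differentials d on ⋀^• Ω_{A/R} and d' on ⋀^•
Ω_{A[t]/R}, and the map of de Rham complexes ψ induced by the inclusion A → A[t] (pinned by its
values on the elements b₀ db₁ ∧ … ∧ db_p and commuting with d, d'), the map ψ is a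
quasi-isomorphism: in every degree i, each d'-closed form on A[t] is the sum of ψ_i of a d-closed
form on A and a d'-exact form, and a d-closed form on A whose image under ψ_i is d'-exact is d-exact
(in degree 0, exact means zero). -/
theorem result (R A : Type u) [CommRing R]
    [CommRing A] [Algebra R A] [Algebra ℚ R]
    (d : ∀ p : ℕ, ↥(⋀[A]^p (Ω[A⁄R])) →ₗ[R] ↥(⋀[A]^(p + 1) (Ω[A⁄R])))
    (hd : DeRham.IsDiff (KaehlerDifferential.D R A) d)
    (d' : ∀ p : ℕ, ↥(⋀[A[X]]^p (Ω[A[X]⁄R])) →ₗ[R] ↥(⋀[A[X]]^(p + 1) (Ω[A[X]⁄R])))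
    (hd' : DeRham.IsDiff (KaehlerDifferential.D R A[X]) d')
    (ψ : ∀ p : ℕ, ↥(⋀[A]^p (Ω[A⁄R])) →+ ↥(⋀[A[X]]^p (Ω[A[X]⁄R])))
    (hψ : DeRham.IsCxMap (KaehlerDifferential.D R A) (KaehlerDifferential.D R A[X]) (algebraMap A A[X]) ψ)
    (hcomm : ∀ (p : ℕ) (x : ↥(⋀[A]^p (Ω[A⁄R]))), ψ (p + 1) (d p x) = d' p (ψ p x)) (i : ℕ) :
    (∀ y ∈ DeRham.cocycles d' i, ∃ x ∈ DeRham.cocycles d i, y - ψ i x ∈ DeRham.coboundaries d' i) ∧
      (∀ x ∈ DeRham.cocycles d i, ψ i x ∈ DeRham.coboundaries d' i → x ∈ DeRham.coboundaries d i) := by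
  classical
  let A' := A[X]
  let δ' := KaehlerDifferential.D R A'
  let φ := euler R A
  have hrule := hd'.1
  have hgen : Submodule.span A' (Set.range δ') = ⊤ := DRFam.span_D R A'
  have hdd : ∀ p x, d' (p + 1) (d' p x) = 0 := fun p x => LinearMap.congr_fun (hd'.2 p) x
  -- the retraction
  obtain ⟨π, hπ, hπs⟩ : ∃ π : ∀ p, ↥(⋀[A']^p (Ω[A'⁄R])) →+ ↥(⋀[A]^p (Ω[A⁄R])),
      DeRham.IsCxMap δ' (KaehlerDifferential.D R A) (Polynomial.evalRingHom (0 : A)) π ∧
      ∀ p (c : A') z, π p (c • z) = c.eval 0 • π p z := by
    letI : Algebra A[X] A := (Polynomial.evalRingHom (0 : A)).toAlgebra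
    haveI : IsScalarTower R A[X] A := IsScalarTower.of_algebraMap_eq fun x => by
      simp [RingHom.algebraMap_toAlgebra, Polynomial.algebraMap_apply]
    obtain ⟨π, hπ⟩ := Groth.Agent.S15293.result R R A[X] A
    rw [RingHom.algebraMap_toAlgebra] at hπ
    refine ⟨π, hπ, fun p c z => ?_⟩
    refine DFunLike.congr_fun (DRFam.hom_ext δ' hgen
      ((π p).comp (DistribSMul.toAddMonoidHom _ c))
      ((DistribSMul.toAddMonoidHom _ (c.eval 0)).comp (π p)) fun a b => ?_) z
    show π p (c • a • exteriorPower.ιMulti A' p fun i => δ' (b i)) =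
      c.eval 0 • π p (DeRham.gen δ' p a b)
    rw [smul_smul, hπ p a b]
    refine (hπ p (c * a) b).trans ?_
    simp only [DeRham.gen, smul_smul, Polynomial.coe_evalRingHom]
    erw [Polynomial.eval_mul]
  have hπψ : ∀ p x, π p (ψ p x) = x := by
    intro p x
    refine DFunLike.congr_fun (DRFam.hom_ext (KaehlerDifferential.D R A) (DRFam.span_D R A)
      ((π p).comp (ψ p)) (AddMonoidHom.id _) fun a b => ?_) x
    show π p (ψ p (DeRham.gen (KaehlerDifferential.D R A) p a b)) = DeRham.gen _ p a b
    rw [hψ p a b, hπ p]
    have hev : ∀ x : A, Polynomial.evalRingHom (0 : A) (algebraMap A A[X] x) = x := fun x => by simp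
    congr 1
    · exact hev a
    · exact funext fun i => hev (b i)
  have hπd : ∀ p y, π (p + 1) (d' p y) = d p (π p y) := by
    intro p y
    refine DFunLike.congr_fun (DRFam.hom_ext δ' hgen
      ((π (p + 1)).comp (d' p).toAddMonoidHom) ((d p).toAddMonoidHom.comp (π p)) fun a b => ?_) y
    show π (p + 1) (d' p (DeRham.gen δ' p a b)) = d p (π p (DeRham.gen δ' p a b))
    rw [hrule, hπ p, hd.1, DRFam.ιMulti_eq_gen, DRFam.ιMulti_eq_gen, hπ (p + 1)]
    congr 1
    · simp
    · funext j
      refine Fin.cases ?_ (fun l => ?_) j <;> simp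
  have hκ : ∀ p y, π p (DRFam.Homotopy.kap φ p y) = 0 := by
    intro p y
    have : DRFam.Homotopy.kap φ p y =
        (Polynomial.X : A') • DRFam.Homotopy.kap (dX R A) p y := by
      refine Subtype.ext ?_
      simp [DRFam.Homotopy.kap, φ, euler]
    rw [this, hπs, Polynomial.eval_X, zero_smul]
  let L := fun p => DRFam.Homotopy.L φ d' p
  have hdL : ∀ p x, d' p (L p x) = L (p + 1) (d' p x) := DRFam.Homotopy.d_L hdd
  -- decomposition
  have hdec : ∀ p y, y - ψ p (π p y) ∈ posPart (L p) := by
    intro p y
    let Q : Set ↥(⋀[A']^p (Ω[A'⁄R])) := {y | y - ψ p (π p y) ∈ posPart (L p)}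
    suffices y ∈ Q from this
    have hQadd : ∀ u v, u ∈ Q → v ∈ Q → u + v ∈ Q := by
      intro u v hu hv
      show _ ∈ posPart (L p)
      rw [map_add, map_add, add_sub_add_comm]
      exact add_mem hu hv
    have hbase : ∀ (a : A') (t : Fin p → A ⊕ Unit),
        a • exteriorPower.ιMulti A' p (fun i => δ' (genFun A (t i))) ∈ Q := by
      intro a t
      induction a using Polynomial.induction_on' with
      | add a a' ha ha' => rw [add_smul]; exact hQadd _ _ ha ha'
      | monomial n c =>
        let ε : Fin p → ℕ := fun i => Sum.elim (fun _ => 0) (fun _ => 1) (t i)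
        let w : ℕ := n + ∑ i, ε i
        let g : ↥(⋀[A']^p (Ω[A'⁄R])) := Polynomial.monomial n c •
          DRFam.Homotopy.G δ' (fun i => genFun A (t i))
        have hε : ∀ i, φ (δ' (genFun A (t i))) = ((ε i : A') * genFun A (t i)) := by
          intro i
          simp only [φ, δ', ε, genFun]
          rcases t i with a | a <;> simp [A', euler_D]
        have hLg : L p g = (w : R) • g := by
          simp only [L, g]
          rw [DRFam.Homotopy.L_G hrule hgen p _ ε hε, Nat.cast_smul_eq_nsmul,
            ← Nat.cast_smul_eq_nsmul A', smul_smul]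
          congr 1
          simp only [φ, δ', euler_D, w, Nat.cast_add, add_mul]
          congr 1
          rcases n with _ | n
          · simp
          · rw [Polynomial.derivative_monomial, Nat.add_sub_cancel, Polynomial.X_mul_monomial,
              ← Polynomial.C_eq_natCast, Polynomial.C_mul_monomial, mul_comm c]
        show g - ψ p (π p g) ∈ posPart (L p)
        rcases Nat.eq_zero_or_pos w with hw | hw
        · -- constant generator
          have hn : n = 0 := by omega
          subst hn
          have ht : ∀ i, ∃ a : A, t i = Sum.inl a := by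
            intro i
            have : ε i = 0 := by
              have : (∑ i, ε i) = 0 := by omega
              exact (Finset.sum_eq_zero_iff.mp this) i (Finset.mem_univ _)
            rcases h : t i with a | a
            · exact ⟨a, rfl⟩
            · simp [ε, h] at this
          choose a ha using ht
          have hg : g = ψ p (DeRham.gen (KaehlerDifferential.D R A) p c a) := by
            rw [hψ]
            simp [g, DRFam.Homotopy.G, DeRham.gen, genFun, ha, δ', Polynomial.algebraMap_eq,
              Polynomial.monomial_zero_left]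
            rfl
          rw [hg, hπψ, sub_self]
          exact zero_mem _
        · -- positive weight
          have hπg : π p g = 0 := by
            simp only [g, hπs]
            rcases Nat.eq_zero_or_pos n with hn | hn
            · obtain ⟨i, hi⟩ : ∃ i, ε i ≠ 0 := by
                by_contra h
                push Not at h
                simp [w, hn, h] at hw
              obtain ⟨u, hu⟩ : ∃ u, t i = Sum.inr u := by
                rcases h : t i with a | a
                · simp [ε, h] at hi
                · exact ⟨a, rfl⟩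
              have h0 : π p (DRFam.Homotopy.G δ' fun i => genFun A (t i)) = 0 := by
                have := hπ p 1 (fun i => genFun A (t i))
                rw [DeRham.gen, one_smul] at this
                refine this.trans ?_
                rw [DeRham.gen, AlternatingMap.map_coord_zero _ i (by
                  have hev : Polynomial.evalRingHom (0 : A) (Polynomial.X : A[X]) = 0 := by simp
                  simp only [hu, genFun, Sum.elim_inr]
                  exact (congrArg _ hev).trans (map_zero _)), smul_zero]
              rw [h0, smul_zero]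
            · rw [Polynomial.eval_monomial, zero_pow hn.ne', mul_zero, zero_smul]
          rw [hπg, map_zero, sub_zero]
          refine mem_posPart.mpr ⟨Polynomial.X - Polynomial.C (w : R), ?_, ?_⟩
          · rw [Polynomial.coeff_sub, Polynomial.coeff_X_zero, Polynomial.coeff_C_zero, zero_sub,
              IsUnit.neg_iff, ← map_natCast (algebraMap ℚ R) w]
            exact (IsUnit.mk0 _ (by exact_mod_cast hw.ne')).map (algebraMap ℚ R)
          · rw [map_sub, Polynomial.aeval_X, Polynomial.aeval_C, LinearMap.sub_apply,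
              Module.algebraMap_end_apply, hLg, sub_self]
    -- reduce to the generators
    have hy : y ∈ Submodule.span A' (exteriorPower.ιMulti A' p ''
        {v | Set.range v ⊆ Set.range fun i => δ' (genFun A i)}) := by
      rw [exteriorPower.ιMulti_span_of_span A' p _ (span_genFun R A)]; exact Submodule.mem_top
    suffices ∀ a : A', a • y ∈ Q by simpa using this 1
    induction hy using Submodule.span_induction with
    | mem v hv =>
      obtain ⟨v, hv, rfl⟩ := hv
      intro a
      choose t ht using fun i => hv ⟨i, rfl⟩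
      obtain rfl : v = fun i => δ' (genFun A (t i)) := funext fun i => (ht i).symm
      exact hbase a t
    | zero =>
      intro a
      show _ ∈ posPart (L p)
      simp
    | add u v _ _ hu hv => intro a; rw [smul_add]; exact hQadd _ _ (hu a) (hv a)
    | smul c u _ hu => intro a; rw [smul_smul]; exact hu _
  refine ⟨fun y hy => ?_, fun x hx hbd => ?_⟩
  · have hy0 : d' i y = 0 := hy
    have hx : d i (π i y) = 0 := by rw [← hπd, hy0, map_zero]
    refine ⟨π i y, hx, ?_⟩
    obtain ⟨z, hz, hLz⟩ := exists_preimage_posPart (hdec i y)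
    have hdu : d' i (y - ψ i (π i y)) = 0 := by
      rw [map_sub, hy0, ← hcomm, hx, map_zero, sub_zero]
    have hdz : d' i z = 0 :=
      eq_zero_of_posPart (map_posPart (d' i) (hdL i) hz) (by rw [← hdL, hLz, hdu])
    show y - ψ i (π i y) ∈ DeRham.coboundaries d' i
    rw [← hLz]
    cases i with
    | zero =>
      show DRFam.Homotopy.kap φ 0 (d' 0 z) ∈ (⊥ : Submodule R _)
      rw [hdz, map_zero]
      exact zero_mem _
    | succ q =>
      refine ⟨DRFam.Homotopy.kap φ q z, ?_⟩
      show _ = d' q (DRFam.Homotopy.kap φ q z) + DRFam.Homotopy.kap φ (q + 1) (d' (q + 1) z)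
      rw [hdz, map_zero, add_zero]
  · cases i with
    | zero =>
      have h0 : ψ 0 x = 0 := (Submodule.mem_bot R).mp hbd
      show x ∈ (⊥ : Submodule R _)
      rw [Submodule.mem_bot, ← hπψ 0 x, h0, map_zero]
    | succ q =>
      obtain ⟨η, hη⟩ := hbd
      exact ⟨π q η, by rw [← hπd, hη, hπψ]⟩

end Groth.Agent.S15536
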