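import Groth.Statements.S15546
import Groth.Agent.Lib.SepTensor.Basic
-- import your own Groth.Agent.* helpers here

set_option autoImplicit false
open scoped TensorProduct
universe u
open Unram

namespace Groth.Agent.S15546

/-- Let E be a finite extension of a field k which is not separable over k, and K an algebraic closure
of k. Then E ⊗_k K has a nonzero nilpotent element. -/
theorem result (k E K : Type u) [Field k] [Field E]
    [Algebra k E] [FiniteDimensional k E] [Field K] [Algebra k K] [IsAlgClosure k K]
    (h : ¬ Algebra.IsSeparable k E) : ∃ x : E ⊗[k] K, x ≠ 0 ∧ IsNilpotent x := by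
  have : IsAlgClosed K := IsAlgClosure.isAlgClosed k
  by_contra hc
  push_neg at hc
  refine h ⟨fun x ↦ ?_⟩
  have : IsReduced (E ⊗[k] K) := ⟨fun y hy ↦ by
    by_contra hy0
    exact hc y hy0 hy⟩
  have : IsReduced (K ⊗[k] E) :=
    isReduced_of_injective (Algebra.TensorProduct.comm k K E).toRingEquiv.toRingHom
      (Algebra.TensorProduct.comm k K E).injective
  exact GrothLib.SepTensor.isSeparable_of_isReduced_tensor (K := K) (IsIntegral.of_finite k x)

end Groth.Agent.S15546
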