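import Groth.Statements.S15547
import Groth.Agent.Lib.FinStalk20.Basic

set_option autoImplicit false
set_option maxHeartbeats 400000
set_option linter.style.haveILetI false
set_option backward.isDefEq.respectTransparency.types false
open CategoryTheory AlgebraicGeometry TopologicalSpace
universe u
open Coherent

namespace Groth.Agent.S15547

/-- Let g : Z ⟶ X be a finite morphism of schemes (Z is the spectrum of the finite quasi-coherent
O_X-algebra C = g_*O_Z) and x a point of X. Then the points of Z over x correspond bijectively to
the maximal ideals of the stalk C_x = (g_*O_Z)_x: the map sending z with g(z) = x to the preimage of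
the maximal ideal of O_{Z,z} under the canonical map (g_*O_Z)_x ⟶ O_{Z,z} is a bijection from the
fibre onto the set of maximal ideals. -/
theorem result {Z X : Scheme.{u}} (g : Z ⟶ X)
    [IsFinite g] (x : X) :
    Set.BijOn (fun z : {z : Z // g.base z = x} =>
        Ideal.comap (((g.base _* Z.presheaf).stalkCongr (Inseparable.of_eq z.2)).inv ≫
            TopCat.Presheaf.stalkPushforward CommRingCat g.base Z.presheaf z.1).hom
          (IsLocalRing.maximalIdeal (Z.presheaf.stalk z.1)))
      Set.univ {I : Ideal ((g.base _* Z.presheaf).stalk x) | I.IsMaximal} := by
  exact GrothLib.FinStalk20.bijOn_pointIdeal g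

end Groth.Agent.S15547
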