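import Groth.Statements.S15549
import Mathlib

set_option autoImplicit false
universe u
open CategoryTheory AlgebraicGeometry
open LocCoh

namespace Groth.Agent.S15549

lemma proj_smul_eq_zero {R σ : Type u} [CommRing R] [SetLike σ R] [AddSubgroupClass σ R]
    (𝒜 : ℕ → σ) [GradedRing 𝒜] {M τ : Type u} [AddCommGroup M] [Module R M] [SetLike τ M]
    [AddSubgroupClass τ M] (ℳ : ℕ → τ) [SetLike.GradedSMul 𝒜 ℳ] [DirectSum.Decomposition ℳ]
    {i : ℕ} {m : M} (hm : m ∈ ℳ i) {r : R} (hr : r • m = 0) (d : ℕ) :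
    ((DirectSum.decompose 𝒜 r d : R)) • m = 0 := by
  classical
  have e : r • m = ∑ j ∈ (DirectSum.decompose 𝒜 r).support, ((DirectSum.decompose 𝒜 r j : R)) • m := by
    rw [← Finset.sum_smul, DirectSum.sum_support_decompose]
  have hmem : ∀ j, ((DirectSum.decompose 𝒜 r j : R)) • m ∈ ℳ (j + i) := fun j =>
    SetLike.GradedSMul.smul_mem (DirectSum.decompose 𝒜 r j).2 hm
  have h2 : ((DirectSum.decompose ℳ (r • m)) (d + i) : M) = ((DirectSum.decompose 𝒜 r d : R)) • m := by
    rw [e, DirectSum.decompose_sum, DFinsupp.finset_sum_apply, AddSubmonoidClass.coe_finsetSum]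
    rw [Finset.sum_eq_single d]
    · exact DirectSum.decompose_of_mem_same ℳ (hmem d)
    · intro j _ hj
      exact DirectSum.decompose_of_mem_ne ℳ (hmem j) (by omega)
    · intro hd
      rw [DFinsupp.notMem_support_iff.1 hd]
      simp
  rw [← h2, hr]
  simp


/-- Let R be a Noetherian commutative ring, positively graded by additive subgroups R_d, with irrelevant
ideal R_+ and X = Proj R, and let M be a graded R-module which is the direct sum of its pieces M_i,
i ≥ 0 (non-negatively graded here). For every i and every m ∈ M_i, the global section of M(i)~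
defined by m (the value m/1 at every point) is zero if and only if some power of R_+ annihilates m.
Equivalently, degree by degree, the kernel of the canonical map from M to the direct sum over all n
of Γ(X, M(n)~) is the R_+-power-torsion submodule H^0_{R_+}(M). -/
theorem result {R σ : Type u} [CommRing R] [IsNoetherianRing R] [SetLike σ R] [AddSubgroupClass σ R]
    (𝒜 : ℕ → σ) [GradedRing 𝒜] {M τ : Type u} [AddCommGroup M] [Module R M] [SetLike τ M] [AddSubgroupClass τ M]
    (ℳ : ℕ → τ) [SetLike.GradedSMul 𝒜 ℳ] [DirectSum.Decomposition ℳ]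
    (i : ℕ) (m : ℳ i) :
    GrMod.alpha 𝒜 ℳ i m = 0 ↔
      ∃ k : ℕ, ∀ r : R, r ∈ (HomogeneousIdeal.irrelevant 𝒜).toIdeal ^ k → r • (m : M) = 0 := by
  classical
  constructor
  · intro h
    have hz : ∀ x : ProjectiveSpectrum 𝒜, ∃ s : R, s ∉ x.asHomogeneousIdeal ∧ s • (m : M) = 0 := by
      intro x
      have h1 := congrArg (fun g => GrMod.val g (⟨x, trivial⟩ : (⊤ : (AlgebraicGeometry.Proj 𝒜).Opens))) h
      change LocalizedModule.mk (m : M) 1 = (0 : GrMod.LocMod 𝒜 (M := M) x) at h1
      rw [← LocalizedModule.zero_mk 1, LocalizedModule.mk_eq] at h1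
      obtain ⟨s, hs⟩ := h1
      refine ⟨(s : R), s.2, ?_⟩
      simpa [Submonoid.smul_def] using hs
    let I : Ideal R := (Submodule.span R {(m : M)}).annihilator
    have hIr : (HomogeneousIdeal.irrelevant 𝒜).toIdeal ≤ I.radical := by
      rw [Ideal.radical_eq_sInf]
      refine le_sInf ?_
      rintro P ⟨hIP, hP⟩
      by_contra hirr
      let x : ProjectiveSpectrum 𝒜 :=
        ⟨P.homogeneousCore 𝒜,
          hP.homogeneousCore, fun hle => hirr (le_trans hle (Ideal.toIdeal_homogeneousCore_le 𝒜 P))⟩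
      obtain ⟨s, hs, hsm⟩ := hz x
      apply hs
      change s ∈ (P.homogeneousCore 𝒜).toIdeal
      rw [← DirectSum.sum_support_decompose 𝒜 s]
      refine Ideal.sum_mem _ fun j _ => ?_
      refine Ideal.mem_homogeneousCore_of_homogeneous_of_mem ⟨j, (DirectSum.decompose 𝒜 s j).2⟩ (hIP ?_)
      exact Submodule.mem_annihilator_span_singleton _ _ |>.2 (proj_smul_eq_zero 𝒜 ℳ m.2 hsm j)
    obtain ⟨k, hk⟩ := Ideal.exists_pow_le_of_le_radical_of_fg hIr (IsNoetherian.noetherian _)
    exact ⟨k, fun r hr => Submodule.mem_annihilator_span_singleton _ _ |>.1 (hk hr)⟩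
  · rintro ⟨k, hk⟩
    refine Subtype.ext (funext fun x => Subtype.ext ?_)
    change LocalizedModule.mk (m : M) 1 = (0 : GrMod.LocMod 𝒜 (M := M) x.1)
    obtain ⟨r, hr, hrx⟩ := SetLike.not_le_iff_exists.1 x.1.not_irrelevant_le
    rw [← LocalizedModule.zero_mk 1, LocalizedModule.mk_eq]
    refine ⟨⟨r ^ k, fun hmem => hrx (x.1.isPrime.mem_of_pow_mem k hmem)⟩, ?_⟩
    simpa [Submonoid.smul_def] using hk _ (Ideal.pow_mem_pow hr k)

end Groth.Agent.S15549
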