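import Groth.Prelude
import Groth.Agent.Lib.AmpSpread10.FieldExt

set_option autoImplicit false
universe u
open CategoryTheory CategoryTheory.Limits AlgebraicGeometry
namespace Variety
end Variety
open Variety

namespace Groth.Agent.S1555

/-- Let X be a scheme over a field k and K a field extension of k. If X_K has an ample invertible module
then so does X. -/
theorem result (k : Type u) [Field k] (X : Scheme.{u}) [X.Over (Spec (CommRingCat.of k))] (K : Type u) [Field K] [Algebra k K]
    (L' : (Curv2.bc k X K).Modules) (hL' : CohB1.IsAmple L') : ∃ L : X.Modules, CohB1.IsAmple L := by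
  let x₀ := Spec.map (CommRingCat.ofHom (algebraMap k K))
  let f := X ↘ Spec (CommRingCat.of k)
  let p : pullback f x₀ ⟶ X := pullback.fst f x₀
  haveI : Surjective x₀ := ⟨fun w => ⟨IsLocalRing.closedPoint K,
    (inferInstance : Subsingleton (PrimeSpectrum k)).elim _ w⟩⟩
  haveI : Surjective p := MorphismProperty.pullback_fst (P := @Surjective) _ _ inferInstance
  haveI : IsAffineHom p := MorphismProperty.pullback_fst (P := @IsAffineHom) _ _ (isAffineHom_of_isAffine _)
  haveI : CompactSpace (pullback f x₀ : Scheme.{u}) := GrothLib.Ample.compactSpace_of_isAmple hL'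
  haveI : QuasiSeparatedSpace (pullback f x₀ : Scheme.{u}) := GrothLib.Ample.quasiSeparatedSpace_of_isAmple hL'
  haveI : CompactSpace X := ⟨by
    rw [← (inferInstance : Surjective p).surj.range_eq]
    exact isCompact_range p.continuous⟩
  haveI : QuasiSeparatedSpace X := ⟨fun U V hU hUc hV hVc => by
    have h := QuasiSeparatedSpace.inter_isCompact (p ⁻¹' U) (p ⁻¹' V) (hU.preimage p.continuous)
      (QuasiCompact.isCompact_preimage (f := p) U hU hUc) (hV.preimage p.continuous)
      (QuasiCompact.isCompact_preimage (f := p) V hV hVc)
    rw [← Set.preimage_inter] at h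
    have h' := h.image p.continuous
    rwa [Set.image_preimage_eq _ (inferInstance : Surjective p).surj] at h'⟩
  haveI : QuasiCompact f := inferInstance
  haveI : QuasiSeparated f := inferInstance
  exact GrothLib.AmpSpread10.exists_isAmple_of_field x₀ f (L' := L') hL'

end Groth.Agent.S1555
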