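import Groth.Statements.S15551
import Groth.Agent.Lib.NegTwist.ConnectedFinite
import Groth.Agent.Lib.Ref1.Connected
import Groth.Agent.Lib.FEt21.Normal

set_option autoImplicit false
universe u
open CategoryTheory CategoryTheory.Limits AlgebraicGeometry
open Pi1

namespace Groth.Agent.S15551

open GrothLib in
theorem aux {k : Type u} [Field k] {X Z : Scheme.{u}} (f : X ⟶ Spec (CommRingCat.of k)) [IsProper f] [IsIntegral X]
    (hN : Pi1.IsNormalScheme X) (hdim : (2 : WithBot ℕ∞) ≤ topologicalKrullDim X) (g : Z ⟶ X)
    [IsFinite g] [Etale g] [ConnectedSpace Z]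
    (L : X.Modules) (hL : CohB1.IsAmple L) (s : Coh.structureModule X ⟶ L) [Mono s] :
    ConnectedSpace ↥(pullback g (PicF2.zeroScheme L s).subschemeι) := by
  letI : X.Over (Spec (CommRingCat.of k)) := ⟨f⟩
  haveI : IsProper (X ↘ Spec (CommRingCat.of k)) := ‹IsProper f›
  haveI := Euler.isNoetherian_of_proper (X := X) k
  letI : Z.Over (Spec (CommRingCat.of k)) := ⟨g ≫ f⟩
  haveI : IsProper (Z ↘ Spec (CommRingCat.of k)) := inferInstanceAs (IsProper (g ≫ f))
  haveI := Euler.isNoetherian_of_proper (X := Z) k
  have hZ : Pi1.IsNormalScheme Z := FEt21.isNormalScheme_of_etale hN g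
  haveI : IsIntegral Z := Ref1.isIntegral_of_connected fun y => (hZ y).1
  have hgen : g (genericPoint Z) = genericPoint X := by
    obtain ⟨y', hy', hy''⟩ := Flat.generalizingMap g
      (show genericPoint X ⤳ g (genericPoint Z) from genericPoint_specializes _)
    rwa [(hy'.antisymm (genericPoint_specializes y')).eq] at hy''
  have hsurj : Function.Surjective g := by
    rw [← Set.range_eq_univ, Set.eq_univ_iff_forall]
    exact fun x => (genericPoint_specializes x).mem_closed g.isClosedMap.isClosed_range ⟨_, hgen⟩
  have h := NegTwist.isConnected_preimage_compl k hZ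
    (hdim.trans (NegTwist.topologicalKrullDim_le_of_finite g hsurj)) g hL s
    (hgen.symm ▸ NegTwist.genericPoint_mem_genLocus hL.1 s)
  rw [← NegTwist.support_zeroScheme hL.1 s, ← Scheme.IdealSheafData.range_subschemeι] at h
  let p := pullback.fst g (PicF2.zeroScheme L s).subschemeι
  have hr : Set.range p = g ⁻¹' Set.range (PicF2.zeroScheme L s).subschemeι :=
    Scheme.Pullback.range_fst g (PicF2.zeroScheme L s).subschemeι
  rw [← hr, ← Set.image_univ] at h
  rw [connectedSpace_iff_univ]
  exact ⟨⟨_, Set.mem_univ h.1.choose_spec.choose⟩, (p.isEmbedding.isInducing.isPreconnected_image).1 h.2⟩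

/-- Let k be an algebraically closed field and X an integral normal scheme (all local rings integrally
closed domains), proper over k and of dimension at least 2, with an ample invertible module L; let s
be a nonzero global section of L, given as a monomorphism O_X → L, and D = Z(s) ⊆ X its zero scheme
(the support of an effective ample divisor). Then for every finite étale cover Y → X with Y
connected, the fibre product Y ×_X D is connected. This is the statement that the étale fundamental
group of D maps onto that of X. (The published statement takes X projective over k; this row takes X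
proper over k with an ample invertible module, which is equivalent.) -/
theorem result (k : Type u) [Field k] [IsAlgClosed k]
    (X : Scheme.{u}) (f : X ⟶ Spec (CommRingCat.of k)) [IsProper f] [IsIntegral X] (hN : Pi1.IsNormalScheme X)
    (hdim : (2 : WithBot ℕ∞) ≤ topologicalKrullDim X)
    (L : X.Modules) (hL : CohB1.IsAmple L) (s : Coh.structureModule X ⟶ L) (hs : Mono s)
    (Y : FEt.Cat X) [ConnectedSpace Y.left] :
    ConnectedSpace ↥(pullback Y.hom (PicF2.zeroScheme L s).subschemeι) := by
  haveI := hs
  haveI : IsFinite Y.hom := Y.prop.1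
  haveI : Etale Y.hom := Y.prop.2
  exact @aux k _ X Y.left f _ _ hN hdim Y.hom ‹_› ‹_› ‹_› L hL s _

end Groth.Agent.S15551
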