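import Groth.Agent.Lib.Jets.Infinite
import Groth.Agent.Lib.Hyperplane.ZeroScheme
import Groth.Agent.Lib.BlowUp.IdealComap

set_option autoImplicit false
universe u
open CategoryTheory CategoryTheory.Limits AlgebraicGeometry TopologicalSpace

namespace Groth.Agent.S15554

/-- Let k be an infinite field and X ⊆ P^n_k a smooth projective variety, given as an integral scheme X
with a closed immersion ι into projective n-space over k through which X is smooth over k. Then X
has a smooth hyperplane section defined over k: there is a global section s of the twisting sheaf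
O(1) on P^n_k whose zero scheme H, a hyperplane defined over k, does not contain X and for which the
scheme-theoretic intersection X ∩ H = X ×_{P^n_k} H is smooth over k. (The published statement also
records that X ∩ H has dimension dim X − 1; that is automatic once X is integral and not contained
in H, so this row states smoothness together with X ⊄ H.) -/
theorem result (k : Type u) [Field k] [Infinite k] (n : ℕ)
    (X : Scheme.{u}) [IsIntegral X] (ι : X ⟶ CohB1.ProjSpace n k) [IsClosedImmersion ι]
    [Smooth (ι ≫ CohB1.ProjSpace.toSpec n k)] :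
    ∃ s : Coh.structureModule (CohB1.ProjSpace n k) ⟶ Twist.twistProjSpace n k 1,
      (∃ x : ↥X, ι.base x ∉ (PicF2.zeroScheme (Twist.twistProjSpace n k 1) s).support) ∧
      Smooth (pullback.fst ι (PicF2.zeroScheme (Twist.twistProjSpace n k 1) s).subschemeι ≫ ι ≫
        CohB1.ProjSpace.toSpec n k) := by
  classical
  letI : X.Over (Spec (CommRingCat.of k)) := ⟨ι ≫ CohB1.ProjSpace.toSpec n k⟩
  have hι : ι ≫ CohB1.ProjSpace.toSpec n k = X ↘ Spec (CommRingCat.of k) := rfl
  haveI : Smooth (X ↘ Spec (CommRingCat.of k)) :=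
    show Smooth (ι ≫ CohB1.ProjSpace.toSpec n k) from inferInstance
  let K := AlgebraicClosure k
  have key : ∀ j : Fin (n + 1), ∃ P : MvPolynomial (Fin (n + 1)) K, P ≠ 0 ∧
      ∀ c : Fin (n + 1) → k, MvPolynomial.eval (fun i => algebraMap k K (c i)) P ≠ 0 →
        letI := GrothLib.Jets.constAlgebra (k := k) (GrothLib.Jets.chartX ι j).1
        Algebra.Smooth k (Γ(X, (GrothLib.Jets.chartX ι j).1) ⧸
          Ideal.span {∑ i, c i • GrothLib.Jets.coord ι j i}) := by
    intro j
    letI := GrothLib.Jets.constAlgebra (k := k) (GrothLib.Jets.chartX ι j).1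
    haveI := GrothLib.Jets.smooth_constHom (k := k) (GrothLib.Jets.chartX ι j)
    exact GrothLib.Jets.exists_poly_smooth_infinite (K := K) (GrothLib.Jets.coord ι j) j
      (GrothLib.Jets.coord_self ι j) (GrothLib.Jets.exists_aeval_coord ι hι j)
  choose P hP0 hP using key
  obtain ⟨x0⟩ := (inferInstance : Nonempty X)
  obtain ⟨j0, hj0⟩ : ∃ j, x0 ∈ (GrothLib.Jets.chartX ι j).1 := by
    obtain ⟨j, hj⟩ := Opens.mem_iSup.mp
      ((GrothLib.Ample.ProjMap.iSup_basicOpen_X n k).ge (Opens.mem_top (ι.base x0)))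
    exact ⟨j, hj⟩
  letI := GrothLib.Jets.constAlgebra (k := k) (GrothLib.Jets.chartX ι j0).1
  haveI := GrothLib.Jets.finiteType_chart ι hι j0
  haveI : Nontrivial Γ(X, (GrothLib.Jets.chartX ι j0).1) :=
    (X.presheaf.germ (GrothLib.Jets.chartX ι j0).1 x0 hj0).hom.domain_nontrivial
  obtain ⟨Q, hQ0, hQ⟩ := GrothLib.Jets.exists_poly_prime_infinite (k := k) (K := K) (GrothLib.Jets.coord ι j0) j0
    (GrothLib.Jets.coord_self ι j0)
  obtain ⟨c, hc⟩ : ∃ c : Fin (n + 1) → k,
      MvPolynomial.eval (fun i => algebraMap k K (c i)) (Q * ∏ j, P j) ≠ 0 := by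
    by_contra hcon
    push Not at hcon
    refine (mul_ne_zero hQ0 ((Finset.prod_ne_zero_iff (s := Finset.univ)).mpr fun j _ => hP0 j)) ?_
    refine MvPolynomial.funext_set (fun _ => Set.range (algebraMap k K))
      (fun _ => Set.infinite_range_of_injective (algebraMap k K).injective) fun x hx => ?_
    choose c hc using fun i => hx i (Set.mem_univ i)
    rw [map_zero, ← show (fun i => algebraMap k K (c i)) = x from funext hc]
    exact hcon c
  rw [map_mul, map_prod, mul_ne_zero_iff, Finset.prod_ne_zero_iff] at hc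
  let P' := CohB1.polyGrading n k
  let h : ↥(P' 1) := ∑ i, c i • ⟨MvPolynomial.X i, MvPolynomial.isHomogeneous_X k i⟩
  have hcoeff : ∀ i, MvPolynomial.coeff (Finsupp.single i 1) (h : MvPolynomial (Fin (n + 1)) k) = c i := fun i => by
    simp only [h, Submodule.coe_sum, SetLike.val_smul, MvPolynomial.coeff_sum, MvPolynomial.coeff_smul]
    rw [Finset.sum_eq_single i (fun l _ hl => ?_) (fun hh => (hh (Finset.mem_univ i)).elim)]
    · simp [MvPolynomial.coeff_X]
    · simp [MvPolynomial.coeff_X, (Finsupp.single_left_injective one_ne_zero).eq_iff, hl]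
  let L := Twist.twistProjSpace n k 1
  let s : Coh.structureModule (CohB1.ProjSpace n k) ⟶ L :=
    GrothLib.FinCov.homOfSection (N := L) (GrothLib.Ample.ProjTwist.gsec P' (h : MvPolynomial (Fin (n + 1)) k) h.2)
  have hs : (show Γ(L, ⊤) from PicF2.secVal L s ⊤) =
      GrothLib.Ample.ProjTwist.gsec P' (h : MvPolynomial (Fin (n + 1)) k) h.2 :=
    (GrothLib.FinCov.homOfSection_one _ ⊤).trans (GrothLib.InvExt.mres_self L _)
  have hL : PicF.IsInvertible L :=
    GrothLib.Ample.ProjTwist.isInvertible_twist P' (fun i : ULift.{u} (Fin (n + 1)) => MvPolynomial.X i.down)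
      (fun i => GrothLib.Ample.ProjMap.X_mem i.down) (by
        rw [eq_top_iff, ← GrothLib.Ample.ProjMap.iSup_basicOpen_X n k]
        exact iSup_le fun i => le_iSup_of_le (ULift.up i) le_rfl) 1
  let Z := PicF2.zeroScheme L s
  have hideal : ∀ j, (Z.comap ι).ideal (GrothLib.Jets.chartX ι j) =
      letI := GrothLib.Jets.constAlgebra (k := k) (GrothLib.Jets.chartX ι j).1
      Ideal.span {∑ i, c i • GrothLib.Jets.coord ι j i} := by
    intro j
    letI := GrothLib.Jets.constAlgebra (k := k) (GrothLib.Jets.chartX ι j).1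
    let D : (CohB1.ProjSpace n k).affineOpens :=
      GrothLib.GradedAlg.dPlus P' (MvPolynomial.X j) (GrothLib.Ample.ProjMap.X_mem j) one_pos
    have hD : Z.ideal D = Ideal.span {(Proj.awayToSection P' (MvPolynomial.X j)).hom
        (GrothLib.GradedAlg.frac P' (GrothLib.Ample.ProjMap.X_mem j) 1 h h.2)} :=
      (GrothLib.Jets.zeroScheme_ideal hL s D).trans
        (GrothLib.Hyperplane.zeroIdealOn_basicOpen h.2 s hs (GrothLib.Ample.ProjMap.X_mem j))
    rw [GrothLib.BlowUp.ideal_comap_eq_map Z ι D (GrothLib.Jets.chartX ι j) le_rfl, hD]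
    refine (Ideal.map_span _ _).trans ?_
    erw [Set.image_singleton]
    congr 2
    refine Eq.trans ?_ ((GrothLib.Jets.theta_frac ι hι h j).trans ?_)
    · rw [GrothLib.Jets.theta, Scheme.Hom.app_eq_appLE]
      rfl
    · simp only [hcoeff]
  refine ⟨s, ?_, ?_⟩
  · obtain ⟨p, hp⟩ := hQ c hc.1
    let U := GrothLib.Jets.chartX ι j0
    refine ⟨U.2.fromSpec p, fun hmem => hp ?_⟩
    have hmem' : U.2.fromSpec p ∈ (Z.comap ι).support := by
      rw [Scheme.IdealSheafData.support_comap]; exact hmem
    have hpU : U.2.fromSpec p ∈ U.1 := by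
      have h1 : U.2.fromSpec p ∈ Set.range U.2.fromSpec := ⟨p, rfl⟩
      rwa [U.2.range_fromSpec] at h1
    have h2 : U.2.fromSpec p ∈ U.2.fromSpec '' PrimeSpectrum.zeroLocus ((Z.comap ι).ideal U) :=
      (U.2.fromSpec_image_zeroLocus _).ge (((Z.comap ι).coe_support_inter U).le ⟨hmem', hpU⟩)
    rw [U.2.fromSpec.isOpenEmbedding.injective.mem_set_image, hideal j0] at h2
    exact h2 (Ideal.subset_span rfl)
  · have hsm : Smooth ((Z.comap ι).subschemeι ≫ (X ↘ Spec (CommRingCat.of k))) := by
      refine GrothLib.Jets.smooth_subschemeι_over (Z.comap ι)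
        (fun j : ULift.{u} (Fin (n + 1)) => GrothLib.Jets.chartX ι j.down) (fun y => ?_) fun j => ?_
      · obtain ⟨j, hj⟩ := Opens.mem_iSup.mp
          ((GrothLib.Ample.ProjMap.iSup_basicOpen_X n k).ge (Opens.mem_top (ι.base y)))
        exact ⟨ULift.up j, hj⟩
      · rw [hideal j.down]
        exact hP j.down c (hc.2 _ (Finset.mem_univ _))
    haveI := hsm
    rw [← reassoc_of% Scheme.IdealSheafData.comapIso_inv_subschemeι Z ι, hι]
    infer_instance

end Groth.Agent.S15554
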