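import Groth.Statements.S1855
-- import your own Groth.Agent.* helpers here
import Groth.Agent.Lib.CycPush.Proper

set_option autoImplicit false
universe u
open CategoryTheory AlgebraicGeometry
open Cyc

namespace Groth.Agent.S1855

open GrothLib.CycPush

theorem finite_mem_support {X : Scheme.{u}} [IsLocallyNoetherian X] {δ : X → ℤ} (hδ : Cyc.IsDimFun X δ)
    (U : X.Opens) (hU : IsCompact (U : Set X)) (ξ : X) {f : X.residueField ξ} (hf : f ≠ 0) :
    {x : X | x ∈ U ∧ Cyc.divFun δ ξ f x ≠ 0}.Finite := by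
  by_cases hξ : ξ ∈ U
  swap
  · refine Set.finite_empty.subset fun x hx => ?_
    refine hx.2 ?_
    rw [Cyc.divFun, dif_neg]
    exact fun h => hξ (h.1.mem_open U.2 hx.1)
  haveI : CompactSpace ↥(U : Scheme.{u}) := isCompact_iff_compactSpace.mp hU
  haveI : IsNoetherian (U : Scheme.{u}) := {}
  obtain ⟨c, rfl⟩ : ξ ∈ Set.range U.ι := by rw [Scheme.Opens.range_ι]; exact hξ
  have hC : Cyc.IsDimFun (U : Scheme.{u}) (δ ∘ U.ι) := isDimFun_comp U.ι hδ fun a b z _ hz => by
    rw [Scheme.Opens.range_ι]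
    exact hz.mem_open U.2 (show U.ι b ∈ U from b.2)
  have hfin := GrothLib.CycDiv.finite_support_divFun hC c ((map_ne_zero (U.ι.residueFieldMap c).hom).2 hf)
  refine (hfin.image U.ι).subset fun x hx => ?_
  obtain ⟨z, rfl⟩ : x ∈ Set.range U.ι := by rw [Scheme.Opens.range_ι]; exact hx.1
  refine ⟨z, ?_, rfl⟩
  show _ ≠ (0 : ℤ)
  rw [divFun_preimmersion U.ι hδ hC c z hf]
  exact hx.2

theorem finsum_mem_finset_comm {ι α : Type*} (I : Finset ι) (s : Set α) (F : ι → α → ℤ)
    (h : ∀ i ∈ I, (s ∩ Function.support (F i)).Finite) :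
    ∑ᶠ x ∈ s, ∑ i ∈ I, F i x = ∑ i ∈ I, ∑ᶠ x ∈ s, F i x := by
  classical
  induction I using Finset.induction_on with
  | empty => simp
  | @insert a I ha ih =>
    have h' : ∀ i ∈ I, (s ∩ Function.support (F i)).Finite := fun i hi => h i (Finset.mem_insert_of_mem hi)
    have hfin : (s ∩ Function.support fun x => ∑ i ∈ I, F i x).Finite :=
      (I.finite_toSet.biUnion h').subset fun x hx => by
        obtain ⟨i, hi, hne⟩ := Finset.exists_ne_zero_of_sum_ne_zero hx.2
        exact Set.mem_biUnion hi ⟨hx.1, hne⟩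
    simp_rw [Finset.sum_insert ha]
    rw [finsum_mem_add_distrib' (h a (Finset.mem_insert_self a I)) hfin, ih h']

theorem finite_of_locFin {T ι : Type*} [TopologicalSpace T] {ξ : ι → T}
    (hloc : ∀ x : T, ∃ U : Set T, IsOpen U ∧ x ∈ U ∧ {i | (closure {ξ i} ∩ U).Nonempty}.Finite)
    {K : Set T} (hK : IsCompact K) : {i | (closure {ξ i} ∩ K).Nonempty}.Finite := by
  choose U hU hxU hfin using hloc
  obtain ⟨t, ht⟩ := hK.elim_finite_subcover U hU fun x _ => Set.mem_iUnion.2 ⟨x, hxU x⟩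
  refine (t.finite_toSet.biUnion fun x _ => hfin x).subset fun i hi => ?_
  obtain ⟨a, ha, haK⟩ := hi
  obtain ⟨x, hx, hax⟩ := Set.mem_iUnion₂.1 (ht haK)
  exact Set.mem_biUnion hx ⟨a, ha, hax⟩

end Groth.Agent.S1855

namespace Groth.Agent.S1855

/-- Proper pushforward preserves rational equivalence: for p : X → Y proper and k-cycles α, β on X that
are rationally equivalent, p_*α and p_*β are rationally equivalent k-cycles on Y. Here a pair (X, δ)
with Cyc.IsSetup plays the role of a scheme locally of finite type over a fixed base with a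
dimension function (X locally Noetherian with universally catenary local rings, δ a dimension
function), and Cyc.DeltaCompat records that the dimension function upstairs is the induced one. -/
theorem result (X Y : Scheme.{u}) (δX : X → ℤ) (δY : Y → ℤ) (hX : Cyc.IsSetup X δX) (hY : Cyc.IsSetup Y δY) (p : X ⟶ Y) [IsProper p] (hδ : Cyc.DeltaCompat p δX δY) (k : ℤ) (α β : AlgebraicCycle X ℤ) (hα : α ∈ Cyc.Zk X δX k) (hβ : β ∈ Cyc.Zk X δX k) (h : Cyc.RatEquiv δX k α β) : Cyc.RatEquiv δY k (AlgebraicCycle.map p δX δY α) (AlgebraicCycle.map p δX δY β) := by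
  classical
  haveI := hX.1
  haveI := hY.1
  obtain ⟨ι, ξ, f, hdim, hf, hloc, hsum⟩ := h
  let P : ι → Prop := fun i => δX (ξ i) = δY (p (ξ i))
  refine ⟨{i // P i}, fun i => p (ξ i.1), fun i => Cyc.normGen p (ξ i.1) (f i.1), fun i => i.2.symm.trans (hdim i.1),
    fun i => GrothLib.CycPush.normGen_ne_zero p _
      (GrothLib.CycPush.finite_residueFieldMap_of_delta_eq p hδ i.2) (hf i.1), fun y => ?_, fun y => ?_⟩
  · obtain ⟨V, hV, hy, -⟩ := exists_isAffineOpen_mem_and_subset (x := y) (U := ⊤) trivial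
    refine ⟨V, V.2, hy, ((finite_of_locFin hloc (p.isSpectralMap.2 V.2 hV.isCompact)).preimage
      Subtype.val_injective.injOn).subset fun i hi => ?_⟩
    obtain ⟨z, hz, hzV⟩ := hi
    exact ⟨ξ i.1, subset_closure rfl, (specializes_iff_mem_closure.2 hz).mem_open V.2 hzV⟩
  obtain ⟨V, hV, hy, -⟩ := exists_isAffineOpen_mem_and_subset (x := y) (U := ⊤) trivial
  have hKc : IsCompact ((p ⁻¹ᵁ V : X.Opens) : Set X) := p.isSpectralMap.2 V.2 hV.isCompact
  have hmemV : ∀ x, p x = y → x ∈ p ⁻¹ᵁ V := fun x hx => show p x ∈ V from hx ▸ hy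
  let I := (finite_of_locFin hloc hKc).toFinset
  have hI : ∀ i, ξ i ∈ p ⁻¹ᵁ V → i ∈ I := fun i hi =>
    (finite_of_locFin hloc hKc).mem_toFinset.2 ⟨ξ i, subset_closure rfl, hi⟩
  have hS : ∀ x, p x = y → ∑ᶠ i, Cyc.divFun δX (ξ i) (f i) x = ∑ i ∈ I, Cyc.divFun δX (ξ i) (f i) x :=
    fun x hx => finsum_eq_sum_of_support_subset _ fun i hi => hI i (by
      by_contra hc
      refine hi ?_
      show Cyc.divFun δX (ξ i) (f i) x = 0
      rw [Cyc.divFun, dif_neg]
      exact fun h' => hc (h'.1.mem_open (p ⁻¹ᵁ V).2 (hmemV x hx)))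
  have hfi : ∀ i, (p ⁻¹' {y} ∩ Function.support fun x =>
      Cyc.divFun δX (ξ i) (f i) x * (AlgebraicCycle.mapCoeff p δX δY x : ℤ)).Finite := fun i =>
    (finite_mem_support hX.2.2 (p ⁻¹ᵁ V) hKc (ξ i) (hf i)).subset fun x hx =>
      ⟨hmemV x hx.1, fun h0 => hx.2 (by simp only [h0, zero_mul])⟩
  have hm : ∀ γ : AlgebraicCycle X ℤ, (p ⁻¹' {y} ∩ Function.support fun x =>
      γ x * (AlgebraicCycle.mapCoeff p δX δY x : ℤ)).Finite := fun γ =>
    (GrothLib.CycBasic.finite_support_inter_fibre p γ y).subset fun x hx =>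
      ⟨fun h0 => hx.2 (by simp only [h0, zero_mul]), hx.1⟩
  have hsub : ∑ᶠ x ∈ p ⁻¹' {y}, (α - β) x * (AlgebraicCycle.mapCoeff p δX δY x : ℤ) =
      (∑ᶠ x ∈ p ⁻¹' {y}, α x * (AlgebraicCycle.mapCoeff p δX δY x : ℤ)) -
        ∑ᶠ x ∈ p ⁻¹' {y}, β x * (AlgebraicCycle.mapCoeff p δX δY x : ℤ) := by
    rw [eq_sub_iff_add_eq, ← finsum_mem_add_distrib' (hm (α - β)) (hm β)]
    exact finsum_mem_congr rfl fun x _ => by
      rw [Function.locallyFinsuppWithin.coe_sub, Pi.sub_apply]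
      ring
  rw [Function.locallyFinsuppWithin.coe_sub, Pi.sub_apply, AlgebraicCycle.map, AlgebraicCycle.map,
    Function.locallyFinsupp.map_apply, Function.locallyFinsupp.map_apply,
    ← hsub]
  rw [finsum_mem_congr rfl (g := fun x => ∑ i ∈ I,
    Cyc.divFun δX (ξ i) (f i) x * (AlgebraicCycle.mapCoeff p δX δY x : ℤ)) fun x hx => by
    rw [← Finset.sum_mul, ← hS x hx, ← hsum x]]
  rw [finsum_mem_finset_comm I (p ⁻¹' {y}) (fun i x => Cyc.divFun δX (ξ i) (f i) x *
    (AlgebraicCycle.mapCoeff p δX δY x : ℤ)) (fun i _ => hfi i),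
    Finset.sum_congr rfl fun i _ => GrothLib.CycPush.sum_divFun_proper p hX.2.2 hY.2.2 hδ (ξ i) (hf i) y,
    ← Finset.sum_filter]
  rw [finsum_eq_sum_of_support_subset _ (s := I.subtype P) fun i hi => Finset.mem_subtype.2 (hI i.1 (by
    by_contra hc
    refine hi ?_
    show Cyc.divFun δY _ _ y = 0
    rw [Cyc.divFun, dif_neg]
    exact fun h' => hc (h'.1.mem_open V.2 hy)))]
  exact (Finset.sum_subtype_eq_sum_filter (p := P) fun i =>
    Cyc.divFun δY (p (ξ i)) (Cyc.normGen p (ξ i) (f i)) y).symm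

end Groth.Agent.S1855
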