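import Groth.Statements.S1868
-- import your own Groth.Agent.* helpers here
import Groth.Agent.Lib.CycFlat.Length
import Groth.Agent.Lib.Weight.Multiplicity
import Groth.Agent.Lib.CycBasic.Push

set_option autoImplicit false
universe u
open CategoryTheory AlgebraicGeometry
open Cyc

namespace Groth.Agent.S1868

/-- Let f : X → Y be finite locally free of constant degree d (finite, flat, rank function constantly
d). Then f has relative dimension 0 and for every k-cycle α on Y, f_*(f^*α) = d·α (for any cycle
f^*α on X with the flat-pullback coefficients). Here a pair (X, δ) with Cyc.IsSetup plays the role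
of a scheme locally of finite type over a fixed base with a dimension function (X locally Noetherian
with universally catenary local rings, δ a dimension function), and Cyc.DeltaCompat records that the
dimension function upstairs is the induced one. -/
theorem result (X Y : Scheme.{u}) (δX : X → ℤ) (δY : Y → ℤ) (hX : Cyc.IsSetup X δX) (hY : Cyc.IsSetup Y δY) (f : X ⟶ Y) [IsFinite f] [Flat f] (d : ℕ) (hd : ∀ y : Y, f.finrank y = d) (hδ : Cyc.DeltaCompat f δX δY) (k : ℤ) : Cyc.HasRelDim f 0 ∧ ∀ (α : AlgebraicCycle Y ℤ), α ∈ Cyc.Zk Y δY k → ∀ α' : AlgebraicCycle X ℤ, ⇑α' = Cyc.pullFun f δX δY 0 ⇑α → AlgebraicCycle.map f δX δY α' = d • α := by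
  classical
  have htr : ∀ x : X, GrothLib.CycFlat.resTrdeg f x = 0 := fun x => by
    letI := (f.residueFieldMap x).hom.toAlgebra
    haveI : Module.Finite (Y.residueField (f x)) (X.residueField x) := GrothLib.Weight.finite_residueFieldMap f x
    haveI : FaithfulSMul (Y.residueField (f x)) (X.residueField x) :=
      (faithfulSMul_iff_algebraMap_injective _ _).2 (RingHom.injective _)
    exact trdeg_eq_zero_iff.2 inferInstance
  have hrel : Cyc.HasRelDim f 0 := (GrothLib.CycFlat.hasRelDim_iff f 0).2 fun x _ => by
    rw [htr x, Nat.cast_zero]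
  refine ⟨hrel, fun α _ α' hα' => ?_⟩
  have hδ0 : ∀ x, δX x = δY (f x) := fun x => by
    obtain ⟨m, hm, he⟩ := hδ x
    have : m = 0 := Nat.cast_injective (R := Cardinal) (hm.symm.trans ((htr x).trans Nat.cast_zero.symm))
    omega
  ext y
  simp only [AlgebraicCycle.map, Function.locallyFinsupp.map_apply]
  have h := GrothLib.Weight.fibreIntegral_mult f y
  rw [hd] at h
  unfold MoreMor.fibreIntegral at h
  rw [finsum_congr (fun u : {u : X // f u = y} => GrothLib.Weight.mult_mul_finSepDegree f u.1)] at h
  haveI : Finite {u : X // f u = y} := (f.finite_preimage_singleton y).to_subtype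
  rw [show ((d • α : AlgebraicCycle Y ℤ) y) = α y * (d : ℤ) by simp [mul_comm], ← h, mul_finsum,
    ← finsum_set_coe_eq_finsum_mem]
  refine finsum_congr fun u => ?_
  obtain ⟨x, hx⟩ := u
  have hx' : f x = y := hx
  show α' x * ((AlgebraicCycle.mapCoeff f δX δY x : ℕ) : ℤ) = α y * (GrothLib.Weight.fibreDegree (f.stalkMap x).hom : ℤ)
  rw [hα', GrothLib.CycFlat.pullFun_apply, if_pos (by rw [add_zero]; exact hδ0 x), show α y = α (f x) from congrArg α hx'.symm, AlgebraicCycle.mapCoeff,
    if_pos (show δX x = δY (f.base x) from hδ0 x), mul_assoc, ← Nat.cast_mul]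
  rfl

end Groth.Agent.S1868
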