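import Groth.Statements.S15556
-- import your own Groth.Agent.* helpers here
import Groth.Agent.Lib.CycPush.Linear
import Groth.Agent.Lib.PerfClosCyc.Fibre
import Groth.Agent.S1855
import Groth.Agent.S1868
import Mathlib.AlgebraicGeometry.Morphisms.FlatRank
import Mathlib.FieldTheory.PurelyInseparable.PerfectClosure

set_option autoImplicit false
universe u
open CategoryTheory AlgebraicGeometry
open CategoryTheory.Limits
open Cyc

namespace Groth.Agent.S15556

theorem finrank_specMap (k E : Type u) [Field k] [Field E] [Algebra k E] [Module.Finite k E]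
    (x : PrimeSpectrum k) :
    Scheme.Hom.finrank (Spec.map (CommRingCat.ofHom (algebraMap k E))) x = Module.finrank k E := by
  rw [Scheme.Hom.finrank_SpecMap_algebraMap k E x, Module.rankAtStalk_eq_finrank_of_free]
  rfl

end Groth.Agent.S15556

namespace Groth.Agent.S15556

/-- Let k be a field of characteristic p > 0, E a finite purely inseparable field extension of k, X a
separated scheme of finite type over k, X' = X ×_k E with projection f : X' → X (any pullback
square), δ a dimension function on X making (X, δ) a cycle setup (X locally Noetherian with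
universally catenary local rings) and δ' the induced dimension function on X' (so (X', δ') is a
cycle setup and δ' is compatible with δ along f, which has relative dimension 0). Then flat pullback
of cycles along f induces a bijection of Chow groups of i-cycles after inverting p, in the following
two-sided sense: for every i-cycle β on X' there are an i-cycle α on X, an i-cycle α' on X' with the
flat-pullback coefficients of α, and an exponent s with [α'] = p^s · [β] in CH_i(X'); and for every
i-cycle α on X and every i-cycle α' on X' with the flat-pullback coefficients of α, if [α'] = 0 in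
CH_i(X') then p^s · [α] = 0 in CH_i(X) for some s. (The published statement allows an arbitrary
purely inseparable extension E of k; this row takes E finite over k, the case the printed argument
carries out.) -/
theorem result (k E : Type u) [Field k] [Field E] [Algebra k E] (p : ℕ) [Fact p.Prime] [CharP k p] [Module.Finite k E] [IsPurelyInseparable k E] (X X' : Scheme.{u}) (g : X ⟶ Spec (CommRingCat.of k)) [IsSeparated g] [LocallyOfFiniteType g] [QuasiCompact g] (f : X' ⟶ X) (g' : X' ⟶ Spec (CommRingCat.of E)) (hsq : IsPullback f g' g (Spec.map (CommRingCat.ofHom (algebraMap k E)))) (δ : X → ℤ) (δ' : X' → ℤ) (hX : Cyc.IsSetup X δ) (hX' : Cyc.IsSetup X' δ') (hδ : Cyc.DeltaCompat f δ' δ) (i : ℤ) : (∀ (β : AlgebraicCycle X' ℤ) (hβ : β ∈ Cyc.Zk X' δ' i), ∃ (α : AlgebraicCycle X ℤ) (hα : α ∈ Cyc.Zk X δ i) (α' : AlgebraicCycle X' ℤ) (hα' : α' ∈ Cyc.Zk X' δ' i) (s : ℕ), ⇑α' = Cyc.pullFun f δ' δ 0 ⇑α ∧ ChowOps.cl α' hα' = p ^ s • ChowOps.cl β hβ) ∧ (∀ (α : AlgebraicCycle X ℤ) (hα : α ∈ Cyc.Zk X δ i) (α' : AlgebraicCycle X'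 ℤ) (hα' : α' ∈ Cyc.Zk X' δ' i), ⇑α' = Cyc.pullFun f δ' δ 0 ⇑α → ChowOps.cl α' hα' = 0 → ∃ s : ℕ, p ^ s • ChowOps.cl α hα = 0) := by
  classical
  haveI := hX.1
  haveI := hX'.1
  haveI : ExpChar k p := ExpChar.prime Fact.out
  let t := Spec.map (CommRingCat.ofHom (algebraMap k E))
  have htF : IsFinite t := (IsFinite.SpecMap_iff _).2 (RingHom.finite_algebraMap.2 ‹_›)
  have htFl : Flat t := Flat.SpecMap_iff.2 ((RingHom.flat_algebraMap_iff).2 inferInstance)
  haveI := htF
  haveI := htFl
  haveI : IsFinite f := MorphismProperty.of_isPullback hsq.flip htF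
  haveI : Flat f := MorphismProperty.of_isPullback hsq.flip htFl
  haveI : UniversallyInjective f :=
    MorphismProperty.of_isPullback hsq.flip (GrothLib.PerfClosCyc.universallyInjective_specMap k E)
  haveI : CompactSpace X := QuasiCompact.compactSpace_of_compactSpace g
  haveI : CompactSpace X' := QuasiCompact.compactSpace_of_compactSpace f
  haveI : IsNoetherian X' := {}
  haveI : IsNoetherian X := {}
  obtain ⟨e, he⟩ := IsPurelyInseparable.finrank_eq_pow k E p
  have hd : ∀ y, f.finrank y = p ^ e := fun y =>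
    (Scheme.Hom.finrank_of_isPullback g' f t g hsq.flip y).trans ((finrank_specMap k E (g y)).trans he)
  have hinj : Function.Injective f := f.injective
  have hδeq : ∀ x, δ' x = δ (f x) := fun x => by
    obtain ⟨n, hn, hnx⟩ := hδ x
    have h0 : (n : Cardinal.{u}) = ((0 : ℕ) : Cardinal.{u}) := by
      rw [Nat.cast_zero, ← GrothLib.PerfClosCyc.resTrdeg_eq_zero f x]
      exact hn.symm
    have : n = 0 := by exact_mod_cast h0
    omega
  obtain ⟨-, hpush⟩ := Groth.Agent.S1868.result X' X δ' δ hX' hX f (p ^ e) hd hδ i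
  have hshift : ∀ x, GrothLib.CycFlat.MaxFib f x → δ' x = δ (f x) + 0 := fun x _ => by rw [add_zero, hδeq x]
  refine ⟨fun β hβ => ?_, fun α hα α' hα' hpull h0 => ⟨e, ?_⟩⟩
  · have hα := GrothLib.CycPush.map_mem_Zk f δ' δ β hβ
    refine ⟨_, hα, p ^ e • β, (ChowOps.zk X' δ' i).nsmul_mem (show β ∈ ChowOps.zk X' δ' i from hβ) (p ^ e), e, ?_,
      map_nsmul (ChowOps.clHom X' δ' i) (p ^ e) ⟨β, hβ⟩⟩
    let γ := GrothLib.CycDiv.mkCycle (Cyc.pullFun f δ' δ 0 ⇑(AlgebraicCycle.map f δ' δ β))
      (GrothLib.CycDiv.finite_support_pullFun f hX'.2.2 hshift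
        (GrothLib.CycLimit.finite_support (AlgebraicCycle.map f δ' δ β)))
    have h1 := hpush _ hα γ rfl
    rw [← GrothLib.CycPush.map_nsmul] at h1
    show _ = ⇑γ
    funext x
    have h2 := congrArg (fun a : AlgebraicCycle X ℤ => a (f x)) h1
    simp only [GrothLib.CycPush.map_apply_of_injective f δ' δ hinj] at h2
    refine (mul_right_cancel₀ ?_ h2).symm
    rw [AlgebraicCycle.mapCoeff, if_pos (hδeq x), Nat.cast_ne_zero]
    letI := (f.residueFieldMap x).hom.toAlgebra
    haveI : Module.Finite (X.residueField (f x)) (X'.residueField x) :=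
      GrothLib.Weight.finite_residueFieldMap f x
    exact (Module.finrank_pos (R := X.residueField (f x)) (M := X'.residueField x)).ne'
  · have hmem : (⟨α', hα'⟩ : ↥(ChowOps.zk X' δ' i)) ∈ ChowOps.ratTriv X' δ' i :=
      (QuotientAddGroup.eq_zero_iff _).1 h0
    have hle : ChowOps.ratTriv X' δ' i ≤ (ChowOps.ratTriv X δ i).comap (GrothLib.CycPush.mapZk f δ' δ i) := by
      refine (AddSubgroup.closure_le _).2 fun a ha => AddSubgroup.subset_closure ?_
      have h1 : Cyc.RatEquiv δ' i (a : AlgebraicCycle X' ℤ) 0 := by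
        rw [Cyc.RatEquiv, sub_zero]
        exact ha
      have h2 := Groth.Agent.S1855.result X' X δ' δ hX' hX f hδ i a.1 0 a.2
        (ChowOps.zk X' δ' i).zero_mem h1
      rw [Cyc.RatEquiv, GrothLib.CycPush.map_zero', sub_zero] at h2
      exact h2
    have h3 := hle hmem
    have h4 : GrothLib.CycPush.mapZk f δ' δ i ⟨α', hα'⟩ = p ^ e • (⟨α, hα⟩ : ↥(ChowOps.zk X δ i)) :=
      Subtype.ext (by rw [GrothLib.CycPush.coe_mapZk, hpush α hα α' hpull]; rfl)
    rw [AddSubgroup.mem_comap, h4] at h3
    exact (map_nsmul (ChowOps.clHom X δ i) _ _).symm.trans ((QuotientAddGroup.eq_zero_iff _).2 h3)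

end Groth.Agent.S15556
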