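import Groth.Statements.S15557


set_option autoImplicit false
universe v u
open CategoryTheory
open CohDer

namespace Groth.Agent.S15557

open CategoryTheory.Pretriangulated in
/-- Let T = (X, Y, Z) and T' = (X', Y', Z') be distinguished triangles in a pretriangulated category and
assume that every morphism X → Z' and every morphism X → Z'[-1] is zero. Then composing with the
first map X' → Y' of T' is a bijection Hom(X, X') → Hom(X, Y'), and composing with the second map Y
→ Z of T is a bijection Hom(Z, Z') → Hom(Y, Z'). (The published lemma is for triangulated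
categories; the octahedral axiom plays no role.) -/
theorem result {D : Type u} [Category.{v} D] [Preadditive D]
    [Limits.HasZeroObject D] [HasShift D ℤ] [∀ n : ℤ, (shiftFunctor D n).Additive] [Pretriangulated D]
    (T T' : Triangle D) (hT : T ∈ distinguishedTriangles) (hT' : T' ∈ distinguishedTriangles)
    (hXZ : ∀ u : T.obj₁ ⟶ T'.obj₃, u = 0)
    (hXZ' : ∀ u : T.obj₁ ⟶ (shiftFunctor D (-1 : ℤ)).obj T'.obj₃, u = 0) :
    Function.Bijective (fun u : T.obj₁ ⟶ T'.obj₁ => u ≫ T'.mor₁) ∧
      Function.Bijective (fun w : T.obj₃ ⟶ T'.obj₃ => T.mor₂ ≫ w) := by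
  refine ⟨⟨fun u v huv => ?_, fun q => ?_⟩, fun u v huv => ?_, fun q => ?_⟩
  · obtain ⟨w, hw⟩ := T'.invRotate.coyoneda_exact₂ (Pretriangulated.inv_rot_of_distTriang _ hT')
      (u - v) (by erw [Preadditive.sub_comp]; exact sub_eq_zero.2 huv)
    exact sub_eq_zero.1 (hw.trans (by erw [hXZ' w, Limits.zero_comp]; rfl))
  · obtain ⟨u, hu⟩ := T'.coyoneda_exact₂ hT' q (hXZ _)
    exact ⟨u, hu.symm⟩
  · obtain ⟨z, hz⟩ := T.yoneda_exact₃ hT (u - v)
      (by rw [Preadditive.comp_sub]; exact sub_eq_zero.2 huv)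
    have hz0 : z = 0 := by
      apply (shiftFunctor D (-1 : ℤ)).map_injective
      rw [Functor.map_zero]
      rw [← cancel_epi ((shiftFunctorCompIsoId D (1 : ℤ) (-1) (by omega)).inv.app T.obj₁),
        Limits.comp_zero]
      exact hXZ' _
    rw [hz0, Limits.comp_zero] at hz
    exact sub_eq_zero.1 hz
  · obtain ⟨w, hw⟩ := T.yoneda_exact₂ hT q (hXZ _)
    exact ⟨w, hw.symm⟩

end Groth.Agent.S15557
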