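import Groth.Statements.S1556
import Groth.Agent.Lib.AlgMisc.GeomRegAt
import Groth.Agent.Lib.AlgMisc.GeomRedAt
import Groth.Agent.Lib.CurvePoints.Basic
import Mathlib

set_option autoImplicit false
set_option backward.isDefEq.respectTransparency false
universe u
open CategoryTheory CategoryTheory.Limits AlgebraicGeometry
attribute [local instance] Curv2.resAlgebra
open Variety

namespace Groth.Agent.S1556

/-- A regular point with separable residue field is smooth. -/
theorem mem_of_regular_separable {k : Type u} [Field k] (X : Scheme.{u}) [X.Over (Spec (CommRingCat.of k))]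
    [LocallyOfFinitePresentation (X ↘ Spec (CommRingCat.of k))] {A : CommRingCat.{u}} (j : Spec A ⟶ X)
    [IsOpenImmersion j] (p : Spec A) (hx : IsRegularLocalRing (X.presheaf.stalk (j p)))
    (hsep : Algebra.IsSeparable k (X.residueField (j p))) :
    j p ∈ (X ↘ Spec (CommRingCat.of k)).smoothLocus := by
  set f := X ↘ Spec (CommRingCat.of k)
  let φ := Spec.preimage (j ≫ f)
  algebraize [φ.hom]
  have hj : j ≫ f = Spec.map (CommRingCat.ofHom (algebraMap k A)) := (Spec.map_preimage _).symm
  haveI : LocallyOfFinitePresentation (Spec.map (CommRingCat.ofHom (algebraMap k A))) := by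
    rw [← hj]; infer_instance
  haveI : Algebra.FinitePresentation k A :=
    RingHom.finitePresentation_algebraMap.mp
      ((HasRingHomProperty.Spec_iff (P := @LocallyOfFinitePresentation)).mp inferInstance)
  change p ∈ j ⁻¹ᵁ f.smoothLocus
  rw [Scheme.Hom.preimage_smoothLocus_eq]
  simp only [hj]
  refine (Lib.AlgMisc.GeomRegAt.mem_smoothLocus_spec_iff (k := k) (A := A) p).mpr ?_
  letI : Algebra A ((Spec A).presheaf.stalk p) := StructureSheaf.stalkAlgebra (R := A) p
  haveI : IsLocalization (PrimeSpectrum.asIdeal p).primeCompl ((Spec A).presheaf.stalk p) :=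
    StructureSheaf.IsLocalization.to_stalk (R := A) p
  let L := Localization.AtPrime (PrimeSpectrum.asIdeal p)
  let ε : X.presheaf.stalk (j p) ≃+* L := (asIso (j.stalkMap p)).commRingCatIsoToRingEquiv.trans
    (IsLocalization.algEquiv (PrimeSpectrum.asIdeal p).primeCompl ((Spec A).presheaf.stalk p) L).toRingEquiv
  letI := Curv2.stalkAlgebra k X (j p)
  have hcompat : ∀ c : k, ε (Curv2.stalkMap k X (j p) c) = algebraMap k L c := by
    have h1 : CommRingCat.ofHom (algebraMap k (X.presheaf.stalk (j p))) ≫ j.stalkMap p =
        CommRingCat.ofHom (algebraMap k A) ≫ StructureSheaf.toStalk A p := by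
      apply Spec.map_injective
      rw [Spec.map_comp, Spec.map_comp, ← Lib.AlgMisc.GeomRedAt.fromSpecStalk_over,
        Scheme.SpecMap_stalkMap_fromSpecStalk_assoc, hj, Spec.fromSpecStalk_eq']
    intro c
    have h2 := congrArg (fun h => h.hom c) h1
    show (IsLocalization.algEquiv (PrimeSpectrum.asIdeal p).primeCompl ((Spec A).presheaf.stalk p) L)
      ((j.stalkMap p).hom (algebraMap k (X.presheaf.stalk (j p)) c)) = _
    refine Eq.trans (congrArg _ h2) ?_
    exact (AlgEquiv.commutes _ _).trans (IsScalarTower.algebraMap_apply k A L c).symm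
  haveI : IsRegularLocalRing L := IsRegularLocalRing.of_ringEquiv (R := X.presheaf.stalk (j p)) ε
  let e : X.residueField (j p) ≃ₐ[k] IsLocalRing.ResidueField L :=
    AlgEquiv.ofRingEquiv (f := IsLocalRing.ResidueField.mapEquiv ε) fun c => by
      haveI : IsLocalHom (ε : X.presheaf.stalk (j p) →+* L) := inferInstance
      show IsLocalRing.ResidueField.map (ε : X.presheaf.stalk (j p) →+* L)
        (IsLocalRing.residue _ (Curv2.stalkMap k X (j p) c)) = _
      rw [IsLocalRing.ResidueField.map_residue]
      exact congrArg (IsLocalRing.residue L) (hcompat c)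
  haveI := hsep
  haveI : Algebra.IsSeparable k (IsLocalRing.ResidueField L) := AlgEquiv.Algebra.isSeparable e
  haveI : Algebra.FormallyEtale k (IsLocalRing.ResidueField L) :=
    Algebra.FormallyEtale.of_isSeparable k (IsLocalRing.ResidueField L)
  exact GrothLib.LocProp.isSmoothAt_of_isRegularLocalRing _

/-- Let X be a curve over k (integral, separated, of finite type, of dimension one) and x a closed point
whose residue field is separable over k. Then the local ring at x is a discrete valuation ring if
and only if x lies in the smooth locus of X → Spec k. -/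
theorem result (k : Type u) [Field k] (X : Scheme.{u}) [X.Over (Spec (CommRingCat.of k))] [IsIntegral X]
    [IsSeparated (X ↘ (Spec (CommRingCat.of k)))] [LocallyOfFinitePresentation (X ↘ (Spec (CommRingCat.of k)))] [QuasiCompact (X ↘ (Spec (CommRingCat.of k)))]
    (hdim : topologicalKrullDim X = 1) (x : X) (hx : IsClosed ({x} : Set X))
    [Algebra.IsSeparable k (X.residueField x)] :
    IsDiscreteValuationRing (X.presheaf.stalk x) ↔ x ∈ (X ↘ (Spec (CommRingCat.of k))).smoothLocus := by
  haveI : IsLocallyNoetherian X := LocallyOfFiniteType.isLocallyNoetherian (X ↘ (Spec (CommRingCat.of k)))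
  constructor
  · intro h
    have hreg : IsRegularLocalRing (X.presheaf.stalk x) := inferInstance
    have hsep : Algebra.IsSeparable k (X.residueField x) := inferInstance
    obtain ⟨i, p, rfl⟩ := X.affineOpenCover.openCover.exists_eq x
    exact mem_of_regular_separable X (X.affineOpenCover.f i) p hreg hsep
  · intro h
    haveI : IsRegularLocalRing (X.presheaf.stalk x) :=
      Lib.AlgMisc.GeomRegAt.isRegularLocalRing_stalk_of_mem_smoothLocus _ h
    have hne : x ≠ genericPoint X := fun e =>
      GrothLib.CurvePoints.genericPoint_not_isClosed hdim (e ▸ hx)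
    have h1 := GrothLib.CurvePoints.ringKrullDim_stalk hdim.le hne
    rw [← IsLocalRing.finrank_CotangentSpace_eq_one_iff]
    have h2 := (IsRegularLocalRing.iff_finrank_cotangentSpace _).mp ‹IsRegularLocalRing (X.presheaf.stalk x)›
    rw [h1] at h2
    exact_mod_cast h2

end Groth.Agent.S1556
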