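import Groth.Statements.S15562
import Groth.Agent.Lib.Kron.Basic

set_option autoImplicit false
universe u v w
open KronMod

namespace Groth.Agent.S15562

/-- Over a field K, for V of dimension d₋₁ > 0 and W of dimension n·d₋₁, semistable Kronecker modules
with n arrows from V to W exist, and any two of them are isomorphic as Kronecker modules; in other
words the moduli space K(n; d₋₁, n·d₋₁) of semistable Kronecker modules is a single point. (The
published statement assumes K algebraically closed of characteristic zero and n ≥ 2; this row allows
any field K and any number n of arrows.) -/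
theorem result (K : Type u) [Field K] (V : Type v) (W : Type w)
    [AddCommGroup V] [Module K V] [FiniteDimensional K V]
    [AddCommGroup W] [Module K W] [FiniteDimensional K W]
    (n : ℕ) (hV : 0 < Module.finrank K V) (hW : Module.finrank K W = n * Module.finrank K V) :
    (∃ f : Fin n → (V →ₗ[K] W), KronMod.IsSemistable f) ∧
    ∀ f f' : Fin n → (V →ₗ[K] W), KronMod.IsSemistable f → KronMod.IsSemistable f' →
      KronMod.AreIso f f' := by
  classical
  have hd : Module.finrank K (Fin n → V) = Module.finrank K W := by rw [Module.finrank_pi_fintype, hW]; simp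
  let e := LinearEquiv.ofFinrankEq (Fin n → V) W hd
  refine ⟨⟨fun j => e.toLinearMap ∘ₗ LinearMap.single K (fun _ => V) j, ?_⟩, fun f f' hf hf' => ?_⟩
  · rw [GrothLib.Kron.isSemistable_iff_bijective_sumMap hV hW]
    have he : GrothLib.Kron.sumMap (fun j => e.toLinearMap ∘ₗ LinearMap.single K (fun _ => V) j) = e.toLinearMap := by
      refine LinearMap.ext fun v => ?_
      rw [GrothLib.Kron.sumMap_apply]
      simp only [LinearMap.comp_apply, LinearMap.coe_single, LinearEquiv.coe_coe, ← map_sum]
      rw [Finset.univ_sum_single v]
    rw [he]
    exact e.bijective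
  · let a := LinearEquiv.ofBijective _ ((GrothLib.Kron.isSemistable_iff_bijective_sumMap hV hW).1 hf)
    let b := LinearEquiv.ofBijective _ ((GrothLib.Kron.isSemistable_iff_bijective_sumMap hV hW).1 hf')
    refine ⟨LinearEquiv.refl K V, a.symm.trans b, fun j => LinearMap.ext fun x => ?_⟩
    have h1 : a (Pi.single j x) = f j x := GrothLib.Kron.sumMap_single f j x
    have h2 : b (Pi.single j x) = f' j x := GrothLib.Kron.sumMap_single f' j x
    show b (a.symm (f j x)) = f' j x
    rw [← h1, a.symm_apply_apply, h2]


end Groth.Agent.S15562
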