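import Groth.Statements.S15564
import Groth.Agent.Lib.Kron.Basic

set_option autoImplicit false
universe u v w
open KronMod

namespace Groth.Agent.S15564

/-- For a Kronecker module f with n arrows over a field K between one-dimensional spaces V and W,
semistability, stability and f ≠ 0 are equivalent: the semistable locus and the stable locus of
dimension vector (1, 1) are both the complement of the zero module. (The published statement assumes
K algebraically closed of characteristic zero and n ≥ 2; this row allows any field K and any n.) -/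
theorem result (K : Type u) [Field K] (V : Type v) (W : Type w)
    [AddCommGroup V] [Module K V] [FiniteDimensional K V]
    [AddCommGroup W] [Module K W] [FiniteDimensional K W]
    (n : ℕ) (f : Fin n → (V →ₗ[K] W))
    (hV : Module.finrank K V = 1) (hW : Module.finrank K W = 1) :
    (KronMod.IsSemistable f ↔ f ≠ 0) ∧ (KronMod.IsStable f ↔ f ≠ 0) := by
  have h0 : f = 0 → ¬ KronMod.IsSemistable f := fun h hs => by
    have := hs.2 ⊤ ⊥ (fun j => by rintro _ ⟨x, -, rfl⟩; simp [h])
      (fun h' => by have := congrArg (fun U : Submodule K V => Module.finrank K U) h'.1; simp at this; omega)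
      (fun h' => by have := congrArg (fun U : Submodule K W => Module.finrank K U) h'.2; simp at this; omega)
    rw [finrank_top, finrank_bot, hV, hW] at this
    omega
  have h1 : f ≠ 0 → KronMod.IsStable f := fun h => by
    refine ⟨by omega, fun A B hAB hbot htop => ?_⟩
    rw [hV, hW, Nat.one_mul, Nat.one_mul]
    have hA : Module.finrank K A ≤ 1 := hV ▸ Submodule.finrank_le A
    rcases Nat.le_one_iff_eq_zero_or_eq_one.1 hA with hA0 | hA1
    · rw [hA0]
      exact Nat.pos_of_ne_zero fun hB => hbot ⟨Submodule.finrank_eq_zero.1 hA0, Submodule.finrank_eq_zero.1 hB⟩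
    · exfalso
      have hAt : A = ⊤ := Submodule.eq_top_of_finrank_eq (hA1.trans hV.symm)
      obtain ⟨j, hj⟩ := Function.ne_iff.1 h
      obtain ⟨x, hx⟩ : ∃ x, f j x ≠ 0 := by
        by_contra hh
        push Not at hh
        exact hj (LinearMap.ext hh)
      have hB : 0 < Module.finrank K B := by
        rw [Nat.pos_iff_ne_zero, ne_eq, Submodule.finrank_eq_zero]
        intro hB
        exact hx ((Submodule.mem_bot K).1 (hB ▸ hAB j ⟨x, hAt ▸ Submodule.mem_top, rfl⟩))
      have hB' : Module.finrank K B ≤ 1 := hW ▸ Submodule.finrank_le B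
      exact htop ⟨hAt, Submodule.eq_top_of_finrank_eq (by omega)⟩
  exact ⟨⟨fun hs h => h0 h hs, fun h => GrothLib.Kron.IsStable.isSemistable (h1 h)⟩,
    ⟨fun hs h => h0 h (GrothLib.Kron.IsStable.isSemistable hs), h1⟩⟩


end Groth.Agent.S15564
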