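import Groth.Statements.S15568
import Mathlib.Analysis.Normed.Module.Connected
import Mathlib.Analysis.Convex.Topology
import Mathlib.Data.Sign.Basic

set_option autoImplicit false
universe u
open QuiverStab

namespace Groth.Agent.S15568

/-- Walls and chambers for stability weights of a quiver. Let I be the finite vertex set, d ∈ ℕ^I a
dimension vector, and call two weights θ₁, θ₂ ∈ ℝ^I orthogonal to d numerically equivalent when, for
every d′ ≤ d in ℕ^I, the numbers θ₁·d′ and θ₂·d′ are both positive, both negative or both zero. The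
walls are the hyperplanes W(d′) = {θ ⊥ d : θ·d′ = 0} of d^⊥ for d′ ≤ d such that d is not a multiple
of d′. Then θ₁ and θ₂ are numerically equivalent if and only if there is a set J₁ of such d′ for
which θ₁ and θ₂ lie in the same connected component of the locally closed subset of d^⊥ consisting
of the weights lying on W(d₁) for every d₁ ∈ J₁ and off W(d₂) for every other wall W(d₂). (Only the
quiver's vertex set enters; multiples are taken with natural-number factors.) -/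
theorem result
    (I : Type u) [Fintype I] (d : I → ℕ) (θ₁ θ₂ : I → ℝ)
    (h₁ : ∑ i, θ₁ i * (d i : ℝ) = 0) (h₂ : ∑ i, θ₂ i * (d i : ℝ) = 0) :
    (∀ d' : I → ℕ, d' ≤ d →
        SignType.sign (∑ i, θ₁ i * (d' i : ℝ)) = SignType.sign (∑ i, θ₂ i * (d' i : ℝ))) ↔
    ∃ J₁ : Set (I → ℕ), J₁ ⊆ {d' | d' ≤ d ∧ ¬ ∃ m : ℕ, d = m • d'} ∧
      θ₂ ∈ connectedComponentIn
        {θ : I → ℝ | ∑ i, θ i * (d i : ℝ) = 0 ∧ (∀ d₁ ∈ J₁, ∑ i, θ i * (d₁ i : ℝ) = 0) ∧
          ∀ d₂ : I → ℕ, d₂ ≤ d → (¬ ∃ m : ℕ, d = m • d₂) → d₂ ∉ J₁ →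
            ∑ i, θ i * (d₂ i : ℝ) ≠ 0} θ₁ := by
  classical
  set L : (I → ℕ) → (I → ℝ) → ℝ := fun e θ => ∑ i, θ i * (e i : ℝ) with hL
  have hadd : ∀ e (a b : ℝ) (θ θ' : I → ℝ), L e (a • θ + b • θ') = a * L e θ + b * L e θ' := by
    intro e a b θ θ'
    simp only [hL, Pi.add_apply, Pi.smul_apply, smul_eq_mul, add_mul, Finset.sum_add_distrib, Finset.mul_sum, mul_assoc]
  have hmult : ∀ (d' : I → ℕ) (θ : I → ℝ), d' ≤ d → (∃ m : ℕ, d = m • d') → L d θ = 0 → L d' θ = 0 := by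
    rintro d' θ hd ⟨m, hm⟩ h0
    rcases Nat.eq_zero_or_pos m with rfl | hpos
    · have hd0 : d' = 0 := funext fun i => Nat.le_zero.1 ((hd i).trans_eq (by rw [hm]; simp))
      simp [hL, hd0]
    · have : L d θ = (m : ℝ) * L d' θ := by
        simp only [hL, hm, Pi.smul_apply, smul_eq_mul, Nat.cast_mul, Finset.mul_sum]
        exact Finset.sum_congr rfl fun i _ => by ring
      rw [h0] at this
      exact (mul_eq_zero.1 this.symm).resolve_left (Nat.cast_ne_zero.2 hpos.ne')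
  constructor
  · intro h
    refine ⟨{d' | (d' ≤ d ∧ ¬ ∃ m : ℕ, d = m • d') ∧ L d' θ₁ = 0}, fun x hx => hx.1, ?_⟩
    have hseg : segment ℝ θ₁ θ₂ ⊆ {θ : I → ℝ | L d θ = 0 ∧
        (∀ d₁ ∈ {d' | (d' ≤ d ∧ ¬ ∃ m : ℕ, d = m • d') ∧ L d' θ₁ = 0}, L d₁ θ = 0) ∧
        ∀ d₂ : I → ℕ, d₂ ≤ d → (¬ ∃ m : ℕ, d = m • d₂) →
          d₂ ∉ {d' | (d' ≤ d ∧ ¬ ∃ m : ℕ, d = m • d') ∧ L d' θ₁ = 0} → L d₂ θ ≠ 0} := by
      rintro θ ⟨a, b, ha, hb, hab, rfl⟩
      refine ⟨by rw [hadd, show L d θ₁ = 0 from h₁, show L d θ₂ = 0 from h₂]; ring, fun e he => ?_, fun e he hne hJ => ?_⟩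
      · have h2 : SignType.sign (L e θ₁) = SignType.sign (L e θ₂) := h e he.1.1
        rw [he.2, sign_zero] at h2
        rw [hadd, he.2, sign_eq_zero_iff.1 h2.symm]
        ring
      · have h2 : SignType.sign (L e θ₁) = SignType.sign (L e θ₂) := h e he
        have h1 : L e θ₁ ≠ 0 := fun h0 => hJ ⟨⟨he, hne⟩, h0⟩
        rw [hadd]
        rcases lt_or_gt_of_ne h1 with h1 | h1
        · rw [sign_neg h1] at h2
          have h3 := sign_eq_neg_one_iff.1 h2.symm
          have : a * L e θ₁ + b * L e θ₂ < 0 := by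
            rcases ha.eq_or_lt with rfl | ha'
            · rw [show b = 1 by linarith]; linarith
            · nlinarith [mul_pos ha' (neg_pos.2 h1)]
          exact this.ne
        · rw [sign_pos h1] at h2
          have h3 := sign_eq_one_iff.1 h2.symm
          have : 0 < a * L e θ₁ + b * L e θ₂ := by
            rcases ha.eq_or_lt with rfl | ha'
            · rw [show b = 1 by linarith]; linarith
            · nlinarith [mul_pos ha' h1]
          exact this.ne'
    exact (convex_segment θ₁ θ₂).isPreconnected.subset_connectedComponentIn (left_mem_segment ℝ θ₁ θ₂) hseg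
      (right_mem_segment ℝ θ₁ θ₂)
  · rintro ⟨J₁, hJ₁, hθ⟩ d' hd'
    change SignType.sign (L d' θ₁) = SignType.sign (L d' θ₂)
    obtain ⟨F, hF, hθ⟩ : ∃ F : Set (I → ℝ), (∀ θ ∈ F, L d θ = 0 ∧ (∀ d₁ ∈ J₁, L d₁ θ = 0) ∧
        ∀ d₂ : I → ℕ, d₂ ≤ d → (¬ ∃ m : ℕ, d = m • d₂) → d₂ ∉ J₁ → L d₂ θ ≠ 0) ∧
        θ₂ ∈ connectedComponentIn F θ₁ := ⟨_, fun θ h => h, hθ⟩
    have hself := connectedComponentIn_nonempty_iff.1 ⟨θ₂, hθ⟩
    by_cases hm : ∃ m : ℕ, d = m • d'
    · rw [hmult d' θ₁ hd' hm h₁, hmult d' θ₂ hd' hm h₂]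
    by_cases hJ : d' ∈ J₁
    · rw [show L d' θ₁ = 0 from (hF _ hself).2.1 d' hJ,
        show L d' θ₂ = 0 from (hF _ (connectedComponentIn_subset _ _ hθ)).2.1 d' hJ]
    have hc : ContinuousOn (fun θ => L d' θ) (connectedComponentIn F θ₁) :=
      (continuous_finsetSum _ fun i _ => (continuous_apply i).mul continuous_const).continuousOn
    have him := isPreconnected_connectedComponentIn.image _ hc
    by_contra hne
    have h0 : ∀ θ ∈ connectedComponentIn F θ₁, L d' θ ≠ 0 := fun θ hθ' =>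
      (hF _ (connectedComponentIn_subset _ _ hθ')).2.2 d' hd' hm hJ
    have ha := h0 θ₁ (mem_connectedComponentIn hself)
    have hb := h0 θ₂ hθ
    have key : (0 : ℝ) ∈ (fun θ => L d' θ) '' connectedComponentIn F θ₁ := by
      rcases lt_or_gt_of_ne ha with ha | ha <;> rcases lt_or_gt_of_ne hb with hb | hb
      · exact absurd (by rw [sign_neg ha, sign_neg hb]) hne
      · exact him.Icc_subset ⟨_, mem_connectedComponentIn hself, rfl⟩ ⟨_, hθ, rfl⟩ ⟨ha.le, hb.le⟩
      · exact him.Icc_subset ⟨_, hθ, rfl⟩ ⟨_, mem_connectedComponentIn hself, rfl⟩ ⟨hb.le, ha.le⟩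
      · exact absurd (by rw [sign_pos ha, sign_pos hb]) hne
    obtain ⟨θ, hθ', he⟩ := key
    exact h0 θ hθ' he

end Groth.Agent.S15568
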