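import Groth.Statements.S1557
import Groth.Agent.Lib.Euler.GenericCompare

set_option autoImplicit false
universe u
open CategoryTheory CategoryTheory.Limits AlgebraicGeometry
open Variety

namespace Groth.Agent.S1557

/-- On a proper curve X over k with generic point ξ, for E finite locally free of rank n and F coherent
of generic rank r (the dimension of the stalk F_ξ over the field O_{X,ξ}), one has χ(X, E ⊗ F) = r ·
deg(E) + n · χ(X, F). -/
theorem result (k : Type u) [Field k] (X : Scheme.{u}) [X.Over (Spec (CommRingCat.of k))]
    [IsIntegral X] [IsProper (X ↘ (Spec (CommRingCat.of k)))] (hdim : topologicalKrullDim X = 1)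
    (n : ℕ) (E : X.Modules) (hE : FlatMod.IsFinLocFreeOfRank n E) (F : X.Modules) (hF : Coh.IsCoh F) :
    Curv2.euler k X (CohB1.tensorMod E F) =
      (Module.finrank (X.presheaf.stalk (genericPoint X)) (F.presheaf.stalk (genericPoint X)) : ℤ) * Curv2.deg k X E n +
        n * Curv2.euler k X F := by
  have := GrothLib.Euler.isNoetherian_of_proper (X := X) k
  letI : Field (X.presheaf.stalk (genericPoint X)) := GrothLib.CurvePoints.isField_stalk_genericPoint.toField
  haveI := GrothLib.Euler.stalk_finite hF (genericPoint X)
  obtain ⟨D, e, hxD, he⟩ := GrothLib.Euler.exists_frame_of_stalk_basis hF (Module.finBasis (X.presheaf.stalk (genericPoint X)) (F.presheaf.stalk (genericPoint X)))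
  obtain ⟨φ⟩ := GrothLib.FinCov.exists_iso_of_frame he
  have hU : genericPoints (X : Type u) ⊆ D := fun η hη => by
    have h1 : closure ({η} : Set X) = Set.univ := by
      have h2 : closure ({η} : Set X) ∈ irreducibleComponents (X : Type u) := hη
      exact Set.eq_univ_of_univ_subset (h2.2 (IrreducibleSpace.isIrreducible_univ X) (Set.subset_univ _))
    obtain ⟨y, hy, hy'⟩ := mem_closure_iff.1 (h1 ▸ Set.mem_univ (genericPoint X) : genericPoint X ∈ closure ({η} : Set X)) D D.2 hxD
    exact (Set.mem_singleton_iff.1 hy') ▸ hy
  rw [GrothLib.Euler.euler_of_iso k (show CohB1.tensorMod E F ≅ (GrothLib.Euler.tF E).obj F from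
    (((GrothLib.OX.tensorBraiding (X := X)).app E).app F).symm)]
  exact GrothLib.Euler.euler_tF k hdim.le hE hF hU φ

end Groth.Agent.S1557
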