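import Groth.Statements.S15577
import Groth.Agent.Lib.RInvol.Branch

set_option autoImplicit false
universe u v
open RInv

namespace Groth.Agent.S15577

/-- Let `R` be a commutative ring with an involution `lam` whose fixed ring `S` is local. If `lam`
induces the identity on `R` modulo its Jacobson radical, then `R` is a local ring and is not a
quadratic etale `S`-algebra. -/
theorem result (S : Type u) (R : Type v) [CommRing S] [CommRing R]
    [Algebra S R] (lam : R ≃+* R) (hlam : Function.Involutive lam) (hS : RInv.IsFixedRing S R lam)
    [IsLocalRing S] (h : ∀ r : R, lam r - r ∈ Ring.jacobson R) :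
    IsLocalRing R ∧ ¬ RInv.IsQuadEtale S R := by
  have H := GrothLib.RInvol.isInvol_of_fixedRing lam hlam hS
  exact ⟨H.isLocalRing_of_forall h, H.not_isQuadEtale_of_forall h⟩

end Groth.Agent.S15577
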