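import Groth.Statements.S15578
import Groth.Agent.Lib.RInvol.BranchLocus
import Mathlib.Tactic.LinearCombination

set_option autoImplicit false
universe u v
open RInv

namespace Groth.Agent.S15578

/-- Let `R` be a commutative ring with an involution `lam` whose fixed ring `S` is strictly henselian
(henselian local with separably closed residue field). Then `R` is isomorphic to a product of
finitely many strictly henselian local rings (existence of a ring isomorphism with such a product). -/
theorem result (S : Type u) (R : Type v) [CommRing S] [CommRing R]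
    [Algebra S R] (lam : R ≃+* R) (hlam : Function.Involutive lam) (hS : RInv.IsFixedRing S R lam)
    [HenselianLocalRing S] [IsSepClosed (IsLocalRing.ResidueField S)] :
    ∃ (ι : Type) (_ : Fintype ι) (T : ι → Type v) (_ : ∀ i, CommRing (T i))
      (_ : ∀ i, HenselianLocalRing (T i)),
      (∀ i, IsSepClosed (IsLocalRing.ResidueField (T i))) ∧ Nonempty (R ≃+* (∀ i, T i)) := by
  have H := GrothLib.RInvol.isInvol_of_fixedRing lam hlam hS
  set μ := GrothLib.RInvol.algEquivOfFixedRing lam hS
  rcases H.henselian_cases with ⟨_, hh, hs, -⟩ | ⟨e, he, hle⟩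
  · exact ⟨Unit, inferInstance, fun _ => R, fun _ => inferInstance, fun _ => hh, fun _ => hs,
      ⟨(RingEquiv.piUnique fun _ : Unit => R).symm⟩⟩
  · let T := (algebraMap S R).range
    let ε : S ≃+* T := RingEquiv.ofBijective (algebraMap S R).rangeRestrict
      ⟨fun a b hab => H.inj (congrArg Subtype.val hab), RingHom.rangeRestrict_surjective _⟩
    have hmn : ∀ (x : T) (y : R), e * (1 - e) * y = 0 := fun x y => by
      rw [mul_sub, mul_one, he.eq, sub_self, zero_mul]
    have : Nontrivial T := ε.injective.nontrivial
    have hloc : IsLocalRing T := IsLocalRing.of_surjective' ε.toRingHom ε.surjective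
    have hhens : HenselianLocalRing T := by
      let : Algebra S T := ε.toRingHom.toAlgebra
      have : Algebra.IsIntegral S T := Algebra.IsIntegral.of_surjective (Algebra.ofId S T) ε.surjective
      have h1 : HenselianRing T ((IsLocalRing.maximalIdeal S).map (algebraMap S T)) :=
        GrothLib.Hensel.henselianRing_of_isIntegral _ T
      have h2 : (IsLocalRing.maximalIdeal S).map (algebraMap S T) = IsLocalRing.maximalIdeal T :=
        IsLocalRing.eq_maximalIdeal (Ideal.map_isMaximal_of_equiv ε)
      exact GrothLib.Hensel.henselianLocalRing_of_henselianRing (h2 ▸ h1)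
    have hsc : IsSepClosed (IsLocalRing.ResidueField T) := by
      refine IsSepClosed.of_exists_root _ fun p hp hirr hsep => ?_
      let δ := IsLocalRing.ResidueField.mapEquiv ε.symm
      obtain ⟨x, hx⟩ := IsSepClosed.exists_root (p.map δ.toRingHom) (by
        rw [hp.degree_map]; exact (Polynomial.degree_pos_of_irreducible hirr).ne') (hsep.map)
      refine ⟨δ.symm x, δ.injective ?_⟩
      rw [map_zero, ← hx]
      have := Polynomial.eval_map_apply (f := δ.toRingHom) (p := p) (δ.symm x)
      rw [show δ.toRingHom (δ.symm x) = x from δ.apply_symm_apply x] at this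
      exact this.symm
    refine ⟨Fin 2, inferInstance, fun _ => T, fun _ => inferInstance, fun _ => hhens, fun _ => hsc, ⟨?_⟩⟩
    let ψ : (Fin 2 → T) →+* R :=
      { toFun := fun v => (v 0 : R) * e + (v 1 : R) * (1 - e)
        map_one' := by simp
        map_mul' := fun v w => by
          simp only [Pi.mul_apply, Subring.coe_mul]
          linear_combination (-((v 0 : R) * w 0 - (v 0 : R) * w 1 - (v 1 : R) * w 0 + (v 1 : R) * w 1)) * he.eq
        map_zero' := by simp
        map_add' := fun v w => by simp only [Pi.add_apply, Subring.coe_add]; ring }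
    refine (RingEquiv.ofBijective ψ ⟨(injective_iff_map_eq_zero ψ).2 fun v hv => ?_, fun r => ?_⟩).symm
    · change (v 0 : R) * e + (v 1 : R) * (1 - e) = 0 at hv
      have h0 : ∀ x : T, μ x = x := fun x => by
        obtain ⟨s, hs⟩ := x.2
        rw [← hs]; exact μ.commutes s
      have h1 := congrArg μ hv
      simp only [map_add, map_mul, map_sub, map_one, map_zero, h0, hle] at h1
      funext j
      fin_cases j <;> apply Subtype.ext
      · show (v 0 : R) = 0
        linear_combination e * hv + (1 - e) * h1 + (-((v 0 : R) - v 1) * 2) * he.eq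
      · show (v 1 : R) = 0
        linear_combination e * h1 + (1 - e) * hv + (-((v 1 : R) - v 0) * 2) * he.eq
    · obtain ⟨a, ha⟩ := H.fixed (e * r + μ (e * r)) (by rw [map_add, H.invol, add_comm])
      obtain ⟨b, hb⟩ := H.fixed ((1 - e) * r + μ ((1 - e) * r)) (by rw [map_add, H.invol, add_comm])
      refine ⟨![⟨_, a, rfl⟩, ⟨_, b, rfl⟩], ?_⟩
      show algebraMap S R a * e + algebraMap S R b * (1 - e) = r
      rw [ha, hb]
      simp only [map_mul, map_sub, map_one, hle]
      linear_combination (2 * r - 2 * μ r) * he.eq

end Groth.Agent.S15578
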