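import Groth.Statements.S15581
import Groth.Agent.Lib.RInvol.Branch
import Mathlib.Tactic.LinearCombination

set_option autoImplicit false
universe u v
open RInv

namespace Groth.Agent.S15581

/-- Let `A` be a commutative ring with an involution `lam` whose fixed ring `B` is local with `2`
invertible. Then `Jac(A)^2 ⊆ Jac(B) A`. -/
theorem result (B : Type u) (A : Type v) [CommRing B]
    [CommRing A] [Algebra B A] (lam : A ≃+* A) (hlam : Function.Involutive lam)
    (hB : RInv.IsFixedRing B A lam) [IsLocalRing B] (h2 : IsUnit (2 : B)) :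
    (Ring.jacobson A) ^ 2 ≤ (IsLocalRing.maximalIdeal B).map (algebraMap B A) := by
  have H := GrothLib.RInvol.isInvol_of_fixedRing lam hlam hB
  set μ := GrothLib.RInvol.algEquivOfFixedRing lam hB
  have hjac : ∀ {x : A}, x ∈ Ring.jacobson A → ∀ b : B, algebraMap B A b = x → b ∈ IsLocalRing.maximalIdeal B := by
    intro x hx b hb
    by_contra hu
    have hub : IsUnit x := hb ▸ ((IsLocalRing.notMem_maximalIdeal.1 hu).map (algebraMap B A))
    have := H.nontrivial
    obtain ⟨M, hM⟩ := Ideal.exists_maximal A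
    exact hM.ne_top (Ideal.eq_top_of_isUnit_mem _ ((H.mem_jacobson_iff).1 hx M hM) hub)
  by_cases hall : ∀ r, μ r - r ∈ Ring.jacobson A
  swap
  · push Not at hall
    obtain ⟨r, hr⟩ := hall
    have hq := H.isQuadEtale_of_isUnit_sub (H.isUnit_sub_of_notMem hr)
    rw [GrothLib.RInvol.jacobson_of_isQuadEtale hq]
    exact Ideal.pow_le_self two_ne_zero
  obtain ⟨i, hi⟩ := (h2.map (algebraMap B A)).exists_left_inv
  rw [map_ofNat] at hi
  have hlami : μ i = i := by
    have h1 := congrArg μ hi
    rw [map_mul, map_one, map_ofNat] at h1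
    calc μ i = μ i * (i * 2) := by rw [hi, mul_one]
      _ = μ i * 2 * i := by ring
      _ = i := by rw [h1, one_mul]
  have hμj : ∀ {x : A}, x ∈ Ring.jacobson A → μ x ∈ Ring.jacobson A := fun {x} hx => by
    simpa using (Ring.jacobson A).add_mem (hall x) hx
  rw [pow_two]
  refine Ideal.mul_le.2 fun x hx y hy => ?_
  have hfix : ∀ z : A, z ∈ Ring.jacobson A → μ z = z → z ∈ (IsLocalRing.maximalIdeal B).map (algebraMap B A) :=
    fun z hz hμz => by
      obtain ⟨b, hb⟩ := H.fixed z hμz
      exact hb ▸ Ideal.mem_map_of_mem _ (hjac hz b hb)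
  have hsym : ∀ {z : A}, z ∈ Ring.jacobson A → i * (z + μ z) ∈ (IsLocalRing.maximalIdeal B).map (algebraMap B A) :=
    fun {z} hz => hfix _ ((Ring.jacobson A).mul_mem_left _ ((Ring.jacobson A).add_mem hz (hμj hz)))
      (by rw [map_mul, map_add, hlami, H.invol, add_comm (μ z) z])
  have hanti : i * (x - μ x) * (i * (y - μ y)) ∈ (IsLocalRing.maximalIdeal B).map (algebraMap B A) := by
    refine hfix _ ((Ring.jacobson A).mul_mem_left _ ((Ring.jacobson A).mul_mem_left _
      ((Ring.jacobson A).sub_mem hy (hμj hy)))) ?_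
    simp only [map_mul, map_sub, hlami, H.invol]; ring
  have hexp : x * y = i * (x + μ x) * y + i * (x - μ x) * (i * (y + μ y)) + i * (x - μ x) * (i * (y - μ y)) := by
    have hx2 : x = i * (x + μ x) + i * (x - μ x) := by linear_combination (-x) * hi
    have hy2 : y = i * (y + μ y) + i * (y - μ y) := by linear_combination (-y) * hi
    linear_combination y * hx2 + (i * (x - μ x)) * hy2
  rw [hexp]
  exact add_mem (add_mem (Ideal.mul_mem_right _ _ (hsym hx)) (Ideal.mul_mem_left _ _ (hsym hy))) hanti

end Groth.Agent.S15581
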