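import Groth.Statements.S15582
import Mathlib.CategoryTheory.Sites.EpiMono
import Mathlib.Topology.Sheaves.SheafCondition.UniqueGluing
import Mathlib.Topology.Sheaves.SheafCondition.Sites
-- import your own Groth.Agent.* helpers here

set_option autoImplicit false
universe u
open CategoryTheory TopologicalSpace
open CohTop

namespace Groth.Agent.S15582
open Opposite
theorem subsingleton_of_eq_bot {X : TopCat.{u}} (F : X.Sheaf (Type u)) {U : Opens X} (h : U = ⊥)
    (a b : F.obj.obj (op U)) : a = b := by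
  have e := (F.isTerminalOfEqEmpty h).hom_ext
    (TypeCat.ofHom (fun _ : PUnit.{u+1} => a)) (TypeCat.ofHom (fun _ => b))
  exact ConcreteCategory.congr_hom e PUnit.unit


/-- Let `π : X → Y` be a continuous map such that every open set containing a fibre `π⁻¹(y)` contains
the preimage of an open neighbourhood of `y`, and such that every fibre is finite with its points
separated by pairwise disjoint open sets of `X`. Then the direct image of sheaves of sets along `π`
preserves epimorphisms. -/
theorem result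
    {X Y : TopCat.{u}} (π : X ⟶ Y)
    (h1 : ∀ (y : Y) (U : Set X), IsOpen U → π ⁻¹' {y} ⊆ U →
      ∃ V : Set Y, IsOpen V ∧ y ∈ V ∧ π ⁻¹' V ⊆ U)
    (h2 : ∀ y : Y, (π ⁻¹' {y}).Finite ∧ ∃ U : X → Set X,
      (∀ x ∈ π ⁻¹' {y}, IsOpen (U x) ∧ x ∈ U x) ∧ (π ⁻¹' {y}).PairwiseDisjoint U) :
    (TopCat.Sheaf.pushforward (Type u) π).PreservesEpimorphisms := by
  classical
  refine ⟨fun {F G} φ hφ => ?_⟩
  have : Sheaf.IsLocallySurjective φ := (Sheaf.isLocallySurjective_iff_epi φ).2 hφ
  have : Sheaf.IsLocallySurjective ((TopCat.Sheaf.pushforward (Type u) π).map φ) := by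
    refine ⟨fun {V} s => ?_⟩
    intro y hy
    obtain ⟨hfin, U, hU, hdisj⟩ := h2 y
    have hx : ∀ x ∈ π ⁻¹' {y}, ∃ (W : Opens X) (_ : x ∈ W) (hW : W ≤ (Opens.map π).obj V) (t : F.obj.obj (op W)),
        (W : Set X) ⊆ U x ∧ φ.hom.app (op W) t = G.obj.map (homOfLE hW).op s := by
      intro x hxy
      have hxV : x ∈ (Opens.map π).obj V := show π x ∈ V by rw [show π x = y from hxy]; exact hy
      obtain ⟨W, f, ⟨t, ht⟩, hxW⟩ := Presheaf.imageSieve_mem (Opens.grothendieckTopology X) φ.hom
        (U := op ((Opens.map π).obj V)) s x hxV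
      let W' : Opens X := W ⊓ ⟨U x, (hU x hxy).1⟩
      refine ⟨W', ⟨hxW, (hU x hxy).2⟩, le_trans inf_le_left f.le, F.obj.map (homOfLE inf_le_left).op t, fun z hz => hz.2, ?_⟩
      refine (NatTrans.naturality_apply φ.hom _ t).trans ?_
      refine (congrArg (G.obj.map _) ht).trans ?_
      exact (Functor.map_comp_apply G.obj _ _ s).symm
    choose W hxW hWV t hWU ht using hx
    obtain ⟨V', hV'o, hyV', hV'⟩ := h1 y (⋃ (x) (h : x ∈ π ⁻¹' {y}), (W x h : Set X))
      (isOpen_iUnion fun x => isOpen_iUnion fun h => (W x h).isOpen)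
      (fun x hx => Set.mem_iUnion₂.2 ⟨x, hx, hxW x hx⟩)
    let V₁ : Opens Y := V ⊓ ⟨V', hV'o⟩
    let P : Opens X := (Opens.map π).obj V₁
    let ι := {x : X // x ∈ π ⁻¹' {y}}
    let T : ι → Opens X := fun i => W i.1 i.2 ⊓ P
    have hcov : P ≤ iSup T := by
      intro z hz
      obtain ⟨x, hx, hzW⟩ := Set.mem_iUnion₂.1 (hV' (show z ∈ π ⁻¹' V' from hz.2))
      exact Opens.mem_iSup.2 ⟨⟨x, hx⟩, hzW, hz⟩
    let sf : ∀ i : ι, F.obj.obj (op (T i)) := fun i =>
      F.obj.map (homOfLE inf_le_left).op (t i.1 i.2)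
    have hcomp : TopCat.Presheaf.IsCompatible F.obj T sf := by
      intro i j
      by_cases h : i = j
      · subst h
        rfl
      · have hbot : T i ⊓ T j = ⊥ := by
          refine Opens.ext ?_
          rw [Opens.coe_bot, Set.eq_empty_iff_forall_notMem]
          intro z hz
          exact Set.disjoint_left.1 (hdisj i.2 j.2 (fun e => h (Subtype.ext e)))
            (hWU _ _ hz.1.1) (hWU _ _ hz.2.1)
        exact subsingleton_of_eq_bot F hbot _ _
    obtain ⟨gl, hgl, -⟩ := TopCat.Sheaf.existsUnique_gluing' (F := F) (U := T) P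
      (fun i => homOfLE inf_le_right) hcov sf hcomp
    refine ⟨V₁, homOfLE inf_le_left, ⟨gl, ?_⟩, hy, hyV'⟩
    show φ.hom.app (op P) gl = G.obj.map ((Opens.map π).map (homOfLE inf_le_left)).op s
    refine TopCat.Sheaf.eq_of_locally_eq' G T P (fun i => homOfLE inf_le_right) hcov _ _ fun i => ?_
    refine (NatTrans.naturality_apply φ.hom _ gl).symm.trans ?_
    refine (congrArg (φ.hom.app _) (hgl i)).trans ?_
    refine (NatTrans.naturality_apply φ.hom _ _).trans ?_
    refine (congrArg (G.obj.map _) (ht i.1 i.2)).trans ?_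
    refine (Functor.map_comp_apply G.obj _ _ s).symm.trans ?_
    refine Eq.trans ?_ (Functor.map_comp_apply G.obj _ _ s)
    exact congrArg (fun h => G.obj.map h s) (Subsingleton.elim _ _)
  exact (Sheaf.isLocallySurjective_iff_epi _).1 this

end Groth.Agent.S15582
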