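import Groth.Statements.S15584
import Groth.Agent.Lib.RInvol.FormsExtra

set_option autoImplicit false
universe u v
open RInv

namespace Groth.Agent.S15584

/-- Let `A` be a commutative ring with an involution `lam` whose fixed ring `B` is local; assume `lam`
is the identity modulo the Jacobson radical of `A`, that `2` is invertible in `A`, and that `h` is
an invertible `n × n` matrix with `h = -(lam h)ᵀ`. Then `n` is even and there is an invertible `v`
such that `(lam v)ᵀ h v` is a block sum of `2 × 2` blocks on the index pairs `{2k, 2k+1}`, each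
congruent to `[[0,1],[-1,0]]` modulo the Jacobson radical. (The published statement writes the
congruence with the plain transpose `vᵀ h v`; its proof computes the Gram matrix of the hermitian
form `(x, y) ↦ (lam x)ᵀ h y` in a new basis, which is `(lam v)ᵀ h v`, and that is what is stated
here.) -/
theorem result (B : Type u) (A : Type v) [CommRing B] [CommRing A]
    [Algebra B A] (lam : A ≃+* A) (hlam : Function.Involutive lam) (hB : RInv.IsFixedRing B A lam)
    [IsLocalRing B] (n : ℕ) (hid : ∀ a : A, lam a - a ∈ Ring.jacobson A) (h2 : IsUnit (2 : A))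
    (h : Matrix (Fin n) (Fin n) A) (hh : IsUnit h) (herm : -(h.map lam).transpose = h) :
    Even n ∧ ∃ v : Matrix (Fin n) (Fin n) A, IsUnit v ∧
      ∀ i j : Fin n,
        (i.val / 2 ≠ j.val / 2 → ((v.map lam).transpose * h * v) i j = 0) ∧
        (i.val / 2 = j.val / 2 → (Even i.val ↔ Even j.val) →
          ((v.map lam).transpose * h * v) i j ∈ Ring.jacobson A) ∧
        (i.val / 2 = j.val / 2 → Even i.val → ¬ Even j.val →
          ((v.map lam).transpose * h * v) i j - 1 ∈ Ring.jacobson A) ∧
        (i.val / 2 = j.val / 2 → ¬ Even i.val → Even j.val →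
          ((v.map lam).transpose * h * v) i j + 1 ∈ Ring.jacobson A) := by
  have H := GrothLib.RInvol.isInvol_of_fixedRing lam hlam hB
  set μ := GrothLib.RInvol.algEquivOfFixedRing lam hB
  have := H.isLocalRing_of_forall hid
  rw [IsLocalRing.ringJacobson_eq_maximalIdeal] at hid ⊢
  have hform : GrothLib.RInvol.Forms.IsForm (μ : A →+* A) (-1) h := (neg_one_smul A _).trans herm
  obtain ⟨m, e, B', hB', hc⟩ := GrothLib.RInvol.Forms.exists_blocks (lam := (μ : A →+* A)) hlam (ε := -1) (by simp) h2
    (by simp) hid h hform hh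
  have hnm : n = 2 * m := by simpa using Fintype.card_congr e
  refine ⟨⟨m, by omega⟩, ?_⟩
  let f : Fin n ≃ Fin 2 × Fin m :=
    { toFun := fun i => (⟨i.val % 2, by omega⟩, ⟨i.val / 2, by omega⟩)
      invFun := fun p => ⟨2 * p.2.val + p.1.val, by omega⟩
      left_inv := fun i => Fin.ext (by simp; omega)
      right_inv := fun p => by ext <;> simp <;> omega }
  have hc' : GrothLib.RInvol.Forms.Cong (μ : A →+* A) h (Matrix.reindex f.symm f.symm (Matrix.blockDiagonal B')) := by
    refine (GrothLib.RInvol.Forms.cong_perm (e.trans f.symm) h).trans ?_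
    have := hc.reindex f.symm
    simpa [Matrix.reindex_apply, Function.comp_def] using this
  have hform' := hc'.isForm (fun r => (show μ (μ r) = r from hlam r)) hform
  obtain ⟨g, hg, hgd⟩ := hc'
  refine ⟨GrothLib.RInvol.Forms.st (μ : A →+* A) g, GrothLib.RInvol.Forms.isUnit_st _ hg, fun i j => ?_⟩
  rw [show ((GrothLib.RInvol.Forms.st (μ : A →+* A) g).map lam).transpose = g from by
    ext a b; exact hlam (g a b)]
  rw [show g * h * GrothLib.RInvol.Forms.st (μ : A →+* A) g = _ from hgd]
  have hval : ∀ a b : Fin n, Matrix.reindex f.symm f.symm (Matrix.blockDiagonal B') a b =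
      if (f a).2 = (f b).2 then B' (f a).2 (f a).1 (f b).1 else 0 := fun a b => by
    simp [Matrix.blockDiagonal_apply]
  have hf2 : ∀ a b : Fin n, (f a).2 = (f b).2 ↔ a.val / 2 = b.val / 2 := fun a b => by simp [f, Fin.ext_iff]
  have hev : ∀ a : Fin n, (Even a.val → (f a).1 = 0) ∧ (¬ Even a.val → (f a).1 = 1) := fun a => by
    constructor <;> intro ha <;> rw [Nat.even_iff] at ha <;> simp [f, Fin.ext_iff] <;> omega
  refine ⟨fun hne => ?_, fun heq hpar => ?_, fun heq hi hj => ?_, fun heq hi hj => ?_⟩
  · rw [hval, if_neg (mt (hf2 i j).1 hne)]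
  · rw [hval, if_pos ((hf2 i j).2 heq)]
    by_cases hi : Even i.val
    · rw [(hev i).1 hi, (hev j).1 (hpar.1 hi)]; exact (hB' _).1
    · rw [(hev i).2 hi, (hev j).2 (mt hpar.2 hi)]; exact (hB' _).2.1
  · rw [hval, if_pos ((hf2 i j).2 heq), (hev i).1 hi, (hev j).2 hj, (hB' _).2.2, sub_self]
    exact zero_mem _
  · have h1 := hform'.apply i j
    rw [← h1, hval, if_pos ((hf2 j i).2 heq.symm), (hev i).2 hi, (hev j).1 hj, (hB' _).2.2, map_one]
    simp

end Groth.Agent.S15584
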