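import Groth.Statements.S15585
import Groth.Agent.Lib.RInvol.Branch
import Mathlib.RingTheory.Artinian.Module

set_option autoImplicit false
universe u v
open RInv

namespace Groth.Agent.S15585

/-- For a local ring `S` (maximal ideal `m`, residue field `k`) and a quadratic etale `S`-algebra `R`,
the ring `R/mR` is a field that is a separable extension of `k` of degree 2, or else it is
isomorphic as a `k`-algebra to `k × k`. -/
theorem result (S : Type u) (R : Type v) [CommRing S]
    [CommRing R] [Algebra S R] [IsLocalRing S] (hq : RInv.IsQuadEtale S R) :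
    (IsField (R ⧸ (IsLocalRing.maximalIdeal S).map (algebraMap S R)) ∧
      Module.finrank (S ⧸ IsLocalRing.maximalIdeal S)
        (R ⧸ (IsLocalRing.maximalIdeal S).map (algebraMap S R)) = 2 ∧
      Algebra.IsSeparable (S ⧸ IsLocalRing.maximalIdeal S)
        (R ⧸ (IsLocalRing.maximalIdeal S).map (algebraMap S R))) ∨
    Nonempty ((R ⧸ (IsLocalRing.maximalIdeal S).map (algebraMap S R)) ≃ₐ[S ⧸ IsLocalRing.maximalIdeal S]
      ((S ⧸ IsLocalRing.maximalIdeal S) × (S ⧸ IsLocalRing.maximalIdeal S))) := by
  classical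
  obtain ⟨hred, hfin, hu, hdim⟩ := GrothLib.RInvol.fibre_of_isQuadEtale hq
  let := Ideal.Quotient.field (IsLocalRing.maximalIdeal S)
  let k := S ⧸ IsLocalRing.maximalIdeal S
  let B := R ⧸ (IsLocalRing.maximalIdeal S).map (algebraMap S R)
  have : IsArtinianRing B := IsArtinianRing.of_finite k B
  let e : B ≃ₐ[k] ((I : MaximalSpectrum B) → B ⧸ I.asIdeal) :=
    { IsArtinianRing.equivPi B with commutes' := fun c => funext fun I => rfl }
  have := Fintype.ofFinite (MaximalSpectrum B)
  let := fun I : MaximalSpectrum B => Ideal.Quotient.field I.asIdeal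
  have hpos : ∀ I : MaximalSpectrum B, 0 < Module.finrank k (B ⧸ I.asIdeal) := fun I => Module.finrank_pos
  have hsum : ∑ I : MaximalSpectrum B, Module.finrank k (B ⧸ I.asIdeal) = 2 := by
    rw [← Module.finrank_pi_fintype k, ← e.toLinearEquiv.finrank_eq]; exact hdim
  have hcard : Fintype.card (MaximalSpectrum B) ≤ 2 := by
    rw [← hsum, Fintype.card_eq_sum_ones]
    exact Finset.sum_le_sum fun I _ => hpos I
  have hne : 0 < Fintype.card (MaximalSpectrum B) := by
    rw [Fintype.card_pos_iff]
    by_contra hemp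
    rw [not_nonempty_iff] at hemp
    rw [Fintype.sum_empty] at hsum
    omega
  rcases (show Fintype.card (MaximalSpectrum B) = 1 ∨ Fintype.card (MaximalSpectrum B) = 2 by omega) with h1 | h1
  · left
    obtain ⟨I, hI⟩ := Fintype.card_eq_one_iff.1 h1
    have : Unique (MaximalSpectrum B) := ⟨⟨I⟩, hI⟩
    have hF : IsField B := (e.toRingEquiv.trans
      (RingEquiv.piUnique fun I : MaximalSpectrum B => B ⧸ I.asIdeal)).toMulEquiv.isField (Field.toIsField _)
    refine ⟨hF, hdim, ?_⟩
    let := hF.toField
    have : Algebra.EssFiniteType k B := inferInstance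
    exact Algebra.FormallyUnramified.isSeparable k B
  · right
    have hone : ∀ I : MaximalSpectrum B, Module.finrank k (B ⧸ I.asIdeal) = 1 := by
      intro I
      have h2 := Finset.add_sum_erase Finset.univ (fun I : MaximalSpectrum B => Module.finrank k (B ⧸ I.asIdeal)) (Finset.mem_univ I)
      have h3 : (Finset.univ.erase I).card = 1 := by rw [Finset.card_erase_of_mem (Finset.mem_univ I), Finset.card_univ, h1]
      obtain ⟨J, hJ⟩ := Finset.card_eq_one.1 h3
      rw [hJ, Finset.sum_singleton] at h2
      rw [hsum] at h2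
      have := hpos I; have := hpos J
      omega
    have hbij : ∀ I : MaximalSpectrum B, Function.Bijective (algebraMap k (B ⧸ I.asIdeal)) := fun I =>
      ⟨RingHom.injective _, (LinearMap.injective_iff_surjective_of_finrank_eq_finrank
        (f := Algebra.linearMap k (B ⧸ I.asIdeal)) (by rw [Module.finrank_self, hone])).1 (algebraMap k (B ⧸ I.asIdeal)).injective⟩
    let σ : MaximalSpectrum B ≃ Fin 2 := Fintype.equivFinOfCardEq h1
    refine ⟨e.trans ((AlgEquiv.piCongrRight fun I => (AlgEquiv.ofBijective (Algebra.ofId k _) (hbij I)).symm).trans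
      ((AlgEquiv.piCongrLeft k (fun _ : Fin 2 => k) σ).trans ?_))⟩
    exact AlgEquiv.ofBijective ((Pi.evalAlgHom k (fun _ : Fin 2 => k) 0).prod (Pi.evalAlgHom k (fun _ : Fin 2 => k) 1))
      ⟨fun a b hab => funext fun j => by fin_cases j; exacts [congrArg Prod.fst hab, congrArg Prod.snd hab],
        fun c => ⟨![c.1, c.2], rfl⟩⟩

end Groth.Agent.S15585
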