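import Groth.Statements.S15588
import Groth.Agent.Lib.RInvol.BranchLocus

set_option autoImplicit false
universe u v
open scoped TensorProduct
open RInv

namespace Groth.Agent.S15588

/-- Let `R` be a commutative ring with an involution `lam` and fixed ring `S`, let `W ⊆ Spec S` be the
branch locus (the primes `p` with `S_p ⊗_S R` not quadratic etale over `S_p`) and `I` its vanishing
ideal. Then `lam` is the identity on `R/rad(IR)`, i.e. on the reduced closed subscheme `π⁻¹(W)` of
`Spec R`: `lam r - r ∈ rad(IR)` for all `r`. Affine-local form of the statement for a good quotient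
of schemes by an involution. -/
theorem result (S : Type u) (R : Type v) [CommRing S] [CommRing R]
    [Algebra S R] (lam : R ≃+* R) (hlam : Function.Involutive lam) (hS : RInv.IsFixedRing S R lam)
    (W : Set (PrimeSpectrum S))
    (hW : W = {p : PrimeSpectrum S | ¬ RInv.IsQuadEtale (Localization.AtPrime p.asIdeal) (Localization.AtPrime p.asIdeal ⊗[S] R)})
    (r : R) :
    lam r - r ∈ ((PrimeSpectrum.vanishingIdeal W).map (algebraMap S R)).radical := by
  exact (GrothLib.RInvol.isInvol_of_fixedRing lam hlam hS).sub_mem_radical hW r

end Groth.Agent.S15588
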