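import Groth.Statements.S15590
import Mathlib.RingTheory.DedekindDomain.Basic
import Mathlib.RingTheory.Flat.FaithfullyFlat.Algebra
import Mathlib.RingTheory.Ideal.GoingUp
import Mathlib.RingTheory.IntegralClosure.IntegrallyClosed
-- import your own Groth.Agent.* helpers here

set_option autoImplicit false
universe u v
open CAlg

namespace Groth.Agent.S15590

/-- Let A → B be an injective homomorphism of commutative rings which makes B a finite flat A-module,
and suppose B is a Dedekind domain (Noetherian, integrally closed, of Krull dimension at most one; a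
field is allowed). Then A is a Dedekind domain. -/
theorem result (A : Type u) (B : Type v)
    [CommRing A] [CommRing B] [Algebra A B] [IsDedekindDomain B]
    (hinj : Function.Injective (algebraMap A B)) [Module.Finite A B] [Module.Flat A B] :
    IsDedekindDomain A := by
  have : IsDomain A := hinj.isDomain (algebraMap A B)
  have : Algebra.IsIntegral A B := Algebra.IsIntegral.of_finite A B
  have : FaithfulSMul A B := (faithfulSMul_iff_algebraMap_injective A B).2 hinj
  have hff : Module.FaithfullyFlat A B := by
    refine Module.FaithfullyFlat.of_comap_surjective fun p => ?_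
    obtain ⟨Q, hQ, hQp⟩ := Ideal.exists_ideal_over_prime_of_isIntegral p.asIdeal (⊥ : Ideal B)
      (by intro x hx; have : x = 0 := hinj (by rw [map_zero]; exact hx); simp [this])
    exact ⟨⟨Q, hQp.1⟩, PrimeSpectrum.ext hQp.2⟩
  have hcm : ∀ I : Ideal A, (I.map (algebraMap A B)).comap (algebraMap A B) = I := fun I =>
    Ideal.comap_map_eq_self_of_faithfullyFlat I
  have : IsNoetherianRing A := by
    refine (isNoetherian_iff.2 ?_)
    refine RelHomClass.wellFounded (⟨fun I => I.map (algebraMap A B), fun {I J} h => ?_⟩ :
      ((· > ·) : Ideal A → Ideal A → Prop) →r ((· > ·) : Ideal B → Ideal B → Prop)) (isNoetherian_iff.1 inferInstance)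
    refine lt_of_le_of_ne (Ideal.map_mono h.le) fun e => h.ne ?_
    rw [← hcm J, ← hcm I, e]
  have : Ring.DimensionLEOne A := ⟨fun {p} hp hpp => by
    obtain ⟨Q, hQ, hQp⟩ := Ideal.exists_ideal_over_prime_of_isIntegral p (⊥ : Ideal B)
      (by intro x hx; have : x = 0 := hinj (by rw [map_zero]; exact hx); simp [this])
    have hQ0 : Q ≠ ⊥ := fun h => hp (by
      rw [← hQp.2, h, eq_bot_iff]
      intro x hx
      have : x = 0 := hinj (by rw [map_zero]; exact hx)
      simp [this])
    have := hQp.1.isMaximal hQ0
    rw [← hQp.2]
    exact Ideal.isMaximal_comap_of_isIntegral_of_isMaximal Q⟩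
  have : IsIntegrallyClosed A := by
    rw [isIntegrallyClosed_iff (FractionRing A)]
    intro x hx
    obtain ⟨a, b, hb, rfl⟩ := IsFractionRing.div_surjective (A := A) x
    let φ : FractionRing A →+* FractionRing B :=
      IsFractionRing.lift (g := (algebraMap B (FractionRing B)).comp (algebraMap A B))
        ((IsFractionRing.injective B _).comp hinj)
    have hφ : ∀ x, φ (algebraMap A (FractionRing A) x) = algebraMap B (FractionRing B) (algebraMap A B x) :=
      fun x => IsFractionRing.lift_algebraMap _ x
    obtain ⟨P, hP, hP0⟩ := hx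
    have hint : IsIntegral B (φ (algebraMap A _ a / algebraMap A _ b)) := by
      refine ⟨P.map (algebraMap A B), hP.map _, ?_⟩
      rw [Polynomial.eval₂_map, show (algebraMap B (FractionRing B)).comp (algebraMap A B) =
        φ.comp (algebraMap A (FractionRing A)) from (RingHom.ext hφ).symm, ← Polynomial.hom_eval₂, hP0, map_zero]
    obtain ⟨β, hβ⟩ := IsIntegrallyClosed.isIntegral_iff.1 hint
    have hb0 : algebraMap A (FractionRing A) b ≠ 0 := IsFractionRing.to_map_ne_zero_of_mem_nonZeroDivisors hb
    have hab : algebraMap A B a = β * algebraMap A B b := by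
      refine IsFractionRing.injective B (FractionRing B) ?_
      rw [map_mul, hβ, ← hφ, ← hφ, ← map_mul, div_mul_cancel₀ _ hb0]
    have : a ∈ Ideal.span {b} := by
      rw [← hcm (Ideal.span {b}), Ideal.mem_comap, Ideal.map_span, Set.image_singleton,
        Ideal.mem_span_singleton']
      exact ⟨β, hab.symm⟩
    obtain ⟨c, hc⟩ := Ideal.mem_span_singleton'.1 this
    exact ⟨c, by rw [eq_div_iff hb0, ← map_mul, hc]⟩
  exact {}

end Groth.Agent.S15590
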