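import Groth.Statements.S15595
import Mathlib
import Groth.Agent.S11564
import Groth.Agent.S0565
-- import your own Groth.Agent.* helpers here

set_option autoImplicit false
universe u
open TensorProduct
attribute [local instance] RingHom.ker_isPrime
open CAlg

set_option maxSynthPendingDepth 3
namespace Groth.Agent.S15595

/-- Let k ⊆ K be a field extension and A a Noetherian local k-algebra with residue field k, recorded by
a k-algebra map π : A → k whose kernel is the maximal ideal. Let π_K : K ⊗_k A → K be the induced
K-algebra map, m' its kernel, and A' the localization of K ⊗_k A at m'. Assume A' is Noetherian.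
Then A is a regular local ring if and only if A' is a regular local ring. -/
theorem result (k K A : Type u) [Field k] [Field K]
    [Algebra k K] [CommRing A] [Algebra k A] [IsLocalRing A] [IsNoetherianRing A]
    (π : A →ₐ[k] k) (hπ : RingHom.ker π = IsLocalRing.maximalIdeal A)
    [IsNoetherianRing (Localization.AtPrime (RingHom.ker
      ((Algebra.TensorProduct.rid k K K).toAlgHom.comp (Algebra.TensorProduct.map (AlgHom.id K K) π))))] :
    IsRegularLocalRing A ↔ IsRegularLocalRing (Localization.AtPrime (RingHom.ker
      ((Algebra.TensorProduct.rid k K K).toAlgHom.comp (Algebra.TensorProduct.map (AlgHom.id K K) π)))) := by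
  let Pz := (Algebra.TensorProduct.rid k K K).toAlgHom.comp (Algebra.TensorProduct.map (AlgHom.id K K) π)
  haveI : (RingHom.ker Pz).IsPrime := RingHom.ker_isPrime _
  letI : Algebra A (K ⊗[k] A) := Algebra.TensorProduct.rightAlgebra
  have hmap : (IsLocalRing.maximalIdeal A).map (algebraMap A (K ⊗[k] A)) = RingHom.ker Pz := by
    have hπs : Function.Surjective π := fun c => ⟨algebraMap k A c, π.commutes c⟩
    rw [← hπ]
    have h1 : RingHom.ker Pz = RingHom.ker (Algebra.TensorProduct.map (AlgHom.id k K) π) := by
      ext z
      simp only [RingHom.mem_ker]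
      exact map_eq_zero_iff _ (Algebra.TensorProduct.rid k K K).injective
    rw [h1, Algebra.TensorProduct.lTensor_ker π hπs]
    rfl
  haveI : Module.Flat A (K ⊗[k] A) :=
    Module.Flat.of_linearEquiv (M := A ⊗[k] K)
      { (Algebra.TensorProduct.comm k K A).toAddEquiv with
        map_smul' := fun a z => by
          change (Algebra.TensorProduct.comm k K A) (a • z) = a • (Algebra.TensorProduct.comm k K A) z
          induction z using TensorProduct.induction_on with
          | zero => simp
          | add x y hx hy => rw [smul_add, map_add, hx, hy, map_add, smul_add]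
          | tmul x y =>
            change (Algebra.TensorProduct.comm k K A) (a • (x ⊗ₜ[k] y)) = a • (y ⊗ₜ[k] x)
            rw [Algebra.smul_def, TensorProduct.smul_tmul']
            simp [Algebra.TensorProduct.rightAlgebra, RingHom.algebraMap_toAlgebra] }
  haveI : Module.Flat A (Localization.AtPrime (RingHom.ker Pz)) := Module.Flat.trans A (K ⊗[k] A) _
  have hmax : (IsLocalRing.maximalIdeal A).map (algebraMap A (Localization.AtPrime (RingHom.ker Pz))) =
      IsLocalRing.maximalIdeal (Localization.AtPrime (RingHom.ker Pz)) := by
    rw [IsScalarTower.algebraMap_eq A (K ⊗[k] A) (Localization.AtPrime (RingHom.ker Pz)), ← Ideal.map_map,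
      hmap, Localization.AtPrime.map_eq_maximalIdeal]
  haveI : IsLocalHom (algebraMap A (Localization.AtPrime (RingHom.ker Pz))) :=
    ⟨fun a ha => by
      by_contra hna
      have h1 := Ideal.mem_map_of_mem (algebraMap A (Localization.AtPrime (RingHom.ker Pz)))
        ((IsLocalRing.mem_maximalIdeal a).mpr hna)
      rw [hmax] at h1
      exact (IsLocalRing.mem_maximalIdeal _).mp h1 ha⟩
  constructor
  · intro hA
    haveI : IsRegularLocalRing (Localization.AtPrime (RingHom.ker Pz) ⧸
        Ideal.map (algebraMap A (Localization.AtPrime (RingHom.ker Pz))) (IsLocalRing.maximalIdeal A)) := by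
      rw [hmax]
      letI := Ideal.Quotient.field (IsLocalRing.maximalIdeal (Localization.AtPrime (RingHom.ker Pz)))
      infer_instance
    have h := Groth.Agent.S11564.result A (Localization.AtPrime (RingHom.ker Pz))
    have h0 : Module.finrank (IsLocalRing.ResidueField (Localization.AtPrime (RingHom.ker Pz) ⧸
        Ideal.map (algebraMap A (Localization.AtPrime (RingHom.ker Pz))) (IsLocalRing.maximalIdeal A)))
        (IsLocalRing.CotangentSpace (Localization.AtPrime (RingHom.ker Pz) ⧸
        Ideal.map (algebraMap A (Localization.AtPrime (RingHom.ker Pz))) (IsLocalRing.maximalIdeal A))) = 0 := by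
      rw [← IsLocalRing.spanFinrank_maximalIdeal_eq_finrank_cotangentSpace,
        Submodule.spanFinrank_eq_zero_iff_eq_bot (IsNoetherian.noetherian _)]
      rw [eq_bot_iff]
      intro z hz
      obtain ⟨y, rfl⟩ := Ideal.Quotient.mk_surjective z
      rw [Ideal.mem_bot, Ideal.Quotient.eq_zero_iff_mem, hmax, IsLocalRing.mem_maximalIdeal]
      intro hy
      exact (IsLocalRing.mem_maximalIdeal _).mp hz (hy.map _)
    rw [h0, zero_add] at h
    refine IsRegularLocalRing.of_spanFinrank_maximalIdeal_le _ ?_
    rw [IsLocalRing.spanFinrank_maximalIdeal_eq_finrank_cotangentSpace, h,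
      ← IsLocalRing.spanFinrank_maximalIdeal_eq_finrank_cotangentSpace,
      IsRegularLocalRing.spanFinrank_maximalIdeal]
    exact GrothLib.DimCut.ringKrullDim_le_of_flat_local
  · intro hA'
    exact Groth.Agent.S0565.result A (Localization.AtPrime (RingHom.ker Pz))

end Groth.Agent.S15595
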