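import Groth.Statements.S15596
import Mathlib.AlgebraicGeometry.AlgClosed.Basic
import Mathlib.Topology.JacobsonSpace

set_option autoImplicit false
universe u
open CategoryTheory MonoidalCategory CartesianMonoidalCategory MonObj GrpObj AlgebraicGeometry
open AlgGrp

namespace Groth.Agent.S15596

/-- Let k be an algebraically closed field, H a smooth k-group scheme of finite type, and U a dense open
subset of H. Then every k-rational point h of H is of the form u₂ · u₁⁻¹ for k-rational points u₁,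
u₂ of H whose underlying points lie in U. -/
theorem result (k : Type u) [Field k] [IsAlgClosed k]
    (H : Over (Spec (CommRingCat.of k))) [GrpObj H] [Smooth H.hom] [QuasiCompact H.hom]
    (U : H.left.Opens) (hU : Dense (U : Set ↥H.left)) (h : 𝟙_ (Over (Spec (CommRingCat.of k))) ⟶ H) :
    ∃ u₁ u₂ : 𝟙_ (Over (Spec (CommRingCat.of k))) ⟶ H,
      u₁.left.base (IsLocalRing.closedPoint k) ∈ U ∧ u₂.left.base (IsLocalRing.closedPoint k) ∈ U ∧
        h = u₂ * u₁⁻¹ := by
  let T : H ⟶ H := (toUnit H ≫ h) * 𝟙 H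
  let Ti : H ⟶ H := (toUnit H ≫ h⁻¹) * 𝟙 H
  have hc : ∀ (h' : 𝟙_ (Over (Spec (CommRingCat.of k))) ⟶ H) (T' : Over (Spec (CommRingCat.of k)))
      (p : T' ⟶ H), p ≫ ((toUnit H ≫ h') * 𝟙 H) = (toUnit T' ≫ h') * p := fun h' T' p => by
    rw [MonObj.comp_mul, Category.comp_id, ← Category.assoc, toUnit_unique (p ≫ toUnit H) (toUnit T')]
  have hTT : Ti ≫ T = 𝟙 H := by
    rw [hc h H Ti, ← _root_.mul_assoc, GrpObj.comp_inv, mul_inv_cancel, _root_.one_mul]
  have hne : (U : Set ↥H.left).Nonempty := by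
    have : Nonempty ↥H.left := ⟨η[H].left (IsLocalRing.closedPoint k)⟩
    exact hU.nonempty
  obtain ⟨x₀, hx₀⟩ := hne
  have hpre : (T.left ⁻¹ᵁ U : Set ↥H.left).Nonempty := ⟨Ti.left x₀, by
    show T.left (Ti.left x₀) ∈ U
    rw [← Scheme.Hom.comp_apply, ← Over.comp_left, hTT]
    exact hx₀⟩
  obtain ⟨y, hy₁, hy₂⟩ := hU.inter_open_nonempty _ (T.left ⁻¹ᵁ U).2 hpre
  have : JacobsonSpace ↥H.left := LocallyOfFiniteType.jacobsonSpace H.hom
  obtain ⟨z, hz, hzc⟩ := nonempty_inter_closedPoints (Z := (T.left ⁻¹ᵁ U : Set ↥H.left) ∩ U)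
    ⟨y, hy₁, hy₂⟩ ((T.left ⁻¹ᵁ U).2.inter U.2).isLocallyClosed
  let u₁ : 𝟙_ (Over (Spec (CommRingCat.of k))) ⟶ H :=
    Over.homMk (pointOfClosedPoint H.hom z hzc) (pointOfClosedPoint_comp H.hom z hzc)
  have hu : u₁.left.base (IsLocalRing.closedPoint k) = z := pointOfClosedPoint_apply H.hom z hzc _
  refine ⟨u₁, h * u₁, ?_, ?_, ?_⟩
  · rw [hu]; exact hz.2
  · have e : h * u₁ = u₁ ≫ T := by
      rw [hc h _ u₁, toUnit_unique (toUnit _) (𝟙 _), Category.id_comp]
    rw [e]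
    show T.left (u₁.left (IsLocalRing.closedPoint k)) ∈ U
    erw [hu]
    exact hz.1
  · rw [mul_inv_cancel_right]

end Groth.Agent.S15596
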