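import Groth.Statements.S15597
import Groth.Agent.Lib.SSPts3.Alg
import Groth.Agent.Lib.HopfAG.Model
import Groth.Agent.Lib.Flag27.BorelUnion
import Groth.Agent.Lib.Flag27.UnipBasic
import Groth.Agent.Lib.Flag27.TorusCentConn
import Groth.Agent.Lib.GModComod14.Basic

set_option autoImplicit false
universe u v
open HopfRep
open CategoryTheory CategoryTheory.Limits MonoidalCategory CartesianMonoidalCategory MonObj GrpObj AlgebraicGeometry VecGrp
open GrothLib.MultHopf14
set_option backward.isDefEq.respectTransparency false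

namespace Groth.Agent.S15597

/-- Let k be an algebraically closed field and G = Spec A a smooth connected affine k-group, that is, A
is a finitely generated commutative Hopf algebra over k which is reduced and has no idempotents
other than 0 and 1; commutativity of G is not assumed. If every k-point of G is semisimple, in the
sense that it acts semisimply in every finite-dimensional A-comodule, then G is a torus: A is
spanned over k by its group-like elements. (The published statement is over an arbitrary field, with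
the hypothesis on the points over an algebraic closure; this row is the algebraically closed case.) -/
theorem result (k : Type u) (A : Type v) [Field k]
    [IsAlgClosed k] [CommRing A] [HopfAlgebra k A] [Algebra.FiniteType k A] [IsReduced A]
    (hconn : ∀ e : A, IsIdempotentElem e → e = 0 ∨ e = 1)
    (hss : ∀ (g : A →ₐ[k] k) (V : Type v) [AddCommGroup V] [Module k V] [HopfRep.Comod k A V],
      Module.Finite k V → Module.End.IsSemisimple (HopfRep.Comod.act k A V g)) :
    HopfRep.IsDiagonalizable k A := by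
  classical
  obtain ⟨A₀, _, _, e, hft⟩ := GrothLib.HopfAG.exists_model k A
  haveI := hft
  haveI : IsReduced A₀ := isReduced_of_injective (e : A₀ →ₐ[k] A) e.injective
  haveI : Nontrivial A₀ := (Bialgebra.counitAlgHom k A₀).toRingHom.domain_nontrivial
  have hconn₀ : ∀ x : A₀, IsIdempotentElem x → x = 0 ∨ x = 1 := fun x hx => by
    have hx' : IsIdempotentElem (e x) := by
      show e x * e x = e x
      rw [← map_mul, show x * x = x from hx]
    exact (hconn (e x) hx').imp (fun h => e.injective (h.trans (map_zero e).symm))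
      fun h => e.injective (h.trans (map_one e).symm)
  let G : Over (Spec (CommRingCat.of k)) := GrothLib.GModComod14.G k A₀
  haveI : IsAffine G.left := inferInstanceAs (IsAffine (Spec (CommRingCat.of A₀)))
  haveI : LocallyOfFiniteType G.hom := (HasRingHomProperty.Spec_iff (P := @LocallyOfFiniteType)).2
    (RingHom.finiteType_algebraMap.2 hft)
  haveI : AlgebraicGeometry.IsReduced G.left :=
    inferInstanceAs (AlgebraicGeometry.IsReduced (Spec (CommRingCat.of A₀)))
  haveI : Smooth G.hom := GrothLib.Flag27.smooth_of_reduced_grp G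
  haveI : ConnectedSpace G.left := GrothLib.Flag27.connectedSpace_primeSpectrum hconn₀
  obtain ⟨B, _, iB, hB, -⟩ := GrothLib.Flag27.exists_borel (G := G)
  obtain ⟨hi, hic, hBsm, hBc, hBs, -⟩ := id hB
  haveI := hi; haveI := hic; haveI := hBsm; haveI := hBc
  haveI : IsAffine B.left := isAffine_of_isAffineHom iB.left
  obtain ⟨D, _, U, _, p, s, u, r, hp, hs, hu, hsp, hDt, hDa, hDs, -, huc, hup, -, hru, hUu, hUs, -⟩ :=
    GrothLib.Flag27.hasSplit_of_solvable (GrothLib.Flag27.isSolvable_points hBs)
  haveI := hp; haveI := hs; haveI := hu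
  obtain ⟨A₂, _, _, hft₂, hU₂, ⟨e₂⟩⟩ := hUu
  -- the unipotent part has trivial points
  have htriv : ∀ z : 𝟙_ (Over (Spec (CommRingCat.of k))) ⟶ U, z ≫ u ≫ iB = 1 := by
    obtain ⟨φ, hφ⟩ := GrothLib.Flag27.exists_specMap (A := A₀) (G := G) (Iso.refl _) e₂ (u ≫ iB)
    intro z
    let i₂ := (Grp.forget _).mapIso e₂
    let ψ : A →ₐc[k] A₂ := φ.comp (e.symm : A →ₐc[k] A₀)
    let c : 𝟙_ (Over (Spec (CommRingCat.of k))) ≅ pt k k := GrothLib.Flag27.ptOne.symm
    let w := (c.inv ≫ z) ≫ i₂.inv
    have hw : z = c.hom ≫ w ≫ i₂.hom := by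
      simp only [w, Category.assoc, Iso.inv_hom_id, Category.comp_id, Iso.hom_inv_id_assoc]
    let h : A₂ →ₐ[k] k := GrothLib.GModComod14.alg w
    have key : h.comp (φ : A₀ →ₐ[k] A₂) = Bialgebra.counitAlgHom k A₀ := AlgHom.ext fun a₀ => by
      have := GrothLib.SSPts3.eq_counit_of_semisimple hU₂ ψ h
        (fun V _ _ _ hV => hss (h.comp (ψ : A →ₐ[k] A₂)) V hV) (e a₀)
      simp only [ψ, BialgHom.comp_apply] at this
      rw [show (e.symm : A →ₐc[k] A₀) (e a₀) = a₀ from e.symm_apply_apply a₀] at this
      exact this.trans (CoalgHomClass.counit_comp_apply e a₀)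
    have hm : w ≫ GrothLib.CentMT14.specMap φ = GrothLib.GModComod14.point (h.comp (φ : A₀ →ₐ[k] A₂)) := by
      rw [← GrothLib.GModComod14.point_alg w]
      refine Over.OverMorphism.ext ?_
      rw [GrothLib.GModComod14.point_eq_ptMap, GrothLib.GModComod14.point_eq_ptMap]
      show Spec.map _ ≫ (GrothLib.CentMT14.specMap φ).left = Spec.map _
      rw [GrothLib.CentMT14.specMap_left, ← Spec.map_comp]
      rfl
    have h1 : GrothLib.GModComod14.point (h.comp (φ : A₀ →ₐ[k] A₂)) = 1 := by
      rw [key, ← GrothLib.GModComod14.point_one]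
      exact congrArg _ (AlgHom.ext fun x => (by simp [AlgHom.convOne_def]))
    rw [hw, Category.assoc, Category.assoc]
    have h2 : w ≫ i₂.hom ≫ u ≫ iB = 1 := by
      rw [← h1, ← hm]
      exact congrArg (w ≫ ·) ((hφ.symm).trans (Category.comp_id _))
    rw [h2, MonObj.comp_one]
  have hdec : ∀ b : 𝟙_ (Over (Spec (CommRingCat.of k))) ⟶ B, b ≫ iB = (b ≫ p) ≫ s ≫ iB := by
    intro b
    have h := htriv (b ≫ r)
    have e1 : (b ≫ r) ≫ u ≫ iB = (b ≫ iB) * ((b ≫ p) ≫ s ≫ iB)⁻¹ := by
      rw [Category.assoc, reassoc_of% hru]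
      simp only [MonObj.mul_comp, GrpObj.inv_comp, MonObj.comp_mul, GrpObj.comp_inv, Category.assoc,
        Category.id_comp]
    exact mul_inv_eq_one.1 (e1.symm.trans h)
  have hBcomm : ∀ b b' : 𝟙_ (Over (Spec (CommRingCat.of k))) ⟶ B,
      (b ≫ iB) * (b' ≫ iB) = (b' ≫ iB) * (b ≫ iB) := by
    intro b b'
    rw [hdec b, hdec b']
    exact ((MonObj.mul_comp (b ≫ p) (b' ≫ p) (s ≫ iB)).symm.trans (congrArg (· ≫ s ≫ iB)
      (GrothLib.DiagGrp.mul_comm_of_charts (GrothLib.DiagGrp.hasChartsFpqc_of_isTorus hDt) _ (b ≫ p) (b' ≫ p)))).trans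
      (MonObj.mul_comp (b' ≫ p) (b ≫ p) (s ≫ iB))
  have hcent : ∀ (b : 𝟙_ (Over (Spec (CommRingCat.of k))) ⟶ B) (g : 𝟙_ (Over (Spec (CommRingCat.of k))) ⟶ G),
      (b ≫ iB) * g * (b ≫ iB)⁻¹ = g := by
    intro b g
    haveI := GrothLib.Flag27.isMonHom_conjBy (b ≫ iB) (𝟙 G)
    haveI : AlgebraicGeometry.IsReduced B.left := GrothLib.RedSmooth.isReduced_of_smooth B.hom
    have h := GrothLib.Flag27.hom_eq hB (AGF.conjBy (b ≫ iB) (𝟙 G)) (𝟙 G) (by
      refine GrothLib.Rigidity.ext_of_points _ _ fun q => ?_
      rw [← Category.assoc, GrothLib.Flag27.comp_conjBy', Category.comp_id, Category.comp_id,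
        GrothLib.Flag27.conjBy_pt, hBcomm, mul_inv_cancel_right])
    have h' := congrArg (g ≫ ·) h
    rw [GrothLib.Flag27.comp_conjBy', Category.comp_id, GrothLib.Flag27.conjBy_pt] at h'
    exact h'
  have hall : ∀ g g' : 𝟙_ (Over (Spec (CommRingCat.of k))) ⟶ G, g * g' = g' * g := by
    intro g g'
    obtain ⟨x, b, hx⟩ := GrothLib.Flag27.exists_conj_mem_borel hB g
    have hg : g = b ≫ iB := by
      have := hcent b x
      rw [← hx]
      calc x * (b ≫ iB) * x⁻¹ = ((b ≫ iB) * x * (b ≫ iB)⁻¹) * (b ≫ iB) * x⁻¹ := by rw [this]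
        _ = b ≫ iB := by group
    have := hcent b g'
    rw [← hg] at this
    exact (mul_inv_eq_iff_eq_mul.1 this)
  have hcc : ∀ g g' : WithConv (A →ₐ[k] k), g * g' = g' * g := by
    intro g g'
    let c : 𝟙_ (Over (Spec (CommRingCat.of k))) ≅ pt k k := GrothLib.Flag27.ptOne.symm
    let P : WithConv (A →ₐ[k] k) → (𝟙_ (Over (Spec (CommRingCat.of k))) ⟶ G) := fun g =>
      c.hom ≫ GrothLib.GModComod14.point (g.ofConv.comp (e : A₀ →ₐ[k] A))
    have hmul : ∀ g g', P (g * g') = P g * P g' := fun g g' => by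
      simp only [P]
      rw [← MonObj.comp_mul, GrothLib.GModComod14.point_mul]
      congr 2
      refine AlgHom.ext fun x => ?_
      show (g * g') (e x) = _
      rw [AlgHom.convMul_apply, AlgHom.convMul_apply, ← CoalgHomClass.map_comp_comul_apply e x]
      induction Coalgebra.comul (R := k) x using TensorProduct.induction_on with
      | zero => simp
      | tmul a b => simp
      | add a b ha hb => simp only [map_add, ha, hb]
    have h := ((hmul g g').trans (hall _ _)).trans (hmul g' g).symm
    have h' := congrArg GrothLib.GModComod14.alg ((cancel_epi c.hom).1 h)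
    rw [GrothLib.GModComod14.alg_point, GrothLib.GModComod14.alg_point] at h'
    refine WithConv.ofConv_injective (AlgHom.ext fun x => ?_)
    have := congrArg (fun f => f (e.symm x)) h'
    simpa using this
  haveI := GrothLib.SSPts3.isCocomm_of_comm_points hcc
  exact GrothLib.Dense.isDiagonalizable_of_semisimple hss

end Groth.Agent.S15597
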