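import Groth.Statements.S15598
import Groth.Agent.Lib.GrpSchField.Orbit
import Groth.Agent.Lib.GrpSchField.Pts
import Groth.Agent.Lib.GrpSchField.Field
import Groth.Agent.Lib.Rigidity.SmoothGroup
import Mathlib.AlgebraicGeometry.AlgClosed.Basic
-- import your own Groth.Agent.* helpers here

set_option autoImplicit false
universe u
open CategoryTheory MonoidalCategory CartesianMonoidalCategory MonObj GrpObj AlgebraicGeometry
open AlgGrp

namespace Groth.Agent.S15598

/-- Let k be an algebraically closed field, G a k-group scheme of finite type, and X a smooth connected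
k-scheme with an action of G. Suppose that for some k-point x₀ of X the orbit map g ↦ g · x₀ from G
to X is surjective, and that the stabilizer of x₀, a subgroup scheme H ⟶ G whose points are exactly
the points g of G with g · x₀ = x₀, is connected. Then G is connected. (Stated over an algebraically
closed field, to which the general case reduces since a k-group scheme of finite type is connected
exactly when it is geometrically connected.) -/
theorem result (k : Type u) [Field k] [IsAlgClosed k]
    (G X : Over (Spec (CommRingCat.of k))) [GrpObj G] [LocallyOfFiniteType G.hom] [QuasiCompact G.hom]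
    [Smooth X.hom] [ConnectedSpace ↥X.left] (a : AlgGrp.Action G X) (x₀ : 𝟙_ (Over (Spec (CommRingCat.of k))) ⟶ X)
    (hsurj : Surjective (a.orbitMap x₀).left)
    (H : Over (Spec (CommRingCat.of k))) [GrpObj H] (i : H ⟶ G) [IsMonHom i] [Mono i]
    (hH : ∀ (T : Over (Spec (CommRingCat.of k))) (g : T ⟶ G), (∃ h : T ⟶ H, h ≫ i = g) ↔ g ≫ a.orbitMap x₀ = toUnit T ≫ x₀)
    [ConnectedSpace ↥H.left] : ConnectedSpace ↥G.left := by
  let f := a.orbitMap x₀
  have : CompactSpace G.left := QuasiCompact.compactSpace_of_compactSpace G.hom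
  have := LocallyOfFiniteType.isLocallyNoetherian G.hom
  have : IsNoetherian G.left := {}
  have : AlgebraicGeometry.IsReduced X.left := GrothLib.Rigidity.isReduced_of_smooth X.hom
  have : QuasiCompact f.left := inferInstance
  have : LocallyOfFiniteType f.left := by
    have h : LocallyOfFiniteType (f.left ≫ X.hom) := by rw [Over.w f]; infer_instance
    exact locallyOfFiniteType_of_comp f.left X.hom
  have : IsLocallyNoetherian X.left := LocallyOfFiniteType.isLocallyNoetherian X.hom
  have : Nonempty G.left := ⟨η[G].left (IsLocalRing.closedPoint k)⟩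
  have : Surjective f.left := hsurj
  have hflat : Flat f.left := by
    refine (GrothLib.GrpSchField.flat_surjective_of_equivariant (k := k) (K := k)
      (GrothLib.GrpSchField.mulAction G) a f
      (GrothLib.GrpSchField.whiskerLeft_orbitMap_act a x₀) fun y y' => ?_).1
    obtain ⟨g, rfl⟩ := GrothLib.GrpSchField.exists_point_lift (K := k) f y
    obtain ⟨g', rfl⟩ := GrothLib.GrpSchField.exists_point_lift (K := k) f y'
    exact ⟨g' * g⁻¹, by simp [f, AlgGrp.Action.orbitMap, comp_lift_assoc, ← GrothLib.GrpSchField.act_mul]⟩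
  have hopen : IsOpenMap f.left := f.left.isOpenMap
  have := LocallyOfFiniteType.jacobsonSpace X.hom
  have := LocallyOfFiniteType.jacobsonSpace G.hom
  let pt : ∀ g : G.left, IsClosed {g} → (𝟙_ (Over (Spec (CommRingCat.of k))) ⟶ G) := fun g hg =>
    Over.homMk (pointOfClosedPoint G.hom g hg) (pointOfClosedPoint_comp G.hom g hg)
  have hpt : ∀ g hg, (pt g hg).left (IsLocalRing.closedPoint k) = g := fun g hg =>
    pointOfClosedPoint_apply G.hom g hg _
  have key : ∀ A : Set G.left, IsClopen A → ∀ g g' : G.left, IsClosed {g} → IsClosed {g'} →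
      f.left g = f.left g' → g ∈ A → g' ∈ A := by
    intro A hA g g' hg hg' he hgA
    let p := pt g hg
    let p' := pt g' hg'
    have hpp : p ≫ f = p' ≫ f := by
      apply Over.OverMorphism.ext
      refine ext_of_apply_closedPoint_eq X.hom ((Category.assoc _ _ _).trans ?_)
        ((Category.assoc _ _ _).trans ?_) ?_
      · exact (congrArg (p.left ≫ ·) (Over.w f)).trans (Over.w p)
      · exact (congrArg (p'.left ≫ ·) (Over.w f)).trans (Over.w p')
      · rw [Over.comp_left, Over.comp_left, Scheme.Hom.comp_apply, Scheme.Hom.comp_apply, hpt, hpt]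
        exact he
    have hfix : (p⁻¹ * p') ≫ f = toUnit _ ≫ x₀ := by
      have e1 : ∀ q : 𝟙_ (Over (Spec (CommRingCat.of k))) ⟶ G,
          q ≫ f = lift q (toUnit _ ≫ x₀) ≫ a.act := fun q => by
        simp [f, AlgGrp.Action.orbitMap, comp_lift_assoc]
      rw [e1, GrothLib.GrpSchField.act_mul, ← e1, ← hpp, e1, ← GrothLib.GrpSchField.act_mul,
        inv_mul_cancel, GrothLib.GrpSchField.act_one]
    obtain ⟨h, hh⟩ := (hH _ _).mpr hfix
    let τ : H ⟶ G := (toUnit H ≫ p) * i
    have h1 : η[H] ≫ τ = p := by
      simp [τ, MonObj.comp_mul, IsMonHom.one_hom, toUnit_unit]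
      rw [Hom.one_def, toUnit_unit, Category.id_comp]
    have h2 : h ≫ τ = p' := by
      simp [τ, MonObj.comp_mul, hh, toUnit_unit]
    have hpre := (_root_.isPreconnected_range τ.left.continuous).subset_isClopen hA
      ⟨g, ⟨η[H].left (IsLocalRing.closedPoint k), by
        rw [← Scheme.Hom.comp_apply, ← Over.comp_left, h1, hpt]⟩, hgA⟩
    exact hpre ⟨h.left (IsLocalRing.closedPoint k), by
      rw [← Scheme.Hom.comp_apply, ← Over.comp_left, h2, hpt]⟩
  have : PreconnectedSpace G.left := by
    refine preconnectedSpace_iff_clopen.mpr fun A hA => ?_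
    have hdisj : f.left '' A ∩ f.left '' Aᶜ = ∅ := by
      by_contra hne
      obtain ⟨y, ⟨hy, hy'⟩, hyc⟩ := nonempty_inter_closedPoints (Set.nonempty_iff_ne_empty.mpr hne)
        ((hopen _ hA.isOpen).inter (hopen _ hA.compl.isOpen)).isLocallyClosed
      have hcl : ∀ B : Set G.left, IsClopen B → y ∈ f.left '' B →
          ∃ g, g ∈ B ∧ f.left g = y ∧ IsClosed {g} := by
        intro B hB hyB
        obtain ⟨g, hgB, hgy⟩ := hyB
        obtain ⟨g', ⟨h1, h2⟩, h3⟩ := nonempty_inter_closedPoints (Z := B ∩ f.left ⁻¹' {y})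
          ⟨g, hgB, hgy⟩ ((hB.isClosed.inter (hyc.preimage f.left.continuous)).isLocallyClosed)
        exact ⟨g', h1, h2, h3⟩
      obtain ⟨g, hgA, hgy, hgc⟩ := hcl A hA hy
      obtain ⟨g', hgA', hgy', hgc'⟩ := hcl Aᶜ hA.compl hy'
      exact hgA' (key A hA g g' hgc hgc' (hgy.trans hgy'.symm) hgA)
    have hcompl : (f.left '' A)ᶜ = f.left '' Aᶜ := by
      ext y
      refine ⟨fun hy => ?_, fun hy hy' => Set.eq_empty_iff_forall_notMem.mp hdisj y ⟨hy', hy⟩⟩
      obtain ⟨g, rfl⟩ := f.left.surjective y
      exact ⟨g, fun hg => hy ⟨g, hg, rfl⟩, rfl⟩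
    have : IsClopen (f.left '' A) :=
      ⟨⟨by rw [hcompl]; exact hopen _ hA.compl.isOpen⟩, hopen _ hA.isOpen⟩
    rcases isClopen_iff.mp this with h | h
    · exact Or.inl (Set.image_eq_empty.mp h)
    · refine Or.inr (Set.compl_empty_iff.mp (Set.image_eq_empty (f := f.left).mp ?_))
      rw [← hcompl, h, Set.compl_univ]
  exact ⟨inferInstance⟩

end Groth.Agent.S15598
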