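import Groth.Statements.S15599
import Groth.Agent.Lib.UnipFix19.Normal
-- import your own Groth.Agent.* helpers here

set_option autoImplicit false
universe u
open CategoryTheory MonoidalCategory CartesianMonoidalCategory MonObj GrpObj AlgebraicGeometry
open AGF

namespace Groth.Agent.S15599

/-- Let k be an algebraically closed field and G a smooth affine k-group scheme, not necessarily
connected, whose unipotent radical is trivial: every smooth connected normal closed subgroup scheme
of G containing no non-trivial subtorus is trivial. Let N ⟶ G be a smooth closed normal subgroup
scheme, not necessarily connected. Then N has the same property: every smooth connected closed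
subgroup scheme of N which is normal in N and contains no non-trivial subtorus is trivial.
Reductivity, in this sense allowing disconnected groups, passes to smooth normal subgroups. (The
published statement is over an arbitrary field, with reductivity defined after extension to an
algebraic closure; this row is the algebraically closed case.) -/
theorem result (k : Type u) [Field k] [IsAlgClosed k]
    (G N : Over (Spec (CommRingCat.of k))) [GrpObj G] [GrpObj N] [IsAffine G.left] [Smooth G.hom]
    (j : N ⟶ G) [IsMonHom j] (hj : IsClosedImmersion j.left) [Smooth N.hom] (hN : AlgGrp.IsNormalHom j)
    (hG : ∀ (U : Over (Spec (CommRingCat.of k))) [GrpObj U] (i : U ⟶ G) [IsMonHom i], IsClosedImmersion i.left → Smooth U.hom →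
        ConnectedSpace ↥U.left → AlgGrp.IsNormalHom i → Red.HasNoSubtorus k U → Red.IsTrivialGrp U) :
    ∀ (U : Over (Spec (CommRingCat.of k))) [GrpObj U] (i : U ⟶ N) [IsMonHom i], IsClosedImmersion i.left → Smooth U.hom →
        ConnectedSpace ↥U.left → AlgGrp.IsNormalHom i → Red.HasNoSubtorus k U → Red.IsTrivialGrp U := by
  haveI := hj
  exact GrothLib.UnipFix19.trivial_of_normal G N j hN hG

end Groth.Agent.S15599
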