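import Groth.Statements.S15600
import Groth.Agent.Lib.UnipFix19.NeutralRad
-- import your own Groth.Agent.* helpers here

set_option autoImplicit false
universe u
open CategoryTheory MonoidalCategory CartesianMonoidalCategory MonObj GrpObj AlgebraicGeometry
open AGF

namespace Groth.Agent.S15600

/-- Let k be a field, G a smooth affine k-group scheme and G⁰ ⟶ G its identity component, that is, an
open subgroup scheme whose underlying space is connected. If U ⟶ G⁰ is the k-unipotent radical of G⁰
(the largest normal closed subgroup scheme of G⁰, smooth and quasi-compact over k, with connected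
geometric fibre containing no non-trivial subtorus), then the composite U ⟶ G⁰ ⟶ G is the
k-unipotent radical of G. -/
theorem result (k : Type u) [Field k]
    (G G₀ U : Over (Spec (CommRingCat.of k))) [GrpObj G] [GrpObj G₀] [GrpObj U] [IsAffine G.left] [Smooth G.hom]
    (j : G₀ ⟶ G) [IsMonHom j] [IsOpenImmersion j.left] [ConnectedSpace ↥G₀.left]
    (u : U ⟶ G₀) (hu : Par.IsUnipotentRadical u) : Par.IsUnipotentRadical (u ≫ j) := by
  exact GrothLib.UnipFix19.isUnipotentRadical_neutral j u hu

end Groth.Agent.S15600
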