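import Groth.Statements.S15603
import Groth.Agent.Lib.RedPts.GmLaw
-- import your own Groth.Agent.* helpers here

set_option autoImplicit false
universe u
open CategoryTheory MonoidalCategory CartesianMonoidalCategory MonObj GrpObj AlgebraicGeometry
open AlgGrp

namespace Groth.Agent.S15603

/-- Multiplicative case. Let k be a field and consider the affine line minus the origin over k, taken
here as the underlying k-scheme of the multiplicative group. Any two structures of k-group scheme on
it with the same unit section have the same multiplication; in particular a group law on the
punctured line whose identity is the point 1 is the usual multiplication. -/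
theorem result (k : Type u) [Field k]
    (h₁ h₂ : GrpObj (Red.Gm (Spec (CommRingCat.of k)))) (e : h₁.one = h₂.one) : h₁.mul = h₂.mul := by
  have hid : lift (SemiCartesianMonoidalCategory.fst (Red.Gm (Spec (CommRingCat.of k))) (Red.Gm (Spec (CommRingCat.of k))))
      (SemiCartesianMonoidalCategory.snd _ _) = 𝟙 _ := lift_fst_snd
  rw [← Category.id_comp h₁.mul, ← Category.id_comp h₂.mul, ← hid]
  apply GmPts.gmFn_injective
  refine (((GmPts.isUnit_gmFn h₁.one).map _).map _).mul_left_cancel
    ((GrothLib.RedPts.gm_mul_eq h₁ _ _).trans ?_)
  rw [e]
  exact (GrothLib.RedPts.gm_mul_eq h₂ _ _).symm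

end Groth.Agent.S15603
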