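import Groth.Statements.S15604
import Groth.Agent.Lib.GrpSchField.ImageSmooth
-- import your own Groth.Agent.* helpers here

set_option autoImplicit false
universe u
open CategoryTheory MonoidalCategory CartesianMonoidalCategory MonObj GrpObj AlgebraicGeometry
open AlgGrp

namespace Groth.Agent.S15604

/-- Let k be a field and f : G ⟶ G' a homomorphism of k-group schemes of finite type, with G smooth over
k. The image of f is closed (not asserted here); with its reduced induced structure it is smooth
over k: every reduced closed subscheme H of G' whose underlying set is the set-theoretic image of f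
is smooth over k. -/
theorem result (k : Type u) [Field k]
    (G G' : Over (Spec (CommRingCat.of k))) [GrpObj G] [GrpObj G'] [Smooth G.hom] [QuasiCompact G.hom]
    [LocallyOfFiniteType G'.hom] [QuasiCompact G'.hom] (f : G ⟶ G') [IsMonHom f]
    (H : Scheme.{u}) (i : H ⟶ G'.left) [IsClosedImmersion i] [IsReduced H]
    (hH : Set.range i.base = Set.range f.left.base) : Smooth (i ≫ G'.hom) := by
  have : CompactSpace G.left := QuasiCompact.compactSpace_of_compactSpace G.hom
  have := LocallyOfFiniteType.isLocallyNoetherian G.hom
  have : IsNoetherian G.left := {}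
  let a : AlgGrp.Action G G' :=
    { act := lift (CartesianMonoidalCategory.fst G G' ≫ f) (CartesianMonoidalCategory.snd G G') ≫ μ[G']
      one_act := by
        rw [← Hom.mul_def]
        simp [MonObj.comp_mul, IsMonHom.one_hom]
        rw [Subsingleton.elim (CartesianMonoidalCategory.fst (𝟙_ _) G') (toUnit _), ← Hom.one_def, _root_.one_mul, leftUnitor_hom]
      mul_act := by
        rw [← Hom.mul_def]
        have hm : μ[G] ≫ f = (CartesianMonoidalCategory.fst G G ≫ f) * (CartesianMonoidalCategory.snd G G ≫ f) := by
          rw [← MonObj.mul_comp]; congr 1; simp [Hom.mul_def]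
        simp [MonObj.comp_mul, hm, _root_.mul_assoc] }
  have h : a.orbitMap η[G'] = f := by
    simp [AlgGrp.Action.orbitMap, a, ← Hom.mul_def, MonObj.comp_mul, ← Hom.one_def]
  exact GrothLib.GrpSchField.smooth_orbit a η[G'] i (by rw [h]; exact hH)

end Groth.Agent.S15604
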