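import Groth.Statements.S15605
import Groth.Agent.Lib.RatClosure.Basic
-- import your own Groth.Agent.* helpers here

set_option autoImplicit false
universe u
open TensorProduct
open AGF

namespace Groth.Agent.S15605

/-- Affine form. Let k be a field, A and A' finitely generated commutative k-algebras and S, S' sets of
k-algebra homomorphisms A → k, A' → k. The closure of a set of rational points of Spec A is cut out
by the intersection of their kernels. Compatibility of these closures with products: in A ⊗_k A',
the intersection over (σ, σ') ∈ S × S' of the kernels of σ ⊗ σ' : A ⊗_k A' → k equals the ideal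
generated by the images of ⋂_{σ} ker σ and of ⋂_{σ'} ker σ'. -/
theorem result (k A A' : Type u) [Field k] [CommRing A] [Algebra k A]
    [Algebra.FiniteType k A] [CommRing A'] [Algebra k A'] [Algebra.FiniteType k A']
    (S : Set (A →ₐ[k] k)) (S' : Set (A' →ₐ[k] k)) :
    (⨅ σ ∈ S, ⨅ σ' ∈ S', RingHom.ker ((Algebra.TensorProduct.lmul' (S := k) k).comp
        (Algebra.TensorProduct.map σ σ'))) =
      Ideal.map (Algebra.TensorProduct.includeLeft : A →ₐ[k] A ⊗[k] A') (⨅ σ ∈ S, RingHom.ker σ) ⊔
        Ideal.map (Algebra.TensorProduct.includeRight : A' →ₐ[k] A ⊗[k] A') (⨅ σ' ∈ S', RingHom.ker σ') := by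
  exact GrothLib.RatClosure.iInf_ker_prod_eq S S'

end Groth.Agent.S15605
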