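import Groth.Statements.S15606
-- import your own Groth.Agent.* helpers here
import Groth.Agent.Lib.IsogGaGm24.Main
import Groth.Agent.Lib.RankCell14.Weight

set_option autoImplicit false
universe u
open CategoryTheory MonoidalCategory CartesianMonoidalCategory MonObj GrpObj AlgebraicGeometry
open AlgGrp

namespace Groth.Agent.S15606

/-- Additive case. Let k be a field, H an affine smooth connected k-group scheme, and f a homomorphism
from the additive group over k to H which is finite and surjective (an isogeny onto H). Then H is
isomorphic, as a k-group scheme, to the additive group. In particular every quotient of the additive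
group by a finite k-subgroup scheme is isomorphic to the additive group over k itself, for any field
k. -/
theorem result (k : Type u) [Field k]
    (H : Over (Spec (CommRingCat.of k))) [GrpObj H] [IsAffine H.left] [Smooth H.hom] [ConnectedSpace ↥H.left]
    (f : Red.Ga (Spec (CommRingCat.of k)) ⟶ H) [IsMonHom f] [IsFinite f.left] [Surjective f.left] :
    Nonempty (Grp.mk H ≅ Grp.mk (Red.Ga (Spec (CommRingCat.of k)))) := by
  haveI : IsAffine (Red.Ga (Spec (CommRingCat.of k))).left := by
    haveI := GrothLib.IsogGaGm24.isAffineHom_Ga (Spec (CommRingCat.of k))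
    exact isAffine_of_isAffineHom (Red.Ga (Spec (CommRingCat.of k))).hom
  haveI : LocallyOfFiniteType (Red.Ga (Spec (CommRingCat.of k))).hom :=
    GrothLib.RankCell14.lft_Ga _
  haveI := GrothLib.IsogGaGm24.isIntegral_of_smooth H
  haveI : Flat f.left := GrothLib.GrpSchField.flat_hom f
  obtain ⟨N, _, i, _, hi, _, _⟩ := GrothLib.IsogGaGm24.exists_finite_kernel f
  obtain ⟨φ, hm, hφ, hflat, hsurj⟩ := GrothLib.FiniteSub21.exists_endo_Ga i
  haveI : IsAffineHom φ.left := inferInstance
  exact GrothLib.IsogGaGm24.nonempty_iso_of_same_kernel f φ i hi hφ

end Groth.Agent.S15606
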