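import Groth.Statements.S15609
import Groth.Agent.Lib.GrpSchField.Open
import Groth.Agent.Lib.GrpSchField.Field
import Mathlib.AlgebraicGeometry.Morphisms.FiniteType
import Mathlib.RingTheory.Jacobson.Ring
-- import your own Groth.Agent.* helpers here

set_option autoImplicit false
universe u
open CategoryTheory MonoidalCategory CartesianMonoidalCategory MonObj GrpObj AlgebraicGeometry
open AlgGrp

namespace Groth.Agent.S15609

/-- The implication (ii) ⇒ (i). Let k be a field and f : G ⟶ G' a homomorphism of k-group schemes of
finite type. Suppose that f is injective on K-points for every algebraically closed field K over k,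
and that f is injective on tangent spaces at the identity: every point of G with values in the dual
numbers k[ε] which restricts to the identity at ε = 0 and is sent by f to the identity point of G'
is itself the identity point. Then f has trivial kernel: it is a monomorphism. (The published
statement assumes G smooth; this implication does not use it.) -/
theorem result (k : Type u) [Field k]
    (G G' : Over (Spec (CommRingCat.of k))) [GrpObj G] [GrpObj G'] [LocallyOfFiniteType G.hom] [QuasiCompact G.hom]
    [LocallyOfFiniteType G'.hom] [QuasiCompact G'.hom] (f : G ⟶ G') [IsMonHom f]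
    (hgeom : ∀ (K : Type u) [Field K] [IsAlgClosed K] [Algebra k K],
      Function.Injective (fun g : (Over.mk (Spec.map (CommRingCat.ofHom (algebraMap k K)))) ⟶ G => g ≫ f))
    (htan : ∀ g : (Over.mk (Spec.map (CommRingCat.ofHom (algebraMap k (DualNumber k))))) ⟶ G,
      (∀ x : 𝟙_ (Over (Spec (CommRingCat.of k))) ⟶ (Over.mk (Spec.map (CommRingCat.ofHom (algebraMap k (DualNumber k))))), x ≫ g = η[G]) →
        g ≫ f = toUnit _ ≫ η[G'] → g = toUnit _ ≫ η[G]) :
    Mono f := by
  classical
  have : IsClosedImmersion η[G'].left := GrothLib.GrpSchField.unit_isClosedImmersion G'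
  let Kl := Limits.pullback f.left η[G'].left
  let incl : Kl ⟶ G.left := Limits.pullback.fst f.left η[G'].left
  let π : Kl ⟶ Spec (CommRingCat.of k) := Limits.pullback.snd f.left η[G'].left
  have hw : incl ≫ G.hom = π := by
    have h1 : incl ≫ f.left = π ≫ η[G'].left := Limits.pullback.condition
    have h2 : η[G'].left ≫ G'.hom = 𝟙 _ := Over.w η[G']
    calc incl ≫ G.hom = incl ≫ f.left ≫ G'.hom := by rw [Over.w f]
      _ = π ≫ η[G'].left ≫ G'.hom := by rw [reassoc_of% h1]
      _ = π := by rw [h2]; exact Category.comp_id π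
  let e : Spec (CommRingCat.of k) ⟶ Kl := Limits.pullback.lift η[G].left (𝟙 _) (by
    rw [Category.id_comp, ← IsMonHom.one_hom f]; rfl)
  have heincl : e ≫ incl = η[G].left := Limits.pullback.lift_fst _ _ _
  have heπ : e ≫ π = 𝟙 _ := Limits.pullback.lift_snd _ _ _
  have hincl : Function.Injective incl := (inferInstance : IsClosedImmersion incl).isClosedEmbedding.injective
  -- one point
  have hpt : ∀ x : Kl, x = e (IsLocalRing.closedPoint k) := fun x => by
    apply hincl
    let L := AlgebraicClosure (Kl.residueField x)
    let j : Spec (CommRingCat.of L) ⟶ Kl :=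
      Spec.map (CommRingCat.ofHom (algebraMap (Kl.residueField x) L)) ≫ Kl.fromSpecResidueField x
    obtain ⟨φ, hφ⟩ := Spec.map_surjective (j ≫ π)
    let _ : Algebra k L := φ.hom.toAlgebra
    let T : Over (Spec (CommRingCat.of k)) := Over.mk (Spec.map (CommRingCat.ofHom (algebraMap k L)))
    have hT : T.hom = j ≫ π := hφ
    let g : T ⟶ G := Over.homMk (j ≫ incl) (by rw [Category.assoc, hw]; exact hT.symm)
    have hg : g ≫ f = (toUnit T ≫ η[G]) ≫ f := by
      rw [Category.assoc, IsMonHom.one_hom f]
      ext1
      show (j ≫ incl) ≫ f.left = T.hom ≫ η[G'].left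
      rw [hT]
      simp only [j, π, incl, Category.assoc, Limits.pullback.condition]
    have h := congrArg (fun m => m.left (IsLocalRing.closedPoint L)) (hgeom L hg)
    change incl (j (IsLocalRing.closedPoint L)) = η[G].left (T.hom (IsLocalRing.closedPoint L)) at h
    rw [← Scheme.Hom.comp_apply, heincl, Subsingleton.elim (IsLocalRing.closedPoint k) (T.hom (IsLocalRing.closedPoint L)),
      ← h]
    congr 1
    show x = Kl.fromSpecResidueField x _
    rw [Scheme.fromSpecResidueField_apply]
  have hsub : Subsingleton Kl := ⟨fun a b => (hpt a).trans (hpt b).symm⟩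
  have haff : IsAffine Kl := by
    obtain ⟨_, ⟨U, hU, rfl⟩, hx, -⟩ := Kl.isBasis_affineOpens.exists_subset_of_mem_open
      (a := e (IsLocalRing.closedPoint k)) (Set.mem_univ _) isOpen_univ
    have hU' : U = ⊤ := eq_top_iff.2 fun a _ => (hpt a).symm ▸ hx
    subst hU'
    have : IsAffine (⊤ : Kl.Opens).toScheme := hU
    exact IsAffine.of_isIso (Scheme.topIso Kl).inv
  -- pass to rings
  let A := Γ(Kl, ⊤)
  obtain ⟨a, ha⟩ := Spec.map_surjective (Kl.isoSpec.inv ≫ π)
  obtain ⟨b, hb⟩ := Spec.map_surjective (e ≫ Kl.isoSpec.hom)
  let _ : Algebra k A := a.hom.toAlgebra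
  have hab : a ≫ b = 𝟙 _ := by
    apply Spec.map_injective
    rw [Spec.map_comp, ha, hb, Spec.map_id]
    simp [heπ]
  let ε : A →ₐ[k] k := { b.hom with commutes' := fun r => congrArg (fun m => m.hom r) hab }
  have hft : Algebra.FiniteType k A := by
    have : LocallyOfFiniteType π := by rw [← hw]; infer_instance
    have h' : LocallyOfFiniteType (Spec.map a) := by rw [ha]; infer_instance
    rw [HasRingHomProperty.Spec_iff (P := @LocallyOfFiniteType)] at h'
    exact h'
  have hnoeth : IsNoetherianRing A := Algebra.FiniteType.isNoetherianRing k A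
  let m : Ideal A := RingHom.ker ε
  have hmp : m.IsPrime := RingHom.ker_isPrime ε
  have hSub : Subsingleton (PrimeSpectrum A) := by
    have : Subsingleton ↥(Spec A) := Kl.isoSpec.inv.homeomorph.injective.subsingleton
    exact this
  have hnil : IsNilpotent m := by
    have h1 : m ≤ nilradical A := by
      rw [nilradical_eq_sInf]
      exact le_sInf fun P hP => le_of_eq (congrArg PrimeSpectrum.asIdeal
        (Subsingleton.elim (⟨m, hmp⟩ : PrimeSpectrum A) ⟨P, hP⟩))
    obtain ⟨n, hn⟩ := IsNoetherianRing.isNilpotent_nilradical A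
    exact ⟨n, le_bot_iff.1 ((Ideal.pow_right_mono h1 n).trans hn.le)⟩
  have hm0 : m = ⊥ := by
    by_contra hne
    have hsq : ¬ m ≤ m ^ 2 := by
      intro h
      obtain ⟨n, hn⟩ := hnil
      have key : ∀ i : ℕ, m ≤ m ^ (i + 1) := fun i => by
        induction i with
        | zero => rw [pow_one]
        | succ i ih =>
          calc m ≤ m * m := by rwa [← pow_two]
            _ ≤ m ^ (i + 1) * m := Ideal.mul_mono_left ih
            _ = m ^ (i + 1 + 1) := (pow_succ m (i + 1)).symm
      refine hne (le_bot_iff.1 ((key n).trans ?_))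
      rw [pow_succ, hn]
      simp
    obtain ⟨x, hxm, hx2⟩ := Set.not_subset.1 hsq
    obtain ⟨φ, hφx, hφ2⟩ := Submodule.exists_dual_map_eq_bot_of_notMem
      (p := (m ^ 2).restrictScalars k) (x := x) (by simpa using hx2) inferInstance
    have hφ0 : ∀ y ∈ m ^ 2, φ y = 0 := fun y hy =>
      LinearMap.mem_ker.1 (LinearMap.le_ker_iff_map.2 hφ2 hy)
    have hdel : ∀ u : A, u - algebraMap k A (ε u) ∈ m := fun u => by
      simp [m, RingHom.mem_ker]
    let d : A → k := fun u => φ (u - algebraMap k A (ε u))
    have hdadd : ∀ u v, d (u + v) = d u + d v := fun u v => by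
      have : u + v - algebraMap k A (ε (u + v)) = (u - algebraMap k A (ε u)) + (v - algebraMap k A (ε v)) := by
        rw [map_add, map_add]; abel
      simp only [d, map_add] at this ⊢
      rw [this, map_add]
    have hdmul : ∀ u v, d (u * v) = ε u * d v + ε v * d u := fun u v => by
      have h2 : (u - algebraMap k A (ε u)) * (v - algebraMap k A (ε v)) ∈ m ^ 2 := by
        rw [pow_two]; exact Ideal.mul_mem_mul (hdel u) (hdel v)
      have h3 : u * v - algebraMap k A (ε (u * v)) = ε u • (v - algebraMap k A (ε v)) +
          ε v • (u - algebraMap k A (ε u)) + (u - algebraMap k A (ε u)) * (v - algebraMap k A (ε v)) := by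
        simp only [map_mul, Algebra.smul_def]
        ring
      simp only [d]
      rw [h3, map_add, map_add, map_smul, map_smul, hφ0 _ h2, add_zero, smul_eq_mul, smul_eq_mul]
    have hd0 : ∀ r, d (algebraMap k A r) = 0 := fun r => by simp [d]
    let D : A →ₐ[k] DualNumber k :=
      { toFun := fun u => TrivSqZeroExt.inl (ε u) + TrivSqZeroExt.inr (d u)
        map_one' := by
          have := hd0 1
          rw [map_one] at this
          simp [this]
        map_mul' := fun u v => by
          apply TrivSqZeroExt.ext
          · simp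
          · simp [hdmul]; ring
        map_zero' := by
          have := hd0 0
          rw [map_zero] at this
          simp [this]
        map_add' := fun u v => by
          apply TrivSqZeroExt.ext
          · simp
          · simp [hdadd]
        commutes' := fun r => by
          apply TrivSqZeroExt.ext
          · simp [TrivSqZeroExt.algebraMap_eq_inl]
          · simp [hd0, TrivSqZeroExt.algebraMap_eq_inl] }
    let T : Over (Spec (CommRingCat.of k)) :=
      Over.mk (Spec.map (CommRingCat.ofHom (algebraMap k (DualNumber k))))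
    let j : T.left ⟶ Kl := Spec.map (CommRingCat.ofHom D.toRingHom) ≫ Kl.isoSpec.inv
    have hj : j ≫ π = T.hom := by
      simp only [j, Category.assoc, ← ha, ← Spec.map_comp]
      show Spec.map _ = Spec.map _
      congr 1
      exact CommRingCat.hom_ext (RingHom.ext fun r => D.commutes r)
    let g : T ⟶ G := Over.homMk (j ≫ incl) (by rw [Category.assoc, hw]; exact hj)
    have hg0 : g ≫ f = toUnit T ≫ η[G'] := by
      ext1
      show (j ≫ incl) ≫ f.left = T.hom ≫ η[G'].left
      rw [← hj]
      simp only [j, π, incl, Category.assoc, Limits.pullback.condition]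
    have hg1 : ∀ y : 𝟙_ (Over (Spec (CommRingCat.of k))) ⟶ T, y ≫ g = η[G] := fun y => by
      ext1
      show y.left ≫ j ≫ incl = η[G].left
      obtain ⟨c, hc⟩ := Spec.map_surjective (R := CommRingCat.of (DualNumber k))
        (S := CommRingCat.of k) y.left
      have hy : y.left ≫ T.hom = 𝟙 _ := Over.w y
      have hcr : ∀ r : k, c.hom (TrivSqZeroExt.inl r) = r := fun r => by
        have := hy
        rw [← hc] at this
        simp only [T, Over.mk_hom] at this
        rw [← Spec.map_comp] at this
        have h := congrArg (fun m => m.hom r)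
          (Spec.map_injective (this.trans (Spec.map_id (CommRingCat.of k)).symm))
        simpa [TrivSqZeroExt.algebraMap_eq_inl] using h
      have hce : ∀ r : k, c.hom (TrivSqZeroExt.inr r) = 0 := fun r => by
        have : IsNilpotent (c.hom (TrivSqZeroExt.inr r)) :=
          IsNilpotent.map ⟨2, by rw [pow_two, TrivSqZeroExt.inr_mul_inr]⟩ c.hom
        exact this.eq_zero
      have hcD : CommRingCat.ofHom D.toRingHom ≫ c = b := by
        ext u
        show c.hom (TrivSqZeroExt.inl (ε u) + TrivSqZeroExt.inr (d u)) = _
        rw [map_add, hcr, hce, add_zero]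
        rfl
      simp only [j, ← Category.assoc, ← hc, ← Spec.map_comp, hcD, hb]
      simp [heincl]
    have h := congrArg (fun w : T ⟶ G => w.left) (htan g hg1 hg0)
    change j ≫ incl = T.hom ≫ η[G].left at h
    rw [← heincl, ← Category.assoc, cancel_mono, ← Iso.cancel_iso_hom_right _ _ Kl.isoSpec] at h
    simp only [j, T, Over.mk_hom, Category.assoc, Iso.inv_hom_id, Category.comp_id, ← hb,
      ← Spec.map_comp] at h
    have h' := congrArg (fun w => TrivSqZeroExt.snd (w.hom x)) (Spec.map_injective h)
    have hx0 : d x = φ x := by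
      have : ε x = 0 := hxm
      simp [d, this]
    apply hφx
    rw [← hx0]
    simpa [D, TrivSqZeroExt.algebraMap_eq_inl] using h'
  have hbij : π ≫ e = 𝟙 Kl := by
    have h0 : b ≫ a = 𝟙 _ := by
      ext u
      show algebraMap k A (ε u) = u
      have : u - algebraMap k A (ε u) ∈ m := by
        rw [RingHom.mem_ker, map_sub, AlgHom.commutes]
        exact sub_self _
      rw [hm0, Ideal.mem_bot, sub_eq_zero] at this
      exact this.symm
    have h1 := congrArg Spec.map h0
    rw [Spec.map_comp, ha, hb, Spec.map_id] at h1
    rw [← cancel_mono Kl.isoSpec.hom, Category.id_comp, ← cancel_epi Kl.isoSpec.inv, Iso.inv_hom_id,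
      ← h1]
    simp only [Category.assoc]
  -- conclusion
  refine ⟨fun {T} u v huv => ?_⟩
  rw [← mul_inv_eq_one]
  have hk : (u * v⁻¹) ≫ f = 1 := by
    rw [MonObj.mul_comp, GrpObj.inv_comp, huv, mul_inv_cancel]
  have hk' : (u * v⁻¹).left ≫ f.left = T.hom ≫ η[G'].left := congrArg (fun w : T ⟶ G' => w.left) hk
  ext1
  show (u * v⁻¹).left = T.hom ≫ η[G].left
  have hl := Limits.pullback.lift_fst (f := f.left) (g := η[G'].left) _ _ hk'
  have hr := Limits.pullback.lift_snd (f := f.left) (g := η[G'].left) _ _ hk'
  calc (u * v⁻¹).left = Limits.pullback.lift _ _ hk' ≫ incl := hl.symm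
    _ = Limits.pullback.lift _ _ hk' ≫ (π ≫ e) ≫ incl := by rw [hbij, Category.id_comp]
    _ = (Limits.pullback.lift _ _ hk' ≫ π) ≫ e ≫ incl := by simp only [Category.assoc]
    _ = T.hom ≫ η[G].left := congrArg₂ (· ≫ ·) hr heincl

end Groth.Agent.S15609
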