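import Groth.Statements.S1563
import Groth.Agent.Lib.FFDesc.Basic
import Groth.Agent.Lib.Serre.Regular
import Groth.Agent.Lib.Hensel.Noetherian
import Mathlib

set_option autoImplicit false
set_option backward.isDefEq.respectTransparency false
universe u
open CategoryTheory CategoryTheory.Limits AlgebraicGeometry
open Variety

namespace Groth.Agent.S1563

/-- Geometric regularity descends along a morphism f of locally Noetherian k-schemes which is flat at
the point x (the map of local rings at x is flat): if X has it at x then Y has it at f(x). -/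
theorem result (k : Type u) [Field k] (X Y : Scheme.{u}) [X.Over (Spec (CommRingCat.of k))] [Y.Over (Spec (CommRingCat.of k))]
    [IsLocallyNoetherian X] [IsLocallyNoetherian Y] (f : X ⟶ Y) (hf : f ≫ (Y ↘ (Spec (CommRingCat.of k))) = X ↘ (Spec (CommRingCat.of k)))
    (x : X) (hflat : (f.stalkMap x).hom.Flat) (hx : Curv2.IsGeomRegularAt k X x) :
    Curv2.IsGeomRegularAt k Y (f.base x) := by
  intro K _ _ hK y hy
  set sX := X ↘ (Spec (CommRingCat.of k))
  set sY := Y ↘ (Spec (CommRingCat.of k))
  let g := Spec.map (CommRingCat.ofHom (algebraMap k K))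
  let q0 : Spec (X.presheaf.stalk x) ⟶ Y := X.fromSpecStalk x ≫ f
  haveI : Flat q0 := by
    change Flat (X.fromSpecStalk x ≫ f)
    rw [← Scheme.SpecMap_stalkMap_fromSpecStalk]
    haveI : Flat (Spec.map (f.stalkMap x)) := Flat.SpecMap_iff.mpr hflat
    haveI := GrothLib.FFDesc.flat_fromSpecStalk' Y (f x)
    infer_instance
  let m : pullback sX g ⟶ pullback sY g :=
    pullback.map sX g sY g f (𝟙 _) (𝟙 _) (by simp [hf]) (by simp)
  have hm : IsPullback (pullback.fst sX g) m f (pullback.fst sY g) :=
    (IsPullback.of_right (by simpa [m, hf] using (IsPullback.of_hasPullback sX g).flip)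
      (by simp [m]) (IsPullback.of_hasPullback sY g).flip).flip
  let P := pullback q0 (pullback.fst sY g)
  let r : P ⟶ pullback sX g :=
    hm.lift (pullback.fst q0 _ ≫ X.fromSpecStalk x) (pullback.snd q0 _)
      (by rw [Category.assoc]; exact pullback.condition)
  have hr : IsPullback (pullback.fst q0 (pullback.fst sY g)) r (X.fromSpecStalk x) (pullback.fst sX g) :=
    IsPullback.of_bot (by simpa [r] using IsPullback.of_hasPullback q0 (pullback.fst sY g)) (by simp [r]) hm
  haveI : Flat r := MorphismProperty.of_isPullback hr (GrothLib.FFDesc.flat_fromSpecStalk' X x)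
  haveI : IsPreimmersion r := MorphismProperty.of_isPullback hr inferInstance
  have hq : q0 (IsLocalRing.closedPoint _) = pullback.fst sY g y := by
    change f (X.fromSpecStalk x (IsLocalRing.closedPoint _)) = _
    rw [Scheme.fromSpecStalk_closedPoint]
    exact hy.symm
  obtain ⟨w, hw1, hw2⟩ := Scheme.Pullback.exists_preimage_pullback _ y hq
  subst hw2
  haveI : IsRegularLocalRing ((pullback sX g).presheaf.stalk (r w)) := by
    refine hx K hK (r w) ?_
    have : r ≫ pullback.fst sX g = pullback.fst q0 (pullback.fst sY g) ≫ X.fromSpecStalk x := hm.lift_fst _ _ _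
    refine (congrArg (fun a : P ⟶ X => a w) this).trans ?_
    change X.fromSpecStalk x (pullback.fst q0 (pullback.fst sY g) w) = x
    rw [hw1, Scheme.fromSpecStalk_closedPoint]
  have hbij : Function.Bijective (r.stalkMap w).hom := by
    refine ⟨?_, r.stalkMap_surjective w⟩
    algebraize [(r.stalkMap w).hom]
    haveI : Module.Flat _ _ := Flat.stalkMap r w
    haveI : IsLocalHom (algebraMap ((pullback sX g).presheaf.stalk (r w)) (P.presheaf.stalk w)) :=
      inferInstanceAs (IsLocalHom (r.stalkMap w).hom)
    haveI := Module.FaithfullyFlat.of_flat_of_isLocalHom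
      (A := (pullback sX g).presheaf.stalk (r w)) (B := P.presheaf.stalk w)
    exact FaithfulSMul.algebraMap_injective ((pullback sX g).presheaf.stalk (r w)) (P.presheaf.stalk w)
  haveI : IsRegularLocalRing (P.presheaf.stalk w) :=
    IsRegularLocalRing.of_ringEquiv (R := (pullback sX g).presheaf.stalk (r w)) (RingEquiv.ofBijective _ hbij)
  algebraize [((pullback.snd q0 (pullback.fst sY g)).stalkMap w).hom]
  haveI : Module.Flat _ _ := Flat.stalkMap (pullback.snd q0 (pullback.fst sY g)) w
  haveI : IsLocalHom (algebraMap ((pullback sY g).presheaf.stalk (pullback.snd q0 (pullback.fst sY g) w))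
      (P.presheaf.stalk w)) :=
    inferInstanceAs (IsLocalHom ((pullback.snd q0 (pullback.fst sY g)).stalkMap w).hom)
  haveI := Module.FaithfullyFlat.of_flat_of_isLocalHom
    (A := (pullback sY g).presheaf.stalk (pullback.snd q0 (pullback.fst sY g) w))
    (B := P.presheaf.stalk w)
  haveI := GrothLib.Hensel.isNoetherianRing_of_faithfullyFlat
    ((pullback sY g).presheaf.stalk (pullback.snd q0 (pullback.fst sY g) w)) (P.presheaf.stalk w)
  exact GrothLib.Serre.isRegularLocalRing_of_flat
    ((pullback sY g).presheaf.stalk (pullback.snd q0 (pullback.fst sY g) w)) (P.presheaf.stalk w)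

end Groth.Agent.S1563
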