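import Groth.Statements.S15632
import Groth.Agent.Lib.SchFin.Galois

set_option autoImplicit false
universe u
open SchFin SchFin.GeomPt

namespace Groth.Agent.S15632

open SchFin CategoryTheory in
/-- For a well-connected schematic finite space and a geometric point with values in an algebraically
closed field, the opposite of the category of étale covers, with the fibre functor at that point (an
étale cover A goes to the prime spectrum of Ω ⊗ A_x, x the point hit), is a Galois category: a
pre-Galois category for which that functor is a fibre functor. (The published statement assumes the
space only connected and reduces to the well-connected case through a pointwise construction and a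
comparison of geometric points resting on a result recalled without proof; this row takes the space
well-connected. It carries two hypotheses the published statement does not: the local triviality of
étale covers — for every étale cover A, a quasi-coherent algebra B, finite and faithfully flat at
every point, and n with B_p ⊗ A_p isomorphic to B_p^n as B_p-algebras at every point — and the
pointwise surjectivity of epimorphisms of étale covers; both hold for every such space, each being
proved in the published text by way of a result on quasi-coherent modules recalled without proof.) -/
theorem result (X : RSpace.{u}) (hX : X.IsSchematic)
    (hwc : X.IsWellConnected)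
    (hlt : ∀ A : FEt X, ∃ (B : Alg X) (n : ℕ), B.IsCovering ∧
      ∀ p : X.pt, Nonempty (TensorProduct (X.ring p) (B.carrier p) (A.obj.carrier p) ≃ₐ[B.carrier p] (Fin n → B.carrier p)))
    (hepi : ∀ (A B : FEt X) (f : A ⟶ B), Epi f → ∀ p : X.pt, Function.Surjective (f.hom.app p))
    {Ω : Type u} [Field Ω] [IsAlgClosed Ω] (ξ : GeomPt X Ω) :
    ∃ h : PreGaloisCategory (FEt X)ᵒᵖ, @PreGaloisCategory.FiberFunctor (FEt X)ᵒᵖ _ h ξ.fibFunctor := by
  exact GrothLib.FinSp.exists_preGalois_fiberFunctor ξ hX.1 hwc hlt hepi

end Groth.Agent.S15632
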