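import Groth.Statements.S15633
import Groth.Agent.Lib.SchFin.Galois

set_option autoImplicit false
universe u
open SchFin SchFin.GeomPt

namespace Groth.Agent.S15633

open SchFin CategoryTheory CategoryTheory.Limits in
/-- For a schematic finite space and a geometric point with values in an algebraically closed field Ω,
the fibre functor at that point, from the opposite of the category of étale covers to finite sets
(an étale cover A goes to the prime spectrum of Ω ⊗ A_x, x the point hit), preserves terminal
objects, pullbacks, finite coproducts and epimorphisms. (The published statement also includes
quotients by finite groups of automorphisms, whose existence rests on local triviality of étale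
covers; that clause is part of the Galois-category row and is omitted here. The published statement
sits inside an argument for a well-connected space; these four clauses use no connectedness.) -/
theorem result (X : RSpace.{u}) (hX : X.IsSchematic)
    {Ω : Type u} [Field Ω] [IsAlgClosed Ω] (ξ : GeomPt X Ω) :
    PreservesLimitsOfShape (Discrete PEmpty.{1}) ξ.fibFunctor ∧ PreservesLimitsOfShape WalkingCospan ξ.fibFunctor ∧
      PreservesFiniteCoproducts ξ.fibFunctor ∧ ξ.fibFunctor.PreservesEpimorphisms := by
  exact GrothLib.FinSp.fib_preserves ξ hX.1

end Groth.Agent.S15633
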