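import Groth.Statements.S1564
import Groth.Agent.Lib.CurveMult.Basic
import Groth.Agent.Lib.Euler.CurveVanish

set_option autoImplicit false
universe u
open CategoryTheory CategoryTheory.Limits AlgebraicGeometry
open Curves

namespace Groth.Agent.S1564

/-- Let X be a proper curve over a field k (an integral scheme of dimension 1, proper over k) with
H^0(X, O_X) of dimension 1 over k, and L an invertible O_X-module with H^0(X, L) ≠ 0. Then dim_k
H^0(X, L) ≤ deg L + 1, and if equality holds and deg L > 0 then X has genus zero, i.e. H^1(X, O_X) =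
0. (This is the statement that a linear series of degree d and dimension r has r ≤ d, with equality
for d ≥ 1 only in genus zero. The published statement does not exclude r = d = 0 in the equality
clause, where (O_X, H^0(X, O_X)) is a linear series on every such curve and the conclusion fails in
positive genus; the hypothesis 0 < deg L is therefore added to the equality clause here.) -/
theorem result (k : Type u) [Field k] (X : Scheme.{u}) [X.Over (Spec (CommRingCat.of k))]
    [IsIntegral X] [IsProper (X ↘ (Spec (CommRingCat.of k)))] (hdim : topologicalKrullDim X = 1)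
    (h0 : Module.finrank k (Coh.HH X (Coh.structureModule X) 0) = 1)
    (L : X.Modules) (hL : PicF.IsInvertible L) (hs : Nontrivial (Coh.HH X L 0)) :
    (Module.finrank k (Coh.HH X L 0) : ℤ) ≤ Curv2.deg k X L 1 + 1 ∧
      ((Module.finrank k (Coh.HH X L 0) : ℤ) = Curv2.deg k X L 1 + 1 → 0 < Curv2.deg k X L 1 →
        Curv2.genus k X = 0) := by
  haveI := GrothLib.Euler.isNoetherian_of_proper (X := X) k
  obtain ⟨hd0, hle, -⟩ := GrothLib.Euler.section_data k hdim.le hL hs
  rw [h0] at hle
  push_cast at hle
  refine ⟨by linarith, fun heq hpos => ?_⟩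
  obtain ⟨c, ⟨e⟩⟩ := GrothLib.Ample.exists_cocycle hL
  obtain ⟨e0⟩ := c.nonempty_twist_zero
  have hc : ∀ m, Coh.IsCoh (c.twist m) := fun m =>
    GrothLib.Euler.isCoh_of_isInvertible (c.isInvertible_twist m)
  have hfL : Module.finrank k (Coh.HH X (c.twist 1) 0) = Module.finrank k (Coh.HH X L 0) :=
    (GrothLib.Euler.hhEquiv (A := k) e 0).finrank_eq.symm
  have hdL : Curv2.deg k X (c.twist 1) 1 = Curv2.deg k X L 1 := (GrothLib.Euler.deg_of_iso k e 1).symm
  have hf0 : Module.finrank k (Coh.HH X (c.twist 0) 0) = 1 := by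
    rw [← h0]; exact (GrothLib.Euler.hhEquiv (A := k) e0.symm 0).finrank_eq
  have hne : Nontrivial (Coh.HH X (c.twist 1) 0) := by
    haveI := GrothLib.Euler.finiteDimensional_HH k (GrothLib.Euler.isCoh_of_isInvertible hL) 0
    refine Module.nontrivial_of_finrank_pos (R := k) ?_
    rw [hfL]
    exact Module.finrank_pos
  obtain ⟨u₀, hu⟩ := GrothLib.Euler.exists_ne_zero_section hne
  obtain ⟨u, hu'⟩ : ∃ u : c.sect 1 ⊤, u ≠ 0 := ⟨u₀, hu⟩
  have hsurj : Function.Surjective (GrothLib.Cohom.hhMap k (GrothLib.CurveMult.seq c u 0).g 0) := by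
    haveI := GrothLib.Euler.finiteDimensional_HH k (hc 1) 0
    obtain ⟨hQ, -, -, -⟩ := GrothLib.CurveMult.seq_data c k hdim.le hu' 0
    haveI := GrothLib.Euler.finiteDimensional_HH k hQ 0
    have hS := GrothLib.CurveMult.seq_shortExact c hu' 0
    have h1 := GrothLib.Euler.finrank_eq_add_of_exact (GrothLib.Cohom.exact₂ (A := k) hS 0)
    rw [LinearMap.finrank_range_of_inj (GrothLib.Euler.hhMap_zero_injective (A := k) hS)] at h1
    have h2 := GrothLib.CurveMult.finrank_coker c k hdim.le hu' 0
    refine LinearMap.range_eq_top.1 (Submodule.eq_top_of_finrank_eq ?_)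
    change Module.finrank k (Coh.HH X (c.twist 1) 0) = Module.finrank k (Coh.HH X (c.twist 0) 0) + _ at h1
    rw [hf0, hfL] at h1
    rw [hdL] at h2
    have h3 : (GrothLib.CurveMult.seq c u 0).X₃ = cokernel (GrothLib.CurveMult.T c u 0) := rfl
    rw [← h3] at h2
    omega
  have hn := GrothLib.CurveMult.finrank_H0_twist c k hdim.le hu' hsurj
  obtain ⟨n, hn0⟩ := GrothLib.Euler.eventually_H1_zero_integral k c hdim.le
    (fun _ => hdL ▸ hpos) (hc 0)
  obtain ⟨em⟩ := c.nonempty_tensor_modTwist (c.twist 0) n
  obtain ⟨et⟩ := c.nonempty_tensor_twist 0 n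
  haveI : Subsingleton (Coh.HH X (c.twist n) 1) := by
    have h := hn0 n le_rfl
    have e5 := GrothLib.Euler.hhEquiv (A := k) (em.symm ≪≫ et ≪≫ eqToIso (by rw [Nat.zero_add])) 1
    exact e5.symm.toEquiv.subsingleton
  haveI := (hc n).1
  have e1 := GrothLib.Euler.euler_eq_sub k hdim.le (c.twist n)
  rw [Module.finrank_zero_of_subsingleton (R := k) (M := Coh.HH X (c.twist n) 1)] at e1
  have e2 := GrothLib.Euler.deg_twist k c hdim.le n
  have e3 := GrothLib.Euler.euler_structure (X := X) k hdim.le
  rw [h0] at e3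
  have e4 := hn n
  rw [hf0] at e4
  simp only [Curv2.deg] at e2
  simp only [Curv2.deg] at e4
  push_cast at *
  have : (Curv2.genus k X : ℤ) = 0 := by linarith
  exact_mod_cast this

end Groth.Agent.S1564
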