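import Groth.Statements.S15645
import Groth.Agent.Lib.StrictSS13.Model
import Groth.Agent.Lib.NodeEt.Family
import Groth.Agent.Lib.LocProp.Stalk
-- import your own Groth.Agent.* helpers here

set_option autoImplicit false
universe u
open StrictSS

namespace Groth.Agent.S15645

set_option backward.isDefEq.respectTransparency false


open CategoryTheory CategoryTheory.Limits AlgebraicGeometry in
/-- A strictly semistable multipointed curve (C, D) over a scheme S is semistable. Here (C, D) is a
multipointed S-curve (C flat, finitely presented and of pure relative dimension one over S; D a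
closed subscheme of C, flat, finitely presented and of relative dimension zero over S) every point
of which has an open neighbourhood U, over an affine open Spec A of S, with an etale morphism of
pairs from (U, D ∩ U) to the line model (Spec A[T], zero section) or, when no marked point lies in
U, an etale morphism from U to a node model Spec A[u, v]/(uv - a); the conclusion is that C → S is
an at-worst-nodal family of curves, D → S is etale and D misses the non-smooth locus of C → S. (The
published remark concerns curves over the spectrum of a valuation ring; the notion and the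
implication are local on the base, and this row states the implication over an arbitrary base
scheme.) -/
theorem result
    {C D S : Scheme.{u}} (φ : C ⟶ S) (i : D ⟶ C) (h : StrictSS.IsStrictlySemistable φ i) :
    SSMod.IsSemistable φ i := by
  obtain ⟨hmp, hch⟩ := h
  obtain ⟨hflat, hlfp, -, -, -, -, -, hlfpD, -⟩ := id hmp
  haveI := hflat
  haveI := hlfp
  haveI := hlfpD
  refine ⟨hmp, (GrothLib.NodeOpen11.isNodalFamily_iff φ).2 fun x => ?_, ?_, ?_⟩
  · rcases hch x with ⟨A, j, hj, U, hxU, q, hq, f, fD, hf, hfq, -, -⟩ | ⟨A, j, hj, U, hxU, q, hq, a, f, hf, hfq, -⟩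
    · have hm := GrothLib.NodeEt.isNodalFamily_etale_comp j (StrictSS.lineToBase A)
        (GrothLib.StrictSS13.isNodalFamily_lineToBase A).2
      haveI := hm.1; haveI := hm.2.1
      have h1 := (GrothLib.NodeOpen11.mem_nodalLocus_etale_source f (StrictSS.lineToBase A ≫ j) ⟨x, hxU⟩).2
        ((GrothLib.NodeOpen11.isNodalFamily_iff _).1 hm _)
      rw [← Category.assoc, hfq, ← hq] at h1
      exact (GrothLib.NodeOpen11.mem_nodalLocus_etale_source U.ι φ ⟨x, hxU⟩).1 h1
    · have hm := GrothLib.NodeEt.isNodalFamily_etale_comp j (StrictSS.nodeToBase A a)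
        (GrothLib.StrictSS13.isNodalFamily_nodeToBase a)
      haveI := hm.1; haveI := hm.2.1
      have h1 := (GrothLib.NodeOpen11.mem_nodalLocus_etale_source f (StrictSS.nodeToBase A a ≫ j) ⟨x, hxU⟩).2
        ((GrothLib.NodeOpen11.isNodalFamily_iff _).1 hm _)
      rw [← Category.assoc, hfq, ← hq] at h1
      exact (GrothLib.NodeOpen11.mem_nodalLocus_etale_source U.ι φ ⟨x, hxU⟩).1 h1
  · have hz : ∀ z : D, ∃ W : D.Opens, z ∈ W ∧ Etale (W.ι ≫ i ≫ φ) := by
      intro z
      rcases hch (i z) with ⟨A, j, hj, U, hxU, q, hq, f, fD, hf, hfq, hfD, hfDe⟩ | ⟨A, j, hj, U, hxU, q, hq, a, f, hf, hfq, hd⟩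
      · refine ⟨i ⁻¹ᵁ U, hxU, ?_⟩
        have hzero : StrictSS.lineZero A ≫ StrictSS.lineToBase A = 𝟙 _ := by
          rw [← Spec.map_comp, ← CommRingCat.ofHom_comp]
          rw [show (Polynomial.evalRingHom (0 : A)).comp Polynomial.C = RingHom.id A from
            RingHom.ext fun b => Polynomial.eval_C]
          exact Spec.map_id _
        have e : (i ⁻¹ᵁ U).ι ≫ i ≫ φ = fD ≫ j := by
          rw [← Category.assoc, ← morphismRestrict_ι, Category.assoc, hq, ← hfq, ← Category.assoc (i ∣_ U),
            ← Category.assoc (i ∣_ U), ← hfDe, Category.assoc fD, hzero]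
          erw [Category.comp_id]
        rw [e]
        infer_instance
      · exact absurd hxU (Set.disjoint_left.1 hd ⟨z, rfl⟩)
    choose W hW hWe using hz
    refine IsZariskiLocalAtSource.of_iSup_eq_top (P := @Etale) W
      (eq_top_iff.2 fun z _ => TopologicalSpace.Opens.mem_iSup.2 ⟨z, hW z⟩) hWe
  · rw [Set.disjoint_left]
    rintro _ ⟨z, rfl⟩ hns
    rcases hch (i z) with ⟨A, j, hj, U, hxU, q, hq, f, fD, hf, hfq, -, -⟩ | ⟨A, j, hj, U, hxU, q, hq, a, f, hf, hfq, hd⟩
    · haveI := (GrothLib.StrictSS13.isNodalFamily_lineToBase A).1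
      haveI : Smooth (U.ι ≫ φ) := by rw [hq, ← hfq]; infer_instance
      exact hns ((GrothLib.LocProp.smooth_nhd_iff φ _).1 ⟨U, hxU, inferInstance⟩)
    · exact Set.disjoint_left.1 hd ⟨z, rfl⟩ hxU

end Groth.Agent.S15645
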