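import Groth.Statements.S15649
import Groth.Agent.Lib.StrictSS13.Branch
import Groth.Agent.Lib.StrictSS13.Components
import Groth.Agent.Lib.RedSub.Basic
-- import your own Groth.Agent.* helpers here

set_option autoImplicit false
universe u
open StrictSS

namespace Groth.Agent.S15649

set_option backward.isDefEq.respectTransparency false


open CategoryTheory CategoryTheory.Limits AlgebraicGeometry in
/-- Let k be a separably closed field and (C, D) a strictly semistable multipointed curve over Spec k
with C and D reduced. Then the irreducible components of C are smooth: for every irreducible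
component Z of C there is a reduced closed subscheme of C with underlying set Z which is smooth over
k. (The published remark asserts that, for semistable curves over such a field, strict semistability
is equivalent to smoothness of the irreducible components; this row is the implication from strict
semistability.) -/
theorem result
    (k : Type u) [Field k] [IsSepClosed k]
    {C D : Scheme.{u}} (φ : C ⟶ Spec (CommRingCat.of k)) (i : D ⟶ C) [IsReduced C] [IsReduced D]
    (h : StrictSS.IsStrictlySemistable φ i)
    (Z : Set C) (hZ : Z ∈ irreducibleComponents (C : Type u)) :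
    ∃ (W : Scheme.{u}) (e : W ⟶ C), IsClosedImmersion e ∧ IsReduced W ∧
      Set.range e.base = Z ∧ Smooth (e ≫ φ) := by
  obtain ⟨-, hch⟩ := h
  have hZc : IsClosed Z := isClosed_of_mem_irreducibleComponents Z hZ
  obtain ⟨η, hη⟩ := QuasiSober.sober hZ.1 hZc
  have hηmax : ∀ z : C, z ⤳ η → z = η := fun z hz => by
    have h1 : Z ⊆ closure {z} := by rw [← hη.def]; exact specializes_iff_closure_subset.1 hz
    have h2 : closure {z} ⊆ Z := hZ.2 isIrreducible_singleton.closure h1
    exact hz.antisymm (hη.specializes (h2 (subset_closure rfl))) |>.eq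
  let I := Scheme.IdealSheafData.vanishingIdeal ⟨Z, hZc⟩
  let e := I.subschemeι
  have hre : Set.range e = Z := by
    rw [Scheme.IdealSheafData.range_subschemeι, Scheme.IdealSheafData.coe_support_vanishingIdeal]; rfl
  haveI : IsReduced I.subscheme := GrothLib.RedSub.isReduced_subscheme_vanishingIdeal _
  refine ⟨I.subscheme, e, inferInstance, inferInstance, hre, ?_⟩
  suffices hw : ∀ w : I.subscheme, ∃ W' : I.subscheme.Opens, w ∈ W' ∧ Smooth (W'.ι ≫ e ≫ φ) by
    choose W' hW' hWs using hw
    exact IsZariskiLocalAtSource.of_iSup_eq_top (P := @Smooth) W'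
      (eq_top_iff.2 fun z _ => TopologicalSpace.Opens.mem_iSup.2 ⟨z, hW' z⟩) hWs
  intro w
  have hrc : Set.range e = closure {η} := by rw [hre, hη.def]
  rcases hch (e w) with ⟨A, j, hj, U, hxU, q, hq, f, fD, hf, hfq, -, -⟩ | ⟨A, j, hj, U, hxU, q, hq, a, f, hf, hfq, -⟩
  · haveI := hf
    haveI := GrothLib.StrictSS13.smooth_lineToBase (A := A)
    haveI : Smooth (𝟙 (U : Scheme.{u}) ≫ U.ι ≫ φ) := by
      rw [Category.id_comp, hq, ← hfq]; infer_instance
    exact GrothLib.StrictSS13.smooth_nhd_of_smooth_closed φ e η hrc hηmax w U hxU (𝟙 _) fun y _ => ⟨y, rfl⟩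
  · haveI := hf
    haveI : Nonempty (Spec A) := ⟨q ⟨e w, hxU⟩⟩
    haveI : Surjective j := ⟨fun s => ⟨q ⟨e w, hxU⟩, Subsingleton.elim (α := ↥(Spec (CommRingCat.of k))) _ _⟩⟩
    haveI : IsIso j := isIso_of_isOpenImmersion_of_opensRange_eq_top _
      (TopologicalSpace.Opens.ext (Set.range_eq_univ.2 j.surjective))
    have hA : IsField A :=
      ((Scheme.ΓSpecIso (CommRingCat.of k)).symm ≪≫ asIso j.appTop ≪≫ Scheme.ΓSpecIso A).commRingCatIsoToRingEquiv.symm.toMulEquiv.isField (Field.toIsField k)
    rcases eq_or_ne a 0 with ha | ha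
    · subst ha
      have hη' : η ∈ U := (hη.specializes (hre.le ⟨w, rfl⟩)).mem_open U.2 hxU
      obtain ⟨b, hb⟩ := GrothLib.StrictSS13.mem_range_branch (f ⟨η, hη'⟩)
      obtain ⟨hbc, hbl⟩ := GrothLib.StrictSS13.branch_facts (A := A) b
      set ℓ := Spec.map (CommRingCat.ofHom (GrothLib.StrictSS13.branch (A := A) b).toRingHom) with hℓ
      haveI := hbc
      haveI := GrothLib.StrictSS13.smooth_lineToBase (A := A)
      haveI : Etale (pullback.snd f ℓ) := MorphismProperty.pullback_snd _ _ hf
      haveI : IsClosedImmersion (pullback.fst f ℓ) := MorphismProperty.pullback_fst _ _ hbc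
      haveI : Smooth (pullback.fst f ℓ ≫ U.ι ≫ φ) := by
        rw [hq, ← hfq, Category.assoc, pullback.condition_assoc, reassoc_of% hbl]; infer_instance
      refine GrothLib.StrictSS13.smooth_nhd_of_smooth_closed φ e η hrc hηmax w U hxU (pullback.fst f ℓ) fun y hy => ?_
      rw [Scheme.Pullback.range_fst]
      have hs : (⟨η, hη'⟩ : (U : Scheme.{u})) ⤳ y := by
        rw [← U.ι.isOpenEmbedding.isInducing.specializes_iff]
        exact specializes_iff_mem_closure.2 hy
      exact (hs.map f.continuous).mem_closed ℓ.isClosedEmbedding.isClosed_range hb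
    · haveI := GrothLib.StrictSS13.smooth_nodeToBase_of_isUnit (A := A) (a := a)
        (letI := hA.toField; isUnit_iff_ne_zero.2 ha)
      haveI : Smooth (𝟙 (U : Scheme.{u}) ≫ U.ι ≫ φ) := by
        rw [Category.id_comp, hq, ← hfq]; infer_instance
      exact GrothLib.StrictSS13.smooth_nhd_of_smooth_closed φ e η hrc hηmax w U hxU (𝟙 _) fun y _ => ⟨y, rfl⟩

end Groth.Agent.S15649
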