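import Groth.Statements.S15650
import Groth.Agent.Lib.StrictSS6.Main
-- import your own Groth.Agent.* helpers here

set_option autoImplicit false
universe u
open StrictSS

namespace Groth.Agent.S15650

open CategoryTheory CategoryTheory.Limits AlgebraicGeometry in
/-- Let k be a separably closed field and (C, D) a semistable multipointed curve over Spec k with C and
D reduced, and assume that every irreducible component of C carries a reduced closed subscheme
structure which is smooth over k. Then (C, D) is strictly semistable. (The published remark asserts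
that, for semistable curves over such a field, strict semistability is equivalent to smoothness of
the irreducible components; this row is the converse implication. Semistability cannot be dropped:
three concurrent lines in the plane have smooth components and no chart at the common point.) -/
theorem result
    (k : Type u) [Field k] [IsSepClosed k]
    {C D : Scheme.{u}} (φ : C ⟶ Spec (CommRingCat.of k)) (i : D ⟶ C) [IsReduced C] [IsReduced D]
    (hss : SSMod.IsSemistable φ i)
    (hZ : ∀ Z ∈ irreducibleComponents (C : Type u), ∃ (W : Scheme.{u}) (e : W ⟶ C),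
      IsClosedImmersion e ∧ IsReduced W ∧ Set.range e.base = Z ∧ Smooth (e ≫ φ)) :
    StrictSS.IsStrictlySemistable φ i := by
  obtain ⟨hmp, hnod, hDet, hdisj⟩ := hss
  refine ⟨hmp, fun x => ?_⟩
  obtain ⟨hflat, hlfp, -, -, -, hci, -, -, -⟩ := id hmp
  haveI := hflat
  haveI := hlfp
  haveI := hci
  haveI := hDet
  have hnl := (GrothLib.NodeOpen11.isNodalFamily_iff φ).1 hnod
  have hequi : ∀ W ∈ irreducibleComponents (C : Type u), topologicalKrullDim W = 1 :=
    GrothLib.StrictSS6.components_dim_of_fibre φ (fun s => (hnod.2.2 s).1)
  have hgood : GrothLib.NodeOpen11.Good φ x := by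
    obtain ⟨-, hg⟩ := GrothLib.NodeOpen11.goodSet_field φ hequi
    exact (hg x).1 ((GrothLib.NodeOpen11.mem_goodSet_iff φ x).2 (hnl x).2)
  by_cases hsm : x ∈ φ.smoothLocus
  · obtain ⟨U₀, hxU₀, hU₀⟩ := (GrothLib.LocProp.smooth_nhd_iff φ x).2 hsm
    exact Or.inl (GrothLib.StrictSS6.hasLineChartAt φ i x U₀ hxU₀ fun y => by
      have := (GrothLib.NodeOpen11.mem_nodalLocus_etale_source U₀.ι φ y).2 (hnl _)
      exact this.1.2)
  · have hxD : x ∉ Set.range i.base := fun hx =>
      Set.disjoint_left.1 hdisj hx (fun hs => hsm hs)
    rcases hgood with h | hnode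
    · exact absurd ((GrothLib.LocProp.smooth_nhd_iff φ x).1 h) hsm
    · exact Or.inr (GrothLib.StrictSS6.hasNodeChartAt φ i hequi hZ x hxD hnode)

end Groth.Agent.S15650
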