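import Groth.Statements.S15652
-- import your own Groth.Agent.* helpers here
import Groth.Agent.Lib.TateThm.Center

set_option autoImplicit false
universe u
open CategoryTheory MonoidalCategory CartesianMonoidalCategory MonObj GrpObj AlgebraicGeometry
open AbVar

namespace Groth.Agent.S15652

/-- Let A be an abelian variety over a finite field k with q elements (a proper, geometrically integral
commutative group scheme over k) and π_A its q-Frobenius endomorphism (the identity on points and
the q-th power map on sections; a homomorphism). Then the centre of the ℚ-algebra End⁰(A) = ℚ ⊗_ℤ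
End_k(A) (End_k(A) the ring of endomorphisms defined over k) is the ℚ-subalgebra ℚ[π_A] generated by
the image 1 ⊗ π_A of the Frobenius endomorphism: an equality of ℚ-subalgebras of End⁰(A). -/
theorem result (k : Type u) [Field k] [Finite k]
    (A : Over (Spec (CommRingCat.of k)))
    [GrpObj A] [IsCommMonObj A] [IsProper A.hom] [GeometricallyIntegral A.hom]
    (πA : A ⟶ A) [IsMonHom πA] (hπAb : πA.left.base = 𝟙 _)
    (hπAle : ∀ U : A.left.Opens, U ≤ πA.left ⁻¹ᵁ U)
    (hπAapp : ∀ (U : A.left.Opens) (s : Γ(A.left, U)), (πA.left.appLE U U (hπAle U)).hom s = s ^ Nat.card k) :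
    Subalgebra.center ℚ (EndAV.End0 A) = EndAV.QAdj (EndAV.End.of πA) := by
  obtain ⟨l, hlp, hlk⟩ := GrothLib.HomFG.exists_prime_ne_zero k
  haveI := Fact.mk hlp
  refine le_antisymm (fun x hx => ?_) (Algebra.adjoin_le ?_)
  · rw [Subalgebra.mem_center_iff] at hx
    obtain ⟨q, φ, rfl⟩ := GrothLib.Poincare.exists_smul_toEnd0 x
    by_cases hq : q = 0
    · rw [hq, zero_smul]; exact zero_mem _
    refine Subalgebra.smul_mem _ ?_ q
    have hcent : ∀ ψ : EndAV.End A, φ * ψ = ψ * φ := fun ψ => by
      refine GrothLib.HomFG.toEnd0_injective (A := A) ?_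
      have h := hx (EndAV.toEnd0 ψ)
      rw [mul_smul_comm, smul_mul_assoc, ← map_mul, ← map_mul] at h
      exact (smul_right_injective _ hq h).symm
    obtain ⟨N, hN, hmem⟩ := GrothLib.TateThm.exists_nsmul_mem_span_powers (Ω := AlgebraicClosure k) hlk πA hπAle
      hπAapp φ hcent
    have key : ∀ z ∈ Submodule.span ℤ (Set.range fun i : ℕ => EndAV.End.of πA ^ i),
        EndAV.toEnd0 z ∈ EndAV.QAdj (EndAV.End.of πA) := by
      intro z hz
      induction hz using Submodule.span_induction with
      | mem z hz =>
        obtain ⟨i, rfl⟩ := hz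
        show EndAV.toEnd0 (EndAV.End.of πA ^ i) ∈ _
        rw [map_pow]
        exact pow_mem (Algebra.self_mem_adjoin_singleton _ _) i
      | zero => rw [map_zero]; exact zero_mem _
      | add a b _ _ ha hb => rw [map_add]; exact add_mem ha hb
      | smul c a _ ha => rw [map_zsmul]; exact zsmul_mem ha c
    have h := key _ hmem
    rw [map_nsmul, ← Nat.cast_smul_eq_nsmul ℚ] at h
    have h2 := Subalgebra.smul_mem _ h ((N : ℚ)⁻¹)
    rwa [inv_smul_smul₀ (by exact_mod_cast hN.ne')] at h2
  · rw [Set.singleton_subset_iff, SetLike.mem_coe, Subalgebra.mem_center_iff]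
    exact fun x => (GrothLib.Poincare.commute_toEnd0_frob A πA hπAle hπAapp x)

end Groth.Agent.S15652
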