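import Groth.Statements.S15653
-- import your own Groth.Agent.* helpers here
import Groth.Agent.Lib.TateThm.Structure
import Groth.Agent.Lib.Poincare.SimpleFrob

set_option autoImplicit false
universe u
open CategoryTheory MonoidalCategory CartesianMonoidalCategory MonObj GrpObj AlgebraicGeometry
open AbVar

namespace Groth.Agent.S15653

/-- Let A be a simple abelian variety of dimension g over a finite field k with q elements — a proper,
geometrically integral commutative group scheme over k, of Krull dimension g, whose only abelian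
subvarieties over k (geometrically integral closed subgroup schemes) are the trivial subgroup and A
itself — and π_A its q-Frobenius endomorphism (the identity on points and the q-th power map on
sections; a homomorphism). Then End⁰(A) = ℚ ⊗_ℤ End_k(A) is finite-dimensional over ℚ and its
reduced degree [End⁰(A) : ℚ[π_A]]^(1/2) · [ℚ[π_A] : ℚ] equals 2g: there is a natural number n such
that End⁰(A) has rank n² as a module (by left multiplication) over the ℚ-subalgebra ℚ[π_A] generated
by the image of π_A — a field when A is non-trivial — and n · [ℚ[π_A] : ℚ] = 2g. -/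
theorem result (k : Type u) [Field k] [Finite k]
    (A : Over (Spec (CommRingCat.of k)))
    [GrpObj A] [IsCommMonObj A] [IsProper A.hom] [GeometricallyIntegral A.hom]
    (g : ℕ) (hg : topologicalKrullDim A.left = g)
    (hsimple : ∀ (B : Over (Spec (CommRingCat.of k))) [GrpObj B] [GeometricallyIntegral B.hom] (i : B ⟶ A) [IsMonHom i]
      [IsClosedImmersion i.left], Subsingleton B.left ∨ IsIso i)
    (πA : A ⟶ A) [IsMonHom πA] (hπAb : πA.left.base = 𝟙 _)
    (hπAle : ∀ U : A.left.Opens, U ≤ πA.left ⁻¹ᵁ U)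
    (hπAapp : ∀ (U : A.left.Opens) (s : Γ(A.left, U)), (πA.left.appLE U U (hπAle U)).hom s = s ^ Nat.card k) :
    Module.Finite ℚ (EndAV.End0 A) ∧ ∃ n : ℕ,
      Module.finrank (EndAV.QAdj (EndAV.End.of πA)) (EndAV.End0 A) = n ^ 2 ∧
      n * Module.finrank ℚ (EndAV.QAdj (EndAV.End.of πA)) = 2 * g := by
  classical
  obtain ⟨l, hlp, hl⟩ := GrothLib.HomFG.exists_prime_ne_zero k
  haveI : Fact l.Prime := ⟨hlp⟩
  let Ω := AlgebraicClosure k
  haveI : IsAlgClosed Ω := IsAlgClosure.isAlgClosed k
  let σ := Spec.map (CommRingCat.ofHom (algebraMap k Ω))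
  haveI : Module.Finite ℤ_[l] (AbDual.TateMod A l (SGA7.pt Ω)) := GrothLib.AbTors.module_finite A σ l hl
  haveI : Module.Free ℤ_[l] (AbDual.TateMod A l (SGA7.pt Ω)) := Module.free_of_finite_type_torsion_free'
  haveI : Module.Finite ℤ (EndAV.End A) := GrothLib.HomFG.finite_hom (A := A) (B := A)
  refine ⟨inferInstance, ?_⟩
  set φ := EndAV.End.of πA with hφ
  rcases eq_or_ne g 0 with rfl | hg0
  · haveI := GrothLib.Poincare.subsingleton_end0_of_dim_zero (A := A) σ l hl (by rw [hg]; rfl)
    refine ⟨1, ?_, ?_⟩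
    · rw [Module.finrank_subsingleton, one_pow]
    · rw [Module.finrank_zero_of_subsingleton, Nat.mul_zero]
  haveI := GrothLib.Poincare.nontrivial_end0_of_dim_ne_zero (A := A) σ l hl hg hg0
  haveI := GrothLib.Poincare.noZeroDivisors_end0 (A := A) σ l hl hsimple
  haveI : IsDomain (EndAV.End0 A) := NoZeroDivisors.to_isDomain _
  have hint : IsIntegral ℚ (EndAV.toEnd0 φ) :=
    ((Algebra.IsIntegral.isIntegral (R := ℤ) φ).map EndAV.toEnd0).tower_top
  have hirr := minpoly.irreducible hint
  have hμ := minpoly.monic hint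
  obtain ⟨P, hP, hpow⟩ := GrothLib.DegPoly.charpoly_eq_minpoly_pow σ l hl hg φ hirr
  have hfr := GrothLib.TateThm.finrank_end0_eq (Ω := Ω) hl πA hπAle hπAapp P hP
  have hdg := GrothLib.TateThm.natDegree_P (Ω := Ω) hl hg πA P hP
  set d := (minpoly ℚ (EndAV.toEnd0 φ)).natDegree with hd
  set n := 2 * g / d with hn
  rw [hpow, Polynomial.natDegree_pow, ← hd] at hdg
  have hn0 : n ≠ 0 := fun h => by rw [h] at hdg; omega
  have hnf : UniqueFactorizationMonoid.normalizedFactors (minpoly ℚ (EndAV.toEnd0 φ) ^ n) =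
      n • {minpoly ℚ (EndAV.toEnd0 φ)} := by
    rw [UniqueFactorizationMonoid.normalizedFactors_pow, UniqueFactorizationMonoid.normalizedFactors_irreducible hirr,
      hμ.normalize_eq_self]
  rw [hpow, hnf, Multiset.toFinset_nsmul _ _ hn0, Multiset.toFinset_singleton, Finset.sum_singleton,
    Multiset.count_nsmul, Multiset.count_singleton_self, Nat.mul_one, ← hd] at hfr
  have hQ : Module.finrank ℚ (EndAV.QAdj φ) = d := by
    have h : Submodule.span ℚ (Set.range fun i : Fin d => EndAV.toEnd0 φ ^ (i : ℕ)) =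
        Subalgebra.toSubmodule (EndAV.QAdj φ) := by
      rw [← Submodule.span_range_natDegree_eq_adjoin hμ (minpoly.aeval ℚ _), Finset.coe_image, Finset.coe_range, ← hd]
      congr 1
      ext x
      simp [Fin.exists_iff]
    rw [← Subalgebra.finrank_toSubmodule, ← h, finrank_span_eq_card (linearIndependent_pow _), Fintype.card_fin]
  letI : Field (EndAV.QAdj φ) := ((GrothLib.Poincare.isField_adjoin_iff hint).2 hirr).toField
  have hmul := Module.finrank_mul_finrank ℚ (EndAV.QAdj φ) (EndAV.End0 A)
  rw [hfr, hQ] at hmul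
  refine ⟨n, ?_, by rw [hQ, hdg]⟩
  refine Nat.eq_of_mul_eq_mul_left hirr.natDegree_pos ?_
  rw [← hd, hmul, sq, Nat.mul_comm]

end Groth.Agent.S15653
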