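import Groth.Statements.S15655
-- import your own Groth.Agent.* helpers here
import Groth.Agent.Lib.GrpDeligne.AbVar

set_option autoImplicit false
universe u
open CategoryTheory MonoidalCategory CartesianMonoidalCategory MonObj GrpObj AlgebraicGeometry
open AbVar

namespace Groth.Agent.S15655

/-- Proof step: let A be a simple abelian variety over a field k — a proper, geometrically integral
commutative group scheme over k whose only abelian subvarieties over k (geometrically integral
closed subgroup schemes) are the trivial subgroup and A itself. Then every non-zero element of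
End⁰(A) = ℚ ⊗_ℤ End_k(A) (End_k(A) the ring of endomorphisms defined over k) is invertible: End⁰(A)
is a division algebra. (The published proposition is the semisimplicity of End⁰(A) for every abelian
variety; this row states the step of its proof for simple A.) -/
theorem result (k : Type u) [Field k]
    (A : Over (Spec (CommRingCat.of k)))
    [GrpObj A] [IsCommMonObj A] [IsProper A.hom] [GeometricallyIntegral A.hom]
    (hsimple : ∀ (B : Over (Spec (CommRingCat.of k))) [GrpObj B] [GeometricallyIntegral B.hom] (i : B ⟶ A) [IsMonHom i]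
      [IsClosedImmersion i.left], Subsingleton B.left ∨ IsIso i) :
    ∀ x : EndAV.End0 A, x ≠ 0 → IsUnit x := by
  intro x hx
  have key : ∀ z : EndAV.End0 A, ∃ (m : ℕ) (φ : EndAV.End A), 0 < m ∧ z = ((m : ℚ)⁻¹) ⊗ₜ[ℤ] φ := by
    intro z
    induction z using TensorProduct.induction_on with
    | zero => exact ⟨1, 0, Nat.one_pos, by rw [TensorProduct.tmul_zero]⟩
    | tmul q φ =>
      refine ⟨q.den, q.num • φ, q.den_pos, ?_⟩
      rw [← TensorProduct.smul_tmul, zsmul_eq_mul, ← div_eq_mul_inv, Rat.num_div_den]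
    | add a b ha hb =>
      obtain ⟨m, φ, hm, rfl⟩ := ha
      obtain ⟨l, ψ, hl, rfl⟩ := hb
      refine ⟨m * l, (l : ℤ) • φ + (m : ℤ) • ψ, Nat.mul_pos hm hl, ?_⟩
      rw [TensorProduct.tmul_add, ← TensorProduct.smul_tmul, ← TensorProduct.smul_tmul]
      congr 2
      · rw [zsmul_eq_mul]; push_cast; field_simp
      · rw [zsmul_eq_mul]; push_cast; field_simp
  obtain ⟨m, φ, hm, rfl⟩ := key x
  have hφ : φ.toHom ≠ 1 := fun h => hx (by
    rw [show φ = 0 from EndAV.End.ext h, TensorProduct.tmul_zero])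
  haveI : Surjective φ.toHom.left := GrothLib.GrpDeligne.surjective_of_simple A hsimple φ.toHom hφ
  haveI := GeometricallyIntegral.isIntegral_of_subsingleton A.hom
  haveI : IsFinite φ.toHom.left := GrothLib.Rigidity.isFinite_of_dim_eq A A φ.toHom rfl
  obtain ⟨n, g, hn, hg, h1, h2⟩ := GrothLib.GrpDeligne.exists_dual_hom_of_surjective A A φ.toHom
  have e1 : φ * EndAV.End.of g = (n : EndAV.End A) := by
    apply EndAV.End.ext
    rw [EndAV.End.toHom_natCast]
    exact h2
  have e2 : EndAV.End.of g * φ = (n : EndAV.End A) := by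
    apply EndAV.End.ext
    rw [EndAV.End.toHom_natCast]
    exact h1
  have hone : ((n : ℚ)⁻¹) ⊗ₜ[ℤ] (n : EndAV.End A) = (1 : EndAV.End0 A) := by
    rw [show (n : EndAV.End A) = (n : ℤ) • (1 : EndAV.End A) by rw [zsmul_eq_mul, _root_.mul_one, Int.cast_natCast],
      ← TensorProduct.smul_tmul, zsmul_eq_mul, Int.cast_natCast,
      mul_inv_cancel₀ (by exact_mod_cast hn.ne'), Algebra.TensorProduct.one_def]
  have hq : ((m : ℚ)⁻¹) * ((m : ℚ) / n) = (n : ℚ)⁻¹ := by
    have : (m : ℚ) ≠ 0 := by exact_mod_cast hm.ne'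
    field_simp
  refine ⟨⟨((m : ℚ)⁻¹) ⊗ₜ[ℤ] φ, ((m : ℚ) / n) ⊗ₜ[ℤ] EndAV.End.of g, ?_, ?_⟩, rfl⟩
  · exact (Algebra.TensorProduct.tmul_mul_tmul _ _ _ _).trans (by rw [hq, e1, hone])
  · exact (Algebra.TensorProduct.tmul_mul_tmul _ _ _ _).trans (by rw [mul_comm ((m : ℚ) / n), hq, e2, hone])

end Groth.Agent.S15655
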