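import Groth.Statements.S15656
-- import your own Groth.Agent.* helpers here
import Groth.Agent.Lib.Cube.MulFinite

set_option autoImplicit false
universe u
open CategoryTheory MonoidalCategory CartesianMonoidalCategory MonObj GrpObj AlgebraicGeometry
open AbVar

namespace Groth.Agent.S15656

/-- Remark preceding it: let A and B be abelian varieties over a field k (proper, geometrically integral
commutative group schemes over k). Then the additive group Hom_k(A, B) of homomorphisms A → B
defined over k (sum = pointwise product in the group law of B) is torsion-free: if n·f = 0 for an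
integer n ≠ 0 then f = 0. -/
theorem result (k : Type u) [Field k]
    (A B : Over (Spec (CommRingCat.of k)))
    [GrpObj A] [IsCommMonObj A] [IsProper A.hom] [GeometricallyIntegral A.hom]
    [GrpObj B] [IsCommMonObj B] [IsProper B.hom] [GeometricallyIntegral B.hom] :
    NoZeroSMulDivisors ℤ (EndAV.Hom A B) := by
  refine ⟨fun {n φ} h => ?_⟩
  by_cases hn : n = 0
  · exact Or.inl hn
  refine Or.inr (EndAV.Hom.ext ?_)
  have h1 : φ.toHom ^ n = 1 := by rw [← EndAV.Hom.toHom_zsmul, h]; rfl
  have h2 : ((𝟙 A : A ⟶ A) ^ n) ≫ φ.toHom = ((𝟙 A : A ⟶ A) ^ n) ≫ (1 : A ⟶ B) := by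
    rw [GrpObj.zpow_comp, Category.id_comp, h1, MonObj.comp_one]
  obtain ⟨_, _, _⟩ := GrothLib.Cube.isogeny_zpow A hn
  have := AlgebraicGeometry.Flat.epi_of_flat_of_surjective ((𝟙 A : A ⟶ A) ^ n).left
  haveI : Epi ((𝟙 A : A ⟶ A) ^ n) := Over.epi_of_epi_left _
  exact (cancel_epi _).1 h2

end Groth.Agent.S15656
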