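import Groth.Statements.S15681
import Groth.Agent.Lib.CurveRR.Stable
import Groth.Agent.Lib.Euler.Divisor
import Groth.Agent.Lib.CurveRR.Places
import Groth.Agent.Lib.CurveRR.Setup
import Groth.Agent.Lib.CurveMult.TwistHom
import Groth.Agent.Lib.VA.Powers
import Groth.Agent.Lib.QCoh.SupportExact
import Groth.Agent.Lib.OX.LocFreeTensor
-- import your own Groth.Agent.* helpers here

set_option autoImplicit false
universe u
open CategoryTheory CategoryTheory.Limits AlgebraicGeometry MonoidalCategory
open FreeSec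

set_option backward.isDefEq.respectTransparency false

namespace Groth.Agent.S15681
open GrothLib GrothLib.Euler in
/-- A surjection of bundles stays surjective on the sections over a divisor. -/
theorem surjective_on_divisor (k : Type u) [Field k] {X : Scheme.{u}} [X.Over (Spec (CommRingCat.of k))]
    [IsProper (X ↘ (Spec (CommRingCat.of k)))] (hd : topologicalKrullDim X ≤ 1)
    {A B : X.Modules} {a : ℕ} (hA : FlatMod.IsFinLocFreeOfRank a A) (q : A ⟶ B) [Epi q] (hB : FlatMod.IsFinLocFree B)
    {D : X.IdealSheafData} (hD : _root_.BlowUp.IsEffCartierIdeal D) :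
    Function.Surjective (Cohom.hhMap k (((DCoh.tensorBi (X := X)).map q).app (ClSub.quotMod D)) 0) := by
  haveI := isNoetherian_of_proper (X := X) k
  obtain ⟨hfin, hcl⟩ := divisor_finite_closed k hd hD
  let φ : (tF (ClSub.quotMod D)).obj A ⟶ (tF (ClSub.quotMod D)).obj B :=
    ((DCoh.tensorBi (X := X)).map q).app (ClSub.quotMod D)
  haveI : Epi ((tF (ClSub.quotMod D)).map q) := Functor.map_epi _ _
  haveI : Epi φ := ‹Epi ((tF (ClSub.quotMod D)).map q)›
  have hQ : Coh.IsCoh (ClSub.quotMod D) := QCoh.pushUnit_isCoh D.subschemeι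
  have hsupp : CohB1.support (ClSub.quotMod D) ⊆ (D.support : Set X) := by
    rw [← D.range_subschemeι]
    exact QCoh.support_pushforward_subset_range D.subschemeι _
  let e : (tF (ClSub.quotMod D)).obj A ≅ (tF A).obj (ClSub.quotMod D) :=
    (((OX.tensorBraiding (X := X)).app A).app (ClSub.quotMod D)).symm
  have h1 : CohB1.support ((tF (ClSub.quotMod D)).obj A) ⊆ (D.support : Set X) :=
    (QCoh.support_subset_of_mono e.hom).trans ((support_tF_subset hA).trans hsupp)
  have hz : Subsingleton (Coh.HH X (kernel φ) 1) := by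
    have h2 : CohB1.support (kernel φ) ⊆ (D.support : Set X) := (QCoh.support_subset_of_mono (kernel.ι φ)).trans h1
    exact subsingleton_HH_of_finite_support _ (hfin.subset h2) (fun x hx => hcl x (h2 hx)) 1 le_rfl
  have hS : (ShortComplex.mk (kernel.ι φ) φ (kernel.condition φ)).ShortExact :=
    { exact := ShortComplex.exact_of_f_is_kernel _ (kernelIsKernel φ) }
  intro z
  exact (Cohom.exact₃ (A := k) hS 0 z).1 (@Subsingleton.elim _ hz _ _)

open GrothLib GrothLib.Euler in
/-- Sections of a line bundle on a divisor. -/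
theorem finrank_divisor_sections (k : Type u) [Field k] {X : Scheme.{u}} [X.Over (Spec (CommRingCat.of k))]
    [IsProper (X ↘ (Spec (CommRingCat.of k)))] (hd : topologicalKrullDim X ≤ 1)
    {M : X.Modules} (hM : PicF.IsInvertible M) {D : X.IdealSheafData} (hD : _root_.BlowUp.IsEffCartierIdeal D) :
    Module.finrank k (Coh.HH X (((DCoh.tensorBi (X := X)).obj M).obj (ClSub.quotMod D)) 0) =
      Module.finrank k (Coh.HH X (ClSub.quotMod D) 0) := by
  haveI := isNoetherian_of_proper (X := X) k
  obtain ⟨hfin, hcl⟩ := divisor_finite_closed k hd hD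
  have hQ : Coh.IsCoh (ClSub.quotMod D) := QCoh.pushUnit_isCoh D.subschemeι
  have hsupp : CohB1.support (ClSub.quotMod D) ⊆ (D.support : Set X) := by
    rw [← D.range_subschemeι]
    exact QCoh.support_pushforward_subset_range D.subschemeι _
  have h1 := isFinLocFreeOfRank_one' hM
  have e := euler_tF_of_finite_support k h1 hQ (hfin.subset hsupp) (fun x hx => hcl x (hsupp hx))
  have h2 : CohB1.support ((tF M).obj (ClSub.quotMod D)) ⊆ (D.support : Set X) := (support_tF_subset h1).trans hsupp
  rw [euler_eq_of_finite_support k _ (hfin.subset h2) (fun x hx => hcl x (h2 hx)),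
    euler_eq_of_finite_support k _ (hfin.subset hsupp) (fun x hx => hcl x (hsupp hx)), Nat.cast_one, one_mul] at e
  rw [← Nat.cast_inj (R := ℤ), ← e]
  exact congrArg _ (hhEquiv (A := k) (((OX.tensorBraiding (X := X)).app M).app (ClSub.quotMod D)) 0).finrank_eq.symm

/-- Let X be a smooth proper integral curve of genus g over an algebraically closed field k, T a finite
locally free O_X-module and D an effective Cartier divisor on X of degree m = dim_k H^0(X, O_D),
with m ≥ 1 and m ≥ 2g. If the restriction map H^0(X, T) → H^0(X, T ⊗ O_D) (written on T ⊗ O_X ≅ T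
and induced by O_X → O_D) is surjective, then H^1(X, T ⊗ I_E) = 0 for every effective Cartier
divisor E on X of degree m - 2g, I_E its ideal sheaf. (The published statement is phrased for a
family of sections of a fibration over the curve, parametrised by a base scheme, with T the
pull-back of the relative tangent sheaf along the section; this row is the case of a single section
over an algebraically closed field, to which that statement reduces, with T any finite locally free
module, which is all the argument uses.) -/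
theorem result (k : Type u) [Field k] [IsAlgClosed k]
    (X : Scheme.{u}) [X.Over (Spec (CommRingCat.of k))]
    (hX : Curve.IsSmoothProperCurve k X (X ↘ (Spec (CommRingCat.of k))))
    (T : X.Modules) (hT : FlatMod.IsFinLocFree T)
    (D : X.IdealSheafData) (hD : BlowUp.IsEffCartierIdeal D)
    (hD1 : 1 ≤ Module.finrank k (Coh.HH X (ClSub.quotMod D) 0))
    (hDg : 2 * Curv2.genus k X ≤ Module.finrank k (Coh.HH X (ClSub.quotMod D) 0))
    (hsurj : Function.Surjective (Sheaf.H.map ((SheafOfModules.toSheaf X.ringCatSheaf).map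
      ((CohB1.sheafifyMod X).map (CohB1.toPMod T ◁ (ClSub.toSubscheme D).val) :
        CohB1.tensorMod T (Coh.structureModule X) ⟶ CohB1.tensorMod T (ClSub.quotMod D))) 0))
    (E : X.IdealSheafData) (hE : BlowUp.IsEffCartierIdeal E)
    (hdegE : Module.finrank k (Coh.HH X (ClSub.quotMod E) 0) + 2 * Curv2.genus k X =
      Module.finrank k (Coh.HH X (ClSub.quotMod D) 0)) :
    Subsingleton (Coh.HH X (CohB1.tensorMod T (ClSub.idealMod E)) 1) := by
  obtain ⟨hp, hs, hint, hdim⟩ := hX
  haveI := hp
  haveI := hs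
  haveI := hint
  haveI : GrothLib.CurveRR.RegCurve X := GrothLib.CurveRR.regCurve_of_smooth (X ↘ Spec (CommRingCat.of k)) hdim
  haveI := GrothLib.Euler.isNoetherian_of_proper (X := X) k
  have hd : topologicalKrullDim X ≤ 1 := hdim.le
  have h0 := GrothLib.CurveRR.finrank_H0_structure_eq_one k (X := X)
  have hIE := GrothLib.IdealModSec.isInvertible_of_isEffCartier hE
  have hA : FlatMod.IsFinLocFree (CohB1.tensorMod T (ClSub.idealMod E)) :=
    GrothLib.OX.isFinLocFree_tensor hT (GrothLib.Euler.isFinLocFree_of_isInvertible hIE)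
  refine not_nontrivial_iff_subsingleton.1 fun hne => ?_
  have hAr := GrothLib.Euler.isFinLocFreeOfRank_of_mono (GrothLib.CurveRR.pid_stalk) (𝟙 _)
    (GrothLib.Euler.isCoh_of_isFinLocFree hA) hA
  have hK := GrothLib.CurveRR.isFunctionField k h0
  obtain ⟨C, hC⟩ := GrothLib.FunFld.exists_isCanonical hK
  obtain ⟨φ, hφ⟩ := GrothLib.CurveRR.exists_nonzero_hom_of_H1 hK hC hAr hne
  have hω1 := GrothLib.Euler.isFinLocFreeOfRank_one_of_invertible (GrothLib.CurveRR.isInvertible_oD k C)
  obtain ⟨K, I, a, p, j, rK, rI, ha, hp', hj, -, -, hKf, hIf, hrk, hdeg, h0', -⟩ :=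
    GrothLib.Euler.exists_image_data k GrothLib.CurveRR.pid_stalk hA (GrothLib.FinCov.isFinLocFree_of_rank hω1) φ
  haveI := hj
  haveI := hp'
  have hle : rI ≤ 1 := by
    have := GrothLib.Euler.grank_le_of_mono j (GrothLib.CurveRR.isCoh_oD k C)
    rwa [GrothLib.Euler.grank_of_locFree hIf, GrothLib.Euler.grank_of_locFree hω1] at this
  obtain rfl : rI = 1 := by have hne' : rI ≠ 0 := fun e => hφ (h0' e); omega
  have hdI := (GrothLib.Euler.degree_le_of_mono k GrothLib.CurveRR.RegCurve.dim.le j
    (GrothLib.Euler.isCoh_of_isFinLocFree (GrothLib.FinCov.isFinLocFree_of_rank hIf)) (GrothLib.CurveRR.isCoh_oD k C)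
    (by rw [GrothLib.Euler.grank_of_locFree hIf, GrothLib.Euler.grank_of_locFree hω1])).1
  rw [← GrothLib.Euler.deg_eq_degree k hω1, GrothLib.CurveRR.deg_oD, GrothLib.CurveRR.deg_canonical k hK hC,
    ← GrothLib.CurveRR.genus_eq k h0, ← GrothLib.Euler.deg_eq_degree k hIf] at hdI
  have hIinv : PicF.IsInvertible I := GrothLib.CurveMult.isInvertible_of_rank_one hIf
  obtain ⟨N, hN, hNc⟩ := GrothLib.VA.exists_inverse hIE
  obtain ⟨eN⟩ := (GrothLib.Cube.clsMod_eq_iff (GrothLib.Ample.isInvertible_tensorMod hIE hN)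
    GrothLib.Euler.isInvertible_structure).1 (by
      rw [GrothLib.Cube.clsMod_tensorMod hIE hN, hNc, mul_inv_cancel,
        (GrothLib.Cube.clsMod_eq_one_iff GrothLib.Euler.isInvertible_structure).2 ⟨Iso.refl _⟩])
  have hNinv : ClSub.IsInverseOf N (ClSub.idealMod E) := ⟨GrothLib.GrTilde.tensorModComm _ _ ≪≫ eN⟩
  let M := CohB1.tensorMod I N
  have hM : PicF.IsInvertible M := GrothLib.Ample.isInvertible_tensorMod hIinv hN
  have hdM : Curv2.deg k X M 1 = Module.finrank k (Coh.HH X (ClSub.quotMod E) 0) + Curv2.deg k X I 1 := by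
    rw [GrothLib.Euler.deg_tensor_effCartier k hd hE hN hNinv hIf]; simp
  -- the quotient of `T`
  let e0 : T ≅ CohB1.tensorMod (CohB1.tensorMod T (ClSub.idealMod E)) N :=
    (GrothLib.OX.tensorUnitLeftIso T).symm ≪≫ GrothLib.GrTilde.tensorModComm _ _ ≪≫
      (((DCoh.tensorBi (X := X)).obj T).mapIso eN).symm ≪≫ (GrothLib.OX.tensorAssoc T (ClSub.idealMod E) N).symm
  let qN : CohB1.tensorMod (CohB1.tensorMod T (ClSub.idealMod E)) N ⟶ M := (GrothLib.Euler.tF N).map p
  haveI : Epi qN := Functor.map_epi _ _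
  let q : T ⟶ M := e0.hom ≫ qN
  haveI : Epi q := epi_comp _ _
  have hTr := GrothLib.Euler.isFinLocFreeOfRank_of_mono (GrothLib.CurveRR.pid_stalk) (𝟙 T)
    (GrothLib.Euler.isCoh_of_isFinLocFree hT) hT
  -- sections of `M` surject onto those over the divisor
  let π := ClSub.toSubscheme D
  let F := DCoh.tensorBi (X := X)
  have hMs : Function.Surjective (GrothLib.Cohom.hhMap k ((F.obj M).map π) 0) := by
    intro z
    obtain ⟨y, rfl⟩ := surjective_on_divisor k hd hTr q (GrothLib.Euler.isFinLocFree_of_isInvertible hM) hD z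
    obtain ⟨w, rfl⟩ : ∃ w, GrothLib.Cohom.hhMap k ((F.obj T).map π) 0 w = y := hsurj y
    refine ⟨GrothLib.Cohom.hhMap k ((F.map q).app _) 0 w, ?_⟩
    rw [← GrothLib.Euler.hhMap_comp, ← GrothLib.Euler.hhMap_comp, (F.map q).naturality π]
  haveI := GrothLib.Euler.finiteDimensional_HH k (GrothLib.Euler.isCoh_of_isInvertible hM) 0
  let eMO : M ≅ (F.obj M).obj (Coh.structureModule X) :=
    (GrothLib.OX.tensorUnitLeftIso M).symm ≪≫ GrothLib.GrTilde.tensorModComm _ _
  have hge : Module.finrank k (Coh.HH X (ClSub.quotMod D) 0) ≤ Module.finrank k (Coh.HH X M 0) := by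
    rw [← finrank_divisor_sections k hd hM hD]
    exact LinearMap.finrank_le_finrank_of_surjective
      (f := (GrothLib.Cohom.hhMap k ((F.obj M).map π) 0).comp (GrothLib.Euler.hhEquiv (A := k) eMO 0).toLinearMap)
      (hMs.comp (GrothLib.Euler.hhEquiv (A := k) eMO 0).surjective)
  haveI : Nontrivial (Coh.HH X M 0) := Module.nontrivial_of_finrank_pos (R := k) (by omega)
  obtain ⟨hd0, hle', -⟩ := GrothLib.Euler.section_data k hd hM inferInstance
  rw [h0] at hle'
  omega

end Groth.Agent.S15681
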