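import Groth.Statements.S15684
import Groth.Agent.Lib.FreeSec29.BaseChange

set_option autoImplicit false
universe u
open CategoryTheory CategoryTheory.Limits AlgebraicGeometry MonoidalCategory
open FreeSec

namespace Groth.Agent.S15684

/-- Let C be a smooth proper integral curve over a field k, T a k-scheme, F a finite locally free module
on T ×_k C, D an effective Cartier divisor on C and u : T' → T a morphism of schemes; let F' be the
pull-back of F along u × id : T' ×_k C → T ×_k C. If the restriction pr_{T*}(F ⊗ pr_C^* O_C) →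
pr_{T*}(F ⊗ pr_C^* O_D) is an epimorphism of O_T-modules, then the map pr_{T'*}(F' ⊗ pr_C^* O_C) →
pr_{T'*}(F' ⊗ pr_C^* O_D) built in the same way from F' is an epimorphism of O_{T'}-modules;
conversely, if u is flat and surjective and the second map is an epimorphism, so is the first. (The
published statement has F equal to the pull-back of the relative tangent sheaf along a family of
sections of a fibration over C and says that weak D-freeness is preserved by base change and
descends along faithfully flat base change; this row keeps of F only its finite local freeness,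
which is all the argument uses; the curve is only assumed smooth, proper and integral over k, not
geometrically connected, which the argument does not use.) -/
theorem result (k : Type u) [Field k]
    (C : Scheme.{u}) [C.Over (Spec (CommRingCat.of k))] (hC : Curve.IsSmoothProperCurve k C (C ↘ (Spec (CommRingCat.of k))))
    (T : Scheme.{u}) [T.Over (Spec (CommRingCat.of k))]
    (F : (pullback (T ↘ (Spec (CommRingCat.of k))) (C ↘ (Spec (CommRingCat.of k)))).Modules) (hF : FlatMod.IsFinLocFree F)
    (D : C.IdealSheafData) (hD : BlowUp.IsEffCartierIdeal D)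
    (T' : Scheme.{u}) (u : T' ⟶ T) :
    (Epi ((Coh.push (pullback.fst (T ↘ (Spec (CommRingCat.of k))) (C ↘ (Spec (CommRingCat.of k))))).map
        ((CohB1.sheafifyMod (pullback (T ↘ (Spec (CommRingCat.of k))) (C ↘ (Spec (CommRingCat.of k))))).map (CohB1.toPMod F ◁ ((Scheme.Modules.pullback (pullback.snd (T ↘ (Spec (CommRingCat.of k))) (C ↘ (Spec (CommRingCat.of k))))).map (ClSub.toSubscheme D)).val) :
          CohB1.tensorMod F ((Scheme.Modules.pullback (pullback.snd (T ↘ (Spec (CommRingCat.of k))) (C ↘ (Spec (CommRingCat.of k))))).obj (Coh.structureModule C)) ⟶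
            CohB1.tensorMod F ((Scheme.Modules.pullback (pullback.snd (T ↘ (Spec (CommRingCat.of k))) (C ↘ (Spec (CommRingCat.of k))))).obj (ClSub.quotMod D)))) →
      Epi ((Coh.push (pullback.fst (u ≫ (T ↘ (Spec (CommRingCat.of k)))) (C ↘ (Spec (CommRingCat.of k))))).map
        ((CohB1.sheafifyMod (pullback (u ≫ (T ↘ (Spec (CommRingCat.of k)))) (C ↘ (Spec (CommRingCat.of k))))).map (CohB1.toPMod ((Scheme.Modules.pullback (pullback.map (u ≫ (T ↘ (Spec (CommRingCat.of k)))) (C ↘ (Spec (CommRingCat.of k))) (T ↘ (Spec (CommRingCat.of k))) (C ↘ (Spec (CommRingCat.of k))) u (𝟙 C) (𝟙 (Spec (CommRingCat.of k))) (Category.comp_id _) ((Category.comp_id _).trans (Category.id_comp _).symm))).obj F) ◁ ((Scheme.Modules.pullback (pullback.snd (u ≫ (T ↘ (Spec (CommRingCat.of k)))) (C ↘ (Spec (CommRingCat.of k))))).map (ClSub.toSubscheme D)).val) :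
          CohB1.tensorMod ((Scheme.Modules.pullback (pullback.map (u ≫ (T ↘ (Spec (CommRingCat.of k)))) (C ↘ (Spec (CommRingCat.of k))) (T ↘ (Spec (CommRingCat.of k))) (C ↘ (Spec (CommRingCat.of k))) u (𝟙 C) (𝟙 (Spec (CommRingCat.of k))) (Category.comp_id _) ((Category.comp_id _).trans (Category.id_comp _).symm))).obj F) ((Scheme.Modules.pullback (pullback.snd (u ≫ (T ↘ (Spec (CommRingCat.of k)))) (C ↘ (Spec (CommRingCat.of k))))).obj (Coh.structureModule C)) ⟶
            CohB1.tensorMod ((Scheme.Modules.pullback (pullback.map (u ≫ (T ↘ (Spec (CommRingCat.of k)))) (C ↘ (Spec (CommRingCat.of k))) (T ↘ (Spec (CommRingCat.of k))) (C ↘ (Spec (CommRingCat.of k))) u (𝟙 C) (𝟙 (Spec (CommRingCat.of k))) (Category.comp_id _) ((Category.comp_id _).trans (Category.id_comp _).symm))).obj F) ((Scheme.Modules.pullback (pullback.snd (u ≫ (T ↘ (Spec (CommRingCat.of k)))) (C ↘ (Spec (CommRingCat.of k))))).obj (ClSub.quotMod D))))) ∧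
    (Flat u → Surjective u →
      Epi ((Coh.push (pullback.fst (u ≫ (T ↘ (Spec (CommRingCat.of k)))) (C ↘ (Spec (CommRingCat.of k))))).map
        ((CohB1.sheafifyMod (pullback (u ≫ (T ↘ (Spec (CommRingCat.of k)))) (C ↘ (Spec (CommRingCat.of k))))).map (CohB1.toPMod ((Scheme.Modules.pullback (pullback.map (u ≫ (T ↘ (Spec (CommRingCat.of k)))) (C ↘ (Spec (CommRingCat.of k))) (T ↘ (Spec (CommRingCat.of k))) (C ↘ (Spec (CommRingCat.of k))) u (𝟙 C) (𝟙 (Spec (CommRingCat.of k))) (Category.comp_id _) ((Category.comp_id _).trans (Category.id_comp _).symm))).obj F) ◁ ((Scheme.Modules.pullback (pullback.snd (u ≫ (T ↘ (Spec (CommRingCat.of k)))) (C ↘ (Spec (CommRingCat.of k))))).map (ClSub.toSubscheme D)).val) :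
          CohB1.tensorMod ((Scheme.Modules.pullback (pullback.map (u ≫ (T ↘ (Spec (CommRingCat.of k)))) (C ↘ (Spec (CommRingCat.of k))) (T ↘ (Spec (CommRingCat.of k))) (C ↘ (Spec (CommRingCat.of k))) u (𝟙 C) (𝟙 (Spec (CommRingCat.of k))) (Category.comp_id _) ((Category.comp_id _).trans (Category.id_comp _).symm))).obj F) ((Scheme.Modules.pullback (pullback.snd (u ≫ (T ↘ (Spec (CommRingCat.of k)))) (C ↘ (Spec (CommRingCat.of k))))).obj (Coh.structureModule C)) ⟶
            CohB1.tensorMod ((Scheme.Modules.pullback (pullback.map (u ≫ (T ↘ (Spec (CommRingCat.of k)))) (C ↘ (Spec (CommRingCat.of k))) (T ↘ (Spec (CommRingCat.of k))) (C ↘ (Spec (CommRingCat.of k))) u (𝟙 C) (𝟙 (Spec (CommRingCat.of k))) (Category.comp_id _) ((Category.comp_id _).trans (Category.id_comp _).symm))).obj F) ((Scheme.Modules.pullback (pullback.snd (u ≫ (T ↘ (Spec (CommRingCat.of k)))) (C ↘ (Spec (CommRingCat.of k))))).obj (ClSub.quotMod D)))) →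
      Epi ((Coh.push (pullback.fst (T ↘ (Spec (CommRingCat.of k))) (C ↘ (Spec (CommRingCat.of k))))).map
        ((CohB1.sheafifyMod (pullback (T ↘ (Spec (CommRingCat.of k))) (C ↘ (Spec (CommRingCat.of k))))).map (CohB1.toPMod F ◁ ((Scheme.Modules.pullback (pullback.snd (T ↘ (Spec (CommRingCat.of k))) (C ↘ (Spec (CommRingCat.of k))))).map (ClSub.toSubscheme D)).val) :
          CohB1.tensorMod F ((Scheme.Modules.pullback (pullback.snd (T ↘ (Spec (CommRingCat.of k))) (C ↘ (Spec (CommRingCat.of k))))).obj (Coh.structureModule C)) ⟶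
            CohB1.tensorMod F ((Scheme.Modules.pullback (pullback.snd (T ↘ (Spec (CommRingCat.of k))) (C ↘ (Spec (CommRingCat.of k))))).obj (ClSub.quotMod D))))) := by
  obtain ⟨_, _, _⟩ := GrothLib.FreeSec29.setup hC hD T (T ↘ (Spec (CommRingCat.of k)))
  haveI := hC.1
  let c := C ↘ (Spec (CommRingCat.of k))
  let a := T ↘ (Spec (CommRingCat.of k))
  let v := pullback.map (u ≫ a) c a c u (𝟙 C) (𝟙 (Spec (CommRingCat.of k))) (Category.comp_id _)
    ((Category.comp_id _).trans (Category.id_comp _).symm)
  have hq : v ≫ pullback.snd a c = pullback.snd (u ≫ a) c :=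
    (pullback.lift_snd _ _ _).trans (Category.comp_id _)
  have hw : v ≫ pullback.fst a c = pullback.fst (u ≫ a) c ≫ u := pullback.lift_fst _ _ _
  have h : IsPullback v (pullback.fst (u ≫ a) c) (pullback.fst a c) u :=
    (IsPullback.of_right (by rw [hq]; exact (IsPullback.of_hasPullback (u ≫ a) c).flip) hw
      (IsPullback.of_hasPullback a c).flip)
  exact GrothLib.FreeSec29.epi_restrict_baseChange h hq (IsPullback.of_hasPullback a c) hF

end Groth.Agent.S15684
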