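import Groth.Statements.S15686
import Groth.Agent.Lib.FrobTors13.Twists
-- import your own Groth.Agent.* helpers here

set_option autoImplicit false
universe u
open CategoryTheory AlgebraicGeometry MonObj
open StackCount

namespace Groth.Agent.S15686

/-- Let k be a finite field with algebraic closure k̄, G a smooth affine algebraic group over k acting
on a variety X over k (reduced and of finite type), and [X/G] the quotient stack whose objects over
a k-scheme T are G-torsors P → T (schemes, locally trivial for the étale topology) with a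
G-equivariant morphism P → X. Suppose the Galois cohomology set H¹(k, G) (continuous cocycles of
Gal(k̄/k) with values in G(k̄), up to equivalence) is finite, and choose for every class c a
continuous cocycle z_c in it, a twist X_c of X by z_c through the action (a k-scheme whose base
change to k̄ is identified with that of X so that the Galois action becomes x ↦ z_c(σ) · σx), and
the inner form G_c of G determined by z_c. If the groupoid of k-points of [X/G] is essentially
finite, then its point count (the sum over isomorphism classes of the inverse orders of the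
automorphism groups) equals the sum over the classes c of #X_c(k) / #G_c(k). (The published
statement is for the k′-points over any finite extension k′ of k and for any smooth algebraic group
G; this row is the case k′ = k, to which the general case reduces by base change, and takes G affine
so that every torsor is a scheme.) -/
theorem result (k : Type u) [Field k] [Finite k]
    (kb : Type u) [Field kb] [Algebra k kb] [IsAlgClosure k kb]
    (G : Over (Spec (CommRingCat.of k))) [GrpObj G] [Smooth G.hom] [IsAffineHom G.hom]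
    (X : Over (Spec (CommRingCat.of k))) [LocallyOfFiniteType X.hom] [QuasiCompact X.hom]
    [IsReduced X.left] (aX : AlgGrp.Action G X)
    [Fintype (GpH1.H1lc (kb ≃ₐ[k] kb) (SGA7.Pts kb G))]
    (z : GpH1.H1lc (kb ≃ₐ[k] kb) (SGA7.Pts kb G) → GpH1.OneCocycleLC (kb ≃ₐ[k] kb) (SGA7.Pts kb G))
    (hz : ∀ c, (z c).cl = c)
    (Xz : GpH1.H1lc (kb ≃ₐ[k] kb) (SGA7.Pts kb G) → Over (Spec (CommRingCat.of k)))
    (hXz : ∀ c, GalTw.IsActTwist kb aX (z c).1 (Xz c))
    (Gin : GpH1.H1lc (kb ≃ₐ[k] kb) (SGA7.Pts kb G) → Over (Spec (CommRingCat.of k)))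
    [∀ c, GrpObj (Gin c)]
    (hGin : ∀ c, GalTw.IsInnTwist kb G (z c).1 (Gin c))
    (h : StkCnt.IsEssFinite (StkCnt.pts (AlgSt.QuotSt Scheme.etalePrecoverage G aX) k)) :
    StkCnt.ptCount (AlgSt.QuotSt Scheme.etalePrecoverage G aX) k h =
      ∑ c : GpH1.H1lc (kb ≃ₐ[k] kb) (SGA7.Pts kb G),
        (Nat.card (SGA7.Pts k (Xz c)) : ℚ) / (Nat.card (SGA7.Pts k (Gin c)) : ℚ) := by
  classical
  haveI : Algebra.IsAlgebraic k kb := IsAlgClosure.isAlgebraic
  haveI : IsAlgClosed kb := IsAlgClosure.isAlgClosed k
  obtain ⟨σ, hσ⟩ := GrothLib.FrobTors13.exists_frob k kb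
  open scoped MonObj in
  haveI : Finite (_root_.Quotient (MulAction.orbitRel (SGA7.Pts kb G) (GrothLib.FrobTors13.Ob aX σ))) := by
    obtain ⟨e, -⟩ := GrothLib.FrobTors13.exists_classEquiv (L := k) (aX := aX) hσ
    haveI := h.finite_isoCl
    exact Finite.of_equiv _ e.symm
  open scoped MonObj in
  letI := Fintype.ofFinite (_root_.Quotient (MulAction.orbitRel (SGA7.Pts kb G) (GrothLib.FrobTors13.Ob aX σ)))
  show StkCnt.count _ h = _
  open scoped MonObj in
  rw [GrothLib.FrobTors13.count_eq (L := k) (aX := aX) hσ h]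
  open scoped MonObj in
  rw [GrothLib.FrobTors13.sum_orbits_fibred (GrothLib.FrobTors13.toTwB aX σ) (fun _ _ => rfl)
    (fun c => GrothLib.FrobTors13.toB (σ := σ) (((z c).1 σ)⁻¹)) ?_ ?_ ?_ ?_]
  · refine Finset.sum_congr rfl fun c _ => ?_
    rw [GrothLib.FrobTors13.card_actTwist hσ (hXz c), GrothLib.FrobTors13.card_innTwist hσ (hGin c)]
    exact congrArg (fun n : ℕ => (n : ℚ) / _) (Nat.card_congr (GrothLib.FrobTors13.fibreEquiv _))
  · intro b
    obtain ⟨w, hw⟩ := GrothLib.FrobTors13.exists_cocycle_of hσ b
    obtain ⟨u, hu⟩ := (GrothLib.FrobTors13.cl_eq_iff hσ (z w.cl) w).1 (hz w.cl)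
    exact ⟨w.cl, u, hu.trans hw⟩
  · intro c c' u hu
    rw [← hz c, ← hz c']
    exact (GrothLib.FrobTors13.cl_eq_iff hσ (z c) (z c')).2 ⟨u, hu⟩
  · intro c
    exact GrothLib.FrobTors13.finite_stabilizer hσ _
  · intro c
    haveI := GrothLib.FrobTors13.finite_twisted (aX := aX) hσ ((z c).1 σ)⁻¹
    exact Finite.of_equiv _ (GrothLib.FrobTors13.fibreEquiv (aX := aX) (σ := σ) ((z c).1 σ)⁻¹).symm


end Groth.Agent.S15686
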