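import Groth.Statements.S15687
import Groth.Agent.Lib.FrobTors13.Exact
import Groth.Agent.Lib.FrobTors13.Twists
-- import your own Groth.Agent.* helpers here

set_option autoImplicit false
universe u
open CategoryTheory AlgebraicGeometry MonObj
open GalTw

namespace Groth.Agent.S15687

section H1

open CategoryTheory CategoryTheory.Limits AlgebraicGeometry MonoidalCategory CartesianMonoidalCategory MonObj GrothLib.FrobTors13

variable {k : Type u} [Field k] [Finite k] {kb : Type u} [Field kb] [Algebra k kb] [IsAlgClosed kb]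
  [Algebra.IsAlgebraic k kb] {A B C : Over (Spec (CommRingCat.of k))} [GrpObj A] [GrpObj B] [GrpObj C]

theorem bijective_H1lcMap [Smooth A.hom] [Smooth B.hom] [Smooth C.hom]
    [QuasiCompact A.hom] [QuasiCompact B.hom] [QuasiCompact C.hom] [ConnectedSpace A.left]
    (i : A ⟶ B) (π : B ⟶ C) [IsMonHom i] [IsMonHom π]
    (hex : NonAbH1.IsExactSeq Scheme.fppfPrecoverage i π) :
    Function.Bijective (GalTw.H1lcMap (GalTw.ptsMap (K := kb) π) (GalTw.ptsMap_smul (K := kb) π)) := by
  obtain ⟨σ, hσ⟩ := exists_frob k kb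
  constructor
  · intro c c' h
    induction c using Quotient.inductionOn with | h z =>
    induction c' using Quotient.inductionOn with | h z' =>
    change (GalTw.lcMap (GalTw.ptsMap (K := kb) π) (GalTw.ptsMap_smul (K := kb) π) z).cl =
      (GalTw.lcMap (GalTw.ptsMap (K := kb) π) (GalTw.ptsMap_smul (K := kb) π) z').cl at h
    obtain ⟨v, hv⟩ := ((cocRes hσ).2 _ _).1 h
    change z'.1.1 σ ≫ π = v * (z.1.1 σ ≫ π) * (σ • v)⁻¹ at hv
    obtain ⟨b, hb⟩ := exists_lift_pt hex v
    set g : SGA7.Pts kb B := z.1.1 σ with hg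
    have hsb : (σ • b) ≫ π = σ • v := by
      rw [GalTw.pts_smul_def, GalTw.pts_smul_def, Category.assoc, hb]
    have hk : (b⁻¹ * z'.1.1 σ * (σ • b) * g⁻¹) ≫ π = 1 := by
      rw [MonObj.mul_comp, MonObj.mul_comp, MonObj.mul_comp, GrpObj.inv_comp, GrpObj.inv_comp, hb, hsb, hv]
      group
    obtain ⟨a, ha, -⟩ := existsUnique_ker hex _ hk
    obtain ⟨w, hw, -⟩ := existsUnique_ker hex (g⁻¹ * (a ≫ i) * g) (by
      rw [MonObj.mul_comp, MonObj.mul_comp, GrpObj.inv_comp, Category.assoc, hex.2.2.1, MonObj.comp_one]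
      group)
    obtain ⟨z₀, w₀, hw₀, hz₀⟩ := exists_conj_lang hσ hex g⁻¹ w⁻¹
    refine ((cocRes hσ).2 z z').2 ⟨b * (z₀⁻¹ ≫ i), ?_⟩
    have e1 : z'.1.1 σ = b * (a ≫ i) * g * (σ • b)⁻¹ := by rw [ha]; group
    have e2 : σ • (b * (z₀⁻¹ ≫ i)) = (σ • b) * ((σ • z₀) ≫ i)⁻¹ := by
      rw [smul_mul', GrpObj.inv_comp, smul_inv']
      congr 2
    have e3 : g⁻¹ * (a ≫ i) * g = ((σ • z₀)⁻¹ * w₀)⁻¹ ≫ i := by rw [← hz₀, inv_inv, hw]
    rw [GrpObj.inv_comp, MonObj.mul_comp, GrpObj.inv_comp, hw₀] at e3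
    rw [e1, e2, GrpObj.inv_comp]
    calc b * (a ≫ i) * g * (σ • b)⁻¹ = b * (g * (g⁻¹ * (a ≫ i) * g)) * (σ • b)⁻¹ := by group
      _ = _ := by rw [e3, hg]; group
  · intro c
    induction c using Quotient.inductionOn with | h w =>
    obtain ⟨b, hb⟩ := exists_lift_pt hex (w.1.1 σ)
    obtain ⟨z, hz⟩ := (cocRes hσ).1.2 b
    refine ⟨z.cl, ?_⟩
    show (GalTw.lcMap (GalTw.ptsMap (K := kb) π) (GalTw.ptsMap_smul (K := kb) π) z).cl = w.cl
    exact congrArg GpH1.OneCocycleLC.cl ((cocRes hσ).1.1 (show z.1.1 σ ≫ π = w.1.1 σ by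
      rw [show z.1.1 σ = b from hz, hb]))

end H1


/-- Let k be a finite field with algebraic closure k̄, and let A, B, C be smooth algebraic groups over k
with homomorphisms i : A → B and π : B → C forming a short exact sequence 1 → A → B → C → 1 (π ∘ i
trivial, B a pseudo-torsor over C under A acting through i, and π acquiring sections fppf-locally on
C), with A connected. Then the map H¹(k, B) → H¹(k, C) induced by π on the continuous Galois
cohomology sets (continuous cocycles of Gal(k̄/k) with values in the k̄-points, up to equivalence)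
is bijective. -/
theorem result (k : Type u) [Field k] [Finite k]
    (kb : Type u) [Field kb] [Algebra k kb] [IsAlgClosure k kb]
    (A B C : Over (Spec (CommRingCat.of k))) [GrpObj A] [GrpObj B] [GrpObj C]
    [Smooth A.hom] [Smooth B.hom] [Smooth C.hom]
    [QuasiCompact A.hom] [QuasiCompact B.hom] [QuasiCompact C.hom]
    (i : A ⟶ B) (π : B ⟶ C) [IsMonHom i] [IsMonHom π]
    (hex : NonAbH1.IsExactSeq Scheme.fppfPrecoverage i π) [ConnectedSpace A.left] :
    Function.Bijective
      (GalTw.H1lcMap (GalTw.ptsMap (K := kb) π) (GalTw.ptsMap_smul (K := kb) π)) := by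
  haveI : Algebra.IsAlgebraic k kb := IsAlgClosure.isAlgebraic
  haveI : IsAlgClosed kb := IsAlgClosure.isAlgClosed k
  exact bijective_H1lcMap i π hex


end Groth.Agent.S15687
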