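import Groth.Statements.S15688
import Groth.Agent.Lib.FrobTors13.Exact
import Groth.Agent.Lib.FrobTors13.Twists
import Mathlib.GroupTheory.QuotientGroup.Basic
-- import your own Groth.Agent.* helpers here

set_option autoImplicit false
universe u
open CategoryTheory AlgebraicGeometry MonoidalCategory CartesianMonoidalCategory MonObj
open StackCount

namespace Groth.Agent.S15688

section Count

open CategoryTheory CategoryTheory.Limits AlgebraicGeometry MonoidalCategory CartesianMonoidalCategory MonObj GrothLib.FrobTors13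

variable {k : Type u} [Field k] [Finite k] {kb : Type u} [Field kb] [Algebra k kb] [IsAlgClosed kb]
  [Algebra.IsAlgebraic k kb] {A B C : Over (Spec (CommRingCat.of k))} [GrpObj A] [GrpObj B] [GrpObj C]

theorem card_stab_mul [Smooth A.hom] [Smooth B.hom] [QuasiCompact A.hom] [ConnectedSpace A.left]
    {σ : kb ≃ₐ[k] kb} (hσ : ∀ x : kb, σ x = x ^ Nat.card k)
    (i : A ⟶ B) (π : B ⟶ C) [IsMonHom i] [IsMonHom π]
    (hex : NonAbH1.IsExactSeq Scheme.fppfPrecoverage i π) (c : AlgGrp.Action B A)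
    (hc : c.act ≫ i = fst B A * (snd B A ≫ i) * (fst B A)⁻¹) (g : SGA7.Pts kb B) :
    Nat.card (MulAction.stabilizer (SGA7.Pts kb B) (toB (σ := σ) g)) =
      Nat.card {x : SGA7.Pts kb A // σ • x = lift g x ≫ c.act} *
        Nat.card (MulAction.stabilizer (SGA7.Pts kb C) (toB (σ := σ) (g ≫ π))) := by
  have hci : ∀ x : SGA7.Pts kb A, (lift g x ≫ c.act) ≫ i = g * (x ≫ i) * g⁻¹ := fun x => by
    rw [Category.assoc, hc, MonObj.comp_mul, MonObj.comp_mul, GrpObj.comp_inv, lift_fst, lift_snd_assoc]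
  have hsi : ∀ x : SGA7.Pts kb A, (σ • x) ≫ i = σ • (x ≫ i) := fun x => Category.assoc _ _ _
  let f : MulAction.stabilizer (SGA7.Pts kb B) (toB (σ := σ) g) →*
      MulAction.stabilizer (SGA7.Pts kb C) (toB (σ := σ) (g ≫ π)) :=
    MonoidHom.mk' (fun b => ⟨b.1 ≫ π, (mem_stabilizer_iff _ _).2 (by
      have h := congrArg (fun u : SGA7.Pts kb B => u ≫ π) ((mem_stabilizer_iff _ _).1 b.2)
      simp only [MonObj.mul_comp, GrpObj.inv_comp] at h
      rw [← h]
      simp only [GalTw.pts_smul_def, Category.assoc])⟩) fun b b' => Subtype.ext (MonObj.mul_comp _ _ π)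
  have hsurj : Function.Surjective f := by
    rintro ⟨v, hv⟩
    rw [mem_stabilizer_iff] at hv
    obtain ⟨b, hb⟩ := exists_lift_pt hex v
    have hsb : (σ • b) ≫ π = σ • v := by
      rw [GalTw.pts_smul_def, GalTw.pts_smul_def, Category.assoc, hb]
    obtain ⟨a, ha, -⟩ := existsUnique_ker hex ((σ • b) * g * b⁻¹ * g⁻¹) (by
      rw [MonObj.mul_comp, MonObj.mul_comp, MonObj.mul_comp, GrpObj.inv_comp, GrpObj.inv_comp, hb, hsb, hv]
      group)
    obtain ⟨z, w, hw, hz⟩ := exists_conj_lang hσ hex g a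
    refine ⟨⟨(z ≫ i) * b, (mem_stabilizer_iff _ _).2 ?_⟩, Subtype.ext ?_⟩
    · have h1 : σ • b = (a ≫ i) * g * b * g⁻¹ := by rw [ha]; group
      rw [smul_mul', ← hsi, h1, hz, MonObj.mul_comp, GrpObj.inv_comp, hw]
      group
    · show ((z ≫ i) * b) ≫ π = v
      rw [MonObj.mul_comp, Category.assoc, hex.2.2.1, MonObj.comp_one, _root_.one_mul, hb]
  let e : {x : SGA7.Pts kb A // σ • x = lift g x ≫ c.act} ≃ f.ker :=
    Equiv.ofBijective (fun x => ⟨⟨x.1 ≫ i, (mem_stabilizer_iff _ _).2 (by rw [← hsi, x.2, hci])⟩,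
      Subtype.ext (show (x.1 ≫ i) ≫ π = 1 by rw [Category.assoc, hex.2.2.1, MonObj.comp_one])⟩)
      ⟨fun x y h => Subtype.ext (ker_inj hex (congrArg (fun z : f.ker => z.1.1) h)), fun ⟨⟨u, hu⟩, hu1⟩ => by
        obtain ⟨w, hw, -⟩ := existsUnique_ker hex u (congrArg Subtype.val hu1)
        refine ⟨⟨w, ker_inj hex ?_⟩, Subtype.ext (Subtype.ext hw)⟩
        rw [hsi, hci, hw]
        exact (mem_stabilizer_iff _ _).1 hu⟩
  rw [Subgroup.card_eq_card_quotient_mul_card_subgroup f.ker,
    Nat.card_congr (QuotientGroup.quotientKerEquivOfSurjective f hsurj).toEquiv, Nat.card_congr e,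
    Nat.mul_comm]

end Count


/-- Let k be a finite field with algebraic closure k̄, and let A, B, C be smooth algebraic groups over k
with homomorphisms i : A → B and π : B → C forming a short exact sequence 1 → A → B → C → 1 (π ∘ i
trivial, B a pseudo-torsor over C under A acting through i, and π acquiring sections fppf-locally on
C), with A connected; let c be the action of B on A by conjugation, i.e. an action with i(b · a) = b
i(a) b⁻¹. Let z be a continuous cocycle of Gal(k̄/k) with values in B(k̄), A_z a twist of A by z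
through the action c, B_z an inner form of B by z, and C_z an inner form of C by the image of z
under π. Then the numbers of k-points satisfy #B_z(k) = #A_z(k) · #C_z(k). -/
theorem result (k : Type u) [Field k] [Finite k]
    (kb : Type u) [Field kb] [Algebra k kb] [IsAlgClosure k kb]
    (A B C : Over (Spec (CommRingCat.of k))) [GrpObj A] [GrpObj B] [GrpObj C]
    [Smooth A.hom] [Smooth B.hom] [Smooth C.hom]
    [QuasiCompact A.hom] [QuasiCompact B.hom] [QuasiCompact C.hom]
    (i : A ⟶ B) (π : B ⟶ C) [IsMonHom i] [IsMonHom π]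
    (hex : NonAbH1.IsExactSeq Scheme.fppfPrecoverage i π) [ConnectedSpace A.left]
    (c : AlgGrp.Action B A) (hc : c.act ≫ i = fst B A * (snd B A ≫ i) * (fst B A)⁻¹)
    (z : GpH1.OneCocycleLC (kb ≃ₐ[k] kb) (SGA7.Pts kb B))
    (Az : Over (Spec (CommRingCat.of k))) (hAz : GalTw.IsActTwist kb c z.1 Az)
    (Bz : Over (Spec (CommRingCat.of k))) [GrpObj Bz] (hBz : GalTw.IsInnTwist kb B z.1 Bz)
    (Cz : Over (Spec (CommRingCat.of k))) [GrpObj Cz]
    (hCz : GalTw.IsInnTwist kb C
      (GalTw.lcMap (GalTw.ptsMap (K := kb) π) (GalTw.ptsMap_smul (K := kb) π) z).1 Cz) :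
    Nat.card (SGA7.Pts k Bz) = Nat.card (SGA7.Pts k Az) * Nat.card (SGA7.Pts k Cz) := by
  haveI : Algebra.IsAlgebraic k kb := IsAlgClosure.isAlgebraic
  haveI : IsAlgClosed kb := IsAlgClosure.isAlgClosed k
  obtain ⟨σ, hσ⟩ := GrothLib.FrobTors13.exists_frob k kb
  open scoped MonObj in
  rw [GrothLib.FrobTors13.card_innTwist hσ hBz, GrothLib.FrobTors13.card_innTwist hσ hCz,
    GrothLib.FrobTors13.card_actTwist hσ hAz, card_stab_mul hσ i π hex c hc,
    show (z.1 σ)⁻¹ ≫ π = ((GalTw.lcMap (GalTw.ptsMap (K := kb) π) (GalTw.ptsMap_smul (K := kb) π) z).1 σ)⁻¹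
      from GrpObj.inv_comp (z.1 σ) π]


end Groth.Agent.S15688
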