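import Groth.Statements.S1569
import Groth.Agent.Lib.DivPts.Local
import Groth.Agent.Lib.SchImage.Reduced

set_option autoImplicit false
universe u
open CategoryTheory CategoryTheory.Limits AlgebraicGeometry
open Divisors

namespace Groth.Agent.S1569

/-- On a Noetherian scheme, an effective Cartier divisor which is integral as a closed subscheme has a
discrete valuation ring as the local ring of the ambient scheme at its generic point. -/
theorem result (X : Scheme.{u}) [IsNoetherian X]
    (D : X.IdealSheafData) (hD : BlowUp.IsEffCartierIdeal D) [IsIntegral D.subscheme]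
    (ξ : X) (hξ : IsGenericPoint ξ (D.support : Set X)) :
    ∃ _ : IsDomain (X.presheaf.stalk ξ), IsDiscreteValuationRing (X.presheaf.stalk ξ) := by
    obtain ⟨U, hxU, f, hf0, hf⟩ := hD ξ
    have hξD : ξ ∈ D.support := hξ.mem
    let pξ := U.2.primeIdealOf ⟨ξ, hxU⟩
    have hI : D.ideal U = pξ.asIdeal := by
      refine le_antisymm ((GrothLib.DivPts.mem_support_iff U.2 hxU D).mp hξD) ?_
      have hker : D = Scheme.IdealSheafData.vanishingIdeal
          (GrothLib.SchImage.closureRange D.subschemeι) := by
        conv_lhs => rw [← D.ker_subschemeι, GrothLib.SchImage.ker_eq_vanishingIdeal]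
      rw [hker, Scheme.IdealSheafData.vanishingIdeal_ideal]
      intro a ha
      rw [PrimeSpectrum.mem_vanishingIdeal]
      intro q hq
      have hqD : U.2.fromSpec q ∈ (D.support : Set X) := by
        rw [← D.range_subschemeι, ← D.subschemeι.isClosedEmbedding.isClosed_range.closure_eq]
        exact hq
      have h1 : U.2.fromSpec pξ ⤳ U.2.fromSpec q := by
        rw [U.2.fromSpec_primeIdealOf]
        exact hξ.specializes hqD
      exact ((PrimeSpectrum.le_iff_specializes pξ q).mpr
        (U.2.fromSpec.isOpenEmbedding.isInducing.specializes_iff.mp h1)) ha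
    let A := X.presheaf.stalk ξ
    let _ : Algebra Γ(X, (U : X.Opens)) A := TopCat.Presheaf.algebra_section_stalk X.presheaf (U := (U : X.Opens)) ⟨ξ, hxU⟩
    have hloc : IsLocalization.AtPrime A pξ.asIdeal := U.2.isLocalization_stalk ⟨ξ, hxU⟩
    have : IsNoetherianRing Γ(X, (U : X.Opens)) := IsLocallyNoetherian.component_noetherian U
    have : IsNoetherianRing A := IsLocalization.isNoetherianRing pξ.asIdeal.primeCompl A inferInstance
    let g : A := algebraMap Γ(X, (U : X.Opens)) A f
    have hm : IsLocalRing.maximalIdeal A = Ideal.span {g} := by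
      rw [← IsLocalization.AtPrime.map_eq_maximalIdeal pξ.asIdeal A, ← hI, hf, Ideal.map_span,
        Set.image_singleton]
    have hg : g ∈ nonZeroDivisors A := by
      rw [mem_nonZeroDivisors_iff_right]
      intro a ha
      obtain ⟨b, s, rfl⟩ := IsLocalization.exists_mk'_eq pξ.asIdeal.primeCompl a
      rw [IsLocalization.mk'_eq_zero_iff]
      have h0 : algebraMap Γ(X, (U : X.Opens)) A (b * f) = 0 := by
        rw [map_mul, ← IsLocalization.mk'_spec A b s, mul_right_comm, ha, zero_mul]
      obtain ⟨c, hc⟩ := (IsLocalization.map_eq_zero_iff pξ.asIdeal.primeCompl A _).mp h0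
      refine ⟨c, (mem_nonZeroDivisors_iff_right.mp hf0) _ ?_⟩
      rwa [mul_assoc]
    have hnz : NoZeroDivisors A := by
      refine ⟨fun {a b} hab => ?_⟩
      have key : ∀ a : A, a ≠ 0 → ∃ (n : ℕ) (v : A), IsUnit v ∧ a = g ^ n * v := by
        intro a ha
        classical
        have hex : ∃ n, a ∉ IsLocalRing.maximalIdeal A ^ n := by
          by_contra! hall
          have : a ∈ ⨅ n, IsLocalRing.maximalIdeal A ^ n := Submodule.mem_iInf _ |>.mpr hall
          rw [Ideal.iInf_pow_eq_bot_of_isLocalRing _ (IsLocalRing.maximalIdeal.isMaximal A).ne_top] at this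
          exact ha this
        have hspec := Nat.find_spec hex
        have hne : Nat.find hex ≠ 0 := fun h => by rw [h, pow_zero, Ideal.one_eq_top] at hspec; exact hspec trivial
        obtain ⟨n, hn⟩ := Nat.exists_eq_succ_of_ne_zero hne
        have hmem : a ∈ IsLocalRing.maximalIdeal A ^ n :=
          not_not.mp (Nat.find_min hex (by omega))
        rw [hm, Ideal.span_singleton_pow, Ideal.mem_span_singleton] at hmem
        obtain ⟨v, rfl⟩ := hmem
        refine ⟨n, v, by_contra fun hv => ?_, rfl⟩
        rw [hn, pow_succ] at hspec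
        exact hspec (Ideal.mul_mem_mul (Ideal.pow_mem_pow (hm ▸ Ideal.mem_span_singleton_self g) n)
          ((IsLocalRing.mem_maximalIdeal v).mpr hv))
      by_contra! hne
      obtain ⟨n, v, hv, rfl⟩ := key a hne.1
      obtain ⟨m, w, hw, rfl⟩ := key b hne.2
      rw [show g ^ n * v * (g ^ m * w) = (v * w) * g ^ (n + m) by ring] at hab
      exact (hv.mul hw).ne_zero ((mem_nonZeroDivisors_iff_right.mp (pow_mem hg (n + m))) _ hab)
    have hdom : IsDomain A := NoZeroDivisors.to_isDomain A
    refine ⟨hdom, ?_⟩
    have hfield : ¬ IsField A := fun h => by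
      have := IsLocalRing.isField_iff_maximalIdeal_eq.mp h
      rw [hm, Ideal.span_singleton_eq_bot] at this
      exact zero_notMem_nonZeroDivisors (this ▸ hg)
    have hp : (IsLocalRing.maximalIdeal A).IsPrincipal := ⟨⟨g, hm⟩⟩
    exact ((IsDiscreteValuationRing.TFAE A hfield).out 0 4).mpr hp

end Groth.Agent.S1569
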