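import Groth.Statements.S15696
import Groth.Agent.Lib.InvFld.Pair

set_option autoImplicit false
universe u
open InvFld

namespace Groth.Agent.S15696

/-- Let k be a characteristic-zero field and suppose a finite group has two faithful finite-dimensional
linear representations V and W over k. Then the fields of invariants k(V)^G and k(W)^G are stably
equivalent. Stated with V = k^n, W = k^m: G and H are finite groups of k-algebra automorphisms of
k(x_1, ..., x_n) and of k(y_1, ..., y_m), each element sending every variable to a k-linear
combination of the variables, and G, H are isomorphic as abstract groups; then for some r, s the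
purely transcendental extension in r variables of the fixed field of G is k-isomorphic to the purely
transcendental extension in s variables of the fixed field of H (existence of an isomorphism only). -/
theorem result (k : Type u) [Field k] [CharZero k] (n m : ℕ)
    (G : Subgroup (InvFld.Fld (Fin n) k ≃ₐ[k] InvFld.Fld (Fin n) k)) [Finite G]
    (H : Subgroup (InvFld.Fld (Fin m) k ≃ₐ[k] InvFld.Fld (Fin m) k)) [Finite H] (e : G ≃* H)
    (hG : ∀ σ ∈ G, ∀ i : Fin n, σ (InvFld.X i) ∈ Submodule.span k (Set.range fun j : Fin n => (InvFld.X j : InvFld.Fld (Fin n) k)))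
    (hH : ∀ τ ∈ H, ∀ i : Fin m, τ (InvFld.X i) ∈ Submodule.span k (Set.range fun j : Fin m => (InvFld.X j : InvFld.Fld (Fin m) k))) :
    ∃ r s : ℕ, Nonempty (InvFld.Fld (Fin r) (IntermediateField.fixedField G) ≃ₐ[k]
      InvFld.Fld (Fin s) (IntermediateField.fixedField H)) := by
  obtain ⟨w⟩ := NoName.stably_equiv G.subtype G.subtype_injective (H.subtype.comp e.toMonoidHom)
    (H.subtype_injective.comp e.injective) (fun g i => hG _ g.2 i) (fun g i => hH _ (e g).2 i)
  rw [Subgroup.range_subtype, MonoidHom.range_comp, MonoidHom.range_eq_top.2 e.surjective,
    ← MonoidHom.range_eq_map, Subgroup.range_subtype] at w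
  exact ⟨m, n, ⟨w⟩⟩

end Groth.Agent.S15696
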