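import Groth.Statements.S15698
import Groth.Agent.Lib.InvFld.Perm
import Groth.Agent.Lib.InvFld.Tower

set_option autoImplicit false
universe u
open InvFld

namespace Groth.Agent.S15698

/-- Let k be a characteristic-zero field; for each faithful finite-dimensional linear representation V
of the symmetric group S_n over k, the field of invariants k(V)^{S_n} is stably pure over k. Stated
with V = k^m: G is a finite group of k-algebra automorphisms of k(x_1, ..., x_m), each sending every
variable to a k-linear combination of the variables, isomorphic as an abstract group to the
symmetric group on n letters; then for some r the rational function field in r variables over the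
fixed field of G is generated over k by finitely many algebraically independent elements. -/
theorem result (k : Type u) [Field k] [CharZero k] (n m : ℕ)
    (G : Subgroup (InvFld.Fld (Fin m) k ≃ₐ[k] InvFld.Fld (Fin m) k)) [Finite G] (e : G ≃* Equiv.Perm (Fin n))
    (hG : ∀ σ ∈ G, ∀ i : Fin m, σ (InvFld.X i) ∈ Submodule.span k (Set.range fun j : Fin m => (InvFld.X j : InvFld.Fld (Fin m) k))) :
    ∃ (r N : ℕ) (t : Fin N → InvFld.Fld (Fin r) (IntermediateField.fixedField G)),
      AlgebraicIndependent k t ∧ IntermediateField.adjoin k (Set.range t) = ⊤ := by
  obtain ⟨w⟩ := NoName.stably_equiv ((NoName.permHom k n).comp e.toMonoidHom)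
    (NoName.permHom_injective.comp e.injective) G.subtype G.subtype_injective
    (fun g i => by
      show NoName.permHom k n (e g) (InvFld.X i) ∈ _
      rw [NoName.permHom_X]; exact Submodule.subset_span ⟨_, rfl⟩)
    (fun g i => hG _ g.2 i)
  obtain ⟨ι⟩ := NoName.nonempty_equiv_fixedField_perm (k := k) (n := n)
  rw [Subgroup.range_subtype, MonoidHom.range_comp, MonoidHom.range_eq_top.2 e.surjective,
    ← MonoidHom.range_eq_map] at w
  obtain ⟨t, h1, h2⟩ := NoName.exists_generators ι w
  exact ⟨n, m + n, t, h1, h2⟩

end Groth.Agent.S15698
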