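import Groth.Statements.S15699
import Groth.Agent.Lib.RetractRat13.Basic
-- import your own Groth.Agent.* helpers here

set_option autoImplicit false
universe u
open CategoryTheory CategoryTheory.Limits AlgebraicGeometry
open RatVar

namespace Groth.Agent.S15699

/-- A direct factor of a k-rational variety is retract rational over k. Here k is an infinite field, X
and Y are integral schemes of finite type over k whose fibre product over k is integral and rational
over k (birational over k, through dense open subschemes, to an affine space over k); the conclusion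
is that some non-empty open subscheme U of X admits k-morphisms U → Y' → U with composite the
identity, Y' an open subscheme of an affine space Spec k[x_1, ..., x_n]. (The published statement
allows any field k; the argument picks a k-rational point of the given open set, so k is taken
infinite here.) -/
theorem result (k : Type u) [Field k] [Infinite k]
    (X Y : Scheme.{u}) (f : X ⟶ Spec (CommRingCat.of k)) (g : Y ⟶ Spec (CommRingCat.of k))
    [IsIntegral X] [LocallyOfFiniteType f] [QuasiCompact f]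
    [IsIntegral Y] [LocallyOfFiniteType g] [QuasiCompact g] [IsIntegral (pullback f g)]
    [Scheme.IsRationalOver (pullback.fst f g ≫ f)] :
    ∃ (U : X.Opens) (n : ℕ) (Y' : (Spec (CommRingCat.of (MvPolynomial (Fin n) k))).Opens)
        (a : (U : Scheme.{u}) ⟶ (Y' : Scheme.{u})) (b : (Y' : Scheme.{u}) ⟶ (U : Scheme.{u})),
        (U : Set X).Nonempty ∧ a ≫ b = 𝟙 (U : Scheme.{u}) ∧
        a ≫ Y'.ι ≫ Spec.map (CommRingCat.ofHom (algebraMap k (MvPolynomial (Fin n) k))) = U.ι ≫ f ∧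
        b ≫ U.ι ≫ f = Y'.ι ≫ Spec.map (CommRingCat.ofHom (algebraMap k (MvPolynomial (Fin n) k))) := by
  obtain ⟨N, W, j, hW, hj, hjs⟩ :=
    GrothLib.RetractRat13.exists_open_iso_of_isRationalOver (pullback.fst f g ≫ f)
  obtain ⟨z, hz⟩ := GrothLib.RetractRat13.exists_point W hW
  let y₀ : Spec (CommRingCat.of k) ⟶ Y := z ≫ j ≫ pullback.snd f g
  have hy₀ : y₀ ≫ g = 𝟙 _ := by
    show (z ≫ j ≫ pullback.snd f g) ≫ g = _
    rw [Category.assoc, Category.assoc, ← pullback.condition, hjs]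
    exact hz
  let i : X ⟶ pullback f g := pullback.lift (𝟙 X) (f ≫ y₀) (by rw [Category.assoc, hy₀, Category.id_comp, Category.comp_id])
  have hi : i ≫ pullback.fst f g = 𝟙 X := pullback.lift_fst _ _ _
  let U : X.Opens := i ⁻¹ᵁ j.opensRange
  let a₀ : (U : Scheme.{u}) ⟶ (W : Scheme.{u}) := IsOpenImmersion.lift j (U.ι ≫ i) (by
    rintro _ ⟨x, rfl⟩
    exact x.2)
  have ha₀ : a₀ ≫ j = U.ι ≫ i := IsOpenImmersion.lift_fac _ _ _
  let b₀ : (W : Scheme.{u}) ⟶ X := j ≫ pullback.fst f g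
  have hab : a₀ ≫ b₀ = U.ι := by
    show a₀ ≫ j ≫ pullback.fst f g = _
    rw [← Category.assoc, ha₀, Category.assoc, hi, Category.comp_id]
  have hb₀ : b₀ ≫ f = W.ι ≫ Spec.map (CommRingCat.ofHom (algebraMap k (MvPolynomial (Fin N) k))) := by
    show (j ≫ pullback.fst f g) ≫ f = _
    rw [Category.assoc, hjs]
  have hne : (U : Set X).Nonempty := by
    have hzi : (z ≫ b₀) ≫ i = z ≫ j := by
      have h1 : (z ≫ b₀) ≫ f = 𝟙 _ := by rw [Category.assoc, hb₀]; exact hz
      ext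
      · simp only [i, Category.assoc, pullback.lift_fst, Category.comp_id]
        rfl
      · simp only [i, Category.assoc, pullback.lift_snd]
        rw [← Category.assoc b₀ f y₀, ← Category.assoc z, show z ≫ b₀ ≫ f = 𝟙 _ from (Category.assoc _ _ _).symm.trans h1, Category.id_comp]
    let o : ↑(Spec (CommRingCat.of k)) := Nonempty.some (inferInstanceAs (Nonempty (PrimeSpectrum k)))
    refine ⟨(z ≫ b₀) o, ⟨z o, ?_⟩⟩
    show j (z o) = i ((z ≫ b₀) o)
    rw [← Scheme.Hom.comp_apply, ← Scheme.Hom.comp_apply, hzi]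
  let t : ((b₀ ⁻¹ᵁ U : (W : Scheme.{u}).Opens) : Scheme.{u}) ⟶
      Spec (CommRingCat.of (MvPolynomial (Fin N) k)) := (b₀ ⁻¹ᵁ U).ι ≫ W.ι
  let a₁ : (U : Scheme.{u}) ⟶ ((b₀ ⁻¹ᵁ U : (W : Scheme.{u}).Opens) : Scheme.{u}) :=
    IsOpenImmersion.lift (b₀ ⁻¹ᵁ U).ι a₀ (by
      rw [Scheme.Opens.range_ι]
      rintro _ ⟨x, rfl⟩
      show b₀ (a₀ x) ∈ U
      rw [← Scheme.Hom.comp_apply, hab]
      exact x.2)
  have ha₁ : a₁ ≫ (b₀ ⁻¹ᵁ U).ι = a₀ := IsOpenImmersion.lift_fac _ _ _
  let b₁ := b₀.resLE U (b₀ ⁻¹ᵁ U) le_rfl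
  have hb₁ : b₁ ≫ U.ι = (b₀ ⁻¹ᵁ U).ι ≫ b₀ := Scheme.Hom.resLE_comp_ι _ _
  refine ⟨U, N, t.opensRange, a₁ ≫ t.isoOpensRange.hom, t.isoOpensRange.inv ≫ b₁, hne, ?_, ?_, ?_⟩
  · rw [Category.assoc, Iso.hom_inv_id_assoc, ← cancel_mono U.ι, Category.assoc, hb₁, ← Category.assoc, ha₁, hab,
      Category.id_comp]
  · rw [Category.assoc, Scheme.Hom.isoOpensRange_hom_ι_assoc]
    show a₁ ≫ ((b₀ ⁻¹ᵁ U).ι ≫ W.ι) ≫ _ = _
    rw [Category.assoc, ← hb₀, reassoc_of% ha₁, reassoc_of% hab]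
  · rw [Category.assoc, reassoc_of% hb₁, hb₀, ← Scheme.Hom.isoOpensRange_inv_comp t]
    show _ = (t.isoOpensRange.inv ≫ (b₀ ⁻¹ᵁ U).ι ≫ W.ι) ≫ _
    simp only [Category.assoc]


end Groth.Agent.S15699
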