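import Groth.Statements.S15700
import Groth.Agent.Lib.RetractRat13.Cut
import Groth.Agent.Lib.Dim.Scheme
-- import your own Groth.Agent.* helpers here

set_option autoImplicit false
universe u
open CategoryTheory AlgebraicGeometry
open RatVar

namespace Groth.Agent.S15700

/-- Over an infinite field k, an integral scheme X of finite type over k that admits a dominant
k-morphism from a k-rational variety admits one from a k-rational variety of the same dimension as
X. Stated with open subschemes of affine spaces: if a non-empty open subscheme of Spec k[x_1, ...,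
x_n] maps dominantly to X over k, then some non-empty open subscheme of some Spec k[x_1, ..., x_m]
with m = dim X maps dominantly to X over k. -/
theorem result (k : Type u) [Field k] [Infinite k]
    (X : Scheme.{u}) (f : X ⟶ Spec (CommRingCat.of k)) [IsIntegral X] [LocallyOfFiniteType f] [QuasiCompact f]
    (n : ℕ) (W : (Spec (CommRingCat.of (MvPolynomial (Fin n) k))).Opens) (hW : (W : Set ↑(Spec (CommRingCat.of (MvPolynomial (Fin n) k)))).Nonempty)
    (φ : (W : Scheme.{u}) ⟶ X) [IsDominant φ] (hφ : φ ≫ f = W.ι ≫ Spec.map (CommRingCat.ofHom (algebraMap k (MvPolynomial (Fin n) k)))) :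
    ∃ (m : ℕ) (W' : (Spec (CommRingCat.of (MvPolynomial (Fin m) k))).Opens) (ψ : (W' : Scheme.{u}) ⟶ X),
      (W' : Set ↑(Spec (CommRingCat.of (MvPolynomial (Fin m) k)))).Nonempty ∧ IsDominant ψ ∧ ψ ≫ f = W'.ι ≫ Spec.map (CommRingCat.ofHom (algebraMap k (MvPolynomial (Fin m) k))) ∧
      (m : WithBot ℕ∞) = topologicalKrullDim X := by
  haveI : Nonempty X := inferInstance
  obtain ⟨U, hU, hxU, -⟩ := exists_isAffineOpen_mem_and_subset (U := (⊤ : X.Opens)) (x := Nonempty.some inferInstance) trivial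
  haveI hUne : Nonempty (U : Scheme.{u}) := ⟨⟨_, hxU⟩⟩
  obtain ⟨ψ, hψ, hψf⟩ := GrothLib.Dim.exists_finiteType_specMap f hU
  letI : Algebra k Γ(X, U) := ψ.hom.toAlgebra
  haveI : Algebra.FiniteType k Γ(X, U) := hψ
  obtain ⟨w, hw⟩ : ((φ ⁻¹ᵁ U : (W : Scheme.{u}).Opens) : Set (W : Scheme.{u})).Nonempty := by
    obtain ⟨_, hy, w, rfl⟩ := φ.denseRange.inter_open_nonempty _ U.2 ⟨_, hxU⟩
    exact ⟨w, hy⟩
  obtain ⟨p, hp, hpW⟩ := GrothLib.RetractRat13.exists_basicOpen_le (W.ι ''ᵁ (φ ⁻¹ᵁ U)) ⟨W.ι w, w, hw, rfl⟩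
  let A := Localization.Away p
  let i₀ : Spec (CommRingCat.of A) ⟶ Spec (CommRingCat.of (MvPolynomial (Fin n) k)) :=
    Spec.map (CommRingCat.ofHom (algebraMap (MvPolynomial (Fin n) k) A))
  have hi₀ : ∀ z, ∃ w' : (W : Scheme.{u}), φ w' ∈ U ∧ W.ι w' = i₀ z := by
    intro z
    obtain ⟨w', hw', he⟩ := hpW (show i₀ z ∈ PrimeSpectrum.basicOpen p from fun h =>
      z.2.ne_top (Ideal.eq_top_of_isUnit_mem _ h (IsLocalization.Away.algebraMap_isUnit p)))
    exact ⟨w', hw', he⟩
  let l : Spec (CommRingCat.of A) ⟶ (W : Scheme.{u}) := IsOpenImmersion.lift W.ι i₀ (by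
    rintro _ ⟨z, rfl⟩
    obtain ⟨w', -, he⟩ := hi₀ z
    exact ⟨w', he⟩)
  have hl : l ≫ W.ι = i₀ := IsOpenImmersion.lift_fac _ _ _
  haveI : IsOpenImmersion (l ≫ W.ι) := by rw [hl]; infer_instance
  haveI : IsOpenImmersion l := IsOpenImmersion.of_comp l W.ι
  have hlU : ∀ z, φ (l z) ∈ U := by
    intro z
    obtain ⟨w', hw', he⟩ := hi₀ z
    have : l z = w' := W.ι.isOpenEmbedding.injective (by rw [← Scheme.Hom.comp_apply, hl, he])
    rwa [this]
  let χ : Spec (CommRingCat.of A) ⟶ Spec Γ(X, U) := IsOpenImmersion.lift hU.fromSpec (l ≫ φ) (by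
    rintro _ ⟨z, rfl⟩
    rw [hU.range_fromSpec]
    exact hlU z)
  have hχ : χ ≫ hU.fromSpec = l ≫ φ := IsOpenImmersion.lift_fac _ _ _
  let ι₀ := Spec.preimage χ
  have hχ' : Spec.map ι₀ = χ := Spec.map_preimage χ
  have hι₀ : ψ ≫ ι₀ = CommRingCat.ofHom (algebraMap k A) := by
    apply Spec.map_injective
    rw [Spec.map_comp, hχ', ← hψf, reassoc_of% hχ, hφ, reassoc_of% hl, ← Spec.map_comp]
    congr 1
  let ι : Γ(X, U) →ₐ[k] A :=
    { ι₀.hom with commutes' := fun r => CategoryTheory.congr_fun hι₀ r }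
  haveI : IsIntegral (W : Scheme.{u}) := by
    haveI : Nonempty (W : Scheme.{u}) := ⟨w⟩
    haveI : IsIntegral (Spec (CommRingCat.of (MvPolynomial (Fin n) k))) := inferInstance
    exact isIntegral_of_isOpenImmersion W.ι
  haveI : IsDomain A :=
    IsLocalization.isDomain_localization (powers_le_nonZeroDivisors_of_noZeroDivisors hp)
  haveI : IsDominant l := by
    refine ⟨l.opensRange.2.dense ?_⟩
    exact Set.range_nonempty _
  have hι : Function.Injective ι := by
    haveI : IsDominant (χ ≫ hU.fromSpec) := by rw [hχ]; infer_instance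
    haveI hd : IsDominant (Spec.map ι₀) := hχ' ▸ IsDominant.of_comp_of_isOpenImmersion χ hU.fromSpec
    have h1 := (PrimeSpectrum.denseRange_comap_iff_ker_le_nilRadical ι₀.hom).1 hd.denseRange
    show Function.Injective ι₀.hom
    rw [RingHom.injective_iff_ker_eq_bot, eq_bot_iff]
    exact h1.trans (le_of_eq (nilradical_eq_zero _))
  obtain ⟨m, hm, q, hq, θ, hθ⟩ := GrothLib.RetractRat13.exists_injective_algHom_away hp ι hι
  obtain ⟨d, hd, hdU⟩ := GrothLib.Dim.exists_nat_dim_open f
  have hdm : (m : WithBot ℕ∞) = topologicalKrullDim X := by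
    obtain ⟨m', hm', hm''⟩ := GrothLib.Dim.exists_nat_trdeg_eq_and_ringKrullDim_eq k Γ(X, U)
    have : m = m' := by rw [hm] at hm'; exact_mod_cast hm'
    rw [hd, ← hdU U hUne, GrothLib.Dim.topologicalKrullDim_affineOpen hU, hm'', this]
  let t : Spec (CommRingCat.of (Localization.Away q)) ⟶ Spec (CommRingCat.of (MvPolynomial (Fin m) k)) :=
    Spec.map (CommRingCat.ofHom (algebraMap (MvPolynomial (Fin m) k) (Localization.Away q)))
  haveI : IsDomain (Localization.Away q) :=
    IsLocalization.isDomain_localization (powers_le_nonZeroDivisors_of_noZeroDivisors hq)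
  let ψ₁ : Spec (CommRingCat.of (Localization.Away q)) ⟶ X :=
    Spec.map (CommRingCat.ofHom θ.toRingHom) ≫ hU.fromSpec
  haveI : IsDominant (Spec.map (CommRingCat.ofHom θ.toRingHom)) :=
    ⟨(PrimeSpectrum.denseRange_comap_iff_ker_le_nilRadical θ.toRingHom).2 (by
      rw [(RingHom.injective_iff_ker_eq_bot θ.toRingHom).1 hθ]; exact bot_le)⟩
  haveI : IsDominant hU.fromSpec := by
    refine ⟨hU.fromSpec.opensRange.2.dense ?_⟩
    show (Set.range hU.fromSpec).Nonempty
    rw [hU.range_fromSpec]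
    exact ⟨_, hxU⟩
  refine ⟨m, t.opensRange, t.isoOpensRange.inv ≫ ψ₁, ?_, inferInstance, ?_, hdm⟩
  · haveI : Nonempty (Spec (CommRingCat.of (Localization.Away q))) := inferInstanceAs (Nonempty (PrimeSpectrum _))
    exact Set.range_nonempty _
  · rw [← Scheme.Hom.isoOpensRange_inv_comp t]
    simp only [ψ₁, t, Category.assoc, hψf, ← Spec.map_comp]
    congr 2
    exact CommRingCat.hom_ext (RingHom.ext fun r => θ.commutes r)


end Groth.Agent.S15700
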