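import Groth.Statements.S15701

-- import your own Groth.Agent.* helpers here

set_option autoImplicit false
universe u
open CategoryTheory AlgebraicGeometry
open RatVar

namespace Groth.Agent.S15701

/-- A faithful action of a finite group on a geometrically integral variety is almost free. Here k is a
field of characteristic zero, X is an integral separated scheme of finite type over k, and the
finite group G acts on X by k-automorphisms through an injective homomorphism to Aut X; the
conclusion is a non-empty G-stable open subscheme U of X such that for every field K and every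
morphism Spec K → X whose image lies in U, an element of G fixing that K-point is the identity. (X
is taken separated: for the affine line with a doubled origin and the involution exchanging the two
origins the action is faithful while every point off the origins is fixed, so no such U exists;
integrality replaces geometric integrality, which is all the codimension argument uses.) -/
theorem result (k : Type u) [Field k] [CharZero k]
    (X : Scheme.{u}) (f : X ⟶ Spec (CommRingCat.of k)) [IsIntegral X] [LocallyOfFiniteType f]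
    [QuasiCompact f] [IsSeparated f]
    (G : Type u) [Group G] [Finite G] (ρ : G →* Aut X)
    (hρ : ∀ g : G, (ρ g).hom ≫ f = f) (hfaith : Function.Injective ρ) :
    ∃ U : X.Opens, (U : Set X).Nonempty ∧ (∀ g : G, (ρ g).hom ⁻¹ᵁ U = U) ∧
      ∀ (K : Type u) [Field K] (x : Spec (CommRingCat.of K) ⟶ X),
        Set.range x.base ⊆ (U : Set X) → ∀ g : G, x ≫ (ρ g).hom = x → g = 1 := by
  classical
  haveI : X.IsSeparated := ⟨by
    rw [show Limits.terminal.from X = f ≫ Limits.terminal.from _ from Subsingleton.elim _ _]
    infer_instance⟩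
  let ι : ∀ g : G, Limits.equalizer (ρ g).hom (𝟙 X) ⟶ X := fun g => Limits.equalizer.ι _ _
  let Z : G → Set X := fun g => Set.range (ι g).base
  have hclosed : ∀ g, IsClosed (Z g) := fun g => (ι g).isClosedEmbedding.isClosed_range
  have hproper : ∀ g, g ≠ 1 → Z g ≠ Set.univ := by
    intro g hg h
    haveI : Surjective (ι g) := ⟨Set.range_eq_univ.1 h⟩
    haveI := isIso_of_isClosedImmersion_of_surjective (Y := X) (ι g)
    refine hg (hfaith ?_)
    rw [map_one]
    ext1
    rw [← cancel_epi (ι g)]
    exact Limits.equalizer.condition _ _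
  have hconj : ∀ (g h : G) (y : X), y ∈ Z (h⁻¹ * g * h) → (ρ h).hom.base y ∈ Z g := by
    rintro g h _ ⟨z, rfl⟩
    have e := Limits.equalizer.condition (ρ (h⁻¹ * g * h)).hom (𝟙 X)
    have e' : (ι (h⁻¹ * g * h) ≫ (ρ h).hom) ≫ (ρ g).hom = (ι (h⁻¹ * g * h) ≫ (ρ h).hom) ≫ 𝟙 X := by
      have hc : (ρ (h⁻¹ * g * h)).hom ≫ (ρ h).hom = (ρ h).hom ≫ (ρ g).hom := by
        show (ρ h * ρ (h⁻¹ * g * h)).hom = (ρ g * ρ h).hom
        rw [← map_mul, ← map_mul]
        congr 2
        group
      have e₂ := e =≫ (ρ h).hom
      simp only [Category.assoc, Category.id_comp, Category.comp_id] at e₂ ⊢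
      rw [← hc]
      exact e₂
    refine ⟨(Limits.equalizer.lift _ e').base z, ?_⟩
    rw [← Scheme.Hom.comp_apply, Limits.equalizer.lift_ι, Scheme.Hom.comp_apply]
  let U : X.Opens := ⟨⋂ g : {g : G // g ≠ 1}, (Z g.1)ᶜ,
    isOpen_iInter_of_finite fun g => (hclosed g.1).isOpen_compl⟩
  have hne : (U : Set X).Nonempty := by
    suffices key : ∀ s : Finset G, (∀ g ∈ s, g ≠ 1) → (⋂ g ∈ s, (Z g)ᶜ).Nonempty by
      haveI := Fintype.ofFinite G
      obtain ⟨y, hy⟩ := key (Finset.univ.filter (· ≠ 1)) (by simp)
      exact ⟨y, Set.mem_iInter.2 fun g => Set.mem_iInter₂.1 hy g.1 (by simpa using g.2)⟩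
    intro s hs
    induction s using Finset.induction_on with
    | empty => simpa using (inferInstance : Nonempty X)
    | insert a s ha ih =>
      rw [Finset.set_biInter_insert]
      exact nonempty_preirreducible_inter (hclosed a).isOpen_compl
        (isOpen_biInter_finset fun g _ => (hclosed g).isOpen_compl)
        (Set.nonempty_compl.2 (hproper a (hs a (by simp)))) (ih fun g hg => hs g (by simp [hg]))
  have hmem : ∀ y : X, y ∈ U ↔ ∀ g, g ≠ 1 → y ∉ Z g := fun y =>
    ⟨fun h g hg => Set.mem_iInter.1 h ⟨g, hg⟩, fun h => Set.mem_iInter.2 fun g => h g.1 g.2⟩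
  have hfwd : ∀ (g : G) (y : X), (ρ g).hom.base y ∈ U → y ∈ U := by
    intro h y hy
    rw [hmem] at hy ⊢
    intro g hg hZ
    refine hy (h * g * h⁻¹) (by simpa [conj_eq_one_iff] using hg) (hconj _ h y ?_)
    simpa [_root_.mul_assoc] using hZ
  refine ⟨U, hne, fun g => ?_, fun K _ x hx g hg => ?_⟩
  · ext y
    refine ⟨hfwd g y, fun hy => hfwd g⁻¹ ((ρ g).hom.base y) ?_⟩
    have e : (ρ g).hom ≫ (ρ g⁻¹).hom = 𝟙 X := by
      show (ρ g⁻¹ * ρ g).hom = 𝟙 X
      rw [← map_mul, inv_mul_cancel, map_one]
      rfl
    have e₂ : (ρ g⁻¹).hom.base ((ρ g).hom.base y) = y := congrArg (fun m : X ⟶ X => m.base y) e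
    rw [e₂]
    exact hy
  · by_contra hne'
    refine (hmem _).1 (hx ⟨IsLocalRing.closedPoint K, rfl⟩) g hne' ?_
    refine ⟨(Limits.equalizer.lift x (by rw [hg, Category.comp_id])).base (IsLocalRing.closedPoint K), ?_⟩
    exact congrArg (fun m : Spec (CommRingCat.of K) ⟶ X => m.base (IsLocalRing.closedPoint K)) (Limits.equalizer.lift_ι _ _)

end Groth.Agent.S15701
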