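import Groth.Statements.S15702
import Groth.Agent.Lib.AugId.Basic
import Groth.Agent.Lib.HopfAG.Trig
import Groth.Agent.Lib.HopfAG.Dense
import Groth.Agent.Lib.Hopf.UnitsGroupLike
import Groth.Agent.Lib.GrpSchField.TensorDomain
import Mathlib.RingTheory.UniqueFactorizationDomain.Basic

set_option autoImplicit false
universe u
open GLin

namespace Groth.Agent.S15702

open WithConv

/-- Let k be algebraically closed of characteristic zero, let G be a connected linear algebraic group
over k without non-trivial characters acting on an integral affine k-variety Spec B of finite type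
with B a unique factorisation domain; then the field of G-invariant rational functions is the
fraction field of the ring of invariants B^G. In coordinate-ring form: A is a commutative Hopf
algebra of finite type over k, a domain, whose only group-like element is 1; B is a k-algebra of
finite type, a domain and a unique factorisation monoid, with a coaction of A that is an algebra
map; k-points φ : A →ₐ[k] k act on B through the coaction. If f, g ∈ B, g ≠ 0, satisfy (φ·f) g = f
(φ·g) for all φ, then f g' = f' g for some f', g' ∈ B fixed by all φ with g' ≠ 0. (The published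
lemma allows G disconnected with character-free identity component; this row is the connected case
treated first in its proof.) -/
theorem result (k : Type u) [Field k] [IsAlgClosed k] [CharZero k]
    (A : Type u) [CommRing A] [HopfAlgebra k A] [Algebra.FiniteType k A] [IsDomain A]
    (hchar : ∀ a : A, IsGroupLikeElem k a → a = 1)
    (B : Type u) [CommRing B] [Algebra k B] [Algebra.FiniteType k B] [IsDomain B] [UniqueFactorizationMonoid B]
    [HopfRep.Comod k A B] [GLin.IsCoactAlg k A B]
    (f g : B) (hg : g ≠ 0)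
    (hinv : ∀ φ : A →ₐ[k] k, HopfRep.Comod.act k A B φ f * g = f * HopfRep.Comod.act k A B φ g) :
    ∃ f' g' : B, (∀ φ : A →ₐ[k] k, HopfRep.Comod.act k A B φ f' = f') ∧
      (∀ φ : A →ₐ[k] k, HopfRep.Comod.act k A B φ g' = g') ∧ g' ≠ 0 ∧ f * g' = f' * g := by
  classical
  let act : (A →ₐ[k] k) → (B →ₐ[k] B) := fun φ =>
    ((Algebra.TensorProduct.rid k k B).toAlgHom.comp
      (Algebra.TensorProduct.map (AlgHom.id k B) φ)).comp (GLin.coactAlgHom k A B)
  have hact : ∀ φ b, HopfRep.Comod.act k A B φ b = act φ b := fun φ b => by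
    show TensorProduct.rid k B (φ.toLinearMap.lTensor B (HopfRep.Comod.coact (k := k) (A := A) b)) =
      Algebra.TensorProduct.rid k k B (Algebra.TensorProduct.map (AlgHom.id k B) φ
        (HopfRep.Comod.coact (k := k) (A := A) b))
    induction HopfRep.Comod.coact (k := k) (A := A) b using TensorProduct.induction_on with
    | zero => simp
    | tmul p q => simp
    | add p q hp hq => simp only [map_add, hp, hq]
  have hinvl : ∀ (φ : A →ₐ[k] k) (b : B),
      act (GrothLib.AugId.pinv φ) (act φ b) = b ∧ act φ (act (GrothLib.AugId.pinv φ) b) = b := by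
    intro φ b
    rw [← hact, ← hact, ← hact, ← hact]
    have aux : ∀ ψ χ : A →ₐ[k] k, toConv ψ * toConv χ = 1 →
        HopfRep.Comod.act k A B ψ (HopfRep.Comod.act k A B χ b) = b := fun ψ χ h => by
      show GrothLib.Hopf.Comod.op ψ.toLinearMap (GrothLib.Hopf.Comod.op χ.toLinearMap b) = b
      rw [GrothLib.Trig.op_op]
      have e : LinearMap.mul' k k ∘ₗ TensorProduct.map ψ.toLinearMap χ.toLinearMap ∘ₗ Coalgebra.comul =
          (toConv ψ * toConv χ).ofConv.toLinearMap :=
        congrArg WithConv.ofConv (AlgHom.toLinearMap_convMul (toConv ψ) (toConv χ)).symm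
      rw [e, h]
      exact GrothLib.Hopf.Comod.op_counit b
    exact ⟨aux _ _ (GrothLib.AugId.pinv_mul φ), aux _ _ (GrothLib.AugId.mul_pinv φ)⟩
  have hne : ∀ (φ : A →ₐ[k] k) (b : B), b ≠ 0 → act φ b ≠ 0 := fun φ b hb h => hb <| by
    rw [← (hinvl φ b).1, h, map_zero]
  simp only [hact] at hinv ⊢
  rcases eq_or_ne f 0 with rfl | hf
  · exact ⟨0, 1, fun φ => map_zero _, fun φ => map_one _, one_ne_zero, by rw [zero_mul, zero_mul]⟩
  obtain ⟨f0, g0, d, hcop, hfd, hgd⟩ := UniqueFactorizationMonoid.exists_reduced_factors' f g hg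
  have hd : d ≠ 0 := fun h => hg (by rw [← hgd, h, zero_mul])
  have hg0 : g0 ≠ 0 := fun h => hg (by rw [← hgd, h, mul_zero])
  have hf0 : f0 ≠ 0 := fun h => hf (by rw [← hfd, h, mul_zero])
  have hrel : ∀ φ, act φ f0 * g0 = f0 * act φ g0 := fun φ => by
    refine mul_left_cancel₀ (mul_ne_zero (hne φ d hd) hd) ?_
    have := hinv φ
    rw [← hfd, ← hgd, map_mul, map_mul] at this
    linear_combination this
  have hu : ∀ φ, ∃ u : B, act φ g0 = g0 * u ∧ act φ f0 = f0 * u := fun φ => by
    obtain ⟨u, hu⟩ : g0 ∣ act φ g0 := hcop.symm.dvd_of_dvd_mul_left ⟨act φ f0, by rw [← hrel φ]; ring⟩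
    refine ⟨u, hu, mul_right_cancel₀ hg0 ?_⟩
    rw [hrel φ, hu]; ring
  have hunit : ∀ φ u, act φ g0 = g0 * u → IsUnit u := fun φ u hu1 => by
    obtain ⟨w, hw, -⟩ := hu (GrothLib.AugId.pinv φ)
    have h2 := (hinvl φ g0).2
    rw [hw, map_mul, hu1, mul_assoc] at h2
    exact IsUnit.of_mul_eq_one _ (mul_left_cancel₀ hg0 (h2.trans (mul_one g0).symm))
  have hconn : ∀ e : A, IsIdempotentElem e → e = 0 ∨ e = 1 := fun e he =>
    IsIdempotentElem.iff_eq_zero_or_one.mp he
  have hfix : ∀ φ, act φ g0 = g0 := by
    intro φ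
    obtain ⟨u, hu1, -⟩ := hu φ
    refine sub_eq_zero.mp ((mul_eq_zero.mp (?_ : g0 * (act φ g0 - g0) = 0)).resolve_left hg0)
    by_contra hc
    obtain ⟨x, hxne⟩ := GrothLib.GrpSchField.exists_algHom_ne_zero (L := k) hc
    refine hxne ?_
    rcases eq_or_ne (x g0) 0 with hx | hx
    · rw [map_mul, hx, zero_mul]
    let a : A := (x g0)⁻¹ • GrothLib.Comodule.cfMap (C := A) x.toLinearMap g0
    have ha : ∀ ψ : A →ₐ[k] k, ψ a = (x g0)⁻¹ * x (act ψ g0) := fun ψ => by
      rw [map_smul, GrothLib.Dense.dual_act', smul_eq_mul, hact]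
      rfl
    have haU : IsUnit a := by
      by_contra hna
      obtain ⟨m, hm, ham⟩ := Ideal.exists_le_maximal _ (Ideal.span_singleton_eq_top.not.mpr hna)
      haveI : IsJacobsonRing A := isJacobsonRing_of_finiteType (A := k)
      letI := Ideal.Quotient.field m
      haveI : Module.Finite k (A ⧸ m) := finite_of_finite_type_of_isJacobsonRing k (A ⧸ m)
      let i : k ≃ₐ[k] A ⧸ m := AlgEquiv.ofBijective (Algebra.ofId k (A ⧸ m))
        (IsAlgClosed.algebraMap_bijective_of_isIntegral (k := k) (K := A ⧸ m))
      let ψ : A →ₐ[k] k := i.symm.toAlgHom.comp (Ideal.Quotient.mkₐ k m)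
      have h0 : ψ a = 0 := by
        show i.symm (Ideal.Quotient.mk m a) = 0
        rw [Ideal.Quotient.eq_zero_iff_mem.mpr (ham (Ideal.mem_span_singleton_self a)), map_zero]
      obtain ⟨v, hv, -⟩ := hu ψ
      rw [ha, hv, map_mul, ← mul_assoc, inv_mul_cancel₀ hx, one_mul] at h0
      exact ((hunit ψ v hv).map x).ne_zero h0
    have hε : Coalgebra.counit (R := k) a = 1 := by
      rw [map_smul, GrothLib.Comodule.counit_cfMap, smul_eq_mul]
      exact inv_mul_cancel₀ hx
    have ha1 := hchar a (GrothLib.Hopf.UnitsGroupLike.isGroupLike_of_isUnit hconn haU hε)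
    have h1 := ha φ
    rw [ha1, map_one] at h1
    rw [map_mul, map_sub, show x (act φ g0) = x g0 from ?_, sub_self, mul_zero]
    field_simp at h1
    exact h1.symm
  refine ⟨f0, g0, fun φ => ?_, hfix, hg0, by rw [← hfd, ← hgd]; ring⟩
  exact mul_right_cancel₀ hg0 ((hrel φ).trans (by rw [hfix φ]))

end Groth.Agent.S15702
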