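import Groth.Statements.S15705
import Groth.Agent.Lib.HopfAG.LieKolchin
import Mathlib.RingTheory.EssentialFiniteness
import Mathlib.FieldTheory.IntermediateField.Adjoin.Basic
import Mathlib.RingTheory.Localization.FractionRing
import Mathlib.RingTheory.Localization.NumDen
import Mathlib.LinearAlgebra.Dual.Lemmas
import Mathlib.Tactic.LinearCombination

set_option autoImplicit false
set_option linter.style.haveILetI false

universe u
open GLin

namespace Groth.Agent.S15705

open TensorProduct in
theorem intermediateField_fg {k K : Type*} [Field k] [Field K] [Algebra k K] [Algebra.EssFiniteType k K]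
    (E : IntermediateField k K) : ∃ s : Finset K, E = IntermediateField.adjoin k (s : Set K) := by
  classical
  haveI : IsNoetherianRing (K ⊗[k] K) := Algebra.EssFiniteType.isNoetherianRing K _
  let δ : K → K ⊗[k] K := fun x => x ⊗ₜ[k] (1 : K) - (1 : K) ⊗ₜ[k] x
  obtain ⟨t, ht, htspan⟩ := (Submodule.fg_span_iff_fg_span_finset_subset _).1
    (IsNoetherian.noetherian (Submodule.span (K ⊗[k] K) (δ '' (E : Set K))))
  obtain ⟨s, hs, rfl⟩ := Finset.subset_set_image_iff.1 ht
  refine ⟨s, le_antisymm (fun x hx => ?_) (IntermediateField.adjoin_le_iff.2 hs)⟩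
  by_contra hx'
  let E₀ := IntermediateField.adjoin k (s : Set K)
  let π : K ⊗[k] K →ₐ[k] K ⊗[E₀] K := Algebra.TensorProduct.lift
    ((Algebra.TensorProduct.includeLeft : K →ₐ[E₀] K ⊗[E₀] K).restrictScalars k)
    ((Algebra.TensorProduct.includeRight : K →ₐ[E₀] K ⊗[E₀] K).restrictScalars k) (fun _ _ => Commute.all _ _)
  have hmove : ∀ z ∈ E₀, z ⊗ₜ[E₀] (1 : K) = (1 : K) ⊗ₜ[E₀] z := fun z hz => by
    have e : z = (⟨z, hz⟩ : E₀) • (1 : K) := (mul_one z).symm
    rw [e, TensorProduct.smul_tmul]
  have hπ : ∀ y ∈ Submodule.span (K ⊗[k] K) (↑(s.image δ) : Set (K ⊗[k] K)), π y = 0 := fun y hy => by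
    induction hy using Submodule.span_induction with
    | mem w hw =>
      obtain ⟨z, hz, rfl⟩ := Finset.mem_image.1 hw
      simp only [δ, map_sub, π, Algebra.TensorProduct.lift_tmul, map_one, _root_.mul_one, _root_.one_mul,
        AlgHom.restrictScalars_apply, Algebra.TensorProduct.includeLeft_apply,
        Algebra.TensorProduct.includeRight_apply]
      rw [hmove z (IntermediateField.subset_adjoin k _ hz), sub_self]
    | zero => exact map_zero π
    | add a b _ _ ha hb => rw [map_add, ha, hb, add_zero]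
    | smul c a _ ha => rw [smul_eq_mul, map_mul, ha, mul_zero]
  have h0 : π (δ x) = 0 := hπ _ (by rw [← htspan]; exact Submodule.subset_span ⟨x, hx, rfl⟩)
  simp only [δ, map_sub, π, Algebra.TensorProduct.lift_tmul, map_one, _root_.mul_one, _root_.one_mul,
    AlgHom.restrictScalars_apply, Algebra.TensorProduct.includeLeft_apply,
    Algebra.TensorProduct.includeRight_apply, sub_eq_zero] at h0
  have hx1 : x ∉ Submodule.span E₀ {(1 : K)} := by
    rw [Submodule.mem_span_singleton]
    rintro ⟨c, rfl⟩
    exact hx' (by rw [Algebra.smul_def, mul_one]; exact c.2)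
  obtain ⟨f, hf1, hf2⟩ := Submodule.exists_dual_map_eq_bot_of_notMem hx1 inferInstance
  have h2 := congrArg (fun w => TensorProduct.lid E₀ K (f.rTensor K w)) h0
  have h3 : f 1 = 0 := by
    have := Submodule.mem_map_of_mem (f := f) (Submodule.mem_span_singleton_self (1 : K))
    rwa [hf2, Submodule.mem_bot] at this
  simp only [LinearMap.rTensor_tmul, TensorProduct.lid_tmul, h3, zero_smul] at h2
  exact hf1 ((smul_eq_zero.1 h2).resolve_right one_ne_zero)


/-- Let k be algebraically closed of characteristic zero, G a linear algebraic group and X a factorial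
affine G-variety with k[X]* = k*; then there is a G-invariant affine open U of X such that the field
of G-invariant rational functions is the fraction field of k[U]^G. In coordinate-ring form: A is a
commutative Hopf algebra of finite type over k coacting by an algebra map on B, a finitely generated
k-algebra which is a domain and a unique factorisation monoid all of whose units are scalars;
k-points φ : A →ₐ[k] k of G act on B through the coaction. Conclusion: there is h ≠ 0 in B with D(h)
stable under every φ (φ·h divides a power of h) such that whenever a, b ∈ B, b ≠ 0, satisfy (φ·a) b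
= a (φ·b) for all φ (the fraction a/b is invariant), there are c, d ∈ B and exponents r, t with d ≠
0, with c/h^r and d/h^t invariant in B[1/h] — that is (φ·c) h^r = c (φ·h)^r and (φ·d) h^t = d
(φ·h)^t for all φ — and a d h^r = b c h^t (so a/b = (c/h^r)/(d/h^t)). -/
theorem result (k : Type u) [Field k] [IsAlgClosed k] [CharZero k]
    (A : Type u) [CommRing A] [HopfAlgebra k A] [Algebra.FiniteType k A]
    (B : Type u) [CommRing B] [Algebra k B] [Algebra.FiniteType k B] [IsDomain B] [UniqueFactorizationMonoid B]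
    (hunits : ∀ u : Bˣ, ∃ c : k, algebraMap k B c = u)
    [HopfRep.Comod k A B] [GLin.IsCoactAlg k A B] :
    ∃ h : B, h ≠ 0 ∧ (∀ φ : A →ₐ[k] k, ∃ (N : ℕ) (u : B), HopfRep.Comod.act k A B φ h * u = h ^ N) ∧
      ∀ a b : B, b ≠ 0 → (∀ φ : A →ₐ[k] k, HopfRep.Comod.act k A B φ a * b = a * HopfRep.Comod.act k A B φ b) →
        ∃ (c d : B) (r t : ℕ), d ≠ 0 ∧
          (∀ φ : A →ₐ[k] k, HopfRep.Comod.act k A B φ c * h ^ r = c * (HopfRep.Comod.act k A B φ h) ^ r) ∧
          (∀ φ : A →ₐ[k] k, HopfRep.Comod.act k A B φ d * h ^ t = d * (HopfRep.Comod.act k A B φ h) ^ t) ∧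
          a * d * h ^ r = b * c * h ^ t := by
  classical
  let act := fun φ : A →ₐ[k] k => HopfRep.Comod.act k A B φ
  let σB : (A →ₐ[k] k) → B →ₐ[k] B := fun φ =>
    ((Algebra.TensorProduct.rid k k B).toAlgHom.comp (Algebra.TensorProduct.map (AlgHom.id k B) φ)).comp
      (GLin.coactAlgHom k A B)
  have hσB : ∀ φ b, σB φ b = act φ b := fun φ b => by
    change Algebra.TensorProduct.rid k k B (Algebra.TensorProduct.map (AlgHom.id k B) φ
      (HopfRep.Comod.coact (k := k) (A := A) b)) = TensorProduct.rid k B (φ.toLinearMap.lTensor B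
        (HopfRep.Comod.coact (k := k) (A := A) b))
    induction HopfRep.Comod.coact (k := k) (A := A) b using TensorProduct.induction_on with
    | zero => simp
    | tmul p q => simp
    | add p q hp hq => simp only [map_add, hp, hq]
  have hinv : ∀ (φ : A →ₐ[k] k) (b : B), act (φ.comp (HopfAlgebra.antipodeAlgHom k A)) (act φ b) = b := fun φ b => by
    have h := GrothLib.LieKolchin.act_mul (V := B) (WithConv.toConv (φ.comp (HopfAlgebra.antipodeAlgHom k A)))
      (WithConv.toConv φ)
    rw [GrothLib.Hopf.comp_antipode_mul, GrothLib.LieKolchin.act_one] at h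
    exact (LinearMap.congr_fun h b).symm
  let K := FractionRing B
  have hinjK : ∀ φ, Function.Injective ((IsScalarTower.toAlgHom k B K).comp (σB φ)) := fun φ =>
    (IsFractionRing.injective B K).comp fun x y h => by
      rw [← hinv φ x, ← hinv φ y, ← hσB φ x, ← hσB φ y]
      exact congrArg _ h
  let σ : (A →ₐ[k] k) → K →+* K := fun φ => IsFractionRing.lift (hinjK φ)
  have hσ : ∀ φ b, σ φ (algebraMap B K b) = algebraMap B K (act φ b) := fun φ b => by
    rw [← hσB]; exact IsFractionRing.lift_algebraMap (hinjK φ) b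
  let E : IntermediateField k K :=
    { carrier := {z | ∀ φ, σ φ z = z}
      mul_mem' := fun ha hb φ => by rw [map_mul, ha φ, hb φ]
      one_mem' := fun φ => map_one _
      add_mem' := fun ha hb φ => by rw [map_add, ha φ, hb φ]
      zero_mem' := fun φ => map_zero _
      algebraMap_mem' := fun c φ => by
        rw [IsScalarTower.algebraMap_apply k B K, hσ, ← hσB, AlgHom.commutes]
      inv_mem' := fun z hz φ => by rw [map_inv₀, hz φ] }
  haveI : Algebra.EssFiniteType k K := Algebra.EssFiniteType.comp k B K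
  obtain ⟨s, hs⟩ := intermediateField_fg E
  let den : K → B := fun z => (IsFractionRing.den B z : B)
  let num : K → B := fun z => IsFractionRing.num B z
  have hden0 : ∀ z, den z ≠ 0 := fun z => nonZeroDivisors.ne_zero (IsFractionRing.den B z).2
  have hnd : ∀ z : K, z * algebraMap B K (den z) = algebraMap B K (num z) := fun z => by
    have h := IsLocalization.mk'_spec K (IsFractionRing.num B z) (IsFractionRing.den B z)
    rw [IsFractionRing.mk'_num_den] at h
    exact h
  have hsemi : ∀ z ∈ E, ∀ φ, ∃ c : k, c ≠ 0 ∧ act φ (den z) = algebraMap k B c * den z := by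
    intro z hz φ
    have hdvd : ∀ ψ, den z ∣ act ψ (den z) := fun ψ => by
      have h := congrArg (σ ψ) (hnd z)
      rw [map_mul, hz ψ, hσ, hσ] at h
      have h' : act ψ (den z) * num z = act ψ (num z) * den z := IsFractionRing.injective B K (by
        rw [map_mul, map_mul, ← h, ← hnd z]; ring)
      exact (IsFractionRing.num_den_reduced B z).symm.dvd_of_dvd_mul_right ⟨act ψ (num z), by rw [h', mul_comm]⟩
    have h1 : act φ (den z) ∣ den z := by
      obtain ⟨w, hw⟩ := hdvd (φ.comp (HopfAlgebra.antipodeAlgHom k A))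
      obtain ⟨c, hc⟩ := hdvd φ
      have h2 : den z = den z * (act (φ.comp (HopfAlgebra.antipodeAlgHom k A)) c * w) := by
        conv_lhs => rw [← hinv φ (den z), hc, ← hσB, map_mul, hσB, hσB, hw]
        ring
      have h3 : act (φ.comp (HopfAlgebra.antipodeAlgHom k A)) c * w = 1 :=
        (mul_left_cancel₀ (hden0 z) (by rw [mul_one]; exact h2.symm))
      have hcu : IsUnit (σB φ (act (φ.comp (HopfAlgebra.antipodeAlgHom k A)) c)) :=
        (IsUnit.of_mul_eq_one w h3).map (σB φ)
      have hc' : σB φ (act (φ.comp (HopfAlgebra.antipodeAlgHom k A)) c) = c := by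
        have h := GrothLib.LieKolchin.act_mul (V := B) (WithConv.toConv φ)
          (WithConv.toConv (φ.comp (HopfAlgebra.antipodeAlgHom k A)))
        rw [show WithConv.toConv φ * WithConv.toConv (φ.comp (HopfAlgebra.antipodeAlgHom k A)) = 1 from GrothLib.Hopf.mul_pinv (WithConv.toConv φ), GrothLib.LieKolchin.act_one] at h
        rw [hσB]; exact (LinearMap.congr_fun h c).symm
      rw [hc'] at hcu
      rw [hc]
      exact (hcu.mul_right_dvd).2 dvd_rfl
    obtain ⟨v, hv⟩ := associated_of_dvd_dvd (hdvd φ) h1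
    obtain ⟨c, hc⟩ := hunits v
    refine ⟨c, fun h0 => v.ne_zero (by rw [← hc, h0, map_zero]), ?_⟩
    rw [← hv, hc, mul_comm]
  let h : B := ∏ z ∈ s, den z
  have hh0 : h ≠ 0 := Finset.prod_ne_zero_iff.2 fun z _ => hden0 z
  have hsE : ∀ z ∈ s, z ∈ E := fun z hz => by rw [hs]; exact IntermediateField.subset_adjoin k _ hz
  have hh : ∀ φ, ∃ c : k, c ≠ 0 ∧ act φ h = algebraMap k B c * h := by
    intro φ
    choose! c hc0 hc using fun z (hz : z ∈ s) => hsemi z (hsE z hz) φ
    refine ⟨∏ z ∈ s, c z, Finset.prod_ne_zero_iff.2 hc0, ?_⟩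
    rw [← hσB, map_prod, map_prod, ← Finset.prod_mul_distrib]
    exact Finset.prod_congr rfl fun z hz => by rw [hσB]; exact hc z hz
  refine ⟨h, hh0, fun φ => ?_, fun a b hb hab => ?_⟩
  · obtain ⟨c, hc0, hc⟩ := hh φ
    refine ⟨1, algebraMap k B c⁻¹, ?_⟩
    change act φ h * _ = _
    rw [hc, pow_one, mul_right_comm, ← map_mul, mul_inv_cancel₀ hc0, map_one, one_mul]
  let Good : K → Prop := fun y => y ∈ E ∧ ∃ (c : B) (r : ℕ), y * algebraMap B K (h ^ r) = algebraMap B K c
  have hgood : ∀ y ∈ Algebra.adjoin k (s : Set K), Good y := by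
    intro y hy
    induction hy using Algebra.adjoin_induction with
    | mem z hz =>
      refine ⟨hsE z hz, num z * ∏ w ∈ s.erase z, den w, 1, ?_⟩
      rw [pow_one, show h = den z * ∏ w ∈ s.erase z, den w from (Finset.mul_prod_erase s den hz).symm, map_mul,
        map_mul, ← mul_assoc, hnd]
    | algebraMap c =>
      exact ⟨E.algebraMap_mem c, algebraMap k B c, 0, by
        rw [pow_zero, map_one, mul_one, IsScalarTower.algebraMap_apply k B K]⟩
    | add p q _ _ hp hq =>
      obtain ⟨hpE, c, r, hc⟩ := hp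
      obtain ⟨hqE, d, t, hd⟩ := hq
      exact ⟨E.add_mem hpE hqE, c * h ^ t + d * h ^ r, r + t, by
        rw [pow_add, map_mul, map_add, map_mul, map_mul, ← hc, ← hd]; ring⟩
    | mul p q _ _ hp hq =>
      obtain ⟨hpE, c, r, hc⟩ := hp
      obtain ⟨hqE, d, t, hd⟩ := hq
      exact ⟨E.mul_mem hpE hqE, c * d, r + t, by rw [pow_add, map_mul, map_mul, ← hc, ← hd]; ring⟩
  have hbK : algebraMap B K b ≠ 0 := (map_ne_zero_iff _ (IsFractionRing.injective B K)).2 hb
  let z : K := algebraMap B K a / algebraMap B K b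
  have hzE : z ∈ E := fun φ => by
    have hb' : algebraMap B K (act φ b) ≠ 0 := (map_ne_zero_iff _ (IsFractionRing.injective B K)).2 fun h0 =>
      hb (by rw [← hinv φ b, h0, map_zero])
    rw [map_div₀, hσ, hσ, div_eq_div_iff hb' hbK, ← map_mul, ← map_mul, hab φ]
  by_cases ha : a = 0
  · exact ⟨0, 1, 0, 0, one_ne_zero, fun φ => by rw [map_zero, zero_mul, zero_mul],
      fun φ => by simp only [pow_zero, mul_one]; rw [← hσB]; exact map_one _, by simp [ha]⟩
  rw [hs, IntermediateField.mem_adjoin_iff_div] at hzE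
  obtain ⟨p, hp, q, hq, hzpq⟩ := hzE
  obtain ⟨hpE, c, r, hc⟩ := hgood p hp
  obtain ⟨hqE, d, t, hd⟩ := hgood q hq
  have hz0 : z ≠ 0 := div_ne_zero ((map_ne_zero_iff _ (IsFractionRing.injective B K)).2 ha) hbK
  have hq0 : q ≠ 0 := fun h0 => hz0 (by rw [hzpq, h0, div_zero])
  have hhK : ∀ r, algebraMap B K (h ^ r) ≠ 0 := fun r =>
    (map_ne_zero_iff _ (IsFractionRing.injective B K)).2 (pow_ne_zero r hh0)
  have hinvar : ∀ (y : K) (c : B) (r : ℕ), y ∈ E → y * algebraMap B K (h ^ r) = algebraMap B K c →
      ∀ φ, act φ c * h ^ r = c * act φ h ^ r := by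
    intro y c r hy hc φ
    have e := congrArg (σ φ) hc
    rw [map_mul, hy φ, hσ, hσ] at e
    apply IsFractionRing.injective B K
    rw [map_mul, map_mul, ← e, ← hc, show act φ (h ^ r) = act φ h ^ r from by rw [← hσB, map_pow, hσB]]
    ring
  refine ⟨c, d, r, t, fun h0 => ?_, hinvar p c r hpE hc, hinvar q d t hqE hd, ?_⟩
  · rw [h0, map_zero] at hd
    exact mul_ne_zero hq0 (hhK t) hd
  · apply IsFractionRing.injective B K
    have e : algebraMap B K a * q = algebraMap B K b * p := by
      have h' : algebraMap B K a / algebraMap B K b = p / q := hzpq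
      rw [div_eq_div_iff hbK hq0] at h'
      linear_combination h'
    simp only [map_mul, ← hc, ← hd]
    linear_combination (algebraMap B K (h ^ t) * algebraMap B K (h ^ r)) * e


end Groth.Agent.S15705
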