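import Groth.Statements.S15706
import Mathlib.RingTheory.Ideal.AssociatedPrime.Finiteness
import Mathlib.RingTheory.Ideal.MinimalPrime.Localization
import Mathlib.RingTheory.Ideal.MinimalPrime.Noetherian

set_option autoImplicit false
universe u
open CAlg

namespace Groth.Agent.S15706

/-- Let A be a Noetherian ring with Serre's property (S_1), stated here in the equivalent form that
every associated prime of A is a minimal prime of A. Let I be an ideal of A and b an element of A/I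
which is regular (a non-zero-divisor) in A/I. Then b is the image of a regular element of A. -/
theorem result (A : Type u) [CommRing A]
    [IsNoetherianRing A] (hS1 : ∀ p ∈ associatedPrimes A A, p ∈ minimalPrimes A) (I : Ideal A)
    (b : A ⧸ I) (hb : b ∈ nonZeroDivisors (A ⧸ I)) :
    ∃ a : A, a ∈ nonZeroDivisors A ∧ Ideal.Quotient.mk I a = b := by
  classical
  obtain ⟨a₀, rfl⟩ := Ideal.Quotient.mk_surjective b
  let P := (associatedPrimes.finite A A).toFinset
  have hP : ∀ {p}, p ∈ P ↔ p ∈ associatedPrimes A A := (associatedPrimes.finite A A).mem_toFinset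
  have hprime : ∀ p ∈ P, p.IsPrime := fun p hp => (hP.1 hp).isPrime
  have hnle : ∀ p ∈ P, a₀ ∈ p → ¬ I ≤ p := by
    intro p hp ha hI
    have h1 : p ∈ I.minimalPrimes :=
      ⟨⟨hprime p hp, hI⟩, fun q hq hle => (hS1 p (hP.1 hp)).2 ⟨hq.1, bot_le⟩ hle⟩
    obtain ⟨y, hy, hay⟩ := Ideal.exists_mul_mem_of_mem_minimalPrimes h1 ha
    apply hy
    rw [← Ideal.Quotient.eq_zero_iff_mem]
    apply (mem_nonZeroDivisors_iff.1 hb).1
    rwa [← map_mul, Ideal.Quotient.eq_zero_iff_mem]
  let S₁ := P.filter (fun p => a₀ ∈ p)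
  let J : Ideal A := I ⊓ (P.filter (fun p => a₀ ∉ p)).inf id
  have hJ : ∀ p ∈ S₁, ¬ J ≤ p := by
    intro p hp hle
    obtain ⟨hpP, ha⟩ := Finset.mem_filter.1 hp
    rcases (hprime p hpP).inf_le.1 hle with h | h
    · exact hnle p hpP ha h
    · obtain ⟨q, hq, hqp⟩ := (hprime p hpP).inf_le'.1 h
      obtain ⟨hqP, hqa⟩ := Finset.mem_filter.1 hq
      have h2 := (hS1 p (hP.1 hpP)).2 ⟨hprime q hqP, bot_le⟩ hqp
      exact hqa (h2 ha)
  obtain ⟨x, hxJ, hx⟩ : ∃ x ∈ J, ∀ p ∈ S₁, x ∉ p := by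
    rcases S₁.eq_empty_or_nonempty with h0 | ⟨p0, -⟩
    · exact ⟨0, zero_mem _, by simp [h0]⟩
    · by_contra hc
      push Not at hc
      obtain ⟨p, hp, hle⟩ := (Ideal.subset_union_prime (f := id) p0 p0
        (fun p hp _ _ => hprime p (Finset.mem_filter.1 hp).1)).1
        (fun x hx => by
          obtain ⟨p, hp, hxp⟩ := hc x hx
          exact Set.mem_biUnion hp hxp)
      exact hJ p hp hle
  refine ⟨a₀ + x, ?_, ?_⟩
  · by_contra hn
    have h1 : a₀ + x ∈ ((nonZeroDivisors A : Set A))ᶜ := hn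
    rw [← biUnion_associatedPrimes_eq_compl_nonZeroDivisors] at h1
    obtain ⟨p, hp, hmem⟩ := Set.mem_iUnion₂.1 h1
    by_cases ha : a₀ ∈ p
    · exact hx p (Finset.mem_filter.2 ⟨hP.2 hp, ha⟩) ((p.add_mem_iff_right ha).1 hmem)
    · have hxp : x ∈ p :=
        (Finset.inf_le (f := id) (Finset.mem_filter.2 ⟨hP.2 hp, ha⟩)) hxJ.2
      exact ha ((p.add_mem_iff_left hxp).1 hmem)
  · rw [map_add, Ideal.Quotient.eq_zero_iff_mem.2 hxJ.1, add_zero]

end Groth.Agent.S15706
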