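import Groth.Statements.S15708
import Mathlib

set_option autoImplicit false
universe u v
open CAlg

namespace Groth.Agent.S15708

/-- Let A be a Noetherian commutative ring graded by the natural numbers, J a homogeneous ideal, and
p_1, ..., p_r finitely many prime ideals such that no p_i contains the irrelevant ideal A_+ and no
p_i contains J. Then there is a homogeneous element z of positive degree with z in J and z in no
p_i. -/
theorem result {R : Type u} {A : Type v} [CommRing R] [CommRing A]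
    [Algebra R A] [IsNoetherianRing A] (𝒜 : ℕ → Submodule R A) [GradedRing 𝒜]
    (J : Ideal A) (hJ : J.IsHomogeneous 𝒜) (P : Finset (Ideal A))
    (hP : ∀ p ∈ P, p.IsPrime ∧ ¬ (HomogeneousIdeal.irrelevant 𝒜).toIdeal ≤ p ∧ ¬ J ≤ p) :
    ∃ (z : A) (n : ℕ), 0 < n ∧ z ∈ 𝒜 n ∧ z ∈ J ∧ ∀ p ∈ P, z ∉ p := by
  classical
  let Q : Finset (Ideal A) := P.image fun p => (p.homogeneousCore 𝒜).toIdeal
  let M : Finset (Ideal A) := Q.filter fun q => ∀ q' ∈ Q, q ≤ q' → q' = q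
  have hQ : ∀ q ∈ Q, q.IsPrime ∧ q.IsHomogeneous 𝒜 ∧
      ¬ (HomogeneousIdeal.irrelevant 𝒜).toIdeal ≤ q ∧ ¬ J ≤ q := by
    intro q hq
    obtain ⟨p, hp, rfl⟩ := Finset.mem_image.1 hq
    obtain ⟨h1, h2, h3⟩ := hP p hp
    exact ⟨h1.homogeneousCore, HomogeneousIdeal.isHomogeneous _,
      fun h => h2 (h.trans (Ideal.toIdeal_homogeneousCore_le _ _)),
      fun h => h3 (h.trans (Ideal.toIdeal_homogeneousCore_le _ _))⟩
  have hex : ∀ (I q : Ideal A), I.IsHomogeneous 𝒜 → ¬ I ≤ q → ∃ i, ∃ y ∈ 𝒜 i, y ∈ I ∧ y ∉ q := by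
    intro I q hI hne
    obtain ⟨y, hy, hyq⟩ := SetLike.not_le_iff_exists.1 hne
    by_contra hc
    push Not at hc
    exact hyq (DirectSum.sum_support_decompose 𝒜 y ▸ Submodule.sum_mem _ fun i _ =>
      hc i _ (DirectSum.decompose 𝒜 y i).2 (hI i hy))
  have sep : ∀ q ∈ M, ∃ (e : ℕ) (g : A), 0 < e ∧ g ∈ 𝒜 e ∧ g ∈ J ∧ g ∉ q ∧
      ∀ q' ∈ M, q' ≠ q → g ∈ q' := by
    intro q hq
    obtain ⟨hqQ, hmax⟩ := Finset.mem_filter.1 hq
    obtain ⟨hqp, hqh, hqi, hqJ⟩ := hQ q hqQ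
    suffices H : ∀ s : Finset (Ideal A), s ⊆ M.erase q →
        ∃ (e : ℕ) (g : A), 0 < e ∧ g ∈ 𝒜 e ∧ g ∈ J ∧ g ∉ q ∧ ∀ q' ∈ s, g ∈ q' by
      obtain ⟨e, g, h1, h2, h3, h4, h5⟩ := H _ subset_rfl
      exact ⟨e, g, h1, h2, h3, h4, fun q' hq' hne => h5 q' (Finset.mem_erase.2 ⟨hne, hq'⟩)⟩
    intro s hs
    induction s using Finset.induction_on with
    | empty =>
      obtain ⟨i, a, ha, haJ, haq⟩ := hex J q hJ hqJ
      obtain ⟨j, c, hc, hci, hcq⟩ := hex _ q (HomogeneousIdeal.isHomogeneous _) hqi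
      have hj : 0 < j := by
        rcases Nat.eq_zero_or_pos j with rfl | h
        · exfalso
          refine hcq ?_
          have h0 := (HomogeneousIdeal.mem_irrelevant_iff 𝒜 c).1 hci
          rw [GradedRing.proj_apply, DirectSum.decompose_of_mem_same 𝒜 hc] at h0
          rw [h0]; exact q.zero_mem
        · exact h
      exact ⟨i + j, a * c, by omega, SetLike.mul_mem_graded ha hc, Ideal.mul_mem_right _ _ haJ,
        hqp.mul_notMem haq hcq, by simp⟩
    | @insert q' s hqs ih =>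
      obtain ⟨e, g, he, hg, hgJ, hgq, hgs⟩ := ih fun x hx => hs (Finset.mem_insert_of_mem hx)
      obtain ⟨hne, hq'M⟩ := Finset.mem_erase.1 (hs (Finset.mem_insert_self q' s))
      obtain ⟨hq'Q, hmax'⟩ := Finset.mem_filter.1 hq'M
      obtain ⟨i, y, hy, hyq', hyq⟩ := hex q' q (hQ q' hq'Q).2.1 fun h => hne (hmax' q hqQ h).symm
      refine ⟨e + i, g * y, by omega, SetLike.mul_mem_graded hg hy, Ideal.mul_mem_right _ _ hgJ,
        hqp.mul_notMem hgq hyq, fun x hx => ?_⟩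
      rcases Finset.mem_insert.1 hx with rfl | hx
      · exact Ideal.mul_mem_left _ _ hyq'
      · exact Ideal.mul_mem_right _ _ (hgs x hx)
  choose! e g he hg hgJ hgq hgo using sep
  refine ⟨∑ q ∈ M, g q ^ (∏ q' ∈ M.erase q, e q'), ∏ q ∈ M, e q, Finset.prod_pos he,
    Submodule.sum_mem _ fun q hq => ?_, Submodule.sum_mem _ fun q hq => ?_, fun p hp hmem => ?_⟩
  · have h := SetLike.pow_mem_graded (∏ q' ∈ M.erase q, e q') (hg q hq)
    rwa [smul_eq_mul, mul_comm, Finset.mul_prod_erase M e hq] at h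
  · exact Ideal.pow_mem_of_mem _ (hgJ q hq) _
      (Finset.prod_pos fun x hx => he x (Finset.mem_of_mem_erase hx))
  · have hpQ : (p.homogeneousCore 𝒜).toIdeal ∈ Q := Finset.mem_image_of_mem _ hp
    obtain ⟨q, hpq, hqQ, hmax⟩ := Q.finite_toSet.exists_le_maximal hpQ
    have hqM : q ∈ M := Finset.mem_filter.2 ⟨hqQ, fun q' hq' h => le_antisymm (hmax hq' h) h⟩
    refine hgq q hqM ((hQ q hqQ).1.mem_of_pow_mem (∏ q' ∈ M.erase q, e q') ?_)
    have hmem' : ∑ x ∈ M, g x ^ (∏ q' ∈ M.erase x, e q') ∈ q :=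
      hpq (Ideal.mem_homogeneousCore_of_homogeneous_of_mem
        ⟨_, Submodule.sum_mem _ fun x hx => (by
          have h := SetLike.pow_mem_graded (∏ q' ∈ M.erase x, e q') (hg x hx)
          rwa [smul_eq_mul, mul_comm, Finset.mul_prod_erase M e hx] at h)⟩ hmem)
    rw [← Finset.add_sum_erase M _ hqM] at hmem'
    refine (Ideal.add_mem_iff_left q (Submodule.sum_mem _ fun x hx => ?_)).1 hmem'
    exact Ideal.pow_mem_of_mem _ (hgo x (Finset.mem_of_mem_erase hx) q hqM (Finset.ne_of_mem_erase hx).symm) _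
      (Finset.prod_pos fun y hy => he y (Finset.mem_of_mem_erase hy))

end Groth.Agent.S15708
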