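import Groth.Statements.S1571
import Groth.Agent.Lib.BlowUp.EffCartier
import Mathlib.AlgebraicGeometry.Morphisms.SchemeTheoreticallyDominant

set_option autoImplicit false
universe u
open CategoryTheory CategoryTheory.Limits AlgebraicGeometry
open Divisors

namespace Groth.Agent.S1571

/-- The open complement of an effective Cartier divisor is an affine open immersion and is
scheme-theoretically dense. -/
theorem result (S : Scheme.{u}) (D : S.IdealSheafData) (hD : BlowUp.IsEffCartierIdeal D) :
    IsAffineHom (Scheme.Opens.ι (X := S) D.support.compl) ∧ IsSchemeTheoreticallyDominant (Scheme.Opens.ι (X := S) D.support.compl) := by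
  let C : S.Opens := D.support.compl
  choose V hV hc using hD
  have key : ∀ (x : S), ∃ f : Γ(S, (V x).1), f ∈ nonZeroDivisors Γ(S, (V x).1) ∧
      C ⊓ (V x).1 = S.basicOpen f := fun x => by
    obtain ⟨f, hf, hI⟩ := hc x
    refine ⟨f, hf, ?_⟩
    ext y
    constructor
    · rintro ⟨hy, hyV⟩
      by_contra hb
      refine hy ((Scheme.IdealSheafData.mem_support_iff_of_mem (U := V x) hyV).mpr ?_)
      rw [hI, Scheme.zeroLocus_span, Scheme.zeroLocus_singleton]
      exact hb
    · intro hy
      refine ⟨fun hs => ?_, S.basicOpen_le f hy⟩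
      have := (Scheme.IdealSheafData.mem_support_iff_of_mem (U := V x) (S.basicOpen_le f hy)).mp hs
      rw [hI, Scheme.zeroLocus_span, Scheme.zeroLocus_singleton] at this
      exact this hy
  choose f hf hCf using key
  have hpre : ∀ x, C.ι ''ᵁ (C.ι ⁻¹ᵁ (V x).1) = S.basicOpen (f x) := fun x => by
    rw [Scheme.Hom.image_preimage_eq_opensRange_inf, Scheme.Opens.opensRange_ι]
    exact hCf x
  have haff : IsAffineHom C.ι := by
    refine isAffineHom_of_forall_exists_isAffineOpen _ fun x => ⟨(V x).1, hV x, (V x).2, ?_⟩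
    have h := hpre x
    refine C.ι.isAffineOpen_iff_of_isOpenImmersion.mp ?_
    rw [h]
    exact (V x).2.basicOpen _
  refine ⟨haff, ⟨Scheme.IdealSheafData.ext_of_iSup_eq_top V (top_le_iff.mp fun x _ =>
    TopologicalSpace.Opens.mem_iSup.mpr ⟨x, hV x⟩) fun x => ?_⟩⟩
  rw [Scheme.Hom.ker_apply, Scheme.IdealSheafData.ideal_bot, Pi.bot_apply, RingHom.ker_eq_bot_iff_eq_zero]
  intro a ha
  have h0 : S.presheaf.map (homOfLE (show C.ι ''ᵁ (C.ι ⁻¹ᵁ (V x).1) ≤ (V x).1 from (hpre x).le.trans (S.basicOpen_le _))).op a = 0 := by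
    rw [Scheme.Opens.ι_app] at ha
    exact ha
  have h1 : algebraMap Γ(S, (V x).1) Γ(S, S.basicOpen (f x)) a = 0 := by
    have := congrArg (S.presheaf.map (eqToHom (hpre x).symm).op) h0
    rw [map_zero, ← CategoryTheory.comp_apply, ← Functor.map_comp] at this
    exact this
  have := (V x).2.isLocalization_basicOpen (f x)
  obtain ⟨⟨_, n, rfl⟩, hn⟩ := (IsLocalization.map_eq_zero_iff (Submonoid.powers (f x)) _ a).mp h1
  exact ((pow_mem (hf x) n).1 a (by simpa using hn))

end Groth.Agent.S1571
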