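import Groth.Statements.S15713
import Groth.Agent.Lib.PerfBlow28.Scheme

set_option autoImplicit false
universe u
open CategoryTheory AlgebraicGeometry TopologicalSpace
open RatSing

namespace Groth.Agent.S15713

/-- Let W be a Cohen–Macaulay scheme (excellent, as the published statement assumes throughout), I an
ideal sheaf locally generated by a regular sequence, and π : T → W the blowing up of W in I. Then T
is Cohen–Macaulay. (The published statement also asserts that the closed subscheme V of I and the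
exceptional divisor F are Cohen–Macaulay; this row states the assertion for T. The blowing up is
characterised by its universal property.) -/
theorem result (W T : Scheme.{u}) [IsLocallyNoetherian W]
    (hexc : ∀ U : W.affineOpens, EGA4.IsExcellent Γ(W, U.1))
    (hcm : ∀ w : W, LocCoh.IsCohenMacaulayLocalRing (W.presheaf.stalk w))
    (I : W.IdealSheafData) (hI : RegImm.IsRegularIdeal RegImm.Kind.regular I)
    (π : T ⟶ W) (hπ : BlowUp.IsBlowUp π I) (t : T) :
    LocCoh.IsCohenMacaulayLocalRing (T.presheaf.stalk t) := by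
  obtain ⟨U, V, hU, hV, hUV, htU, hl⟩ := GrothLib.PerfBlow28.inLocus_of_isBlowUp I π hπ (fun y => by
    by_cases hy : y ∈ I.support
    · obtain ⟨U, hyU, rs, hrs, hIU⟩ := hI y hy
      refine ⟨U, hyU, rs.reverse, GrothLib.KoszulColon.isKoszulRegularSeq_of_isWeaklyRegular _
        (by rw [List.reverse_reverse]; exact (show RingTheory.Sequence.IsRegular Γ(W, U.1) rs from hrs).toIsWeaklyRegular), ?_⟩
      rw [hIU]
      simp [Ideal.ofList]
    · obtain ⟨U, hU, hyU, hUW⟩ := exists_isAffineOpen_mem_and_subset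
        (U := (⟨(I.support : Set W)ᶜ, I.support.isClosed.isOpen_compl⟩ : W.Opens)) hy
      refine ⟨⟨U, hU⟩, hyU, [1], GrothLib.KoszulColon.isKoszulRegularSeq_of_isWeaklyRegular _
        ((RingTheory.Sequence.isWeaklyRegular_singleton_iff _ _).2 (IsSMulRegular.one _)), ?_⟩
      rw [Ideal.ofList_singleton, Ideal.span_singleton_one]
      by_contra hne
      obtain ⟨m, hm, hle⟩ := Ideal.exists_le_maximal _ hne
      obtain ⟨x, hx, hx'⟩ : ∃ x, x ∈ I.support ∧ x ∈ U := by
        refine ⟨hU.fromSpec ⟨m, hm.isPrime⟩, ?_, ?_⟩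
        · rw [Scheme.IdealSheafData.mem_support_iff_of_mem (U := ⟨U, hU⟩)
            (hU.range_fromSpec.le ⟨_, rfl⟩)]
          show hU.fromSpec _ ∈ W.zeroLocus _
          rw [W.mem_zeroLocus_iff]
          intro s hs hsb
          have h1 : (⟨m, hm.isPrime⟩ : Spec Γ(W, U)) ∈ hU.fromSpec ⁻¹ᵁ W.basicOpen s := hsb
          rw [hU.fromSpec_preimage_basicOpen] at h1
          exact h1 (hle hs)
        · exact hU.range_fromSpec.le ⟨_, rfl⟩
      exact hUW hx' hx) t
  letI := (π.appLE V U hUV).hom.toAlgebra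
  haveI : IsNoetherianRing Γ(W, V) := IsLocallyNoetherian.component_noetherian ⟨V, hV⟩
  haveI : LocCoh.IsCohenMacaulayRing Γ(W, V) := ⟨fun p hp => by
    let w : W := hV.fromSpec ⟨p, hp⟩
    have hw : w ∈ V := hV.range_fromSpec.le ⟨_, rfl⟩
    haveI := hcm w
    letI := W.presheaf.algebra_section_stalk (U := V) ⟨w, hw⟩
    haveI : IsLocalization p.primeCompl (W.presheaf.stalk w) := hV.isLocalization_stalk' ⟨p, hp⟩ hw
    exact GrothLib.HB26.isCohenMacaulayLocalRing_of_ringEquiv
      (IsLocalization.algEquiv p.primeCompl (W.presheaf.stalk w) (Localization.AtPrime p)).toRingEquiv⟩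
  haveI := GrothLib.PerfBlow28.isCohenMacaulayRing_of_isLCI_over hl
  letI := T.presheaf.algebra_section_stalk (U := U) ⟨t, htU⟩
  haveI := hU.isLocalization_stalk ⟨t, htU⟩
  haveI := LocCoh.IsCohenMacaulayRing.isCohenMacaulayLocalRing_localization (hU.primeIdealOf ⟨t, htU⟩).asIdeal
  exact GrothLib.HB26.isCohenMacaulayLocalRing_of_ringEquiv
    (IsLocalization.algEquiv (hU.primeIdealOf ⟨t, htU⟩).asIdeal.primeCompl
      (Localization.AtPrime (hU.primeIdealOf ⟨t, htU⟩).asIdeal) (T.presheaf.stalk t)).toRingEquiv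

end Groth.Agent.S15713
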