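import Groth.Statements.S15715
import Groth.Agent.Lib.SchDense22.S1

set_option autoImplicit false
universe u
open CategoryTheory AlgebraicGeometry TopologicalSpace
open RatSing

namespace Groth.Agent.S15715

/-- Let X be a locally Noetherian scheme, φ : F → G a homomorphism of O_X-modules with F quasi-coherent
and torsion-free (over every affine open V, no nonzero section of F is killed by a regular element
of O_X(V)), and U a scheme-theoretically dense open subset of X such that the restriction of φ to U
is injective. Then φ is injective. (The published statement allows an arbitrary O_X-module F; for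
the skyscraper sheaf on the affine line over a field, placed at a closed point with value the local
ring at that point, which is torsion-free in this sense, the zero map to the zero module is
injective over the dense open complement of the point but not injective. This row takes F
quasi-coherent.) -/
theorem result (X : Scheme.{u})
    [IsLocallyNoetherian X] (F G : X.Modules) (hF : Coh.IsQCoh F)
    (htf : ∀ V : X.affineOpens, Submodule.torsion Γ(X, V.1) (F.val.obj (Opposite.op V.1)) = ⊥)
    (φ : F ⟶ G) (U : X.Opens) (hU : CInt.IsSchematicallyDense U)
    (hφU : ∀ V : X.Opens, V ≤ U → Function.Injective ⇑(ConcreteCategory.hom (φ.val.app (Opposite.op V)))) (V : X.Opens) :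
    Function.Injective ⇑(ConcreteCategory.hom (φ.val.app (Opposite.op V))) := by
  haveI : F.IsQuasicoherent := hF
  rw [injective_iff_map_eq_zero]
  intro s hs
  refine TopCat.Presheaf.section_ext (F := (⟨F.presheaf, F.isSheaf⟩ : TopCat.Sheaf Ab X)) V s 0 fun y hy => ?_
  obtain ⟨W, hW, hyW, hWV⟩ := exists_isAffineOpen_mem_and_subset (x := y) (U := V) hy
  let t := F.presheaf.map (homOfLE (show W ≤ V from hWV)).op s
  have hφt : φ.app W t = 0 := by
    have h := congr($(φ.mapPresheaf.naturality (homOfLE (show W ≤ V from hWV)).op) s)
    refine h.trans (Eq.trans (congrArg (fun z => G.presheaf.map (homOfLE (show W ≤ V from hWV)).op z) hs) ?_)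
    exact map_zero (G.presheaf.map (homOfLE (show W ≤ V from hWV)).op).hom
  have ht : t = 0 := GrothLib.SchDense22.eq_zero_of_restrict F hU hW (htf ⟨W, hW⟩) t (by
    refine hφU (W ⊓ U) inf_le_right ?_
    refine Eq.trans ?_ (map_zero (φ.app (W ⊓ U)).hom).symm
    have h := congr($(φ.mapPresheaf.naturality (homOfLE (inf_le_left : W ⊓ U ≤ W)).op) t)
    refine h.trans (Eq.trans (congrArg (fun z => G.presheaf.map (homOfLE (inf_le_left : W ⊓ U ≤ W)).op z) hφt) ?_)
    exact map_zero (G.presheaf.map (homOfLE (inf_le_left : W ⊓ U ≤ W)).op).hom)
  have hg := TopCat.Presheaf.germ_res_apply F.presheaf (homOfLE (show W ≤ V from hWV)) y hyW s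
  exact hg.symm.trans ((congrArg _ ht).trans ((map_zero _).trans (map_zero _).symm))

end Groth.Agent.S15715
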