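import Groth.Statements.S15717
import Mathlib
import Groth.Agent.Lib.CMBasics.Basic
import Groth.Agent.Lib.Depth.CM
-- import your own Groth.Agent.* helpers here

set_option autoImplicit false
universe u
open CAlg

namespace Groth.Agent.S15717

/-- Let R be a Cohen–Macaulay local ring and I an ideal of R with R/I equidimensional (all minimal
primes p over I have the same dim R/p). Then there is a regular sequence r_1, ..., r_n in I such
that the closed subscheme V(r_1, ..., r_n) of Spec R, a local complete intersection, contains V(I),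
has the same dimension as V(I), and has the irreducible components of V(I) among its irreducible
components: dim R/(r_1, ..., r_n) = dim R/I and every minimal prime over I is a minimal prime over
(r_1, ..., r_n). The sequence is asked to be weakly regular (each r_i a non-zero-divisor modulo the
previous ones), which for I proper is the same as regular and which also covers I = R with the
sequence (1). -/
theorem result (R : Type u) [CommRing R]
    [LocCoh.IsCohenMacaulayLocalRing R] (I : Ideal R)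
    (hI : ∀ p ∈ I.minimalPrimes, ringKrullDim (R ⧸ p) = ringKrullDim (R ⧸ I)) :
    ∃ rs : List R, RingTheory.Sequence.IsWeaklyRegular R rs ∧ Ideal.ofList rs ≤ I ∧
      ringKrullDim (R ⧸ Ideal.ofList rs) = ringKrullDim (R ⧸ I) ∧
      I.minimalPrimes ⊆ (Ideal.ofList rs).minimalPrimes := by
  by_cases hI1 : I = ⊤
  · subst hI1
    refine ⟨[1], ?_, le_top, ?_, ?_⟩
    · rw [RingTheory.Sequence.isWeaklyRegular_singleton_iff]; exact IsSMulRegular.one R
    · have e : Ideal.ofList [(1 : R)] = ⊤ := by rw [Ideal.ofList_singleton, Ideal.span_singleton_one]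
      rw [e]
    · rw [Ideal.minimalPrimes_top]; exact Set.empty_subset _
  have hM : LocCoh.IsCohenMacaulayModule R R := LocCoh.IsCohenMacaulayLocalRing.supportDim_eq_depth
  obtain ⟨t, ht⟩ := ENat.ne_top_iff_exists.1 (GrothLib.Depth.idealDepth_ne_top (M := R) hI1)
  have hne : I • (⊤ : Submodule R R) ≠ ⊤ := by rwa [smul_eq_mul, Ideal.mul_top]
  obtain ⟨rs, hlen, hmem, hreg⟩ := (GrothLib.Depth.le_idealDepth_iff_exists I hne t).1 ht.le
  have hq : ∀ J : Ideal R, Module.supportDim R (R ⧸ (J • (⊤ : Submodule R R))) = ringKrullDim (R ⧸ J) := by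
    intro J
    rw [smul_eq_mul, Ideal.mul_top, Module.supportDim_eq_ringKrullDim_quotient_annihilator, Ideal.annihilator_quotient]
  have h1 := GrothLib.Depth.supportDim_eq_add_idealDepth t hI1 R hM ht.symm
  have hrsm : ∀ x ∈ rs, x ∈ IsLocalRing.maximalIdeal R := fun x hx => IsLocalRing.le_maximalIdeal hI1 (hmem x hx)
  have h2 := ((GrothLib.CMBasics.isWeaklyRegular_iff hM rs hrsm).1).1 hreg
  rw [hq] at h1 h2
  rw [hlen, h1] at h2
  have hle : Ideal.ofList rs ≤ I := Ideal.span_le.2 hmem
  have hdim : ringKrullDim (R ⧸ Ideal.ofList rs) = ringKrullDim (R ⧸ I) := by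
    have hfin : ∀ J : Ideal R, J ≠ ⊤ → ∃ a : ℕ, ringKrullDim (R ⧸ J) = a := by
      intro J hJ
      haveI : Nontrivial (R ⧸ J) := Ideal.Quotient.nontrivial_iff.2 hJ
      haveI : IsLocalRing (R ⧸ J) := IsLocalRing.of_surjective' _ Ideal.Quotient.mk_surjective
      obtain ⟨n, hn⟩ := ENat.ne_top_iff_exists.1 (Ideal.height_ne_top (I := IsLocalRing.maximalIdeal (R ⧸ J))
        (IsLocalRing.maximalIdeal.isMaximal _).ne_top)
      exact ⟨n, by rw [← IsLocalRing.maximalIdeal_height_eq_ringKrullDim, ← hn]; rfl⟩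
    obtain ⟨a, ha⟩ := hfin _ (fun h => hI1 (top_le_iff.1 (h ▸ hle)))
    obtain ⟨b, hb⟩ := hfin _ hI1
    rw [ha, hb] at h2 ⊢
    have : a + t = b + t := by exact_mod_cast h2
    rw [show a = b by omega]
  refine ⟨rs, hreg, hle, hdim, fun p hp => ?_⟩
  haveI := hp.1.1
  refine ⟨⟨hp.1.1, hle.trans hp.1.2⟩, fun q hq' hqp => ?_⟩
  haveI := hq'.1
  by_contra hne'
  have hlt : ¬ p ≤ q := hne'
  obtain ⟨r, hrp, hrq⟩ := SetLike.not_le_iff_exists.1 hlt
  have hnzd : Ideal.Quotient.mk q r ∈ nonZeroDivisors (R ⧸ q) :=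
    mem_nonZeroDivisors_of_ne_zero fun h => hrq (Ideal.Quotient.eq_zero_iff_mem.1 h)
  have h3 := ringKrullDim_quotient_succ_le_of_nonZeroDivisor hnzd
  have hsub : Ideal.span {Ideal.Quotient.mk q r} ≤ RingHom.ker (Ideal.Quotient.factor hqp) := by
    rw [Ideal.span_le, Set.singleton_subset_iff, SetLike.mem_coe, RingHom.mem_ker, Ideal.Quotient.factor_mk]
    exact Ideal.Quotient.eq_zero_iff_mem.2 hrp
  have h4 : ringKrullDim (R ⧸ p) ≤ ringKrullDim ((R ⧸ q) ⧸ Ideal.span {Ideal.Quotient.mk q r}) :=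
    ringKrullDim_le_of_surjective (Ideal.Quotient.lift _ (Ideal.Quotient.factor hqp) hsub)
      (Ideal.Quotient.lift_surjective_of_surjective _ _ (Ideal.Quotient.factor_surjective hqp))
  have h5 : ringKrullDim (R ⧸ q) ≤ ringKrullDim (R ⧸ Ideal.ofList rs) :=
    ringKrullDim_le_of_surjective (Ideal.Quotient.factor hq'.2) (Ideal.Quotient.factor_surjective _)
  have h6 := ((add_le_add h4 le_rfl).trans h3).trans (h5.trans (hdim.trans (hI p hp).symm).le)
  obtain ⟨a, ha⟩ : ∃ a : ℕ, ringKrullDim (R ⧸ p) = a := by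
    haveI : IsLocalRing (R ⧸ p) := IsLocalRing.of_surjective' _ Ideal.Quotient.mk_surjective
    obtain ⟨n, hn⟩ := ENat.ne_top_iff_exists.1 (Ideal.height_ne_top (I := IsLocalRing.maximalIdeal (R ⧸ p))
      (IsLocalRing.maximalIdeal.isMaximal _).ne_top)
    exact ⟨n, by rw [← IsLocalRing.maximalIdeal_height_eq_ringKrullDim, ← hn]; rfl⟩
  rw [ha] at h6
  have : a + 1 ≤ a := by exact_mod_cast h6
  omega

end Groth.Agent.S15717
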