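import Groth.Statements.S15719
import Groth.Agent.Lib.RightAdj20.TraceUnitMain

set_option autoImplicit false
set_option maxHeartbeats 1000000
set_option linter.style.haveILetI false
set_option backward.isDefEq.respectTransparency false
universe u
open CategoryTheory CategoryTheory.Limits AlgebraicGeometry TopologicalSpace
attribute [local instance] HasDerivedCategory.standard
open RatSing

namespace Groth.Agent.S15719

/-- Let φ : Z → W be a proper birational morphism of equidimensional excellent schemes admitting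
dualizing complexes which is an isomorphism in codimension 1 on the target (an isomorphism over an
open V of W whose complement has codimension at least 2), and let η : O_W → Rφ_* O_Z be the natural
map. If there is η' : Rφ_* O_Z → O_W with η' ∘ η an automorphism of O_W, then φ is a pseudo-rational
modification: the natural map φ_* ω_Z → ω_W is surjective. This row takes W Noetherian and Z, W of
pure dimension d (the assertion is local on W), fixes the dualizing complex K = ω_W^• on W with
quasi-coherent cohomology vanishing below degree -d, uses ω_Z^• = φ^! K with φ^! the right adjoint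
of Rφ_* on D_QCoh, renders the surjectivity of φ_* ω_Z → ω_W as: h^{-d} of the trace Rφ_* φ^! K → K
is an epimorphism, renders the codimension condition as dim O_{W,w} ≥ 2 off V together with density
of φ⁻¹V in Z (for equidimensional local rings this is the codimension condition of the published
definition), and writes η in D_QCoh(O_W) as the unit of Lφ^* ⊣ Rφ_* at O_W followed by Rφ_* of an
identification Lφ^* O_W ≅ O_Z. Existence of the derived functors and adjoints, preservation of
D_QCoh, and exactness of restriction to opens and of M ↦ M~ are carried as hypotheses. -/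
theorem result (Z W : Scheme.{u}) (d : ℕ)
    [IsLocallyNoetherian Z] [IsNoetherian W]
    (hexcZ : ∀ U : Z.affineOpens, EGA4.IsExcellent Γ(Z, U.1)) (hexcW : ∀ U : W.affineOpens, EGA4.IsExcellent Γ(W, U.1))
    (hpdZ : ∀ C ∈ irreducibleComponents (Z : Type u), topologicalKrullDim C = d)
    (hpdW : ∀ C ∈ irreducibleComponents (W : Type u), topologicalKrullDim C = d)
    [∀ (U : Scheme.{u}) (j : U ⟶ W) [IsOpenImmersion j], PreservesFiniteLimits (Scheme.Modules.restrictFunctor j)]
    [∀ (R : CommRingCat.{u}), PreservesFiniteLimits (tilde.functor R)]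
    (φ : Z ⟶ W) [IsProper φ]
    (V : W.Opens) (hV : ∀ w : W, w ∉ V → (2 : WithBot ℕ∞) ≤ ringKrullDim (W.presheaf.stalk w))
    (hVZ : Dense ((φ ⁻¹ᵁ V : Z.Opens) : Set Z)) [IsIso (φ ∣_ V)]
    [DCoh.HasRpush φ] (h : DCoh.RpushPreservesQCoh φ) [DCoh.HasShriek φ h]
    [DCoh.HasLpull φ] (hL : Dual3.LpullPreservesQCoh φ) (adjL : Dual3.LpullQ φ hL ⊣ DCoh.RpushQ φ h)
    (K : DCoh.DQCoh W) (hK : Dual2.IsDualizingSch W K.obj)
    (hKlow : ∀ i : ℤ, i < -(d : ℤ) → IsZero (DCoh.HD K.obj i))
    (OW : DCoh.DQCoh W) (eW : OW.obj ≅ DCoh.inD W (Coh.structureModule W))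
    (OZ : DCoh.DQCoh Z) (eZ : OZ.obj ≅ DCoh.inD Z (Coh.structureModule Z))
    (e : (Dual3.LpullQ φ hL).obj OW ≅ OZ)
    (hsplit : ∃ η' : (DCoh.RpushQ φ h).obj OZ ⟶ OW, IsIso (adjL.unit.app OW ≫ (DCoh.RpushQ φ h).map e.hom ≫ η')) :
    Epi ((DerivedCategory.homologyFunctor W.Modules (-(d : ℤ))).map
      ((ObjectProperty.ι DCoh.IsQCohD).map ((DCoh.trace φ h).app K))) := by
  obtain ⟨c, hc⟩ := GrothLib.ShriekBridge22.exists_isGE_of_isDualizingSch K.property hK
  haveI := hc
  obtain ⟨adjL'⟩ := GrothLib.OX.nonempty_lpullAdj φ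
  let r := GrothLib.OX.rpushIsoRres φ
  let b := adjL'.ofNatIsoRight r
  obtain ⟨η', hw⟩ := hsplit
  haveI := hw
  let O := DCoh.inD W (Coh.structureModule W)
  let u' : O ⟶ (GrothLib.OX.RR φ).obj ((DCoh.Lpull φ).obj OW.obj) :=
    eW.inv ≫ (adjL.unit.app OW).hom ≫ r.hom.app _
  let t : (DCoh.Lpull φ).obj O ⟶ (DCoh.Lpull φ).obj OW.obj := (b.homEquiv _ _).symm u'
  have ht : b.unit.app O ≫ (GrothLib.OX.RR φ).map t = u' :=
    (b.homEquiv_unit _ _ _).symm.trans (Equiv.apply_symm_apply _ _)
  have hρ : ∃ ρ, b.unit.app O ≫ ρ = 𝟙 O := by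
    refine ⟨(GrothLib.OX.RR φ).map t ≫ r.inv.app _ ≫ ((DCoh.RpushQ φ h).map e.hom ≫ η').hom ≫
      (inv (adjL.unit.app OW ≫ (DCoh.RpushQ φ h).map e.hom ≫ η')).hom ≫ eW.hom, ?_⟩
    rw [← Category.assoc, ht]
    have k := congrArg InducedCategory.Hom.hom
      (IsIso.hom_inv_id (adjL.unit.app OW ≫ (DCoh.RpushQ φ h).map e.hom ≫ η'))
    simp only [u', Category.assoc, Iso.hom_inv_id_app_assoc]
    calc _ = eW.inv ≫ ((adjL.unit.app OW ≫ (DCoh.RpushQ φ h).map e.hom ≫ η') ≫
          inv (adjL.unit.app OW ≫ (DCoh.RpushQ φ h).map e.hom ≫ η')).hom ≫ eW.hom := by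
            congr 1
            show _ = (((adjL.unit.app OW).hom ≫ ((DCoh.RpushQ φ h).map e.hom ≫ η').hom) ≫ _) ≫ eW.hom
            simp only [Category.assoc]
            erw [Iso.hom_inv_id_app_assoc]
      _ = 𝟙 _ := by rw [k]; exact (congrArg (eW.inv ≫ ·) (Category.id_comp eW.hom)).trans eW.inv_hom_id
  haveI h1 := GrothLib.RightAdj20.epi_HD_trR φ h (DCoh.shriekAdj φ h) b K c hρ (-(d : ℤ))
  exact @epi_of_epi_fac _ _ _ _ _ _ _ _ h1 ((DerivedCategory.homologyFunctor W.Modules (-(d : ℤ))).map_comp (r.inv.app _) _).symm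

end Groth.Agent.S15719
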