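import Groth.Statements.S15721
import Groth.Agent.Lib.ShriekBridge22.Canon
-- import your own Groth.Agent.* helpers here

set_option autoImplicit false
universe u
open CategoryTheory CategoryTheory.Limits AlgebraicGeometry TopologicalSpace
attribute [local instance] HasDerivedCategory.standard
open RatSing

namespace Groth.Agent.S15721

/-- Let Z be an excellent scheme of finite type over a Noetherian local scheme S admitting a dualizing
complex, with canonical sheaf ω_Z = h^{-d}(ω_Z^•), where ω_Z^• = f^! ω_S^• for the normalized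
dualizing complex ω_S^• of S and -d is the lowest degree with nonzero cohomology. Then ω_Z is
torsion-free and (S_2); if moreover Z is normal, ω_Z is reflexive of rank 1. This row states the
case Z proper over S = Spec A (so that f^! is the right adjoint of Rf_* on D_QCoh), with
torsion-freeness (no nonzero section killed by a regular element of the coordinate ring), the (S_2)
condition and reflexivity all stated for the modules of sections over affine opens, and without the
rank assertion. Existence of Rf_* and f^!, preservation of D_QCoh, and exactness of restriction to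
opens and of M ↦ M~ are carried as hypotheses. -/
theorem result (A : Type u) [CommRing A] [IsNoetherianRing A] [IsLocalRing A]
    (ωA : Dual.D A) (hω : Dual.IsDualizing A ωA) (hn : Dual.IsNormalized A ωA)
    [PreservesFiniteLimits (tilde.functor (CommRingCat.of A))]
    (Z : Scheme.{u}) [IsLocallyNoetherian Z] (hexc : ∀ U : Z.affineOpens, EGA4.IsExcellent Γ(Z, U.1))
    (f : Z ⟶ Spec (CommRingCat.of A)) [IsProper f]
    [DCoh.HasRpush f] (h : DCoh.RpushPreservesQCoh f) [DCoh.HasShriek f h]
    (K : DCoh.DQCoh (Spec (CommRingCat.of A))) (hK : Nonempty (K.obj ≅ (DCoh.tildeD (CommRingCat.of A)).obj ωA))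
    (d : ℕ) (hlow : ∀ i : ℤ, i < -(d : ℤ) → IsZero (DCoh.HD ((DCoh.shriek f h).obj K).obj i))
    (hne : ¬ IsZero (DCoh.HD ((DCoh.shriek f h).obj K).obj (-(d : ℤ)))) :
    (∀ U : Z.affineOpens, Submodule.torsion Γ(Z, U.1)
      ((DCoh.HD ((DCoh.shriek f h).obj K).obj (-(d : ℤ))).val.obj (Opposite.op U.1)) = ⊥) ∧
    (∀ U : Z.affineOpens, LocCoh.HasSk 2 Γ(Z, U.1)
      ((DCoh.HD ((DCoh.shriek f h).obj K).obj (-(d : ℤ))).val.obj (Opposite.op U.1))) ∧
    (Pi1.IsNormalScheme Z → ∀ U : Z.affineOpens, Module.IsReflexive Γ(Z, U.1)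
      ((DCoh.HD ((DCoh.shriek f h).obj K).obj (-(d : ℤ))).val.obj (Opposite.op U.1))) := by
  haveI : ∀ R : CommRingCat.{u}, PreservesFiniteLimits (tilde.functor R) := fun R => inferInstance
  let n : ℤ := -(d : ℤ)
  let H := DCoh.HD ((DCoh.shriek f h).obj K).obj n
  haveI : H.IsQuasicoherent := ((DCoh.shriek f h).obj K).property n
  have key : ∀ U : Z.affineOpens, ∃ κ : Dual.D Γ(Z, U.1), IsNoetherianRing Γ(Z, U.1) ∧
      Dual.IsDualizing Γ(Z, U.1) κ ∧ (∀ i, i < n → Subsingleton (Dual.HD Γ(Z, U.1) κ i)) ∧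
      Nonempty ((H.val.obj (Opposite.op U.1)) ≃ₗ[Γ(Z, U.1)] Dual.HD Γ(Z, U.1) κ n) := by
    intro U
    obtain ⟨_, m, ψ, hψ, hN, ⟨r⟩, -⟩ := GrothLib.ShriekBridge22.exists_local_chart hω f h (DCoh.shriekAdj f h) K hK U.1 U.2
    haveI := hN
    refine ⟨GrothLib.DualRing.Shriek.GP ψ ωA, hN, GrothLib.ShriekBridge22.isDualizing_GP ψ hψ hω, fun i hi => ?_, ?_⟩
    · exact (GrothLib.ShriekBridge22.Canon.exists_sections_equiv n U.2 r).2 i (hlow i hi)
    · exact (GrothLib.ShriekBridge22.Canon.exists_sections_equiv n U.2 r).1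
  refine ⟨fun U => ?_, fun U => ?_, fun hnor U => ?_⟩
  · obtain ⟨κ, hN, hκ, hv, ⟨e⟩⟩ := key U
    haveI := hN
    rw [eq_bot_iff]
    intro x hx
    obtain ⟨⟨a, ha⟩, hax⟩ := (Submodule.mem_torsion_iff x).1 hx
    rw [Submodule.mem_bot]
    refine e.map_eq_zero_iff.1 (GrothLib.ShriekBridge22.Canon.eq_zero_of_smul_eq_zero hκ n hv ha ?_)
    rw [← map_smul]
    exact e.map_eq_zero_iff.2 hax
  · obtain ⟨κ, hN, hκ, hv, ⟨e⟩⟩ := key U
    haveI := hN
    haveI := hκ.finite_cohomology n
    exact GrothLib.SkExt.hasSk_congr e.symm fun p _ => GrothLib.DualRing.skCond_two_bottom hκ n hv p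
  · obtain ⟨κ, hN, hκ, hv, ⟨e⟩⟩ := key U
    haveI := hN
    haveI : Module.IsReflexive Γ(Z, U.1) (Dual.HD Γ(Z, U.1) κ n) := by
      refine GrothLib.ShriekBridge22.Canon.isReflexive_bottom hκ n hv fun p hp => ?_
      let q : PrimeSpectrum Γ(Z, U.1) := ⟨p, hp.isPrime⟩
      let x : Z := U.2.fromSpec q
      have hxU : x ∈ U.1 := by
        rw [← SetLike.mem_coe, ← U.2.range_fromSpec]
        exact Set.mem_range_self q
      letI := Z.presheaf.algebra_section_stalk ⟨x, hxU⟩
      haveI : IsLocalization.AtPrime (Z.presheaf.stalk x) p := U.2.isLocalization_stalk' q hxU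
      let σ := (IsLocalization.algEquiv p.primeCompl (Z.presheaf.stalk x) (Localization.AtPrime p)).toRingEquiv
      haveI := (hnor x).1
      haveI := (hnor x).2
      exact ⟨σ.symm.toMulEquiv.isDomain, IsIntegrallyClosed.of_equiv σ⟩
    exact Module.equiv e.symm

end Groth.Agent.S15721
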