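import Groth.Statements.S15723
import Groth.Agent.Lib.GradedAlg.Basic
import Groth.Agent.Lib.MorQ9.Avoid
import Mathlib

set_option autoImplicit false
universe u v
open CAlg

namespace Groth.Agent.S15723

open AlgebraicGeometry W4c2ratsingkovacs

variable {R : Type u} {A : Type v} [CommRing R] [CommRing A] [Algebra R A] (𝒜 : ℕ → Submodule R A) [GradedRing 𝒜]

/-- Homogeneous prime avoidance inside a homogeneous ideal. -/
theorem exists_avoid (K : Ideal A) (hK : K.IsHomogeneous 𝒜) (S : Finset (Ideal A))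
    (hS : ∀ q ∈ S, q.IsPrime ∧ q.IsHomogeneous 𝒜 ∧ ¬ K ≤ q ∧ ¬ (HomogeneousIdeal.irrelevant 𝒜).toIdeal ≤ q) :
    ∃ (d : ℕ) (f : A), 0 < d ∧ f ∈ 𝒜 d ∧ f ∈ K ∧ ∀ p ∈ S, f ∉ p := by
  classical
  induction S using Finset.strongInduction with
  | _ S ih =>
    rcases S.eq_empty_or_nonempty with rfl | hne
    · exact ⟨1, 0, one_pos, zero_mem _, zero_mem _, fun p hp => absurd hp (Finset.notMem_empty p)⟩
    obtain ⟨q, hqmin⟩ := S.exists_minimal hne
    have hqS : q ∈ S := hqmin.prop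
    obtain ⟨hqp, -, hqK, hqirr⟩ := hS q hqS
    obtain ⟨d, f, hd, hf, hfK, hfS⟩ := ih (S.erase q) (Finset.erase_ssubset hqS)
      fun p hp => hS p (Finset.mem_of_mem_erase hp)
    by_cases hfq : f ∈ q
    swap
    · refine ⟨d, f, hd, hf, hfK, fun p hp => ?_⟩
      by_cases h : p = q
      · exact h ▸ hfq
      · exact hfS p (Finset.mem_erase.mpr ⟨h, hp⟩)
    have hg : ∀ T : Finset (Ideal A), T ⊆ S.erase q → ∃ (e : ℕ) (g : A), 0 < e ∧ g ∈ 𝒜 e ∧ g ∈ K ∧
        g ∉ q ∧ ∀ p ∈ T, g ∈ p := by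
      intro T
      induction T using Finset.induction_on with
      | empty =>
        intro _
        obtain ⟨i, a, ha, hai, haq⟩ := GrothLib.MorQ9.exists_homogeneous_notMem 𝒜
          (HomogeneousIdeal.irrelevant 𝒜).isHomogeneous hqirr
        obtain ⟨k, b, hb, hbK, hbq⟩ := GrothLib.MorQ9.exists_homogeneous_notMem 𝒜 hK hqK
        refine ⟨k + i, b * a, ?_, SetLike.mul_mem_graded hb ha, K.mul_mem_right _ hbK,
          fun h => (hqp.mem_or_mem h).elim hbq haq, fun p hp => absurd hp (Finset.notMem_empty p)⟩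
        refine Nat.pos_of_ne_zero fun h0 => haq ?_
        obtain rfl : i = 0 := by omega
        have h : a = (DirectSum.decompose 𝒜 a 0 : A) := (DirectSum.decompose_of_mem_same 𝒜 ha).symm
        rw [h, show (DirectSum.decompose 𝒜 a 0 : A) = 0 from hai]
        exact zero_mem _
      | insert p T hpT ihT =>
        intro hsub
        obtain ⟨e, g, he, hg, hgK, hgq, hgT⟩ := ihT fun x hx => hsub (Finset.mem_insert_of_mem hx)
        have hp := hsub (Finset.mem_insert_self p T)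
        have hnle : ¬ p ≤ q := fun hle =>
          (Finset.mem_erase.mp hp).1 (le_antisymm hle (hqmin.le_of_le (Finset.mem_erase.mp hp).2 hle))
        obtain ⟨i, a, hai, hap, haq⟩ := GrothLib.MorQ9.exists_homogeneous_notMem 𝒜
          (hS p (Finset.mem_erase.mp hp).2).2.1 hnle
        refine ⟨e + i, g * a, by omega, SetLike.mul_mem_graded hg hai, K.mul_mem_right _ hgK,
          fun h => (hqp.mem_or_mem h).elim hgq haq, fun x hx => ?_⟩
        rcases Finset.mem_insert.mp hx with rfl | hx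
        · exact Ideal.mul_mem_left _ g hap
        · exact Ideal.mul_mem_right a _ (hgT x hx)
    obtain ⟨e, g, he, hg', hgK, hgq, hgS⟩ := hg _ le_rfl
    refine ⟨d * e, f ^ e + g ^ d, Nat.mul_pos hd he, ?_,
      add_mem (K.pow_mem_of_mem hfK e he) (K.pow_mem_of_mem hgK d hd), fun p hp => ?_⟩
    · refine add_mem ?_ ?_
      · rw [mul_comm d e]; exact SetLike.pow_mem_graded e hf
      · exact SetLike.pow_mem_graded d hg'
    · have hpp : p.IsPrime := (hS p hp).1
      by_cases h : p = q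
      · rw [h]
        intro hm
        exact hgq (hqp.mem_of_pow_mem d
          ((Ideal.add_mem_iff_right _ (Ideal.pow_mem_of_mem _ hfq e he)).mp hm))
      · intro hm
        exact hfS p (Finset.mem_erase.mpr ⟨h, hp⟩) (hpp.mem_of_pow_mem e
          ((Ideal.add_mem_iff_left _ (Ideal.pow_mem_of_mem _ (hgS p (Finset.mem_erase.mpr ⟨h, hp⟩)) d hd)).mp hm))

variable {𝒜}

/-- Membership in a homogeneous localization of an ideal, in terms of numerators. -/
theorem mk_mem_locIdeal_iff (I : Ideal A) (f : A) (z : HomogeneousLocalization.NumDenSameDeg 𝒜 (.powers f)) :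
    HomogeneousLocalization.mk z ∈ locIdeal 𝒜 I f ↔ ∃ k : ℕ, f ^ k * (z.num : A) ∈ I := by
  rw [locIdeal, Ideal.mem_comap, HomogeneousLocalization.algebraMap_apply, HomogeneousLocalization.val_mk,
    Localization.mk_eq_mk', IsLocalization.mk'_eq_mul_mk'_one, mul_comm,
    Ideal.unit_mul_mem_iff_mem _ (IsUnit.of_mul_eq_one (algebraMap A (Localization.Away f) (z.den : A))
      (IsLocalization.mk'_spec _ _ _ |>.trans (map_one _))),
    IsLocalization.algebraMap_mem_map_algebraMap_iff (Submonoid.powers f)]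
  constructor
  · rintro ⟨_, ⟨k, rfl⟩, hk⟩; exact ⟨k, hk⟩
  · rintro ⟨k, hk⟩; exact ⟨f ^ k, ⟨k, rfl⟩, hk⟩

/-- The homogeneous prime below a prime of `A_(f)`. -/
theorem exists_prime {f : A} {m : ℕ} (hm : 0 < m) (hf : f ∈ 𝒜 m) (q : Ideal (HomogeneousLocalization.Away 𝒜 f))
    [hq : q.IsPrime] :
    ∃ Q : Ideal A, Q.IsPrime ∧ f ∉ Q ∧
      ∀ I : Ideal A, I.IsHomogeneous 𝒜 → (locIdeal 𝒜 I f ≤ q ↔ I ≤ Q) := by
  classical
  refine ⟨ProjIsoSpecTopComponent.FromSpec.carrier.asIdeal hf hm ⟨q, hq⟩,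
    ProjIsoSpecTopComponent.FromSpec.carrier.asIdeal.prime hf hm ⟨q, hq⟩,
    ProjIsoSpecTopComponent.FromSpec.carrier.denom_notMem hf hm ⟨q, hq⟩, fun I hI => ⟨fun hle a ha => ?_, fun hle z hz => ?_⟩⟩
  · intro i
    refine hle ((mk_mem_locIdeal_iff I f _).2 ⟨0, ?_⟩)
    rw [pow_zero, one_mul]
    exact I.pow_mem_of_mem (hI i ha) m hm
  · obtain ⟨z, rfl⟩ := HomogeneousLocalization.mk_surjective z
    obtain ⟨k, hk⟩ := (mk_mem_locIdeal_iff I f z).1 hz
    refine (ProjIsoSpecTopComponent.FromSpec.num_mem_carrier_iff hf hm ⟨q, hq⟩ z).1 ?_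
    have hp := ProjIsoSpecTopComponent.FromSpec.carrier.asIdeal.prime hf hm (⟨q, hq⟩ : PrimeSpectrum _)
    refine (hp.mem_or_mem (hle hk)).resolve_left fun h => ?_
    exact ProjIsoSpecTopComponent.FromSpec.carrier.denom_notMem hf hm ⟨q, hq⟩ (hp.mem_of_pow_mem k h)

theorem isPrime_locIdeal {f : A} (Q : Ideal A) [Q.IsPrime] (hf : f ∉ Q) : (locIdeal 𝒜 Q f).IsPrime := by
  have := IsLocalization.isPrime_of_isPrime_disjoint (Submonoid.powers f) (Localization.Away f) Q inferInstance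
    ((Ideal.disjoint_powers_iff_notMem_of_isPrime f).2 hf)
  exact Ideal.IsPrime.comap _

theorem locIdeal_mono {f : A} {I J : Ideal A} (h : I ≤ J) : locIdeal 𝒜 I f ≤ locIdeal 𝒜 J f :=
  Ideal.comap_mono (Ideal.map_mono h)

theorem isNoetherianRing_away [IsNoetherianRing A] {d : ℕ} (f : A) (hf : f ∈ 𝒜 d) :
    IsNoetherianRing (HomogeneousLocalization.Away 𝒜 f) := by
  obtain ⟨h0, hft⟩ := (GrothLib.GradedAlg.isNoetherianRing_iff 𝒜).mp inferInstance
  have := HomogeneousLocalization.Away.finiteType (𝒜 := 𝒜) f d hf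
  exact Algebra.FiniteType.isNoetherianRing (𝒜 0) _

theorem isHomogeneous_ofList {zs : List A} (hzs : ∀ z ∈ zs, ∃ n : ℕ, 0 < n ∧ z ∈ 𝒜 n) :
    (Ideal.ofList zs).IsHomogeneous 𝒜 :=
  Ideal.homogeneous_span 𝒜 _ fun z hz => by
    obtain ⟨n, -, hn⟩ := hzs z hz
    exact ⟨n, hn⟩

theorem locIdeal_ne_top {f : A} {I : Ideal A} (hf : f ∉ I.radical) : locIdeal 𝒜 I f ≠ ⊤ := by
  intro h
  have h1 : algebraMap A (Localization.Away f) 1 ∈ I.map (algebraMap A (Localization.Away f)) := by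
    have := Ideal.mem_comap.1 (show (1 : HomogeneousLocalization.Away 𝒜 f) ∈ locIdeal 𝒜 I f by rw [h]; trivial)
    rwa [map_one] at this ⊢
  obtain ⟨_, ⟨k, rfl⟩, hk⟩ := (IsLocalization.algebraMap_mem_map_algebraMap_iff (Submonoid.powers f) _ I 1).1 h1
  exact hf ⟨k, by simpa using hk⟩

/-- Krull: the geometric height of `(z₁, …, z_j)` is at most `j`. -/
theorem height_le [IsNoetherianRing A] {f : A} {m : ℕ} (hm : 0 < m) (hf : f ∈ 𝒜 m) (zs : List A)
    (hzs : ∀ z ∈ zs, ∃ n : ℕ, 0 < n ∧ z ∈ 𝒜 n) (hne : f ∉ (Ideal.ofList zs).radical) :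
    geomHeight 𝒜 (Ideal.ofList zs) f ≤ zs.length := by
  classical
  have := isNoetherianRing_away f hf
  choose! n hn0 hn using hzs
  let num : A → HomogeneousLocalization.Away 𝒜 f := fun z =>
    if hz : z ∈ 𝒜 (n z) then HomogeneousLocalization.mk ⟨m * n z, ⟨z ^ m, by rw [← smul_eq_mul]; exact SetLike.pow_mem_graded m hz⟩,
      ⟨f ^ n z, by rw [mul_comm, ← smul_eq_mul]; exact SetLike.pow_mem_graded _ hf⟩, ⟨_, rfl⟩⟩ else 0
  have hle : Ideal.span ((zs.toFinset.image num : Finset _) : Set (HomogeneousLocalization.Away 𝒜 f)) ≤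
      locIdeal 𝒜 (Ideal.ofList zs) f := by
    rw [Ideal.span_le]
    intro w hw
    obtain ⟨z, hz, rfl⟩ := Finset.mem_image.1 hw
    rw [List.mem_toFinset] at hz
    simp only [num, dif_pos (hn z hz), SetLike.mem_coe]
    exact (mk_mem_locIdeal_iff _ f _).2 ⟨0, by
      rw [pow_zero, one_mul]; exact Ideal.pow_mem_of_mem _ (Ideal.subset_span (show z ∈ {r | r ∈ zs} from hz)) m hm⟩
  obtain ⟨P, hP⟩ := Ideal.nonempty_minimalPrimes (ne_top_of_le_ne_top (locIdeal_ne_top (𝒜 := 𝒜) hne) hle)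
  have : P.IsPrime := hP.1.1
  obtain ⟨Q, hQ, hfQ, hQI⟩ := exists_prime hm hf P
  have hsub : locIdeal 𝒜 (Ideal.ofList zs) f ≤ P := by
    rw [hQI _ (isHomogeneous_ofList fun z hz => ⟨n z, hn0 z hz, hn z hz⟩)]
    refine Ideal.span_le.2 fun z hz => ?_
    have h1 : locIdeal 𝒜 (Ideal.span {z ^ m}) f ≤ P := by
      intro w hw
      obtain ⟨w, rfl⟩ := HomogeneousLocalization.mk_surjective w
      obtain ⟨k, hk⟩ := (mk_mem_locIdeal_iff _ f w).1 hw
      obtain ⟨c, hc⟩ := Ideal.mem_span_singleton'.1 hk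
      obtain ⟨⟨_, e, rfl⟩⟩ : Nonempty (Submonoid.powers f) := ⟨1⟩
      have hmem : num z ∈ P := hP.1.2 (Ideal.subset_span (Finset.mem_coe.2 (Finset.mem_image_of_mem _ (List.mem_toFinset.2 hz))))
      obtain ⟨r, hr⟩ : ∃ r : Localization.Away f, (HomogeneousLocalization.mk w).val = r * (num z).val := by
        refine ⟨Localization.mk (c * f ^ n z) (⟨f ^ k, k, rfl⟩ * ⟨(w.den : A), w.den_mem⟩), ?_⟩
        simp only [num, dif_pos (hn z hz), HomogeneousLocalization.val_mk, Localization.mk_mul,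
          Localization.mk_eq_mk_iff, Localization.r_iff_exists]
        exact ⟨1, by simp only [OneMemClass.coe_one, one_mul, Submonoid.coe_mul]; linear_combination (-(w.den : A) * f ^ n z) * hc⟩
      by_contra hwP
      have hp := ProjIsoSpecTopComponent.FromSpec.num_mem_carrier_iff hf hm ⟨P, ‹_›⟩ w
      have hcarr := ProjIsoSpecTopComponent.FromSpec.carrier.asIdeal.prime hf hm (⟨P, ‹_›⟩ : PrimeSpectrum _)
      have hzc : z ∈ ProjIsoSpecTopComponent.FromSpec.carrier.asIdeal hf hm (⟨P, ‹_›⟩ : PrimeSpectrum _) := by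
        refine (ProjIsoSpecTopComponent.FromSpec.mem_carrier_iff_of_mem hf hm _ z (hn z hz)).2 ?_
        simpa only [num, dif_pos (hn z hz)] using hmem
      have h2 : f ^ k * (w.num : A) ∈ ProjIsoSpecTopComponent.FromSpec.carrier.asIdeal hf hm (⟨P, ‹_›⟩ : PrimeSpectrum _) := by
        rw [← hc]; exact Ideal.mul_mem_left _ _ (Ideal.pow_mem_of_mem _ hzc m hm)
      exact hwP (hp.1 ((hcarr.mem_or_mem h2).resolve_left fun h =>
        ProjIsoSpecTopComponent.FromSpec.carrier.denom_notMem hf hm _ (hcarr.mem_of_pow_mem k h)))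
    have h2 := (hQI _ (Ideal.homogeneous_span 𝒜 _ fun w hw => ⟨_, Set.mem_singleton_iff.1 hw ▸ SetLike.pow_mem_graded m (hn z hz)⟩)).1 h1
    exact hQ.mem_of_pow_mem m (h2 (Ideal.mem_span_singleton_self _))
  refine (Ideal.height_mono hsub).trans ((Ideal.height_le_card_of_mem_minimalPrimes_span_finset hP).trans ?_)
  exact_mod_cast Finset.card_image_le.trans zs.toFinset_card_le

/-- Let A be a Noetherian commutative ring graded by the natural numbers, J a homogeneous ideal of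
uniform geometric height h (the height of the homogeneous localization J_(f) in the degree-zero ring
A_(f) is h for every homogeneous f of positive degree outside the radical of J), and q_1, ..., q_t
finitely many prime ideals none of which contains J or the irrelevant ideal A_+. Then there are
homogeneous elements z_1, ..., z_h of positive degree, lying in J and in no q_i, such that for every
homogeneous f of positive degree outside the radical of J and every 1 ≤ j ≤ h the ideal (z_1, ...,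
z_j) has geometric height j with respect to f. (The published statement lets f range over all
homogeneous elements outside the radical of J, degree 0 included; then it fails: in A = k[t][x] with
t of degree 0 and x of degree 1, the ideal J = (t) has geometric height 1 with respect to every
homogeneous f outside its radical, f = 1 included, while (z)_(1) = 0 has height 0 for every
homogeneous z of positive degree. This row takes f of positive degree, in the hypothesis and in the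
conclusion.) -/
theorem result {R : Type u} {A : Type v} [CommRing R] [CommRing A]
    [Algebra R A] [IsNoetherianRing A] (𝒜 : ℕ → Submodule R A) [GradedRing 𝒜]
    (J : Ideal A) (hJ : J.IsHomogeneous 𝒜) (h : ℕ) (hJh : W4c2ratsingkovacs.HasUniformGeomHeight 𝒜 J h)
    (P : Finset (Ideal A)) (hP : ∀ q ∈ P, q.IsPrime ∧ ¬ J ≤ q ∧ ¬ (HomogeneousIdeal.irrelevant 𝒜).toIdeal ≤ q) :
    ∃ zs : List A, zs.length = h ∧
      (∀ z ∈ zs, (∃ n : ℕ, 0 < n ∧ z ∈ 𝒜 n) ∧ z ∈ J ∧ ∀ q ∈ P, z ∉ q) ∧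
      ∀ (f : A) (n : ℕ), 0 < n → f ∈ 𝒜 n → f ∉ J.radical →
        ∀ j : ℕ, 1 ≤ j → j ≤ h → W4c2ratsingkovacs.geomHeight 𝒜 (Ideal.ofList (zs.take j)) f = j := by
  classical
  have hcore : ∀ (K q : Ideal A), K.IsHomogeneous 𝒜 → K ≤ q → K ≤ (q.homogeneousCore 𝒜).toIdeal := by
    intro K q hK hle
    rw [← hK.toIdeal_homogeneousCore_eq_self]
    exact Ideal.homogeneousCore_mono 𝒜 hle
  have key : ∀ j : ℕ, j ≤ h → ∃ zs : List A, zs.length = j ∧
      (∀ z ∈ zs, (∃ n : ℕ, 0 < n ∧ z ∈ 𝒜 n) ∧ z ∈ J ∧ ∀ q ∈ P, z ∉ q) ∧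
      ∀ i ≤ j, ∀ (f : A) (m : ℕ), 0 < m → f ∈ 𝒜 m → f ∉ J.radical →
        ∀ q : Ideal (HomogeneousLocalization.Away 𝒜 f), q.IsPrime →
          locIdeal 𝒜 (Ideal.ofList (zs.take i)) f ≤ q → (i : ℕ∞) ≤ q.height := by
    intro j
    induction j with
    | zero =>
      intro _
      refine ⟨[], rfl, fun z hz => absurd hz List.not_mem_nil, fun i hi f m _ _ _ q _ _ => ?_⟩
      obtain rfl : i = 0 := by omega
      simp
    | succ j ih =>
      intro hj
      obtain ⟨zs, hlen, hzs, hht⟩ := ih (by omega)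
      have hIhom := isHomogeneous_ofList (𝒜 := 𝒜) fun z hz => (hzs z hz).1
      obtain ⟨d, z, hd, hz, hzJ, hzS⟩ := exists_avoid 𝒜 J hJ
        ((P ∪ ((Ideal.finite_minimalPrimes_of_isNoetherianRing A (Ideal.ofList zs)).toFinset.filter
          fun q => ¬ J ≤ q ∧ ¬ (HomogeneousIdeal.irrelevant 𝒜).toIdeal ≤ q)).image fun q => (q.homogeneousCore 𝒜).toIdeal)
        (fun c hc => by
          obtain ⟨q, hq, rfl⟩ := Finset.mem_image.1 hc
          have hq' : q.IsPrime ∧ ¬ J ≤ q ∧ ¬ (HomogeneousIdeal.irrelevant 𝒜).toIdeal ≤ q := by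
            rcases Finset.mem_union.1 hq with hq | hq
            · exact hP q hq
            · rw [Finset.mem_filter, Set.Finite.mem_toFinset] at hq
              exact ⟨hq.1.1.1, hq.2⟩
          exact ⟨hq'.1.homogeneousCore, HomogeneousIdeal.isHomogeneous _,
            fun hle => hq'.2.1 (hle.trans (Ideal.toIdeal_homogeneousCore_le 𝒜 q)),
            fun hle => hq'.2.2 (hle.trans (Ideal.toIdeal_homogeneousCore_le 𝒜 q))⟩)
      have hnot : ∀ q : Ideal A, (q ∈ P ∨ q ∈ (Ideal.ofList zs).minimalPrimes ∧ ¬ J ≤ q ∧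
          ¬ (HomogeneousIdeal.irrelevant 𝒜).toIdeal ≤ q) → z ∉ q := by
        intro q hq hzq
        refine hzS _ (Finset.mem_image_of_mem _ ?_) (Ideal.mem_homogeneousCore_of_homogeneous_of_mem ⟨d, hz⟩ hzq)
        rw [Finset.mem_union, Finset.mem_filter, Set.Finite.mem_toFinset]
        exact hq
      refine ⟨zs ++ [z], by simp [hlen], fun w hw => ?_, fun i hi f m hm hf hfJ q hq hle => ?_⟩
      · rcases List.mem_append.1 hw with hw | hw
        · exact hzs w hw
        · rw [List.mem_singleton] at hw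
          subst hw
          exact ⟨⟨d, hd, hz⟩, hzJ, fun q hq => hnot q (Or.inl hq)⟩
      rcases Nat.lt_or_ge i (j + 1) with hij | hij
      · rw [List.take_append_of_le_length (by omega)] at hle
        exact hht i (by omega) f m hm hf hfJ q hq hle
      obtain rfl : i = j + 1 := by omega
      rw [List.take_of_length_le (by simp [hlen])] at hle
      have := isNoetherianRing_away f hf
      obtain ⟨Q, hQ, hfQ, hQI⟩ := exists_prime hm hf q
      have hI'Q : Ideal.ofList (zs ++ [z]) ≤ Q := (hQI _ (isHomogeneous_ofList fun w hw => by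
        rcases List.mem_append.1 hw with hw | hw
        · exact (hzs w hw).1
        · rw [List.mem_singleton] at hw; exact hw ▸ ⟨d, hd, hz⟩)).1 hle
      rw [Ideal.ofList_append, sup_le_iff, Ideal.ofList_singleton, Ideal.span_singleton_le_iff_mem] at hI'Q
      obtain ⟨Q₀, hQ₀min, hQ₀Q⟩ := Ideal.exists_minimalPrimes_le hI'Q.1
      have : Q₀.IsPrime := hQ₀min.1.1
      have hQ₀hom : Q₀.IsHomogeneous 𝒜 := by
        have h1 : Q₀ ≤ (Q₀.homogeneousCore 𝒜).toIdeal :=
          hQ₀min.2 ⟨Ideal.IsPrime.homogeneousCore ‹_›, hcore _ _ hIhom hQ₀min.1.2⟩ (Ideal.toIdeal_homogeneousCore_le 𝒜 _)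
        rw [← le_antisymm (Ideal.toIdeal_homogeneousCore_le 𝒜 _) h1]
        exact HomogeneousIdeal.isHomogeneous _
      have hfQ₀ : f ∉ Q₀ := fun hmem => hfQ (hQ₀Q hmem)
      have hq₀ : (locIdeal 𝒜 Q₀ f).IsPrime := isPrime_locIdeal Q₀ hfQ₀
      have hq₀q : locIdeal 𝒜 Q₀ f ≤ q := (hQI Q₀ hQ₀hom).2 hQ₀Q
      by_cases hJQ : J ≤ Q₀
      · calc ((j + 1 : ℕ) : ℕ∞) ≤ h := by exact_mod_cast hj
          _ = geomHeight 𝒜 J f := (hJh f m hm hf hfJ).symm
          _ ≤ q.height := Ideal.height_mono ((locIdeal_mono hJQ).trans hq₀q)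
      have hirr : ¬ (HomogeneousIdeal.irrelevant 𝒜).toIdeal ≤ Q₀ := fun hle' =>
        hfQ₀ (hle' (DirectSum.decompose_of_mem_ne 𝒜 hf hm.ne'))
      have hzQ₀ : z ∉ Q₀ := hnot Q₀ (Or.inr ⟨hQ₀min, hJQ, hirr⟩)
      have hlt : locIdeal 𝒜 Q₀ f < q := by
        refine lt_of_le_of_ne hq₀q fun heq => ?_
        have hz1 : HomogeneousLocalization.mk ⟨m * d, ⟨z ^ m, by rw [← smul_eq_mul]; exact SetLike.pow_mem_graded m hz⟩,
            ⟨f ^ d, by rw [mul_comm, ← smul_eq_mul]; exact SetLike.pow_mem_graded _ hf⟩, (⟨d, rfl⟩ : f ^ d ∈ Submonoid.powers f)⟩ ∈ locIdeal 𝒜 Q₀ f := by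
          rw [heq]
          refine (hQI _ (Ideal.homogeneous_span 𝒜 {z} fun w hw => ⟨d, Set.mem_singleton_iff.1 hw ▸ hz⟩)).2
            (Ideal.span_le.2 (Set.singleton_subset_iff.2 hI'Q.2)) ((mk_mem_locIdeal_iff _ f _).2 ⟨0, ?_⟩)
          rw [pow_zero, one_mul]
          exact Ideal.pow_mem_of_mem _ (Ideal.mem_span_singleton_self z) m hm
        obtain ⟨k, hk⟩ := (mk_mem_locIdeal_iff _ f _).1 hz1
        refine hzQ₀ (Ideal.IsPrime.mem_of_pow_mem ‹_› m ((Ideal.IsPrime.mem_or_mem ‹_› hk).resolve_left fun hk' =>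
          hfQ₀ (Ideal.IsPrime.mem_of_pow_mem ‹_› k hk')))
      have hj' := hht j le_rfl f m hm hf hfJ _ hq₀ (by
        rw [List.take_of_length_le hlen.le]; exact locIdeal_mono hQ₀min.1.2)
      rw [Nat.cast_add, Nat.cast_one]
      exact (add_le_add hj' le_rfl).trans (Ideal.height_add_one_le_of_lt_of_isPrime hlt)
  obtain ⟨zs, hlen, hzs, hht⟩ := key h le_rfl
  refine ⟨zs, hlen, hzs, fun f n hn hf hfJ j hj1 hjh => le_antisymm ?_ ?_⟩
  · have hle : Ideal.ofList (zs.take j) ≤ J := Ideal.span_le.2 fun z hz => (hzs z (List.mem_of_mem_take hz)).2.1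
    refine (height_le hn hf (zs.take j) (fun z hz => (hzs z (List.mem_of_mem_take hz)).1)
      fun hmem => hfJ (Ideal.radical_mono hle hmem)).trans ?_
    rw [List.length_take, min_eq_left (by omega)]
  · rw [geomHeight, Ideal.height_eq_inf_minimalPrimes]
    refine le_iInf₂ fun q hq => ?_
    have : q.IsPrime := hq.1.1
    exact hht j hjh f n hn hf hfJ q hq.1.1 hq.1.2

end Groth.Agent.S15723
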