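import Groth.Statements.S15724
import Groth.Agent.Lib.InvHilbSL2.Five
-- import your own Groth.Agent.* helpers here

set_option autoImplicit false
universe u
open W4c2invhilbsl2

namespace Groth.Agent.S15724

/-- Grade the polynomial ring k[X₀,…,X₄] over a field k by ℤ × ℤ/m, giving X₀ weight (1,0), X₁ and X₂
weight (−p,−1), and X₃ and X₄ weight (q,1), where 0 < p < q are coprime integers and m ≥ 1, and let
P be the principal ideal generated by the weight-zero element X₀^(q−p) − X₁X₄ + X₂X₃ (the equation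
of an affine hypersurface). Then every polynomial homogeneous of the weight of X₁ is congruent
modulo P to some a·X₁ + b·X₂ with a and b homogeneous of weight zero, and every polynomial
homogeneous of the weight of X₃ is congruent modulo P to some a·X₃ + b·X₄ with a and b homogeneous
of weight zero. Equivalently, in the coordinate ring of the hypersurface the weight pieces of the
weights of X₁ and of X₃ are generated over the weight-zero subring (the ring of invariants of the
diagonal action of a one-dimensional torus times the group of m-th roots of unity with these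
weights) by X₁, X₂ and by X₃, X₄ respectively. (For the weight of X₁ the congruence is already an
equality in the polynomial ring; for the weight of X₃ the hypersurface equation is needed, e.g.
X₀^(q+p)X₁ has that weight when m divides 2.) -/
theorem result (k : Type u) [Field k] (p q m : ℕ) (hp : 0 < p) (hpq : p < q) (hcop : Nat.Coprime p q) (hm : 0 < m) (f : MvPolynomial (Fin 5) k) :
    (f ∈ MvPolynomial.weightedHomogeneousSubmodule k (W4c2invhilbsl2.wt5 p q m) (W4c2invhilbsl2.wt5 p q m 1) →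
      ∃ a b : MvPolynomial (Fin 5) k, a ∈ MvPolynomial.weightedHomogeneousSubmodule k (W4c2invhilbsl2.wt5 p q m) 0 ∧ b ∈ MvPolynomial.weightedHomogeneousSubmodule k (W4c2invhilbsl2.wt5 p q m) 0 ∧
        f - (a * MvPolynomial.X (1 : Fin 5) + b * MvPolynomial.X (2 : Fin 5)) ∈ Ideal.span {MvPolynomial.X (0 : Fin 5) ^ (q - p) - MvPolynomial.X 1 * MvPolynomial.X 4 + MvPolynomial.X 2 * MvPolynomial.X 3}) ∧
    (f ∈ MvPolynomial.weightedHomogeneousSubmodule k (W4c2invhilbsl2.wt5 p q m) (W4c2invhilbsl2.wt5 p q m 3) →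
      ∃ a b : MvPolynomial (Fin 5) k, a ∈ MvPolynomial.weightedHomogeneousSubmodule k (W4c2invhilbsl2.wt5 p q m) 0 ∧ b ∈ MvPolynomial.weightedHomogeneousSubmodule k (W4c2invhilbsl2.wt5 p q m) 0 ∧
        f - (a * MvPolynomial.X (3 : Fin 5) + b * MvPolynomial.X (4 : Fin 5)) ∈ Ideal.span {MvPolynomial.X (0 : Fin 5) ^ (q - p) - MvPolynomial.X 1 * MvPolynomial.X 4 + MvPolynomial.X 2 * MvPolynomial.X 3}) := by
  open GrothLib.InvHilbSL2 MvPolynomial in
  have key : ∀ (i₁ i₂ : Fin 5), Finsupp.weight (W4c2invhilbsl2.wt5 p q m) (Finsupp.single i₁ 1) = Finsupp.weight (W4c2invhilbsl2.wt5 p q m) (Finsupp.single i₂ 1) →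
      f ∈ weightedHomogeneousSubmodule k (W4c2invhilbsl2.wt5 p q m) (W4c2invhilbsl2.wt5 p q m i₁) →
      (∀ d : Fin 5 →₀ ℕ, Finsupp.weight (W4c2invhilbsl2.wt5 p q m) d = Finsupp.weight (W4c2invhilbsl2.wt5 p q m) (Finsupp.single i₁ 1) →
        1 ≤ d i₁ ∨ 1 ≤ d i₂ ∨ q - p ≤ d 0 ∧ ∀ d' : Fin 5 →₀ ℕ, (1 ≤ d' 1 ∧ 1 ≤ d' 4 ∨ 1 ≤ d' 2 ∧ 1 ≤ d' 3) → (1 ≤ d' i₁ ∨ 1 ≤ d' i₂)) →
      ∃ a b : MvPolynomial (Fin 5) k, a ∈ weightedHomogeneousSubmodule k (W4c2invhilbsl2.wt5 p q m) 0 ∧ b ∈ weightedHomogeneousSubmodule k (W4c2invhilbsl2.wt5 p q m) 0 ∧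
        f - (a * X i₁ + b * X i₂) ∈ hyper k p q := by
    intro i₁ i₂ hw hf hd
    obtain ⟨a, ha, ha'⟩ : Good (W4c2invhilbsl2.wt5 p q m) ![(X i₁ : MvPolynomial (Fin 5) k), X i₂] (hyper k p q) f := by
      refine good_of_monomials hf fun d c hν => ?_
      have hν' : Finsupp.weight (W4c2invhilbsl2.wt5 p q m) d = Finsupp.weight (W4c2invhilbsl2.wt5 p q m) (Finsupp.single i₁ 1) := by
        rw [hν, Finsupp.weight_single, one_smul]
      have hgood : ∀ d' : Fin 5 →₀ ℕ, Finsupp.weight (W4c2invhilbsl2.wt5 p q m) d' = Finsupp.weight (W4c2invhilbsl2.wt5 p q m) d → (1 ≤ d' i₁ ∨ 1 ≤ d' i₂) → ∀ c,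
          Good (W4c2invhilbsl2.wt5 p q m) ![(X i₁ : MvPolynomial (Fin 5) k), X i₂] (hyper k p q) (monomial d' c) := by
        rintro d' hd' (h | h) c
        · exact good_monomial 0 (show _ = monomial (Finsupp.single i₁ 1) (1 : k) from rfl) (Finsupp.single_le_iff.2 h) (hd'.trans hν') c
        · exact good_monomial 1 (show _ = monomial (Finsupp.single i₂ 1) (1 : k) from rfl) (Finsupp.single_le_iff.2 h) ((hd'.trans hν').trans hw) c
      rcases hd d hν' with h | h | ⟨h0, h⟩
      · exact hgood d rfl (Or.inl h) c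
      · exact hgood d rfl (Or.inr h) c
      · exact good_of_reduce p q m hpq h0 c fun d' hd' h' => hgood d' hd' (h d' h')
    exact ⟨a 0, a 1, ha 0, ha 1, by simpa [Fin.sum_univ_two] using ha'⟩
  refine ⟨fun hf => key 1 2 ?_ hf fun d hd => ?_, fun hf => key 3 4 ?_ hf fun d hd => ?_⟩
  · simp [weight_wt5]
  · rw [weight_wt5, weight_wt5] at hd
    obtain ⟨h1, -⟩ := Prod.ext_iff.1 hd
    simp at h1
    by_cases h : 1 ≤ d 1 ∨ 1 ≤ d 2
    · exact h.imp id Or.inl
    · exfalso
      rw [show d 1 = 0 by omega, show d 2 = 0 by omega] at h1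
      have : (0 : ℤ) ≤ q * ((d 3 : ℤ) + d 4) := by positivity
      simp at h1
      omega
  · simp [weight_wt5]
  · rw [weight_wt5, weight_wt5] at hd
    obtain ⟨h1, -⟩ := Prod.ext_iff.1 hd
    simp at h1
    by_cases h : 1 ≤ d 3 ∨ 1 ≤ d 4
    · exact h.imp id Or.inl
    · refine Or.inr (Or.inr ⟨?_, fun d' hd' => ?_⟩)
      · rw [show d 3 = 0 by omega, show d 4 = 0 by omega] at h1
        have : (0 : ℤ) ≤ p * ((d 1 : ℤ) + d 2) := by positivity
        simp at h1
        omega
      · omega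

end Groth.Agent.S15724
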