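import Groth.Statements.S15725
import Groth.Agent.Lib.InvHilbSL2.Basic
-- import your own Groth.Agent.* helpers here

set_option autoImplicit false
universe u
open W4c2invhilbsl2

namespace Groth.Agent.S15725

/-- Grade the polynomial ring k[X₀,X₁,X₂] over a field k by ℤ × ℤ/m, giving X₀ weight (1,0), X₁ weight
(−p,−1) and X₂ weight (q,1), where 0 < p < q are coprime integers and m ≥ 1 (this three-variable
ring stands for the subring k[X₀,X₁,Xⱼ], j = 3 or 4, of the five-variable ring with the same
weights). Then every polynomial homogeneous of weight (q−p, 0) can be written a·X₀^(q−p) + b·X₁X₂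
with a and b homogeneous of weight zero; in other words the weight-(q−p, 0) piece is generated by
X₀^(q−p) and X₁X₂ as a module over the weight-zero subring. -/
theorem result (k : Type u) [Field k] (p q m : ℕ) (hp : 0 < p) (hpq : p < q) (hcop : Nat.Coprime p q) (hm : 0 < m) (f : MvPolynomial (Fin 3) k)
    (hf : f ∈ MvPolynomial.weightedHomogeneousSubmodule k (W4c2invhilbsl2.wt3 p q m) ((q : ℤ) - (p : ℤ), (0 : ZMod m))) :
    ∃ a b : MvPolynomial (Fin 3) k, a ∈ MvPolynomial.weightedHomogeneousSubmodule k (W4c2invhilbsl2.wt3 p q m) 0 ∧ b ∈ MvPolynomial.weightedHomogeneousSubmodule k (W4c2invhilbsl2.wt3 p q m) 0 ∧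
      f = a * MvPolynomial.X (0 : Fin 3) ^ (q - p) + b * (MvPolynomial.X (1 : Fin 3) * MvPolynomial.X (2 : Fin 3)) := by
  open GrothLib.InvHilbSL2 MvPolynomial in
  obtain ⟨a, ha, ha'⟩ : Good (W4c2invhilbsl2.wt3 p q m) ![(X 0 : MvPolynomial (Fin 3) k) ^ (q - p), X 1 * X 2] ⊥ f := by
    refine good_of_monomials hf fun d c hν => ?_
    have hν' := hν
    rw [weight_wt3, pair_zero] at hν'
    obtain ⟨h1, -⟩ := exists_of_pair_eq m hν'
    by_cases h : 1 ≤ d 1 ∧ 1 ≤ d 2
    · refine good_monomial 1 (e := Finsupp.single 1 1 + Finsupp.single 2 1) ?_ ?_ ?_ c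
      · change X 1 * X 2 = _
        rw [X, X, monomial_mul, one_mul]
      · intro i; fin_cases i <;> simp [h.1, h.2]
      · rw [hν, weight_wt3]; simp; ring
    · refine good_monomial 0 (e := Finsupp.single 0 (q - p)) ?_ (Finsupp.single_le_iff.2 ?_) ?_ c
      · change X 0 ^ (q - p) = _
        rw [X_pow_eq_monomial]
      · have hA : (0 : ℤ) ≤ q * d 2 := by positivity
        have hB : (0 : ℤ) ≤ p * d 1 := by positivity
        rcases Nat.eq_zero_or_pos (d 1) with h' | h'
        · rw [h'] at h1
          simp at h1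
          have : d 2 = 0 := by
            by_contra h2
            have : (q : ℤ) * 1 ≤ q * d 2 := mul_le_mul_of_nonneg_left (by omega) (by omega)
            omega
          rw [this] at h1
          simp at h1
          omega
        · rw [show d 2 = 0 by omega] at h1
          simp at h1
          omega
      · rw [hν, weight_wt3]; simp [Nat.cast_sub hpq.le]
  exact ⟨a 0, a 1, ha 0, ha 1, by simpa [Fin.sum_univ_two, sub_eq_zero] using ha'⟩

end Groth.Agent.S15725
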