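import Groth.Statements.S15726
import Groth.Agent.Lib.InvHilbSL2.Five
-- import your own Groth.Agent.* helpers here

set_option autoImplicit false
universe u
open W4c2invhilbsl2

namespace Groth.Agent.S15726

/-- Grade the polynomial ring k[X₀,…,X₄] over a field k by ℤ × ℤ/m, giving X₀ weight (1,0), X₁ and X₂
weight (−p,−1), and X₃ and X₄ weight (q,1), where 0 < p < q are coprime integers and m ≥ 1. Then
modulo the principal ideal generated by the weight-zero element X₀^(q−p) − X₁X₄ + X₂X₃ (the equation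
of an affine hypersurface), every polynomial homogeneous of weight (q−p, 0) is congruent to a
combination a₁₃X₁X₃ + a₁₄X₁X₄ + a₂₃X₂X₃ + a₂₄X₂X₄ whose four coefficients are homogeneous of weight
zero. Equivalently, in the coordinate ring of the hypersurface the weight-(q−p, 0) piece is
generated over the weight-zero subring (the invariant ring of the diagonal action with these
weights) by the span of the four products XₐX_b with a ∈ {1,2} and b ∈ {3,4}. (The published
statement is over the complex numbers; this row takes any field.) -/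
theorem result (k : Type u) [Field k] (p q m : ℕ) (hp : 0 < p) (hpq : p < q) (hcop : Nat.Coprime p q) (hm : 0 < m) (f : MvPolynomial (Fin 5) k)
    (hf : f ∈ MvPolynomial.weightedHomogeneousSubmodule k (W4c2invhilbsl2.wt5 p q m) ((q : ℤ) - (p : ℤ), (0 : ZMod m))) :
    ∃ a₁₃ a₁₄ a₂₃ a₂₄ : MvPolynomial (Fin 5) k,
      a₁₃ ∈ MvPolynomial.weightedHomogeneousSubmodule k (W4c2invhilbsl2.wt5 p q m) 0 ∧ a₁₄ ∈ MvPolynomial.weightedHomogeneousSubmodule k (W4c2invhilbsl2.wt5 p q m) 0 ∧ a₂₃ ∈ MvPolynomial.weightedHomogeneousSubmodule k (W4c2invhilbsl2.wt5 p q m) 0 ∧ a₂₄ ∈ MvPolynomial.weightedHomogeneousSubmodule k (W4c2invhilbsl2.wt5 p q m) 0 ∧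
      f - (a₁₃ * (MvPolynomial.X (1 : Fin 5) * MvPolynomial.X 3) + a₁₄ * (MvPolynomial.X (1 : Fin 5) * MvPolynomial.X 4) +
          a₂₃ * (MvPolynomial.X (2 : Fin 5) * MvPolynomial.X 3) + a₂₄ * (MvPolynomial.X (2 : Fin 5) * MvPolynomial.X 4)) ∈
        Ideal.span {MvPolynomial.X (0 : Fin 5) ^ (q - p) - MvPolynomial.X 1 * MvPolynomial.X 4 + MvPolynomial.X 2 * MvPolynomial.X 3} := by
  open GrothLib.InvHilbSL2 MvPolynomial in
  obtain ⟨a, ha, ha'⟩ : Good (W4c2invhilbsl2.wt5 p q m) ![(X 1 : MvPolynomial (Fin 5) k) * X 3, X 1 * X 4, X 2 * X 3, X 2 * X 4] (hyper k p q) f := by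
    refine good_of_monomials hf fun d c hν => ?_
    have hgood : ∀ d' : Fin 5 →₀ ℕ, Finsupp.weight (W4c2invhilbsl2.wt5 p q m) d' = Finsupp.weight (W4c2invhilbsl2.wt5 p q m) d → (1 ≤ d' 1 ∨ 1 ≤ d' 2) → (1 ≤ d' 3 ∨ 1 ≤ d' 4) → ∀ c,
        Good (W4c2invhilbsl2.wt5 p q m) ![(X 1 : MvPolynomial (Fin 5) k) * X 3, X 1 * X 4, X 2 * X 3, X 2 * X 4] (hyper k p q) (monomial d' c) := by
      rintro d' hd' (hi | hi) (hj | hj) c
      · refine good_monomial 0 (e := Finsupp.single 1 1 + Finsupp.single 3 1) ?_ ?_ ?_ c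
        · change X 1 * X 3 = _
          rw [X, X, monomial_mul, one_mul]
        · intro i; fin_cases i <;> simp [hi, hj]
        · rw [hd', hν, weight_wt5]; simp; ring
      · refine good_monomial 1 (e := Finsupp.single 1 1 + Finsupp.single 4 1) ?_ ?_ ?_ c
        · change X 1 * X 4 = _
          rw [X, X, monomial_mul, one_mul]
        · intro i; fin_cases i <;> simp [hi, hj]
        · rw [hd', hν, weight_wt5]; simp; ring
      · refine good_monomial 2 (e := Finsupp.single 2 1 + Finsupp.single 3 1) ?_ ?_ ?_ c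
        · change X 2 * X 3 = _
          rw [X, X, monomial_mul, one_mul]
        · intro i; fin_cases i <;> simp [hi, hj]
        · rw [hd', hν, weight_wt5]; simp; ring
      · refine good_monomial 3 (e := Finsupp.single 2 1 + Finsupp.single 4 1) ?_ ?_ ?_ c
        · change X 2 * X 4 = _
          rw [X, X, monomial_mul, one_mul]
        · intro i; fin_cases i <;> simp [hi, hj]
        · rw [hd', hν, weight_wt5]; simp; ring
    by_cases h : (1 ≤ d 1 ∨ 1 ≤ d 2) ∧ (1 ≤ d 3 ∨ 1 ≤ d 4)
    · exact hgood d rfl h.1 h.2 c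
    · refine good_of_reduce p q m hpq ?_ c fun d' hd' h' => hgood d' hd' (by omega) (by omega)
      rw [weight_wt5, pair_zero] at hν
      obtain ⟨h1, -⟩ := exists_of_pair_eq m hν
      have hA : (0 : ℤ) ≤ p * ((d 1 : ℤ) + d 2) := by positivity
      rcases Nat.eq_zero_or_pos (d 1 + d 2) with h' | h'
      · rw [show d 1 = 0 by omega, show d 2 = 0 by omega] at h1
        simp at h1
        have : d 3 + d 4 = 0 := by
          by_contra h2
          have : (q : ℤ) * 1 ≤ q * ((d 3 : ℤ) + d 4) := mul_le_mul_of_nonneg_left (by omega) (by omega)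
          omega
        rw [show d 3 = 0 by omega, show d 4 = 0 by omega] at h1
        simp at h1
        omega
      · rw [show d 3 = 0 by omega, show d 4 = 0 by omega] at h1
        simp at h1
        omega
  exact ⟨a 0, a 1, a 2, a 3, ha 0, ha 1, ha 2, ha 3, by simpa [Fin.sum_univ_four] using ha'⟩

end Groth.Agent.S15726
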