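import Groth.Statements.S15727
import Groth.Agent.Lib.InvHilbSL2.Basic
-- import your own Groth.Agent.* helpers here

set_option autoImplicit false
universe u
open W4c2invhilbsl2

namespace Groth.Agent.S15727

/-- Let k be an algebraically closed field, 0 < p < q coprime integers and m ≥ 1, and grade k[X₀,…,X₄]
by ℤ × ℤ/m, giving X₀ weight (1,0), X₁ and X₂ weight (−p,−1), and X₃ and X₄ weight (q,1). For s ∈ k
let I_s be the ideal (X₀^(q−p) − X₁X₄, X₂, X₃, s − X₀^(mp)X₁^m), whose generators are homogeneous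
(the last one of weight zero). Then for every weight ν the image in k[X₀,…,X₄]/I_s of the
homogeneous polynomials of weight ν is a k-vector space of dimension at most 1. (The published
statement asserts that this dimension equals 1 for every ν and every s, namely that the quotient has
the Hilbert function of the regular representation of the grading group; this row states the upper
bound, the half obtained from the monomial analysis of the weight pieces, while the lower bound
there is drawn from the moduli interpretation of these ideals. The published statement is over the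
complex numbers; this row takes any algebraically closed field, which is what the reduction to s =
0, 1 by rescaling the variables uses.) -/
theorem result (k : Type u) [Field k] [IsAlgClosed k] (p q m : ℕ) (hp : 0 < p) (hpq : p < q) (hcop : Nat.Coprime p q) (hm : 0 < m) (s : k) (ν : ℤ × ZMod m) :
    Module.rank k (W4c2invhilbsl2.piece k (W4c2invhilbsl2.wt5 p q m) (W4c2invhilbsl2.idealI k p q m s) ν) ≤ 1 := by
  open GrothLib.InvHilbSL2 MvPolynomial in
  set I := W4c2invhilbsl2.idealI k p q m s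
  let φ := Ideal.Quotient.mk I
  have hI : ∀ x ∈ ({X (0 : Fin 5) ^ (q - p) - X 1 * X 4, X 2, X 3, C s - X 0 ^ (m * p) * X 1 ^ m} : Set (MvPolynomial (Fin 5) k)), φ x = 0 :=
    fun x hx => Ideal.Quotient.eq_zero_iff_mem.2 (Ideal.subset_span hx)
  have hC : ∀ (c : k) (x : MvPolynomial (Fin 5) k ⧸ I), φ (C c) * x = c • x := fun c x => by
    obtain ⟨x, rfl⟩ := Ideal.Quotient.mk_surjective x
    rw [← map_mul, ← smul_eq_C_mul]
    rfl
  have h2 : φ (X 2) = 0 := hI _ (by simp)
  have h3 : φ (X 3) = 0 := hI _ (by simp)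
  obtain ⟨x0, hx0⟩ : ∃ x, x = φ (X 0) := ⟨_, rfl⟩
  obtain ⟨x1, hx1⟩ : ∃ x, x = φ (X 1) := ⟨_, rfl⟩
  obtain ⟨x4, hx4⟩ : ∃ x, x = φ (X 4) := ⟨_, rfl⟩
  have hh : x0 ^ (q - p) = x1 * x4 := by
    rw [hx0, hx1, hx4, ← map_pow, ← map_mul, ← sub_eq_zero, ← map_sub]
    exact hI _ (by simp)
  have hs : x0 ^ (m * p) * x1 ^ m = φ (C s) := by
    rw [hx0, hx1, ← map_pow, ← map_pow, ← map_mul, eq_comm, ← sub_eq_zero, ← map_sub]
    exact hI _ (by simp)
  have hmq : x0 ^ (m * q) = φ (C s) * x4 ^ m := by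
    have : m * q = m * p + (q - p) * m := by
      obtain ⟨t, rfl⟩ := Nat.exists_eq_add_of_le hpq.le
      rw [Nat.add_sub_cancel_left]; ring
    rw [this, pow_add, pow_mul x0 (q - p) m, hh, mul_pow, ← hs, mul_assoc]
  have norm : ∀ d : Fin 5 →₀ ℕ, φ (monomial d 1) = 0 ∨ ∃ A B D : ℕ, (B = 0 ∨ D = 0) ∧
      (A : ℤ) - p * B + q * D = (d 0 : ℤ) - p * ((d 1 : ℤ) + d 2) + q * ((d 3 : ℤ) + d 4) ∧
      (D : ℤ) - B = (d 3 : ℤ) + d 4 - ((d 1 : ℤ) + d 2) ∧ φ (monomial d 1) = x0 ^ A * x1 ^ B * x4 ^ D := by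
    intro d
    rw [monomial_five, map_mul, map_mul, map_mul, map_mul, map_pow, map_pow, map_pow, map_pow, map_pow,
      h2, h3, ← hx0, ← hx1, ← hx4]
    by_cases h : d 2 = 0 ∧ d 3 = 0
    · obtain ⟨t, ht⟩ : ∃ t, t = min (d 1) (d 4) := ⟨_, rfl⟩
      obtain ⟨B, hB⟩ := Nat.exists_eq_add_of_le (show t ≤ d 1 by omega)
      obtain ⟨D, hD⟩ := Nat.exists_eq_add_of_le (show t ≤ d 4 by omega)
      refine Or.inr ⟨d 0 + (q - p) * t, B, D, by omega, ?_, ?_, ?_⟩
      · rw [h.1, h.2, hB, hD]; push_cast [Nat.cast_sub hpq.le]; ring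
      · rw [h.1, h.2, hB, hD]; push_cast; ring
      · rw [h.1, h.2, hB, hD, pow_add x0, pow_mul x0 (q - p) t, hh]; ring
    · left
      rcases (show d 2 ≠ 0 ∨ d 3 ≠ 0 by omega) with h | h <;> rw [zero_pow h] <;> ring
  refine rank_piece_le_one _ I ν fun d d' hd hd' => ?_
  rcases norm d with h | ⟨A, B, D, hBD, hw1, hw2, h⟩
  · exact Or.inl ⟨0, h.trans (zero_smul _ _).symm⟩
  rcases norm d' with h' | ⟨A', B', D', hBD', hw1', hw2', h'⟩
  · exact Or.inr ⟨0, h'.trans (zero_smul _ _).symm⟩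
  have hw := hd.trans hd'.symm
  rw [weight_wt5, weight_wt5, ← hw1, ← hw1', ← hw2, ← hw2'] at hw
  obtain ⟨h1, y, hy⟩ := exists_of_pair_eq m hw
  have step : ∀ (A B D A' B' D' n : ℕ), (B = 0 ∨ D = 0) → (B' = 0 ∨ D' = 0) →
      (A : ℤ) - p * B + q * D = (A' : ℤ) - p * B' + q * D' → ((D' : ℤ) - B') - ((D : ℤ) - B) = m * n →
      x0 ^ A * x1 ^ B * x4 ^ D = s ^ n • (x0 ^ A' * x1 ^ B' * x4 ^ D') := by
    intro A B D A' B' D' n hb hb' e1 e2
    rw [← hC, C_pow, map_pow]
    have hmn : ((m * n : ℕ) : ℤ) = (m : ℤ) * n := by push_cast; ring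
    rcases hb with rfl | rfl <;> rcases hb' with rfl | rfl
    · obtain rfl : D' = D + m * n := by omega
      obtain rfl : A = A' + m * q * n := by
        have : (A : ℤ) = ((A' + m * q * n : ℕ) : ℤ) := by push_cast at e1 ⊢; linarith
        exact_mod_cast this
      rw [pow_add x0, pow_mul x0 (m * q) n, hmq]
      ring
    · obtain ⟨rfl, rfl, hn⟩ : D = 0 ∧ B' = 0 ∧ m * n = 0 := by omega
      obtain rfl : n = 0 := by simpa [hm.ne'] using hn
      obtain rfl : A = A' := by simp at e1; omega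
      ring
    · obtain hBm : B + D' = m * n := by omega
      obtain rfl : A = A' + (q - p) * D' + m * p * n := by
        have : (A : ℤ) = ((A' + (q - p) * D' + m * p * n : ℕ) : ℤ) := by
          push_cast [Nat.cast_sub hpq.le] at e1 ⊢
          have hz : (B : ℤ) + D' = m * n := by exact_mod_cast hBm
          linear_combination e1 + (p : ℤ) * hz
        exact_mod_cast this
      rw [pow_add x0, pow_add x0, pow_mul x0 (q - p) D', hh, pow_mul x0 (m * p) n, ← hs,
        mul_pow (x0 ^ (m * p)) (x1 ^ m) n, ← pow_mul x1 m n, ← hBm, pow_add x1]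
      ring
    · obtain rfl : B = B' + m * n := by omega
      obtain rfl : A = A' + m * p * n := by
        have : (A : ℤ) = ((A' + m * p * n : ℕ) : ℤ) := by push_cast at e1 ⊢; linarith
        exact_mod_cast this
      rw [pow_add x0, pow_mul x0 (m * p) n, ← hs]
      ring
  rcases le_or_gt 0 y with hy0 | hy0
  · obtain ⟨n, rfl⟩ := Int.eq_ofNat_of_zero_le hy0
    refine Or.inl ⟨s ^ n, ?_⟩
    change φ _ = _ • φ _
    rw [h, h']
    exact step _ _ _ _ _ _ n hBD hBD' h1 hy
  · obtain ⟨n, hn⟩ := Int.eq_ofNat_of_zero_le (show 0 ≤ -y by omega)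
    refine Or.inr ⟨s ^ n, ?_⟩
    change φ _ = _ • φ _
    rw [h, h']
    exact step _ _ _ _ _ _ n hBD' hBD h1.symm (by rw [← hn]; linarith)

end Groth.Agent.S15727
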