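import Groth.Statements.S15728
import Groth.Agent.Lib.InvHilbSL2.Basic
-- import your own Groth.Agent.* helpers here

set_option autoImplicit false
universe u
open W4c2invhilbsl2

namespace Groth.Agent.S15728

/-- Let k be an algebraically closed field, 0 < p < q coprime integers and m ≥ 1; put g = gcd(m, q−p)
and a = m/g, and grade k[X₀,…,X₄] by ℤ × ℤ/m, giving X₀ weight (1,0), X₁ and X₂ weight (−p,−1), and
X₃ and X₄ weight (q,1). For s ∈ k let J_s be the ideal (X₀^g, X₂, X₄, s − X₁^(aq)X₃^(ap)), whose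
generators are homogeneous (the last one of weight zero). Then for every weight ν the image in
k[X₀,…,X₄]/J_s of the homogeneous polynomials of weight ν is a k-vector space of dimension at most
1. (The published statement asserts that this dimension equals 1 for every ν and every s; this row
states the upper bound, the half obtained from the monomial analysis of the weight pieces, while the
lower bound there is drawn from the moduli interpretation of these ideals. The published statement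
is over the complex numbers; this row takes any algebraically closed field, which is what the
reduction to s = 0, 1 by rescaling the variables uses.) -/
theorem result (k : Type u) [Field k] [IsAlgClosed k] (p q m : ℕ) (hp : 0 < p) (hpq : p < q) (hcop : Nat.Coprime p q) (hm : 0 < m) (s : k) (ν : ℤ × ZMod m) :
    Module.rank k (W4c2invhilbsl2.piece k (W4c2invhilbsl2.wt5 p q m) (W4c2invhilbsl2.idealJ k p q m s) ν) ≤ 1 := by
  open GrothLib.InvHilbSL2 MvPolynomial in
  obtain ⟨g, hg⟩ : ∃ g, g = Nat.gcd m (q - p) := ⟨_, rfl⟩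
  obtain ⟨a, hagcd⟩ : ∃ a, a = m / g := ⟨_, rfl⟩
  obtain ⟨b, hbgcd⟩ : ∃ b, b = (q - p) / g := ⟨_, rfl⟩
  have hgpos : 0 < g := hg ▸ Nat.gcd_pos_of_pos_left _ hm
  have ham : a * g = m := hagcd ▸ Nat.div_mul_cancel (hg ▸ Nat.gcd_dvd_left _ _)
  have hbm : b * g = q - p := hbgcd ▸ Nat.div_mul_cancel (hg ▸ Nat.gcd_dvd_right _ _)
  have hco : Nat.Coprime b (a * p) := by
    refine Nat.Coprime.mul_right ?_ ?_
    · subst hagcd hbgcd
      subst hg
      exact (Nat.coprime_div_gcd_div_gcd hgpos).symm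
    · exact Nat.Coprime.coprime_dvd_left ⟨g, hbm.symm⟩ ((Nat.coprime_sub_self_left hpq.le).2 hcop.symm)
  set I := W4c2invhilbsl2.idealJ k p q m s
  let φ := Ideal.Quotient.mk I
  have hI : ∀ x ∈ ({X (0 : Fin 5) ^ g, X 2, X 4, C s - X 1 ^ (a * q) * X 3 ^ (a * p)} : Set (MvPolynomial (Fin 5) k)), φ x = 0 := by
    intro x hx
    refine Ideal.Quotient.eq_zero_iff_mem.2 (Ideal.subset_span ?_)
    rw [← hg, ← hagcd]
    exact hx
  have h0 : φ (X 0) ^ g = 0 := by rw [← map_pow]; exact hI _ (by simp)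
  have hs : φ (X 1) ^ (a * q) * φ (X 3) ^ (a * p) = φ (C s) := by
    rw [← map_pow, ← map_pow, ← map_mul, eq_comm, ← sub_eq_zero, ← map_sub]
    exact hI _ (by simp)
  have hC : ∀ (c : k) (x : MvPolynomial (Fin 5) k ⧸ I), φ (C c) * x = c • x := fun c x => by
    obtain ⟨x, rfl⟩ := Ideal.Quotient.mk_surjective x
    rw [← map_mul, ← smul_eq_C_mul]
    rfl
  have himg : ∀ d : Fin 5 →₀ ℕ, φ (monomial d 1) = 0 ∨ d 0 < g ∧ d 2 = 0 ∧ d 4 = 0 ∧
      φ (monomial d 1) = φ (X 0) ^ d 0 * φ (X 1) ^ d 1 * φ (X 3) ^ d 3 := by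
    intro d
    rw [monomial_five, map_mul, map_mul, map_mul, map_mul, map_pow, map_pow, map_pow, map_pow, map_pow,
      hI (X 2) (by simp), hI (X 4) (by simp)]
    by_cases h : d 0 < g ∧ d 2 = 0 ∧ d 4 = 0
    · exact Or.inr ⟨h.1, h.2.1, h.2.2, by rw [h.2.1, h.2.2]; ring⟩
    · left
      rcases (show g ≤ d 0 ∨ d 2 ≠ 0 ∨ d 4 ≠ 0 by omega) with h | h | h
      · rw [← Nat.sub_add_cancel h, pow_add, h0]; ring
      · rw [zero_pow h]; ring
      · rw [zero_pow h, mul_zero]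
  refine rank_piece_le_one _ I ν fun d d' hd hd' => ?_
  rcases himg d with h | ⟨hd0, hd2, hd4, h⟩
  · exact Or.inl ⟨0, h.trans (zero_smul _ _).symm⟩
  rcases himg d' with h' | ⟨hd0', hd2', hd4', h'⟩
  · exact Or.inr ⟨0, h'.trans (zero_smul _ _).symm⟩
  have hw := hd.trans hd'.symm
  rw [weight_wt5, weight_wt5, hd2, hd4, hd2', hd4'] at hw
  obtain ⟨h1, y, hy⟩ := exists_of_pair_eq m hw
  simp only [Nat.cast_zero, add_zero] at h1 hy
  have hbz : (b : ℤ) * g = (q : ℤ) - p := by rw [← Nat.cast_mul, hbm, Nat.cast_sub hpq.le]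
  have haz : (a : ℤ) * g = m := by exact_mod_cast ham
  obtain ⟨δ, hδ⟩ : ∃ δ : ℤ, δ = (d' 0 : ℤ) - d 0 := ⟨_, rfl⟩
  obtain ⟨δ', hδ'⟩ : ∃ δ' : ℤ, δ' = (d' 3 : ℤ) - d 3 := ⟨_, rfl⟩
  have hdg : δ = g * (-((b : ℤ) * δ') - p * a * y) := by
    subst hδ hδ'
    linear_combination -h1 - (p : ℤ) * hy + ((d' 3 : ℤ) - d 3) * hbz + (p : ℤ) * y * haz
  have hδ0 : δ = 0 := by
    have hlt : |δ| < g := abs_lt.2 ⟨by omega, by omega⟩
    exact Int.eq_zero_of_abs_lt_dvd ⟨_, hdg⟩ hlt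
  have hbδ : (b : ℤ) * δ' + p * a * y = 0 := by
    rw [hδ0] at hdg
    have := (mul_eq_zero.1 hdg.symm).resolve_left (by omega)
    linarith
  have hbpos : 0 < b := Nat.pos_of_ne_zero fun h => by rw [h, zero_mul] at hbm; omega
  obtain ⟨w, hw⟩ : (b : ℤ) ∣ y := by
    have : (b : ℤ) ∣ ((a * p : ℕ) : ℤ) * y := ⟨-δ', by push_cast; linarith⟩
    exact (Nat.isCoprime_iff_coprime.2 hco).dvd_of_dvd_mul_left this
  have hδ'' : δ' = -((p : ℤ) * a * w) := by
    refine mul_left_cancel₀ (show (b : ℤ) ≠ 0 by omega) ?_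
    rw [hw] at hbδ
    linarith
  have h11 : (d' 1 : ℤ) - d 1 = -((a : ℤ) * q * w) := by
    subst hw
    linear_combination -hy - hδ' + hδ'' - (w : ℤ) * b * haz.symm - (a : ℤ) * w * hbz + 0 * hδ
  have step : ∀ (x x' : Fin 5 →₀ ℕ) (n : ℕ), x 0 = x' 0 → x 1 = x' 1 + a * q * n → x 3 = x' 3 + a * p * n →
      φ (X 0) ^ x 0 * φ (X 1) ^ x 1 * φ (X 3) ^ x 3 = s ^ n • (φ (X 0) ^ x' 0 * φ (X 1) ^ x' 1 * φ (X 3) ^ x' 3) := by
    intro x x' n e0 e1 e3
    rw [e0, e1, e3, ← hC, C_pow, map_pow, ← hs]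
    ring
  rcases le_or_gt 0 w with hw0 | hw0
  · obtain ⟨n, rfl⟩ := Int.eq_ofNat_of_zero_le hw0
    refine Or.inl ⟨s ^ n, ?_⟩
    change φ _ = _ • φ _
    rw [h, h']
    refine step d d' n (by omega) ?_ ?_
    · have : ((a * q * n : ℕ) : ℤ) = (a : ℤ) * q * n := by push_cast; ring
      omega
    · have : ((a * p * n : ℕ) : ℤ) = (p : ℤ) * a * n := by push_cast; ring
      omega
  · obtain ⟨n, hn⟩ := Int.eq_ofNat_of_zero_le (show 0 ≤ -w by omega)
    obtain rfl : w = -(n : ℤ) := by omega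
    refine Or.inr ⟨s ^ n, ?_⟩
    change φ _ = _ • φ _
    rw [h, h']
    refine step d' d n (by omega) ?_ ?_
    · have : ((a * q * n : ℕ) : ℤ) = -((a : ℤ) * q * -n) := by push_cast; ring
      omega
    · have : ((a * p * n : ℕ) : ℤ) = -((p : ℤ) * a * -n) := by push_cast; ring
      omega

end Groth.Agent.S15728
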