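import Groth.Statements.S15729
import Groth.Agent.Lib.InvHilbSL2.Normal
-- import your own Groth.Agent.* helpers here

set_option autoImplicit false
universe u
open W4c2invhilbsl2

namespace Groth.Agent.S15729

/-- Let 0 < p < q be coprime integers and m ≥ 1 such that q − p does not divide m; put g = gcd(m, q−p),
b = (q−p)/g, α = ⌊mp/(q−p)⌋, β = the remainder of mp modulo q−p and t = (q−p−β)/g, so that 1 ≤ t <
b, and let b/t = c₁ − 1/(c₂ − 1/(⋯ − 1/c_r)) be the negative-regular (Hirzebruch–Jung) continued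
fraction expansion with every cᵢ ≥ 2; set P₀ = 0, P₁ = 1, Q₀ = −1, Q₁ = 0, Pᵢ = cᵢ₋₁Pᵢ₋₁ − Pᵢ₋₂, Qᵢ
= cᵢ₋₁Qᵢ₋₁ − Qᵢ₋₂ for 2 ≤ i ≤ r+1, and eᵢ = (α+1+m)Pᵢ − Qᵢ, lᵢ = (α+1)Pᵢ − Qᵢ, nᵢ = q·lᵢ − p·eᵢ,
which are non-negative integers for 0 ≤ i ≤ r+1. Grade the polynomial ring k[X₀,X₁,X₂] over a field
k by ℤ × ℤ/m with weights (1,0), (−p,−1), (q,1) (it stands for k[X₀,X₁,Xⱼ], j = 3 or 4, inside the
five-variable ring). Then for every 1 ≤ i ≤ r, every polynomial homogeneous of weight (nᵢ, 0) can be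
written a·X₀^(nᵢ) + b·X₁^(eᵢ)X₂^(lᵢ) with a and b homogeneous of weight zero; that is, the
weight-(nᵢ,0) piece is generated over the weight-zero subring by X₀^(nᵢ) and X₁^(eᵢ)X₂^(lᵢ). -/
theorem result (k : Type u) [Field k] (p q m : ℕ) (hp : 0 < p) (hpq : p < q) (hcop : Nat.Coprime p q) (hm : 0 < m) (hnt : ¬ (q - p ∣ m)) (c : List ℤ) (hc : W4c2invhilbsl2.IsHJDigits p q m c) (i : ℕ) (hi : 1 ≤ i) (hir : i ≤ c.length)
    (f : MvPolynomial (Fin 3) k) (hf : f ∈ MvPolynomial.weightedHomogeneousSubmodule k (W4c2invhilbsl2.wt3 p q m) (W4c2invhilbsl2.nN p q m c i, (0 : ZMod m))) :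
    ∃ a b : MvPolynomial (Fin 3) k, a ∈ MvPolynomial.weightedHomogeneousSubmodule k (W4c2invhilbsl2.wt3 p q m) 0 ∧ b ∈ MvPolynomial.weightedHomogeneousSubmodule k (W4c2invhilbsl2.wt3 p q m) 0 ∧
      f = a * MvPolynomial.X (0 : Fin 3) ^ (W4c2invhilbsl2.nN p q m c i).toNat +
        b * (MvPolynomial.X (1 : Fin 3) ^ (W4c2invhilbsl2.eE p q m c i).toNat * MvPolynomial.X (2 : Fin 3) ^ (W4c2invhilbsl2.lL p q m c i).toNat) := by
  open GrothLib.InvHilbSL2 MvPolynomial in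
  obtain ⟨hn, -, -, -, hl, he⟩ := nN_bounds hpq hcop hm hc hi hir
  obtain ⟨N, hN⟩ : ∃ N, N = (W4c2invhilbsl2.nN p q m c i).toNat := ⟨_, rfl⟩
  obtain ⟨e, hee⟩ : ∃ e, e = (W4c2invhilbsl2.eE p q m c i).toNat := ⟨_, rfl⟩
  obtain ⟨l, hll⟩ : ∃ l, l = (W4c2invhilbsl2.lL p q m c i).toNat := ⟨_, rfl⟩
  rw [← hN, ← hee, ← hll]
  have hN' : (N : ℤ) = W4c2invhilbsl2.nN p q m c i := by omega
  have he' : (e : ℤ) = W4c2invhilbsl2.eE p q m c i := by omega
  have hl' : (l : ℤ) = W4c2invhilbsl2.lL p q m c i := by omega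
  obtain ⟨a, ha, ha'⟩ : Good (W4c2invhilbsl2.wt3 p q m) ![(X 0 : MvPolynomial (Fin 3) k) ^ N, X 1 ^ e * X 2 ^ l] ⊥ f := by
    refine good_of_monomials hf fun d c' hν => ?_
    have hν' := hν
    rw [weight_wt3, pair_zero] at hν'
    obtain ⟨h1, y, hy⟩ := exists_of_pair_eq m hν'
    rcases high_or_divisible hpq hcop hm hc hi hir h1 (show (d 1 : ℤ) - d 2 = m * y by linarith) with h | h
    · refine good_monomial 0 (e := Finsupp.single 0 N) ?_ (Finsupp.single_le_iff.2 (by omega)) ?_ c'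
      · change X 0 ^ N = _
        rw [X_pow_eq_monomial]
      · rw [hν, weight_wt3]; simp [hN']
    · refine good_monomial 1 (e := Finsupp.single 1 e + Finsupp.single 2 l) ?_ ?_ ?_ c'
      · change X 1 ^ e * X 2 ^ l = _
        rw [X_pow_eq_monomial, X_pow_eq_monomial, monomial_mul, one_mul]
      · intro j; fin_cases j <;> simp <;> omega
      · rw [hν, weight_wt3, pair_zero]
        have e1 := eE_eq (p := p) (q := q) (m := m) (c := c) i
        have e2 := nN_eq' (p := p) (q := q) (m := m) (c := c) i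
        refine Prod.ext ?_ ((ZMod.intCast_eq_intCast_iff_dvd_sub _ _ _).2 ⟨-W4c2invhilbsl2.hjP c i, ?_⟩)
        · simp [he', hl']; linear_combination e2 + (p : ℤ) * e1
        · simp [he', hl']; linear_combination -e1
  exact ⟨a 0, a 1, ha 0, ha 1, by simpa [Fin.sum_univ_two, sub_eq_zero] using ha'⟩

end Groth.Agent.S15729
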