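import Groth.Statements.S15732
import Groth.Agent.Lib.InvHilbSL2.Normal
-- import your own Groth.Agent.* helpers here

set_option autoImplicit false
universe u
open W4c2invhilbsl2

namespace Groth.Agent.S15732

/-- Let 0 < p < q be coprime integers and m ≥ 1 such that q − p does not divide m; put g = gcd(m, q−p),
b = (q−p)/g, α = ⌊mp/(q−p)⌋, β = the remainder of mp modulo q−p and t = (q−p−β)/g, so that 1 ≤ t <
b, and let b/t = c₁ − 1/(c₂ − 1/(⋯ − 1/c_r)) be the negative-regular (Hirzebruch–Jung) continued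
fraction expansion with every cᵢ ≥ 2; set P₀ = 0, P₁ = 1, Q₀ = −1, Q₁ = 0, Pᵢ = cᵢ₋₁Pᵢ₋₁ − Pᵢ₋₂, Qᵢ
= cᵢ₋₁Qᵢ₋₁ − Qᵢ₋₂ for 2 ≤ i ≤ r+1, and eᵢ = (α+1+m)Pᵢ − Qᵢ, lᵢ = (α+1)Pᵢ − Qᵢ, nᵢ = q·lᵢ − p·eᵢ,
which are non-negative integers for 0 ≤ i ≤ r+1. Grade the polynomial ring k[X₀,…,X₄] over a field k
by ℤ × ℤ/m, giving X₀ weight (1,0), X₁ and X₂ weight (−p,−1), and X₃ and X₄ weight (q,1). Then for
every 1 ≤ i ≤ r, modulo the principal ideal generated by the weight-zero element X₀^(q−p) − X₁X₄ +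
X₂X₃, every polynomial homogeneous of weight (nᵢ, 0) is congruent to a combination a₀·X₀^(nᵢ) + Σ
a_{e,l}·X₁^(eᵢ−e)X₂^e X₃^(lᵢ−l)X₄^l (sum over 0 ≤ e ≤ eᵢ, 0 ≤ l ≤ lᵢ) whose coefficients a₀, a_{e,l}
are homogeneous of weight zero. Equivalently, in the coordinate ring of the hypersurface the
weight-(nᵢ,0) piece is generated over the weight-zero subring (the invariant ring) by X₀^(nᵢ)
together with the products of a degree-eᵢ monomial in X₁, X₂ and a degree-lᵢ monomial in X₃, X₄.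
(The published statement is over the complex numbers; this row takes any field.) -/
theorem result (k : Type u) [Field k] (p q m : ℕ) (hp : 0 < p) (hpq : p < q) (hcop : Nat.Coprime p q) (hm : 0 < m) (hnt : ¬ (q - p ∣ m)) (c : List ℤ) (hc : W4c2invhilbsl2.IsHJDigits p q m c) (i : ℕ) (hi : 1 ≤ i) (hir : i ≤ c.length)
    (f : MvPolynomial (Fin 5) k) (hf : f ∈ MvPolynomial.weightedHomogeneousSubmodule k (W4c2invhilbsl2.wt5 p q m) (W4c2invhilbsl2.nN p q m c i, (0 : ZMod m))) :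
    ∃ (a₀ : MvPolynomial (Fin 5) k) (a : ℕ → ℕ → MvPolynomial (Fin 5) k),
      a₀ ∈ MvPolynomial.weightedHomogeneousSubmodule k (W4c2invhilbsl2.wt5 p q m) 0 ∧ (∀ e l : ℕ, a e l ∈ MvPolynomial.weightedHomogeneousSubmodule k (W4c2invhilbsl2.wt5 p q m) 0) ∧
      f - (a₀ * MvPolynomial.X (0 : Fin 5) ^ (W4c2invhilbsl2.nN p q m c i).toNat +
          ∑ e ∈ Finset.range ((W4c2invhilbsl2.eE p q m c i).toNat + 1), ∑ l ∈ Finset.range ((W4c2invhilbsl2.lL p q m c i).toNat + 1),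
            a e l * (MvPolynomial.X (1 : Fin 5) ^ ((W4c2invhilbsl2.eE p q m c i).toNat - e) * MvPolynomial.X (2 : Fin 5) ^ e *
              MvPolynomial.X (3 : Fin 5) ^ ((W4c2invhilbsl2.lL p q m c i).toNat - l) * MvPolynomial.X (4 : Fin 5) ^ l)) ∈
        Ideal.span {MvPolynomial.X (0 : Fin 5) ^ (q - p) - MvPolynomial.X 1 * MvPolynomial.X 4 + MvPolynomial.X 2 * MvPolynomial.X 3} := by
  open GrothLib.InvHilbSL2 MvPolynomial in
  classical
  obtain ⟨hn, -, -, -, hl, he⟩ := nN_bounds hpq hcop hm hc hi hir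
  obtain ⟨N, hN⟩ : ∃ N, N = (W4c2invhilbsl2.nN p q m c i).toNat := ⟨_, rfl⟩
  obtain ⟨e, hee⟩ : ∃ e, e = (W4c2invhilbsl2.eE p q m c i).toNat := ⟨_, rfl⟩
  obtain ⟨l, hll⟩ : ∃ l, l = (W4c2invhilbsl2.lL p q m c i).toNat := ⟨_, rfl⟩
  rw [← hN, ← hee, ← hll]
  have hN' : (N : ℤ) = W4c2invhilbsl2.nN p q m c i := by omega
  have he' : (e : ℤ) = W4c2invhilbsl2.eE p q m c i := by omega
  have hl' : (l : ℤ) = W4c2invhilbsl2.lL p q m c i := by omega
  let g : Option (Fin (e + 1) × Fin (l + 1)) → MvPolynomial (Fin 5) k := fun o =>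
    o.elim (X 0 ^ N) fun r => X 1 ^ (e - r.1) * X 2 ^ (r.1 : ℕ) * X 3 ^ (l - r.2) * X 4 ^ (r.2 : ℕ)
  obtain ⟨a, ha, ha'⟩ : Good (W4c2invhilbsl2.wt5 p q m) g
      (Ideal.span {X (0 : Fin 5) ^ (q - p) - X 1 * X 4 + X 2 * X 3}) f := by
    refine good_of_monomials hf fun d c' hν => ?_
    have hν' := hν
    rw [weight_wt5, pair_zero] at hν'
    obtain ⟨h1, y, hy⟩ := exists_of_pair_eq m hν'
    rcases high_or_divisible hpq hcop hm hc hi hir (d₀ := d 0) (u₁ := d 1 + d 2) (u₂ := d 3 + d 4) (y := y)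
      (by push_cast; linarith) (by push_cast; linarith) with h | ⟨h2, h3⟩
    · refine good_monomial none (e := Finsupp.single 0 N) ?_ (Finsupp.single_le_iff.2 (by omega)) ?_ c'
      · change X 0 ^ N = _
        rw [X_pow_eq_monomial]
      · rw [hν, weight_wt5]; simp [hN']
    · obtain ⟨e₂, he₂⟩ : ∃ e₂, e₂ = min (d 2) e := ⟨_, rfl⟩
      obtain ⟨l₂, hl₂⟩ : ∃ l₂, l₂ = min (d 4) l := ⟨_, rfl⟩
      refine good_monomial (some (⟨e₂, by omega⟩, ⟨l₂, by omega⟩)) (e := Finsupp.single 1 (e - e₂) + Finsupp.single 2 e₂ + Finsupp.single 3 (l - l₂) + Finsupp.single 4 l₂) ?_ ?_ ?_ c'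
      · change X 1 ^ (e - e₂) * X 2 ^ e₂ * X 3 ^ (l - l₂) * X 4 ^ l₂ = _
        simp only [X_pow_eq_monomial, monomial_mul, one_mul]
      · intro j; fin_cases j <;> simp <;> omega
      · rw [hν, weight_wt5, pair_zero]
        have e1 := eE_eq (p := p) (q := q) (m := m) (c := c) i
        have e2 := nN_eq' (p := p) (q := q) (m := m) (c := c) i
        refine Prod.ext ?_ ((ZMod.intCast_eq_intCast_iff_dvd_sub _ _ _).2 ⟨-W4c2invhilbsl2.hjP c i, ?_⟩)
        · simp [Nat.cast_sub (show e₂ ≤ e by omega), Nat.cast_sub (show l₂ ≤ l by omega), he', hl']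
          linear_combination e2 + (p : ℤ) * e1
        · simp [Nat.cast_sub (show e₂ ≤ e by omega), Nat.cast_sub (show l₂ ≤ l by omega), he', hl']
          linear_combination -e1
  refine ⟨a none, fun x y => if h : x < e + 1 ∧ y < l + 1 then a (some (⟨x, h.1⟩, ⟨y, h.2⟩)) else 0,
    ha none, fun x y => ?_, ?_⟩
  · dsimp only
    split_ifs with h
    · exact ha _
    · exact zero_mem _
  · convert ha' using 2
    rw [Fintype.sum_option, Fintype.sum_prod_type, Finset.sum_range]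
    refine congrArg₂ _ rfl (Finset.sum_congr rfl fun x _ => ?_)
    rw [Finset.sum_range]
    refine Finset.sum_congr rfl fun y _ => ?_
    dsimp only
    rw [dif_pos ⟨x.2, y.2⟩]
    rfl

end Groth.Agent.S15732
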