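import Groth.Statements.S15734
import Groth.Agent.Lib.InvHilbSL2.HJ
-- import your own Groth.Agent.* helpers here

set_option autoImplicit false
open W4c2invhilbsl2

namespace Groth.Agent.S15734

/-- Let 0 < p < q be coprime integers and m ≥ 1 such that q − p does not divide m; put g = gcd(m, q−p),
b = (q−p)/g, α = ⌊mp/(q−p)⌋, β = the remainder of mp modulo q−p and t = (q−p−β)/g, so that 1 ≤ t <
b, and let b/t = c₁ − 1/(c₂ − 1/(⋯ − 1/c_r)) be the negative-regular (Hirzebruch–Jung) continued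
fraction expansion with every cᵢ ≥ 2; set P₀ = 0, P₁ = 1, Q₀ = −1, Q₁ = 0, Pᵢ = cᵢ₋₁Pᵢ₋₁ − Pᵢ₋₂, Qᵢ
= cᵢ₋₁Qᵢ₋₁ − Qᵢ₋₂ for 2 ≤ i ≤ r+1, and eᵢ = (α+1+m)Pᵢ − Qᵢ, lᵢ = (α+1)Pᵢ − Qᵢ, nᵢ = q·lᵢ − p·eᵢ,
which are non-negative integers for 0 ≤ i ≤ r+1; moreover g divides every nᵢ, and write tᵢ = nᵢ/g
(so t₁ = t). Then (a) for every 1 ≤ i ≤ r the remainder of t·Pᵢ on division by b equals tᵢ, and (b)
for every 1 < i ≤ r and every integer x with 0 < x < Pᵢ the remainder ρ of t·x on division by b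
satisfies tᵢ₋₁ ≤ ρ ≤ b + tᵢ − tᵢ₋₁. -/
theorem result (p q m : ℕ) (hp : 0 < p) (hpq : p < q) (hcop : Nat.Coprime p q) (hm : 0 < m) (hnt : ¬ (q - p ∣ m)) (c : List ℤ) (hc : W4c2invhilbsl2.IsHJDigits p q m c) :
    (∀ i : ℕ, 1 ≤ i → i ≤ c.length →
      Int.emod ((W4c2invhilbsl2.tT p q m : ℤ) * W4c2invhilbsl2.hjP c i) (W4c2invhilbsl2.bB p q m : ℤ) = W4c2invhilbsl2.nN p q m c i / (W4c2invhilbsl2.gcdK p q m : ℤ)) ∧
    (∀ i : ℕ, 1 < i → i ≤ c.length → ∀ x : ℤ, 0 < x → x < W4c2invhilbsl2.hjP c i →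
      W4c2invhilbsl2.nN p q m c (i - 1) / (W4c2invhilbsl2.gcdK p q m : ℤ) ≤ Int.emod ((W4c2invhilbsl2.tT p q m : ℤ) * x) (W4c2invhilbsl2.bB p q m : ℤ) ∧
      Int.emod ((W4c2invhilbsl2.tT p q m : ℤ) * x) (W4c2invhilbsl2.bB p q m : ℤ) ≤
        (W4c2invhilbsl2.bB p q m : ℤ) + W4c2invhilbsl2.nN p q m c i / (W4c2invhilbsl2.gcdK p q m : ℤ) - W4c2invhilbsl2.nN p q m c (i - 1) / (W4c2invhilbsl2.gcdK p q m : ℤ)) := by
  open GrothLib.InvHilbSL2 in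
  have hg : (0 : ℤ) < W4c2invhilbsl2.gcdK p q m := by exact_mod_cast gcdK_pos (p := p) (q := q) hm
  have hdiv : ∀ i, W4c2invhilbsl2.nN p q m c i / (W4c2invhilbsl2.gcdK p q m : ℤ) = uu p q m c i := fun i => by
    rw [nN_eq hpq, Int.mul_ediv_cancel_left _ hg.ne']
  have hb : (0 : ℤ) < W4c2invhilbsl2.bB p q m := by exact_mod_cast bB_pos hpq hcop hm
  refine ⟨fun i hi hir => ?_, fun i hi hir x hx0 hx => ?_⟩
  · have h0 := uu_nonneg hpq hcop hm hc (show i ≤ c.length + 1 by omega)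
    have h1 := uu_lt_uu_zero hpq hcop hm hc hi (show i ≤ c.length + 1 by omega)
    rw [uu_zero] at h1
    rw [hdiv]
    change (W4c2invhilbsl2.tT p q m : ℤ) * _ % _ = _
    rw [show (W4c2invhilbsl2.tT p q m : ℤ) * W4c2invhilbsl2.hjP c i =
      uu p q m c i + W4c2invhilbsl2.bB p q m * W4c2invhilbsl2.hjQ c i by rw [uu]; ring]
    rw [Int.add_mul_emod_self_left, Int.emod_eq_of_lt h0 h1]
  · obtain ⟨j, rfl⟩ : ∃ j, i = j + 1 := ⟨i - 1, by omega⟩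
    rw [Nat.add_sub_cancel, hdiv, hdiv]
    change _ ≤ (W4c2invhilbsl2.tT p q m : ℤ) * x % _ ∧ (W4c2invhilbsl2.tT p q m : ℤ) * x % _ ≤ _
    rw [Int.emod_def]
    obtain ⟨y, hy⟩ : ∃ y, y = (W4c2invhilbsl2.tT p q m : ℤ) * x / W4c2invhilbsl2.bB p q m := ⟨_, rfl⟩
    have h0 : 0 ≤ (W4c2invhilbsl2.tT p q m : ℤ) * x - W4c2invhilbsl2.bB p q m * y := by
      rw [hy, ← Int.emod_def]; exact Int.emod_nonneg _ hb.ne'
    have h1 : (W4c2invhilbsl2.tT p q m : ℤ) * x - W4c2invhilbsl2.bB p q m * y < W4c2invhilbsl2.bB p q m := by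
      rw [hy, ← Int.emod_def]; exact Int.emod_lt_of_pos _ hb
    rw [← hy]
    refine ⟨uu_le_of_residue hpq hcop hm hc hir hx0 hx h0, ?_⟩
    have hu := uu_nonneg hpq hcop hm hc (show j + 1 ≤ c.length + 1 by omega)
    have hex : (W4c2invhilbsl2.tT p q m : ℤ) * (W4c2invhilbsl2.hjP c (j + 1) - x) - W4c2invhilbsl2.bB p q m * (W4c2invhilbsl2.hjQ c (j + 1) - y - 1) =
        uu p q m c (j + 1) - ((W4c2invhilbsl2.tT p q m : ℤ) * x - W4c2invhilbsl2.bB p q m * y) + W4c2invhilbsl2.bB p q m := by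
      rw [uu]; ring
    have h2 := uu_le_of_residue hpq hcop hm hc hir (x := W4c2invhilbsl2.hjP c (j + 1) - x)
      (y := W4c2invhilbsl2.hjQ c (j + 1) - y - 1) (by omega) (by omega) (by rw [hex]; omega)
    rw [hex] at h2
    omega

end Groth.Agent.S15734
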