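import Groth.Statements.S15738
import Groth.Agent.Lib.InvHilb.Mono

set_option autoImplicit false
universe u
open W4c2invhilbsl2

namespace Groth.Agent.S15738

/-- Let k be a field and m ≥ 1; for a monomial X₀^d₀X₁^d₁X₂^d₂ of the polynomial ring in X₀, X₁, X₂ (X₂
standing for Xⱼ, j = 3 or 4, of the five-variable ring) put n = d₀ − p·d₁ + q·d₂ (its weight for the
torus diag(t, t^(−p), t^q)), c = d₁ − d₂ and ω = p·d₁ − q·d₂, so that d₀ = n + ω; here 0 < p < q are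
coprime integers. Take two monomials X₀^d₀X₁^d₁X₂^d₂ and X₀^e₀X₁^e₁X₂^e₂ with the same n and with
values c, c' of c congruent modulo m (so both lie in the same ℤ × ℤ/m-weight piece for the weights
(1,0), (−p,−1), (q,1)). Then: (i) if c = c', the difference of the two monomials lies in the
principal ideal (X₀^(q−p) − X₁X₂); (ii) if c' < c, the monomial X₀^d₀X₁^d₁X₂^d₂ lies in the ideal
(X₀^(q−p) − X₁X₂, X₀^(mp)X₁^m); (iii) in all cases the difference lies in the ideal (X₀^(q−p) −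
X₁X₂, 1 − X₀^(mp)X₁^m). -/
theorem result (k : Type u) [Field k] (p q m : ℕ) (hp : 0 < p) (hpq : p < q) (hcop : Nat.Coprime p q) (hm : 0 < m)
    (d0 d1 d2 e0 e1 e2 : ℕ) (hn : (e0 : ℤ) - (p : ℤ) * e1 + (q : ℤ) * e2 = (d0 : ℤ) - (p : ℤ) * d1 + (q : ℤ) * d2)
    (hc : (m : ℤ) ∣ ((d1 : ℤ) - d2) - ((e1 : ℤ) - e2)) :
    ((d1 : ℤ) - d2 = (e1 : ℤ) - e2 →
      (MvPolynomial.X (0 : Fin 3) ^ d0 * MvPolynomial.X (1 : Fin 3) ^ d1 * MvPolynomial.X (2 : Fin 3) ^ d2 - MvPolynomial.X (0 : Fin 3) ^ e0 * MvPolynomial.X (1 : Fin 3) ^ e1 * MvPolynomial.X (2 : Fin 3) ^ e2 : MvPolynomial (Fin 3) k) ∈ Ideal.span {MvPolynomial.X (0 : Fin 3) ^ (q - p) - MvPolynomial.X (1 : Fin 3) * MvPolynomial.X (2 : Fin 3)}) ∧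
    ((e1 : ℤ) - e2 < (d1 : ℤ) - d2 →
      (MvPolynomial.X (0 : Fin 3) ^ d0 * MvPolynomial.X (1 : Fin 3) ^ d1 * MvPolynomial.X (2 : Fin 3) ^ d2 : MvPolynomial (Fin 3) k) ∈ Ideal.span {MvPolynomial.X (0 : Fin 3) ^ (q - p) - MvPolynomial.X (1 : Fin 3) * MvPolynomial.X (2 : Fin 3), MvPolynomial.X (0 : Fin 3) ^ (m * p) * MvPolynomial.X (1 : Fin 3) ^ m}) ∧
    ((MvPolynomial.X (0 : Fin 3) ^ d0 * MvPolynomial.X (1 : Fin 3) ^ d1 * MvPolynomial.X (2 : Fin 3) ^ d2 - MvPolynomial.X (0 : Fin 3) ^ e0 * MvPolynomial.X (1 : Fin 3) ^ e1 * MvPolynomial.X (2 : Fin 3) ^ e2 : MvPolynomial (Fin 3) k) ∈ Ideal.span {MvPolynomial.X (0 : Fin 3) ^ (q - p) - MvPolynomial.X (1 : Fin 3) * MvPolynomial.X (2 : Fin 3), 1 - MvPolynomial.X (0 : Fin 3) ^ (m * p) * MvPolynomial.X (1 : Fin 3) ^ m}) := by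
  refine ⟨fun h => GrothLib.InvHilb.sub_mem_of_same _ _ _ p q hpq.le hn h, fun h => ?_, ?_⟩
  · rcases GrothLib.InvHilb.exists_exponent hm hc with ⟨s, hs⟩ | ⟨s, hs⟩
    · obtain ⟨s, rfl⟩ : ∃ s', s = s' + 1 := by
        cases s with
        | zero => rw [Nat.cast_zero, mul_zero, add_zero] at hs; omega
        | succ s => exact ⟨s, rfl⟩
      have h1 := GrothLib.InvHilb.sub_mul_pow_mem (MvPolynomial.X (0 : Fin 3) : MvPolynomial (Fin 3) k)
        (MvPolynomial.X 1) (MvPolynomial.X 2) p q hpq.le m (s := s + 1) hn hs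
      have h2 := Ideal.span_mono (t := {MvPolynomial.X (0 : Fin 3) ^ (q - p) - MvPolynomial.X (1 : Fin 3) * MvPolynomial.X (2 : Fin 3),
          MvPolynomial.X (0 : Fin 3) ^ (m * p) * MvPolynomial.X (1 : Fin 3) ^ m})
        (Set.singleton_subset_iff.2 (Set.mem_insert _ _)) h1
      have h4 := add_mem h2 (Ideal.mul_mem_left _
        (MvPolynomial.X (0 : Fin 3) ^ e0 * MvPolynomial.X (1 : Fin 3) ^ e1 * MvPolynomial.X (2 : Fin 3) ^ e2)
        (Ideal.pow_mem_of_mem _ (Ideal.subset_span (Set.mem_insert_of_mem _ (Set.mem_singleton _))) (s + 1) (Nat.succ_pos s)))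
      rw [sub_add_cancel] at h4
      exact h4
    · have : (0 : ℤ) ≤ (m : ℤ) * s := by positivity
      omega
  · have key : ∀ {a0 a1 a2 c0 c1 c2 s : ℕ},
        (c0 : ℤ) - (p : ℤ) * c1 + (q : ℤ) * c2 = (a0 : ℤ) - (p : ℤ) * a1 + (q : ℤ) * a2 →
        (a1 : ℤ) - a2 = (c1 : ℤ) - c2 + (m : ℤ) * s →
        (MvPolynomial.X (0 : Fin 3) ^ a0 * MvPolynomial.X (1 : Fin 3) ^ a1 * MvPolynomial.X (2 : Fin 3) ^ a2 -
          MvPolynomial.X (0 : Fin 3) ^ c0 * MvPolynomial.X (1 : Fin 3) ^ c1 * MvPolynomial.X (2 : Fin 3) ^ c2 :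
          MvPolynomial (Fin 3) k) ∈
        Ideal.span {MvPolynomial.X (0 : Fin 3) ^ (q - p) - MvPolynomial.X (1 : Fin 3) * MvPolynomial.X (2 : Fin 3),
          1 - MvPolynomial.X (0 : Fin 3) ^ (m * p) * MvPolynomial.X (1 : Fin 3) ^ m} := by
      intro a0 a1 a2 c0 c1 c2 s h1 h2
      obtain ⟨a, ha⟩ := Ideal.mem_span_singleton.1 (GrothLib.InvHilb.sub_mul_pow_mem
        (MvPolynomial.X (0 : Fin 3) : MvPolynomial (Fin 3) k)
        (MvPolynomial.X 1) (MvPolynomial.X 2) p q hpq.le m (s := s) h1 h2)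
      obtain ⟨b, hb⟩ := sub_dvd_pow_sub_pow (1 : MvPolynomial (Fin 3) k)
        (MvPolynomial.X (0 : Fin 3) ^ (m * p) * MvPolynomial.X (1 : Fin 3) ^ m) s
      rw [one_pow] at hb
      refine Ideal.mem_span_pair.2 ⟨a, -(MvPolynomial.X (0 : Fin 3) ^ c0 * MvPolynomial.X (1 : Fin 3) ^ c1 * MvPolynomial.X (2 : Fin 3) ^ c2) * b, ?_⟩
      linear_combination -ha + (MvPolynomial.X (0 : Fin 3) ^ c0 * MvPolynomial.X (1 : Fin 3) ^ c1 * MvPolynomial.X (2 : Fin 3) ^ c2) * hb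
    rcases GrothLib.InvHilb.exists_exponent hm hc with ⟨s, hs⟩ | ⟨s, hs⟩
    · exact key hn hs
    · have h3 := (Ideal.neg_mem_iff _).2 (key hn.symm hs)
      rwa [neg_sub] at h3

end Groth.Agent.S15738
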