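import Groth.Statements.S15739
import Groth.Agent.Lib.InvHilb.Mono

set_option autoImplicit false
universe u
open W4c2invhilbsl2

namespace Groth.Agent.S15739

/-- Let k be a field and m ≥ 1, put g = gcd(m, q−p), a = m/g and b = (q−p)/g; for a monomial
X₀^d₀X₁^d₁X₂^d₂ of the polynomial ring in X₀, X₁, X₂ (X₂ standing for Xⱼ, j = 3 or 4, of the
five-variable ring) put n = d₀ − p·d₁ + q·d₂ (its weight for the torus diag(t, t^(−p), t^q)), c = d₁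
− d₂ and ω = p·d₁ − q·d₂, so that d₀ = n + ω; here 0 < p < q are coprime integers. Take two
monomials X₀^d₀X₁^d₁X₂^d₂ and X₀^e₀X₁^e₁X₂^e₂ with the same n, where 0 ≤ n < q − p, whose values c
and c' of c are both divisible by m, and with d₀ < g and e₀ < g (so each has the least ω for its
pair (n, c), as g ≤ q − p). Then: (i) d₀ = e₀, i.e. the two values of ω agree, and m·b divides c −
c'; (ii) if c < c', then X₀^e₀X₁^e₁X₂^e₂ is a multiple of X₀^d₀X₁^d₁X₂^d₂ · X₁^(aq)X₂^(ap); (iii)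
the difference of the two monomials lies in the principal ideal (1 − X₁^(aq)X₂^(ap)). -/
theorem result (k : Type u) [Field k] (p q m : ℕ) (hp : 0 < p) (hpq : p < q) (hcop : Nat.Coprime p q) (hm : 0 < m)
    (d0 d1 d2 e0 e1 e2 : ℕ) (hn : (e0 : ℤ) - (p : ℤ) * e1 + (q : ℤ) * e2 = (d0 : ℤ) - (p : ℤ) * d1 + (q : ℤ) * d2)
    (hn0 : 0 ≤ (d0 : ℤ) - (p : ℤ) * d1 + (q : ℤ) * d2) (hnq : (d0 : ℤ) - (p : ℤ) * d1 + (q : ℤ) * d2 < (q : ℤ) - p)
    (hcd : (m : ℤ) ∣ (d1 : ℤ) - d2) (hce : (m : ℤ) ∣ (e1 : ℤ) - e2)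
    (hd0 : d0 < Nat.gcd m (q - p)) (he0 : e0 < Nat.gcd m (q - p)) :
    (d0 = e0 ∧ ((m : ℤ) * ((q - p) / Nat.gcd m (q - p) : ℕ)) ∣ ((d1 : ℤ) - d2) - ((e1 : ℤ) - e2)) ∧
    ((d1 : ℤ) - d2 < (e1 : ℤ) - e2 →
      (MvPolynomial.X (0 : Fin 3) ^ d0 * MvPolynomial.X (1 : Fin 3) ^ d1 * MvPolynomial.X (2 : Fin 3) ^ d2 * (MvPolynomial.X (1 : Fin 3) ^ (m / Nat.gcd m (q - p) * q) * MvPolynomial.X (2 : Fin 3) ^ (m / Nat.gcd m (q - p) * p)) : MvPolynomial (Fin 3) k) ∣ MvPolynomial.X (0 : Fin 3) ^ e0 * MvPolynomial.X (1 : Fin 3) ^ e1 * MvPolynomial.X (2 : Fin 3) ^ e2) ∧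
    ((MvPolynomial.X (0 : Fin 3) ^ e0 * MvPolynomial.X (1 : Fin 3) ^ e1 * MvPolynomial.X (2 : Fin 3) ^ e2 - MvPolynomial.X (0 : Fin 3) ^ d0 * MvPolynomial.X (1 : Fin 3) ^ d1 * MvPolynomial.X (2 : Fin 3) ^ d2 : MvPolynomial (Fin 3) k) ∈
      Ideal.span {(1 : MvPolynomial (Fin 3) k) - MvPolynomial.X (1 : Fin 3) ^ (m / Nat.gcd m (q - p) * q) * MvPolynomial.X (2 : Fin 3) ^ (m / Nat.gcd m (q - p) * p)}) := by
  set g := Nat.gcd m (q - p) with hg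
  have hg0 : 0 < g := Nat.gcd_pos_of_pos_left _ hm
  obtain ⟨m', hm'⟩ : g ∣ m := Nat.gcd_dvd_left _ _
  obtain ⟨w', hw'⟩ : g ∣ q - p := Nat.gcd_dvd_right _ _
  have hwz : ((q : ℤ) - p) = (g : ℤ) * w' := by rw [← Nat.cast_sub hpq.le, hw']; push_cast; ring
  have hmz : (m : ℤ) = (g : ℤ) * m' := by rw [hm']; push_cast; ring
  have hw'0 : 0 < w' := by
    rcases Nat.eq_zero_or_pos w' with h | h
    · rw [h, mul_zero] at hw'; omega
    · exact h
  have hm'0 : 0 < m' := by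
    rcases Nat.eq_zero_or_pos m' with h | h
    · rw [h, mul_zero] at hm'; omega
    · exact h
  have hco : Nat.Coprime m' w' := by
    have h := Nat.coprime_div_gcd_div_gcd (m := m) (n := q - p) (show 0 < Nat.gcd m (q - p) from hg0)
    rw [← hg] at h
    rw [hw'] at h
    rwa [show m / g = m' by rw [hm', Nat.mul_div_cancel_left _ hg0], Nat.mul_div_cancel_left _ hg0] at h
  rw [show (q - p) / g = w' by rw [hw', Nat.mul_div_cancel_left _ hg0],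
    show m / g = m' by rw [hm', Nat.mul_div_cancel_left _ hg0]]
  obtain ⟨a, ha⟩ := hcd
  obtain ⟨b, hb⟩ := hce
  have hdd : (e0 : ℤ) - d0 = (g : ℤ) * ((m' : ℤ) * (p : ℤ) * (b - a) - (w' : ℤ) * ((e2 : ℤ) - d2)) := by
    have : (e0 : ℤ) - d0 = (p : ℤ) * (((e1 : ℤ) - e2) - ((d1 : ℤ) - d2)) - ((q : ℤ) - p) * ((e2 : ℤ) - d2) := by
      linear_combination hn
    rw [this, ha, hb, hwz, hmz]; ring
  have heq : d0 = e0 := by
    have h1 : ((g : ℤ)) ∣ (e0 : ℤ) - d0 := ⟨_, hdd⟩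
    have h2 := Int.eq_zero_of_abs_lt_dvd h1 (by rw [abs_lt]; omega)
    omega
  have hk : (m' : ℤ) * (p : ℤ) * (b - a) = (w' : ℤ) * ((e2 : ℤ) - d2) := by
    rw [heq, sub_self] at hdd
    rcases mul_eq_zero.1 hdd.symm with h | h
    · omega
    · linarith
  have hcop2 : IsCoprime (w' : ℤ) ((m' : ℤ) * p) := by
    refine IsCoprime.mul_right (Nat.isCoprime_iff_coprime.2 hco.symm) (Nat.isCoprime_iff_coprime.2 ?_)
    have h : Nat.Coprime (q - p) p := (Nat.coprime_sub_self_left hpq.le).2 hcop.symm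
    rw [hw'] at h
    exact h.coprime_mul_left
  obtain ⟨t, ht⟩ : (w' : ℤ) ∣ b - a := hcop2.dvd_of_dvd_mul_left ⟨_, hk⟩
  have hd2 : (e2 : ℤ) - d2 = (m' : ℤ) * p * t := by
    refine mul_left_cancel₀ (show (w' : ℤ) ≠ 0 by omega) ?_
    rw [← hk, ht]; ring
  have hd1 : (e1 : ℤ) - d1 = (m' : ℤ) * q * t := by
    have : (e1 : ℤ) - d1 = (m : ℤ) * (b - a) + ((e2 : ℤ) - d2) := by linear_combination hb - ha
    rw [this, ht, hd2, hmz, show (q : ℤ) = (g : ℤ) * w' + p by linarith [hwz]]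
    ring
  refine ⟨⟨heq, ⟨-t, by linear_combination ha - hb - (m : ℤ) * ht⟩⟩, fun hlt => ?_, ?_⟩
  · have hba : 0 < b - a := by
      by_contra h
      nlinarith [(show (0 : ℤ) < m by exact_mod_cast hm)]
    have ht1 : 1 ≤ t := by
      by_contra h
      nlinarith
    obtain ⟨s, rfl⟩ : ∃ s : ℕ, t = (s : ℤ) + 1 := ⟨(t - 1).toNat, by omega⟩
    obtain rfl : e2 = d2 + m' * p * (s + 1) := by
      have : (e2 : ℤ) = d2 + (m' : ℤ) * p * ((s : ℤ) + 1) := by linarith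
      exact_mod_cast this
    obtain rfl : e1 = d1 + m' * q * (s + 1) := by
      have : (e1 : ℤ) = d1 + (m' : ℤ) * q * ((s : ℤ) + 1) := by linarith
      exact_mod_cast this
    subst heq
    exact ⟨MvPolynomial.X (1 : Fin 3) ^ (m' * q * s) * MvPolynomial.X (2 : Fin 3) ^ (m' * p * s), by ring⟩
  · have key : ∀ (a1 a2 c1 c2 : ℕ) (s : ℕ), c1 = a1 + m' * q * s → c2 = a2 + m' * p * s →
        (MvPolynomial.X (0 : Fin 3) ^ d0 * MvPolynomial.X (1 : Fin 3) ^ c1 * MvPolynomial.X (2 : Fin 3) ^ c2 -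
          MvPolynomial.X (0 : Fin 3) ^ d0 * MvPolynomial.X (1 : Fin 3) ^ a1 * MvPolynomial.X (2 : Fin 3) ^ a2 : MvPolynomial (Fin 3) k) ∈
        Ideal.span {(1 : MvPolynomial (Fin 3) k) - MvPolynomial.X (1 : Fin 3) ^ (m' * q) * MvPolynomial.X (2 : Fin 3) ^ (m' * p)} := by
      rintro a1 a2 c1 c2 s rfl rfl
      obtain ⟨u, hu⟩ := sub_dvd_pow_sub_pow (1 : MvPolynomial (Fin 3) k)
        (MvPolynomial.X (1 : Fin 3) ^ (m' * q) * MvPolynomial.X (2 : Fin 3) ^ (m' * p)) s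
      rw [one_pow] at hu
      refine Ideal.mem_span_singleton.2 ⟨-(MvPolynomial.X (0 : Fin 3) ^ d0 * MvPolynomial.X (1 : Fin 3) ^ a1 * MvPolynomial.X (2 : Fin 3) ^ a2) * u, ?_⟩
      linear_combination -(MvPolynomial.X (0 : Fin 3) ^ d0 * MvPolynomial.X (1 : Fin 3) ^ a1 * MvPolynomial.X (2 : Fin 3) ^ a2) * hu
    subst heq
    rcases le_total 0 t with h0 | h0
    · obtain ⟨s, rfl⟩ := Int.eq_ofNat_of_zero_le h0
      exact key d1 d2 e1 e2 s (by exact_mod_cast (by linarith : (e1 : ℤ) = d1 + (m' : ℤ) * q * s))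
        (by exact_mod_cast (by linarith : (e2 : ℤ) = d2 + (m' : ℤ) * p * s))
    · obtain ⟨s, hs⟩ := Int.eq_ofNat_of_zero_le (neg_nonneg.2 h0)
      rw [show t = -(s : ℤ) by omega] at hd1 hd2
      have h3 := (Ideal.neg_mem_iff _).2 (key e1 e2 d1 d2 s (by exact_mod_cast (by linarith : (d1 : ℤ) = e1 + (m' : ℤ) * q * s))
        (by exact_mod_cast (by linarith : (d2 : ℤ) = e2 + (m' : ℤ) * p * s)))
      rwa [neg_sub] at h3

end Groth.Agent.S15739
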