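import Groth.Statements.S15745
import Groth.Agent.Lib.Mero.ZeroDiv

set_option autoImplicit false
universe u
open QCohSup

namespace Groth.Agent.S15745

open GrothLib.InvExt (mres IsGen) in
open AlgebraicGeometry CategoryTheory in
set_option backward.isDefEq.respectTransparency false in
theorem mem_genLocus_iff {X : Scheme.{u}} {L : X.Modules} (s : Coh.structureModule X ⟶ L) {U : X.Opens}
    {e : Γ(L, U)} (he : IsGen L U e) {c : Γ(X, U)} (hc : GrothLib.Mero.Zero.gsecOf s U = c • e)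
    {x : X} (hx : x ∈ U) :
    x ∈ CohB1.genLocus L s ↔ IsUnit (X.presheaf.germ U x hx c) := by
  have happ : ∀ (W : X.Opens) (hW : W ≤ U) (b : Γ(X, W)),
      s.app W b = (b * GrothLib.InvExt.fres X hW c) • mres L hW e := by
    intro W hW b
    refine (GrothLib.Mero.Zero.app_eq_smul_secVal L s W b).trans ?_
    rw [← smul_smul, ← GrothLib.InvExt.mres_smul, ← hc, GrothLib.Mero.Zero.gsecOf_mres]
  constructor
  · intro h
    obtain ⟨V, hV, hxV⟩ := TopologicalSpace.Opens.mem_sSup.1 h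
    have hW : V ⊓ U ≤ U := inf_le_right
    have hWV : (Scheme.Opens.ι V) ''ᵁ ((Scheme.Opens.ι V) ⁻¹ᵁ (V ⊓ U)) = V ⊓ U := by
      rw [Scheme.Hom.image_preimage_eq_opensRange_inf, Scheme.Opens.opensRange_ι, ← inf_assoc, inf_idem]
    haveI : IsIso ((Scheme.Modules.restrictFunctor (Scheme.Opens.ι V)).map s) := hV
    have hiso : IsIso (((Scheme.Modules.restrictFunctor (Scheme.Opens.ι V)).map s).app ((Scheme.Opens.ι V) ⁻¹ᵁ (V ⊓ U))) :=
      inferInstance
    have hb : Function.Bijective (s.app ((Scheme.Opens.ι V) ''ᵁ ((Scheme.Opens.ι V) ⁻¹ᵁ (V ⊓ U)))) :=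
      @ConcreteCategory.bijective_of_isIso _ _ _ _ _ _ _ _ _ hiso
    rw [hWV] at hb
    obtain ⟨b, hb'⟩ := hb.2 (mres L hW e)
    rw [happ _ hW] at hb'
    have h1 := he.smul_left_injective hW (hb'.trans (one_smul _ _).symm)
    have h2 := congrArg (X.presheaf.germ (V ⊓ U) x ⟨hxV, hx⟩) h1
    rw [map_mul, map_one] at h2
    simp only [GrothLib.InvExt.fres, TopCat.Presheaf.germ_res_apply] at h2
    exact IsUnit.of_mul_eq_one _ ((mul_comm _ _).trans h2)
  · intro h
    refine le_sSup (a := X.basicOpen c) (show IsIso ((Scheme.Modules.restrictFunctor (X.basicOpen c).ι).map s) from ?_)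
      ((Scheme.mem_basicOpen _ _ _ hx).2 h)
    refine Scheme.Modules.Hom.isIso_iff_isIso_app.2 fun W => (ConcreteCategory.isIso_iff_bijective _).2 ?_
    have hW : (X.basicOpen c).ι ''ᵁ W ≤ X.basicOpen c :=
      (Scheme.Hom.image_le_opensRange _ _).trans (Scheme.Opens.opensRange_ι _).le
    have hu : IsUnit (GrothLib.InvExt.fres X (hW.trans (X.basicOpen_le c)) c) := by
      have h0 := (RingedSpace.isUnit_res_basicOpen X.toLocallyRingedSpace.toRingedSpace c).map
        (X.presheaf.map (homOfLE hW).op).hom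
      rw [← GrothLib.InvExt.fres_fres (X.basicOpen_le c) hW]
      exact h0
    change Function.Bijective fun b : Γ(X, (X.basicOpen c).ι ''ᵁ W) => s.app ((X.basicOpen c).ι ''ᵁ W) b
    rw [show (fun b : Γ(X, (X.basicOpen c).ι ''ᵁ W) => s.app ((X.basicOpen c).ι ''ᵁ W) b) =
      (fun b => b • mres L (hW.trans (X.basicOpen_le c)) e) ∘
        (· * GrothLib.InvExt.fres X (hW.trans (X.basicOpen_le c)) c) from
      funext (happ _ (hW.trans (X.basicOpen_le c)))]
    exact (he _ _).comp ⟨fun a b hab => hu.mul_right_cancel hab,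
      fun a => ⟨a * (hu.unit⁻¹).1, (mul_assoc _ _ _).trans ((congrArg (a * ·) hu.val_inv_mul).trans (mul_one a))⟩⟩

open AlgebraicGeometry in
open CategoryTheory in
/-- Let `X` be a scheme, `L` and `L'` invertible `O_X`-modules, `f` a global section of `L` and `g` a
global section of `L'`. Then the open `X_{f ⊗ g}` where `f ⊗ g` generates `L ⊗ L'` is the
intersection of the open `X_f` where `f` generates `L` and the open `X_g` where `g` generates `L'`.
(The published statement is for a locally ringed space; this row is its case of a scheme.) -/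
theorem result
    (X : Scheme.{u}) (L L' : X.Modules) (hL : PicF.IsInvertible L) (hL' : PicF.IsInvertible L')
    (f : Coh.structureModule X ⟶ L) (g : Coh.structureModule X ⟶ L') :
    CohB1.genLocus (CohB1.tensorMod L L') (SecTwist.tmulHom f g) =
      CohB1.genLocus L f ⊓ CohB1.genLocus L' g := by
  ext x
  obtain ⟨V₁, e₁, hx₁, he₁⟩ := GrothLib.InvExt.exists_gen_nhd hL x
  obtain ⟨V₂, e₂, hx₂, he₂⟩ := GrothLib.InvExt.exists_gen_nhd hL' x
  have hU : x ∈ V₁ ⊓ V₂ := ⟨hx₁, hx₂⟩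
  have g₁ := he₁.restrict (inf_le_left : V₁ ⊓ V₂ ≤ V₁)
  have g₂ := he₂.restrict (inf_le_right : V₁ ⊓ V₂ ≤ V₂)
  obtain ⟨a, ha⟩ := g₁.exists_smul_eq le_rfl (GrothLib.Mero.Zero.gsecOf f (V₁ ⊓ V₂))
  obtain ⟨b, hb⟩ := g₂.exists_smul_eq le_rfl (GrothLib.Mero.Zero.gsecOf g (V₁ ⊓ V₂))
  rw [GrothLib.InvExt.mres_self] at ha hb
  have hab : GrothLib.Mero.Zero.gsecOf (SecTwist.tmulHom f g) (V₁ ⊓ V₂) = (a * b) •
      GrothLib.VA.tm (GrothLib.InvExt.mres L inf_le_left e₁) (GrothLib.InvExt.mres L' inf_le_right e₂) := by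
    refine (SecTwist.val_tmulHom f g (V₁ ⊓ V₂)).trans ?_
    change GrothLib.VA.tm (GrothLib.Mero.Zero.gsecOf f (V₁ ⊓ V₂)) (GrothLib.Mero.Zero.gsecOf g (V₁ ⊓ V₂)) = _
    rw [ha, hb, GrothLib.VA.tm_smul_left, GrothLib.VA.tm_smul_right, smul_smul]
  change x ∈ CohB1.genLocus _ _ ↔ x ∈ CohB1.genLocus _ _ ⊓ CohB1.genLocus _ _
  rw [TopologicalSpace.Opens.mem_inf, mem_genLocus_iff f g₁ ha hU, mem_genLocus_iff g g₂ hb hU,
    mem_genLocus_iff (SecTwist.tmulHom f g) (GrothLib.VA.isGen_tm g₁ g₂) hab hU, map_mul, IsUnit.mul_iff]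

end Groth.Agent.S15745
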