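import Groth.Statements.S15748
import Groth.Agent.Lib.WeilCoh.CorrTrace

set_option autoImplicit false
universe u v
open CategoryTheory AlgebraicGeometry
open WeilCoh

namespace Groth.Agent.S15748

/-- Let `H` be a Weil cohomology theory with coefficients in a field `K` of characteristic zero on
nonsingular connected projective varieties over an algebraically closed field `k`; let `X`, `Y` be
such varieties, `P` a product `X × Y` with projections `p`, `q`, `P'` a product `Y × X` with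
projections `p'`, `q'`, and `σ : P ⟶ P'` the swap (`σ p' = q`, `σ q' = p`). For an integer `r`, a
class `φ ∈ H^{2 dim X + r}(P)` acts as the degree-`r` correspondence `x ↦ q_*(p^* x ∪ φ)` from
`H•(X)` to `H•(Y)`, and `ψ ∈ H^{2 dim Y − r}(P')` as the degree-`(−r)` correspondence `y ↦ q'_*(p'^*
y ∪ ψ)` back. Then `Tr_P(φ ∪ σ^* ψ) = Σ_{i=0}^{2 dim X} (−1)^i tr(ψ ∘ φ | H^i(X))`. The hypothesis
`hdim` is the arithmetic identity expressing `dim P = dim P' = dim X + dim Y` in the form needed to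
read the composite `ψ ∘ φ` as an endomorphism of each `H^i(X)` (the push-forward maps are indexed by
the dimensions of the underlying spaces). (The published lemma defines the action of a
correspondence through the Künneth and Poincaré duality identifications `Hom^r(H•X, H•Y) = H^{2 dim
X + r}(X × Y)` and the transpose through the same identifications; here the action is written as
pull-back, cup product and push-forward, and the transpose as pull-back along the swap, which the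
published text identifies with it.) (The published lemma is stated for smooth projective varieties
over an arbitrary base field, pure of their dimensions, with Tate twists; this row is its case of
connected varieties over an algebraically closed field, without twists.) -/
theorem result (k : Type u) [Field k] [IsAlgClosed k] (K : Type v) [Field K] [CharZero K]
    (T : WeilCoh.Theory k K) (X Y P P' : WeilCoh.Var k)
    (p : P ⟶ X) (q : P ⟶ Y) (hP : WeilCoh.IsProd p q)
    (p' : P' ⟶ Y) (q' : P' ⟶ X) (hP' : WeilCoh.IsProd p' q')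
    (σ : P ⟶ P') (hσ₁ : σ ≫ p' = q) (hσ₂ : σ ≫ q' = p) (r : ℤ)
    (hdim : ∀ i : ℤ, ((i + (2 * (WeilCoh.dim X.obj.left : ℤ) + r) + 2 * (WeilCoh.dim Y.obj.left : ℤ) - 2 * (WeilCoh.dim P.obj.left : ℤ)) + (2 * (WeilCoh.dim Y.obj.left : ℤ) - r) + 2 * (WeilCoh.dim X.obj.left : ℤ) - 2 * (WeilCoh.dim P'.obj.left : ℤ)) = i)
    (φ : ↥(T.gr P (2 * (WeilCoh.dim X.obj.left : ℤ) + r))) (ψ : ↥(T.gr P' (2 * (WeilCoh.dim Y.obj.left : ℤ) - r))) :
    T.tr P ((φ : T.H P) * T.pull σ (ψ : T.H P')) =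
      ∑ i ∈ Finset.range (2 * WeilCoh.dim X.obj.left + 1),
        (-1 : K) ^ i * LinearMap.trace K ↥(T.gr X (i : ℤ))
          ((LinearEquiv.ofEq (T.gr X (((i : ℤ) + (2 * (WeilCoh.dim X.obj.left : ℤ) + r) + 2 * (WeilCoh.dim Y.obj.left : ℤ) - 2 * (WeilCoh.dim P.obj.left : ℤ)) + (2 * (WeilCoh.dim Y.obj.left : ℤ) - r) + 2 * (WeilCoh.dim X.obj.left : ℤ) - 2 * (WeilCoh.dim P'.obj.left : ℤ))) (T.gr X (i : ℤ)) (congrArg (T.gr X) (hdim (i : ℤ)))).toLinearMap ∘ₗ
            ((T.push q' (((i : ℤ) + (2 * (WeilCoh.dim X.obj.left : ℤ) + r) + 2 * (WeilCoh.dim Y.obj.left : ℤ) - 2 * (WeilCoh.dim P.obj.left : ℤ)) + (2 * (WeilCoh.dim Y.obj.left : ℤ) - r))) ∘ₗ ((LinearMap.mulRight K (ψ : T.H P')).restrict (p := T.gr P' ((i : ℤ) + (2 * (WeilCoh.dim X.obj.left : ℤ) + r) + 2 * (WeilCoh.dim Y.obj.left : ℤ) - 2 * (WeilCoh.dim P.obj.left : ℤ))) (q := T.gr P' (((i : ℤ) + (2 * (WeilCoh.dim X.obj.left : ℤ) + r) + 2 * (WeilCoh.dim Y.obj.left : ℤ) - 2 * (WeilCoh.dim P.obj.left : ℤ))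 + (2 * (WeilCoh.dim Y.obj.left : ℤ) - r))) (fun y hy => SetLike.mul_mem_graded hy ψ.2)) ∘ₗ (T.pullDeg p' ((i : ℤ) + (2 * (WeilCoh.dim X.obj.left : ℤ) + r) + 2 * (WeilCoh.dim Y.obj.left : ℤ) - 2 * (WeilCoh.dim P.obj.left : ℤ)))) ∘ₗ
            ((T.push q ((i : ℤ) + (2 * (WeilCoh.dim X.obj.left : ℤ) + r))) ∘ₗ ((LinearMap.mulRight K (φ : T.H P)).restrict (p := T.gr P (i : ℤ)) (q := T.gr P ((i : ℤ) + (2 * (WeilCoh.dim X.obj.left : ℤ) + r))) (fun x hx => SetLike.mul_mem_graded hx φ.2)) ∘ₗ (T.pullDeg p (i : ℤ)))) := by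
  exact GrothLib.WeilCoh.tr_mul_pull_swap T p q hP p' q' hP' σ hσ₁ hσ₂ r hdim φ ψ

end Groth.Agent.S15748
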