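import Groth.Statements.S15749
import Mathlib.RingTheory.LaurentSeries
import Mathlib.RingTheory.Idempotents
import Mathlib.RingTheory.Polynomial.Nilpotent
import Mathlib.RingTheory.PowerSeries.Inverse

set_option autoImplicit false
universe u
open CAlg

namespace Groth.Agent.S15749

/-- The map of Laurent series induced by a ring homomorphism. -/
noncomputable def mapHom {A B : Type*} [CommRing A] [CommRing B] (f : A →+* B) :
    LaurentSeries A →+* LaurentSeries B where
  toFun x := x.map f
  map_one' := HahnSeries.map_one f.toMonoidWithZeroHom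
  map_mul' x y := HahnSeries.map_mul f.toNonUnitalRingHom
  map_zero' := by ext; simp
  map_add' x y := by ext; simp

/-- A Laurent series with nilpotent coefficients differs from a unit by `1`. -/
theorem isUnit_one_add_of_coeff_nilpotent {A : Type*} [CommRing A] (x : LaurentSeries A)
    (hx : ∀ n, IsNilpotent (x.coeff n)) : IsUnit (1 + x) := by
  classical
  obtain ⟨N, hN⟩ : ∃ N : ℕ, -(N : ℤ) ≤ x.order := ⟨x.order.natAbs, by omega⟩
  let P : PowerSeries A := PowerSeries.mk fun i => x.coeff ((i : ℤ) - N)
  have hP : (HahnSeries.single (-(N : ℤ)) (1 : A)) * (P : LaurentSeries A) = x := by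
    ext n
    rw [HahnSeries.coeff_single_mul, one_mul, PowerSeries.coeff_coe]
    by_cases hn : n - -(N : ℤ) < 0
    · rw [if_pos hn, HahnSeries.coeff_eq_zero_of_lt_order (by omega : n < x.order)]
    · rw [if_neg hn, PowerSeries.coeff_mk]
      congr 1
      omega
  let Q : PowerSeries A := PowerSeries.mk fun i => x.coeff (i : ℤ)
  have hsplit : P = ((PowerSeries.trunc N P : Polynomial A) : PowerSeries A) + PowerSeries.X ^ N * Q := by
    ext i
    rw [map_add, Polynomial.coeff_coe, PowerSeries.coeff_trunc, PowerSeries.coeff_X_pow_mul']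
    by_cases hi : i < N
    · rw [if_pos hi, if_neg (by omega), add_zero]
    · rw [if_neg hi, if_pos (by omega), zero_add]
      simp only [P, Q, PowerSeries.coeff_mk]
      congr 1
      omega
  let ι : PowerSeries A →+* LaurentSeries A := HahnSeries.ofPowerSeries ℤ A
  let y : LaurentSeries A :=
    HahnSeries.single (-(N : ℤ)) (1 : A) * ι ((PowerSeries.trunc N P : Polynomial A) : PowerSeries A)
  have hy : IsNilpotent y := by
    apply (Commute.all _ _).isNilpotent_mul_left
    refine IsNilpotent.map ?_ ι
    refine IsNilpotent.map ?_ (Polynomial.coeToPowerSeries.ringHom)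
    rw [Polynomial.isNilpotent_iff]
    intro i
    erw [PowerSeries.coeff_trunc]
    split
    · simp only [P, PowerSeries.coeff_mk]
      exact hx _
    · exact IsNilpotent.zero
  have hxy : x = y + ι Q := by
    rw [← hP]
    simp only [y, ι]
    conv_lhs => rw [hsplit]
    rw [map_add, mul_add, map_mul, map_pow, HahnSeries.ofPowerSeries_X, HahnSeries.single_pow,
      ← mul_assoc, HahnSeries.single_mul_single]
    simp
  have hQ : IsUnit (1 + Q) := by
    rw [PowerSeries.isUnit_iff_constantCoeff, map_add, map_one, ← PowerSeries.coeff_zero_eq_constantCoeff_apply]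
    refine IsNilpotent.isUnit_one_add ?_
    simp only [Q, PowerSeries.coeff_mk]
    exact hx _
  have h3 := hy.isUnit_add_left_of_commute (hQ.map ι) (Commute.all _ _)
  rw [map_add, map_one] at h3
  rw [hxy]
  convert h3 using 1
  ring


/-- For an arbitrary commutative ring R, every idempotent of the ring of formal Laurent series R((t)) is
the constant series attached to a unique idempotent of R. Equivalently, the structure map R → R((t))
induces a bijection on idempotents, so that the spectrum of R((t)) is connected if and only if the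
spectrum of R is. No reducedness is assumed. -/
theorem result (R : Type u) [CommRing R]
    (e : LaurentSeries R) (he : IsIdempotentElem e) :
    ∃! r : R, IsIdempotentElem r ∧ HahnSeries.C r = e := by
  classical
  -- all nonzero coefficients are nilpotent
  have key : ∀ p : Ideal R, p.IsPrime →
      (∀ n : ℤ, n ≠ 0 → e.coeff n ∈ p) ∧ e.coeff 0 * e.coeff 0 - e.coeff 0 ∈ p := by
    intro p hp
    haveI := hp
    let φ : LaurentSeries R →+* LaurentSeries (R ⧸ p) := mapHom (Ideal.Quotient.mk p)
    have hφ : ∀ n, (φ e).coeff n = Ideal.Quotient.mk p (e.coeff n) := fun n => rfl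
    rcases IsIdempotentElem.iff_eq_zero_or_one.1 (he.map φ) with h | h
    · refine ⟨fun n _ => ?_, ?_⟩
      · rw [← Ideal.Quotient.eq_zero_iff_mem, ← hφ, h, HahnSeries.coeff_zero]
      · have : e.coeff 0 ∈ p := by
          rw [← Ideal.Quotient.eq_zero_iff_mem, ← hφ, h, HahnSeries.coeff_zero]
        exact sub_mem (Ideal.mul_mem_left _ _ this) this
    · refine ⟨fun n hn => ?_, ?_⟩
      · rw [← Ideal.Quotient.eq_zero_iff_mem, ← hφ, h, HahnSeries.coeff_one, if_neg hn]
      · rw [← Ideal.Quotient.eq_zero_iff_mem, map_sub, map_mul, ← hφ, h, HahnSeries.coeff_one,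
          if_pos rfl, mul_one, sub_self]
  have h0 : IsIdempotentElem (Ideal.Quotient.mk (nilradical R) (e.coeff 0)) := by
    unfold IsIdempotentElem
    rw [← map_mul, Ideal.Quotient.eq, nilradical_eq_sInf, Ideal.mem_sInf]
    exact fun {p} hp => (key p hp).2
  obtain ⟨r, hr, hr0⟩ := exists_isIdempotentElem_eq_of_ker_isNilpotent
    (Ideal.Quotient.mk (nilradical R))
    (fun x hx => mem_nilradical.1 (by rwa [Ideal.mk_ker] at hx)) _ ⟨_, rfl⟩ h0
  let d := e - HahnSeries.C r
  have hd : ∀ n, IsNilpotent (d.coeff n) := by
    intro n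
    simp only [d, HahnSeries.coeff_sub, HahnSeries.C_apply]
    by_cases hn : n = 0
    · subst hn
      rw [HahnSeries.coeff_single_same]
      exact mem_nilradical.1 (Ideal.Quotient.eq.1 hr0.symm)
    · rw [HahnSeries.coeff_single_of_ne hn, sub_zero, ← mem_nilradical, nilradical_eq_sInf,
        Ideal.mem_sInf]
      exact fun {p} hp => (key p hp).1 n hn
  have hd2 : ∀ n, IsNilpotent ((-(d * d)).coeff n) := by
    intro n
    rw [← mem_nilradical, ← Ideal.Quotient.eq_zero_iff_mem]
    have h1 : mapHom (Ideal.Quotient.mk (nilradical R)) d = 0 := by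
      ext m
      rw [HahnSeries.coeff_zero]
      exact Ideal.Quotient.eq_zero_iff_mem.2 (mem_nilradical.2 (hd m))
    have h2 : mapHom (Ideal.Quotient.mk (nilradical R)) (-(d * d)) = 0 := by
      rw [map_neg, map_mul, h1, mul_zero, neg_zero]
    exact congrArg (fun z => HahnSeries.coeff z n) h2
  have hd3 : d * d * d = d := by
    have h1 : HahnSeries.C r * HahnSeries.C r = (HahnSeries.C r : LaurentSeries R) := by
      rw [← map_mul, hr.eq]
    simp only [d]
    linear_combination (e + 2 * 0 - 3 * HahnSeries.C r + 1) * he.eq +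
      (3 * e - HahnSeries.C r - 1) * h1
  have hd0 : d = 0 := by
    have hu := isUnit_one_add_of_coeff_nilpotent _ hd2
    apply hu.mul_right_eq_zero.1
    linear_combination -hd3
  have her : HahnSeries.C r = e := (sub_eq_zero.1 hd0).symm
  refine ⟨r, ⟨hr, her⟩, fun r' hr' => ?_⟩
  exact HahnSeries.C_injective (hr'.2.trans her.symm)

end Groth.Agent.S15749
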