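import Groth.Statements.S15750
import Mathlib.RingTheory.LaurentSeries
import Mathlib.RingTheory.PowerSeries.Inverse
import Mathlib.RingTheory.Nilpotent.Lemmas

set_option autoImplicit false
universe u
open CAlg

namespace Groth.Agent.S15750

/-- Let R be a nonzero reduced commutative ring with no idempotents other than 0 and 1. Then every unit
of the Laurent series ring R((t)) is t^n · u for a unique integer n and a unique unit u of the power
series ring R[[t]]. (The published statement is for an arbitrary torus T over a reduced ring R, with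
n replaced by a locally constant integer-valued function on Spec R, i.e. a point of the cocharacter
lattice; this row is the case where T is the multiplicative group and Spec R is connected, to which
the published proof reduces.) -/
theorem result (R : Type u) [CommRing R]
    [IsReduced R] [Nontrivial R] (hconn : ∀ e : R, IsIdempotentElem e → e = 0 ∨ e = 1)
    (f : (LaurentSeries R)ˣ) :
    ∃! p : ℤ × (PowerSeries R)ˣ,
      (f : LaurentSeries R) = HahnSeries.single p.1 (1 : R) * HahnSeries.ofPowerSeries ℤ R (p.2 : PowerSeries R) := by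
  classical
  set F : LaurentSeries R := (f : LaurentSeries R)
  set G : LaurentSeries R := ((f⁻¹ : (LaurentSeries R)ˣ) : LaurentSeries R)
  have hFG : F * G = 1 := Units.mul_inv f
  -- the order modulo a prime
  have hP : ∀ P : Ideal R, P.IsPrime → ∃ n : ℤ, (∀ i < n, F.coeff i ∈ P) ∧ F.coeff n * G.coeff (-n) ∉ P ∧
      ∀ i, i ≠ n → F.coeff i * G.coeff (-i) ∈ P := by
    intro P hP
    have hne : ∀ X Y : LaurentSeries R, X * Y = 1 → ∃ i, X.coeff i ∉ P ∧ ∀ a < i, X.coeff a ∈ P := by
      intro X Y hXY
      have hex : {i : ℤ | X.coeff i ∉ P}.Nonempty := by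
        by_contra hall
        refine hP.ne_top ((Ideal.eq_top_iff_one P).2 ?_)
        have h : (X * Y).coeff 0 = 1 := by rw [hXY]; simp
        rw [← h, HahnSeries.coeff_mul]
        refine Ideal.sum_mem _ fun ij _ => P.mul_mem_right _ ?_
        by_contra hij
        exact hall ⟨ij.1, hij⟩
      have hwf : {i : ℤ | X.coeff i ∉ P}.IsWF := X.isPWO_support.isWF.mono fun i hi h0 => hi (by rw [h0]; exact P.zero_mem)
      exact ⟨hwf.min hex, hwf.min_mem hex, fun a ha => by
        by_contra h
        exact hwf.not_lt_min hex h ha⟩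
    obtain ⟨i, hi, himin⟩ := hne F G hFG
    obtain ⟨j, hj, hjmin⟩ := hne G F (by rw [mul_comm]; exact hFG)
    have hprod : F.coeff i * G.coeff j ∉ P := fun h => (hP.mem_or_mem h).elim hi hj
    have hsum : i + j = 0 := by
      by_contra hij
      have h : (F * G).coeff (i + j) = 0 := by rw [hFG, HahnSeries.coeff_one, if_neg hij]
      rw [HahnSeries.coeff_mul, ← Finset.add_sum_erase _ _ (a := (i, j)) (Finset.mem_addAntidiagonal.2
        ⟨(HahnSeries.mem_support _ _).2 fun h0 => hi (by rw [h0]; exact P.zero_mem),
          (HahnSeries.mem_support _ _).2 fun h0 => hj (by rw [h0]; exact P.zero_mem), rfl⟩)] at h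
      refine hprod ?_
      rw [eq_neg_of_add_eq_zero_left h]
      refine neg_mem (Ideal.sum_mem _ fun ab hab => ?_)
      obtain ⟨hne', hab'⟩ := Finset.mem_erase.1 hab
      obtain ⟨-, -, hadd⟩ := Finset.mem_addAntidiagonal.1 hab'
      rcases lt_trichotomy ab.1 i with h1 | h1 | h1
      · exact P.mul_mem_right _ (himin _ h1)
      · exact absurd (Prod.ext h1 (by omega : ab.2 = j)) hne'
      · exact P.mul_mem_left _ (hjmin _ (by omega))
    obtain rfl : j = -i := by omega
    refine ⟨i, himin, hprod, fun a ha => ?_⟩
    rcases lt_or_gt_of_ne ha with h1 | h1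
    · exact P.mul_mem_right _ (himin _ h1)
    · exact P.mul_mem_left _ (hjmin _ (by omega))
  choose ord hlow hord hoff using hP
  have hzero : ∀ x : R, (∀ P : Ideal R, P.IsPrime → x ∈ P) → x = 0 := fun x h =>
    (mem_nilradical.1 (nilradical_eq_sInf R ▸ Ideal.mem_sInf.2 fun {P} hP => h P hP)).eq_zero
  -- the products are idempotents
  let e : ℤ → R := fun i => F.coeff i * G.coeff (-i)
  have hsum1 : ∀ (P : Ideal R) (hP : P.IsPrime), e (ord P hP) - 1 ∈ P := fun P hP => by
    have h : (F * G).coeff 0 = 1 := by rw [hFG]; simp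
    rw [HahnSeries.coeff_mul, ← Finset.add_sum_erase _ _ (a := (ord P hP, -ord P hP)) (Finset.mem_addAntidiagonal.2
      ⟨(HahnSeries.mem_support _ _).2 fun h0 => hord P hP (by rw [h0, zero_mul]; exact P.zero_mem),
        (HahnSeries.mem_support _ _).2 fun h0 => hord P hP (by rw [h0, mul_zero]; exact P.zero_mem), add_neg_cancel _⟩)] at h
    show F.coeff (ord P hP) * G.coeff (-ord P hP) - 1 ∈ P
    rw [← h, sub_add_cancel_left]
    refine neg_mem (Ideal.sum_mem _ fun ab hab => ?_)
    obtain ⟨hne', hab'⟩ := Finset.mem_erase.1 hab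
    obtain ⟨-, -, hadd⟩ := Finset.mem_addAntidiagonal.1 hab'
    rw [show ab.2 = -ab.1 by omega]
    exact hoff P hP _ fun h1 => hne' (Prod.ext h1 (by show ab.2 = _; omega))
  have hidem : ∀ i, IsIdempotentElem (e i) := fun i => sub_eq_zero.1 <| hzero _ fun P hP => by
    by_cases hi : i = ord P hP
    · subst hi
      have := P.mul_mem_left (e (ord P hP)) (hsum1 P hP)
      rwa [mul_sub, mul_one] at this
    · exact sub_mem (P.mul_mem_left _ (hoff P hP i hi)) (hoff P hP i hi)
  obtain ⟨P₀, hP₀⟩ := Ideal.exists_maximal R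
  have hconst : ∀ (P : Ideal R) (hP : P.IsPrime), ord P hP = ord P₀ hP₀.isPrime := fun P hP => by
    by_contra hne
    rcases hconn _ (hidem (ord P hP)) with h | h
    · exact hord P hP (by rw [show F.coeff _ * G.coeff _ = 0 from h]; exact P.zero_mem)
    · exact hP₀.ne_top ((Ideal.eq_top_iff_one P₀).2 (h ▸ hoff P₀ hP₀.isPrime _ hne))
  let n := ord P₀ hP₀.isPrime
  have hlow' : ∀ i < n, F.coeff i = 0 := fun i hi => hzero _ fun P hP => hlow P hP i (by rw [hconst P hP]; exact hi)
  have hunit : IsUnit (F.coeff n) := by
    by_contra h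
    obtain ⟨P, hPmax, hle⟩ := Ideal.exists_le_maximal (Ideal.span {F.coeff n}) (by rwa [Ne, Ideal.span_singleton_eq_top])
    refine hord P hPmax.isPrime ?_
    rw [hconst P hPmax.isPrime]
    exact P.mul_mem_right _ (hle (Ideal.mem_span_singleton_self _))
  let U : PowerSeries R := PowerSeries.mk fun i => F.coeff (n + i)
  have hU : IsUnit U := by
    rw [PowerSeries.isUnit_iff_constantCoeff, ← PowerSeries.coeff_zero_eq_constantCoeff_apply, PowerSeries.coeff_mk]
    simpa using hunit
  have hcoeff : ∀ (m : ℤ) (u : PowerSeries R) (a : ℤ),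
      (HahnSeries.single m (1 : R) * HahnSeries.ofPowerSeries ℤ R u).coeff a =
        if a - m < 0 then 0 else PowerSeries.coeff (a - m).toNat u := by
    intro m u a
    rw [HahnSeries.coeff_single_mul, one_mul, PowerSeries.coeff_coe]
    split_ifs with h
    · rfl
    · congr 1
      congr 1
      omega
  refine ⟨(n, hU.unit), ?_, ?_⟩
  · ext a
    rw [hcoeff]
    show F.coeff a = _
    split_ifs with h
    · exact hlow' a (by omega)
    · rw [IsUnit.unit_spec, PowerSeries.coeff_mk]
      congr 1
      omega
  · rintro ⟨m, u⟩ hmu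
    have hmn : m = n := by
      have hu0 : IsUnit (PowerSeries.coeff 0 (u : PowerSeries R)) := by
        rw [PowerSeries.coeff_zero_eq_constantCoeff_apply]
        exact u.isUnit.map _
      have h1 : F.coeff m = PowerSeries.coeff 0 (u : PowerSeries R) := by
        rw [hmu, hcoeff, if_neg (by simp)]
        simp
      rcases lt_trichotomy m n with h | h | h
      · rw [hlow' m h] at h1
        exact absurd (h1 ▸ hu0) not_isUnit_zero
      · exact h
      · exfalso
        have h2 : F.coeff n = 0 := by
          rw [hmu, hcoeff, if_pos (by show n - m < 0; omega)]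
        exact not_isUnit_zero (h2 ▸ hunit)
    subst hmn
    refine Prod.ext rfl (Units.ext (PowerSeries.ext fun i => ?_))
    show PowerSeries.coeff i (u : PowerSeries R) = PowerSeries.coeff i (hU.unit : PowerSeries R)
    rw [IsUnit.unit_spec, PowerSeries.coeff_mk]
    rw [hmu, hcoeff, if_neg (by omega)]
    congr 2
    omega

end Groth.Agent.S15750
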