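import Groth.Statements.S15752
import Mathlib
import Groth.Agent.Lib.HensPrep1.Prep
-- import your own Groth.Agent.* helpers here

set_option autoImplicit false
universe u
open Polynomial
open CAlg

namespace Groth.Agent.S15752

/-- Let R be a Henselian local ring with maximal ideal m and let B be a henselization of R[t] along (t).
Every f ∈ B outside mB factors as f = P · u for a unique pair (P, u) with P ∈ R[t] monic whose
non-leading coefficients lie in m and u a unit of B; moreover the natural map R[t]/(P) → B/(f) is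
bijective, stated as: every element of B is congruent to (the image of) a polynomial modulo f, and a
polynomial whose image lies in fB lies in P·R[t]. -/
theorem result (R : Type u) [CommRing R]
    [HenselianLocalRing R] (B : Type u) [CommRing B] [Algebra R B] [Algebra R[X] B]
    [IsScalarTower R R[X] B] (hB : Hens2.IsPairHenselization R[X] (Ideal.span {(X : R[X])}) B)
    (f : B) (hf : f ∉ (IsLocalRing.maximalIdeal R).map (algebraMap R B)) :
    (∃! Pu : R[X] × Bˣ, Pu.1.Monic ∧ (∀ i : ℕ, i < Pu.1.natDegree → Pu.1.coeff i ∈ IsLocalRing.maximalIdeal R) ∧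
        f = algebraMap R[X] B Pu.1 * (Pu.2 : B)) ∧
    (∀ (P : R[X]) (u : Bˣ), P.Monic → (∀ i : ℕ, i < P.natDegree → P.coeff i ∈ IsLocalRing.maximalIdeal R) →
        f = algebraMap R[X] B P * (u : B) →
      (∀ b : B, ∃ q : R[X], algebraMap R[X] B q - b ∈ Ideal.span {f}) ∧
      (∀ q : R[X], algebraMap R[X] B q ∈ Ideal.span {f} → q ∈ Ideal.span {P})) := by
  haveI := GrothLib.HensPrep1.isLocalRing hB
  have hmem : ∀ {P : R[X]} {u : Bˣ}, f = algebraMap R[X] B P * (u : B) →
      Ideal.span {f} = Ideal.span {algebraMap R[X] B P} := fun {P u} h => by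
    rw [h, Ideal.span_singleton_mul_right_unit u.isUnit]
  refine ⟨?_, fun P u hP hc h => ?_⟩
  · obtain ⟨P, u, hP, hc, h⟩ := GrothLib.HensPrep1.exists_prep hB hf
    refine ⟨(P, u), ⟨hP, hc, h⟩, ?_⟩
    rintro ⟨P', u'⟩ ⟨hP', hc', h'⟩
    dsimp only at hP' hc' h'
    have e : Ideal.span {algebraMap R[X] B P'} = Ideal.span {algebraMap R[X] B P} := (hmem h').symm.trans (hmem h)
    have d1 := (GrothLib.HensPrep1.quot_distinguished hB hP' hc').2 P
      (e ▸ Ideal.mem_span_singleton_self _)
    have d2 := (GrothLib.HensPrep1.quot_distinguished hB hP hc).2 P'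
      (e.symm ▸ Ideal.mem_span_singleton_self _)
    rw [Ideal.mem_span_singleton] at d1 d2
    obtain rfl : P' = P := by
      rcases d2 with ⟨c, hc2⟩
      have hdeg : P'.natDegree ≤ P.natDegree := by
        obtain ⟨a, ha⟩ := d1
        rw [ha, hP'.natDegree_mul (hP'.of_mul_monic_left (ha ▸ hP))]
        omega
      exact Polynomial.eq_of_monic_of_dvd_of_natDegree_le hP hP' ⟨c, hc2⟩ hdeg
    refine Prod.ext rfl (Units.ext ?_)
    refine sub_eq_zero.1 (GrothLib.HensPrep1.isSMulRegular_of_monic hB hP ?_)
    rw [mul_sub, ← h', ← h, sub_self]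
  · rw [hmem h]
    exact GrothLib.HensPrep1.quot_distinguished hB hP hc

end Groth.Agent.S15752
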