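import Groth.Statements.S15754
import Mathlib
import Groth.Agent.Lib.Horrocks.LaurentSeriesDescent

set_option autoImplicit false
universe u
open TensorProduct
open CAlg

namespace Groth.Agent.S15754

/-- For an arbitrary commutative ring R, non-isomorphic finitely generated projective R-modules cannot
become isomorphic over the Laurent series ring R((t)): for an R-algebra L that is R-isomorphic to
R((t)), if L ⊗_R M ≅ L ⊗_R N as L-modules then M ≅ N. (L is R((t)) up to an R-algebra isomorphism;
it is kept abstract only so that the L-module structure on L ⊗_R M elaborates.) -/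
theorem result (R : Type u) [CommRing R]
    (L : Type u) [CommRing L] [Algebra R L] (eL : L ≃ₐ[R] LaurentSeries R)
    (M N : Type u) [AddCommGroup M] [Module R M] [Module.Finite R M] [Module.Projective R M]
    [AddCommGroup N] [Module R N] [Module.Finite R N] [Module.Projective R N]
    (e : L ⊗[R] M ≃ₗ[L] L ⊗[R] N) :
    Nonempty (M ≃ₗ[R] N) := by
  classical
  let φ := e
  obtain ⟨n, π, i, -, -, hπi⟩ := Module.Finite.exists_comp_eq_id_of_projective R M
  obtain ⟨n', π', i', -, -, hπi'⟩ := Module.Finite.exists_comp_eq_id_of_projective R N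
  let ε := LinearMap.toMatrix' (i.comp π)
  let ε' := LinearMap.toMatrix' (i'.comp π')
  have hε : ε * ε = ε := by
    simp only [ε]
    rw [← LinearMap.toMatrix'_comp, LinearMap.comp_assoc, ← LinearMap.comp_assoc _ i π, hπi, LinearMap.id_comp]
  have hε' : ε' * ε' = ε' := by
    simp only [ε']
    rw [← LinearMap.toMatrix'_comp, LinearMap.comp_assoc, ← LinearMap.comp_assoc _ i' π', hπi', LinearMap.id_comp]
  let Pn := fun k : ℕ => TensorProduct.piScalarRight R L L (Fin k)
  let iL : (L ⊗[R] M) →ₗ[L] (Fin n → L) := (Pn n).toLinearMap.comp (i.baseChange L)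
  let πL : (Fin n → L) →ₗ[L] (L ⊗[R] M) := (π.baseChange L).comp (Pn n).symm.toLinearMap
  let iL' : (L ⊗[R] N) →ₗ[L] (Fin n' → L) := (Pn n').toLinearMap.comp (i'.baseChange L)
  let πL' : (Fin n' → L) →ₗ[L] (L ⊗[R] N) := (π'.baseChange L).comp (Pn n').symm.toLinearMap
  have hbc : ∀ {k : ℕ} {V : Type u} [AddCommGroup V] [Module R V] (j : V →ₗ[R] Fin k → R)
      (ρ : (Fin k → R) →ₗ[R] V),
      LinearMap.toMatrix' (((Pn k).toLinearMap.comp (j.baseChange L)).comp
        ((ρ.baseChange L).comp (Pn k).symm.toLinearMap)) = (LinearMap.toMatrix' (j.comp ρ)).map (algebraMap R L) := by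
    intro k V _ _ j ρ
    ext a b : 1
    simp [Pn, LinearMap.toMatrix'_apply, TensorProduct.piScalarRight_symm_single, Algebra.smul_def,
      Pi.single_apply, ← Pi.single_apply]
  have hπiL : πL.comp iL = LinearMap.id := by
    refine LinearMap.ext fun x => ?_
    simp only [πL, iL, LinearMap.comp_apply, LinearEquiv.coe_coe, LinearEquiv.symm_apply_apply]
    rw [← LinearMap.comp_apply, ← LinearMap.baseChange_comp, hπi, LinearMap.baseChange_id]
  have hπiL' : πL'.comp iL' = LinearMap.id := by
    refine LinearMap.ext fun x => ?_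
    simp only [πL', iL', LinearMap.comp_apply, LinearEquiv.coe_coe, LinearEquiv.symm_apply_apply]
    rw [← LinearMap.comp_apply, ← LinearMap.baseChange_comp, hπi', LinearMap.baseChange_id]
  let ι := algebraMap (PowerSeries R) (LaurentSeries R)
  let δ : L →+* LaurentSeries R := eL.toRingEquiv.toRingHom
  let u := (LinearMap.toMatrix' ((iL'.comp φ.toLinearMap).comp πL)).map δ
  let w := (LinearMap.toMatrix' ((iL.comp φ.symm.toLinearMap).comp πL')).map δ
  have hC : ∀ {k : ℕ} (d : Matrix (Fin k) (Fin k) R), (d.map PowerSeries.C).map ι = (d.map (algebraMap R L)).map δ :=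
    fun d => by
      ext a b : 1
      simp [ι, δ, HahnSeries.algebraMap_apply]; erw [HahnSeries.algebraMap_apply']; simp [PowerSeries.algebraMap_eq]
  have eπ : ∀ z, πL (iL z) = z := fun z => LinearMap.congr_fun hπiL z
  have eπ' : ∀ z, πL' (iL' z) = z := fun z => LinearMap.congr_fun hπiL' z
  have euw : u * w = (ε'.map PowerSeries.C).map ι := by
    rw [hC, ← hbc, ← Matrix.map_mul, ← LinearMap.toMatrix'_comp]
    congr 2
    refine LinearMap.ext fun z => ?_
    simp only [LinearMap.comp_apply, LinearEquiv.coe_coe, eπ, LinearEquiv.apply_symm_apply]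
    rfl
  have ewu : w * u = (ε.map PowerSeries.C).map ι := by
    rw [hC, ← hbc, ← Matrix.map_mul, ← LinearMap.toMatrix'_comp]
    congr 2
    refine LinearMap.ext fun z => ?_
    simp only [LinearMap.comp_apply, LinearEquiv.coe_coe, eπ', LinearEquiv.symm_apply_apply]
    rfl
  have eu : (ε'.map PowerSeries.C).map ι * u = u ∧ u * (ε.map PowerSeries.C).map ι = u := by
    rw [hC, hC, ← hbc, ← hbc, ← Matrix.map_mul, ← Matrix.map_mul, ← LinearMap.toMatrix'_comp, ← LinearMap.toMatrix'_comp]
    constructor <;> congr 2 <;> refine LinearMap.ext fun z => ?_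
    · show iL' (πL' (iL' (φ (πL z)))) = iL' (φ (πL z))
      rw [eπ']
    · show iL' (φ (πL (iL (πL z)))) = iL' (φ (πL z))
      rw [eπ]
  have ew : (ε.map PowerSeries.C).map ι * w = w ∧ w * (ε'.map PowerSeries.C).map ι = w := by
    rw [hC, hC, ← hbc, ← hbc, ← Matrix.map_mul, ← Matrix.map_mul, ← LinearMap.toMatrix'_comp, ← LinearMap.toMatrix'_comp]
    constructor <;> congr 2 <;> refine LinearMap.ext fun z => ?_
    · show iL (πL (iL (φ.symm (πL' z)))) = iL (φ.symm (πL' z))
      rw [eπ]
    · show iL (φ.symm (πL' (iL' (πL' z)))) = iL (φ.symm (πL' z))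
      rw [eπ']
  let S : Finset (LaurentSeries R) := (Finset.univ.image fun ij : Fin n' × Fin n => u ij.1 ij.2) ∪
    (Finset.univ.image fun ij : Fin n × Fin n' => w ij.1 ij.2)
  obtain ⟨⟨_, s, rfl⟩, hS⟩ := IsLocalization.exist_integer_multiples_of_finset
    (Submonoid.powers (PowerSeries.X : PowerSeries R)) S
  choose a ha using fun i j => hS (u i j) (Finset.mem_union_left _
    (Finset.mem_image.mpr ⟨(i, j), Finset.mem_univ _, rfl⟩))
  choose b hb using fun i j => hS (w i j) (Finset.mem_union_right _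
    (Finset.mem_image.mpr ⟨(i, j), Finset.mem_univ _, rfl⟩))
  let U₀ : Matrix (Fin n') (Fin n) (PowerSeries R) := Matrix.of a
  let W₀ : Matrix (Fin n) (Fin n') (PowerSeries R) := Matrix.of b
  let q : PowerSeries R := PowerSeries.X ^ s
  have hU₀ : U₀.map ι = ι q • u := by
    ext i j : 1
    simp only [U₀, ι, q, Matrix.map_apply, Matrix.of_apply, Matrix.smul_apply, ha, smul_eq_mul]
    rw [Algebra.smul_def]
  have hW₀ : W₀.map ι = ι q • w := by
    ext i j : 1
    simp only [W₀, ι, q, Matrix.map_apply, Matrix.of_apply, Matrix.smul_apply, hb, smul_eq_mul]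
    rw [Algebra.smul_def]
  have hinj : Function.Injective ι := by
    rw [LaurentSeries.coe_algebraMap]
    exact HahnSeries.ofPowerSeries_injective
  have hsm : ∀ {k l : ℕ} (c : PowerSeries R) (X : Matrix (Fin k) (Fin l) (PowerSeries R)),
      (c • X).map ι = ι c • X.map ι := fun c X => by ext i j : 1; simp
  have hm := @Matrix.map_injective
  obtain ⟨X, Y, h1, h2⟩ := GrothLib.Horrocks.eqv_of_powerSeries ε hε ε' hε' U₀ W₀ (s + s)
    (hm hinj (by simp only [Matrix.map_mul, hU₀, Matrix.mul_smul, eu.1]))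
    (hm hinj (by simp only [Matrix.map_mul, hU₀, Matrix.smul_mul, eu.2]))
    (hm hinj (by simp only [Matrix.map_mul, hW₀, Matrix.mul_smul, ew.1]))
    (hm hinj (by simp only [Matrix.map_mul, hW₀, Matrix.smul_mul, ew.2]))
    (hm hinj (by simp only [Matrix.map_mul, hsm, hU₀, hW₀, Matrix.smul_mul, Matrix.mul_smul, smul_smul, euw, pow_add, map_mul, q]))
    (hm hinj (by simp only [Matrix.map_mul, hsm, hU₀, hW₀, Matrix.smul_mul, Matrix.mul_smul, smul_smul, ewu, pow_add, map_mul, q]))
  exact ⟨GrothLib.Horrocks.equivOfEqv i π hπi i' π' hπi' X Y h1 h2⟩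

end Groth.Agent.S15754
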