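import Groth.Statements.S15755
import Mathlib
import Groth.Agent.Lib.HenselFunctor.Basic
-- import your own Groth.Agent.* helpers here

set_option autoImplicit false
universe u
open CategoryTheory CategoryTheory.Limits
open CAlg

namespace Groth.Agent.S15755

/-- Let (A, I) be a Henselian pair with A Noetherian whose map to the I-adic completion Â is a regular
ring homomorphism, and let F be a set-valued functor on commutative A-algebras preserving filtered
colimits. Then F(A) → F(Â) is injective, and an element of F(A/I) is in the image of F(A) if and
only if it is in the image of F(Â) under the canonical A-algebra map Â → A/I. -/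
theorem result (A : Type u) [CommRing A]
    [IsNoetherianRing A] (I : Ideal A) [HenselianRing A I]
    (hreg : CAlg.IsRegularHom A (AdicCompletion I A))
    (F : CommAlgCat.{u} A ⥤ Type u) [PreservesFilteredColimitsOfSize.{u, u} F] :
    Function.Injective (F.map (CommAlgCat.ofHom (Algebra.ofId A (AdicCompletion I A)))) ∧
    ∀ xbar : F.obj (CommAlgCat.of A (A ⧸ I)),
      (∃ x : F.obj (CommAlgCat.of A A), F.map (CommAlgCat.ofHom (Ideal.Quotient.mkₐ A I)) x = xbar) ↔
      (∃ y : F.obj (CommAlgCat.of A (AdicCompletion I A)),
        F.map (CommAlgCat.ofHom (AdicCompletion.evalOneₐ I)) y = xbar) := by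
  exact ⟨GrothLib.HenselFunctor.injective_map I hreg F, GrothLib.HenselFunctor.lifts_iff I hreg F⟩

end Groth.Agent.S15755
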