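import Groth.Statements.S15756
import Groth.Agent.Lib.ElkikAff1.Basic
import Mathlib
-- import your own Groth.Agent.* helpers here

set_option autoImplicit false
universe u
open CAlg

namespace Groth.Agent.S15756

/-- Case of the whole affine base U = Spec A, the unit ideal I = A and an affine scheme X: let A be a
ring with an element t such that (A, tA) is a Henselian pair and the t-power torsion of A is
bounded, let Â be the t-adic completion, and let B be an A-algebra of finite type with B[1/t] smooth
over A[1/t]. Then every A-algebra homomorphism B → Â is congruent modulo t^n, for any prescribed n,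
to an A-algebra homomorphism B → A. (The published statement allows any quasi-compact open U of Spec
A containing Spec A[1/t], any bounded Zariski Gabber–Ramero triple (A, t, I) that is Henselian (or,
instead, satisfies a lifting condition for Zariski pairs over A[1/t]), and U-schemes locally of
finite type that are ind-quasi-affine or subprojective and smooth over A[1/t], and it asserts
density of X(U) in X(U_Â) for the (t, I)-adic topology; this row is the case U = Spec A, I = A, X =
Spec B affine, under the Henselian alternative.) -/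
theorem result (A : Type u) [CommRing A] (t : A)
    [HenselianRing A (Ideal.span {t})]
    (hbd : ∃ N : ℕ, ∀ a : A, (∃ m : ℕ, t ^ m * a = 0) → t ^ N * a = 0)
    (B : Type u) [CommRing B] [Algebra A B] [Algebra.FiniteType A B]
    (hsm : Algebra.Smooth (Localization.Away t)
      (Localization (Algebra.algebraMapSubmonoid B (Submonoid.powers t))))
    (n : ℕ) (σ : B →ₐ[A] AdicCompletion (Ideal.span {t}) A) :
    ∃ τ : B →ₐ[A] A,
      (Ideal.Quotient.mkₐ A (Ideal.span {t} ^ n)).comp τ =
        (AdicCompletion.evalₐ (Ideal.span {t}) n).comp σ := by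
  classical
  obtain ⟨N₀, hN₀⟩ := hbd
  obtain ⟨d, π, hπ⟩ := Algebra.FiniteType.iff_quotient_mvPolynomial''.1 (inferInstance : Algebra.FiniteType A B)
  obtain ⟨m, h, f, G, hf, hsat, H⟩ := GrothLib.ElkikAff1.exists_newton_data t π hπ hsm
  obtain ⟨a, ha, haN, han⟩ : ∃ a, h < a ∧ N₀ ≤ a ∧ n ≤ a := ⟨N₀ + n + h + 1, by omega, by omega, by omega⟩
  choose c hc using fun j => AdicCompletion.mk_surjective (Ideal.span {t}) A (σ (π (MvPolynomial.X j)))
  have hev : ∀ (k : ℕ) (p : MvPolynomial (Fin d) A), AdicCompletion.evalₐ (Ideal.span {t}) k (σ (π p)) =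
      Ideal.Quotient.mk (Ideal.span {t} ^ k) (MvPolynomial.eval (fun j => (c j).val k) p) := by
    intro k p
    induction p using MvPolynomial.induction_on with
    | C b =>
      rw [← MvPolynomial.algebraMap_eq, AlgHom.commutes, AlgHom.commutes, AlgHom.commutes, MvPolynomial.algebraMap_eq,
        MvPolynomial.eval_C]
      rfl
    | add p q hp hq => simp only [map_add, hp, hq]
    | mul_X p i hp => simp only [map_mul, hp, MvPolynomial.eval_X, ← hc i, AdicCompletion.evalₐ_mk]
  obtain ⟨x₀, hx₀⟩ : ∃ x₀ : Fin d → A, x₀ = fun j => (c j).val (a + h) := ⟨_, rfl⟩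
  have hker : ∀ g, π g = 0 → MvPolynomial.eval x₀ g ∈ Ideal.span {t ^ (a + h)} := fun g hg => by
    rw [← Ideal.span_singleton_pow, ← Ideal.Quotient.eq_zero_iff_mem, hx₀, ← hev, hg, map_zero, map_zero]
  obtain ⟨x, hxx, hx⟩ := GrothLib.ElkikAff1.exists_root ha H x₀ fun i => hker _ (hf i)
  have hmod : ∀ p, MvPolynomial.eval x p - MvPolynomial.eval x₀ p ∈ Ideal.span {t ^ a} := fun p => by
    induction p using MvPolynomial.induction_on with
    | C b => simp
    | add p q hp hq => simpa only [map_add, add_sub_add_comm] using add_mem hp hq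
    | mul_X p i hp =>
      rw [map_mul, map_mul, MvPolynomial.eval_X, MvPolynomial.eval_X,
        show MvPolynomial.eval x p * x i - MvPolynomial.eval x₀ p * x₀ i =
          (MvPolynomial.eval x p - MvPolynomial.eval x₀ p) * x i + MvPolynomial.eval x₀ p * (x i - x₀ i) by ring]
      exact add_mem (Ideal.mul_mem_right _ _ hp) (Ideal.mul_mem_left _ _ (hxx i))
  -- small torsion elements vanish
  have htor : ∀ (y : A) (k : ℕ), y ∈ Ideal.span {t ^ a} → t ^ k * y = 0 → y = 0 := by
    intro y k hy hky
    obtain ⟨r, rfl⟩ := Ideal.mem_span_singleton'.1 hy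
    obtain ⟨e, rfl⟩ := Nat.exists_eq_add_of_le haN
    have := hN₀ r ⟨k + (N₀ + e), by rw [pow_add, mul_assoc, mul_comm (t ^ (N₀ + e))]; exact hky⟩
    rw [pow_add, ← mul_assoc, mul_comm r, this, zero_mul]
  have hall : ∀ g, π g = 0 → MvPolynomial.eval x g = 0 := by
    intro g hg
    obtain ⟨k, hk⟩ := hsat g hg
    refine htor _ k ?_ ?_
    · have := add_mem (hmod g)
        (Ideal.span_singleton_le_span_singleton.2 (pow_dvd_pow t (Nat.le_add_right a h)) (hker g hg))
      simpa using this
    · have h1 : MvPolynomial.eval x (MvPolynomial.C (t ^ k) * g) = 0 := by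
        refine RingHom.mem_ker.1 ((Ideal.span_le.2 ?_ : Ideal.span (Set.range f) ≤ RingHom.ker (MvPolynomial.eval x)) hk)
        rintro _ ⟨i, rfl⟩
        exact htor _ h (hx i).1 (hx i).2
      rwa [map_mul, MvPolynomial.eval_C] at h1
  obtain ⟨τ, hτ⟩ : ∃ τ : B →ₐ[A] A, ∀ p, τ (π p) = MvPolynomial.eval x p :=
    ⟨(Ideal.Quotient.liftₐ (RingHom.ker π) (MvPolynomial.aeval x) fun g hg => by
      rw [MvPolynomial.aeval_eq_eval]; exact hall g hg).comp
      (Ideal.quotientKerAlgEquivOfSurjective hπ).symm.toAlgHom, fun p => by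
      rw [AlgHom.comp_apply, AlgEquiv.toAlgHom_eq_coe, AlgEquiv.coe_algHom,
        show (Ideal.quotientKerAlgEquivOfSurjective hπ).symm (π p) = Ideal.Quotient.mk (RingHom.ker π) p from
          (AlgEquiv.symm_apply_eq _).2 rfl]
      rfl⟩
  refine ⟨τ, AlgHom.ext fun b => ?_⟩
  obtain ⟨p, rfl⟩ := hπ b
  rw [AlgHom.comp_apply, AlgHom.comp_apply, hτ, hev, Ideal.Quotient.mkₐ_eq_mk, Ideal.Quotient.eq]
  have hn : MvPolynomial.eval x p - MvPolynomial.eval x₀ p ∈ Ideal.span {t} ^ n := by
    rw [Ideal.span_singleton_pow]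
    exact Ideal.span_singleton_le_span_singleton.2 (pow_dvd_pow t han) (hmod p)
  have h0 : MvPolynomial.eval x₀ p - MvPolynomial.eval (fun j => (c j).val n) p ∈ Ideal.span {t} ^ n := by
    rw [← Ideal.Quotient.eq, ← hev, hx₀]
    have hq : ∀ j, Ideal.Quotient.mk (Ideal.span {t} ^ n) ((c j).val (a + h)) = Ideal.Quotient.mk _ ((c j).val n) := fun j => by
      have h1 := AdicCompletion.AdicCauchySequence.mk_eq_mk (show n ≤ a + h by omega) (c j)
      rw [Submodule.Quotient.eq, smul_eq_mul, Ideal.mul_top] at h1
      exact Ideal.Quotient.eq.2 h1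
    rw [hev]
    clear hn
    induction p using MvPolynomial.induction_on with
    | C b => simp
    | add p q hp hq' => simp only [map_add, hp, hq']
    | mul_X p i hp => simp only [map_mul, hp, MvPolynomial.eval_X, hq]
  simpa using add_mem hn h0

end Groth.Agent.S15756
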