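import Groth.Statements.S15758
import Groth.Agent.ApproxSec21.Laurent

set_option autoImplicit false
universe u
open CategoryTheory MonoidalCategory CartesianMonoidalCategory MonObj GrpObj AlgebraicGeometry Polynomial
open NonAbH1

namespace Groth.Agent.S15758

/-- The Laurent-series instance, kernel form, for an affine smooth group: let R be a ring, B = R{t} a
henselization of R[t] along (t), ψ : B → R[[t]] the canonical R[t]-algebra map, and χ : B[1/t] →
R((t)) the induced map. For an affine smooth B[1/t]-group scheme G, an fppf G-torsor over Spec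
B[1/t] which acquires a section over Spec R((t)) has a section. (The published statement is a
bijection H¹(R{t}[1/t], G) ≅ H¹(R((t)), G) for quasi-affine smooth G and an injection for smooth
quasi-separated G; this row is the triviality of the kernel for affine smooth G.) -/
theorem result (R : Type u) [CommRing R]
    (B : Type u) [CommRing B] [Algebra R[X] B] (hB : Hens2.IsPairHenselization R[X] (Ideal.span {(X : R[X])}) B)
    (ψ : B →ₐ[R[X]] PowerSeries R)
    (χ : Localization.Away (algebraMap R[X] B X) →+* LaurentSeries R)
    (hχ : χ.comp (algebraMap B (Localization.Away (algebraMap R[X] B X))) =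
      (HahnSeries.ofPowerSeries ℤ R).comp ψ.toRingHom)
    (G : Over (Spec (CommRingCat.of (Localization.Away (algebraMap R[X] B X))))) [GrpObj G]
    [IsAffine G.left] [Smooth G.hom]
    (P : Over (Spec (CommRingCat.of (Localization.Away (algebraMap R[X] B X))))) (a : AlgGrp.Action G P)
    (hP : NonAbH1.IsTorsorFor Scheme.fppfPrecoverage a)
    (hsec : NonAbH1.HasSectionOver P (Spec.map (CommRingCat.ofHom χ))) :
    NonAbH1.HasSectionOver P (𝟙 (Spec (CommRingCat.of (Localization.Away (algebraMap R[X] B X))))) := by
  obtain ⟨s, hs⟩ := hsec
  haveI : HenselianRing B (Ideal.span {algebraMap R[X] B X}) := by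
    simpa [Ideal.map_span] using hB.1
  haveI : IsAffineHom G.hom := isAffineHom_of_isAffine _
  have hP' : NonAbH1.IsTorsorFor Scheme.fpqcPrecoverage a := by
    obtain ⟨Rc, hR, hsec'⟩ := hP.2
    exact ⟨hP.1, Rc, Scheme.fppfPrecoverage_le_fpqcPrecoverage _ hR, hsec'⟩
  haveI : IsAffineHom P.hom := (Groth.Agent.S6004.result G P a hP').1
  haveI : Smooth P.hom := (Groth.Agent.S18860.result a hP').2.2.2.1 inferInstance
  obtain ⟨θ, hθ⟩ := GrothLib.ApproxSec21.exists_completion_map hB ψ
  let t := algebraMap R[X] B X
  let C := AdicCompletion (Ideal.span {t}) B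
  have hψX : ψ t = PowerSeries.X := by
    rw [ψ.commutes]
    simp [PowerSeries.algebraMap_apply', PowerSeries.map]
  let k := (algebraMap C (Localization.Away (algebraMap B C t))).comp θ
  have hk : IsUnit (k PowerSeries.X) := by
    show IsUnit (algebraMap C (Localization.Away (algebraMap B C t)) (θ PowerSeries.X))
    rw [← hψX, hθ]
    exact IsLocalization.Away.algebraMap_isUnit _
  let l : LaurentSeries R →+* Localization.Away (algebraMap B C t) :=
    IsLocalization.Away.lift (S := LaurentSeries R) (PowerSeries.X : PowerSeries R) hk
  have hl : l.comp χ = Localization.awayMap (algebraMap B C) t := by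
    refine IsLocalization.ringHom_ext (Submonoid.powers t) (RingHom.ext fun b => ?_)
    show l (χ (algebraMap B (Localization.Away t) b)) = _
    rw [show χ (algebraMap B (Localization.Away t) b) = HahnSeries.ofPowerSeries ℤ R (ψ b) from RingHom.congr_fun hχ b,
      GrothLib.ApproxSec21.away_comp]
    refine (IsLocalization.Away.lift_eq (S := LaurentSeries R) (PowerSeries.X : PowerSeries R) hk (ψ b)).trans ?_
    show algebraMap C (Localization.Away (algebraMap B C t)) (θ (ψ b)) = _
    rw [hθ]
    rfl
  refine GrothLib.ApproxSec21.exists_section t (GrothLib.ApproxSec21.bounded_torsion hB) P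
    (Spec.map (CommRingCat.ofHom l) ≫ s) ?_
  rw [Category.assoc, hs, ← Spec.map_comp, ← CommRingCat.ofHom_comp, hl]

end Groth.Agent.S15758
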