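import Groth.Statements.S15759
import Mathlib
import Groth.Agent.Lib.DenseProj1.Away
-- import your own Groth.Agent.* helpers here

set_option autoImplicit false
universe u
open Polynomial TensorProduct
open CAlg

namespace Groth.Agent.S15759


/-- polynomials with constant term one -/
def oneConst (R : Type u) [CommRing R] : Submonoid R[X] where
  carrier := {f | f.coeff 0 = 1}
  mul_mem' {a b} ha hb := by simp_all [Polynomial.mul_coeff_zero]
  one_mem' := by simp

variable {R : Type u} [CommRing R]

theorem mem_closure_imp {s : R[X]} (hs : s ∈ Submonoid.closure ({f : R[X] | f.coeff 0 = 1} ∪ {X})) :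
    ∃ g ∈ oneConst R, ∃ k : ℕ, s = g * X ^ k := by
  induction hs using Submonoid.closure_induction with
  | mem x hx =>
    rcases hx with hx | hx
    · exact ⟨x, hx, 0, by simp⟩
    · exact ⟨1, (oneConst R).one_mem, 1, by simp [Set.mem_singleton_iff.1 hx]⟩
  | one => exact ⟨1, (oneConst R).one_mem, 0, by simp⟩
  | mul x y _ _ hx hy =>
    obtain ⟨g, hg, k, rfl⟩ := hx
    obtain ⟨g', hg', k', rfl⟩ := hy
    exact ⟨g * g', (oneConst R).mul_mem hg hg', k + k', by ring⟩

variable {L : Type u} [CommRing L] [Algebra R[X] L]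
  [IsLocalization (Submonoid.closure ({f : R[X] | f.coeff 0 = 1} ∪ {X})) L]
  {A : Type u} [CommRing A] [Algebra R[X] A] [IsLocalization (oneConst R) A] [Algebra A L] [IsScalarTower R[X] A L]

theorem isLocalization_away : IsLocalization.Away (algebraMap R[X] A X) L := by
  have h := IsLocalization.isLocalization_of_submonoid_le A L (oneConst R)
    (Submonoid.closure ({f : R[X] | f.coeff 0 = 1} ∪ {X})) fun f hf => Submonoid.subset_closure (Or.inl hf)
  refine (IsLocalization.iff_of_le_of_exists_dvd (Submonoid.powers (algebraMap R[X] A X))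
    ((Submonoid.closure ({f : R[X] | f.coeff 0 = 1} ∪ {X})).map (algebraMap R[X] A)) ?_ ?_).2 h
  · rw [Submonoid.powers_le]
    exact ⟨X, Submonoid.subset_closure (Or.inr rfl), rfl⟩
  · rintro _ ⟨s, hs, rfl⟩
    obtain ⟨g, hg, k, rfl⟩ := mem_closure_imp hs
    refine ⟨_, ⟨k, rfl⟩, ?_⟩
    rw [map_mul, map_pow]
    exact ((IsLocalization.map_units A (⟨g, hg⟩ : oneConst R)).mul_left_dvd).2 dvd_rfl

theorem X_mem_jacobson : algebraMap R[X] A X ∈ (⊥ : Ideal A).jacobson := by
  rw [Ideal.mem_jacobson_bot]
  intro y
  obtain ⟨⟨g, h⟩, hy⟩ := IsLocalization.surj (oneConst R) y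
  have hm : X * g + (h : R[X]) ∈ oneConst R := by
    show (X * g + (h : R[X])).coeff 0 = 1
    simp [Polynomial.mul_coeff_zero, show (h : R[X]).coeff 0 = 1 from h.2]
  have h1 := IsLocalization.map_units A (⟨_, hm⟩ : oneConst R)
  simp only [map_add, map_mul] at h1
  rw [← hy, ← mul_assoc] at h1
  exact isUnit_of_mul_isUnit_left (by rwa [add_mul, one_mul] : IsUnit ((algebraMap R[X] A X * y + 1) * algebraMap R[X] A h))

theorem isUnit_coe {g : R[X]} (hg : g ∈ oneConst R) : IsUnit (Polynomial.coeToPowerSeries.ringHom g) := by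
  rw [PowerSeries.isUnit_iff_constantCoeff, Polynomial.coeToPowerSeries.ringHom_apply,
    ← PowerSeries.coeff_zero_eq_constantCoeff_apply, Polynomial.coeff_coe]
  rw [show g.coeff 0 = 1 from hg]
  exact isUnit_one


/-- Let R be a ring, L = R(t) the localisation of R[t] at the monoid generated by t and the polynomials
with constant term 1 (that is, (R[t]_{1+tR[t]})[1/t]), and L' an L-algebra identified with R((t))
compatibly with R[t] → R((t)). Then (b) finitely generated projective L-modules that become
isomorphic over L' are isomorphic, and (c) every stably free L'-module is the base change of a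
stably free L-module. -/
theorem result (R : Type u) [CommRing R]
    (L : Type u) [CommRing L] [Algebra R[X] L]
    [IsLocalization (Submonoid.closure ({f : R[X] | f.coeff 0 = 1} ∪ {X})) L]
    (L' : Type u) [CommRing L'] [Algebra L L'] (e : L' ≃+* LaurentSeries R)
    (he : ∀ p : R[X], e (algebraMap L L' (algebraMap R[X] L p)) =
      HahnSeries.ofPowerSeries ℤ R (Polynomial.coeToPowerSeries.ringHom p)) :
    (∀ (M N : Type u) [AddCommGroup M] [Module L M] [Module.Finite L M] [Module.Projective L M]
        [AddCommGroup N] [Module L N] [Module.Finite L N] [Module.Projective L N],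
        Nonempty (L' ⊗[L] M ≃ₗ[L'] L' ⊗[L] N) → Nonempty (M ≃ₗ[L] N)) ∧
    (∀ (M' : Type u) [AddCommGroup M'] [Module L' M'] [Module.Finite L' M'],
        (∃ n m : ℕ, Nonempty ((M' × (Fin n → L')) ≃ₗ[L'] (Fin m → L'))) →
        ∃ (M : Type u) (_ : AddCommGroup M) (_ : Module L M), Module.Finite L M ∧
          (∃ n m : ℕ, Nonempty ((M × (Fin n → L)) ≃ₗ[L] (Fin m → L))) ∧
          Nonempty (L' ⊗[L] M ≃ₗ[L'] M')) := by
  letI : Algebra (Localization (oneConst R)) L := (IsLocalization.lift (M := oneConst R)
    (g := algebraMap R[X] L) (fun y => IsLocalization.map_units L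
      (⟨(y : R[X]), Submonoid.subset_closure (Or.inl y.2)⟩ :
        Submonoid.closure ({f : R[X] | f.coeff 0 = 1} ∪ {X})))).toAlgebra
  haveI : IsScalarTower R[X] (Localization (oneConst R)) L :=
    ⟨fun a b c => by
      simp only [Algebra.smul_def, map_mul, mul_assoc]
      congr 1
      exact IsLocalization.lift_eq _ a⟩
  haveI : IsLocalization.Away (algebraMap R[X] (Localization (oneConst R)) X) L := isLocalization_away
  let f : Localization (oneConst R) →+* PowerSeries R := IsLocalization.lift (M := oneConst R)
    (g := Polynomial.coeToPowerSeries.ringHom) fun y => isUnit_coe y.2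
  have hf : ∀ p, f (algebraMap R[X] _ p) = Polynomial.coeToPowerSeries.ringHom p := fun p => IsLocalization.lift_eq _ p
  letI : Algebra (PowerSeries R) L' := (e.symm.toRingHom.comp (HahnSeries.ofPowerSeries ℤ R)).toAlgebra
  haveI : IsLocalization.Away (PowerSeries.X : PowerSeries R) L' :=
    IsLocalization.isLocalization_of_algEquiv (Submonoid.powers (PowerSeries.X : PowerSeries R))
      (S := LaurentSeries R) (AlgEquiv.ofRingEquiv (f := e.symm) fun _ => rfl)
  have hfX : f (algebraMap R[X] _ X) = PowerSeries.X := by rw [hf]; simp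
  haveI : IsLocalization.Away (f (algebraMap R[X] _ X)) L' := by rw [hfX]; infer_instance
  have hcomm : ∀ a, algebraMap L L' (algebraMap (Localization (oneConst R)) L a) = algebraMap (PowerSeries R) L' (f a) := by
    intro a
    refine RingHom.congr_fun (IsLocalization.ringHom_ext (oneConst R)
      (j := (algebraMap L L').comp (algebraMap (Localization (oneConst R)) L))
      (k := (algebraMap (PowerSeries R) L').comp f) (RingHom.ext fun p => ?_)) a
    simp only [RingHom.comp_apply, hf, ← IsScalarTower.algebraMap_apply]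
    exact e.injective (by rw [he]; exact (e.apply_symm_apply _).symm)
  have hS := GrothLib.DenseProj1.isDense_away (L := L) (L' := L') f (algebraMap R[X] _ X) hcomm
    (fun m y => ⟨algebraMap R[X] _ (PowerSeries.trunc m y), by
      rw [hfX, hf, PowerSeries.X_pow_dvd_iff]
      intro i hi
      rw [map_sub, Polynomial.coeToPowerSeries.ringHom_apply, Polynomial.coeff_coe, PowerSeries.coeff_trunc,
        if_pos hi, sub_self]⟩)
    (fun m a h => by
      obtain ⟨⟨g, d⟩, hg⟩ := IsLocalization.surj (oneConst R) a
      have h1 : PowerSeries.X ^ m ∣ Polynomial.coeToPowerSeries.ringHom g := by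
        rw [← hf, ← hg, map_mul, ← hfX]
        exact h.mul_right _
      have h2 : (X : R[X]) ^ m ∣ g := by
        rw [Polynomial.X_pow_dvd_iff]
        intro i hi
        have := PowerSeries.X_pow_dvd_iff.1 h1 i hi
        rwa [Polynomial.coeToPowerSeries.ringHom_apply, Polynomial.coeff_coe] at this
      have h3 := map_dvd (algebraMap R[X] (Localization (oneConst R))) h2
      rw [map_pow, ← hg] at h3
      exact (IsLocalization.map_units _ d).dvd_mul_right.1 h3)
    X_mem_jacobson
    (Ideal.mem_jacobson_bot.2 fun y => by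
      rw [hfX, PowerSeries.isUnit_iff_constantCoeff]
      simp)
  exact ⟨fun M N _ _ _ _ _ _ _ _ ⟨θ⟩ => GrothLib.DenseProj1.nonempty_equiv hS M N θ, fun M' _ _ _ ⟨n, m, ⟨e'⟩⟩ =>
    GrothLib.DenseProj1.exists_stablyFree hS M' e'⟩

end Groth.Agent.S15759
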