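import Groth.Statements.S1576
import Groth.Agent.Lib.WeakAss.Basic
import Groth.Agent.Lib.QCoh.FT
import Mathlib.RingTheory.Ideal.AssociatedPrime.Finiteness
import Groth.Agent.Lib.QCoh.Qcqs

set_option autoImplicit false
universe u
open CategoryTheory CategoryTheory.Limits AlgebraicGeometry
open Divisors

namespace Groth.Agent.S1576

/-- Let X be locally Noetherian and F coherent. Then the associated points of F lying in any
quasi-compact open subset form a finite set. -/
theorem result (X : Scheme.{u}) [IsLocallyNoetherian X]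
    (F : X.Modules) (hF : Coh.IsCoh F) (U : X.Opens) (hU : IsCompact (U : Set X)) :
    {x : X | x ∈ U ∧ Curv2.IsAssPoint F x}.Finite := by
    classical
    have : F.IsQuasicoherent := hF.1
    obtain ⟨t, ht, hV, hU'⟩ : ∃ (t : Set X.affineOpens), t.Finite ∧ True ∧ (U : Set X) ⊆ ⋃ V ∈ t, ((V.1 : X.Opens) : Set X) := by
      obtain ⟨t, ht⟩ := hU.elim_finite_subcover (fun V : X.affineOpens => ((V.1 : X.Opens) : Set X))
        (fun V => V.1.2) (fun x _ => by
          obtain ⟨_, ⟨V, hV, rfl⟩, hxV, -⟩ :=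
            X.isBasis_affineOpens.exists_subset_of_mem_open (Set.mem_univ x) isOpen_univ
          exact Set.mem_iUnion.mpr ⟨⟨V, hV⟩, hxV⟩)
      exact ⟨t, t.finite_toSet, trivial, by simpa using ht⟩
    refine (ht.biUnion (t := fun V : X.affineOpens =>
      {x : X | x ∈ V.1 ∧ Curv2.IsAssPoint F x}) fun V _ => ?_).subset ?_
    · have : IsNoetherianRing Γ(X, V.1) := IsLocallyNoetherian.component_noetherian V
      have := GrothLib.QCoh.moduleFinite_of_isFiniteType F hF.2 V.2
      refine Set.Finite.of_finite_image ?_ (f := fun x => if h : x ∈ V.1 then GrothLib.WeakAss.primeAt x h else ⊥) ?_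
      · refine (associatedPrimes.finite Γ(X, V.1) Γ(F, V.1)).subset ?_
        rintro _ ⟨x, ⟨hxV, hx⟩, rfl⟩
        simp only [dif_pos hxV]
        obtain ⟨z, hz⟩ := GrothLib.WeakAss.exists_minimal_of_isWeakAssPoint V.2 hxV
          ((GrothLib.WeakAss.isAssPoint_iff_isWeakAssPoint x).mp hx)
        have e : GrothLib.WeakAss.annSec z = (⊥ : Submodule Γ(X, V.1) Γ(F, V.1)).colon {z} := by
          ext a
          simp [GrothLib.WeakAss.mem_annSec, Submodule.mem_colon_singleton]
        rw [e] at hz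
        exact isAssociatedPrime_iff.mpr ⟨hz.1.1, Submodule.exists_eq_colon_of_mem_minimalPrimes hz⟩
      · rintro x ⟨hxV, -⟩ y ⟨hyV, -⟩ he
        simp only [dif_pos hxV, dif_pos hyV] at he
        obtain ⟨P, rfl⟩ : x ∈ Set.range V.2.fromSpec := V.2.range_fromSpec.ge hxV
        obtain ⟨Q, rfl⟩ : y ∈ Set.range V.2.fromSpec := V.2.range_fromSpec.ge hyV
        rw [GrothLib.WeakAss.primeAt_fromSpec, GrothLib.WeakAss.primeAt_fromSpec] at he
        rw [PrimeSpectrum.ext he]
    · rintro x ⟨hxU, hx⟩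
      obtain ⟨V, hV', hxV⟩ := Set.mem_iUnion₂.mp (hU' hxU)
      exact Set.mem_biUnion hV' ⟨hxV, hx⟩

end Groth.Agent.S1576
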