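import Groth.Statements.S15760
import Groth.Agent.Lib.OrbitClosed5.Main
-- import your own Groth.Agent.* helpers here

set_option autoImplicit false
universe u
open CategoryTheory MonoidalCategory CartesianMonoidalCategory MonObj GrpObj AlgebraicGeometry
open AlgGrp

namespace Groth.Agent.S15760

/-- Let G be a group scheme of finite type over a field k acting on a quasi-affine k-scheme X of finite
type, and let x be a k-point of X with orbit map G → X, g ↦ g · x. If every subtorus of G over an
algebraic closure of k fixes x (the base-changed orbit map restricted to the torus factors through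
the base change of x), then the orbit of x is a closed subset of X. -/
theorem result (k : Type u) [Field k]
    (G X : Over (Spec (CommRingCat.of k))) [GrpObj G] [LocallyOfFiniteType G.hom] [QuasiCompact G.hom]
    [LocallyOfFiniteType X.hom] (hX : X.left.IsQuasiAffine)
    (a : AlgGrp.Action G X) (x : 𝟙_ (Over (Spec (CommRingCat.of k))) ⟶ X)
    (htor : ∀ (T : Over (Spec (CommRingCat.of (AlgebraicClosure k)))) [GrpObj T]
      (i : T ⟶ Red.bc (Spec.map (CommRingCat.ofHom (algebraMap k (AlgebraicClosure k)))) G) [IsMonHom i],
      Mono i → Red.IsTorus T →
      ∃ c : T ⟶ Red.bc (Spec.map (CommRingCat.ofHom (algebraMap k (AlgebraicClosure k))))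
          (𝟙_ (Over (Spec (CommRingCat.of k)))),
        i ≫ (Over.pullback (Spec.map (CommRingCat.ofHom (algebraMap k (AlgebraicClosure k))))).map (a.orbitMap x) =
          c ≫ (Over.pullback (Spec.map (CommRingCat.ofHom (algebraMap k (AlgebraicClosure k))))).map x) :
    IsClosed (Set.range (a.orbitMap x).left) :=
  GrothLib.OrbitClosed5.main G X hX a x htor

end Groth.Agent.S15760
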