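import Groth.Statements.S15765
import Mathlib
-- import your own Groth.Agent.* helpers here

set_option autoImplicit false
universe u
open CategoryTheory AlgebraicGeometry
open CAlg

namespace Groth.Agent.S15765

/-- Let B be a topological ring in which the units form an open subset, B₀ → B a ring map with dense
image and X a quasi-affine scheme over B₀. Then the image of any B-point Spec B → X over B₀ is
contained in an affine open of X. (The published statement allows X ind-quasi-affine, i.e. with all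
quasi-compact opens quasi-affine; since a B-point lands in a quasi-compact open, this row's
quasi-affine case carries the content.) -/
theorem result (B : Type u) [CommRing B] [TopologicalSpace B]
    [IsTopologicalRing B] (hB : IsOpen {b : B | IsUnit b})
    (B₀ : Type u) [CommRing B₀] (φ : B₀ →+* B) (hφ : DenseRange φ)
    (X : Scheme.{u}) [X.IsQuasiAffine] (p : X ⟶ Spec (CommRingCat.of B₀))
    (f : Spec (CommRingCat.of B) ⟶ X) (hf : f ≫ p = Spec.map (CommRingCat.ofHom φ)) :
    ∃ U : X.Opens, IsAffineOpen U ∧ Set.range f.base ⊆ (U : Set X) := by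
  classical
  let R := Γ(X, ⊤)
  let ψ : R →+* B := ((Scheme.ΓSpecIso (CommRingCat.of B)).hom.hom).comp f.appTop.hom
  let p' : B₀ →+* R := p.appTop.hom.comp (Scheme.ΓSpecIso (CommRingCat.of B₀)).inv.hom
  have hψp : ∀ b, ψ (p' b) = φ b := by
    intro b
    have h : (Scheme.ΓSpecIso (CommRingCat.of B₀)).inv ≫ p.appTop ≫ f.appTop ≫ (Scheme.ΓSpecIso (CommRingCat.of B)).hom =
        CommRingCat.ofHom φ := by
      rw [← Scheme.Hom.comp_appTop_assoc, hf, Scheme.ΓSpecIso_naturality, Iso.inv_hom_id_assoc]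
    exact congrArg (fun g => g.hom b) h
  let W : (Spec Γ(X, ⊤)).Opens := X.toSpecΓ.opensRange
  let G : Set R := {g | PrimeSpectrum.basicOpen g ≤ W}
  have htop : Ideal.span (ψ '' G) = ⊤ := by
    by_contra hne
    obtain ⟨M, hM, hle⟩ := Ideal.exists_le_maximal _ hne
    let P : ↥(Spec (CommRingCat.of B)) := ⟨M, hM.isPrime⟩
    obtain ⟨_, ⟨g, rfl⟩, hg, hgW⟩ := PrimeSpectrum.isTopologicalBasis_basic_opens.exists_subset_of_mem_open
      (show X.toSpecΓ (f P) ∈ (W : Set _) from ⟨f P, rfl⟩) W.isOpen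
    have h1 : f P ∈ X.toSpecΓ ⁻¹ᵁ PrimeSpectrum.basicOpen g := hg
    rw [Scheme.toSpecΓ_preimage_basicOpen] at h1
    have h2 : P ∈ f ⁻¹ᵁ X.basicOpen g := h1
    rw [Scheme.preimage_basicOpen_top, basicOpen_eq_of_affine'] at h2
    exact h2 (hle (Ideal.subset_span ⟨g, hgW, rfl⟩))
  obtain ⟨n, b, v, hsum⟩ := Submodule.mem_span_set'.mp
    (htop.symm ▸ Submodule.mem_top : (1 : B) ∈ Ideal.span (ψ '' G))
  choose g hg hgv using fun i => (v i).2
  let L : (Fin n → B) → B := fun z => ∑ i, z i * ψ (g i)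
  have hL : Continuous L := by fun_prop
  have hbL : L b ∈ {b : B | IsUnit b} := by
    show IsUnit (L b)
    have : L b = 1 := by rw [← hsum]; exact Finset.sum_congr rfl fun i _ => by rw [hgv i]; rfl
    rw [this]; exact isUnit_one
  obtain ⟨c, hc⟩ := (DenseRange.piMap fun _ : Fin n => hφ).exists_mem_open (hB.preimage hL) ⟨b, hbL⟩
  let s : R := ∑ i, p' (c i) * g i
  have hs : IsUnit (ψ s) := by
    have : L (Pi.map (fun _ : Fin n => φ) c) = ψ s := by
      simp only [L, s, map_sum, map_mul, hψp, Pi.map_apply]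
    exact this ▸ hc
  have hsW : PrimeSpectrum.basicOpen s ≤ W := by
    intro P hP
    by_contra hPW
    exact hP (Ideal.sum_mem _ fun i _ => Ideal.mul_mem_left _ _ (by
      by_contra h
      exact hPW (hg i h)))
  refine ⟨X.basicOpen s, ?_, ?_⟩
  · rw [← Scheme.toSpecΓ_preimage_basicOpen]
    exact (IsAffineOpen.Spec_basicOpen s).preimage_of_isOpenImmersion X.toSpecΓ hsW
  · rintro _ ⟨P, rfl⟩
    show P ∈ f ⁻¹ᵁ X.basicOpen s
    rw [Scheme.preimage_basicOpen_top, basicOpen_eq_of_affine']
    exact fun h => P.2.ne_top (Ideal.eq_top_of_isUnit_mem _ h hs)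

end Groth.Agent.S15765
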