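import Groth.Statements.S15766
import Groth.Agent.LaurSec21.Points
set_option backward.isDefEq.respectTransparency false
-- import your own Groth.Agent.* helpers here

set_option autoImplicit false
universe u
open CategoryTheory CategoryTheory.Limits AlgebraicGeometry
open FEt

namespace Groth.Agent.S15766

/-- Let R be a strictly Henselian local ring with residue field k, let d > 0 be invertible in R, and let
X → Spec R((t)) be finite étale and split (a trivial finite cover) after base change along the
substitution t ↦ t^d. Then every k((t))-point of X over R((t)) comes from a unique R((t))-section of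
X; here ρ : R((t)) → k((t)) is the coefficientwise residue map, pinned on power series. (The
published statement is for a finite étale group scheme G of order invertible in R that becomes
constant over a finite étale cover of R((t)) tamely ramified relative to R, in the form H⁰(R((t)),
G) ≅ H⁰(k((t)), G); the covers t ↦ t^d with d invertible in R are cofinal among such tame covers,
and the group structure plays no role in the H⁰ statement, so this row states it for any finite
étale X split by such a cover.) -/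
theorem result (R : Type u) [CommRing R]
    [HenselianLocalRing R] [IsSepClosed (IsLocalRing.ResidueField R)]
    (d : ℕ) (hd : 0 < d) (hdu : IsUnit (d : R))
    (hinj : Function.Injective (AddMonoidHom.mulLeft (d : ℤ)))
    (hmono : ∀ g g' : ℤ, AddMonoidHom.mulLeft (d : ℤ) g ≤ AddMonoidHom.mulLeft (d : ℤ) g' ↔ g ≤ g')
    (ρ : LaurentSeries R →+* LaurentSeries (IsLocalRing.ResidueField R))
    (hρ : ρ.comp (HahnSeries.ofPowerSeries ℤ R) =
      (HahnSeries.ofPowerSeries ℤ (IsLocalRing.ResidueField R)).comp (PowerSeries.map (IsLocalRing.residue R)))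
    (X : Scheme.{u}) (p : X ⟶ Spec (CommRingCat.of (LaurentSeries R))) [IsFinite p] [Etale p]
    (hsplit : ∃ (n : ℕ) (e : pullback p (Spec.map (CommRingCat.ofHom
        (HahnSeries.embDomainRingHom (R := R) (AddMonoidHom.mulLeft (d : ℤ)) hinj hmono))) ≅
        (∐ fun _ : Fin n => Spec (CommRingCat.of (LaurentSeries R)))),
      e.hom ≫ Sigma.desc (fun _ : Fin n => 𝟙 (Spec (CommRingCat.of (LaurentSeries R)))) =
        pullback.snd p (Spec.map (CommRingCat.ofHom
          (HahnSeries.embDomainRingHom (R := R) (AddMonoidHom.mulLeft (d : ℤ)) hinj hmono)))) :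
    (∀ s₁ s₂ : Spec (CommRingCat.of (LaurentSeries R)) ⟶ X,
        s₁ ≫ p = 𝟙 _ → s₂ ≫ p = 𝟙 _ →
        Spec.map (CommRingCat.ofHom ρ) ≫ s₁ = Spec.map (CommRingCat.ofHom ρ) ≫ s₂ → s₁ = s₂) ∧
    (∀ s' : Spec (CommRingCat.of (LaurentSeries (IsLocalRing.ResidueField R))) ⟶ X,
        s' ≫ p = Spec.map (CommRingCat.ofHom ρ) →
        ∃ s : Spec (CommRingCat.of (LaurentSeries R)) ⟶ X, s ≫ p = 𝟙 _ ∧ Spec.map (CommRingCat.ofHom ρ) ≫ s = s') := by
  haveI : IsAffine X := isAffine_of_isAffineHom p
  haveI : ConnectedSpace (Spec (CommRingCat.of (LaurentSeries R))) :=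
    inferInstanceAs (ConnectedSpace (PrimeSpectrum (LaurentSeries R)))
  haveI : ConnectedSpace (Spec (CommRingCat.of (LaurentSeries (IsLocalRing.ResidueField R)))) :=
    inferInstanceAs (ConnectedSpace (PrimeSpectrum (LaurentSeries (IsLocalRing.ResidueField R))))
  obtain rfl := LaurSec21.eq_mapC (IsLocalRing.residue R) ρ hρ
  obtain ⟨n, e, he⟩ := hsplit
  obtain ⟨u, hu, hu'⟩ := LaurSec21.exists_root (R := R) hd hdu
  set ι := LaurSec21.sub hinj hmono R with hι
  set ιk := LaurSec21.sub hinj hmono (IsLocalRing.ResidueField R) with hιk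
  set ρ := LaurSec21.mapC (IsLocalRing.residue R) with hρdef
  set σ := LaurSec21.scale u with hσ
  set σk := LaurSec21.scale (Units.map (IsLocalRing.residue R).toMonoidHom u) with hσk
  have hρι : Spec.map (CommRingCat.ofHom ιk) ≫ Spec.map (CommRingCat.ofHom ρ) =
      Spec.map (CommRingCat.ofHom ρ) ≫ Spec.map (CommRingCat.ofHom ι) := by
    rw [← Spec.map_comp, ← Spec.map_comp, ← CommRingCat.ofHom_comp, ← CommRingCat.ofHom_comp, LaurSec21.mapC_sub]
  have hρσ : Spec.map (CommRingCat.ofHom σk) ≫ Spec.map (CommRingCat.ofHom ρ) =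
      Spec.map (CommRingCat.ofHom ρ) ≫ Spec.map (CommRingCat.ofHom σ) := by
    rw [← Spec.map_comp, ← Spec.map_comp, ← CommRingCat.ofHom_comp, ← CommRingCat.ofHom_comp, LaurSec21.mapC_scale]
    rfl
  have hσι : Spec.map (CommRingCat.ofHom σ) ≫ Spec.map (CommRingCat.ofHom ι) = Spec.map (CommRingCat.ofHom ι) := by
    rw [← Spec.map_comp, ← CommRingCat.ofHom_comp, LaurSec21.scale_sub hinj hmono u hu]
  have hσkι : Spec.map (CommRingCat.ofHom σk) ≫ Spec.map (CommRingCat.ofHom ιk) = Spec.map (CommRingCat.ofHom ιk) := by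
    rw [← Spec.map_comp, ← CommRingCat.ofHom_comp, LaurSec21.scale_sub hinj hmono _ (by rw [← map_pow, hu, map_one])]
  have hq : ∀ i, LaurSec21.sheet ι p e i ≫ p = Spec.map (CommRingCat.ofHom ι) := LaurSec21.sheet_comp ι p e he
  refine ⟨fun s₁ s₂ h₁ h₂ hs => ?_, fun s' hs' => ?_⟩
  · obtain ⟨i, hi, -⟩ := LaurSec21.existsUnique_sheet ι p e he (𝟙 _) (Spec.map (CommRingCat.ofHom ι) ≫ s₁)
      (by rw [Category.assoc, h₁, Category.comp_id, Category.id_comp])
    obtain ⟨j, hj, -⟩ := LaurSec21.existsUnique_sheet ι p e he (𝟙 _) (Spec.map (CommRingCat.ofHom ι) ≫ s₂)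
      (by rw [Category.assoc, h₂, Category.comp_id, Category.id_comp])
    rw [Category.id_comp] at hi hj
    have hk : Spec.map (CommRingCat.ofHom ρ) ≫ LaurSec21.sheet ι p e i =
        Spec.map (CommRingCat.ofHom ρ) ≫ LaurSec21.sheet ι p e j := by
      rw [← hi, ← hj, ← Category.assoc, ← Category.assoc, ← hρι, Category.assoc, Category.assoc, hs]
    obtain ⟨i₀, -, huniq⟩ := LaurSec21.existsUnique_sheet ι p e he (Spec.map (CommRingCat.ofHom ρ))
      (Spec.map (CommRingCat.ofHom ρ) ≫ LaurSec21.sheet ι p e i) (by rw [Category.assoc, hq])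
    have hij : i = j := (huniq i rfl).trans (huniq j hk).symm
    exact LaurSec21.cancel_spec ι (LaurSec21.sub_injective hinj hmono) s₁ s₂ (by rw [hi, hj, hij])
  · obtain ⟨i, hi, huniq⟩ := LaurSec21.existsUnique_sheet ι p e he (Spec.map (CommRingCat.ofHom ρ))
      (Spec.map (CommRingCat.ofHom ιk) ≫ s') (by rw [Category.assoc, hs', hρι])
    obtain ⟨j, hj, -⟩ := LaurSec21.existsUnique_sheet ι p e he (𝟙 _)
      (Spec.map (CommRingCat.ofHom σ) ≫ LaurSec21.sheet ι p e i) (by rw [Category.assoc, hq, hσι, Category.id_comp])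
    rw [Category.id_comp] at hj
    have hji : j = i := huniq j (by
      beta_reduce
      rw [← hj, ← Category.assoc, ← hρσ, Category.assoc, ← hi, ← Category.assoc, hσkι])
    rw [hji] at hj
    obtain ⟨s, hs⟩ := LaurSec21.exists_descend ι (LaurSec21.sub_injective hinj hmono) σ
      (fun b hb => LaurSec21.mem_range_sub hinj hmono u hu' b hb) _ hj
    refine ⟨s, ?_, ?_⟩
    · refine LaurSec21.cancel_spec ι (LaurSec21.sub_injective hinj hmono) (s ≫ p) (𝟙 _) ?_
      rw [← Category.assoc, hs, hq, Category.comp_id]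
    · refine LaurSec21.cancel_spec ιk (LaurSec21.sub_injective hinj hmono) _ _ ?_
      rw [← Category.assoc, hρι, Category.assoc, hs, hi]

end Groth.Agent.S15766
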