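import Groth.Statements.S15768
import Mathlib
import Groth.Agent.Lib.Hensel.PairHull
-- import your own Groth.Agent.* helpers here

set_option autoImplicit false
universe u
open Polynomial
open CAlg

namespace Groth.Agent.S15768

/-- For any ring R and a henselization B of R[t] along (t), every idempotent of B[1/t] comes from a
unique idempotent of R under R → R[t] → B → B[1/t]. -/
theorem result (R : Type u) [CommRing R]
    (B : Type u) [CommRing B] [Algebra R[X] B] (hB : Hens2.IsPairHenselization R[X] (Ideal.span {(X : R[X])}) B)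
    (e : Localization.Away (algebraMap R[X] B X)) (he : IsIdempotentElem e) :
    ∃! r : R, IsIdempotentElem r ∧
      algebraMap B (Localization.Away (algebraMap R[X] B X)) (algebraMap R[X] B (Polynomial.C r)) = e := by
  classical
  revert e
  set τ := algebraMap R[X] B X with hτ
  intro e he
  have small : ∀ (S : Type u) [CommRing S] (s : S), s ∈ (⊥ : Ideal S).jacobson →
      ∀ (d : Localization.Away s) (c : S), d ^ 3 = d → d = algebraMap S _ (s * c) → d = 0 := by
    intro S _ s hs d c h3 hd
    rw [hd, ← map_pow, IsLocalization.eq_iff_exists (Submonoid.powers s)] at h3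
    obtain ⟨⟨_, L, rfl⟩, hL⟩ := h3
    have hu : IsUnit (1 - (s * c) ^ 2) := by
      have h1 := Ideal.mem_jacobson_bot.1 hs (-(c * (s * c)))
      rwa [show s * -(c * (s * c)) + 1 = 1 - (s * c) ^ 2 by ring] at h1
    have h0 : s ^ L * (s * c) = 0 := by
      refine hu.mul_left_eq_zero.1 ?_
      linear_combination (-1 : S) * hL
    rw [hd]
    exact (IsLocalization.map_eq_zero_iff (Submonoid.powers s) _ _).2 ⟨⟨_, L, rfl⟩, h0⟩
  have hidem : ∀ {S : Type u} [CommRing S] (x y : S), IsIdempotentElem x → IsIdempotentElem y → (x - y) ^ 3 = x - y := by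
    intro S _ x y hx hy
    linear_combination (x + 1 - 3 * y) * hx.eq + (3 * x - y - 1) * hy.eq
  haveI hH := hB.1
  have hτj : τ ∈ (⊥ : Ideal B).jacobson :=
    HenselianRing.jac (I := (Ideal.span {(X : R[X])}).map (algebraMap R[X] B))
      (Ideal.mem_map_of_mem _ (Ideal.mem_span_singleton_self X))
  -- the map to power series
  let P := PowerSeries R
  let f : R[X] →+* P := Polynomial.coeToPowerSeries.ringHom
  have hf : ∀ p : R[X], f p = (p : PowerSeries R) := fun _ => rfl
  haveI : HenselianRing P (Ideal.span {(PowerSeries.X : P)}) := IsAdicComplete.henselianRing P _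
  obtain ⟨g, hg, -⟩ := hB.2 P (Ideal.span {(PowerSeries.X : P)}) f inferInstance (by
    rw [Ideal.map_span, Set.image_singleton]
    exact le_of_eq (by simp [hf]))
  have hgτ : g τ = PowerSeries.X := by
    rw [hτ, show g (algebraMap R[X] B X) = f X from DFunLike.congr_fun hg X]; simp [hf]
  have hgC : ∀ r : R, g (algebraMap R[X] B (Polynomial.C r)) = PowerSeries.C r := fun r => by
    rw [show g (algebraMap R[X] B (Polynomial.C r)) = f (Polynomial.C r) from DFunLike.congr_fun hg _]; simp [hf]
  -- idempotents upstairs are constants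
  have hXreg : ∀ (k : ℕ) (s : P), PowerSeries.X ^ k * s = 0 → s = 0 := fun k s h => by
    ext n
    have := congrArg (PowerSeries.coeff (n + k)) h
    rwa [PowerSeries.coeff_X_pow_mul, map_zero] at this
  have hconst : ∀ (k : ℕ) (s : P), s * s = PowerSeries.X ^ k * s →
      ∃ r : R, IsIdempotentElem r ∧ s = PowerSeries.X ^ k * PowerSeries.C r := by
    intro k s hs
    have hprime : ∀ (p : Ideal R) [p.IsPrime], PowerSeries.map (Ideal.Quotient.mk p) s = 0 ∨
        PowerSeries.map (Ideal.Quotient.mk p) s = PowerSeries.X ^ k := by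
      intro p _
      have h := congrArg (PowerSeries.map (Ideal.Quotient.mk p)) hs
      rw [map_mul, map_mul, map_pow, PowerSeries.map_X] at h
      by_cases h0 : PowerSeries.map (Ideal.Quotient.mk p) s = 0
      · exact Or.inl h0
      · exact Or.inr (mul_right_cancel₀ h0 h)
    have hcoef : ∀ n, n ≠ k → PowerSeries.coeff n s ∈ nilradical R := by
      intro n hn
      rw [nilradical_eq_sInf, Submodule.mem_sInf]
      intro p hp
      haveI : Ideal.IsPrime p := hp
      rw [← Ideal.Quotient.eq_zero_iff_mem, ← PowerSeries.coeff_map]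
      rcases hprime p with h | h <;> rw [h] <;> simp [PowerSeries.coeff_X_pow, hn]
    have hsk : IsIdempotentElem (Ideal.Quotient.mk (nilradical R) (PowerSeries.coeff k s)) := by
      rw [IsIdempotentElem, ← map_mul, Ideal.Quotient.eq, nilradical_eq_sInf, Submodule.mem_sInf]
      intro p hp
      haveI : Ideal.IsPrime p := hp
      rw [← Ideal.Quotient.eq_zero_iff_mem, map_sub, map_mul, ← PowerSeries.coeff_map]
      rcases hprime p with h | h <;> rw [h] <;> simp [PowerSeries.coeff_X_pow]
    obtain ⟨r, hr, hrk⟩ := exists_isIdempotentElem_eq_of_ker_isNilpotent (Ideal.Quotient.mk (nilradical R))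
      (fun x hx => by rw [Ideal.mk_ker] at hx; exact hx) _ (RingHom.mem_range.2 ⟨_, rfl⟩) hsk
    refine ⟨r, hr, ?_⟩
    set δ := s - PowerSeries.X ^ k * PowerSeries.C r with hδ
    have hδn : ∀ n, PowerSeries.coeff n δ ∈ nilradical R := by
      intro n
      rw [hδ, map_sub, PowerSeries.coeff_X_pow_mul']
      by_cases hn : n = k
      · subst hn
        simpa [← Ideal.Quotient.eq] using hrk.symm
      · have : (if k ≤ n then PowerSeries.coeff (n - k) (PowerSeries.C r) else 0) = 0 := by
          split_ifs with h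
          · rw [PowerSeries.coeff_C, if_neg (by omega)]
          · rfl
        rw [this, sub_zero]
        exact hcoef n hn
    have hcube : PowerSeries.X ^ (2 * k) * δ = δ * (δ * δ) := by
      have hr' : PowerSeries.C r * PowerSeries.C r = PowerSeries.C r := by rw [← map_mul, hr.eq]
      rw [hδ]
      linear_combination (-(s + PowerSeries.X ^ k - 3 * (PowerSeries.X ^ k * PowerSeries.C r))) * hs +
        (-(PowerSeries.X ^ (2 * k) * (3 * s - PowerSeries.X ^ k * PowerSeries.C r - PowerSeries.X ^ k))) * hr'
    suffices δ = 0 from sub_eq_zero.1 this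
    ext j
    rw [map_zero]
    set M := j + 2 * k
    set N := Ideal.span (Set.range fun i : Fin (M + 1) => PowerSeries.coeff (i : ℕ) δ) with hN
    set N' := Ideal.span (Set.range fun i : Fin (M + 2 * k + 1) => PowerSeries.coeff (i : ℕ) δ) with hN'
    have hNN : N ≤ N * N' := by
      rw [hN, Ideal.span_le]
      rintro _ ⟨⟨i, hi⟩, rfl⟩
      have h := congrArg (PowerSeries.coeff (i + 2 * k)) hcube
      rw [PowerSeries.coeff_X_pow_mul, PowerSeries.coeff_mul] at h
      show PowerSeries.coeff i δ ∈ N * N'
      rw [h]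
      refine Ideal.sum_mem _ fun ⟨a, b⟩ hab => ?_
      rw [Finset.HasAntidiagonal.mem_antidiagonal] at hab
      rw [PowerSeries.coeff_mul, Finset.mul_sum]
      refine Ideal.sum_mem _ fun ⟨c, d⟩ hcd => ?_
      rw [Finset.HasAntidiagonal.mem_antidiagonal] at hcd
      simp only at hab hcd ⊢
      have m1 : ∀ n, n < M + 1 → PowerSeries.coeff n δ ∈ N := fun n hn => Ideal.subset_span ⟨⟨n, hn⟩, rfl⟩
      have m2 : ∀ n, n < M + 2 * k + 1 → PowerSeries.coeff n δ ∈ N' := fun n hn => Ideal.subset_span ⟨⟨n, hn⟩, rfl⟩
      by_cases ha : a < M + 1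
      · rw [← mul_assoc]
        exact Ideal.mul_mem_right _ _ (Ideal.mul_mem_mul (m1 a ha) (m2 c (by omega)))
      · rw [mul_left_comm]
        by_cases hc : c < M + 1
        · rw [mul_comm (PowerSeries.coeff a δ), ← mul_assoc]
          exact Ideal.mul_mem_mul (Ideal.mul_mem_right _ _ (m1 c hc)) (m2 a (by omega))
        · omega
    obtain ⟨e, he'⟩ := (Ideal.FG.isNilpotent_iff_le_nilradical (Submodule.fg_span (Set.finite_range _))).2
      (show N' ≤ nilradical R by rw [hN', Ideal.span_le]; rintro _ ⟨i, rfl⟩; exact hδn _)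
    have hpowN : ∀ m, N ≤ N * N' ^ m := by
      intro m
      induction m with
      | zero => simp
      | succ m ih => exact hNN.trans ((Ideal.mul_mono_left ih).trans_eq (by rw [mul_assoc, pow_succ]))
    have hjmem : PowerSeries.coeff j δ ∈ N := Ideal.subset_span ⟨⟨j, by omega⟩, rfl⟩
    have := hpowN e hjmem
    rwa [he', Ideal.zero_eq_bot, Ideal.mul_bot, Submodule.mem_bot] at this
  -- numerator of e
  obtain ⟨⟨b, ⟨_, k, rfl⟩⟩, hb⟩ := IsLocalization.surj (Submonoid.powers τ) e
  simp only at hb
  have h1 : algebraMap B (Localization.Away τ) (b * b) = algebraMap B _ (τ ^ k * b) := by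
    rw [map_mul, map_mul, ← hb]
    linear_combination (algebraMap B (Localization.Away τ) (τ ^ k)) ^ 2 * he.eq
  obtain ⟨⟨_, L, rfl⟩, hL⟩ := (IsLocalization.eq_iff_exists (Submonoid.powers τ) _).1 h1
  simp only at hL
  have hs : g b * g b = PowerSeries.X ^ k * g b := by
    have := congrArg g hL
    simp only [map_mul, map_pow, hgτ] at this
    exact sub_eq_zero.1 (hXreg L _ (by rw [mul_sub, this, sub_self]))
  obtain ⟨r, hr, hrs⟩ := hconst k (g b) hs
  set ρ : R → Localization.Away τ := fun r => algebraMap B (Localization.Away τ) (algebraMap R[X] B (Polynomial.C r)) with hρ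
  have hρi : ∀ r, IsIdempotentElem r → IsIdempotentElem (ρ r) := fun r h =>
    ((h.map Polynomial.C).map (algebraMap R[X] B)).map (algebraMap B (Localization.Away τ))
  refine ⟨r, ⟨hr, ?_⟩, fun r' ⟨hr', hre⟩ => ?_⟩
  · set c := b - τ ^ k * algebraMap R[X] B (Polynomial.C r) with hc
    have hgc : g c = 0 := by rw [hc, map_sub, map_mul, map_pow, hgτ, hgC, hrs, sub_self]
    obtain ⟨a, ha⟩ := GrothLib.Hensel.exists_sub_mem_map_pow (Ideal.span {(X : R[X])})
      (GrothLib.Hensel.IsPairHenselization.exists_sub_mem hB) (k + 1) c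
    rw [Ideal.span_singleton_pow, Ideal.map_span, Set.image_singleton, Ideal.mem_span_singleton, map_pow] at ha
    obtain ⟨w, hw⟩ := ha
    have hfa : f a = PowerSeries.X ^ (k + 1) * (- g w) := by
      have h2 := congrArg g hw
      rw [map_sub, hgc, map_mul, map_pow, ← hτ, hgτ, show g (algebraMap R[X] B a) = f a from DFunLike.congr_fun hg a] at h2
      linear_combination (-1 : P) * h2
    obtain ⟨a', rfl⟩ : (X : R[X]) ^ (k + 1) ∣ a := by
      rw [Polynomial.X_pow_dvd_iff]
      intro d hd
      have := congrArg (PowerSeries.coeff d) hfa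
      rw [PowerSeries.coeff_X_pow_mul', if_neg (by omega)] at this
      simpa [hf] using this
    have hcX : c = τ ^ (k + 1) * (w + algebraMap R[X] B a') := by
      rw [mul_add, ← hw, map_mul, map_pow, ← hτ]; ring
    refine (sub_eq_zero.1 (small B τ hτj _ (w + algebraMap R[X] B a') (hidem _ _ he (hρi r hr)) ?_)).symm
    have hτu : IsUnit (algebraMap B (Localization.Away τ) (τ ^ k)) :=
      IsLocalization.map_units (Localization.Away τ) (⟨τ ^ k, k, rfl⟩ : Submonoid.powers τ)
    refine hτu.mul_left_injective ?_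
    simp only [hρ]
    rw [sub_mul, hb, ← map_mul, ← map_mul, ← map_sub]
    congr 1
    linear_combination hcX
  · -- uniqueness
    have hz : algebraMap B (Localization.Away τ) (τ ^ k * algebraMap R[X] B (Polynomial.C r')) =
        algebraMap B _ b := by
      rw [map_mul, hre, mul_comm, hb]
    obtain ⟨⟨_, L', rfl⟩, hL'⟩ := (IsLocalization.eq_iff_exists (Submonoid.powers τ) _).1 hz
    have h2 := congrArg g hL'
    simp only [map_mul, map_pow, hgτ, hgC, hrs] at h2
    have h3 := sub_eq_zero.1 (hXreg (L' + k) (PowerSeries.C r' - PowerSeries.C r) (by rw [pow_add]; linear_combination h2))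
    exact PowerSeries.C_injective h3

end Groth.Agent.S15768
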