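import Groth.Statements.S15769
import Mathlib


set_option autoImplicit false
set_option linter.all false
set_option backward.isDefEq.respectTransparency false
universe u
open CategoryTheory AlgebraicGeometry
open CAlg

namespace Groth.Agent.S15769


section
variable {A A' : Type u} [CommRing A] [CommRing A'] (φ : A →+* A') (t : A)
variable (hq : ∀ m : ℕ, Function.Bijective (Ideal.quotientMap (Ideal.map φ (Ideal.span {t} ^ m)) φ Ideal.le_comap_map))
variable (htor : ∀ a' : A', (∃ m : ℕ, φ t ^ m * a' = 0) → ∃! a : A, (∃ m : ℕ, t ^ m * a = 0) ∧ φ a = a')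

include htor in
theorem fibre_inj (a : A) (h1 : φ a = 0) (h2 : algebraMap A (Localization.Away t) a = 0) : a = 0 := by
  obtain ⟨⟨_, m, rfl⟩, hm⟩ := (IsLocalization.map_eq_zero_iff (Submonoid.powers t) _ a).1 h2
  obtain ⟨c, -, hu⟩ := htor 0 ⟨0, by simp⟩
  exact (hu a ⟨⟨m, hm⟩, h1⟩).trans (hu 0 ⟨⟨0, by simp⟩, map_zero φ⟩).symm

include hq htor in
theorem fibre_surj (a' : A') (x : Localization.Away t)
    (h : algebraMap A' (Localization.Away (φ t)) a' = Localization.awayMap φ t x) :
    ∃ a : A, φ a = a' ∧ algebraMap A (Localization.Away t) a = x := by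
  obtain ⟨⟨b, ⟨_, m, rfl⟩⟩, hb⟩ := IsLocalization.surj (Submonoid.powers t) x
  simp only at hb
  have h1 : algebraMap A' (Localization.Away (φ t)) (φ t ^ m * a') = algebraMap A' _ (φ b) := by
    have := congrArg (Localization.awayMap φ t) hb
    rw [map_mul, ← h] at this
    simp only [Localization.awayMap, IsLocalization.Away.map, IsLocalization.map_eq] at this
    rw [← this, map_mul, map_pow φ t m, mul_comm]
  obtain ⟨⟨_, N, rfl⟩, hN⟩ := IsLocalization.exists_of_eq (M := Submonoid.powers (φ t)) h1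
  simp only at hN
  have hdiv : φ (t ^ N * b) ∈ Ideal.map φ (Ideal.span {t} ^ (N + m)) := by
    rw [map_mul, map_pow, ← hN, ← mul_assoc, ← pow_add, ← map_pow φ t]
    exact Ideal.mul_mem_right _ _ (Ideal.mem_map_of_mem _ (Ideal.pow_mem_pow (Ideal.mem_span_singleton_self t) _))
  have h0 : Ideal.Quotient.mk (Ideal.span {t} ^ (N + m)) (t ^ N * b) = 0 := by
    refine (hq (N + m)).1 ?_
    rw [Ideal.quotientMap_mk, Ideal.Quotient.eq_zero_iff_mem.2 hdiv, map_zero]
  rw [Ideal.Quotient.eq_zero_iff_mem, Ideal.span_singleton_pow, Ideal.mem_span_singleton] at h0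
  obtain ⟨a₀, ha₀⟩ := h0
  obtain ⟨a₁, ⟨⟨k, hk⟩, ha₁⟩, -⟩ := htor (a' - φ a₀) ⟨N + m, by
    rw [mul_sub, ← map_pow φ t, ← map_mul, ← ha₀, map_mul, map_pow, pow_add, mul_assoc, hN, map_pow, sub_self]⟩
  refine ⟨a₀ + a₁, by rw [map_add, ha₁]; abel, ?_⟩
  have hu := fun j => (IsLocalization.Away.algebraMap_isUnit (S := Localization.Away t) t).pow j
  have hz : algebraMap A (Localization.Away t) a₁ = 0 :=
    (IsLocalization.map_eq_zero_iff (Submonoid.powers t) _ a₁).2 ⟨⟨t ^ k, k, rfl⟩, hk⟩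
  rw [map_add, hz, add_zero]
  refine (hu (N + m)).mul_left_cancel ?_
  rw [← map_pow, ← map_mul, ← ha₀, map_mul, ← hb, map_pow, map_pow, map_pow, pow_add]
  ring

include hq in
theorem mem_range (P : PrimeSpectrum A) :
    P ∈ Set.range (PrimeSpectrum.comap φ) ∨
      P ∈ Set.range (PrimeSpectrum.comap (algebraMap A (Localization.Away t))) := by
  by_cases ht : t ∈ P.asIdeal
  · left
    let e := RingEquiv.ofBijective _ (hq 1)
    have hsurj : Function.Surjective (Ideal.Quotient.mk (Ideal.span {t} ^ 1)) := Ideal.Quotient.mk_surjective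
    have hker : RingHom.ker (Ideal.Quotient.mk (Ideal.span {t} ^ 1)) ≤ P.asIdeal := by
      rw [Ideal.mk_ker, pow_one, Ideal.span_le, Set.singleton_subset_iff]; exact ht
    haveI h1 : (P.asIdeal.map (Ideal.Quotient.mk (Ideal.span {t} ^ 1))).IsPrime := Ideal.map_isPrime_of_surjective hsurj hker
    refine ⟨⟨((P.asIdeal.map (Ideal.Quotient.mk (Ideal.span {t} ^ 1))).comap e.symm.toRingHom).comap
      (Ideal.Quotient.mk _), inferInstance⟩, PrimeSpectrum.ext (Ideal.ext fun a => ?_)⟩
    show e.symm (Ideal.Quotient.mk _ (φ a)) ∈ P.asIdeal.map _ ↔ _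
    have : Ideal.Quotient.mk _ (φ a) = e (Ideal.Quotient.mk (Ideal.span {t} ^ 1) a) := by
      simp [e, Ideal.quotientMap_mk]
    rw [this, e.symm_apply_apply]
    conv_rhs => rw [← sup_eq_left.2 hker, ← Ideal.comap_map_of_surjective' _ hsurj, Ideal.mem_comap]
  · right
    rw [PrimeSpectrum.localization_away_comap_range (Localization.Away t) t]
    exact ht

include htor in
theorem hom_ext_glue {B : CommRingCat.{u}} (s₁ s₂ : Spec (CommRingCat.of A) ⟶ Spec B)
    (h1 : Spec.map (CommRingCat.ofHom φ) ≫ s₁ = Spec.map (CommRingCat.ofHom φ) ≫ s₂)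
    (h2 : Spec.map (CommRingCat.ofHom (algebraMap A (Localization.Away t))) ≫ s₁ =
      Spec.map (CommRingCat.ofHom (algebraMap A (Localization.Away t))) ≫ s₂) : s₁ = s₂ := by
  obtain ⟨f₁, rfl⟩ : ∃ f, Spec.map f = s₁ := ⟨_, Spec.map_preimage s₁⟩
  obtain ⟨f₂, rfl⟩ : ∃ f, Spec.map f = s₂ := ⟨_, Spec.map_preimage s₂⟩
  rw [← Spec.map_comp, ← Spec.map_comp] at h1 h2
  congr 1
  ext b
  refine sub_eq_zero.1 (fibre_inj φ t htor _ ?_ ?_)
  · rw [map_sub, sub_eq_zero]; exact congrArg (fun g => g.hom b) (Spec.map_injective h1)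
  · rw [map_sub, sub_eq_zero]; exact congrArg (fun g => g.hom b) (Spec.map_injective h2)

include hq htor in
theorem exists_glue {B : CommRingCat.{u}} (x' : Spec (CommRingCat.of A') ⟶ Spec B)
    (xt : Spec (CommRingCat.of (Localization.Away t)) ⟶ Spec B)
    (h : Spec.map (CommRingCat.ofHom (algebraMap A' (Localization.Away (φ t)))) ≫ x' =
      Spec.map (CommRingCat.ofHom (Localization.awayMap φ t)) ≫ xt) :
    ∃ s : Spec (CommRingCat.of A) ⟶ Spec B, Spec.map (CommRingCat.ofHom φ) ≫ s = x' ∧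
      Spec.map (CommRingCat.ofHom (algebraMap A (Localization.Away t))) ≫ s = xt := by
  obtain ⟨f, rfl⟩ : ∃ f, Spec.map f = x' := ⟨_, Spec.map_preimage x'⟩
  obtain ⟨g, rfl⟩ : ∃ g, Spec.map g = xt := ⟨_, Spec.map_preimage xt⟩
  rw [← Spec.map_comp, ← Spec.map_comp] at h
  choose r hr1 hr2 using fun b => fibre_surj φ t hq htor (f.hom b) (g.hom b)
    (congrArg (fun F => F.hom b) (Spec.map_injective h))
  have hu : ∀ a a', φ a = φ a' → algebraMap A (Localization.Away t) a = algebraMap A _ a' → a = a' := fun a a' h1 h2 =>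
    sub_eq_zero.1 (fibre_inj φ t htor _ (by rw [map_sub, h1, sub_self]) (by rw [map_sub, h2, sub_self]))
  let R : B →+* A :=
    { toFun := r
      map_one' := hu _ _ (by simp [hr1]) (by simp [hr2])
      map_mul' := fun a b => hu _ _ (by simp [hr1]) (by simp [hr2])
      map_zero' := hu _ _ (by simp [hr1]) (by simp [hr2])
      map_add' := fun a b => hu _ _ (by simp [hr1]) (by simp [hr2]) }
  refine ⟨Spec.map (CommRingCat.ofHom R), ?_, ?_⟩
  · rw [← Spec.map_comp]; congr 1; ext b; exact hr1 b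
  · rw [← Spec.map_comp]; congr 1; ext b; exact hr2 b

end


/-- Case of a quasi-affine X over U = Spec A: let φ : A → A' and t ∈ A be such that A/t^m → A'/t^m is
bijective for every m and φ restricts to a bijection between the t-power-torsion submodules; let X
be a quasi-affine scheme over Spec A. Then sections of X over Spec A correspond bijectively to pairs
of an A'-point and an A[1/t]-point of X over A that agree over A'[1/t]. (The published statement
allows a flat A-scheme U as base and X either ind-quasi-affine or subprojective over U; this row is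
U = Spec A with X quasi-affine.) -/
theorem result (A A' : Type u) [CommRing A] [CommRing A']
    (φ : A →+* A') (t : A)
    (hq : ∀ m : ℕ, Function.Bijective (Ideal.quotientMap (Ideal.map φ (Ideal.span {t} ^ m)) φ Ideal.le_comap_map))
    (htor : ∀ a' : A', (∃ m : ℕ, φ t ^ m * a' = 0) → ∃! a : A, (∃ m : ℕ, t ^ m * a = 0) ∧ φ a = a')
    (X : Scheme.{u}) [X.IsQuasiAffine] (p : X ⟶ Spec (CommRingCat.of A)) :
    (∀ s₁ s₂ : Spec (CommRingCat.of A) ⟶ X, s₁ ≫ p = 𝟙 _ → s₂ ≫ p = 𝟙 _ →
        Spec.map (CommRingCat.ofHom φ) ≫ s₁ = Spec.map (CommRingCat.ofHom φ) ≫ s₂ →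
        Spec.map (CommRingCat.ofHom (algebraMap A (Localization.Away t))) ≫ s₁ =
          Spec.map (CommRingCat.ofHom (algebraMap A (Localization.Away t))) ≫ s₂ →
        s₁ = s₂) ∧
    (∀ (x' : Spec (CommRingCat.of A') ⟶ X) (xt : Spec (CommRingCat.of (Localization.Away t)) ⟶ X),
        x' ≫ p = Spec.map (CommRingCat.ofHom φ) →
        xt ≫ p = Spec.map (CommRingCat.ofHom (algebraMap A (Localization.Away t))) →
        Spec.map (CommRingCat.ofHom (algebraMap A' (Localization.Away (φ t)))) ≫ x' =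
          Spec.map (CommRingCat.ofHom (Localization.awayMap φ t)) ≫ xt →
        ∃ s : Spec (CommRingCat.of A) ⟶ X, s ≫ p = 𝟙 _ ∧
          Spec.map (CommRingCat.ofHom φ) ≫ s = x' ∧
          Spec.map (CommRingCat.ofHom (algebraMap A (Localization.Away t))) ≫ s = xt) := by
  refine ⟨fun s₁ s₂ _ _ h1 h2 => ?_, fun x' xt hx' hxt hc => ?_⟩
  · rw [← cancel_mono X.toSpecΓ]
    exact hom_ext_glue φ t htor _ _ (by rw [← Category.assoc, h1, Category.assoc])
      (by rw [← Category.assoc, h2, Category.assoc])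
  · obtain ⟨σ, hσ1, hσ2⟩ := exists_glue φ t hq htor (x' ≫ X.toSpecΓ) (xt ≫ X.toSpecΓ)
      (by rw [← Category.assoc, hc, Category.assoc])
    have hrange : Set.range σ ⊆ Set.range X.toSpecΓ := by
      rintro _ ⟨P, rfl⟩
      rcases mem_range φ t hq P with ⟨Q, hQ⟩ | ⟨Q, hQ⟩
      · refine ⟨x' Q, ?_⟩
        rw [← hQ]
        exact (congrArg (fun g : Spec (CommRingCat.of A') ⟶ Spec Γ(X, ⊤) => g Q) hσ1).symm
      · refine ⟨xt Q, ?_⟩
        rw [← hQ]
        exact (congrArg (fun g : Spec (CommRingCat.of (Localization.Away t)) ⟶ Spec Γ(X, ⊤) => g Q) hσ2).symm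
    have hfac := IsOpenImmersion.lift_fac X.toSpecΓ σ hrange
    have e1 : Spec.map (CommRingCat.ofHom φ) ≫ IsOpenImmersion.lift X.toSpecΓ σ hrange = x' := by
      rw [← cancel_mono X.toSpecΓ, Category.assoc, hfac, hσ1]
    have e2 : Spec.map (CommRingCat.ofHom (algebraMap A (Localization.Away t))) ≫
        IsOpenImmersion.lift X.toSpecΓ σ hrange = xt := by
      rw [← cancel_mono X.toSpecΓ, Category.assoc, hfac, hσ2]
    refine ⟨_, ?_, e1, e2⟩
    exact hom_ext_glue φ t htor _ _ (by rw [← Category.assoc, e1, hx', Category.comp_id])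
      (by rw [← Category.assoc, e2, hxt, Category.comp_id])

end Groth.Agent.S15769
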