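import Groth.Statements.S15770
import Mathlib

set_option autoImplicit false
universe u
open CAlg

namespace Groth.Agent.S15770

/-- Let B be a topological ring with Bˣ ⊂ B open and M, M' finitely generated projective B-modules, and
endow Hom_B(M, M') with the module topology (the canonical topology of a finite module). Then the
set of surjective B-linear maps M → M' is open. -/
theorem result (B : Type u) [CommRing B] [TopologicalSpace B]
    [IsTopologicalRing B] (hB : IsOpen {b : B | IsUnit b})
    (M M' : Type u) [AddCommGroup M] [Module B M] [Module.Finite B M] [Module.Projective B M]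
    [AddCommGroup M'] [Module B M'] [Module.Finite B M'] [Module.Projective B M']
    [TopologicalSpace (M →ₗ[B] M')] [IsModuleTopology B (M →ₗ[B] M')] :
    IsOpen {f : M →ₗ[B] M' | Function.Surjective f} := by
  classical
  obtain ⟨n, π, i, -, -, hpi⟩ := Module.Finite.exists_comp_eq_id_of_projective B M'
  have hset : {f : M →ₗ[B] M' | Function.Surjective f} = ⋃ g : M' →ₗ[B] M,
      {f | IsUnit (LinearMap.toMatrix' (i ∘ₗ (f ∘ₗ g) ∘ₗ π + (LinearMap.id - i ∘ₗ π))).det} := by
    ext f
    simp only [Set.mem_setOf_eq, Set.mem_iUnion]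
    have hbl : ∀ y, π (i y) = y := fun y => DFunLike.congr_fun hpi y
    constructor
    · intro hf
      obtain ⟨g, hg⟩ := Module.projective_lifting_property f LinearMap.id hf
      refine ⟨g, ?_⟩
      simp [hg]
    · rintro ⟨g, hg⟩ y
      rw [LinearMap.det_toMatrix', ← LinearMap.isUnit_iff_isUnit_det] at hg
      obtain ⟨z, hz⟩ := (Module.End.isUnit_iff _).1 hg |>.2 (i y)
      have := congrArg π hz
      simp [hbl] at this
      exact ⟨g (π z), this⟩
  rw [hset]
  refine isOpen_iUnion fun g => ?_
  haveI : ContinuousAdd (M →ₗ[B] M') := IsModuleTopology.toContinuousAdd B _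
  have hL : Continuous fun f : M →ₗ[B] M' => LinearMap.toMatrix' (i ∘ₗ (f ∘ₗ g) ∘ₗ π) :=
    IsModuleTopology.continuous_of_linearMap
      (LinearMap.toMatrix'.toLinearMap ∘ₗ
        { toFun := fun f : M →ₗ[B] M' => i ∘ₗ (f ∘ₗ g) ∘ₗ π
          map_add' := fun a b => by ext; simp
          map_smul' := fun r a => by ext; simp })
  have hcont : Continuous fun f : M →ₗ[B] M' =>
      (LinearMap.toMatrix' (i ∘ₗ (f ∘ₗ g) ∘ₗ π + (LinearMap.id - i ∘ₗ π))).det := by
    simp only [map_add]
    exact (hL.add continuous_const).matrix_det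
  exact hB.preimage hcont

end Groth.Agent.S15770
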