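import Groth.Statements.S15774
import Mathlib
-- import your own Groth.Agent.* helpers here

set_option autoImplicit false
universe u
open CAlg

namespace Groth.Agent.S15774

/-- The instance A[1/t] → Â[1/t]: if (A, tA) is a Henselian pair and the t-power torsion of A is
bounded, then every idempotent of Â[1/t] (Â the t-adic completion) comes from a unique idempotent of
A[1/t]. -/
theorem result (A : Type u) [CommRing A] (t : A) [HenselianRing A (Ideal.span {t})]
    (hbd : ∃ N : ℕ, ∀ a : A, (∃ m : ℕ, t ^ m * a = 0) → t ^ N * a = 0)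
    (e : Localization.Away (algebraMap A (AdicCompletion (Ideal.span {t}) A) t)) (he : IsIdempotentElem e) :
    ∃! e₀ : Localization.Away t, IsIdempotentElem e₀ ∧ Localization.awayMap (algebraMap A (AdicCompletion (Ideal.span {t}) A)) t e₀ = e := by
  clear hbd
  revert e
  set I := Ideal.span ({t} : Set A) with hI
  set S := AdicCompletion I A with hS
  set ι := algebraMap A S with hι
  set τ := ι t with hτ
  intro e he
  -- a small idempotent difference vanishes
  have small : ∀ (R : Type u) [CommRing R] (s : R), s ∈ (⊥ : Ideal R).jacobson →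
      ∀ (d : Localization.Away s) (c : R), d ^ 3 = d → d = algebraMap R _ (s * c) → d = 0 := by
    intro R _ s hs d c h3 hd
    rw [hd, ← map_pow, IsLocalization.eq_iff_exists (Submonoid.powers s)] at h3
    obtain ⟨⟨_, L, rfl⟩, hL⟩ := h3
    have hu : IsUnit (1 - (s * c) ^ 2) := by
      have h1 := Ideal.mem_jacobson_bot.1 hs (-(c * (s * c)))
      rwa [show s * -(c * (s * c)) + 1 = 1 - (s * c) ^ 2 by ring] at h1
    have h0 : s ^ L * (s * c) = 0 := by
      refine hu.mul_left_eq_zero.1 ?_
      linear_combination (-1 : R) * hL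
    rw [hd]
    exact (IsLocalization.map_eq_zero_iff (Submonoid.powers s) _ _).2 ⟨⟨_, L, rfl⟩, h0⟩
  have htA : t ∈ (⊥ : Ideal A).jacobson := HenselianRing.jac (Ideal.mem_span_singleton_self t)
  have hτS : τ ∈ (⊥ : Ideal S).jacobson := by
    haveI : IsAdicComplete I S := AdicCompletion.isAdicComplete ⟨{t}, by simp [hI]⟩
    haveI : IsAdicComplete (I.map ι) S := (IsAdicComplete.map_algebraMap_iff I S).2 ‹_›
    exact IsAdicComplete.le_jacobson_bot (I.map ι) (Ideal.mem_map_of_mem _ (Ideal.mem_span_singleton_self t))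
  have hfg : I.FG := ⟨{t}, by simp [hI]⟩
  have hpow : ∀ (n : ℕ) (x : S), AdicCompletion.eval I A n x = 0 → ∃ y, x = τ ^ n * y := by
    intro n x hx
    have hx' : x ∈ (I ^ n • ⊤ : Submodule A S) := by
      rw [AdicCompletion.pow_smul_top_eq_ker_eval hfg]; exact hx
    simp only [I, Ideal.span_singleton_pow, Submodule.ideal_span_singleton_smul, Submodule.mem_smul_pointwise_iff_exists] at hx'
    obtain ⟨y, -, rfl⟩ := hx'
    exact ⟨y, by rw [Algebra.smul_def, map_pow]⟩
  have hdown : ∀ (n : ℕ) (δ : A) (y : S), ι δ = τ ^ n * y → ∃ d, δ = t ^ n * d := by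
    intro n δ y h
    have h1 : ι δ = (t ^ n) • y := by rw [h, Algebra.smul_def, map_pow]
    have h2 := congrArg (AdicCompletion.eval I A n) h1
    rw [map_smul, hι, AdicCompletion.algebraMap_apply, AdicCompletion.eval_of] at h2
    obtain ⟨z, hz⟩ := Submodule.Quotient.mk_surjective _ (AdicCompletion.eval I A n y)
    rw [← hz, Submodule.mkQ_apply, ← Submodule.Quotient.mk_smul, Submodule.Quotient.eq] at h2
    have h3 : δ - t ^ n • z ∈ (I ^ n • ⊤ : Submodule A A) := h2
    simp only [I, Ideal.span_singleton_pow, Submodule.ideal_span_singleton_smul, Submodule.mem_smul_pointwise_iff_exists] at h3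
    obtain ⟨w, -, hw⟩ := h3
    rw [smul_eq_mul, smul_eq_mul] at hw
    exact ⟨w + z, by rw [mul_add, hw]; exact (sub_add_cancel _ _).symm⟩
  have hap : ∀ (n : ℕ) (b : S), ∃ a y, ι a = b + τ ^ n * y := by
    intro n b
    obtain ⟨a, ha⟩ := Submodule.Quotient.mk_surjective _ (AdicCompletion.eval I A n b)
    obtain ⟨y, hy⟩ := hpow n (ι a - b) (by
      rw [map_sub, hι, AdicCompletion.algebraMap_apply, AdicCompletion.eval_of, Submodule.mkQ_apply]
      exact sub_eq_zero.2 ha)
    exact ⟨a, y, by rw [← hy]; ring⟩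
  set φ := Localization.awayMap ι t with hφ
  have hφa : ∀ a, φ (algebraMap A _ a) = algebraMap S _ (ι a) := fun a => by
    simp [hφ, Localization.awayMap, IsLocalization.Away.map]
  have hidem : ∀ {R : Type u} [CommRing R] (x y : R), IsIdempotentElem x → IsIdempotentElem y → (x - y) ^ 3 = x - y := by
    intro R _ x y hx hy
    linear_combination (x + 1 - 3 * y) * hx.eq + (3 * x - y - 1) * hy.eq
  -- exact equation for a numerator
  obtain ⟨k, b, hb, heb⟩ : ∃ (k : ℕ) (b : S), b * b = τ ^ k * b ∧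
      e * algebraMap S _ (τ ^ k) = algebraMap S _ b := by
    obtain ⟨⟨b, ⟨_, k, rfl⟩⟩, hb⟩ := IsLocalization.surj (Submonoid.powers τ) e
    simp only at hb
    have h1 : algebraMap S (Localization.Away τ) (b * b) = algebraMap S _ (τ ^ k * b) := by
      rw [map_mul, map_mul, ← hb]
      linear_combination (algebraMap S (Localization.Away τ) (τ ^ k)) ^ 2 * he.eq
    obtain ⟨⟨_, L, rfl⟩, hL⟩ := (IsLocalization.eq_iff_exists (Submonoid.powers τ) _).1 h1
    simp only at hL
    refine ⟨k + L, τ ^ L * b, ?_, ?_⟩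
    · linear_combination τ ^ L * hL
    · rw [map_mul, ← hb, pow_add, map_mul]; ring
  obtain ⟨a, w, hw⟩ := hap (3 * k + 1) b
  obtain ⟨d, hd⟩ := hdown (3 * k + 1) (a * a - t ^ k * a) (w * (2 * b + τ ^ (3 * k + 1) * w - τ ^ k)) (by
    rw [map_sub, map_mul, map_mul, map_pow, hw, ← hτ]
    linear_combination hb)
  set u := 1 + 4 * (t ^ (k + 1) * d) with hu
  have huu : IsUnit u := by
    have h1 := Ideal.mem_jacobson_bot.1 htA (4 * (t ^ k * d))
    rwa [show t * (4 * (t ^ k * d)) + 1 = u by rw [hu]; ring] at h1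
  set c := t ^ (k + 1) * d * (huu.unit⁻¹ : Aˣ) with hc
  obtain ⟨y, hy, hy0⟩ := HenselianRing.is_henselian (I := I) (Polynomial.X ^ 2 + (Polynomial.X + Polynomial.C c))
    (by
      rcases subsingleton_or_nontrivial A with h | h
      · exact Polynomial.monic_of_subsingleton _
      · exact Polynomial.monic_X_pow_add (by rw [Polynomial.degree_X_add_C]; decide)) 0 (by
      simp only [Polynomial.eval_add, Polynomial.eval_pow, Polynomial.eval_X, Polynomial.eval_C]
      rw [hc, hI, Ideal.mem_span_singleton]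
      exact ⟨t ^ k * d * (huu.unit⁻¹ : Aˣ), by ring⟩) (by simp)
  simp only [Polynomial.IsRoot, Polynomial.eval_add, Polynomial.eval_pow, Polynomial.eval_X, Polynomial.eval_C] at hy
  rw [sub_zero, hI, Ideal.mem_span_singleton] at hy0
  obtain ⟨y1, hy1⟩ := hy0
  have hv : IsUnit (1 + y) := by
    have h1 := Ideal.mem_jacobson_bot.1 htA y1
    rwa [← hy1, add_comm] at h1
  obtain ⟨y2, hy2⟩ : ∃ y2, y = t ^ (k + 1) * y2 := by
    refine ⟨-(d * (huu.unit⁻¹ : Aˣ) * (hv.unit⁻¹ : Aˣ)), ?_⟩
    have h1 : (1 + y) * (hv.unit⁻¹ : Aˣ) = 1 := hv.mul_val_inv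
    linear_combination (↑hv.unit⁻¹ : A) * hy + (-y) * h1 + (-(↑hv.unit⁻¹ : A)) * hc
  have huc : u * c = t ^ (k + 1) * d := by
    have h1 : u * (huu.unit⁻¹ : Aˣ) = 1 := huu.mul_val_inv
    rw [hc]; linear_combination (t ^ (k + 1) * d) * h1
  set n := a + (2 * a - t ^ k) * y with hn
  have hnn : n * n = t ^ k * n := by
    rw [hn]
    linear_combination (1 + 4 * (y + y ^ 2)) * hd + (t ^ (2 * k) * u) * hy - t ^ (2 * k) * huc - t ^ (2 * k) * (y + y ^ 2) * hu
  have htu : IsUnit (algebraMap A (Localization.Away t) (t ^ k)) :=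
    IsLocalization.map_units (Localization.Away t) (⟨t ^ k, k, rfl⟩ : Submonoid.powers t)
  set e0 := algebraMap A (Localization.Away t) n * (htu.unit⁻¹ : (Localization.Away t)ˣ) with he0
  have hinv : algebraMap A (Localization.Away t) (t ^ k) * (htu.unit⁻¹ : (Localization.Away t)ˣ) = 1 := htu.mul_val_inv
  have he0i : IsIdempotentElem e0 := by
    have h1 := congrArg (algebraMap A (Localization.Away t)) hnn
    simp only [map_mul] at h1
    show e0 * e0 = e0
    rw [he0]
    linear_combination (↑htu.unit⁻¹ : Localization.Away t) ^ 2 * h1 +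
      (algebraMap A (Localization.Away t) n * ↑htu.unit⁻¹) * hinv
  have he0e : φ e0 = e := by
    have h1 : φ e0 * algebraMap S _ (τ ^ k) = algebraMap S _ (ι n) := by
      have h3 : e0 * algebraMap A _ (t ^ k) = algebraMap A _ n := by
        rw [he0, mul_assoc, mul_comm (↑htu.unit⁻¹ : Localization.Away t), hinv, mul_one]
      have := congrArg φ h3
      rwa [map_mul, hφa, hφa, map_pow] at this
    have hdiff : φ e0 - e = algebraMap S _ (τ * (τ ^ (2 * k) * w + ι ((2 * a - t ^ k) * y2))) := by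
      have hτu : IsUnit (algebraMap S (Localization.Away τ) (τ ^ k)) :=
        IsLocalization.map_units (Localization.Away τ) (⟨τ ^ k, k, rfl⟩ : Submonoid.powers τ)
      refine hτu.mul_left_injective ?_
      simp only
      rw [sub_mul, h1, heb, ← map_sub, ← map_mul]
      congr 1
      rw [hn, hy2, map_add, hw]
      simp only [map_mul, map_pow, ← hτ]
      ring
    exact sub_eq_zero.1 (small S τ hτS _ _ (hidem _ _ (he0i.map φ) he) hdiff)
  refine ⟨e0, ⟨he0i, he0e⟩, fun e1 ⟨he1, he1e⟩ => ?_⟩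
  obtain ⟨⟨z, ⟨_, j, rfl⟩⟩, hz⟩ := IsLocalization.surj (Submonoid.powers t) (e1 - e0)
  simp only at hz
  have hz0 : algebraMap S (Localization.Away τ) (ι z) = 0 := by
    rw [← hφa, ← hz, map_mul, map_sub, he1e, he0e, sub_self, zero_mul]
  obtain ⟨⟨_, L, rfl⟩, hL⟩ := (IsLocalization.map_eq_zero_iff (Submonoid.powers τ) _ _).1 hz0
  obtain ⟨q, hq⟩ := hdown (j + L + 1) (t ^ L * z) 0 (by
    rw [mul_zero, map_mul, map_pow]; exact hL)
  have hkey : e1 - e0 = algebraMap A _ (t * q) := by
    have htj : IsUnit (algebraMap A (Localization.Away t) (t ^ (j + L))) :=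
      IsLocalization.map_units (Localization.Away t) (⟨t ^ (j + L), j + L, rfl⟩ : Submonoid.powers t)
    refine htj.mul_left_injective ?_
    simp only
    have e2 : (e1 - e0) * algebraMap A _ (t ^ (j + L)) = algebraMap A _ (t ^ L * z) := by
      rw [map_mul, ← hz, pow_add, map_mul]; ring
    rw [e2, hq, ← map_mul]
    congr 1
    ring
  exact sub_eq_zero.1 (small A t htA _ _ (hidem _ _ he1 he0i) hkey)

end Groth.Agent.S15774
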