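import Groth.Statements.S15777
import Groth.Agent.ApproxSec21.Core

set_option autoImplicit false
universe u
open CategoryTheory MonoidalCategory CartesianMonoidalCategory MonObj GrpObj AlgebraicGeometry
open NonAbH1

namespace Groth.Agent.S15777

/-- The instance A[1/t] → Â[1/t], kernel form, for an affine smooth group: if (A, tA) is a Henselian
pair with bounded t-power torsion and Â is the t-adic completion, then an fppf torsor under an
affine smooth A[1/t]-group scheme which becomes trivial over Â[1/t] is trivial. (The published
statement is a bijection H¹(A[1/t], G) ≅ H¹(Â[1/t], G) for quasi-affine smooth G; this row is the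
triviality of the kernel for affine smooth G.) -/
theorem result (A : Type u) [CommRing A] (t : A) [HenselianRing A (Ideal.span {t})]
    (hbd : ∃ N : ℕ, ∀ a : A, (∃ m : ℕ, t ^ m * a = 0) → t ^ N * a = 0)
    (G : Over (Spec (CommRingCat.of (Localization.Away t)))) [GrpObj G] [IsAffine G.left] [Smooth G.hom]
    (P : Over (Spec (CommRingCat.of (Localization.Away t)))) (a : AlgGrp.Action G P)
    (hP : NonAbH1.IsTorsorFor Scheme.fppfPrecoverage a)
    (hsec : NonAbH1.HasSectionOver P (Spec.map (CommRingCat.ofHom (Localization.awayMap (algebraMap A (AdicCompletion (Ideal.span {t}) A)) t)))) :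
    NonAbH1.HasSectionOver P (𝟙 (Spec (CommRingCat.of (Localization.Away t)))) := by
  obtain ⟨s, hs⟩ := hsec
  haveI : IsAffineHom G.hom := isAffineHom_of_isAffine _
  have hP' : NonAbH1.IsTorsorFor Scheme.fpqcPrecoverage a := by
    obtain ⟨R, hR, hsec'⟩ := hP.2
    exact ⟨hP.1, R, Scheme.fppfPrecoverage_le_fpqcPrecoverage _ hR, hsec'⟩
  haveI : IsAffineHom P.hom := (Groth.Agent.S6004.result G P a hP').1
  haveI : Smooth P.hom := (Groth.Agent.S18860.result a hP').2.2.2.1 inferInstance
  exact GrothLib.ApproxSec21.exists_section t hbd P s hs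

end Groth.Agent.S15777
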