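import Groth.Statements.S15778
import Mathlib
import Groth.Agent.Lib.DenseProj1.Away
import Groth.Agent.Lib.AdicFS.Completion
-- import your own Groth.Agent.* helpers here

set_option autoImplicit false
universe u
open TensorProduct
open CAlg

namespace Groth.Agent.S15778

/-- The instance A[1/t] → Â[1/t] for modules: let t lie in the Jacobson radical of A (a Zariski pair (A,
tA)) with bounded t-power torsion, Â the t-adic completion, and give Â[1/t] the A[1/t]-algebra
structure of the canonical map. Then finitely generated projective A[1/t]-modules isomorphic over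
Â[1/t] are isomorphic, and every stably free Â[1/t]-module is extended from a stably free
A[1/t]-module. (The published statement also asserts injectivity on H¹ for inner forms of GL_n; this
row omits that clause.) -/
theorem result (A : Type u) [CommRing A]
    (t : A) (ht : t ∈ (⊥ : Ideal A).jacobson)
    (hbd : ∃ N : ℕ, ∀ a : A, (∃ m : ℕ, t ^ m * a = 0) → t ^ N * a = 0)
    [Algebra (Localization.Away t) (Localization.Away (algebraMap A (AdicCompletion (Ideal.span {t}) A) t))]
    (halg : algebraMap (Localization.Away t) (Localization.Away (algebraMap A (AdicCompletion (Ideal.span {t}) A) t)) = Localization.awayMap (algebraMap A (AdicCompletion (Ideal.span {t}) A)) t) :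
    (∀ (M N : Type u) [AddCommGroup M] [Module (Localization.Away t) M] [Module.Finite (Localization.Away t) M] [Module.Projective (Localization.Away t) M]
        [AddCommGroup N] [Module (Localization.Away t) N] [Module.Finite (Localization.Away t) N] [Module.Projective (Localization.Away t) N],
        Nonempty ((Localization.Away (algebraMap A (AdicCompletion (Ideal.span {t}) A) t)) ⊗[Localization.Away t] M ≃ₗ[Localization.Away (algebraMap A (AdicCompletion (Ideal.span {t}) A) t)] (Localization.Away (algebraMap A (AdicCompletion (Ideal.span {t}) A) t)) ⊗[Localization.Away t] N) → Nonempty (M ≃ₗ[Localization.Away t] N)) ∧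
    (∀ (M' : Type u) [AddCommGroup M'] [Module (Localization.Away (algebraMap A (AdicCompletion (Ideal.span {t}) A) t)) M'] [Module.Finite (Localization.Away (algebraMap A (AdicCompletion (Ideal.span {t}) A) t)) M'],
        (∃ n m : ℕ, Nonempty ((M' × (Fin n → Localization.Away (algebraMap A (AdicCompletion (Ideal.span {t}) A) t))) ≃ₗ[Localization.Away (algebraMap A (AdicCompletion (Ideal.span {t}) A) t)] (Fin m → Localization.Away (algebraMap A (AdicCompletion (Ideal.span {t}) A) t)))) →
        ∃ (M : Type u) (_ : AddCommGroup M) (_ : Module (Localization.Away t) M), Module.Finite (Localization.Away t) M ∧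
          (∃ n m : ℕ, Nonempty ((M × (Fin n → Localization.Away t)) ≃ₗ[Localization.Away t] (Fin m → Localization.Away t))) ∧
          Nonempty ((Localization.Away (algebraMap A (AdicCompletion (Ideal.span {t}) A) t)) ⊗[Localization.Away t] M ≃ₗ[Localization.Away (algebraMap A (AdicCompletion (Ideal.span {t}) A) t)] M')) := by
  haveI := AdicCompletion.isAdicComplete_self (Ideal.span {t}) (Submodule.fg_span_singleton t)
  have hS := GrothLib.DenseProj1.isDense_away (L := Localization.Away t)
    (L' := Localization.Away (algebraMap A (AdicCompletion (Ideal.span {t}) A) t))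
    (algebraMap A (AdicCompletion (Ideal.span {t}) A)) t
    (fun a => (RingHom.congr_fun halg _).trans (IsLocalization.map_eq _ a))
    (fun m y => by
      obtain ⟨a, ha⟩ := GrothLib.AdicFS.exists_sub_mem_map_pow (Submodule.fg_span_singleton t) m y
      rw [Ideal.map_span, Set.image_singleton, Ideal.span_singleton_pow, Ideal.mem_span_singleton] at ha
      exact ⟨a, ha⟩)
    (fun m a h => by
      have h2 : algebraMap A (AdicCompletion (Ideal.span {t}) A) a ∈
          (Ideal.span {t}).map (algebraMap A (AdicCompletion (Ideal.span {t}) A)) ^ m := by
        rwa [Ideal.map_span, Set.image_singleton, Ideal.span_singleton_pow, Ideal.mem_span_singleton]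
      rw [GrothLib.AdicFS.mem_map_pow_iff (Submodule.fg_span_singleton t), AlgHom.commutes,
        Ideal.Quotient.algebraMap_eq, Ideal.Quotient.eq_zero_iff_mem, Ideal.span_singleton_pow,
        Ideal.mem_span_singleton] at h2
      exact h2)
    ht (IsAdicComplete.le_jacobson_bot ((Ideal.span {t}).map (algebraMap A (AdicCompletion (Ideal.span {t}) A)))
      (Ideal.mem_map_of_mem _ (Ideal.mem_span_singleton_self t)))
  exact ⟨fun M N _ _ _ _ _ _ _ _ ⟨θ⟩ => GrothLib.DenseProj1.nonempty_equiv hS M N θ, fun M' _ _ _ ⟨n, m, ⟨e⟩⟩ =>
    GrothLib.DenseProj1.exists_stablyFree hS M' e⟩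

end Groth.Agent.S15778
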