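import Groth.Statements.S1578
import Groth.Agent.Lib.WeakAss.Basic

set_option autoImplicit false
universe u
open CategoryTheory CategoryTheory.Limits AlgebraicGeometry
open Divisors

namespace Groth.Agent.S1578

/-- Let M be a module over a ring A, F the associated quasi-coherent module on Spec A, and p a prime of
A. If p is an associated prime of M then p is an associated point of F; the converse holds when p is
finitely generated. -/
theorem result (A : CommRingCat.{u}) (M : ModuleCat.{u} A)
    (p : Spec A) :
    (p.asIdeal ∈ associatedPrimes A M → Curv2.IsAssPoint (tilde M) p) ∧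
    (p.asIdeal.FG → Curv2.IsAssPoint (tilde M) p → p.asIdeal ∈ associatedPrimes A M) := by
    have hq : (tilde M).IsQuasicoherent := inferInstance
    let e := (Scheme.ΓSpecIso A).commRingCatIsoToRingEquiv
    let V : (Spec A).Opens := ⊤
    have hV : IsAffineOpen V := isAffineOpen_top (Spec A)
    classical
    let τ := ((tilde.isoTop M).toLinearEquiv)
    let sec : M → Γ(tilde M, V) := fun m => τ m
    have hsmul : ∀ (a : A) (m : M), (e.symm a • (sec m)) = sec (a • m) := fun a m =>
      (τ.map_smul a m).symm
    have hprime : ∀ r, r ∈ GrothLib.WeakAss.primeAt (V := V) p trivial ↔ e r ∈ p.asIdeal := fun r => by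
      rw [← not_iff_not, GrothLib.WeakAss.notMem_primeAt_iff, AlgebraicGeometry.basicOpen_eq_of_affine']
      rfl
    have hann : ∀ (r : Γ(Spec A, V)) (m : M),
        r ∈ GrothLib.WeakAss.annSec (sec m) ↔ e r • m = 0 := fun r m => by
      rw [GrothLib.WeakAss.mem_annSec]
      have h1 : r • (sec m) = sec (e r • m) := by rw [← hsmul, e.symm_apply_apply]
      rw [h1]
      exact τ.map_eq_zero_iff
    have hcol : ∀ (a : A) (m : M), a ∈ (⊥ : Submodule A M).colon {m} ↔ a • m = 0 := fun a m => by
      simp [Submodule.mem_colon_singleton]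
    refine ⟨fun ⟨hp, m, hm⟩ => ?_, fun hfg hass => ?_⟩
    · rw [GrothLib.WeakAss.isAssPoint_iff_isWeakAssPoint]
      refine GrothLib.WeakAss.isWeakAssPoint_of_minimal hV (hx := trivial) (sec m) ⟨⟨inferInstance, fun r hr => ?_⟩, fun q hq hle r hr => ?_⟩
      · rw [hprime, hm]
        exact Ideal.le_radical ((hcol _ _).mpr ((hann r m).mp hr))
      · rw [hprime, hm] at hr
        obtain ⟨n, hn⟩ := hr
        refine hq.1.mem_of_pow_mem n (hq.2 ((hann _ m).mpr ?_))
        rw [map_pow]
        exact (hcol _ _).mp hn
    · rw [GrothLib.WeakAss.isAssPoint_iff_isWeakAssPoint] at hass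
      obtain ⟨z, hz⟩ := GrothLib.WeakAss.exists_minimal_of_isWeakAssPoint hV (x := p) trivial hass
      obtain ⟨m, rfl⟩ : ∃ m : M, (sec m) = z := τ.surjective z
      let J := (⊥ : Submodule A M).colon {m}
      have hJp : p.asIdeal ∈ J.minimalPrimes := by
        refine ⟨⟨p.isPrime, fun a ha => ?_⟩, fun q hq hle a ha => ?_⟩
        · have := hz.1.2 ((hann (e.symm a) m).mpr (by rw [e.apply_symm_apply]; exact (hcol _ _).mp ha))
          rwa [hprime, e.apply_symm_apply] at this
        · have := hq.1
          have hle' : q.comap (e : Γ(Spec A, V) →+* A) ≤ GrothLib.WeakAss.primeAt (V := V) p trivial :=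
            fun r hr => (hprime r).mpr (hle hr)
          have := hz.2 ⟨inferInstance, fun r hr => hq.2 ((hcol _ _).mpr ((hann r m).mp hr))⟩ hle'
            ((hprime (e.symm a)).mpr (by rw [e.apply_symm_apply]; exact ha))
          rwa [Ideal.mem_comap, RingHom.coe_coe, e.apply_symm_apply] at this
      obtain ⟨c, hc, n, hn⟩ : ∃ c ∉ p.asIdeal, ∃ n : ℕ, ∀ a ∈ p.asIdeal ^ n, c * a ∈ J := by
        let L := Localization.AtPrime p.asIdeal
        have hrad : (J.map (algebraMap A L)).radical = IsLocalRing.maximalIdeal L :=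
          (IsLocalization.AtPrime.radical_map_of_mem_minimalPrimes L p.asIdeal J hJp).trans (IsLocalization.AtPrime.map_eq_maximalIdeal p.asIdeal L)
        obtain ⟨n, hn⟩ := Ideal.exists_pow_le_of_le_radical_of_fg (I := p.asIdeal.map (algebraMap A L))
          (J := J.map (algebraMap A L)) (by rw [hrad, IsLocalization.AtPrime.map_eq_maximalIdeal]) (hfg.map _)
        rw [← Ideal.map_pow] at hn
        obtain ⟨S, hS⟩ := Ideal.FG.pow hfg (n := n)
        have hex : ∀ a ∈ S, ∃ c : p.asIdeal.primeCompl, (c : A) * a ∈ J := fun a ha => by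
          obtain ⟨c, hc, h⟩ := (IsLocalization.algebraMap_mem_map_algebraMap_iff p.asIdeal.primeCompl L _ _).mp
            (hn (Ideal.mem_map_of_mem _ (hS ▸ Ideal.subset_span ha)))
          exact ⟨⟨c, hc⟩, h⟩
        choose c hc using hex
        let b : p.asIdeal.primeCompl := ∏ a : S, c a a.2
        refine ⟨b, b.2, n, fun a ha => ?_⟩
        rw [← hS] at ha
        induction ha using Submodule.span_induction with
        | mem a ha =>
          rw [show b = c a ha * ∏ m ∈ Finset.univ.erase (⟨a, ha⟩ : S), c m m.2 from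
            (Finset.mul_prod_erase _ (fun m : S => c m m.2) (Finset.mem_univ ⟨a, ha⟩)).symm]
          rw [Submonoid.coe_mul, mul_right_comm]
          exact Ideal.mul_mem_right _ _ (hc a ha)
        | zero => simp
        | add y z _ _ hy hz => rw [mul_add]; exact add_mem hy hz
        | smul r y _ hy => rw [smul_eq_mul, mul_left_comm]; exact Ideal.mul_mem_left _ _ hy
      refine ⟨p.isPrime, c • m, le_antisymm ?_ ?_⟩
      · intro (a : A) ha
        refine ⟨n, ?_⟩
        rw [hcol, smul_smul, mul_comm, ← hcol]
        exact hn _ (Ideal.pow_mem_pow ha n)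
      · refine (Ideal.IsPrime.radical_le_iff p.isPrime).mpr fun (a : A) ha => ?_
        rw [hcol, smul_smul, ← hcol] at ha
        exact (p.isPrime.mem_or_mem (hJp.1.2 ha)).resolve_right hc

end Groth.Agent.S1578
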