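import Groth.Statements.S15784
-- import your own Groth.Agent.* helpers here
import Mathlib

set_option autoImplicit false
universe u
open Neron

namespace Groth.Agent.S15784

/-- Let O be a discrete valuation ring with fraction field L and uniformizer ϖ', let ϖ be an element of
the maximal ideal of O, let q = u·ϖ'^n with u a unit of O and n ≥ 1, and let m ≥ 1 be a divisor of
n. Then the following are equivalent: (i) there is a nonzero element z = w·ϖ'^a of L, with w a unit
of O and a an integer congruent to n/m modulo n, and an integer j such that z^m·q^j lies in 1 + ϖO;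
(ii) ϖ'^n/q is an m-th power in the group of units of O/ϖO, that is, u·(y^m + ϖ·r) = 1 for some y, r
∈ O. (The published statement phrases (i) geometrically, as the existence of a point of order m in
the special fibre of the Néron model of the Weil restriction of the Tate curve with parameter q from
L down to a subfield over which L is totally ramified with ϖ a uniformizer of the subfield, whose
image in the component group also has order m; this row states the equivalence between (i) and (ii)
that the printed argument establishes.) -/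
theorem result
    (O : Type u) [CommRing O] [IsDomain O] [IsDiscreteValuationRing O]
    (L : Type u) [Field L] [Algebra O L] [IsFractionRing O L]
    (ϖ' : O) (hϖ' : Irreducible ϖ') (ϖ : O) (hϖ : ϖ ∈ IsLocalRing.maximalIdeal O)
    (n : ℕ) (hn : 1 ≤ n) (u : Oˣ) (q : O) (hq : q = u * ϖ' ^ n)
    (m : ℕ) (hm : 1 ≤ m) (hmn : m ∣ n) :
    (∃ (w : Oˣ) (a j t : ℤ) (r : O), a = (n / m : ℕ) + t * n ∧
        (algebraMap O L w * algebraMap O L ϖ' ^ a) ^ m * algebraMap O L q ^ j = algebraMap O L (1 + ϖ * r)) ↔
      ∃ y r : O, (u : O) * (y ^ m + ϖ * r) = 1 := by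
  set φ := algebraMap O L with hφ
  have hinj : Function.Injective φ := IsFractionRing.injective O L
  have hπ : φ ϖ' ≠ 0 := (map_ne_zero_iff φ hinj).mpr hϖ'.ne_zero
  let U : Oˣ →* Lˣ := Units.map φ.toMonoidHom
  have hU : ∀ v : Oˣ, φ v = ((U v : Lˣ) : L) := fun v => rfl
  let P : Lˣ := Units.mk0 (φ ϖ') hπ
  have key : ∀ (v : Oˣ) (k : ℤ), P ^ k = U v → k = 0 := by
    have pos : ∀ (v : Oˣ) (k : ℕ), P ^ k = U v → k = 0 := by
      intro v k h
      by_contra hk
      have h1 : φ (ϖ' ^ k) = φ (v : O) := by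
        rw [map_pow]
        exact congrArg Units.val h
      have h2 : IsUnit (ϖ' ^ k) := hinj h1 ▸ v.isUnit
      exact hϖ'.not_isUnit ((isUnit_pow_iff hk).mp h2)
    intro v k h
    obtain ⟨k, rfl | rfl⟩ := Int.eq_nat_or_neg k
    · rw [zpow_natCast] at h
      rw [pos v k h, Nat.cast_zero]
    · rw [zpow_neg, zpow_natCast, inv_eq_iff_eq_inv, ← map_inv] at h
      rw [pos v⁻¹ k h, Nat.cast_zero, neg_zero]
  have hm' : ∀ s : O, IsUnit (1 + ϖ * s) := fun s => by
    by_contra hs
    have h1 : (1 + ϖ * s) - ϖ * s ∈ IsLocalRing.maximalIdeal O :=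
      sub_mem hs (Ideal.mul_mem_right _ _ hϖ)
    exact (IsLocalRing.mem_maximalIdeal _).mp (show (1 : O) ∈ IsLocalRing.maximalIdeal O by simpa using h1) isUnit_one
  obtain ⟨c, rfl⟩ := hmn
  have hc : ((m * c / m : ℕ) : ℤ) = c := by rw [Nat.mul_div_cancel_left _ hm]
  have hlhs : ∀ (w : Oˣ) (a j : ℤ), (φ w * φ ϖ' ^ a) ^ m * φ q ^ j =
      ((U (w ^ m) * U u ^ j * P ^ (a * m + (m * c : ℕ) * j) : Lˣ) : L) := by
    intro w a j
    rw [hq, map_mul, map_pow, zpow_add, zpow_mul, zpow_mul, map_pow]
    push_cast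
    rw [mul_pow, mul_zpow, zpow_natCast, ← zpow_natCast (φ ϖ') (m * c)]
    simp only [P, Units.val_mk0, hU, zpow_natCast]
    push_cast
    rw [← Nat.cast_mul, zpow_natCast]
    ring
  constructor
  · rintro ⟨w, a, j, t, r, ha, h⟩
    rw [hlhs] at h
    obtain ⟨v, hv⟩ := hm' r
    rw [← hv, hU] at h
    have h' := Units.val_injective h
    have hk : a * m + (m * c : ℕ) * j = 0 := by
      refine key (v * (u ^ j)⁻¹ * (w ^ m)⁻¹) _ ?_
      rw [map_mul, map_mul, map_inv, map_inv, ← h', map_zpow]
      rw [mul_comm (U (w ^ m) * U u ^ j) _, mul_assoc, mul_assoc]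
      simp
    have hj : j = -(1 + t * m) := by
      rw [ha, hc] at hk
      have hc0 : (c : ℤ) ≠ 0 := by
        intro h0
        have : c = 0 := by exact_mod_cast h0
        subst this
        simp at hn
      have : ((m : ℤ) * c) * (1 + t * m + j) = 0 := by push_cast at hk; linear_combination hk
      rcases mul_eq_zero.mp this with h0 | h0
      · rcases mul_eq_zero.mp h0 with h1 | h1
        · omega
        · exact absurd h1 hc0
      · omega
    rw [hk, zpow_zero, _root_.mul_one, ← map_zpow, ← map_mul] at h'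
    have h2 : w ^ m * u ^ j = v := (Units.map_injective (f := φ.toMonoidHom) hinj) h'
    rw [hj] at h2
    let z : Oˣ := w * (u ^ t)⁻¹
    have hz : z ^ m = u * v := by
      rw [← h2, mul_pow, inv_pow, zpow_neg, zpow_add, zpow_one, zpow_mul, zpow_natCast]
      simp [mul_comm, mul_left_comm]
      rw [mul_left_comm u, mul_inv_cancel_left]
    refine ⟨(z⁻¹ : Oˣ), r * ((z⁻¹ : Oˣ) : O) ^ m, ?_⟩
    have hz' : (z : O) ^ m = u * (1 + ϖ * r) := by
      rw [← hv]; exact_mod_cast congrArg Units.val hz
    have hzz : (z : O) ^ m * ((z⁻¹ : Oˣ) : O) ^ m = 1 := by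
      rw [← mul_pow, Units.mul_inv, one_pow]
    rw [hz'] at hzz
    linear_combination hzz
  · rintro ⟨y, r, h⟩
    have hy : IsUnit y := by
      by_contra hy
      have h1 : (u : O) * (y ^ m + ϖ * r) ∈ IsLocalRing.maximalIdeal O :=
        Ideal.mul_mem_left _ _ (add_mem (Ideal.pow_mem_of_mem _ hy m hm) (Ideal.mul_mem_right _ _ hϖ))
      rw [h] at h1
      exact (IsLocalRing.mem_maximalIdeal _).mp h1 isUnit_one
    obtain ⟨y, rfl⟩ := hy
    let v : Oˣ := (u * y ^ m)⁻¹
    refine ⟨y⁻¹, c, -1, 0, u * r * v, by rw [hc]; simp, ?_⟩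
    rw [hlhs, show ((c : ℤ) * m + (m * c : ℕ) * (-1)) = 0 by push_cast; ring, zpow_zero, _root_.mul_one,
      ← map_zpow, ← map_mul, ← hU]
    congr 1
    have hv : ((u : O) * (y : O) ^ m) * (v : O) = 1 := by
      have := congrArg Units.val (mul_inv_cancel (u * y ^ m))
      rw [Units.val_mul, Units.val_mul, Units.val_pow_eq_pow_val, Units.val_one] at this
      exact this
    have he : (y⁻¹ : Oˣ) ^ m * u ^ (-1 : ℤ) = v := by simp [v, mul_inv_rev, inv_pow, mul_comm]
    rw [he]
    linear_combination hv - (v : O) * h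

end Groth.Agent.S15784
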