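import Groth.Statements.S15791
import Mathlib.RingTheory.SimpleModule.Basic
import Mathlib.LinearAlgebra.Quotient.Basic
import Mathlib.Tactic.Ring
-- import your own Groth.Agent.* helpers here

set_option autoImplicit false
universe u v
open WildQuot

namespace Groth.Agent.S15791

/-- Let `A` be a regular local ring of Krull dimension `n` with maximal ideal `m`, let a finite group
`G` of order `g` act on `A` by ring automorphisms, and let `u_1, …, u_n` be an admissible regular
system of parameters: for every choice `σ_1, …, σ_n ∈ G`, the elements `σ_1 u_1, …, σ_n u_n`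
generate `m`. With `x_i = ∏_{σ ∈ G} σ u_i` the norms, the length of `A / (x_1, …, x_n)` is at most
`g ^ n`. (The published statement is for a complete regular local ring containing a `G`-fixed field
of representatives and asserts that the length equals `g ^ n`; this row states the upper bound for
any regular local ring.) -/
theorem result
    (A : Type u) [CommRing A] [IsRegularLocalRing A]
    (G : Type v) [Group G] [Fintype G] [MulSemiringAction G A]
    (n : ℕ) (hn : ringKrullDim A = n) (u : Fin n → A)
    (hu : ∀ τ : Fin n → G,
      Ideal.span (Set.range fun i => τ i • u i) = IsLocalRing.maximalIdeal A) :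
    Module.length A (A ⧸ Ideal.span (Set.range fun i => ∏ σ : G, σ • u i)) ≤
      (Fintype.card G ^ n : ℕ) := by
  classical
  -- sub-additivity of colength in one generator
  have step : ∀ (J : Ideal A) (a b : A), Module.length A (A ⧸ (J ⊔ Ideal.span {a * b})) ≤
      Module.length A (A ⧸ (J ⊔ Ideal.span {a})) + Module.length A (A ⧸ (J ⊔ Ideal.span {b})) := by
    intro J a b
    set I := J ⊔ Ideal.span {a * b} with hI
    have hle : I ≤ Submodule.comap (LinearMap.mulLeft A a) I := fun y hy => I.mul_mem_left a hy
    have hleb : J ⊔ Ideal.span {b} ≤ Submodule.comap (LinearMap.mulLeft A a) I := by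
      refine sup_le (fun y hy => le_sup_left (a := J) (J.mul_mem_left a hy)) ?_
      rw [Ideal.span_le, Set.singleton_subset_iff]
      exact Ideal.mem_sup_right (Ideal.mem_span_singleton_self _)
    have hla : I ≤ J ⊔ Ideal.span {a} :=
      sup_le le_sup_left (le_trans ((Ideal.span_singleton_le_span_singleton).2 (dvd_mul_right a b))
        le_sup_right)
    let f : (A ⧸ (J ⊔ Ideal.span {b})) →ₗ[A] A ⧸ I :=
      Submodule.mapQ (J ⊔ Ideal.span {b}) I (LinearMap.mulLeft A a) hleb
    let g : (A ⧸ I) →ₗ[A] A ⧸ (J ⊔ Ideal.span {a}) := Submodule.factor hla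
    have hg : Function.Surjective g := Submodule.factor_surjective hla
    have hker : LinearMap.ker g ≤ LinearMap.range f := by
      intro y hy
      obtain ⟨y, rfl⟩ := Submodule.Quotient.mk_surjective _ y
      have hy' : y ∈ J ⊔ Ideal.span {a} := by
        have := LinearMap.mem_ker.1 hy
        simpa [g] using (Submodule.Quotient.mk_eq_zero _).1 this
      obtain ⟨j, hj, w, hw, rfl⟩ := Submodule.mem_sup.1 hy'
      obtain ⟨r, rfl⟩ := Ideal.mem_span_singleton'.1 hw
      refine ⟨Submodule.Quotient.mk r, ?_⟩
      simp only [f, Submodule.mapQ_apply, LinearMap.mulLeft_apply]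
      rw [Submodule.Quotient.eq]
      have : a * r - (j + r * a) = -j := by ring
      rw [this]
      exact Ideal.mem_sup_left (neg_mem hj)
    have e := Module.length_eq_add_of_exact (LinearMap.ker g).subtype g
      Subtype.val_injective hg (fun y => by simp)
    rw [e, add_comm]
    refine add_le_add le_rfl ?_
    refine le_trans (Module.length_le_of_injective (Submodule.inclusion hker)
      (Submodule.inclusion_injective hker)) ?_
    exact Module.length_le_of_surjective f.rangeRestrict f.surjective_rangeRestrict
  have step2 : ∀ (J : Ideal A) (B : ℕ) (c : G → A),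
      (∀ σ, Module.length A (A ⧸ (J ⊔ Ideal.span {c σ})) ≤ (B : ℕ)) →
      ∀ s : Finset G, Module.length A (A ⧸ (J ⊔ Ideal.span {∏ σ ∈ s, c σ})) ≤ (s.card * B : ℕ) := by
    intro J B c hc s
    induction s using Finset.induction_on with
    | empty =>
      have : Subsingleton (A ⧸ (J ⊔ Ideal.span {∏ σ ∈ (∅ : Finset G), c σ})) :=
        Submodule.Quotient.subsingleton_iff.mpr (by
          rw [Finset.prod_empty, Ideal.span_singleton_one, sup_top_eq])
      rw [Module.length_eq_zero_iff.2 this]
      exact bot_le
    | @insert x s hx ih =>
      rw [Finset.prod_insert hx, Finset.card_insert_of_notMem hx]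
      refine le_trans (step _ _ _) ?_
      refine le_trans (add_le_add (hc x) ih) ?_
      rw [← Nat.cast_add]
      exact_mod_cast le_of_eq (by ring)
  -- induction: the first j coordinates are norms, the remaining ones are translates
  let N : Fin n → A := fun i => ∏ σ : G, σ • u i
  have main : ∀ j : ℕ, j ≤ n → ∀ τ : Fin n → G,
      Module.length A (A ⧸ Ideal.span (Set.range fun i : Fin n => if i.val < j then N i else τ i • u i))
        ≤ (Fintype.card G ^ j : ℕ) := by
    intro j
    induction j with
    | zero =>
      intro _ τ
      rw [show (fun i : Fin n => if i.val < 0 then N i else τ i • u i) = fun i => τ i • u i from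
        funext fun i => if_neg (Nat.not_lt_zero _), hu τ, pow_zero]
      haveI : IsSimpleModule A (A ⧸ IsLocalRing.maximalIdeal A) :=
        isSimpleModule_iff_isCoatom.2 (Ideal.isMaximal_def.1 (IsLocalRing.maximalIdeal.isMaximal A))
      rw [Module.length_eq_one A (A ⧸ IsLocalRing.maximalIdeal A)]
      simp
    | succ j ih =>
      intro hj τ
      let i₀ : Fin n := ⟨j, hj⟩
      let rest : Set A := (fun i : Fin n => if i.val < j then N i else τ i • u i) '' {i₀}ᶜ
      have hsplit : ∀ (v : Fin n → A) (w : A), v i₀ = w →
          (∀ i, i ≠ i₀ → v i = if i.val < j then N i else τ i • u i) →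
          Ideal.span (Set.range v) = Ideal.span rest ⊔ Ideal.span {w} := by
        intro v w hw hv
        rw [← Ideal.span_union]
        congr 1
        ext y
        simp only [rest, Set.mem_range, Set.mem_union, Set.mem_image, Set.mem_compl_iff,
          Set.mem_singleton_iff]
        constructor
        · rintro ⟨i, rfl⟩
          by_cases h : i = i₀
          · right; rw [h, hw]
          · left; exact ⟨i, h, (hv i h).symm⟩
        · rintro (⟨i, hi, rfl⟩ | rfl)
          · exact ⟨i, hv i hi⟩
          · exact ⟨i₀, hw⟩
      have hne : ∀ i : Fin n, i ≠ i₀ → i.val ≠ j := fun i hi h => hi (Fin.ext h)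
      rw [hsplit _ (N i₀) (by simp [i₀]) (fun i hi => by
        by_cases h : i.val < j
        · simp [h, Nat.lt_succ_of_lt h]
        · have : ¬ i.val < j + 1 := by have := hne i hi; omega
          simp [h, this])]
      have := step2 (Ideal.span rest) (Fintype.card G ^ j) (fun σ => σ • u i₀) (fun σ => by
        rw [← hsplit (fun i : Fin n => if i.val < j then N i else Function.update τ i₀ σ i • u i)
          (σ • u i₀) (by simp [i₀]) (fun i hi => by simp [Function.update_of_ne hi])]
        exact ih (Nat.le_of_succ_le hj) _) Finset.univ
      refine le_trans this (le_of_eq ?_)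
      rw [Finset.card_univ, pow_succ, mul_comm]
  have h := main n le_rfl (fun _ => 1)
  rw [show (fun i : Fin n => if i.val < n then N i else (1 : G) • u i) = N from
    funext fun i => if_pos i.isLt] at h
  exact h

end Groth.Agent.S15791
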