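import Groth.Statements.S15793
import Groth.Agent.Lib.WildQuot.Invariants
-- import your own Groth.Agent.* helpers here

set_option autoImplicit false
universe u v w
open WildQuot

namespace Groth.Agent.S15793

/-- Let `A` be a complete regular local ring of Krull dimension at least `2` and prime characteristic
`p`, with maximal ideal `m`; let `k` be a field with a ring map `k → A` whose composite with `A →
A/m` is onto (a field of representatives); let `G` be a group of order `p` acting on `A` by ring
automorphisms that fix the image of `k`, ramified precisely at the origin: for every prime `P ≠ m`,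
the inertia subgroup of `P` (the elements of `G` fixing every element of `A` modulo `P`) is trivial.
Then no element of `m` outside `m ^ 2` is fixed by every element of `G`; in particular the action is
not linear in any regular system of parameters. -/
theorem result
    (p : ℕ) [Fact p.Prime] (A : Type u) [CommRing A] [IsRegularLocalRing A] [CharP A p]
    [IsAdicComplete (IsLocalRing.maximalIdeal A) A] (hdim : 2 ≤ ringKrullDim A)
    (k : Type v) [Field k] [Algebra k A]
    (hk : Function.Surjective (IsLocalRing.residue A ∘ algebraMap k A))
    (G : Type w) [Group G] [Finite G] [MulSemiringAction G A] (hcard : Nat.card G = p)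
    (hGk : ∀ (σ : G) (c : k), σ • algebraMap k A c = algebraMap k A c)
    (hram : ∀ P : Ideal A, P.IsPrime → P ≠ IsLocalRing.maximalIdeal A → P.inertia G = ⊥)
    (v : A) (hv : v ∈ IsLocalRing.maximalIdeal A) (hv2 : v ∉ IsLocalRing.maximalIdeal A ^ 2) :
    ∃ σ : G, σ • v ≠ v := by
  obtain ⟨f, hf, hfG⟩ := GrothLib.WildQuot.exists_coeff_field hk hGk
  letI : Algebra (IsLocalRing.ResidueField A) A := f.toAlgebra
  haveI := GrothLib.CMFree.isDomain_of_isRegularLocalRing A
  haveI := Fintype.ofFinite G
  obtain ⟨n, hn, -⟩ := GrothLib.RegLoc.exists_dim_eq (R := A)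
  obtain ⟨u, hu⟩ := GrothLib.RegLoc.exists_generators_fin (IsLocalRing.maximalIdeal A)
  have hn2 : ringKrullDim A = (IsLocalRing.maximalIdeal A).spanFinrank :=
    (IsRegularLocalRing.spanFinrank_maximalIdeal (R := A)).symm
  have h1 : 1 ≤ (IsLocalRing.maximalIdeal A).spanFinrank := by
    rw [hn2] at hdim
    have : (2 : ℕ) ≤ (IsLocalRing.maximalIdeal A).spanFinrank := by exact_mod_cast hdim
    omega
  haveI : Nontrivial G := Finite.one_lt_card_iff_nontrivial.mp (hcard ▸ (Fact.out : p.Prime).one_lt)
  obtain ⟨σ, hσ⟩ := exists_ne (1 : G)
  exact ⟨σ, GrothLib.WildQuot.exists_smul_ne u hu hn2 h1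
    (GrothLib.WildQuot.exists_const (k := IsLocalRing.ResidueField A) hf hfG) hram σ hσ v hv hv2⟩

end Groth.Agent.S15793
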