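import Groth.Statements.S15796
import Mathlib.RingTheory.Ideal.KrullsHeightTheorem
-- import your own Groth.Agent.* helpers here

set_option autoImplicit false
universe u v
open WildQuot

namespace Groth.Agent.S15796

/-- Let `A` be a Noetherian local ring of Krull dimension `n` whose maximal ideal `m` is generated by
`u_1, …, u_n`, and let a finite group `G` act on `A` by ring automorphisms. If some `σ ∈ G` maps
some `u_i` into the ideal generated by the `u_j` with `j ≠ i`, then the system `u` is not weakly
admissible: for some choice `σ_1, …, σ_n ∈ G` the radical of `(σ_1 u_1, …, σ_n u_n)` does not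
contain `m`. (The published statement is for a linear action on `k[[u_1, …, u_n]]` whose matrix has
a zero diagonal entry; this row assumes instead that some `σ u_i` lies in the ideal generated by the
other `u_j`.) -/
theorem result
    (A : Type u) [CommRing A] [IsLocalRing A] [IsNoetherianRing A]
    (G : Type v) [Group G] [Finite G] [MulSemiringAction G A]
    (n : ℕ) (hn : ringKrullDim A = n) (u : Fin n → A)
    (hu : Ideal.span (Set.range u) = IsLocalRing.maximalIdeal A)
    (σ : G) (i : Fin n) (hσ : σ • u i ∈ Ideal.span (u '' {j | j ≠ i})) :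
    ∃ τ : Fin n → G,
      ¬ IsLocalRing.maximalIdeal A ≤ (Ideal.span (Set.range fun j => τ j • u j)).radical := by
  classical
  refine ⟨Function.update (fun _ => 1) i σ, fun h => ?_⟩
  let S : Finset A := (Finset.univ.erase i).image u
  have hle : Ideal.span (Set.range fun j => Function.update (fun _ : Fin n => (1 : G)) i σ j • u j) ≤
      Ideal.span (S : Set A) := by
    refine Ideal.span_le.2 ?_
    rintro _ ⟨j, rfl⟩
    rcases eq_or_ne j i with rfl | hj
    · show Function.update (fun _ : Fin n => (1 : G)) j σ j • u j ∈ _
      rw [Function.update_self]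
      refine (Ideal.span_mono ?_) hσ
      rintro _ ⟨k, hk, rfl⟩
      simp only [S, Finset.coe_image, Set.mem_image, Finset.mem_coe, Finset.mem_erase, Finset.mem_univ, and_true]
      exact ⟨k, hk, rfl⟩
    · show Function.update (fun _ : Fin n => (1 : G)) i σ j • u j ∈ _
      rw [Function.update_of_ne hj, one_smul]
      exact Ideal.subset_span (Finset.mem_coe.2 (Finset.mem_image_of_mem _ (Finset.mem_erase.2 ⟨hj, Finset.mem_univ j⟩)))
  have hSm : Ideal.span (S : Set A) ≤ IsLocalRing.maximalIdeal A := by
    rw [← hu]
    exact Ideal.span_mono (by simp [S])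
  have hmin : IsLocalRing.maximalIdeal A ∈ (Ideal.span (S : Set A)).minimalPrimes :=
    ⟨⟨inferInstance, hSm⟩, fun Q hQ _ => h.trans ((hQ.1.radical_le_iff).2 (hle.trans hQ.2))⟩
  have h3 := Ideal.height_le_card_of_mem_minimalPrimes_span_finset hmin
  rw [← IsLocalRing.maximalIdeal_height_eq_ringKrullDim] at hn
  have h4 : (IsLocalRing.maximalIdeal A).height = (n : ℕ∞) := by exact_mod_cast hn
  have h5 : S.card < n := by
    refine Finset.card_image_le.trans_lt ?_
    rw [Finset.card_erase_of_mem (Finset.mem_univ i), Finset.card_univ, Fintype.card_fin]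
    have := i.pos
    omega
  rw [h4] at h3
  exact absurd h3 (not_le.2 (by exact_mod_cast h5))

end Groth.Agent.S15796
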