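import Groth.Statements.S15800
import Groth.Agent.Lib.WildQuot.LiftAut
-- import your own Groth.Agent.* helpers here

set_option autoImplicit false
universe u v w
open WildQuot

namespace Groth.Agent.S15800

/-- Let `A` be a complete regular local ring of Krull dimension at least `2` and prime characteristic
`p`; let `k` be a field with `k → A` mapping onto the residue field, such that `k` has no Galois
extension of degree `p`; let `G` be a group of order `p` acting on `A` by `k`-algebra automorphisms,
ramified precisely at the origin (for every non-maximal prime `P`, the inertia subgroup of `P` (the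
elements of `G` fixing every element modulo `P`) is trivial). Then every `k`-algebra automorphism of
the ring of invariants `A^G` is the restriction of a `k`-algebra automorphism of `A`. (The published
statement also asserts that when `A^G` contains a subring `R` with `A^G` finite over `R` and
`Frac(A^G)/Frac(R)` Galois, then `Frac(A)/Frac(R)` is Galois; this row omits that clause.) -/
theorem result
    (p : ℕ) [Fact p.Prime] (A : Type u) [CommRing A] [IsRegularLocalRing A] [CharP A p]
    [IsAdicComplete (IsLocalRing.maximalIdeal A) A] (hdim : 2 ≤ ringKrullDim A)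
    (k : Type v) [Field k] [Algebra k A]
    (hk : Function.Surjective (IsLocalRing.residue A ∘ algebraMap k A))
    (hkp : ∀ (L : Type v) [Field L] [Algebra k L], IsGalois k L → Module.finrank k L ≠ p)
    (G : Type w) [Group G] [Finite G] [MulSemiringAction G A] (hcard : Nat.card G = p)
    [SMulCommClass G k A]
    (hram : ∀ P : Ideal A, P.IsPrime → P ≠ IsLocalRing.maximalIdeal A → P.inertia G = ⊥)
    (φ : FixedPoints.subalgebra k A G ≃ₐ[k] FixedPoints.subalgebra k A G) :
    ∃ ψ : A ≃ₐ[k] A, ∀ x : FixedPoints.subalgebra k A G, ψ x = φ x := by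
  classical
  haveI := GrothLib.CMFree.isDomain_of_isRegularLocalRing A
  have hp := (Fact.out : p.Prime)
  have hGk : ∀ (σ : G) (c : k), σ • algebraMap k A c = algebraMap k A c := fun σ c => smul_algebraMap σ c
  have hbot : (⊥ : Ideal A) ≠ IsLocalRing.maximalIdeal A := fun h => by
    rw [← IsLocalRing.maximalIdeal_height_eq_ringKrullDim, ← h, Ideal.height_bot] at hdim
    exact absurd (WithBot.coe_le_coe.mp hdim) (by simp)
  let ρ := MulSemiringAction.toRingAut G A
  have hρ : Function.Injective ρ := by
    rw [injective_iff_map_eq_one]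
    intro g hg
    exact (Subgroup.eq_bot_iff_forall _).mp (hram ⊥ Ideal.isPrime_bot hbot) g fun a => by
      show g • a - a ∈ (⊥ : Ideal A)
      rw [Ideal.mem_bot, sub_eq_zero]
      exact RingEquiv.congr_fun hg a
  let e := MonoidHom.ofInjective hρ
  haveI : Finite ρ.range := Finite.of_equiv G e.toEquiv
  haveI := Fintype.ofFinite ρ.range
  have hcard' : Fintype.card ρ.range = p := by
    rw [← Nat.card_eq_fintype_card, ← hcard]
    exact (Nat.card_congr e.toEquiv).symm
  have hram' : ∀ P : Ideal A, P.IsPrime → P ≠ IsLocalRing.maximalIdeal A → P.inertia ρ.range = ⊥ := by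
    intro P hP hne
    rw [Subgroup.eq_bot_iff_forall]
    intro g hg
    obtain ⟨g, rfl⟩ := e.surjective g
    rw [(Subgroup.eq_bot_iff_forall _).mp (hram P hP hne) g (fun a => hg a), map_one]
  obtain ⟨f, hf, hfσ⟩ := GrothLib.WildQuot.exists_coeff_field hk hGk
  letI : Algebra (IsLocalRing.ResidueField A) A := f.toAlgebra
  have hfσ' : ∀ (σ : ρ.range) (c : IsLocalRing.ResidueField A),
      σ • algebraMap (IsLocalRing.ResidueField A) A c = algebraMap (IsLocalRing.ResidueField A) A c := by
    intro σ c
    obtain ⟨g, rfl⟩ := e.surjective σ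
    exact hfσ g c
  obtain ⟨-, hfin, -, -⟩ := GrothLib.WildQuot.fixed_facts hf hcard' hfσ'
  haveI := hfin
  haveI : IsLocalRing (FixedPoints.subring A ρ.range) := GrothLib.WildQuot.isLocalRing_fixed
  let B := FixedPoints.subring A ρ.range
  let j : B ≃+* FixedPoints.subalgebra k A G :=
    { toFun := fun b => ⟨b.1, fun g => b.2 (e g)⟩
      invFun := fun b => ⟨b.1, fun s => by obtain ⟨g, rfl⟩ := e.surjective s; exact b.2 g⟩
      left_inv := fun b => rfl
      right_inv := fun b => rfl
      map_mul' := fun a b => rfl
      map_add' := fun a b => rfl }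
  let ek : k ≃+* IsLocalRing.ResidueField A :=
    RingEquiv.ofBijective ((IsLocalRing.residue A).comp (algebraMap k A)) ⟨RingHom.injective _, hk⟩
  have hkp' : ∀ (L' : Type u) [Field L'] [Algebra (IsLocalRing.ResidueField A) L'],
      IsGalois (IsLocalRing.ResidueField A) L' → Module.finrank (IsLocalRing.ResidueField A) L' ≠ p :=
    fun L' _ _ hg => GrothLib.WildQuot.LiftAut.no_galois_of_equiv ek p hkp hp.ne_zero L' hg
  let φB : B ≃+* B := j.trans (φ.toRingEquiv.trans j.symm)
  have hc := (Nat.card_eq_fintype_card (α := ρ.range)).trans hcard'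
  obtain ⟨ψ, hψ⟩ := GrothLib.WildQuot.LiftAut.exists_lift_hom hp hc hdim hram' hkp' φB
  obtain ⟨ψ', hψ'⟩ := GrothLib.WildQuot.LiftAut.exists_lift_hom hp hc hdim hram' hkp' φB.symm
  haveI : Algebra.IsInvariant B A ρ.range := ⟨fun a ha => ⟨⟨a, ha⟩, rfl⟩⟩
  haveI : SMulCommClass ρ.range B A := ⟨fun g b a => by
    show g • ((b : A) * a) = (b : A) * g • a
    rw [smul_mul', b.2 g]⟩
  have key : ∀ (u v : A →+* A) (φ₀ : B ≃+* B), (∀ b : B, u b = φ₀ b) → (∀ b : B, v b = φ₀.symm b) →
      Function.Bijective (v.comp u) := by
    intro u v φ₀ hu hv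
    obtain ⟨g, hg⟩ := GrothLib.SGA1Quot21.exists_smul_ringHom_eq (G := ρ.range) (B := B)
      (v.comp u) (RingHom.id A) fun b => by
        show v (u (b : A)) = (b : A)
        rw [hu, hv, RingEquiv.symm_apply_apply]
    rw [show (⇑(v.comp u) : A → A) = fun a => g • a from funext hg]
    exact MulAction.bijective g
  have h1 := key ψ ψ' φB hψ hψ'
  have h2 := key ψ' ψ φB.symm hψ' hψ
  have hbij : Function.Bijective ψ := ⟨Function.Injective.of_comp h1.1, Function.Surjective.of_comp h2.2⟩
  refine ⟨AlgEquiv.ofBijective { ψ with commutes' := fun c => ?_ } hbij, fun x => hψ (j.symm x)⟩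
  have h3 := hψ ⟨algebraMap k A c, fun s => by obtain ⟨g, rfl⟩ := e.surjective s; exact hGk g c⟩
  refine h3.trans ?_
  show ((φ (algebraMap k (FixedPoints.subalgebra k A G) c) : FixedPoints.subalgebra k A G) : A) = _
  rw [AlgEquiv.commutes]
  rfl

end Groth.Agent.S15800
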