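import Groth.Statements.S15803
import Groth.Agent.Lib.Purity.Inertia
-- import your own Groth.Agent.* helpers here

set_option autoImplicit false
universe u v w
open WildQuot

namespace Groth.Agent.S15803

/-- Let `R` be a regular local ring and `A` a normal local domain, finite over `R` (with `R → A`
injective) and with the same residue field; let a finite group `H` act faithfully on `A` by
`R`-algebra automorphisms with ring of invariants exactly `R` (so `Frac(A)/Frac(R)` is Galois with
group `H`); let `p` be a prime and suppose that every nontrivial inertia subgroup of a height-one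
prime of `A` has order `p` and is normal in `H`. Then `H` is commutative and every element satisfies
`h ^ p = 1`: `H` is an elementary abelian `p`-group (of order the degree of `Frac(A)` over
`Frac(R)`). (The published statement is for `A` a complete regular local ring with an action
ramified precisely at the origin, `R = k[[x_1, …, x_n]]` a norm subring and `H` the Galois group of
`Frac(A)/Frac(R)`, when that extension is Galois; this row assumes only the hypotheses listed
above.) -/
theorem result
    (p : ℕ) [Fact p.Prime] (R : Type u) [CommRing R] [IsRegularLocalRing R]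
    (A : Type v) [CommRing A] [IsDomain A] [IsIntegrallyClosed A] [IsLocalRing A]
    [Algebra R A] [Module.Finite R A] (hinj : Function.Injective (algebraMap R A))
    (hres : Function.Surjective (IsLocalRing.residue A ∘ algebraMap R A))
    (H : Type w) [Group H] [Finite H] [MulSemiringAction H A] [SMulCommClass H R A] [FaithfulSMul H A]
    (hfix : ∀ a : A, (∀ h : H, h • a = a) → a ∈ Set.range (algebraMap R A))
    (hMR2 : ∀ P : Ideal A, P.IsPrime → P.height = 1 → P.inertia H ≠ ⊥ →
      Nat.card (P.inertia H) = p ∧ (P.inertia H).Normal) :
    (∀ g h : H, g * h = h * g) ∧ ∀ h : H, h ^ p = 1 := by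
  classical
  have htop := GrothLib.Purity.iSup_inertia_eq_top R A hinj hres H hfix
  let I : {P : Ideal A // P.IsPrime ∧ P.height = 1} → Subgroup H := fun P => P.1.inertia H
  have hp := (Fact.out : p.Prime)
  have hI : ∀ P x, x ∈ I P → x ^ p = 1 ∧ ∀ Q y, y ∈ I Q → x * y = y * x := by
    intro P x hx
    by_cases hPb : I P = ⊥
    · rw [hPb, Subgroup.mem_bot] at hx
      subst hx
      exact ⟨one_pow _, fun Q y _ => by simp⟩
    obtain ⟨hcard, hN⟩ := hMR2 P.1 P.2.1 P.2.2 hPb
    refine ⟨?_, fun Q y hy => ?_⟩
    · have h1 : (⟨x, hx⟩ : P.1.inertia H) ^ Nat.card (P.1.inertia H) = 1 := pow_card_eq_one'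
      rw [hcard] at h1
      exact congrArg Subtype.val h1
    by_cases hQb : I Q = ⊥
    · rw [hQb, Subgroup.mem_bot] at hy
      subst hy
      simp
    obtain ⟨hcardQ, hNQ⟩ := hMR2 Q.1 Q.2.1 Q.2.2 hQb
    by_cases hd : Disjoint (P.1.inertia H) (Q.1.inertia H)
    · exact Subgroup.commute_of_normal_of_disjoint _ _ hN hNQ hd x y hx hy
    · have heq : P.1.inertia H = Q.1.inertia H := by
        rw [disjoint_iff] at hd
        have h1 : ∀ K : Subgroup H, Nat.card K = p →
            P.1.inertia H ⊓ Q.1.inertia H ≤ K → P.1.inertia H ⊓ Q.1.inertia H = K := by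
          intro K hK hle
          refine Subgroup.eq_of_le_of_card_ge hle ?_
          have hdvd := Subgroup.card_dvd_of_le hle
          rw [hK] at hdvd
          rcases (Nat.dvd_prime hp).mp hdvd with h | h
          · exact absurd (Subgroup.card_eq_one.mp h) hd
          · rw [hK, h]
        exact (h1 _ hcard inf_le_left).symm.trans (h1 _ hcardQ inf_le_right)
      haveI : IsCyclic (P.1.inertia H) := isCyclic_of_prime_card hcard
      haveI : IsMulCommutative (P.1.inertia H) := inferInstance
      have hy : y ∈ P.1.inertia H := heq ▸ hy
      exact congrArg Subtype.val (IsMulCommutative.is_comm.comm (⟨x, hx⟩ : P.1.inertia H) ⟨y, hy⟩)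
  have hmem : ∀ g : H, g ∈ ⨆ P, I P := fun g => by
    show g ∈ ⨆ P : {P : Ideal A // P.IsPrime ∧ P.height = 1}, P.1.inertia H
    rw [htop]; trivial
  have hcomm : ∀ g h : H, g * h = h * g := by
    intro g
    induction hmem g using Subgroup.iSup_induction' with
    | hp P x hx =>
      intro h
      induction hmem h using Subgroup.iSup_induction' with
      | hp Q y hy => exact (hI P x hx).2 Q y hy
      | h1 => simp
      | hmul a b _ _ ha hb => rw [← mul_assoc, ha, mul_assoc, hb, mul_assoc]
    | h1 => simp
    | hmul a b _ _ ha hb => intro h; rw [mul_assoc, hb h, ← mul_assoc, ha h, mul_assoc]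
  refine ⟨hcomm, fun h => ?_⟩
  induction hmem h using Subgroup.iSup_induction' with
  | hp P x hx => exact (hI P x hx).1
  | h1 => exact one_pow _
  | hmul a b _ _ ha hb => rw [(show Commute a b from hcomm a b).mul_pow, ha, hb, mul_one]

end Groth.Agent.S15803
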