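import Groth.Statements.S15806
import Groth.Agent.Lib.FlatExt.Basic
-- import your own Groth.Agent.* helpers here

set_option autoImplicit false
universe u
open CategoryTheory AlgebraicGeometry
open WildQuot

namespace Groth.Agent.S15806

/-- Let `S` be a Noetherian scheme, `G_1 → S` and `G_2 → S` finite flat morphisms, and `U ⊆ S` an open
subset containing every associated point of `S`, i.e. every point whose local ring has the maximal
ideal as an associated prime (for `S` Noetherian this says exactly that `U` is dense and contains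
all points at which `S` does not satisfy Serre's condition `S_1`, which is the printed hypothesis).
If two `S`-morphisms `φ, ψ : G_1 → G_2` agree on the preimage of `U`, then `φ = ψ`. -/
theorem result
    (S G₁ G₂ : Scheme.{u}) [AlgebraicGeometry.IsNoetherian S] (f₁ : G₁ ⟶ S) (f₂ : G₂ ⟶ S)
    [AlgebraicGeometry.IsFinite f₁] [AlgebraicGeometry.Flat f₁]
    [AlgebraicGeometry.IsFinite f₂] [AlgebraicGeometry.Flat f₂]
    (U : S.Opens)
    (hU : ∀ s : S, IsLocalRing.maximalIdeal (S.presheaf.stalk s) ∈
        associatedPrimes (S.presheaf.stalk s) (S.presheaf.stalk s) → s ∈ U)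
    (φ ψ : G₁ ⟶ G₂) (hφ : φ ≫ f₂ = f₁) (hψ : ψ ≫ f₂ = f₁)
    (h : (f₁ ⁻¹ᵁ U).ι ≫ φ = (f₁ ⁻¹ᵁ U).ι ≫ ψ) : φ = ψ := by
  exact GrothLib.FlatExt.eq_of_over f₂ f₁ (GrothLib.FlatExt.depthOneGen_of_ass hU) φ ψ hφ hψ h

end Groth.Agent.S15806
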