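import Groth.Statements.S15809
import Mathlib
import Groth.Agent.Lib.FlatIso1.Basic
-- import your own Groth.Agent.* helpers here

set_option autoImplicit false
universe u
open CategoryTheory MonoidalCategory CartesianMonoidalCategory AlgebraicGeometry Limits
open WildQuot

namespace Groth.Agent.S15809

/-- Let `S` be a Noetherian scheme, `G` a finite flat `S`-group scheme and `Y` a finite flat `S`-scheme
with an action of `G`; let `Ψ : G ×_S Y → Y ×_S Y` be `(g, y) ↦ (g y, y)`. Suppose that for every
point `s ∈ S` of codimension at most `1` (local ring of dimension `≤ 1`) the fibre `Y_s` is a torsor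
under `G_s`: it is nonempty and the base change of `Ψ` to `Spec κ(s)` is an isomorphism. Then `Y` is
a `G`-torsor: `Ψ` is an isomorphism and `Y → S` is surjective (so the finite flat cover `Y → S`
itself trivialises `Y`). -/
theorem result
    (S : Scheme.{u}) [AlgebraicGeometry.IsNoetherian S]
    (G Y : Over S) [GrpObj G]
    [AlgebraicGeometry.IsFinite G.hom] [AlgebraicGeometry.Flat G.hom]
    [AlgebraicGeometry.IsFinite Y.hom] [AlgebraicGeometry.Flat Y.hom]
    (a : AlgGrp.Action G Y)
    (hfib : ∀ s : S, ringKrullDim (S.presheaf.stalk s) ≤ 1 →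
      s ∈ Set.range Y.hom.base ∧
      IsIso (pullback.map (G ⊗ Y).hom (S.fromSpecResidueField s) (Y ⊗ Y).hom (S.fromSpecResidueField s)
        (CartesianMonoidalCategory.lift a.act (CartesianMonoidalCategory.snd G Y)).left
        (𝟙 _) (𝟙 S)
        ((Category.comp_id _).trans
          (Over.w (CartesianMonoidalCategory.lift a.act (CartesianMonoidalCategory.snd G Y))).symm)
        ((Category.comp_id _).trans (Category.id_comp _).symm))) :
    IsIso (CartesianMonoidalCategory.lift a.act (CartesianMonoidalCategory.snd G Y)).left ∧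
      Function.Surjective Y.hom.base := by
  set L := (CartesianMonoidalCategory.lift a.act (CartesianMonoidalCategory.snd G Y)) with hL
  set Ψ := L.left with hΨ
  have hw : Ψ ≫ (Y ⊗ Y).hom = (G ⊗ Y).hom := Over.w L
  haveI : AlgebraicGeometry.IsFinite (G ⊗ Y).hom := by rw [Over.tensorObj_hom]; infer_instance
  haveI : AlgebraicGeometry.Flat (G ⊗ Y).hom := by rw [Over.tensorObj_hom]; infer_instance
  haveI : AlgebraicGeometry.IsFinite (Y ⊗ Y).hom := by rw [Over.tensorObj_hom]; infer_instance
  haveI : AlgebraicGeometry.Flat (Y ⊗ Y).hom := by rw [Over.tensorObj_hom]; infer_instance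
  haveI : AlgebraicGeometry.IsFinite (Ψ ≫ (Y ⊗ Y).hom) := by rw [hw]; infer_instance
  haveI : AlgebraicGeometry.Flat (Ψ ≫ (Y ⊗ Y).hom) := by rw [hw]; infer_instance
  refine ⟨GrothLib.FlatIso1.isIso_of_codim_le_one Ψ (Y ⊗ Y).hom fun s hs => ?_,
    GrothLib.FlatIso1.surjective_of_codim_zero Y.hom fun s hs => (hfib s hs).1⟩
  obtain ⟨-, hiso⟩ := hfib s hs
  let mp := pullback.map (G ⊗ Y).hom (S.fromSpecResidueField s) (Y ⊗ Y).hom (S.fromSpecResidueField s)
    Ψ (𝟙 _) (𝟙 S) ((Category.comp_id _).trans hw.symm) ((Category.comp_id _).trans (Category.id_comp _).symm)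
  have hsq : IsPullback (pullback.fst (G ⊗ Y).hom (S.fromSpecResidueField s)) mp Ψ
      (pullback.fst (Y ⊗ Y).hom (S.fromSpecResidueField s)) := by
    refine IsPullback.of_bot ?_ (pullback.lift_fst _ _ _).symm (IsPullback.of_hasPullback _ _)
    have h2 : mp ≫ pullback.snd _ _ = pullback.snd (G ⊗ Y).hom (S.fromSpecResidueField s) :=
      (pullback.lift_snd _ _ _).trans (Category.comp_id _)
    rw [h2, hw]
    exact IsPullback.of_hasPullback _ _
  haveI : IsIso mp := hiso
  rw [← hsq.isoPullback_inv_snd]
  infer_instance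

end Groth.Agent.S15809
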