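import Groth.Statements.S15811
import Mathlib
-- import your own Groth.Agent.* helpers here

set_option autoImplicit false
universe u
open WildQuot

namespace Groth.Agent.S15811

/-- Let `R` be an integrally closed domain of prime characteristic `p` with fraction field `K`, and `α ∈
R`. Then `α ≠ 0` and the polynomial `T ^ p - α T` splits into linear factors over `K` — which says
that the finite flat group scheme `Spec R[T]/(T ^ p - α T)` of order `p` has constant generic fibre
(its `p` roots are then distinct) — if and only if `α = a ^ (p-1)` for some nonzero `a ∈ R`. (The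
published statement is that the generic fibre of the finite flat group scheme of order `p` with
parameters `α, β` satisfying `α β = 0`, whose underlying scheme is `Spec R[T]/(T ^ p - α T)`, is
constant if and only if `β = 0` and `α` is the `(p-1)`-th power of a nonzero element of `R`; this
row states the polynomial condition, in which `α ≠ 0` already forces `β = 0` over a domain.) -/
theorem result
    (p : ℕ) [Fact p.Prime] (R : Type u) [CommRing R] [IsDomain R] [IsIntegrallyClosed R]
    [CharP R p] (α : R) :
    (α ≠ 0 ∧ (Polynomial.map (algebraMap R (FractionRing R))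
        (Polynomial.X ^ p - Polynomial.C α * Polynomial.X)).Splits) ↔
      ∃ a : R, a ≠ 0 ∧ α = a ^ (p - 1) := by
  have hp : p.Prime := Fact.out
  set K := FractionRing R
  have hmap : Polynomial.map (algebraMap R K) (Polynomial.X ^ p - Polynomial.C α * Polynomial.X) =
      Polynomial.X ^ p - Polynomial.C (algebraMap R K α) * Polynomial.X := by
    simp
  rw [hmap]
  constructor
  · rintro ⟨hα, hs⟩
    have hβ : algebraMap R K α ≠ 0 := by simpa using hα
    set β := algebraMap R K α
    have hp2 : p - 1 ≠ 0 := by have := hp.two_le; omega
    have hmon : (Polynomial.X ^ (p - 1) - Polynomial.C β).Monic :=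
      Polynomial.monic_X_pow_sub_C _ hp2
    have hfac : Polynomial.X ^ p - Polynomial.C β * Polynomial.X =
        (Polynomial.X ^ (p - 1) - Polynomial.C β) * Polynomial.X := by
      rw [sub_mul, ← pow_succ, Nat.sub_add_cancel hp.one_le]
    have hne : Polynomial.X ^ p - Polynomial.C β * Polynomial.X ≠ 0 := by
      rw [hfac]; exact mul_ne_zero hmon.ne_zero Polynomial.X_ne_zero
    have hs' := Polynomial.Splits.of_dvd hs hne ⟨Polynomial.X, hfac⟩
    obtain ⟨r, hr⟩ := hs'.exists_eval_eq_zero (by
      rw [Polynomial.degree_X_pow_sub_C (by omega)]; exact_mod_cast hp2)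
    simp only [Polynomial.eval_sub, Polynomial.eval_pow, Polynomial.eval_X, Polynomial.eval_C,
      sub_eq_zero] at hr
    obtain ⟨a, ha⟩ : ∃ a : R, algebraMap R K a = r := by
      refine IsIntegrallyClosed.isIntegral_iff.mp ⟨Polynomial.X ^ (p - 1) - Polynomial.C α,
        Polynomial.monic_X_pow_sub_C _ hp2, ?_⟩
      simp [hr, β]
    refine ⟨a, ?_, ?_⟩
    · rintro rfl
      rw [map_zero] at ha
      rw [← ha, zero_pow hp2] at hr
      exact hβ hr.symm
    · apply IsFractionRing.injective R K
      rw [map_pow, ha, hr]
  · rintro ⟨a, ha, rfl⟩
    refine ⟨pow_ne_zero _ ha, ?_⟩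
    haveI : CharP K p := charP_of_injective_ringHom (IsFractionRing.injective R K) p
    classical
    rw [map_pow]
    have hb : algebraMap R K a ≠ 0 := by simpa using ha
    set b := algebraMap R K a
    set f := Polynomial.X ^ p - Polynomial.C (b ^ (p - 1)) * Polynomial.X
    have hdeg : f.natDegree = p := by
      apply Polynomial.natDegree_eq_of_degree_eq_some
      rw [Polynomial.degree_sub_eq_left_of_degree_lt, Polynomial.degree_X_pow]
      refine lt_of_le_of_lt (Polynomial.degree_C_mul_X_le _) ?_
      rw [Polynomial.degree_X_pow]; exact_mod_cast hp.one_lt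
    have hf0 : f ≠ 0 := by
      intro h; rw [h, Polynomial.natDegree_zero] at hdeg; exact hp.ne_zero hdeg.symm
    rw [Polynomial.splits_iff_card_roots, hdeg]
    apply le_antisymm (hdeg ▸ Polynomial.card_roots' f)
    let e : ZMod p → K := fun j => ZMod.castHom dvd_rfl K j * b
    have hinj : Function.Injective e := fun i j h =>
      (ZMod.castHom dvd_rfl K).injective (mul_right_cancel₀ hb h)
    have hroot : ∀ j, e j ∈ f.roots := by
      intro j
      rw [Polynomial.mem_roots hf0]
      simp only [Polynomial.IsRoot, f, e, Polynomial.eval_sub, Polynomial.eval_pow,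
        Polynomial.eval_X, Polynomial.eval_mul, Polynomial.eval_C, mul_pow]
      rw [← map_pow, ZMod.pow_card, mul_left_comm, ← pow_succ, Nat.sub_add_cancel hp.one_le, sub_self]
    calc p = (Finset.univ.image e).card := by
          rw [Finset.card_image_of_injective _ hinj, Finset.card_univ, ZMod.card]
      _ ≤ f.roots.toFinset.card := Finset.card_le_card (by
          intro x hx
          obtain ⟨j, -, rfl⟩ := Finset.mem_image.mp hx
          exact Multiset.mem_toFinset.mpr (hroot j))
      _ ≤ _ := Multiset.toFinset_card_le _

end Groth.Agent.S15811
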