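import Groth.Statements.S15813
import Mathlib
-- import your own Groth.Agent.* helpers here

set_option autoImplicit false
universe u
open WildQuot

namespace Groth.Agent.S15813

/-- Let `k` be a field of characteristic `p > 0`, `A = k[[u]]`, and `σ` a `k`-algebra automorphism of
`A` of order exactly `p`, with ramification break `m`: `σ u - u` has order `m + 1`. Let `x = ∏_{i <
p} σ^i u` be the norm of `u`, let `f ∈ A` be `σ`-invariant with nonzero constant term (a unit of the
invariant ring `k[[x]]`), let `μ > 0` be prime to `p`, and let `z ∈ Frac(A)` satisfy the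
Artin–Schreier equation `z ^ p - z = f / x ^ μ`. Then `μ = m`. (The published statement also records
that `Frac(A) = Frac(A^σ)(z)`; that follows from the equation since `p` does not divide `μ`, so it
is not repeated as a hypothesis.) -/
theorem result
    (p : ℕ) [Fact p.Prime] (k : Type u) [Field k] [CharP k p]
    (σ : PowerSeries k ≃ₐ[k] PowerSeries k) (hσp : σ ^ p = 1) (hσ1 : σ ≠ 1)
    (m : ℕ) (hm : (σ PowerSeries.X - PowerSeries.X).order = ((m + 1 : ℕ) : ℕ∞))
    (f : PowerSeries k) (hfσ : σ f = f) (hf0 : PowerSeries.constantCoeff f ≠ 0)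
    (μ : ℕ) (hμ : 0 < μ) (hpμ : ¬ p ∣ μ)
    (z : FractionRing (PowerSeries k))
    (hz : z ^ p - z = algebraMap (PowerSeries k) (FractionRing (PowerSeries k)) f /
      algebraMap (PowerSeries k) (FractionRing (PowerSeries k))
        (∏ i ∈ Finset.range p, (σ ^ i) PowerSeries.X) ^ μ) :
    μ = m := by
  have hp : p.Prime := Fact.out
  haveI : CharP (PowerSeries k) p :=
    charP_of_injective_ringHom (f := (PowerSeries.C : k →+* PowerSeries k)) PowerSeries.C_injective p
  haveI : ExpChar (PowerSeries k) p := ExpChar.prime hp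
  set u : PowerSeries k := PowerSeries.X with hu
  set s : (PowerSeries k) := σ u
  have hC : ∀ c : k, σ (PowerSeries.C c) = PowerSeries.C c := fun c => σ.commutes c
  obtain ⟨δ, hδ⟩ : u ^ (m + 1) ∣ s - u := by
    have := PowerSeries.X_pow_order_dvd (φ := s - u)
    rwa [hm, ENat.toNat_natCast] at this
  have hδ0 : PowerSeries.constantCoeff δ ≠ 0 := by
    intro h
    obtain ⟨δ', rfl⟩ := PowerSeries.X_dvd_iff.mpr h
    have := congrArg PowerSeries.order hδ
    rw [hm, ← mul_assoc, ← pow_succ, PowerSeries.order_mul, PowerSeries.order_X_pow] at this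
    have h2 : ((m + 1 + 1 : ℕ) : ℕ∞) ≤ ((m + 1 : ℕ) : ℕ∞) := this ▸ le_self_add
    have : m + 1 + 1 ≤ m + 1 := by exact_mod_cast h2
    omega
  have hs : u ∣ s := ⟨1 + u ^ m * δ, by linear_combination hδ⟩
  -- m ≥ 1
  have hm1 : 1 ≤ m := by
    by_contra hm0
    obtain rfl : m = 0 := by omega
    simp only [zero_add, pow_one, pow_zero, one_mul] at hδ
    set a := PowerSeries.constantCoeff (1 + δ)
    have hsa : ∀ j : ℕ, ∃ r : (PowerSeries k), (σ ^ j) u = u * r ∧ PowerSeries.constantCoeff r = a ^ j := by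
      intro j
      induction j with
      | zero => exact ⟨1, by simp, by simp⟩
      | succ j ih =>
        obtain ⟨r, hr, hr0⟩ := ih
        have hc : ∀ t : (PowerSeries k), PowerSeries.constantCoeff (σ t) = PowerSeries.constantCoeff t := fun t => by
          obtain ⟨t', ht'⟩ : (PowerSeries.X : (PowerSeries k)) ∣ t - PowerSeries.C (PowerSeries.constantCoeff t) :=
            PowerSeries.X_dvd_iff.mpr (by simp)
          have : σ t = PowerSeries.C (PowerSeries.constantCoeff t) + u * ((1 + δ) * σ t') := by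
            conv_lhs => rw [← sub_add_cancel t (PowerSeries.C (PowerSeries.constantCoeff t)), ht']
            rw [map_add, map_mul, hC, show σ u = u * (1 + δ) by linear_combination hδ]
            ring
          rw [this]
          simp [u]
        refine ⟨(1 + δ) * σ r, ?_, ?_⟩
        · rw [pow_succ', AlgEquiv.mul_apply, hr, map_mul, show σ u = u * (1 + δ) by linear_combination hδ]
          ring
        · rw [map_mul, hc, hr0, pow_succ']
    obtain ⟨r, hr, hr0⟩ := hsa p
    rw [hσp, AlgEquiv.one_apply] at hr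
    have hr1 : r = 1 := mul_left_cancel₀ PowerSeries.X_ne_zero (hr.symm.trans (mul_one _).symm)
    rw [hr1, map_one, eq_comm, ← frobenius_def, ← map_one (frobenius k p)] at hr0
    have := frobenius_inj k p hr0
    simp only [a, map_add, map_one, add_eq_left] at this
    exact hδ0 this
  -- congruence
  have hcong : ∀ t : (PowerSeries k), u ^ (m + 1) ∣ σ t - t := by
    suffices ∀ N ≤ m + 1, ∀ t : (PowerSeries k), u ^ N ∣ σ t - t from fun t => this _ le_rfl t
    intro N
    induction N with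
    | zero => intro _ t; simp
    | succ N ih =>
      intro hN t
      obtain ⟨t', ht'⟩ : (PowerSeries.X : (PowerSeries k)) ∣ t - PowerSeries.C (PowerSeries.constantCoeff t) :=
        PowerSeries.X_dvd_iff.mpr (by simp)
      have : σ t - t = (s - u) * σ t' + u * (σ t' - t') := by
        conv_lhs => rw [← sub_add_cancel t (PowerSeries.C (PowerSeries.constantCoeff t)), ht']
        rw [map_add, map_mul, hC]
        ring
      rw [this]
      refine dvd_add (Dvd.dvd.mul_right ((pow_dvd_pow u hN).trans ⟨δ, hδ⟩) _) ?_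
      rw [pow_succ']
      exact mul_dvd_mul_left u (ih (by omega) t')
  -- the norm
  set x := ∏ i ∈ Finset.range p, (σ ^ i) u
  have hσx : σ x = x := by
    simp only [x, map_prod, ← AlgEquiv.mul_apply, ← pow_succ']
    have h := Finset.prod_range_succ' (fun i => (σ ^ i) u) p
    rw [Finset.prod_range_succ, hσp, pow_zero] at h
    exact (mul_right_cancel₀ (by simp [u]) h).symm
  obtain ⟨v, hv, hv0⟩ : ∃ v : (PowerSeries k), x = u ^ p * v ∧ PowerSeries.constantCoeff v ≠ 0 := by
    have : ∀ i ∈ Finset.range p, ∃ v : (PowerSeries k), (σ ^ i) u = u * v ∧ PowerSeries.constantCoeff v ≠ 0 := by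
      intro i _
      induction i with
      | zero => exact ⟨1, by simp, by simp⟩
      | succ i ih =>
        obtain ⟨v, hv, hv0⟩ := ih (Finset.mem_range.mpr (by have := Finset.mem_range.mp ‹_›; omega))
        refine ⟨(1 + u ^ m * δ) * σ v, ?_, ?_⟩
        · rw [pow_succ', AlgEquiv.mul_apply, hv, map_mul, show σ u = u * (1 + u ^ m * δ) by
            linear_combination hδ]
          ring
        · obtain ⟨v', hv'⟩ := hcong v
          rw [map_mul, sub_eq_iff_eq_add.mp hv']
          simp [u, zero_pow (by omega : m + 1 ≠ 0), zero_pow (by omega : m ≠ 0), hv0]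
    choose! v hv hv0 using this
    refine ⟨∏ i ∈ Finset.range p, v i, ?_, ?_⟩
    · simp only [x]
      rw [Finset.prod_congr rfl hv, Finset.prod_mul_distrib, Finset.prod_const, Finset.card_range]
    · rw [map_prod]; exact Finset.prod_ne_zero_iff.mpr hv0
  obtain ⟨v', hvv⟩ : IsUnit v := PowerSeries.isUnit_iff_constantCoeff.mpr (isUnit_iff_ne_zero.mpr hv0)
  have hu0 : u ≠ 0 := PowerSeries.X_ne_zero
  have hx0 : x ≠ 0 := by rw [hv, ← hvv]; exact mul_ne_zero (pow_ne_zero _ hu0) v'.ne_zero
  set ι := algebraMap (PowerSeries k) (FractionRing (PowerSeries k))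
  have hι : Function.Injective ι := IsFractionRing.injective (PowerSeries k) (FractionRing (PowerSeries k))
  have hιx : ι x ^ μ ≠ 0 := pow_ne_zero _ ((map_ne_zero_iff _ hι).mpr hx0)
  have hzx : ι x ^ μ * (z ^ p - z) = ι f := by rw [hz]; field_simp
  have hzint : IsIntegral (PowerSeries k) (z * ι u ^ μ) := by
    refine ⟨Polynomial.X ^ p - (Polynomial.C ((u ^ μ) ^ (p - 1)) * Polynomial.X +
      Polynomial.C ((↑v'⁻¹ : (PowerSeries k)) ^ μ * f)), Polynomial.monic_X_pow_sub
        (Polynomial.degree_linear_le.trans_lt (by exact_mod_cast hp.one_lt)), ?_⟩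
    have h1 : ι v * ι (↑v'⁻¹ : (PowerSeries k)) = 1 := by rw [← map_mul, ← hvv, Units.mul_inv, map_one]
    have h2 : ι x = ι u ^ p * ι v := by rw [hv, map_mul, map_pow]
    have h3 : ι (↑v'⁻¹ : (PowerSeries k)) ^ μ * ι f = (z * ι u ^ μ) ^ p - (ι u ^ μ) ^ (p - 1) * (z * ι u ^ μ) := by
      have h4 : (ι u ^ μ) ^ p = (ι u ^ μ) ^ (p - 1) * ι u ^ μ := by
        rw [← pow_succ, Nat.sub_add_cancel hp.one_le]
      rw [← hzx, h2, mul_pow, mul_pow, show (ι u ^ p) ^ μ = (ι u ^ μ) ^ p from pow_right_comm _ _ _, h4]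
      have h5 : ι v ^ μ * ι (↑v'⁻¹ : (PowerSeries k)) ^ μ = 1 := by rw [← mul_pow, h1, one_pow]
      linear_combination ((ι u ^ μ) ^ (p - 1) * ι u ^ μ * (z ^ p - z)) * h5
    simp only [Polynomial.eval₂_sub, Polynomial.eval₂_add, Polynomial.eval₂_mul, Polynomial.eval₂_X_pow,
      Polynomial.eval₂_X, Polynomial.eval₂_C]
    show (z * ι u ^ μ) ^ p - (ι ((u ^ μ) ^ (p - 1)) * (z * ι u ^ μ) + ι ((↑v'⁻¹ : (PowerSeries k)) ^ μ * f)) = 0
    simp only [map_mul, map_pow]
    rw [h3]
    ring
  obtain ⟨w, hw⟩ := IsIntegrallyClosed.isIntegral_iff.mp hzint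
  have hp1 : p - 1 + 1 = p := Nat.sub_add_cancel hp.one_le
  have hE : x ^ μ * (w ^ p - (u ^ μ) ^ (p - 1) * w) = f * (u ^ μ) ^ p := by
    apply hι
    have h4 : (ι u ^ μ) ^ p = (ι u ^ μ) ^ (p - 1) * ι u ^ μ := by rw [← pow_succ, hp1]
    have hw' : ι w = z * ι u ^ μ := hw
    simp only [map_mul, map_sub, map_pow, hw', ← hzx, mul_pow]
    rw [h4]
    ring
  have hw0 : PowerSeries.constantCoeff w ≠ 0 := by
    intro h
    have h2 : v ^ μ * (w ^ p - (u ^ μ) ^ (p - 1) * w) = f := by
      apply mul_right_cancel₀ (pow_ne_zero p (pow_ne_zero μ hu0))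
      rw [← hE, hv, mul_pow, ← pow_right_comm u p μ]
      ring
    refine hf0 (h2 ▸ ?_)
    simp [h, hp.ne_zero]
  have hE2 : x ^ μ * ((σ w) ^ p - (s ^ μ) ^ (p - 1) * σ w) = f * (s ^ μ) ^ p := by
    have h := congrArg σ hE
    simp only [map_mul, map_pow, map_sub, hσx, hfσ] at h
    exact h
  set d := σ w * u ^ μ - w * s ^ μ
  set U := u ^ μ * s ^ μ
  have hd : d ^ p = U ^ (p - 1) * d := by
    apply mul_left_cancel₀ (pow_ne_zero μ hx0)
    have h4 : ∀ t : (PowerSeries k), t ^ p = t ^ (p - 1) * t := fun t => by rw [← pow_succ, hp1]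
    simp only [d, U, sub_pow_expChar, mul_pow]
    linear_combination (norm := skip) (u ^ μ) ^ p * hE2 - (s ^ μ) ^ p * hE
    rw [h4 (u ^ μ), h4 (s ^ μ)]
    ring
  obtain ⟨e, he, he0⟩ : ∃ e : (PowerSeries k), d = u ^ (μ + m) * e ∧ PowerSeries.constantCoeff e ≠ 0 := by
    obtain ⟨g, hg⟩ := hcong w
    have hbin : ∀ (t : (PowerSeries k)) (j : ℕ), ∃ r : (PowerSeries k), (1 + t) ^ j = 1 + (j : (PowerSeries k)) * t + t ^ 2 * r := by
      intro t j
      induction j with
      | zero => exact ⟨0, by simp⟩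
      | succ j ih =>
        obtain ⟨r, hr⟩ := ih
        exact ⟨(j : (PowerSeries k)) + r + t * r, by rw [pow_succ, hr]; push_cast; ring⟩
    obtain ⟨r, hr⟩ := hbin (u ^ m * δ) μ
    refine ⟨u * g - w * ((μ : (PowerSeries k)) * δ + u ^ m * δ ^ 2 * r), ?_, ?_⟩
    · have hsμ : s ^ μ = u ^ μ * (1 + u ^ m * δ) ^ μ := by
        rw [← mul_pow]; congr 1; linear_combination hδ
      simp only [d]
      rw [hsμ, hr, sub_eq_iff_eq_add.mp hg]
      ring
    · have hμk : (μ : k) ≠ 0 := fun h => hpμ ((CharP.cast_eq_zero_iff k p μ).mp h)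
      simp [u, zero_pow (by omega : m ≠ 0), hw0, hδ0, hμk]
  obtain ⟨s', hs', hs'0⟩ : ∃ s' : (PowerSeries k), s = u * s' ∧ PowerSeries.constantCoeff s' ≠ 0 :=
    ⟨1 + u ^ m * δ, by linear_combination hδ, by simp [u, zero_pow (by omega : m ≠ 0)]⟩
  have hordu : ∀ t : (PowerSeries k), PowerSeries.constantCoeff t ≠ 0 → PowerSeries.order t = 0 := fun t ht =>
    PowerSeries.order_zero_of_unit (PowerSeries.isUnit_iff_constantCoeff.mpr (isUnit_iff_ne_zero.mpr ht))
  have hdord : PowerSeries.order d = ((μ + m : ℕ) : ℕ∞) := by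
    rw [he, PowerSeries.order_mul, PowerSeries.order_X_pow, hordu e he0, add_zero]
  have hUord : PowerSeries.order U = ((μ + μ : ℕ) : ℕ∞) := by
    simp only [U, hs', mul_pow]
    rw [PowerSeries.order_mul, PowerSeries.order_mul, PowerSeries.order_X_pow, PowerSeries.order_pow,
      hordu s' hs'0, smul_zero, add_zero, ← Nat.cast_add]
  have hd0 : d ≠ 0 := fun h => by
    rw [h, PowerSeries.order_zero] at hdord
    exact ENat.top_ne_natCast _ hdord
  have h := congrArg PowerSeries.order hd
  rw [PowerSeries.order_pow, PowerSeries.order_mul, PowerSeries.order_pow, hdord, hUord, nsmul_eq_mul,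
    nsmul_eq_mul, ← Nat.cast_mul, ← Nat.cast_mul, ← Nat.cast_add] at h
  have h' : p * (μ + m) = (p - 1) * (μ + μ) + (μ + m) := by exact_mod_cast h
  obtain ⟨q, rfl⟩ : ∃ q, p = q + 1 := ⟨p - 1, hp1.symm⟩
  rw [Nat.add_sub_cancel, add_mul, one_mul] at h'
  have hq : 0 < q := by have := hp.two_le; omega
  have := Nat.eq_of_mul_eq_mul_left hq (by omega : q * (μ + m) = q * (μ + μ))
  omega

end Groth.Agent.S15813
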