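import Groth.Statements.S15815
import Groth.Agent.Lib.KoszulTensor.Scale

set_option autoImplicit false
universe u
open CategoryTheory
open Koszul

namespace Groth.Agent.S15815

/-- Let A be a commutative ring, f = (f_1, …, f_n) a finite sequence in A with Koszul complex K(f)
(cohomological, in degrees -n, …, 0) and differentials ∂^q : K(f)^q → K(f)^{q+1}, and let x be a
non-zero-divisor of A. Then for every integer q the q-th cohomology module of the Koszul complex of
the sequence (x f_1, …, x f_n) is isomorphic as an A-module to Ker(∂^q) / (x · Im(∂^{q-1})), the
q-cocycles of K(f) modulo x times the q-coboundaries (existence of an A-linear isomorphism; the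
Koszul complex is the iterated mapping-cone model). -/
theorem result (A : Type u) [CommRing A] (l : List A) (x : A)
    (hx : x ∈ nonZeroDivisors A) (q : ℤ) :
    Nonempty ((Koszul.koszul A (l.map (fun f => x * f))).homology q ≅
      ModuleCat.of A (↥(LinearMap.ker ((Koszul.koszul A l).d q (q + 1)).hom) ⧸
        Submodule.comap (LinearMap.ker ((Koszul.koszul A l).d q (q + 1)).hom).subtype
          (Ideal.span {x} • LinearMap.range ((Koszul.koszul A l).d (q - 1) q).hom))) := by
    exact GrothLib.KoszulTensor.nonempty_homology_scaled x l hx q

end Groth.Agent.S15815
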