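import Groth.Statements.S15818
import Groth.Agent.Lib.KoszulTensor.Scale
import Mathlib.CategoryTheory.Limits.Types.Pullbacks
import Mathlib.Algebra.Category.ModuleCat.Limits

set_option autoImplicit false
universe u
open CategoryTheory
open Koszul

namespace Groth.Agent.S15818

/-- Pullback squares of modules, elementwise. -/
lemma isPullback_of {A : Type u} [CommRing A] {P X Y W : Type u} [AddCommGroup P] [Module A P]
    [AddCommGroup X] [Module A X] [AddCommGroup Y] [Module A Y] [AddCommGroup W] [Module A W]
    (t : P →ₗ[A] X) (l : P →ₗ[A] Y) (r : X →ₗ[A] W) (b : Y →ₗ[A] W) (hc : ∀ p, r (t p) = b (l p))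
    (hi : ∀ p, t p = 0 → l p = 0 → p = 0) (hs : ∀ u v, r u = b v → ∃ p, t p = u ∧ l p = v) :
    IsPullback (ModuleCat.ofHom t) (ModuleCat.ofHom l) (ModuleCat.ofHom r) (ModuleCat.ofHom b) := by
  refine IsPullback.of_map (forget (ModuleCat.{u} A)) (ModuleCat.hom_ext (LinearMap.ext hc)) ?_
  rw [Limits.Types.isPullback_iff]
  refine ⟨?_, ?_, hs⟩
  · apply ConcreteCategory.hom_ext
    exact hc
  · rintro p q ⟨h1, h2⟩
    refine sub_eq_zero.1 (hi _ ?_ ?_)
    · exact (map_sub t p q).trans (sub_eq_zero.2 h1)
    · exact (map_sub l p q).trans (sub_eq_zero.2 h2)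

/-- The pullback square for submodules `B ≤ Z` of a module. -/
lemma isPullback_factor {A : Type u} [CommRing A] {M : Type u} [AddCommGroup M] [Module A M]
    (Z B : Submodule A M) (hBZ : B ≤ Z) (x : A) (hxH : IsSMulRegular (↥Z ⧸ Submodule.comap Z.subtype B) x) :
    IsPullback
      (ModuleCat.ofHom (Submodule.factor (Submodule.comap_mono (Submodule.smul_mono le_rfl hBZ) :
        Submodule.comap Z.subtype (Ideal.span {x} • B) ≤ Submodule.comap Z.subtype (Ideal.span {x} • Z))))
      (ModuleCat.ofHom (Submodule.factor (Submodule.comap_mono (Submodule.smul_le_right) :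
        Submodule.comap Z.subtype (Ideal.span {x} • B) ≤ Submodule.comap Z.subtype B)))
      (ModuleCat.ofHom (Submodule.factor (Submodule.comap_mono le_sup_right :
        Submodule.comap Z.subtype (Ideal.span {x} • Z) ≤ Submodule.comap Z.subtype (B ⊔ Ideal.span {x} • Z))))
      (ModuleCat.ofHom (Submodule.factor (Submodule.comap_mono le_sup_left :
        Submodule.comap Z.subtype B ≤ Submodule.comap Z.subtype (B ⊔ Ideal.span {x} • Z)))) := by
  refine isPullback_of _ _ _ _ ?_ ?_ ?_
  · intro t
    obtain ⟨z, rfl⟩ := Submodule.Quotient.mk_surjective _ t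
    rfl
  · intro t h1 h2
    obtain ⟨w, rfl⟩ := Submodule.Quotient.mk_surjective _ t
    replace h1 : w ∈ Submodule.comap Z.subtype (Ideal.span {x} • Z) := (Submodule.Quotient.mk_eq_zero _).1 ((Submodule.factor_mk _ w).symm.trans h1)
    replace h2 : w ∈ Submodule.comap Z.subtype B := (Submodule.Quotient.mk_eq_zero _).1 ((Submodule.factor_mk _ w).symm.trans h2)
    rw [Submodule.Quotient.mk_eq_zero]
    have h1' : (w : M) ∈ Ideal.span {x} • Z := h1
    rw [Submodule.ideal_span_singleton_smul, Submodule.mem_smul_pointwise_iff_exists] at h1'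
    obtain ⟨z, hz, hxz⟩ := h1'
    show (w : M) ∈ Ideal.span {x} • B
    rw [Submodule.ideal_span_singleton_smul, Submodule.mem_smul_pointwise_iff_exists]
    refine ⟨z, ?_, hxz⟩
    have h0 : x • (Submodule.Quotient.mk ⟨z, hz⟩ : ↥Z ⧸ Submodule.comap Z.subtype B) = 0 := by
      rw [← Submodule.Quotient.mk_smul, Submodule.Quotient.mk_eq_zero]
      show x • z ∈ B
      rw [hxz]
      exact h2
    exact (Submodule.Quotient.mk_eq_zero (Submodule.comap Z.subtype B) (x := (⟨z, hz⟩ : ↥Z))).1 (hxH.right_eq_zero_of_smul h0)
  · intro s t h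
    obtain ⟨u', rfl⟩ := Submodule.Quotient.mk_surjective _ s
    obtain ⟨v, rfl⟩ := Submodule.Quotient.mk_surjective _ t
    have h' := (Submodule.Quotient.eq _).1 h
    rw [Submodule.mem_comap, Submodule.mem_sup] at h'
    obtain ⟨b, hb, c, hc, hbc⟩ := h'
    have hbZ := hBZ hb
    refine ⟨Submodule.Quotient.mk (v + ⟨b, hbZ⟩), ?_, ?_⟩
    · refine (Submodule.Quotient.eq _).2 ?_
      show (v : M) + b - (u' : M) ∈ Ideal.span {x} • Z
      have hc' := Submodule.neg_mem _ hc
      convert hc' using 1
      have hbc' : b + c = (u' : M) - v := hbc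
      rw [eq_sub_iff_add_eq] at hbc'
      rw [← hbc']
      abel
    · refine (Submodule.Quotient.eq _).2 ?_
      show (v : M) + b - (v : M) ∈ B
      simpa using hb

/-- Let A be a commutative ring, f = (f_1, …, f_n) a finite sequence in A with Koszul complex K = K(f)
(mapping-cone model) and differentials ∂, q an integer, Z = Ker(∂^q) and B = Im(∂^{q-1}), so B ⊆ Z
inside K^q (this inclusion is carried as the hypothesis hBZ). Let x be a non-zero-divisor of A which
moreover acts injectively on the cohomology module Z/B (for Noetherian A this says that x lies in no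
associated prime of Z/B, which is how the published statement phrases it; the published argument
uses exactly the injectivity). Then the commuting square of quotient projections with corners Z/xB
(top left; it is isomorphic to the q-th cohomology of the Koszul complex of (x f_1, …, x f_n)), Z/xZ
= Z ⊗ A/(x) (top right), Z/B (bottom left) and Z/(B + xZ) = (Z/B) ⊗ A/(x) (bottom right) is
cartesian in the category of A-modules. All four corners are written as quotients of Z by the
preimages of the submodules xB, xZ, B, B + xZ of K^q. -/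
theorem result (A : Type u) [CommRing A] (l : List A) (q : ℤ)
    (K : CochainComplex (ModuleCat.{u} A) ℤ) (hK : K = Koszul.koszul A l)
    (hBZ : LinearMap.range (K.d (q - 1) q).hom ≤ LinearMap.ker (K.d q (q + 1)).hom)
    (x : A) (hx : x ∈ nonZeroDivisors A)
    (hxH : IsSMulRegular (↥(LinearMap.ker (K.d q (q + 1)).hom) ⧸ Submodule.comap (LinearMap.ker (K.d q (q + 1)).hom).subtype (LinearMap.range (K.d (q - 1) q).hom)) x) :
    IsPullback
      (ModuleCat.ofHom (Submodule.factor (Submodule.comap_mono (Submodule.smul_mono le_rfl hBZ) :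
        Submodule.comap (LinearMap.ker (K.d q (q + 1)).hom).subtype (Ideal.span {x} • LinearMap.range (K.d (q - 1) q).hom) ≤
          Submodule.comap (LinearMap.ker (K.d q (q + 1)).hom).subtype (Ideal.span {x} • LinearMap.ker (K.d q (q + 1)).hom))))
      (ModuleCat.ofHom (Submodule.factor (Submodule.comap_mono (Submodule.smul_le_right) :
        Submodule.comap (LinearMap.ker (K.d q (q + 1)).hom).subtype (Ideal.span {x} • LinearMap.range (K.d (q - 1) q).hom) ≤
          Submodule.comap (LinearMap.ker (K.d q (q + 1)).hom).subtype (LinearMap.range (K.d (q - 1) q).hom))))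
      (ModuleCat.ofHom (Submodule.factor (Submodule.comap_mono le_sup_right :
        Submodule.comap (LinearMap.ker (K.d q (q + 1)).hom).subtype (Ideal.span {x} • LinearMap.ker (K.d q (q + 1)).hom) ≤
          Submodule.comap (LinearMap.ker (K.d q (q + 1)).hom).subtype (LinearMap.range (K.d (q - 1) q).hom ⊔ Ideal.span {x} • LinearMap.ker (K.d q (q + 1)).hom))))
      (ModuleCat.ofHom (Submodule.factor (Submodule.comap_mono le_sup_left :
        Submodule.comap (LinearMap.ker (K.d q (q + 1)).hom).subtype (LinearMap.range (K.d (q - 1) q).hom) ≤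
          Submodule.comap (LinearMap.ker (K.d q (q + 1)).hom).subtype (LinearMap.range (K.d (q - 1) q).hom ⊔ Ideal.span {x} • LinearMap.ker (K.d q (q + 1)).hom)))) := by
  exact isPullback_factor (M := K.X q) _ _ hBZ x hxH

end Groth.Agent.S15818
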