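import Groth.Statements.S15824
-- import your own Groth.Agent.* helpers here
import Groth.Agent.Lib.Depth.CM
import Groth.Agent.Lib.RegSeqLoc.Scheme
import Groth.Agent.Lib.RegSeqLoc.Immersion

set_option autoImplicit false
universe u
open CategoryTheory AlgebraicGeometry
open RegImm

open RingTheory.Sequence in
theorem dim_le_of_isCM_quot {R : Type u} [CommRing R] [IsNoetherianRing R] [IsLocalRing R] :
    ∀ (rs : List R) (M : Type u) [AddCommGroup M] [Module R M] [Module.Finite R M],
      LocCoh.IsCohenMacaulayModule R M → IsWeaklyRegular M rs → (∀ r ∈ rs, r ∈ IsLocalRing.maximalIdeal R) →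
      IsAssociatedPrime (IsLocalRing.maximalIdeal R) (M ⧸ (Ideal.ofList rs • ⊤ : Submodule R M)) →
      Module.supportDim R (M ⧸ (Ideal.ofList rs • ⊤ : Submodule R M)) ≤ 0 := by
  intro rs
  induction rs with
  | nil =>
    intro M _ _ _ hM _ _ hm
    have e : (M ⧸ (Ideal.ofList ([] : List R) • ⊤ : Submodule R M)) ≃ₗ[R] M :=
      Submodule.quotEquivOfEqBot _ (by rw [Ideal.ofList_nil, Submodule.bot_smul])
    rw [Module.supportDim_eq_of_equiv e, hM]
    refine (GrothLib.Depth.depth_le_dim_quotient (M := M) (e.isAssociatedPrime_iff.1 hm)).trans ?_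
    exact le_of_eq (ringKrullDim_eq_zero_of_isField
      ((Ideal.Quotient.maximal_ideal_iff_isField_quotient _).1 inferInstance))
  | cons r rs ih =>
    intro M _ _ _ hM hreg hmem hm
    rw [isWeaklyRegular_cons_iff] at hreg
    have h1 := GrothLib.Depth.isCM_quotSMulTop hM (hmem r List.mem_cons_self) hreg.1
    let e := Submodule.quotOfListConsSMulTopEquivQuotSMulTopInner M r rs
    rw [Module.supportDim_eq_of_equiv e]
    exact ih (QuotSMulTop r M) h1 hreg.2 (fun a ha => hmem a (List.mem_cons_of_mem _ ha)) (e.isAssociatedPrime_iff.1 hm)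

theorem LocCoh_isCM_self {R : Type u} [CommRing R] [IsLocalRing R] (h : LocCoh.IsCohenMacaulayLocalRing R) :
    LocCoh.IsCohenMacaulayModule R R := h.supportDim_eq_depth

namespace Groth.Agent.S15824

/-- Let X be a locally Noetherian scheme all of whose local rings are Cohen–Macaulay, and i : Z → X a
closed immersion which is regular (around every point, on some affine open of X the ideal of Z is
generated by a regular sequence). Then Z has no embedded points (each associated point of Z is
generic in an irreducible component): for every point z of Z, if the maximal ideal of O_{Z,z} is an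
associated prime of O_{Z,z} (as a module over itself), then O_{Z,z} has Krull dimension 0. (The
published statement takes X Noetherian and Z a local complete intersection subscheme; the assertion
is local on X and uses only that the ideal of Z is locally generated by a regular sequence.) -/
theorem result {X Z : Scheme.{u}}
    [IsLocallyNoetherian X] (hCM : ∀ x : X, LocCoh.IsCohenMacaulayLocalRing (X.presheaf.stalk x))
    (i : Z ⟶ X) [IsClosedImmersion i] (hi : RegImm.IsRegularImmersion RegImm.Kind.regular i) (z : Z)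
    (hz : IsAssociatedPrime (IsLocalRing.maximalIdeal (Z.presheaf.stalk z)) (Z.presheaf.stalk z)) :
    ringKrullDim (Z.presheaf.stalk z) = 0 := by
  haveI : IsNoetherianRing (X.presheaf.stalk (i z)) := inferInstance
  obtain ⟨U, hzU, hci, rs₀, hrs, hI⟩ := hi.2 z
  obtain ⟨rs, hreg, hker⟩ := (GrothLib.RegSeqLoc.exists_affine_iff i z).1
    ⟨U, hzU, rs₀, hrs, by rw [Scheme.Hom.ker_apply]; exact hI⟩
  let φ := (i.stalkMap z).hom
  have hsurj : Function.Surjective φ := i.stalkMap_surjective z
  have hmem : ∀ r ∈ rs, r ∈ IsLocalRing.maximalIdeal (X.presheaf.stalk (i z)) := fun r hr =>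
    IsLocalRing.le_maximalIdeal (RingHom.ker_ne_top φ) (hker ▸ Ideal.subset_span hr)
  let e : (X.presheaf.stalk (i z) ⧸ RingHom.ker φ) ≃+* Z.presheaf.stalk z := RingHom.quotientKerEquivOfSurjective hsurj
  obtain ⟨hprime, a, ha⟩ := hz
  have hassoc : IsAssociatedPrime (IsLocalRing.maximalIdeal (X.presheaf.stalk (i z)))
      (X.presheaf.stalk (i z) ⧸ (Ideal.ofList rs • ⊤ : Submodule (X.presheaf.stalk (i z)) (X.presheaf.stalk (i z)))) := by
    refine Eq.mpr (congrArg (fun J : Ideal (X.presheaf.stalk (i z)) => IsAssociatedPrime _ (X.presheaf.stalk (i z) ⧸ J))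
      (show (Ideal.ofList rs • ⊤ : Ideal (X.presheaf.stalk (i z))) = RingHom.ker φ by rw [smul_eq_mul, Ideal.mul_top, hker])) ?_
    obtain ⟨b, rfl⟩ := e.surjective a
    obtain ⟨b, rfl⟩ := Ideal.Quotient.mk_surjective b
    refine ⟨(IsLocalRing.maximalIdeal.isMaximal _).isPrime, Ideal.Quotient.mk _ b, ?_⟩
    have key : ∀ r : X.presheaf.stalk (i z), r • Ideal.Quotient.mk (RingHom.ker φ) b = 0 ↔ φ r * φ b = 0 := fun r => by
      rw [← map_mul, ← RingHom.mem_ker, ← Ideal.Quotient.eq_zero_iff_mem, map_mul]; rfl
    have hcomap : ∀ r : X.presheaf.stalk (i z), r ∈ IsLocalRing.maximalIdeal (X.presheaf.stalk (i z)) ↔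
        φ r ∈ IsLocalRing.maximalIdeal (Z.presheaf.stalk z) := fun r => by
      simp [IsLocalRing.mem_maximalIdeal, mem_nonunits_iff, isUnit_map_iff]
    have hset : ∀ r : X.presheaf.stalk (i z), r ∈ (⊥ : Submodule (X.presheaf.stalk (i z)) (X.presheaf.stalk (i z) ⧸ RingHom.ker φ)).colon {Ideal.Quotient.mk (RingHom.ker φ) b} ↔
        φ r ∈ (⊥ : Submodule (Z.presheaf.stalk z) (Z.presheaf.stalk z)).colon {φ b} := fun r => by
      rw [Submodule.mem_colon_singleton, Submodule.mem_colon_singleton, Submodule.mem_bot, Submodule.mem_bot, key r,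
        smul_eq_mul]
    ext r
    rw [hcomap, ha, Ideal.mem_radical_iff, Ideal.mem_radical_iff]
    refine exists_congr fun m => ?_
    rw [← map_pow, hset]
    rfl
  have hdim := dim_le_of_isCM_quot rs _ (LocCoh_isCM_self (hCM (i z))) hreg.toIsWeaklyRegular hmem hassoc
  rw [Module.supportDim_eq_ringKrullDim_quotient_annihilator, Ideal.annihilator_quotient, smul_eq_mul,
    Ideal.mul_top, ← hker, ringKrullDim_eq_of_ringEquiv e] at hdim
  exact le_antisymm hdim ringKrullDim_nonneg_of_nontrivial

end Groth.Agent.S15824
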