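import Groth.Statements.S15826
-- import your own Groth.Agent.* helpers here
import Groth.Agent.Lib.H1Sheaf6.Conormal
import Groth.Agent.Lib.QCoh.StalkPullback
import Groth.Agent.Lib.QCoh.GenericPoint
import Groth.Agent.Lib.HomSh.Criterion
import Groth.Agent.Lib.FlatFP.Sheaf
import Groth.Agent.Lib.LciH1.CM
import Groth.Agent.Lib.Euler.Coh
import Groth.Agent.Lib.FinCov.Frame

set_option autoImplicit false
universe u
open CategoryTheory AlgebraicGeometry Opposite
open RegImm

namespace GrothAux.S15826

open CategoryTheory AlgebraicGeometry TensorProduct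

theorem lTensor_injective_of_ker_le {R B : Type*} [CommRing R] [CommRing B] [Algebra R B] {M N : Type*}
    [AddCommGroup M] [Module R M] [AddCommGroup N] [Module R N] (u : M →ₗ[R] N) (hu : Function.Surjective u)
    (h : ∀ m, u m = 0 → m ∈ (RingHom.ker (algebraMap R B)) • (⊤ : Submodule R M)) :
    Function.Injective (u.lTensor B) := by
  rw [← LinearMap.ker_eq_bot, (lTensor_exact B (f := (LinearMap.ker u).subtype)
    (fun _ => ⟨fun hm => ⟨⟨_, hm⟩, rfl⟩, fun ⟨w, hw⟩ => hw ▸ w.2⟩) hu).linearMap_ker_eq]
  rw [eq_bot_iff]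
  rintro _ ⟨z, rfl⟩
  induction z using TensorProduct.induction_on with
  | zero => simp
  | tmul b w =>
    simp only [LinearMap.lTensor_tmul, Submodule.subtype_apply, Submodule.mem_bot]
    refine Submodule.smul_induction_on (h w.1 w.2) (fun r hr m _ => ?_) fun m m' hm hm' => ?_
    · rw [tmul_smul, smul_tmul', Algebra.smul_def, (hr : algebraMap R B r = 0), zero_mul, zero_tmul]
    · rw [tmul_add, hm, hm', add_zero]
  | add a b ha hb => rw [map_add]; exact add_mem ha hb

theorem unitStalk_germ {X : Scheme.{u}} (x : X) (U : X.Opens) (hx : x ∈ U) (r : Γ(X, U)) :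
    (Coh.structureModule X).presheaf.germ U x hx r = GrothLib.HomSh.unitStalk x (X.presheaf.germ U x hx r) := by
  show _ = X.presheaf.germ U x hx r • (Coh.structureModule X).presheaf.germ ⊤ x trivial (1 : Γ(X, ⊤))
  rw [← TopCat.Presheaf.germ_res_apply (Coh.structureModule X).presheaf (homOfLE le_top) x hx, ← Mero.germ_smul]
  refine congrArg ((Coh.structureModule X).presheaf.germ U x hx) ?_
  show r = r * X.presheaf.map (homOfLE le_top).op (1 : Γ(X, ⊤))
  exact ((congrArg (r * ·) (map_one _)).trans (mul_one r)).symm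

theorem extendScalars_map_injective {R S : Type u} [CommRing R] [CommRing S] (φ : R →+* S)
    {M N : ModuleCat.{u} R} (u : M ⟶ N) (hu : Function.Surjective u.hom)
    (h : ∀ m, u.hom m = 0 → m ∈ (RingHom.ker φ) • (⊤ : Submodule R M)) :
    Function.Injective ((ModuleCat.extendScalars φ).map u).hom := by
  letI := φ.toAlgebra
  exact lTensor_injective_of_ker_le (B := S) u.hom hu h

end GrothAux.S15826

namespace Groth.Agent.S15826

/-- Let X be a scheme, E a finite locally free O_X-module of rank n and s : E → O_X a regular section,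
meaning that around every point of X there is an affine open U and a basis e_1, …, e_n of E(U) over
Γ(X, U) such that s(e_1), …, s(e_n) is a weakly regular sequence in Γ(X, U) (each a non-zero-divisor
modulo the previous ones). Let i : Y → X be a closed immersion whose ideal sheaf I_Y is the image of
s: t : E → I_Y is an epimorphism of O_X-modules with t followed by the inclusion I_Y → O_X equal to
s. Then the pulled-back map i^*t : i^*E → i^*I_Y is an isomorphism of O_Y-modules; its target is the
conormal sheaf C_{Y/X} = I_Y/I_Y², so E|_Y ≅ C_{Y/X} via s and, dually, N_{Y/X} ≅ E^∨|_Y. (The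
published statement calls s regular when its image is a regular ideal sheaf locally generated by
rank-many sections; the local bases mapping to regular sequences used here are how the published
proofs read that condition.) -/
theorem result {X Y : Scheme.{u}} (n : ℕ) (E : X.Modules)
    (hE : FlatMod.IsFinLocFreeOfRank n E) (s : E ⟶ Coh.structureModule X)
    (hs : ∀ x : X, ∃ U : X.affineOpens, x ∈ U.1 ∧
      ∃ b : Module.Basis (Fin n) Γ(X, U.1) (E.val.obj (op U.1)),
        @RingTheory.Sequence.IsWeaklyRegular Γ(X, U.1) Γ(X, U.1) _ _ _ (List.ofFn fun k => (s.val.app (op U.1)).hom (b k)))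
    (i : Y ⟶ X) [IsClosedImmersion i] (t : E ⟶ ClSub.idealMod i.ker) [Epi t]
    (hts : t ≫ ClSub.idealModι i.ker = s) :
    IsIso ((Scheme.Modules.pullback i).map t) := by
  haveI hEq : E.IsQuasicoherent := GrothLib.Euler.isQuasicoherent_of_isFinLocFree (GrothLib.FinCov.isFinLocFree_of_rank hE)
  refine (GrothLib.OX.isIso_iff _).2 fun y => ?_
  haveI : Mono (ClSub.idealModι i.ker) := inferInstanceAs (Mono (Limits.kernel.ι (ClSub.toSubscheme i.ker)))
  obtain ⟨U, hx, b, hreg⟩ := hs (i y)
  have hU : IsAffineOpen U.1 := U.2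
  letI := X.presheaf.algebra_section_stalk ⟨i y, hx⟩
  haveI := GrothLib.FlatFP.isLocalization_stalk_primeAt hU hx
  letI : Module Γ(X, U.1) (E.presheaf.stalk (i y)) := Module.compHom _ (X.presheaf.germ U.1 (i y) hx).hom
  haveI : IsScalarTower Γ(X, U.1) (X.presheaf.stalk (i y)) (E.presheaf.stalk (i y)) :=
    IsScalarTower.of_algebraMap_smul fun _ _ => rfl
  obtain ⟨g, hg, hgerm⟩ := GrothLib.FlatFP.isLocalizedModule_germ (F := E) hU hx
  let e : Module.Basis (Fin n) (X.presheaf.stalk (i y)) (E.presheaf.stalk (i y)) :=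
    b.ofIsLocalizedModule (X.presheaf.stalk (i y)) (GrothLib.WeakAss.primeAt (i y) hx).primeCompl g
  let f : Fin n → Γ(X, U.1) := fun j => (s.val.app (op U.1)).hom (b j)
  let φ := (i.stalkMap y).hom
  have hf0 : ∀ j, φ (X.presheaf.germ U.1 (i y) hx (f j)) = 0 := fun j => by
    have e1 : f j = GrothLib.IdealModSec.val i.ker U.1 ((t.val.app (op U.1)).hom (b j)) := by
      show (s.val.app (op U.1)).hom (b j) = _
      rw [← hts]; rfl
    rw [e1]
    exact GrothLib.H1Sheaf6.stalkMap_germ_val i U.1 _ y hx
  have hregx : RingTheory.Sequence.IsWeaklyRegular (X.presheaf.stalk (i y))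
      (List.ofFn fun j => X.presheaf.germ U.1 (i y) hx (f j)) := by
    haveI : Module.Flat Γ(X, U.1) (X.presheaf.stalk (i y)) := IsLocalization.flat _ (GrothLib.WeakAss.primeAt (i y) hx).primeCompl
    have := hreg.of_flat (S := X.presheaf.stalk (i y))
    rw [List.map_ofFn] at this
    exact this
  have hepi : Epi ((GrothLib.OX.stalk (i y)).map t) := (GrothLib.OX.epi_iff t).1 inferInstance (i y)
  have hsurj : Function.Surjective ((GrothLib.OX.stalk (i y)).map t).hom := (ModuleCat.epi_iff_surjective _).1 hepi
  have hker : ∀ m, ((GrothLib.OX.stalk (i y)).map t).hom m = 0 →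
      m ∈ (RingHom.ker φ) • (⊤ : Submodule (X.presheaf.stalk (i y)) ((GrothLib.OX.stalk (i y)).obj E)) := by
    intro m hm
    obtain ⟨a, rfl⟩ : ∃ a : Fin n → X.presheaf.stalk (i y), ∑ j, a j • e j = m := ⟨fun j => e.repr m j, e.sum_repr m⟩
    have h1 : GrothLib.QCoh.stalkLin s (i y) (∑ j, a j • e j) = 0 := by
      rw [← hts, GrothLib.QCoh.stalkLin_comp]
      exact (congrArg _ hm).trans (map_zero _)
    have h2 : GrothLib.HomSh.unitStalk (i y) (∑ j, a j * X.presheaf.germ U.1 (i y) hx (f j)) = 0 := by
      rw [← h1, map_sum, map_sum]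
      refine Finset.sum_congr rfl fun j _ => ?_
      rw [map_smul, ← smul_eq_mul (α := X.presheaf.stalk (i y)), map_smul, ← GrothAux.S15826.unitStalk_germ]
      congr 1
      rw [show e j = E.presheaf.germ U.1 (i y) hx (b j) from
        (Module.Basis.ofIsLocalizedModule_apply _ _ _ _ _).trans (hgerm _), GrothLib.QCoh.stalkLin_germ]
      rfl
    rw [LinearEquiv.map_eq_zero_iff] at h2
    refine Submodule.sum_mem _ fun j _ => Submodule.smul_mem_smul ?_ trivial
    refine (Ideal.span_le.2 ?_) (GrothLib.LciH1.mem_of_relation _ hregx a h2 j)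
    rintro _ ⟨l, rfl⟩
    exact hf0 l
  have hinj : Function.Injective ((ModuleCat.extendScalars φ).map ((GrothLib.OX.stalk (i y)).map t)).hom :=
    GrothAux.S15826.extendScalars_map_injective φ _ hsurj hker
  haveI : Mono ((ModuleCat.extendScalars φ).map ((GrothLib.OX.stalk (i y)).map t)) :=
    (ModuleCat.mono_iff_injective _).2 hinj
  haveI : Epi ((ModuleCat.extendScalars φ).map ((GrothLib.OX.stalk (i y)).map t)) := inferInstance
  haveI : IsIso ((GrothLib.OX.stalk (i y) ⋙ ModuleCat.extendScalars φ).map t) :=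
    isIso_of_mono_of_epi ((ModuleCat.extendScalars φ).map ((GrothLib.OX.stalk (i y)).map t))
  exact (NatIso.isIso_map_iff (GrothLib.QCoh.stalkPullbackIso i y) t).2 inferInstance


end Groth.Agent.S15826
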