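import Groth.Statements.S15832
import Mathlib.Topology.Algebra.Nonarchimedean.Basic

set_option autoImplicit false
universe u
open TopGrp

namespace Groth.Agent.S15832

/-- For a group T with a topology, let B be the family of two-sided translates x Γ y, where Γ runs over
the subgroups of T open in the given topology and x, y over T; the topology generated by B makes T a
topological group in which every neighbourhood of the identity contains a subgroup open for that
topology. (The published statement is for the free topological product of two Noohi groups whose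
open subgroups form a basis of neighbourhoods of the identity; the argument uses only the group
structure and the chosen family of subgroups, so the row is stated for an arbitrary group with a
topology. The published conventions include Hausdorffness in the word topological group; this row
does not assert it, and the published argument does not prove it.) -/
theorem result (T : Type u) [Group T]
    [TopologicalSpace T] :
    @NonarchimedeanGroup T _ (TopologicalSpace.generateFrom
      {S : Set T | ∃ (Γ : OpenSubgroup T) (x y : T), S = (fun g : T => x * g * y) '' (Γ : Set T)}) := by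
  let B : Set (Set T) := {S : Set T | ∃ (Γ : OpenSubgroup T) (x y : T), S = (fun g : T => x * g * y) '' (Γ : Set T)}
  have hmem : ∀ (Γ : OpenSubgroup T) (x y z : T), z ∈ (fun g : T => x * g * y) '' (Γ : Set T) ↔ x⁻¹ * z * y⁻¹ ∈ Γ := by
    intro Γ x y z
    constructor
    · rintro ⟨g, hg, rfl⟩
      simpa [mul_assoc] using hg
    · intro h
      exact ⟨_, h, by simp [mul_assoc]⟩
  have hopen : ∀ (Γ : OpenSubgroup T) (x y : T), @IsOpen T (TopologicalSpace.generateFrom B) {z | x⁻¹ * z * y⁻¹ ∈ Γ} := fun Γ x y => by
    refine .basic _ ⟨Γ, x, y, ?_⟩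
    ext z
    exact (hmem Γ x y z).symm
  have hinv : @Continuous T T (TopologicalSpace.generateFrom B) (TopologicalSpace.generateFrom B) (fun z : T => z⁻¹) := by
    refine continuous_generateFrom_iff.2 ?_
    rintro _ ⟨Γ, x, y, rfl⟩
    convert hopen Γ y⁻¹ x⁻¹ using 1
    ext z
    rw [Set.mem_preimage, hmem, Set.mem_ofPred_eq, ← inv_mem_iff]
    simp [mul_assoc]
  have hmul : @Continuous (T × T) T (@instTopologicalSpaceProd T T (TopologicalSpace.generateFrom B) (TopologicalSpace.generateFrom B)) (TopologicalSpace.generateFrom B) (fun p => p.1 * p.2) := by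
    refine continuous_generateFrom_iff.2 ?_
    rintro _ ⟨Γ, x, y, rfl⟩
    refine (@isOpen_iff_forall_mem_open (T × T) (@instTopologicalSpaceProd T T (TopologicalSpace.generateFrom B) (TopologicalSpace.generateFrom B)) _).2 ?_
    rintro ⟨a, b⟩ hab
    rw [Set.mem_preimage, hmem] at hab
    refine ⟨{a' | x⁻¹ * a' * (x⁻¹ * a)⁻¹ ∈ Γ} ×ˢ {b' | (a⁻¹ * x)⁻¹ * b' * y⁻¹ ∈ Γ}, ?_,
      @IsOpen.prod T T (TopologicalSpace.generateFrom B) (TopologicalSpace.generateFrom B) _ _ (hopen Γ x _) (hopen Γ _ y), ?_, ?_⟩
    · rintro ⟨a', b'⟩ ⟨ha, hb⟩
      rw [Set.mem_preimage, hmem]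
      have := mul_mem (show _ ∈ Γ from ha) (show _ ∈ Γ from hb)
      simpa [mul_assoc] using this
    · simp [mul_assoc, one_mem]
    · simpa [mul_assoc] using hab
  exact
    @NonarchimedeanGroup.mk T _ (TopologicalSpace.generateFrom B) (@IsTopologicalGroup.mk T (TopologicalSpace.generateFrom B) _ (@ContinuousMul.mk T (TopologicalSpace.generateFrom B) _ hmul) (@ContinuousInv.mk T (TopologicalSpace.generateFrom B) _ hinv))
      (fun U hU => by
        obtain ⟨V, hVU, hV, hV1⟩ := (@mem_nhds_iff T (TopologicalSpace.generateFrom B) 1 U).1 hU
        suffices h : ∀ W, TopologicalSpace.GenerateOpen B W → (1 : T) ∈ W →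
            ∃ H : Subgroup T, @IsOpen T (TopologicalSpace.generateFrom B) (H : Set T) ∧ (H : Set T) ⊆ W by
          obtain ⟨H, hH, hHW⟩ := h V hV hV1
          exact ⟨@OpenSubgroup.mk T _ (TopologicalSpace.generateFrom B) H hH, hHW.trans hVU⟩
        intro W hW
        induction hW with
        | basic s hs =>
          obtain ⟨Γ, x, y, rfl⟩ := hs
          intro h1
          rw [hmem, mul_one] at h1
          refine ⟨(Γ : Subgroup T).comap (MulAut.conj x⁻¹).toMonoidHom, ?_, ?_⟩
          · convert hopen Γ x x⁻¹ using 1
            ext z
            simp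
          · intro z hz
            rw [hmem]
            have := mul_mem (show x⁻¹ * z * x ∈ Γ by simpa using hz) h1
            simpa [mul_assoc] using this
        | univ =>
          intro _
          exact ⟨⊤, by simpa using @isOpen_univ T (TopologicalSpace.generateFrom B), fun z _ => trivial⟩
        | inter s t _ _ ihs iht =>
          intro h
          obtain ⟨H, hH, hH'⟩ := ihs h.1
          obtain ⟨K, hK, hK'⟩ := iht h.2
          exact ⟨H ⊓ K, @IsOpen.inter T (TopologicalSpace.generateFrom B) _ _ hH hK, fun z hz => ⟨hH' hz.1, hK' hz.2⟩⟩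
        | sUnion S _ ih =>
          rintro ⟨s, hs, h⟩
          obtain ⟨H, hH, hH'⟩ := ih s hs h
          exact ⟨H, hH, fun z hz => ⟨s, hs, hH' hz⟩⟩)

end Groth.Agent.S15832
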