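import Groth.Statements.S15833
import Groth.Agent.Lib.EtSite.Immersion
-- import your own Groth.Agent.* helpers here

set_option autoImplicit false
universe u
open EtBase

namespace Groth.Agent.S15833

open CategoryTheory CategoryTheory.Limits AlgebraicGeometry in
/-- Let i : X₀ ⟶ X be a surjective closed immersion of schemes and f : Y ⟶ X a morphism. Then f
satisfies the valuative criterion (existence and uniqueness of a lift in every valuative square,
over arbitrary valuation rings) if and only if its base change Y ×_X X₀ ⟶ X₀ does. (The published
statement takes X locally Noetherian and connected, X₀ the reduced closed subscheme with the same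
underlying space and f étale, and combines this step with the equivalence between étale schemes over
X and over X₀ to identify the geometric coverings, i.e. the étale morphisms satisfying the valuative
criterion, of X and of X₀; the argument for this step uses only that X₀ ⟶ X is a surjective closed
immersion and that valuation rings are reduced.) -/
theorem result {X X₀ Y : Scheme.{u}} (i : X₀ ⟶ X)
    [IsClosedImmersion i] [Surjective i] (f : Y ⟶ X) :
    ValuativeCriterion f ↔ ValuativeCriterion (pullback.snd f i) := by
  have hfac : ∀ (R : CommRingCat.{u}) [IsReduced (Spec R)] (b : Spec R ⟶ X),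
      ∃ c : Spec R ⟶ X₀, c ≫ i = b := fun R _ b => by
    haveI : Surjective (pullback.fst b i) := MorphismProperty.pullback_fst _ _ ‹Surjective i›
    haveI : IsIso (pullback.fst b i) := isIso_of_isClosedImmersion_of_surjective _
    exact ⟨inv (pullback.fst b i) ≫ pullback.snd b i, by
      rw [Category.assoc, ← pullback.condition, IsIso.inv_hom_id_assoc]⟩
  constructor
  · intro h S'
    have w : (S'.i₁ ≫ pullback.fst f i) ≫ f = Spec.map (CommRingCat.ofHom (algebraMap S'.R S'.K)) ≫
        (S'.i₂ ≫ i) := by
      rw [Category.assoc, pullback.condition, ← Category.assoc, S'.commSq.w, Category.assoc]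
    let S : ValuativeCommSq f :=
      { R := S'.R, K := S'.K, i₁ := S'.i₁ ≫ pullback.fst f i, i₂ := S'.i₂ ≫ i, commSq := ⟨w⟩ }
    obtain ⟨U⟩ := h S
    refine ⟨⟨⟨⟨pullback.lift U.default.l S'.i₂ U.default.fac_right, ?_, pullback.lift_snd _ _ _⟩⟩,
      fun l => ?_⟩⟩
    · apply pullback.hom_ext
      · rw [Category.assoc, pullback.lift_fst]; exact U.default.fac_left
      · rw [Category.assoc, pullback.lift_snd]; exact S'.commSq.w.symm
    · ext1
      apply pullback.hom_ext
      · refine Eq.trans ?_ (pullback.lift_fst _ _ _).symm
        exact congrArg CommSq.LiftStruct.l (U.uniq ⟨l.l ≫ pullback.fst f i,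
          (Category.assoc _ _ _).symm.trans (congrArg (· ≫ _) l.fac_left),
          (Category.assoc _ _ _).trans ((congrArg (l.l ≫ ·) pullback.condition).trans
            ((Category.assoc _ _ _).symm.trans (congrArg (· ≫ i) l.fac_right)))⟩)
      · exact l.fac_right.trans (pullback.lift_snd _ _ _).symm
  · intro h S
    obtain ⟨c, hc⟩ := hfac (CommRingCat.of S.R) S.i₂
    have w : S.i₁ ≫ f = (Spec.map (CommRingCat.ofHom (algebraMap S.R S.K)) ≫ c) ≫ i := by
      rw [Category.assoc, hc]; exact S.commSq.w
    let S' : ValuativeCommSq (pullback.snd f i) :=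
      { R := S.R, K := S.K, i₁ := pullback.lift S.i₁ _ w, i₂ := c, commSq := ⟨pullback.lift_snd _ _ _⟩ }
    obtain ⟨U⟩ := h S'
    refine ⟨⟨⟨⟨U.default.l ≫ pullback.fst f i, ?_, ?_⟩⟩, fun l => ?_⟩⟩
    · rw [← Category.assoc, U.default.fac_left]; exact pullback.lift_fst _ _ _
    · rw [Category.assoc, pullback.condition, ← Category.assoc, U.default.fac_right]; exact hc
    · ext1
      have e : l.l ≫ f = c ≫ i := l.fac_right.trans hc.symm
      let l' : S'.commSq.LiftStruct := ⟨pullback.lift l.l c e, by
        apply pullback.hom_ext
        · rw [Category.assoc, pullback.lift_fst]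
          exact l.fac_left.trans (pullback.lift_fst _ _ _).symm
        · rw [Category.assoc, pullback.lift_snd]
          exact (pullback.lift_snd _ _ _).symm, pullback.lift_snd _ _ _⟩
      rw [← U.uniq l']
      exact (pullback.lift_fst _ _ _).symm

end Groth.Agent.S15833
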