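import Groth.Statements.S15835
import Mathlib

set_option autoImplicit false
universe u
open SprIso

namespace Groth.Agent.S15835

/-- Over a commutative ring R of prime characteristic p, let n ≥ 1 and let p^m be the largest power of p
dividing n. The locus of n × n matrices with characteristic polynomial t^n is stable under adding a
scalar matrix a·1 with n·a = 0 exactly when a^(p^m) = 0: for X with characteristic polynomial t^n
and such an a, the matrix X + a·1 has characteristic polynomial t^n if and only if a^(p^m) = 0.
(Stated on points with values in an arbitrary ring of characteristic p; the scheme-theoretic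
assertion about the nilpotent scheme of SL_n is this statement for all such rings.) -/
theorem result (p : ℕ) [Fact p.Prime] (R : Type u) [CommRing R]
    [CharP R p] (n : ℕ) (hn : 0 < n) (X : Matrix (Fin n) (Fin n) R) (hX : X.charpoly = Polynomial.X ^ n)
    (a : R) (ha : (n : R) * a = 0) :
    (X + Matrix.scalar (Fin n) a).charpoly = Polynomial.X ^ n ↔ a ^ (p ^ padicValNat p n) = 0 := by
  classical
  have hp' : p.Prime := Fact.out
  set v := padicValNat p n
  have hcp : (X + Matrix.scalar (Fin n) a).charpoly = (Polynomial.X - Polynomial.C a) ^ n := by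
    have h := Matrix.charpoly_sub_scalar X (-a)
    rw [map_neg, sub_neg_eq_add, hX] at h
    rw [h, Polynomial.X_pow_comp, map_neg, sub_eq_add_neg]
  rw [hcp]
  obtain ⟨c, hc⟩ : p ^ v ∣ n := pow_padicValNat_dvd
  have hexp : (Polynomial.X - Polynomial.C a) ^ n = (Polynomial.X ^ p ^ v - Polynomial.C (a ^ p ^ v)) ^ c := by
    rw [map_pow, ← sub_pow_char_pow, ← pow_mul, ← hc]
  have hcR : IsUnit (c : R) := by
    have hnd : ¬ p ∣ c := fun ⟨d, hd⟩ => pow_succ_padicValNat_not_dvd (p := p) hn.ne' (show p ^ (padicValNat p n + 1) ∣ n from ⟨d, by rw [pow_succ, mul_assoc, ← hd]; exact hc⟩)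
    exact (CharP.isUnit_natCast_iff hp').2 hnd
  rw [hexp]
  constructor
  · intro h
    obtain ⟨c', rfl⟩ : ∃ c', c = c' + 1 := ⟨c - 1, by rcases c with _ | c <;> simp at hc ⊢; omega⟩
    have h1 := congrArg (fun q : Polynomial R => q.coeff (p ^ v * c')) h
    have hexp2 : (Polynomial.X ^ p ^ v - Polynomial.C (a ^ p ^ v)) ^ (c' + 1) =
        Polynomial.expand R (p ^ v) ((Polynomial.X + Polynomial.C (-(a ^ p ^ v))) ^ (c' + 1)) := by
      rw [map_pow (Polynomial.expand R (p ^ v)), map_add, Polynomial.expand_X, Polynomial.expand_C, map_neg, sub_eq_add_neg]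
    simp only [hexp2] at h1
    rw [mul_comm (p ^ v) c', Polynomial.coeff_expand_mul (pow_pos hp'.pos v), Polynomial.coeff_X_add_C_pow,
      Polynomial.coeff_X_pow, if_neg, Nat.choose_succ_self_right, Nat.add_sub_cancel_left, pow_one] at h1
    · have := hcR.mul_left_eq_zero.1 h1
      rwa [neg_eq_zero] at this
    · rw [hc, mul_comm]
      intro h'
      have := Nat.eq_of_mul_eq_mul_left (pow_pos hp'.pos v) h'
      omega
  · intro h
    rw [h, map_zero, sub_zero, ← pow_mul, ← hc]

end Groth.Agent.S15835
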