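import Groth.Statements.S15836
import Groth.Agent.Lib.PicCone27.Basic
-- import your own Groth.Agent.* helpers here

set_option autoImplicit false
universe u
open SprIso

namespace Groth.Agent.S15836

/-- Let k be a field and C a closed subscheme of affine n-space over k which is stable under the scaling
action of the affine line, i.e. C = Spec A with A = k[x_1, …, x_n]/I for an ideal I generated by
homogeneous polynomials, and assume C is normal (A is an integrally closed domain). Then Pic(C) = 0:
every invertible A-module is free. -/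
theorem result (k : Type u) [Field k] (n : ℕ)
    (I : Ideal (MvPolynomial (Fin n) k))
    (hI : ∃ s : Set (MvPolynomial (Fin n) k), (∀ f ∈ s, ∃ d : ℕ, f.IsHomogeneous d) ∧ I = Ideal.span s)
    [IsDomain (MvPolynomial (Fin n) k ⧸ I)] [IsIntegrallyClosed (MvPolynomial (Fin n) k ⧸ I)]
    (M : Type u) [AddCommGroup M] [Module (MvPolynomial (Fin n) k ⧸ I) M]
    [Module.Invertible (MvPolynomial (Fin n) k ⧸ I) M] :
    Module.Free (MvPolynomial (Fin n) k ⧸ I) M := by
  classical
  obtain ⟨s, hs, hIs⟩ := hI
  let A := MvPolynomial (Fin n) k ⧸ I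
  let mk : MvPolynomial (Fin n) k →ₐ[k] A := Ideal.Quotient.mkₐ k I
  let φ₀ : MvPolynomial (Fin n) k →ₐ[k] Polynomial A :=
    MvPolynomial.aeval fun i => Polynomial.C (mk (MvPolynomial.X i)) * Polynomial.X
  have hhom : ∀ (f : MvPolynomial (Fin n) k) (d : ℕ), f.IsHomogeneous d →
      φ₀ f = Polynomial.C (mk f) * Polynomial.X ^ d := by
    intro f d hf
    have h0 : ∀ g : MvPolynomial (Fin n) k,
        MvPolynomial.aeval (fun i => Polynomial.C (mk (MvPolynomial.X i))) g = Polynomial.C (mk g) := fun g => by
      induction g using MvPolynomial.induction_on with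
      | C a =>
        rw [MvPolynomial.aeval_C, ← MvPolynomial.algebraMap_eq, mk.commutes]
        rfl
      | add a b ha hb => rw [map_add, ha, hb, map_add, map_add]
      | mul_X a i ha => rw [map_mul, ha, MvPolynomial.aeval_X, map_mul, map_mul]
    rw [← h0, f.as_sum, map_sum, map_sum, Finset.sum_mul]
    refine Finset.sum_congr rfl fun m hm => ?_
    have hdeg : Finsupp.degree m = d := by
      rw [Finsupp.degree_eq_weight_one]
      exact hf (MvPolynomial.mem_support_iff.1 hm)
    simp only [φ₀, MvPolynomial.aeval_monomial, Finsupp.prod]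
    have key : ∀ T : Finset (Fin n), (∏ x ∈ T, (Polynomial.C (mk (MvPolynomial.X x)) * Polynomial.X) ^ m x) =
        (∏ x ∈ T, Polynomial.C (mk (MvPolynomial.X x)) ^ m x) * Polynomial.X ^ (∑ x ∈ T, m x) := by
      intro T
      induction T using Finset.induction_on with
      | empty => simp
      | insert a T ha ih => rw [Finset.prod_insert ha, Finset.prod_insert ha, Finset.sum_insert ha, ih]; ring
    refine (congrArg _ (key m.support)).trans ?_
    rw [show (∑ i ∈ m.support, m i) = d from hdeg]
    exact (mul_assoc _ _ _).symm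
  have hI0 : ∀ a ∈ I, φ₀ a = 0 := by
    intro a ha
    have : I ≤ RingHom.ker φ₀ := by
      refine hIs.le.trans (Ideal.span_le.2 fun f hf => ?_)
      obtain ⟨d, hd⟩ := hs f hf
      have h0 : mk f = 0 := Ideal.Quotient.eq_zero_iff_mem.2 (hIs ▸ Ideal.subset_span hf)
      rw [SetLike.mem_coe, RingHom.mem_ker, hhom f d hd, h0, map_zero, zero_mul]
    exact this ha
  let φ : A →+* Polynomial A := Ideal.Quotient.lift I φ₀.toRingHom hI0
  have hφ : ∀ p, φ (mk p) = φ₀ p := fun p => rfl
  have hsum : ∀ (p : MvPolynomial (Fin n) k) (i : ℕ),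
      (φ₀ p).coeff i = mk (MvPolynomial.homogeneousComponent i p) := by
    intro p i
    conv_lhs => rw [← p.sum_homogeneousComponent]
    rw [map_sum, Polynomial.finset_sum_coeff]
    simp only [hhom _ _ (MvPolynomial.homogeneousComponent_isHomogeneous _ p), Polynomial.coeff_C_mul,
      Polynomial.coeff_X_pow, mul_ite, mul_one, mul_zero]
    rw [Finset.sum_ite_eq (Finset.range (p.totalDegree + 1)) i]
    split_ifs with h
    · rfl
    · rw [MvPolynomial.homogeneousComponent_eq_zero _ _ (by simpa using h), map_zero]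
  refine PicCone27.free_of_invertible φ (fun a => ?_) (fun a => ?_) (fun a i => ?_) M
  · obtain ⟨p, rfl⟩ := Ideal.Quotient.mkₐ_surjective k I a
    have hev : ((Polynomial.evalRingHom (1 : A)).comp φ₀.toRingHom) = mk.toRingHom :=
      MvPolynomial.ringHom_ext (fun c => by simp [φ₀, ← MvPolynomial.algebraMap_eq]) (fun j => by simp [φ₀])
    exact RingHom.congr_fun hev p
  · obtain ⟨p, rfl⟩ := Ideal.Quotient.mkₐ_surjective k I a
    rw [hφ, hsum, MvPolynomial.homogeneousComponent_zero, ← MvPolynomial.algebraMap_eq, mk.commutes]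
    rcases eq_or_ne (MvPolynomial.coeff 0 p) 0 with h | h
    · exact Or.inl (by rw [h, map_zero])
    · exact Or.inr ((isUnit_iff_ne_zero.2 h).map (algebraMap k A))
  · obtain ⟨p, rfl⟩ := Ideal.Quotient.mkₐ_surjective k I a
    rw [hφ, hsum, hφ, hhom _ _ (MvPolynomial.homogeneousComponent_isHomogeneous i p)]

end Groth.Agent.S15836
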