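import Groth.Statements.S15837
import Groth.Agent.Lib.FixClosed.Finite27
import Groth.Agent.Lib.FEt21.Degree
-- import your own Groth.Agent.* helpers here

set_option autoImplicit false
universe u
open CategoryTheory MonoidalCategory CartesianMonoidalCategory MonObj GrpObj AlgebraicGeometry
open SprIso

namespace Groth.Agent.S15837

/-- Let S be a scheme, G an S-group scheme of finite presentation acting on an S-scheme X which is
affine and of finite presentation over S, and Y a closed subscheme of X which is finite, flat and of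
finite presentation over S. Then the functorial stabilizer of Y in G — whose points with values in
an S-scheme T are the points g of G such that g acts as the identity on every point of Y with values
in a scheme over T — is represented by a closed subscheme of G whose inclusion is of finite
presentation. -/
theorem result (S : Scheme.{u}) (G X Y : Over S) [GrpObj G]
    [LocallyOfFinitePresentation G.hom] [QuasiCompact G.hom] [QuasiSeparated G.hom]
    [IsAffineHom X.hom] [LocallyOfFinitePresentation X.hom] (a : AlgGrp.Action G X)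
    (i : Y ⟶ X) [IsClosedImmersion i.left] [IsFinite Y.hom] [Flat Y.hom] [LocallyOfFinitePresentation Y.hom] :
    ∃ (Z : Over S) (j : Z ⟶ G), IsClosedImmersion j.left ∧ LocallyOfFinitePresentation j.left ∧
      ∀ (T : Over S) (g : T ⟶ G), (∃ z : T ⟶ Z, z ≫ j = g) ↔
        ∀ (T' : Over S) (t : T' ⟶ T) (y : T' ⟶ Y), lift (t ≫ g) (y ≫ i) ≫ a.act = y ≫ i := by
  haveI : IsSeparated X.hom := inferInstance
  let q₁ : Y ⊗ G ⟶ X := lift (CartesianMonoidalCategory.snd Y G) (CartesianMonoidalCategory.fst Y G ≫ i) ≫ a.act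
  let q₂ : Y ⊗ G ⟶ X := CartesianMonoidalCategory.fst Y G ≫ i
  have hq : q₁.left ≫ X.hom = q₂.left ≫ X.hom := (Over.w q₁).trans (Over.w q₂).symm
  have hgood : ∀ y : G.left, ∃ V : G.left.Opens, y ∈ V ∧ GrothLib.FixClosed.Good Y.hom G.hom V := by
    intro y
    obtain ⟨W, hW, hy, hfree⟩ := GrothLib.FEt21.exists_free_affine Y.hom (G.hom y)
    exact ⟨G.hom ⁻¹ᵁ W, hy, ⟨W, hW⟩, le_rfl, hfree⟩
  obtain ⟨I, hIfp, hI⟩ := GrothLib.FixClosed.exists_lfp_fx_iff (f := Y.hom) (g := G.hom)
    (q₁ := q₁.left) (q₂ := q₂.left) X.hom hq hgood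
  refine ⟨Over.mk (I.subschemeι ≫ G.hom), Over.homMk I.subschemeι rfl,
    inferInstanceAs (IsClosedImmersion I.subschemeι), hIfp, fun T y => ?_⟩
  have hfix : (∀ (T' : Over S) (t : T' ⟶ T) (z : T' ⟶ Y), lift (t ≫ y) (z ≫ i) ≫ a.act = z ≫ i) ↔
      (Y ◁ y) ≫ q₁ = (Y ◁ y) ≫ q₂ := by
    have e₁ : (Y ◁ y) ≫ q₁ =
        lift (CartesianMonoidalCategory.snd Y T ≫ y) (CartesianMonoidalCategory.fst Y T ≫ i) ≫ a.act := by
      rw [← Category.assoc, comp_lift, whiskerLeft_snd, whiskerLeft_fst_assoc]
    have e₂ : (Y ◁ y) ≫ q₂ = CartesianMonoidalCategory.fst Y T ≫ i := by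
      rw [whiskerLeft_fst_assoc]
    rw [e₁, e₂]
    constructor
    · intro h
      exact h (Y ⊗ T) (CartesianMonoidalCategory.snd Y T) (CartesianMonoidalCategory.fst Y T)
    · intro h T' t z
      have := congrArg (lift z t ≫ ·) h
      rw [← Category.assoc, comp_lift, lift_snd_assoc, lift_fst_assoc] at this
      exact this
  have hfx : (Y ◁ y) ≫ q₁ = (Y ◁ y) ≫ q₂ ↔
      GrothLib.FixClosed.Fx Y.hom G.hom q₁.left q₂.left y.left := by
    let k : Limits.pullback Y.hom (y.left ≫ G.hom) ⟶ Limits.pullback Y.hom T.hom :=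
      (Limits.pullback.congrHom rfl (Over.w y)).hom
    have hk : GrothLib.FixClosed.gm Y.hom G.hom y.left = k ≫ (Y ◁ y).left := by
      have e₁ : (Y ◁ y).left ≫ Limits.pullback.fst Y.hom G.hom = Limits.pullback.fst Y.hom T.hom :=
        congrArg CommaMorphism.left (whiskerLeft_fst Y y)
      have e₂ : (Y ◁ y).left ≫ Limits.pullback.snd Y.hom G.hom = Limits.pullback.snd Y.hom T.hom ≫ y.left :=
        congrArg CommaMorphism.left (whiskerLeft_snd Y y)
      apply Limits.pullback.hom_ext
      · rw [GrothLib.FixClosed.gm_fst]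
        refine Eq.symm ((Category.assoc _ _ _).trans ((congrArg (k ≫ ·) e₁).trans ?_))
        simp [k, Limits.pullback.map, Limits.pullback.lift_fst]
      · rw [GrothLib.FixClosed.gm_snd]
        refine Eq.symm ((Category.assoc _ _ _).trans ((congrArg (k ≫ ·) e₂).trans ?_))
        simp [k, Limits.pullback.map, Limits.pullback.lift_snd_assoc]
    unfold GrothLib.FixClosed.Fx
    rw [hk]
    constructor
    · intro h
      exact (Category.assoc _ _ _).trans ((congrArg (k ≫ ·) (congrArg CommaMorphism.left h)).trans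
        (Category.assoc _ _ _).symm)
    · intro h
      apply Over.OverMorphism.ext
      exact (cancel_epi k).1 ((Category.assoc _ _ _).symm.trans (h.trans (Category.assoc _ _ _)))
  rw [hfix, hfx, hI]
  constructor
  · rintro ⟨z, rfl⟩
    calc I = I.subschemeι.ker := I.ker_subschemeι.symm
      _ ≤ _ := Scheme.Hom.le_ker_comp z.left I.subschemeι
  · intro h
    refine ⟨Over.homMk (IsClosedImmersion.lift I.subschemeι y.left (by rwa [Scheme.IdealSheafData.ker_subschemeι])) ?_,
      Over.OverMorphism.ext (IsClosedImmersion.lift_fac _ _ _)⟩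
    change _ ≫ I.subschemeι ≫ G.hom = T.hom
    rw [IsClosedImmersion.lift_fac_assoc, Over.w]

end Groth.Agent.S15837
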