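import Groth.Statements.S15838
import Mathlib

set_option autoImplicit false
universe u
open scoped TensorProduct
open SprIso

namespace Groth.Agent.S15838

theorem mem_adjoin_of_jordan {k : Type u} [Field k] [PerfectField k] {V : Type u} [AddCommGroup V]
    [Module k V] [FiniteDimensional k V] {X Y N : Module.End k V} (hY : Y.IsSemisimple)
    (hN : IsNilpotent N) (hc : Commute Y N) (h : X = Y + N) :
    Y ∈ Algebra.adjoin k ({X} : Set (Module.End k V)) := by
  obtain ⟨n, hn, s, hs, hn', hs', h'⟩ := X.exists_isNilpotent_isSemisimple
  have hns : Commute n s :=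
    Algebra.commute_of_mem_adjoin_singleton_of_commute hs
      (Algebra.commute_of_mem_adjoin_singleton_of_commute hn (Commute.refl X)).symm
  obtain ⟨-, rfl⟩ := Module.End.isNilpotent_isSemisimple_unique hN hY hn' hs' hc.symm hns
    (by rw [add_comm, ← h, ← h'])
  exact hs

theorem commute_adjoin {k : Type u} [Field k] {V : Type u} [AddCommGroup V] [Module k V]
    {R : Type u} [CommRing R] [Algebra k R] {h : Module.End R (R ⊗[k] V)} {X Y : Module.End k V}
    (hY : Y ∈ Algebra.adjoin k ({X} : Set (Module.End k V))) (hc : Commute h (X.baseChange R)) :
    Commute h (Y.baseChange R) := by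
  have hle : Algebra.adjoin k ({X} : Set (Module.End k V)) ≤
      (Subalgebra.centralizer k ({h} : Set (Module.End R (R ⊗[k] V)))).comap (Module.End.baseChangeHom k R V) := by
    rw [Algebra.adjoin_le_iff, Set.singleton_subset_iff]
    intro z hz
    rw [Set.mem_singleton_iff.1 hz]
    exact hc.eq
  exact (hle hY) h rfl

/-- General linear group case: this is the case G = GL(V), to which the general case reduces along a
closed embedding. Let k be a perfect field and V a finite-dimensional k-vector space. If an
invertible endomorphism g of V has multiplicative Jordan decomposition g = t u (t semisimple, u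
unipotent, t and u commuting), then the scheme-theoretic centralizer of g in GL(V) is the
centralizer of u inside the centralizer of t: for every commutative k-algebra R, an R-linear
endomorphism h of R ⊗ V commutes with g_R if and only if it commutes with both t_R and u_R.
Likewise, if an endomorphism X of V has additive Jordan decomposition X = Y + N (Y semisimple, N
nilpotent, commuting), then h commutes with X_R if and only if it commutes with both Y_R and N_R. -/
theorem result (k : Type u) [Field k] [PerfectField k]
    (V : Type u) [AddCommGroup V] [Module k V] [FiniteDimensional k V]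
    (R : Type u) [CommRing R] [Algebra k R] (h : Module.End R (R ⊗[k] V)) :
    (∀ (g t u : Module.End k V), IsUnit g → t.IsSemisimple → IsNilpotent (u - 1) → Commute t u → g = t * u →
      (Commute h (g.baseChange R) ↔ Commute h (t.baseChange R) ∧ Commute h (u.baseChange R))) ∧
    (∀ (X Y N : Module.End k V), Y.IsSemisimple → IsNilpotent N → Commute Y N → X = Y + N →
      (Commute h (X.baseChange R) ↔ Commute h (Y.baseChange R) ∧ Commute h (N.baseChange R))) := by
  refine ⟨fun g t u hg ht hu hcomm hgtu => ?_, fun X Y N hY hN hcomm hX => ?_⟩
  · subst hgtu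
    have hu' : IsUnit u := by
      have h := hu.isUnit_add_one
      rwa [sub_add_cancel] at h
    have htu : IsUnit t := (hcomm.isUnit_mul_iff.1 hg).1
    have hY := mem_adjoin_of_jordan (X := t * u) (N := t * (u - 1)) ht
      ((hcomm.sub_right (Commute.one_right t)).isNilpotent_mul_left hu)
      ((Commute.refl t).mul_right (hcomm.sub_right (Commute.one_right t))) (by rw [mul_sub, mul_one]; abel)
    refine ⟨fun hc => ⟨commute_adjoin hY hc, ?_⟩, fun hc => ?_⟩
    · have h1 := (commute_adjoin hY hc).eq
      have h2 := hc.eq
      rw [LinearMap.baseChange_mul] at h2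
      obtain ⟨T, hT⟩ := htu.map (Module.End.baseChangeHom k R V)
      change (T : Module.End R (R ⊗[k] V)) = t.baseChange R at hT
      rw [← hT] at h1 h2
      refine (Units.mul_right_inj T).1 ?_
      rw [← mul_assoc, ← h1, mul_assoc, h2, mul_assoc]
    · rw [LinearMap.baseChange_mul]
      exact hc.1.mul_right hc.2
  · subst hX
    refine ⟨fun hc => ?_, fun hc => ?_⟩
    · have h1 := commute_adjoin (mem_adjoin_of_jordan hY hN hcomm rfl) hc
      refine ⟨h1, ?_⟩
      have hN' : N ∈ Algebra.adjoin k ({Y + N} : Set (Module.End k V)) := by
        have := sub_mem (Algebra.self_mem_adjoin_singleton k (Y + N)) (mem_adjoin_of_jordan hY hN hcomm rfl)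
        rwa [add_sub_cancel_left] at this
      exact commute_adjoin hN' hc
    · rw [LinearMap.baseChange_add]
      exact hc.1.add_right hc.2

end Groth.Agent.S15838
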