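import Groth.Agent.Lib.AlgSp.LocP
import Groth.Statements.S9959
-- import your own Groth.Agent.* helpers here

set_option autoImplicit false
universe u
open CategoryTheory CategoryTheory.Limits AlgebraicGeometry
open AlgSp

namespace Groth.Agent.S9959

/-- Cancellation of finite presentation by a morphism locally of finite type. -/
theorem lfp_of_comp {X Y Z : Scheme.{u}} (f : X ⟶ Y) (g : Y ⟶ Z) (h : LocallyOfFinitePresentation (f ≫ g))
    (hg : LocallyOfFiniteType g) : LocallyOfFinitePresentation f := by
  wlog hZ : IsAffine Z generalizing X Y Z with H0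
  · rw [IsZariskiLocalAtTarget.iff_of_iSup_eq_top (P := @LocallyOfFinitePresentation) _
      (g.iSup_preimage_eq_top (iSup_affineOpens_eq_top Z))]
    intro U
    have H := IsZariskiLocalAtTarget.restrict h U.1
    rw [morphismRestrict_comp] at H
    exact H0 (f ∣_ g ⁻¹ᵁ U.1) (g ∣_ U.1) H (IsZariskiLocalAtTarget.restrict hg U.1) U.2
  wlog hY : IsAffine Y generalizing X Y with H1
  · rw [IsZariskiLocalAtTarget.iff_of_iSup_eq_top (P := @LocallyOfFinitePresentation) _
      (iSup_affineOpens_eq_top Y)]
    intro U
    have H := HasRingHomProperty.comp_of_isOpenImmersion @LocallyOfFinitePresentation (f ⁻¹ᵁ U.1).ι (f ≫ g) h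
    rw [← morphismRestrict_ι_assoc] at H
    exact H1 (f ∣_ U.1) (U.1.ι ≫ g) H
      (HasRingHomProperty.comp_of_isOpenImmersion @LocallyOfFiniteType U.1.ι g hg) U.2
  wlog hX : IsAffine X generalizing X
  · rw [IsZariskiLocalAtSource.iff_of_iSup_eq_top (P := @LocallyOfFinitePresentation) _
      (iSup_affineOpens_eq_top X)]
    intro U
    have H := HasRingHomProperty.comp_of_isOpenImmersion @LocallyOfFinitePresentation U.1.ι (f ≫ g) h
    rw [← Category.assoc] at H
    exact this (U.1.ι ≫ f) H U.2
  rw [HasRingHomProperty.iff_of_isAffine (P := @LocallyOfFinitePresentation)] at h ⊢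
  have hg := HasRingHomProperty.appTop (P := @LocallyOfFiniteType) g hg
  rw [Scheme.Hom.comp_appTop, CommRingCat.hom_comp] at h
  algebraize [g.appTop.hom, f.appTop.hom, f.appTop.hom.comp g.appTop.hom]
  exact RingHom.finitePresentation_algebraMap.2
    (Algebra.FinitePresentation.of_restrict_scalars_finitePresentation Γ(Z, ⊤) Γ(Y, ⊤) Γ(X, ⊤))

/-- Given X -> Y -> Z with X -> Z locally finitely presented and Y -> Z locally of finite type, X -> Y
is locally finitely presented (all three etale locally on source and target). -/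
theorem result {S : Scheme.{u}} {X Y Z : AlgSp.Space S} (f : X ⟶ Y) (g : Y ⟶ Z)
    (hX : AlgSp.LocP @LocallyOfFinitePresentation (f ≫ g).hom) (hY : AlgSp.LocP @LocallyOfFiniteType g.hom) :
    AlgSp.LocP @LocallyOfFinitePresentation f.hom := by
  obtain ⟨W, r, re, rs⟩ := Z.property.atlas
  obtain ⟨V, q, β, qe, hq, hqs⟩ := GrothLib.AlgSp.exists_chart_over Y.property Z.property g.hom r re
  obtain ⟨U, p, α, pe, hp, hps⟩ := GrothLib.AlgSp.exists_chart_over X.property Y.property f.hom q qe
  have hh : LocallyOfFinitePresentation (α.left ≫ β.left) := hX p r (α ≫ β) pe re (by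
    rw [ObjectProperty.FullSubcategory.comp_hom, ← Category.assoc, hp, Category.assoc, hq,
      Functor.map_comp, Category.assoc])
  exact GrothLib.AlgSp.EtLocal.lfp.locP_of_chart pe (hps (hqs rs)) qe hp (lfp_of_comp α.left β.left hh (hY q r β qe re hq))

end Groth.Agent.S9959
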