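import Groth.Statements.S15839
import Groth.Agent.S9959
import Mathlib.CategoryTheory.Monoidal.Cartesian.Over
import Mathlib.CategoryTheory.Limits.Constructions.Over.Connected

set_option autoImplicit false
universe u
open CategoryTheory MonoidalCategory CartesianMonoidalCategory MonObj GrpObj AlgebraicGeometry
open SprIso

namespace Groth.Agent.S15839

/-- Let S be a scheme, G an S-group scheme which is affine and of finite presentation over S, and g a
section of G over S. Then the centralizer of g — the subfunctor of G whose points with values in an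
S-scheme T are the points x of G with x g_T = g_T x — is represented by a closed subscheme of G
whose inclusion is of finite presentation. -/
theorem result (S : Scheme.{u}) (G : Over S) [GrpObj G]
    [IsAffineHom G.hom] [LocallyOfFinitePresentation G.hom] (g : 𝟙_ (Over S) ⟶ G) :
    ∃ (Z : Over S) (j : Z ⟶ G), IsClosedImmersion j.left ∧ LocallyOfFinitePresentation j.left ∧
      ∀ (T : Over S) (x : T ⟶ G), (∃ z : T ⟶ Z, z ≫ j = x) ↔
        x * (toUnit T ≫ g) = (toUnit T ≫ g) * x := by
  let c : G ⟶ G := toUnit G ≫ g
  let a : G ⟶ G := 𝟙 G * c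
  let b : G ⟶ G := c * 𝟙 G
  let Δ : G ⟶ G ⊗ G := lift (𝟙 G) (𝟙 G)
  have hΔl : Δ.left = CategoryTheory.Limits.pullback.diagonal G.hom := Over.lift_left _ _
  have hΔc : IsClosedImmersion Δ.left := by rw [hΔl]; infer_instance
  have hΔf : LocallyOfFinitePresentation Δ.left := by
    rw [hΔl]
    refine Groth.Agent.S9959.lfp_of_comp _ (CategoryTheory.Limits.pullback.fst G.hom G.hom) ?_ inferInstance
    rw [CategoryTheory.Limits.pullback.diagonal_fst]
    infer_instance
  have sq := (IsPullback.of_hasPullback (lift a b) Δ).map (Over.forget S)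
  refine ⟨_, CategoryTheory.Limits.pullback.fst (lift a b) Δ, MorphismProperty.of_isPullback sq.flip hΔc,
    MorphismProperty.of_isPullback sq.flip hΔf, fun T x => ?_⟩
  have ha : x ≫ a = x * (toUnit T ≫ g) := by simp [a, c, MonObj.comp_mul]
  have hb : x ≫ b = (toUnit T ≫ g) * x := by simp [b, c, MonObj.comp_mul]
  rw [← ha, ← hb]
  constructor
  · rintro ⟨z, rfl⟩
    have h : (z ≫ CategoryTheory.Limits.pullback.fst (lift a b) Δ) ≫ lift a b =
        (z ≫ CategoryTheory.Limits.pullback.snd (lift a b) Δ) ≫ Δ := by
      rw [Category.assoc, Category.assoc, CategoryTheory.Limits.pullback.condition]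
    have h1 := congrArg (· ≫ fst G G) h
    have h2 := congrArg (· ≫ snd G G) h
    simp [Δ] at h1 h2 ⊢
    exact h1.trans h2.symm
  · intro h
    refine ⟨CategoryTheory.Limits.pullback.lift x (x ≫ a) ?_, CategoryTheory.Limits.pullback.lift_fst _ _ _⟩
    apply CartesianMonoidalCategory.hom_ext <;> simp [Δ, h]

end Groth.Agent.S15839
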