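import Groth.Statements.S15840
import Mathlib

set_option autoImplicit false
universe u
open SprIso

namespace Groth.Agent.S15840

/-- For G = SL_n (n = r + 1) over a field of characteristic p > 0, write n = m p^e with m prime to p, so
that the identity component of the centre of G is μ_{p^e} embedded diagonally. The character of the
i-th exterior power of the standard representation takes the value C(n, i) α^i at a point α of
μ_{p^e}, and this is constant: for every commutative ring R of characteristic p and every α in R
with α^(p^e) = 1 one has C(n, i) α^i = C(n, i) in R, for all i. -/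
theorem result (p : ℕ) [Fact p.Prime] (R : Type u) [CommRing R]
    [CharP R p] (n : ℕ) (hn : 0 < n) (α : R) (hα : α ^ (p ^ padicValNat p n) = 1) (i : ℕ) :
    (n.choose i : R) * α ^ i = (n.choose i : R) := by
  classical
  have hp' : p.Prime := Fact.out
  set v := padicValNat p n
  by_cases hi : p ^ v ∣ i
  · obtain ⟨c, rfl⟩ := hi
    rw [pow_mul, hα, one_pow, mul_one]
  · have hd : p ∣ n.choose i := by
      by_contra hnd
      apply hi
      have h1 : p ^ v ∣ n.choose i * i := by
        obtain ⟨n', rfl⟩ : ∃ n', n = n' + 1 := ⟨n - 1, by omega⟩
        rcases i with _ | i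
        · simp
        · rw [← Nat.add_one_mul_choose_eq]
          exact dvd_mul_of_dvd_left pow_padicValNat_dvd _
      exact (Nat.Coprime.pow_left v ((hp'.coprime_iff_not_dvd).2 hnd)).dvd_of_dvd_mul_left h1
    rw [(CharP.cast_eq_zero_iff R p _).2 hd, zero_mul]

end Groth.Agent.S15840
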