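import Groth.Statements.S15841
-- import your own Groth.Agent.* helpers here

set_option autoImplicit false
universe u
open scoped TensorProduct
open SprIso

namespace Groth.Agent.S15841

variable {ι M N : Type u} [AddCommGroup M] [AddCommGroup N] (P : RootPairing ι ℤ M N)
  (k : Type u) [Field k]

/-- product of coreflections along a list, base changed -/
noncomputable def W (l : List ι) : k ⊗[ℤ] N →ₗ[k] k ⊗[ℤ] N :=
  ((l.map (fun i => ((P.coreflection i : N ≃ₗ[ℤ] N) : N →ₗ[ℤ] N))).prod).baseChange k

/-- a functional on `N` extended to `k` -/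
noncomputable def ext' (f : N →ₗ[ℤ] ℤ) : k ⊗[ℤ] N →ₗ[k] k :=
  (TensorProduct.AlgebraTensorModule.rid ℤ k k).toLinearMap.comp (f.baseChange k)

lemma ext'_tmul (f : N →ₗ[ℤ] ℤ) (c : k) (n : N) : ext' k f (c ⊗ₜ n) = (f n : k) * c := by
  simp [ext']

lemma W_nil (x : k ⊗[ℤ] N) : W P k [] x = x := by simp [W, Module.End.one_eq_id]

lemma W_cons (a : ι) (l : List ι) (x : k ⊗[ℤ] N) :
    W P k (a :: l) x = W P k l x - ext' k (P.root' a) (W P k l x) • ((1 : k) ⊗ₜ P.coroot a) := by
  have h : ∀ y : k ⊗[ℤ] N, (((P.coreflection a : N ≃ₗ[ℤ] N) : N →ₗ[ℤ] N).baseChange k) y =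
      y - ext' k (P.root' a) y • ((1 : k) ⊗ₜ P.coroot a) := by
    intro y
    induction y using TensorProduct.induction_on with
    | zero => simp
    | tmul c n =>
      rw [LinearMap.baseChange_tmul, ext'_tmul, LinearEquiv.coe_coe,
        RootPairing.coreflection_apply, TensorProduct.tmul_sub, TensorProduct.tmul_smul,
        TensorProduct.smul_tmul', TensorProduct.smul_tmul', zsmul_eq_mul, smul_eq_mul, mul_one]
    | add y z hy hz =>
      rw [map_add, hy, hz, map_add, add_smul]
      abel
  rw [← h]
  simp only [W, List.map_cons, List.prod_cons, Module.End.mul_eq_comp, LinearMap.baseChange_comp,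
    LinearMap.comp_apply]

lemma ext'_W (ω : N →ₗ[ℤ] ℤ) : ∀ (l : List ι), (∀ j ∈ l, ω (P.coroot j) = 0) → ∀ x,
    ext' k ω (W P k l x) = ext' k ω x
  | [], _, x => by rw [W_nil]
  | a :: l, h, x => by
    rw [W_cons, map_sub, map_smul, ext'_tmul, h a (List.mem_cons_self),
      ext'_W ω l (fun j hj => h j (List.mem_cons_of_mem _ hj))]
    simp

lemma main (b : P.Base)
    (hsc : ∀ i ∈ b.support, ∃ ω : M, P.coroot' i ω = 1 ∧ ∀ j ∈ b.support, j ≠ i → P.coroot' j ω = 0) :
    ∀ (l : List ι), l.Nodup → (∀ i ∈ l, i ∈ b.support) → ∀ x, W P k l x = x →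
      ∀ i ∈ l, ext' k (P.root' i) x = 0
  | [], _, _, _, _, i, hi => absurd hi (List.not_mem_nil)
  | a :: l, hl, hlb, x, hx, i, hi => by
    obtain ⟨ha, hl'⟩ := List.nodup_cons.1 hl
    obtain ⟨ω, hω1, hω0⟩ := hsc a (hlb a List.mem_cons_self)
    rw [W_cons] at hx
    have hc : ext' k (P.root' a) (W P k l x) = 0 := by
      have := congrArg (ext' k (P.toLinearMap ω)) hx
      rw [map_sub, map_smul, ext'_tmul, ext'_W P k _ l (fun j hj => hω0 j
        (hlb j (List.mem_cons_of_mem _ hj)) (fun e => ha (e ▸ hj)))] at this
      have h1 : (P.toLinearMap ω) (P.coroot a) = 1 := hω1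
      simpa [h1] using this
    rw [hc, zero_smul, sub_zero] at hx
    rcases List.mem_cons.1 hi with rfl | hi
    · rwa [hx] at hc
    · exact main b hsc l hl' (fun j hj => hlb j (List.mem_cons_of_mem _ hj)) x hx i hi

/-- For a connected reductive group G with maximal torus T whose derived group is simply connected, and
a Coxeter element w (the product of the simple reflections, each once, in any order), an element of
Lie T = k ⊗ X_*(T) fixed by Ad(w) is killed by the differential of every simple root, i.e. lies in
the centre of Lie G. In root-datum form: let P be a root pairing over ℤ with character lattice M and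
cocharacter lattice N, b a base, and suppose each simple coroot has a dual character ω_i in M with
⟨ω_i, α_i^∨⟩ = 1 and ⟨ω_i, α_j^∨⟩ = 0 for every other simple j (the simply connected derived group
hypothesis). If l lists the simple roots without repetition, w^∨ is the composite of the
coreflections along l acting on N, k is a field and H in k ⊗ N satisfies w^∨_k H = H, then (α_i)_k H
= 0 for every simple root α_i, where (α_i)_k is the base change to k of the functional ⟨α_i, −⟩ on
N. (Stated for an arbitrary field k; the published setting is an algebraically closed field, and the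
argument does not depend on k.) -/
theorem result {ι M N : Type u} [AddCommGroup M] [AddCommGroup N]
    (P : RootPairing ι ℤ M N) (b : P.Base)
    (hsc : ∀ i ∈ b.support, ∃ ω : M, P.coroot' i ω = 1 ∧ ∀ j ∈ b.support, j ≠ i → P.coroot' j ω = 0)
    (l : List ι) (hl : l.Nodup) (hlb : ∀ i : ι, i ∈ l ↔ i ∈ b.support)
    (k : Type u) [Field k] (H : k ⊗[ℤ] N)
    (hH : ((l.map (fun i => ((P.coreflection i : N ≃ₗ[ℤ] N) : N →ₗ[ℤ] N))).prod).baseChange k H = H) :
    ∀ i ∈ b.support, (P.root' i).baseChange k H = 0 := by
  intro i hi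
  have := main P k b hsc l hl (fun j hj => (hlb j).1 hj) H hH i ((hlb i).2 hi)
  exact (TensorProduct.AlgebraTensorModule.rid ℤ k k).map_eq_zero_iff.1 this

end Groth.Agent.S15841
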