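import Groth.Statements.S15845
import Mathlib

set_option autoImplicit false
universe u
open SprIso

namespace Groth.Agent.S15845

/-- General linear group case: this is the case G = GL_n with its upper-triangular Borel subgroup B
(derived group SL_n simply connected, all primes good, so the hypotheses on the characteristic
hold), together with the companion statement for a regular nilpotent element of Lie B. Let k be a
field and u an n × n upper-triangular matrix over k whose diagonal entries are all equal and whose
superdiagonal entries u_{i,i+1} are all non-zero — for diagonal 1 this is a regular unipotent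
element of B(k), for diagonal 0 a regular nilpotent element of Lie B. Then the centralizer of u in
GL_n is contained in B and is the product of the centre with the centralizer in the unipotent
radical: for every commutative k-algebra R and every invertible x ∈ M_n(R) commuting with u_R, x is
upper triangular and its diagonal entries are all equal. (The smoothness of the centralizer in the
unipotent radical, also part of the published statement, is not stated here.) -/
theorem result (k : Type u) [Field k] (n : ℕ)
    (u : Matrix (Fin n) (Fin n) k) (htri : ∀ i j : Fin n, j < i → u i j = 0) (hdiag : ∀ i j : Fin n, u i i = u j j)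
    (hreg : ∀ (i j : Fin n), j.val = i.val + 1 → u i j ≠ 0)
    (R : Type u) [CommRing R] [Algebra k R] (x : Matrix (Fin n) (Fin n) R) (hx : IsUnit x)
    (hxu : x * u.map (algebraMap k R) = u.map (algebraMap k R) * x) :
    (∀ i j : Fin n, j < i → x i j = 0) ∧ (∀ i j : Fin n, x i i = x j j) := by
  classical
  have hcomm : ∀ i j : Fin n, ∑ t, x i t * algebraMap k R (u t j) = ∑ t, algebraMap k R (u i t) * x t j := by
    intro i j
    simpa [Matrix.mul_apply] using congrFun (congrFun hxu i) j
  have hN : ∀ i j : Fin n, ∑ t, (if t = j then 0 else x i t * algebraMap k R (u t j)) =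
      ∑ t, (if t = i then 0 else algebraMap k R (u i t) * x t j) := by
    intro i j
    have h := hcomm i j
    rw [← Finset.add_sum_erase _ _ (Finset.mem_univ j), ← Finset.add_sum_erase _ _ (Finset.mem_univ i), hdiag j i,
      mul_comm, add_right_inj] at h
    rw [← Finset.add_sum_erase _ _ (Finset.mem_univ j), ← Finset.add_sum_erase _ _ (Finset.mem_univ i), if_pos rfl,
      if_pos rfl, zero_add, zero_add]
    refine Eq.trans (Eq.trans (Finset.sum_congr rfl fun t ht => ?_) h) (Finset.sum_congr rfl fun t ht => ?_)
    · rw [if_neg (Finset.ne_of_mem_erase ht)]
    · rw [if_neg (Finset.ne_of_mem_erase ht)]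
  have hlow : ∀ (N : ℕ) (i j : Fin n), j.val = N → j < i → x i j = 0 := by
    intro N
    induction N using Nat.strong_induction_on with
    | _ N ih =>
    intro i j hj hji
    have hdown : ∀ (d : ℕ) (i : Fin n), n - i.val = d → j < i → x i j = 0 := by
      intro d
      induction d using Nat.strong_induction_on with
      | _ d ihd =>
      intro i hd hji
      obtain ⟨i', hi'⟩ : ∃ i' : Fin n, i.val = i'.val + 1 := ⟨⟨i.val - 1, by omega⟩, by
        show i.val = i.val - 1 + 1
        have : j.val < i.val := hji
        omega⟩
      have h := hN i' j
      rw [Finset.sum_eq_zero (fun t _ => ?_), Finset.sum_eq_single i (fun t _ hti => ?_) (by simp)] at h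
      · rw [if_neg (fun e => by rw [e] at hi'; omega)] at h
        have hu : IsUnit (algebraMap k R (u i' i)) := (Ne.isUnit (hreg i' i hi')).map _
        exact (hu.mul_right_eq_zero).1 h.symm
      · by_cases hti' : t = i'
        · rw [if_pos hti']
        rw [if_neg hti']
        rcases lt_or_ge t i' with hlt | hge
        · rw [htri i' t hlt, map_zero, zero_mul]
        · have h1 : i.val < t.val := by
            have : i'.val ≤ t.val := hge
            have : t.val ≠ i'.val := fun e => hti' (Fin.ext e)
            have : t.val ≠ i.val := fun e => hti (Fin.ext e)
            omega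
          rw [ihd (n - t.val) (by omega) t rfl (lt_trans hji h1), mul_zero]
      · by_cases htj : t = j
        · rw [if_pos htj]
        rw [if_neg htj]
        rcases lt_or_ge t j with hlt | hge
        · have h1 : t.val < j.val := hlt
          have h2 : j.val < i.val := hji
          rw [ih t.val (by omega) i' t rfl (show t.val < i'.val by omega), zero_mul]
        · rw [htri t j (lt_of_le_of_ne hge (Ne.symm htj)), map_zero, mul_zero]
    exact hdown _ i rfl hji
  have hlow' : ∀ i j : Fin n, j < i → x i j = 0 := fun i j h => hlow _ i j rfl h
  refine ⟨hlow', ?_⟩
  have hstep : ∀ i i' : Fin n, i'.val = i.val + 1 → x i i = x i' i' := by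
    intro i i' h
    have hN' := hN i i'
    rw [Finset.sum_eq_single i (fun t _ hti => ?_) (by simp), Finset.sum_eq_single i' (fun t _ hti => ?_) (by simp),
      if_neg (fun e => by rw [e] at h; omega), if_neg (fun e => by rw [e] at h; omega), mul_comm] at hN'
    · exact (((Ne.isUnit (hreg i i' h)).map (algebraMap k R)).mul_right_inj).1 hN'
    · by_cases ht : t = i
      · rw [if_pos ht]
      rw [if_neg ht]
      rcases lt_or_ge t i with hlt | hge
      · rw [htri i t hlt, map_zero, zero_mul]
      · have h1 : i'.val < t.val := by
          have : i.val ≤ t.val := hge
          have : t.val ≠ i.val := fun e => ht (Fin.ext e)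
          have : t.val ≠ i'.val := fun e => hti (Fin.ext e)
          omega
        rw [hlow' t i' h1, mul_zero]
    · by_cases ht : t = i'
      · rw [if_pos ht]
      rw [if_neg ht]
      rcases lt_or_ge t i with hlt | hge
      · rw [hlow' i t hlt, zero_mul]
      · have h1 : i'.val < t.val := by
          have : i.val ≤ t.val := hge
          have : t.val ≠ i'.val := fun e => ht (Fin.ext e)
          have : t.val ≠ i.val := fun e => hti (Fin.ext e)
          omega
        rw [htri t i' h1, map_zero, mul_zero]
  have hzero : ∀ (N : ℕ) (i : Fin n), i.val = N → x i i = x ⟨0, i.pos⟩ ⟨0, i.pos⟩ := by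
    intro N
    induction N with
    | zero => intro i hi; rw [show i = ⟨0, by omega⟩ from Fin.ext hi]
    | succ N ih => intro i hi; rw [← hstep ⟨N, by omega⟩ i hi, ih ⟨N, by omega⟩ rfl]
  intro i j
  rw [hzero _ i rfl, hzero _ j rfl]

end Groth.Agent.S15845
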