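import Groth.Statements.S15849
import Groth.Agent.Lib.DecSh20.MuExt

set_option autoImplicit false
set_option maxHeartbeats 1000000
set_option linter.style.haveILetI false
set_option backward.isDefEq.respectTransparency.types false
attribute [local irreducible] Curv2.euler
universe u
open CategoryTheory CategoryTheory.Limits AlgebraicGeometry
open ShStab

namespace Groth.Agent.S15849

/-- Let k be an algebraically closed field of characteristic zero and S a smooth projective surface over
k (integral, smooth over k, of dimension two, with a closed immersion over k into some projective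
space) whose Picard group is infinite cyclic, generated by the class of an ample invertible sheaf L.
Let N ⊆ L be a coherent subsheaf whose quotient L/N has support of dimension at most zero (N is L
twisted by the ideal sheaf of a finite subscheme, possibly empty), and let V be a coherent
O_S-module with torsion-free stalks in a short exact sequence 0 → O_S → V → N → 0 that does not
split. Then V is slope-stable of dimension two with respect to L: V has no coherent subsheaf with
one-dimensional support, and every coherent subsheaf whose multiplicity lies strictly between 0 and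
that of V has normalised slope of its Hilbert polynomial strictly smaller than that of V. (The
published statement does not ask the extension to be non-split; for the split extension V = O_S ⊕ N
the subsheaf N has larger slope than V, and the printed argument uses that the sequence does not
split, so non-splitness is assumed here.) -/
theorem result
    (k : Type u) [Field k] [IsAlgClosed k] [CharZero k]
    (S : Scheme.{u}) [S.Over (Spec (CommRingCat.of k))] [IsIntegral S]
    [Smooth (S ↘ Spec (CommRingCat.of k))] (hdim : topologicalKrullDim S = 2)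
    [IsProper (S ↘ Spec (CommRingCat.of k))]
    (hproj : ∃ (n : ℕ) (ι : S ⟶ CohB1.ProjSpace n k), IsClosedImmersion ι ∧
      ι ≫ CohB1.ProjSpace.toSpec n k = S ↘ Spec (CommRingCat.of k))
    (L : S.Modules) (hLi : PicF.IsInvertible L) (hLa : CohB1.IsAmple L)
    [PicGrp.Law S] (hgen : ∀ c : PicLoc.PicSet S, ∃ n : ℤ, c = PicGrp.cls L hLi ^ n)
    (hfree : ∀ n : ℤ, PicGrp.cls L hLi ^ n = 1 → n = 0)
    (N : S.Modules) (ι : N ⟶ L) [Mono ι] (hN : Coh.IsCoh N)
    (hZ : topologicalKrullDim (CohB1.support (cokernel ι)) ≤ 0)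
    (V : S.Modules) (hV : Coh.IsCoh V) (hVtf : TorSh.IsTorsionFree V)
    (a : Coh.structureModule S ⟶ V) (b : V ⟶ N) (w : a ≫ b = 0)
    (hex : (ShortComplex.mk a b w).ShortExact)
    (hns : ∀ r : V ⟶ Coh.structureModule S, a ≫ r ≠ 𝟙 (Coh.structureModule S)) :
    ShStab.IsMuStable k S L V 2 := by
  open GrothLib GrothLib.Snapper GrothLib.Ref1 in
  · haveI := Euler.isNoetherian_of_proper (X := S) k
    have hN' := Hilb20.isNormalScheme_of_smooth (X := S) k
    have hdim' : topologicalKrullDim S = ((2 : ℕ) : WithBot ℕ∞) := hdim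
    have hOi : PicF.IsInvertible (Coh.structureModule S) := Euler.isInvertible_structure
    have hOc : Coh.IsCoh (Coh.structureModule S) := Kleiman.isCoh_O k
    have hLc : Coh.IsCoh L := Euler.isCoh_of_isInvertible hLi
    have hR := FacDiv.isRef1_of_isInvertible hOi
    haveI := hOc.1
    have hu : DimLT (Set.univ : Set S) 3 := Kleiman.dimLT_univ hdim'.le
    haveI : Mono a := hex.mono_f
    have hpureV := DecSh20.isPure_of_torsionFree_surface (k := k) hdim' hV hVtf
    have hO0 : ¬ IsZero (Coh.structureModule S) := fun h => by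
      have := Hilb20.support_eq_empty_of_isZero h
      exact (this ▸ Kleiman.mem_support_structure (genericPoint S) :)
    have hV0 : ¬ IsZero V := fun h => hO0 ((IsZero.iff_id_eq_zero _).2 ((cancel_mono a).1 (h.eq_of_tgt _ _)))
    refine ⟨hV, hV0, hpureV V (𝟙 V) inferInstance hV hV0, fun F j hj hF => ?_, fun F j hj hF pF pV hpF hpV hpos hlt => ?_⟩
    · haveI := hj
      by_cases h0 : IsZero F
      · rw [Hilb20.support_eq_empty_of_isZero h0]
        haveI : IsEmpty (TopologicalSpace.IrreducibleCloseds (∅ : Set S)) := ⟨fun Z => Z.isIrreducible.nonempty.choose.2⟩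
        rw [topologicalKrullDim, Order.krullDim_eq_bot]
        simp
      · rw [hpureV F j hj hF h0]
        decide
    haveI := hj
    obtain ⟨pO, hpO⟩ := Hilb20.exists_isHilbPoly (k := k) hLa hOc (hu.mono (Set.subset_univ _))
    obtain ⟨pN, hpN⟩ := Hilb20.exists_isHilbPoly (k := k) hLa hN (hu.mono (Set.subset_univ _))
    obtain ⟨pL, hpL⟩ := Hilb20.exists_isHilbPoly (k := k) hLa hLc (hu.mono (Set.subset_univ _))
    have hA : 0 < StabCat.alpha 2 pO := Hilb20.alpha_pos_of_pure hLa hpureV a hOc hO0 hpO
    -- the invariants of L and N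
    obtain ⟨hL2, hL1⟩ : StabCat.alpha 2 pL = StabCat.alpha 2 pO ∧
        StabCat.alpha 1 pL = StabCat.alpha 1 pO + StabCat.alpha 2 pO := by
      have e : ShStab.twist S L (Coh.structureModule S) 1 ≅ L :=
        (DecSh20.nonempty_twist_one L _).some ≪≫ OX.tensorUnitLeftIso L
      have hp := Hilb20.isHilbPoly_congr e (DecSh20.isHilbPoly_twist hpO 1)
      obtain ⟨a2, a1⟩ := DecSh20.alpha_comp_shift
        (Hilb20.degree_lt_of_dimLT hLi hOc (hu.mono (Set.subset_univ _)) hpO) ((1 : ℕ) : ℚ)
      rw [Hilb20.isHilbPoly_unique hpL hp]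
      exact ⟨a2, by rw [a1]; simp⟩
    obtain ⟨hN2, hN1⟩ : StabCat.alpha 2 pN = StabCat.alpha 2 pL ∧ StabCat.alpha 1 pN = StabCat.alpha 1 pL := by
      obtain ⟨hC, -, pC, hpC, e⟩ := Hilb20.exists_quotient_poly hLa hN hLc ι hpN hpL
      have hd : DimLT (CohB1.support (cokernel ι)) 1 := Snapper.dimLT_of_dim_le (d := 0) hZ
      have h1 := Hilb20.alpha_eq_zero (d := 1) hLa hC hd hpC
      have h2 := Hilb20.alpha_eq_zero (d := 2) hLa hC (fun l hl => (hd l hl).trans_le one_le_two) hpC
      rw [e, Hilb20.alpha_add, Hilb20.alpha_add, h1, h2, add_zero, add_zero]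
      exact ⟨rfl, rfl⟩
    have eV := Hilb20.eq_add_of_shortExact hLi hex hOc hV hN hpO hpV hpN
    have hV2 : StabCat.alpha 2 pV = 2 * StabCat.alpha 2 pO := by
      rw [eV, Hilb20.alpha_add, hN2, hL2]; ring
    have hV1 : StabCat.alpha 1 pV = 2 * StabCat.alpha 1 pO + StabCat.alpha 2 pO := by
      rw [eV, Hilb20.alpha_add, hN1, hL1]; ring
    -- it suffices to bound the first coefficient of a rank one submodule
    suffices H : StabCat.alpha 2 pF = StabCat.alpha 2 pO ∧
        2 * StabCat.alpha 1 pF < 2 * StabCat.alpha 1 pO + StabCat.alpha 2 pO by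
      show StabCat.alpha 1 pF / StabCat.alpha 2 pF < StabCat.alpha 1 pV / StabCat.alpha 2 pV
      rw [H.1, hV2, hV1, div_lt_div_iff₀ hA (by positivity)]
      nlinarith [mul_lt_mul_of_pos_right H.2 hA]
    have hF0 : ¬ IsZero F := fun h => by
      rw [Hilb20.isHilbPoly_unique hpF (Hilb20.isHilbPoly_of_isZero h)] at hpos
      simp [StabCat.alpha] at hpos
    have hsV : Function.Injective (RefHull.stalkMapₗ a (genericPoint S)) := QCoh.stalkLin_injective a _
    have hlift : ∀ {G : S.Modules} (g : G ⟶ V), g ≫ b = 0 → ∃ q : G ⟶ Coh.structureModule S, q ≫ a = g :=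
      fun g hg => ⟨hex.fIsKernel.lift (KernelFork.ofι g hg), hex.fIsKernel.fac (KernelFork.ofι g hg) WalkingParallelPair.zero⟩
    by_cases hφ : j ≫ b = 0
    · obtain ⟨q, hq⟩ := hlift j hφ
      haveI : Mono q := by
        haveI : Mono (q ≫ a) := by rw [hq]; exact hj
        exact mono_of_mono q a
      obtain ⟨h2, h1, -⟩ := DecSh20.alpha_rankOne hN' hdim' hLa hOi q hF hF0 hpF hpO
      exact ⟨h2, by linarith⟩
    -- the map to N is injective
    haveI hmono : Mono (j ≫ b) := by
      by_contra hm
      have hK0 : ¬ IsZero (kernel (j ≫ b)) := fun hz => hm (Preadditive.mono_of_kernel_zero (hz.eq_zero_of_src _))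
      have hK := QCoh.isCoh_kernel (j ≫ b) hF hN
      obtain ⟨q, hq⟩ := hlift (kernel.ι (j ≫ b) ≫ j) (by rw [Category.assoc, kernel.condition])
      haveI : Mono q := by
        haveI : Mono (q ≫ a) := by rw [hq]; infer_instance
        exact mono_of_mono q a
      obtain ⟨w', hS⟩ := QCoh.shortExact_kernel_image (j ≫ b)
      have hI := Hilb20.isCoh_image (k := k) (j ≫ b) hF hN
      obtain ⟨pK, hpK⟩ := Hilb20.exists_isHilbPoly (k := k) hLa hK (hu.mono (Set.subset_univ _))
      obtain ⟨pI, hpI⟩ := Hilb20.exists_isHilbPoly (k := k) hLa hI (hu.mono (Set.subset_univ _))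
      have e := Hilb20.eq_add_of_shortExact hLi hS hK hF hI hpK hpF hpI
      obtain ⟨k2, -, -⟩ := DecSh20.alpha_rankOne hN' hdim' hLa hOi q hK hK0 hpK hpO
      obtain ⟨i2, -, -⟩ := DecSh20.alpha_rankOne hN' hdim' hLa hLi (Abelian.image.ι (j ≫ b) ≫ ι) hI
        (Hilb20.image_not_isZero hφ) hpI hpL
      rw [e, Hilb20.alpha_add, k2, i2, hL2, hV2] at hlt
      linarith
    obtain ⟨h2, h1, heq⟩ := DecSh20.alpha_rankOne hN' hdim' hLa hLi ((j ≫ b) ≫ ι) hF hF0 hpF hpL
    refine ⟨h2.trans hL2, ?_⟩
    obtain ⟨m, hm⟩ := DecSh20.alpha_sub hdim' hLa hLi hgen hLi ((j ≫ b) ≫ ι) hF hF0 hpF hpO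
    rcases le_or_gt m 0 with h | h
    · have : (m : ℚ) * StabCat.alpha 2 pO ≤ 0 := mul_nonpos_of_nonpos_of_nonneg (by exact_mod_cast h) hA.le
      linarith
    exfalso
    have hm1 : (1 : ℚ) ≤ (m : ℚ) := by exact_mod_cast h
    have hd := heq (le_antisymm h1 (by rw [hL1, hm]; nlinarith))
    haveI := hF.1
    let p : F ⟶ L := (j ≫ b) ≫ ι
    have hC : Coh.IsCoh (cokernel p) := QCoh.isCoh_cokernel p hF hLc
    have hsurj : ∀ x : S, ¬ (2 : WithBot ℕ∞) ≤ ringKrullDim (S.presheaf.stalk x) →
        Function.Surjective (RefHull.stalkMapₗ p x) := by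
      intro x hx v
      have hnot : x ∉ CohB1.support (cokernel p) := fun hmem => hx
        (Hilb20.dim_stalk_two_le (S ↘ Spec (CommRingCat.of k)) hdim' (QCoh.isClosed_support_of_isCoh hC) rfl hd hmem)
      haveI := QCoh.stalk_subsingleton_of_notMem hnot
      have he := (OX.exact_iff (ShortComplex.mk p (cokernel.π p) (cokernel.condition p))).1
        (ShortComplex.exact_cokernel p) x
      rw [ShortComplex.moduleCat_exact_iff] at he
      exact he v (Subsingleton.elim (α := (cokernel p).presheaf.stalk x) _ _)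
    let η := genericPoint S
    let E := LinearEquiv.ofBijective (RefHull.stalkMapₗ p η)
      (DecSh20.rankOne_mono (k := k) hN' hdim' hLi p hF hF0).1
    let D : RefHull.StalkHom V V η :=
      LinearMap.id - (RefHull.stalkMapₗ j η).comp (E.symm.toLinearMap.comp (RefHull.stalkMapₗ (b ≫ ι) η))
    have hker : ∀ (x : S) (v : V.presheaf.stalk x), RefHull.stalkMapₗ (b ≫ ι) x v = 0 →
        ∃ c, RefHull.stalkMapₗ a x c = v := by
      intro x v hv
      have hb : RefHull.stalkMapₗ b x v = 0 := by
        have hi : Function.Injective (RefHull.stalkMapₗ ι x) := QCoh.stalkLin_injective ι x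
        refine hi ?_
        rw [map_zero, ← hv, stalkMapₗ_comp]
        rfl
      have he := (OX.exact_iff (ShortComplex.mk a b w)).1 hex.exact x
      rw [ShortComplex.moduleCat_exact_iff] at he
      exact he v hb
    have hpe : j ≫ b ≫ ι = p := (Category.assoc _ _ _).symm
    have hbia : ∀ x, (RefHull.stalkMapₗ (b ≫ ι) x).comp (RefHull.stalkMapₗ j x) = RefHull.stalkMapₗ p x :=
      fun x => by rw [← stalkMapₗ_comp, hpe]
    have hD : ∀ v, RefHull.stalkMapₗ (b ≫ ι) η (D v) = 0 := fun v => by
      simp only [D, LinearMap.sub_apply, LinearMap.id_apply, LinearMap.comp_apply, map_sub]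
      rw [← LinearMap.comp_apply, hbia, sub_eq_zero]
      exact (E.apply_symm_apply _).symm
    choose c hc using fun v => hker η (D v) (hD v)
    let T : RefHull.StalkHom V (Coh.structureModule S) η :=
      { toFun := c
        map_add' := fun v v' => hsV (by rw [map_add, hc, hc, hc, map_add])
        map_smul' := fun r v => hsV (by rw [RingHom.id_apply, map_smul, hc, hc, map_smul]) }
    obtain ⟨r, hr⟩ := exists_hom_of_dim_one hN' (HomSh.hasRel_of_isCoh hOc) hR.2.1 T fun x hx v => by
      obtain ⟨u, hu⟩ := hsurj x (by rw [hx]; decide) (RefHull.stalkMapₗ (b ≫ ι) x v)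
      obtain ⟨c', hc'⟩ := hker x (v - RefHull.stalkMapₗ j x u) (by
        rw [map_sub, ← LinearMap.comp_apply, hbia, hu, sub_self])
      refine ⟨c', hsV ?_⟩
      show RefHull.stalkMapₗ a η (sp _ (hη x) c') = RefHull.stalkMapₗ a η (c (sp V (hη x) v))
      rw [hc, stalkMapₗ_sp, hc', map_sub, ← stalkMapₗ_sp]
      simp only [D, LinearMap.sub_apply, LinearMap.id_apply, LinearMap.comp_apply]
      congr 2
      rw [stalkMapₗ_sp, ← hu, ← stalkMapₗ_sp]
      exact (E.symm_apply_apply _).symm
    refine hns r (hom_ext_generic (injective_sp_of_isRef1 hN' hR) (LinearMap.ext fun e => hsV ?_))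
    rw [stalkMapₗ_comp, stalkMapₗ_id, LinearMap.comp_apply, hr, LinearMap.id_apply]
    show RefHull.stalkMapₗ a η (c (RefHull.stalkMapₗ a η e)) = _
    rw [hc]
    have h0 : RefHull.stalkMapₗ (b ≫ ι) η (RefHull.stalkMapₗ a η e) = 0 := by
      have hz : RefHull.stalkMapₗ (0 : Coh.structureModule S ⟶ L) η e = 0 :=
        map_zero (RefHull.stalkMapₗ (0 : Coh.structureModule S ⟶ L) η) ▸ (by
          obtain ⟨U, hU, s, rfl⟩ := TopCat.Presheaf.exists_germ_eq (Coh.structureModule S).presheaf e
          rw [RefHull.stalkMapₗ_germ]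
          simp)
      rw [← LinearMap.comp_apply, ← stalkMapₗ_comp, ← Category.assoc, w, Limits.zero_comp]
      exact hz
    simp [D, h0]
    rfl

end Groth.Agent.S15849
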