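import Groth.Statements.S15851
import Groth.Agent.Lib.ExtOne28.Basic
import Groth.Agent.Lib.ExtOne28.Involution
import Groth.Agent.S15848
import Groth.Agent.Lib.LefAmp7.Hom
import Groth.Agent.Lib.VA.Powers
import Groth.Agent.Lib.HodgeIndex.Curves

set_option autoImplicit false
set_option maxHeartbeats 1000000
set_option linter.style.haveILetI false
set_option backward.isDefEq.respectTransparency false
attribute [local instance] GrothLib.LocFreeHom.hasSheafHom
universe u
open CategoryTheory CategoryTheory.Limits AlgebraicGeometry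
attribute [local instance] HasDerivedCategory.standard
open Surf

namespace Groth.Agent.S15851

/-- Let k be an algebraically closed field of characteristic zero, S a smooth projective surface over k
(integral, smooth over k, of dimension two, with a closed immersion over k into some projective
space) and ω an O_S-module which is a second exterior power of the sheaf of differentials of S over
k (the canonical sheaf). Let j : C → S be a closed immersion with C integral of dimension one and A
a coherent O_C-module with torsion-free stalks and one-dimensional generic stalk (a rank-one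
torsion-free sheaf on C). Put A^* = Ext^1_{O_S}(j_*A, ω), the value at ω of the first right derived
functor of the sheaf Hom functor Hom_{O_S}(j_*A, -) (taken as the right adjoint of j_*A ⊗ -). Then
Ext^1_{O_S}(A^*, ω) is isomorphic to j_*A: the operation A ↦ A^* is an involution up to isomorphism
(existence of an isomorphism only). (The instance binders on sheaf Hom functors and injective
resolutions always hold.) -/
theorem result
    (k : Type u) [Field k] [IsAlgClosed k] [CharZero k]
    (S : Scheme.{u}) [S.Over (Spec (CommRingCat.of k))] [IsIntegral S]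
    [Smooth (S ↘ Spec (CommRingCat.of k))] (hdim : topologicalKrullDim S = 2)
    [IsProper (S ↘ Spec (CommRingCat.of k))]
    (hproj : ∃ (n : ℕ) (ι : S ⟶ CohB1.ProjSpace n k), IsClosedImmersion ι ∧
      ι ≫ CohB1.ProjSpace.toSpec n k = S ↘ Spec (CommRingCat.of k))
    [HasInjectiveResolutions S.Modules]
    (ω : S.Modules) (hω : Canon.IsTopDiff (S ↘ Spec (CommRingCat.of k)) 2 ω)
    (C : Scheme.{u}) (j : C ⟶ S) [IsClosedImmersion j] [IsIntegral C]
    (hC : topologicalKrullDim C = 1)
    (M : C.Modules) (hM : Coh.IsCoh M) (hMtf : TorSh.IsTorsionFree M)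
    (hrk : Module.finrank (C.presheaf.stalk (genericPoint C)) (M.presheaf.stalk (genericPoint C)) = 1)
    [DCoh.HasSheafHom ((Coh.push j).obj M)] [(DCoh.sheafHom ((Coh.push j).obj M)).Additive]
    [DCoh.HasSheafHom (((DCoh.sheafHom ((Coh.push j).obj M)).rightDerived 1).obj ω)]
    [(DCoh.sheafHom (((DCoh.sheafHom ((Coh.push j).obj M)).rightDerived 1).obj ω)).Additive] :
    Nonempty (((DCoh.sheafHom (((DCoh.sheafHom ((Coh.push j).obj M)).rightDerived 1).obj ω)).rightDerived 1).obj ω ≅ (Coh.push j).obj M) := by
  open GrothLib GrothLib.LocFreeHom in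
  · haveI := Euler.isNoetherian_of_proper (X := S) k
    obtain ⟨r, ιP, hclosed, hιP⟩ := hproj
    haveI := hclosed
    have hdim' : topologicalKrullDim S = ((2 : ℕ) : WithBot ℕ∞) := hdim
    haveI := DimCut.smoothOfRelativeDimension (S ↘ Spec (CommRingCat.of k)) 2 hdim'
    haveI : IsLocallyNoetherian C := LocallyOfFiniteType.isLocallyNoetherian j
    haveI hhs : ∀ E : S.Modules, DCoh.HasSheafHom E := LocFreeHom.hasSheafHom
    let F := (Coh.push j).obj M
    have hFc : Coh.IsCoh F := K0Sub.isCoh_push j hM
    have hωi := DualSm27.isInvertible_top k r 2 S ιP hιP ω hω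
    have hωf := DualSm27.isFinLocFree_top k r 2 S ιP hιP ω hω
    haveI : ModSite.HasSheafHom (O := S.sheaf) F := SheafCoh.hasSheafHom _ _
    haveI : HasInjectiveResolutions (ModSite.Mod S.sheaf) := ‹HasInjectiveResolutions S.Modules›
    haveI : PreservesFiniteLimits (DCoh.sheafHom F) :=
      haveI := (DCoh.sheafHomAdj F).rightAdjoint_preservesLimits
      inferInstance
    haveI : (ModSite.sheafHom (O := S.sheaf) F : S.Modules ⥤ S.Modules).Additive :=
      Functor.additive_of_iso (LocFreeDual20.siteHomIso F).symm
    have hP : ∀ Z : Set ↥S, Z ∈ irreducibleComponents ↥S → topologicalKrullDim ↥Z = ((2 : ℕ) : WithBot ℕ∞) :=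
      fun Z hZ => DualSm27.component_dim k r 2 S ιP hιP Z hZ
    have hz : IsZero (iHom F ω) := by
      have hz' : IsZero ((ModSite.extSh (O := S.sheaf) F 0).obj ω) := by
        refine DepthExt20.isZero_extSh_of_le_depth hFc (Euler.isCoh_of_isFinLocFree hωf) (n := 1) (fun x hx => ?_)
          Nat.zero_lt_one
        obtain ⟨y, rfl⟩ := QCoh.support_pushforward_subset_range j _ hx
        refine CodimExt27.le_depth_stalk_of_finLocFree (S ↘ Spec (CommRingCat.of k)) hP
          (DualSm27.regular_stalk k r 2 S ιP hιP) hωf (j y) ?_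
        have hcl : AffDom.ptDim (j y) = AffDom.ptDim y := by
          refine (Dim.IsEmbedding.topologicalKrullDim_eq (f := fun z : ↥(closure ({y} : Set C)) => j z.1)
            (j.isEmbedding.comp Topology.IsEmbedding.subtypeVal) ?_).symm
          rw [show Set.range (fun z : ↥(closure ({y} : Set C)) => j z.1) = j '' closure {y} from
            (Set.range_comp j Subtype.val).trans (by rw [Subtype.range_coe])]
          rw [← j.isClosedEmbedding.closure_image_eq, Set.image_singleton]
        have h1 : AffDom.ptDim y ≤ ((1 : ℕ) : WithBot ℕ∞) := (AffDom.ptDim_le y).trans_eq (by rw [hC]; rfl)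
        rw [hcl]
        exact (add_le_add h1 le_rfl).trans_eq (by norm_num)
      exact hz'.of_iso (asIso ((DCoh.sheafHom F).toRightDerivedZero.app ω) ≪≫
        (SheafCoh.rightDerivedCongr (LocFreeDual20.siteHomIso F).symm 0).app ω)
    -- a resolution by bundles
    have hA := HodgeIndex.isAmple_hyperplane ιP
    obtain ⟨K, hKi, hK⟩ := VA.exists_inverse hA.1
    obtain ⟨P₀, q, hP₀, hq⟩ := LefAmp7.exists_epi_bundle k hA (M := K)
      ((Cube.clsMod_eq_one_iff (Ample.isInvertible_tensorMod hA.1 hKi)).1 (by
        rw [Cube.clsMod_tensorMod hA.1 hKi, hK, mul_inv_cancel])) (E := F) hFc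
    haveI := hq
    have hP₁ : FlatMod.IsFinLocFree (kernel q) :=
      Groth.Agent.S15848.result k S hdim C j hC M hM hMtf P₀ hP₀ q
    have hS : (ShortComplex.mk (kernel.ι q) q (kernel.condition q)).ShortExact :=
      ShortComplex.ShortExact.mk' (ShortComplex.exact_of_f_is_kernel _ (kernelIsKernel q)) inferInstance inferInstance
    obtain ⟨e⟩ := ExtOne28.nonempty_extOne_iso (kernel.ι q) q (kernel.condition q) hS hP₁ hP₀ ω
    let d' := hMap (kernel.ι q) ω
    haveI : Mono d' := ExtOne28.mono_hMap (kernel.ι q) q (kernel.condition q) hS ω hz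
    let π' := cokernel.π d' ≫ e.inv
    have hw : d' ≫ π' = 0 := by simp [π']
    have hS' : (ShortComplex.mk d' π' hw).ShortExact :=
      ShortComplex.shortExact_of_iso
        (ShortComplex.isoMk (Iso.refl _) (Iso.refl _) e.symm (by simp) (by simp [π']))
        (S₁ := ShortComplex.mk d' (cokernel.π d') (cokernel.condition d'))
        (ShortComplex.ShortExact.mk' (ShortComplex.exact_cokernel d') inferInstance inferInstance)
    obtain ⟨e'⟩ := ExtOne28.nonempty_extOne_iso d' π' hw hS'
      (LocFreeHom.isFinLocFree_iHom hP₀ hωf) (LocFreeHom.isFinLocFree_iHom hP₁ hωf) ω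
    haveI := ExtOne28.isIso_biMap hωi hP₁
    haveI := ExtOne28.isIso_biMap hωi hP₀
    let c : cokernel (kernel.ι q) ≅ cokernel (hMap d' ω) :=
      cokernel.mapIso _ _ (asIso (ExtOne28.biMap (kernel q) ω)) (asIso (ExtOne28.biMap P₀ ω))
        (ExtOne28.biMap_natural (kernel.ι q) ω).symm
    exact ⟨e' ≪≫ c.symm ≪≫ (cokernelIsCokernel (kernel.ι q)).coconePointUniqueUpToIso hS.gIsCokernel⟩

end Groth.Agent.S15851
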