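import Groth.Statements.S15852
import Groth.Agent.Lib.ExtOne28.Basic

set_option autoImplicit false
set_option maxHeartbeats 1000000
set_option linter.style.haveILetI false
set_option backward.isDefEq.respectTransparency false
universe u
open CategoryTheory CategoryTheory.Limits AlgebraicGeometry
open Surf

namespace Groth.Agent.S15852

/-- Let k be an algebraically closed field of characteristic zero, S a smooth projective surface over k
(integral, smooth over k, of dimension two, with a closed immersion over k into some projective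
space) and ω an O_S-module which is a second exterior power of the sheaf of differentials of S over
k. Let j : C → S be a closed immersion with C integral of dimension one and A a coherent O_C-module
with torsion-free stalks and one-dimensional generic stalk, and put A^* = Ext^1_{O_S}(j_*A, ω), the
first right derived functor of the sheaf Hom functor Hom_{O_S}(j_*A, -) (the right adjoint of j_*A ⊗
-) evaluated at ω. Then the group Ext^1_{O_S}(j_*A, ω), computed in the category of all O_S-modules
with its k-linear structure (the Ext instance is the stated hypothesis; it holds), is k-linearly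
isomorphic to H^0(S, A^*), and also to the k-dual of H^1(S, j_*A) = H^1(C, A). (Existence of
k-linear isomorphisms only.) -/
theorem result
    (k : Type u) [Field k] [IsAlgClosed k] [CharZero k]
    (S : Scheme.{u}) [S.Over (Spec (CommRingCat.of k))] [IsIntegral S]
    [Smooth (S ↘ Spec (CommRingCat.of k))] (hdim : topologicalKrullDim S = 2)
    [IsProper (S ↘ Spec (CommRingCat.of k))]
    (hproj : ∃ (n : ℕ) (ι : S ⟶ CohB1.ProjSpace n k), IsClosedImmersion ι ∧
      ι ≫ CohB1.ProjSpace.toSpec n k = S ↘ Spec (CommRingCat.of k))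
    [HasInjectiveResolutions S.Modules] [HasExt.{u} S.Modules]
    (ω : S.Modules) (hω : Canon.IsTopDiff (S ↘ Spec (CommRingCat.of k)) 2 ω)
    (C : Scheme.{u}) (j : C ⟶ S) [IsClosedImmersion j] [IsIntegral C]
    (hC : topologicalKrullDim C = 1)
    (M : C.Modules) (hM : Coh.IsCoh M) (hMtf : TorSh.IsTorsionFree M)
    (hrk : Module.finrank (C.presheaf.stalk (genericPoint C)) (M.presheaf.stalk (genericPoint C)) = 1)
    [DCoh.HasSheafHom ((Coh.push j).obj M)] [(DCoh.sheafHom ((Coh.push j).obj M)).Additive] :
    Nonempty (Abelian.Ext ((Coh.push j).obj M) ω 1 ≃ₗ[k]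
        Coh.HH S (((DCoh.sheafHom ((Coh.push j).obj M)).rightDerived 1).obj ω) 0) ∧
      Nonempty (Abelian.Ext ((Coh.push j).obj M) ω 1 ≃ₗ[k]
        Module.Dual k (Coh.HH S ((Coh.push j).obj M) 1)) := by
  open GrothLib in
  · haveI := Euler.isNoetherian_of_proper (X := S) k
    obtain ⟨r, ιP, hclosed, hιP⟩ := hproj
    haveI := hclosed
    have hdim' : topologicalKrullDim S = ((2 : ℕ) : WithBot ℕ∞) := hdim
    haveI := DimCut.smoothOfRelativeDimension (S ↘ Spec (CommRingCat.of k)) 2 hdim'
    haveI : IsLocallyNoetherian C := LocallyOfFiniteType.isLocallyNoetherian j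
    have hFc : Coh.IsCoh ((Coh.push j).obj M) := K0Sub.isCoh_push j hM
    obtain ⟨d⟩ := DualSm27.nonempty_ext_dual k r 2 S ιP hιP ω hω _ hFc 1 (by omega)
    refine ⟨?_, ⟨d⟩⟩
    haveI : ModSite.HasSheafHom (O := S.sheaf) ((Coh.push j).obj M) := SheafCoh.hasSheafHom _ _
    haveI : HasInjectiveResolutions (ModSite.Mod S.sheaf) := ‹HasInjectiveResolutions S.Modules›
    haveI : PreservesFiniteLimits (DCoh.sheafHom ((Coh.push j).obj M)) :=
      haveI := (DCoh.sheafHomAdj ((Coh.push j).obj M)).rightAdjoint_preservesLimits
      inferInstance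
    haveI : (ModSite.sheafHom (O := S.sheaf) ((Coh.push j).obj M) : S.Modules ⥤ S.Modules).Additive :=
      Functor.additive_of_iso (LocFreeDual20.siteHomIso ((Coh.push j).obj M)).symm
    have hωf := DualSm27.isFinLocFree_top k r 2 S ιP hιP ω hω
    have hP : ∀ Z : Set ↥S, Z ∈ irreducibleComponents ↥S → topologicalKrullDim ↥Z = ((2 : ℕ) : WithBot ℕ∞) :=
      fun Z hZ => DualSm27.component_dim k r 2 S ιP hιP Z hZ
    have hz : IsZero ((ModSite.extSh (O := S.sheaf) ((Coh.push j).obj M) 0).obj ω) := by
      refine DepthExt20.isZero_extSh_of_le_depth hFc (Euler.isCoh_of_isFinLocFree hωf) (n := 1) (fun x hx => ?_)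
        Nat.zero_lt_one
      obtain ⟨y, rfl⟩ := QCoh.support_pushforward_subset_range j _ hx
      refine CodimExt27.le_depth_stalk_of_finLocFree (S ↘ Spec (CommRingCat.of k)) hP
        (DualSm27.regular_stalk k r 2 S ιP hιP) hωf (j y) ?_
      have hcl : AffDom.ptDim (j y) = AffDom.ptDim y := by
        refine (Dim.IsEmbedding.topologicalKrullDim_eq (f := fun z : ↥(closure ({y} : Set C)) => j z.1)
          (j.isEmbedding.comp Topology.IsEmbedding.subtypeVal) ?_).symm
        rw [show Set.range (fun z : ↥(closure ({y} : Set C)) => j z.1) = j '' closure {y} from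
          (Set.range_comp j Subtype.val).trans (by rw [Subtype.range_coe])]
        rw [← j.isClosedEmbedding.closure_image_eq, Set.image_singleton]
      have h1 : AffDom.ptDim y ≤ ((1 : ℕ) : WithBot ℕ∞) := (AffDom.ptDim_le y).trans_eq (by rw [hC]; rfl)
      rw [hcl]
      exact (add_le_add h1 le_rfl).trans_eq (by norm_num)
    let e : (DCoh.sheafHom ((Coh.push j).obj M)).obj ω ≅
        (ModSite.extSh (O := S.sheaf) ((Coh.push j).obj M) 0).obj ω :=
      asIso ((DCoh.sheafHom ((Coh.push j).obj M)).toRightDerivedZero.app ω) ≪≫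
        (SheafCoh.rightDerivedCongr (LocFreeDual20.siteHomIso ((Coh.push j).obj M)).symm 0).app ω
    exact ExtOne28.nonempty_ext_one (k := k) _ ω fun p =>
      SerrePn27.subsingleton_HH_of_isZero (k := k) (hz.of_iso e) _

end Groth.Agent.S15852
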