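import Groth.Statements.S15853
import Groth.Agent.Lib.K3Ext28.Basic

set_option autoImplicit false
set_option maxHeartbeats 1600000
set_option linter.style.haveILetI false
set_option linter.unusedVariables false
set_option backward.isDefEq.respectTransparency.types false
attribute [local irreducible] Curv2.euler
universe u
open CategoryTheory CategoryTheory.Limits AlgebraicGeometry Polynomial
open ShStab

namespace Groth.Agent.S15853

/-- Let k be an algebraically closed field of characteristic zero and S a K3 surface over k — a smooth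
projective surface (integral, smooth over k, of dimension two, with a closed immersion over k into
some projective space) whose structure sheaf is a second exterior power of its sheaf of
differentials and with H^1(S, O_S) = 0 — whose Picard group is infinite cyclic, generated by the
class of an ample invertible sheaf L. Let V be a coherent O_S-module with torsion-free stalks,
stable of dimension two with respect to L, and let P be its Hilbert polynomial with respect to L,
P(m) = χ(V ⊗ L^m). Assume: the leading coefficient of P is twice that of the Hilbert polynomial of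
O_S (V has rank two); the coefficients of m and of m^2 in P agree (on such a surface this says
c_1(V)·L = L^2, i.e. the first Chern class of V is the class of L); and P(0) = χ(V) ≥ 1
(equivalently c_2(V) ≤ L^2/2 + 3). Then V is an extension of L ⊗ I_Z by O_S for some finite
subscheme Z: there are a coherent subsheaf N ⊆ L with L/N supported in dimension at most zero and a
short exact sequence 0 → O_S → V → N → 0, which moreover does not split. -/
theorem result
    (k : Type u) [Field k] [IsAlgClosed k] [CharZero k]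
    (S : Scheme.{u}) [S.Over (Spec (CommRingCat.of k))] [IsIntegral S]
    [Smooth (S ↘ Spec (CommRingCat.of k))] (hdim : topologicalKrullDim S = 2)
    [IsProper (S ↘ Spec (CommRingCat.of k))]
    (hproj : ∃ (n : ℕ) (ι : S ⟶ CohB1.ProjSpace n k), IsClosedImmersion ι ∧
      ι ≫ CohB1.ProjSpace.toSpec n k = S ↘ Spec (CommRingCat.of k))
    (hK : Canon.IsTopDiff (S ↘ Spec (CommRingCat.of k)) 2 (Coh.structureModule S))
    (hq : Module.finrank k (Coh.HH S (Coh.structureModule S) 1) = 0)
    (L : S.Modules) (hLi : PicF.IsInvertible L) (hLa : CohB1.IsAmple L)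
    [PicGrp.Law S] (hgen : ∀ c : PicLoc.PicSet S, ∃ n : ℤ, c = PicGrp.cls L hLi ^ n)
    (hfree : ∀ n : ℤ, PicGrp.cls L hLi ^ n = 1 → n = 0)
    (V : S.Modules) (hV : Coh.IsCoh V) (hVtf : TorSh.IsTorsionFree V)
    (hst : ShStab.IsStable k S L V 2)
    (P PO : ℚ[X]) (hP : ShStab.IsHilbPoly k S L V P)
    (hPO : ShStab.IsHilbPoly k S L (Coh.structureModule S) PO)
    (hrk : P.coeff 2 = 2 * PO.coeff 2) (hc1 : P.coeff 1 = P.coeff 2) (hchi : 1 ≤ P.coeff 0) :
    ∃ (N : S.Modules) (ι : N ⟶ L) (_ : Mono ι) (_ : Coh.IsCoh N)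
      (_ : topologicalKrullDim (CohB1.support (cokernel ι)) ≤ 0)
      (a : Coh.structureModule S ⟶ V) (b : V ⟶ N) (w : a ≫ b = 0),
      (ShortComplex.mk a b w).ShortExact ∧
        ∀ r : V ⟶ Coh.structureModule S, a ≫ r ≠ 𝟙 (Coh.structureModule S) := by
  open GrothLib GrothLib.Snapper GrothLib.Ref1 in
  · haveI := Euler.isNoetherian_of_proper (X := S) k
    obtain ⟨r, ιP, hclosed, hιP⟩ := hproj
    haveI := hclosed
    have hN' := Hilb20.isNormalScheme_of_smooth (X := S) k
    have hdim' : topologicalKrullDim S = ((2 : ℕ) : WithBot ℕ∞) := hdim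
    haveI := DimCut.smoothOfRelativeDimension (S ↘ Spec (CommRingCat.of k)) 2 hdim'
    have hOi : PicF.IsInvertible (Coh.structureModule S) := Euler.isInvertible_structure
    have hOc : Coh.IsCoh (Coh.structureModule S) := Kleiman.isCoh_O k
    haveI := hOc.1
    haveI := hV.1
    have hu : DimLT (Set.univ : Set S) 3 := Kleiman.dimLT_univ hdim'.le
    have hu' : ∀ E : S.Modules, DimLT (CohB1.support E) 3 := fun E => hu.mono (Set.subset_univ _)
    have hdeg : ∀ {E : S.Modules} {Q : ℚ[X]}, Coh.IsCoh E → ShStab.IsHilbPoly k S L E Q → Q.degree < (3 : ℕ) :=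
      fun hE hQ => Hilb20.degree_lt_of_dimLT hLi hE (hu' _) hQ
    have hpureV := DecSh20.isPure_of_torsionFree_surface (k := k) hdim' hV hVtf
    have hpureO := DecSh20.isPure_of_isInvertible (k := k) hN' hdim' hOi
    have hO0 : ¬ IsZero (Coh.structureModule S) := fun h =>
      (Hilb20.support_eq_empty_of_isZero h ▸ Kleiman.mem_support_structure (genericPoint S) :)
    have spV : ∀ x, Function.Injective (sp V (hη x)) := fun x => by
      haveI := hVtf x; exact Ref1.sp_injective V x
    have spO := injective_sp_of_isRef1 hN' (FacDiv.isRef1_of_isInvertible hOi)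
    let A := StabCat.alpha 2 PO
    have hA : 0 < A := Hilb20.alpha_pos_self hLa hOc hO0 hpureO hPO
    have hO1 : StabCat.alpha 1 PO = 0 := by
      simp [StabCat.alpha, K3Ext28.coeff_one_eq_zero (k := k) ιP hιP hdim' hK hLa hPO]
    have hP2 : StabCat.alpha 2 P = 2 * A := by
      simp only [A, StabCat.alpha, hrk]; ring
    have hP1 : StabCat.alpha 1 P = A := by
      simp [A, StabCat.alpha, hc1, hrk]
    have hdP := hdeg hV hP
    have stab : ∀ (F : S.Modules) (j : F ⟶ V), Mono j → Coh.IsCoh F → ¬ IsZero F → ¬ IsIso j →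
        ∀ pF, ShStab.IsHilbPoly k S L F pF → StabCat.alpha 2 pF = A → 2 * StabCat.alpha 1 pF ≤ A := by
      intro F j hj hF h0 hiso pF hpF h2
      have hlt := hst.2.2.2 F j hj hF h0 hiso pF P hpF hP
      unfold StabCat.RedLT at hlt
      rw [h2, hP2] at hlt
      have hd : pF.degree < (3 : ℕ) := hdeg hF hpF
      have := K3Ext28.coeff_one_le_of_polyLT ((degree_smul_le _ _).trans_lt hd)
        ((degree_smul_le _ _).trans_lt hdP) (by
          have e2 : StabCat.alpha 2 P = 2 * StabCat.alpha 2 pF := by rw [hP2, h2]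
          simp only [StabCat.alpha, Nat.factorial_two, Nat.cast_ofNat] at e2
          simp only [coeff_smul, smul_eq_mul]
          linear_combination (-A / 2) * e2) hlt
      simp only [coeff_smul, smul_eq_mul] at this
      have e1 : P.coeff 1 = A := by simpa [StabCat.alpha] using hP1
      have e3 : StabCat.alpha 1 pF = pF.coeff 1 := by simp [StabCat.alpha]
      rw [e1] at this
      rw [e3]
      nlinarith
    -- no maps to the structure sheaf
    have hom0 : ∀ f : V ⟶ Coh.structureModule S, f = 0 := by
      intro f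
      by_contra hf
      obtain ⟨w', hS⟩ := QCoh.shortExact_kernel_image f
      have hKc := QCoh.isCoh_kernel f hV hOc
      have hIc := Hilb20.isCoh_image (k := k) f hV hOc
      obtain ⟨pK, hpK⟩ := Hilb20.exists_isHilbPoly (k := k) hLa hKc (hu' _)
      obtain ⟨pI, hpI⟩ := Hilb20.exists_isHilbPoly (k := k) hLa hIc (hu' _)
      have e := Hilb20.eq_add_of_shortExact hLi hS hKc hV hIc hpK hP hpI
      obtain ⟨i2, i1, -⟩ := DecSh20.alpha_rankOne hN' hdim' hLa hOi (Abelian.image.ι f) hIc
        (Hilb20.image_not_isZero hf) hpI hPO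
      have k2 : StabCat.alpha 2 pK = A := by
        have := congrArg (StabCat.alpha 2) e
        rw [Hilb20.alpha_add, hP2, i2] at this
        linarith
      have hK0 : ¬ IsZero (kernel f) := fun hz => by
        rw [Hilb20.isHilbPoly_unique hpK (Hilb20.isHilbPoly_of_isZero hz)] at k2
        simp [StabCat.alpha] at k2
        linarith
      have hiso : ¬ IsIso (kernel.ι f) := fun h => hf (by
        haveI := h
        rw [← cancel_epi (kernel.ι f), kernel.condition, Limits.comp_zero])
      have := stab _ (kernel.ι f) inferInstance hKc hK0 hiso pK hpK k2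
      have e1 := congrArg (StabCat.alpha 1) e
      rw [Hilb20.alpha_add, hP1] at e1
      rw [hO1] at i1
      linarith
    -- a section
    obtain ⟨a, ha⟩ : ∃ a : Coh.structureModule S ⟶ V, a ≠ 0 := by
      haveI : HasExt.{u} S.Modules := CategoryTheory.hasExt_of_enoughInjectives S.Modules
      obtain ⟨d⟩ := DualSm27.nonempty_ext_dual k r 2 S ιP hιP _ hK V hV 0 (by omega)
      haveI : Subsingleton (V ⟶ Coh.structureModule S) := ⟨fun f g => (hom0 f).trans (hom0 g).symm⟩
      haveI : Subsingleton (Abelian.Ext V (Coh.structureModule S) 0) := Abelian.Ext.homEquiv₀.subsingleton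
      haveI := d.symm.toEquiv.subsingleton
      have h2 : Module.finrank k (Coh.HH S V 2) = 0 := by
        have h := Subspace.dual_finrank_eq (K := k) (V := Coh.HH S V (2 - 0))
        rw [Module.finrank_zero_of_subsingleton] at h
        exact h.symm
      have hchiV : (Curv2.euler k S V : ℚ) = P.coeff 0 := by
        rw [← Euler.euler_of_iso k (DecSh20.twistZeroIso L V), hP 0]
        simp [Polynomial.coeff_zero_eq_eval_zero]
      have h1 : 1 ≤ Curv2.euler k S V := by exact_mod_cast hchiV.symm ▸ hchi
      rw [SurfRR28.euler_eq_three_terms k (hd := hdim'.le) hLa hV, h2] at h1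
      haveI : Nontrivial (Coh.HH S V 0) := Module.nontrivial_of_finrank_pos (R := k) (by omega)
      obtain ⟨s, hs⟩ := exists_ne (0 : Coh.HH S V 0)
      exact ⟨(SerrePn27.homStructureEquiv (k := k) V).symm s,
        fun h => hs ((SerrePn27.homStructureEquiv (k := k) V).symm.map_eq_zero_iff.1 h)⟩
    haveI : Mono a := Preadditive.mono_of_kernel_zero <| by
      by_contra hne
      have hK0 : ¬ IsZero (kernel a) := fun hz => hne (hz.eq_zero_of_src _)
      have hb := (DecSh20.rankOne_mono (k := k) hN' hdim' hOi (kernel.ι a) (QCoh.isCoh_kernel a hOc hV) hK0).1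
      refine ha (hom_ext_generic spV (LinearMap.ext fun v => ?_))
      obtain ⟨w, rfl⟩ := hb.2 v
      rw [← LinearMap.comp_apply, ← stalkMapₗ_comp, kernel.condition]
      change _ = ((OX.stalk (genericPoint S)).map (0 : Coh.structureModule S ⟶ V)).hom _
      rw [Functor.map_zero]
      show ((OX.stalk (genericPoint S)).map (0 : kernel a ⟶ V)).hom w = _
      rw [Functor.map_zero]
      rfl
    let N := cokernel a
    let b : V ⟶ N := cokernel.π a
    have hNc : Coh.IsCoh N := QCoh.isCoh_cokernel a hOc hV
    obtain ⟨-, -, pN, hpN, eN⟩ := Hilb20.exists_quotient_poly hLa hOc hV a hPO hP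
    have n2 : StabCat.alpha 2 pN = A := by
      have := congrArg (StabCat.alpha 2) eN
      rw [Hilb20.alpha_add, hP2] at this; linarith
    have n1 : StabCat.alpha 1 pN = A := by
      have := congrArg (StabCat.alpha 1) eN
      rw [Hilb20.alpha_add, hP1, hO1] at this; linarith
    have hηN : genericPoint S ∈ CohB1.support N := by
      by_contra h
      have := Hilb20.alpha_eq_zero (d := 2) hLa hNc (DecSh20.dimLT_two_of_notMem (k := k) hdim' h) hpN
      linarith
    -- rank one
    obtain ⟨M', hM', q, v₀, hv₀⟩ := K3Ext28.exists_hom_generic_ne_zero (k := k) hLa hNc hηN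
    have hM'c := Euler.isCoh_of_isInvertible hM'
    haveI : Mono q := Preadditive.mono_of_kernel_zero <| by
      by_contra hne
      have hK0 : ¬ IsZero (kernel q) := fun hz => hne (hz.eq_zero_of_src _)
      have hb := (DecSh20.rankOne_mono (k := k) hN' hdim' hM' (kernel.ι q) (QCoh.isCoh_kernel q hM'c hNc) hK0).1
      apply hv₀
      obtain ⟨w, rfl⟩ := hb.2 v₀
      rw [← LinearMap.comp_apply, ← stalkMapₗ_comp, kernel.condition]
      show ((OX.stalk (genericPoint S)).map (0 : kernel q ⟶ N)).hom w = _
      rw [Functor.map_zero]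
      rfl
    obtain ⟨pM, hpM⟩ := Hilb20.exists_isHilbPoly (k := k) hLa hM'c (hu' _)
    obtain ⟨hQc, -, pQ, hpQ, eQ⟩ := Hilb20.exists_quotient_poly hLa hM'c hNc q hpM hpN
    have q2 : StabCat.alpha 2 pQ = 0 := by
      have := congrArg (StabCat.alpha 2) eQ
      rw [Hilb20.alpha_add, n2, (DecSh20.alpha_invertible hdim' hLa hLi hgen hM' hpM hPO).1] at this
      linarith
    have hqs := K3Ext28.surjective_of_dimLT (k := k) hdim' hN' q hM'c hNc
      (Hilb20.dimLT_of_alpha_eq_zero hLa hQc (hu' _) hpQ q2)
    have hqi : Function.Injective (RefHull.stalkMapₗ q (genericPoint S)) := QCoh.stalkLin_injective q _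
    obtain ⟨e₀, he₀⟩ := Ref1.exists_gen_of_isInvertible hM' (genericPoint S)
    have hgenN : Gen N (genericPoint S) (RefHull.stalkMapₗ q (genericPoint S) e₀) := by
      refine ⟨fun c c' h => he₀.1 (hqi ?_), fun w => ?_⟩
      · dsimp only at h
        rwa [← map_smul, ← map_smul] at h
      · obtain ⟨t, rfl⟩ := hqs w
        obtain ⟨c, hc⟩ := he₀.2 t
        exact ⟨c, by rw [← hc]; exact (map_smul _ _ _).symm⟩
    haveI := hNc.1
    have hrel := HomSh.hasRel_of_isCoh hNc
    let D := RefHull.ddual N
    let β : N ⟶ D := RefHull.bidualMap N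
    have hR := Ref1.isRef1_ddual hrel hgenN
    have hinv : PicF.IsInvertible D := FacDiv.isInvertible_of_ufd hN' hR fun x => by
      haveI : IsDomain (S.presheaf.stalk x) := (hN' x).1
      haveI := WeilExt.isRegularLocalRing_stalk_of_smooth (S ↘ Spec (CommRingCat.of k))
        (WeilExt.isRegularLocalRing_stalk_spec k) x
      exact RegUFD.ufd_of_isRegularLocalRing _
    have hDc : Coh.IsCoh D := hR.1
    have hβη := (HomSh.bijective_bidual_iff hrel _).2 (FacDiv.isReflexiveAt_of_gen hgenN)
    let f : V ⟶ D := b ≫ β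
    have hf : f ≠ 0 := by
      intro h
      haveI : Nontrivial (N.presheaf.stalk (genericPoint S)) := not_subsingleton_iff_nontrivial.1 hηN
      obtain ⟨w, hw⟩ := exists_ne (0 : N.presheaf.stalk (genericPoint S))
      obtain ⟨v, rfl⟩ := QCoh.stalkLin_surjective b (genericPoint S) w
      refine hw (hβη.1 ?_)
      rw [map_zero]
      show ((OX.stalk (genericPoint S)).map b ≫ (OX.stalk (genericPoint S)).map β).hom v = _
      rw [← Functor.map_comp, show b ≫ β = 0 from h, Functor.map_zero]
      rfl
    have haf : a ≫ f = 0 := by rw [← Category.assoc, cokernel.condition, Limits.zero_comp]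
    let F := kernel f
    let aF : Coh.structureModule S ⟶ F := kernel.lift f a haf
    have haF : aF ≫ kernel.ι f = a := kernel.lift_ι _ _ _
    haveI : Mono aF := by
      haveI : Mono (aF ≫ kernel.ι f) := by rw [haF]; infer_instance
      exact mono_of_mono aF (kernel.ι f)
    have hFc : Coh.IsCoh F := QCoh.isCoh_kernel f hV hDc
    obtain ⟨w', hS⟩ := QCoh.shortExact_kernel_image f
    have hIc := Hilb20.isCoh_image (k := k) f hV hDc
    obtain ⟨pF, hpF⟩ := Hilb20.exists_isHilbPoly (k := k) hLa hFc (hu' _)
    obtain ⟨pI, hpI⟩ := Hilb20.exists_isHilbPoly (k := k) hLa hIc (hu' _)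
    obtain ⟨pD, hpD⟩ := Hilb20.exists_isHilbPoly (k := k) hLa hDc (hu' _)
    have eV := Hilb20.eq_add_of_shortExact hLi hS hFc hV hIc hpF hP hpI
    obtain ⟨i2, -, -⟩ := DecSh20.alpha_rankOne hN' hdim' hLa hinv (Abelian.image.ι f) hIc
      (Hilb20.image_not_isZero hf) hpI hpD
    rw [(DecSh20.alpha_invertible hdim' hLa hLi hgen hinv hpD hPO).1] at i2
    obtain ⟨m, hm⟩ := DecSh20.alpha_sub hdim' hLa hLi hgen hinv (Abelian.image.ι f) hIc
      (Hilb20.image_not_isZero hf) hpI hPO
    rw [hO1, zero_add] at hm
    have f2 : StabCat.alpha 2 pF = A := by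
      have := congrArg (StabCat.alpha 2) eV
      rw [Hilb20.alpha_add, hP2, i2] at this; linarith
    have hiso : ¬ IsIso (kernel.ι f) := fun h => hf (by
      haveI := h
      rw [← cancel_epi (kernel.ι f), kernel.condition, Limits.comp_zero])
    have hF0 : ¬ IsZero F := fun hz => hO0 ((IsZero.iff_id_eq_zero _).2 ((cancel_mono aF).1 (hz.eq_of_tgt _ _)))
    have f1 := stab F (kernel.ι f) inferInstance hFc hF0 hiso pF hpF f2
    obtain ⟨hCc, -, pC, hpC, eF⟩ := Hilb20.exists_quotient_poly hLa hOc hFc aF hPO hpF
    have c2 : StabCat.alpha 2 pC = 0 := by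
      have := congrArg (StabCat.alpha 2) eF
      rw [Hilb20.alpha_add, f2] at this; linarith
    have hC2 := Hilb20.dimLT_of_alpha_eq_zero hLa hCc (hu' _) hpC c2
    have c1 := Hilb20.alpha_nonneg (d := 1) hLa hCc hC2 hpC
    have eF1 := congrArg (StabCat.alpha 1) eF
    have eV1 := congrArg (StabCat.alpha 1) eV
    rw [Hilb20.alpha_add, hO1, zero_add] at eF1
    rw [Hilb20.alpha_add, hP1, hm] at eV1
    have hm1 : m = 1 := by
      have hA' : (0 : ℚ) < A := hA
      have l1 : (m : ℚ) ≤ 1 := by nlinarith
      have l2 : (0 : ℚ) < m := by nlinarith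
      have : m ≤ 1 := by exact_mod_cast l1
      have : 0 < m := by exact_mod_cast l2
      omega
    subst hm1
    have hC1 : DimLT (CohB1.support (cokernel aF)) 1 :=
      Hilb20.dimLT_of_alpha_eq_zero hLa hCc hC2 hpC (by push_cast at eV1; linarith)
    -- the saturation is the structure sheaf
    have hFtf := DecSh20.isTorsionFree_of_mono (kernel.ι f) hVtf
    haveI := hFc.1
    have spF : ∀ x, Function.Injective (sp F (hη x)) := fun x => by
      haveI := hFtf x; exact Ref1.sp_injective F x
    have hsurjη := K3Ext28.surjective_of_dimLT (k := k) hdim' hN' aF hOc hFc hC2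
    let E := LinearEquiv.ofBijective (RefHull.stalkMapₗ aF (genericPoint S))
      ⟨QCoh.stalkLin_injective aF _, hsurjη⟩
    have hsurj : ∀ x : S, ¬ (2 : WithBot ℕ∞) ≤ ringKrullDim (S.presheaf.stalk x) →
        Function.Surjective (RefHull.stalkMapₗ aF x) := by
      intro x hx v
      have hnot : x ∉ CohB1.support (cokernel aF) := fun hmem => hx
        (Hilb20.dim_stalk_two_le (S ↘ Spec (CommRingCat.of k)) hdim' (QCoh.isClosed_support_of_isCoh hCc) rfl hC1 hmem)
      haveI := QCoh.stalk_subsingleton_of_notMem hnot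
      have he := (OX.exact_iff (ShortComplex.mk aF (cokernel.π aF) (cokernel.condition aF))).1
        (ShortComplex.exact_cokernel aF) x
      rw [ShortComplex.moduleCat_exact_iff] at he
      exact he v (Subsingleton.elim (α := (cokernel aF).presheaf.stalk x) _ _)
    obtain ⟨ψ, hψ⟩ := exists_hom_of_dim_one (G := F) hN' (HomSh.hasRel_of_isCoh hOc)
        (FacDiv.isRef1_of_isInvertible hOi).2.1 E.symm.toLinearMap fun x hx v => by
      obtain ⟨c, hc⟩ := hsurj x (by rw [hx]; decide) v
      refine ⟨c, E.injective ?_⟩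
      show RefHull.stalkMapₗ aF _ (sp _ (hη x) c) = E (E.symm (sp F (hη x) v))
      rw [E.apply_symm_apply, stalkMapₗ_sp, hc]
    haveI : IsIso aF := ⟨ψ, hom_ext_generic spO (LinearMap.ext fun v => by
        rw [stalkMapₗ_comp, stalkMapₗ_id, LinearMap.comp_apply, hψ]
        exact E.symm_apply_apply v), hom_ext_generic spF (LinearMap.ext fun v => by
        rw [stalkMapₗ_comp, stalkMapₗ_id, LinearMap.comp_apply, hψ]
        exact E.apply_symm_apply v)⟩
    have hex : (ShortComplex.mk a f haf).Exact := by
      rw [ShortComplex.exact_iff_epi_kernel_lift]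
      exact (inferInstance : Epi aF)
    haveI : Mono β := by
      have h := hex.mono_cokernelDesc
      rwa [show cokernel.desc a f haf = β from coequalizer.hom_ext (by simp [f, b])] at h
    -- the quotient lies in `L`
    have hβd : ∀ x : S, ¬ (2 : WithBot ℕ∞) ≤ ringKrullDim (S.presheaf.stalk x) →
        Function.Surjective (RefHull.stalkMapₗ β x) := by
      intro x hlt
      have h1 : ringKrullDim (S.presheaf.stalk x) ≤ 1 := by_contra fun h => hlt (Ref1.two_le_of_not_le_one h)
      by_cases h0 : x = genericPoint S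
      · subst h0; exact hβη.2
      · haveI := hrel.span_stalk x
        haveI : IsDomain (S.presheaf.stalk x) := (hN' x).1
        haveI := Ref1.isDiscreteValuationRing_of_dim_one hN' (DecSh20.dim_eq_one_of_le_one h1 h0)
        have hspN : Function.Injective (sp N (hη x)) := fun v v' h => by
          apply QCoh.stalkLin_injective β x
          apply injective_sp_of_isRef1 hN' hR x
          show sp D (hη x) (RefHull.stalkMapₗ β x v) = sp D (hη x) (RefHull.stalkMapₗ β x v')
          rw [← stalkMapₗ_sp, ← stalkMapₗ_sp, h]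
        obtain ⟨t, ht⟩ := Ref1.exists_gen_of_pid hspN hgenN
        exact ((HomSh.bijective_bidual_iff hrel _).2 (FacDiv.isReflexiveAt_of_gen ht)).2
    have hd1 : DimLT (CohB1.support (cokernel β)) 1 := DecSh20.dimLT_one_of_forall_two_le (k := k) hdim' fun x hx => by
      by_contra hlt
      exact QCoh.notMem_support_cokernel_of_surjective _ (hβd x hlt) hx
    obtain ⟨hBc, -, pB, hpB, eB⟩ := Hilb20.exists_quotient_poly hLa hNc hDc β hpN hpD
    obtain ⟨n, hn⟩ := hgen (PicGrp.cls D hinv)
    have d1 := K3Ext28.alpha_one_of_cls hdim' hLa hLi hinv n hn hpD hPO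
    rw [hO1, zero_add, eB, Hilb20.alpha_add, n1, Hilb20.alpha_eq_zero (d := 1) hLa hBc hd1 hpB] at d1
    have hn1 : n = 1 := by
      have : (n : ℚ) = 1 := by
        have hA' : (0 : ℚ) < A := hA
        nlinarith
      exact_mod_cast this
    rw [hn1, zpow_one] at hn
    obtain ⟨e⟩ := (PicGrp.cls_eq_cls_iff _ _).1 hn
    refine ⟨N, β ≫ e.hom, inferInstance, hNc, ?_, a, b, cokernel.condition a,
      DecSh20.shortExact_cokernel a, fun r' h => ?_⟩
    · have hc : Coh.IsCoh (cokernel (β ≫ e.hom)) := QCoh.isCoh_cokernel _ hNc (Euler.isCoh_of_isInvertible hLi)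
      rw [QCoh.support_eq_of_iso (cokernelCompIsIso β e.hom)]
      exact_mod_cast Snapper.dim_le_of_dimLT (QCoh.isClosed_support_of_isCoh hBc) (d := 0) hd1
    · rw [hom0 r', Limits.comp_zero] at h
      exact hO0 ((IsZero.iff_id_eq_zero _).2 h.symm)

end Groth.Agent.S15853
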