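import Groth.Statements.S15854
import Groth.Agent.Lib.K3Ext28.Saturate

set_option autoImplicit false
set_option maxHeartbeats 1600000
set_option linter.style.haveILetI false
set_option linter.unusedVariables false
set_option backward.isDefEq.respectTransparency.types false
attribute [local irreducible] Curv2.euler
universe u
open CategoryTheory CategoryTheory.Limits AlgebraicGeometry Polynomial
open ShStab

namespace Groth.Agent.S15854

/-- Let k be an algebraically closed field of characteristic zero and S a K3 surface over k — a smooth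
projective surface (integral, smooth over k, of dimension two, with a closed immersion over k into
some projective space) whose structure sheaf is a second exterior power of its sheaf of
differentials and with H^1(S, O_S) = 0 — whose Picard group is infinite cyclic, generated by the
class of an ample invertible sheaf L. Let V be a locally free O_S-module of rank two, stable of
dimension two with respect to L, with Hilbert polynomial P, P(m) = χ(V ⊗ L^m), such that the
coefficients of m and m^2 in P agree (c_1(V)·L = L^2, i.e. the first Chern class of V is the class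
of L), and let n be a natural number with P(n) = χ(V ⊗ L^n) ≥ 1 (by Riemann–Roch this is the bound
c_2(V) ≤ (n^2 + n + 1/2) L^2 + 3). Then V is an extension of type m for some m ≤ n: there are a
natural number m ≤ n, an invertible O_S-module M whose class is the inverse of the class of L^{⊗m},
a coherent subsheaf N ⊆ L^{⊗(m+1)} whose quotient is supported in dimension at most zero (N is
L^{⊗(m+1)} twisted by the ideal of a finite subscheme Z_m), and a short exact sequence 0 → M → V → N
→ 0. (The published statement also records the length of Z_m as c_2 + m(m+1)L^2; that Chern-class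
bookkeeping is not restated here. The published statement also assumes the lower bound c_2 >
((n-1)^2 + (n-1) + 1/2) L^2 + 3 with n ≥ 1; the argument uses only the upper bound, and neither the
lower bound nor n ≥ 1 is assumed here.) -/
theorem result
    (k : Type u) [Field k] [IsAlgClosed k] [CharZero k]
    (S : Scheme.{u}) [S.Over (Spec (CommRingCat.of k))] [IsIntegral S]
    [Smooth (S ↘ Spec (CommRingCat.of k))] (hdim : topologicalKrullDim S = 2)
    [IsProper (S ↘ Spec (CommRingCat.of k))]
    (hproj : ∃ (n : ℕ) (ι : S ⟶ CohB1.ProjSpace n k), IsClosedImmersion ι ∧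
      ι ≫ CohB1.ProjSpace.toSpec n k = S ↘ Spec (CommRingCat.of k))
    (hK : Canon.IsTopDiff (S ↘ Spec (CommRingCat.of k)) 2 (Coh.structureModule S))
    (hq : Module.finrank k (Coh.HH S (Coh.structureModule S) 1) = 0)
    (L : S.Modules) (hLi : PicF.IsInvertible L) (hLa : CohB1.IsAmple L)
    [PicGrp.Law S] (hgen : ∀ c : PicLoc.PicSet S, ∃ n : ℤ, c = PicGrp.cls L hLi ^ n)
    (hfree : ∀ n : ℤ, PicGrp.cls L hLi ^ n = 1 → n = 0)
    (V : S.Modules) (hV : FlatMod.IsFinLocFreeOfRank 2 V)
    (hst : ShStab.IsStable k S L V 2)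
    (P : ℚ[X]) (hP : ShStab.IsHilbPoly k S L V P) (hc1 : P.coeff 1 = P.coeff 2)
    (n : ℕ) (hn : 1 ≤ P.eval (n : ℚ)) :
    ∃ (m : ℕ) (_ : m ≤ n) (M : S.Modules) (hM : PicF.IsInvertible M)
      (_ : PicGrp.cls M hM * PicGrp.cls L hLi ^ m = 1)
      (N : S.Modules) (ι : N ⟶ CohB1.tensorPow L (m + 1)) (_ : Mono ι) (_ : Coh.IsCoh N)
      (_ : topologicalKrullDim (CohB1.support (cokernel ι)) ≤ 0)
      (a : M ⟶ V) (b : V ⟶ N) (w : a ≫ b = 0),
      (ShortComplex.mk a b w).ShortExact := by
  open GrothLib GrothLib.Snapper GrothLib.Ref1 in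
  · haveI := Euler.isNoetherian_of_proper (X := S) k
    obtain ⟨r, ιP, hclosed, hιP⟩ := hproj
    haveI := hclosed
    have hN' := Hilb20.isNormalScheme_of_smooth (X := S) k
    have hdim' : topologicalKrullDim S = ((2 : ℕ) : WithBot ℕ∞) := hdim
    haveI := DimCut.smoothOfRelativeDimension (S ↘ Spec (CommRingCat.of k)) 2 hdim'
    have hOi : PicF.IsInvertible (Coh.structureModule S) := Euler.isInvertible_structure
    have hOc : Coh.IsCoh (Coh.structureModule S) := Kleiman.isCoh_O k
    haveI := hOc.1
    have hVc : Coh.IsCoh V := Euler.isCoh_of_isFinLocFree (FinCov.isFinLocFree_of_rank hV)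
    haveI := hVc.1
    have hVtf := DecSh20.isTorsionFree_of_locFree hV
    have hu : DimLT (Set.univ : Set S) 3 := Kleiman.dimLT_univ hdim'.le
    have hu' : ∀ E : S.Modules, DimLT (CohB1.support E) 3 := fun E => hu.mono (Set.subset_univ _)
    have hdeg : ∀ {E : S.Modules} {Q : ℚ[X]}, Coh.IsCoh E → ShStab.IsHilbPoly k S L E Q → Q.degree < (3 : ℕ) :=
      fun hE hQ => Hilb20.degree_lt_of_dimLT hLi hE (hu' _) hQ
    obtain ⟨PO, hPO⟩ := Hilb20.exists_isHilbPoly (k := k) hLa hOc (hu' _)
    have hO0 : ¬ IsZero (Coh.structureModule S) := fun h =>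
      (Hilb20.support_eq_empty_of_isZero h ▸ Kleiman.mem_support_structure (genericPoint S) :)
    let A := StabCat.alpha 2 PO
    have hA : 0 < A := Hilb20.alpha_pos_self hLa hOc hO0
      (DecSh20.isPure_of_isInvertible (k := k) hN' hdim' hOi) hPO
    have hO1 : StabCat.alpha 1 PO = 0 := by
      simp [StabCat.alpha, K3Ext28.coeff_one_eq_zero (k := k) ιP hιP hdim' hK hLa hPO]
    have hP2 : StabCat.alpha 2 P = 2 * A := by
      rw [K3Ext28.alpha_two_eq_grank hdim' hLa hLi hgen hPO 2 V hVc (Euler.grank_of_locFree hV) P hP]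
      norm_num [A]
    have hP1 : StabCat.alpha 1 P = A := by
      simp only [StabCat.alpha, Nat.factorial_two, Nat.factorial_one, Nat.cast_ofNat, Nat.cast_one, one_mul] at hP2 ⊢
      rw [hc1]; linarith
    have hdP := hdeg hVc hP
    have stab : ∀ (F : S.Modules) (j : F ⟶ V), Mono j → Coh.IsCoh F → ¬ IsZero F → ¬ IsIso j →
        ∀ pF, ShStab.IsHilbPoly k S L F pF → StabCat.alpha 2 pF = A → 2 * StabCat.alpha 1 pF ≤ A := by
      intro F j hj hF h0 hiso pF hpF h2
      have hlt := hst.2.2.2 F j hj hF h0 hiso pF P hpF hP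
      unfold StabCat.RedLT at hlt
      rw [h2, hP2] at hlt
      have hd : pF.degree < (3 : ℕ) := hdeg hF hpF
      have := K3Ext28.coeff_one_le_of_polyLT ((degree_smul_le _ _).trans_lt hd)
        ((degree_smul_le _ _).trans_lt hdP) (by
          have e2 : StabCat.alpha 2 P = 2 * StabCat.alpha 2 pF := by rw [hP2, h2]
          simp only [StabCat.alpha, Nat.factorial_two, Nat.cast_ofNat] at e2
          simp only [coeff_smul, smul_eq_mul]
          linear_combination (-A / 2) * e2) hlt
      simp only [coeff_smul, smul_eq_mul] at this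
      have e1 : P.coeff 1 = A := by simpa [StabCat.alpha] using hP1
      have e3 : StabCat.alpha 1 pF = pF.coeff 1 := by simp [StabCat.alpha]
      rw [e1] at this
      rw [e3]
      nlinarith
    -- no maps to invertible modules of non-positive degree
    have hom0 : ∀ (W : S.Modules) (hW : PicF.IsInvertible W) (j : ℤ),
        PicGrp.cls W hW = PicGrp.cls L hLi ^ j → j ≤ 0 → ∀ f : V ⟶ W, f = 0 := by
      intro W hW j hj hj0 f
      by_contra hf
      have hWc := Euler.isCoh_of_isInvertible hW
      obtain ⟨pW, hpW⟩ := Hilb20.exists_isHilbPoly (k := k) hLa hWc (hu' _)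
      obtain ⟨w', hS⟩ := QCoh.shortExact_kernel_image f
      have hKc := QCoh.isCoh_kernel f hVc hWc
      have hIc := Hilb20.isCoh_image (k := k) f hVc hWc
      obtain ⟨pK, hpK⟩ := Hilb20.exists_isHilbPoly (k := k) hLa hKc (hu' _)
      obtain ⟨pI, hpI⟩ := Hilb20.exists_isHilbPoly (k := k) hLa hIc (hu' _)
      have e := Hilb20.eq_add_of_shortExact hLi hS hKc hVc hIc hpK hP hpI
      obtain ⟨i2, i1, -⟩ := DecSh20.alpha_rankOne hN' hdim' hLa hW (Abelian.image.ι f) hIc
        (Hilb20.image_not_isZero hf) hpI hpW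
      rw [(DecSh20.alpha_invertible hdim' hLa hLi hgen hW hpW hPO).1] at i2
      rw [K3Ext28.alpha_one_of_cls hdim' hLa hLi hW j hj hpW hPO, hO1, zero_add] at i1
      have k2 : StabCat.alpha 2 pK = A := by
        have := congrArg (StabCat.alpha 2) e
        rw [Hilb20.alpha_add, hP2, i2] at this
        linarith
      have hK0 : ¬ IsZero (kernel f) := fun hz => by
        rw [Hilb20.isHilbPoly_unique hpK (Hilb20.isHilbPoly_of_isZero hz)] at k2
        simp [StabCat.alpha] at k2
        linarith
      have hiso : ¬ IsIso (kernel.ι f) := fun h => hf (by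
        haveI := h
        rw [← cancel_epi (kernel.ι f), kernel.condition, Limits.comp_zero])
      have := stab _ (kernel.ι f) inferInstance hKc hK0 hiso pK hpK k2
      have e1 := congrArg (StabCat.alpha 1) e
      rw [Hilb20.alpha_add, hP1] at e1
      have : (j : ℚ) ≤ 0 := by exact_mod_cast hj0
      nlinarith
    -- a section of the twist
    obtain ⟨K, hKi, hKinv⟩ := VA.exists_inverse hLi
    have hLn := Ample.isInvertible_tensorPow hLi n
    have hKn := Ample.isInvertible_tensorPow hKi n
    obtain ⟨u⟩ : Nonempty (CohB1.tensorMod (CohB1.tensorPow L n) (CohB1.tensorPow K n) ≅ Coh.structureModule S) :=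
      (Cube.clsMod_eq_one_iff (Ample.isInvertible_tensorMod hLn hKn)).1 (by
        rw [Cube.clsMod_tensorMod hLn hKn, Cube.clsMod_tensorPow hLi, Cube.clsMod_tensorPow hKi, hKinv, inv_pow,
          mul_inv_cancel])
    let u' : CohB1.tensorMod (CohB1.tensorPow K n) (CohB1.tensorPow L n) ≅ Coh.structureModule S :=
      GrTilde.tensorModComm (X := S) _ _ ≪≫ u
    let T := DCoh.tensorBi (X := S)
    let G := T.flip.obj (CohB1.tensorPow K n)
    haveI : G.IsEquivalence := CurveMult.isEquivalence_tF u' u
    haveI : G.PreservesZeroMorphisms := inferInstance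
    let V' := ShStab.twist S L V n
    let eV : G.obj V' ≅ V :=
      OX.tensorAssoc V (CohB1.tensorPow L n) (CohB1.tensorPow K n) ≪≫ (T.obj V).mapIso u ≪≫ LocFreeDual20.unitR V
    let eO : G.obj (Coh.structureModule S) ≅ CohB1.tensorPow K n := OX.tensorUnitLeftIso _
    have hKcls : PicGrp.cls (CohB1.tensorPow K n) hKn = PicGrp.cls L hLi ^ (-(n : ℤ)) := by
      have h1 : PicGrp.cls (CohB1.tensorPow K n) hKn * PicGrp.cls (CohB1.tensorPow L n) hLn = 1 :=
        (PicGrp.cls_mul_cls_eq_one_iff hKn hLn).2 ⟨u'⟩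
      rw [Kodaira.cls_pow hLi] at h1
      rw [zpow_neg, zpow_natCast]
      exact eq_inv_of_mul_eq_one_left h1
    have hV'c : Coh.IsCoh V' := DecSh20.isCoh_twist hLi hVc n
    obtain ⟨a, ha⟩ : ∃ a : CohB1.tensorPow K n ⟶ V, a ≠ 0 := by
      haveI : HasExt.{u} S.Modules := CategoryTheory.hasExt_of_enoughInjectives S.Modules
      obtain ⟨d⟩ := DualSm27.nonempty_ext_dual k r 2 S ιP hιP _ hK V' hV'c 0 (by omega)
      haveI : Subsingleton (V' ⟶ Coh.structureModule S) := by
        refine ⟨fun f g => ?_⟩
        have h0 := hom0 _ hKn _ hKcls (by omega)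
        refine G.map_injective ?_
        rw [← cancel_epi eV.inv, ← cancel_mono eO.hom]
        exact (h0 _).trans (h0 _).symm
      haveI : Subsingleton (Abelian.Ext V' (Coh.structureModule S) 0) := Abelian.Ext.homEquiv₀.subsingleton
      haveI := d.symm.toEquiv.subsingleton
      have h2 : Module.finrank k (Coh.HH S V' 2) = 0 := by
        have h := Subspace.dual_finrank_eq (K := k) (V := Coh.HH S V' (2 - 0))
        rw [Module.finrank_zero_of_subsingleton] at h
        exact h.symm
      have h1 : 1 ≤ Curv2.euler k S V' := by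
        have := hn
        rw [← hP n] at this
        exact_mod_cast this
      rw [SurfRR28.euler_eq_three_terms k (hd := hdim'.le) hLa hV'c, h2] at h1
      haveI : Nontrivial (Coh.HH S V' 0) := Module.nontrivial_of_finrank_pos (R := k) (by omega)
      obtain ⟨s, hs⟩ := exists_ne (0 : Coh.HH S V' 0)
      refine ⟨eO.inv ≫ G.map ((SerrePn27.homStructureEquiv (k := k) V').symm s) ≫ eV.hom, fun h => hs ?_⟩
      rw [← cancel_epi eO.hom, ← cancel_mono eV.inv, Limits.comp_zero, Limits.zero_comp, Iso.hom_inv_id_assoc,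
        Category.assoc, Iso.hom_inv_id, Category.comp_id, G.map_eq_zero_iff] at h
      exact (SerrePn27.homStructureEquiv (k := k) V').symm.map_eq_zero_iff.1 h
    have hM₀c := Euler.isCoh_of_isInvertible hKn
    haveI : Mono a := K3Ext28.mono_of_ne_zero (k := k) hN' hdim' hKn hVc hVtf a ha
    -- the quotient and its bidual
    have hN0c : Coh.IsCoh (cokernel a) := QCoh.isCoh_cokernel a hM₀c hVc
    have hg1 : Euler.grank (cokernel a) = 1 := by
      have := Euler.grank_additive (DecSh20.shortExact_cokernel a) hVc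
      replace this : Euler.grank V = Euler.grank (CohB1.tensorPow K n) + Euler.grank (cokernel a) := this
      rw [Euler.grank_of_locFree hV, Euler.grank_of_locFree (Euler.isFinLocFreeOfRank_one' hKn)] at this
      omega
    obtain ⟨e₀, he₀⟩ := K3Ext28.exists_gen_of_grank_one hg1
    haveI := hN0c.1
    have hrel := HomSh.hasRel_of_isCoh hN0c
    let D := RefHull.ddual (cokernel a)
    let β : cokernel a ⟶ D := RefHull.bidualMap (cokernel a)
    have hR := Ref1.isRef1_ddual hrel he₀
    have hinv : PicF.IsInvertible D := FacDiv.isInvertible_of_ufd hN' hR fun x => by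
      haveI : IsDomain (S.presheaf.stalk x) := (hN' x).1
      haveI := WeilExt.isRegularLocalRing_stalk_of_smooth (S ↘ Spec (CommRingCat.of k))
        (WeilExt.isRegularLocalRing_stalk_spec k) x
      exact RegUFD.ufd_of_isRegularLocalRing _
    have hDc : Coh.IsCoh D := hR.1
    have hβη := (HomSh.bijective_bidual_iff hrel _).2 (FacDiv.isReflexiveAt_of_gen he₀)
    let f : V ⟶ D := cokernel.π a ≫ β
    have hf : f ≠ 0 := by
      intro h
      haveI : Nontrivial ((cokernel a).presheaf.stalk (genericPoint S)) :=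
        not_subsingleton_iff_nontrivial.1 fun hs => by
          haveI := hs
          rw [Euler.grank, Module.finrank_zero_of_subsingleton] at hg1
          omega
      obtain ⟨w, hw⟩ := exists_ne (0 : (cokernel a).presheaf.stalk (genericPoint S))
      obtain ⟨v, rfl⟩ := QCoh.stalkLin_surjective (cokernel.π a) (genericPoint S) w
      refine hw (hβη.1 ?_)
      rw [map_zero]
      show ((OX.stalk (genericPoint S)).map (cokernel.π a) ≫ (OX.stalk (genericPoint S)).map β).hom v = _
      rw [← Functor.map_comp, show cokernel.π a ≫ β = 0 from h, Functor.map_zero]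
      rfl
    have haf : a ≫ f = 0 := by rw [← Category.assoc, cokernel.condition, Limits.zero_comp]
    let F := kernel f
    let aF : CohB1.tensorPow K n ⟶ F := kernel.lift f a haf
    have haF : aF ≫ kernel.ι f = a := kernel.lift_ι _ _ _
    haveI : Mono aF := by
      haveI : Mono (aF ≫ kernel.ι f) := by rw [haF]; infer_instance
      exact mono_of_mono aF (kernel.ι f)
    have hFc : Coh.IsCoh F := QCoh.isCoh_kernel f hVc hDc
    haveI := hFc.1
    obtain ⟨w', hS⟩ := QCoh.shortExact_kernel_image f
    have hIc := Hilb20.isCoh_image (k := k) f hVc hDc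
    obtain ⟨pF, hpF⟩ := Hilb20.exists_isHilbPoly (k := k) hLa hFc (hu' _)
    obtain ⟨pI, hpI⟩ := Hilb20.exists_isHilbPoly (k := k) hLa hIc (hu' _)
    obtain ⟨pD, hpD⟩ := Hilb20.exists_isHilbPoly (k := k) hLa hDc (hu' _)
    obtain ⟨pM, hpM⟩ := Hilb20.exists_isHilbPoly (k := k) hLa hM₀c (hu' _)
    have eV2 := Hilb20.eq_add_of_shortExact hLi hS hFc hVc hIc hpF hP hpI
    have hI0 := Hilb20.image_not_isZero hf
    obtain ⟨i2, -, -⟩ := DecSh20.alpha_rankOne hN' hdim' hLa hinv (Abelian.image.ι f) hIc hI0 hpI hpD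
    rw [(DecSh20.alpha_invertible hdim' hLa hLi hgen hinv hpD hPO).1] at i2
    have f2 : StabCat.alpha 2 pF = A := by
      have := congrArg (StabCat.alpha 2) eV2
      rw [Hilb20.alpha_add, hP2, i2] at this; linarith
    have hiso : ¬ IsIso (kernel.ι f) := fun h => hf (by
      haveI := h
      rw [← cancel_epi (kernel.ι f), kernel.condition, Limits.comp_zero])
    obtain ⟨hCc, -, pC, hpC, eF⟩ := Hilb20.exists_quotient_poly hLa hM₀c hFc aF hpM hpF
    have hM₁ := K3Ext28.alpha_one_of_cls hdim' hLa hLi hKn _ hKcls hpM hPO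
    have c2 : StabCat.alpha 2 pC = 0 := by
      have := congrArg (StabCat.alpha 2) eF
      rw [Hilb20.alpha_add, f2, (DecSh20.alpha_invertible hdim' hLa hLi hgen hKn hpM hPO).1] at this; linarith
    have hC2 := Hilb20.dimLT_of_alpha_eq_zero hLa hCc (hu' _) hpC c2
    have c1 := Hilb20.alpha_nonneg (d := 1) hLa hCc hC2 hpC
    have hsurjη := K3Ext28.surjective_of_dimLT (k := k) hdim' hN' aF hM₀c hFc hC2
    have hinjη : Function.Injective (RefHull.stalkMapₗ aF (genericPoint S)) := QCoh.stalkLin_injective aF _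
    have hFtf := DecSh20.isTorsionFree_of_mono (kernel.ι f) hVtf
    obtain ⟨eM, heM⟩ := Ref1.exists_gen_of_isInvertible hKn (genericPoint S)
    have hgenF : Gen F (genericPoint S) (RefHull.stalkMapₗ aF (genericPoint S) eM) := by
      refine ⟨fun c c' h => heM.1 (hinjη ?_), fun w => ?_⟩
      · dsimp only at h
        rwa [← map_smul, ← map_smul] at h
      · obtain ⟨t, rfl⟩ := hsurjη w
        obtain ⟨c, hc⟩ := heM.2 t
        exact ⟨c, by rw [← hc]; exact (map_smul _ _ _).symm⟩
    -- the saturation is invertible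
    obtain ⟨hFi, hFm, hFb, -⟩ := K3Ext28.bidual_facts (k := k) hdim' hFc hFtf hgenF
    haveI := hFm
    let βF := RefHull.bidualMap F
    let E := LinearEquiv.ofBijective (RefHull.stalkMapₗ βF (genericPoint S)) (hFb _ (by
      rw [ringKrullDim_stalk_eq_coheight]
      intro h
      have : Order.coheight (genericPoint S) = 0 := Order.coheight_eq_zero.2 fun b hb => Ref1.hη b
      rw [this] at h
      exact absurd h (by decide)))
    have spV : ∀ x, Function.Injective (sp V (hη x)) := fun x => by
      haveI := hVtf x; exact Ref1.sp_injective V x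
    have spD := injective_sp_of_isRef1 hN' hR
    have spDF := injective_sp_of_isRef1 hN' (FacDiv.isRef1_of_isInvertible hFi)
    have spF : ∀ x, Function.Injective (sp F (hη x)) := fun x => by
      haveI := hFtf x; exact Ref1.sp_injective F x
    obtain ⟨ψ, hψ⟩ := exists_hom_of_dim_one (G := RefHull.ddual F) (H := V) hN' (HomSh.hasRel_of_isCoh hVc)
        (K3Ext28.isReflexive_of_locFree (k := k) hV)
        ((RefHull.stalkMapₗ (kernel.ι f) (genericPoint S)).comp E.symm.toLinearMap) fun x hx v => by
      obtain ⟨c, hc⟩ := (hFb x (by rw [hx]; decide)).2 v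
      refine ⟨RefHull.stalkMapₗ (kernel.ι f) x c, ?_⟩
      rw [← stalkMapₗ_sp]
      show RefHull.stalkMapₗ (kernel.ι f) _ (sp F (hη x) c) = RefHull.stalkMapₗ (kernel.ι f) _ (E.symm _)
      congr 1
      refine E.injective ?_
      rw [E.apply_symm_apply]
      show RefHull.stalkMapₗ βF _ (sp F (hη x) c) = _
      rw [stalkMapₗ_sp, hc]
    have hψf : ψ ≫ f = 0 := by
      refine hom_ext_generic spD (LinearMap.ext fun v => ?_)
      rw [stalkMapₗ_comp, LinearMap.comp_apply, hψ]
      show RefHull.stalkMapₗ f _ (RefHull.stalkMapₗ (kernel.ι f) _ (E.symm v)) = _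
      rw [← LinearMap.comp_apply, ← stalkMapₗ_comp, kernel.condition]
      show ((OX.stalk (genericPoint S)).map (0 : F ⟶ D)).hom (E.symm v) =
        ((OX.stalk (genericPoint S)).map (0 : RefHull.ddual F ⟶ D)).hom v
      rw [Functor.map_zero, Functor.map_zero]
      rfl
    let ρ : RefHull.ddual F ⟶ F := kernel.lift f ψ hψf
    have hρ : ρ ≫ kernel.ι f = ψ := kernel.lift_ι _ _ _
    haveI : IsIso βF := by
      have h1 : βF ≫ ρ = 𝟙 F := by
        rw [← cancel_mono (kernel.ι f), Category.assoc, hρ, Category.id_comp]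
        refine hom_ext_generic spV (LinearMap.ext fun v => ?_)
        rw [stalkMapₗ_comp, LinearMap.comp_apply, hψ]
        show RefHull.stalkMapₗ (kernel.ι f) _ (E.symm (E v)) = _
        rw [E.symm_apply_apply]
      refine ⟨ρ, h1, ?_⟩
      refine hom_ext_generic spDF (LinearMap.ext fun v => ?_)
      rw [stalkMapₗ_comp, LinearMap.comp_apply, stalkMapₗ_id, LinearMap.id_apply]
      obtain ⟨t, rfl⟩ := E.surjective v
      show RefHull.stalkMapₗ βF _ (((RefHull.stalkMapₗ ρ _).comp (RefHull.stalkMapₗ βF _)) t) = _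
      rw [← stalkMapₗ_comp, h1, stalkMapₗ_id]
      rfl
    obtain ⟨j, hj⟩ := hgen (PicGrp.cls _ hFi)
    have hpDF := Hilb20.isHilbPoly_congr (asIso βF) hpF
    have f1 : StabCat.alpha 1 pF = j * A := by
      rw [K3Ext28.alpha_one_of_cls hdim' hLa hLi hFi j hj hpDF hPO, hO1, zero_add]
    have hF0 : ¬ IsZero F := fun hz => by
      rw [Hilb20.isHilbPoly_unique hpF (Hilb20.isHilbPoly_of_isZero hz)] at f2
      simp [StabCat.alpha] at f2
      linarith
    have fs := stab F (kernel.ι f) inferInstance hFc hF0 hiso pF hpF f2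
    have eF1 := congrArg (StabCat.alpha 1) eF
    rw [Hilb20.alpha_add, hM₁, hO1, zero_add, f1] at eF1
    rw [f1] at fs
    obtain ⟨m, hmn, hjm⟩ : ∃ m : ℕ, m ≤ n ∧ j = -(m : ℤ) := by
      have hA' : (0 : ℚ) < A := hA
      have l1 : (j : ℚ) < 1 := by nlinarith
      have l2 : ((-(n : ℤ) : ℤ) : ℚ) ≤ j := by nlinarith
      have h1 : j < 1 := by exact_mod_cast l1
      have h2 : -(n : ℤ) ≤ j := by exact_mod_cast l2
      exact ⟨(-j).toNat, by omega, by omega⟩
    subst hjm
    -- the quotient
    obtain ⟨pQ, hpQ⟩ : ∃ pQ, ShStab.IsHilbPoly k S L (Abelian.image f) pQ := ⟨pI, hpI⟩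
    have hDtf : TorSh.IsTorsionFree D := DecSh20.isTorsionFree_of_locFree (Euler.isFinLocFreeOfRank_one' hinv)
    have hItf := DecSh20.isTorsionFree_of_mono (Abelian.image.ι f) hDtf
    have hIg : Euler.grank (Abelian.image f) = 1 := by
      have hb := (DecSh20.rankOne_mono (k := k) hN' hdim' hinv (Abelian.image.ι f) hIc hI0).1
      have h := (LinearEquiv.ofBijective (RefHull.stalkMapₗ (Abelian.image.ι f) (genericPoint S)) hb).finrank_eq
      exact h.trans (Euler.grank_of_locFree (Euler.isFinLocFreeOfRank_one' hinv))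
    obtain ⟨eI, heI⟩ := K3Ext28.exists_gen_of_grank_one hIg
    obtain ⟨hIi, hIm, -, hId⟩ := K3Ext28.bidual_facts (k := k) hdim' hIc hItf heI
    haveI := hIm
    have hDIc := Euler.isCoh_of_isInvertible hIi
    obtain ⟨pDI, hpDI⟩ := Hilb20.exists_isHilbPoly (k := k) hLa hDIc (hu' _)
    obtain ⟨hBc, -, pB, hpB, eB⟩ := Hilb20.exists_quotient_poly hLa hIc hDIc (RefHull.bidualMap (Abelian.image f)) hpI hpDI
    obtain ⟨l, hl⟩ := hgen (PicGrp.cls _ hIi)
    have d1 := K3Ext28.alpha_one_of_cls hdim' hLa hLi hIi l hl hpDI hPO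
    rw [hO1, zero_add, eB, Hilb20.alpha_add, Hilb20.alpha_eq_zero (d := 1) hLa hBc hId hpB] at d1
    have eV1 := congrArg (StabCat.alpha 1) eV2
    rw [Hilb20.alpha_add, hP1, f1] at eV1
    have hl1 : l = ((m + 1 : ℕ) : ℤ) := by
      have hA' : (0 : ℚ) < A := hA
      have : (l : ℚ) = ((m + 1 : ℕ) : ℤ) := by
        push_cast at eV1 ⊢
        nlinarith
      exact_mod_cast this
    rw [hl1, zpow_natCast, ← Kodaira.cls_pow hLi] at hl
    obtain ⟨e⟩ := (PicGrp.cls_eq_cls_iff _ _).1 hl
    refine ⟨m, hmn, RefHull.ddual F, hFi, ?_, Abelian.image f, RefHull.bidualMap _ ≫ e.hom, inferInstance,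
      hIc, ?_, inv βF ≫ kernel.ι f, Abelian.factorThruImage f, ?_, ?_⟩
    · rw [hj, zpow_neg, zpow_natCast, inv_mul_cancel]
    · rw [QCoh.support_eq_of_iso (cokernelCompIsIso (RefHull.bidualMap (Abelian.image f)) e.hom)]
      exact_mod_cast Snapper.dim_le_of_dimLT (QCoh.isClosed_support_of_isCoh hBc) (d := 0) hId
    · rw [Category.assoc, ← cancel_mono (Abelian.image.ι f)]
      simp
    · refine ShortComplex.shortExact_of_iso
        (ShortComplex.isoMk (show kernel f ≅ RefHull.ddual F from @asIso _ _ _ _ βF inferInstance)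
          (Iso.refl V) (Iso.refl (Abelian.image f)) ?_ ?_) hS
      · dsimp
        rw [Category.comp_id, IsIso.hom_inv_id_assoc]
      · simp

end Groth.Agent.S15854
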