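import Groth.Statements.S15855
import Groth.Agent.S15848
import Groth.Agent.Lib.CurveDual28.Generate

set_option autoImplicit false
set_option maxHeartbeats 1600000
set_option linter.style.haveILetI false
set_option backward.isDefEq.respectTransparency false
universe u
open CategoryTheory CategoryTheory.Limits AlgebraicGeometry
attribute [local instance] HasDerivedCategory.standard
open Surf

namespace Groth.Agent.S15855

/-- A torsion-free module on a curve in a surface is pure. -/
theorem isPureOn_push (k : Type u) [Field k]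
    (S : Scheme.{u}) [S.Over (Spec (CommRingCat.of k))] [IsIntegral S]
    [Smooth (S ↘ Spec (CommRingCat.of k))] (hdim : topologicalKrullDim S = 2)
    (C : Scheme.{u}) (j : C ⟶ S) [IsClosedImmersion j] [IsIntegral C]
    (hC : topologicalKrullDim C = 1)
    (M : C.Modules) (hM : Coh.IsCoh M) (hMtf : TorSh.IsTorsionFree M) :
    GrothLib.CurveDual28.IsPureOn (Set.range j) ((Coh.push j).obj M) := by
  haveI : IsLocallyNoetherian S := LocallyOfFiniteType.isLocallyNoetherian (S ↘ Spec (CommRingCat.of k))
  haveI : IsLocallyNoetherian C := LocallyOfFiniteType.isLocallyNoetherian j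
  refine ⟨GrothLib.K0Sub.isCoh_push j hM, GrothLib.QCoh.support_pushforward_subset_range j _, fun F f hF => ?_⟩
  have hFc : Coh.IsCoh F := GrothLib.Euler.isCoh_of_isFinLocFree hF
  have hMp : Coh.IsCoh ((Coh.push j).obj M) :=
    haveI := hM.1
    ⟨GrothLib.QCoh.isQuasicoherent_pushforward j M, GrothLib.QCoh.isFiniteType_pushforward j M hM.2⟩
  have hK : Coh.IsCoh (kernel f) := GrothLib.QCoh.isCoh_kernel f hFc hMp
  have hKr := GrothLib.HomSh.hasRel_of_isCoh hK
  refine (GrothLib.Ref1.isFinLocFree_iff_free hKr).2 fun x => ?_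
  have := hKr.span_stalk x
  haveI := GrothLib.HodgeIndex.regular_of_smooth (X := S) k x
  haveI hFfree := (GrothLib.Ref1.isFinLocFree_iff_free (GrothLib.HomSh.hasRel_of_isCoh hFc)).1 hF x
  haveI := (GrothLib.HomSh.hasRel_of_isCoh hFc).span_stalk x
  have hi : Function.Injective (GrothLib.QCoh.stalkLin (kernel.ι f) x) := GrothLib.QCoh.stalkLin_injective (kernel.ι f) x
  let S₀ : ShortComplex S.Modules := ShortComplex.mk (kernel.ι f) f (kernel.condition f)
  have hS₀ : S₀.Exact := ShortComplex.exact_of_f_is_kernel _ (kernelIsKernel f)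
  have he : Function.Exact (GrothLib.QCoh.stalkLin (kernel.ι f) x) (GrothLib.QCoh.stalkLin f x) :=
    (ShortComplex.ShortExact.moduleCat_exact_iff_function_exact _).1 ((GrothLib.OX.exact_iff S₀).1 hS₀ x)
  by_cases hx : x ∈ Set.range j
  · obtain ⟨c, rfl⟩ := hx
    have hb := GrothLib.Snapper.pushStalkHom_bijective_of_fibre j j.isClosedEmbedding.isClosedMap c
      (fun z hz => j.isClosedEmbedding.injective hz) M
    haveI : Module.IsTorsionFree (C.presheaf.stalk c) (M.presheaf.stalk c) := hMtf c
    refine Groth.Agent.S15848.free_ker_of_quotient (N := M.presheaf.stalk c) (j.stalkMap c).hom ?_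
      ((GrothLib.QCoh.pushStalkHom j c M).hom.toAddMonoidHom :) hb.1
      (fun a m => map_smul (GrothLib.QCoh.pushStalkHom j c M).hom a m) _ _ hi he fun h1 => ?_
    · exact (GrothLib.Ref1.ringKrullDim_stalk_le_topologicalKrullDim _).trans hdim.le
    · by_contra hne
      push Not at hne
      have hc : c = genericPoint C := by
        have hm : IsLocalRing.maximalIdeal (C.presheaf.stalk c) = ⊥ := by
          refine eq_bot_iff.2 fun t ht => ?_
          obtain ⟨a, rfl⟩ := j.stalkMap_surjective c t
          exact hne a (fun hu => ht (hu.map (j.stalkMap c).hom))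
        exact GrothLib.FlatQuot29.eq_genericPoint_of_maximalIdeal_eq_bot c hm
      subst hc
      have hT : GrothLib.Snapper.IsTop 1 (j (genericPoint C)) := by
        show topologicalKrullDim _ = _
        rw [GrothLib.QCoh.closure_singleton_eq_range j]
        exact (IsHomeomorph.topologicalKrullDim_eq _
          j.isClosedEmbedding.isEmbedding.toHomeomorph.isHomeomorph).symm.trans hC
      have hne' : j (genericPoint C) ≠ genericPoint S := fun e => by
        have h2 : topologicalKrullDim (closure ({genericPoint S} : Set S)) = 2 := by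
          rw [(genericPoint_spec S).def]
          exact (IsHomeomorph.topologicalKrullDim_eq _ (Homeomorph.Set.univ S).isHomeomorph).trans hdim
        rw [← e, show topologicalKrullDim (closure ({j (genericPoint C)} : Set S)) = ((1 : ℕ) : WithBot ℕ∞) from hT] at h2
        norm_cast at h2
      exact h1.ne' (GrothLib.HodgeIndex.ringKrullDim_stalk_eq_one hdim.le hT hne')
  · haveI := GrothLib.Snapper.subsingleton_stalk_push j M j.isClosedEmbedding.isClosed_range hx
    have hsurj : Function.Surjective (GrothLib.QCoh.stalkLin (kernel.ι f) x) := fun v =>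
      (he v).1 (Subsingleton.elim _ _)
    exact Module.Free.of_equiv (LinearEquiv.ofBijective _ ⟨hi, hsurj⟩).symm

/-- Let k be an algebraically closed field of characteristic zero, S a smooth projective surface over k
(integral, smooth over k, of dimension two, with a closed immersion over k into some projective
space), ω an O_S-module which is a second exterior power of the sheaf of differentials of S over k,
j : C → S a closed immersion with C integral of dimension one, and A a coherent O_C-module with
torsion-free stalks and one-dimensional generic stalk, with H^0(S, j_*A) ≠ 0 and H^1(S, j_*A) ≠ 0.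
For a coherent O_S-module F write F^* = Ext^1_{O_S}(F, ω) (first right derived functor of the sheaf
Hom functor Hom_{O_S}(F, -), the right adjoint of F ⊗ -, at ω). Let A' ⊆ j_*A be the base-point-free
part of A: a globally generated coherent subsheaf such that H^0(S, A') → H^0(S, j_*A) is surjective
(the image of the evaluation map). Let B ⊆ A'^* be, likewise, a globally generated coherent subsheaf
with H^0(S, B) → H^0(S, A'^*) surjective, and put A'' = B^*. Then both A'' and A''^* are globally
generated (quotients of free O_S-modules). -/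
theorem result
    (k : Type u) [Field k] [IsAlgClosed k] [CharZero k]
    (S : Scheme.{u}) [S.Over (Spec (CommRingCat.of k))] [IsIntegral S]
    [Smooth (S ↘ Spec (CommRingCat.of k))] (hdim : topologicalKrullDim S = 2)
    [IsProper (S ↘ Spec (CommRingCat.of k))]
    (hproj : ∃ (n : ℕ) (ι : S ⟶ CohB1.ProjSpace n k), IsClosedImmersion ι ∧
      ι ≫ CohB1.ProjSpace.toSpec n k = S ↘ Spec (CommRingCat.of k))
    [HasInjectiveResolutions S.Modules]
    (ω : S.Modules) (hω : Canon.IsTopDiff (S ↘ Spec (CommRingCat.of k)) 2 ω)
    (C : Scheme.{u}) (j : C ⟶ S) [IsClosedImmersion j] [IsIntegral C]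
    (hC : topologicalKrullDim C = 1)
    (M : C.Modules) (hM : Coh.IsCoh M) (hMtf : TorSh.IsTorsionFree M)
    (hrk : Module.finrank (C.presheaf.stalk (genericPoint C)) (M.presheaf.stalk (genericPoint C)) = 1)
    (h0 : 0 < Module.finrank k (Coh.HH S ((Coh.push j).obj M) 0)) (h1 : 0 < Module.finrank k (Coh.HH S ((Coh.push j).obj M) 1))
    (A' : S.Modules) (ι₁ : A' ⟶ ((Coh.push j).obj M)) [Mono ι₁] (hA'c : Coh.IsCoh A')
    (hA'g : Curv2.IsGloballyGenerated A') (hA'0 : Function.Surjective (Canon.HHlin k ι₁ 0))
    [DCoh.HasSheafHom A'] [(DCoh.sheafHom A').Additive]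
    (B : S.Modules) (ι₂ : B ⟶ ((DCoh.sheafHom A').rightDerived 1).obj ω) [Mono ι₂] (hBc : Coh.IsCoh B)
    (hBg : Curv2.IsGloballyGenerated B) (hB0 : Function.Surjective (Canon.HHlin k ι₂ 0))
    [DCoh.HasSheafHom B] [(DCoh.sheafHom B).Additive]
    [DCoh.HasSheafHom (((DCoh.sheafHom B).rightDerived 1).obj ω)] [(DCoh.sheafHom (((DCoh.sheafHom B).rightDerived 1).obj ω)).Additive] :
    Curv2.IsGloballyGenerated (((DCoh.sheafHom B).rightDerived 1).obj ω) ∧
      Curv2.IsGloballyGenerated (((DCoh.sheafHom (((DCoh.sheafHom B).rightDerived 1).obj ω)).rightDerived 1).obj ω) := by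
  open GrothLib in
  · haveI := Euler.isNoetherian_of_proper (X := S) k
    obtain ⟨r, ιP, hclosed, hιP⟩ := hproj
    haveI := hclosed
    have hdim' : topologicalKrullDim S = ((2 : ℕ) : WithBot ℕ∞) := hdim
    have hsm := DimCut.smoothOfRelativeDimension (S ↘ Spec (CommRingCat.of k)) 2 hdim'
    have hX : CurveDual28.IsSurf k ιP ω := ⟨hclosed, hιP, hsm, hdim.le, hω⟩
    have hZ : IsClosed (Set.range j) := j.isClosedEmbedding.isClosed_range
    have hd : topologicalKrullDim (Set.range j) ≤ 1 :=
      ((IsHomeomorph.topologicalKrullDim_eq _ j.isClosedEmbedding.isEmbedding.toHomeomorph.isHomeomorph).symm.trans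
        hC).le
    have hA : CurveDual28.IsPureOn (Set.range j) A' :=
      (isPureOn_push k S hdim C j hC M hM hMtf).of_mono ι₁ hA'c
    refine ⟨hX.isGloballyGenerated_star hZ hd hA hA'g ι₂ hBc hB0, ?_⟩
    obtain ⟨e⟩ := hX.nonempty_star_star hZ hd ((hX.isPureOn_star hZ hd hA).of_mono ι₂ hBc)
    exact Ample.isGloballyGenerated_of_iso e.symm hBg

end Groth.Agent.S15855
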