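import Groth.Statements.S15856
import Groth.Agent.Lib.K3Ext28.NotFree

set_option autoImplicit false
set_option maxHeartbeats 1600000
set_option linter.style.haveILetI false
set_option linter.unusedVariables false
set_option backward.isDefEq.respectTransparency.types false
attribute [local irreducible] Curv2.euler
universe u
open CategoryTheory CategoryTheory.Limits AlgebraicGeometry
open ShStab

namespace Groth.Agent.S15856

/-- Let k be an algebraically closed field of characteristic zero and S a K3 surface over k — a smooth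
projective surface (integral, smooth over k, of dimension two, with a closed immersion over k into
some projective space) whose structure sheaf is a second exterior power of its sheaf of
differentials and with H^1(S, O_S) = 0 — whose Picard group is infinite cyclic, generated by the
class of an ample invertible sheaf G. Let L and L' be invertible O_S-modules and N ⊆ L' a coherent
subsheaf whose quotient L'/N is supported in dimension at most zero (N is L' twisted by the ideal
sheaf of a finite subscheme Z). If the group Ext^1_{O_S}(N, L), computed in the category of all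
O_S-modules with its k-linear structure (the Ext instance is the stated hypothesis; it holds), has
k-dimension at least 2, then there is a short exact sequence 0 → L → V → N → 0 which does not split
and whose middle term V is not a finite locally free O_S-module. -/
theorem result
    (k : Type u) [Field k] [IsAlgClosed k] [CharZero k]
    (S : Scheme.{u}) [S.Over (Spec (CommRingCat.of k))] [IsIntegral S]
    [Smooth (S ↘ Spec (CommRingCat.of k))] (hdim : topologicalKrullDim S = 2)
    [IsProper (S ↘ Spec (CommRingCat.of k))]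
    (hproj : ∃ (n : ℕ) (ι : S ⟶ CohB1.ProjSpace n k), IsClosedImmersion ι ∧
      ι ≫ CohB1.ProjSpace.toSpec n k = S ↘ Spec (CommRingCat.of k))
    (hK : Canon.IsTopDiff (S ↘ Spec (CommRingCat.of k)) 2 (Coh.structureModule S))
    (hq : Module.finrank k (Coh.HH S (Coh.structureModule S) 1) = 0)
    (G : S.Modules) (hGi : PicF.IsInvertible G) (hGa : CohB1.IsAmple G)
    [PicGrp.Law S] (hgen : ∀ c : PicLoc.PicSet S, ∃ n : ℤ, c = PicGrp.cls G hGi ^ n)
    (hfree : ∀ n : ℤ, PicGrp.cls G hGi ^ n = 1 → n = 0)
    [HasExt.{u} S.Modules]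
    (L L' : S.Modules) (hL : PicF.IsInvertible L) (hL' : PicF.IsInvertible L')
    (N : S.Modules) (ι : N ⟶ L') [Mono ι] (hN : Coh.IsCoh N)
    (hZ : topologicalKrullDim (CohB1.support (cokernel ι)) ≤ 0)
    (h2 : 2 ≤ Module.finrank k (Abelian.Ext N L 1)) :
    ∃ (V : S.Modules) (a : L ⟶ V) (b : V ⟶ N) (w : a ≫ b = 0),
      (ShortComplex.mk a b w).ShortExact ∧ (∀ r : V ⟶ L, a ≫ r ≠ 𝟙 L) ∧
        ¬ FlatMod.IsFinLocFree V := by
  open GrothLib GrothLib.Snapper GrothLib.Ref1 CategoryTheory.Abelian in
  · haveI := Euler.isNoetherian_of_proper (X := S) k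
    obtain ⟨r, ιP, hclosed, hιP⟩ := hproj
    haveI := hclosed
    have hN' := Hilb20.isNormalScheme_of_smooth (X := S) k
    have hdim' : topologicalKrullDim S = ((2 : ℕ) : WithBot ℕ∞) := hdim
    haveI := DimCut.smoothOfRelativeDimension (S ↘ Spec (CommRingCat.of k)) 2 hdim'
    obtain ⟨pO, hpO⟩ := Hilb20.exists_isHilbPoly (k := k) hGa (Kleiman.isCoh_O (X := S) k)
      ((Kleiman.dimLT_univ hdim'.le).mono (Set.subset_univ _))
    have hO1 := K3Ext28.coeff_one_eq_zero (k := k) ιP hιP hdim' hK hGa hpO
    have hH1 : ∀ M : S.Modules, PicF.IsInvertible M → Subsingleton (Ext (Coh.structureModule S) M 1) :=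
      K3Ext28.h1_eq_zero hdim' hGa hgen hpO hO1 ιP hιP hK hq
    -- extensions between invertible modules split
    have hExt : ∀ A B : S.Modules, PicF.IsInvertible A → PicF.IsInvertible B → Subsingleton (Ext A B 1) :=
      fun A B hA hB => K3Ext28.ext_one_subsingleton (k := k) hH1 hA hB
    -- the colength is non-empty
    have hL'c := Euler.isCoh_of_isInvertible hL'
    have hQc : Coh.IsCoh (cokernel ι) := QCoh.isCoh_cokernel ι hN hL'c
    have hd : DimLT (CohB1.support (cokernel ι)) 1 := Snapper.dimLT_of_dim_le (d := 0) hZ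
    obtain ⟨z, hz, hzc⟩ : ∃ z, z ∈ CohB1.support (cokernel ι) ∧ IsClosed ({z} : Set S) := by
      by_cases hne : (CohB1.support (cokernel ι)).Nonempty
      · exact (QCoh.isClosed_support_of_isCoh hQc).exists_closed_singleton hne
      exfalso
      have hzero : IsZero (cokernel ι) := HilbArt9.isZero_of_support_empty fun x hx => hne ⟨x, hx⟩
      haveI : Epi ι := Preadditive.epi_of_cokernel_zero (hzero.eq_zero_of_tgt _)
      haveI : IsIso ι := isIso_of_mono_of_epi ι
      haveI := hExt L' L hL' hL
      have : Subsingleton (Ext N L 1) := by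
        refine subsingleton_of_forall_eq 0 fun e => ?_
        rw [← Ext.mk₀_id_comp e, ← IsIso.hom_inv_id ι, ← Ext.mk₀_comp_mk₀, Ext.comp_assoc_of_second_deg_zero]
        rw [Subsingleton.elim ((Ext.mk₀ (inv ι)).comp e (zero_add 1)) 0, Ext.comp_zero]
      rw [Module.finrank_zero_of_subsingleton] at h2
      omega
    -- a presentation
    obtain ⟨K, hKi, hKinv⟩ := VA.exists_inverse hGi
    obtain ⟨n₀, hn⟩ := BddReg26.exists_epi_free_tensorPow hGa hN
    obtain ⟨rk, p, hp⟩ := hn n₀ le_rfl
    have hGn := Ample.isInvertible_tensorPow hGi n₀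
    have hKn := Ample.isInvertible_tensorPow hKi n₀
    obtain ⟨u⟩ : Nonempty (CohB1.tensorMod (CohB1.tensorPow G n₀) (CohB1.tensorPow K n₀) ≅ Coh.structureModule S) :=
      (Cube.clsMod_eq_one_iff (Ample.isInvertible_tensorMod hGn hKn)).1 (by
        rw [Cube.clsMod_tensorMod hGn hKn, Cube.clsMod_tensorPow hGi, Cube.clsMod_tensorPow hKi, hKinv, inv_pow,
          mul_inv_cancel])
    haveI := hp
    let T := DCoh.tensorBi (X := S)
    let Fn := T.flip.obj (CohB1.tensorPow K n₀)
    haveI : PreservesColimitsOfSize.{0, 0} Fn := inferInstance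
    haveI : Fn.PreservesEpimorphisms := inferInstance
    haveI : Fn.Additive := inferInstance
    let aiso : Fn.obj (CohB1.tensorMod N (CohB1.tensorPow G n₀)) ≅ N :=
      OX.tensorAssoc N (CohB1.tensorPow G n₀) (CohB1.tensorPow K n₀) ≪≫ (T.obj N).mapIso u ≪≫
        LocFreeDual20.unitR N
    let P := Fn.obj (FlatMod.freeMod S rk)
    let π : P ⟶ N := Fn.map p ≫ aiso.hom
    haveI : Epi π := epi_comp _ _
    have hS : (ShortComplex.mk (kernel.ι π) π (kernel.condition π)).ShortExact :=
      ShortComplex.ShortExact.mk' (ShortComplex.exact_of_f_is_kernel _ (kernelIsKernel π)) inferInstance inferInstance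
    have hP : Subsingleton (Ext P L 1) := by
      refine subsingleton_of_forall_eq 0 fun e => ?_
      let pr : ∀ j : Fin rk, FlatMod.freeMod S rk ⟶ Coh.structureModule S := fun j =>
        Sigma.desc fun i => if i = j then 𝟙 _ else 0
      have hid : 𝟙 (FlatMod.freeMod S rk) =
          ∑ j, pr j ≫ Sigma.ι (fun _ : Fin rk => Coh.structureModule S) j := by
        refine Sigma.hom_ext _ _ fun i => ?_
        rw [Category.comp_id, Preadditive.comp_sum, Finset.sum_eq_single i]
        · simp [pr]
        · intro j _ hj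
          simp [pr, Ne.symm hj]
        · simp
      have hO : PicF.IsInvertible (Fn.obj (Coh.structureModule S)) :=
        Ample.isInvertible_tensorMod Euler.isInvertible_structure hKn
      haveI := hExt _ L hO hL
      have h1 : 𝟙 P = ∑ j, Fn.map (pr j) ≫ Fn.map (Sigma.ι (fun _ : Fin rk => Coh.structureModule S) j) := by
        simp only [P, ← Fn.map_id, hid, Functor.map_sum, Functor.map_comp]
      rw [← Ext.mk₀_id_comp e, h1, Ext.mk₀_sum, Ext.sum_comp]
      refine Finset.sum_eq_zero fun j _ => ?_
      rw [← Ext.mk₀_comp_mk₀, Ext.comp_assoc_of_second_deg_zero,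
        Subsingleton.elim ((Ext.mk₀ (Fn.map (Sigma.ι (fun _ : Fin rk => Coh.structureModule S) j))).comp e
          (zero_add 1)) 0, Ext.comp_zero]
    have hδ : ∀ e : Ext N L 1, ∃ g : kernel π ⟶ L, hS.extClass.comp (Ext.mk₀ g) (add_zero 1) = e := by
      intro e
      obtain ⟨y, hy⟩ := Ext.contravariant_sequence_exact₃ hS (Y := L) e (Subsingleton.elim _ _) (n₀ := 0) rfl
      obtain ⟨g, rfl⟩ := Ext.homEquiv₀.symm.surjective y
      exact ⟨g, hy⟩
    by_contra hcon
    push Not at hcon
    -- the stalk at the point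
    let Φ := OX.stalk (X := S) z
    haveI : PreservesFiniteColimits Φ := inferInstance
    obtain ⟨eL, heL⟩ := Ref1.exists_gen_of_isInvertible hL z
    -- non-zero classes generate locally
    have key : ∀ e : Ext N L 1, e ≠ 0 → ∀ y : Ext (Φ.obj N) (Φ.obj L) 1,
        ∃ c : S.presheaf.stalk z, y = c • e.mapExactFunctor Φ := by
      intro e he y
      obtain ⟨g, hg⟩ := hδ e
      obtain ⟨V, a, b, w, q, hV, hq1, hq2⟩ := K3Ext28.exists_pushout_seq hS g
      have hnat : hS.extClass.comp (Ext.mk₀ g) (add_zero 1) = hV.extClass :=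
        (ShortComplex.ShortExact.extClass_naturality hS hV
          { τ₁ := g, τ₂ := q, τ₃ := 𝟙 N, comm₁₂ := hq1.symm, comm₂₃ := hq2.trans (Category.comp_id π).symm }).trans
          (Ext.mk₀_id_comp _)
      rw [hg] at hnat
      have hns : ∀ r' : V ⟶ L, a ≫ r' ≠ 𝟙 L := by
        intro r' hr'
        refine he ?_
        have h0 := hV.extClass_comp
        rw [hnat, ← Ext.comp_mk₀_id hV.extClass, ← hr', ← Ext.mk₀_comp_mk₀,
          ← Ext.comp_assoc (a₁₂ := 1) (a₂₃ := 0) _ _ _ (by omega) (by omega) (by omega), h0, Ext.zero_comp]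
      have hfl : FlatMod.IsFinLocFree V := hcon V a b w hV hns
      obtain ⟨hf, hfin⟩ := K3Ext28.free_stalk_of_isFinLocFree hfl z
      rw [hnat, Ext.mapExactFunctor_extClass]
      exact K3Ext28.extClass_generates (hV.map_of_exact Φ) hf (e := eL) heL.2 y
    -- two independent classes
    obtain ⟨e₂, he₂⟩ : ∃ e : Ext N L 1, e ≠ 0 := by
      haveI : Nontrivial (Ext N L 1) := Module.nontrivial_of_finrank_pos (R := k) (by omega)
      exact exists_ne 0
    obtain ⟨e₁, he₁⟩ : ∃ e : Ext N L 1, ∀ c : k, e ≠ c • e₂ := by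
      by_contra h
      push Not at h
      have := finrank_le_one e₂ fun v => by
        obtain ⟨c, hc⟩ := h v
        exact ⟨c, hc.symm⟩
      omega
    obtain ⟨t, ht⟩ := key e₂ he₂ (e₁.mapExactFunctor Φ)
    obtain ⟨c, hc⟩ := (Euler.exists_const_residue (S ↘ Spec (CommRingCat.of k)) hzc).2
      (IsLocalRing.residue (S.presheaf.stalk z) t)
    let σ : S.presheaf.stalk z := S.presheaf.germ ⊤ z trivial (Coh.toGlobal (S ↘ Spec (CommRingCat.of k)) c)
    have hm : t - σ ∈ IsLocalRing.maximalIdeal (S.presheaf.stalk z) := by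
      rw [← IsLocalRing.residue_eq_zero_iff, map_sub, sub_eq_zero]
      exact hc.symm
    have hsm : (c • e₂).mapExactFunctor Φ = σ • e₂.mapExactFunctor Φ := by
      rw [Ext.smul_eq_comp_mk₀, Ext.mapExactFunctor_comp, Ext.mapExactFunctor_mk₀, K3Ext28.stalk_map_smul,
        ← Ext.smul_eq_comp_mk₀]
    have he : (e₁ - c • e₂).mapExactFunctor Φ = (t - σ) • e₂.mapExactFunctor Φ := by
      have h := map_sub (Φ.mapExtAddHom N L 1) e₁ (c • e₂)
      simp only [Functor.mapExtAddHom_coe] at h
      rw [h, ht, hsm, sub_smul]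
    obtain ⟨s, hs⟩ := key (e₁ - c • e₂) (sub_ne_zero.2 (he₁ c)) (e₂.mapExactFunctor Φ)
    rw [he, smul_smul] at hs
    have hu : IsUnit (1 - s * (t - σ)) := by
      refine IsLocalRing.isUnit_one_sub_self_of_mem_nonunits _ ?_
      exact Ideal.mul_mem_left _ s hm
    have h0 : e₂.mapExactFunctor Φ = 0 := hu.smul_eq_zero.1 (by rw [sub_smul, one_smul, ← hs, sub_self])
    -- hence the stalk of `N` is projective
    obtain ⟨g, hg⟩ := hδ e₂
    obtain ⟨V, a, b, w, q, hV, hq1, hq2⟩ := K3Ext28.exists_pushout_seq hS g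
    have hnat : hS.extClass.comp (Ext.mk₀ g) (add_zero 1) = hV.extClass :=
      (ShortComplex.ShortExact.extClass_naturality hS hV
        { τ₁ := g, τ₂ := q, τ₃ := 𝟙 N, comm₁₂ := hq1.symm, comm₂₃ := hq2.trans (Category.comp_id π).symm }).trans
        (Ext.mk₀_id_comp _)
    rw [hg] at hnat
    rw [hnat, Ext.mapExactFunctor_extClass] at h0
    have hfl : FlatMod.IsFinLocFree V := hcon V a b w hV fun r' hr' => by
      refine he₂ ?_
      rw [hnat, ← Ext.comp_mk₀_id hV.extClass, ← hr', ← Ext.mk₀_comp_mk₀,
        ← Ext.comp_assoc (a₁₂ := 1) (a₂₃ := 0) _ _ _ (by omega) (by omega) (by omega),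
        hV.extClass_comp, Ext.zero_comp]
    obtain ⟨hf, hfin⟩ := K3Ext28.free_stalk_of_isFinLocFree hfl z
    exact K3Ext28.not_free_stalk (k := k) hdim' hN hL' ι hd hz
      (K3Ext28.free_finite_of_extClass_eq_zero (hV.map_of_exact Φ) hf hfin h0)

end Groth.Agent.S15856
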