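import Groth.Statements.S15859
-- import your own Groth.Agent.* helpers here
import Groth.Agent.Lib.SliceFib28.Basic
import Groth.Agent.Lib.ModDesc.Approx
import Groth.Agent.Lib.Euler.Support
import Groth.Agent.Lib.FibReg5.Basic

set_option autoImplicit false
set_option maxHeartbeats 1600000
set_option linter.style.haveILetI false
set_option backward.isDefEq.respectTransparency false
universe u
open CategoryTheory CategoryTheory.Limits AlgebraicGeometry
open Surf

namespace Groth.Agent.S15859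

open CategoryTheory CategoryTheory.Limits AlgebraicGeometry TopologicalSpace

theorem finrank_le_zero_degree {k : Type u} [Field k] {S : Scheme.{u}} [S.Over (Spec (CommRingCat.of k))]
    {A B C : S.Modules} {f : A ⟶ B} {g : B ⟶ C} {w : f ≫ g = 0} (hT : (ShortComplex.mk f g w).ShortExact) [FiniteDimensional k (Coh.HH S B 0)] :
    Module.finrank k (Coh.HH S A 0) ≤ Module.finrank k (Coh.HH S B 0) :=
  LinearMap.finrank_le_finrank_of_injective (GrothLib.Euler.hhMap_zero_injective (A := k) hT)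

theorem finrank_middle_le {k : Type u} [Field k] {S : Scheme.{u}} [S.Over (Spec (CommRingCat.of k))]
    {A B C : S.Modules} {f : A ⟶ B} {g : B ⟶ C} {w : f ≫ g = 0} (hT : (ShortComplex.mk f g w).ShortExact) [FiniteDimensional k (Coh.HH S A 0)]
    [FiniteDimensional k (Coh.HH S B 0)] [FiniteDimensional k (Coh.HH S C 0)] :
    Module.finrank k (Coh.HH S B 0) ≤
      Module.finrank k (Coh.HH S A 0) + Module.finrank k (Coh.HH S C 0) := by
  rw [GrothLib.Euler.finrank_eq_add_of_exact (GrothLib.Cohom.exact₂ (A := k) hT 0)]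
  exact add_le_add (LinearMap.finrank_range_le _) (Submodule.finrank_le _)

theorem finrank_middle_eq {k : Type u} [Field k] {S : Scheme.{u}} [S.Over (Spec (CommRingCat.of k))]
    {A B C : S.Modules} {f : A ⟶ B} {g : B ⟶ C} {w : f ≫ g = 0} (hT : (ShortComplex.mk f g w).ShortExact) [FiniteDimensional k (Coh.HH S A 0)]
    [FiniteDimensional k (Coh.HH S B 0)] [FiniteDimensional k (Coh.HH S C 0)]
    [FiniteDimensional k (Coh.HH S A 1)] [FiniteDimensional k (Coh.HH S B 1)]
    [Subsingleton (Coh.HH S C 1)]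
    (h1 : Module.finrank k (Coh.HH S A 1) = Module.finrank k (Coh.HH S B 1)) :
    Module.finrank k (Coh.HH S B 0) =
      Module.finrank k (Coh.HH S A 0) + Module.finrank k (Coh.HH S C 0) := by
  have hsurj : Function.Surjective (GrothLib.Cohom.hhMap k f 1) := fun y =>
    ((GrothLib.Cohom.exact₂ (A := k) hT 1) y).1 (Subsingleton.elim _ _)
  have hinj : Function.Injective (GrothLib.Cohom.hhMap k f 1) :=
    (LinearMap.injective_iff_surjective_of_finrank_eq_finrank h1).2 hsurj
  have hd : ∀ y, GrothLib.Cohom.hhDelta k hT 0 y = 0 := fun y =>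
    hinj (((GrothLib.Cohom.exact₁ (A := k) hT 0).apply_apply_eq_zero y).trans (map_zero _).symm)
  have hg : Function.Surjective (GrothLib.Cohom.hhMap k g 0) := fun y =>
    ((GrothLib.Cohom.exact₃ (A := k) hT 0) y).1 (hd y)
  rw [GrothLib.Euler.finrank_eq_add_of_exact (GrothLib.Cohom.exact₂ (A := k) hT 0),
    LinearMap.finrank_range_of_inj (GrothLib.Euler.hhMap_zero_injective (A := k) hT),
    LinearMap.range_eq_top.2 hg, finrank_top]

/-- Let k be an algebraically closed field of characteristic zero, S a smooth projective surface over k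
(integral, smooth over k, of dimension two, with a closed immersion over k into some projective
space) and P an integral one-dimensional k-scheme locally of finite type (a curve, not necessarily
proper). Let 𝒜, 𝒜', 𝒜'' be coherent O-modules on S ×_k P, flat over P, with monomorphisms 𝒜' → 𝒜 and
𝒜' → 𝒜'' whose cokernels 𝒬 and 𝒬~ are flat over P, the fibres of 𝒬~ being supported in dimension at
most zero (so they have constant length). For a k-point p of P write F_p for the pull-back of a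
module F along the section S → S ×_k P at p (identity on S, p on the second factor), a module on S.
Suppose that at some k-point p₀ one has dim H^0(S, 𝒜'_{p₀}) = dim H^0(S, 𝒜_{p₀}) and dim H^1(S,
𝒜'_{p₀}) = dim H^1(S, 𝒜''_{p₀}), and that dim H^0(S, 𝒜''_p) ≥ dim H^0(S, 𝒜''_{p₀}) for every k-point
p. Then dim H^0(S, 𝒜_p) ≥ dim H^0(S, 𝒜_{p₀}) for every k-point p. (The published statement also
assumes that the fibres 𝒜_p, 𝒜'_p, 𝒜''_p are rank-one torsion-free sheaves on curves C_p ⊆ S, using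
this only to see that the fibrewise maps are injective; that follows here from the flatness of the
cokernels, so the assumption is not made.) -/
theorem result
    (k : Type u) [Field k] [IsAlgClosed k] [CharZero k]
    (S : Scheme.{u}) [S.Over (Spec (CommRingCat.of k))] [IsIntegral S]
    [Smooth (S ↘ Spec (CommRingCat.of k))] (hdim : topologicalKrullDim S = 2)
    [IsProper (S ↘ Spec (CommRingCat.of k))]
    (hproj : ∃ (n : ℕ) (ι : S ⟶ CohB1.ProjSpace n k), IsClosedImmersion ι ∧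
      ι ≫ CohB1.ProjSpace.toSpec n k = (S ↘ Spec (CommRingCat.of k)))
    (P : Scheme.{u}) (pP : P ⟶ Spec (CommRingCat.of k)) [IsIntegral P] [LocallyOfFiniteType pP]
    (hP : topologicalKrullDim P = 1)
    (𝒜 𝒜' 𝒜'' : (pullback (S ↘ Spec (CommRingCat.of k)) pP).Modules) (h𝒜 : Coh.IsCoh 𝒜) (h𝒜' : Coh.IsCoh 𝒜') (h𝒜'' : Coh.IsCoh 𝒜'')
    (hfl : FlatMod.IsFlatOver (pullback.snd (S ↘ Spec (CommRingCat.of k)) pP) 𝒜)
    (hfl' : FlatMod.IsFlatOver (pullback.snd (S ↘ Spec (CommRingCat.of k)) pP) 𝒜')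
    (hfl'' : FlatMod.IsFlatOver (pullback.snd (S ↘ Spec (CommRingCat.of k)) pP) 𝒜'')
    (α : 𝒜' ⟶ 𝒜) (β : 𝒜' ⟶ 𝒜'') [Mono α] [Mono β]
    (hQ : FlatMod.IsFlatOver (pullback.snd (S ↘ Spec (CommRingCat.of k)) pP) (cokernel α))
    (hQ' : FlatMod.IsFlatOver (pullback.snd (S ↘ Spec (CommRingCat.of k)) pP) (cokernel β))
    (hQ'0 : ∀ (t : Spec (CommRingCat.of k) ⟶ P) (_ : t ≫ pP = 𝟙 _)
      (s : S ⟶ pullback (S ↘ Spec (CommRingCat.of k)) pP) (_ : s ≫ pullback.fst (S ↘ Spec (CommRingCat.of k)) pP = 𝟙 S)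
      (_ : s ≫ pullback.snd (S ↘ Spec (CommRingCat.of k)) pP = (S ↘ Spec (CommRingCat.of k)) ≫ t),
      topologicalKrullDim (CohB1.support ((Scheme.Modules.pullback s).obj (cokernel β))) ≤ 0)
    (t₀ : Spec (CommRingCat.of k) ⟶ P) (ht₀ : t₀ ≫ pP = 𝟙 _)
    (s₀ : S ⟶ pullback (S ↘ Spec (CommRingCat.of k)) pP) (hs₀ : s₀ ≫ pullback.fst (S ↘ Spec (CommRingCat.of k)) pP = 𝟙 S)
    (hs₀' : s₀ ≫ pullback.snd (S ↘ Spec (CommRingCat.of k)) pP = (S ↘ Spec (CommRingCat.of k)) ≫ t₀)
    (h0 : Module.finrank k (Coh.HH S ((Scheme.Modules.pullback s₀).obj 𝒜') 0) =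
      Module.finrank k (Coh.HH S ((Scheme.Modules.pullback s₀).obj 𝒜) 0))
    (h1 : Module.finrank k (Coh.HH S ((Scheme.Modules.pullback s₀).obj 𝒜') 1) =
      Module.finrank k (Coh.HH S ((Scheme.Modules.pullback s₀).obj 𝒜'') 1))
    (hup : ∀ (t : Spec (CommRingCat.of k) ⟶ P) (_ : t ≫ pP = 𝟙 _)
      (s : S ⟶ pullback (S ↘ Spec (CommRingCat.of k)) pP) (_ : s ≫ pullback.fst (S ↘ Spec (CommRingCat.of k)) pP = 𝟙 S)
      (_ : s ≫ pullback.snd (S ↘ Spec (CommRingCat.of k)) pP = (S ↘ Spec (CommRingCat.of k)) ≫ t),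
      Module.finrank k (Coh.HH S ((Scheme.Modules.pullback s₀).obj 𝒜'') 0) ≤
        Module.finrank k (Coh.HH S ((Scheme.Modules.pullback s).obj 𝒜'') 0))
    (t : Spec (CommRingCat.of k) ⟶ P) (ht : t ≫ pP = 𝟙 _)
    (s : S ⟶ pullback (S ↘ Spec (CommRingCat.of k)) pP) (hs : s ≫ pullback.fst (S ↘ Spec (CommRingCat.of k)) pP = 𝟙 S)
    (hs' : s ≫ pullback.snd (S ↘ Spec (CommRingCat.of k)) pP = (S ↘ Spec (CommRingCat.of k)) ≫ t) :
    Module.finrank k (Coh.HH S ((Scheme.Modules.pullback s₀).obj 𝒜) 0) ≤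
      Module.finrank k (Coh.HH S ((Scheme.Modules.pullback s).obj 𝒜) 0) := by
  have hPn : IsLocallyNoetherian P := LocallyOfFiniteType.isLocallyNoetherian pP
  let p := S ↘ Spec (CommRingCat.of k)
  let π := pullback.snd p pP
  haveI : IsProper π := MorphismProperty.pullback_snd (P := @IsProper) p pP inferInstance
  haveI : LocallyOfFiniteType (π ≫ pP) := inferInstance
  haveI : IsLocallyNoetherian (pullback p pP) := LocallyOfFiniteType.isLocallyNoetherian (π ≫ pP)
  haveI : LocallyOfFinitePresentation π := inferInstance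
  haveI : IsNoetherian S := GrothLib.Euler.isNoetherian_of_proper (X := S) k
  have mkH : ∀ (t : Spec (CommRingCat.of k) ⟶ P) (_ : t ≫ pP = 𝟙 _) (s : S ⟶ pullback p pP)
      (_ : s ≫ pullback.fst p pP = 𝟙 S) (_ : s ≫ π = p ≫ t), IsPullback s p π t := by
    intro t ht s hs hs'
    refine IsPullback.of_right ?_ hs' (IsPullback.of_hasPullback p pP)
    rw [ht, hs]
    exact IsPullback.of_horiz_isIso ⟨by simp⟩
  have cohP : ∀ (s : S ⟶ pullback p pP) (F : (pullback p pP).Modules), Coh.IsCoh F →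
      Coh.IsCoh ((Scheme.Modules.pullback s).obj F) := fun s F hF => GrothLib.ModDesc.isCoh_pullback s F hF
  have fd : ∀ (s : S ⟶ pullback p pP) (F : (pullback p pP).Modules), Coh.IsCoh F → ∀ n,
      FiniteDimensional k (Coh.HH S ((Scheme.Modules.pullback s).obj F) n) := fun s F hF n =>
    GrothLib.Euler.finiteDimensional_HH k (cohP s F hF) n
  have hQc : Coh.IsCoh (cokernel β) := GrothLib.QCoh.isCoh_cokernel β h𝒜' h𝒜''
  have hQac : Coh.IsCoh (cokernel α) := GrothLib.QCoh.isCoh_cokernel α h𝒜' h𝒜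
  let Ta := ShortComplex.mk α (cokernel.π α) (cokernel.condition α)
  let Tb := ShortComplex.mk β (cokernel.π β) (cokernel.condition β)
  have hTa : Ta.ShortExact := ShortComplex.ShortExact.mk' (ShortComplex.exact_cokernel α) ‹Mono α› inferInstance
  have hTb : Tb.ShortExact := ShortComplex.ShortExact.mk' (ShortComplex.exact_cokernel β) ‹Mono β› inferInstance
  have H₀ := mkH t₀ ht₀ s₀ hs₀ hs₀'
  have H := mkH t ht s hs hs'
  haveI : (Scheme.Modules.pullback s₀).IsLeftAdjoint :=
    (Scheme.Modules.pullbackPushforwardAdjunction s₀).isLeftAdjoint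
  haveI : (Scheme.Modules.pullback s).IsLeftAdjoint :=
    (Scheme.Modules.pullbackPushforwardAdjunction s).isLeftAdjoint
  have ha := GrothLib.SliceFib28.shortExact_slice H ht hTa hQ
  have hb := GrothLib.SliceFib28.shortExact_slice H ht hTb hQ'
  have hb₀ := GrothLib.SliceFib28.shortExact_slice H₀ ht₀ hTb hQ'
  have hd := hQ'0 t ht s hs hs'
  have hd₀ := hQ'0 t₀ ht₀ s₀ hs₀ hs₀'
  have acyc : ∀ (s : S ⟶ pullback p pP),
      topologicalKrullDim (CohB1.support ((Scheme.Modules.pullback s).obj (cokernel β))) ≤ 0 →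
      ∀ i, 1 ≤ i → Subsingleton (Coh.HH S ((Scheme.Modules.pullback s).obj (cokernel β)) i) := fun s hd i hi =>
    GrothLib.Euler.subsingleton_HH_of_support_dim_le_zero k (cohP s _ hQc) hd i hi
  have eu : ∀ (s : S ⟶ pullback p pP),
      topologicalKrullDim (CohB1.support ((Scheme.Modules.pullback s).obj (cokernel β))) ≤ 0 →
      Curv2.euler k S ((Scheme.Modules.pullback s).obj (cokernel β)) =
        (Module.finrank k (Coh.HH S ((Scheme.Modules.pullback s).obj (cokernel β)) 0) : ℤ) := fun s hd => by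
    rw [GrothLib.Euler.euler_eq_sum k _ (N := 1) (acyc s hd)]
    simp
  have hlen : Module.finrank k (Coh.HH S ((Scheme.Modules.pullback s).obj (cokernel β)) 0) =
      Module.finrank k (Coh.HH S ((Scheme.Modules.pullback s₀).obj (cokernel β)) 0) := by
    have e := GrothLib.SliceFib28.euler_slice_eq H H₀ (GrothLib.FibReg5.isFP_of_isCoh hQc) hQ'
    exact_mod_cast (eu s hd).symm.trans (e.trans (eu s₀ hd₀))
  haveI := fd s₀ 𝒜' h𝒜'
  haveI := fd s₀ 𝒜'' h𝒜''
  haveI := fd s₀ (cokernel β) hQc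
  haveI := fd s 𝒜' h𝒜'
  haveI := fd s 𝒜'' h𝒜''
  haveI := fd s 𝒜 h𝒜
  haveI := fd s (cokernel β) hQc
  have hup' := hup t ht s hs hs'
  have hw : ∀ (s : S ⟶ pullback p pP) [(Scheme.Modules.pullback s).IsLeftAdjoint] {A B : (pullback p pP).Modules}
      (f : A ⟶ B), (Scheme.Modules.pullback s).map f ≫ (Scheme.Modules.pullback s).map (cokernel.π f) = 0 :=
    fun s _ A B f => by rw [← Functor.map_comp, cokernel.condition, Functor.map_zero]
  have ha' : (ShortComplex.mk _ _ (hw s α)).ShortExact := ha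
  have hb' : (ShortComplex.mk _ _ (hw s β)).ShortExact := hb
  have hb₀' : (ShortComplex.mk _ _ (hw s₀ β)).ShortExact := hb₀
  have e0 : Module.finrank k (Coh.HH S ((Scheme.Modules.pullback s₀).obj 𝒜'') 0) =
      Module.finrank k (Coh.HH S ((Scheme.Modules.pullback s₀).obj 𝒜') 0) +
        Module.finrank k (Coh.HH S ((Scheme.Modules.pullback s₀).obj (cokernel β)) 0) :=
    @finrank_middle_eq k _ S _ _ _ _ _ _ _ hb₀' (fd s₀ _ h𝒜' 0) (fd s₀ _ h𝒜'' 0) (fd s₀ _ hQc 0) (fd s₀ _ h𝒜' 1)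
      (fd s₀ _ h𝒜'' 1) (acyc s₀ hd₀ 1 le_rfl) h1
  have e1 : Module.finrank k (Coh.HH S ((Scheme.Modules.pullback s).obj 𝒜'') 0) ≤
      Module.finrank k (Coh.HH S ((Scheme.Modules.pullback s).obj 𝒜') 0) +
        Module.finrank k (Coh.HH S ((Scheme.Modules.pullback s).obj (cokernel β)) 0) :=
    @finrank_middle_le k _ S _ _ _ _ _ _ _ hb' (fd s _ h𝒜' 0) (fd s _ h𝒜'' 0) (fd s _ hQc 0)
  have e2 : Module.finrank k (Coh.HH S ((Scheme.Modules.pullback s).obj 𝒜') 0) ≤
      Module.finrank k (Coh.HH S ((Scheme.Modules.pullback s).obj 𝒜) 0) :=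
    @finrank_le_zero_degree k _ S _ _ _ _ _ _ _ ha' (fd s _ h𝒜 0)
  omega

end Groth.Agent.S15859
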