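import Groth.Statements.S15860
import Groth.Agent.Lib.BlowPt28.Plane

set_option autoImplicit false
open CategoryTheory CategoryTheory.Limits AlgebraicGeometry
open BlowUp

namespace Groth.Agent.S15860

/-- Case of a non-positive coefficient of the exceptional divisor. Let σ : X ⟶ P² be the blow-up of the
complex projective plane at a closed point (universal property), I_E the ideal of the exceptional
curve and H = σ^*O(1). For an integer p and a natural number b write M = σ^*O(p) ⊗ I_E ^ b (the line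
bundle pH − bE) and C(n,2) for the binomial coefficient, taken to be 0 when n < 2. Then the
dimensions h^i = dim H^i(X, M) are: if b ≤ p, h^0 = C(p+2,2) − C(b+1,2) and h^1 = h^2 = 0; if p = b
− 1, h^0 = h^1 = h^2 = 0; if p ≤ b − 2, h^0 = 0, h^1 = C(b+1,2) − C(p+2,2) and h^2 = C(−p−1,2). (The
structure of scheme over C on X is the composite through σ.) -/
theorem result
    (x : ↥(CohB1.ProjSpace 2 ℂ)) (hx : IsClosed ({x} : Set ↥(CohB1.ProjSpace 2 ℂ)))
    {X : Scheme.{0}} [X.Over (Spec (CommRingCat.of ℂ))] (σ : X ⟶ CohB1.ProjSpace 2 ℂ)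
    (hσk : σ ≫ CohB1.ProjSpace.toSpec 2 ℂ = X ↘ Spec (CommRingCat.of ℂ))
    (hσ : BlowUp.IsBlowUp σ (Scheme.IdealSheafData.vanishingIdeal ⟨{x}, hx⟩)) (p : ℤ) (b : ℕ) :
    ((b : ℤ) ≤ p →
      (Module.finrank ℂ (Coh.HH X (CohB1.tensorMod ((Scheme.Modules.pullback σ).obj (Twist.twistProjSpace 2 ℂ p))
        (ClSub.idealMod ((BlowUp.exceptional σ (Scheme.IdealSheafData.vanishingIdeal ⟨{x}, hx⟩)) ^ b))) 0) : ℤ) = ((p + 2).toNat.choose 2 : ℤ) - ((b + 1).choose 2 : ℤ) ∧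
      Module.finrank ℂ (Coh.HH X (CohB1.tensorMod ((Scheme.Modules.pullback σ).obj (Twist.twistProjSpace 2 ℂ p))
        (ClSub.idealMod ((BlowUp.exceptional σ (Scheme.IdealSheafData.vanishingIdeal ⟨{x}, hx⟩)) ^ b))) 1) = 0 ∧
      Module.finrank ℂ (Coh.HH X (CohB1.tensorMod ((Scheme.Modules.pullback σ).obj (Twist.twistProjSpace 2 ℂ p))
        (ClSub.idealMod ((BlowUp.exceptional σ (Scheme.IdealSheafData.vanishingIdeal ⟨{x}, hx⟩)) ^ b))) 2) = 0) ∧
    (p = (b : ℤ) - 1 →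
      Module.finrank ℂ (Coh.HH X (CohB1.tensorMod ((Scheme.Modules.pullback σ).obj (Twist.twistProjSpace 2 ℂ p))
        (ClSub.idealMod ((BlowUp.exceptional σ (Scheme.IdealSheafData.vanishingIdeal ⟨{x}, hx⟩)) ^ b))) 0) = 0 ∧
      Module.finrank ℂ (Coh.HH X (CohB1.tensorMod ((Scheme.Modules.pullback σ).obj (Twist.twistProjSpace 2 ℂ p))
        (ClSub.idealMod ((BlowUp.exceptional σ (Scheme.IdealSheafData.vanishingIdeal ⟨{x}, hx⟩)) ^ b))) 1) = 0 ∧
      Module.finrank ℂ (Coh.HH X (CohB1.tensorMod ((Scheme.Modules.pullback σ).obj (Twist.twistProjSpace 2 ℂ p))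
        (ClSub.idealMod ((BlowUp.exceptional σ (Scheme.IdealSheafData.vanishingIdeal ⟨{x}, hx⟩)) ^ b))) 2) = 0) ∧
    (p ≤ (b : ℤ) - 2 →
      Module.finrank ℂ (Coh.HH X (CohB1.tensorMod ((Scheme.Modules.pullback σ).obj (Twist.twistProjSpace 2 ℂ p))
        (ClSub.idealMod ((BlowUp.exceptional σ (Scheme.IdealSheafData.vanishingIdeal ⟨{x}, hx⟩)) ^ b))) 0) = 0 ∧
      (Module.finrank ℂ (Coh.HH X (CohB1.tensorMod ((Scheme.Modules.pullback σ).obj (Twist.twistProjSpace 2 ℂ p))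
        (ClSub.idealMod ((BlowUp.exceptional σ (Scheme.IdealSheafData.vanishingIdeal ⟨{x}, hx⟩)) ^ b))) 1) : ℤ) = ((b + 1).choose 2 : ℤ) - ((p + 2).toNat.choose 2 : ℤ) ∧
      Module.finrank ℂ (Coh.HH X (CohB1.tensorMod ((Scheme.Modules.pullback σ).obj (Twist.twistProjSpace 2 ℂ p))
        (ClSub.idealMod ((BlowUp.exceptional σ (Scheme.IdealSheafData.vanishingIdeal ⟨{x}, hx⟩)) ^ b))) 2) = (-p - 1).toNat.choose 2) := by
  obtain ⟨hIb, hb'⟩ := GrothLib.ArSurf29.cls_idealMod_pow hσ.1 b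
  have hT := GrothLib.CMReg.isInvertible_twist (n := 2) (k := ℂ) p
  have hE := GrothLib.Ample.isInvertible_tensorMod (GrothLib.Ample.isInvertible_pullback σ hT) hIb
  have hcls : GrothLib.Cube.clsMod hE = GrothLib.BlowPt28.M ℂ hx hσ p (b : ℤ) := by
    rw [GrothLib.Cube.clsMod_tensorMod (GrothLib.Ample.isInvertible_pullback σ hT) hIb,
      GrothLib.Cube.clsMod_pullback σ hT, hb']
    show _ = _ * GrothLib.BlowPt28.ecls ℂ hx hσ ^ (b : ℤ)
    rw [zpow_natCast]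
    rfl
  rw [GrothLib.BlowPt28.finrank_eq_H ℂ hx hσ hσk hE hcls 0, GrothLib.BlowPt28.finrank_eq_H ℂ hx hσ hσk hE hcls 1,
    GrothLib.BlowPt28.finrank_eq_H ℂ hx hσ hσk hE hcls 2]
  have hχ := GrothLib.BlowPt28.chi_M ℂ hx hσ hσk p b
  rw [GrothLib.BlowPt28.chi_sum ℂ hx hσ hσk p b] at hχ
  have h2 := GrothLib.BlowPt28.H2_of_nonneg ℂ hx hσ hσk p b (Int.natCast_nonneg b)
  have cb := GrothLib.BlowPt28.two_mul_choose_two (b + 1)
  push_cast at cb
  have cp := GrothLib.BlowPt28.two_mul_choose_two (p + 2).toNat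
  have cm := GrothLib.BlowPt28.two_mul_choose_two (-p - 1).toNat
  have csum : 2 * (((p + 2).toNat.choose 2 : ℤ) + ((-p - 1).toNat.choose 2 : ℤ)) = (p + 1) * (p + 2) := by
    rcases le_or_gt 0 (p + 1) with hp | hp
    · rw [Int.toNat_of_nonneg (show (0 : ℤ) ≤ p + 2 by omega)] at cp
      rw [Int.toNat_eq_zero.2 (show -p - 1 ≤ 0 by omega)] at cm ⊢
      push_cast at cm ⊢
      linarith
    · rw [Int.toNat_of_nonneg (show (0 : ℤ) ≤ -p - 1 by omega)] at cm
      rw [Int.toNat_eq_zero.2 (show p + 2 ≤ 0 by omega)] at cp ⊢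
      push_cast at cp ⊢
      linarith
  refine ⟨fun h => ?_, fun h => ?_, fun h => ?_⟩
  · have h1 := GrothLib.BlowPt28.H1_eq_zero_of_le ℂ hx hσ hσk p b (by omega) (by omega)
    have h2' : (-p - 1).toNat.choose 2 = 0 := Nat.choose_eq_zero_of_lt (by omega)
    rw [h2'] at h2
    rw [Int.toNat_of_nonneg (show (0 : ℤ) ≤ p + 2 by omega)] at cp
    refine ⟨?_, h1, h2⟩
    rw [h1, h2] at hχ
    push_cast at hχ
    linarith
  · have hk := fun i hi => GrothLib.BlowPt28.H_key ℂ hx hσ hσk p i hi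
    have hb1 : (b : ℤ) = p + 1 := by omega
    rw [hb1]
    exact ⟨hk 0 (by omega), hk 1 (by omega), hk 2 le_rfl⟩
  · have h0 := GrothLib.BlowPt28.H0_eq_zero ℂ hx hσ hσk p b (by omega)
    refine ⟨h0, ?_, h2⟩
    rw [h0, h2] at hχ
    push_cast at hχ
    linarith

end Groth.Agent.S15860
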