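import Groth.Statements.S15861
import Groth.Agent.Lib.BlowPt28.Plane

set_option autoImplicit false
open CategoryTheory CategoryTheory.Limits AlgebraicGeometry
open BlowUp

namespace Groth.Agent.S15861

/-- Case of a non-negative coefficient of the exceptional divisor. Let σ : X ⟶ P² be the blow-up of the
complex projective plane at a closed point (universal property), I_E the ideal of the exceptional
curve, H = σ^*O(1), and L an O_X-module with L ⊗ I_E ≅ O_X (L is O_X(E)). For an integer p and a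
natural number b write M = σ^*O(p) ⊗ L^{⊗b} (the line bundle pH + bE) and C(n,2) for the binomial
coefficient, taken to be 0 when n < 2. Then the dimensions h^i = dim H^i(X, M) are: if p + b ≥ 0,
h^0 = C(p+2,2), h^1 = C(b,2) − C(−p−1,2) and h^2 = 0; if p + b = −1, h^0 = h^1 = h^2 = 0; if p + b ≤
−2, h^0 = h^1 = 0 and h^2 = C(−p−1,2) − C(b,2). (The structure of scheme over C on X is the
composite through σ.) -/
theorem result
    (x : ↥(CohB1.ProjSpace 2 ℂ)) (hx : IsClosed ({x} : Set ↥(CohB1.ProjSpace 2 ℂ)))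
    {X : Scheme.{0}} [X.Over (Spec (CommRingCat.of ℂ))] (σ : X ⟶ CohB1.ProjSpace 2 ℂ)
    (hσk : σ ≫ CohB1.ProjSpace.toSpec 2 ℂ = X ↘ Spec (CommRingCat.of ℂ))
    (hσ : BlowUp.IsBlowUp σ (Scheme.IdealSheafData.vanishingIdeal ⟨{x}, hx⟩))
    (L : X.Modules) (hL : ClSub.IsInverseOf L (ClSub.idealMod (BlowUp.exceptional σ (Scheme.IdealSheafData.vanishingIdeal ⟨{x}, hx⟩))))
    (p : ℤ) (b : ℕ) :
    (0 ≤ p + b →
      Module.finrank ℂ (Coh.HH X (CohB1.tensorMod ((Scheme.Modules.pullback σ).obj (Twist.twistProjSpace 2 ℂ p)) (CohB1.tensorPow L b)) 0) = (p + 2).toNat.choose 2 ∧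
      (Module.finrank ℂ (Coh.HH X (CohB1.tensorMod ((Scheme.Modules.pullback σ).obj (Twist.twistProjSpace 2 ℂ p)) (CohB1.tensorPow L b)) 1) : ℤ) = (b.choose 2 : ℤ) - ((-p - 1).toNat.choose 2 : ℤ) ∧
      Module.finrank ℂ (Coh.HH X (CohB1.tensorMod ((Scheme.Modules.pullback σ).obj (Twist.twistProjSpace 2 ℂ p)) (CohB1.tensorPow L b)) 2) = 0) ∧
    (p + b = -1 →
      Module.finrank ℂ (Coh.HH X (CohB1.tensorMod ((Scheme.Modules.pullback σ).obj (Twist.twistProjSpace 2 ℂ p)) (CohB1.tensorPow L b)) 0) = 0 ∧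
      Module.finrank ℂ (Coh.HH X (CohB1.tensorMod ((Scheme.Modules.pullback σ).obj (Twist.twistProjSpace 2 ℂ p)) (CohB1.tensorPow L b)) 1) = 0 ∧
      Module.finrank ℂ (Coh.HH X (CohB1.tensorMod ((Scheme.Modules.pullback σ).obj (Twist.twistProjSpace 2 ℂ p)) (CohB1.tensorPow L b)) 2) = 0) ∧
    (p + b ≤ -2 →
      Module.finrank ℂ (Coh.HH X (CohB1.tensorMod ((Scheme.Modules.pullback σ).obj (Twist.twistProjSpace 2 ℂ p)) (CohB1.tensorPow L b)) 0) = 0 ∧
      Module.finrank ℂ (Coh.HH X (CohB1.tensorMod ((Scheme.Modules.pullback σ).obj (Twist.twistProjSpace 2 ℂ p)) (CohB1.tensorPow L b)) 1) = 0 ∧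
      (Module.finrank ℂ (Coh.HH X (CohB1.tensorMod ((Scheme.Modules.pullback σ).obj (Twist.twistProjSpace 2 ℂ p)) (CohB1.tensorPow L b)) 2) : ℤ) = ((-p - 1).toNat.choose 2 : ℤ) - (b.choose 2 : ℤ)) := by
  haveI := GrothLib.BlowPt28.isProper_over ℂ hx hσ hσk
  haveI := GrothLib.Euler.isNoetherian_of_proper (X := X) ℂ
  have hLi := GrothLib.ArSurf29.isInvertible_of_isInverseOf hσ.1 hL
  have hT := GrothLib.CMReg.isInvertible_twist (n := 2) (k := ℂ) p
  have hP := GrothLib.Ample.isInvertible_tensorPow hLi b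
  have hE := GrothLib.Ample.isInvertible_tensorMod (GrothLib.Ample.isInvertible_pullback σ hT) hP
  have hcls : GrothLib.Cube.clsMod hE = GrothLib.BlowPt28.M ℂ hx hσ p (-(b : ℤ)) := by
    rw [GrothLib.Cube.clsMod_tensorMod (GrothLib.Ample.isInvertible_pullback σ hT) hP,
      GrothLib.Cube.clsMod_pullback σ hT, GrothLib.Cube.clsMod_tensorPow hLi b,
      GrothLib.ArSurf29.cls_of_isInverseOf hLi (GrothLib.IdealModSec.isInvertible_of_isEffCartier hσ.1) hL]
    show _ = _ * GrothLib.BlowPt28.ecls ℂ hx hσ ^ (-(b : ℤ))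
    rw [zpow_neg, zpow_natCast, inv_pow]
    rfl
  rw [GrothLib.BlowPt28.finrank_eq_H ℂ hx hσ hσk hE hcls 0, GrothLib.BlowPt28.finrank_eq_H ℂ hx hσ hσk hE hcls 1,
    GrothLib.BlowPt28.finrank_eq_H ℂ hx hσ hσk hE hcls 2]
  have hχ := GrothLib.BlowPt28.chi_M ℂ hx hσ hσk p (-(b : ℤ))
  rw [GrothLib.BlowPt28.chi_sum ℂ hx hσ hσk p (-(b : ℤ))] at hχ
  have h0 := GrothLib.BlowPt28.H0_of_nonpos ℂ hx hσ hσk p (-(b : ℤ)) (by omega)
  have cb := GrothLib.BlowPt28.two_mul_choose_two b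
  have cp := GrothLib.BlowPt28.two_mul_choose_two (p + 2).toNat
  have cm := GrothLib.BlowPt28.two_mul_choose_two (-p - 1).toNat
  have csum : 2 * (((p + 2).toNat.choose 2 : ℤ) + ((-p - 1).toNat.choose 2 : ℤ)) = (p + 1) * (p + 2) := by
    rcases le_or_gt 0 (p + 1) with hp | hp
    · rw [Int.toNat_of_nonneg (show (0 : ℤ) ≤ p + 2 by omega)] at cp
      rw [Int.toNat_eq_zero.2 (show -p - 1 ≤ 0 by omega)] at cm ⊢
      push_cast at cm ⊢
      linarith
    · rw [Int.toNat_of_nonneg (show (0 : ℤ) ≤ -p - 1 by omega)] at cm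
      rw [Int.toNat_eq_zero.2 (show p + 2 ≤ 0 by omega)] at cp ⊢
      push_cast at cp ⊢
      linarith
  refine ⟨fun h => ?_, fun h => ?_, fun h => ?_⟩
  · have h2 := GrothLib.BlowPt28.H2_eq_zero ℂ hx hσ hσk p (-(b : ℤ)) (by omega)
    refine ⟨h0, ?_, h2⟩
    rw [h0, h2] at hχ
    push_cast at hχ
    linarith
  · have hk := fun i hi => GrothLib.BlowPt28.H_key ℂ hx hσ hσk p i hi
    rw [show (-(b : ℤ)) = p + 1 by omega]
    exact ⟨hk 0 (by omega), hk 1 (by omega), hk 2 le_rfl⟩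
  · have h00 := GrothLib.BlowPt28.H0_eq_zero ℂ hx hσ hσk p (-(b : ℤ)) (by omega)
    have h1 := GrothLib.BlowPt28.H1_eq_zero_of_ge ℂ hx hσ hσk p (-(b : ℤ)) (by omega) (by omega)
    refine ⟨h00, h1, ?_⟩
    rw [h00] at h0
    rw [h00, h1] at hχ
    rw [← h0] at csum
    push_cast at hχ csum
    linarith

end Groth.Agent.S15861
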