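import Groth.Statements.S1587
import Groth.Agent.Lib.NodeEt.Quad

set_option autoImplicit false
universe u
open CategoryTheory CategoryTheory.Limits AlgebraicGeometry
attribute [local instance] Curv2.resAlgebra Curv2.stalkAlgebra
open Curves

namespace Groth.Agent.S1587

/-- Let X be a scheme of finite type over a field k of dimension one and x a closed point of X with
residue field κ. Then x is a node if and only if κ is separable over k and the completion of the
local ring O_{X,x} is isomorphic, compatibly with the maps from k, to κ[[u, v]]/(a u² + b uv + c v²)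
for some a, b, c ∈ κ with 4ac − b² ≠ 0 (a nondegenerate quadratic form). -/
theorem result (k : Type u) [Field k] (X : Scheme.{u}) [X.Over (Spec (CommRingCat.of k))]
    [LocallyOfFiniteType (X ↘ (Spec (CommRingCat.of k)))] [QuasiCompact (X ↘ (Spec (CommRingCat.of k)))] (hdim : topologicalKrullDim X = 1)
    (x : X) (hx : IsClosed ({x} : Set X)) :
    Curv2.IsNode k X x ↔
      (Algebra.IsSeparable k (X.residueField x) ∧
        ∃ a b c : X.residueField x, 4 * a * c - b ^ 2 ≠ 0 ∧
          ∃ e : AdicCompletion (IsLocalRing.maximalIdeal (X.presheaf.stalk x)) (X.presheaf.stalk x) ≃+*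
              (MvPowerSeries (Fin 2) (X.residueField x) ⧸ Ideal.span
                {(MvPowerSeries.C a * MvPowerSeries.X 0 ^ 2 + MvPowerSeries.C b * MvPowerSeries.X 0 * MvPowerSeries.X 1 +
                  MvPowerSeries.C c * MvPowerSeries.X 1 ^ 2 : MvPowerSeries (Fin 2) (X.residueField x))}),
            ∀ t : k, e (algebraMap (X.presheaf.stalk x) _ (algebraMap k (X.presheaf.stalk x) t)) =
              Ideal.Quotient.mk _ (MvPowerSeries.C (algebraMap k (X.residueField x) t))) := by
  haveI : IsLocallyNoetherian X := LocallyOfFiniteType.isLocallyNoetherian (X ↘ (Spec (CommRingCat.of k)))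
  refine (GrothLib.NodeEt.isNode_iff_nodeForm (X ↘ (Spec (CommRingCat.of k))) x).trans ?_
  constructor
  · rintro ⟨-, hsep, hnf⟩
    haveI hfin : Module.Finite k (X.residueField x) := by
      obtain ⟨C⟩ := GrothLib.NodeEt.exists_chart (X ↘ (Spec (CommRingCat.of k))) x
      haveI := C.isMaximal hx
      exact GrothLib.NodeEt.finite_residueField (X ↘ (Spec (CommRingCat.of k))) C
    haveI : Algebra.IsSeparable k (X.residueField x) := hsep
    haveI : IsScalarTower k (X.presheaf.stalk x) (IsLocalRing.ResidueField (X.presheaf.stalk x)) := inferInstance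
    obtain ⟨a, b, c, hd, e, he⟩ := @GrothLib.NodeEt.exists_completion_equiv k _ (X.presheaf.stalk x) _ _ _ _
      (show Module.Finite k (IsLocalRing.ResidueField (X.presheaf.stalk x)) from hfin)
      (show Algebra.IsSeparable k (IsLocalRing.ResidueField (X.presheaf.stalk x)) from hsep) hnf
    refine ⟨hsep, a, b, c, fun h0 => hd (neg_eq_zero.1 ((by ring : -(b ^ 2 - 4 * a * c) = 4 * a * c - b ^ 2).trans h0)), e.trans (Ideal.quotEquivOfEq ?_), fun t => ?_⟩
    · congr 2; simp [GrothLib.NodeEt.quadSeries, mul_assoc]; rfl
    · rw [RingEquiv.trans_apply, he]; rfl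
  · rintro ⟨hsep, a, b, c, hd, e, -⟩
    refine ⟨hx, hsep, (GrothLib.NodeEt.nodeForm_completion_iff _).1 ?_⟩
    have hd' : b ^ 2 - 4 * a * c ≠ 0 := fun h0 => hd (by linear_combination -h0)
    exact (GrothLib.NodeEt.nodeForm_standard a b c hd').of_ringEquiv
      ((Ideal.quotEquivOfEq (by congr 2; simp [GrothLib.NodeEt.quadSeries, mul_assoc])).trans e.symm)

end Groth.Agent.S1587
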