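import Groth.Statements.S15870
import Groth.Agent.Lib.Torsor21.SmoothSection
import Groth.Agent.Lib.Torsor21.Local
import Groth.Agent.Lib.EtSite.IntegralPush
import Mathlib.AlgebraicGeometry.Morphisms.LocalFlatDescent
import Mathlib.AlgebraicGeometry.Sites.Fpqc

set_option backward.isDefEq.respectTransparency false
set_option backward.isDefEq.respectTransparency.types false

set_option autoImplicit false
universe u
open CategoryTheory MonoidalCategory CartesianMonoidalCategory MonObj GrpObj AlgebraicGeometry
open NonAbH1

namespace Groth.Agent.S15870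

/-- Let π : S' → S be finite locally free (finite, flat, locally of finite presentation), G a smooth
S'-group scheme and E an fppf G-torsor over S'. Then E trivializes fppf locally on S: some fppf
covering family of S consists of morphisms U → S such that E has a section over U ×_S S' → S'. (The
published statement is for a variable S-scheme T, torsors over S' ×_S T and G a group algebraic
space; this row is the case T = S with G a scheme, to which the general case reduces by base change
of π.) -/
theorem result
    {S S' : Scheme.{u}} (π : S' ⟶ S) [IsFinite π] [Flat π] [LocallyOfFinitePresentation π]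
    (G : Over S') [GrpObj G] [Smooth G.hom]
    (E : NonAbH1.TorsorSch G Scheme.fppfPrecoverage) :
    ∃ R ∈ Scheme.fppfPrecoverage S, ∀ ⦃U : Scheme.{u}⦄ (g : U ⟶ S), R g →
      NonAbH1.HasSectionOver E.X (Limits.pullback.snd g π) := by
  classical
  have ha : NonAbH1.IsTorsorFor Scheme.fpqcPrecoverage E.act := by
    obtain ⟨hps, R, hR, hsec⟩ := E.isTorsor
    exact ⟨hps, R, Scheme.fppfPrecoverage_le_fpqcPrecoverage S' hR, hsec⟩
  haveI : Smooth E.X.hom := GrothLib.Torsor21.property @Smooth ha ‹_›
  haveI : Surjective E.X.hom := GrothLib.Torsor21.surjective_hom ha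
  obtain ⟨V, p, hV⟩ := GrothLib.Torsor21.exists_etale_sections E.X.hom
  rw [Scheme.etalePrecoverage, Scheme.ofArrows_mem_precoverage_iff] at hV
  haveI : ∀ s, Etale (p s ≫ E.X.hom) := hV.2
  let W : Scheme.{u} := ∐ V
  let g : W ⟶ S' := Limits.Sigma.desc fun s => p s ≫ E.X.hom
  haveI : Etale g := IsZariskiLocalAtSource.sigmaDesc fun s => hV.2 s
  have hsurj : ∀ x : S', x ∈ Set.range g.base := fun x => by
    obtain ⟨i, z, hz⟩ := hV.1 x
    refine ⟨(Limits.Sigma.ι V i).base z, ?_⟩
    rw [← hz, ← Scheme.Hom.comp_apply, Limits.Sigma.ι_desc]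
  have key : ∀ s : S, ∃ (U : Scheme.{u}) (h : U ⟶ S) (z : U), Etale h ∧ h z = s ∧
      NonAbH1.HasSectionOver E.X (Limits.pullback.snd h π) := fun s => by
    obtain ⟨U, t, ht, r, hr, -⟩ := GrothLib.EtSite.exists_nbhd_section π (GrothLib.EtSite.gpt s) g
      (fun x _ => hsurj x) (fun i : PEmpty.{1} => i.elim) (fun i => i.elim) (fun i => i.elim)
      (fun i => i.elim) (fun i => i.elim)
    refine ⟨U.left, U.hom, t.base default, U.prop, ?_, r ≫ Limits.Sigma.desc p, ?_⟩
    · rw [← Scheme.Hom.comp_apply]
      exact (congrArg (fun m => m.base default) ht).trans (GrothLib.EtSite.gpt_default s)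
    · have e : Limits.Sigma.desc p ≫ E.X.hom = g := Limits.Sigma.hom_ext _ _ fun s => by
        rw [Limits.Sigma.ι_desc_assoc, Limits.Sigma.ι_desc]
      rw [Category.assoc, e, hr]
  choose U h z het hz hsec using key
  refine ⟨Presieve.ofArrows U h, ?_, ?_⟩
  · rw [Scheme.fppfPrecoverage, Scheme.ofArrows_mem_precoverage_iff]
    exact ⟨fun s => ⟨s, z s, hz s⟩, fun s => ⟨haveI := het s; inferInstance, haveI := het s; inferInstance⟩⟩
  · rintro _ _ ⟨s⟩
    exact hsec s

end Groth.Agent.S15870
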