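import Groth.Statements.S15873
import Groth.Agent.Lib.Torsor21.EtaleGeneric

set_option autoImplicit false
universe u
open CategoryTheory MonoidalCategory CartesianMonoidalCategory MonObj GrpObj AlgebraicGeometry
open NonAbH1

namespace Groth.Agent.S15873

set_option backward.isDefEq.respectTransparency false
set_option backward.isDefEq.respectTransparency.types false

/-- Let G be an étale k-group scheme, S a normal integral k-scheme with generic point η and E an fppf
torsor over S under G. Then every point of E over S with values in Spec κ(η) extends to a unique
section of E over S: E(S) → E(κ(η)) is bijective. (The published statement takes S merely integral;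
for the nodal cubic over an algebraically closed field and the connected étale double cover, a
torsor under the constant group of order 2, the generic fibre has rational points while there is no
section, and the published proof extends generic points of finite étale schemes, which requires
normality, so S is taken normal here.) -/
theorem result (k : Type u) [Field k]
    (G : Over (Spec (CommRingCat.of k))) [GrpObj G] [Etale G.hom]
    (S : Scheme.{u}) [IsIntegral S] (hS : Pi1.IsNormalScheme S) (s : S ⟶ Spec (CommRingCat.of k))
    (E : NonAbH1.TorsorSch (Red.bc s G) Scheme.fppfPrecoverage) :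
    (∀ σ₁ σ₂ : S ⟶ E.X.left, σ₁ ≫ E.X.hom = 𝟙 S → σ₂ ≫ E.X.hom = 𝟙 S →
        S.fromSpecResidueField (genericPoint S) ≫ σ₁ = S.fromSpecResidueField (genericPoint S) ≫ σ₂ → σ₁ = σ₂) ∧
    (∀ x : Spec (S.residueField (genericPoint S)) ⟶ E.X.left,
        x ≫ E.X.hom = S.fromSpecResidueField (genericPoint S) →
        ∃ σ : S ⟶ E.X.left, σ ≫ E.X.hom = 𝟙 S ∧ S.fromSpecResidueField (genericPoint S) ≫ σ = x) := by
  refine ⟨fun σ₁ σ₂ h₁ h₂ h => ?_, fun x hx =>
    GrothLib.Torsor21.exists_section_of_generic hS s E.isTorsor x hx⟩
  have hE := GrothLib.Torsor21.isTorsorFor_fpqc E.isTorsor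
  haveI : IsSeparated G.hom := GrothLib.GrpSchField.isSeparated G
  haveI : Etale (Red.bc s G).hom := inferInstanceAs (Etale (Limits.pullback.snd G.hom s))
  haveI : IsSeparated (Red.bc s G).hom := inferInstanceAs (IsSeparated (Limits.pullback.snd G.hom s))
  haveI : Etale E.X.hom := GrothLib.Torsor21.property (P := @Etale.{u}) hE inferInstance
  haveI := GrothLib.EtSite.descendsAlong_isSeparated.{u}
  haveI : IsSeparated E.X.hom := GrothLib.Torsor21.property (P := @IsSeparated.{u}) hE inferInstance
  haveI : Nonempty (Spec (S.residueField (genericPoint S))) := ⟨IsLocalRing.closedPoint _⟩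
  exact GrothLib.Torsor21.hom_ext_etale E.X.hom (h₁.trans h₂.symm) (S.fromSpecResidueField (genericPoint S))
    (fun z => S.fromSpecResidueField_apply (genericPoint S) z) h

end Groth.Agent.S15873
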