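import Groth.Statements.S15874
import Groth.Agent.Lib.Torsor21.EtaleGeneric

set_option autoImplicit false
universe u
open CategoryTheory MonoidalCategory CartesianMonoidalCategory MonObj GrpObj AlgebraicGeometry
open NonAbH1

namespace Groth.Agent.S15874

set_option backward.isDefEq.respectTransparency false
set_option backward.isDefEq.respectTransparency.types false

open MonoidalCategory CartesianMonoidalCategory MonObj in
theorem hasSection_of_eq_one {S : Scheme.{u}} {G : Over S} [GrpObj G]
    (P : NonAbH1.TorsorSch G Scheme.fppfPrecoverage) (h : P.cl = 1) : NonAbH1.HasSectionOver P.X (𝟙 S) := by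
  have key : ∀ P Q : NonAbH1.TorsorSch G Scheme.fppfPrecoverage, Nonempty (NonAbH1.EquivIso P.act Q.act) →
      NonAbH1.HasSectionOver P.X (𝟙 S) = NonAbH1.HasSectionOver Q.X (𝟙 S) := fun P Q ⟨e⟩ => by
    refine propext ⟨fun ⟨t, ht⟩ => ⟨t ≫ e.iso.hom.left, ?_⟩, fun ⟨t, ht⟩ => ⟨t ≫ e.iso.inv.left, ?_⟩⟩ <;>
      rw [Category.assoc, Over.w, ht]
  have h2 := congrArg (Quot.lift (fun P : NonAbH1.TorsorSch G Scheme.fppfPrecoverage =>
    NonAbH1.HasSectionOver P.X (𝟙 S)) key) h
  exact (Eq.mpr h2 ⟨η[G].left, Over.w η[G]⟩ : _)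

open MonoidalCategory CartesianMonoidalCategory MonObj in
theorem eq_one_of_hasSection {S : Scheme.{u}} {G : Over S} [GrpObj G]
    (P : NonAbH1.TorsorSch G Scheme.fppfPrecoverage) (h : NonAbH1.HasSectionOver P.X (𝟙 S)) : P.cl = 1 := by
  obtain ⟨t, ht⟩ := h
  let p : G ⟶ P.X := Over.homMk (G.hom ≫ t) (by rw [Category.assoc, ht, Category.comp_id])
  let f : G ⟶ P.X := lift (𝟙 G) p ≫ P.act.act
  have hf : AlgGrp.Action.IsEquivariant (NonAbH1.trivialAction G) P.act f := by
    show μ[G] ≫ lift (𝟙 G) p ≫ P.act.act = (G ◁ (lift (𝟙 G) p ≫ P.act.act)) ≫ P.act.act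
    have hp : ∀ {T : Over S} (z : T ⟶ G) (w : T ⟶ G), z ≫ p = w ≫ p := fun z w => by
      ext1
      show z.left ≫ G.hom ≫ t = w.left ≫ G.hom ≫ t
      rw [← Category.assoc, ← Category.assoc, Over.w, Over.w]
    rw [comp_lift_assoc, Category.comp_id, MonoidalCategory.whiskerLeft_comp, Category.assoc]
    rw [show μ[G] ≫ p = snd G G ≫ p from hp _ _]
    have h1 : μ[G] = fst G G * snd G G := by rw [Hom.mul_def, lift_fst_snd, Category.id_comp]
    rw [h1, AlgGrp.Action.lift_mul_act]
    rw [← MonoidalCategory.whiskerLeft_comp_assoc, show G ◁ (lift (𝟙 G) p ≫ P.act.act) =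
      lift (fst G G) (snd G G ≫ lift (𝟙 G) p ≫ P.act.act) from by
        apply CartesianMonoidalCategory.hom_ext <;> simp, comp_lift_assoc, Category.comp_id]
  haveI : IsIso f := GrothLib.Torsor21.isIso_of_isEquivariant (NonAbH1.isPseudoTorsorSch_trivialAction G)
    (NonAbH1.isTorsorFor_trivialAction G _) P.isTorsor.1 f hf
  exact (Quot.sound ⟨⟨asIso f, hf⟩⟩).symm

/-- Let G be an étale k-group scheme and S a normal integral k-scheme with generic point η. Then an fppf
torsor over S under G whose base change to Spec κ(η) is trivial is itself trivial: the kernel of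
H¹(S, G) → H¹(κ(η), G) on classes of torsors that are schemes is the base point. (The published
statement takes S merely integral; the connected étale double cover of a nodal cubic over an
algebraically closed field is a non-trivial torsor under the constant group of order 2 that is
trivial at the generic point, so S is taken normal here, which is what the published proof uses.) -/
theorem result (k : Type u) [Field k]
    (G : Over (Spec (CommRingCat.of k))) [GrpObj G] [Etale G.hom]
    (S : Scheme.{u}) [IsIntegral S] (hS : Pi1.IsNormalScheme S) (s : S ⟶ Spec (CommRingCat.of k))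
    (c : NonAbH1.H1Sch (Red.bc s G) Scheme.fppfPrecoverage)
    (hc : NonAbH1.H1Sch.bcMap (S.fromSpecResidueField (genericPoint S)) (Red.bc s G) Scheme.fppfPrecoverage c = 1) :
    c = 1 := by
  obtain ⟨E, rfl⟩ := Quot.exists_rep c
  have h1 := hasSection_of_eq_one (E.bc (S.fromSpecResidueField (genericPoint S))) hc
  obtain ⟨t, ht⟩ := h1
  obtain ⟨σ, hσ, -⟩ := GrothLib.Torsor21.exists_section_of_generic hS s E.isTorsor
    (t ≫ Limits.pullback.fst E.X.hom (S.fromSpecResidueField (genericPoint S))) (by
      rw [Category.assoc, Limits.pullback.condition, ← Category.assoc]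
      erw [ht]
      rw [Category.id_comp])
  exact eq_one_of_hasSection E ⟨σ, hσ⟩

end Groth.Agent.S15874
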