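import Groth.Statements.S15884
import Groth.Agent.Lib.BMGysin.Vanish
-- import your own Groth.Agent.* helpers here

set_option autoImplicit false
universe u
open CategoryTheory AlgebraicGeometry Opposite
open BMCoh

namespace Groth.Agent.S15884

open GrothLib.BMGysin

/-- Let T be a twisted Borel–Moore cohomology theory with coefficients in A on a constructible class V
of Noetherian schemes, X an object of V, M a coefficient module, i and n integers and j a natural
number with i ≤ 2j (that is, j is at least the ceiling of i/2). Then the canonical map H^i(X, M(n))
→ H^i(F_jX, M(n)), to the colimit of H^i(U, M(n)) over the open subschemes U of X that contain every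
point of codimension at most j (codimension of a point = dim X minus the dimension of its closure),
is bijective. -/
theorem result (V : ObjectProperty Scheme.{u}) [BMCoh.IsConstructible V] (R : Type u) [CommRing R] (A : BMCoh.Coefs R) (T : BMCoh.TheoryOn V R A) (X : BMCoh.Obj V) (M : A.Cat) (j : ℕ) (i n : ℤ) (hj : i ≤ 2 * (j : ℤ)) : Function.Bijective ((T.toFj X j i n).app M).hom := by
  exact GrothLib.BMGysin.toFj_bijective_of_le_two_mul T M X j i n hj

end Groth.Agent.S15884
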