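import Groth.Statements.S15887
import Groth.Agent.Lib.BMGysin.Vanish
-- import your own Groth.Agent.* helpers here

set_option autoImplicit false
universe u
open CategoryTheory AlgebraicGeometry Opposite
open BMCoh

namespace Groth.Agent.S15887

open GrothLib.BMGysin

variable {V : ObjectProperty Scheme.{u}} [BMCoh.IsConstructible V] {X : BMCoh.Obj V} {j m : ℕ}

/-- a closed subset all whose points have codimension `> j`, with one of codimension `j + 1` -/
structure Cut (X : BMCoh.Obj V) (j : ℕ) where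
  C : TopologicalSpace.Closeds X.scheme
  lt : ∀ y ∈ C, j < WeilCoh.codim X.scheme y
  pt : ∃ y ∈ C, WeilCoh.codim X.scheme y = j + 1

lemma exists_cut {U : X.scheme.Opens} (hU : BMCoh.ContainsFj X j U) {x₀ : X.scheme}
    (hx₀ : WeilCoh.codim X.scheme x₀ = j + 1) : ∃ c : Cut X j, (U : Set X.scheme)ᶜ ⊆ c.C := by
  refine ⟨⟨⟨(U : Set X.scheme)ᶜ ∪ closure {x₀}, U.isOpen.isClosed_compl.union isClosed_closure⟩,
    ?_, ⟨x₀, Or.inr (subset_closure rfl), hx₀⟩⟩, Set.subset_union_left⟩
  rintro y (hy | hy)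
  · exact not_le.1 fun h => hy (hU y h)
  · have := codim_mono (finDim X) (specializes_iff_mem_closure.2 hy)
    omega

namespace Cut

variable (c : Cut X j)

/-- reduced structure -/
noncomputable abbrev Z : BMCoh.Obj V :=
  ⟨(Scheme.IdealSheafData.vanishingIdeal c.C).subscheme,
    BMCoh.IsConstructible.of_isClosedImmersion (Scheme.IdealSheafData.vanishingIdeal c.C).subschemeι
      (h := inferInstance) X.mem⟩

/-- its inclusion -/
noncomputable abbrev ι : c.Z.scheme ⟶ X.scheme :=
  (Scheme.IdealSheafData.vanishingIdeal c.C).subschemeι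

instance : AlgebraicGeometry.IsReduced c.Z.scheme :=
  GrothLib.RedSub.isReduced_subscheme_vanishingIdeal c.C

lemma range_ι : Set.range c.ι = (c.C : Set X.scheme) :=
  GrothLib.RedSub.range_subschemeι_vanishingIdeal c.C

lemma dim_Z : WeilCoh.dim c.Z.scheme + (j + 1) = WeilCoh.dim X.scheme := by
  obtain ⟨y, hy, hyc⟩ := c.pt
  obtain ⟨z, rfl⟩ := c.range_ι.ge hy
  have h1 := pdim_add_codim (finDim X) (c.ι z)
  rw [hyc, pdim_map c.ι z] at h1
  have h2 := pdim_le_dim (finDim c.Z) z
  have h3 : WeilCoh.dim c.Z.scheme ≤ WeilCoh.dim X.scheme - (j + 1) :=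
    dim_le_of_forall_pdim_le (finDim c.Z) fun w => by
      have h4 := pdim_add_codim (finDim X) (c.ι w)
      have h5 := c.lt _ (c.range_ι.le (Set.mem_range_self w))
      rw [pdim_map c.ι w] at h4
      omega
  omega

lemma codim_ι (z : c.Z.scheme) :
    WeilCoh.codim X.scheme (c.ι z) = WeilCoh.codim c.Z.scheme z + (j + 1) := by
  have h1 := pdim_add_codim (finDim X) (c.ι z)
  rw [pdim_map c.ι z] at h1
  have h2 := pdim_add_codim (finDim c.Z) z
  have h3 := c.dim_Z
  omega

/-- the open complement inside `W` -/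
noncomputable def U (W : BMCoh.Idx X (BMCoh.ContainsFj X (j + 1 + m))) :
    BMCoh.Idx X (BMCoh.ContainsFj X j) :=
  mkFjIdx X (W.1 ⊓ ⟨(c.C : Set X.scheme)ᶜ, c.C.isClosed.isOpen_compl⟩) fun y hy =>
    ⟨W.2.1 y (by omega), fun hyC => absurd (c.lt y hyC) (by omega)⟩

/-- the trace on the cut -/
noncomputable def WZ (W : BMCoh.Idx X (BMCoh.ContainsFj X (j + 1 + m))) :
    BMCoh.Idx c.Z (BMCoh.ContainsFj c.Z m) :=
  mkFjIdx c.Z (c.ι ⁻¹ᵁ W.1) fun z hz => W.2.1 (c.ι z) (by rw [c.codim_ι]; omega)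

lemma U_le (W : BMCoh.Idx X (BMCoh.ContainsFj X (j + 1 + m))) : (c.U W).1 ≤ W.1 := inf_le_left

/-- the decomposition of `W` -/
noncomputable def D (W : BMCoh.Idx X (BMCoh.ContainsFj X (j + 1 + m))) :
    BMCoh.Decomp (X.res W.1) where
  Z := c.Z.res (c.WZ W).1
  U := X.res (c.U W).1
  i := c.ι ∣_ W.1
  closedImm := IsZariskiLocalAtTarget.restrict (P := @IsClosedImmersion) inferInstance _
  j := Idx.res X (c.U W) W (c.U_le W)
  range_eq := by
    show Set.range (X.scheme.homOfLE (c.U_le W)) = (Set.range (c.ι ∣_ W.1))ᶜ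
    ext z
    constructor
    · rintro ⟨v, rfl⟩ ⟨q, hq⟩
      have e1 : c.ι q.1 = v.1 := by
        have := congrArg Subtype.val hq
        rw [morphismRestrict_base] at this
        exact this.trans (Scheme.homOfLE_apply _ v)
      exact v.2.2 (c.range_ι.le ⟨q.1, e1⟩)
    · intro hn
      have hz : z.1 ∉ (c.C : Set X.scheme) := fun hz => by
        obtain ⟨q, hq⟩ := c.range_ι.ge hz
        refine hn ⟨⟨q, show c.ι q ∈ W.1 by rw [hq]; exact z.2⟩, Subtype.ext ?_⟩
        rw [morphismRestrict_base]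
        exact hq
      exact ⟨⟨z.1, z.2, hz⟩, Subtype.ext (Scheme.homOfLE_apply _ _)⟩

lemma codim_D (W : BMCoh.Idx X (BMCoh.ContainsFj X (j + 1 + m))) :
    (c.D W).codim = (j : ℤ) + 1 := by
  have h1 : WeilCoh.dim (c.D W).Z.scheme = WeilCoh.dim c.Z.scheme := (c.WZ W).2.2
  have h2 : WeilCoh.dim (X.res W.1).scheme = WeilCoh.dim X.scheme := W.2.2
  have h3 := c.dim_Z
  show (WeilCoh.dim (X.res W.1).scheme : ℤ) - (WeilCoh.dim (c.D W).Z.scheme : ℤ) = _
  rw [h1, h2, ← h3]
  push_cast
  ring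

/-- shrinking to the complement of the complement of an open of the cut -/
lemma exists_shrink (W : BMCoh.Idx X (BMCoh.ContainsFj X (j + 1 + m)))
    (O : BMCoh.Idx c.Z (BMCoh.ContainsFj c.Z m)) :
    ∃ (W' : BMCoh.Idx X (BMCoh.ContainsFj X (j + 1 + m))) (_ : W'.1 ≤ W.1),
      (c.WZ W').1 ≤ O.1 := by
  let bad : Set X.scheme := c.ι.base '' ((O.1 : Set c.Z.scheme)ᶜ)
  have hbad : IsClosed bad := c.ι.isClosedEmbedding.isClosedMap _ O.1.isOpen.isClosed_compl
  refine ⟨mkFjIdx X (W.1 ⊓ ⟨badᶜ, hbad.isOpen_compl⟩) fun y hy => ⟨W.2.1 y hy, ?_⟩, inf_le_left,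
    fun z hz => ?_⟩
  · rintro ⟨z, hz, rfl⟩
    exact hz (O.2.1 z (by have := c.codim_ι z; omega))
  · by_contra hn
    exact (show c.ι z ∈ W.1 ⊓ ⟨badᶜ, hbad.isOpen_compl⟩ from hz).2 ⟨z, hn, rfl⟩

variable {R : Type u} [CommRing R] {A : BMCoh.Coefs R} (T : BMCoh.PreTheory V R A) (M : A.Cat)

section
variable {W' W : BMCoh.Idx X (BMCoh.ContainsFj X (j + 1 + m))} (h : W'.1 ≤ W.1)
include h

lemma WZ_mono : (c.WZ W').1 ≤ (c.WZ W).1 := fun _ hz => h hz
lemma U_mono : (c.U W').1 ≤ (c.U W).1 := inf_le_inf_right _ h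

lemma ι_comm : (Idx.res c.Z (c.WZ W') (c.WZ W) (c.WZ_mono h)).hom ≫ (c.D W).i =
    (c.D W').i ≫ (Idx.res X W' W h).hom := by
  rw [← cancel_mono W.1.ι]
  refine (Category.assoc _ _ _).trans ?_
  refine (congrArg (_ ≫ ·) (morphismRestrict_ι c.ι W.1)).trans ?_
  refine (Category.assoc _ _ _).symm.trans ?_
  refine (congrArg (· ≫ c.ι) (Scheme.homOfLE_ι c.Z.scheme (c.WZ_mono h))).trans ?_
  refine Eq.trans ?_ (Category.assoc _ _ _).symm
  refine Eq.trans ?_ (congrArg (_ ≫ ·) (Scheme.homOfLE_ι X.scheme h)).symm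
  exact (morphismRestrict_ι c.ι W'.1).symm

lemma res_shrink {i n i' n' : ℤ} (hi : i' = i + 1 - 2 * ((j : ℤ) + 1))
    (hn : n' = n - ((j : ℤ) + 1)) (b : T.gp (X.res (c.U W).1) M i n) :
    (T.res (c.D W') M i n i' n' (by rw [c.codim_D]; exact hi) (by rw [c.codim_D]; exact hn)).hom
        ((T.pull (Idx.res X (c.U W') (c.U W) (c.U_mono h)) M i n).hom b) =
      (T.pull (Idx.res c.Z (c.WZ W') (c.WZ W) (c.WZ_mono h)) M i' n').hom
        ((T.res (c.D W) M i n i' n' (by rw [c.codim_D]; exact hi)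
          (by rw [c.codim_D]; exact hn)).hom b) := by
  have h2 : Idx.res X (c.U W') (c.U W) (c.U_mono h) ≫ (c.D W).j =
      (c.D W').j ≫ Idx.res X W' W h := by
    apply hom_ext
    exact (X.scheme.homOfLE_homOfLE (c.U_mono h) (c.U_le W)).trans
      (X.scheme.homOfLE_homOfLE (c.U_le W') h).symm
  exact (ConcreteCategory.congr_hom (T.res_pull (c.D W) (c.D W') (Idx.res X W' W h)
    (Idx.res c.Z (c.WZ W') (c.WZ W) (c.WZ_mono h)) (Idx.res X (c.U W') (c.U W) (c.U_mono h))
    (c.ι_comm h) h2 M i n i' n' (by rw [c.codim_D]; exact hi) (by rw [c.codim_D]; exact hn)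
    (by rw [c.codim_D]; exact hi) (by rw [c.codim_D]; exact hn)) b).symm

lemma push_shrink {i n i' n' : ℤ} (hi : i' = i + 2 * ((j : ℤ) + 1))
    (hn : n' = n + ((j : ℤ) + 1)) (z : T.gp (c.D W).Z M i n) :
    (T.push (c.D W').i M i n i' n' (by rw [show BMCoh.relCodim _ _ = _ from c.codim_D W']; exact hi)
        (by rw [show BMCoh.relCodim _ _ = _ from c.codim_D W']; exact hn)).hom
        ((T.pull (Idx.res c.Z (c.WZ W') (c.WZ W) (c.WZ_mono h)) M i n).hom z) =
      (T.pull (Idx.res X W' W h) M i' n').hom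
        ((T.push (c.D W).i M i n i' n' (by rw [show BMCoh.relCodim _ _ = _ from c.codim_D W]; exact hi)
          (by rw [show BMCoh.relCodim _ _ = _ from c.codim_D W]; exact hn)).hom z) := by
  have hsq : IsPullback (Idx.res c.Z (c.WZ W') (c.WZ W) (c.WZ_mono h)).hom (c.D W').i (c.D W).i
      (Idx.res X W' W h).hom := by
    refine (@IsOpenImmersion.isPullback _ _ _ _ (c.D W').i
      (Idx.res c.Z (c.WZ W') (c.WZ W) (c.WZ_mono h)).hom (Idx.res X W' W h).hom (c.D W).i
      (Idx.res c.Z (c.WZ W') (c.WZ W) (c.WZ_mono h)).isOpenImmersion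
      (Idx.res X W' W h).isOpenImmersion (c.ι_comm h) ?_).flip
    refine TopologicalSpace.Opens.ext (Set.ext fun z => ⟨?_, ?_⟩)
    · rintro ⟨w, hw⟩
      have e : c.ι z.1 = w.1 := by
        have := congrArg Subtype.val hw
        have h2 : ((c.D W).i z).1 = c.ι z.1 := by
          show ((c.ι ∣_ W.1) z).1 = _
          rw [morphismRestrict_base]
          rfl
        exact h2.symm.trans (this.symm.trans (Scheme.homOfLE_apply (X := X.scheme) h w))
      exact ⟨⟨z.1, show c.ι z.1 ∈ W'.1 by rw [e]; exact w.2⟩,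
        Subtype.ext (Scheme.homOfLE_apply (c.WZ_mono h) _)⟩
    · rintro ⟨w, rfl⟩
      exact ⟨(c.D W').i w, (Scheme.Hom.comp_apply _ _ _).symm.trans
        ((congrArg (fun f => f w) (c.ι_comm h).symm).trans (Scheme.Hom.comp_apply _ _ _))⟩
  exact (ConcreteCategory.congr_hom (T.push_pull (c.D W).i (c.D W').i
    (Idx.res X W' W h) (Idx.res c.Z (c.WZ W') (c.WZ W) (c.WZ_mono h)) hsq M i n i' n'
    (by rw [show BMCoh.relCodim _ _ = _ from c.codim_D W]; exact hi)
    (by rw [show BMCoh.relCodim _ _ = _ from c.codim_D W]; exact hn)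
    (by rw [show BMCoh.relCodim _ _ = _ from c.codim_D W']; exact hi)
    (by rw [show BMCoh.relCodim _ _ = _ from c.codim_D W']; exact hn)) z).symm

end

end Cut


/-- Let T be a twisted Borel–Moore cohomology theory with coefficients in A on a constructible class V
of Noetherian schemes, X an object of V, M a coefficient module, j and m natural numbers and i, n
integers. If for every reduced object Z of V admitting a closed immersion into X with dim Z + (j +
1) = dim X the groups H^{i−2(j+1)}(F_mZ, M(n−j−1)) and H^{i+1−2(j+1)}(F_mZ, M(n−j−1)) are zero, then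
the restriction map H^i(F_{j+1+m}X, M(n)) → H^i(F_jX, M(n)) is bijective. (The published lemma is
the long exact sequence obtained from the Gysin sequences by passage to the colimit, whose terms
around these two are the colimits, over the reduced closed subschemes Z of X of codimension j + 1,
of those groups of F_mZ; its maps on the colimits are not part of the definitions used here, and
this row records the resulting bijectivity criterion.) -/
theorem result (V : ObjectProperty Scheme.{u}) [BMCoh.IsConstructible V] (R : Type u) [CommRing R] (A : BMCoh.Coefs R) (T : BMCoh.TheoryOn V R A) (X : BMCoh.Obj V) (M : A.Cat) (j m : ℕ) (i n : ℤ) (hZ : ∀ (Z : BMCoh.Obj V) (ι : Z.scheme ⟶ X.scheme) [IsClosedImmersion ι] [IsReduced Z.scheme], WeilCoh.dim Z.scheme + (j + 1) = WeilCoh.dim X.scheme → Limits.IsZero (T.fjGp Z m M (i - 2 * ((j : ℤ) + 1)) (n - ((j : ℤ) + 1))) ∧ Limits.IsZero (T.fjGp Z m M (i + 1 - 2 * ((j : ℤ) + 1)) (n - ((j : ℤ) + 1)))) : Function.Bijective ((T.fjRes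 X ((Nat.le_succ j).trans (Nat.le_add_right (j + 1) m)) i n).app M).hom := by
  have hjm : j ≤ j + 1 + m := by omega
  constructor
  · rw [injective_iff_map_eq_zero]
    intro a ha
    obtain ⟨W, b, rfl⟩ := exists_rep (T := T.toPreTheory) M i n
      (goodP_containsFj X (j + 1 + m)) a
    rw [ocolimMap_ι] at ha
    obtain ⟨U, hU, hb⟩ := exists_le_of_ι_eq_zero (T := T.toPreTheory) M i n
      (goodP_containsFj X j) ha
    by_cases hx : ∃ x, WeilCoh.codim X.scheme x = j + 1
    · obtain ⟨x₀, hx₀⟩ := hx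
      obtain ⟨c, hc⟩ := exists_cut U.2.1 hx₀
      have hle : (c.U W).1 ≤ U.1 := fun z hz => by_contra fun h => hz.2 (hc h)
      have hb' : (T.pull (Idx.res X (c.U W) W (c.U_le W)) M i n).hom b = 0 := by
        refine (pull_congr T.toPreTheory (g := Idx.res X (c.U W) U hle ≫
          Idx.res X U ⟨W.1, BMCoh.containsFj_mono X hjm _ W.2.1, W.2.2⟩ hU)
          (X.scheme.homOfLE_homOfLE hle hU).symm M i n b).trans ?_
        rw [← pull_comp]
        exact (congrArg _ hb).trans (map_zero _)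
      obtain ⟨k, rfl⟩ : ∃ k, i = k + 1 := ⟨i - 1, by ring⟩
      obtain ⟨z, hz⟩ := (T.exact_push_pull (c.D W) M k n (k + 1 - 2 * ((j : ℤ) + 1))
        (n - ((j : ℤ) + 1))
        (by rw [show BMCoh.relCodim _ _ = _ from c.codim_D W]; ring)
        (by rw [show BMCoh.relCodim _ _ = _ from c.codim_D W]; ring) b).1 hb'
      have hsub := ModuleCat.subsingleton_of_isZero (hZ c.Z c.ι c.dim_Z).1
      obtain ⟨O, hO, hzO⟩ := exists_le_of_ι_eq_zero (T := T.toPreTheory) M _ _
        (goodP_containsFj c.Z m) (U₁ := c.WZ W) (b := z) (Subsingleton.elim _ _)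
      obtain ⟨W', hW', hWO⟩ := c.exists_shrink W O
      have hp : (T.pull (Idx.res c.Z (c.WZ W') (c.WZ W) (c.WZ_mono hW')) M _ _).hom z = 0 := by
        rw [← pull_congr T.toPreTheory (f := Idx.res c.Z (c.WZ W') O hWO ≫
          Idx.res c.Z O (c.WZ W) hO) (g := Idx.res c.Z (c.WZ W') (c.WZ W) (c.WZ_mono hW'))
          (c.Z.scheme.homOfLE_homOfLE hWO hO)]
        exact (pull_comp T.toPreTheory _ (Idx.res c.Z O (c.WZ W) hO) M _ _ z).symm.trans
          ((congrArg _ hzO).trans (map_zero _))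
      rw [← ι_pull (T := T.toPreTheory) M (k + 1) n (U' := W') (U := W) hW', ← hz]
      exact (congrArg _ ((c.push_shrink T.toPreTheory M hW' (by ring) (by ring) z).symm.trans
        ((congrArg _ hp).trans (map_zero _)))).trans (map_zero _)
    · have hU' : BMCoh.ContainsFj X (j + 1 + m) U.1 := fun y hy => by
        by_contra h
        have h1 : j < WeilCoh.codim X.scheme y := not_le.1 fun h' => h (U.2.1 y h')
        have : Nonempty X.scheme := ⟨y⟩
        have h2 := pdim_add_codim (finDim X) y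
        obtain ⟨x, hx'⟩ := exists_pdim_eq (finDim X)
          (n := WeilCoh.dim X.scheme - (j + 1)) (Nat.sub_le _ _)
        refine hx ⟨x, ?_⟩
        have h3 := pdim_add_codim (finDim X) x
        omega
      refine (ι_pull (T := T.toPreTheory) M i n (U' := ⟨U.1, hU', U.2.2⟩) (U := W) hU b).symm.trans ?_
      exact (congrArg _ hb).trans (map_zero _)
  · intro a
    obtain ⟨U, b, rfl⟩ := exists_rep (T := T.toPreTheory) M i n (goodP_containsFj X j) a
    by_cases hx : ∃ x, WeilCoh.codim X.scheme x = j + 1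
    · obtain ⟨x₀, hx₀⟩ := hx
      obtain ⟨c, hc⟩ := exists_cut U.2.1 hx₀
      let top : BMCoh.Idx X (BMCoh.ContainsFj X (j + 1 + m)) := mkFjIdx X ⊤ fun _ _ => trivial
      have hle : (c.U top).1 ≤ U.1 := fun z hz => by_contra fun h => hz.2 (hc h)
      have hsub := ModuleCat.subsingleton_of_isZero (hZ c.Z c.ι c.dim_Z).2
      obtain ⟨O, hO, hzO⟩ := exists_le_of_ι_eq_zero (T := T.toPreTheory) M _ _
        (goodP_containsFj c.Z m) (U₁ := c.WZ top)
        (b := (T.res (c.D top) M i n _ _ (by rw [c.codim_D]) (by rw [c.codim_D])).hom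
          ((T.pull (Idx.res X (c.U top) U hle) M i n).hom b)) (Subsingleton.elim _ _)
      obtain ⟨W', hW', hWO⟩ := c.exists_shrink top O
      have hp : (T.res (c.D W') M i n _ _ (by rw [c.codim_D]) (by rw [c.codim_D])).hom
          ((T.pull (Idx.res X (c.U W') (c.U top) (c.U_mono hW')) M i n).hom
            ((T.pull (Idx.res X (c.U top) U hle) M i n).hom b)) = 0 := by
        rw [c.res_shrink T.toPreTheory M hW' rfl rfl,
          ← pull_congr T.toPreTheory (f := Idx.res c.Z (c.WZ W') O hWO ≫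
            Idx.res c.Z O (c.WZ top) hO) (g := Idx.res c.Z (c.WZ W') (c.WZ top) (c.WZ_mono hW'))
            (c.Z.scheme.homOfLE_homOfLE hWO hO)]
        exact (pull_comp T.toPreTheory _ (Idx.res c.Z O (c.WZ top) hO) M _ _ _).symm.trans
          ((congrArg _ hzO).trans (map_zero _))
      obtain ⟨d, hd⟩ := (T.exact_pull_res (c.D W') M i n _ _ _ _ _).1 hp
      refine ⟨((T.fjι X (j + 1 + m) i n W').app M).hom d, ?_⟩
      refine (ocolimMap_ι (T := T.toPreTheory) M i n _ W' d).trans ?_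
      rw [← ι_pull (T := T.toPreTheory) M i n (U' := c.U top) (U := U) hle b,
        ← ι_pull (T := T.toPreTheory) M i n (U' := c.U W') (U := c.U top) (c.U_mono hW'), ← hd]
      exact (ι_pull (T := T.toPreTheory) M i n (U' := c.U W')
        (U := ⟨W'.1, BMCoh.containsFj_mono X hjm _ W'.2.1, W'.2.2⟩) (c.U_le W') d).symm
    · have hU' : BMCoh.ContainsFj X (j + 1 + m) U.1 := fun y hy => by
        by_contra h
        have h1 : j < WeilCoh.codim X.scheme y := not_le.1 fun h' => h (U.2.1 y h')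
        have : Nonempty X.scheme := ⟨y⟩
        have h2 := pdim_add_codim (finDim X) y
        obtain ⟨x, hx'⟩ := exists_pdim_eq (finDim X)
          (n := WeilCoh.dim X.scheme - (j + 1)) (Nat.sub_le _ _)
        refine hx ⟨x, ?_⟩
        have h3 := pdim_add_codim (finDim X) x
        omega
      exact ⟨((T.fjι X (j + 1 + m) i n ⟨U.1, hU', U.2.2⟩).app M).hom b,
        ocolimMap_ι (T := T.toPreTheory) M i n _ ⟨U.1, hU', U.2.2⟩ b⟩

end Groth.Agent.S15887
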