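import Groth.Statements.S15888
import Groth.Agent.Lib.BMGysin.Vanish
-- import your own Groth.Agent.* helpers here

set_option autoImplicit false
universe u
open CategoryTheory AlgebraicGeometry Opposite
open BMCoh

namespace Groth.Agent.S15888

open GrothLib.BMGysin

/-- Let T be a twisted Borel–Moore cohomology theory with coefficients in A on a constructible class V
of Noetherian schemes, X an object of V whose underlying scheme is integral, and f : U → X a
morphism of V (an open immersion with dim U = dim X) whose image is a big open subset: every point
of X outside the image has codimension at least 2 in X, that is, its closure has dimension less than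
dim X − 1. Then for every coefficient module M and every integer n the restriction map H^2(X, M(n))
→ H^2(U, M(n)) along f is bijective. (The published remark is made for the rank-one Tate-twisted
coefficients of an ℓ-adic theory; the exactness-and-vanishing argument it indicates involves neither
the coefficient module nor the twist, and the statement is made here for all of them.) -/
theorem result (V : ObjectProperty Scheme.{u}) [BMCoh.IsConstructible V] (R : Type u) [CommRing R] (A : BMCoh.Coefs R) (T : BMCoh.TheoryOn V R A) {U X : BMCoh.Obj V} [IsIntegral X.scheme] (f : U ⟶ X) (hbig : ∀ x : X.scheme, x ∉ Set.range f.hom → 2 ≤ WeilCoh.codim X.scheme x) (M : A.Cat) (n : ℤ) : Function.Bijective (T.pull f M 2 n).hom := by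
  by_cases hs : Function.Surjective f.hom
  · exact pull_bijective_of_surjective T.toPreTheory f hs M 2 n
  let C : TopologicalSpace.Closeds X.scheme :=
    ⟨(Set.range f.hom)ᶜ, f.hom.isOpenEmbedding.isOpen_range.isClosed_compl⟩
  let Z : BMCoh.Obj V := ⟨(Scheme.IdealSheafData.vanishingIdeal C).subscheme,
    BMCoh.IsConstructible.of_isClosedImmersion (Scheme.IdealSheafData.vanishingIdeal C).subschemeι
      (h := inferInstance) X.mem⟩
  let ι : Z.scheme ⟶ X.scheme := (Scheme.IdealSheafData.vanishingIdeal C).subschemeι
  have : IsClosedImmersion ι :=
    inferInstanceAs (IsClosedImmersion (Scheme.IdealSheafData.vanishingIdeal C).subschemeι)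
  have : AlgebraicGeometry.IsReduced Z.scheme :=
    GrothLib.RedSub.isReduced_subscheme_vanishingIdeal C
  have hr : Set.range ι = (Set.range f.hom)ᶜ := GrothLib.RedSub.range_subschemeι_vanishingIdeal C
  let D : BMCoh.Decomp X :=
    { Z := Z, U := U, i := ι, closedImm := inferInstance, j := f, range_eq := by rw [hr, compl_compl] }
  have hc : 2 ≤ D.codim := by
    simp only [Function.Surjective, not_forall, not_exists] at hs
    obtain ⟨x, hx⟩ := hs
    have hx2 := hbig x fun ⟨u, hu⟩ => hx u hu
    have h1 := pdim_add_codim (finDim X) x
    have : WeilCoh.dim Z.scheme + 2 ≤ WeilCoh.dim X.scheme := by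
      have := dim_le_of_forall_pdim_le (finDim Z) (d := WeilCoh.dim X.scheme - 2) fun z => by
        rw [← pdim_map ι z]
        have h3 := hbig (ι z) (hr.le (Set.mem_range_self z))
        have h4 := pdim_add_codim (finDim X) (ι z)
        omega
      omega
    simp only [BMCoh.Decomp.codim, BMCoh.relCodim, D]
    omega
  constructor
  · rw [injective_iff_map_eq_zero]
    intro a ha
    obtain ⟨k, rfl⟩ : ∃ k : ℤ, k = 1 := ⟨1, rfl⟩
    have he := T.exact_push_pull D M 1 n (2 - 2 * D.codim) (n - D.codim)
      (by simp only [BMCoh.Decomp.codim]; ring) (by simp only [BMCoh.Decomp.codim]; ring)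
    have := gp_subsingleton_of_neg T M D.Z (2 - 2 * D.codim) (n - D.codim) (by omega)
    obtain ⟨b, hb⟩ := (he a).1 ha
    rw [← hb, Subsingleton.elim b 0, map_zero]
  · intro b
    have he := T.exact_pull_res D M 2 n _ _ rfl rfl
    have := gp_subsingleton_of_neg T M D.Z (2 + 1 - 2 * D.codim) (n - D.codim) (by omega)
    exact (he b).1 (Subsingleton.elim _ _)

end Groth.Agent.S15888
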