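import Groth.Statements.S15890
import Groth.Agent.Lib.Versch.Etale

set_option autoImplicit false
universe u v
open Versch

namespace Groth.Agent.S15890

/-- Let p be a prime, k a field of characteristic p and A a finite-dimensional commutative and
cocommutative Hopf algebra over k (a finite commutative k-group scheme G = Spec A), and let v : A →
A ⊗_k k^(Frob) be the comorphism of the Verschiebung V : G^(p) → G (the ring map whose transpose
under the canonical pairing is the relative Frobenius of the dual Hopf algebra). Then G is
multiplicative, i.e. the dual Hopf algebra Hom_k(A, k) of the Cartier dual G^D is étale over k, if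
and only if v is bijective, i.e. V is an isomorphism. -/
theorem result (p : ℕ) [Fact p.Prime] (k : Type u) [Field k] [CharP k p]
    (A : Type v) [CommRing A] [HopfAlgebra k A] [Coalgebra.IsCocomm k A] [FiniteDimensional k A]
    (v : A →+* FrobAlg.BaseChange p k A) (hv : Versch.IsVerschiebung p k A v) :
    Algebra.Etale k (CartDual.D k A) ↔ Function.Bijective v := by
  rw [GrothLib.Versch.bijective_iff_injective p v hv, GrothLib.Versch.injective_iff_surjective_relFrob p v hv]
  exact GrothLib.Versch.etale_iff_surjective_relFrob p k (CartDual.D k A)


end Groth.Agent.S15890
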