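import Groth.Statements.S15891
import Groth.Agent.Lib.Versch.Basic
import Groth.Agent.Lib.OT.Rank

set_option autoImplicit false
universe u
open scoped TensorProduct
open Versch

namespace Groth.Agent.S15891

open scoped TensorProduct

/-- Let p be a prime, R a commutative ring of characteristic p and A a commutative and cocommutative
Hopf algebra over R which is finitely generated and projective as an R-module, of characteristic p
(a finite locally free commutative group scheme G = Spec A over S = Spec R), and let v : A → A^(p) =
A ⊗_R R^(Frob) be the comorphism of the Verschiebung V : G^(p) → G (the ring map whose transpose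
under the canonical pairing is the relative Frobenius of the dual Hopf algebra). Then F ∘ V = [p] is
multiplication by p on the S-group G^(p): the ring endomorphism v ∘ F* of A^(p), where F* : A^(p) →
A is the relative Frobenius comorphism, transported along the symmetry A ⊗_R R^(Frob) ≅ R^(Frob) ⊗_R
A, is the p-th convolution power of the identity of the Hopf algebra R^(Frob) ⊗_R A over R^(Frob)
(the base change of A along the Frobenius of R). (The published notes work over a Noetherian base
ring; the row allows any commutative base ring of characteristic p.) -/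
theorem result (p : ℕ) [Fact p.Prime] (R : Type u) [CommRing R] [CharP R p]
    (A : Type u) [CommRing A] [HopfAlgebra R A] [Coalgebra.IsCocomm R A] [Module.Finite R A] [Module.Projective R A]
    [CharP A p] (v : A →+* FrobAlg.BaseChange p R A) (hv : Versch.IsVerschiebung p R A v) :
    ((Algebra.TensorProduct.comm R A (FrobAlg.Twist p R)).toRingEquiv.toRingHom.comp
        ((v.comp (FrobAlg.relFrob p R A)).comp
          (Algebra.TensorProduct.comm R A (FrobAlg.Twist p R)).symm.toRingEquiv.toRingHom)) =
      (SGA3b.powConv (FrobAlg.Twist p R) (FrobAlg.Twist p R ⊗[R] A) p).toRingHom := by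
  refine RingHom.ext fun z => ?_
  induction z using TensorProduct.induction_on with
  | zero => simp
  | add x y hx hy => simp only [map_add, hx, hy]
  | tmul t a =>
    change Algebra.TensorProduct.comm R A (FrobAlg.Twist p R)
        (v (FrobAlg.relFrob p R A (a ⊗ₜ[R] t))) =
      SGA3b.powConv (FrobAlg.Twist p R) (FrobAlg.Twist p R ⊗[R] A) p (t ⊗ₜ[R] a)
    have h1 : FrobAlg.relFrob p R A (a ⊗ₜ[R] t) = a ^ p * algebraMap R A ((FrobAlg.toTwist p R).symm t) := by
      simp [FrobAlg.relFrob, FrobAlg.frobHom, FrobAlg.inclHom, frobenius_def]
    rw [h1, map_mul, GrothLib.Versch.apply_pow p v hv, GrothLib.Versch.apply_algebraMap p v hv,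
      Algebra.TensorProduct.tmul_mul_tmul, mul_one, one_mul, RingEquiv.apply_symm_apply,
      Algebra.TensorProduct.comm_tmul, GrothLib.Versch.powConv_eq]
    have h2 : t ⊗ₜ[R] a = t • ((1 : FrobAlg.Twist p R) ⊗ₜ[R] a) := by
      rw [TensorProduct.smul_tmul', smul_eq_mul, mul_one]
    rw [h2, map_smul, GrothLib.OT.powConv_baseChange, TensorProduct.smul_tmul', smul_eq_mul, mul_one]
    rfl


end Groth.Agent.S15891
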