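import Groth.Statements.S15892
import Groth.Agent.Lib.HopfFinQuot.CartierExact
import Mathlib.RingTheory.Flat.EquationalCriterion
import Mathlib.RingTheory.Noetherian.Basic

set_option autoImplicit false
universe u
open CartDual

namespace Groth.Agent.S15892

/-- Let R be a Noetherian ring and A', A, A'' commutative and cocommutative Hopf algebras over R, each
finitely generated and projective as an R-module (finite flat commutative R-groups G' = Spec A', G =
Spec A, G'' = Spec A''). Let f : A'' → A be a bialgebra homomorphism which is faithfully flat as a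
ring map (the comorphism of a faithfully flat homomorphism π : G → G'') and g : A → A' a surjective
bialgebra homomorphism whose kernel is the ideal of A generated by the image under f of the
augmentation ideal of A'' (the comorphism of a closed immersion ι : G' → G identifying G' with the
kernel of π), so that 1 → G' → G → G'' → 1 is a short exact sequence of finite flat R-groups. Then
the Cartier dual sequence 1 → G''^D → G^D → G'^D → 1 is again short exact: the transpose Hom_R(A',
R) → Hom_R(A, R) of g is a faithfully flat ring map between the dual Hopf algebras, and the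
transpose Hom_R(A, R) → Hom_R(A'', R) of f is surjective with kernel the ideal generated by the
image, under the transpose of g, of the augmentation ideal of Hom_R(A', R). -/
theorem result (R : Type u) [CommRing R] [IsNoetherianRing R]
    (A' A A'' : Type u) [CommRing A'] [HopfAlgebra R A'] [Coalgebra.IsCocomm R A'] [Module.Finite R A']
    [Module.Projective R A'] [CommRing A] [HopfAlgebra R A] [Coalgebra.IsCocomm R A] [Module.Finite R A]
    [Module.Projective R A] [CommRing A''] [HopfAlgebra R A''] [Coalgebra.IsCocomm R A''] [Module.Finite R A'']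
    [Module.Projective R A''] (f : A'' →ₐc[R] A) (hf : (f : A'' →ₐ[R] A).toRingHom.FaithfullyFlat)
    (g : A →ₐc[R] A') (hg : Function.Surjective g)
    (hker : RingHom.ker (g : A →ₐ[R] A') = Ideal.map (f : A'' →ₐ[R] A) (RingHom.ker (Bialgebra.counitAlgHom R A''))) :
    (CartDual.transpose R g : CartDual.D R A' →ₐ[R] CartDual.D R A).toRingHom.FaithfullyFlat ∧
      Function.Surjective (CartDual.transpose R f) ∧
      RingHom.ker (CartDual.transpose R f : CartDual.D R A →ₐ[R] CartDual.D R A'') =
        Ideal.map (CartDual.transpose R g : CartDual.D R A' →ₐ[R] CartDual.D R A)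
          (RingHom.ker (Bialgebra.counitAlgHom R (CartDual.D R A'))) := by
  letI : Algebra A'' A := (f : A'' →ₐ[R] A).toRingHom.toAlgebra
  haveI : IsScalarTower R A'' A := IsScalarTower.of_algebraMap_eq fun r => ((f : A'' →ₐ[R] A).commutes r).symm
  haveI : Module.FaithfullyFlat A'' A := RingHom.faithfullyFlat_algebraMap_iff.1 hf
  haveI : Module.Finite A'' A := Module.Finite.of_restrictScalars_finite R A'' A
  haveI : IsNoetherianRing A'' := IsNoetherianRing.of_finite R A''
  haveI : Module.FinitePresentation A'' A := Module.finitePresentation_of_finite A'' A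
  haveI hproj : Module.Projective A'' A := Module.Flat.projective_of_finitePresentation
  obtain ⟨ψ, hψ⟩ : ∃ ψ : A →ₗ[A''] A'', ψ 1 = 1 := by
    obtain ⟨s, hs⟩ := Module.projective_def'.1 hproj
    suffices htop : LinearMap.range (LinearMap.applyₗ (1 : A) : (A →ₗ[A''] A'') →ₗ[A''] A'') = ⊤ from
      (LinearMap.range_eq_top.1 htop) 1
    by_contra hne
    obtain ⟨m, hm, hle⟩ := Ideal.exists_le_maximal _ hne
    refine hm.ne_top ((Ideal.eq_top_iff_one _).2 ?_)
    rw [← Ideal.comap_map_eq_self_of_faithfullyFlat (B := A) m, Ideal.mem_comap, map_one]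
    have h1 := DFunLike.congr_fun hs (1 : A)
    rw [LinearMap.comp_apply, LinearMap.id_apply, Finsupp.linearCombination_apply] at h1
    rw [← h1]
    refine Ideal.sum_mem _ fun a _ => ?_
    beta_reduce
    rw [Algebra.smul_def]
    refine Ideal.mul_mem_right _ _ (Ideal.mem_map_of_mem _ (hle ⟨Finsupp.lapply a ∘ₗ s, ?_⟩))
    rfl
  have hr : ∀ c : A'', ψ.restrictScalars R (f c) = c := fun c => by
    change ψ (algebraMap A'' A c) = c
    rw [Algebra.algebraMap_eq_smul_one, map_smul, hψ, smul_eq_mul, mul_one]
  obtain ⟨h1, h2⟩ := GrothLib.HopfFinQuot.cartier_exact f (ψ.restrictScalars R) hr g hg hker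
  exact ⟨h1, GrothLib.HopfFinQuot.surjective_transpose_of_retraction f (ψ.restrictScalars R) hr, h2⟩

end Groth.Agent.S15892
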