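import Groth.Statements.S15893
import Groth.Agent.Lib.Dual.Eval

set_option autoImplicit false
universe u v w
open CartDual

namespace Groth.Agent.S15893

/-- Let R be a commutative ring and A, B commutative and cocommutative Hopf algebras over R, each
finitely generated and projective as an R-module (finite locally free commutative group schemes G =
Spec A, H = Spec B over Spec R). Then Cartier duality is a fully faithful contravariant functor: the
map sending a bialgebra homomorphism f : A → B (a homomorphism of group schemes H → G) to its
transpose between the dual Hopf algebras, Hom_R(B, R) → Hom_R(A, R) (the dual homomorphism G^D →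
H^D), is a bijection between bialgebra homomorphisms A → B and bialgebra homomorphisms Hom_R(B, R) →
Hom_R(A, R). (The published statement also asserts that the canonical map to the double dual is an
isomorphism, which makes duality an involutory anti-equivalence; that part is not restated here. The
published notes work over a Noetherian base ring; the row allows any commutative base ring.) -/
theorem result (R : Type u) [CommRing R] (A : Type v) (B : Type w)
    [CommRing A] [HopfAlgebra R A] [Coalgebra.IsCocomm R A] [Module.Finite R A] [Module.Projective R A]
    [CommRing B] [HopfAlgebra R B] [Coalgebra.IsCocomm R B] [Module.Finite R B] [Module.Projective R B] :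
    Function.Bijective (fun f : A →ₐc[R] B => CartDual.transpose R f) := by
  refine ⟨fun f g h => DFunLike.ext _ _ fun a => GrothLib.Dual.eq_of_forall_apply (R := R) fun φ => ?_, fun T => ?_⟩
  · rw [← CartDual.transpose_apply, ← CartDual.transpose_apply]
    exact DFunLike.congr_fun (congrArg WithConv.ofConv (DFunLike.congr_fun h φ)) a
  · let eB := BialgEquiv.ofBijective (R := R) (A := B) (B := CartDual.D R (CartDual.D R B)) (CartDual.eval R B)
      (GrothLib.Dual.eval_bijective (R := R) (A := B))
    refine ⟨(eB.symm : CartDual.D R (CartDual.D R B) →ₐc[R] B).comp ((CartDual.transpose R T).comp
      (CartDual.eval R A)), DFunLike.ext _ _ fun φ => WithConv.ext (LinearMap.ext fun a => ?_)⟩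
    change φ (eB.symm (CartDual.transpose R T (CartDual.eval R A a))) = T φ a
    have h : CartDual.eval R B (eB.symm (CartDual.transpose R T (CartDual.eval R A a))) =
        CartDual.transpose R T (CartDual.eval R A a) := eB.apply_symm_apply _
    rw [← CartDual.eval_apply, h, CartDual.transpose_apply, CartDual.eval_apply]

end Groth.Agent.S15893
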