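import Groth.Statements.S15895
import Groth.Agent.Lib.Versch.Basic
import Groth.Agent.Lib.Dual.Eval
import Mathlib.GroupTheory.OrderOfElement

set_option autoImplicit false
universe u
open scoped TensorProduct
open Versch

namespace Groth.Agent.S15895

open scoped TensorProduct

/-- Let p be a prime, R a commutative ring of characteristic p and B = Hom_R(R[ℤ/p], R) the dual Hopf
algebra of the group algebra of the cyclic group of order p: the Hopf algebra of the constant group
scheme ℤ/p over Spec R (the Cartier dual of μ_p). Let v : B → B ⊗_R R^(Frob) be the comorphism of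
the Verschiebung V : (ℤ/p)^(p) → ℤ/p (the ring map whose transpose under the canonical pairing is
the relative Frobenius of the dual Hopf algebra of B). Then V is the trivial homomorphism: v is the
composite of the counit ε : B → R, the identity of underlying rings R → R^(Frob) and the inclusion
of the twisted factor R^(Frob) → B ⊗_R R^(Frob), i.e. v(b) = 1 ⊗ ε(b). -/
theorem result (p : ℕ) [Fact p.Prime] (R : Type u) [CommRing R]
    [CharP R p] (v : CartDual.D R (MonoidAlgebra R (Multiplicative (ZMod p))) →+* FrobAlg.BaseChange p R (CartDual.D R (MonoidAlgebra R (Multiplicative (ZMod p)))))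
    (hv : Versch.IsVerschiebung p R (CartDual.D R (MonoidAlgebra R (Multiplicative (ZMod p)))) v) :
    v = ((Algebra.TensorProduct.includeRight (R := R) (A := CartDual.D R (MonoidAlgebra R (Multiplicative (ZMod p))))
            (B := FrobAlg.Twist p R)).toRingHom.comp (FrobAlg.toTwist p R).toRingHom).comp
          (Bialgebra.counitAlgHom R (CartDual.D R (MonoidAlgebra R (Multiplicative (ZMod p))))).toRingHom := by
  refine RingHom.ext fun b => ?_
  refine Versch.evTw_injective p R (CartDual.D R (MonoidAlgebra R (Multiplicative (ZMod p)))) fun x => ?_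
  rw [(Versch.isVerschiebung_iff p R _ v).1 hv b x]
  change _ = Versch.evTw p R _ x ((1 : CartDual.D R (MonoidAlgebra R (Multiplicative (ZMod p)))) ⊗ₜ[R]
    FrobAlg.toTwist p R (Coalgebra.counit (R := R) b))
  rw [Versch.evTw_tmul', ← map_mul]
  congr 1
  obtain ⟨a, rfl⟩ := GrothLib.Dual.eval_bijective.2 x
  rw [← map_pow, CartDual.eval_apply, CartDual.eval_apply]
  haveI : CharP (MonoidAlgebra R (Multiplicative (ZMod p))) p :=
    charP_of_injective_algebraMap (Bialgebra.algebraMap_injective (R := R) _) p
  haveI : ExpChar (MonoidAlgebra R (Multiplicative (ZMod p))) p := ExpChar.prime (Fact.out : p.Prime)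
  have h : a ^ p = algebraMap R _ ((Coalgebra.counit (R := R) a) ^ p) := by
    induction a using MonoidAlgebra.induction_linear with
    | zero => simp [zero_pow (Fact.out : p.Prime).ne_zero]
    | add f g hf hg =>
      haveI : ExpChar R p := ExpChar.prime (Fact.out : p.Prime)
      rw [map_add, add_pow_expChar, add_pow_expChar, hf, hg, map_add]
    | single g r =>
      rw [MonoidAlgebra.single_pow, MonoidAlgebra.counit_single, CommSemiring.counit_apply,
        show g ^ p = 1 from ?_, MonoidAlgebra.coe_algebraMap]
      · rfl
      · have := pow_card_eq_one (x := g)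
        rwa [Fintype.card_multiplicative, ZMod.card] at this
  rw [h, Algebra.algebraMap_eq_smul_one, LinearMap.map_smul, smul_eq_mul]
  simp [mul_comm]


end Groth.Agent.S15895
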