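import Groth.Statements.S15896
import Groth.Agent.Lib.HopfFinQuot.MultPart

set_option autoImplicit false
universe u
open scoped TensorProduct
open Hopf

namespace Groth.Agent.S15896

/-- Let R be a henselian Noetherian local ring and A a commutative and cocommutative Hopf algebra over R
which is finitely generated and projective as an R-module (a finite flat commutative R-group G =
Spec A). Let e ∈ A be an idempotent with ε(e) = 1 such that the ideal (1 − e) is a Hopf ideal and A⁰
= A/(1 − e) is a local ring, projective over R, with cocommutative quotient structure (G⁰ = Spec A⁰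
is the connected component of the unit section). Let B = Hom_R(A⁰, R) be the dual Hopf algebra (the
Cartier dual (G⁰)^D) and e' ∈ B an idempotent with ε(e') = 1 and B/(1 − e') local (the unit
component of (G⁰)^D). Say that x ∈ B is invariant when (id ⊗ (multiplication by e'))(Δ x) = x ⊗ e',
i.e. x is invariant under translation by the unit component of (G⁰)^D, so that the invariant
elements form the Hopf algebra of the maximal étale quotient of (G⁰)^D; the ideal in A⁰ of the
closed subgroup G_μ ⊆ G⁰ ⊆ G consists of the elements annihilated by every invariant x (G_μ is the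
Cartier dual of the étale quotient of (G⁰)^D, a connected multiplicative subgroup of G). Then G_μ is
the largest connected multiplicative closed subgroup of G: for every Hopf ideal J of A such that A/J
is a local ring, projective over R, cocommutative, and has étale dual Hopf algebra Hom_R(A/J, R) (H
= Spec A/J a connected closed subgroup with étale Cartier dual), every a ∈ A whose image in A⁰ is
annihilated by all invariant x lies in J, i.e. H ⊆ G_μ. -/
theorem result (R : Type u) [CommRing R]
    [HenselianLocalRing R] [IsNoetherianRing R] (A : Type u) [CommRing A] [HopfAlgebra R A] [Coalgebra.IsCocomm R A]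
    [Module.Finite R A] [Module.Projective R A] (e : A) (he : IsIdempotentElem e)
    (hε : Bialgebra.counitAlgHom R A e = 1) [(Ideal.span ({1 - e} : Set A)).IsHopfIdeal R] [IsLocalRing (A ⧸ Ideal.span ({1 - e} : Set A))]
    [Module.Projective R (A ⧸ Ideal.span ({1 - e} : Set A))] [Coalgebra.IsCocomm R (A ⧸ Ideal.span ({1 - e} : Set A))]
    (e' : CartDual.D R (A ⧸ Ideal.span ({1 - e} : Set A))) (he' : IsIdempotentElem e')
    (hε' : Bialgebra.counitAlgHom R (CartDual.D R (A ⧸ Ideal.span ({1 - e} : Set A))) e' = 1)
    [IsLocalRing (CartDual.D R (A ⧸ Ideal.span ({1 - e} : Set A)) ⧸ Ideal.span ({1 - e'} : Set (CartDual.D R (A ⧸ Ideal.span ({1 - e} : Set A)))))]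
    (J : Ideal A) [J.IsHopfIdeal R] [IsLocalRing (A ⧸ J)] [Module.Projective R (A ⧸ J)]
    [Coalgebra.IsCocomm R (A ⧸ J)] [Algebra.Etale R (CartDual.D R (A ⧸ J))]
    (a : A) (ha : ∀ x : CartDual.D R (A ⧸ Ideal.span ({1 - e} : Set A)), LinearMap.lTensor (CartDual.D R (A ⧸ Ideal.span ({1 - e} : Set A))) (LinearMap.mulLeft R e') (Coalgebra.comul (R := R) x) = x ⊗ₜ[R] e' → x (Ideal.Quotient.mk (Ideal.span ({1 - e} : Set A)) a) = 0) :
    a ∈ J := by
  let I₀ : Ideal A := Ideal.span {1 - e}
  let B := CartDual.D R (A ⧸ I₀)
  haveI : IsLocalRing (A ⧸ I₀) := ‹_›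
  haveI : Module.Finite R (A ⧸ I₀) :=
    Module.Finite.of_surjective (Ideal.Quotient.mkₐ R I₀).toLinearMap Ideal.Quotient.mk_surjective
  haveI : Module.Finite R (A ⧸ J) :=
    Module.Finite.of_surjective (Ideal.Quotient.mkₐ R J).toLinearMap Ideal.Quotient.mk_surjective
  haveI := GrothLib.HopfFinQuot.isHopfIdeal (R := R) (A := B) he' hε'
  have hle : I₀ ≤ J.comap ((BialgHom.id R A : A →ₐc[R] A) : A →ₐ[R] A) := by
    rw [Ideal.span_le]
    rintro _ rfl
    change 1 - e ∈ J
    rw [← Ideal.Quotient.eq_zero_iff_mem, map_sub, map_one, GrothLib.HopfFinQuot.mk_eq_one (R := R) J he hε, sub_self]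
  let q := GrothLib.HopfFinQuot.quotBialgHom I₀ J (BialgHom.id R A) hle
  have hy : ∀ y : CartDual.D R (A ⧸ J), y.ofConv (Ideal.Quotient.mk J a) = 0 := by
    intro y
    have hinv := GrothLib.HopfFinQuot.map_mem_inv (A := B) hε' (CartDual.transpose R q) y
    have h := ha (CartDual.transpose R q y) ((GrothLib.HopfFinQuot.mem_inv_iff_mulLeft he' _).1 hinv)
    exact h
  rw [← Ideal.Quotient.eq_zero_iff_mem]
  exact (Module.forall_dual_apply_eq_zero_iff R _).1 fun φ => hy (WithConv.toConv φ)

end Groth.Agent.S15896
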