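import Groth.Statements.S15899
import Groth.Agent.Lib.KoszulExt.Basic
import Groth.Agent.Lib.OX.Exact
import Groth.Agent.Lib.LocProj.Scheme
import Groth.Agent.Lib.Euler.Coh
import Groth.Agent.Lib.QCoh.GenericPoint
import Mathlib.RingTheory.Regular.Flat
import Mathlib.RingTheory.Localization.Module

set_option autoImplicit false
set_option linter.all false
set_option maxHeartbeats 1000000
universe u
open CategoryTheory AlgebraicGeometry Opposite
open KoszSh

namespace Groth.Agent.S15899

/-- Let X be a scheme, E a finite locally free O_X-module of rank n and s : E → O_X a regular section,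
meaning that around every point of X there is an affine open U and a basis e_1, …, e_n of E(U) over
Γ(X, U) such that s(e_1), …, s(e_n) is a weakly regular sequence in Γ(X, U) (each a non-zero-divisor
modulo the previous ones). Then for every Koszul complex K(E, s) of the cosection s (terms the
exterior powers of E, differential contracting with s) and every q ≥ 1, the q-th homology sheaf of
K(E, s) vanishes. Since the homology sheaf in degree 0 is O_X / s(E) for every such complex, this
says that K(E, s) resolves the structure sheaf of the zero scheme of s by finite locally free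
modules. (The published definition asks that the image ideal of s be locally generated by a regular
sequence and by rank-many sections; the local bases mapping to regular sequences used here are how
the published argument reads that condition.) -/
theorem result {X : Scheme.{u}} (n : ℕ) (E : X.Modules)
    (hE : FlatMod.IsFinLocFreeOfRank n E) (s : E ⟶ Coh.structureModule X)
    (hs : ∀ x : X, ∃ U : X.affineOpens, x ∈ U.1 ∧
      ∃ b : Module.Basis (Fin n) Γ(X, U.1) Γ(E, U.1),
        RingTheory.Sequence.IsWeaklyRegular Γ(X, U.1) (List.ofFn fun k => KoszSh.secForm s U.1 (b k)))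
    (C : KoszSh.Cx E s) (q : ℕ) (hq : 1 ≤ q) :
    Limits.IsZero (C.K.homology q) := by
  classical
  haveI : E.IsQuasicoherent := GrothLib.Euler.isQuasicoherent_of_isFinLocFree fun x => by
    obtain ⟨U, hx, h⟩ := hE x
    exact ⟨U, n, hx, h⟩
  obtain ⟨p, rfl⟩ : ∃ p, q = p + 1 := ⟨q - 1, by omega⟩
  rw [← HomologicalComplex.exactAt_iff_isZero_homology,
    HomologicalComplex.exactAt_iff' _ (p + 1 + 1) (p + 1) p (by simp) (by simp), GrothLib.OX.exact_iff]
  intro x
  obtain ⟨U, hxU, b, hb⟩ := hs x
  rw [ShortComplex.moduleCat_exact_iff]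
  intro e he
  obtain ⟨W, hxW, t, rfl⟩ := TopCat.Presheaf.exists_germ_eq (C.K.X (p + 1)).presheaf e
  have he' : GrothLib.QCoh.stalkLin (C.K.d (p + 1) p) x ((C.K.X (p + 1)).presheaf.germ W x hxW t) = 0 := he
  rw [GrothLib.QCoh.stalkLin_germ, ← map_zero ((C.K.X p).presheaf.germ W x hxW).hom] at he'
  obtain ⟨W', hxW', i₁, i₂, hW'⟩ := TopCat.Presheaf.germ_eq (C.K.X p).presheaf x hxW hxW _ _ he'
  obtain ⟨g, hgW, hxg⟩ := U.2.exists_basicOpen_le ⟨x, hxW'⟩ hxU
  let V : X.affineOpens := ⟨X.basicOpen g, U.2.basicOpen g⟩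
  have hVW : V.1 ≤ W := hgW.trans i₁.le
  -- the differential in the exterior algebra
  have hdiff : ∀ z : ↥(⋀[Γ(X, V.1)]^(p + 1) Γ(E, V.1)),
      ((C.loc p V) ((C.K.d (p + 1) p).app V.1 ((C.loc (p + 1) V).symm z))).1 =
        CliffordAlgebra.contractLeft (KoszSh.secForm s V.1) z.1 := by
    intro z
    have hz : z ∈ Submodule.span Γ(X, V.1) (Set.range (exteriorPower.ιMulti Γ(X, V.1) (p + 1) (M := Γ(E, V.1)))) := by
      rw [exteriorPower.ιMulti_span]; trivial
    induction hz using Submodule.span_induction with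
    | mem z hz =>
      obtain ⟨f, rfl⟩ := hz
      rw [C.rule, LinearEquiv.apply_symm_apply, exteriorPower.ιMulti_apply_coe]
      erw [GrothLib.KoszulExt.contract_ιMulti]
      simp [KoszSh.dGen, Submodule.coe_sum]
    | zero => simp
    | add a b _ _ ha hb => simp only [map_add, Submodule.coe_add, ha, hb]
    | smul r a _ ha =>
      rw [LinearEquiv.map_smul, Scheme.Modules.Hom.app_smul, LinearEquiv.map_smul, Submodule.coe_smul, ha,
        Submodule.coe_smul, map_smul]
  have hdiff2 : ∀ z : ↥(⋀[Γ(X, V.1)]^(p + 1 + 1) Γ(E, V.1)),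
      ((C.loc (p + 1) V) ((C.K.d (p + 1 + 1) (p + 1)).app V.1 ((C.loc (p + 1 + 1) V).symm z))).1 =
        CliffordAlgebra.contractLeft (KoszSh.secForm s V.1) z.1 := by
    intro z
    have hz : z ∈ Submodule.span Γ(X, V.1) (Set.range (exteriorPower.ιMulti Γ(X, V.1) (p + 1 + 1) (M := Γ(E, V.1)))) := by
      rw [exteriorPower.ιMulti_span]; trivial
    induction hz using Submodule.span_induction with
    | mem z hz =>
      obtain ⟨f, rfl⟩ := hz
      rw [C.rule, LinearEquiv.apply_symm_apply, exteriorPower.ιMulti_apply_coe]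
      erw [GrothLib.KoszulExt.contract_ιMulti]
      simp [KoszSh.dGen, Submodule.coe_sum]
    | zero => simp
    | add a b _ _ ha hb => simp only [map_add, Submodule.coe_add, ha, hb]
    | smul r a _ ha =>
      rw [LinearEquiv.map_smul, Scheme.Modules.Hom.app_smul, LinearEquiv.map_smul, Submodule.coe_smul, ha,
        Submodule.coe_smul, map_smul]
  -- regular basis on the smaller open
  haveI := U.2.isLocalization_basicOpen g
  letI : Module Γ(X, U.1) Γ(E, V.1) := Module.compHom _ (algebraMap Γ(X, U.1) Γ(X, V.1))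
  haveI : IsScalarTower Γ(X, U.1) Γ(X, V.1) Γ(E, V.1) := IsScalarTower.of_algebraMap_smul fun _ _ => rfl
  haveI : IsLocalizedModule (Submonoid.powers g) (GrothLib.LocProj.resBasic E g) :=
    GrothLib.LocProj.isLocalizedModule_resBasic E g U.2
  let b' : Module.Basis (Fin n) Γ(X, V.1) Γ(E, V.1) :=
    b.ofIsLocalizedModule Γ(X, V.1) (Submonoid.powers g) (GrothLib.LocProj.resBasic E g)
  have hreg : RingTheory.Sequence.IsWeaklyRegular Γ(X, V.1) (List.ofFn fun k => KoszSh.secForm s V.1 (b' k)) := by
    have h := RingTheory.Sequence.IsWeaklyRegular.of_isLocalization Γ(X, V.1) (Submonoid.powers g) hb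
    rw [List.map_ofFn] at h
    convert h using 2
    funext k
    rw [Function.comp_apply, Module.Basis.ofIsLocalizedModule_apply]
    exact ConcreteCategory.congr_hom (s.mapPresheaf.naturality (homOfLE (X.basicOpen_le g)).op) (b k)
  let tV := (C.K.X (p + 1)).presheaf.map (homOfLE hVW).op t
  have htV : (C.K.d (p + 1) p).app V.1 tV = 0 := by
    have h1 := ConcreteCategory.congr_hom ((C.K.d (p + 1) p).mapPresheaf.naturality (homOfLE hVW).op) t
    refine h1.trans ?_
    show (C.K.X p).presheaf.map (homOfLE hVW).op ((C.K.d (p + 1) p).app W t) = 0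
    rw [show (homOfLE hVW) = homOfLE hgW ≫ i₁ from Subsingleton.elim _ _, op_comp, Functor.map_comp,
      ConcreteCategory.comp_apply, hW', map_zero, map_zero]
  obtain ⟨y, hy, hcy⟩ := GrothLib.KoszulExt.exists_contract_eq b' (KoszSh.secForm s V.1) hreg (q := p + 1)
    (by omega) (C.loc (p + 1) V tV).2 (by
      rw [← hdiff, LinearEquiv.symm_apply_apply, htV, map_zero]; rfl)
  refine ⟨(C.K.X (p + 1 + 1)).presheaf.germ V.1 x hxg ((C.loc (p + 1 + 1) V).symm ⟨y, hy⟩), ?_⟩
  show GrothLib.QCoh.stalkLin (C.K.d (p + 1 + 1) (p + 1)) x _ = _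
  rw [GrothLib.QCoh.stalkLin_germ]
  have hval : (C.K.d (p + 1 + 1) (p + 1)).app V.1 ((C.loc (p + 1 + 1) V).symm ⟨y, hy⟩) = tV := by
    refine (C.loc (p + 1) V).injective (Subtype.ext ?_)
    rw [hdiff2]; exact hcy
  rw [hval]
  exact TopCat.Presheaf.germ_res_apply (C.K.X (p + 1)).presheaf (homOfLE hVW) x hxg t

end Groth.Agent.S15899
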