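import Groth.Statements.S1590
import Groth.Agent.Lib.NodeOpen11.LCI

set_option autoImplicit false
universe u
open CategoryTheory CategoryTheory.Limits AlgebraicGeometry
open Curves

namespace Groth.Agent.S1590

set_option backward.isDefEq.respectTransparency false

open IsLocalRing TensorProduct in
theorem isCM_of_isReduced {R : Type u} [CommRing R] [IsLocalRing R] [IsNoetherianRing R] [_root_.IsReduced R]
    (hd : ringKrullDim R ≤ 1) : LocCoh.IsCohenMacaulayLocalRing R := by
  rw [GrothLib.CurveLocus.isCM_iff_of_dim_le_one hd]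
  refine or_iff_not_imp_right.2 fun hcon => ?_
  push Not at hcon
  have hsub : (maximalIdeal R : Set R) ⊆ ⋃ p ∈ minimalPrimes R, (p : Set R) := by
    intro x hx
    obtain ⟨y, hxy, hy⟩ := hcon x hx
    have : y ∉ sInf (minimalPrimes R) := by
      rw [minimalPrimes, Ideal.sInf_minimalPrimes, show (⊥ : Ideal R).radical = nilradical R from rfl, nilradical_eq_zero]
      exact hy
    rw [Submodule.mem_sInf] at this
    push Not at this
    obtain ⟨p, hp, hyp⟩ := this
    refine Set.mem_biUnion hp (Or.resolve_right (hp.1.1.mem_or_mem ?_) hyp)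
    rw [hxy]
    exact zero_mem _
  obtain ⟨p, hp, hle⟩ := (Ideal.subset_union_prime_finite (minimalPrimes.finite_of_isNoetherianRing R) ⊥ ⊥
    (fun p hp _ _ => hp.1.1)).1 hsub
  have hm : maximalIdeal R ∈ minimalPrimes R := by
    rwa [(maximalIdeal.isMaximal R).eq_of_le hp.1.1.ne_top hle]
  rw [← IsLocalRing.maximalIdeal_height_eq_ringKrullDim, Ideal.height_eq_zero_iff.2 hm]
  rfl

open TensorProduct in
theorem map_fitt_le {R A B : Type u} [CommRing R] [CommRing A] [CommRing B] [Algebra R A] [Algebra R B]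
    [Algebra A B] [IsScalarTower R A B] [Algebra.FiniteType R A] (h : Function.Surjective (algebraMap A B)) (n : ℕ) :
    (Fitt.ideal A (KaehlerDifferential R A) n).map (algebraMap A B) ≤ Fitt.ideal B (KaehlerDifferential R B) n := by
  rw [← GrothLib.Fitting.ideal_baseChange B]
  exact GrothLib.Fitting.ideal_le_of_surjective _ (KaehlerDifferential.mapBaseChange_surjective R A B h) n

open GrothLib.NodeOpen11 in
theorem mem_ramSet_of_surjective {R A B : Type u} [CommRing R] [CommRing A] [CommRing B] [Algebra R A] [Algebra R B]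
    [Algebra A B] [IsScalarTower R A B] [Algebra.FiniteType R A] (h : Function.Surjective (algebraMap A B))
    (q : PrimeSpectrum B) (hq : q ∈ ramSet R B) : PrimeSpectrum.comap (algebraMap A B) q ∈ ramSet R A := by
  haveI : Algebra.FiniteType R B := Algebra.FiniteType.of_surjective (IsScalarTower.toAlgHom R A B) h
  set I := fitt1 R A
  set J := fitt1 R B
  have hle : I ≤ J.comap (algebraMap A B) := Ideal.map_le_iff_le_comap.1 (map_fitt_le h 1)
  let g : A ⧸ I →+* B ⧸ J := Ideal.quotientMap J (algebraMap A B) hle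
  letI : Algebra (A ⧸ I) (B ⧸ J) := g.toAlgebra
  haveI : IsScalarTower R (A ⧸ I) (B ⧸ J) := IsScalarTower.of_algebraMap_eq fun x => by
    show algebraMap R (B ⧸ J) x = g (Ideal.Quotient.mk I (algebraMap R A x))
    rw [Ideal.quotientMap_mk, ← IsScalarTower.algebraMap_apply R A B]
    rfl
  haveI : Algebra.FiniteType R (A ⧸ I) :=
    Algebra.FiniteType.of_surjective (Ideal.Quotient.mkₐ R _) Ideal.Quotient.mk_surjective
  haveI : Algebra.FiniteType R (B ⧸ J) :=
    Algebra.FiniteType.of_surjective (Ideal.Quotient.mkₐ R _) Ideal.Quotient.mk_surjective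
  obtain ⟨Q, hQ, rfl⟩ := hq
  refine ⟨PrimeSpectrum.comap g Q, ?_, rfl⟩
  rw [← GrothLib.Fitting.zeroLocus_ideal_zero, PrimeSpectrum.mem_zeroLocus, SetLike.coe_subset_coe] at hQ ⊢
  have hs : Function.Surjective (algebraMap (A ⧸ I) (B ⧸ J)) := by
    intro z
    obtain ⟨b, rfl⟩ := Ideal.Quotient.mk_surjective z
    obtain ⟨a, rfl⟩ := h b
    exact ⟨Ideal.Quotient.mk I a, rfl⟩
  exact Ideal.map_le_iff_le_comap.1 ((map_fitt_le hs 0).trans hQ)


/-- Let X be locally of finite type over k, with all irreducible components of dimension one and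
at-worst-nodal singularities. A reduced closed subscheme Y of X all of whose irreducible components
have dimension one again has at-worst-nodal singularities. -/
theorem result (k : Type u) [Field k] (X : Scheme.{u}) [X.Over (Spec (CommRingCat.of k))] [LocallyOfFiniteType (X ↘ (Spec (CommRingCat.of k)))]
    (hequi : ∀ Z ∈ irreducibleComponents (X : Type u), topologicalKrullDim Z = 1) (hX : Curv2.AtWorstNodal k X)
    (I : X.IdealSheafData) [IsReduced I.subscheme]
    (hY : ∀ Z ∈ irreducibleComponents (I.subscheme : Type u), topologicalKrullDim Z = 1) :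
    @Curv2.AtWorstNodal k _ I.subscheme ⟨I.subschemeι ≫ (X ↘ (Spec (CommRingCat.of k)))⟩ := by
  classical
  set sX := X ↘ (Spec (CommRingCat.of k))
  set sY := I.subschemeι ≫ sX
  obtain ⟨-, hgX⟩ := GrothLib.NodeOpen11.goodSet_field sX hequi
  intro y _
  show GrothLib.NodeOpen11.Good sY y
  obtain ⟨U, hU, hxU, -⟩ := exists_isAffineOpen_mem_and_subset (X := X) (x := I.subschemeι y) (U := ⊤) trivial
  haveI := hU.isOpenImmersion_fromSpec
  let A : Type u := Γ(X, U)
  letI : Algebra k A := (Spec.preimage (hU.fromSpec ≫ sX)).hom.toAlgebra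
  have hsA : Spec.map (CommRingCat.ofHom (algebraMap k A)) = hU.fromSpec ≫ sX := by
    show Spec.map (CommRingCat.ofHom (Spec.preimage _).hom) = _
    rw [CommRingCat.ofHom_hom, Spec.map_preimage]
  haveI : LocallyOfFiniteType (Spec.map (CommRingCat.ofHom (algebraMap k A))) := by rw [hsA]; infer_instance
  haveI : Algebra.FiniteType k A :=
    RingHom.finiteType_algebraMap.1 ((HasRingHomProperty.Spec_iff (P := @LocallyOfFiniteType)).1 ‹_›)
  let B : Type u := A ⧸ I.ideal ⟨U, hU⟩
  haveI : Algebra.FiniteType k B :=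
    Algebra.FiniteType.of_surjective (Ideal.Quotient.mkₐ k _) Ideal.Quotient.mk_surjective
  let j := I.subschemeCover.f ⟨U, hU⟩
  have hj : j ≫ I.subschemeι = Spec.map (CommRingCat.ofHom (algebraMap A B)) ≫ hU.fromSpec := by
    rw [Scheme.IdealSheafData.subschemeCover_map_subschemeι, Scheme.IdealSheafData.glueDataObjι_ι]
    rfl
  have hjs : j ≫ sY = Spec.map (CommRingCat.ofHom (algebraMap k B)) := by
    rw [← Category.assoc, hj, Category.assoc, ← hsA, ← Spec.map_comp]
    rfl
  obtain ⟨q, rfl⟩ : y ∈ Set.range j := by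
    show y ∈ (I.subschemeCover.f ⟨U, hU⟩).opensRange
    rw [Scheme.IdealSheafData.opensRange_subschemeCover_map]
    exact hxU
  have hjs' : j ≫ sY = Spec.map (CommRingCat.ofHom (algebraMap k B)) ≫
      Spec.map (CommRingCat.ofHom (algebraMap k k)) := by
    rw [hjs]; erw [Spec.map_id, Category.comp_id]
  have hequiB : ∀ W ∈ irreducibleComponents (Spec (CommRingCat.of B) : Type u), topologicalKrullDim W = 1 :=
    GrothLib.NodeEt.components_dim_one_of_etale (k := k) (k' := k) sY _ j hjs' hY
  have hequiA : ∀ W ∈ irreducibleComponents (Spec (CommRingCat.of A) : Type u), topologicalKrullDim W = 1 :=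
    GrothLib.NodeEt.components_dim_one_of_etale (k := k) (k' := k) sX
      (Spec.map (CommRingCat.ofHom (algebraMap k A))) hU.fromSpec
      (by rw [hsA]; erw [Spec.map_id, Category.comp_id]) hequi
  rw [← GrothLib.NodeOpen11.good_iff_of_etale sY _ j hjs q, GrothLib.NodeOpen11.good_iff hequiB q]
  refine ⟨?_, fun hq => ?_⟩
  · haveI : LocallyOfFiniteType (Spec.map (CommRingCat.ofHom (algebraMap k B))) :=
      (HasRingHomProperty.Spec_iff (P := @LocallyOfFiniteType)).2 (RingHom.finiteType_algebraMap.2 ‹_›)
    haveI := LocallyOfFiniteType.isLocallyNoetherian (Spec.map (CommRingCat.ofHom (algebraMap k B)))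
    haveI : IsReduced (Spec (CommRingCat.of B)) := isReduced_of_isOpenImmersion j
    rw [GrothLib.NodeOpen11.isCMAt_field_iff]
    refine isCM_of_isReduced ?_
    have h1 := (GrothLib.Equidim6.equidim_iff (Spec.map (CommRingCat.ofHom (algebraMap k B))) 1).1
      (by simpa using hequiB) q
    rw [GrothLib.AffDom.localDim_eq (Spec.map (CommRingCat.ofHom (algebraMap k B))) q] at h1
    exact le_trans (le_add_of_nonneg_left (GrothLib.AffDom.ptDim_nonneg (X := Spec (CommRingCat.of B)) q)) (le_of_eq h1)
  · have h2 := mem_ramSet_of_surjective (R := k) (A := A) (B := B) Ideal.Quotient.mk_surjective q hq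
    set p : PrimeSpectrum A := PrimeSpectrum.comap (algebraMap A B) q
    have hgood : GrothLib.NodeOpen11.Good sX (hU.fromSpec p) :=
      (hgX _).1 ((GrothLib.NodeOpen11.atWorstNodal_iff_forall_good sX hequi).1 hX _)
    rw [← GrothLib.NodeOpen11.good_iff_of_etale sX _ hU.fromSpec hsA.symm p,
      GrothLib.NodeOpen11.good_iff hequiA p] at hgood
    exact hgood.2 h2

end Groth.Agent.S1590
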