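import Groth.Statements.S15900
import Groth.Agent.Lib.AffHom.Basic

set_option autoImplicit false
set_option linter.all false
universe u
open CategoryTheory AlgebraicGeometry Opposite
open KoszSh

namespace Groth.Agent.S15900

/-- Let X be a scheme, E and F finite locally free O_X-modules with cosections s : E → O_X and t : F →
O_X, and let f : E → F be a morphism of O_X-modules with t ∘ f = s. Then for every Koszul complex
K(E, s) of s and every Koszul complex K(F, t) of t there is a unique morphism of chain complexes of
O_X-modules K(E, s) → K(F, t) whose degree-p component sends, on sections over every affine open U,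
the decomposable section e_1 ∧ … ∧ e_p to f(e_1) ∧ … ∧ f(e_p), for all e_1, …, e_p in E(U) and all p
≥ 0 (the p-th exterior power of f, read through the affine-local identifications of the terms with
exterior powers of sections). (The published statement is for arbitrary O_X-modules with a map to
O_X; this row takes E and F locally free of finite rank, the case the surrounding text works in.) -/
theorem result {X : Scheme.{u}} (E F : X.Modules)
    (hE : FlatMod.IsFinLocFree E) (hF : FlatMod.IsFinLocFree F)
    (s : E ⟶ Coh.structureModule X) (t : F ⟶ Coh.structureModule X) (f : E ⟶ F) (hf : f ≫ t = s)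
    (C : KoszSh.Cx E s) (D : KoszSh.Cx F t) :
    ∃! φ : C.K ⟶ D.K, ∀ (p : ℕ) (U : X.affineOpens) (e : Fin p → Γ(E, U.1)),
      (φ.f p).app U.1 ((C.loc p U).symm (exteriorPower.ιMulti _ p e)) =
        (D.loc p U).symm (exteriorPower.ιMulti _ p (fun j => f.app U.1 (e j))) := by
  let fU : ∀ U : X.Opens, Γ(E, U) →ₗ[Γ(X, U)] Γ(F, U) := fun U =>
    { toFun := fun e => f.app U e
      map_add' := fun a b => map_add _ a b
      map_smul' := fun r a => Scheme.Modules.Hom.app_smul f r a }
  have key : ∀ (p : ℕ) (N : X.Modules) (a b : C.K.X p ⟶ N),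
      (∀ (U : X.affineOpens) (e : Fin p → Γ(E, U.1)),
        a.app U.1 ((C.loc p U).symm (exteriorPower.ιMulti _ p e)) =
          b.app U.1 ((C.loc p U).symm (exteriorPower.ιMulti _ p e))) → a = b := by
    intro p N a b h
    refine GrothLib.AffHom.hom_ext fun U m => ?_
    obtain ⟨x, rfl⟩ := (C.loc p U).symm.surjective m
    have hx : x ∈ Submodule.span Γ(X, U.1) (Set.range (exteriorPower.ιMulti Γ(X, U.1) p (M := Γ(E, U.1)))) := by
      rw [exteriorPower.ιMulti_span]; trivial
    induction hx using Submodule.span_induction with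
    | mem y hy => obtain ⟨e, rfl⟩ := hy; exact h U e
    | zero => simp
    | add y z _ _ hy hz => simp only [map_add, hy, hz]
    | smul r y _ hy => rw [map_smul, Scheme.Modules.Hom.app_smul, Scheme.Modules.Hom.app_smul, hy]
  let ψ : ∀ (p : ℕ) (U : X.affineOpens), Γ(C.K.X p, U.1) →ₗ[Γ(X, U.1)] Γ(D.K.X p, U.1) := fun p U =>
    (D.loc p U).symm.toLinearMap ∘ₗ exteriorPower.map p (fU U.1) ∘ₗ (C.loc p U).toLinearMap
  have hψ : ∀ (p : ℕ) (U : X.affineOpens) (e : Fin p → Γ(E, U.1)),
      ψ p U ((C.loc p U).symm (exteriorPower.ιMulti _ p e)) =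
        (D.loc p U).symm (exteriorPower.ιMulti _ p (fun j => f.app U.1 (e j))) := by
    intro p U e
    show (D.loc p U).symm (exteriorPower.map p (fU U.1) ((C.loc p U) ((C.loc p U).symm _))) = _
    rw [LinearEquiv.apply_symm_apply, exteriorPower.map_apply_ιMulti]
    rfl
  have hres : ∀ (p : ℕ) (U V : X.affineOpens) (h : V.1 ≤ U.1) (m : Γ(C.K.X p, U.1)),
      (D.K.X p).presheaf.map (homOfLE h).op (ψ p U m) =
        ψ p V ((C.K.X p).presheaf.map (homOfLE h).op m) := by
    intro p U V h m
    obtain ⟨x, rfl⟩ := (C.loc p U).symm.surjective m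
    have hx : x ∈ Submodule.span Γ(X, U.1) (Set.range (exteriorPower.ιMulti Γ(X, U.1) p (M := Γ(E, U.1)))) := by
      rw [exteriorPower.ιMulti_span]; trivial
    induction hx using Submodule.span_induction with
    | mem y hy =>
      obtain ⟨e, rfl⟩ := hy
      rw [hψ]
      have h1 : (C.K.X p).presheaf.map (homOfLE h).op ((C.loc p U).symm (exteriorPower.ιMulti _ p e)) =
          (C.loc p V).symm (exteriorPower.ιMulti _ p (fun j => E.presheaf.map (homOfLE h).op (e j))) :=
        C.loc_res p U V h e
      rw [h1, hψ]
      refine (D.loc_res p U V h (fun j => f.app U.1 (e j))).trans ?_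
      congr 2
      funext j
      exact (PresheafOfModules.naturality_apply f.val (homOfLE h).op (e j)).symm
    | zero => simp
    | add y z _ _ hy hz => simp only [map_add, hy, hz]
    | smul r y _ hy =>
      rw [map_smul, map_smul, Scheme.Modules.map_smul, Scheme.Modules.map_smul, map_smul, hy]
  choose g hg using fun p => GrothLib.AffHom.exists_hom (ψ p) (hres p)
  have hg' : ∀ (p : ℕ) (U : X.affineOpens) (e : Fin p → Γ(E, U.1)),
      (g p).app U.1 ((C.loc p U).symm (exteriorPower.ιMulti _ p e)) =
        (D.loc p U).symm (exteriorPower.ιMulti _ p (fun j => f.app U.1 (e j))) := fun p U e => by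
    rw [hg, hψ]
  have hst : ∀ (U : X.Opens) (e : Γ(E, U)), secForm t U (f.app U e) = secForm s U e := by
    intro U e
    subst hf
    rfl
  have hcomm : ∀ p, g (p + 1) ≫ D.K.d (p + 1) p = C.K.d (p + 1) p ≫ g p := by
    intro p
    refine key _ _ _ _ fun U e => ?_
    show (D.K.d (p + 1) p).app U.1 ((g (p + 1)).app U.1 _) = (g p).app U.1 ((C.K.d (p + 1) p).app U.1 _)
    rw [hg', D.rule, C.rule]
    simp only [dGen, map_sum, map_smul, Scheme.Modules.Hom.app_smul, hg', hst]
  refine ⟨⟨g, fun i j hij => ?_⟩, hg', fun φ hφ => ?_⟩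
  · obtain rfl : j + 1 = i := hij
    exact hcomm j
  · ext p : 1
    exact key p _ _ _ fun U e => (hφ p U e).trans (hg' p U e).symm

end Groth.Agent.S15900
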