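import Groth.Statements.S15902
import Groth.Agent.S15899
import Groth.Agent.Lib.ASBun21.TautFree
import Groth.Agent.Lib.K0Sub.RankNilp
import Groth.Agent.Lib.RegSeqLoc.Scheme
import Groth.Agent.Lib.CanonMod.CM
import Groth.Agent.Lib.CMFree.Params
import Groth.Agent.Lib.KoszulCover12.Algebra
import Groth.Agent.Lib.Depth17.Global

set_option autoImplicit false
set_option linter.all false
set_option backward.isDefEq.respectTransparency false
universe u
open CategoryTheory AlgebraicGeometry Opposite
open KoszSh

namespace Groth.Agent.S15902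

/-- Let X be a locally Noetherian scheme all of whose local rings are Cohen–Macaulay, i : Y → X a closed
immersion and c a natural number such that Y is a local complete intersection of codimension c in
the following sense: around every point of Y there is an affine open of X on which c sections
generate the ideal sheaf of Y, and for every point y of Y the ideal of Y in the local ring O_{X,y}
(the kernel of O_{X,y} → O_{Y,y}) has height at least c. Then around every point of Y there is an
affine open U of X and sections f_1, …, f_c ∈ Γ(X, U) which generate the ideal of Y on U and form a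
weakly regular sequence in Γ(X, U); consequently, on the open subscheme U, for every cosection s :
O_U^c → O_U sending the k-th standard basis section to f_k and every Koszul complex K(O_U^c, s) of
s, the homology sheaves of K(O_U^c, s) vanish in every degree q ≥ 1, so that K(O_U^c, s) is a finite
free resolution of the restriction of i_*O_Y to U. (The published statement takes Y a local complete
intersection in a smooth variety X over a field, the ideal being generated near each closed point by
codim(Y, X) elements, and asserts the existence of such a neighbourhood with a free Koszul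
resolution; the hypotheses here are what that gives at every point of Y over a Cohen–Macaulay base,
the existence of the Koszul complex is not asserted, and the resolution property is stated for every
Koszul complex of the local free pair.) -/
theorem result {X Y : Scheme.{u}}
    [IsLocallyNoetherian X] (hCM : ∀ x : X, LocCoh.IsCohenMacaulayLocalRing (X.presheaf.stalk x))
    (i : Y ⟶ X) [IsClosedImmersion i] (c : ℕ)
    (hgen : ∀ y : Y, ∃ U : X.affineOpens, i.base y ∈ U.1 ∧ ∃ g : Fin c → Γ(X, U.1), i.ker.ideal U = Ideal.span (Set.range g))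
    (hht : ∀ y : Y, (c : ℕ∞) ≤ (RingHom.ker (i.stalkMap y).hom).height) :
    ∀ y : Y, ∃ U : X.affineOpens, i.base y ∈ U.1 ∧ ∃ f : Fin c → Γ(X, U.1),
      i.ker.ideal U = Ideal.span (Set.range f) ∧ RingTheory.Sequence.IsWeaklyRegular Γ(X, U.1) (List.ofFn f) ∧
      ∀ (s : FlatMod.freeMod (↑U.1) c ⟶ Coh.structureModule (↑U.1)),
        (∀ k : Fin c, KoszSh.secForm s ⊤ ((Limits.Sigma.ι (fun _ : Fin c => Coh.structureModule (↑U.1)) k).app ⊤
            (OmegaSh.strSect (↑U.1) ⊤ 1)) = U.1.topIso.inv (f k)) →
        ∀ (C : KoszSh.Cx (FlatMod.freeMod (↑U.1) c) s) (q : ℕ), 1 ≤ q → Limits.IsZero (C.K.homology q) := by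
  intro y
  obtain ⟨U, hyU, g, hg⟩ := hgen y
  haveI := IsLocallyNoetherian.component_noetherian (X := X) U
  let x := i.base y
  let R := X.presheaf.stalk x
  let germ : Γ(X, U.1) →+* R := (X.presheaf.germ U.1 x hyU).hom
  let rs : List R := (List.ofFn g).map germ
  have hI : RingHom.ker (i.stalkMap y).hom = Ideal.ofList rs := by
    rw [← Ideal.map_ofList, GrothLib.RegSeqLoc.ker_stalkMap i y U hyU, hg]
    congr 1
    show Ideal.span (Set.range g) = Ideal.span _
    congr 1
    ext; simp
  have hreg : RingTheory.Sequence.IsWeaklyRegular R rs := by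
    rcases Nat.eq_zero_or_pos c with hc | hc
    · have : rs = [] := List.eq_nil_of_length_eq_zero (by simp [rs, hc])
      rw [this]; exact RingTheory.Sequence.IsWeaklyRegular.nil R R
    haveI := hCM x
    haveI : IsNoetherianRing R := inferInstance
    let J := RingHom.ker (i.stalkMap y).hom
    have hle : J ≤ IsLocalRing.maximalIdeal R := IsLocalRing.le_maximalIdeal (RingHom.ker_ne_top _)
    have hmem : ∀ r ∈ rs, r ∈ IsLocalRing.maximalIdeal R := fun r hr =>
      hle (hI.ge (Ideal.subset_span hr))
    have hdim : ∀ (S : Type u) [CommRing S] [IsLocalRing S] [IsNoetherianRing S],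
        ∃ n : ℕ, ringKrullDim S = n := fun S _ _ _ => by
      refine ⟨(IsLocalRing.maximalIdeal S).height.toNat, ?_⟩
      rw [← IsLocalRing.maximalIdeal_height_eq_ringKrullDim]
      exact congrArg _ (ENat.natCast_toNat ((IsLocalRing.maximalIdeal S).height_ne_top
        (IsLocalRing.maximalIdeal.isMaximal _).ne_top)).symm
    obtain ⟨n, hn⟩ := hdim R
    obtain ⟨hgt, hgt'⟩ := ENat.ne_top_iff_exists.1 (Ideal.height_ne_top (I := J) (RingHom.ker_ne_top _))
    have hd : ∃ d : ℕ, ringKrullDim (R ⧸ J) = d := by
      haveI : Nontrivial (R ⧸ J) := Ideal.Quotient.nontrivial_iff.2 (RingHom.ker_ne_top _)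
      haveI : IsLocalRing (R ⧸ J) := IsLocalRing.of_surjective' (Ideal.Quotient.mk J) Ideal.Quotient.mk_surjective
      exact hdim (R ⧸ J)
    obtain ⟨d, hd⟩ := hd
    have hsum : hgt + d = n := GrothLib.CanonMod.height_add_dim_quotient J (RingHom.ker_ne_top _) hgt'.symm hd hn
    have hcg : c ≤ hgt := by
      have := hht y
      rw [← hgt'] at this
      exact_mod_cast this
    have h := GrothLib.CMFree.isWeaklyRegular_of_dim rs hmem ⊥ n bot_le (by
      have := GrothLib.CanonMod.cm_le_idealDepth (R := R) hn
      exact this.trans (GrothLib.Depth17.idealDepth_congr _ (Submodule.quotEquivOfEqBot _ rfl).symm).le) (by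
      intro m hm
      rw [bot_sup_eq, ← hI, hd, show rs.length = c by simp [rs]] at hm
      have : m ≤ d + c := by exact_mod_cast hm
      omega)
    exact ((Submodule.quotEquivOfEqBot (⊥ : Ideal R) rfl).isWeaklyRegular_congr rs).1 h
  let algX : Algebra Γ(X, U.1) R := TopCat.Presheaf.algebra_section_stalk X.presheaf (⟨x, hyU⟩ : U.1)
  let p := (U.2.primeIdealOf ⟨x, hyU⟩).asIdeal
  have hloc : IsLocalization.AtPrime R p := U.2.isLocalization_stalk ⟨x, hyU⟩
  obtain ⟨g₁, hg₁, h₁⟩ := GrothLib.RegSeqLoc.exists_away_isWeaklyRegular p.primeCompl R (List.ofFn g) hreg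
  let U' : X.affineOpens := ⟨X.basicOpen g₁, U.2.basicOpen g₁⟩
  have hle' : U'.1 ≤ U.1 := X.basicOpen_le g₁
  let res : Γ(X, U.1) →+* Γ(X, U'.1) := (X.presheaf.map (homOfLE hle').op).hom
  let _ : Algebra Γ(X, U.1) Γ(X, U'.1) := res.toAlgebra
  haveI : IsLocalization.Away g₁ Γ(X, U'.1) := U.2.isLocalization_basicOpen _
  have hwr : RingTheory.Sequence.IsWeaklyRegular Γ(X, U'.1) (List.ofFn fun k => res (g k)) := by
    have := h₁ (Submonoid.powers g₁) Γ(X, U'.1) (IsLocalization.Away.algebraMap_isUnit g₁)
    rw [List.map_ofFn] at this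
    exact this
  refine ⟨U', (Scheme.mem_basicOpen _ _ x hyU).2
    (IsLocalization.map_units R (⟨g₁, hg₁⟩ : p.primeCompl)), fun k => res (g k), ?_, hwr, ?_⟩
  · rw [← i.ker.map_ideal (U := U') (V := U) hle', hg, Ideal.map_span, ← Set.range_comp]
    rfl
  intro s hs C q hq
  refine Groth.Agent.S15899.result c _ (GrothLib.K0Sub.isFinLocFreeOfRank_freeMod c) s (fun z => ?_) C q hq
  haveI : IsAffine U'.1.toScheme := U'.2
  refine ⟨⟨⊤, isAffineOpen_top _⟩, trivial, GrothLib.ASBun21.stdBasis U'.1.toScheme ⊤, ?_⟩
  have heq : (List.ofFn fun k => KoszSh.secForm s ⊤ (GrothLib.ASBun21.stdBasis U'.1.toScheme ⊤ k)) =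
      (List.ofFn fun k => res (g k)).map U'.1.topIso.commRingCatIsoToRingEquiv.symm := by
    rw [List.map_ofFn]
    congr 1
    funext k
    rw [GrothLib.ASBun21.stdBasis_apply]
    exact hs k
  show RingTheory.Sequence.IsWeaklyRegular _ (List.ofFn fun k => KoszSh.secForm s ⊤ _)
  rw [heq]
  exact GrothLib.KoszulCover12.isWeaklyRegular_map_equiv _ _ hwr

end Groth.Agent.S15902
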