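import Groth.Statements.S15905
import Groth.Agent.Lib.DPLat.Orbit

set_option autoImplicit false
open Surf

namespace Groth.Agent.S15905

open W4c3severiratdp in
/-- Work in the lattice of vectors (a; b_1, …, b_δ), standing for divisor classes a ℓ − Σ b_i e_i on the
blow-up of the projective plane at δ points written in a standard basis, with intersection form a a'
− Σ b_i b_i' and canonical class K = (−3; −1, …, −1); a conic class is a class Q with Q·Q = 0 and
K·Q = −2. Then the number of conic classes is 2160 for δ = 8, 126 for δ = 7, 27 for δ = 6, 10 for δ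
= 5, 5 for δ = 4, 3 for δ = 3 and 2 for δ = 2. -/
theorem result :
    {v : DP 8 | IsConic v}.ncard = 2160 ∧ {v : DP 7 | IsConic v}.ncard = 126 ∧
      {v : DP 6 | IsConic v}.ncard = 27 ∧ {v : DP 5 | IsConic v}.ncard = 10 ∧
      {v : DP 4 | IsConic v}.ncard = 5 ∧ {v : DP 3 | IsConic v}.ncard = 3 ∧
      {v : DP 2 | IsConic v}.ncard = 2 := by
  open GrothLib.DPLat in
  refine ⟨?_, ?_, ?_, ?_, ?_, ?_, ?_⟩ <;> rw [conic_ncard _ (by norm_num)] <;> decide +kernel

end Groth.Agent.S15905
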