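import Groth.Statements.S15907
import Groth.Agent.Lib.DPLat.Orbit

set_option autoImplicit false
open Surf

namespace Groth.Agent.S15907

open W4c3severiratdp in
/-- Work in the lattice of vectors (a; b_1, …, b_δ), standing for divisor classes a ℓ − Σ b_i e_i on the
blow-up of the projective plane at δ points written in a standard basis, with intersection form a a'
− Σ b_i b_i' and canonical class K = (−3; −1, …, −1); a conic class is a class Q with Q·Q = 0 and
K·Q = −2, an exceptional class (the class of a (−1)-curve) is a class E with E·E = −1 and K·E = −1,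
and the Weyl group W_δ is the group of additive automorphisms of the lattice preserving the form and
fixing K. For 2 ≤ δ ≤ 8 the intersection product Q_1·Q_2 determines the W_δ-orbit of an ordered pair
(Q_1, Q_2) of conic classes, the only exception being δ = 8 with Q_1·Q_2 = 4: if (Q_1, Q_2) and
(Q_1', Q_2') are ordered pairs of conic classes with Q_1·Q_2 = Q_1'·Q_2', and not both δ = 8 and
Q_1·Q_2 = 4, then some element of W_δ carries Q_1 to Q_1' and Q_2 to Q_2'. -/
theorem result (δ : ℕ) (h2 : 2 ≤ δ) (h8 : δ ≤ 8)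
    (v₁ v₂ w₁ w₂ : DP δ) (hv₁ : IsConic v₁) (hv₂ : IsConic v₂) (hw₁ : IsConic w₁) (hw₂ : IsConic w₂)
    (heq : form v₁ v₂ = form w₁ w₂) (hexc : ¬ (δ = 8 ∧ form v₁ v₂ = 4)) :
    ∃ g : DP δ ≃ₗ[ℤ] DP δ, IsWeyl g ∧ g v₁ = w₁ ∧ g v₂ = w₂ := by
  exact GrothLib.DPLat.pairs_transitive h2 h8 hv₁ hv₂ hw₁ hw₂ heq hexc

end Groth.Agent.S15907
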