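import Groth.Statements.S15908
import Groth.Agent.Lib.DPLat.Orbit

set_option autoImplicit false
open Surf

namespace Groth.Agent.S15908

open W4c3severiratdp in
/-- Work in the lattice of vectors (a; b_1, …, b_δ), standing for divisor classes a ℓ − Σ b_i e_i on the
blow-up of the projective plane at δ points written in a standard basis, with intersection form a a'
− Σ b_i b_i' and canonical class K = (−3; −1, …, −1); a conic class is a class Q with Q·Q = 0 and
K·Q = −2, an exceptional class (the class of a (−1)-curve) is a class E with E·E = −1 and K·E = −1,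
and the Weyl group W_δ is the group of additive automorphisms of the lattice preserving the form and
fixing K. For δ = 8 the ordered pairs (Q_1, Q_2) of conic classes with Q_1·Q_2 = 4 form exactly two
W_8-orbits: there are two such pairs that no element of W_8 carries one to the other, and every such
pair is carried by an element of W_8 to one of these two. -/
theorem result :
    ∃ p₁ p₂ q₁ q₂ : DP 8, IsConic p₁ ∧ IsConic p₂ ∧ IsConic q₁ ∧ IsConic q₂ ∧ form p₁ p₂ = 4 ∧ form q₁ q₂ = 4 ∧
      (¬ ∃ g : DP 8 ≃ₗ[ℤ] DP 8, IsWeyl g ∧ g p₁ = q₁ ∧ g p₂ = q₂) ∧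
      ∀ v₁ v₂ : DP 8, IsConic v₁ → IsConic v₂ → form v₁ v₂ = 4 →
        ∃ g : DP 8 ≃ₗ[ℤ] DP 8, IsWeyl g ∧ ((g v₁ = p₁ ∧ g v₂ = p₂) ∨ (g v₁ = q₁ ∧ g v₂ = q₂)) := by
  open GrothLib.DPLat in
  obtain ⟨h0, hA, hB, hA4, hB4, hne, hall⟩ := pairs_four
  exact ⟨q0, qA, q0, qB, h0, hA, h0, hB, hA4, hB4, hne, hall⟩

end Groth.Agent.S15908
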