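import Groth.Statements.S1591
import Groth.Agent.Lib.NodeOpen11.BaseChange

set_option autoImplicit false
universe u
open CategoryTheory CategoryTheory.Limits AlgebraicGeometry
open Curves

namespace Groth.Agent.S1591

/-- Let f : X → S be flat and locally of finite presentation. There is a largest open subscheme U of X
on which f is at-worst-nodal of relative dimension one, and its formation commutes with base change:
for every g : S' → S the preimage of U in X ×_S S' is the largest open on which the base change of f
is at-worst-nodal of relative dimension one. -/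
theorem result {X S : Scheme.{u}} (f : X ⟶ S) [Flat f] [LocallyOfFinitePresentation f] :
    ∃ U : X.Opens, (Curv2.IsNodalFamily (U.ι ≫ f) ∧ ∀ V : X.Opens, Curv2.IsNodalFamily (V.ι ≫ f) → V ≤ U) ∧
      ∀ (S' : Scheme.{u}) (g : S' ⟶ S),
        Curv2.IsNodalFamily ((pullback.fst f g ⁻¹ᵁ U).ι ≫ pullback.snd f g) ∧
        ∀ V : (pullback f g).Opens, Curv2.IsNodalFamily (V.ι ≫ pullback.snd f g) → V ≤ pullback.fst f g ⁻¹ᵁ U := by
  refine ⟨⟨_, GrothLib.NodeOpen11.isOpen_nodalLocus f⟩,
    ⟨(GrothLib.NodeOpen11.isNodalFamily_restrict_iff f _).2 subset_rfl,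
      fun V hV => (GrothLib.NodeOpen11.isNodalFamily_restrict_iff f V).1 hV⟩, fun S' g => ?_⟩
  constructor
  · exact (GrothLib.NodeOpen11.isNodalFamily_restrict_iff (pullback.snd f g) _).2 fun x hx =>
      (GrothLib.NodeOpen11.mem_nodalLocus_baseChange (IsPullback.of_hasPullback f g) x).2 hx
  · exact fun V hV x hx => (GrothLib.NodeOpen11.mem_nodalLocus_baseChange (IsPullback.of_hasPullback f g) x).1
      ((GrothLib.NodeOpen11.isNodalFamily_restrict_iff (pullback.snd f g) V).1 hV hx)

end Groth.Agent.S1591
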