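import Groth.Statements.S15914
import Groth.Agent.Lib.SurfRR28.Canonical

set_option autoImplicit false
universe u
open CategoryTheory CategoryTheory.Limits AlgebraicGeometry TopologicalSpace
open Surf

namespace Groth.Agent.S15914

/-- Let k be an algebraically closed field of characteristic zero and X a smooth surface over k
(integral, proper and smooth over k of dimension 2) with canonical module W, a second exterior power
of Ω_{X/k}; intersection numbers of invertible modules are (L·M) = χ(O_X) − χ(L) − χ(M) + χ(L ⊗ M),
so that for a closed subscheme C with ideal I_C one has C·C = (I_C·I_C) and K·C = −(I_C·W). If C ⊆ X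
is an integral closed one-dimensional subscheme with K·C = −1, that is (I_C·W) = 1, then C·C is odd
and C·C ≥ −1. -/
theorem result (k : Type u) [Field k] [IsAlgClosed k]
    [CharZero k] (X : Scheme.{u}) [X.Over (Spec (CommRingCat.of k))] [IsIntegral X] [IsProper (X ↘ (Spec (CommRingCat.of k)))] [Smooth (X ↘ (Spec (CommRingCat.of k)))]
    (hdim : topologicalKrullDim X = 2)
    (W : X.Modules) (hW : ExtPow.IsExtPow 2 (Omega.sheaf (X ↘ (Spec (CommRingCat.of k)))) W)
    (C : X.IdealSheafData) (hC : IsIntegral C.subscheme) (hC1 : topologicalKrullDim (C.support : Set X) = 1)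
    (hdeg : FGA.intNum k X 2 ![ClSub.idealMod C, W] (Coh.structureModule X) = 1) :
    Odd (FGA.intNum k X 2 ![ClSub.idealMod C, ClSub.idealMod C] (Coh.structureModule X)) ∧
      -1 ≤ FGA.intNum k X 2 ![ClSub.idealMod C, ClSub.idealMod C] (Coh.structureModule X) := by
  have hd : topologicalKrullDim X = ((2 : ℕ) : WithBot ℕ∞) := hdim
  obtain ⟨A, hA⟩ := GrothLib.Goodman.exists_ample_of_smooth_surface k hd
  have hW' := GrothLib.SurfRR28.isInvertible_W k hd hW
  rw [GrothLib.HodgeIndex.intNum_curve k hd hC hC1 hA hW'] at hdeg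
  rw [GrothLib.HodgeIndex.intNum_curves k hd hC hC1 hC hC1 hA]
  have hadj := GrothLib.SurfRR28.adjunction_isect k hd hA hW C hC hC1
  rw [GrothLib.HodgeIndex.isect_comm k (GrothLib.HodgeIndex.cCl C) (GrothLib.Cube.clsMod hW'),
    GrothLib.SurfRR28.euler_quotMod_curve k C hC hC1] at hadj
  rw [Int.odd_iff]
  refine ⟨by omega, by omega⟩

end Groth.Agent.S15914
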