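import Groth.Statements.S15917
import Groth.Agent.Lib.NodeSplit16.Chain

set_option autoImplicit false
set_option linter.all false
set_option maxHeartbeats 1000000
set_option backward.isDefEq.respectTransparency false
universe u
open CategoryTheory CategoryTheory.Limits AlgebraicGeometry TopologicalSpace
open Curves

namespace Groth.Agent.S15917

open GrothLib


/-- Let k be an algebraically closed field of characteristic zero and C a rational tree over k: a
connected, reduced scheme, proper over k of dimension one, with at-worst-nodal singularities and
H¹(C, O_C) = 0 (equivalently, all components are smooth rational curves and the dual graph is a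
tree). Let F be a finite locally free O_C-module and R ⊆ C a closed subscheme that is reduced and
connected and whose support is a union of irreducible components of C. If for every irreducible
component Z of C not contained in R (taken with its reduced structure, i.e. every integral closed
one-dimensional subscheme Z whose support is not inside R) the restriction F|_Z is generated by
global sections, then h¹(C, F) = h¹(R, F|_R). -/
theorem result (k : Type u) [Field k] [IsAlgClosed k] [CharZero k]
    (C : Scheme.{u}) [C.Over (Spec (CommRingCat.of k))] [IsProper (C ↘ (Spec (CommRingCat.of k)))] [IsReduced C] [ConnectedSpace C]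
    (hdim : topologicalKrullDim C = 1) (hnodal : Curv2.AtWorstNodal k C)
    (hg : Subsingleton (Coh.HH C (Coh.structureModule C) 1))
    (F : C.Modules) (hF : FlatMod.IsFinLocFree F)
    (R : C.IdealSheafData) [IsReduced R.subscheme] [ConnectedSpace R.subscheme]
    (hRunion : ∀ x ∈ (R.support : Set C), ∃ Z : C.IdealSheafData, IsIntegral Z.subscheme ∧
      topologicalKrullDim (Z.support : Set C) = 1 ∧ (Z.support : Set C) ⊆ R.support ∧ x ∈ (Z.support : Set C))
    (hgg : ∀ Z : C.IdealSheafData, IsIntegral Z.subscheme → topologicalKrullDim (Z.support : Set C) = 1 →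
      ¬ ((Z.support : Set C) ⊆ R.support) → Curv2.IsGloballyGenerated ((Scheme.Modules.pullback Z.subschemeι).obj F)) :
    letI : R.subscheme.Over (Spec (CommRingCat.of k)) := ⟨R.subschemeι ≫ (C ↘ (Spec (CommRingCat.of k)))⟩
    Module.finrank k (Coh.HH C F 1) =
      Module.finrank k (Coh.HH R.subscheme ((Scheme.Modules.pullback R.subschemeι).obj F) 1)  := by
  haveI := Euler.isNoetherian_of_proper (X := C) k
  let R₀ : Set C := {η | η ∈ genericPoints (C : Type u) ∧ η ∈ (R.support : Set C)}
  have hdimeq : ∀ Z : C.IdealSheafData, topologicalKrullDim Z.subscheme = topologicalKrullDim (Z.support : Set C) := fun Z =>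
    IsHomeomorph.topologicalKrullDim_eq _
      ((Scheme.Hom.isClosedEmbedding Z.subschemeι).isEmbedding.toHomeomorph.trans
        (Homeomorph.setCongr Z.range_subschemeι)).isHomeomorph
  have hcl : closure R₀ = (R.support : Set C) := by
    refine (closure_minimal (fun η h => h.2) R.support.isClosed).antisymm fun x hx => ?_
    obtain ⟨Z, hZ, hd, hZR, hxZ⟩ := hRunion x hx
    haveI := hZ
    let η := Z.subschemeι (genericPoint Z.subscheme)
    have hηZ : η ∈ (Z.support : Set C) := Z.range_subschemeι ▸ Set.mem_range_self _
    have hspec : ∀ y ∈ (Z.support : Set C), η ⤳ y := by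
      rw [← Z.range_subschemeι]
      rintro _ ⟨z, rfl⟩
      exact (genericPoint_specializes z).map Z.subschemeι.continuous
    obtain ⟨g, hg, hgZ⟩ : ∃ g ∈ genericPoints (C : Type u), g ∈ (Z.support : Set C) := by
      by_contra hcon
      push Not at hcon
      have hfin := SubCurve16.finite_of_notMem_genericPoints k hdim.le Z.support.isClosed hcon
      obtain ⟨y, hy⟩ := CurveH0CM.exists_ne_of_dim ((hdimeq Z).trans hd) (genericPoint Z.subscheme)
      have hy' : Z.subschemeι y ∈ ({η} : Set C) :=
        ((genericPoint_specializes y).map Z.subschemeι.continuous).mem_closed (hfin.2 η hηZ) rfl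
      exact hy (Z.subschemeι.isClosedEmbedding.injective hy')
    have hgη : η = g := FinAff13.mem_genericPoints_iff.1 hg η (hspec g hgZ)
    exact (hspec x hxZ).mem_closed isClosed_closure (subset_closure ⟨hgη ▸ hg, hZR hηZ⟩)
  have hJ : SubCurve16.JJ R₀ = R := by
    have he : (⟨closure R₀, isClosed_closure⟩ : TopologicalSpace.Closeds C) = R.support :=
      TopologicalSpace.Closeds.ext hcl
    exact (congrArg Scheme.IdealSheafData.vanishingIdeal he).trans (NodeSplit16.eq_vanishingIdeal R).symm
  have hc : _root_.IsConnected (closure R₀) := by
    rw [hcl, ← R.range_subschemeι]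
    exact isConnected_range R.subschemeι.continuous
  have hne : R₀.Nonempty := closure_nonempty_iff.1 hc.nonempty
  have hgg' : ∀ η ∈ genericPoints (C : Type u), η ∉ R₀ →
      Curv2.IsGloballyGenerated ((Scheme.Modules.pullback (SubCurve16.JJ ({η} : Set C)).subschemeι).obj F) := by
    intro η hη hηR
    have hd1 : topologicalKrullDim (SubCurve16.JJ ({η} : Set C)).subscheme = 1 :=
      SubCurve16.dim_JJ hdim (Set.singleton_subset_iff.2 hη) (Set.singleton_nonempty η)
    refine hgg _ (Euler.isIntegral_vanishingIdeal _ isIrreducible_singleton.closure) ((hdimeq _).symm.trans hd1)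
      fun h => hηR ⟨hη, h (subset_closure rfl)⟩
  have hmain := NodeSplit16.subsingleton_H1_chain k hdim hnodal hg hF hne hgg'
    ((genericPoints (C : Type u) \ R₀).ncard) R₀ (fun η h => h.1) rfl subset_rfl hc
  rw [hJ] at hmain
  exact NodeSplit16.finrank_H1_restrict R k hdim.le hF hmain

end Groth.Agent.S15917
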