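import Groth.Statements.S15918
import Groth.Agent.Lib.NodeSplit16.Seq

set_option autoImplicit false
set_option linter.all false
universe u
open CategoryTheory CategoryTheory.Limits AlgebraicGeometry TopologicalSpace
open Curves

namespace Groth.Agent.S15918

open GrothLib


/-- Let k be an algebraically closed field of characteristic zero and C a rational tree over k: a
connected, reduced scheme, proper over k of dimension one, with at-worst-nodal singularities and
H¹(C, O_C) = 0. Let F be a finite locally free O_C-module. Suppose C = C_1 ∪ C_2 with C_1, C_2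
reduced closed subschemes whose supports are unions of irreducible components of C having no
irreducible component in common, and let P = C_1 ∩ C_2 be the finite set of nodes where they meet,
taken as a reduced closed subscheme of C_1 with ideal I_P. If H¹(C_1, F|_{C_1} ⊗ I_P) = 0 then h¹(C,
F) = h¹(C_2, F|_{C_2}). -/
theorem result (k : Type u) [Field k] [IsAlgClosed k] [CharZero k]
    (C : Scheme.{u}) [C.Over (Spec (CommRingCat.of k))] [IsProper (C ↘ (Spec (CommRingCat.of k)))] [IsReduced C] [ConnectedSpace C]
    (hdim : topologicalKrullDim C = 1) (hnodal : Curv2.AtWorstNodal k C)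
    (hg : Subsingleton (Coh.HH C (Coh.structureModule C) 1))
    (F : C.Modules) (hF : FlatMod.IsFinLocFree F)
    (C₁ C₂ : C.IdealSheafData) [IsReduced C₁.subscheme] [IsReduced C₂.subscheme]
    (hunion₁ : ∀ x ∈ (C₁.support : Set C), ∃ Z : C.IdealSheafData, IsIntegral Z.subscheme ∧
      topologicalKrullDim (Z.support : Set C) = 1 ∧ (Z.support : Set C) ⊆ C₁.support ∧ x ∈ (Z.support : Set C))
    (hunion₂ : ∀ x ∈ (C₂.support : Set C), ∃ Z : C.IdealSheafData, IsIntegral Z.subscheme ∧
      topologicalKrullDim (Z.support : Set C) = 1 ∧ (Z.support : Set C) ⊆ C₂.support ∧ x ∈ (Z.support : Set C))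
    (hcover : (C₁.support : Set C) ∪ C₂.support = Set.univ)
    (hnocommon : ∀ Z : C.IdealSheafData, IsIntegral Z.subscheme → topologicalKrullDim (Z.support : Set C) = 1 →
      ¬ ((Z.support : Set C) ⊆ C₁.support ∧ (Z.support : Set C) ⊆ C₂.support))
    (P : C₁.subscheme.IdealSheafData) [IsReduced P.subscheme]
    (hP : ∀ x : C₁.subscheme, x ∈ (P.support : Set C₁.subscheme) ↔ C₁.subschemeι x ∈ (C₂.support : Set C))
    (hvan : Subsingleton (Coh.HH C₁.subscheme
        (CohB1.tensorMod ((Scheme.Modules.pullback C₁.subschemeι).obj F) (ClSub.idealMod P)) 1)) :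
    letI : C₂.subscheme.Over (Spec (CommRingCat.of k)) := ⟨C₂.subschemeι ≫ (C ↘ (Spec (CommRingCat.of k)))⟩
    Module.finrank k (Coh.HH C F 1) =
      Module.finrank k (Coh.HH C₂.subscheme ((Scheme.Modules.pullback C₂.subschemeι).obj F) 1)  := by
  haveI := Euler.isNoetherian_of_proper (X := C) k
  have h1 := NodeSplit16.subset_closure_diff (T := C₂.support) hunion₁ hnocommon
  have h2 := NodeSplit16.subset_closure_diff (T := C₁.support) hunion₂ fun Z hZ hd h => hnocommon Z hZ hd h.symm
  have hinf : C₁ ⊓ C₂ = ⊥ := by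
    rw [NodeSplit16.eq_vanishingIdeal C₁, NodeSplit16.eq_vanishingIdeal C₂]
    exact NodeSplit16.vanishing_inf_eq_bot _ _ hcover
  have hsup : C₁ ⊔ C₂ = Scheme.IdealSheafData.vanishingIdeal (C₁.support ⊓ C₂.support) := by
    conv_lhs => rw [NodeSplit16.eq_vanishingIdeal C₁, NodeSplit16.eq_vanishingIdeal C₂]
    exact NodeSplit16.sup_vanishing_eq hdim hnodal _ _ hcover h1 h2
  exact NodeSplit16.finrank_H1_restrict C₂ k hdim.le hF
    (NodeSplit16.subsingleton_H1_tensor_idealMod C₁ C₂ P hP hsup k hinf hF hvan)

end Groth.Agent.S15918
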