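import Groth.Statements.S15920
import Groth.Agent.Lib.FMAdj25.TotalTransform
-- import your own Groth.Agent.* helpers here

set_option autoImplicit false
set_option maxHeartbeats 1000000
set_option linter.style.haveILetI false
set_option backward.isDefEq.respectTransparency false
universe u
open CategoryTheory CategoryTheory.Limits AlgebraicGeometry TopologicalSpace
open Curves

namespace Groth.Agent.S15920

/-- Let k be an algebraically closed field of characteristic zero; a rational tree over k is a
connected, reduced scheme, proper over k of dimension one, with at-worst-nodal singularities and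
H¹(O) = 0. Let C be a rational tree, p ∈ C a node, and π : C' → C the total transform of C at p: C'
is a rational tree, π is a morphism over k restricting to an isomorphism over C ∖ {p}, and the fibre
π⁻¹(p) is, as a set, a closed subscheme E of C' isomorphic to P¹_k over k (the exceptional
component). Then for every finite locally free O_C-module F and i = 0, 1 one has h^i(C, F) = h^i(C',
π^*F). -/
theorem result (k : Type u) [Field k] [IsAlgClosed k] [CharZero k]
    (C : Scheme.{u}) [C.Over (Spec (CommRingCat.of k))] [IsProper (C ↘ (Spec (CommRingCat.of k)))] [IsReduced C] [ConnectedSpace C] (hdim : topologicalKrullDim C = 1) (hnodal : Curv2.AtWorstNodal k C)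
    (hg : Subsingleton (Coh.HH C (Coh.structureModule C) 1))
    (C' : Scheme.{u}) [C'.Over (Spec (CommRingCat.of k))] [IsProper (C' ↘ (Spec (CommRingCat.of k)))] [IsReduced C'] [ConnectedSpace C'] (hdim' : topologicalKrullDim C' = 1) (hnodal' : Curv2.AtWorstNodal k C')
    (hg' : Subsingleton (Coh.HH C' (Coh.structureModule C') 1))
    (p : C) (hp : Curv2.IsNode k C p) (hpc : IsClosed ({p} : Set C))
    (π : C' ⟶ C) (hπ : π ≫ (C ↘ (Spec (CommRingCat.of k))) = C' ↘ (Spec (CommRingCat.of k)))
    (hiso : IsIso (π ∣_ (⟨({p} : Set C)ᶜ, hpc.isOpen_compl⟩ : C.Opens)))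
    (E : C'.IdealSheafData) (e : E.subscheme ≅ CohB1.ProjSpace 1 k)
    (he : e.hom ≫ CohB1.ProjSpace.toSpec 1 k = E.subschemeι ≫ (C' ↘ (Spec (CommRingCat.of k))))
    (hfib : ∀ x : C', π x = p ↔ x ∈ (E.support : Set C'))
    (F : C.Modules) (hF : FlatMod.IsFinLocFree F) :
    Module.finrank k (Coh.HH C F 0) = Module.finrank k (Coh.HH C' ((Scheme.Modules.pullback π).obj F) 0) ∧
      Module.finrank k (Coh.HH C F 1) = Module.finrank k (Coh.HH C' ((Scheme.Modules.pullback π).obj F) 1) := by
  exact GrothLib.FMAdj25.finrank_HH_pullback k π hπ ⟨({p} : Set C)ᶜ, hpc.isOpen_compl⟩ (by simp) hg hg' hdim.le hdim'.le hF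

end Groth.Agent.S15920
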