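import Groth.Statements.S15921
import Groth.Agent.Lib.CurveSerre11.NodalMeet

set_option autoImplicit false
universe u
open CategoryTheory CategoryTheory.Limits AlgebraicGeometry
attribute [local instance] HasDerivedCategory.standard
open Curves

namespace Groth.Agent.S15921

set_option backward.isDefEq.respectTransparency false
set_option maxHeartbeats 1000000


/-- Let k be an algebraically closed field and X a nodal curve over k (proper over k, of dimension one,
with H^0(X, O_X) = k and at-worst-nodal singularities), ω_X its dualizing module (the degree -1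
cohomology sheaf of f^! O for f : X → Spec k, assuming Rf_* on D_QCoh and its right adjoint exist),
and Y ⊊ X a connected reduced closed subscheme of dimension one (a connected proper subcurve). Let
δ_Y be the number of points of Y lying in the closure of X ∖ Y. Then deg(ω_X|_Y) = -2χ(Y, O_Y) +
δ_Y, that is, 2g_Y - 2 + δ_Y where g_Y = 1 - χ(Y, O_Y). -/
theorem result (k : Type u) [Field k] [IsAlgClosed k] (X : Scheme.{u}) [X.Over (Spec (CommRingCat.of k))] [IsProper (X ↘ (Spec (CommRingCat.of k)))] (hdim : topologicalKrullDim X = 1)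
    (h0 : Module.finrank k (Coh.HH X (Coh.structureModule X) 0) = 1) (hX : Curv2.AtWorstNodal k X)
    [DCoh.HasRpush (X ↘ (Spec (CommRingCat.of k)))] (h : DCoh.RpushPreservesQCoh (X ↘ (Spec (CommRingCat.of k)))) [DCoh.HasShriek (X ↘ (Spec (CommRingCat.of k))) h]
    (OY : DCoh.DQCoh (Spec (CommRingCat.of k))) (hOY : Nonempty (OY.obj ≅ DCoh.inD (Spec (CommRingCat.of k)) (Coh.structureModule (Spec (CommRingCat.of k)))))
    (J : X.IdealSheafData) [IsReduced J.subscheme] [ConnectedSpace J.subscheme]
    (hJ1 : topologicalKrullDim J.subscheme = 1) (hJne : J ≠ ⊥) :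
    @Curv2.deg k _ J.subscheme ⟨J.subschemeι ≫ (X ↘ (Spec (CommRingCat.of k)))⟩ ((Scheme.Modules.pullback J.subschemeι).obj (DCoh.dualizingMod (X ↘ (Spec (CommRingCat.of k))) h OY 1)) 1 =
      -2 * @Curv2.euler k _ J.subscheme ⟨J.subschemeι ≫ (X ↘ (Spec (CommRingCat.of k)))⟩ (Coh.structureModule J.subscheme) +
        (Nat.card ((J.support : Set X) ∩ closure ((J.support : Set X)ᶜ) : Set X) : ℤ) := by
  haveI := GrothLib.Euler.isNoetherian_of_proper (X := X) k
  haveI : Nonempty X := GrothLib.CurveH0CM.nonempty_of_dim hdim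
  haveI := GrothLib.Euler.finiteDimensional_HH k (GrothLib.Euler.isCoh_of_isInvertible (GrothLib.Euler.isInvertible_structure (X := X))) 0
  haveI : ConnectedSpace X := GrothLib.ConnH0.connectedSpace_of_finrank_le k h0.le
  obtain ⟨hr, hω⟩ := GrothLib.CurveSerre11.nodal_data h OY hdim hOY (GrothLib.CurveSerre11.equidim_of_connected (k := k) hdim) hX
  haveI := hr
  rw [GrothLib.CurveSerre11.deg_omega_restrict h OY hOY hdim.le hω J hJ1,
    GrothLib.CurveSerre11.finrank_meet hdim hX J hJ1]

end Groth.Agent.S15921
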