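import Groth.Statements.S15923
import Groth.Agent.Lib.PointIdeal16.Main
import Groth.Agent.Lib.CurvePoints.Basic
import Groth.Agent.Lib.AlgSp.FieldFibreDim
import Groth.Agent.Lib.NodeFrob.Main

set_option autoImplicit false
set_option linter.all false
universe u
open CategoryTheory CategoryTheory.Limits AlgebraicGeometry
open Curves

namespace Groth.Agent.S15923

/-- Let k be an algebraically closed field, X a curve over k (proper over k, reduced, connected, every
irreducible component of dimension one) and P a closed point of X, with m_P the ideal sheaf of the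
reduced point P as an O_X-module. Then m_P is invertible (locally on X isomorphic to the structure
sheaf) exactly when some open neighbourhood of P is smooth over k. -/
theorem result (k : Type u) [Field k] [IsAlgClosed k] (X : Scheme.{u}) [X.Over (Spec (CommRingCat.of k))] [IsProper (X ↘ (Spec (CommRingCat.of k)))] [IsReduced X] [ConnectedSpace X]
    (hequi : ∀ Z ∈ irreducibleComponents (X : Type u), topologicalKrullDim Z = 1)
    (P : X) (hP : IsClosed ({P} : Set X)) :
    PicF.IsInvertible (ClSub.idealMod (Scheme.IdealSheafData.vanishingIdeal ⟨{P}, hP⟩)) ↔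
      ∃ U : X.Opens, P ∈ U ∧ Smooth (U.ι ≫ (X ↘ (Spec (CommRingCat.of k)))) := by
  haveI : IsLocallyNoetherian X := LocallyOfFiniteType.isLocallyNoetherian (X ↘ Spec (CommRingCat.of k))
  haveI : LocallyOfFinitePresentation (X ↘ Spec (CommRingCat.of k)) := inferInstance
  have hgen : P ∉ genericPoints (X : Type u) := fun hη => by
    have h1 := hequi _ hη
    rw [hP.closure_eq] at h1
    haveI : Subsingleton ({P} : Set X) := ⟨fun a b => Subtype.ext (a.2.trans b.2.symm)⟩
    haveI : QuasiSober ({P} : Set X) := hP.isClosedEmbedding_subtypeVal.quasiSober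
    have h0 : topologicalKrullDim ({P} : Set X) ≤ 0 :=
      Order.krullDim_nonpos_iff_forall_isMax.2 fun a b _ z _ => by
        obtain ⟨w, hw⟩ := a.isIrreducible.nonempty
        exact Subsingleton.elim w z ▸ hw
    rw [h1] at h0
    exact absurd h0 (by norm_num)
  refine ⟨fun h => GrothLib.PointIdeal16.exists_smooth_of_regular k
    (GrothLib.PointIdeal16.regular_of_isInvertible hP hgen h), fun ⟨U, hPU, hU⟩ =>
    GrothLib.PointIdeal16.isInvertible_of_regular hP (GrothLib.PointIdeal16.regular_of_smooth_nhd k U hPU hU)
      (le_antisymm ?_ (GrothLib.PointIdeal16.one_le_ringKrullDim hgen))⟩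
  refine (GrothLib.AlgSp.ringKrullDim_stalk_le_localDim P).trans
    ((GrothLib.AlgSp.localDim_le_topologicalKrullDim P).trans ?_)
  exact GrothLib.NodeFrob.dim_le_one_of_components hequi

end Groth.Agent.S15923
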