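import Groth.Statements.S15924
import Groth.Agent.Lib.NodeSplit16.Basic
import Groth.Agent.Lib.Multicross2.Node
import Groth.Agent.Lib.PointIdeal16.Main

set_option autoImplicit false
set_option linter.all false
universe u
open CategoryTheory CategoryTheory.Limits AlgebraicGeometry
open Curves

namespace Groth.Agent.S15924

open GrothLib
open GrothLib.Goodman (st)
open GrothLib.OmegaBC (sval)
open Scheme (IdealSheafData)
open TopologicalSpace (Closeds)


/-- Let k be an algebraically closed field, X a curve over k (proper over k, reduced, connected, every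
irreducible component of dimension one) and P a separating node of X, i.e. a closed point which is a
node and whose complement X ∖ {P} is not connected. Then the ideal sheaf m_P of the reduced point P,
as an O_X-module, is not simple: it admits an idempotent endomorphism other than 0 and the identity.
(The converse, simplicity of m_P when P is not a separating node, also holds but is not part of this
statement.) -/
theorem result (k : Type u) [Field k] [IsAlgClosed k] (X : Scheme.{u}) [X.Over (Spec (CommRingCat.of k))] [IsProper (X ↘ (Spec (CommRingCat.of k)))] [IsReduced X] [ConnectedSpace X]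
    (hequi : ∀ Z ∈ irreducibleComponents (X : Type u), topologicalKrullDim Z = 1)
    (P : X) (hP : IsClosed ({P} : Set X)) (hnode : Curv2.IsNode k X P) (hsep : ¬ IsPreconnected (({P} : Set X)ᶜ)) :
    ∃ e : ClSub.idealMod (Scheme.IdealSheafData.vanishingIdeal ⟨{P}, hP⟩) ⟶ ClSub.idealMod (Scheme.IdealSheafData.vanishingIdeal ⟨{P}, hP⟩),
      e ≫ e = e ∧ e ≠ 0 ∧ e ≠ 𝟙 _  := by
  classical
  haveI : IsLocallyNoetherian X := LocallyOfFiniteType.isLocallyNoetherian (X ↘ (Spec (CommRingCat.of k)))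
  obtain ⟨u, v, hu, hv, hcov, hnu, hnv, hdis⟩ : ∃ u v : Set X, IsOpen u ∧ IsOpen v ∧ ({P}ᶜ : Set X) ⊆ u ∪ v ∧
      (({P}ᶜ : Set X) ∩ u).Nonempty ∧ (({P}ᶜ : Set X) ∩ v).Nonempty ∧ ¬ (({P}ᶜ : Set X) ∩ (u ∩ v)).Nonempty := by
    by_contra h
    push Not at h
    exact hsep fun u v hu hv h1 h2 h3 => h u v hu hv h1 h2 h3
  let U₁ : Set X := ({P}ᶜ : Set X) ∩ u
  let U₂ : Set X := ({P}ᶜ : Set X) ∩ v
  have hU₁ : IsOpen U₁ := hP.isOpen_compl.inter hu
  have hU₂ : IsOpen U₂ := hP.isOpen_compl.inter hv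
  have hd : ∀ x, x ∈ U₁ → x ∈ U₂ → False := fun x h1 h2 => hdis ⟨x, h1.1, h1.2, h2.2⟩
  have hc : ∀ x, x = P ∨ x ∈ U₁ ∨ x ∈ U₂ := fun x => by
    by_cases h : x = P
    · exact Or.inl h
    · exact Or.inr ((hcov h).imp (fun h' => ⟨h, h'⟩) fun h' => ⟨h, h'⟩)
  let Z₁ : Closeds X := ⟨U₂ᶜ, hU₂.isClosed_compl⟩
  let Z₂ : Closeds X := ⟨U₁ᶜ, hU₁.isClosed_compl⟩
  have hcl : ∀ W W' : Set X, IsOpen W → IsOpen W' → W.Nonempty → (∀ x, x ∈ W → x ∈ W' → False) →
      (∀ x, x = P ∨ x ∈ W ∨ x ∈ W') → P ∉ W → P ∈ closure W := by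
    intro W W' hW hW' hne hdd hcc hPW
    by_contra hP'
    have : IsClosed W := by
      refine closure_subset_iff_isClosed.1 fun x hx => ?_
      rcases hcc x with rfl | h | h
      · exact absurd hx hP'
      · exact h
      · obtain ⟨y, hy, hy'⟩ := mem_closure_iff.1 hx W' hW' h
        exact (hdd y hy' hy).elim
    exact hPW ((IsClopen.eq_univ ⟨this, hW⟩ hne).symm ▸ Set.mem_univ P)
  have hP₁ : P ∈ closure U₁ := hcl U₁ U₂ hU₁ hU₂ hnu hd hc fun h => h.1 rfl
  have hP₂ : P ∈ closure U₂ := hcl U₂ U₁ hU₂ hU₁ hnv (fun x h h' => hd x h' h) (fun x => (hc x).imp_right Or.symm) fun h => h.1 rfl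
  let A := IdealSheafData.vanishingIdeal Z₁
  let B := IdealSheafData.vanishingIdeal Z₂
  let Q := IdealSheafData.vanishingIdeal (⟨{P}, hP⟩ : Closeds X)
  have hA : A ≤ Q := IdealSheafData.vanishingIdeal_antimono fun x (hx : x = P) => show x ∉ U₂ from fun h => h.1 hx
  have hB : B ≤ Q := IdealSheafData.vanishingIdeal_antimono fun x (hx : x = P) => show x ∉ U₁ from fun h => h.1 hx
  have hAB : A ⊓ B = ⊥ := by
    refine IdealSheafData.ext ?_
    funext U
    rw [IdealSheafData.ideal_inf, IdealSheafData.ideal_bot, Pi.inf_apply, Pi.bot_apply]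
    refine (Submodule.eq_bot_iff _).2 fun a ha => (basicOpen_eq_bot_iff a).1 ?_
    refine eq_bot_iff.2 fun x hx => ?_
    have h1 := (GrothLib.QCoh.mem_vanishingIdeal_iff _ U a).1 ha.1 x (X.basicOpen_le a hx)
    have h2 := (GrothLib.QCoh.mem_vanishingIdeal_iff _ U a).1 ha.2 x (X.basicOpen_le a hx)
    by_cases hx2 : x ∈ U₂
    · exact absurd hx (h2 fun h => hd x h hx2)
    · exact absurd hx (h1 hx2)
  have hinf : ∀ x : X, st A x ⊓ st B x = ⊥ := fun x => by
    rw [← IdealMV12.st_inf, hAB]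
    obtain ⟨V, hV, hxV, -⟩ := exists_isAffineOpen_mem_and_subset (show x ∈ (⊤ : X.Opens) from trivial)
    rw [Goodman.st_eq _ ⟨V, hV⟩ hxV, IdealSheafData.ideal_bot, Pi.bot_apply, Ideal.map_bot]
  have hsupp : ∀ (Z : Closeds X) (x : X), x ∉ Z → st (IdealSheafData.vanishingIdeal Z) x = ⊤ := fun Z x hx =>
    Goodman.st_of_notMem _ (by simpa using hx)
  have hsup : ∀ x : X, st Q x ≤ st A x ⊔ st B x := fun x => by
    rcases hc x with rfl | h | h
    · have hQ : st Q x = IsLocalRing.maximalIdeal (X.presheaf.stalk x) := PointIdeal16.st_ptI hP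
      rw [hQ]
      refine NodeSplit16.le_sup_of_deltaInv_eq_one (Multicross2.deltaInv_node hequi hnode) (hinf x)
        (fun a ha => NodeSplit16.mem_st_of_mul_eq_zero Z₁ Z₂ x ?_ a ha)
        (fun a ha => NodeSplit16.mem_st_of_mul_eq_zero Z₂ Z₁ x ?_ a ha)
        (hQ ▸ IdealMV12.st_mono hA x) (hQ ▸ IdealMV12.st_mono hB x)
      · intro y (hy : y ∉ U₂)
        rcases hc y with rfl | h | h
        · exact closure_mono (show U₁ ⊆ (Z₁ : Set X) \ Z₂ from fun z hz => ⟨fun h' => hd z hz h', fun h' => h' hz⟩) hP₁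
        · exact subset_closure ⟨hy, fun h' => h' h⟩
        · exact absurd h hy
      · intro y (hy : y ∉ U₁)
        rcases hc y with rfl | h | h
        · exact closure_mono (show U₂ ⊆ (Z₂ : Set X) \ Z₁ from fun z hz => ⟨fun h' => hd z h' hz, fun h' => h' hz⟩) hP₂
        · exact absurd h hy
        · exact subset_closure ⟨hy, fun h' => h' h⟩
    · exact le_sup_of_le_right (by rw [hsupp Z₂ x fun h' => h' h]; exact le_top)
    · exact le_sup_of_le_left (by rw [hsupp Z₁ x fun h' => h' h]; exact le_top)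
  let g : ClSub.idealMod A ⊞ ClSub.idealMod B ⟶ ClSub.idealMod Q :=
    biprod.desc (HodgeIndex.idealIncl hA) (HodgeIndex.idealIncl hB)
  haveI : IsIso g := by
    refine (OX.isIso_iff g).2 fun x => (ConcreteCategory.isIso_iff_bijective _).2 ?_
    let F := OX.stalk x
    have hdec : ∀ y : F.obj (ClSub.idealMod A ⊞ ClSub.idealMod B),
        y = F.map biprod.inl (F.map biprod.fst y) + F.map biprod.inr (F.map biprod.snd y) := fun y => by
      rw [← ConcreteCategory.comp_apply, ← ConcreteCategory.comp_apply, ← F.map_comp, ← F.map_comp]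
      have h := congrArg (fun φ => F.map φ) (biprod.total (X := ClSub.idealMod A) (Y := ClSub.idealMod B))
      simp only [F.map_add, CategoryTheory.Functor.map_id] at h
      exact (ConcreteCategory.congr_hom h y).symm
    have hg : ∀ a b, sval Q x (F.map g (F.map biprod.inl a + F.map biprod.inr b)) = sval A x a + sval B x b := by
      intro a b
      rw [map_add, map_add, ← ConcreteCategory.comp_apply, ← ConcreteCategory.comp_apply, ← F.map_comp, ← F.map_comp,
        biprod.inl_desc, biprod.inr_desc, IdealMV12.sval_incl, IdealMV12.sval_incl]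
    refine ⟨(injective_iff_map_eq_zero (F.map g).hom).2 fun y hy => ?_, fun s => ?_⟩
    · change F.map g y = 0 at hy
      rw [hdec y] at hy ⊢
      have h0 := hg (F.map biprod.fst y) (F.map biprod.snd y)
      rw [hy, map_zero] at h0
      have hz : sval A x (F.map biprod.fst y) = 0 := by
        refine (Submodule.eq_bot_iff _).1 (hinf x) _ ⟨LinearMap.mem_range_self _ _, ?_⟩
        rw [eq_neg_of_add_eq_zero_left h0.symm, ← map_neg]
        exact LinearMap.mem_range_self _ _
      have hz' : sval B x (F.map biprod.snd y) = 0 := by rwa [hz, zero_add, eq_comm] at h0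
      rw [(map_eq_zero_iff _ (OmegaBC.sval_injective A x)).1 hz, (map_eq_zero_iff _ (OmegaBC.sval_injective B x)).1 hz',
        map_zero, map_zero, add_zero]
    · obtain ⟨_, ⟨a, rfl⟩, _, ⟨b, rfl⟩, hab⟩ := Submodule.mem_sup.1 (hsup x (LinearMap.mem_range_self _ s))
      exact ⟨F.map biprod.inl a + F.map biprod.inr b, OmegaBC.sval_injective Q x ((hg a b).trans hab)⟩
  have hAg : HodgeIndex.idealIncl hA ≫ inv g = biprod.inl := by
    rw [IsIso.comp_inv_eq, biprod.inl_desc]
  have hBg : HodgeIndex.idealIncl hB ≫ inv g = biprod.inr := by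
    rw [IsIso.comp_inv_eq, biprod.inr_desc]
  have hne : ∀ (Z : Closeds X) (x : X), x ∉ Z → ∀ h : IdealSheafData.vanishingIdeal Z ≤ Q,
      HodgeIndex.idealIncl h ≠ 0 := by
    intro Z x hx h h0
    have h1 : (1 : X.presheaf.stalk x) ∈ st (IdealSheafData.vanishingIdeal Z) x := by rw [hsupp Z x hx]; trivial
    obtain ⟨w, hw⟩ := h1
    refine one_ne_zero (hw.symm.trans ((IdealMV12.sval_incl h x w).symm.trans ?_))
    rw [h0, Functor.map_zero]
    exact map_zero _
  obtain ⟨x₁, hx₁⟩ := hnu
  obtain ⟨x₂, hx₂⟩ := hnv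
  refine ⟨inv g ≫ biprod.fst ≫ HodgeIndex.idealIncl hA, ?_, fun h0 => hne Z₁ x₂ (fun h => h hx₂) hA ?_,
    fun h1 => hne Z₂ x₁ (fun h => h hx₁) hB ?_⟩
  · simp only [Category.assoc]
    rw [reassoc_of% hAg, biprod.inl_fst_assoc]
  · have := congrArg (fun φ => HodgeIndex.idealIncl hA ≫ φ) h0
    simp only [comp_zero] at this
    rwa [reassoc_of% hAg, biprod.inl_fst_assoc] at this
  · have : HodgeIndex.idealIncl hB ≫ inv g ≫ biprod.fst ≫ HodgeIndex.idealIncl hA = HodgeIndex.idealIncl hB :=
      (congrArg (fun φ => HodgeIndex.idealIncl hB ≫ φ) h1).trans (Category.comp_id _)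
    rw [reassoc_of% hBg, biprod.inr_fst_assoc, zero_comp] at this
    exact this.symm

end Groth.Agent.S15924
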