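import Groth.Statements.S1593
import Groth.Agent.Lib.NodeEt.Family
import Groth.Agent.Lib.AlgSp.SourceDescent

set_option autoImplicit false
universe u
open CategoryTheory CategoryTheory.Limits AlgebraicGeometry
open Curves

namespace Groth.Agent.S1593

/-- Being an at-worst-nodal family of curves is étale local on the source: let f : X → S be a morphism
and g_i : U_i → X a jointly surjective family of étale morphisms. If every composite g_i ≫ f is
at-worst-nodal of relative dimension one, then so is f. -/
theorem result {X S : Scheme.{u}} (f : X ⟶ S) (ι : Type u) (U : ι → Scheme.{u})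
    (g : ∀ i, U i ⟶ X) [∀ i, Etale (g i)] (hsurj : ∀ x : X, ∃ i, x ∈ Set.range (g i).base)
    (h : ∀ i, Curv2.IsNodalFamily (g i ≫ f)) : Curv2.IsNodalFamily f := by
  have hflat : ∀ i, Flat (g i ≫ f) := fun i => (h i).1
  have hlfp : ∀ i, LocallyOfFinitePresentation (g i ≫ f) := fun i => (h i).2.1
  let c := Limits.Sigma.desc g
  haveI : Etale c := by
    rw [IsZariskiLocalAtSource.iff_of_openCover (P := @Etale) (sigmaOpenCover U)]
    intro i
    change Etale (Limits.Sigma.ι U i ≫ c)
    rw [Limits.Sigma.ι_desc]
    infer_instance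
  haveI : Surjective c := ⟨fun x => by
    obtain ⟨i, y, hy⟩ := hsurj x
    refine ⟨Limits.Sigma.ι U i y, ?_⟩
    rw [← Scheme.Hom.comp_apply, Limits.Sigma.ι_desc]
    exact hy⟩
  haveI : Flat f := GrothLib.AlgSp.etaleSourceDescends_flat c f inferInstance inferInstance (by
    rw [IsZariskiLocalAtSource.iff_of_openCover (P := @Flat) (sigmaOpenCover U)]
    intro i
    change Flat (Limits.Sigma.ι U i ≫ c ≫ f)
    rw [Limits.Sigma.ι_desc_assoc]
    exact hflat i)
  haveI : LocallyOfFinitePresentation f := GrothLib.AlgSp.etaleSourceDescends_lfp c f inferInstance inferInstance (by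
    rw [IsZariskiLocalAtSource.iff_of_openCover (P := @LocallyOfFinitePresentation) (sigmaOpenCover U)]
    intro i
    change LocallyOfFinitePresentation (Limits.Sigma.ι U i ≫ c ≫ f)
    rw [Limits.Sigma.ι_desc_assoc]
    exact hlfp i)
  exact GrothLib.NodeEt.isNodalFamily_of_etale_cover f ι U g hsurj h

end Groth.Agent.S1593
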