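import Groth.Statements.S15931
import Groth.Agent.Lib.BMGysin.Vanish
import Mathlib.AlgebraicGeometry.Morphisms.Proper
-- import your own Groth.Agent.* helpers here

set_option autoImplicit false
universe u
open CategoryTheory AlgebraicGeometry Opposite
open BMCoh

namespace Groth.Agent.S15931

open GrothLib.BMGysin

/-- Let T be a twisted Borel–Moore cohomology theory with coefficients in A (a full subcategory of
R-modules containing R) on a constructible class V of Noetherian schemes, X an object of V and j a
natural number; H^i(F_kX, M(n)) denotes the colimit of H^i(U, M(n)) over the open subschemes U of X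
containing every point of codimension at most k (codimension of a point = dim X minus the dimension
of its closure), and H^i(x, M(n)) the group of a point x (colimit over the nonempty opens of its
reduced closure). A push-forward datum for X at level j consists of maps ι_x : H^i(x, M(n)) →
H^{i+2j}(F_jX, M(n+j)) for every point x of codimension j, every coefficient module M and all i, n,
such that for every open U of X containing the points of codimension at most j (of the dimension of
X), every nonempty open W of the reduced closure of x (of its dimension) and every proper morphism f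
: W → U compatible with the two inclusions into X, the composite H^i(W) → H^i(x) → H^{i+2j}(F_jX) is
the push-forward along f followed by the canonical map from H^{i+2j}(U). There is at most one such
datum. -/
theorem result (V : ObjectProperty Scheme.{u}) [BMCoh.IsConstructible V] (R : Type u) [CommRing R] (A : BMCoh.Coefs R) (T : BMCoh.TheoryOn V R A) (X : BMCoh.Obj V) (j : ℕ) : Subsingleton (T.PushData X j) := by
  refine ⟨fun P P' => ?_⟩
  obtain ⟨c, hc⟩ := P
  obtain ⟨c', hc'⟩ := P'
  have key : c = c' := by
    funext x M i n i' n' hi hn
    refine hom_ext_ι (T := T.toPreTheory) M i n (goodP_pt X x.1) fun W w => ?_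
    let C : Set X.scheme := (X.ptSubι x.1).base '' ((W.1 : Set (X.ptSub x.1).scheme)ᶜ)
    have hC : IsClosed C :=
      (X.ptSubι x.1).isClosedEmbedding.isClosedMap _ W.1.isOpen.isClosed_compl
    let U : X.scheme.Opens := ⟨Cᶜ, hC.isOpen_compl⟩
    have hU : BMCoh.ContainsFj X j U := by
      intro y hy hyC
      obtain ⟨q, hq, rfl⟩ := hyC
      have hxq : x.1 ⤳ X.ptSubι x.1 q :=
        specializes_iff_mem_closure.2 ((range_ptSubι X x.1).le ⟨q, rfl⟩)
      have hxc := x.2
      have hxe : x.1 = X.ptSubι x.1 q := eq_of_codim_le (finDim X) hxq (by omega)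
      exact hq (genericPoint_mem x.1 W q hxe.symm)
    let f : ((X.ptSub x.1).res W.1).scheme ⟶ (X.res U).scheme :=
      IsOpenImmersion.lift U.ι (W.1.ι ≫ X.ptSubι x.1) (by
        rw [Scheme.Opens.range_ι]
        rintro _ ⟨q, rfl⟩ ⟨q', hq', he⟩
        exact hq' ((X.ptSubι x.1).isEmbedding.injective he ▸ q.2))
    have hf : f ≫ U.ι = W.1.ι ≫ X.ptSubι x.1 := IsOpenImmersion.lift_fac _ _ _
    have : IsImmersion (f ≫ U.ι) := by rw [hf]; infer_instance
    have : IsImmersion f := .of_comp f U.ι
    have : IsClosedImmersion f := by
      refine .of_isPreimmersion f ?_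
      have : Set.range f = U.ι.base ⁻¹' Set.range (X.ptSubι x.1) := by
        ext z
        constructor
        · rintro ⟨q, rfl⟩
          refine ⟨q.1, ?_⟩
          show _ = U.ι (f q)
          rw [← Scheme.Hom.comp_apply, hf]
          rfl
        · rintro ⟨q, hq⟩
          have hqW : q ∈ W.1 := not_not.1 fun h => z.2 ⟨q, h, hq⟩
          refine ⟨⟨q, hqW⟩, U.ι.isEmbedding.injective ?_⟩
          show U.ι (f ⟨q, hqW⟩) = _
          rw [← Scheme.Hom.comp_apply, hf]
          exact hq
      rw [this]
      exact (X.ptSubι x.1).isClosedEmbedding.isClosed_range.preimage U.ι.continuous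
    have hd : BMCoh.relCodim ((X.ptSub x.1).res W.1).scheme (X.res U).scheme = (j : ℤ) := by
      have h1 : WeilCoh.dim ((X.ptSub x.1).res W.1).scheme = WeilCoh.pdim X.scheme x.1 :=
        dim_open_ptSub X x.1 W.1 W.2.1
      have h2 : WeilCoh.dim (X.res U).scheme = WeilCoh.dim X.scheme := dim_eq_of_containsFj X hU
      have h3 := pdim_add_codim (finDim X) x.1
      have h4 := x.2
      simp only [BMCoh.relCodim, h1, h2]
      omega
    have : IsProper f := inferInstance
    have : @IsProper _ (X.res (mkFjIdx X U hU).1).scheme f := this
    exact (ConcreteCategory.congr_hom (hc x M i n i' n' hi hn (mkFjIdx X U hU) W f hf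
      (hi.trans (by rw [← hd]; rfl)) (hn.trans (by rw [← hd]; rfl))) w).trans
      (ConcreteCategory.congr_hom (hc' x M i n i' n' hi hn (mkFjIdx X U hU) W f hf
      (hi.trans (by rw [← hd]; rfl)) (hn.trans (by rw [← hd]; rfl))) w).symm
  subst key
  rfl

end Groth.Agent.S15931
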