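import Groth.Statements.S15932
import Groth.Agent.Lib.BMGysin.Total
-- import your own Groth.Agent.* helpers here

set_option autoImplicit false
universe u
open CategoryTheory AlgebraicGeometry Opposite
open BMCoh

namespace Groth.Agent.S15932

open GrothLib.BMGysin

/-- Let T be a twisted Borel–Moore cohomology theory with coefficients in A (a full subcategory of
R-modules containing R) on a constructible class V of Noetherian schemes, X an object of V and j a
natural number; H^i(F_kX, M(n)) denotes the colimit of H^i(U, M(n)) over the open subschemes U of X
containing every point of codimension at most k (codimension of a point = dim X minus the dimension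
of its closure), and H^i(x, M(n)) the group of a point x (colimit over the nonempty opens of its
reduced closure). A residue datum for X at level j consists of maps ∂_x : H^i(F_jX, M(n)) →
H^{i'}(x, M(n')), (i', n') = (i + 1 − 2(j+1), n − (j+1)), for every point x of codimension j + 1,
every coefficient module M and all i, n, each class having only finitely many nonzero ∂_x, such
that: for every object Y with a morphism of V into X, every decomposition of Y into a closed part Z
and an open complement U' of the dimension of Y, every nonempty open W of the reduced closure of x
(of its dimension) with a morphism of V into Z over X, and every open U of X containing the points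
of codimension at most j (of the dimension of X) with a morphism of V into U' over X, the composite
H^i(U') → H^i(U) → H^i(F_jX) → H^{i'}(x) equals the residue map of the decomposition followed by
restriction to W and the canonical map H^{i'}(W) → H^{i'}(x). There is at most one such datum. -/
theorem result (V : ObjectProperty Scheme.{u}) [BMCoh.IsConstructible V] (R : Type u) [CommRing R] (A : BMCoh.Coefs R) (T : BMCoh.TheoryOn V R A) (X : BMCoh.Obj V) (j : ℕ) : Subsingleton (T.ResData X j) := by
  refine ⟨fun Q Q' => ?_⟩
  obtain ⟨c, hc, hf⟩ := Q
  obtain ⟨c', hc', hf'⟩ := Q'
  have key : c = c' := by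
    funext x M i n i' n' hi hn
    refine hom_ext_ι (T := T.toPreTheory) M i n (goodP_containsFj X j) fun U b => ?_
    by_cases hx : x.1 ∈ U.1
    · exact (resData_cpt_of_mem ⟨c, hc, hf⟩ M hi hn U b x hx).trans
        (resData_cpt_of_mem ⟨c', hc', hf'⟩ M hi hn U b x hx).symm
    · obtain ⟨S, hS, -⟩ := exists_slice U (mkFjIdx X ⊤ fun _ _ => trivial) le_top ⟨x.1, x.2, hx⟩
      subst hS
      have hxs : x.1 ∈ S.P.s := S.mem_pts.2 ⟨x.2, hx⟩
      exact (resData_cpt_slice ⟨c, hc, hf⟩ S M hi hn b x hxs).trans
        (resData_cpt_slice ⟨c', hc', hf'⟩ S M hi hn b x hxs).symm
  subst key
  rfl

end Groth.Agent.S15932
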