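import Groth.Statements.S15938
import Groth.Agent.Lib.CanonTriv.Basic
import Groth.Agent.Lib.Seesaw26.Criterion
import Groth.Agent.Lib.Seesaw26.Universal
import Groth.Agent.S15936

set_option autoImplicit false
set_option linter.all false
set_option backward.isDefEq.respectTransparency false
universe u
open CategoryTheory CategoryTheory.Limits AlgebraicGeometry
open Canon

namespace Groth.Agent.S15938

/-- Let S be a locally Noetherian scheme, f : X ⟶ S locally projective and smooth of relative dimension
n with non-empty geometrically connected fibres, ω an n-th exterior power of the relative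
differentials (the relative canonical sheaf K_{X/S}), and m ≥ 1 such that the evaluation map f^* f_*
K^{⊗m} ⟶ K^{⊗m} is an isomorphism. Then the formation of f_* K^{⊗m} commutes with base change: for
every morphism g : S′ ⟶ S with S′ locally Noetherian, writing f′ : X ×_S S′ ⟶ S′ and g′ : X ×_S S′ ⟶
X for the projections, the base-change morphism g^* f_* K^{⊗m} ⟶ f′_* g′^* K^{⊗m} (adjoint to g′^*
of the evaluation map, through the canonical identifications of iterated pullbacks) is an
isomorphism. (The published statement has f projective and smooth, of possibly varying relative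
dimension; this row takes f locally projective of constant relative dimension n and base changes by
locally Noetherian schemes.) -/
theorem result
    {X S : Scheme.{u}} [IsLocallyNoetherian S] (f : X ⟶ S)
    (hproj : RedSub.IsLocallyProjective (Over.mk f))
    (n : ℕ) [SmoothOfRelativeDimension n f] [GeometricallyConnected f]
    (ω : X.Modules) (hω : Canon.IsTopDiff f n ω) (m : ℕ) (hm : 1 ≤ m)
    (hev : IsIso ((Scheme.Modules.pullbackPushforwardAdjunction f).counit.app (CohB1.tensorPow ω m)))
    {S' : Scheme.{u}} [IsLocallyNoetherian S'] (g : S' ⟶ S) :
    IsIso (((Scheme.Modules.pullbackPushforwardAdjunction (pullback.snd f g)).homEquiv _ _)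
      ((Scheme.Modules.pullbackComp (pullback.snd f g) g).hom.app _ ≫
        (Scheme.Modules.pullbackCongr (pullback.condition (f := f) (g := g))).inv.app _ ≫
        (Scheme.Modules.pullbackComp (pullback.fst f g) f).inv.app _ ≫
        (Scheme.Modules.pullback (pullback.fst f g)).map
          ((Scheme.Modules.pullbackPushforwardAdjunction f).counit.app (CohB1.tensorPow ω m)))) := by
  obtain ⟨_, _, _, _, -⟩ := GrothLib.CanonTriv.isProper_and_flat f hproj n
  haveI : Smooth f := SmoothOfRelativeDimension.smooth n f
  haveI : IsProper (pullback.snd f g) := inferInstance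
  haveI : Smooth (pullback.snd f g) := inferInstance
  haveI : GeometricallyConnected (pullback.snd f g) := inferInstance
  haveI := GrothLib.SecComp6.geometricallyReduced_of_smooth (pullback.snd f g)
  have h0 : ∀ y : S', Module.finrank (S'.residueField y) Γ((pullback.snd f g).fiber y, ⊤) = 1 :=
    fun y => GrothLib.Seesaw26.finrank_fiber_functions_eq_one (pullback.snd f g) y
  have hO := GrothLib.Seesaw26.bijective_app_of_invertible (pullback.snd f g)
    (GrothLib.Seesaw26.invertible_push_structure (pullback.snd f g) h0)
  have hN := Groth.Agent.S15936.result f hproj n ω hω m hm hev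
  have hNi : PicF.IsInvertible ((Scheme.Modules.pushforward f).obj (CohB1.tensorPow ω m)) := by
    intro y
    obtain ⟨U, hy, ⟨e⟩⟩ := hN y
    exact ⟨U, hy, ⟨e ≪≫ coproductUniqueIso (fun _ : Fin 1 => Coh.structureModule U.toScheme)⟩⟩
  haveI := GrothLib.UnitLF26.isIso_unit (pullback.snd f g) hO
    (GrothLib.Euler.isFinLocFree_of_isInvertible (GrothLib.Ample.isInvertible_pullback g hNi))
  haveI : IsIso ((Scheme.Modules.pullbackPushforwardAdjunction (pullback.snd f g)).unit.app
      ((Scheme.Modules.pullback g).obj ((Scheme.Modules.pushforward f).obj (CohB1.tensorPow ω m)))) := ‹_›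
  haveI := hev
  rw [Adjunction.homEquiv_unit]
  infer_instance

end Groth.Agent.S15938
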