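import Groth.Statements.S15939
import Mathlib
-- import your own Groth.Agent.* helpers here

set_option autoImplicit false
universe u
open CAlg

namespace Groth.Agent.S15939

open Polynomial in
/-- Let κ be a field and A a commutative κ-algebra whose only κ-subalgebras are the image of κ and A
itself, these two being different. Then A is finite-dimensional over κ, and A is isomorphic as a
κ-algebra to the dual numbers over κ, or to κ × κ, or A is a field which is either separable over κ
or isomorphic to κ[X]/(X^p - a) with p the (positive) characteristic of κ and a an element of κ that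
is not a p-th power. (The published statement also records that these four cases exclude one
another; that part is not restated.) -/
theorem result (κ A : Type u) [Field κ] [CommRing A] [Algebra κ A]
    (h : IsSimpleOrder (Subalgebra κ A)) :
    FiniteDimensional κ A ∧
    (Nonempty (A ≃ₐ[κ] DualNumber κ) ∨ Nonempty (A ≃ₐ[κ] (κ × κ)) ∨
      (IsField A ∧ (Algebra.IsSeparable κ A ∨
        ∃ (p : ℕ) (a : κ), p.Prime ∧ CharP κ p ∧ (∀ b : κ, b ^ p ≠ a) ∧
          Nonempty (A ≃ₐ[κ] AdjoinRoot (X ^ p - C a))))) := by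
  classical
  have hgen : ∀ z : A, z ∉ (⊥ : Subalgebra κ A) → Algebra.adjoin κ ({z} : Set A) = ⊤ := fun z hz =>
    (eq_bot_or_eq_top _).resolve_left fun h0 => hz (h0 ▸ Algebra.self_mem_adjoin_singleton κ z)
  obtain ⟨x, hx⟩ : ∃ x : A, x ∉ (⊥ : Subalgebra κ A) := by
    by_contra hc
    push Not at hc
    exact (bot_ne_top : (⊥ : Subalgebra κ A) ≠ ⊤) (SetLike.ext fun z => ⟨fun _ => Algebra.mem_top, fun _ => hc z⟩)
  have : Nontrivial A := by
    refine ⟨⟨x, 0, fun h0 => hx (h0 ▸ zero_mem _)⟩⟩
  have hinj : Function.Injective (algebraMap κ A) := (algebraMap κ A).injective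
  have halg : IsAlgebraic κ x := by
    by_contra htr
    have htr : Transcendental κ x := htr
    have h2 : x ^ 2 ∉ (⊥ : Subalgebra κ A) := fun h2 => by
      obtain ⟨c, hc⟩ := Algebra.mem_bot.1 h2
      refine htr ⟨X ^ 2 - C c, (monic_X_pow_sub_C c two_ne_zero).ne_zero, ?_⟩
      simp [hc]
    have hx' : x ∈ Algebra.adjoin κ ({x ^ 2} : Set A) := by rw [hgen _ h2]; trivial
    rw [Algebra.adjoin_singleton_eq_range_aeval] at hx'
    obtain ⟨q, hq⟩ := hx'
    refine htr ⟨q.comp (X ^ 2) - X, fun h0 => ?_, ?_⟩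
    · have := congrArg (fun P : κ[X] => P.natDegree) (sub_eq_zero.1 h0)
      simp [natDegree_comp] at this
    · rw [map_sub, aeval_comp, map_pow, aeval_X]
      exact sub_eq_zero.2 hq
  have hint : IsIntegral κ x := halg.isIntegral
  have hfd : FiniteDimensional κ A := by
    have h1 := hint.fg_adjoin_singleton
    rw [hgen x hx, Algebra.top_toSubmodule] at h1
    exact ⟨h1⟩
  refine ⟨hfd, ?_⟩
  by_cases hred : IsReduced A
  swap
  · -- dual numbers
    left
    obtain ⟨ε, hε0, hε2⟩ : ∃ ε : A, ε ≠ 0 ∧ ε * ε = 0 := by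
      obtain ⟨z, hz⟩ : ∃ z : A, z ≠ 0 ∧ IsNilpotent z := by
        simpa [isReduced_iff, not_forall, and_comm] using hred
      have H : ∃ k, z ^ (k + 1) = 0 := by
        obtain ⟨k, hk⟩ := hz.2
        exact ⟨k, by rw [pow_succ, hk, zero_mul]⟩
      have hpos : Nat.find H ≠ 0 := fun h0 => hz.1 (by
        have := Nat.find_spec H
        rwa [h0, zero_add, pow_one] at this)
      obtain ⟨k, hk⟩ := Nat.exists_eq_succ_of_ne_zero hpos
      refine ⟨z ^ (k + 1), Nat.find_min H (by omega), ?_⟩
      rw [← pow_add]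
      refine pow_eq_zero_of_le ?_ (Nat.find_spec H)
      omega
    have hεb : ε ∉ (⊥ : Subalgebra κ A) := fun hm => by
      obtain ⟨c, rfl⟩ := Algebra.mem_bot.1 hm
      rw [← map_mul, map_eq_zero_iff _ hinj, mul_self_eq_zero] at hε2
      exact hε0 (by rw [hε2, map_zero])
    let f : DualNumber κ →ₐ[κ] A := DualNumber.lift ⟨(Algebra.ofId κ A, ε), hε2,
      fun r => mul_comm _ _⟩
    have hfe : f DualNumber.eps = ε := DualNumber.lift_apply_eps _
    refine ⟨(AlgEquiv.ofBijective f ⟨?_, ?_⟩).symm⟩
    · rw [injective_iff_map_eq_zero]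
      intro z hz
      have e : z = algebraMap κ _ z.fst + algebraMap κ _ z.snd * DualNumber.eps := by
        ext <;> simp [TrivSqZeroExt.algebraMap_eq_inl]
      rw [e, map_add, map_mul, AlgHom.commutes, AlgHom.commutes, hfe] at hz
      have hs : z.snd = 0 := by
        by_contra hs
        apply hεb
        have : ε = algebraMap κ A (-z.fst / z.snd) := by
          rw [div_eq_inv_mul, map_mul, map_neg, ← eq_neg_of_add_eq_zero_right hz, ← mul_assoc, ← map_mul,
            inv_mul_cancel₀ hs, map_one, one_mul]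
        rw [this]
        exact Subalgebra.algebraMap_mem _ _
      rw [hs, map_zero, zero_mul, add_zero, map_eq_zero_iff _ hinj] at hz
      rw [e, hs, hz]
      simp
    · rw [← AlgHom.range_eq_top, eq_top_iff, ← hgen ε hεb, Algebra.adjoin_le_iff,
        Set.singleton_subset_iff]
      exact ⟨_, hfe⟩
  by_cases hF : IsField A
  swap
  · -- product
    right; left
    obtain ⟨y, hy0, hyu⟩ : ∃ y : A, y ≠ 0 ∧ ¬ IsUnit y := by
      by_contra hc
      push Not at hc
      exact hF ⟨⟨0, 1, zero_ne_one⟩, mul_comm, fun {a} ha => isUnit_iff_exists_inv.1 (hc a ha)⟩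
    have : IsArtinianRing A := IsArtinianRing.of_finite κ A
    obtain ⟨k, w, hkw⟩ := IsArtinian.exists_pow_succ_smul_dvd y (1 : A)
    simp only [smul_eq_mul, mul_one] at hkw
    have hiter : ∀ j, y ^ k = y ^ (k + j) * w ^ j := by
      intro j
      induction j with
      | zero => simp
      | succ j ih =>
        calc y ^ k = y ^ (k + j) * w ^ j := ih
          _ = (y ^ k) * y ^ j * w ^ j := by rw [pow_add]
          _ = (y ^ (k + 1) * w) * y ^ j * w ^ j := by rw [Nat.succ_eq_add_one] at hkw; rw [hkw]
          _ = y ^ (k + (j + 1)) * w ^ (j + 1) := by ring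
    let e := y ^ k * w ^ k
    have hee : e * e = e := by
      show y ^ k * w ^ k * (y ^ k * w ^ k) = y ^ k * w ^ k
      conv_rhs => rw [hiter k, pow_add]
      ring
    have he0 : e ≠ 0 := fun h0 => by
      have : y ^ k = 0 := by rw [hiter k, pow_add, mul_assoc, show y ^ k * w ^ k = e from rfl, h0, mul_zero]
      exact hy0 (IsReduced.eq_zero y ⟨k, this⟩)
    have he1 : e ≠ 1 := fun h1 => by
      rcases k with _ | k
      · simp only [zero_add, pow_zero] at hkw
        exact hyu (IsUnit.of_mul_eq_one w (by simpa using hkw))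
      · refine hyu (isUnit_of_mul_isUnit_left (y := y ^ k * w ^ (k + 1)) ?_)
        rw [show y * (y ^ k * w ^ (k + 1)) = e by simp only [e]; ring, h1]
        exact isUnit_one
    have heb : e ∉ (⊥ : Subalgebra κ A) := fun hm => by
      obtain ⟨c, hc⟩ := Algebra.mem_bot.1 hm
      rw [← hc, ← map_mul] at hee
      rcases mul_eq_left₀ (M₀ := κ) (a := c) (b := c) (fun hc0 => he0 (by rw [← hc, hc0, map_zero])) |>.1 (hinj hee) with rfl
      exact he1 (by rw [← hc, map_one])
    let f : κ × κ →ₐ[κ] A :=
      { toFun := fun z => algebraMap κ A z.1 * e + algebraMap κ A z.2 * (1 - e)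
        map_one' := by simp
        map_mul' := fun z z' => by
          simp only [Prod.fst_mul, Prod.snd_mul, map_mul]
          linear_combination (-(algebraMap κ A z.1 * algebraMap κ A z'.1) - algebraMap κ A z.2 * algebraMap κ A z'.2
            + algebraMap κ A z.1 * algebraMap κ A z'.2 + algebraMap κ A z.2 * algebraMap κ A z'.1) * hee
        map_zero' := by simp
        map_add' := fun z z' => by simp only [Prod.fst_add, Prod.snd_add, map_add]; ring
        commutes' := fun r => by simp [Prod.algebraMap_apply]; ring }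
    refine ⟨(AlgEquiv.ofBijective f ⟨?_, ?_⟩).symm⟩
    · rw [injective_iff_map_eq_zero]
      intro z hz
      have hz' : algebraMap κ A z.1 * e + algebraMap κ A z.2 * (1 - e) = 0 := hz
      have h1 : algebraMap κ A z.1 * e = 0 := by linear_combination e * hz' + (algebraMap κ A z.2 - algebraMap κ A z.1) * hee
      have h2 : algebraMap κ A z.2 * (1 - e) = 0 := by linear_combination hz' - h1
      have z1 : z.1 = 0 := by
        by_contra hne
        exact he0 (((IsUnit.mk0 _ hne).map (algebraMap κ A)).mul_right_eq_zero.1 h1)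
      have z2 : z.2 = 0 := by
        by_contra hne
        exact he1 (sub_eq_zero.1 (((IsUnit.mk0 _ hne).map (algebraMap κ A)).mul_right_eq_zero.1 h2)).symm
      exact Prod.ext z1 z2
    · rw [← AlgHom.range_eq_top, eq_top_iff, ← hgen e heb, Algebra.adjoin_le_iff, Set.singleton_subset_iff]
      exact ⟨(1, 0), by simp [f]⟩
  -- field
  right; right
  refine ⟨hF, ?_⟩
  letI := hF.toField
  by_cases hsep : Algebra.IsSeparable κ A
  · exact Or.inl hsep
  right
  obtain ⟨p, hp⟩ := ExpChar.exists κ
  rcases hp with _ | ⟨hprime⟩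
  · exact absurd (inferInstanceAs (Algebra.IsSeparable κ A)) hsep
  have : Fact p.Prime := ⟨hprime⟩
  have : CharP A p := charP_of_injective_algebraMap hinj p
  let E := separableClosure κ A
  have hEb : E.toSubalgebra = ⊥ := (eq_bot_or_eq_top _).resolve_right fun ht => hsep <| by
    rw [separableClosure.eq_top_iff (F := κ) (E := A) |>.symm]
    exact IntermediateField.toSubalgebra_injective ht
  have hpi : IsPurelyInseparable κ A := separableClosure.eq_bot_iff.1
    (IntermediateField.toSubalgebra_injective (hEb.trans IntermediateField.bot_toSubalgebra.symm))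
  obtain ⟨k, b, hb⟩ := (isPurelyInseparable_iff_pow_mem κ p).1 hpi x
  have H : ∃ k, x ^ p ^ k ∈ (⊥ : Subalgebra κ A) := ⟨k, Algebra.mem_bot.2 ⟨b, hb⟩⟩
  have hpos : Nat.find H ≠ 0 := fun h0 => hx (by
    have := Nat.find_spec H
    rwa [h0, pow_zero, pow_one] at this)
  obtain ⟨l, hl⟩ := Nat.exists_eq_succ_of_ne_zero hpos
  let y := x ^ p ^ l
  have hy : y ∉ (⊥ : Subalgebra κ A) := Nat.find_min H (by omega)
  have hyp : y ^ p ∈ (⊥ : Subalgebra κ A) := by
    have := Nat.find_spec H
    rwa [hl, Nat.succ_eq_add_one, pow_succ, pow_mul] at this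
  obtain ⟨a, ha⟩ := Algebra.mem_bot.1 hyp
  have hnp : ∀ c : κ, c ^ p ≠ a := by
    intro c hc
    refine hy (Algebra.mem_bot.2 ⟨c, frobenius_inj A p ?_⟩)
    show algebraMap κ A c ^ p = y ^ p
    rw [← map_pow, hc, ha]
  have hirr : Irreducible (X ^ p - C a) := X_pow_sub_C_irreducible_of_prime hprime hnp
  have := Fact.mk hirr
  refine ⟨p, a, hprime, inferInstance, hnp, ?_⟩
  let f : AdjoinRoot (X ^ p - C a) →ₐ[κ] A := AdjoinRoot.liftAlgHom _ (Algebra.ofId κ A) y (by simp [ha])
  refine ⟨(AlgEquiv.ofBijective f ⟨f.toRingHom.injective, ?_⟩).symm⟩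
  rw [← AlgHom.range_eq_top, eq_top_iff, ← hgen y hy, Algebra.adjoin_le_iff, Set.singleton_subset_iff]
  exact ⟨AdjoinRoot.root _, by simp [f]⟩

end Groth.Agent.S15939
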