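import Groth.Statements.S1594
import Groth.Agent.Lib.NodeEt.Descent

set_option autoImplicit false
universe u
open CategoryTheory CategoryTheory.Limits AlgebraicGeometry
open Curves

namespace Groth.Agent.S1594

/-- (2) implies (1), for a covering by one flat quasi-compact surjective morphism: let f : X → S and g :
S' → S flat, quasi-compact and surjective. If the base change X ×_S S' → S' is at-worst-nodal of
relative dimension one then so is f. -/
theorem result {X S S' : Scheme.{u}} (f : X ⟶ S) (g : S' ⟶ S) [Flat g] [QuasiCompact g] [Surjective g]
    (h : Curv2.IsNodalFamily (pullback.snd f g)) : Curv2.IsNodalFamily f :=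
  GrothLib.NodeEt.isNodalFamily_of_fpqc f g h

end Groth.Agent.S1594
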