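import Groth.Statements.S15942
-- import your own Groth.Agent.* helpers here
import Groth.Agent.Lib.SpreadOut.Glue
import Groth.Agent.Lib.GrpSchField.Neron
import Groth.Agent.Lib.CurvePoints.Basic

set_option autoImplicit false
universe u
open Neron

namespace Groth.Agent.S15942

open CategoryTheory AlgebraicGeometry in
/-- Let S be a Dedekind scheme (integral, Noetherian, separated, of dimension one, with regular local
rings), K its function field with generic point η : Spec K → S, and G → S a smooth separated
S-scheme. Suppose that for every closed point p of S the base change G_p = G ×_S Spec O_{S,p} is a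
Néron lft-model of its generic fibre over Spec O_{S,p}: for every smooth scheme Y over Spec O_{S,p},
restricting to generic fibres is a bijection from morphisms Y → G_p over Spec O_{S,p} onto morphisms
of generic fibres over K. Then G is a Néron lft-model of its generic fibre over S: for every smooth
S-scheme Y, restriction along η is a bijection from S-morphisms Y → G onto K-morphisms Y_η → G_η.
(The published statement is for a smooth separated group scheme; the group structure plays no part
in the property or in its proof and is not assumed here.) -/
theorem result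
    {S : Scheme.{u}} [IsIntegral S] [IsNoetherian S] [S.IsSeparated]
    (hreg : ∀ s : S, IsRegularLocalRing (S.presheaf.stalk s)) (hdim : topologicalKrullDim S = 1)
    (G : Over S) [Smooth G.hom] [IsSeparated G.hom]
    (hloc : ∀ p : S, IsClosed ({p} : Set S) →
      ∀ Y : Over (Spec (S.presheaf.stalk p)), Smooth Y.hom →
        Function.Bijective (fun g : Y ⟶ (Over.pullback (S.fromSpecStalk p)).obj G =>
          (Over.pullback (Spec.map (S.presheaf.stalkSpecializes (genericPoint_specializes p)))).map g)) :
    ∀ Y : Over S, Smooth Y.hom →
      Function.Bijective (fun g : Y ⟶ G => (Over.pullback (S.fromSpecStalk (genericPoint S))).map g) := by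
  open CategoryTheory CategoryTheory.Limits AlgebraicGeometry in
  intro Y _
  open CategoryTheory CategoryTheory.Limits AlgebraicGeometry in
  exact (GrothLib.GrpSchField.bijective_pullback_map_iff _ Y G).mpr (by
    let η := genericPoint S
    let bη := S.fromSpecStalk η
    haveI : IsDominant bη := ⟨dense_iff_closure_eq.mpr (Set.eq_univ_of_univ_subset (by
      rw [← show closure ({η} : Set S) = Set.univ from genericPoint_spec S]
      exact closure_mono (Set.singleton_subset_iff.mpr ⟨_, Scheme.fromSpecStalk_closedPoint⟩)))⟩
    haveI : IsSchemeTheoreticallyDominant bη := IsSchemeTheoreticallyDominant.of_isDominant _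
    haveI : IsNoetherianRing (S.presheaf.stalk η) := inferInstance
    haveI : IsAffineHom bη := by
      haveI : IsAffineHom (bη ≫ terminal.from S) := inferInstance
      haveI : IsSeparated (terminal.from S) := Scheme.IsSeparated.isSeparated_terminal_from
      exact IsAffineHom.of_comp bη (terminal.from S)
    let j := pullback.fst Y.hom bη
    haveI : QuasiCompact j := MorphismProperty.pullback_fst (P := @QuasiCompact) _ _ inferInstance
    haveI : IsLocallyNoetherian (pullback Y.hom bη) :=
      LocallyOfFiniteType.isLocallyNoetherian (pullback.snd Y.hom bη)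
    haveI : IsSchemeTheoreticallyDominant j := inferInstance
    intro φ hφ
    have hstage : ∀ p : S, ∃ gp : pullback Y.hom (S.fromSpecStalk p) ⟶ G.left,
        gp ≫ G.hom = pullback.fst Y.hom (S.fromSpecStalk p) ≫ Y.hom ∧
        pullback.fst j (pullback.fst Y.hom (S.fromSpecStalk p)) ≫ φ =
          pullback.snd j (pullback.fst Y.hom (S.fromSpecStalk p)) ≫ gp := by
      intro p
      by_cases hp : p = η
      · subst hp
        refine ⟨φ, hφ, ?_⟩
        haveI : Mono j := inferInstance
        rw [(cancel_mono j).mp (pullback.condition (f := j) (g := pullback.fst Y.hom (S.fromSpecStalk η)))]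
      · have hpc : IsClosed ({p} : Set S) := GrothLib.CurvePoints.isClosed_singleton hdim.le hp
        let b := S.fromSpecStalk p
        let s := Spec.map (S.presheaf.stalkSpecializes (genericPoint_specializes p))
        have hs : s ≫ b = bη := Scheme.SpecMap_stalkSpecializes_fromSpecStalk _
        have hU := (GrothLib.GrpSchField.bijective_pullback_map_iff s ((Over.pullback b).obj Y)
          ((Over.pullback b).obj G)).mp (hloc p hpc _ (MorphismProperty.pullback_snd (P := @Smooth) _ _ inferInstance))
        let Q := pullback (pullback.snd Y.hom b) s
        let t1 : Q ⟶ pullback Y.hom b := pullback.fst _ _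
        let t2 : Q ⟶ Spec (S.presheaf.stalk η) := pullback.snd _ _
        let θ : Q ⟶ pullback Y.hom bη := pullback.lift (t1 ≫ pullback.fst Y.hom b) t2 (by
          rw [Category.assoc, pullback.condition, ← hs, ← Category.assoc, pullback.condition, Category.assoc])
        have hθj : θ ≫ j = t1 ≫ pullback.fst Y.hom b := pullback.lift_fst _ _ _
        let h' : Q ⟶ pullback G.hom b := pullback.lift (θ ≫ φ) (t1 ≫ pullback.snd Y.hom b) (by
          rw [Category.assoc, hφ, reassoc_of% hθj, pullback.condition, Category.assoc])
        obtain ⟨g, ⟨hg1, hg2⟩, -⟩ := hU h' (pullback.lift_snd _ _ _)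
        refine ⟨g ≫ pullback.fst G.hom b, ?_, ?_⟩
        · rw [Category.assoc, pullback.condition, ← Category.assoc,
            show g ≫ pullback.snd G.hom b = pullback.snd Y.hom b from hg1, pullback.condition]
        · let R := pullback j (pullback.fst Y.hom b)
          let r1 : R ⟶ pullback Y.hom bη := pullback.fst _ _
          let r2 : R ⟶ pullback Y.hom b := pullback.snd _ _
          have hr : r1 ≫ j = r2 ≫ pullback.fst Y.hom b := pullback.condition
          let ω : R ⟶ Q := pullback.lift r2 (r1 ≫ pullback.snd Y.hom bη) (by
            rw [← cancel_mono b]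
            simp only [Category.assoc, hs, ← pullback.condition]
            exact (reassoc_of% hr.symm) _)
          have hω : ω ≫ θ = r1 := by
            apply pullback.hom_ext
            · rw [Category.assoc, hθj]
              exact (pullback.lift_fst_assoc _ _ _ _).trans hr.symm
            · rw [Category.assoc, show θ ≫ pullback.snd Y.hom bη = t2 from pullback.lift_snd _ _ _]
              exact pullback.lift_snd _ _ _
          have h2 : h' ≫ pullback.fst G.hom b = θ ≫ φ := pullback.lift_fst _ _ _
          show r1 ≫ φ = r2 ≫ g ≫ pullback.fst G.hom b
          rw [← hω, Category.assoc, ← h2, ← hg2, Category.assoc, ← Category.assoc ω]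
          exact congrArg (· ≫ g ≫ pullback.fst G.hom b) (pullback.lift_fst _ _ _)
    obtain ⟨F, hF1, hF2⟩ := GrothLib.SpreadOut.exists_extension j Y.hom G.hom φ hφ fun y => by
      obtain ⟨gp, hgp, hgpφ⟩ := hstage (Y.hom y)
      let q := pullback.fst Y.hom (S.fromSpecStalk (Y.hom y))
      let l : Spec (Y.left.presheaf.stalk y) ⟶ pullback Y.hom (S.fromSpecStalk (Y.hom y)) :=
        pullback.lift (Y.left.fromSpecStalk y) (Spec.map (Y.hom.stalkMap y))
          (Scheme.SpecMap_stalkMap_fromSpecStalk Y.hom).symm
      have hl : l ≫ q = Y.left.fromSpecStalk y := pullback.lift_fst _ _ _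
      refine ⟨l ≫ gp, by rw [Category.assoc, hgp, reassoc_of% hl], ?_⟩
      let m : pullback j (Y.left.fromSpecStalk y) ⟶ pullback j q :=
        pullback.lift (pullback.fst _ _) (pullback.snd _ _ ≫ l) (by rw [Category.assoc, hl, pullback.condition])
      have hm1 : m ≫ pullback.fst j q = pullback.fst _ _ := pullback.lift_fst _ _ _
      have hm2 : m ≫ pullback.snd j q = pullback.snd _ _ ≫ l := pullback.lift_snd _ _ _
      rw [← hm1, Category.assoc, hgpφ, ← Category.assoc, hm2, Category.assoc]
    exact ⟨F, ⟨hF1, hF2⟩, fun F' hF' => GrothLib.SchDense.ext_of_schDominant G.hom (hF'.1.trans hF1.symm) j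
      (hF'.2.trans hF2.symm)⟩)

end Groth.Agent.S15942
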