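import Groth.Statements.S15947
import Groth.Agent.Lib.PrimeAlg2.Seminorm

set_option autoImplicit false
set_option linter.all false
set_option backward.isDefEq.respectTransparency false
universe u
open Curves

namespace Groth.Agent.S15947

open CategoryTheory AlgebraicGeometry in
/-- Let κ be a field, C a reduced scheme of finite type over κ whose irreducible components all have
dimension one, and ς : C' → C a seminormalization of C: C' is seminormal and ς is a universal
homeomorphism inducing isomorphisms on residue fields, initial among such morphisms to C. If C is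
not seminormal, then ς is a finite composite C' = C_0 → C_1 → ⋯ → C_n = C in which each step C_i →
C_{i+1} is the push-out, in the category of schemes, of C_i and Spec κ(x) along a closed immersion
of the dual numbers Spec κ(x)[ε]/(ε²) into C_i, for some closed point x of C_{i+1}. -/
theorem result {κ : Type u} [Field κ] {C C' : Scheme.{u}}
    (g : C ⟶ Spec (CommRingCat.of κ)) [LocallyOfFiniteType g] [QuasiCompact g] [IsReduced C]
    (hdimC : ∀ W ∈ irreducibleComponents (C : Type u), topologicalKrullDim W = 1)
    (hC : ¬ HTop.IsSeminormal C) (ς : C' ⟶ C) (hς : HTop.IsSeminormalization ς) (hC' : HTop.IsSeminormal C') :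
    ∃ (n : ℕ) (F : ComposableArrows Scheme.{u} n) (e : F.left ≅ C') (e' : F.right ≅ C),
      e.inv ≫ F.hom ≫ e'.hom = ς ∧
      ∀ i : Fin n, ∃ (x : F.obj i.succ) (_ : IsClosed ({x} : Set (F.obj i.succ)))
        (j : Spec (CommRingCat.of (DualNumber ((F.obj i.succ).residueField x))) ⟶ F.obj i.castSucc),
        IsClosedImmersion j ∧
        IsPushout j (Spec.map (CommRingCat.ofHom (algebraMap ((F.obj i.succ).residueField x) (DualNumber ((F.obj i.succ).residueField x)))))
          (F.map (homOfLE (Fin.castSucc_lt_succ (i := i)).le)) ((F.obj i.succ).fromSpecResidueField x) := by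
  haveI := LocallyOfFiniteType.isLocallyNoetherian g
  obtain ⟨U, hU, hcl, hiso, hfin, hdom, hinj, hres⟩ :=
    GrothLib.PrimeAlg2.seminormalization_facts g hdimC ς hς hC'
  obtain ⟨n, F, e, e', he, hs⟩ := GrothLib.PrimeAlg2.hasChain_finite True U hU hcl ς fun _ => ⟨hinj, hres⟩
  refine ⟨n, F, e, e', he, fun i => ?_⟩
  obtain ⟨x, hx, A, cA, aA, hA, j, hj, hp, hH⟩ := (hs i).exists_residueField
  obtain ⟨ψ⟩ := hH trivial
  let φ := CommRingCat.ofHom ψ.toRingEquiv.toRingHom
  haveI : IsIso φ := (ConcreteCategory.isIso_iff_bijective φ).2 ψ.bijective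
  refine ⟨x, hx, Spec.map φ ≫ j, inferInstance, hp.of_iso (asIso (Spec.map φ)).symm (Iso.refl _) (Iso.refl _) (Iso.refl _) ?_ ?_ (by simp) (by simp)⟩
  · simp
  · simp only [Iso.refl_hom, Category.comp_id, Iso.symm_hom, asIso_inv, IsIso.eq_inv_comp]
    rw [← Spec.map_comp]
    refine congrArg Spec.map (CommRingCat.hom_ext (RingHom.ext fun c => ?_))
    exact ψ.commutes c

end Groth.Agent.S15947
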