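import Groth.Statements.S15948
import Groth.Agent.Lib.SemiCond2.Scheme

set_option autoImplicit false
set_option linter.all false
universe u
open Curves

namespace Groth.Agent.S15948

open CategoryTheory AlgebraicGeometry Limits in
/-- Let κ be a field, C a seminormal reduced scheme of finite type over κ whose irreducible components
all have dimension one, and ν : C̃ → C its normalisation (C̃ has integrally closed local domains, ν
is finite over κ and restricts to an isomorphism over a dense open subset of C whose preimage is
dense in C̃). Let D → C be the reduced closed subscheme whose underlying set is the set of points at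
which the local ring of C is not regular. Then the square with vertices C̃ ×_C D, C̃, D and C is a
push-out in the category of schemes, and moreover every fibre of ν is a reduced scheme. -/
theorem result {κ : Type u} [Field κ] {C Cn D : Scheme.{u}}
    (g : C ⟶ Spec (CommRingCat.of κ)) [LocallyOfFiniteType g] [QuasiCompact g] [IsReduced C]
    (hdimC : ∀ W ∈ irreducibleComponents (C : Type u), topologicalKrullDim W = 1)
    (hsn : HTop.IsSeminormal C)
    (ν : Cn ⟶ C) [IsFinite ν] (hn : Pi1.IsNormalScheme Cn)
    (hbir : ∃ U : C.Opens, Dense (U : Set C) ∧ Dense ((ν ⁻¹ᵁ U : Cn.Opens) : Set Cn) ∧ IsIso (ν ∣_ U))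
    (d : D ⟶ C) [IsClosedImmersion d] [IsReduced D]
    (hd : Set.range d.base = {x : C | ¬ IsRegularLocalRing (C.presheaf.stalk x)}) :
    IsPushout (pullback.fst ν d) (pullback.snd ν d) ν d ∧ ∀ x : C, IsReduced (ν.fiber x) := by
  refine ⟨GrothLib.Pushout6.isPushout_of_local pullback.condition fun x => ?_, fun x => ?_⟩
  · obtain ⟨W, hW, hxW, -⟩ := exists_isAffineOpen_mem_and_subset (X := C) (x := x) (U := ⊤) (TopologicalSpace.Opens.mem_top x)
    exact GrothLib.SemiCond2.nonempty_localData hW
      (GrothLib.SemiCond2.chartFacts ν g hdimC hsn hn hbir hW) d hd x hxW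
  · obtain ⟨W, hW, hxW, -⟩ := exists_isAffineOpen_mem_and_subset (X := C) (x := x) (U := ⊤) (TopologicalSpace.Opens.mem_top x)
    obtain ⟨p, rfl⟩ : x ∈ Set.range hW.fromSpec := by rw [hW.range_fromSpec]; exact hxW
    exact GrothLib.SemiCond2.isReduced_fiber_fromSpec hW
      (GrothLib.SemiCond2.chartFacts ν g hdimC hsn hn hbir hW) p

end Groth.Agent.S15948
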