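import Groth.Statements.S15949
import Groth.Agent.Lib.P1Const28.Main
import Groth.Agent.Lib.ProjIso26.Basic
import Groth.Agent.Lib.GrpSchField.Field
import Groth.Prelude.Def_Red
import Mathlib
-- import your own Groth.Agent.* helpers here

set_option autoImplicit false
universe u
open AlgGrp

namespace Groth.Agent.S15949

open CategoryTheory Limits AlgebraicGeometry MonoidalCategory CartesianMonoidalCategory MonObj
open GrothLib.P1Const28 hiding exists_factor

set_option backward.isDefEq.respectTransparency false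

/-- A morphism from the projective line to a group scheme over any field is constant. -/
theorem exists_factor {k : Type u} [Field k] (G : Over (Spec (CommRingCat.of k))) [GrpObj G] (φ : P1 k ⟶ G) :
    φ = toUnit _ ≫ coordPt 0 ≫ φ := by
  haveI := GrothLib.GrpSchField.isSeparated G
  let K := AlgebraicClosure k
  let h : k →+* K := algebraMap k K
  let b : Spec (CommRingCat.of K) ⟶ Spec (CommRingCat.of k) := Spec.map (CommRingCat.ofHom h)
  let GK := Red.bc b G
  letI : GrpObj GK := Red.grpObj_bc b G
  haveI : IsSeparated GK.hom := inferInstanceAs (IsSeparated (pullback.snd G.hom b))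
  let mK : CohB1.ProjSpace 1 K ⟶ CohB1.ProjSpace 1 k := Proj.map (coefG h) (coefG_irr h)
  have hm : mK ≫ CohB1.ProjSpace.toSpec 1 k = CohB1.ProjSpace.toSpec 1 K ≫ b :=
    map_toSpec _ _ h fun r => MvPolynomial.map_C _ _
  let ψ : P1 K ⟶ GK := Over.homMk (pullback.lift (mK ≫ φ.left) (CohB1.ProjSpace.toSpec 1 K)
    (by rw [Category.assoc, Over.w φ]; exact hm)) (pullback.lift_snd _ _ _)
  have hψ := congrArg (fun m => m.left ≫ pullback.fst G.hom b) (GrothLib.P1Const28.exists_factor GK ψ)
  have hψ' : mK ≫ φ.left =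
      CohB1.ProjSpace.toSpec 1 K ≫ (coordPt (k := K) 0).left ≫ mK ≫ φ.left := by
    refine Eq.trans ?_ (hψ.trans ?_)
    · exact (pullback.lift_fst _ _ _).symm
    · simp only [Over.comp_left, Category.assoc]
      rw [show ψ.left ≫ pullback.fst G.hom b = mK ≫ φ.left from pullback.lift_fst _ _ _]
      rfl
  have hc : (coordPt (k := K) 0).left ≫ mK = b ≫ (coordPt (k := k) 0).left := by
    refine (pt_map _ _ _ _ 0 0 (by simp) _ _ _ (fun r => ?_) fun l => ?_).trans (SpecMap_pt h _ _ 0 (by simp)).symm
    · show MvPolynomial.eval₂Hom _ _ (MvPolynomial.map h (MvPolynomial.C r)) = _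
      simp
    · show MvPolynomial.eval₂Hom _ _ (MvPolynomial.map h (MvPolynomial.X l)) = _
      fin_cases l <;> simp
  haveI : IsIntegral (P1 k).left := GrothLib.ProjDim.isIntegral_proj k 1
  haveI : IsDominant mK := by
    have hl : lineι K ≫ mK =
        Spec.map (CommRingCat.ofHom (Polynomial.mapRingHom h)) ≫ lineι k := by
      refine (pt_map _ _ _ _ 0 0 (by simp) _ _ _ (fun r => ?_) fun l => ?_).trans
        (SpecMap_pt (Polynomial.mapRingHom h) _ _ 0 (by simp)).symm
      · show MvPolynomial.eval₂Hom _ _ (MvPolynomial.map h (MvPolynomial.C r)) = _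
        simp
      · show MvPolynomial.eval₂Hom _ _ (MvPolynomial.map h (MvPolynomial.X l)) = _
        fin_cases l <;> simp
    haveI := isDominant_lineι (k := k)
    haveI : IsDominant (Spec.map (CommRingCat.ofHom (Polynomial.mapRingHom h))) :=
      ⟨(PrimeSpectrum.denseRange_comap_iff_ker_le_nilRadical (Polynomial.mapRingHom h)).2 (by
        rw [(RingHom.injective_iff_ker_eq_bot _).1 (Polynomial.map_injective h h.injective)]
        exact bot_le)⟩
    haveI : IsDominant (lineι K ≫ mK) := by rw [hl]; infer_instance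
    exact IsDominant.of_comp (lineι K) mK
  refine Over.OverMorphism.ext (ext_of_isDominant_of_isSeparated G.hom ((Over.w _).trans (Over.w _).symm) mK ?_)
  show mK ≫ φ.left = mK ≫ (P1 k).hom ≫ (coordPt 0).left ≫ φ.left
  rw [hψ', reassoc_of% hc]
  rw [← Category.assoc (CohB1.ProjSpace.toSpec 1 K), ← hm, Category.assoc]
  rfl


open CategoryTheory AlgebraicGeometry in
/-- Auxiliary step: let κ be an arbitrary field, G a group scheme over κ which is smooth over κ, and φ :
P¹_κ → G a morphism over κ. Then φ is constant: there is a κ-rational point g of G such that φ is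
the structure morphism P¹_κ → Spec κ followed by g. (The published proof states this step for any
smooth group scheme over a field in the course of proving the main proposition.) -/
theorem result (κ : Type u) [Field κ]
    (G : Over (Spec (CommRingCat.of κ))) [GrpObj G] [Smooth G.hom]
    (φ : CohB1.ProjSpaceOver 1 (Spec (CommRingCat.of κ)) ⟶ G.left)
    (hφ : φ ≫ G.hom = CohB1.ProjSpaceOver.toBase 1 (Spec (CommRingCat.of κ))) :
    ∃ g : Spec (CommRingCat.of κ) ⟶ G.left, g ≫ G.hom = 𝟙 _ ∧
      φ = CohB1.ProjSpaceOver.toBase 1 (Spec (CommRingCat.of κ)) ≫ g := by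
  haveI := GrothLib.ProjIso26.isIso_toProjSpace 1 κ
  let θ := GrothLib.Ample.ProjMap.toProjSpace 1 κ
  have hθ : θ ≫ CohB1.ProjSpace.toSpec 1 κ = CohB1.ProjSpaceOver.toBase 1 (Spec (CommRingCat.of κ)) :=
    GrothLib.Ample.ProjMap.toProjSpace_toSpec 1 κ
  let Φ : GrothLib.P1Const28.P1 κ ⟶ G := Over.homMk (inv θ ≫ φ) (by
    show (inv θ ≫ φ) ≫ G.hom = CohB1.ProjSpace.toSpec 1 κ
    rw [Category.assoc, hφ, ← hθ, IsIso.inv_hom_id_assoc])
  refine ⟨(GrothLib.P1Const28.coordPt 0).left ≫ Φ.left, ?_, ?_⟩
  · rw [Category.assoc, Over.w Φ]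
    exact Over.w (GrothLib.P1Const28.coordPt 0)
  · rw [← hθ, Category.assoc]
    have h := congrArg (fun m => m.left) (exists_factor G Φ)
    simp only [Over.comp_left, Over.toUnit_left] at h
    have h' : inv θ ≫ φ = CohB1.ProjSpace.toSpec 1 κ ≫ (GrothLib.P1Const28.coordPt 0).left ≫ Φ.left := h
    rw [← h', IsIso.hom_inv_id_assoc]


end Groth.Agent.S15949
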