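import Groth.Statements.S15958
import Mathlib
import Groth.Agent.Lib.Rigidity.KernelPair
import Groth.Agent.Lib.LocProp.BaseChangeDescent
import Groth.Agent.Lib.DiagGrp.KernelFP

set_option autoImplicit false
universe u
open Neron

namespace Groth.Agent.S15958

open CategoryTheory CategoryTheory.Limits AlgebraicGeometry MonObj MonoidalCategory CartesianMonoidalCategory

variable {S : Scheme.{u}}

/-- A homomorphism of smooth groups with smooth kernel which is flat and surjective is smooth. -/
theorem smooth_of_kernel {G H N : Over S} [GrpObj G] [GrpObj H] (f : G ⟶ H) [IsMonHom f]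
    (i : N ⟶ G) (hi : AlgGrp.IsKernel i f) [Smooth N.hom] [LocallyOfFinitePresentation f.left]
    [Flat f.left] [Surjective f.left] : Smooth f.left := by
  have h := (GrothLib.Rigidity.isPullback_kernelPair f i hi).map (Over.forget S)
  have hsn : Smooth (snd N G).left := MorphismProperty.of_isPullback (P := @Smooth)
    (IsPullback.of_hasPullback N.hom G.hom) inferInstance
  have hs : Smooth (pullback.snd f.left f.left) :=
    (MorphismProperty.cancel_left_of_respectsIso (P := @Smooth) h.isoPullback.hom _).mp (by
      have e1 : h.isoPullback.hom ≫ pullback.snd f.left f.left = (snd N G).left :=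
        h.isoPullback_hom_snd
      exact e1 ▸ hsn)
  rw [← Scheme.Hom.smoothLocus_eq_top_iff, eq_top_iff]
  intro x _
  obtain ⟨z, hz, -⟩ := Scheme.Pullback.exists_preimage_pullback (f := f.left) (g := f.left) x x rfl
  rw [← hz]
  exact (GrothLib.LocProp.smooth_nhd_iff f.left _).mp
    (GrothLib.LocProp.smooth_nhd_of_baseChange f.left f.left z (Flat.stalkMap f.left _)
      ⟨⊤, trivial, inferInstance⟩)

variable {T : Scheme.{u}} (τ : T ⟶ S)

/-- The base change to `T`, as an object over `S`. -/
noncomputable abbrev res (Y : Over S) : Over S := (Over.map τ).obj ((Over.pullback τ).obj Y)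

/-- The projection from the base change. -/
noncomputable abbrev jmap (Y : Over S) : res τ Y ⟶ Y := (Over.mapPullbackAdj τ).counit.app Y

/-- Restriction is a bijection iff composition with the projection is one. -/
theorem bijective_map_iff (Y G : Over S) :
    Function.Bijective (fun g : Y ⟶ G => (Over.pullback τ).map g) ↔
      Function.Bijective (fun g : Y ⟶ G => jmap τ Y ≫ g) := by
  have h : (fun g : Y ⟶ G => jmap τ Y ≫ g) =
      (((Over.mapPullbackAdj τ).homEquiv _ _).symm : _ → (res τ Y ⟶ G)) ∘
        fun g : Y ⟶ G => (Over.pullback τ).map g := by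
    funext g
    simp only [Function.comp_apply, Adjunction.homEquiv_counit]
    exact ((Over.mapPullbackAdj τ).counit.naturality g).symm
  rw [h, Equiv.comp_bijective]

/-- An extension of groups with the lifting property has the lifting property. -/
theorem bijective_of_extension (G' G G'' : Over S) [GrpObj G'] [GrpObj G] [GrpObj G'']
    (i : G' ⟶ G) (q : G ⟶ G'') [IsMonHom i] [IsMonHom q] (hker : AlgGrp.IsKernel i q)
    [Smooth q.left] [Surjective q.left]
    (h' : ∀ Y : Over S, Smooth Y.hom → Function.Bijective (fun g : Y ⟶ G' => jmap τ Y ≫ g))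
    (h'' : ∀ Y : Over S, Smooth Y.hom → Function.Bijective (fun g : Y ⟶ G'' => jmap τ Y ≫ g))
    (Y : Over S) (hY : Smooth Y.hom) :
    Function.Bijective (fun g : Y ⟶ G => jmap τ Y ≫ g) := by
  have : Mono η[G''] := mono_of_mono_fac (show η[G''] ≫ toUnit G'' = 𝟙 _ from toUnit_unique _ _)
  have hi : Mono i := PullbackCone.mono_fst_of_is_pullback_of_mono hker.isLimit
  have hlift : ∀ {A : Over S} (a : A ⟶ G), a ≫ q = 1 → ∃ a' : A ⟶ G', a' ≫ i = a := fun a ha =>
    ⟨hker.lift a (toUnit _) (by
      rw [ha, Hom.one_def]), hker.lift_fst _ _ _⟩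
  have hinj : ∀ (A : Over S), Smooth A.hom → ∀ g g' : A ⟶ G,
      jmap τ A ≫ g = jmap τ A ≫ g' → g = g' := by
    intro A hA g g' h
    have h1 : g ≫ q = g' ≫ q := (h'' A hA).1 (by
      show jmap τ A ≫ g ≫ q = jmap τ A ≫ g' ≫ q
      rw [reassoc_of% h])
    obtain ⟨d, hd⟩ := hlift (g * g'⁻¹) (by
      rw [MonObj.mul_comp, GrpObj.inv_comp, h1, _root_.mul_inv_cancel])
    have hd1 : d = 1 := (h' A hA).1 (by
      show jmap τ A ≫ d = jmap τ A ≫ 1
      rw [← cancel_mono i, Category.assoc, hd, MonObj.comp_mul, GrpObj.comp_inv, h,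
        _root_.mul_inv_cancel, MonObj.comp_one, MonObj.one_comp])
    rw [hd1, MonObj.one_comp] at hd
    exact mul_inv_eq_one.mp hd.symm
  refine ⟨fun g g' h => hinj Y hY g g' h, fun y => ?_⟩
  obtain ⟨h, hh : jmap τ Y ≫ h = y ≫ q⟩ := (h'' Y hY).2 (y ≫ q)
  have hsq : Smooth (pullback.fst h.left q.left) :=
    MorphismProperty.pullback_fst h.left q.left inferInstance
  let P : Over S := Over.mk (pullback.fst h.left q.left ≫ Y.hom)
  have hP : Smooth P.hom := inferInstanceAs (Smooth (pullback.fst h.left q.left ≫ Y.hom))
  let pr : P ⟶ Y := Over.homMk (pullback.fst h.left q.left) rfl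
  let p2 : P ⟶ G := Over.homMk (pullback.snd h.left q.left) (by
    show _ = pullback.fst h.left q.left ≫ Y.hom
    rw [← Over.w q, ← pullback.condition_assoc, Over.w h])
  have hp : p2 ≫ q = pr ≫ h := by
    ext : 1
    exact pullback.condition.symm
  let φ : ∀ {A B : Over S}, (A ⟶ B) → (res τ A ⟶ res τ B) := fun a =>
    (Over.map τ).map ((Over.pullback τ).map a)
  have hnat : ∀ {A B : Over S} (a : A ⟶ B), φ a ≫ jmap τ B = jmap τ A ≫ a := fun a =>
    (Over.mapPullbackAdj τ).counit.naturality a
  obtain ⟨e, he⟩ := hlift ((φ pr ≫ y) * (jmap τ P ≫ p2)⁻¹) (by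
    rw [MonObj.mul_comp, GrpObj.inv_comp, Category.assoc, Category.assoc, hp, ← hh,
      reassoc_of% (hnat pr), _root_.mul_inv_cancel])
  obtain ⟨d, hd : jmap τ P ≫ d = e⟩ := (h' P hP).2 e
  let z : P ⟶ G := (d ≫ i) * p2
  have hz : jmap τ P ≫ z = φ pr ≫ y := by
    simp only [z, MonObj.comp_mul]
    rw [← Category.assoc, hd, he, inv_mul_cancel_right]
  have hflat : Flat pr.left := inferInstanceAs (Flat (pullback.fst h.left q.left))
  have hsurj : Surjective pr.left :=
    inferInstanceAs (Surjective (pullback.fst h.left q.left))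
  have hlfp : LocallyOfFinitePresentation pr.left :=
    inferInstanceAs (LocallyOfFinitePresentation (pullback.fst h.left q.left))
  have hsm : Smooth pr.left := hsq
  let R : Over S := Over.mk (pullback.fst pr.left pr.left ≫ P.hom)
  have hR : Smooth R.hom := inferInstanceAs (Smooth (pullback.fst pr.left pr.left ≫ P.hom))
  let a : R ⟶ P := Over.homMk (pullback.fst pr.left pr.left) rfl
  let b : R ⟶ P := Over.homMk (pullback.snd pr.left pr.left) (by
    show _ = pullback.fst pr.left pr.left ≫ P.hom
    rw [show P.hom = pr.left ≫ Y.hom from rfl, pullback.condition_assoc])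
  have hab : a ≫ pr = b ≫ pr := by
    ext : 1
    exact pullback.condition
  have habz : a ≫ z = b ≫ z := hinj R hR _ _ (by
    rw [← reassoc_of% (hnat a), ← reassoc_of% (hnat b), hz]
    simp only [φ, ← Category.assoc, ← Functor.map_comp, hab])
  have hdesc : ∀ {Z : Scheme.{u}} (c c' : Z ⟶ P.left), c ≫ pr.left = c' ≫ pr.left →
      c ≫ z.left = c' ≫ z.left := by
    intro Z c c' hc
    have := congrArg (fun w => pullback.lift c c' hc ≫ w) (congrArg CommaMorphism.left habz)
    have e1 : pullback.lift c c' hc ≫ a.left = c := pullback.lift_fst _ _ _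
    have e2 : pullback.lift c c' hc ≫ b.left = c' := pullback.lift_snd _ _ _
    calc c ≫ z.left = (pullback.lift c c' hc ≫ a.left) ≫ z.left := by rw [e1]
      _ = pullback.lift c c' hc ≫ (a.left ≫ z.left) := Category.assoc _ _ _
      _ = pullback.lift c c' hc ≫ (b.left ≫ z.left) := this
      _ = (pullback.lift c c' hc ≫ b.left) ≫ z.left := (Category.assoc _ _ _).symm
      _ = c' ≫ z.left := by rw [e2]
  let w₀ := EffectiveEpi.desc pr.left z.left hdesc
  have hw₀ : pr.left ≫ w₀ = z.left := EffectiveEpi.fac _ _ hdesc
  let w : Y ⟶ G := Over.homMk w₀ (by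
    rw [← cancel_epi pr.left, reassoc_of% hw₀, Over.w z, Over.w pr])
  have hw : pr ≫ w = z := by
    ext : 1
    exact hw₀
  refine ⟨w, ?_⟩
  show jmap τ Y ≫ w = y
  have hpb : IsPullback (pullback.fst P.hom τ) (φ pr).left pr.left (pullback.fst Y.hom τ) := by
    refine IsPullback.of_bot ?_ ?_ (IsPullback.of_hasPullback Y.hom τ)
    · have : (φ pr).left ≫ pullback.snd Y.hom τ = pullback.snd P.hom τ := by
        simp [φ]
        exact pullback.lift_snd _ _ _
      rw [this, Over.w pr]
      exact IsPullback.of_hasPullback P.hom τ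
    · simp [φ]
      exact (pullback.lift_fst _ _ _).symm
  have : Flat (φ pr).left := MorphismProperty.of_isPullback hpb hflat
  have : Surjective (φ pr).left := MorphismProperty.of_isPullback hpb hsurj
  have : LocallyOfFinitePresentation (φ pr).left := MorphismProperty.of_isPullback hpb hlfp
  have h1 : φ pr ≫ jmap τ Y ≫ w = φ pr ≫ y := by
    rw [reassoc_of% (hnat pr), hw, hz]
  ext : 1
  rw [← cancel_epi (φ pr).left]
  exact congrArg CommaMorphism.left h1

end Groth.Agent.S15958

namespace Groth.Agent.S15958

open CategoryTheory AlgebraicGeometry MonObj in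
/-- Let S be a Dedekind scheme (integral, Noetherian, separated, of dimension one, with regular local
rings) with generic point η : Spec K → S, and let G', G and G'' be smooth separated group schemes
over S sitting in a short exact sequence 0 → G' → G → G'' → 0: i : G' → G and q : G → G'' are
homomorphisms, i identifies G' with the kernel of q, and q is flat and surjective. If G' and G'' are
Néron lft-models of their generic fibres (for every smooth S-scheme Y, restriction to η is a
bijection from S-morphisms into them onto K-morphisms of generic fibres), then so is G. -/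
theorem result
    {S : Scheme.{u}} [IsIntegral S] [IsNoetherian S] [S.IsSeparated]
    (hreg : ∀ s : S, IsRegularLocalRing (S.presheaf.stalk s)) (hdim : topologicalKrullDim S = 1)
    (G' G G'' : Over S) [GrpObj G'] [GrpObj G] [GrpObj G'']
    [Smooth G'.hom] [IsSeparated G'.hom] [Smooth G.hom] [IsSeparated G.hom] [Smooth G''.hom] [IsSeparated G''.hom]
    (i : G' ⟶ G) (q : G ⟶ G'') [IsMonHom i] [IsMonHom q]
    (hker : AlgGrp.IsKernel i q) [Flat q.left] [Surjective q.left]
    (hG' : ∀ Y : Over S, Smooth Y.hom →
        Function.Bijective (fun g : Y ⟶ G' => (Over.pullback (S.fromSpecStalk (genericPoint S))).map g))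
    (hG'' : ∀ Y : Over S, Smooth Y.hom →
        Function.Bijective (fun g : Y ⟶ G'' => (Over.pullback (S.fromSpecStalk (genericPoint S))).map g)) :
    ∀ Y : Over S, Smooth Y.hom →
        Function.Bijective (fun g : Y ⟶ G => (Over.pullback (S.fromSpecStalk (genericPoint S))).map g) := by
  intro Y hY
  rw [bijective_map_iff]
  have : LocallyOfFinitePresentation (q.left ≫ G''.hom) := by rw [Over.w q]; infer_instance
  have : LocallyOfFinitePresentation q.left :=
    GrothLib.DiagGrp.lfp_of_comp_of_lft q.left G''.hom inferInstance inferInstance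
  have := smooth_of_kernel q i hker
  exact bijective_of_extension _ G' G G'' i q hker
    (fun Z hZ => (bijective_map_iff _ Z G').mp (hG' Z hZ))
    (fun Z hZ => (bijective_map_iff _ Z G'').mp (hG'' Z hZ)) Y hY

end Groth.Agent.S15958
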