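import Groth.Statements.S16751
import Groth.Agent.Lib.Seesaw26.Universal
import Groth.Agent.Lib.GlobalConst.Scheme
import Groth.Agent.Lib.BCCrit.DimBound
import Groth.Agent.Lib.BCCrit.Degree0
import Groth.Agent.Lib.LocFree8.Basic

set_option autoImplicit false
universe u
open CurvSt

namespace Groth.Agent.S16751

set_option backward.isDefEq.respectTransparency false


open CategoryTheory CategoryTheory.Limits AlgebraicGeometry in
/-- Let f : X → S be a flat, proper morphism of schemes, locally of finite presentation, all of whose
fibres have dimension at most one (a family of curves whose total space is a scheme), and assume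
that for every point s of S the fibre X_s has dim_{κ(s)} H^0(X_s, O_{X_s}) = 1 (the residue field is
the ring of global functions of the fibre). Then (1) the map O_S → f_* O_X is an isomorphism, and so
is O_{S'} → f'_* O_{X'} for the base change f' of f along any morphism of schemes S' → S; and (2)
R^1 f_* O_X is a finite locally free O_S-module. The source allows the total space to be an
algebraic space, and also asserts the compatibility of R^1 f_* O_X with arbitrary base change, which
is not stated here. -/
theorem result (X S : Scheme.{u}) (f : X ⟶ S)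
    [Flat f] [IsProper f] [LocallyOfFinitePresentation f]
    (hdim : ∀ s : S, topologicalKrullDim ↥(f.fiber s) ≤ 1)
    (h0 : ∀ s : S, Models.hRank ↥(S.residueField s) (f.fiber s) (f.fiberToSpecResidueField s)
      (Coh.structureModule (f.fiber s)) 0 = 1)
    [HasInjectiveResolutions X.Modules] :
    (∀ (S' : Scheme.{u}) (g : S' ⟶ S), IsIso (ClSub.unitToPush (pullback.snd f g))) ∧
      FlatMod.IsFinLocFree ((Coh.Rpush f 1).obj (Coh.structureModule X)) := by
  haveI : (Coh.structureModule X).IsQuasicoherent :=
    GrothLib.InvExt.isQuasicoherent_of_isInvertible GrothLib.Euler.isInvertible_structure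
  haveI : Coh.IsQCoh (Coh.structureModule X) :=
    GrothLib.InvExt.isQuasicoherent_of_isInvertible GrothLib.Euler.isInvertible_structure
  have hΓ : ∀ s : S, Module.finrank (S.residueField s) Γ(f.fiber s, ⊤) = 1 := fun s => by
    letI : (f.fiber s).Over (Spec (CommRingCat.of (S.residueField s))) := ⟨f.fiberToSpecResidueField s⟩
    exact ((GrothLib.GlobalConst.h0Equiv (S.residueField s) (X := f.fiber s)).finrank_eq).symm.trans (h0 s)
  refine ⟨fun S' g => Scheme.Modules.Hom.isIso_iff_isIso_app.2 fun U =>
    (ConcreteCategory.isIso_iff_bijective _).2 (GrothLib.Seesaw26.bijective_app_baseChange f hΓ g U), fun s => ?_⟩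
  have hfp := GrothLib.LocFree8.isFP_of_isFinLocFree _
    (GrothLib.Euler.isFinLocFree_of_isInvertible (GrothLib.Euler.isInvertible_structure (X := X)))
  have hfl := GrothLib.Seesaw26.isFlatOver_structure f
  have h2 := (GrothLib.BCCrit.goodAll_of_fiberRank_eq_zero (f := f) (F := Coh.structureModule X) 2 s
    (GrothLib.BCCrit.fiberRank_eq_zero_of_dim_lt s 1 2 (hdim s) one_lt_two)).2
  have h1 : GrothLib.BCCrit.GoodAll f (Coh.structureModule X) ((0 : ℕ) : ℤ) s :=
    (GrothLib.BCCrit.goodAll_iff_epi0 hfp hfl s).2 (GrothLib.Seesaw26.epi_bc0_structure f s (hΓ s))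
  obtain ⟨U, n, hs, hφ, -⟩ := GrothLib.BCCrit.exists_free_near hfp hfl 1 s
    (by simpa using h1) (by simpa using h2)
  exact ⟨U, n, hs, hφ⟩

end Groth.Agent.S16751
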