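import Groth.Statements.S1596
import Groth.Agent.Lib.Seesaw26.FieldFunctions
import Groth.Agent.Lib.NodeEt.FieldExtBC
import Groth.Agent.S16751


set_option autoImplicit false
set_option linter.all false
set_option backward.isDefEq.respectTransparency false
universe u
open CategoryTheory CategoryTheory.Limits AlgebraicGeometry
open Curves

namespace Groth.Agent.S1596

/-- Let f : X → S be a proper morphism of schemes that is at-worst-nodal of relative dimension one with
geometrically connected fibres. Then R¹f_*O_X is a finite locally free O_S-module and R^q f_*O_X = 0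
for every q ≥ 2. The published statement also includes the compatibility of these direct images with
base change, which is not asserted here. (Existence of injective resolutions in the category of
O_X-modules is carried as an instance binder.) -/
theorem result {X S : Scheme.{u}} (f : X ⟶ S) [IsProper f] (hf : Curv2.IsNodalFamily f)
    [GeometricallyConnected f] [HasInjectiveResolutions X.Modules] :
    FlatMod.IsFinLocFree ((Coh.Rpush f 1).obj (Coh.structureModule X)) ∧
      ∀ q : ℕ, 2 ≤ q → IsZero ((Coh.Rpush f q).obj (Coh.structureModule X)) := by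
  obtain ⟨hflat, hlfp, hfib⟩ := hf
  haveI := hflat
  haveI := hlfp
  have hdim : ∀ s : S, topologicalKrullDim ↥(f.fiber s) ≤ 1 := fun s =>
    GrothLib.CurveLocus.topologicalKrullDim_le_of_components _ fun Z hZ => ((hfib s).1 Z hZ).le
  have h0 : ∀ s : S, Models.hRank ↥(S.residueField s) (f.fiber s) (f.fiberToSpecResidueField s)
      (Coh.structureModule (f.fiber s)) 0 = 1 := fun s => by
    haveI : IsProper (f.fiberToSpecResidueField s) :=
      inferInstanceAs (IsProper (pullback.snd f (S.fromSpecResidueField s)))
    haveI : GeometricallyConnected (f.fiberToSpecResidueField s) :=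
      inferInstanceAs (GeometricallyConnected (pullback.snd f (S.fromSpecResidueField s)))
    haveI : GeometricallyReduced (f.fiberToSpecResidueField s) :=
      GrothLib.NodeEt.geometricallyReduced_of_atWorstNodal (f.fiberToSpecResidueField s) (hfib s).2
    letI : (f.fiber s).Over (Spec (CommRingCat.of (S.residueField s))) := ⟨f.fiberToSpecResidueField s⟩
    exact (GrothLib.GlobalConst.h0Equiv (S.residueField s) (X := f.fiber s)).finrank_eq.trans
      (GrothLib.Seesaw26.finrank_functions_eq_one (K := S.residueField s) (f.fiberToSpecResidueField s))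
  refine ⟨(Groth.Agent.S16751.result X S f hdim h0).2, fun q hq => GrothLib.BCCrit.isZero_of_free_zero _ fun y => ?_⟩
  haveI : (Coh.structureModule X).IsQuasicoherent :=
    GrothLib.InvExt.isQuasicoherent_of_isInvertible GrothLib.Euler.isInvertible_structure
  haveI : Coh.IsQCoh (Coh.structureModule X) :=
    GrothLib.InvExt.isQuasicoherent_of_isInvertible GrothLib.Euler.isInvertible_structure
  have hfp := GrothLib.LocFree8.isFP_of_isFinLocFree _
    (GrothLib.Euler.isFinLocFree_of_isInvertible (GrothLib.Euler.isInvertible_structure (X := X)))
  have hfl := GrothLib.Seesaw26.isFlatOver_structure f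
  have hz := GrothLib.BCCrit.fiberRank_eq_zero_of_dim_lt (f := f) (F := Coh.structureModule X) y 1 q
    (hdim y) (by omega)
  obtain ⟨h2, h1⟩ := GrothLib.BCCrit.goodAll_of_fiberRank_eq_zero (f := f) (F := Coh.structureModule X) q y hz
  obtain ⟨U, n, hy, ⟨φ⟩, hn⟩ := GrothLib.BCCrit.exists_free_near hfp hfl q y h1 h2
  obtain rfl : n = 0 := (hn y hy).symm.trans hz
  exact ⟨U, hy, ⟨φ⟩⟩

end Groth.Agent.S1596
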