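import Groth.Statements.S15962
import Groth.Agent.Lib.SN25.Scheme
-- import your own Groth.Agent.* helpers here

set_option autoImplicit false
universe u
open HTop

namespace Groth.Agent.S15962

open CategoryTheory AlgebraicGeometry in
/-- Let S be a reduced Noetherian scheme, π : S̃ → S its normalisation (S̃ has integrally closed local
domains, π is integral and restricts to an isomorphism over a dense open subset of S whose preimage
is dense in S̃), and ν : X' → S a seminormalization of S (X' seminormal, ν a universal homeomorphism
inducing isomorphisms on residue fields, initial among such). Then the normalisation factors through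
the seminormalisation: there is a morphism g : S̃ → X' with g followed by ν equal to π. -/
theorem result {S Sn X' : Scheme.{u}} [IsNoetherian S] [IsReduced S]
    (π : Sn ⟶ S) [IsIntegralHom π] (hn : Pi1.IsNormalScheme Sn)
    (hbir : ∃ U : S.Opens, Dense (U : Set S) ∧ Dense ((π ⁻¹ᵁ U : Sn.Opens) : Set Sn) ∧ IsIso (π ∣_ U))
    (ν : X' ⟶ S) (hν : HTop.IsSeminormalization ν) (hX' : HTop.IsSeminormal X') :
    ∃ g : Sn ⟶ X', g ≫ ν = π := (GrothLib.SN25.existsUnique_lift (GrothLib.SN25.isSeminormal_of_isNormal hn) ν hν.1.1 hν.1.2 π).exists

end Groth.Agent.S15962
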