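import Groth.Statements.S15963
import Groth.Agent.Lib.SN25.Scheme
-- import your own Groth.Agent.* helpers here

set_option autoImplicit false
universe u
open HTop

namespace Groth.Agent.S15963

open CategoryTheory AlgebraicGeometry in
/-- Let S be a reduced Noetherian scheme, π : S̃ → S its normalisation (S̃ has integrally closed local
domains, π is integral and an isomorphism over a dense open subset of S with dense preimage), ν : X'
→ S a seminormalization of S (X' seminormal, ν a universal homeomorphism with residue-field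
isomorphisms, initial among such) and g : S̃ → X' a morphism with g followed by ν equal to π. Then ν
and g are scheme-theoretically dominant (the structure sheaf maps injectively into the direct
image), and if π is finite then so are ν and g. -/
theorem result {S Sn X' : Scheme.{u}}
    [IsNoetherian S] [IsReduced S]
    (π : Sn ⟶ S) [IsIntegralHom π] (hn : Pi1.IsNormalScheme Sn)
    (hbir : ∃ U : S.Opens, Dense (U : Set S) ∧ Dense ((π ⁻¹ᵁ U : Sn.Opens) : Set Sn) ∧ IsIso (π ∣_ U))
    (ν : X' ⟶ S) (hν : HTop.IsSeminormalization ν) (hX' : HTop.IsSeminormal X')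
    (g : Sn ⟶ X') (hg : g ≫ ν = π) :
    (IsSchemeTheoreticallyDominant ν ∧ IsSchemeTheoreticallyDominant g) ∧
      (IsFinite π → IsFinite ν ∧ IsFinite g) := by
  have hX'r : IsReduced X' := Groth.Agent.S7421.result.2 X' hX'
  have hνs := GrothLib.Frob.surjective_of ν hν.1.1
  obtain ⟨hνi, hνu, -⟩ := (Groth.Agent.S0415.result ν).1 hν.1.1
  have hπs : Surjective π := by
    obtain ⟨U, hUd, -, hiso⟩ := hbir
    refine ⟨Set.range_eq_univ.1 (Set.eq_univ_of_univ_subset ?_)⟩
    rw [← hUd.closure_eq]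
    refine π.isClosedMap.isClosed_range.closure_subset_iff.2 fun s hs => ?_
    obtain ⟨y, hy⟩ := (π ∣_ U).surjective ⟨s, hs⟩
    refine ⟨(π ⁻¹ᵁ U).ι y, ?_⟩
    rw [← Scheme.Hom.comp_apply, ← morphismRestrict_ι, Scheme.Hom.comp_apply, hy]
    rfl
  have hgs : Surjective g := ⟨fun x => by
    obtain ⟨y, hy⟩ := π.surjective (ν x)
    refine ⟨y, ν.injective ?_⟩
    rw [← Scheme.Hom.comp_apply, hg, hy]⟩
  have h1 : IsSchemeTheoreticallyDominant ν := .of_isDominant ν
  have h2 : IsSchemeTheoreticallyDominant g := .of_isDominant g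
  refine ⟨⟨h1, h2⟩, fun hπ => ?_⟩
  have hgi : IsIntegralHom g := by
    have : IsIntegralHom (g ≫ ν) := hg ▸ inferInstance
    exact MorphismProperty.of_postcomp _ g ν (inferInstance : IsSeparated ν) this
  have hfin : IsFinite ν := by
    rw [isFinite_iff]
    refine ⟨inferInstance, fun U hU => ?_⟩
    have hN : IsNoetherianRing Γ(S, U) := IsLocallyNoetherian.component_noetherian ⟨U, hU⟩
    have hc : (g.app (ν ⁻¹ᵁ U)).hom.comp (ν.app U).hom = ((g ≫ ν).app U).hom := by
      rw [Scheme.Hom.comp_app]; rfl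
    have hfin : ((g ≫ ν).app U).hom.Finite := by
      subst hg
      exact IsFinite.finite_app _ U hU
    let _ : Algebra Γ(S, U) Γ(X', ν ⁻¹ᵁ U) := (ν.app U).hom.toAlgebra
    let _ : Algebra Γ(S, U) Γ(Sn, g ⁻¹ᵁ ν ⁻¹ᵁ U) := ((g ≫ ν).app U).hom.toAlgebra
    have : Module.Finite Γ(S, U) Γ(Sn, g ⁻¹ᵁ ν ⁻¹ᵁ U) := hfin
    let l : Γ(X', ν ⁻¹ᵁ U) →ₐ[Γ(S, U)] Γ(Sn, g ⁻¹ᵁ ν ⁻¹ᵁ U) :=
      ⟨(g.app (ν ⁻¹ᵁ U)).hom, RingHom.congr_fun hc⟩
    exact Module.Finite.of_injective l.toLinearMap (g.app_injective (ν ⁻¹ᵁ U))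
  refine ⟨hfin, ?_⟩
  have : IsFinite (g ≫ ν) := hg ▸ hπ
  exact IsFinite.of_comp g ν

end Groth.Agent.S15963
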