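import Groth.Statements.S15976
-- import your own Groth.Agent.* helpers here
import Groth.Agent.Lib.Snapper.AvoidAll
import Groth.Agent.Lib.QCohTwist9.Basic
import Groth.Agent.Lib.ParaPair.Pair
import Mathlib.Algebra.Module.Submodule.Union

set_option autoImplicit false
universe u
open IntSh

open CategoryTheory CategoryTheory.Limits AlgebraicGeometry TopologicalSpace GrothLib
open GrothLib.InvExt (mres fres IsGen)
open GrothLib.Mero.Zero (gsecOf gsecOf_mres)

namespace GrothAux.S15976

theorem avoid {A : Type u} [CommRing A] [IsLocalRing A] (hA : Infinite (IsLocalRing.ResidueField A)) {n : ℕ}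
    {ι : Type*} [Finite ι] (W : ι → Submodule A (Fin n → A)) (hW : ∀ i, W i ≠ ⊤) :
    ∃ a : Fin n → A, ∀ i, a ∉ W i := by
  let κ := IsLocalRing.ResidueField A
  let π : (Fin n → A) →ₗ[A] (Fin n → κ) := (Algebra.linearMap A κ).compLeft (Fin n)
  have hπ : Function.Surjective π := fun v => ⟨fun i => (IsLocalRing.residue_surjective (v i)).choose,
    funext fun i => (IsLocalRing.residue_surjective (v i)).choose_spec⟩
  have hker : LinearMap.ker π ≤ IsLocalRing.maximalIdeal A • (⊤ : Submodule A (Fin n → A)) := by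
    intro v hv
    have hv' : ∀ i, v i ∈ IsLocalRing.maximalIdeal A := fun i =>
      (IsLocalRing.residue_eq_zero_iff _).1 (congrFun hv i)
    rw [pi_eq_sum_univ v]
    exact Submodule.sum_mem _ fun i _ => Submodule.smul_mem_smul (hv' i) Submodule.mem_top
  have hne : ∀ i, Submodule.span κ ((W i).map π : Set (Fin n → κ)) ≠ ⊤ := by
    intro i h
    apply hW i
    have h1 : (W i).map π = ⊤ := by
      have h2 := congrArg (Submodule.restrictScalars A) h
      rwa [Submodule.restrictScalars_span A κ IsLocalRing.residue_surjective, Submodule.span_eq, Submodule.restrictScalars_top] at h2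
    have h3 : (⊤ : Submodule A (Fin n → A)) ≤ W i ⊔ IsLocalRing.maximalIdeal A • ⊤ := by
      intro v _
      obtain ⟨w, hw, hwv⟩ : π v ∈ (W i).map π := by rw [h1]; trivial
      exact Submodule.mem_sup.2 ⟨w, hw, v - w, hker (by simp [LinearMap.mem_ker, map_sub, hwv]), by simp⟩
    refine eq_top_iff.2 (Submodule.le_of_le_smul_of_le_jacobson_bot Module.Finite.fg_top ?_ h3)
    rw [IsLocalRing.jacobson_eq_maximalIdeal ⊥ bot_ne_top]
  haveI : Infinite κ := hA
  obtain ⟨v, hv⟩ := Submodule.exists_forall_notMem_of_forall_ne_top _ hne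
  obtain ⟨a, rfl⟩ := hπ v
  exact ⟨a, fun i hi => hv i (Submodule.subset_span ⟨a, hi, rfl⟩)⟩

theorem mono_of_mem_genLocus {X : Scheme.{u}} {L : X.Modules} (τ : Coh.structureModule X ⟶ L) {F : X.Modules}
    [F.IsQuasicoherent] (h : ∀ x, Curv2.IsWeakAssPoint F x → x ∈ CohB1.genLocus L τ) :
    Mono (((DCoh.tensorBi (X := X)).obj F).map τ) := by
  let u : ((DCoh.tensorBi (X := X)).obj F).obj (Coh.structureModule X) ≅ F :=
    (OX.tensorBraiding.app F).symm.app _ ≪≫ OX.tensorUnitLeftIso F
  have hm : Mono (u.inv ≫ ((DCoh.tensorBi (X := X)).obj F).map τ) := by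
    refine CMReg.mono_of_stalk_injective_weakAss _ fun x hx => ?_
    obtain ⟨U, hxU, hU⟩ := Kodaira.exists_isoOn_of_mem_genLocus τ (h x hx)
    exact (((Kodaira.isoOn_of_iso U u.inv).comp (hU.tensor_left F)).stalk_bijective hxU).1
  rw [show ((DCoh.tensorBi (X := X)).obj F).map τ = u.hom ≫ u.inv ≫ ((DCoh.tensorBi (X := X)).obj F).map τ by simp]
  infer_instance

end GrothAux.S15976

namespace Groth.Agent.S15976

open CategoryTheory CategoryTheory.Limits AlgebraicGeometry Opposite in
/-- Let A be a Noetherian local ring with infinite residue field, V a Noetherian scheme over Spec A, L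
an invertible O_V-module generated by finitely many global sections σ_0, …, σ_N (at every point some
σ_i generates L), and F_1, …, F_m coherent O_V-modules. Then some A-linear combination σ of the σ_i
is F_j-regular for every j, regularity of a global section σ of L with respect to F meaning that the
map F ⊗ O_V → F ⊗ L induced by σ is injective. The combination is expressed through the global
sections σ(1), σ_i(1) ∈ Γ(V, L) and the images in Γ(V, O_V) of the coefficients from A. -/
theorem result
    {A : Type u} [CommRing A] [IsNoetherianRing A] [IsLocalRing A]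
    (hA : Infinite (IsLocalRing.ResidueField A))
    {V : Scheme.{u}} [IsNoetherian V] (f : V ⟶ Spec (CommRingCat.of A))
    (L : V.Modules) (hL : PicF.IsInvertible L)
    {N : ℕ} (σ : Fin (N + 1) → (Coh.structureModule V ⟶ L))
    (hgen : ∀ x : V, ∃ i, x ∈ CohB1.genLocus L (σ i))
    {m : ℕ} (F : Fin m → V.Modules) (hF : ∀ j, Coh.IsCoh (F j)) :
    ∃ (τ : Coh.structureModule V ⟶ L) (a : Fin (N + 1) → A),
      τ.val.app (op ⊤) (1 : V.ringCatSheaf.obj.obj (op ⊤)) =
        ∑ i, f.appTop ((Scheme.ΓSpecIso (CommRingCat.of A)).inv (a i)) •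
          (σ i).val.app (op ⊤) (1 : V.ringCatSheaf.obj.obj (op ⊤)) ∧
      ∀ j, Mono (((DCoh.tensorBi (X := V)).obj (F j)).map τ) := by
  classical
  let g : A →+* Γ(V, ⊤) := f.appTop.hom.comp (Scheme.ΓSpecIso (CommRingCat.of A)).inv.hom
  have hτ : ∀ a : Fin (N + 1) → A, ∃ τ : Coh.structureModule V ⟶ L,
      gsecOf τ ⊤ = ∑ i, g (a i) • gsecOf (σ i) ⊤ := fun a => (ParaPair.eval_top_bijective L).2 _
  choose τ hτ using hτ
  let T : Set V := ⋃ j, {x | Curv2.IsWeakAssPoint (F j) x}
  haveI : Finite T := (Set.finite_iUnion fun j => NegTwist.finite_weakAss (hF j)).to_subtype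
  have key : ∀ x : V, ∃ W : Submodule A (Fin (N + 1) → A), W ≠ ⊤ ∧ ∀ a, a ∉ W → x ∈ CohB1.genLocus L (τ a) := by
    intro x
    obtain ⟨U, e, hxU, he⟩ := InvExt.exists_gen_nhd hL x
    choose c hc using fun i => he.exists_smul_eq le_rfl (gsecOf (σ i) U)
    have hc' : ∀ i, gsecOf (σ i) U = c i • e := fun i => by rw [hc i, InvExt.mres_self]
    let ev : Γ(V, U) →+* V.residueField x := (V.evaluation U x hxU).hom
    let res : Γ(V, ⊤) →+* Γ(V, U) := (V.presheaf.map (homOfLE (le_top : U ≤ ⊤)).op).hom
    let ρ : A →+* V.residueField x := ev.comp (res.comp g)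
    letI : Algebra A (V.residueField x) := ρ.toAlgebra
    let Λ : (Fin (N + 1) → A) →ₗ[A] V.residueField x :=
      ∑ i, (LinearMap.mulRight A (ev (c i))) ∘ₗ (Algebra.linearMap A (V.residueField x)) ∘ₗ LinearMap.proj i
    have hΛ : ∀ a, Λ a = ev (∑ i, res (g (a i)) * c i) := fun a => by
      simp [Λ, map_sum, ρ, RingHom.algebraMap_toAlgebra]
    refine ⟨LinearMap.ker Λ, fun h => ?_, fun a ha => ?_⟩
    · obtain ⟨i, hi⟩ := hgen x
      rw [QCohTwist9.mem_genLocus_iff (σ i) he (hc' i) hxU] at hi
      have h1 : Λ (Pi.single i 1) = 0 := by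
        have : Pi.single i (1 : A) ∈ LinearMap.ker Λ := by rw [h]; trivial
        exact this
      rw [hΛ, Finset.sum_eq_single i (fun j _ hj => by simp [Pi.single_eq_of_ne hj]) (by simp)] at h1
      rw [Pi.single_eq_same, map_one, map_one, one_mul] at h1
      exact ((Scheme.evaluation_ne_zero_iff_mem_basicOpen _ _ hxU _).2 ((Scheme.mem_basicOpen _ _ _ hxU).2 hi)) h1
    · have hs : gsecOf (τ a) U = (∑ i, res (g (a i)) * c i) • e := by
        rw [← gsecOf_mres (τ a) le_top, hτ a, Finset.sum_smul]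
        show (L.presheaf.map (homOfLE (le_top : U ≤ ⊤)).op).hom _ = _
        rw [map_sum]
        refine Finset.sum_congr rfl fun i _ => ?_
        show mres L le_top (g (a i) • gsecOf (σ i) ⊤) = _
        rw [InvExt.mres_smul, gsecOf_mres, hc' i, smul_smul]
      rw [QCohTwist9.mem_genLocus_iff (τ a) he hs hxU, ← Scheme.mem_basicOpen _ _ _ hxU,
        ← Scheme.evaluation_ne_zero_iff_mem_basicOpen _ _ hxU]
      exact fun h => ha (LinearMap.mem_ker.2 ((hΛ a).trans h))
  choose W hWtop hW using key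
  obtain ⟨a, ha⟩ := GrothAux.S15976.avoid hA (fun x : T => W x.1) fun x => hWtop x.1
  refine ⟨τ a, a, hτ a, fun j => ?_⟩
  haveI := (hF j).1
  exact GrothAux.S15976.mono_of_mem_genLocus _ fun x hx => hW x a (ha ⟨x, Set.mem_iUnion.2 ⟨j, hx⟩⟩)

end Groth.Agent.S15976
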