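import Groth.Statements.S15980
-- import your own Groth.Agent.* helpers here
import Groth.Agent.Lib.WeilK17.Main

set_option autoImplicit false
universe u
open IntSh

namespace Groth.Agent.S15980

open CategoryTheory CategoryTheory.Limits AlgebraicGeometry in
/-- Let X be a normal separated Noetherian integral scheme with generic point ξ. For a Weil divisor D,
given as a finitely supported integer-valued function on the points x with dim O_{X,x} = 1, the
class Σ_x D(x)·[O_{x̄}] in the Grothendieck group of coherent O_X-modules (O_{x̄} the structure
sheaf of the reduced closure of x) lies in the subgroup generated by the classes of coherent modules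
whose support has codimension at least 2 if and only if D is principal, i.e. there is a nonzero
rational function f with D(x) = ord_x(f) at every point x with dim O_{X,x} = 1. (This is the
statement that prime divisors induce an injection of the Weil divisor class group into the first
graded piece of the coniveau filtration; the published lemma phrases it as an isomorphism onto the
group of reflexive rank-one sheaves compatible with the determinant, and cites the surjectivity. The
published statement also allows X disconnected: a normal Noetherian scheme is the disjoint union of
its finitely many integral components and the claim splits accordingly, and the published proof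
begins by reducing to the integral case, which is the case stated here.) -/
theorem result
    {X : Scheme.{u}} [IsNoetherian X] [IsIntegral X] [X.IsSeparated] (hXn : Pi1.IsNormalScheme X)
    (D : X →₀ ℤ) (hD : ∀ x ∈ D.support, ringKrullDim (X.presheaf.stalk x) = 1) :
    (D.sum fun x n => n • KZero.clSub (fun M : X.Modules => Coh.IsCoh M) (Cyc.closureStructureSheaf x)) ∈
        AddSubgroup.closure {c : SGA6.Kcoh X | ∃ F : X.Modules, Coh.IsCoh F ∧
          (∀ x ∈ CohB1.support F, (2 : WithBot ℕ∞) ≤ ringKrullDim (X.presheaf.stalk x)) ∧
          c = KZero.clSub (fun M : X.Modules => Coh.IsCoh M) F} ↔
      ∃ f : X.residueField (genericPoint X), f ≠ 0 ∧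
        ∀ x : X, ringKrullDim (X.presheaf.stalk x) = 1 →
          D x = Cyc.ordAt x (genericPoint X) (genericPoint_specializes x) f := by
  exact GrothLib.WeilK17.mem_C2_iff D hD


end Groth.Agent.S15980
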