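import Groth.Statements.S15981
-- import your own Groth.Agent.* helpers here
import Groth.Agent.Lib.K0Sub.Coh


set_option autoImplicit false
universe u
open IntSh

namespace GrothAux.S15981

open CategoryTheory AlgebraicGeometry GrothLib

theorem eq_of_dim_zero {X : Scheme.{u}} {x y : X} (hx : ringKrullDim (X.presheaf.stalk x) = 0) (h : y ⤳ x) : y = x := by
  rw [ringKrullDim_stalk_eq_coheight] at hx
  have hm : IsMax x := Order.coheight_eq_zero.1 (by exact_mod_cast hx)
  exact (h.antisymm (hm h)).eq

theorem finite_dim_zero (X : Scheme.{u}) [IsNoetherian X] : {x : X | ringKrullDim (X.presheaf.stalk x) = 0}.Finite := by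
  refine (genericPoints.finite (TopologicalSpace.NoetherianSpace.finite_irreducibleComponents (α := X))).subset ?_
  intro x hx
  obtain ⟨T, hT, hxT⟩ := exists_mem_irreducibleComponents_subset_of_isIrreducible (closure {x}) isIrreducible_singleton.closure
  obtain ⟨t, ht⟩ := QuasiSober.sober hT.1 (isClosed_of_mem_irreducibleComponents T hT)
  obtain rfl := eq_of_dim_zero hx (ht.specializes (hxT (subset_closure rfl)))
  show closure {t} ∈ irreducibleComponents X
  rwa [ht.def]

end GrothAux.S15981

namespace Groth.Agent.S15981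

open CategoryTheory CategoryTheory.Limits AlgebraicGeometry in
/-- Let X be a reduced Noetherian scheme and η_i the generic points of its irreducible components (the
points with zero-dimensional local ring). Sending the class of a coherent O_X-module F to the family
of lengths of its stalks F_{η_i} over O_{X,η_i} is a well defined homomorphism rk from the
Grothendieck group of coherent O_X-modules to the group of integer-valued functions on the η_i;
every such rk is surjective and its kernel is the subgroup generated by the classes of coherent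
modules whose support contains no η_i (the first step of the coniveau filtration), so that rk
identifies the zeroth graded piece of that filtration with the free abelian group on the irreducible
components. -/
theorem result
    {X : Scheme.{u}} [IsNoetherian X] [IsReduced X] :
    (∃ rk : SGA6.Kcoh X →+ ({x : X // ringKrullDim (X.presheaf.stalk x) = 0} → ℤ),
        ∀ F : X.Modules, Coh.IsCoh F →
          rk (KZero.clSub (fun M : X.Modules => Coh.IsCoh M) F) =
            fun x => ((Module.length (X.presheaf.stalk x.1) (F.presheaf.stalk x.1)).toNat : ℤ)) ∧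
    ∀ rk : SGA6.Kcoh X →+ ({x : X // ringKrullDim (X.presheaf.stalk x) = 0} → ℤ),
      (∀ F : X.Modules, Coh.IsCoh F →
          rk (KZero.clSub (fun M : X.Modules => Coh.IsCoh M) F) =
            fun x => ((Module.length (X.presheaf.stalk x.1) (F.presheaf.stalk x.1)).toNat : ℤ)) →
        Function.Surjective rk ∧
          rk.ker = AddSubgroup.closure {c : SGA6.Kcoh X | ∃ F : X.Modules, Coh.IsCoh F ∧
            (∀ x ∈ CohB1.support F, (1 : WithBot ℕ∞) ≤ ringKrullDim (X.presheaf.stalk x)) ∧
            c = KZero.clSub (fun M : X.Modules => Coh.IsCoh M) F} := by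
  open GrothLib GrothAux.S15981 CategoryTheory.Limits in
  classical
  let P : ObjectProperty X.Modules := fun M : X.Modules => Coh.IsCoh M
  let I := {x : X // ringKrullDim (X.presheaf.stalk x) = 0}
  haveI : Finite I := (finite_dim_zero X).to_subtype
  haveI : Fintype I := Fintype.ofFinite I
  let φ : X.Modules → I → ℤ := fun F x =>
    ((Module.length (X.presheaf.stalk x.1) (F.presheaf.stalk x.1)).toNat : ℤ)
  have hlt : ∀ (F : X.Modules), Coh.IsCoh F → ∀ x : I,
      Module.length (X.presheaf.stalk x.1) (F.presheaf.stalk x.1) < ⊤ := fun F hF x =>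
    CycBasic.length_lt_top_of_maximal hF fun y _ hy => eq_of_dim_zero x.2 hy
  have hadd : ∀ S : ShortComplex X.Modules, S.ShortExact → P S.X₁ → P S.X₂ → P S.X₃ →
      φ S.X₂ = φ S.X₁ + φ S.X₃ := by
    intro S hS h₁ h₂ h₃
    haveI := hS.mono_f
    haveI := hS.epi_g
    funext x
    have hex : Function.Exact (QCoh.stalkLin S.f x.1) (QCoh.stalkLin S.g x.1) :=
      (ShortComplex.ShortExact.moduleCat_exact_iff_function_exact _).1 ((OX.exact_iff S).1 hS.exact x.1)
    simp only [φ, Pi.add_apply]
    rw [Module.length_eq_add_of_exact _ _ (QCoh.stalkLin_injective S.f x.1) (QCoh.stalkLin_surjective S.g x.1) hex,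
      ENat.toNat_add (hlt _ h₁ x).ne (hlt _ h₃ x).ne, Nat.cast_add]
  refine ⟨K0Sub.exists_lift (P := P) φ hadd, fun rk hrk => ?_⟩
  let o : I → SGA6.Kcoh X := fun x => KZero.clSub P (Cyc.closureStructureSheaf x.1)
  have ho : ∀ x : X, ∀ z : I, rk (KZero.clSub P (Cyc.closureStructureSheaf x)) z = if z.1 = x then 1 else 0 := by
    intro x z
    obtain ⟨hc, hs, ⟨e⟩⟩ := K0Sub.closureSheaf_data x
    rw [hrk _ hc]
    split_ifs with h
    · subst h
      show ((Module.length _ _).toNat : ℤ) = 1
      have : IsSimpleModule (X.presheaf.stalk z.1) (IsLocalRing.ResidueField (X.presheaf.stalk z.1)) :=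
        isSimpleModule_iff_quot_maximal.mpr ⟨_, IsLocalRing.maximalIdeal.isMaximal _, ⟨LinearEquiv.refl _ _⟩⟩
      rw [e.length_eq, Module.length_eq_one]
      rfl
    · have : z.1 ∉ CohB1.support (Cyc.closureStructureSheaf x) := fun hz =>
        h (eq_of_dim_zero z.2 (specializes_iff_mem_closure.2 (hs hz))).symm
      have := QCoh.stalk_subsingleton_of_notMem this
      show ((Module.length _ _).toNat : ℤ) = 0
      rw [Module.length_eq_zero]; rfl
  let σ : (I → ℤ) → SGA6.Kcoh X := fun v => ∑ z : I, v z • o z
  have hσ : ∀ v, rk (σ v) = v := fun v => by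
    funext w
    simp only [σ, map_sum, map_zsmul, Finset.sum_apply, Pi.smul_apply, o, ho, Subtype.val_inj, smul_eq_mul, mul_ite, mul_one, mul_zero]
    convert Finset.sum_ite_eq (Finset.univ : Finset I) w v using 1
    simp
  refine ⟨fun v => ⟨σ v, hσ v⟩, ?_⟩
  set C1 := AddSubgroup.closure {c : SGA6.Kcoh X | ∃ F : X.Modules, Coh.IsCoh F ∧
            (∀ x ∈ CohB1.support F, (1 : WithBot ℕ∞) ≤ ringKrullDim (X.presheaf.stalk x)) ∧
            c = KZero.clSub (fun M : X.Modules => Coh.IsCoh M) F}
  have h0 : C1 ≤ rk.ker := by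
    rw [AddSubgroup.closure_le]
    rintro c ⟨F, hF, hs, rfl⟩
    rw [SetLike.mem_coe, AddMonoidHom.mem_ker, hrk F hF]
    funext x
    have : x.1 ∉ CohB1.support F := fun h => by
      have := hs _ h
      rw [x.2] at this
      exact absurd this (by simp)
    have := QCoh.stalk_subsingleton_of_notMem this
    show ((Module.length _ _).toNat : ℤ) = 0
    rw [Module.length_eq_zero]; rfl
  have hmain : ∀ F : X.Modules, Coh.IsCoh F → KZero.clSub P F - σ (rk (KZero.clSub P F)) ∈ C1 := by
    intro F hF
    refine QCoh.devissage (fun M => KZero.clSub P M - σ (rk (KZero.clSub P M)) ∈ C1) ?_ ?_ ?_ Set.univ ?_ F hF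
      (Set.subset_univ _)
    · rintro M N ⟨e⟩ h
      rwa [← K0Sub.clSub_coh_iso e]
    · intro M hM
      simp [K0Sub.clSub_isZero hM, σ, C1.zero_mem]
    · intro S hS h1 h2 h3
      have e := K0Sub.clSub_add (P := P) hS h1 h2 h3
      have key : KZero.clSub P S.X₂ - σ (rk (KZero.clSub P S.X₂)) =
          (KZero.clSub P S.X₁ - σ (rk (KZero.clSub P S.X₁))) + (KZero.clSub P S.X₃ - σ (rk (KZero.clSub P S.X₃))) := by
        rw [e, map_add]
        simp only [σ, Pi.add_apply, add_smul, Finset.sum_add_distrib]
        abel
      refine ⟨fun a b => ?_, fun a c => ?_, fun b c => ?_⟩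
      · rw [eq_sub_of_add_eq' key.symm]; exact sub_mem b a
      · rw [key]; exact add_mem a c
      · rw [eq_sub_of_add_eq key.symm]; exact sub_mem b c
    · intro Z i _ _ _
      obtain ⟨hc, hs, hst⟩ := K0Sub.closureSheaf_data (i (genericPoint Z))
      have hr := QCoh.closure_singleton_eq_range i
      refine ⟨_, hc, hr ▸ hs, hst, ?_⟩
      by_cases hd : ringKrullDim (X.presheaf.stalk (i (genericPoint Z))) = 0
      · have : σ (rk (KZero.clSub P (Cyc.closureStructureSheaf (i (genericPoint Z))))) = o ⟨_, hd⟩ := by
          simp only [σ, ho]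
          rw [Finset.sum_eq_single (⟨_, hd⟩ : I) (fun b _ hb => by rw [if_neg fun h => hb (Subtype.ext h), zero_smul]) (by simp)]
          simp
        rw [this, sub_self]; exact C1.zero_mem
      · have : σ (rk (KZero.clSub P (Cyc.closureStructureSheaf (i (genericPoint Z))))) = 0 := by
          simp only [σ, ho]
          exact Finset.sum_eq_zero fun b _ => by rw [if_neg fun h => hd (by rw [← h]; exact b.2), zero_smul]
        rw [this, sub_zero]
        refine AddSubgroup.subset_closure ⟨_, hc, fun y hy => ?_, rfl⟩
        rw [ringKrullDim_stalk_eq_coheight]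
        refine WithBot.coe_le_coe.2 (Order.one_le_iff_pos.2 (pos_iff_ne_zero.2 fun h => ?_))
        have hy0 : ringKrullDim (X.presheaf.stalk y) = 0 := by rw [ringKrullDim_stalk_eq_coheight, h]; rfl
        exact hd ((eq_of_dim_zero hy0 (specializes_iff_mem_closure.2 (hs hy))) ▸ hy0)
  refine le_antisymm (fun c hc => ?_) h0
  have : ∀ c, c - σ (rk c) ∈ C1 := by
    intro c
    let g : SGA6.Kcoh X →+ SGA6.Kcoh X ⧸ C1 :=
      (QuotientAddGroup.mk' C1).comp (AddMonoidHom.id _ - (AddMonoidHom.mk' σ (fun a b => by
        simp only [σ, Pi.add_apply, add_smul, Finset.sum_add_distrib])).comp rk)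
    have hg : g = 0 := K0Sub.hom_ext fun F hF => by
      exact (QuotientAddGroup.eq_zero_iff _).2 (hmain F hF)
    exact (QuotientAddGroup.eq_zero_iff _).1 (DFunLike.congr_fun hg c)
  have hcc := this c
  rw [AddMonoidHom.mem_ker.1 hc] at hcc
  simpa [σ] using hcc

end Groth.Agent.S15981
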