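import Groth.Statements.S15983
import Groth.Agent.Lib.ParPerm20.Exact

set_option autoImplicit false
universe u v
open W4c3dlvarstrsh

namespace Groth.Agent.S15983

/-- Let F be a finite field, R a commutative ring, and ω a word of r pairwise distinct simple
reflections of GL_{m+1}. For each level ℓ, consider the families, indexed by the subwords of ω with
ℓ letters, of R-valued functions on GL_{m+1}(F), each invariant under right translation by the
standard parabolic subgroup of its subword (the permutation module of that parabolic over R), and
the differential lowering the level by one given by the alternating sum of the inclusions (a letter
is deleted with the sign of its position). Then for every c with c + 1 ≤ r, every such invariant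
family at level c + 1 killed by the differential is the differential of an invariant family at level
c + 2; when c + 1 = r this is injectivity of the first differential, and when c + 1 < r it is
exactness of the complex at its middle terms. (The published statement has coefficients the integers
modulo a prime power; the same argument gives any commutative coefficient ring, as stated here. Its
description of the cokernel at the last term is definitional in this formulation and is not
restated.) -/
theorem result
    (F : Type u) [Field F] [Fintype F] (R : Type v) [CommRing R]
    (m r : ℕ) (ω : Fin r ↪ Fin m) (c : ℕ) (hc : c + 1 ≤ r)
    (f : W4c3dlvarstrsh.Cochain F R (m := m) r (c + 1))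
    (hf : W4c3dlvarstrsh.IsInduced ω f) (hd : W4c3dlvarstrsh.delta c f = 0) :
    ∃ g : W4c3dlvarstrsh.Cochain F R (m := m) r (c + 2),
      W4c3dlvarstrsh.IsInduced ω g ∧ W4c3dlvarstrsh.delta (c + 1) g = f := by
  exact GrothLib.ParPerm20.exists_delta_eq ω hf hd

end Groth.Agent.S15983
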