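import Groth.Statements.S15987


set_option autoImplicit false
universe u v
open Deform

namespace Groth.Agent.S15987

open TrivSqZeroExt in
/-- Let k be a field, A a commutative k-algebra and q_i : A → k (i ∈ ι) k-algebra maps (marked k-points
of Spec A). The k-algebra automorphisms φ of the ring of dual numbers A[ε] that fix ε (so are
k[ε]-linear), are the identity modulo ε, and satisfy q_i((φ x)_ε) = q_i(x_ε) for all i and x
(compatibility with the trivial lifts A[ε] → k[ε] of the marked points) are in bijection with the
k-derivations D : A → A such that q_i ∘ D = 0 for every i, the bijection sending φ to a ↦ (φ(a))_ε.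
(The source identifies the right-hand side with the global vector fields vanishing at the marked
points; the condition the computation yields is q_i ∘ D = 0, which is the same for Spec A smooth
over k but is weaker in general, e.g. for A = k[x]/(x^2) with 2 invertible in k.) -/
theorem result
    (k : Type u) [Field k] (A : Type u) [CommRing A] [Algebra k A] {ι : Type v} (q : ι → (A →ₐ[k] k)) :
    ∃ e : {φ : DualNumber A ≃ₐ[k] DualNumber A //
            φ DualNumber.eps = DualNumber.eps ∧ (∀ x, (φ x).fst = x.fst) ∧
              ∀ i x, q i (φ x).snd = q i x.snd} ≃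
          {D : Derivation k A A // ∀ i a, q i (D a) = 0},
      ∀ φ (a : A), (e φ).1 a = (φ.1 (inl a : DualNumber A)).snd := by
  refine ⟨{
    toFun := fun φ => ⟨Derivation.mk'
      { toFun := fun a => (φ.1 (inl a : DualNumber A)).snd
        map_add' := fun a b => by rw [TrivSqZeroExt.inl_add, map_add, TrivSqZeroExt.snd_add]
        map_smul' := fun c a => by
          rw [show (inl (c • a) : DualNumber A) = c • inl a from TrivSqZeroExt.ext rfl (by simp), map_smul]
          rfl } (fun a b => ?_), fun i a => ?_⟩,
    invFun := fun D => ⟨AlgEquiv.ofRingEquiv (f :=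
      { toFun := fun x => (inl x.fst + inr (x.snd + D.1 x.fst) : DualNumber A)
        invFun := fun x => (inl x.fst + inr (x.snd - D.1 x.fst) : DualNumber A)
        left_inv := fun x => TrivSqZeroExt.ext (by simp) (by simp)
        right_inv := fun x => TrivSqZeroExt.ext (by simp) (by simp)
        map_mul' := fun x y => TrivSqZeroExt.ext (by simp) (by simp; ring)
        map_add' := fun x y => TrivSqZeroExt.ext (by simp) (by simp; ring) })
      (fun c => TrivSqZeroExt.ext (by simp [TrivSqZeroExt.algebraMap_eq_inl']) (by simp [TrivSqZeroExt.algebraMap_eq_inl'])),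
      ?_, ?_, ?_⟩
    left_inv := fun φ => ?_
    right_inv := fun D => ?_ }, fun φ a => rfl⟩
  · show (φ.1 (inl (a * b) : DualNumber A)).snd = a • (φ.1 (inl b)).snd + b • (φ.1 (inl a)).snd
    rw [TrivSqZeroExt.inl_mul, map_mul, TrivSqZeroExt.snd_mul, φ.2.2.1, φ.2.2.1]
    simp [mul_comm]
  · show q i (φ.1 (inl a : DualNumber A)).snd = 0
    rw [φ.2.2.2 i, TrivSqZeroExt.snd_inl, map_zero]
  · exact TrivSqZeroExt.ext (by simp) (by simp)
  · intro x
    simp
  · intro i x
    simp [D.2]
  · refine Subtype.ext (AlgEquiv.ext fun x => ?_)
    have hx : x = inl x.fst + inl x.snd * DualNumber.eps :=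
      TrivSqZeroExt.ext (by simp) (by simp)
    show (inl x.fst + inr (x.snd + (φ.1 (inl x.fst : DualNumber A)).snd) : DualNumber A) = φ.1 x
    conv_rhs => rw [hx, map_add, map_mul, φ.2.1]
    refine TrivSqZeroExt.ext ?_ ?_
    · simp [φ.2.2.1]
    · simp [φ.2.2.1]
      ring
  · refine Subtype.ext (Derivation.ext fun a => ?_)
    show (inl _ + inr _ : DualNumber A).snd = D.1 a
    simp

end Groth.Agent.S15987
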