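import Groth.Statements.S15988


set_option autoImplicit false
universe u v
open Deform

namespace Groth.Agent.S15988

open TrivSqZeroExt in
/-- Let k be a field, A a smooth commutative k-algebra, q_i : A → k (i ∈ ι, ι finite) pairwise distinct
k-algebra maps, and q'_i : A[ε] → k[ε] k-algebra maps with q'_i(ε) = ε which reduce to q_i modulo ε
(marked points of a first-order deformation with underlying trivial deformation). Then some
k-algebra automorphism φ of A[ε] with φ(ε) = ε and φ = id modulo ε carries every q'_i to the trivial
lift of q_i: q'_i(φ x) = (q_i(x_0), q_i(x_ε)) for all i and x. Together with the triviality of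
first-order deformations of a smooth affine scheme this gives the source's statement that
first-order deformations of a smooth affine scheme with marked points are trivial. (The published
statement does not say that the finitely many marked points are distinct; for two coincident points
with different lifts no such automorphism exists, so the points are taken pairwise distinct here,
and the source's non-singular is read as smooth over k.) -/
theorem result
    (k : Type u) [Field k] (A : Type u) [CommRing A] [Algebra k A] [Algebra.Smooth k A]
    {ι : Type v} [Finite ι] (q : ι → (A →ₐ[k] k)) (hq : Function.Injective q)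
    (q' : ι → (DualNumber A →ₐ[k] DualNumber k))
    (hε : ∀ i, q' i DualNumber.eps = DualNumber.eps) (hq' : ∀ i x, (q' i x).fst = q i x.fst) :
    ∃ φ : DualNumber A ≃ₐ[k] DualNumber A,
      φ DualNumber.eps = DualNumber.eps ∧ (∀ x, (φ x).fst = x.fst) ∧
        ∀ i x, (q' i (φ x)).fst = q i x.fst ∧ (q' i (φ x)).snd = q i x.snd := by
  classical
  have hδ0 : ∀ i a, (q' i (inl a : DualNumber A)).fst = q i a := fun i a => by rw [hq', TrivSqZeroExt.fst_inl]
  letI : Algebra A (ι → k) := (Pi.ringHom fun i => (q i).toRingHom).toAlgebra
  haveI : IsScalarTower k A (ι → k) := IsScalarTower.of_algebraMap_eq fun c => funext fun i => ((q i).commutes c).symm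
  have hsurj : Function.Surjective (Algebra.linearMap A (ι → k)) := by
    cases nonempty_fintype ι
    intro v
    have hsep : ∀ i j, i ≠ j → ∃ a, q i a = 1 ∧ q j a = 0 := fun i j hij => by
      obtain ⟨a, ha⟩ : ∃ a, q i a ≠ q j a := by
        by_contra h
        exact hij (hq (AlgHom.ext fun a => by_contra fun h' => h ⟨a, h'⟩))
      refine ⟨(q i a - q j a)⁻¹ • (a - algebraMap k A (q j a)), ?_, ?_⟩
      · rw [map_smul, map_sub, AlgHom.commutes]
        simp [sub_ne_zero.2 ha]
      · rw [map_smul, map_sub, AlgHom.commutes]
        simp
    choose a ha1 ha0 using hsep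
    let e : ι → A := fun i => ∏ j, if h : i = j then 1 else a i j h
    refine ⟨∑ i, v i • e i, funext fun l => ?_⟩
    show q l (∑ i, v i • e i) = v l
    rw [map_sum, Finset.sum_eq_single l]
    · rw [map_smul, map_prod, Finset.prod_eq_one (fun j _ => ?_)]
      · simp
      · split_ifs with h
        · exact map_one _
        · exact ha1 _ _ h
    · intro i _ hil
      rw [map_smul, map_prod, Finset.prod_eq_zero (Finset.mem_univ l) (by rw [dif_neg hil, ha0 _ _ hil]), smul_zero]
    · exact fun h => absurd (Finset.mem_univ l) h
  let δ : Derivation k A (ι → k) := Derivation.mk'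
    { toFun := fun a i => -(q' i (inl a : DualNumber A)).snd
      map_add' := fun a b => funext fun i => by simp [TrivSqZeroExt.inl_add, add_comm]
      map_smul' := fun c a => funext fun i => by
        rw [show (inl (c • a) : DualNumber A) = c • inl a from TrivSqZeroExt.ext rfl (by simp), map_smul]
        simp }
    (fun a b => funext fun i => by
      rw [Pi.add_apply, Algebra.smul_def, Algebra.smul_def, Pi.mul_apply, Pi.mul_apply]
      show -(q' i (inl (a * b) : DualNumber A)).snd =
        q i a * -(q' i (inl b)).snd + q i b * -(q' i (inl a)).snd
      rw [TrivSqZeroExt.inl_mul, map_mul, TrivSqZeroExt.snd_mul, hδ0, hδ0]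
      simp only [smul_eq_mul, MulOpposite.smul_eq_mul_unop, MulOpposite.unop_op]
      ring)
  haveI : Module.Projective A Ω[A⁄k] := inferInstance
  obtain ⟨f, hf⟩ := Module.projective_lifting_property (Algebra.linearMap A (ι → k)) δ.liftKaehlerDifferential hsurj
  let D : Derivation k A A := f.compDer (KaehlerDifferential.D k A)
  have hD : ∀ i a, q i (D a) = -(q' i (inl a : DualNumber A)).snd := fun i a => by
    have := congrFun (LinearMap.congr_fun hf (KaehlerDifferential.D k A a)) i
    rw [Derivation.liftKaehlerDifferential_comp_D] at this
    exact this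
  refine ⟨AlgEquiv.ofRingEquiv (f :=
      { toFun := fun x => (inl x.fst + inr (x.snd + D x.fst) : DualNumber A)
        invFun := fun x => (inl x.fst + inr (x.snd - D x.fst) : DualNumber A)
        left_inv := fun x => TrivSqZeroExt.ext (by simp) (by simp)
        right_inv := fun x => TrivSqZeroExt.ext (by simp) (by simp)
        map_mul' := fun x y => TrivSqZeroExt.ext (by simp) (by simp; ring)
        map_add' := fun x y => TrivSqZeroExt.ext (by simp) (by simp; ring) })
      (fun c => TrivSqZeroExt.ext (by simp [TrivSqZeroExt.algebraMap_eq_inl']) (by simp [TrivSqZeroExt.algebraMap_eq_inl'])),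
    TrivSqZeroExt.ext (by simp) (by simp), fun x => by simp, fun i x => ?_⟩
  show (q' i (inl x.fst + inr (x.snd + D x.fst) : DualNumber A)).fst = _ ∧
    (q' i (inl x.fst + inr (x.snd + D x.fst) : DualNumber A)).snd = _
  refine ⟨by rw [hq']; simp, ?_⟩
  have hinr : ∀ b : A, (inr b : DualNumber A) = inl b * DualNumber.eps := fun b =>
    TrivSqZeroExt.ext (by simp) (by simp)
  rw [hinr, map_add, map_mul, hε, TrivSqZeroExt.snd_add, TrivSqZeroExt.snd_mul, hδ0]
  simp [map_add, hD]

end Groth.Agent.S15988
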