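import Groth.Statements.S15989
-- import your own Groth.Agent.* helpers here
import Groth.Agent.Lib.GenusOne15.Points
import Mathlib.FieldTheory.IsAlgClosed.AlgebraicClosure

set_option autoImplicit false
universe u
open ModFun CategoryTheory CategoryTheory.Limits AlgebraicGeometry

namespace Groth.Agent.S15989

open AlgebraicGeometry CategoryTheory in
/-- Over an algebraically closed field k, the moduli problem of curves of genus 1 (proper smooth
geometrically irreducible C → T with one-dimensional geometric fibres of genus 1, modulo isomorphism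
over T, on all k-schemes T) is not representable: no k-scheme M carries a universal family. (The
published statement asserts non-representability for every genus g and every number n of marked
points, which fails for g = 0 and n = 3: three disjoint sections identify every family with the
projective line over the base marked at 0, 1 and ∞, so that functor is represented by a point; its
argument is carried out in genus 1 with one marked point, and the unpointed genus-1 case stated here
is what that argument, with the same isotrivial family, proves.) -/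
theorem result (k : Type u) [Field k] [IsAlgClosed k]
    (M : Over (Spec (CommRingCat.of k))) :
    ¬ ModFun.IsFineModuli ⊤ (ModFun.Mg (Spec (CommRingCat.of k)) 1) M := by
  classical
  rintro ⟨ξ, hξok, huniv⟩
  let K : Type u := RatFunc k
  let L : Type u := AlgebraicClosure K
  let φ : K →+* L := algebraMap K L
  let w : k := if (3 : k) = 0 then 1 else 0
  let X₀ : K := RatFunc.X
  let wK : K := RatFunc.C w
  have hX : X₀ ≠ 0 := RatFunc.X_ne_zero
  have h3K : (3 : K) = RatFunc.C (3 : k) := (map_ofNat (RatFunc.C : k →+* K) 3).symm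
  have hN₁ : GrothLib.GenusOne15.Nondeg (1 : K) 1 1 wK := by
    refine ⟨one_ne_zero, one_ne_zero, one_ne_zero, ?_⟩
    by_cases h3 : (3 : k) = 0
    · exact Or.inr ⟨by rw [h3K, h3, map_zero], (map_ne_zero _).2 (by simp [w, h3])⟩
    · exact Or.inl ⟨by rw [h3K]; exact (map_ne_zero _).2 h3, by simp [wK, w, h3]⟩
  have hN : GrothLib.GenusOne15.Nondeg (1 : K) X₀ (X₀ ^ 2) (wK * X₀) := by
    refine ⟨one_ne_zero, hX, pow_ne_zero 2 hX, ?_⟩
    rcases hN₁.2.2.2 with ⟨h3, hw⟩ | ⟨h3, hw⟩
    · exact Or.inl ⟨h3, by rw [hw, zero_mul]⟩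
    · exact Or.inr ⟨h3, mul_ne_zero hw hX⟩
  obtain ⟨s, hs⟩ := IsAlgClosed.exists_pow_nat_eq (φ X₀) (by norm_num : 0 < 3)
  have hs0 : s ≠ 0 := fun h => hX ((map_eq_zero φ).1 (by rw [← hs, h]; simp))
  let c : Fin (2 + 1) → Lˣ := ![1, (Units.mk0 s hs0)⁻¹, (Units.mk0 s hs0)⁻¹ ^ 2]
  obtain ⟨g₁, hg₁⟩ := GrothLib.GenusOne15.exists_isPullback_cubic φ 1 (a := (1 : K)) (b := 1) (d := 1) (w := wK)
    (a' := 1) (b' := 1) (d' := 1) (w' := φ wK) (by simp) (by simp) (by simp) (by simp)
  obtain ⟨g₂, hg₂⟩ := GrothLib.GenusOne15.exists_isPullback_cubic φ c (a := (1 : K)) (b := X₀) (d := X₀ ^ 2)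
    (w := wK * X₀) (a' := 1) (b' := 1) (d' := 1) (w' := φ wK) (by simp [c])
    (by simp only [c, Matrix.cons_val_one, Matrix.cons_val_zero, Units.val_inv_eq_inv_val, Units.val_mk0]
        rw [← hs, inv_pow, mul_inv_cancel₀ (pow_ne_zero 3 hs0)])
    (by simp [c, map_pow, ← hs]; rw [← pow_mul, ← pow_mul, mul_inv_cancel₀ (pow_ne_zero _ hs0)])
    (by simp [c, map_mul, ← hs]; rw [mul_assoc, ← mul_inv, ← pow_succ', mul_inv_cancel₀ (pow_ne_zero _ hs0), mul_one])
  let T : Over (Spec (CommRingCat.of k)) := Over.mk (Spec.map (CommRingCat.ofHom (algebraMap k K)))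
  let j : Spec (CommRingCat.of L) ⟶ Spec (CommRingCat.of K) := Spec.map (CommRingCat.ofHom φ)
  let T' : Over (Spec (CommRingCat.of k)) := Over.mk (j ≫ T.hom)
  let J : T' ⟶ T := Over.homMk j rfl
  let x₁ : Over T.left := Over.mk (GrothLib.GenusOne15.hstr (GrothLib.GenusOne15.cubic (1 : K) 1 1 wK))
  let x₂ : Over T.left :=
    Over.mk (GrothLib.GenusOne15.hstr (GrothLib.GenusOne15.cubic (1 : K) X₀ (X₀ ^ 2) (wK * X₀)))
  let y : Over T'.left := Over.mk (GrothLib.GenusOne15.hstr (GrothLib.GenusOne15.cubic (1 : L) 1 1 (φ wK)))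
  obtain ⟨f₁, ⟨e₁⟩, -⟩ := huniv T x₁ trivial ⟨trivial, GrothLib.GenusOne15.isCurveOfGenus_cubic hN₁⟩
  obtain ⟨f₂, ⟨e₂⟩, -⟩ := huniv T x₂ trivial ⟨trivial, GrothLib.GenusOne15.isCurveOfGenus_cubic hN⟩
  have hy : ModFun.IsCurveOfGenus 1 y.hom :=
    GrothLib.GenusOne15.isCurveOfGenus_cubic (by simpa using hN₁.map φ)
  have hf : J ≫ f₁ = J ≫ f₂ := by
    refine (huniv T' y trivial ⟨trivial, hy⟩).unique
      ⟨?_⟩ ⟨?_⟩
    · exact (CategoryTheory.Over.pullbackComp j f₁.left).app ξ ≪≫ (Over.pullback j).mapIso e₁ ≪≫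
        Over.isoMk hg₁.isoPullback.symm (hg₁.isoPullback_inv_snd)
    · exact (CategoryTheory.Over.pullbackComp j f₂.left).app ξ ≪≫ (Over.pullback j).mapIso e₂ ≪≫
        Over.isoMk hg₂.isoPullback.symm (hg₂.isoPullback_inv_snd)
  haveI : Surjective j := ⟨fun x => ⟨IsLocalRing.closedPoint L, Subsingleton.elim (α := PrimeSpectrum K) _ _⟩⟩
  haveI : Flat j := by
    rw [HasRingHomProperty.Spec_iff (P := @Flat), CommRingCat.hom_ofHom, RingHom.flat_algebraMap_iff]
    infer_instance
  haveI : Epi j := AlgebraicGeometry.Flat.epi_of_flat_of_surjective j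
  have hf' : f₁ = f₂ := by
    ext
    exact (cancel_epi j).1 (congrArg CommaMorphism.left hf)
  subst hf'
  obtain ⟨p, hp⟩ := GrothLib.GenusOne15.exists_section_cubic (1 : K) 1 wK
  let e : x₁ ≅ x₂ := e₁.symm ≪≫ e₂
  exact GrothLib.GenusOne15.false_of_section w (p ≫ e.hom.left) (by
    rw [Category.assoc]
    exact (congrArg (p ≫ ·) (Over.w e.hom)).trans hp)

end Groth.Agent.S15989
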