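import Groth.Statements.S15991
import Groth.Agent.Lib.AffDef26.Scheme
import Groth.Agent.Lib.MarkedDef26.Algebra
import Groth.Agent.S15988

set_option autoImplicit false
universe u v
open Deform

namespace Groth.Agent.S15991

open AlgebraicGeometry CategoryTheory TensorProduct in
/-- Let k be a field and X an affine scheme smooth over k, with finitely many pairwise distinct
k-rational points p_j (j ∈ ι). Let X' → Spec k[ε] be flat, i : X → X' a morphism making X the fibre
over the closed point Spec k → Spec k[ε] (cartesian square), and p'_j : Spec k[ε] → X' sections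
restricting to the p_j. Then there is an isomorphism φ : X' ≅ X ×_{Spec k} Spec k[ε] over Spec k[ε]
such that i followed by φ is the inclusion of X at the closed point (its first component is the
identity of X) and each p'_j followed by φ is the constant section through p_j: every first-order
deformation of a smooth affine scheme with marked points is trivial. (The source says non-singular;
smooth over k is assumed here, and the marked points are taken pairwise distinct and finite in
number.) -/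
theorem result
    (k : Type u) [Field k] (X : Scheme.{u}) (hX : X ⟶ Spec (CommRingCat.of k)) [IsAffine X] [Smooth hX]
    {ι : Type v} [Finite ι] (p : ι → (Spec (CommRingCat.of k) ⟶ X)) (hp : ∀ j, p j ≫ hX = 𝟙 _)
    (hinj : Function.Injective p)
    (X' : Scheme.{u}) (g : X' ⟶ Spec (CommRingCat.of (DualNumber k))) [Flat g] (i : X ⟶ X')
    (hsq : IsPullback i hX g
      (Spec.map (CommRingCat.ofHom (TrivSqZeroExt.fstHom k k k).toRingHom)))
    (p' : ι → (Spec (CommRingCat.of (DualNumber k)) ⟶ X')) (hp' : ∀ j, p' j ≫ g = 𝟙 _)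
    (hpp' : ∀ j, p j ≫ i = Spec.map (CommRingCat.ofHom (TrivSqZeroExt.fstHom k k k).toRingHom) ≫ p' j) :
    ∃ φ : X' ≅ Limits.pullback hX (Spec.map (CommRingCat.ofHom (algebraMap k (DualNumber k)))),
      φ.hom ≫ Limits.pullback.snd hX (Spec.map (CommRingCat.ofHom (algebraMap k (DualNumber k)))) = g ∧
        i ≫ φ.hom ≫ Limits.pullback.fst hX (Spec.map (CommRingCat.ofHom (algebraMap k (DualNumber k)))) = 𝟙 X ∧
          ∀ j, p' j ≫ φ.hom ≫
              Limits.pullback.fst hX (Spec.map (CommRingCat.ofHom (algebraMap k (DualNumber k)))) =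
            Spec.map (CommRingCat.ofHom (algebraMap k (DualNumber k))) ≫ p j := by
  classical
  let A : CommRingCat.{u} := Γ(X, ⊤)
  let eX : X ≅ Spec A := X.isoSpec
  let x₁ : CommRingCat.of k ⟶ A := Spec.preimage (eX.inv ≫ hX)
  have hx₁ : Spec.map x₁ = eX.inv ≫ hX := Spec.map_preimage _
  letI : Algebra k A := x₁.hom.toAlgebra
  haveI hsmA : Algebra.Smooth k A := by
    have h : Smooth (Spec.map x₁) := by rw [hx₁]; infer_instance
    rw [HasRingHomProperty.Spec_iff (P := @Smooth)] at h
    exact h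
  let ξ : ArtFun.DefSch (Spec (CommRingCat.of A)) (Spec.map (CommRingCat.ofHom (algebraMap k A)))
      (ArtFun.Art.dual k k) :=
    { total := X'
      f := g
      flat := ‹Flat g›
      i := eX.inv ≫ i
      isPullback := hsq.of_iso eX (Iso.refl _) (Iso.refl _) (Iso.refl _) (by simp)
        (by
          show hX ≫ 𝟙 _ = eX.hom ≫ Spec.map x₁
          rw [hx₁, Iso.hom_inv_id_assoc, Category.comp_id])
        (Category.comp_id g) (by show _ ≫ 𝟙 _ = 𝟙 _ ≫ _; rw [Category.comp_id, Category.id_comp]; rfl) }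
  obtain ⟨D, ⟨e₀⟩⟩ := GrothLib.AffDef.exists_affData ξ
  let E : Type u := D.E
  letI aE : Algebra (DualNumber k) E := D.algebra
  letI : Algebra k E := ((algebraMap (DualNumber k) E).comp (algebraMap k (DualNumber k))).toAlgebra
  haveI : IsScalarTower k (DualNumber k) E := ⟨fun c b y => by
    rw [Algebra.smul_def, Algebra.smul_def, map_mul, Algebra.smul_def]
    rw [Algebra.smul_def b y, mul_assoc]
    rfl⟩
  haveI : Module.Flat (DualNumber k) E := D.flat
  let ιE : E →ₐ[k] A :=
    { (D.ι : E →+* A) with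
      commutes' := fun c => (D.comm _).trans (congrArg (algebraMap k A) (TrivSqZeroExt.fst_inl k c)) }
  have hker : ∀ y, ιE y = 0 ↔ ∃ z, y = algebraMap (DualNumber k) E DualNumber.eps * z := fun y => by
    have hd : ∀ c : DualNumber k, TrivSqZeroExt.fst c = 0 → c = TrivSqZeroExt.inl (TrivSqZeroExt.snd c) * DualNumber.eps :=
      fun c hc => TrivSqZeroExt.ext (by simp [hc]) (by simp)
    show D.ι y = 0 ↔ _
    rw [← RingHom.mem_ker, D.ker]
    refine ⟨fun hy => ?_, fun ⟨z, hz⟩ => hz ▸ Ideal.mul_mem_right _ _ (Ideal.mem_map_of_mem _ DualNumber.fst_eps)⟩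
    have hle : (RingHom.ker (ArtFun.Art.dual k k).res).map (algebraMap (DualNumber k) E) ≤
        Ideal.span {algebraMap (DualNumber k) E DualNumber.eps} := Ideal.map_le_iff_le_comap.2 fun c hc => by
      rw [Ideal.mem_comap]
      exact Ideal.mem_span_singleton'.2 ⟨algebraMap (DualNumber k) E (TrivSqZeroExt.inl (TrivSqZeroExt.snd (show DualNumber k from c))),
        ((map_mul _ _ _).symm.trans (congrArg _ (hd c hc).symm))⟩
    obtain ⟨z, hz⟩ := Ideal.mem_span_singleton'.1 (hle hy)
    exact ⟨z, by rw [mul_comm]; exact hz.symm⟩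
  obtain ⟨Ψ, hΨ, hΨε, hΨι⟩ := GrothLib.MarkedDef26.exists_dualNumber_equiv ιE D.surj hker
  let u : X' ≅ Spec (CommRingCat.of E) := e₀.iso
  have hu : u.hom ≫ Spec.map (CommRingCat.ofHom (algebraMap (DualNumber k) E)) = g := e₀.hom_f
  have hiu : i ≫ u.hom = eX.hom ≫ Spec.map (CommRingCat.ofHom D.ι) := by
    have h : (eX.inv ≫ i) ≫ u.hom = Spec.map (CommRingCat.ofHom D.ι) := e₀.i_hom
    rw [← h]; simp
  let π₁ : ∀ j, CommRingCat.of E ⟶ CommRingCat.of (DualNumber k) := fun j => Spec.preimage (p' j ≫ u.hom)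
  have hπ₁ : ∀ j, Spec.map (π₁ j) = p' j ≫ u.hom := fun j => Spec.map_preimage _
  have hπalg : ∀ j c, (π₁ j).hom (algebraMap (DualNumber k) E c) = c := fun j c => by
    have h : CommRingCat.ofHom (algebraMap (DualNumber k) E) ≫ π₁ j = 𝟙 _ := by
      apply Spec.map_injective
      rw [Spec.map_comp, hπ₁, Category.assoc, hu, hp', Spec.map_id]
    exact congrArg (fun t : CommRingCat.of (DualNumber k) ⟶ CommRingCat.of (DualNumber k) => t.hom c) h
  let πa : ∀ j, E →ₐ[k] DualNumber k := fun j =>
    { (π₁ j).hom with commutes' := fun c => hπalg j _ }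
  let q₁ : ∀ j, A ⟶ CommRingCat.of k := fun j => Spec.preimage (p j ≫ eX.hom)
  have hq₁ : ∀ j, Spec.map (q₁ j) = p j ≫ eX.hom := fun j => Spec.map_preimage _
  let q : ι → (A →ₐ[k] k) := fun j =>
    { (q₁ j).hom with
      commutes' := fun c => by
        have h : x₁ ≫ q₁ j = 𝟙 _ := by
          apply Spec.map_injective
          rw [Spec.map_comp, hq₁, hx₁, Category.assoc, Iso.hom_inv_id_assoc, hp, Spec.map_id]
        exact congrArg (fun t : CommRingCat.of k ⟶ CommRingCat.of k => t.hom c) h }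
  have hq : Function.Injective q := fun a b h => by
    refine hinj ?_
    rw [← cancel_mono eX.hom, ← hq₁, ← hq₁]
    congr 1
    ext x
    exact AlgHom.congr_fun h x
  have hπfst : ∀ j y, TrivSqZeroExt.fst (πa j y) = q j (ιE y) := fun j y => by
    have h : π₁ j ≫ CommRingCat.ofHom (TrivSqZeroExt.fstHom k k k).toRingHom = CommRingCat.ofHom D.ι ≫ q₁ j := by
      apply Spec.map_injective
      rw [Spec.map_comp, Spec.map_comp, hπ₁, hq₁, ← Category.assoc, ← hpp', Category.assoc, hiu, Category.assoc]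
    exact congrArg (fun t : CommRingCat.of E ⟶ CommRingCat.of k => t.hom y) h
  obtain ⟨φ, hφε, hφfst, hφ⟩ := Groth.Agent.S15988.result k A q hq (fun j => (πa j).comp Ψ)
    (fun j => by
      show πa j (Ψ DualNumber.eps) = _
      rw [hΨε]
      exact hπalg j _)
    (fun j x => by
      show TrivSqZeroExt.fst (πa j (Ψ x)) = _
      rw [hπfst, hΨι])
  let Φ : DualNumber A →ₐ[k] E := Ψ.comp φ.toAlgHom
  have hΦ : Function.Bijective Φ := hΨ.comp φ.bijective
  let T : A ⊗[k] DualNumber k →ₐ[k] E := Φ.comp GrothLib.MarkedDef26.dualTensor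
  have hT : Function.Bijective T := hΦ.comp GrothLib.MarkedDef26.dualTensor_bijective
  let eT : CommRingCat.of (A ⊗[k] DualNumber k) ≅ CommRingCat.of E :=
    (RingEquiv.ofBijective T hT).toCommRingCatIso
  let w : X' ≅ Spec (CommRingCat.of (A ⊗[k] DualNumber k)) := u ≪≫ (asIso (Spec.map eT.hom))
  have hpb := isPullback_SpecMap_of_isPushout _ _ _ _ (CommRingCat.isPushout_tensorProduct k A (DualNumber k))
  let fstX : X' ⟶ X := w.hom ≫ Spec.map (CommRingCat.ofHom Algebra.TensorProduct.includeLeftRingHom) ≫ eX.inv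
  have hright : ∀ c : DualNumber k, T ((1 : A) ⊗ₜ c) = algebraMap (DualNumber k) E c := fun c => by
    show Ψ (φ ((TrivSqZeroExt.inl 1 : DualNumber A) * GrothLib.MarkedDef26.dualMap c)) = _
    rw [TrivSqZeroExt.inl_one, one_mul]
    refine AlgHom.congr_fun (DualNumber.algHom_ext ?_ :
      (Φ.comp GrothLib.MarkedDef26.dualMap : DualNumber k →ₐ[k] E) = IsScalarTower.toAlgHom k (DualNumber k) E) c
    show Ψ (φ (GrothLib.MarkedDef26.dualMap DualNumber.eps)) = _
    rw [show GrothLib.MarkedDef26.dualMap (A := A) (DualNumber.eps : DualNumber k) = DualNumber.eps from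
      DualNumber.lift_apply_eps _, hφε, hΨε]
    rfl
  have hsnd : w.hom ≫ Spec.map (CommRingCat.ofHom Algebra.TensorProduct.includeRight.toRingHom) = g := by
    rw [← hu]
    show (u.hom ≫ Spec.map eT.hom) ≫ _ = _
    rw [Category.assoc, ← Spec.map_comp]
    congr 2
    exact CommRingCat.hom_ext (RingHom.ext hright)
  have hpb' : IsPullback fstX g hX (Spec.map (CommRingCat.ofHom (algebraMap k (DualNumber k)))) := by
    refine hpb.of_iso w.symm eX.symm (Iso.refl _) (Iso.refl _) ?_ ?_ ?_ ?_
    · simp [fstX]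
    · rw [Iso.refl_hom, Category.comp_id, Iso.symm_hom, ← hsnd, Iso.inv_hom_id_assoc]
    · rw [Iso.refl_hom, Category.comp_id, Iso.symm_hom]
      exact hx₁
    · simp
  have hΦι : ∀ a : A, D.ι (T (a ⊗ₜ 1)) = a := fun a => by
    show ιE (Ψ (φ ((TrivSqZeroExt.inl a : DualNumber A) * GrothLib.MarkedDef26.dualMap 1))) = _
    rw [map_one, mul_one, hΨι, hφfst, TrivSqZeroExt.fst_inl]
  refine ⟨hpb'.isoPullback, hpb'.isoPullback_hom_snd, ?_, fun j => ?_⟩
  · rw [hpb'.isoPullback_hom_fst]
    show i ≫ (u.hom ≫ Spec.map eT.hom) ≫ Spec.map _ ≫ eX.inv = _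
    rw [Category.assoc, ← Category.assoc i, hiu]
    simp only [Category.assoc]
    rw [← Spec.map_comp_assoc, ← Spec.map_comp_assoc,
      show CommRingCat.ofHom Algebra.TensorProduct.includeLeftRingHom ≫ eT.hom ≫ CommRingCat.ofHom D.ι = 𝟙 _ from
        CommRingCat.hom_ext (RingHom.ext hΦι)]
    show eX.hom ≫ Spec.map (𝟙 A) ≫ eX.inv = _
    simp
  · rw [hpb'.isoPullback_hom_fst]
    show p' j ≫ (u.hom ≫ Spec.map eT.hom) ≫ Spec.map _ ≫ eX.inv = _
    rw [Category.assoc, ← Category.assoc (p' j), ← hπ₁]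
    rw [← Spec.map_comp_assoc, ← Spec.map_comp_assoc,
      show CommRingCat.ofHom Algebra.TensorProduct.includeLeftRingHom ≫ eT.hom ≫ π₁ j =
        q₁ j ≫ CommRingCat.ofHom (algebraMap k (DualNumber k)) from ?_, Spec.map_comp_assoc, hq₁,
      Category.assoc, Iso.hom_inv_id, Category.comp_id]
    refine CommRingCat.hom_ext (RingHom.ext fun a => ?_)
    show πa j (T (a ⊗ₜ 1)) = algebraMap k (DualNumber k) (q j a)
    show πa j (Ψ (φ ((TrivSqZeroExt.inl a : DualNumber A) * GrothLib.MarkedDef26.dualMap 1))) = _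
    rw [map_one, mul_one, TrivSqZeroExt.algebraMap_eq_inl]
    obtain ⟨h1, h2⟩ := hφ j (TrivSqZeroExt.inl a)
    refine TrivSqZeroExt.ext (h1.trans ?_) (h2.trans ?_)
    · simp
    · simp

end Groth.Agent.S15991
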