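import Groth.Statements.S15993
import Groth.Agent.Lib.FlatBirat6.Fpqc
-- import your own Groth.Agent.* helpers here

set_option autoImplicit false
open CategoryTheory AlgebraicGeometry
universe u
open EtHull

namespace Groth.Agent.S15993

/-- Let f : X → S be a morphism of schemes which is faithfully flat (flat and surjective), quasi-compact
and separated, and schematically birational in the following sense: there are schematically dense
opens U of S and V of X, with the inclusion V → X quasi-compact, such that f maps V into U and the
induced morphism V → U is an isomorphism. Then f is an isomorphism. (The source states this for
algebraic spaces and puts no quasi-compactness condition on the dense opens. Its proof base-changes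
along f and uses that the inverse image of V in X ×_S X is again schematically dense, which holds
when V → X is quasi-compact, for instance when X is locally Noetherian, and fails in general: over
the Boolean ring of eventually constant sequences of elements of the field with two elements, the
spectrum of the ring of eventually two-periodic sequences is faithfully flat and affine, and it is
an isomorphism above the open set of principal points, which is schematically dense on both sides,
yet it is not an isomorphism, the point at infinity being doubled. So V is taken retrocompact in X
here, and X, S are schemes.) -/
theorem result {X S : Scheme.{u}} (f : X ⟶ S)
    [Flat f] [Surjective f] [QuasiCompact f] [IsSeparated f]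
    (U : S.Opens) (V : X.Opens) [QuasiCompact V.ι]
    (hU : CInt.IsSchematicallyDense U) (hV : CInt.IsSchematicallyDense V)
    (hle : V ≤ f ⁻¹ᵁ U) (hiso : IsIso (f.resLE U V hle)) : IsIso f := by
    exact GrothLib.FlatBirat6.isIso_of_flat_surjective_birational f U V hV hle hiso

end Groth.Agent.S15993
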