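import Groth.Statements.S15997
import Groth.Agent.Lib.SchDomAss10.Basic
import Groth.Agent.Lib.TorsorTriv19.Components
import Groth.Agent.Lib.EtSec.LocConn
import Groth.Agent.Lib.EtBasicB.OverField
set_option backward.isDefEq.respectTransparency false

set_option autoImplicit false
open CategoryTheory AlgebraicGeometry
universe u
open EtHull

namespace Groth.Agent.S15997

theorem finite_maximal_points {P : Scheme.{u}} [IsNoetherian P] :
    {l : P | ∀ z, z ⤳ l → z = l}.Finite := by
  refine Set.Finite.of_injOn (f := fun l => closure ({l} : Set P)) (t := irreducibleComponents P) ?_ ?_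
    TopologicalSpace.NoetherianSpace.finite_irreducibleComponents
  · intro l hl
    obtain ⟨t₀, ht₀⟩ := QuasiSober.sober (isIrreducible_irreducibleComponent (x := l)) isClosed_irreducibleComponent
    have h1 : t₀ = l := hl t₀ (ht₀.specializes mem_irreducibleComponent)
    show closure ({l} : Set P) ∈ irreducibleComponents P
    rw [← h1, ht₀.def]
    exact irreducibleComponent_mem_irreducibleComponents l
  · intro a _ b _ h
    exact (show IsGenericPoint a (closure ({b} : Set P)) from h).eq rfl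

/-- Let S be a Noetherian scheme all of whose local rings are geometrically unibranch and whose
structure sheaf has no embedded associated points, and let f : X → S be flat, surjective and of
finite presentation. Call an admissible factorization a factorization X → E → S of f with E → S
étale and affine and X → E schematically dominant. Then any two admissible factorizations X → E₁ → S
and X → E₂ → S have a supremum: an admissible factorization X → E → S with compatible S-morphisms E
→ E₁ and E → E₂, such that every admissible factorization X → E' → S with compatible S-morphisms E'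
→ E₁ and E' → E₂ admits a compatible morphism E' → E. (The source allows X to be an algebraic space;
X is a scheme here.) -/
theorem result {X S : Scheme.{u}} [IsNoetherian S]
    (hS : ∀ s : S, CAlg2.IsGeomUnibranch (S.presheaf.stalk s))
    (hemb : AssSch.NoEmbedded (Coh.structureModule S))
    (f : X ⟶ S) [Flat f] [Surjective f] [LocallyOfFinitePresentation f] [QuasiCompact f]
    [QuasiSeparated f]
    (E₁ E₂ : Scheme.{u}) (g₁ : E₁ ⟶ S) (g₂ : E₂ ⟶ S) (u₁ : X ⟶ E₁) (u₂ : X ⟶ E₂)
    [Etale g₁] [Etale g₂] [IsAffineHom g₁] [IsAffineHom g₂]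
    [IsSchemeTheoreticallyDominant u₁] [IsSchemeTheoreticallyDominant u₂]
    (h₁ : u₁ ≫ g₁ = f) (h₂ : u₂ ≫ g₂ = f) :
    ∃ (E : Scheme.{u}) (g : E ⟶ S) (u : X ⟶ E) (v₁ : E ⟶ E₁) (v₂ : E ⟶ E₂),
      Etale g ∧ IsAffineHom g ∧ IsSchemeTheoreticallyDominant u ∧ u ≫ g = f ∧
      u ≫ v₁ = u₁ ∧ u ≫ v₂ = u₂ ∧ v₁ ≫ g₁ = g ∧ v₂ ≫ g₂ = g ∧
      ∀ (E' : Scheme.{u}) (g' : E' ⟶ S) (u' : X ⟶ E') (w₁ : E' ⟶ E₁) (w₂ : E' ⟶ E₂),
        Etale g' → IsAffineHom g' → IsSchemeTheoreticallyDominant u' → u' ≫ g' = f →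
        u' ≫ w₁ = u₁ → u' ≫ w₂ = u₂ → w₁ ≫ g₁ = g' → w₂ ≫ g₂ = g' →
        ∃ w : E' ⟶ E, u' ≫ w = u ∧ w ≫ v₁ = w₁ ∧ w ≫ v₂ = w₂ := by
  let P := Limits.pullback g₁ g₂
  let g : P ⟶ S := Limits.pullback.fst g₁ g₂ ≫ g₁
  haveI hgEt : Etale g := inferInstance
  haveI : IsAffineHom g := MorphismProperty.comp_mem _ _ _ (MorphismProperty.pullback_fst (P := @IsAffineHom) g₁ g₂ inferInstance) ‹IsAffineHom g₁›
  haveI : QuasiCompact g := inferInstance
  haveI : IsLocallyNoetherian P := LocallyOfFiniteType.isLocallyNoetherian g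
  haveI : CompactSpace P := QuasiCompact.compactSpace_of_compactSpace g
  haveI : IsNoetherian P := {}
  let u : X ⟶ P := Limits.pullback.lift u₁ u₂ (h₁.trans h₂.symm)
  have hug : u ≫ g = f := by
    show Limits.pullback.lift u₁ u₂ _ ≫ Limits.pullback.fst g₁ g₂ ≫ g₁ = f
    rw [Limits.pullback.lift_fst_assoc, h₁]
  haveI : Flat u := by
    haveI : Flat (u ≫ g) := hug ▸ inferInstance
    exact GrothLib.EtSec.flat_of_comp_weaklyEtale u g
  let M : Set P := {l | ∀ z, z ⤳ l → z = l}
  have hMfin : M.Finite := finite_maximal_points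
  have huniq : ∀ (x : P) (l m : P), l ∈ M → m ∈ M → l ⤳ x → m ⤳ x → l = m := fun x l m hl hm h h' =>
    GrothLib.TorsorTriv19.eq_of_maximal_of_smooth g hS h h' hl hm
  let A : Set P := ⋃ l ∈ M ∩ Set.range u, closure {l}
  let B : Set P := ⋃ l ∈ M \ Set.range u, closure {l}
  have hAB : Aᶜ = B := by
    ext x
    obtain ⟨l, hlx, hl⟩ := GrothLib.Unibranch.exists_maximal_generization x
    simp only [A, B, Set.mem_compl_iff, Set.mem_iUnion₂, not_exists]
    constructor
    · intro h
      exact ⟨l, ⟨hl, fun hr => h l ⟨hl, hr⟩ (specializes_iff_mem_closure.1 hlx)⟩, specializes_iff_mem_closure.1 hlx⟩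
    · rintro ⟨m, ⟨hm, hmr⟩, hmx⟩ k ⟨hk, hkr⟩ hkx
      exact hmr (huniq x k m hk hm (specializes_iff_mem_closure.2 hkx) (specializes_iff_mem_closure.2 hmx) ▸ hkr)
  have hAc : IsClosed A := (hMfin.subset Set.inter_subset_left).isClosed_biUnion fun _ _ => isClosed_closure
  have hAo : IsOpen A := by
    rw [← isClosed_compl_iff, hAB]
    exact (hMfin.subset Set.sdiff_subset).isClosed_biUnion fun _ _ => isClosed_closure
  let W : P.Opens := ⟨A, hAo⟩
  have hrange : Set.range u ⊆ A := by
    rintro _ ⟨x, rfl⟩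
    obtain ⟨l, hlx, hl⟩ := GrothLib.Unibranch.exists_maximal_generization (u x)
    obtain ⟨x', -, rfl⟩ := Flat.generalizingMap u hlx
    exact Set.mem_iUnion₂.2 ⟨_, ⟨hl, ⟨x', rfl⟩⟩, specializes_iff_mem_closure.1 hlx⟩
  haveI : IsClosedImmersion W.ι :=
    IsClosedImmersion.of_isPreimmersion _ (by rw [Scheme.Opens.range_ι]; exact hAc)
  let u' : X ⟶ W := IsOpenImmersion.lift W.ι u (by rw [Scheme.Opens.range_ι]; exact hrange)
  have hu' : u' ≫ W.ι = u := IsOpenImmersion.lift_fac _ _ _
  haveI : Flat u' := by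
    haveI : Flat (u' ≫ W.ι ≫ g) := by rw [← Category.assoc, hu', hug]; infer_instance
    exact GrothLib.EtSec.flat_of_comp_weaklyEtale u' (W.ι ≫ g)
  haveI : IsLocallyNoetherian W.toScheme := LocallyOfFiniteType.isLocallyNoetherian W.ι
  haveI hu'dom : IsSchemeTheoreticallyDominant u' := by
    refine GrothLib.SchDomAss10.isSchemeTheoreticallyDominant_of_ass u' fun e he => ?_
    have h1 := (GrothLib.SchDomAss10.isAssPoint_iff_of_etale (W.ι ≫ g) e).1 he
    have hmin : ∀ s, s ⤳ (W.ι ≫ g) e → s = (W.ι ≫ g) e := fun s hs => by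
      obtain ⟨t₀, h0, hm⟩ := GrothLib.SchDomAss10.exists_isMin_specializes s
      have : t₀ = (W.ι ≫ g) e :=
        (hemb _ h1 t₀ (GrothLib.SchDomAss10.isAssPoint_of_isMin t₀ hm) (h0.trans hs)).symm
      rw [this] at h0
      exact (hs.antisymm h0).eq
    haveI : LocallyQuasiFinite g := GrothLib.EtBasicB.locallyQuasiFinite_of_unramified g
    have heM : W.ι e ∈ M := GrothLib.Unibranch.maximal_of_locallyQuasiFinite g (W.ι e) hmin
    obtain ⟨l, ⟨hl, hlr⟩, hle⟩ := Set.mem_iUnion₂.1 (show W.ι e ∈ A from e.2)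
    obtain ⟨x, hx⟩ := hlr
    refine ⟨x, W.ι.isOpenEmbedding.injective ?_⟩
    rw [← Scheme.Hom.comp_apply, hu', hx]
    exact huniq _ l (W.ι e) hl heM (specializes_iff_mem_closure.2 hle) specializes_rfl
  refine ⟨W, W.ι ≫ g, u', W.ι ≫ Limits.pullback.fst g₁ g₂, W.ι ≫ Limits.pullback.snd g₁ g₂, inferInstance, inferInstance,
    hu'dom, ?_, ?_, ?_, ?_, ?_, ?_⟩
  · rw [← Category.assoc, hu', hug]
  · rw [← Category.assoc, hu', Limits.pullback.lift_fst]
  · rw [← Category.assoc, hu', Limits.pullback.lift_snd]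
  · rw [Category.assoc]
  · rw [Category.assoc]
    exact congrArg (W.ι ≫ ·) Limits.pullback.condition.symm
  intro E' g' v w₁ w₂ hg' hga hv hvg hv1 hv2 hw1 hw2
  haveI := hga
  haveI := hv
  let w₀ : E' ⟶ P := Limits.pullback.lift w₁ w₂ (hw1.trans hw2.symm)
  have hvw : v ≫ w₀ = u := by
    apply Limits.pullback.hom_ext
    · rw [Category.assoc, Limits.pullback.lift_fst, Limits.pullback.lift_fst, hv1]
    · rw [Category.assoc, Limits.pullback.lift_snd, Limits.pullback.lift_snd, hv2]
  haveI : QuasiCompact v := by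
    haveI : QuasiCompact (v ≫ g') := hvg ▸ inferInstance
    exact QuasiCompact.of_comp v g'
  have hsub : Set.range w₀ ⊆ A := by
    have h1 : Set.range v ⊆ w₀ ⁻¹' A := by
      rintro _ ⟨x, rfl⟩
      exact hrange ⟨x, by rw [← hvw, Scheme.Hom.comp_apply]⟩
    have h2 := (hAc.preimage w₀.continuous).closure_subset_iff.2 h1
    rw [v.denseRange.closure_eq] at h2
    rintro _ ⟨e, rfl⟩
    exact h2 (Set.mem_univ e)
  refine ⟨IsOpenImmersion.lift W.ι w₀ (by rw [Scheme.Opens.range_ι]; exact hsub), ?_, ?_, ?_⟩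
  · rw [← cancel_mono W.ι, Category.assoc, IsOpenImmersion.lift_fac, hvw, hu']
  · rw [← Category.assoc, IsOpenImmersion.lift_fac, Limits.pullback.lift_fst]
  · rw [← Category.assoc, IsOpenImmersion.lift_fac, Limits.pullback.lift_snd]

end Groth.Agent.S15997
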