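import Groth.Statements.S15994
import Groth.Agent.Lib.EtInf10.Basic
import Groth.Agent.Lib.TorsorTriv19.Components
import Groth.Agent.Lib.EtBasicB.OverField
import Groth.Agent.S15997
set_option linter.all false
set_option backward.isDefEq.respectTransparency false

set_option autoImplicit false
open CategoryTheory AlgebraicGeometry
universe u
open EtHull

namespace Groth.Agent.S15994

theorem finite_maximal_points {P : Scheme.{u}} [IsNoetherian P] :
    {l : P | ∀ z, z ⤳ l → z = l}.Finite := by
  refine Set.Finite.of_injOn (f := fun l => closure ({l} : Set P)) (t := irreducibleComponents P) ?_ ?_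
    TopologicalSpace.NoetherianSpace.finite_irreducibleComponents
  · intro l hl
    obtain ⟨t₀, ht₀⟩ := QuasiSober.sober (isIrreducible_irreducibleComponent (x := l)) isClosed_irreducibleComponent
    have h1 : t₀ = l := hl t₀ (ht₀.specializes mem_irreducibleComponent)
    show closure ({l} : Set P) ∈ irreducibleComponents P
    rw [← h1, ht₀.def]
    exact irreducibleComponent_mem_irreducibleComponents l
  · intro a _ b _ h
    exact (show IsGenericPoint a (closure ({b} : Set P)) from h).eq rfl


/-- Every factorization through an etale affine scheme factors through a dominant one. -/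
theorem exists_dominant_factor {X S : Scheme.{u}} [IsNoetherian S]
    (hS : ∀ s : S, CAlg2.IsGeomUnibranch (S.presheaf.stalk s))
    (hemb : AssSch.NoEmbedded (Coh.structureModule S))
    (f : X ⟶ S) [Flat f] [QuasiCompact f] {E : Scheme.{u}} (g : E ⟶ S) [Etale g] [IsAffineHom g]
    (u : X ⟶ E) (hug : u ≫ g = f) :
    ∃ (W : Scheme.{u}) (ι : W ⟶ E) (u' : X ⟶ W), Etale (ι ≫ g) ∧ IsAffineHom (ι ≫ g) ∧
      IsSchemeTheoreticallyDominant u' ∧ u' ≫ ι = u := by
  haveI : IsLocallyNoetherian E := LocallyOfFiniteType.isLocallyNoetherian g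
  haveI : CompactSpace E := QuasiCompact.compactSpace_of_compactSpace g
  haveI : IsNoetherian E := {}
  haveI : Flat u := by
    haveI : Flat (u ≫ g) := hug ▸ inferInstance
    exact GrothLib.EtSec.flat_of_comp_weaklyEtale u g
  let M : Set E := {l | ∀ z, z ⤳ l → z = l}
  have hMfin : M.Finite := finite_maximal_points
  have huniq : ∀ (x : E) (l m : E), l ∈ M → m ∈ M → l ⤳ x → m ⤳ x → l = m := fun x l m hl hm h h' =>
    GrothLib.TorsorTriv19.eq_of_maximal_of_smooth g hS h h' hl hm
  let A : Set E := ⋃ l ∈ M ∩ Set.range u, closure {l}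
  let B : Set E := ⋃ l ∈ M \ Set.range u, closure {l}
  have hAB : Aᶜ = B := by
    ext x
    obtain ⟨l, hlx, hl⟩ := GrothLib.Unibranch.exists_maximal_generization x
    simp only [A, B, Set.mem_compl_iff, Set.mem_iUnion₂, not_exists]
    constructor
    · intro h
      exact ⟨l, ⟨hl, fun hr => h l ⟨hl, hr⟩ (specializes_iff_mem_closure.1 hlx)⟩, specializes_iff_mem_closure.1 hlx⟩
    · rintro ⟨m, ⟨hm, hmr⟩, hmx⟩ k ⟨hk, hkr⟩ hkx
      exact hmr (huniq x k m hk hm (specializes_iff_mem_closure.2 hkx) (specializes_iff_mem_closure.2 hmx) ▸ hkr)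
  have hAc : IsClosed A := (hMfin.subset Set.inter_subset_left).isClosed_biUnion fun _ _ => isClosed_closure
  have hAo : IsOpen A := by
    rw [← isClosed_compl_iff, hAB]
    exact (hMfin.subset Set.sdiff_subset).isClosed_biUnion fun _ _ => isClosed_closure
  let W : E.Opens := ⟨A, hAo⟩
  have hrange : Set.range u ⊆ A := by
    rintro _ ⟨x, rfl⟩
    obtain ⟨l, hlx, hl⟩ := GrothLib.Unibranch.exists_maximal_generization (u x)
    obtain ⟨x', -, rfl⟩ := Flat.generalizingMap u hlx
    exact Set.mem_iUnion₂.2 ⟨_, ⟨hl, ⟨x', rfl⟩⟩, specializes_iff_mem_closure.1 hlx⟩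
  haveI : IsClosedImmersion W.ι :=
    IsClosedImmersion.of_isPreimmersion _ (by rw [Scheme.Opens.range_ι]; exact hAc)
  let u' : X ⟶ W := IsOpenImmersion.lift W.ι u (by rw [Scheme.Opens.range_ι]; exact hrange)
  have hu' : u' ≫ W.ι = u := IsOpenImmersion.lift_fac _ _ _
  haveI : Flat u' := by
    haveI : Flat (u' ≫ W.ι ≫ g) := by rw [← Category.assoc, hu', hug]; infer_instance
    exact GrothLib.EtSec.flat_of_comp_weaklyEtale u' (W.ι ≫ g)
  haveI : IsLocallyNoetherian W.toScheme := LocallyOfFiniteType.isLocallyNoetherian W.ι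
  refine ⟨W, W.ι, u', inferInstance, inferInstance,
    GrothLib.SchDomAss10.isSchemeTheoreticallyDominant_of_ass u' fun e he => ?_, hu'⟩
  have h1 := (GrothLib.SchDomAss10.isAssPoint_iff_of_etale (W.ι ≫ g) e).1 he
  have hmin : ∀ s, s ⤳ (W.ι ≫ g) e → s = (W.ι ≫ g) e := fun s hs => by
    obtain ⟨t₀, h0, hm⟩ := GrothLib.SchDomAss10.exists_isMin_specializes s
    have : t₀ = (W.ι ≫ g) e :=
      (hemb _ h1 t₀ (GrothLib.SchDomAss10.isAssPoint_of_isMin t₀ hm) (h0.trans hs)).symm
    rw [this] at h0
    exact (hs.antisymm h0).eq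
  haveI : LocallyQuasiFinite g := GrothLib.EtBasicB.locallyQuasiFinite_of_unramified g
  have heM : W.ι e ∈ M := GrothLib.Unibranch.maximal_of_locallyQuasiFinite g (W.ι e) hmin
  obtain ⟨l, ⟨hl, hlr⟩, hle⟩ := Set.mem_iUnion₂.1 (show W.ι e ∈ A from e.2)
  obtain ⟨x, hx⟩ := hlr
  refine ⟨x, W.ι.isOpenEmbedding.injective ?_⟩
  rw [← Scheme.Hom.comp_apply, hu', hx]
  exact huniq _ l (W.ι e) hl heM (specializes_iff_mem_closure.2 hle) specializes_rfl


/-- Let S be a Noetherian scheme all of whose local rings are geometrically unibranch and whose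
structure sheaf has no embedded associated points, and let f : X → S be flat, surjective and of
finite presentation. Then there is a factorization X → E₀ → S of f with E₀ → S étale and affine and
X → E₀ schematically dominant (the étale affine hull of X over S), and it is initial among all
factorizations of f through étale affine S-schemes: for every factorization X → E → S of f with E →
S étale and affine there is a unique morphism E₀ → E compatible with the maps from X and to S. In
particular it is the largest factorization with X → E schematically dominant. (The source allows X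
to be an algebraic space; X is a scheme here.) -/
theorem result {X S : Scheme.{u}} [IsNoetherian S]
    (hS : ∀ s : S, CAlg2.IsGeomUnibranch (S.presheaf.stalk s))
    (hemb : AssSch.NoEmbedded (Coh.structureModule S))
    (f : X ⟶ S) [Flat f] [Surjective f] [LocallyOfFinitePresentation f] [QuasiCompact f]
    [QuasiSeparated f] :
    ∃ (E₀ : Scheme.{u}) (g₀ : E₀ ⟶ S) (u₀ : X ⟶ E₀), Etale g₀ ∧ IsAffineHom g₀ ∧
      IsSchemeTheoreticallyDominant u₀ ∧ u₀ ≫ g₀ = f ∧
      ∀ (E : Scheme.{u}) (g : E ⟶ S) (u : X ⟶ E), Etale g → IsAffineHom g → u ≫ g = f →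
        ∃! v : E₀ ⟶ E, u₀ ≫ v = u ∧ v ≫ g = g₀ := by
  classical
  haveI hd : IsSchemeTheoreticallyDominant f :=
    GrothLib.SchDomAss10.isSchemeTheoreticallyDominant_of_ass f (fun e _ => f.surjective e)
  let L₀ : GrothLib.EtInf10.LB f f f (𝟙 X) (𝟙 X) :=
    { E := S, g := 𝟙 S, u := f, v₁ := f, v₂ := f, et := inferInstance, aff := inferInstance,
      dom := hd, hug := Category.comp_id f, hu1 := Category.id_comp f, hu2 := Category.id_comp f,
      hg1 := Category.comp_id f, hg2 := Category.comp_id f }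
  haveI : IsLocallyNoetherian X := LocallyOfFiniteType.isLocallyNoetherian f
  haveI : CompactSpace X := QuasiCompact.compactSpace_of_compactSpace f
  haveI : IsLocallyNoetherian (Limits.pullback f f) :=
    LocallyOfFiniteType.isLocallyNoetherian (Limits.pullback.fst f f)
  haveI : CompactSpace ↥(Limits.pullback f f) :=
    QuasiCompact.compactSpace_of_compactSpace (Limits.pullback.fst f f)
  haveI : IsNoetherian (Limits.pullback f f) := {}
  let M : Set ↥(Limits.pullback f f) := {z | z ∈ Set.univ ∧ ∀ w ∈ Set.univ, w ⤳ z → w = z}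
  have hM : M.Finite := GrothLib.Chev28.finite_maximal_points isClosed_univ
  let mR : GrothLib.EtInf10.LB f f f (𝟙 X) (𝟙 X) → ℕ := fun L => (M ∩ Set.range L.j).ncard
  obtain ⟨L₁, hL₁⟩ : ∃ L, mR L = sInf (Set.range mR) :=
    Nat.sInf_mem (s := Set.range mR) ⟨_, L₀, rfl⟩
  let mT : {L : GrothLib.EtInf10.LB f f f (𝟙 X) (𝟙 X) // mR L = mR L₁} → ℕ := fun L => L.1.T.ncard
  obtain ⟨⟨L, hLR⟩, hLT⟩ : ∃ L, mT L = sInf (Set.range mT) :=
    Nat.sInf_mem (s := Set.range mT) ⟨_, ⟨L₁, rfl⟩, rfl⟩
  refine ⟨L.E, L.g, L.u, L.et, L.aff, L.dom, L.hug, fun E g u het haff hug => ?_⟩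
  haveI := het
  haveI := haff
  obtain ⟨W, ι, u', hW1, hW2, hW3, hu'⟩ := exists_dominant_factor hS hemb f g u hug
  obtain ⟨E'', g'', u'', p, p', het'', haff'', hdom'', hug'', hp, hp', hpg, hpg', -⟩ :=
    Groth.Agent.S15997.result hS hemb f L.E W L.g (ι ≫ g) L.u u' L.hug (by rw [← Category.assoc, hu', hug])
  let L' : GrothLib.EtInf10.LB f f f (𝟙 X) (𝟙 X) :=
    { E := E'', g := g'', u := u'', v₁ := u'', v₂ := u'', et := het'', aff := haff'', dom := hdom'',
      hug := hug'', hu1 := Category.id_comp u'', hu2 := Category.id_comp u'',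
      hg1 := hug'', hg2 := hug'' }
  have hsub : Set.range L'.j ⊆ Set.range L.j :=
    GrothLib.EtInf10.range_j_subset (L := L') (L' := L) p hpg hp
  have hle : mR L ≤ mR L' := by rw [hLR, hL₁]; exact Nat.sInf_le ⟨L', rfl⟩
  have hMeq : M ∩ Set.range L'.j = M ∩ Set.range L.j :=
    Set.eq_of_subset_of_ncard_le (Set.inter_subset_inter_right _ hsub) hle (hM.inter_of_left _)
  have hR : Set.range L.j ⊆ Set.range L'.j := by
    intro x hx
    obtain ⟨l, hlx, hl⟩ := GrothLib.Unibranch.exists_maximal_generization x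
    have hlM : l ∈ M := ⟨trivial, fun w _ h => hl w h⟩
    have : l ∈ M ∩ Set.range L.j := ⟨hlM, hlx.mem_open L.j.isOpenEmbedding.isOpen_range hx⟩
    rw [← hMeq] at this
    exact hlx.mem_closed L'.j.isClosedEmbedding.isClosed_range this.2
  haveI : IsOpenImmersion p :=
    GrothLib.EtInf10.isOpenImmersion_of_range_j (L := L') (L' := L) p hpg hp hR
  have hT : L.T.ncard ≤ L'.T.ncard := by
    have heq : mR L' = mR L₁ := by
      rw [← hLR]
      show (M ∩ Set.range L'.j).ncard = (M ∩ Set.range L.j).ncard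
      rw [hMeq]
    exact hLT.trans_le (Nat.sInf_le ⟨⟨L', heq⟩, rfl⟩)
  haveI : IsIso p := GrothLib.EtInf10.isIso_of_ncard_le (L := L') (L' := L) p hpg hp hT
  refine ⟨inv p ≫ p' ≫ ι, ⟨?_, ?_⟩, fun w hw => ?_⟩
  · rw [← Category.assoc, (IsIso.comp_inv_eq p).2 hp.symm, ← Category.assoc, hp', hu']
  · simp only [Category.assoc]
    rw [hpg', IsIso.inv_comp_eq, hpg]
  · refine GrothLib.SchDense.ext_of_schDominant g ?_ L.u ?_
    · simp only [Category.assoc]
      rw [hw.2, hpg', eq_comm, IsIso.inv_comp_eq, hpg]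
    · rw [hw.1, ← Category.assoc, (IsIso.comp_inv_eq p).2 hp.symm, ← Category.assoc, hp', hu']

end Groth.Agent.S15994
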