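import Groth.Prelude.Def_Frob

set_option autoImplicit false
open CategoryTheory AlgebraicGeometry
universe u

open CategoryTheory.Limits

namespace Groth.Agent.S15995

open FrobSch in
lemma isIso_relFrob_iff {p : ℕ} [Fact p.Prime] {Y S : Scheme.{u}} [IsCharP S p] [IsCharP Y p] (q : Y ⟶ S) :
    IsIso (relFrob q p) ↔ IsPullback (frob Y p) q q (frob S p) := by
  constructor
  · intro h
    exact IsPullback.of_iso_pullback ⟨frob_comp p q⟩ (asIso (relFrob q p)) (relFrob_fst q p) (relFrob_snd q p)
  · intro h
    have : relFrob q p = h.isoPullback.hom :=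
      pullback.hom_ext ((relFrob_fst q p).trans h.isoPullback_hom_fst.symm)
        ((relFrob_snd q p).trans h.isoPullback_hom_snd.symm)
    rw [this]; infer_instance


/-- Coperfection commutes with base restriction. Let S and T be schemes of characteristic p and f : T →
S a relatively perfect morphism (its relative Frobenius T → T^(p/S) is an isomorphism). Let g : X →
T and let c : X → X' be a T-morphism to a relatively perfect T-scheme π : X' → T which is a
coperfection of X over T: for every relatively perfect T-scheme Y, every T-morphism X → Y factors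
uniquely through c. Then X' with structure map π ≫ f is relatively perfect over S and c is a
coperfection of X over S: every S-morphism from X to a relatively perfect S-scheme factors uniquely
through c. (The source works with algebraic spaces; schemes here.) -/
theorem result (p : ℕ) [Fact p.Prime] {X X' T S : Scheme.{u}}
    [FrobSch.IsCharP S p] [FrobSch.IsCharP T p] (f : T ⟶ S) (hf : IsIso (FrobSch.relFrob f p))
    (g : X ⟶ T) (π : X' ⟶ T) (hπ : IsIso (FrobSch.relFrob π p)) (c : X ⟶ X') (hc : c ≫ π = g)
    (huniv : ∀ (Y : Scheme.{u}) (q : Y ⟶ T), IsIso (FrobSch.relFrob q p) →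
      ∀ k : X ⟶ Y, k ≫ q = g → ∃! h : X' ⟶ Y, h ≫ q = π ∧ c ≫ h = k) :
    IsIso (FrobSch.relFrob (π ≫ f) p) ∧
      ∀ (Y : Scheme.{u}) (r : Y ⟶ S), IsIso (FrobSch.relFrob r p) →
        ∀ k : X ⟶ Y, k ≫ r = g ≫ f → ∃! h : X' ⟶ Y, h ≫ r = π ≫ f ∧ c ≫ h = k := by
  haveI : FrobSch.IsCharP X' p := FrobSch.IsCharP.of_hom π p
  refine ⟨(isIso_relFrob_iff _).2 (((isIso_relFrob_iff π).1 hπ).paste_vert ((isIso_relFrob_iff f).1 hf)),
    fun Y r hr k hk => ?_⟩
  haveI : FrobSch.IsCharP Y p := FrobSch.IsCharP.of_hom r p
  haveI : FrobSch.IsCharP (pullback r f) p := FrobSch.IsCharP.of_hom (pullback.snd r f) p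
  have hP : IsIso (FrobSch.relFrob (pullback.snd r f) p) := by
    have sq := IsPullback.of_hasPullback r f
    have hbig : IsPullback (FrobSch.frob (pullback r f) p ≫ pullback.fst r f) (pullback.snd r f) r
        (FrobSch.frob T p ≫ f) := by
      rw [FrobSch.frob_comp p (pullback.fst r f), FrobSch.frob_comp p f]
      exact sq.paste_horiz ((isIso_relFrob_iff r).1 hr)
    exact (isIso_relFrob_iff _).2 (IsPullback.of_right hbig (FrobSch.frob_comp p _) sq)
  obtain ⟨h, ⟨hh1, hh2⟩, huniq⟩ := huniv _ (pullback.snd r f) hP (pullback.lift k g hk) (pullback.lift_snd _ _ _)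
  refine ⟨h ≫ pullback.fst r f, ⟨?_, ?_⟩, fun h₂ hh₂ => ?_⟩
  · rw [Category.assoc, pullback.condition, ← Category.assoc, hh1]
  · rw [← Category.assoc, hh2, pullback.lift_fst]
  · obtain ⟨h21, h22⟩ := hh₂
    have := huniq (pullback.lift h₂ π h21) ⟨pullback.lift_snd _ _ _, by
      apply pullback.hom_ext
      · rw [Category.assoc, pullback.lift_fst, h22, pullback.lift_fst]
      · rw [Category.assoc, pullback.lift_snd, hc, pullback.lift_snd]⟩
    rw [← this, pullback.lift_fst]

end Groth.Agent.S15995
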