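import Groth.Statements.S15996
import Groth.Agent.Lib.EtHullReg10.Basic
import Groth.Agent.Lib.AlgSp.LqfDescent
import Groth.Agent.Lib.EtBasicB.OverField
import Groth.Agent.S0065
set_option backward.isDefEq.respectTransparency false

set_option autoImplicit false
open CategoryTheory AlgebraicGeometry
universe u
open EtHull

namespace Groth.Agent.S15996

/-- Let R be a Noetherian ring whose localizations at all prime ideals are regular local rings, S = Spec
R, and q : U → S an étale, separated and quasi-compact morphism of schemes. The following are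
equivalent: (1) there is an open immersion of U into a scheme E which is étale and affine over S,
compatible with q; (2) the affine hull Spec Γ(U, O_U) → S of U over S is étale. (The source states
this for a locally Noetherian algebraic space S all of whose étale atlases are locally ℚ-factorial;
this row is the case of an affine regular Noetherian base, a regular scheme being locally
ℚ-factorial.) -/
theorem result {R : Type u} [CommRing R]
    [IsNoetherianRing R] (hreg : ∀ (P : Ideal R) [P.IsPrime], IsRegularLocalRing (Localization.AtPrime P))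
    {U : Scheme.{u}} (q : U ⟶ Spec (CommRingCat.of R)) [Etale q] [IsSeparated q] [QuasiCompact q] :
    (∃ (E : Scheme.{u}) (j : U ⟶ E) (g : E ⟶ Spec (CommRingCat.of R)),
        IsOpenImmersion j ∧ Etale g ∧ IsAffineHom g ∧ j ≫ g = q) ↔
      Etale (Spec.map q.appTop ≫ (Spec (CommRingCat.of R)).isoSpec.inv) := by
  haveI : CompactSpace U := QuasiCompact.compactSpace_of_compactSpace q
  have hnat : U.toSpecΓ ≫ Spec.map q.appTop ≫ (Spec (CommRingCat.of R)).isoSpec.inv = q := by
    rw [← Scheme.toSpecΓ_naturality_assoc]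
    simp [Scheme.isoSpec]
  constructor
  · rintro ⟨E, j, g, hj, hg, hga, hjg⟩
    haveI := hj
    haveI := hg
    haveI := hga
    haveI : IsAffine E := isAffine_of_isAffineHom g
    haveI : IsLocallyNoetherian E := LocallyOfFiniteType.isLocallyNoetherian g
    haveI : IsNoetherian E := {}
    have hS : ∀ y : Spec (CommRingCat.of R), IsRegularLocalRing ((Spec (CommRingCat.of R)).presheaf.stalk y) := fun y => by
      haveI := hreg y.asIdeal
      letI : Algebra R ((Spec (CommRingCat.of R)).presheaf.stalk y) := StructureSheaf.stalkAlgebra R y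
      haveI : IsLocalization.AtPrime ((Spec (CommRingCat.of R)).presheaf.stalk y) y.asIdeal :=
        StructureSheaf.IsLocalization.to_stalk R y
      exact IsRegularLocalRing.of_ringEquiv
        (IsLocalization.algEquiv y.asIdeal.primeCompl (Localization.AtPrime y.asIdeal)
          ((Spec (CommRingCat.of R)).presheaf.stalk y)).toRingEquiv
    have hE : ∀ e : E, IsRegularLocalRing (E.presheaf.stalk e) := fun e =>
      (Groth.Agent.S0065.result g e).2 (hS _)
    obtain ⟨W, hle, hW, hbij⟩ := GrothLib.EtHullReg10.exists_hull hE j.opensRange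
    haveI : IsAffine W.toScheme := hW
    let l : U ⟶ W.toScheme := IsOpenImmersion.lift W.ι j (by
      rw [Scheme.Opens.range_ι]; exact fun y hy => hle hy)
    have hl : l ≫ W.ι = j := IsOpenImmersion.lift_fac _ _ _
    have hbl : Function.Bijective l.appTop := by
      have e : W.ι.app W ≫ W.toScheme.presheaf.map (eqToHom W.ι_preimage_self.symm).op ≫ l.appTop =
          E.presheaf.map (homOfLE hle).op ≫ j.appLE j.opensRange ⊤ (fun y _ => ⟨y, rfl⟩) := by
        rw [Scheme.Hom.map_appLE, Scheme.Hom.appTop, Scheme.Hom.app_eq_appLE, Scheme.Hom.app_eq_appLE,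
          Scheme.Hom.map_appLE, Scheme.Hom.appLE_comp_appLE]
        have key : ∀ (f₁ f₂ : U ⟶ E) (_ : f₁ = f₂) (O₁ : E.Opens) (h₁ : ⊤ ≤ f₁ ⁻¹ᵁ O₁) (h₂ : ⊤ ≤ f₂ ⁻¹ᵁ O₁),
            f₁.appLE O₁ ⊤ h₁ = f₂.appLE O₁ ⊤ h₂ := by
          rintro _ _ rfl _ _ _; rfl
        exact key _ _ hl _ _ _
      haveI : IsIso (j.appLE j.opensRange ⊤ (fun y _ => ⟨y, rfl⟩)) := by
        have he : j ⁻¹ᵁ j.opensRange = ⊤ := top_unique fun y _ => ⟨y, rfl⟩
        haveI : IsIso (j.app j.opensRange) := j.isIso_app _ le_rfl
        have : IsIso (homOfLE (show (⊤ : U.Opens) ≤ j ⁻¹ᵁ j.opensRange from he.ge)) :=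
          ⟨homOfLE he.le, Subsingleton.elim _ _, Subsingleton.elim _ _⟩
        unfold Scheme.Hom.appLE
        infer_instance
      have h1 : Function.Bijective (E.presheaf.map (homOfLE hle).op ≫ j.appLE j.opensRange ⊤ (fun y _ => ⟨y, rfl⟩)) :=
        (ConcreteCategory.bijective_of_isIso (j.appLE j.opensRange ⊤ (fun y _ => ⟨y, rfl⟩))).comp hbij
      rw [← e] at h1
      haveI : IsIso (W.ι.app W) := W.ι.isIso_app _ (by rw [Scheme.Opens.opensRange_ι])
      rw [← Category.assoc] at h1
      exact (Function.Bijective.of_comp_iff _ (ConcreteCategory.bijective_of_isIso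
        (W.ι.app W ≫ W.toScheme.presheaf.map (eqToHom W.ι_preimage_self.symm).op))).1 h1
    haveI : IsIso l.appTop := (ConcreteCategory.isIso_iff_bijective _).2 hbl
    have hq : q.appTop = (W.ι ≫ g).appTop ≫ l.appTop := by
      rw [← Scheme.Hom.comp_appTop, ← Category.assoc, hl, hjg]
    have heq : Spec.map q.appTop ≫ (Spec (CommRingCat.of R)).isoSpec.inv =
        Spec.map l.appTop ≫ W.toScheme.isoSpec.inv ≫ W.ι ≫ g := by
      rw [hq, Spec.map_comp, Category.assoc]
      congr 1
      rw [← Scheme.isoSpec_inv_naturality]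
    rw [heq]
    infer_instance
  · intro h
    haveI : LocallyQuasiFinite q := GrothLib.EtBasicB.locallyQuasiFinite_of_unramified q
    haveI : U.IsQuasiAffine := GrothLib.AlgSp.isQuasiAffine_of_lqf q
    refine ⟨_, U.toSpecΓ, Spec.map q.appTop ≫ (Spec (CommRingCat.of R)).isoSpec.inv, inferInstance, h,
      isAffineHom_of_isAffine _, hnat⟩

end Groth.Agent.S15996
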