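import Groth.Statements.S15998
import Groth.Agent.Lib.EtImage10.Quot
import Groth.Agent.Lib.CentralTor14.EtaleLift
import Groth.Agent.Lib.WeakEtale.Basic
import Mathlib.AlgebraicGeometry.Sites.Fpqc
import Groth.Agent.S5938

set_option linter.all false

set_option autoImplicit false
open CategoryTheory AlgebraicGeometry
universe u
open EtHull

namespace Groth.Agent.S15998

open Limits in
theorem formallyEtale_appLE_aux {E Y S : Scheme.{u}} (b : Y ⟶ S) [FormallyUnramified b] (m : E ⟶ Y)
    [Mono m] [Etale (m ≫ b)] (V : Y.Opens) (hV : IsAffineOpen V) (U : E.Opens) (hU : IsAffineOpen U)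
    (e : U ≤ m ⁻¹ᵁ V) : (m.appLE V U e).hom.FormallyEtale := by
  algebraize [(m.appLE V U e).hom]
  refine Algebra.FormallyEtale.iff_comp_bijective.mpr ?_
  intro B _ _ I hI
  have hsq : (Spec.map (m.appLE V U e)) ≫ hV.fromSpec = hU.fromSpec ≫ m :=
    IsAffineOpen.SpecMap_appLE_fromSpec _ _ _ _
  have hg : ∀ ψ : Γ(E, U) →ₐ[Γ(Y, V)] B, (Spec.map (CommRingCat.ofHom ψ.toRingHom) ≫ hU.fromSpec) ≫ m =
      Spec.map (CommRingCat.ofHom (algebraMap Γ(Y, V) B)) ≫ hV.fromSpec := fun ψ => by
    rw [Category.assoc, ← hsq, ← Category.assoc, ← Spec.map_comp]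
    congr 2
    ext r
    exact ψ.commutes r
  refine ⟨fun ψ₁ ψ₂ _ => ?_, fun φ => ?_⟩
  · have := (hg ψ₁).trans (hg ψ₂).symm
    rw [cancel_mono, cancel_mono] at this
    have := congrArg CommRingCat.Hom.hom (Spec.map_injective this)
    exact AlgHom.ext fun r => RingHom.congr_fun this r
  · let i : Spec (CommRingCat.of (B ⧸ I)) ⟶ Spec (CommRingCat.of B) :=
      Spec.map (CommRingCat.ofHom (Ideal.Quotient.mk I))
    haveI : IsClosedImmersion i := IsClosedImmersion.spec_of_surjective _ Ideal.Quotient.mk_surjective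
    have hi2 : ∀ x y, Ideal.Quotient.mk I x = 0 → Ideal.Quotient.mk I y = 0 → x * y = 0 := fun x y hx hy => by
      have : x * y ∈ I ^ 2 := by
        rw [pow_two]; exact Ideal.mul_mem_mul (Ideal.Quotient.eq_zero_iff_mem.1 hx) (Ideal.Quotient.eq_zero_iff_mem.1 hy)
      rwa [hI, Ideal.mem_bot] at this
    haveI : Surjective i := by
      refine ⟨fun x => ?_⟩
      have : I ≤ x.asIdeal := fun r hr => x.2.mem_of_pow_mem 2 (by
        have : r ^ 2 ∈ I ^ 2 := Ideal.pow_mem_pow hr 2
        rw [hI, Ideal.mem_bot] at this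
        rw [this]; exact zero_mem _)
      have hx : x ∈ Set.range (PrimeSpectrum.comap (Ideal.Quotient.mk I)) := by
        rw [_root_.range_comap_of_surjective _ _ Ideal.Quotient.mk_surjective, Ideal.mk_ker]
        exact this
      exact hx
    let g := Spec.map (CommRingCat.ofHom (algebraMap Γ(Y, V) B)) ≫ hV.fromSpec
    let f := Spec.map (CommRingCat.ofHom φ.toRingHom) ≫ hU.fromSpec
    have hfg : f ≫ m = i ≫ g := by
      simp only [f, i, g, Category.assoc, ← hsq]
      rw [← Category.assoc, ← Category.assoc, ← Spec.map_comp, ← Spec.map_comp]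
      congr 2
      ext r
      exact (φ.commutes r).trans (IsScalarTower.algebraMap_apply _ B _ r)
    obtain ⟨t, ht, htS⟩ := GrothLib.CentralTor14.exists_lift i (m ≫ b) (g ≫ b) f
      (by rw [← Category.assoc, ← hfg, Category.assoc])
    have htm : t ≫ m = g := FormallyUnramified.hom_ext i (GrothLib.EtImage10.isNilpotent_ker_specMap _ hi2) b
      (by rw [← Category.assoc, ht, hfg]) (by rw [Category.assoc, htS])
    have hr : Set.range t ⊆ Set.range hU.fromSpec := by
      rintro _ ⟨x, rfl⟩
      obtain ⟨y, rfl⟩ := i.surjective x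
      rw [← Scheme.Hom.comp_apply, ht]
      exact ⟨_, (Scheme.Hom.comp_apply _ _ _).symm⟩
    obtain ⟨ψ, hψ⟩ := Spec.map_surjective (IsOpenImmersion.lift hU.fromSpec t hr)
    have hψ' : Spec.map ψ ≫ hU.fromSpec = t := by rw [hψ, IsOpenImmersion.lift_fac]
    have hψA : m.appLE V U e ≫ ψ = CommRingCat.ofHom (algebraMap Γ(Y, V) B) := Spec.map_injective <| by
      rw [← cancel_mono hV.fromSpec, Spec.map_comp, Category.assoc, hsq, ← Category.assoc, hψ', htm]
    refine ⟨⟨ψ.hom, fun r => RingHom.congr_fun (congrArg CommRingCat.Hom.hom hψA) r⟩, ?_⟩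
    have : ψ ≫ CommRingCat.ofHom (Ideal.Quotient.mk I) = CommRingCat.ofHom φ.toRingHom := Spec.map_injective <| by
      rw [← cancel_mono hU.fromSpec, Spec.map_comp, Category.assoc, hψ', ht]
    exact AlgHom.ext fun r => RingHom.congr_fun (congrArg CommRingCat.Hom.hom this) r

/-- Let S be a Noetherian scheme, a : X → S flat, surjective and of finite presentation, b : Y → S
formally unramified, and h : X → Y a morphism with h ≫ b = a. Then h factors as X → E → Y where E →
S is étale, X → E is flat, surjective and of finite presentation, and E → Y is a monomorphism which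
is locally of finite type, quasi-compact and formally étale (stated affine-locally: for affine opens
V of Y and U of E over V, the ring map Γ(Y, V) → Γ(E, U) is formally étale); and any two
factorizations X → E → Y, X → E' → Y with E, E' étale over S, X → E and X → E' faithfully flat of
finite presentation and E → Y, E' → Y monomorphisms of finite type are related by a unique morphism
E → E' compatible with the maps from X and to Y. (The source works with algebraic spaces; for
schemes X, Y, S the middle term is automatically a scheme.) -/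
theorem result {X Y S : Scheme.{u}} [IsNoetherian S]
    (a : X ⟶ S) [Flat a] [Surjective a] [LocallyOfFinitePresentation a] [QuasiCompact a]
    [QuasiSeparated a] (b : Y ⟶ S) [FormallyUnramified b] (h : X ⟶ Y) (w : h ≫ b = a) :
    (∃ (E : Scheme.{u}) (u : X ⟶ E) (m : E ⟶ Y), Etale (m ≫ b) ∧
      Flat u ∧ Surjective u ∧ LocallyOfFinitePresentation u ∧ QuasiCompact u ∧ QuasiSeparated u ∧
      Mono m ∧ LocallyOfFiniteType m ∧ QuasiCompact m ∧
      (∀ (V : Y.Opens), IsAffineOpen V → ∀ (U : E.Opens), IsAffineOpen U →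
        ∀ (e : U ≤ m ⁻¹ᵁ V), (m.appLE V U e).hom.FormallyEtale) ∧
      u ≫ m = h) ∧
    ∀ (E E' : Scheme.{u}) (u : X ⟶ E) (m : E ⟶ Y) (u' : X ⟶ E') (m' : E' ⟶ Y),
      Etale (m ≫ b) → Flat u → Surjective u → LocallyOfFinitePresentation u → QuasiCompact u →
      QuasiSeparated u → Mono m → LocallyOfFiniteType m → QuasiCompact m → u ≫ m = h →
      Etale (m' ≫ b) → Flat u' → Surjective u' → LocallyOfFinitePresentation u' → QuasiCompact u' →
      QuasiSeparated u' → Mono m' → LocallyOfFiniteType m' → QuasiCompact m' → u' ≫ m' = h →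
      ∃! i : E ⟶ E', u ≫ i = u' ∧ i ≫ m' = m := by
  refine ⟨?_, ?_⟩
  · haveI : LocallyOfFiniteType (h ≫ b) := by rw [w]; infer_instance
    haveI : LocallyOfFiniteType h := locallyOfFiniteType_of_comp h b
    obtain ⟨j, hj, hj1, -⟩ := GrothLib.EtImage10.isOpenImmersion_lift a b h w
    haveI : Flat (Limits.pullback.fst h h) := by rw [← hj1]; infer_instance
    haveI : LocallyOfFinitePresentation (Limits.pullback.fst h h) := by rw [← hj1]; infer_instance
    obtain ⟨E, u, m, hu1, hu2, hu3, hm, hm', hum⟩ := GrothLib.EtImage10.exists_fppf_mono h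
    have hue : u ≫ m ≫ b = a := by rw [← Category.assoc, hum, w]
    haveI : LocallyOfFiniteType (u ≫ m ≫ b) := by rw [hue]; infer_instance
    haveI : LocallyOfFiniteType (m ≫ b) := Groth.Agent.S5938.result u (m ≫ b)
    haveI : IsLocallyNoetherian E := LocallyOfFiniteType.isLocallyNoetherian (m ≫ b)
    haveI : Flat (u ≫ m ≫ b) := by rw [hue]; infer_instance
    haveI : Flat (m ≫ b) := GrothLib.WeakEtale.flat_of_comp_flat_surjective u _
    haveI : IsIso (Limits.pullback.diagonal m) := (Limits.pullback.isIso_diagonal_iff m).mpr hm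
    haveI : FormallyUnramified m := inferInstance
    haveI : FormallyUnramified (m ≫ b) := MorphismProperty.comp_mem _ m b inferInstance inferInstance
    haveI : Etale (m ≫ b) := Etale.of_formallyUnramified_of_flat _
    haveI : CompactSpace X := QuasiCompact.compactSpace_of_compactSpace a
    haveI : CompactSpace E := u.surjective.compactSpace u.continuous
    haveI : IsNoetherian E := {}
    haveI : IsLocallyNoetherian X := LocallyOfFiniteType.isLocallyNoetherian a
    haveI : IsNoetherian X := {}
    exact ⟨E, u, m, inferInstance, hu1, hu2, hu3, inferInstance, inferInstance, hm, hm', inferInstance,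
      fun V hV U hU e => formallyEtale_appLE_aux b m V hV U hU e, hum⟩
  · intro E E' u m u' m' _ _ _ _ _ _ _ _ _ hum _ _ _ _ _ _ _ _ _ hum'
    have key : ∀ {Z : Scheme.{u}} (g₁ g₂ : Z ⟶ X), g₁ ≫ u = g₂ ≫ u → g₁ ≫ u' = g₂ ≫ u' := fun g₁ g₂ hg => by
      rw [← cancel_mono m', Category.assoc, Category.assoc, hum', ← hum, ← Category.assoc, hg, Category.assoc]
    refine ⟨EffectiveEpi.desc u u' key, ⟨EffectiveEpi.fac u u' key, ?_⟩, ?_⟩
    · haveI : Epi u := Flat.epi_of_flat_of_surjective u
      rw [← cancel_epi u, EffectiveEpi.fac_assoc, hum', hum]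
    · rintro i ⟨hi, -⟩
      exact EffectiveEpi.uniq u u' key i hi

end Groth.Agent.S15998
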