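import Groth.Statements.S15999
import Groth.Agent.Lib.EtImage10.Basic
import Groth.Agent.S15998

set_option linter.all false

set_option autoImplicit false
open CategoryTheory AlgebraicGeometry
universe u
open EtHull

namespace Groth.Agent.S15999

/-- Let S be a Noetherian scheme and a : X → S flat, surjective and of finite presentation. Let c : P →
S be étale, quasi-compact and quasi-separated and ϖ : X → P a morphism over S which is initial among
S-morphisms from X to étale finitely presented S-schemes: for every étale quasi-compact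
quasi-separated E → S, every S-morphism X → E factors uniquely through ϖ. Then ϖ is initial among
S-morphisms from X to all formally unramified S-schemes: for every formally unramified Y → S, every
S-morphism X → Y factors uniquely through ϖ. (The source allows algebraic spaces and phrases the
hypothesis as the existence of an initial object, for instance the space of connected components of
X over S; schemes here.) -/
theorem result {X P S : Scheme.{u}} [IsNoetherian S]
    (a : X ⟶ S) [Flat a] [Surjective a] [LocallyOfFinitePresentation a] [QuasiCompact a]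
    [QuasiSeparated a] (c : P ⟶ S) [Etale c] [QuasiCompact c] [QuasiSeparated c]
    (ϖ : X ⟶ P) (hϖ : ϖ ≫ c = a)
    (hinit : ∀ (E : Scheme.{u}) (e : E ⟶ S), Etale e → QuasiCompact e → QuasiSeparated e →
      ∀ k : X ⟶ E, k ≫ e = a → ∃! l : P ⟶ E, ϖ ≫ l = k ∧ l ≫ e = c)
    (Y : Scheme.{u}) (b : Y ⟶ S) [FormallyUnramified b] (k : X ⟶ Y) (hk : k ≫ b = a) :
    ∃! l : P ⟶ Y, ϖ ≫ l = k ∧ l ≫ b = c := by
  haveI : IsLocallyNoetherian P := LocallyOfFiniteType.isLocallyNoetherian c
  haveI : CompactSpace P := QuasiCompact.compactSpace_of_compactSpace c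
  haveI : IsNoetherian P := {}
  obtain ⟨E, u, m, hE, -, hu, -, -, -, -, -, -, -, hum⟩ := (Groth.Agent.S15998.result a b k hk).1
  haveI := hE
  haveI := hu
  haveI : CompactSpace X := QuasiCompact.compactSpace_of_compactSpace a
  haveI : CompactSpace E := u.surjective.compactSpace u.continuous
  haveI : IsLocallyNoetherian E := LocallyOfFiniteType.isLocallyNoetherian (m ≫ b)
  haveI : IsNoetherian E := {}
  obtain ⟨l₀, ⟨hl₀, hl₀'⟩, -⟩ := hinit E (m ≫ b) inferInstance inferInstance inferInstance u
    (by rw [← Category.assoc, hum, hk])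
  refine ⟨l₀ ≫ m, ⟨by rw [← Category.assoc, hl₀, hum], by rw [Category.assoc, hl₀']⟩, ?_⟩
  rintro l ⟨hl, hl'⟩
  set l' := l₀ ≫ m with hdef
  have h1 : ϖ ≫ l' = k := by rw [hdef, ← Category.assoc, hl₀, hum]
  have h2 : l' ≫ b = c := by rw [hdef, Category.assoc, hl₀']
  let p : P ⟶ Limits.pullback b b := Limits.pullback.lift l l' (hl'.trans h2.symm)
  let j : Limits.pullback p (Limits.pullback.diagonal b) ⟶ P := Limits.pullback.fst _ _
  have hj : j ≫ l = j ≫ l' := by
    have e := Limits.pullback.condition (f := p) (g := Limits.pullback.diagonal b)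
    have e1 := congrArg (· ≫ Limits.pullback.fst b b) e
    have e2 := congrArg (· ≫ Limits.pullback.snd b b) e
    simp only [p, Category.assoc, Limits.pullback.lift_fst, Limits.pullback.lift_snd,
      Limits.pullback.diagonal_fst, Limits.pullback.diagonal_snd, Category.comp_id] at e1 e2
    exact e1.trans e2.symm
  have huniv : ∀ (T : Scheme.{u}) (t : T ⟶ P), t ≫ l = t ≫ l' → ∃ s, s ≫ j = t := fun T t ht =>
    ⟨Limits.pullback.lift t (t ≫ l) (Limits.pullback.hom_ext ((by simp only [Category.assoc]; erw [Limits.pullback.lift_fst, Limits.pullback.diagonal_fst, Category.comp_id])) ((by simp only [Category.assoc]; erw [Limits.pullback.lift_snd, Limits.pullback.diagonal_snd, Category.comp_id]; exact ht.symm))),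
      Limits.pullback.lift_fst _ _ _⟩
  haveI : IsImmersion j := MorphismProperty.pullback_fst _ _ inferInstance
  haveI := GrothLib.EtImage10.isOpenImmersion_of_coincidence b l l' (hl'.trans h2.symm) j hj huniv
  obtain ⟨k', hk'⟩ := huniv X ϖ (hl.trans h1.symm)
  obtain ⟨s, ⟨hs, hs'⟩, -⟩ := hinit _ (j ≫ c) inferInstance inferInstance inferInstance k'
    (by rw [← Category.assoc, hk', hϖ])
  obtain ⟨_, -, huP⟩ := hinit P c inferInstance inferInstance inferInstance ϖ hϖ
  have hsj : s ≫ j = 𝟙 P := (huP (s ≫ j) ⟨by rw [← Category.assoc, hs, hk'],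
    by rw [Category.assoc, hs']⟩).trans (huP (𝟙 P) ⟨Category.comp_id _, Category.id_comp _⟩).symm
  rw [← Category.id_comp l, ← Category.id_comp l', ← hsj, Category.assoc, Category.assoc, hj]

end Groth.Agent.S15999
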