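import Groth.Statements.S16002
import Groth.Agent.Lib.CurveMult.HiggsPair

set_option autoImplicit false
open CategoryTheory AlgebraicGeometry CategoryTheory.Limits
open VBCurve

namespace Groth.Agent.S16002

/-- Let X be a smooth proper integral curve over the complex numbers and (L_i)_{i ∈ ι} a family of
invertible O_X-modules. A tuple is a finite locally free O_X-module E of rank r ≥ 1 with maps φ_i :
E → E ⊗ L_i; a submodule j : G → E (a monomorphism) is invariant when for every i some χ : G → G ⊗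
L_i followed by j ⊗ L_i equals j followed by φ_i; the tuple is semistable when deg G · r ≤ deg E · n
for every invariant finite locally free submodule G of rank n ≥ 1, degrees being χ − rank · χ(O_X).
If (E, φ) and (F, ψ) are semistable tuples of ranks r ≥ 1 and s ≥ 1 over the same family (L_i) and f
: E → F is a nonzero module map with f followed by ψ_i equal to φ_i followed by f ⊗ L_i for every i,
then the slope of E is at most that of F: deg E · s ≤ deg F · r. (The published lemma has finitely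
many pairwise commuting twisting maps and morphisms compatible up to one nonzero scalar; the
commutation is not used, the index set is arbitrary here, and the scalar case reduces to this one by
rescaling the ψ_i.) -/
theorem result
    (X : Scheme.{0}) [X.Over (Spec (CommRingCat.of ℂ))] [IsIntegral X]
    [IsProper (X ↘ Spec (CommRingCat.of ℂ))] [Smooth (X ↘ Spec (CommRingCat.of ℂ))]
    (hdim : topologicalKrullDim X = 1)
    (ι : Type) (L : ι → X.Modules) (hL : ∀ i, PicF.IsInvertible (L i))
    (r s : ℕ) (hr : 0 < r) (hs : 0 < s)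
    (E F : X.Modules) (hE : FlatMod.IsFinLocFreeOfRank r E) (hF : FlatMod.IsFinLocFreeOfRank s F)
    (φ : ∀ i, E ⟶ CohB1.tensorMod E (L i)) (ψ : ∀ i, F ⟶ CohB1.tensorMod F (L i))
    (hEss : (∀ (G : X.Modules) (n : ℕ) (j : G ⟶ E), Mono j → 0 < n → FlatMod.IsFinLocFreeOfRank n G →
      (∀ i, ∃ χ : G ⟶ CohB1.tensorMod G (L i), χ ≫ (CohB1.sheafifyMod X).map (MonoidalCategoryStruct.whiskerRight (C := CohB1.PMod X) j.val (CohB1.toPMod (L i))) = j ≫ φ i) →
      Curv2.deg ℂ X G n * (r : ℤ) ≤ Curv2.deg ℂ X E r * (n : ℤ)))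
    (hFss : (∀ (G : X.Modules) (n : ℕ) (j : G ⟶ F), Mono j → 0 < n → FlatMod.IsFinLocFreeOfRank n G →
      (∀ i, ∃ χ : G ⟶ CohB1.tensorMod G (L i), χ ≫ (CohB1.sheafifyMod X).map (MonoidalCategoryStruct.whiskerRight (C := CohB1.PMod X) j.val (CohB1.toPMod (L i))) = j ≫ ψ i) →
      Curv2.deg ℂ X G n * (s : ℤ) ≤ Curv2.deg ℂ X F s * (n : ℤ)))
    (f : E ⟶ F) (hf : ∀ i, f ≫ ψ i = φ i ≫ (CohB1.sheafifyMod X).map (MonoidalCategoryStruct.whiskerRight (C := CohB1.PMod X) f.val (CohB1.toPMod (L i)))) (hne : f ≠ 0) :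
    Curv2.deg ℂ X E r * (s : ℤ) ≤ Curv2.deg ℂ X F s * (r : ℤ) := by
  haveI := GrothLib.Euler.isNoetherian_of_proper (X := X) ℂ
  haveI := GrothLib.CurveRR.regCurve_of_smooth (X ↘ Spec (CommRingCat.of ℂ)) hdim
  have hpid : ∀ x : X, IsPrincipalIdealRing (X.presheaf.stalk x) := GrothLib.CurveRR.pid_stalk
  have hEc := GrothLib.Euler.isCoh_of_isFinLocFree (GrothLib.FinCov.isFinLocFree_of_rank hE)
  obtain ⟨K', I, a, p, j, rK', rI, -, hp, hj, hpj, -, -, hI, -, -, h0, -⟩ :=
    GrothLib.Euler.exists_image_data ℂ hpid (GrothLib.FinCov.isFinLocFree_of_rank hE)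
      (GrothLib.FinCov.isFinLocFree_of_rank hF) f
  haveI := hp
  haveI := hj
  have hI0 : 0 < rI := Nat.pos_of_ne_zero fun h => hne (h0 h)
  have hIc := GrothLib.Euler.isCoh_of_isFinLocFree (GrothLib.FinCov.isFinLocFree_of_rank hI)
  have hKc := GrothLib.QCoh.isCoh_kernel p hEc hIc
  have hK := GrothLib.Euler.isFinLocFreeOfRank_of_mono hpid (kernel.ι p) hKc (GrothLib.FinCov.isFinLocFree_of_rank hE)
  -- the image is invariant
  have hinvI : ∀ i, ∃ χ : I ⟶ (GrothLib.Euler.tF (L i)).obj I,
      χ ≫ (GrothLib.Euler.tF (L i)).map j = j ≫ ψ i := fun i => by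
    haveI := GrothLib.CurveMult.isEquivalence_tF' ℂ (hL i)
    let T := GrothLib.Euler.tF (L i)
    have hTj : T.map p ≫ T.map j = T.map f := by rw [← hpj]; exact (T.map_comp p j).symm
    have e1 : p ≫ j ≫ ψ i = φ i ≫ T.map p ≫ T.map j :=
      (Category.assoc _ _ _).symm.trans ((congrArg (· ≫ ψ i) hpj).trans
        ((hf i).trans (congrArg (φ i ≫ ·) hTj.symm)))
    have hw : (j ≫ ψ i) ≫ cokernel.π (T.map j) = 0 := (cancel_epi p).1 (by
      refine ((Category.assoc _ _ _).symm.trans ((congrArg (· ≫ cokernel.π (T.map j)) e1).trans ?_)).trans comp_zero.symm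
      refine (Category.assoc _ _ _).trans ((congrArg (φ i ≫ ·) ?_).trans comp_zero)
      exact (Category.assoc _ _ _).trans ((congrArg (T.map p ≫ ·) (cokernel.condition _)).trans comp_zero))
    exact ⟨Abelian.monoLift (T.map j) _ hw, Abelian.monoLift_comp _ _ _⟩
  -- the kernel is invariant
  have hinvK : ∀ i, ∃ χ : kernel p ⟶ (GrothLib.Euler.tF (L i)).obj (kernel p),
      χ ≫ (GrothLib.Euler.tF (L i)).map (kernel.ι p) = kernel.ι p ≫ φ i := fun i => by
    haveI := GrothLib.CurveMult.isEquivalence_tF' ℂ (hL i)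
    let T := GrothLib.Euler.tF (L i)
    haveI : Mono (T.map j) := inferInstance
    have hTj : T.map p ≫ T.map j = T.map f := by rw [← hpj]; exact (T.map_comp p j).symm
    have hw : (kernel.ι p ≫ φ i) ≫ T.map p = 0 := (cancel_mono (T.map j)).1 (by
      refine ((Category.assoc _ _ _).trans ((Category.assoc _ _ _).trans
        ((congrArg (fun g => kernel.ι p ≫ φ i ≫ g) hTj).trans
          ((congrArg (kernel.ι p ≫ ·) (hf i).symm).trans ?_)))).trans zero_comp.symm
      refine (Category.assoc _ _ _).symm.trans ((congrArg (· ≫ ψ i) ?_).trans zero_comp)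
      rw [← hpj, kernel.condition_assoc, zero_comp])
    exact ⟨kernel.lift (T.map p) _ hw ≫ (PreservesKernel.iso T p).inv,
      by rw [Category.assoc, PreservesKernel.iso_inv_ι, kernel.lift_ι]⟩
  obtain ⟨hdeg, hrk⟩ := GrothLib.Euler.degree_quotient ℂ (kernel.ι p) p (kernel.condition p)
    (GrothLib.Euler.kernel_shortExact p) hKc hEc hIc
  rw [GrothLib.Euler.grank_of_locFree hE, GrothLib.Euler.grank_of_locFree hI] at hrk
  have hI1 : Curv2.deg ℂ X I rI * (s : ℤ) ≤ Curv2.deg ℂ X F s * (rI : ℤ) := hFss I rI j hj hI0 hI hinvI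
  have hK1 : GrothLib.Euler.degree ℂ (kernel p) * (r : ℤ) ≤
      Curv2.deg ℂ X E r * (GrothLib.Euler.grank (kernel p) : ℤ) := by
    rcases Nat.eq_zero_or_pos (GrothLib.Euler.grank (kernel p)) with h | h
    · rw [GrothLib.Euler.degree_of_isZero ℂ (GrothLib.Euler.isZero_of_rank_zero (h ▸ hK)), h]; simp
    · rw [← GrothLib.Euler.deg_eq_degree ℂ hK]; exact hEss (kernel p) _ (kernel.ι p) inferInstance h hK hinvK
  rw [GrothLib.Euler.deg_eq_degree ℂ hI] at hI1
  rw [GrothLib.Euler.deg_eq_degree ℂ hE] at hK1 ⊢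
  generalize GrothLib.Euler.degree ℂ (kernel p) = dK at *
  generalize GrothLib.Euler.degree ℂ I = dI at *
  generalize GrothLib.Euler.degree ℂ E = dE at *
  generalize Curv2.deg ℂ X F s = dF at *
  generalize GrothLib.Euler.grank (kernel p) = rK at *
  have hrZ : (r : ℤ) = rK + rI := by exact_mod_cast (by omega : r = rK + rI)
  have h1 : dE * rI ≤ dI * r := by
    have : dE * r = dK * r + dI * r := by rw [hdeg, add_mul]
    have : dE * r = dE * rK + dE * rI := by rw [hrZ, mul_add]
    linarith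
  refine le_of_mul_le_mul_right ?_ (by exact_mod_cast hI0 : (0 : ℤ) < rI)
  calc dE * s * rI = dE * rI * s := by ring
    _ ≤ dI * r * s := mul_le_mul_of_nonneg_right h1 (by positivity)
    _ = dI * s * r := by ring
    _ ≤ dF * rI * r := mul_le_mul_of_nonneg_right hI1 (by positivity)
    _ = dF * r * rI := by ring

end Groth.Agent.S16002
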