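import Groth.Statements.S16003
import Groth.Agent.Lib.CurveMult.HiggsPair

set_option autoImplicit false
open CategoryTheory AlgebraicGeometry CategoryTheory.Limits
open VBCurve

namespace Groth.Agent.S16003

/-- Let X be a smooth proper integral curve over the complex numbers and L an invertible O_X-module; an
L-valued pair is a finite locally free O_X-module E of rank r ≥ 1 with a map φ : E → E ⊗ L; a
submodule j : G → E (a monomorphism) is φ-invariant when some χ : G → G ⊗ L followed by j ⊗ L equals
j followed by φ; the pair is semistable when deg G · r ≤ deg E · n for every φ-invariant finite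
locally free submodule G of rank n ≥ 1, degrees being χ − rank · χ(O_X). If (E, φ) is a semistable
pair and φ is not zero, then L has non-negative degree. (The published statement is for tuples of
finitely many commuting twisting maps; this is the assertion for the one map φ.) -/
theorem result
    (X : Scheme.{0}) [X.Over (Spec (CommRingCat.of ℂ))] [IsIntegral X]
    [IsProper (X ↘ Spec (CommRingCat.of ℂ))] [Smooth (X ↘ Spec (CommRingCat.of ℂ))]
    (hdim : topologicalKrullDim X = 1)
    (L : X.Modules) (hL : PicF.IsInvertible L)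
    (r : ℕ) (hr : 0 < r) (E : X.Modules) (hE : FlatMod.IsFinLocFreeOfRank r E)
    (φ : E ⟶ CohB1.tensorMod E L)
    (hss : (∀ (G : X.Modules) (n : ℕ) (j : G ⟶ E) (χ : G ⟶ CohB1.tensorMod G L), Mono j → 0 < n →
      FlatMod.IsFinLocFreeOfRank n G →
      χ ≫ (CohB1.sheafifyMod X).map (MonoidalCategoryStruct.whiskerRight (C := CohB1.PMod X) j.val (CohB1.toPMod L)) = j ≫ φ →
      Curv2.deg ℂ X G n * (r : ℤ) ≤ Curv2.deg ℂ X E r * (n : ℤ)))
    (hφ : φ ≠ 0) :
    0 ≤ Curv2.deg ℂ X L 1 := by
  haveI := GrothLib.Euler.isNoetherian_of_proper (X := X) ℂ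
  haveI := GrothLib.CurveRR.regCurve_of_smooth (X ↘ Spec (CommRingCat.of ℂ)) hdim
  by_contra hlt
  push Not at hlt
  have hsub := GrothLib.CurveMult.subLe_of_pair ℂ hL hlt.le hr hE φ hss
  refine hφ (GrothLib.Euler.hom_eq_zero_of_slope_lt ℂ GrothLib.CurveRR.pid_stalk hE
    (GrothLib.FinCov.isFinLocFree_of_rank (GrothLib.CurveMult.isFinLocFreeOfRank_tF hE hL)) hsub
    (fun G r' i hi hr' hG => ?_) φ)
  obtain ⟨G', i', hi', hG', hd⟩ := GrothLib.CurveMult.exists_untwist ℂ hL hG i hi
  have h := hsub G' r' i' hi' hr' hG'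
  rw [hd] at h
  have h1 : (r' : ℤ) * Curv2.deg ℂ X L 1 * r < 0 :=
    mul_neg_of_neg_of_pos (mul_neg_of_pos_of_neg (by exact_mod_cast hr') hlt) (by exact_mod_cast hr)
  linarith [h, h1]

end Groth.Agent.S16003
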