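import Groth.Statements.S16005
import Groth.Agent.Lib.CurveMult.HiggsSlope

set_option autoImplicit false
open CategoryTheory AlgebraicGeometry CategoryTheory.Limits
open VBCurve

namespace Groth.Agent.S16005

/-- Let X be a smooth proper integral curve over the complex numbers and L an invertible O_X-module; an
L-valued pair is a finite locally free O_X-module E of rank r ≥ 1 with a map φ : E → E ⊗ L; a
submodule j : G → E (a monomorphism) is φ-invariant when some χ : G → G ⊗ L followed by j ⊗ L equals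
j followed by φ; the pair is semistable when deg G · r ≤ deg E · n for every φ-invariant finite
locally free submodule G of rank n ≥ 1, degrees being χ − rank · χ(O_X). Let (E, φ) be a pair and ψ
: E → E an endomorphism commuting with φ (ψ followed by φ equals φ followed by ψ ⊗ L); a submodule
is ψ-invariant when ψ restricts to an endomorphism of it. Then (E, φ, ψ) is semistable, meaning deg
G · r ≤ deg E · n for every finite locally free submodule G of rank n ≥ 1 that is both φ-invariant
and ψ-invariant, if and only if the pair (E, φ) is semistable. (The published statement takes L to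
be the canonical sheaf; the row allows any invertible L.) -/
theorem result
    (X : Scheme.{0}) [X.Over (Spec (CommRingCat.of ℂ))] [IsIntegral X]
    [IsProper (X ↘ Spec (CommRingCat.of ℂ))] [Smooth (X ↘ Spec (CommRingCat.of ℂ))]
    (hdim : topologicalKrullDim X = 1)
    (L : X.Modules) (hL : PicF.IsInvertible L)
    (r : ℕ) (hr : 0 < r) (E : X.Modules) (hE : FlatMod.IsFinLocFreeOfRank r E)
    (φ : E ⟶ CohB1.tensorMod E L) (ψ : E ⟶ E)
    (hcomm : ψ ≫ φ = φ ≫ (CohB1.sheafifyMod X).map (MonoidalCategoryStruct.whiskerRight (C := CohB1.PMod X) ψ.val (CohB1.toPMod L))) :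
    (∀ (G : X.Modules) (n : ℕ) (j : G ⟶ E) (χ : G ⟶ CohB1.tensorMod G L) (ψ' : G ⟶ G), Mono j → 0 < n →
      FlatMod.IsFinLocFreeOfRank n G →
      χ ≫ (CohB1.sheafifyMod X).map (MonoidalCategoryStruct.whiskerRight (C := CohB1.PMod X) j.val (CohB1.toPMod L)) = j ≫ φ → ψ' ≫ j = j ≫ ψ →
      Curv2.deg ℂ X G n * (r : ℤ) ≤ Curv2.deg ℂ X E r * (n : ℤ)) ↔
    (∀ (G : X.Modules) (n : ℕ) (j : G ⟶ E) (χ : G ⟶ CohB1.tensorMod G L), Mono j → 0 < n →
      FlatMod.IsFinLocFreeOfRank n G →
      χ ≫ (CohB1.sheafifyMod X).map (MonoidalCategoryStruct.whiskerRight (C := CohB1.PMod X) j.val (CohB1.toPMod L)) = j ≫ φ →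
      Curv2.deg ℂ X G n * (r : ℤ) ≤ Curv2.deg ℂ X E r * (n : ℤ)) := by
  haveI := GrothLib.Euler.isNoetherian_of_proper (X := X) ℂ
  haveI := GrothLib.CurveRR.regCurve_of_smooth (X ↘ Spec (CommRingCat.of ℂ)) hdim
  refine ⟨fun hss => ?_, fun h G n j χ ψ' hj hn hG hχ _ => h G n j χ hj hn hG hχ⟩
  obtain ⟨P, n₁, i, hi, hn₁, hP, hinv, hle, hmaxr⟩ := GrothLib.CurveMult.exists_max_inv ℂ φ hr hE
  haveI := hi
  have hPc := GrothLib.Euler.isCoh_of_isFinLocFree (GrothLib.FinCov.isFinLocFree_of_rank hP)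
  have hgP := GrothLib.Euler.grank_of_locFree hP
  have hn₁Z : (0 : ℤ) < n₁ := by exact_mod_cast hn₁
  obtain ⟨hC, -, -⟩ := GrothLib.CurveMult.isFinLocFreeOfRank_cokernel_of_inv_max ℂ hL hE i hPc hinv
    fun P' i' hi' hP' hinv' => by
      have h := hle P' _ i' hi' hP' hinv'
      rw [hgP] at h
      exact le_of_mul_le_mul_right h hn₁Z
  obtain ⟨φC, hφC⟩ := GrothLib.CurveMult.exists_quotient_pair ℂ hL hinv
  have hinv0 := hinv
  obtain ⟨χ, hχ⟩ := hinv
  -- the endomorphism preserves the maximal invariant submodule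
  have hzero : i ≫ ψ ≫ cokernel.π i = 0 := by
    let f := i ≫ ψ ≫ cokernel.π i
    have hf : f ≫ φC = χ ≫ (GrothLib.Euler.tF L).map f := by
      show (i ≫ ψ ≫ cokernel.π i) ≫ φC = χ ≫ (GrothLib.Euler.tF L).map (i ≫ ψ ≫ cokernel.π i)
      rw [(GrothLib.Euler.tF L).map_comp, (GrothLib.Euler.tF L).map_comp, ← Category.assoc χ, hχ,
        Category.assoc, Category.assoc, Category.assoc, hφC]
      exact congrArg (fun g => i ≫ g) ((Category.assoc _ _ _).symm.trans
        ((congrArg (· ≫ (GrothLib.Euler.tF L).map (cokernel.π i)) hcomm).trans (Category.assoc _ _ _)))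
    obtain ⟨hK, hKinv, hI, hIinv, hd, hg⟩ := GrothLib.CurveMult.exists_image_inv ℂ hL
      (GrothLib.FinCov.isFinLocFree_of_rank hP) (GrothLib.FinCov.isFinLocFree_of_rank hC) f hf
    rw [hgP] at hg
    refine (show f = 0 from ?_)
    rcases Nat.eq_zero_or_pos (GrothLib.Euler.grank (Abelian.image f)) with h0 | hpos
    · rw [h0] at hI
      rw [← Abelian.image.fac f, (GrothLib.Euler.isZero_of_rank_zero hI).eq_of_tgt (Abelian.factorThruImage f) 0,
        zero_comp]
    · exfalso
      obtain ⟨P', i', hi', hP', hinv', hd'⟩ := GrothLib.CurveMult.exists_preimage_inv ℂ hL i hPc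
        (GrothLib.FinCov.isFinLocFree_of_rank hE) φC hφC (Abelian.image.ι f)
        (GrothLib.Euler.isCoh_of_isFinLocFree (GrothLib.FinCov.isFinLocFree_of_rank hI)) hIinv
      have hKle := hle _ _ (kernel.ι f ≫ i) (mono_comp _ _) hK (GrothLib.CurveMult.inv_comp hχ hKinv)
      have hPle := hle P' _ i' hi' hP' hinv'
      rw [hgP] at hP' hPle
      rw [hd'] at hPle
      have hg' : (n₁ : ℤ) = GrothLib.Euler.grank (kernel f) + GrothLib.Euler.grank (Abelian.image f) := by
        exact_mod_cast hg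
      have hIge : GrothLib.Euler.degree ℂ P * (GrothLib.Euler.grank (Abelian.image f) : ℤ) ≤
          GrothLib.Euler.degree ℂ (Abelian.image f) * (n₁ : ℤ) := by
        have h1 : GrothLib.Euler.degree ℂ P * (n₁ : ℤ) = GrothLib.Euler.degree ℂ (kernel f) * n₁ +
            GrothLib.Euler.degree ℂ (Abelian.image f) * n₁ := by rw [hd, add_mul]
        have h2 : GrothLib.Euler.degree ℂ P * (n₁ : ℤ) = GrothLib.Euler.degree ℂ P * GrothLib.Euler.grank (kernel f) +
            GrothLib.Euler.degree ℂ P * GrothLib.Euler.grank (Abelian.image f) := by rw [hg', mul_add]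
        linarith
      have := hmaxr P' _ i' hi' (by omega) hP' hinv' (by
        rw [hd']; push_cast at hPle ⊢
        rw [add_mul, mul_add] at hPle ⊢
        linarith)
      omega
  obtain ⟨ψ', hψ'⟩ := KernelFork.IsLimit.lift' (GrothLib.Euler.cokernel_shortExact i).fIsKernel (i ≫ ψ)
    (by rw [Category.assoc]; exact hzero)
  have h1 := hss P n₁ i χ ψ' hi hn₁ hP hχ hψ'
  rw [GrothLib.Euler.deg_eq_degree ℂ hP] at h1
  intro G n j χ' hj hn hG hχ'
  have h2 := hle G n j hj hG ⟨χ', hχ'⟩
  rw [GrothLib.Euler.deg_eq_degree ℂ hG]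
  refine le_of_mul_le_mul_right ?_ hn₁Z
  calc GrothLib.Euler.degree ℂ G * r * n₁ = GrothLib.Euler.degree ℂ G * n₁ * r := by ring
    _ ≤ GrothLib.Euler.degree ℂ P * n * r := mul_le_mul_of_nonneg_right h2 (Int.natCast_nonneg _)
    _ = GrothLib.Euler.degree ℂ P * r * n := by ring
    _ ≤ Curv2.deg ℂ X E r * n₁ * n := mul_le_mul_of_nonneg_right h1 (Int.natCast_nonneg _)
    _ = Curv2.deg ℂ X E r * n * n₁ := by ring

end Groth.Agent.S16005
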