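import Groth.Statements.S16006
import Groth.Agent.Lib.CurveMult.HiggsPair
import Groth.Agent.Lib.CurveMult.SimpleRankTwo

set_option autoImplicit false
open CategoryTheory AlgebraicGeometry CategoryTheory.Limits
open VBCurve

namespace Groth.Agent.S16006

/-- Let X be a smooth proper integral curve of genus 1 over the complex numbers (genus = dim H¹(O_X))
and L an invertible O_X-module of degree 0 such that L ⊗ L is not isomorphic to O_X; an L-valued
pair is a finite locally free O_X-module E of rank r ≥ 1 with a map φ : E → E ⊗ L; a submodule j : G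
→ E (a monomorphism) is φ-invariant when some χ : G → G ⊗ L followed by j ⊗ L equals j followed by
φ; the pair is semistable when deg G · r ≤ deg E · n for every φ-invariant finite locally free
submodule G of rank n ≥ 1, degrees being χ − rank · χ(O_X), and it is stable when deg G · r < deg E
· n for every φ-invariant finite locally free submodule G of rank n with 1 ≤ n < r. If (E, φ) is a
stable pair of rank 2, then E is slope-stable as a module of rank 2: deg G · 2 < deg E · n for every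
finite locally free submodule G of rank n with 1 ≤ n < 2, φ-invariant or not. (The published
statement assumes only that L is not isomorphic to O_X. For L of order two and E = O_X ⊕ L, the
isomorphism φ : E → E ⊗ L = (O_X ⊗ L) ⊕ (L ⊗ L) that maps the summand O_X of E onto the summand L ⊗
L ≅ O_X and the summand L onto O_X ⊗ L ≅ L leaves no rank-one submodule of degree 0 invariant, so
(E, φ) is a stable pair while E is not stable; the published argument derives L ⊗ L ≅ O_X in the
split case, so the row assumes L ⊗ L ≄ O_X.) -/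
theorem result
    (X : Scheme.{0}) [X.Over (Spec (CommRingCat.of ℂ))] [IsIntegral X]
    [IsProper (X ↘ Spec (CommRingCat.of ℂ))] [Smooth (X ↘ Spec (CommRingCat.of ℂ))]
    (hdim : topologicalKrullDim X = 1)
    (hg : Curv2.genus ℂ X = 1)
    (L : X.Modules) (hL : PicF.IsInvertible L) (hL0 : Curv2.deg ℂ X L 1 = 0)
    (hL2 : ¬ Nonempty (CohB1.tensorMod L L ≅ Coh.structureModule X))
    (E : X.Modules) (hE : FlatMod.IsFinLocFreeOfRank 2 E)
    (φ : E ⟶ CohB1.tensorMod E L)
    (hst : (∀ (G : X.Modules) (n : ℕ) (j : G ⟶ E) (χ : G ⟶ CohB1.tensorMod G L), Mono j → 0 < n → n < 2 →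
      FlatMod.IsFinLocFreeOfRank n G →
      χ ≫ (CohB1.sheafifyMod X).map (MonoidalCategoryStruct.whiskerRight (C := CohB1.PMod X) j.val (CohB1.toPMod L)) = j ≫ φ →
      Curv2.deg ℂ X G n * (2 : ℤ) < Curv2.deg ℂ X E 2 * (n : ℤ))) :
    ∀ (G : X.Modules) (n : ℕ) (j : G ⟶ E), Mono j → 0 < n → n < 2 → FlatMod.IsFinLocFreeOfRank n G →
      Curv2.deg ℂ X G n * (2 : ℤ) < Curv2.deg ℂ X E 2 * (n : ℤ) := by
  haveI := GrothLib.Euler.isNoetherian_of_proper (X := X) ℂ
  haveI := GrothLib.CurveRR.regCurve_of_smooth (X ↘ Spec (CommRingCat.of ℂ)) hdim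
  have hpid : ∀ x : X, IsPrincipalIdealRing (X.presheaf.stalk x) := GrothLib.CurveRR.pid_stalk
  have hEc := GrothLib.Euler.isCoh_of_isFinLocFree (GrothLib.FinCov.isFinLocFree_of_rank hE)
  intro G n j hj hn hn2 hG
  haveI := hj
  obtain rfl : n = 1 := by omega
  have hG' := GrothLib.CurveMult.isInvertible_of_rank_one hG
  obtain ⟨l, ⟨L₀, ι, hL₀, hι, hl⟩, hmax⟩ := Int.exists_greatest_of_bdd
    (P := fun n => ∃ (A : X.Modules) (ι : A ⟶ E), PicF.IsInvertible A ∧ Mono ι ∧ Curv2.deg ℂ X A 1 = n)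
    ⟨(Module.finrank ℂ (Coh.HH X E 0) : ℤ) + (1 : ℕ) * ((Curv2.genus ℂ X : ℤ) - 1), fun n ⟨A, ι, hA, hι, e⟩ => e ▸
      (haveI := hι; GrothLib.Euler.deg_le_of_sub ℂ hdim.le ι
        (GrothLib.Euler.isFinLocFreeOfRank_one_of_invertible hA) hEc)⟩ ⟨_, G, j, hG', hj, rfl⟩
  have hGl : Curv2.deg ℂ X G 1 ≤ l := hmax _ ⟨G, j, hG', hj, rfl⟩
  haveI := hι
  have hQ := GrothLib.CurveMult.isInvertible_cokernel_of_max ℂ hdim.le hpid hL₀ hE ι
    fun P' i' hi' hP' => hl.symm ▸ hmax _ ⟨P', i', hP', hi', rfl⟩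
  have hS := GrothLib.Euler.cokernel_shortExact ι
  have hL1 := GrothLib.Euler.isFinLocFreeOfRank_one_of_invertible hL₀
  have hQ1 := GrothLib.Euler.isFinLocFreeOfRank_one_of_invertible hQ
  obtain ⟨hsum, -⟩ := GrothLib.Euler.degree_quotient ℂ _ _ _ hS (GrothLib.Euler.isCoh_of_isInvertible hL₀) hEc
    (GrothLib.Euler.isCoh_of_isInvertible hQ)
  rw [← GrothLib.Euler.deg_eq_degree ℂ hE, ← GrothLib.Euler.deg_eq_degree ℂ hL1,
    ← GrothLib.Euler.deg_eq_degree ℂ hQ1, hl] at hsum
  by_contra hcon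
  push_cast at hcon
  have hbig : Curv2.deg ℂ X E 2 ≤ 2 * l := by omega
  obtain ⟨hle, heq⟩ : Curv2.deg ℂ X L₀ 1 ≤ Curv2.deg ℂ X (cokernel ι) 1 + Curv2.deg ℂ X L 1 ∧
      (Curv2.deg ℂ X L₀ 1 = Curv2.deg ℂ X (cokernel ι) 1 + Curv2.deg ℂ X L 1 →
        Nonempty (L₀ ≅ (GrothLib.Euler.tF L).obj (cokernel ι))) := by
    rcases GrothLib.CurveMult.twisted_map_dichotomy ℂ hL hL₀ hQ ι (cokernel.π ι) (cokernel.condition ι) hS φ with
      ⟨χ, hχ⟩ | h
    · have h1 := hst L₀ 1 ι χ hι one_pos one_lt_two hL1 hχ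
      push_cast at h1
      omega
    · exact h
  obtain ⟨e⟩ := heq (by omega)
  have hcontra : ∀ N : X.Modules, Nonempty (N ≅ Coh.structureModule X) → CohB1.tensorMod N N = CohB1.tensorMod L L → False :=
    fun N ⟨t⟩ h => hL2 ⟨eqToIso h.symm ≪≫ (GrothLib.Euler.tF N).mapIso t ≪≫
      GrothLib.OX.tensorUnitLeftIso N ≪≫ t⟩
  by_cases hsp : IsSplitEpi (cokernel.π ι)
  · haveI := hsp
    let sp := ShortComplex.Splitting.ofExactOfSection _ hS.exact (section_ (cokernel.π ι)) (IsSplitEpi.id _) hι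
    haveI hsm : Mono (section_ (cokernel.π ι)) := inferInstance
    have hS' : (ShortComplex.mk sp.s sp.r sp.s_r).ShortExact :=
      ShortComplex.Splitting.shortExact
        { r := cokernel.π ι, s := ι, f_r := sp.s_g, s_g := sp.f_r, id := (add_comm _ _).trans sp.id }
    rcases GrothLib.CurveMult.twisted_map_dichotomy ℂ hL hQ hL₀ sp.s sp.r sp.s_r hS' φ with ⟨χ, hχ⟩ | ⟨-, heq'⟩
    · have h1 := hst (cokernel ι) 1 sp.s χ hS'.mono_f one_pos one_lt_two hQ1 hχ
      push_cast at h1
      omega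
    · obtain ⟨e'⟩ := heq' (by omega)
      -- the square of the twist fixes the quotient
      let eLL : (GrothLib.Euler.tF (CohB1.tensorMod L L)).obj (cokernel ι) ≅ cokernel ι :=
        (((GrothLib.OX.tensorAssocNatIso.app (cokernel ι)).app L).app L).symm ≪≫
          (GrothLib.Euler.tF L).mapIso e.symm ≪≫ e'.symm
      exact hL2 (GrothLib.CurveMult.nonempty_iso_structure_of_twist ℂ hQ eLL)
  · obtain ⟨t⟩ := GrothLib.CurveMult.nonempty_iso_of_nonsplit ℂ hg hS hL₀ hQ hsp
      (by show Curv2.deg ℂ X (cokernel ι) 1 ≤ Curv2.deg ℂ X L₀ 1; omega)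
    exact hcontra L (GrothLib.CurveMult.nonempty_iso_structure_of_twist ℂ hQ (e.symm ≪≫ t)) rfl

end Groth.Agent.S16006
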