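import Groth.Statements.S16008
import Groth.Agent.Lib.WeilFin11.Semistable
import Groth.Agent.Lib.CurveRR.Tensor
import Groth.Agent.Lib.CurveRR.Stable
import Groth.Agent.Lib.CurveRR.Setup
import Groth.Agent.Lib.CurveRR.Main
import Groth.Agent.S7637

set_option autoImplicit false
open CategoryTheory AlgebraicGeometry CategoryTheory.Limits
open VBCurve

namespace Groth.Agent.S16008

set_option backward.isDefEq.respectTransparency false


/-- Let X be a smooth proper integral curve over the complex numbers, of genus g = dim H¹(O_X), E a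
finite locally free O_X-module of rank r ≥ 1 and C an integer such that every finite locally free
submodule G of E of rank n ≥ 1 satisfies deg G · r ≤ (deg E + r·C) · n, that is, μ(G) ≤ μ(E) + C
(degrees being χ − rank · χ(O_X)). Then H¹(X, E ⊗ N) vanishes for every invertible module N with deg
E + r · deg N > r(r − 1)·C + r(2g − 2), that is, whenever μ(E) + deg N > (r − 1)C + 2g − 2. (Only
the degree of the twisting line bundle enters, so any invertible N replaces the twist O_X(m). The
published argument, written for the twists E(m) by a degree-one polarisation, prints the threshold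
as m ≥ μ(E) + (r − 1)C + 2g − 1; for E = O(−1) on the projective line and m = −2 that threshold is
met while H¹(O(−3)) ≠ 0. The degree count in the argument gives the threshold −μ(E) + (r − 1)C + 2g
− 2 < m stated here.) -/
theorem result
    (X : Scheme.{0}) [X.Over (Spec (CommRingCat.of ℂ))] [IsIntegral X]
    [IsProper (X ↘ Spec (CommRingCat.of ℂ))] [Smooth (X ↘ Spec (CommRingCat.of ℂ))]
    (hdim : topologicalKrullDim X = 1)
    (r : ℕ) (hr : 0 < r) (E : X.Modules) (hE : FlatMod.IsFinLocFreeOfRank r E) (C : ℤ)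
    (hC : ∀ (G : X.Modules) (n : ℕ) (j : G ⟶ E), Mono j → 0 < n → FlatMod.IsFinLocFreeOfRank n G →
      Curv2.deg ℂ X G n * (r : ℤ) ≤ (Curv2.deg ℂ X E r + (r : ℤ) * C) * (n : ℤ))
    (N : X.Modules) (hN : PicF.IsInvertible N)
    (hbig : (r : ℤ) * ((r : ℤ) - 1) * C + (r : ℤ) * (2 * (Curv2.genus ℂ X : ℤ) - 2) <
      Curv2.deg ℂ X E r + (r : ℤ) * Curv2.deg ℂ X N 1) :
    Subsingleton (Coh.HH X (CohB1.tensorMod E N) 1) := by
  classical
  haveI := GrothLib.CurveRR.regCurve_of_smooth (X ↘ Spec (CommRingCat.of ℂ)) hdim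
  have h0 := GrothLib.CurveRR.finrank_H0_structure_eq_one ℂ (X := X)
  obtain ⟨D, ⟨eD⟩⟩ := GrothLib.CurveRR.exists_iso_oD (k := ℂ) hN
  have hN1 := GrothLib.Euler.isFinLocFreeOfRank_one_of_invertible hN
  let N' := GrothLib.CurveRR.oD ℂ (-D)
  have hN' := GrothLib.Euler.isFinLocFreeOfRank_one_of_invertible (GrothLib.CurveRR.isInvertible_oD ℂ (-D))
  have hdN : Curv2.deg ℂ X N 1 = D.deg := by rw [GrothLib.Euler.deg_of_iso ℂ eD, GrothLib.CurveRR.deg_oD]
  have hM := GrothLib.WeilFin11.isFinLocFreeOfRank_tensor hE hN1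
  have hdM := Groth.Agent.S7637.result ℂ X hdim.le r 1 E N hE hN1
  rw [GrothLib.Euler.deg_eq_degree ℂ hM] at hdM
  refine GrothLib.CurveRR.H1_subsingleton_of_slope ℂ h0 hM fun K rK a ha hrk hK => ?_
  rw [hdM]
  rcases Nat.eq_zero_or_pos rK with h | h
  · subst h
    obtain rfl : r = 1 := by omega
    rw [GrothLib.Euler.degree_of_isZero ℂ (GrothLib.Euler.isZero_of_rank_zero hK)]
    push_cast at hbig ⊢
    linarith
  · haveI := ha
    let L := (DCoh.tensorBi (X := X)).flip.obj N'
    have : L.Additive := Functor.additive_of_iso ((GrothLib.OX.tensorBraiding (X := X)).app N').symm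
    obtain ⟨_, -⟩ : PreservesFiniteLimits L ∧ PreservesFiniteColimits L :=
      (L.exact_tfae.out 0 3).1 fun S hS => GrothLib.OX.tensor_map_shortExact
        (GrothLib.OX.flat_of_isFinLocFree (GrothLib.FinCov.isFinLocFree_of_rank hN')) hS
    haveI : Mono (L.map a) := inferInstance
    obtain ⟨eNN⟩ := GrothLib.CurveRR.nonempty_tensor_iso ℂ eD (Iso.refl N')
    obtain ⟨e0⟩ := GrothLib.CurveRR.nonempty_iso_oD_zero (k := ℂ) (X := X)
    let g : CohB1.tensorMod K N' ⟶ E := L.map a ≫ (GrothLib.OX.tensorAssoc E N N').hom ≫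
      (((DCoh.tensorBi (X := X)).obj E).mapIso (eNN ≪≫
        eqToIso (congrArg (GrothLib.CurveRR.oD ℂ) (add_neg_cancel D)) ≪≫ e0.symm)).hom ≫
      (GrothLib.Euler.tFUnitIso E).hom
    haveI : Mono g := inferInstance
    have h1 := hC _ (rK * 1) g inferInstance (by omega) (GrothLib.WeilFin11.isFinLocFreeOfRank_tensor hK hN')
    have h2 := Groth.Agent.S7637.result ℂ X hdim.le rK 1 K N' hK hN'
    rw [h2, GrothLib.CurveRR.deg_oD, GrothLib.FunFld.deg_neg, GrothLib.Euler.deg_eq_degree ℂ hK] at h1
    rw [hdN] at hbig ⊢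
    have e : (rK : ℤ) = r - 1 := by omega
    push_cast at h1 hbig ⊢
    rw [e] at h1
    nlinarith

end Groth.Agent.S16008
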