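import Groth.Statements.S1601
import Groth.Agent.Lib.QuadSq.Basic

set_option autoImplicit false
universe u
open Resolve

namespace Groth.Agent.S1601

/-- Let κ be a field and I an ideal of κ[x, y] whose colength is greater than one (the quotient is not
of dimension at most one over κ). If a nonzero polynomial a + bx + cy + dx^2 + exy + fy^2 lies in
I^2, then it equals j (g + hx + iy)^2 for some scalars j, g, h, i. -/
theorem result (κ : Type u) [Field κ] (I : Ideal (MvPolynomial (Fin 2) κ))
    (hI : ¬ (Module.Finite κ (MvPolynomial (Fin 2) κ ⧸ I) ∧ Module.finrank κ (MvPolynomial (Fin 2) κ ⧸ I) ≤ 1))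
    (a b c d e f : κ) (hne : (a, b, c, d, e, f) ≠ (0, 0, 0, 0, 0, 0))
    (hmem : (MvPolynomial.C a + MvPolynomial.C b * MvPolynomial.X 0 + MvPolynomial.C c * MvPolynomial.X 1 +
      MvPolynomial.C d * MvPolynomial.X 0 ^ 2 + MvPolynomial.C e * MvPolynomial.X 0 * MvPolynomial.X 1 +
      MvPolynomial.C f * MvPolynomial.X 1 ^ 2 : MvPolynomial (Fin 2) κ) ∈ I ^ 2) :
    ∃ j g h i : κ, (MvPolynomial.C a + MvPolynomial.C b * MvPolynomial.X 0 + MvPolynomial.C c * MvPolynomial.X 1 +
      MvPolynomial.C d * MvPolynomial.X 0 ^ 2 + MvPolynomial.C e * MvPolynomial.X 0 * MvPolynomial.X 1 +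
      MvPolynomial.C f * MvPolynomial.X 1 ^ 2 : MvPolynomial (Fin 2) κ) =
      MvPolynomial.C j * (MvPolynomial.C g + MvPolynomial.C h * MvPolynomial.X 0 + MvPolynomial.C i * MvPolynomial.X 1) ^ 2 := by
  classical
  suffices h : ∃ j g h i : κ, a = j * g ^ 2 ∧ b = 2 * j * g * h ∧ c = 2 * j * g * i ∧ d = j * h ^ 2 ∧
      e = 2 * j * h * i ∧ f = j * i ^ 2 by
    obtain ⟨j, g, h, i, rfl, rfl, rfl, rfl, rfl, rfl⟩ := h
    refine ⟨j, g, h, i, ?_⟩
    simp only [map_mul, map_pow, map_ofNat]
    ring
  have m1 : MvPolynomial.C b + MvPolynomial.C (2 * d) * MvPolynomial.X 0 + MvPolynomial.C e * MvPolynomial.X 1 ∈ I := by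
    convert GrothLib.QuadSq.derivation_mem I (MvPolynomial.pderiv (0 : Fin 2)) hmem using 1
    simp [map_ofNat MvPolynomial.C]
    ring
  have m2 : MvPolynomial.C c + MvPolynomial.C e * MvPolynomial.X 0 + MvPolynomial.C (2 * f) * MvPolynomial.X 1 ∈ I := by
    convert GrothLib.QuadSq.derivation_mem I (MvPolynomial.pderiv (1 : Fin 2)) hmem using 1
    simp [map_ofNat MvPolynomial.C]
    ring
  have m0 : MvPolynomial.C (2 * a) + MvPolynomial.C b * MvPolynomial.X 0 + MvPolynomial.C c * MvPolynomial.X 1 ∈ I := by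
    convert sub_mem (sub_mem (I.mul_mem_left 2 (Ideal.pow_le_self two_ne_zero hmem))
      (I.mul_mem_left (MvPolynomial.X 0) m1)) (I.mul_mem_left (MvPolynomial.X 1) m2) using 1
    simp only [map_mul, map_ofNat]
    ring
  obtain ⟨e01a, e01b, e01c⟩ := GrothLib.QuadSq.minors I hI m0 m1
  obtain ⟨e02a, e02b, e02c⟩ := GrothLib.QuadSq.minors I hI m0 m2
  obtain ⟨e12a, e12b, e12c⟩ := GrothLib.QuadSq.minors I hI m1 m2
  by_cases h2 : (2 : κ) = 0
  · haveI : CharP κ 2 := (CharP.charP_iff_prime_eq_zero Nat.prime_two).2 (by exact_mod_cast h2)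
    have hb : b = 0 := (pow_eq_zero_iff two_ne_zero).1 (by linear_combination -e01a + (2 * a * d) * h2)
    have hc : c = 0 := (pow_eq_zero_iff two_ne_zero).1 (by linear_combination -e02b + (2 * a * f) * h2)
    have he : e = 0 := (pow_eq_zero_iff two_ne_zero).1 (by linear_combination -e12c + (2 * d * f) * h2)
    subst hb hc he
    have hq : MvPolynomial.C a + MvPolynomial.C d * MvPolynomial.X 0 ^ 2 +
        MvPolynomial.C f * MvPolynomial.X 1 ^ 2 ∈ I ^ 2 := by simpa using hmem
    rcases eq_or_ne f 0 with rfl | hf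
    · rcases eq_or_ne d 0 with rfl | hd
      · have ha : a = 0 := (GrothLib.QuadSq.C_mem_iff I hI).1 (by
          simpa using Ideal.pow_le_self two_ne_zero hq)
        subst ha
        exact absurd rfl hne
      · have hq' : MvPolynomial.C (a / d) + MvPolynomial.C 1 * MvPolynomial.X 0 ^ 2 +
            MvPolynomial.C 0 * MvPolynomial.X 1 ^ 2 ∈ I ^ 2 := by
          convert (I ^ 2).mul_mem_left (MvPolynomial.C d⁻¹) hq using 1
          rw [mul_add, mul_add, ← mul_assoc, ← mul_assoc, ← map_mul, ← map_mul, ← map_mul,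
            inv_mul_cancel₀ hd, mul_zero, div_eq_inv_mul]
        obtain ⟨g, hg⟩ : ∃ g, g ^ 2 = a / d := by
          by_contra hne'
          push Not at hne'
          obtain ⟨D, hD⟩ := GrothLib.QuadSq.exists_derivation_eq_one _ hne'
          have := GrothLib.QuadSq.coeffDer_mem I D _ _ _ hq'
          rw [hD, D.map_one_eq_zero, map_zero D] at this
          exact one_ne_zero ((GrothLib.QuadSq.C_mem_iff I hI).1 (by simpa using this))
        refine ⟨d, g, 1, 0, ?_, by simp [h2], by simp, by simp, by simp, by simp⟩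
        rw [hg, mul_div_cancel₀ _ hd]
    · have hq' : MvPolynomial.C (a / f) + MvPolynomial.C (d / f) * MvPolynomial.X 0 ^ 2 +
          MvPolynomial.X 1 ^ 2 ∈ I ^ 2 := by
        convert (I ^ 2).mul_mem_left (MvPolynomial.C f⁻¹) hq using 1
        rw [mul_add, mul_add, ← mul_assoc, ← mul_assoc, ← map_mul, ← map_mul, ← map_mul,
          inv_mul_cancel₀ hf, map_one, one_mul, div_eq_inv_mul, div_eq_inv_mul]
      obtain ⟨⟨g, hg⟩, ⟨h, hh⟩⟩ := GrothLib.QuadSq.isSquare_of_mem I hI _ _ hq'
      refine ⟨f, g, h, 1, ?_, by simp [h2], by simp [h2], ?_, by simp [h2], by simp⟩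
      · rw [hg, mul_div_cancel₀ _ hf]
      · rw [hh, mul_div_cancel₀ _ hf]
  · have h22 : (2 : κ) * 2 ≠ 0 := mul_ne_zero h2 h2
    rcases eq_or_ne a 0 with rfl | ha
    · have hb : b = 0 := (pow_eq_zero_iff two_ne_zero).1 (by linear_combination -e01a)
      have hc : c = 0 := (pow_eq_zero_iff two_ne_zero).1 (by linear_combination -e02b)
      subst hb hc
      rcases eq_or_ne d 0 with rfl | hd
      · have he : e = 0 := (pow_eq_zero_iff two_ne_zero).1 (by linear_combination -e12c)
        subst he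
        exact ⟨f, 0, 0, 1, by simp, by simp, by simp, by simp, by simp, by simp⟩
      · refine ⟨1 / (2 * 2 * d), 0, 2 * d, e, by simp, by simp, by simp, ?_, ?_, ?_⟩
        · field_simp
        · field_simp
        · field_simp
          linear_combination e12c
    · refine ⟨1 / (2 * 2 * a), 2 * a, b, c, ?_, ?_, ?_, ?_, ?_, ?_⟩
      · field_simp
      · field_simp
      · field_simp
      · field_simp
        linear_combination e01a
      · field_simp
        linear_combination e01b
      · field_simp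
        linear_combination e02b

end Groth.Agent.S1601
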