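import Groth.Statements.S16015
import Mathlib.RingTheory.Finiteness.Projective
import Mathlib.RingTheory.Ideal.Quotient.Operations

set_option autoImplicit false
universe u v w
open W4c3ghconstell

namespace Groth.Agent.S16015

open scoped TensorProduct


/-- Let B be a commutative ring, E a B-module, F a finitely generated projective B-module and β : E → F
a B-linear map. Then there is a unique ideal I of B such that for every commutative B-algebra C the
base change β_C : C ⊗ E → C ⊗ F is zero if and only if the structure map B → C kills I. (The
published statement is for a homomorphism of modules on a scheme T into a locally free module and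
produces a closed subscheme T₀ through which a morphism factors exactly when the pulled-back
homomorphism vanishes; this row is the case of an affine T with affine test schemes and F of finite
rank, to which it reduces.) -/
theorem result {B : Type u} [CommRing B]
    {E : Type v} [AddCommGroup E] [Module B E]
    {F : Type w} [AddCommGroup F] [Module B F] [Module.Finite B F] [Module.Projective B F]
    (β : E →ₗ[B] F) :
    ∃! I : Ideal B, ∀ (C : Type u) [CommRing C] [Algebra B C],
      LinearMap.baseChange C β = 0 ↔ I ≤ RingHom.ker (algebraMap B C) := by
  let I : Ideal B := Ideal.span {r | ∃ (φ : F →ₗ[B] B) (e : E), φ (β e) = r}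
  have hI : ∀ (C : Type u) [CommRing C] [Algebra B C],
      LinearMap.baseChange C β = 0 ↔ I ≤ RingHom.ker (algebraMap B C) := by
    intro C _ _
    constructor
    · intro h
      rw [Ideal.span_le]
      rintro _ ⟨φ, e, rfl⟩
      have h1 := congrArg (fun z => TensorProduct.rid B C (φ.lTensor C z))
        (LinearMap.congr_fun h ((1 : C) ⊗ₜ[B] e))
      simpa [RingHom.mem_ker, Algebra.smul_def] using h1
    · intro h
      obtain ⟨n, f, g, -, -, hfg⟩ := Module.Finite.exists_comp_eq_id_of_projective B F
      refine TensorProduct.AlgebraTensorModule.ext fun c e => ?_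
      have he : f (g (β e)) = β e := LinearMap.congr_fun hfg _
      rw [LinearMap.baseChange_tmul, LinearMap.zero_apply, ← he, pi_eq_sum_univ (g (β e)), map_sum,
        TensorProduct.tmul_sum]
      refine Finset.sum_eq_zero fun i _ => ?_
      have h0 : algebraMap B C (g (β e) i) = 0 :=
        h (Ideal.subset_span ⟨LinearMap.proj i ∘ₗ g, e, rfl⟩)
      rw [map_smul, TensorProduct.tmul_smul, TensorProduct.smul_tmul', Algebra.smul_def, h0, zero_mul,
        TensorProduct.zero_tmul]
  refine ⟨I, hI, fun J hJ => le_antisymm ?_ ?_⟩
  · have h := (hI (B ⧸ I)).2 (by rw [Ideal.Quotient.algebraMap_eq, Ideal.mk_ker])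
    have := (hJ (B ⧸ I)).1 h
    rwa [Ideal.Quotient.algebraMap_eq, Ideal.mk_ker] at this
  · have h := (hJ (B ⧸ J)).2 (by rw [Ideal.Quotient.algebraMap_eq, Ideal.mk_ker])
    have := (hI (B ⧸ J)).1 h
    rwa [Ideal.Quotient.algebraMap_eq, Ideal.mk_ker] at this

end Groth.Agent.S16015
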