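import Groth.Statements.S16016
import Mathlib.LinearAlgebra.Matrix.ToLin
import Mathlib.Data.Matrix.Block
import Mathlib.LinearAlgebra.Span.Basic

set_option autoImplicit false
universe u
open W4c3ghconstell

namespace Groth.Agent.S16016

/-- Let k be a field with 2 ≠ 0, index k⁶ by two copies of {0,1,2} (basis vectors p₁, p₂, p₃ in the
first copy and p₄, p₅, p₆ in the second), let Q be the symmetric matrix with blocks ((0, 1), (1,
0)), so that the form it defines pairs pᵢ with pᵢ₊₃, and let W₀ be the span of p₁ and p₂. Then a 6 ×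
6 matrix A satisfies AᵀQ + QA = 0 (A lies in the orthogonal Lie algebra of Q) and has the image of
Aᵀ contained in W₀ if and only if A = a · (E₄₂ − E₅₁) for some scalar a, where Eᵢⱼ is the matrix
unit. (The lemma in the source concludes that the set of such A inside a certain nilpotent orbit
closure of this Lie algebra is one-dimensional; this row is the computation its proof performs,
which determines all such A in the Lie algebra. Characteristic 2 is excluded: there E₁₄ᵀ also
qualifies.) -/
theorem result (k : Type u) [Field k] (h2 : (2 : k) ≠ 0)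
    (A : Matrix (Fin 3 ⊕ Fin 3) (Fin 3 ⊕ Fin 3) k) :
    (A.transpose * Matrix.fromBlocks (0 : Matrix (Fin 3) (Fin 3) k) 1 1 0 +
        Matrix.fromBlocks (0 : Matrix (Fin 3) (Fin 3) k) 1 1 0 * A = 0 ∧
      LinearMap.range (Matrix.mulVecLin A.transpose) ≤
        Submodule.span k {Pi.single (Sum.inl 0 : Fin 3 ⊕ Fin 3) (1 : k), Pi.single (Sum.inl 1 : Fin 3 ⊕ Fin 3) (1 : k)}) ↔
    ∃ a : k, A = a • (Matrix.single (Sum.inr 0) (Sum.inl 1) (1 : k) - Matrix.single (Sum.inr 1) (Sum.inl 0) (1 : k)) := by
  constructor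
  · rintro ⟨hQ, hR⟩
    have hz : ∀ i j, j ≠ Sum.inl 0 → j ≠ Sum.inl 1 → A i j = 0 := by
      intro i j h0 h1
      have hm : Matrix.mulVecLin A.transpose (Pi.single i 1) ∈ LinearMap.range (Matrix.mulVecLin A.transpose) :=
        LinearMap.mem_range_self _ _
      obtain ⟨a, b, hab⟩ := Submodule.mem_span_pair.1 (hR hm)
      have := congrFun hab j
      simpa [h0, h1, Matrix.mulVec_single_one] using this.symm
    have e : ∀ i j, (A.transpose * Matrix.fromBlocks (0 : Matrix (Fin 3) (Fin 3) k) 1 1 0 +
        Matrix.fromBlocks (0 : Matrix (Fin 3) (Fin 3) k) 1 1 0 * A : Matrix (Fin 3 ⊕ Fin 3) (Fin 3 ⊕ Fin 3) k) i j = 0 := fun i j => by rw [hQ]; rfl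
    have key : ∀ i j, A (Sum.swap j) i + A (Sum.swap i) j = 0 := by
      intro i j
      have := e i j
      rcases i with i | i <;> rcases j with j | j <;>
        simpa [Matrix.mul_apply, Fintype.sum_sum_type, Matrix.one_apply] using this
    have hP : ∀ (a : Fin 3) (j : Fin 3), A (Sum.inl a) (Sum.inl j) = 0 := by
      intro a j
      by_cases hj : (Sum.inl j : Fin 3 ⊕ Fin 3) ≠ Sum.inl 0 ∧ (Sum.inl j : Fin 3 ⊕ Fin 3) ≠ Sum.inl 1
      · exact hz _ _ hj.1 hj.2
      · have := key (Sum.inr a) (Sum.inl j)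
        rw [show A (Sum.swap (Sum.inl j)) (Sum.inr a) = 0 from hz _ _ (by simp) (by simp), zero_add] at this
        exact this
    have hs : ∀ a b : Fin 3, A (Sum.inr b) (Sum.inl a) + A (Sum.inr a) (Sum.inl b) = 0 := fun a b =>
      key (Sum.inl a) (Sum.inl b)
    have h00 : A (Sum.inr 0) (Sum.inl 0) = 0 := by
      have := hs 0 0
      rw [← two_mul] at this
      exact (mul_eq_zero.1 this).resolve_left h2
    have h11 : A (Sum.inr 1) (Sum.inl 1) = 0 := by
      have := hs 1 1
      rw [← two_mul] at this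
      exact (mul_eq_zero.1 this).resolve_left h2
    have h20 : A (Sum.inr 2) (Sum.inl 0) = 0 := by
      have := hs 0 2
      rwa [hz _ (Sum.inl 2) (by simp) (by simp), add_zero] at this
    have h21 : A (Sum.inr 2) (Sum.inl 1) = 0 := by
      have := hs 1 2
      rwa [hz _ (Sum.inl 2) (by simp) (by simp), add_zero] at this
    have h10 : A (Sum.inr 1) (Sum.inl 0) = - A (Sum.inr 0) (Sum.inl 1) :=
      eq_neg_of_add_eq_zero_left (hs 0 1)
    refine ⟨A (Sum.inr 0) (Sum.inl 1), ?_⟩
    ext i j
    rcases i with i | i <;> rcases j with j | j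
    · simp [hP, Matrix.single]
    · simp [hz _ (Sum.inr j) (by simp) (by simp), Matrix.single]
    · fin_cases i <;> fin_cases j <;>
        simp [h00, h11, h20, h21, h10, Matrix.single, hz _ (Sum.inl 2) (by simp) (by simp)]
    · simp [hz _ (Sum.inr j) (by simp) (by simp), Matrix.single]
  · rintro ⟨a, rfl⟩
    refine ⟨?_, ?_⟩
    · ext i j
      rcases i with i | i <;> rcases j with j | j <;> fin_cases i <;> fin_cases j <;>
        simp [Matrix.mul_apply, Fintype.sum_sum_type, Matrix.one_apply, Matrix.single, Fin.sum_univ_three]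
    · rintro _ ⟨v, rfl⟩
      refine Submodule.mem_span_pair.2 ⟨-(a * v (Sum.inr 1)), a * v (Sum.inr 0), ?_⟩
      ext j
      rcases j with j | j <;> fin_cases j <;>
        simp [Matrix.mulVec, Matrix.vecMul, dotProduct, Fintype.sum_sum_type, Matrix.single, Fin.sum_univ_three, Pi.single_apply, mul_comm]

end Groth.Agent.S16016
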