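import Groth.Statements.S16017
import Mathlib

set_option autoImplicit false
universe u
open W4c3ghconstell

namespace Groth.Agent.S16017

/-- Let ι index the irreducible representations, θ : ι → ℚ a weight negative at only finitely many
indices (the finite set D₋), h h' : ι → ℕ with h' ≤ h pointwise (the isotypic dimensions of an
object and of a sub-object) and Σ_i θ_i h_i summable. For a finite set D of indices put S_D = Σ_{i ∉
D} θ_i h_i, d = #(D ∖ D₋), and θ̃_D = Σ_{i ∈ D} θ_i h'_i + (S_D / d) · Σ_{i ∈ D ∖ D₋} h'_i / h_i,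
the modified weight attached to the parameters chosen for D (for D ⊇ D₋ the first sum is the
negative part plus the part over D ∖ D₋). Then θ̃_D tends to Σ_i θ_i h'_i as D grows through the
finite subsets of ι. (Here D runs over all finite sets of indices and a quotient by zero is zero;
the source lets D run over the finite subsets of the locus θ ≠ 0 containing D₋, and the same tail
estimate gives both.) -/
theorem result {ι : Type u} [DecidableEq ι] (θ : ι → ℚ) (h h' : ι → ℕ)
    (hle : ∀ i, h' i ≤ h i) (hfin : {i | θ i < 0}.Finite)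
    (hsum : Summable (fun i => (θ i : ℝ) * (h i : ℝ))) :
    Filter.Tendsto
      (fun D : Finset ι =>
        (∑ i ∈ D, (θ i : ℝ) * (h' i : ℝ)) +
          ((∑' i, if i ∈ D then (0 : ℝ) else (θ i : ℝ) * (h i : ℝ)) / ((D \ hfin.toFinset).card : ℝ)) *
            ∑ i ∈ D \ hfin.toFinset, ((h' i : ℝ) / (h i : ℝ)))
      Filter.atTop (nhds (∑' i, (θ i : ℝ) * (h' i : ℝ))) := by
  classical
  have hS' : Summable fun i => (θ i : ℝ) * (h' i : ℝ) := by
    refine Summable.of_norm_bounded hsum.abs fun i => ?_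
    rw [Real.norm_eq_abs, abs_mul, abs_mul, Nat.abs_cast, Nat.abs_cast]
    exact mul_le_mul_of_nonneg_left (Nat.cast_le.2 (hle i)) (abs_nonneg _)
  have htail : Filter.Tendsto (fun D : Finset ι => ∑' i, if i ∈ D then (0 : ℝ) else (θ i : ℝ) * (h i : ℝ))
      Filter.atTop (nhds 0) := by
    refine (tendsto_tsum_compl_atTop_zero (fun i => (θ i : ℝ) * (h i : ℝ))).congr fun D => ?_
    exact (tsum_subtype {i | i ∉ D} fun i => (θ i : ℝ) * (h i : ℝ)).trans
      (tsum_congr fun i => by by_cases hi : i ∈ D <;> simp [hi])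
  rw [← add_zero (∑' i, (θ i : ℝ) * (h' i : ℝ))]
  refine Filter.Tendsto.add hS'.hasSum (squeeze_zero_norm (fun D => ?_)
    (tendsto_zero_iff_norm_tendsto_zero.1 htail))
  rw [norm_mul, norm_div, div_mul_eq_mul_div, mul_div_assoc]
  refine mul_le_of_le_one_right (norm_nonneg _) ?_
  rw [Real.norm_of_nonneg (Finset.sum_nonneg fun i _ => div_nonneg (Nat.cast_nonneg _) (Nat.cast_nonneg _)),
    Real.norm_of_nonneg (Nat.cast_nonneg _)]
  refine div_le_one_of_le₀ ?_ (Nat.cast_nonneg _)
  calc ∑ i ∈ D \ hfin.toFinset, (h' i : ℝ) / (h i : ℝ) ≤ ∑ i ∈ D \ hfin.toFinset, (1 : ℝ) :=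
        Finset.sum_le_sum fun i _ => div_le_one_of_le₀ (Nat.cast_le.2 (hle i)) (Nat.cast_nonneg _)
    _ = _ := by simp

end Groth.Agent.S16017
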