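import Groth.Statements.S16024
import Groth.Agent.CechEdge25.More
-- import your own Groth.Agent.* helpers here

set_option autoImplicit false
universe u
open CategoryTheory CategoryTheory.Limits Opposite
open CechEdge

namespace Groth.Agent.S16024

open TopologicalSpace in
/-- When X is a topological space, the map in question is the identity of X, and the coefficients are
abelian sheaves, the comparison maps into cohomology respect refinement. Suppose F is an abelian
sheaf on X, and consider two open coverings Y, Y' of X, each presented as a family over the top open
and each equipped with an edge family, together with a refinement morphism from Y to Y'. Then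
composing the refinement map from the Cech cohomology of Y' to that of Y with the comparison map for
Y yields the comparison map for Y'. Whereas the published statement concerns a morphism of ringed
spaces and modules, this row covers only the identity map with integer coefficients. -/
theorem result {X : TopCat.{u}} {ι κ : Type u}
    (Y : ι → Over (⊤ : Opens X)) (Y' : κ → Over (⊤ : Opens X))
    (f : FormalCoproduct.mk ι Y ⟶ FormalCoproduct.mk κ Y')
    (e : ∀ (P : (Opens X)ᵒᵖ ⥤ AddCommGrpCat.{u}) (p : ℕ),
      CohCx.cechH P Y p →+ CohSite.HU (CechEdge.shf (Opens.grothendieckTopology X) P) p ⊤)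
    (e' : ∀ (P : (Opens X)ᵒᵖ ⥤ AddCommGrpCat.{u}) (p : ℕ),
      CohCx.cechH P Y' p →+ CohSite.HU (CechEdge.shf (Opens.grothendieckTopology X) P) p ⊤)
    (he : CechEdge.IsEdge (Opens.grothendieckTopology X) Y e)
    (he' : CechEdge.IsEdge (Opens.grothendieckTopology X) Y' e')
    (F : CohTop.Ab X) (p : ℕ) (x : CohCx.cechH F.obj Y' p) :
    CechEdge.edgeSh e F p ((HomologicalComplex.homologyMap (CohCx.cechRefine F.obj f) p).hom x) =
      CechEdge.edgeSh e' F p x := by
  have h := GrothLib.CechEdge25.edge_unique Y' (GrothLib.CechEdge25.isEdge_comp_refine f he'.cover he) he'
  conv_rhs => rw [← h]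
  rfl

end Groth.Agent.S16024
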