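import Groth.Statements.S16029
import Groth.Agent.Lib.DomHom13.Main
import Groth.Agent.Lib.Hopf.Sub
import Mathlib
-- import your own Groth.Agent.* helpers here

set_option autoImplicit false
universe u
open CategoryTheory CategoryTheory.Limits AlgebraicGeometry MonoidalCategory MonObj
open GrpSch

namespace Groth.Agent.S16029

/-- Over a field k, let G be a group scheme of finite type, G' an affine group scheme and u : G ⟶ G' a
homomorphism which is schematically dominant (its kernel ideal sheaf vanishes). Then u is faithfully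
flat and G' is of finite type over k. -/
theorem result
    (k : Type u) [Field k] (G G' : Over (Spec (CommRingCat.of k))) [GrpObj G] [GrpObj G']
    [LocallyOfFiniteType G.hom] [QuasiCompact G.hom] [IsAffine G'.left]
    (u : G ⟶ G') [IsMonHom u] (hdom : u.left.ker = ⊥) :
    Flat u.left ∧ Surjective u.left ∧ LocallyOfFiniteType G'.hom := by
  classical
  obtain ⟨A', ⟨e⟩⟩ := (essImage_hopfSpec (R := CommRingCat.of k) (G := Grp.mk G')).2 ‹_›
  obtain ⟨A, rfl⟩ : ∃ A, Opposite.op A = A' := ⟨A'.unop, rfl⟩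
  let PA : Over (Spec (CommRingCat.of k)) := (Spec (CommRingCat.of (A : Type u))).asOver (Spec (CommRingCat.of k))
  let f : PA ≅ G' := (Grp.forget _).mapIso e
  haveI : IsMonHom f.inv := e.inv.hom.isMonHom_hom
  let J := {B : Subalgebra k (A : Type u) // B.FG ∧ SGA3.IsHopfSubalgebra k (A : Type u) B}
  letI hopf : ∀ B : J, HopfAlgebra k ↥B.1 := fun B => GrothLib.Hopf.Sub.hopfAlgebra B.2.2
  haveI : Nonempty J := by
    obtain ⟨C, h1, h2, -⟩ := GrothLib.Hopf.Sub.exists_fg (k := k) (∅ : Finset (A : Type u))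
    exact ⟨⟨C, h1, h2⟩⟩
  let D : J → Over (Spec (CommRingCat.of k)) := fun B =>
    (Spec (CommRingCat.of ↥B.1)).asOver (Spec (CommRingCat.of k))
  let ρ : ∀ B : J, PA ⟶ D B := fun B => ((hopfSpec (CommRingCat.of k)).map (X := Opposite.op A)
    (Y := Opposite.op (CommHopfAlgCat.of k ↥B.1)) (CommHopfAlgCat.ofHom (GrothLib.Hopf.Sub.valHom B.2.2)).op).hom.hom
  haveI hρm : ∀ B, IsMonHom (ρ B) := fun B => ((hopfSpec (CommRingCat.of k)).map (X := Opposite.op A)
    (Y := Opposite.op (CommHopfAlgCat.of k ↥B.1)) (CommHopfAlgCat.ofHom (GrothLib.Hopf.Sub.valHom B.2.2)).op).hom.isMonHom_hom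
  have hρl : ∀ B : J, (ρ B).left = Spec.map (CommRingCat.ofHom (B.1.val : ↥B.1 →+* (A : Type u))) := fun B => rfl
  let coord : ∀ {T : Over (Spec (CommRingCat.of k))}, (T ⟶ PA) → ((A : Type u) →+* Γ(T.left, ⊤)) := fun {T} x =>
    ((Scheme.ΓSpecIso (CommRingCat.of (A : Type u))).inv ≫ x.left.appTop).hom
  have key : ∀ (T : Over (Spec (CommRingCat.of k))) (x y : T ⟶ PA) (B : J),
      x ≫ ρ B = y ≫ ρ B ↔ ∀ b ∈ B.1, coord x b = coord y b := by
    intro T x y B
    haveI : IsAffine (D B).left := inferInstanceAs (IsAffine (Spec (CommRingCat.of ↥B.1)))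
    have hcomp : ∀ z : T ⟶ PA, (Scheme.ΓSpecIso (CommRingCat.of ↥B.1)).inv ≫ (z ≫ ρ B).left.appTop =
        CommRingCat.ofHom (B.1.val : ↥B.1 →+* (A : Type u)) ≫ (Scheme.ΓSpecIso (CommRingCat.of (A : Type u))).inv ≫
          z.left.appTop := fun z => by
      refine CommRingCat.hom_ext (RingHom.ext fun b => ?_)
      show z.left.appTop.hom ((Spec.map (CommRingCat.ofHom (B.1.val : ↥B.1 →+* (A : Type u)))).appTop.hom
        ((Scheme.ΓSpecIso (CommRingCat.of ↥B.1)).inv.hom b)) =
          z.left.appTop.hom ((Scheme.ΓSpecIso (CommRingCat.of (A : Type u))).inv.hom (B.1.val b))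
      refine congrArg z.left.appTop.hom ?_
      exact (congrArg (fun m => m.hom b)
        (Scheme.ΓSpecIso_inv_naturality (CommRingCat.ofHom (B.1.val : ↥B.1 →+* (A : Type u))))).symm
    constructor
    · intro h b hb
      have h2 := congrArg (fun t => (Scheme.ΓSpecIso (CommRingCat.of ↥B.1)).inv ≫ t.left.appTop) h
      simp only [hcomp] at h2
      exact congrArg (fun t => t.hom (⟨b, hb⟩ : ↥B.1)) h2
    · intro h
      refine Over.OverMorphism.ext (ext_of_isAffine ?_)
      have h2 : (Scheme.ΓSpecIso (CommRingCat.of ↥B.1)).inv ≫ (x ≫ ρ B).left.appTop =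
          (Scheme.ΓSpecIso (CommRingCat.of ↥B.1)).inv ≫ (y ≫ ρ B).left.appTop := by
        rw [hcomp, hcomp]
        exact CommRingCat.hom_ext (RingHom.ext fun b => h b.1 b.2)
      exact (Iso.cancel_iso_inv_left (Scheme.ΓSpecIso (CommRingCat.of ↥B.1)) _ _).mp h2
  have kext : ∀ (T : Over (Spec (CommRingCat.of k))) (x y : T ⟶ PA), (∀ B, x ≫ ρ B = y ≫ ρ B) → x = y := by
    intro T x y h
    haveI : IsAffine PA.left := inferInstanceAs (IsAffine (Spec (CommRingCat.of (A : Type u))))
    refine Over.OverMorphism.ext (ext_of_isAffine ((Iso.cancel_iso_inv_left (Scheme.ΓSpecIso (CommRingCat.of (A : Type u))) _ _).mp ?_))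
    refine CommRingCat.hom_ext (RingHom.ext fun a => ?_)
    obtain ⟨C, h1, h2, h3⟩ := GrothLib.Hopf.Sub.exists_fg (k := k) ({a} : Finset (A : Type u))
    exact (key T x y ⟨C, h1, h2⟩).1 (h _) a (h3 (by simp))
  haveI : ∀ j, IsMonHom (f.inv ≫ ρ j) := fun j => inferInstance
  obtain ⟨hfl, hsu, hlft, -⟩ := GrothLib.DomHom13.flat_surjective_of_dominant D (fun B => by
      haveI : Algebra.FiniteType k ↥B.1 := ⟨(Subalgebra.fg_top B.1).mpr B.2.1⟩
      show LocallyOfFiniteType (Spec.map _)
      rw [HasRingHomProperty.Spec_iff (P := @LocallyOfFiniteType)]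
      exact RingHom.finiteType_algebraMap.mpr inferInstance)
    (fun B => f.inv ≫ ρ B) (fun B => inferInstance)
    (fun i j => by
      obtain ⟨s, hs⟩ := i.2.1
      obtain ⟨t, ht⟩ := j.2.1
      obtain ⟨C, h1, h2, h3⟩ := GrothLib.Hopf.Sub.exists_fg (k := k) (s ∪ t)
      have hiC : i.1 ≤ C := hs ▸ Algebra.adjoin_le fun x hx => h3 (by simp [show x ∈ s from hx])
      have hjC : j.1 ≤ C := ht ▸ Algebra.adjoin_le fun x hx => h3 (by simp [show x ∈ t from hx])
      refine ⟨⟨C, h1, h2⟩, fun T x hx => ?_⟩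
      have h1' : ∀ B, (x ≫ f.inv ≫ ρ B = 1) ↔ (x ≫ f.inv) ≫ ρ B = (1 : T ⟶ PA) ≫ ρ B := fun B => by
        rw [MonObj.one_comp, Category.assoc]
      rw [h1', key] at hx ⊢
      rw [h1', key]
      exact ⟨fun b hb => hx b (hiC hb), fun b hb => hx b (hjC hb)⟩)
    (fun T x y h => by
      have := kext T (x ≫ f.inv) (y ≫ f.inv) fun B => by rw [Category.assoc, Category.assoc]; exact h B
      exact (cancel_mono f.inv).mp this)
    (fun C p hpf hps hpq v t ht => by
      haveI := hpf; haveI := hps; haveI := hpq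
      have hkp : ∀ {T : Scheme.{u}} (a b : T ⟶ G.left), a ≫ p.left = b ≫ p.left → a ≫ v.left = b ≫ v.left := by
        intro T a b hab
        let T' : Over (Spec (CommRingCat.of k)) := Over.mk (a ≫ G.hom)
        let a' : T' ⟶ G := Over.homMk a rfl
        let b' : T' ⟶ G := Over.homMk b (by
          change b ≫ G.hom = a ≫ G.hom
          rw [← Over.w p, ← Category.assoc, ← hab, Category.assoc])
        have hab' : a' ≫ p = b' ≫ p := Over.OverMorphism.ext hab
        refine congrArg CommaMorphism.left (show a' ≫ v = b' ≫ v from (cancel_mono f.inv).mp (kext T' _ _ fun B => ?_))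
        have hB : p ≫ t B = v ≫ f.inv ≫ ρ B := ht B
        simp only [Category.assoc]
        rw [← hB, ← Category.assoc, hab', Category.assoc]
      let gE := EffectiveEpi.desc p.left v.left fun a b hab ↦ hkp a b hab
      have hfac : p.left ≫ gE = v.left := EffectiveEpi.fac _ _ _
      exact ⟨Over.homMk gE (by rw [← cancel_epi p.left, ← Category.assoc, hfac, Over.w, Over.w]),
        Over.OverMorphism.ext hfac⟩)
    u hdom
  exact ⟨hfl, hsu, hlft⟩

end Groth.Agent.S16029
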