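import Groth.Statements.S16030
import Mathlib.RingTheory.Spectrum.Prime.Topology

set_option autoImplicit false
universe u
open CAlg

namespace Groth.Agent.S16030

/-- For a finite set F of points of the spectrum of a commutative ring A and an open subset U containing
F, some basic open D(a) contains F and is contained in U. -/
theorem result
    (A : Type u) [CommRing A] (F : Set (PrimeSpectrum A)) (hF : F.Finite)
    (U : TopologicalSpace.Opens (PrimeSpectrum A)) (hFU : F ⊆ (U : Set (PrimeSpectrum A))) :
    ∃ a : A, F ⊆ (PrimeSpectrum.basicOpen a : Set (PrimeSpectrum A)) ∧ PrimeSpectrum.basicOpen a ≤ U := by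
  classical
  obtain ⟨t, ht⟩ := (PrimeSpectrum.isOpen_iff _).1 U.isOpen
  have hn : ¬ (Ideal.span t : Set A) ⊆ ⋃ p ∈ (hF.toFinset : Set (PrimeSpectrum A)), (p.asIdeal : Set A) := by
    intro hsub
    rcases hF.toFinset.eq_empty_or_nonempty with h0 | ⟨p0, -⟩
    · simp only [h0, Finset.coe_empty, Set.mem_empty_iff_false, Set.iUnion_of_empty,
        Set.iUnion_empty] at hsub
      exact hsub (Ideal.zero_mem _)
    · obtain ⟨p, hp, hle⟩ := (Ideal.subset_union_prime (f := PrimeSpectrum.asIdeal) p0 p0
        (fun p _ _ _ => p.2)).1 hsub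
      rw [Set.Finite.mem_toFinset] at hp
      have h1 : p ∈ PrimeSpectrum.zeroLocus t := fun x hx => hle (Ideal.subset_span hx)
      rw [← ht] at h1
      exact h1 (hFU hp)
  obtain ⟨a, ha, hap⟩ := Set.not_subset.1 hn
  refine ⟨a, fun p hp hmem => hap (Set.mem_biUnion (hF.mem_toFinset.2 hp) hmem), ?_⟩
  intro q hq
  by_contra hqU
  have h1 : q ∈ PrimeSpectrum.zeroLocus t := ht ▸ hqU
  exact hq (Ideal.span_le.2 h1 ha)

end Groth.Agent.S16030
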