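import Groth.Statements.S16037
import Groth.Agent.Lib.DomHom13.Main
-- import your own Groth.Agent.* helpers here

set_option autoImplicit false
universe u
open CategoryTheory CategoryTheory.Limits AlgebraicGeometry MonoidalCategory MonObj
open GrpSch

namespace Groth.Agent.S16037

/-- Over a field k, let G be a group scheme of finite type, G' a group scheme which is a cofiltered
limit of group schemes of finite type (limit cone of homomorphisms), and u : G ⟶ G' a quasi-compact
homomorphism which is schematically dominant. Then u is faithfully flat and G' is of finite type. -/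
theorem result
    (k : Type u) [Field k] (G : Over (Spec (CommRingCat.of k))) [GrpObj G]
    [LocallyOfFiniteType G.hom] [QuasiCompact G.hom]
    (J : Type u) [SmallCategory J] [IsCofiltered J] (D : J ⥤ Over (Spec (CommRingCat.of k)))
    [∀ j, GrpObj (D.obj j)] [∀ (j j' : J) (φ : j ⟶ j'), IsMonHom (D.map φ)]
    (hD : ∀ j, LocallyOfFiniteType (D.obj j).hom ∧ QuasiCompact (D.obj j).hom)
    (c : Cone D) (hc : IsLimit c) [GrpObj c.pt] [∀ j, IsMonHom (M := c.pt) (N := D.obj j) (c.π.app j)]
    (u : G ⟶ c.pt) [IsMonHom u] [QuasiCompact u.left] (hdom : u.left.ker = ⊥) :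
    Flat u.left ∧ Surjective u.left ∧ LocallyOfFiniteType c.pt.hom ∧ QuasiCompact c.pt.hom := by
  classical
  haveI : Nonempty J := IsCofiltered.nonempty
  refine GrothLib.DomHom13.flat_surjective_of_dominant (fun j => D.obj j) (fun j => (hD j).1)
    (fun j => c.π.app j) (fun j => inferInstance) (fun i j => ⟨IsCofiltered.min i j, fun T x hx => ⟨?_, ?_⟩⟩)
    (fun T x y h => hc.hom_ext h) (fun C p hpf hps hpq v t ht => ?_) u hdom
  · rw [← c.w (IsCofiltered.minToLeft i j), ← Category.assoc, hx, MonObj.one_comp]
  · rw [← c.w (IsCofiltered.minToRight i j), ← Category.assoc, hx, MonObj.one_comp]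
  · haveI := hpf; haveI := hps; haveI := hpq
    haveI : Epi p := Over.epi_of_epi_left _
    let cc : Cone D :=
      { pt := C
        π :=
          { app := fun j => t j
            naturality := fun i j f => by
              show 𝟙 _ ≫ t j = t i ≫ D.map f
              rw [Category.id_comp, ← cancel_epi p, reassoc_of% (ht i), ht j, c.w f] } }
    exact ⟨hc.lift cc, hc.hom_ext fun j => by rw [Category.assoc, hc.fac cc j]; exact ht j⟩

end Groth.Agent.S16037
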