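import Groth.Statements.S17804
import Groth.Agent.Lib.TorsLift2.Basic
import Groth.Agent.Lib.SubPre14.Basic
import Groth.Agent.Lib.GrpSchField.Points


set_option autoImplicit false
set_option linter.all false
set_option backward.isDefEq.respectTransparency false
set_option maxHeartbeats 1000000
universe u
open CategoryTheory CategoryTheory.Limits MonoidalCategory CartesianMonoidalCategory MonObj GrpObj AlgebraicGeometry
open GrpSch

namespace Groth.Agent.S17804

/-- Let k be a field, G a commutative group scheme locally of finite type over k, H ⊆ G a closed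
subgroup scheme of finite type over k, and q : G → Q the quotient G/H (q is flat, surjective,
locally of finite presentation, and G ×_k H → G ×_Q G, (g, h) ↦ (g, gh), is an isomorphism). Let n ≥
1 and M ≥ 1 be integers. Then G contains a closed subgroup scheme G_M annihilated by n^N for some N,
with image in Q killed by n^M, such that the induced homomorphism from G_M to the kernel Q[n^M] of
multiplication by n^M on Q is flat and surjective. -/
theorem result (k : Type u) [Field k] {G H Q : Over (Spec (CommRingCat.of k))} [GrpObj G] [IsCommMonObj G] [GrpObj H] [GrpObj Q] [LocallyOfFiniteType G.hom] [LocallyOfFiniteType H.hom] [QuasiCompact H.hom] (iH : H ⟶ G) [IsMonHom iH] (hcl : IsClosedImmersion iH.left) (q : G ⟶ Q) [IsMonHom q] (hq : RedSub.IsQuotient iH q) (n : ℕ) (hn : 0 < n) (M : ℕ) (hM : 0 < M) : ∃ (G' : Over (Spec (CommRingCat.of k))) (_ : GrpObj G') (j : G' ⟶ G) (_ : IsMonHom j), IsClosedImmersion j.left ∧ (∃ N : ℕ, ∀ (T : Over (Spec (CommRingCat.of k))) (g : T ⟶ G'), g ^ (n ^ N) = 1) ∧ (∀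 (T : Over (Spec (CommRingCat.of k))) (g : T ⟶ G'), (g ≫ j ≫ q) ^ (n ^ M) = 1) ∧ ∀ (K : Over (Spec (CommRingCat.of k))) [GrpObj K] (κ : K ⟶ Q) [IsMonHom κ], AlgGrp.IsKernel κ ((𝟙 Q) ^ (n ^ M)) → ∀ ℓ : G' ⟶ K, ℓ ≫ κ = j ≫ q → Flat ℓ.left ∧ Surjective ℓ.left := by
  obtain ⟨hqs, hqf, hqp, hsq⟩ := hq
  haveI := hqs; haveI := hqf; haveI := hqp; haveI := hcl
  haveI : Mono iH := Over.mono_of_mono_left iH
  haveI : IsCommMonObj H := GrothLib.AlgGrp14.isCommMonObj_of_mono iH
  haveI : IsSeparated G.hom := GrothLib.GrpSchField.isSeparated G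
  haveI : IsSeparated Q.hom := GrothLib.GrpSchField.isSeparated Q
  obtain ⟨a, I, _, i, p, hi, hic, hIl, hIq, hpi, hpow⟩ := GrothLib.TorsLift2.exists_stable_image H n
  haveI := hi; haveI := hic; haveI := hIl; haveI := hIq
  haveI : Mono i := Over.mono_of_mono_left i
  haveI : IsCommMonObj I := GrothLib.AlgGrp14.isCommMonObj_of_mono i
  haveI : Epi q := by
    haveI : Epi q.left := Flat.epi_of_flat_of_surjective _
    exact (Over.forget _).epi_of_epi_map (inferInstanceAs (Epi q.left))
  haveI : IsCommMonObj Q := GrothLib.AlgGrp14.isCommMonObj_of_epi q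
  haveI : IsMonHom ((𝟙 Q : Q ⟶ Q) ^ (n ^ M)) := GrothLib.GrpDeligne.isMonHom_pow (𝟙 Q) _
  haveI : IsMonHom (((𝟙 G : G ⟶ G) ^ (n ^ M)) ≫ q) := by
    haveI : IsMonHom ((𝟙 G : G ⟶ G) ^ (n ^ M)) := GrothLib.GrpDeligne.isMonHom_pow (𝟙 G) _
    infer_instance
  -- the preimage of the torsion of the quotient
  obtain ⟨P, _, b, hb, hbc, hbk⟩ := GrothLib.IsogFactor19.exists_kernel (((𝟙 G : G ⟶ G) ^ (n ^ M)) ≫ q)
  haveI := hb; haveI := hbc
  haveI : Mono b := Over.mono_of_mono_left b
  haveI : IsCommMonObj P := GrothLib.AlgGrp14.isCommMonObj_of_mono b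
  haveI : LocallyOfFiniteType P.hom := by rw [← Over.w b]; infer_instance
  -- the high power lands in the stable image
  have hqker : ∀ {T : Over (Spec (CommRingCat.of k))} (g : T ⟶ G), g ≫ q = 1 → ∃ h : T ⟶ H, h ≫ iH = g := by
    intro T g hg
    obtain ⟨l, hl₁, hl₂⟩ := hsq.exists_lift (1 : T ⟶ G) g (by rw [MonObj.one_comp, hg])
    refine ⟨l ≫ snd G H, ?_⟩
    rw [← hl₂]
    have e : (G ◁ iH) ≫ μ[G] = fst G H * (snd G H ≫ iH) := by
      rw [Hom.mul_def]
      congr 1
    rw [e, MonObj.comp_mul, hl₁, _root_.one_mul, Category.assoc]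
  have hiHq : iH ≫ q = 1 := by
    have h := congrArg (fun w => lift (1 : H ⟶ G) (𝟙 H) ≫ w) hsq.w
    simp only [← Category.assoc, lift_fst, lift_whiskerLeft, Category.id_comp] at h
    rw [← Hom.mul_def, _root_.one_mul, MonObj.one_comp] at h
    exact h.symm
  have hbq : (b ^ (n ^ M)) ≫ q = 1 := by
    have h := GrothLib.GrpDeligne.ker_comp_eq_one hbk
    rwa [← Category.assoc, MonObj.comp_pow, Category.comp_id] at h
  obtain ⟨h₀, hh₀⟩ := hqker _ hbq
  let N := M + a
  let f : P ⟶ I := h₀ ≫ p
  have hf : f ≫ i ≫ iH = b ^ (n ^ N) := by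
    rw [Category.assoc, ← Category.assoc p, hpi, MonObj.pow_comp, Category.id_comp, MonObj.comp_pow, hh₀,
      ← pow_mul, ← pow_add]
  -- the killed part
  haveI : IsMonHom (b ^ (n ^ N)) := GrothLib.GrpDeligne.isMonHom_pow b _
  obtain ⟨G', _, j', hj', hj'c, hj'k⟩ := GrothLib.IsogFactor19.exists_kernel (b ^ (n ^ N))
  haveI := hj'; haveI := hj'c
  haveI : Mono j' := Over.mono_of_mono_left j'
  haveI : IsClosedImmersion (j' ≫ b).left := inferInstanceAs (IsClosedImmersion (j'.left ≫ b.left))
  haveI : LocallyOfFiniteType G'.hom := by rw [← Over.w j']; infer_instance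
  have hkill : ∀ (T : Over (Spec (CommRingCat.of k))) (g : T ⟶ G'), (g ≫ j' ≫ b) ^ (n ^ N) = 1 := fun T g => by
    rw [← Category.assoc, ← MonObj.comp_pow, Category.assoc, GrothLib.GrpDeligne.ker_comp_eq_one hj'k,
      MonObj.comp_one]
  refine ⟨G', inferInstance, j' ≫ b, inferInstance, inferInstance, ⟨N, fun T g => ?_⟩, fun T g => ?_, ?_⟩
  · rw [← cancel_mono (j' ≫ b), MonObj.pow_comp, MonObj.one_comp]
    exact hkill T g
  · rw [show g ≫ (j' ≫ b) ≫ q = (g ≫ j') ≫ (b ≫ q) by simp only [Category.assoc], ← MonObj.comp_pow,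
      ← MonObj.pow_comp, hbq, MonObj.comp_one]
  intro K _ κ _ hκ l hl
  haveI : Mono κ := GrothLib.GrpDeligne.mono_of_isKernel hκ
  haveI : IsClosedImmersion κ.left := by
    haveI : IsClosedImmersion η[Q].left := GrothLib.DiagGrp.isClosedImmersion_one Q
    exact MorphismProperty.of_isPullback (P := @IsClosedImmersion) (hκ.map (Over.forget _)).flip ‹_›
  -- the torsion of the quotient is covered by the preimage
  obtain ⟨c, hc⟩ := GrothLib.GrpSchField.exists_lift_of_comp_eq_one hκ (b ≫ q) (by
    rw [MonObj.comp_pow, Category.comp_id, ← MonObj.pow_comp, hbq])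
  haveI hsurjflat : Flat c.left ∧ Surjective c.left := by
    have hK : ∀ {T : Over (Spec (CommRingCat.of k))} (z : T ⟶ K), (z ≫ κ) ^ (n ^ M) = 1 := fun {T} z => by
      rw [← Category.comp_id (z ≫ κ), ← MonObj.comp_pow, Category.assoc, GrothLib.GrpDeligne.ker_comp_eq_one hκ,
        MonObj.comp_one]
    have hpb : IsPullback b c q κ := by
      refine ⟨⟨hc.symm⟩, ⟨PullbackCone.IsLimit.mk _ (fun s => hbk.lift s.fst (toUnit _) (by
        rw [← Category.assoc, MonObj.comp_pow, Category.comp_id, MonObj.pow_comp, s.condition, hK, Hom.one_def]))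
        (fun s => hbk.lift_fst _ _ _) (fun s => ?_) (fun s m h₁ h₂ => ?_)⟩⟩
      · rw [← cancel_mono κ, Category.assoc, hc, ← Category.assoc, hbk.lift_fst, s.condition]
      · rw [← cancel_mono b, h₁, hbk.lift_fst]
    have sq := hpb.map (Over.forget (Spec (CommRingCat.of k)))
    exact ⟨MorphismProperty.of_isPullback (P := @Flat) sq ‹_›,
      MorphismProperty.of_isPullback (P := @Surjective) sq ‹_›⟩
  haveI := hsurjflat.1; haveI := hsurjflat.2
  haveI := (hpow N).1; haveI := (hpow N).2
  -- translating by the stable image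
  let r : I ⟶ I := (𝟙 I : I ⟶ I) ^ (n ^ N)
  let W := pullback f r
  let x : W ⟶ P := pullback.fst f r
  let y : W ⟶ I := pullback.snd f r
  have sqW := (IsPullback.of_hasPullback f r).map (Over.forget (Spec (CommRingCat.of k)))
  haveI : Flat x.left := MorphismProperty.of_isPullback (P := @Flat) sqW.flip ‹_›
  haveI : Surjective x.left := MorphismProperty.of_isPullback (P := @Surjective) sqW.flip ‹_›
  obtain ⟨u, hu⟩ := GrothLib.GrpSchField.exists_lift_of_comp_eq_one hbk (i ≫ iH) (by
    have := hiHq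
    rw [← Category.assoc, MonObj.comp_pow, Category.comp_id, MonObj.pow_comp, Category.assoc, this,
      MonObj.comp_one, one_pow])
  have huq : u ≫ b ≫ q = 1 := by
    rw [← Category.assoc, hu, Category.assoc]
    have := hiHq
    rw [this, MonObj.comp_one]
  haveI : IsMonHom u := by
    haveI : IsMonHom (u ≫ b) := by rw [hu]; infer_instance
    exact ⟨by rw [← cancel_mono b, Category.assoc, IsMonHom.one_hom (u ≫ b), IsMonHom.one_hom b],
      by rw [← cancel_mono b, Category.assoc, IsMonHom.mul_hom (u ≫ b), Category.assoc, IsMonHom.mul_hom b,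
        tensorHom_comp_tensorHom_assoc]⟩
  have hup : ∀ {T : Over (Spec (CommRingCat.of k))} (z : T ⟶ I),
      ((z ≫ u) ≫ b) ^ (n ^ N) = (z ≫ r) ≫ i ≫ iH := fun {T} z => by
    rw [Category.assoc, hu, MonObj.comp_pow, Category.comp_id, MonObj.pow_comp]
  obtain ⟨d, hd⟩ := GrothLib.GrpSchField.exists_lift_of_comp_eq_one hj'k (x * (y ≫ u)⁻¹) (by
    rw [MonObj.comp_pow, MonObj.mul_comp, GrpObj.inv_comp, mul_pow, inv_pow, hup, ← MonObj.comp_pow, ← hf,
      ← Category.assoc x, pullback.condition, mul_inv_cancel])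
  let e : W ≅ G' ⊗ I :=
    { hom := lift d y
      inv := pullback.lift ((fst G' I ≫ j') * (snd G' I ≫ u)) (snd G' I) (by
        rw [← cancel_mono (i ≫ iH), Category.assoc, hf, MonObj.comp_pow, MonObj.mul_comp, mul_pow, hup,
          Category.assoc, hkill, _root_.one_mul])
      hom_inv_id := by
        apply pullback.hom_ext
        · rw [Category.assoc, pullback.lift_fst, MonObj.comp_mul, ← Category.assoc, lift_fst, ← Category.assoc,
            lift_snd, hd, inv_mul_cancel_right, Category.id_comp]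
        · rw [Category.assoc, pullback.lift_snd, lift_snd, Category.id_comp]
      inv_hom_id := by
        apply CartesianMonoidalCategory.hom_ext
        · rw [Category.assoc, lift_fst, Category.id_comp, ← cancel_mono j', Category.assoc, hd, MonObj.comp_mul,
            GrpObj.comp_inv, pullback.lift_fst, ← Category.assoc, pullback.lift_snd, mul_inv_cancel_right]
        · rw [Category.assoc, lift_snd, pullback.lift_snd, Category.id_comp] }
  haveI : IsIso e.hom := e.isIso_hom
  haveI : IsIso e.hom.left := inferInstanceAs (IsIso ((Over.forget _).map e.hom))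
  haveI : Flat I.hom := GrothLib.AlgSp.flat_to_field I.hom
  haveI : Surjective I.hom := ⟨fun s => ⟨η[I].left s, Subsingleton.elim (α := PrimeSpectrum k) _ _⟩⟩
  haveI : Flat (fst G' I).left := inferInstanceAs (Flat (pullback.fst G'.hom I.hom))
  haveI : Surjective (fst G' I).left := inferInstanceAs (Surjective (pullback.fst G'.hom I.hom))
  have hd' : d = e.hom ≫ fst G' I := (lift_fst _ _).symm
  haveI : Flat d.left := by rw [hd', Over.comp_left]; infer_instance
  have hdl : d ≫ l = x ≫ c := by
    rw [← cancel_mono κ, Category.assoc, hl, Category.assoc x, hc, Category.assoc j', ← Category.assoc d, hd,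
      MonObj.mul_comp, GrpObj.inv_comp, Category.assoc y, huq, MonObj.comp_one, inv_one, _root_.mul_one]
  haveI : Flat (d.left ≫ l.left) := by rw [← Over.comp_left, hdl, Over.comp_left]; infer_instance
  haveI : Surjective (d.left ≫ l.left) := by rw [← Over.comp_left, hdl, Over.comp_left]; infer_instance
  haveI : Surjective d.left := by rw [hd', Over.comp_left]; infer_instance
  exact ⟨GrothLib.FamDesc6.flat_of_comp_of_flat_surjective d.left l.left, Surjective.of_comp d.left _⟩

end Groth.Agent.S17804
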