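import Groth.Statements.S16043
import Groth.Agent.S17804
import Groth.Agent.S17450
import Groth.Agent.Lib.SemiAbExp2.Props
import Groth.Agent.Lib.FinSupp2.Basic
import Groth.Agent.Lib.GenSubgrp14.Basic
import Groth.Agent.Lib.CentralTor14.Core
import Groth.Agent.Lib.Rigidity.SmoothGroup
import Groth.Agent.Lib.LargestSub2.Basic


set_option autoImplicit false
set_option linter.all false
set_option backward.isDefEq.respectTransparency false
set_option maxHeartbeats 1000000
universe u
open CategoryTheory CategoryTheory.Limits AlgebraicGeometry MonoidalCategory MonObj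
open GrpSch

namespace Groth.Agent.S16043
open CartesianMonoidalCategory SemiCartesianMonoidalCategory

open GrothLib in
/-- A flat surjection is a quotient by its kernel. -/
theorem isQuotient_of_kernel {k : Type u} [Field k] {G H Q : Over (Spec (CommRingCat.of k))} [GrpObj G] [GrpObj H]
    [GrpObj Q] [LocallyOfFiniteType G.hom] [LocallyOfFiniteType Q.hom] (i : H ⟶ G) [IsMonHom i] (q : G ⟶ Q)
    [IsMonHom q] [Flat q.left] [Surjective q.left] (hk : AlgGrp.IsKernel i q) : RedSub.IsQuotient i q := by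
  haveI : Mono i := GrpDeligne.mono_of_isKernel hk
  have e : (G ◁ i) ≫ μ[G] = fst G H * (snd G H ≫ i) := by
    rw [Hom.mul_def]
    congr 1
  refine ⟨inferInstance, inferInstance, TorsLift2.lfp_left q, ⟨⟨?_⟩, ⟨PullbackCone.IsLimit.mk _
    (fun s => lift s.fst (hk.lift (s.fst⁻¹ * s.snd) (toUnit _) (by
      rw [MonObj.mul_comp, GrpObj.inv_comp, s.condition, inv_mul_cancel, Hom.one_def])))
    (fun s => lift_fst _ _) (fun s => ?_) (fun s m h₁ h₂ => ?_)⟩⟩⟩
  · rw [e, MonObj.mul_comp, Category.assoc, GrpDeligne.ker_comp_eq_one hk, MonObj.comp_one, _root_.mul_one]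
  · rw [e, MonObj.comp_mul, lift_fst, ← Category.assoc, lift_snd, hk.lift_fst, mul_inv_cancel_left]
  · apply CartesianMonoidalCategory.hom_ext
    · rw [lift_fst, h₁]
    · rw [lift_snd, ← cancel_mono i, hk.lift_fst, ← h₂, e, MonObj.comp_mul, h₁, inv_mul_cancel_left, Category.assoc]

open GrothLib in
theorem qc_left {k : Type u} [Field k] {X Y : Over (Spec (CommRingCat.of k))} [QuasiCompact X.hom]
    [IsSeparated Y.hom] (f : X ⟶ Y) : QuasiCompact f.left := TorsLift2.qc_left f

/-- Let k be a field of characteristic p > 0, G a commutative group scheme of finite type over k, and H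
the smallest closed subscheme of G containing the n-torsion subschemes _nG for all n > 0 prime to p
(its ideal sheaf is the intersection of theirs). Then for some N the endomorphism (p^N)_G of G
factors through H ⟶ G. -/
theorem result
    (k : Type u) [Field k] (p : ℕ) [CharP k p] (hp : p.Prime)
    (G : Over (Spec (CommRingCat.of k))) [GrpObj G] [IsCommMonObj G]
    [LocallyOfFiniteType G.hom] [QuasiCompact G.hom] :
    ∃ (N : ℕ) (f : G.left ⟶ (⨅ (n : ℕ) (_ : 0 < n ∧ Nat.Coprime n p),
        (η[G].left.ker).comap (𝟙 G ^ n : G ⟶ G).left).subscheme),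
      f ≫ (⨅ (n : ℕ) (_ : 0 < n ∧ Nat.Coprime n p), (η[G].left.ker).comap (𝟙 G ^ n : G ⟶ G).left).subschemeι =
        (𝟙 G ^ (p ^ N) : G ⟶ G).left := by
  classical
  haveI := Fact.mk hp
  haveI : IsSeparated G.hom := GrothLib.GrpSchField.isSeparated G
  haveI : LocallyOfFinitePresentation G.hom := GrothLib.GrpSchField.lfp_of_isLocallyNoetherian _
  haveI : Flat G.hom := GrothLib.AlgSp.flat_to_field G.hom
  haveI : IsClosedImmersion η[G].left := GrothLib.DiagGrp.isClosedImmersion_one G
  let J : G.left.IdealSheafData := ⨅ (n : ℕ) (_ : 0 < n ∧ Nat.Coprime n p),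
    (η[G].left.ker).comap (𝟙 G ^ n : G ⟶ G).left
  haveI hpm : ∀ n : ℕ, IsMonHom ((𝟙 G : G ⟶ G) ^ n) := fun n => GrothLib.GrpDeligne.isMonHom_pow (𝟙 G) n
  -- the torsion subgroups
  have hker : ∀ n : ℕ, ∃ (K : Over (Spec (CommRingCat.of k))) (_ : GrpObj K) (κ : K ⟶ G),
      IsMonHom κ ∧ IsClosedImmersion κ.left ∧ AlgGrp.IsKernel κ ((𝟙 G : G ⟶ G) ^ n) :=
    fun n => GrothLib.IsogFactor19.exists_kernel _
  choose Kn gK κ hκm hκc hκk using hker
  let Gen : ∀ A : Over (Spec (CommRingCat.of k)), (A ⟶ G) → Prop := fun A f =>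
    ∃ n : ℕ, (0 < n ∧ Nat.Coprime n p) ∧ GeometricallyReduced A.hom ∧ f ^ n = 1
  have hgood : ∀ (W : Over (Spec (CommRingCat.of k))) (w : W ⟶ G), GrothLib.GenSubgrp14.IsWord Gen W w →
      ∃ n : ℕ, (0 < n ∧ Nat.Coprime n p) ∧ w ^ n = 1 := by
    intro W w hw
    induction hw with
    | one => exact ⟨1, ⟨one_pos, Nat.coprime_one_left p⟩, by rw [pow_one, MonObj.one_eq_one]⟩
    | @of A f hf => obtain ⟨n, hn, -, h⟩ := hf; exact ⟨n, hn, h⟩
    | @inv W w _ ih => obtain ⟨n, hn, h⟩ := ih; exact ⟨n, hn, by rw [inv_pow, h, inv_one]⟩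
    | @mul W W' w w' _ _ ih ih' =>
      obtain ⟨n, hn, h⟩ := ih
      obtain ⟨n', hn', h'⟩ := ih'
      refine ⟨n * n', ⟨Nat.mul_pos hn.1 hn'.1, hn.2.mul_left hn'.2⟩, ?_⟩
      rw [mul_pow, pow_mul, ← MonObj.comp_pow, h, MonObj.comp_one, one_pow, mul_comm n, pow_mul,
        ← MonObj.comp_pow, h', MonObj.comp_one, one_pow, _root_.one_mul]
  have hred : ∀ A f, Gen A f → GeometricallyReduced A.hom := fun A f ⟨_, _, h, _⟩ => h
  obtain ⟨E⟩ := GrothLib.GenSubgrp14.nonempty_envelope Gen hred
  letI := E.grp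
  haveI := E.isMonHom; haveI := E.isClosedImmersion; haveI := E.geometricallyReduced
  haveI : Mono E.z := Over.mono_of_mono_left E.z
  haveI : LocallyOfFiniteType E.Z.hom := by rw [← Over.w E.z]; infer_instance
  haveI : QuasiCompact E.Z.hom := by rw [← Over.w E.z]; infer_instance
  haveI : IsReduced E.Z.left := GrothLib.GenSubgrp14.isReduced_left E.Z
  -- the envelope lies in the intersection
  have hrange : Set.range E.z.left ⊆ (J.support : Set G.left) := by
    rw [E.range_eq]
    refine closure_minimal ?_ J.support.isClosed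
    rintro g ⟨W, w, hw, x, rfl⟩
    obtain ⟨n, hn, hwn⟩ := hgood W w hw
    obtain ⟨l, hl⟩ := GrothLib.GrpSchField.exists_lift_of_comp_eq_one (hκk n) w
      (by rw [MonObj.comp_pow, Category.comp_id, hwn])
    haveI := hκc n
    have hle : J ≤ (κ n).left.ker := by
      refine le_trans (iInf₂_le n hn) ?_
      have hc : (κ n).left ≫ ((𝟙 G : G ⟶ G) ^ n).left =
          ((toUnit (Kn n)).left ≫ η[G].left.toImage) ≫ η[G].left.imageι := by
        rw [← Over.comp_left, (hκk n).w, Over.comp_left, Category.assoc, Scheme.Hom.toImage_imageι]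
      rw [Scheme.IdealSheafData.comap, ← pullback.lift_fst (f := ((𝟙 G : G ⟶ G) ^ n).left)
        (g := η[G].left.ker.subschemeι) (κ n).left _ hc]
      exact Scheme.Hom.le_ker_comp _ _
    have hx : w.left x ∈ Set.range (κ n).left := ⟨l.left x, by rw [← hl]; rfl⟩
    exact Scheme.IdealSheafData.support_antitone hle (Scheme.Hom.range_subset_ker_support _ hx)
  obtain ⟨e, he⟩ := GrothLib.RedSub.exists_lift E.z.left J.subschemeι
    (by rw [Scheme.IdealSheafData.range_subschemeι]; exact hrange)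
  -- the quotient has no torsion prime to the characteristic
  obtain ⟨Q, _, q, hq, hQl, hQq, hqf, hqs, hqk⟩ :=
    GrothLib.LargestSub2.exists_quot E.z (fun T g n => ⟨n, by rw [mul_comm g, mul_inv_cancel_right]⟩)
  haveI := hq; haveI := hQl; haveI := hQq; haveI := hqf; haveI := hqs
  haveI : IsSeparated Q.hom := GrothLib.GrpSchField.isSeparated Q
  haveI : QuasiCompact q.left := qc_left q
  haveI : LocallyOfFinitePresentation q.left := GrothLib.TorsLift2.lfp_left q
  haveI : Epi q := GrothLib.SemiAbExp2.epi_of_fppf q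
  haveI : IsCommMonObj Q := GrothLib.AlgGrp14.isCommMonObj_of_epi q
  haveI : IsCommMonObj E.Z := GrothLib.AlgGrp14.isCommMonObj_of_mono E.z
  have hnt : ∀ m : ℕ, 0 < m → Nat.Coprime m p →
      ∀ (Y : Over (Spec (CommRingCat.of k))) (y : Y ⟶ Q), y ^ m = 1 → y = 1 := by
    intro m hm hmp Y y hy
    have hquot : RedSub.IsQuotient E.z q := isQuotient_of_kernel E.z q hqk
    obtain ⟨G', _, j, hj, hjc, ⟨N, hN⟩, hjM, hmain⟩ :=
      Groth.Agent.S17804.result k E.z inferInstance q hquot m hm 1 one_pos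
    haveI := hj; haveI := hjc
    haveI : IsMonHom ((𝟙 Q : Q ⟶ Q) ^ (m ^ 1)) := GrothLib.GrpDeligne.isMonHom_pow (𝟙 Q) _
    obtain ⟨K, _, c, hc, hcc, hck⟩ := GrothLib.IsogFactor19.exists_kernel ((𝟙 Q : Q ⟶ Q) ^ (m ^ 1))
    haveI := hc
    haveI : Mono c := GrothLib.GrpDeligne.mono_of_isKernel hck
    obtain ⟨l, hl⟩ := GrothLib.GrpSchField.exists_lift_of_comp_eq_one hck (j ≫ q) (by
      rw [MonObj.comp_pow, Category.comp_id]
      simpa using hjM G' (𝟙 G'))
    obtain ⟨hlf, hls⟩ := hmain K c hck l hl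
    -- the lifted torsion dies in the quotient
    haveI : LocallyOfFiniteType G'.hom := by rw [← Over.w j]; infer_instance
    have hjN : j ^ (m ^ N) = 1 := by
      have := hN G' (𝟙 G')
      rw [← Category.id_comp j, ← MonObj.pow_comp, this, MonObj.one_comp]
    obtain ⟨a, ha⟩ := GrothLib.GrpSchField.exists_lift_of_comp_eq_one (hκk (m ^ N)) j
      (by rw [MonObj.comp_pow, Category.comp_id, hjN])
    haveI hgr : GeometricallyReduced (Kn (m ^ N)).hom := by
      have hne : ((m ^ N : ℕ) : k) ≠ 0 := by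
        rw [Ne, CharP.cast_eq_zero_iff k p]
        intro hd
        exact hp.ne_one (Nat.eq_one_of_dvd_coprimes (hmp.pow_left N) hd (dvd_refl p))
      haveI : Etale ((𝟙 G : G ⟶ G) ^ (m ^ N)).left := by
        have htop : GrothLib.CentralTor14.powLocus G (m ^ N) = ⊤ := by
          refine eq_top_iff.2 fun z _ => ?_
          have := GrothLib.CentralTor14.mem_powLocus (G := G) (a := 𝟙 G) (fun X r g => mul_comm _ _) z
            (n := m ^ N) (GrothLib.CentralTor14.natCast_ne_zero_of_ringHom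
              (Spec.preimage (G.left.fromSpecResidueField z ≫ G.hom)).hom hne)
          simpa using this
        haveI : IsIso (GrothLib.CentralTor14.powLocus G (m ^ N)).ι := by
          rw [htop]; exact inferInstanceAs (IsIso (Scheme.topIso G.left).hom)
        exact (MorphismProperty.cancel_left_of_respectsIso (@Etale) _ _).1
          (GrothLib.CentralTor14.etale_powLocus (G := G) (m ^ N))
      haveI : Etale (toUnit (Kn (m ^ N))).left :=
        MorphismProperty.of_isPullback (P := @Etale) ((hκk (m ^ N)).map (Over.forget _)) ‹_›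
      haveI : Smooth (Kn (m ^ N)).hom := inferInstanceAs (Smooth (toUnit (Kn (m ^ N))).left)
      exact GrothLib.Rigidity.geometricallyReduced_of_smooth _
    haveI := hκm (m ^ N)
    obtain ⟨b, hb⟩ := E.lift_word _ _ (GrothLib.GenSubgrp14.IsWord.of (Gen := Gen) (f := κ (m ^ N))
      ⟨m ^ N, ⟨pow_pos hm N, hmp.pow_left N⟩, hgr, by
        rw [← Category.comp_id (κ (m ^ N)), ← MonObj.comp_pow,
          GrothLib.GrpDeligne.ker_comp_eq_one (hκk (m ^ N))]⟩)
    have hjq : j ≫ q = 1 := by
      rw [← ha, ← hb, Category.assoc, Category.assoc, GrothLib.GrpDeligne.ker_comp_eq_one hqk,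
        MonObj.comp_one, MonObj.comp_one]
    haveI := hlf; haveI := hls
    haveI : LocallyOfFiniteType K.hom := by rw [← Over.w c]; infer_instance
    haveI : IsSeparated K.hom := GrothLib.GrpSchField.isSeparated K
    haveI : QuasiCompact G'.hom := by rw [← Over.w j]; infer_instance
    haveI : QuasiCompact l.left := qc_left l
    haveI : LocallyOfFinitePresentation l.left := GrothLib.TorsLift2.lfp_left l
    haveI : Epi l := GrothLib.SemiAbExp2.epi_of_fppf l
    have hc1 : c = 1 := by rw [← cancel_epi l, hl, hjq, MonObj.comp_one]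
    obtain ⟨y', hy'⟩ := GrothLib.GrpSchField.exists_lift_of_comp_eq_one hck y
      (by rw [MonObj.comp_pow, Category.comp_id, pow_one, hy])
    rw [← hy', hc1, MonObj.comp_one]
  -- such a group is killed by a power of the characteristic
  obtain ⟨I, _, n, f, j, hn, hf, hff, hfs, hj, hjc, hIsa, hfj⟩ :=
    GrothLib.SemiAbExp2.exists_pow_image_SA p Q
  haveI := hf; haveI := hj; haveI := hjc; haveI := hff; haveI := hfs
  haveI : Mono j := Over.mono_of_mono_left j
  haveI : IsCommMonObj I := GrothLib.AlgGrp14.isCommMonObj_of_mono j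
  haveI : LocallyOfFiniteType I.hom := by rw [← Over.w j]; infer_instance
  haveI : QuasiCompact I.hom := by rw [← Over.w j]; infer_instance
  obtain ⟨hIs, hIc⟩ := GrothLib.SemiAbDesc2.SA.smooth_connected hIsa
  haveI := hIs; haveI := hIc
  obtain ⟨ℓ, hℓp, hℓ⟩ := Nat.exists_infinite_primes (p + 1)
  have hcop : Nat.Coprime ℓ p := (Nat.coprime_primes hℓ hp).2 (by omega)
  haveI : IsFinite I.hom :=
    Groth.Agent.S17450.result k I (GrothLib.SemiAbDesc2.SA.bc hIsa) I (𝟙 I) ℓ hℓ fun Y h hh => by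
      rw [← cancel_mono j, MonObj.one_comp]
      exact hnt ℓ hℓ.pos hcop Y _ (by rw [← MonObj.pow_comp, hh, MonObj.one_comp])
  obtain ⟨m, hm, hIm⟩ := GrothLib.FinSupp2.exists_pow_eq_one I
  have hQn : (𝟙 Q : Q ⟶ Q) ^ (n * m) = 1 := by
    rw [pow_mul, ← hfj, ← MonObj.pow_comp, ← Category.comp_id f, ← MonObj.comp_pow, hIm, MonObj.comp_one,
      MonObj.one_comp]
  obtain ⟨s, e', he', hnm⟩ := Nat.exists_eq_pow_mul_and_not_dvd (Nat.mul_pos hn hm).ne' p hp.ne_one
  have hQp : (𝟙 Q : Q ⟶ Q) ^ (p ^ s) = 1 :=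
    hnt e' (Nat.pos_of_ne_zero fun h0 => he' (h0 ▸ dvd_zero p)) ((Nat.Prime.coprime_iff_not_dvd hp).2 he').symm Q _
      (by rw [← pow_mul, ← hnm, hQn])
  obtain ⟨z, hz⟩ := GrothLib.GrpSchField.exists_lift_of_comp_eq_one hqk ((𝟙 G : G ⟶ G) ^ (p ^ s)) (by
    rw [MonObj.pow_comp, Category.id_comp, ← Category.comp_id q, ← MonObj.comp_pow, hQp, MonObj.comp_one])
  refine ⟨s, z.left ≫ e, ?_⟩
  show (z.left ≫ e) ≫ J.subschemeι = _
  rw [Category.assoc, he, ← Over.comp_left, hz]

end Groth.Agent.S16043
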