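import Groth.Statements.S16044
import Groth.Agent.Lib.AffHull13.Basic
-- import your own Groth.Agent.* helpers here

set_option autoImplicit false
universe u
open CategoryTheory CategoryTheory.Limits AlgebraicGeometry
open GrpSch

namespace Groth.Agent.S16044

theorem ker_eq_of_eq {A : Type u} [CommRing A] {X : Scheme.{u}} (f : X ⟶ Spec (CommRingCat.of A))
    (g : Spec Γ(X, ⊤) ⟶ Spec (CommRingCat.of A)) (hg : X.toSpecΓ ≫ g = f) {κ : CommRingCat.{u}}
    (j : Spec κ ⟶ Spec (CommRingCat.of A)) (ψ : CommRingCat.of A ⟶ κ) (hj : j = Spec.map ψ)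
    (h : (GrothLib.AffHull13.cs f g hg ψ).ker = ⊥) :
    (pullback.map f j g j X.toSpecΓ (𝟙 _) (𝟙 _) ((Category.comp_id f).trans hg.symm)
        ((Category.comp_id _).trans (Category.id_comp _).symm)).ker = ⊥ := by
  subst hj; exact h


/-- Let S be the spectrum of a discrete valuation ring and X a quasi-compact quasi-separated flat
S-scheme, with canonical morphism c : X ⟶ Spec Γ(X, O_X) over S. Then on each fibre over a point of
S the base change of c is schematically dominant (its kernel ideal sheaf vanishes). -/
theorem result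
    (A : Type u) [CommRing A] [IsDomain A] [IsDiscreteValuationRing A]
    (X : Scheme.{u}) (f : X ⟶ Spec (CommRingCat.of A)) [Flat f] [QuasiCompact f] [QuasiSeparated f]
    (g : Spec Γ(X, ⊤) ⟶ Spec (CommRingCat.of A)) (hg : X.toSpecΓ ≫ g = f) (s : ↥(Spec (CommRingCat.of A))) :
    (pullback.map f ((Spec (CommRingCat.of A)).fromSpecResidueField s) g ((Spec (CommRingCat.of A)).fromSpecResidueField s)
        X.toSpecΓ (𝟙 _) (𝟙 _) ((Category.comp_id f).trans hg.symm)
        ((Category.comp_id _).trans (Category.id_comp _).symm)).ker = ⊥ := by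
  haveI : s.asIdeal.IsPrime := s.isPrime
  let ψ : CommRingCat.of A ⟶ (Spec (CommRingCat.of A)).residueField s :=
    CommRingCat.ofHom (algebraMap A s.asIdeal.ResidueField) ≫ (Scheme.Spec.residueFieldIso (CommRingCat.of A) s).inv
  have hj : (Spec (CommRingCat.of A)).fromSpecResidueField s = Spec.map ψ := by
    simp only [ψ, Spec.map_comp]
    rw [← Scheme.Spec.map_residueFieldIso_inv_eq_fromSpecResidueField]
  suffices h : Function.Injective (GrothLib.AffHull13.cs f g hg ψ).appTop from
    ker_eq_of_eq f g hg _ ψ hj (GrothLib.AffHull13.ker_cs_eq_bot f g hg ψ h)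
  have hinv : Function.Bijective (Scheme.Spec.residueFieldIso (CommRingCat.of A) s).inv :=
    ConcreteCategory.bijective_of_isIso _
  by_cases hs : s.asIdeal = ⊥
  · apply GrothLib.AffHull13.injective_appTop_of_flat f g hg ψ
    have hinj : Function.Injective (algebraMap A s.asIdeal.ResidueField) := by
      rw [RingHom.injective_iff_ker_eq_bot, Ideal.ker_algebraMap_residueField, hs]
    haveI : Module.IsTorsionFree A s.asIdeal.ResidueField := by
      haveI : FaithfulSMul A s.asIdeal.ResidueField := (faithfulSMul_iff_algebraMap_injective A _).2 hinj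
      infer_instance
    haveI : Module.Flat A s.asIdeal.ResidueField := inferInstance
    have h1 : (algebraMap A s.asIdeal.ResidueField).Flat := RingHom.flat_algebraMap_iff.2 inferInstance
    exact h1.comp (RingHom.Flat.of_bijective hinv)
  · haveI : s.asIdeal.IsMaximal := s.isPrime.isMaximal hs
    obtain ⟨π, hπ⟩ := IsPrincipalIdealRing.principal s.asIdeal
    refine GrothLib.AffHull13.injective_appTop_of_surjective f g hg ψ
      (hinv.2.comp (Ideal.algebraMap_residueField_surjective s.asIdeal)) π ?_ ?_
    · rintro rfl
      exact hs (by rw [hπ, Submodule.span_zero_singleton])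
    · show RingHom.ker ((Scheme.Spec.residueFieldIso (CommRingCat.of A) s).inv.hom.comp (algebraMap A s.asIdeal.ResidueField)) = _
      rw [← RingHom.comap_ker, (RingHom.injective_iff_ker_eq_bot _).1 hinv.1, ← RingHom.ker_eq_comap_bot,
        Ideal.ker_algebraMap_residueField]
      exact hπ

end Groth.Agent.S16044
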