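import Groth.Statements.S16045
import Groth.Agent.Lib.Pushout6.BaseChange
import Groth.Agent.Lib.Pushout6.FiniteSet
-- import your own Groth.Agent.* helpers here

set_option autoImplicit false
universe u
open CategoryTheory CategoryTheory.Limits AlgebraicGeometry
open FlatMor

namespace Groth.Agent.S16045

/-- Let θ₁ : Y ⟶ X₁ and θ₂ : Y ⟶ X₂ be closed immersions of schemes over S and X their pushout in
schemes over S. For a flat morphism g : S' ⟶ S, the square obtained by base change along g is a
pushout in schemes over S': pinching along a closed subscheme commutes with flat base change. -/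
theorem result
    {S S' : Scheme.{u}} (g : S' ⟶ S) [Flat g]
    {Y X₁ X₂ X : Over S} (θ₁ : Y ⟶ X₁) (θ₂ : Y ⟶ X₂) [IsClosedImmersion θ₁.left] [IsClosedImmersion θ₂.left]
    (φ₁ : X₁ ⟶ X) (φ₂ : X₂ ⟶ X) (hX : IsPushout θ₁ θ₂ φ₁ φ₂) :
    IsPushout ((Over.pullback g).map θ₁) ((Over.pullback g).map θ₂)
      ((Over.pullback g).map φ₁) ((Over.pullback g).map φ₂) := by
  have hX' : IsPushout θ₁.left θ₂.left φ₁.left φ₂.left := hX.map (Over.forget S)
  have hC := GrothLib.Pushout6.covered_of_isClosedImmersion θ₁.left θ₂.left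
  refine IsPushout.of_map (Over.forget S') (by rw [← Functor.map_comp, ← Functor.map_comp, hX.w]) ?_
  refine GrothLib.Pushout6.isPushout_baseChange X.hom g hC hX' (Or.inl ‹_›) (IsPullback.of_hasPullback X.hom g)
    (πX := pullback.fst X₁.hom g) (πY := pullback.fst X₂.hom g) (πZ := pullback.fst Y.hom g)
    (GrothLib.Pushout6.isPullback_map φ₁.left X.hom X₁.hom g _ (Over.w φ₁) ?_ ?_)
    (GrothLib.Pushout6.isPullback_map φ₂.left X.hom X₂.hom g _ (Over.w φ₂) ?_ ?_)
    (GrothLib.Pushout6.isPullback_map θ₁.left X₁.hom Y.hom g _ (Over.w θ₁) ?_ ?_) ?_ ?_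
  · exact pullback.lift_fst _ _ _
  · exact pullback.lift_snd _ _ _
  · exact pullback.lift_fst _ _ _
  · exact pullback.lift_snd _ _ _
  · exact pullback.lift_fst _ _ _
  · exact pullback.lift_snd _ _ _
  · exact pullback.lift_fst _ _ _
  · exact GrothLib.Pushout6.pullback_square hX'.w (pullback.lift_fst _ _ _) (pullback.lift_snd _ _ _)
      (pullback.lift_fst _ _ _) (pullback.lift_snd _ _ _) (pullback.lift_fst _ _ _) (pullback.lift_snd _ _ _)
      (pullback.lift_fst _ _ _) (pullback.lift_snd _ _ _)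

end Groth.Agent.S16045
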