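import Groth.Statements.S16046
import Mathlib

set_option autoImplicit false
universe u
open TensorProduct
open ValRing

namespace Groth.Agent.S16046

/-- Surjectivity assertion: let A ⊆ A' be valuation rings with fraction fields K ⊆ K', A' dominating A
and A dense in A' for the valuation topology, and L a finite extension of K; put L' = K' ⊗_K L. Then
every element of L' modulo its nilradical which is integral over A' is a finite sum Σ a'ᵢ·lᵢ with
a'ᵢ ∈ A' and lᵢ ∈ L integral over A. (The published statement also identifies the kernel of the map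
from the tensor product with the nilradical; that part is not stated here.) -/
theorem result
    (A K L A' K' : Type u) [CommRing A] [IsDomain A] [ValuationRing A] [Field K] [Algebra A K] [IsFractionRing A K]
    [Field L] [Algebra K L] [FiniteDimensional K L] [Algebra A L] [IsScalarTower A K L]
    [CommRing A'] [IsDomain A'] [ValuationRing A'] [Field K'] [Algebra A' K'] [IsFractionRing A' K']
    [Algebra A A'] [IsLocalHom (algebraMap A A')] (hinj : Function.Injective (algebraMap A A'))
    [Algebra K K'] [Algebra A K'] [IsScalarTower A A' K'] [IsScalarTower A K K']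
    (hdense : ∀ a' b' : A', b' ≠ 0 → ∃ a : A, b' ∣ a' - algebraMap A A' a)
    (x : (K' ⊗[K] L) ⧸ nilradical (K' ⊗[K] L))
    (hx : ((Ideal.Quotient.mk (nilradical (K' ⊗[K] L))).comp
            ((Algebra.TensorProduct.includeLeft : K' →ₐ[K] K' ⊗[K] L).toRingHom.comp (algebraMap A' K'))).IsIntegralElem x) :
    ∃ (n : ℕ) (a : Fin n → A') (l : Fin n → L), (∀ i, IsIntegral A (l i)) ∧
      x = Ideal.Quotient.mk (nilradical (K' ⊗[K] L)) (∑ i, algebraMap A' K' (a i) ⊗ₜ[K] l i) := by
  classical
  obtain ⟨z, rfl⟩ := Ideal.Quotient.mk_surjective x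
  obtain ⟨s, b, hb⟩ := FiniteDimensional.exists_is_basis_integral A K L
  have hAK' : ∀ a : A, algebraMap A' K' (algebraMap A A' a) = algebraMap K K' (algebraMap A K a) :=
    fun a => by rw [← IsScalarTower.algebraMap_apply, ← IsScalarTower.algebraMap_apply]
  -- decomposition of `K'`
  have hdec : ∀ c : K', ∃ (k : K) (t : A'), c = algebraMap K K' k + algebraMap A' K' t := by
    intro c
    obtain ⟨a', b', hb', rfl⟩ := IsFractionRing.div_surjective (A := A') c
    have hb0 : b' ≠ 0 := nonZeroDivisors.ne_zero hb'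
    obtain ⟨β, u, hu⟩ : ∃ (β : A) (u : A'ˣ), algebraMap A A' β = b' * u := by
      by_cases hbu : IsUnit b'
      · exact ⟨1, hbu.unit⁻¹, by rw [map_one]; exact hbu.mul_val_inv.symm⟩
      · obtain ⟨a, t, ht⟩ := hdense b' (b' ^ 2) (pow_ne_zero 2 hb0)
        obtain ⟨u, hu⟩ := IsLocalRing.isUnit_one_sub_self_of_mem_nonunits (b' * t)
          (fun h => hbu (isUnit_of_mul_isUnit_left h))
        exact ⟨a, u, by rw [hu]; linear_combination -ht⟩
    have hβ : algebraMap A A' β ≠ 0 := by rw [hu]; exact mul_ne_zero hb0 u.ne_zero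
    obtain ⟨a, t, ht⟩ := hdense (a' * u) (algebraMap A A' β) hβ
    refine ⟨algebraMap A K a / algebraMap A K β, t, ?_⟩
    have hb1 : algebraMap A' K' b' ≠ 0 :=
      (map_ne_zero_iff _ (IsFractionRing.injective A' K')).mpr hb0
    have hu1 : algebraMap A' K' (u : A') ≠ 0 :=
      (map_ne_zero_iff _ (IsFractionRing.injective A' K')).mpr u.ne_zero
    rw [map_div₀, ← hAK', ← hAK', hu, map_mul]
    rw [hu, sub_eq_iff_eq_add] at ht
    have ht' := congrArg (algebraMap A' K') ht
    simp only [map_add, map_mul] at ht'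
    field_simp
    linear_combination ht'
  choose kk tt hkt using hdec
  set c : s → K' := fun i => (Algebra.TensorProduct.basis K' b).repr z i with hc
  have hz : z = ∑ i, c i ⊗ₜ[K] b i := by
    conv_lhs => rw [← (Algebra.TensorProduct.basis K' b).sum_repr z]
    simp [hc, smul_tmul']
  set l : L := ∑ i, kk (c i) • b i with hl
  have hz' : z = 1 ⊗ₜ[K] l + ∑ i, algebraMap A' K' (tt (c i)) ⊗ₜ[K] b i := by
    rw [hz, hl, tmul_sum, ← Finset.sum_add_distrib]
    refine Finset.sum_congr rfl fun i _ => ?_
    rw [tmul_smul, smul_tmul', ← add_tmul, ← Algebra.algebraMap_eq_smul_one, ← hkt]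
  -- `l` is integral over `A`
  have hlint : IsIntegral A l := by
    let ι : A' →+* K' ⊗[K] L :=
      (Algebra.TensorProduct.includeLeft : K' →ₐ[K] K' ⊗[K] L).toRingHom.comp (algebraMap A' K')
    let q : K' ⊗[K] L →+* (K' ⊗[K] L) ⧸ nilradical (K' ⊗[K] L) := Ideal.Quotient.mk _
    letI : Algebra A' ((K' ⊗[K] L) ⧸ nilradical (K' ⊗[K] L)) := (q.comp ι).toAlgebra
    have hb' : ∀ i, IsIntegral A' (q (1 ⊗ₜ[K] b i)) := by
      intro i
      obtain ⟨p, hp, hp0⟩ := hb i
      refine ⟨p.map (algebraMap A A'), hp.map _, ?_⟩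
      rw [Polynomial.eval₂_map]
      have hcomp : (q.comp ι).comp (algebraMap A A') =
          (q.comp (Algebra.TensorProduct.includeRight : L →ₐ[K] K' ⊗[K] L).toRingHom).comp
            (algebraMap A L) := by
        refine RingHom.ext fun a => congrArg q ?_
        change algebraMap A' K' (algebraMap A A' a) ⊗ₜ[K] (1 : L) = 1 ⊗ₜ[K] algebraMap A L a
        rw [hAK', IsScalarTower.algebraMap_apply A K L]
        generalize algebraMap A K a = k
        rw [Algebra.algebraMap_eq_smul_one, Algebra.algebraMap_eq_smul_one, smul_tmul]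
      change Polynomial.eval₂ ((q.comp ι).comp (algebraMap A A')) _ p = 0
      rw [hcomp]
      change Polynomial.eval₂ _ ((q.comp
        (Algebra.TensorProduct.includeRight : L →ₐ[K] K' ⊗[K] L).toRingHom) (b i)) p = 0
      rw [← Polynomial.hom_eval₂, hp0, map_zero]
    have hlq : IsIntegral A' (q (1 ⊗ₜ[K] l)) := by
      have h1 : q (1 ⊗ₜ[K] l) = q z - ∑ i, algebraMap A' _ (tt (c i)) * q (1 ⊗ₜ[K] b i) := by
        rw [hz', map_add, map_sum, eq_sub_iff_add_eq]
        congr 1
        refine Finset.sum_congr rfl fun i _ => ?_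
        change q (algebraMap A' K' (tt (c i)) ⊗ₜ[K] (1 : L)) * q (1 ⊗ₜ[K] b i) = _
        rw [← map_mul, Algebra.TensorProduct.tmul_mul_tmul, mul_one, one_mul]
      rw [h1]
      exact IsIntegral.sub hx (IsIntegral.sum _ fun i _ => isIntegral_algebraMap.mul (hb' i))
    obtain ⟨g, hg, hg0⟩ := hlq
    change Polynomial.eval₂ (q.comp ι) (q (1 ⊗ₜ[K] l)) g = 0 at hg0
    rw [← Polynomial.hom_eval₂] at hg0
    obtain ⟨N, hN⟩ := mem_nilradical.mp (Ideal.Quotient.eq_zero_iff_mem.mp hg0)
    set G : Polynomial K' := g.map (algebraMap A' K') with hG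
    have hG0 : Polynomial.aeval (1 ⊗ₜ[K] l : K' ⊗[K] L) (G ^ N) = 0 := by
      rw [map_pow, Polynomial.aeval_def, hG, Polynomial.eval₂_map]
      exact hN
    have hint : IsIntegral K l := .of_finite K l
    set P : Polynomial K := minpoly K l with hP
    set P' : Polynomial K' := P.map (algebraMap K K') with hP'
    have hPm : P'.Monic := (minpoly.monic hint).map _
    have hdvd : P' ∣ G ^ N := by
      rw [← Polynomial.modByMonic_eq_zero_iff_dvd hPm]
      set r := G ^ N %ₘ P' with hr
      have hP0 : Polynomial.aeval (1 ⊗ₜ[K] l : K' ⊗[K] L) P' = 0 := by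
        rw [hP', Polynomial.aeval_map_algebraMap]
        have := Polynomial.aeval_algHom_apply
          (Algebra.TensorProduct.includeRight : L →ₐ[K] K' ⊗[K] L) l P
        rw [hP, minpoly.aeval, map_zero] at this
        exact this
      have hr0 : Polynomial.aeval (1 ⊗ₜ[K] l : K' ⊗[K] L) r = 0 := by
        rw [hr, Polynomial.modByMonic_eq_sub_mul_div, map_sub, map_mul, hG0, hP0, zero_mul, sub_zero]
      by_contra hrne
      have hdeg : r.natDegree < P.natDegree := by
        have h1 := Polynomial.degree_modByMonic_lt (G ^ N) hPm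
        have h2 := Polynomial.natDegree_lt_natDegree hrne h1
        rwa [hP', (minpoly.monic hint).natDegree_map] at h2
      have hli := Module.Flat.linearIndependent_one_tmul (S := K') (linearIndependent_pow (K := K) l)
      rw [Fintype.linearIndependent_iff] at hli
      have h3 := hli (fun i => r.coeff i) ?_ ⟨r.natDegree, hdeg⟩
      · exact hrne (Polynomial.leadingCoeff_eq_zero.mp h3)
      rw [Polynomial.aeval_eq_sum_range' hdeg, ← Fin.sum_univ_eq_sum_range] at hr0
      refine Eq.trans (Finset.sum_congr rfl fun i _ => ?_) hr0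
      rw [Algebra.TensorProduct.tmul_pow, one_pow]
    obtain ⟨g', hg'⟩ := IsIntegrallyClosed.eq_map_mul_C_of_dvd K' (hg.pow N)
      (g := P') (by rwa [Polynomial.map_pow])
    rw [hPm.leadingCoeff, map_one, mul_one] at hg'
    have hco : ∀ i, P.coeff i ∈ Set.range (algebraMap A K) := by
      intro i
      have h1 : algebraMap A' K' (g'.coeff i) = algebraMap K K' (P.coeff i) := by
        have := congrArg (fun f => Polynomial.coeff f i) hg'
        simpa [hP'] using this
      rcases ValuationRing.isInteger_or_isInteger A (P.coeff i) with ⟨a, ha⟩ | ⟨a, ha⟩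
      · exact ⟨a, ha⟩
      · rcases eq_or_ne (P.coeff i) 0 with h0 | h0
        · exact ⟨0, by rw [h0, map_zero]⟩
        have h2 : algebraMap A A' a * g'.coeff i = 1 := by
          apply IsFractionRing.injective A' K'
          rw [map_mul, hAK', ha, h1, map_inv₀, map_one,
            inv_mul_cancel₀ ((map_ne_zero _).mpr h0)]
        obtain ⟨u, rfl⟩ := isUnit_of_map_unit (algebraMap A A') a (IsUnit.of_mul_eq_one _ h2)
        exact ⟨↑u⁻¹, by rw [map_units_inv, ha, inv_inv]⟩
    obtain ⟨P₀, hP₀, -, hP₀m⟩ :=
      Polynomial.lifts_and_natDegree_eq_and_monic ((Polynomial.lifts_iff_coeff_lifts _).mpr hco)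
        (minpoly.monic hint)
    refine ⟨P₀, hP₀m, ?_⟩
    rw [IsScalarTower.algebraMap_eq A K L, ← Polynomial.eval₂_map, hP₀]
    exact minpoly.aeval K l
  let e := Fintype.equivFin (Option s)
  refine ⟨Fintype.card (Option s), fun j => (e.symm j).elim 1 (fun i => tt (c i)),
    fun j => (e.symm j).elim l (fun i => b i), fun j => ?_, ?_⟩
  · dsimp only
    cases e.symm j with
    | none => exact hlint
    | some i => exact hb i
  · rw [← e.sum_comp]
    simp only [Equiv.symm_apply_apply]
    rw [Fintype.sum_option, hz']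
    simp

end Groth.Agent.S16046
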