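import Groth.Statements.S16050
import Groth.Agent.Lib.PSKaehler16.Basic
import Groth.Agent.Lib.TFCurv11.ExtOne
import Groth.Agent.Lib.QuadSeries.Basic

set_option autoImplicit false
universe u
open CategoryTheory
open LCI

namespace Groth.Agent.S16050


section aux

open MvPowerSeries IsLocalRing

variable {k : Type u} [Field k]

/-- A multiple condition on two variables powers forces divisibility. -/
lemma dvd_of_pow_mul_mem {f g : MvPowerSeries (Fin 3) k} {N : ℕ} (hf : f ≠ 0)
    (h0 : g * X 0 ^ N ∈ Ideal.span {f}) (h1 : g * X 1 ^ N ∈ Ideal.span {f}) : g ∈ Ideal.span {f} := by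
  rw [Ideal.mem_span_singleton] at h0 h1 ⊢
  obtain ⟨a, ha⟩ := h0
  obtain ⟨b, hb⟩ := h1
  have hab : a * X 1 ^ N = b * X 0 ^ N := by
    apply mul_left_cancel₀ hf
    rw [← mul_assoc, ← ha, ← mul_assoc, ← hb]
    ring
  have hdvd : (X 0 : MvPowerSeries (Fin 3) k) ^ N ∣ a := by
    rw [X_pow_dvd_iff]
    intro m hm
    have h2 : (X 0 : MvPowerSeries (Fin 3) k) ^ N ∣ a * X 1 ^ N := ⟨b, by rw [hab, mul_comm]⟩
    rw [X_pow_dvd_iff] at h2
    have h3 := h2 (m + Finsupp.single 1 N) (by simp [hm])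
    rwa [X_pow_eq, coeff_add_mul_monomial, mul_one] at h3
  obtain ⟨c, rfl⟩ := hdvd
  refine ⟨c, mul_right_cancel₀ (pow_ne_zero N (fun h => ?_)) (ha.trans (by ring : _ = f * c * X 0 ^ N))⟩
  have := congrArg (coeff (Finsupp.single (0 : Fin 3) 1)) h
  simp at this

end aux


/-- Let k be an algebraically closed field of characteristic p > 0, P = k[[x, y, z]] the power series
ring in three variables, f a non-unit of P defining an isolated singularity — some power of the
maximal ideal of P is contained in (f) + J, where J is the ideal generated by the values D(f) of all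
k-derivations D of P (the Jacobian ideal (f_x, f_y, f_z)) — and R₀ = P/(f). Then Ext²_{R₀}(Ω_{R₀/k},
R₀) = 0 and Ext¹_{R₀}(Ω_{R₀/k}, R₀) is isomorphic as an R₀-module to R₀/J R₀, the Tjurina algebra
(existence of an R₀-linear isomorphism only; the source obtains it from the boundary map of the
dualized conormal sequence). The source states this for the normal form of a rational double point;
the hypotheses used are those given here. Here Ω is the module of Kähler differentials of the
k-algebra R₀. (The lemma also identifies first-order deformations of R₀ with this Ext¹ group; that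
identification is quoted there from another work and is not part of this row.) -/
theorem result (k : Type u) [Field k] [IsAlgClosed k]
    (p : ℕ) [Fact p.Prime] [CharP k p]
    (f : MvPowerSeries (Fin 3) k) (hf : f ∈ IsLocalRing.maximalIdeal (MvPowerSeries (Fin 3) k))
    (hiso : ∃ N : ℕ, IsLocalRing.maximalIdeal (MvPowerSeries (Fin 3) k) ^ N ≤
      Ideal.span {f} ⊔ Ideal.span {g | ∃ D : Derivation k (MvPowerSeries (Fin 3) k) (MvPowerSeries (Fin 3) k), g = D f}) :
    Subsingleton (Abelian.Ext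
        (ModuleCat.of (MvPowerSeries (Fin 3) k ⧸ Ideal.span {f})
          (KaehlerDifferential k (MvPowerSeries (Fin 3) k ⧸ Ideal.span {f})))
        (ModuleCat.of (MvPowerSeries (Fin 3) k ⧸ Ideal.span {f}) (MvPowerSeries (Fin 3) k ⧸ Ideal.span {f})) 2) ∧
      Nonempty (Abelian.Ext
        (ModuleCat.of (MvPowerSeries (Fin 3) k ⧸ Ideal.span {f})
          (KaehlerDifferential k (MvPowerSeries (Fin 3) k ⧸ Ideal.span {f})))
        (ModuleCat.of (MvPowerSeries (Fin 3) k ⧸ Ideal.span {f}) (MvPowerSeries (Fin 3) k ⧸ Ideal.span {f})) 1 ≃ₗ[MvPowerSeries (Fin 3) k ⧸ Ideal.span {f}]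
        ((MvPowerSeries (Fin 3) k ⧸ Ideal.span {f}) ⧸ Ideal.map (Ideal.Quotient.mk (Ideal.span {f}))
          (Ideal.span {g | ∃ D : Derivation k (MvPowerSeries (Fin 3) k) (MvPowerSeries (Fin 3) k), g = D f}))) := by
  classical
  obtain ⟨N, hN⟩ := hiso
  let P := MvPowerSeries (Fin 3) k
  let R₀ := P ⧸ Ideal.span {f}
  let q : P →ₐ[k] R₀ := Ideal.Quotient.mkₐ k _
  rw [Groth.Agent.Lib.PSKaehler16.span_values_eq p f] at hN ⊢
  let v : Fin 3 → R₀ := fun i => q (MvPowerSeries.pderiv k i f)
  have hJ : Ideal.map (Ideal.Quotient.mk (Ideal.span {f})) (Ideal.span (Set.range fun i => MvPowerSeries.pderiv k i f)) =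
      Ideal.span (Set.range v) := by
    rw [Ideal.map_span, ← Set.range_comp]; rfl
  rw [hJ]
  -- the isolated singularity makes `v` unimodular off the maximal ideal
  have hf0 : f ≠ 0 := by
    rintro rfl
    have hbot : IsLocalRing.maximalIdeal P ^ N ≤ ⊥ := hN.trans (by simp)
    have hX : (MvPowerSeries.X 0 : P) ^ N ∈ IsLocalRing.maximalIdeal P ^ N :=
      Ideal.pow_mem_pow (GrothLib.QuadSeries.mem_max.2 (MvPowerSeries.constantCoeff_X _)) N
    have := congrArg (MvPowerSeries.coeff (Finsupp.single (0 : Fin 3) N)) ((Submodule.mem_bot _).1 (hbot hX))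
    simp [MvPowerSeries.X_pow_eq] at this
  have hreg : ∀ r : R₀, (∀ i, r * v i = 0) → r = 0 := by
    intro r hr
    obtain ⟨g, rfl⟩ := Ideal.Quotient.mk_surjective r
    have hg : ∀ i, g * MvPowerSeries.pderiv k i f ∈ Ideal.span {f} := fun i =>
      Ideal.Quotient.eq_zero_iff_mem.1 (by rw [map_mul]; exact hr i)
    have hmul : ∀ z ∈ IsLocalRing.maximalIdeal P ^ N, g * z ∈ Ideal.span {f} := by
      intro z hz
      obtain ⟨a, ha, b, hb, rfl⟩ := Submodule.mem_sup.1 (hN hz)
      rw [mul_add]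
      refine Ideal.add_mem _ (Ideal.mul_mem_left _ _ ha) ?_
      clear hz
      induction hb using Submodule.span_induction with
      | mem x hx => obtain ⟨i, rfl⟩ := hx; exact hg i
      | zero => rw [mul_zero]; exact Ideal.zero_mem _
      | add x y _ _ hx hy => rw [mul_add]; exact Ideal.add_mem _ hx hy
      | smul c x _ hx => rw [smul_eq_mul, mul_left_comm]; exact Ideal.mul_mem_left _ _ hx
    refine Ideal.Quotient.eq_zero_iff_mem.2 (dvd_of_pow_mul_mem (N := N) hf0 (hmul _ ?_) (hmul _ ?_)) <;>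
      exact Ideal.pow_mem_pow (GrothLib.QuadSeries.mem_max.2 (MvPowerSeries.constantCoeff_X _)) N
  -- conormal presentation
  let ι : R₀ →ₗ[R₀] (Fin 3 → R₀) := LinearMap.toSpanSingleton R₀ (Fin 3 → R₀) v
  let π : (Fin 3 → R₀) →ₗ[R₀] Ω[R₀⁄k] :=
    Fintype.linearCombination R₀ fun i => KaehlerDifferential.D k R₀ (q (MvPowerSeries.X i))
  let E : Derivation k P (Ω[R₀⁄k]) := (KaehlerDifferential.D k R₀).compAlgebraMap P
  have hD : ∀ g : P, KaehlerDifferential.D k R₀ (q g) = π fun i => q (MvPowerSeries.pderiv k i g) := by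
    intro g
    refine (Groth.Agent.Lib.PSKaehler16.derivation_eq_sum p E g).trans ?_
    simp only [π, Fintype.linearCombination_apply]
    refine Finset.sum_congr rfl fun i _ => ?_
    exact (algebraMap_smul R₀ (MvPowerSeries.pderiv k i g) _).symm
  have hπs : Function.Surjective π := by
    rw [← LinearMap.range_eq_top, eq_top_iff, ← KaehlerDifferential.span_range_derivation, Submodule.span_le]
    rintro _ ⟨r, rfl⟩
    obtain ⟨g, rfl⟩ := Ideal.Quotient.mk_surjective r
    exact ⟨_, (hD g).symm⟩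
  let S : Submodule R₀ (Fin 3 → R₀) := LinearMap.range ι
  let θ₀ : P →ₗ[k] ((Fin 3 → R₀) ⧸ S) :=
    (S.mkQ.restrictScalars k).comp (LinearMap.pi fun i => q.toLinearMap.comp (MvPowerSeries.pderiv k i).toLinearMap)
  have hθ₀ : ∀ g, θ₀ g = S.mkQ fun i => q (MvPowerSeries.pderiv k i g) := fun g => rfl
  have hker : (Ideal.span {f} : Ideal P).restrictScalars k ≤ LinearMap.ker θ₀ := by
    intro z hz
    obtain ⟨a, rfl⟩ := Ideal.mem_span_singleton.1 hz
    rw [LinearMap.mem_ker, hθ₀, Submodule.mkQ_apply, Submodule.Quotient.mk_eq_zero]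
    refine ⟨q a, funext fun i => ?_⟩
    have hqf : q f = 0 := Ideal.Quotient.eq_zero_iff_mem.2 (Ideal.mem_span_singleton_self f)
    simp [ι, v, hqf]
  let θ : R₀ →ₗ[k] ((Fin 3 → R₀) ⧸ S) :=
    ((Ideal.span {f} : Ideal P).restrictScalars k).liftQ θ₀ hker ∘ₗ
      (Submodule.Quotient.restrictScalarsEquiv k (Ideal.span {f} : Ideal P)).symm.toLinearMap
  have hθ : ∀ g, θ (q g) = S.mkQ fun i => q (MvPowerSeries.pderiv k i g) := fun g => rfl
  let Dθ : Derivation k R₀ ((Fin 3 → R₀) ⧸ S) := Derivation.mk' θ fun a b => by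
    obtain ⟨a, rfl⟩ := Ideal.Quotient.mk_surjective a
    obtain ⟨b, rfl⟩ := Ideal.Quotient.mk_surjective b
    show θ (q a * q b) = q a • θ (q b) + q b • θ (q a)
    rw [← map_mul, hθ, hθ, hθ, ← map_smul, ← map_smul, ← map_add]
    congr 1
    funext i
    simp
  have hex : Function.Exact ι π := by
    intro z
    refine ⟨fun hz => ?_, ?_⟩
    · have h1 : Dθ.liftKaehlerDifferential (π z) = S.mkQ z := by
        simp only [π, Fintype.linearCombination_apply, map_sum, map_smul, Derivation.liftKaehlerDifferential_comp_D]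
        show ∑ i, z i • θ (q (MvPowerSeries.X i)) = _
        simp only [hθ, ← map_smul, ← map_sum]
        congr 1
        funext j
        simp [MvPowerSeries.pderiv_X, Pi.single_apply, apply_ite q]
      rw [hz, map_zero, eq_comm, Submodule.mkQ_apply, Submodule.Quotient.mk_eq_zero] at h1
      exact h1
    · rintro ⟨r, rfl⟩
      have hv : π v = 0 := by
        show π (fun i => q (MvPowerSeries.pderiv k i f)) = 0
        rw [← hD, show q f = 0 from Ideal.Quotient.eq_zero_iff_mem.2 (Ideal.mem_span_singleton_self f), map_zero]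
      simp [ι, hv]
  have hιi : Function.Injective ι := by
    rw [injective_iff_map_eq_zero]
    intro r hr
    exact hreg r fun i => by simpa [ι] using congrFun hr i
  have hS := GrothLib.TFCurv11.sesC_shortExact ι π hιi hex hπs
  haveI : Projective (GrothLib.TFCurv11.sesC ι π hex).X₂ :=
    ModuleCat.projective_of_free (Module.Free.chooseBasis R₀ (Fin 3 → R₀))
  haveI : Projective (GrothLib.TFCurv11.sesC ι π hex).X₁ :=
    ModuleCat.projective_of_free (Module.Free.chooseBasis R₀ R₀)
  refine ⟨⟨fun a b => ?_⟩, ?_⟩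
  · have key : ∀ x : Abelian.Ext (GrothLib.TFCurv11.sesC ι π hex).X₃ (ModuleCat.of R₀ R₀) 2, x = 0 := fun x => by
      obtain ⟨x₁, hx₁⟩ := Abelian.Ext.contravariant_sequence_exact₃ hS (ModuleCat.of R₀ R₀) x
        (Abelian.Ext.eq_zero_of_projective _) (n₀ := 1) (by omega)
      rw [← hx₁, Abelian.Ext.eq_zero_of_projective x₁, Abelian.Ext.comp_zero]
    exact (key a).trans (key b).symm
  let e : Abelian.Ext (GrothLib.TFCurv11.sesC ι π hex).X₃ (ModuleCat.of R₀ R₀) 1 := hS.extClass
  let L : R₀ →ₗ[R₀] Abelian.Ext (GrothLib.TFCurv11.sesC ι π hex).X₃ (ModuleCat.of R₀ R₀) 1 :=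
    LinearMap.toSpanSingleton R₀ _ e
  have hL : ∀ r : R₀, L r = hS.extClass.comp (Abelian.Ext.mk₀ (r • 𝟙 (GrothLib.TFCurv11.sesC ι π hex).X₁)) (add_zero 1) := by
    intro r
    have h1 := Abelian.Ext.mk₀_smul (C := ModuleCat R₀) (R := R₀) r (𝟙 (GrothLib.TFCurv11.sesC ι π hex).X₁)
    rw [h1, Abelian.Ext.comp_smul, Abelian.Ext.comp_mk₀_id]
    rfl
  have hLs : Function.Surjective L := by
    intro x
    obtain ⟨x₁, hx₁⟩ := Abelian.Ext.contravariant_sequence_exact₃ hS (ModuleCat.of R₀ R₀) x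
      (Abelian.Ext.eq_zero_of_projective _) (n₀ := 0) (by omega)
    obtain ⟨φ, rfl⟩ := Abelian.Ext.homEquiv₀.symm.surjective x₁
    refine ⟨φ.hom (1 : R₀), ?_⟩
    rw [hL, ← hx₁]
    congr 2
    refine ModuleCat.hom_ext (LinearMap.ext_ring ?_)
    show (φ.hom (1 : R₀)) • (1 : R₀) = φ.hom (1 : R₀)
    rw [smul_eq_mul, mul_one]
  have hLk : LinearMap.ker L = Ideal.span (Set.range v) := by
    ext r
    rw [LinearMap.mem_ker, hL]
    constructor
    · intro hr
      obtain ⟨x₂, hx₂⟩ := Abelian.Ext.contravariant_sequence_exact₁ hS (ModuleCat.of R₀ R₀)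
        (Abelian.Ext.mk₀ (r • 𝟙 (GrothLib.TFCurv11.sesC ι π hex).X₁)) (n₁ := 1) (by omega) hr
      obtain ⟨ψ, rfl⟩ := Abelian.Ext.homEquiv₀.symm.surjective x₂
      have h2 : Abelian.Ext.mk₀ ((GrothLib.TFCurv11.sesC ι π hex).f ≫ ψ) =
          Abelian.Ext.mk₀ (r • 𝟙 (GrothLib.TFCurv11.sesC ι π hex).X₁) := by
        rw [← hx₂, ← Abelian.Ext.mk₀_comp_mk₀]; rfl
      have h3 := congrArg (fun (g : (GrothLib.TFCurv11.sesC ι π hex).X₁ ⟶ ModuleCat.of R₀ R₀) => g.hom (1 : R₀))
        (Abelian.Ext.mk₀_bijective _ _ |>.injective h2)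
      have h4 : ψ.hom v = r := by
        have h5 : ψ.hom (ι 1) = r • (1 : R₀) := h3
        simpa [ι] using h5
      have h6 : ψ.hom v = ∑ i, ψ.hom (v i • fun j => if i = j then 1 else 0) := by
        conv_lhs => rw [pi_eq_sum_univ v]
        exact map_sum _ _ _
      rw [← h4, h6]
      refine Ideal.sum_mem _ fun i _ => ?_
      rw [map_smul, smul_eq_mul]
      exact Ideal.mul_mem_right _ (Ideal.span (Set.range v)) (Ideal.subset_span ⟨i, rfl⟩)
    · intro hr
      obtain ⟨c, hc⟩ := (Submodule.mem_span_range_iff_exists_fun _).1 hr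
      have heq : r • 𝟙 (GrothLib.TFCurv11.sesC ι π hex).X₁ =
          (GrothLib.TFCurv11.sesC ι π hex).f ≫ ModuleCat.ofHom (Fintype.linearCombination R₀ c) := by
        refine ModuleCat.hom_ext (LinearMap.ext_ring ?_)
        show r • (1 : R₀) = Fintype.linearCombination R₀ c (ι 1)
        simp [ι, Fintype.linearCombination_apply, ← hc, mul_comm]
      rw [heq, ← Abelian.Ext.mk₀_comp_mk₀, ← Abelian.Ext.comp_assoc_of_second_deg_zero,
        ShortComplex.ShortExact.extClass_comp, Abelian.Ext.zero_comp]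
  exact ⟨((Submodule.quotEquivOfEq _ _ hLk.symm).trans (L.quotKerEquivOfSurjective hLs)).symm⟩


end Groth.Agent.S16050
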