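import Groth.Statements.S16051
import Mathlib

set_option autoImplicit false
universe u
open LieAlg

namespace Groth.Agent.S16051

/-- Let O be a discrete valuation ring of characteristic zero with residue field of characteristic p,
let 1 ≤ n with n + 1 < p (type A_n with p above the Coxeter number), and let x ∈ sl_{n+1}(O) be the
standard subregular nilpotent element, the matrix with entries x_{i,i+1} = 1 for i + 1 < n and 0
elsewhere (one Jordan block of size n and one of size 1; in the source this is the sum of the root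
vectors of the first n − 1 simple roots, completed there to an sl₂-triple). Then the quotient of
sl_{n+1}(O) by the image of ad_x is a free O-module of rank n + 2. (The source works over a complete
such ring with algebraically closed residue field; completeness and algebraic closedness are not
used for this statement.) -/
theorem result (O : Type u) [CommRing O] [IsDomain O] [IsDiscreteValuationRing O]
    [CharZero O] (p : ℕ) [Fact p.Prime] [CharP (IsLocalRing.ResidueField O) p]
    (n : ℕ) (hn : 1 ≤ n) (hp : n + 1 < p)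
    (x : LieAlgebra.SpecialLinear.sl (Fin (n + 1)) O)
    (hx : ∀ i j : Fin (n + 1), (x : Matrix (Fin (n + 1)) (Fin (n + 1)) O) i j =
      if j.val = i.val + 1 ∧ j.val < n then 1 else 0) :
    Module.Free O (LieAlgebra.SpecialLinear.sl (Fin (n + 1)) O ⧸
        LinearMap.range (LieAlgebra.ad O (LieAlgebra.SpecialLinear.sl (Fin (n + 1)) O) x)) ∧
      Module.finrank O (LieAlgebra.SpecialLinear.sl (Fin (n + 1)) O ⧸
        LinearMap.range (LieAlgebra.ad O (LieAlgebra.SpecialLinear.sl (Fin (n + 1)) O) x)) = n + 2 := by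
  classical
  let sl := LieAlgebra.SpecialLinear.sl (Fin (n + 1)) O
  -- entries extended by zero
  let z : Matrix (Fin (n + 1)) (Fin (n + 1)) O → ℕ → ℕ → O := fun Z a b =>
    if h : a ≤ n ∧ b ≤ n then Z ⟨a, by omega⟩ ⟨b, by omega⟩ else 0
  have zadd : ∀ Z Z' a b, z (Z + Z') a b = z Z a b + z Z' a b := fun Z Z' a b => by
    simp only [z]; split_ifs <;> simp
  have zsmul : ∀ (c : O) Z a b, z (c • Z) a b = c * z Z a b := fun c Z a b => by
    simp only [z]; split_ifs <;> simp
  have zval : ∀ Z (i j : Fin (n + 1)), z Z i j = Z i j := fun Z i j => by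
    simp only [z]; rw [dif_pos ⟨by omega, by omega⟩]
  have hcomm : ∀ Y : sl, ∀ i j : Fin (n + 1),
      ((⁅x, Y⁆ : sl) : Matrix (Fin (n + 1)) (Fin (n + 1)) O) i j =
        (if (i : ℕ) + 1 < n then z Y ((i : ℕ) + 1) j else 0) -
          (if 1 ≤ (j : ℕ) ∧ (j : ℕ) < n then z Y i ((j : ℕ) - 1) else 0) := fun Y i j => by
    rw [show ((⁅x, Y⁆ : sl) : Matrix (Fin (n + 1)) (Fin (n + 1)) O) = x.1 * Y.1 - Y.1 * x.1 from
      LieAlgebra.SpecialLinear.sl_bracket _ O x Y, Matrix.sub_apply, Matrix.mul_apply, Matrix.mul_apply]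
    congr 1
    · simp only [hx]
      split_ifs with h
      · rw [Finset.sum_eq_single (⟨(i : ℕ) + 1, by omega⟩ : Fin (n + 1))]
        · rw [if_pos ⟨rfl, h⟩, one_mul, ← zval (Y : Matrix (Fin (n + 1)) (Fin (n + 1)) O) _ _]
        · intro b _ hb
          rw [if_neg (fun hh => hb (Fin.ext hh.1)), zero_mul]
        · simp
      · exact Finset.sum_eq_zero fun b _ => by rw [if_neg (fun hh => h (by omega)), zero_mul]
    · simp only [hx]
      split_ifs with h
      · rw [Finset.sum_eq_single (⟨(j : ℕ) - 1, by omega⟩ : Fin (n + 1))]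
        · rw [if_pos ⟨by simp only; omega, h.2⟩, mul_one, ← zval (Y : Matrix (Fin (n + 1)) (Fin (n + 1)) O) _ _]
        · intro b _ hb
          rw [if_neg (fun hh => hb (Fin.ext (by simp only; omega))), mul_zero]
        · simp
      · exact Finset.sum_eq_zero fun b _ => by rw [if_neg (fun hh => h ⟨by omega, hh.2⟩), mul_zero]
  have hz : ∀ (Y : sl) (a b : ℕ), a ≤ n → b ≤ n → z ((⁅x, Y⁆ : sl) : Matrix _ _ O) a b =
      (if a + 1 < n then z Y (a + 1) b else 0) - (if 1 ≤ b ∧ b < n then z Y a (b - 1) else 0) := fun Y a b ha hb => by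
    have := hcomm Y ⟨a, by omega⟩ ⟨b, by omega⟩
    rw [← zval (((⁅x, Y⁆ : sl)) : Matrix (Fin (n + 1)) (Fin (n + 1)) O) _ _] at this
    exact this
  let Φ : sl →ₗ[O] (Fin n → O) × O × O :=
    { toFun := fun Z => (fun e => ∑ b ∈ Finset.range (n - e), z Z (b + e) b, z Z n 0, z Z (n - 1) n)
      map_add' := fun Z Z' => by
        refine Prod.ext (funext fun e => ?_) (Prod.ext (zadd _ _ _ _) (zadd _ _ _ _))
        show ∑ b ∈ Finset.range (n - e), z (Z.1 + Z'.1) (b + e) b =
          ∑ b ∈ Finset.range (n - e), z Z.1 (b + e) b + ∑ b ∈ Finset.range (n - e), z Z'.1 (b + e) b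
        simp only [zadd, Finset.sum_add_distrib]
      map_smul' := fun c Z => by
        refine Prod.ext (funext fun e => ?_) (Prod.ext (zsmul _ _ _ _) (zsmul _ _ _ _))
        show ∑ b ∈ Finset.range (n - e), z (c • Z.1) (b + e) b = c * ∑ b ∈ Finset.range (n - e), z Z.1 (b + e) b
        simp only [zsmul, Finset.mul_sum] }
  have hrange : LinearMap.range (LieAlgebra.ad O sl x) = LinearMap.ker Φ := by
    apply le_antisymm
    · rintro _ ⟨Y, rfl⟩
      rw [LinearMap.mem_ker, LieAlgebra.ad_apply]
      refine Prod.ext (funext fun e => ?_) (Prod.ext ?_ ?_)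
      · show ∑ b ∈ Finset.range (n - e), z ((⁅x, Y⁆ : sl) : Matrix _ _ O) (b + e) b = 0
        obtain ⟨m, hm⟩ : ∃ m, n - (e : ℕ) = m + 1 := ⟨n - e - 1, by omega⟩
        rw [hm, Finset.sum_congr rfl fun b hb => hz Y (b + e) b (by have := Finset.mem_range.1 hb; omega)
          (by have := Finset.mem_range.1 hb; omega), Finset.sum_sub_distrib, sub_eq_zero,
          Finset.sum_range_succ, Finset.sum_range_succ' _ m, if_neg (by omega), if_neg (by omega), add_zero, add_zero]
        refine Finset.sum_congr rfl fun b hb => ?_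
        have := Finset.mem_range.1 hb
        rw [if_pos (by omega), if_pos ⟨by omega, by omega⟩, Nat.add_sub_cancel, Nat.add_right_comm]
      · show z ((⁅x, Y⁆ : sl) : Matrix _ _ O) n 0 = 0
        rw [hz Y n 0 le_rfl (by omega), if_neg (by omega), if_neg (by omega), sub_zero]
      · show z ((⁅x, Y⁆ : sl) : Matrix _ _ O) (n - 1) n = 0
        rw [hz Y (n - 1) n (by omega) le_rfl, if_neg (by omega), if_neg (by omega), sub_zero]
    · intro Z hZ
      rw [LinearMap.mem_ker] at hZ
      have hL : ∀ e : Fin n, ∑ b ∈ Finset.range (n - e), z Z (b + e) b = 0 := fun e => congrFun (congrArg Prod.fst hZ) e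
      have hu : z Z n 0 = 0 := congrArg (fun q => q.2.1) hZ
      have hv : z Z (n - 1) n = 0 := congrArg (fun q => q.2.2) hZ
      let G : ℕ → ℕ → O := fun a => Nat.rec (fun _ => 0) (fun a G b => z Z a b + (if b = 0 then 0 else G (b - 1))) a
      have hG : ∀ a b, G (a + 1) b = z Z a b + (if b = 0 then 0 else G a (b - 1)) := fun a b => rfl
      have hGsum : ∀ b a, b < a → G a b = ∑ t ∈ Finset.range (b + 1), z Z (a - (b + 1) + t) t := fun b => by
        induction b with
        | zero =>
          intro a ha
          obtain ⟨a, rfl⟩ : ∃ a', a = a' + 1 := ⟨a - 1, by omega⟩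
          rw [hG, if_pos rfl, add_zero, Finset.sum_range_one]
          simp
        | succ b ih =>
          intro a ha
          obtain ⟨a, rfl⟩ : ∃ a', a = a' + 1 := ⟨a - 1, by omega⟩
          rw [hG, if_neg (by omega), Nat.add_sub_cancel, ih a (by omega), Finset.sum_range_succ _ (b + 1), add_comm,
            show a + 1 - (b + 1 + 1) = a - (b + 1) by omega]
          congr 2
          omega
      have hGn : ∀ b < n, G n b = 0 := fun b hb => by
        rw [hGsum b n hb]
        have := hL ⟨n - (b + 1), by omega⟩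
        simp only at this
        rw [show n - (n - (b + 1)) = b + 1 by omega] at this
        rw [← this]
        exact Finset.sum_congr rfl fun t _ => by rw [add_comm t]
      have hnn : z Z n n = 0 := by
        have htr : ∑ i : Fin (n + 1), z Z i i = 0 := by
          have h0 : Matrix.trace (Z : Matrix (Fin (n + 1)) (Fin (n + 1)) O) = 0 := Z.2
          simpa [Matrix.trace, zval] using h0
        rw [Fin.sum_univ_eq_sum_range (fun i => z Z i i) (n + 1), Finset.sum_range_succ] at htr
        have := hL ⟨0, by omega⟩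
        simp only [Nat.sub_zero, Nat.add_zero] at this
        rwa [this, zero_add] at htr
      let Y₀ : Matrix (Fin (n + 1)) (Fin (n + 1)) O := fun i j =>
        if (j : ℕ) < n then (if (i : ℕ) < n then G i j else -z Z n ((j : ℕ) + 1))
        else (if 1 ≤ (i : ℕ) ∧ (i : ℕ) < n then z Z ((i : ℕ) - 1) n else 0)
      have hunit : IsUnit ((n + 1 : ℕ) : O) := by
        by_contra h
        have h1 := (IsLocalRing.mem_maximalIdeal _).2 h
        rw [← IsLocalRing.residue_eq_zero_iff, map_natCast, CharP.cast_eq_zero_iff (IsLocalRing.ResidueField O) p] at h1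
        exact absurd (Nat.le_of_dvd (by omega) h1) (by omega)
      obtain ⟨c, hc⟩ := hunit.exists_left_inv
      let Y₁ : Matrix (Fin (n + 1)) (Fin (n + 1)) O := Y₀ - (c * Matrix.trace Y₀) • 1
      have hY₁ : Y₁ ∈ sl := by
        show Matrix.trace Y₁ = 0
        rw [Matrix.trace_sub, Matrix.trace_smul, Matrix.trace_one, smul_eq_mul, Fintype.card_fin,
          mul_right_comm, hc, one_mul, sub_self]
      refine ⟨⟨Y₁, hY₁⟩, Subtype.ext (Matrix.ext fun i j => ?_)⟩
      rw [LieAlgebra.ad_apply, hcomm]
      have hone : ∀ a b : ℕ, a ≤ n → b ≤ n →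
          z Y₁ a b = z Y₀ a b - (if a = b then c * Matrix.trace Y₀ else 0) := fun a b ha hb => by
        simp only [z, dif_pos (And.intro ha hb), Y₁, Matrix.sub_apply, Matrix.smul_apply, Matrix.one_apply, Fin.mk.injEq,
          smul_eq_mul, mul_ite, mul_one, mul_zero]
      have hY₀ : ∀ a b : ℕ, a ≤ n → b ≤ n → z Y₀ a b =
          if b < n then (if a < n then G a b else -z Z n (b + 1)) else (if 1 ≤ a ∧ a < n then z Z (a - 1) n else 0) :=
        fun a b ha hb => by simp only [z, dif_pos (And.intro ha hb), Y₀]
      rw [← zval (Z : Matrix (Fin (n + 1)) (Fin (n + 1)) O) i j]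
      obtain ⟨a, ha⟩ := i
      obtain ⟨b, hb⟩ := j
      simp only
      rcases Nat.lt_or_ge (a + 1) n with h1 | h1
      · rw [if_pos h1, hone _ _ (by omega) (by omega), hY₀ _ _ (by omega) (by omega)]
        rcases Nat.lt_or_ge b n with h2 | h2
        · rw [if_pos h2, if_pos h1, hG]
          by_cases hb0 : b = 0
          · subst hb0
            rw [if_pos rfl, if_neg (show ¬ (1 ≤ 0 ∧ 0 < n) by omega), if_neg (show ¬ a + 1 = 0 by omega)]
            ring
          · rw [if_neg hb0, if_pos (show 1 ≤ b ∧ b < n from ⟨by omega, h2⟩), hone _ _ (by omega) (by omega),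
              hY₀ _ _ (by omega) (by omega), if_pos (show b - 1 < n by omega), if_pos (show a < n by omega)]
            by_cases hab : a + 1 = b
            · rw [if_pos hab, if_pos (show a = b - 1 by omega)]; ring
            · rw [if_neg hab, if_neg (show ¬ a = b - 1 by omega)]; ring
        · obtain rfl : b = n := by omega
          rw [if_neg (lt_irrefl _), if_pos (show 1 ≤ a + 1 ∧ a + 1 < b from ⟨by omega, h1⟩), Nat.add_sub_cancel,
            if_neg (show ¬ (1 ≤ b ∧ b < b) by omega), if_neg (show ¬ a + 1 = b by omega), sub_zero, sub_zero]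
      · rw [if_neg (by omega : ¬ a + 1 < n), zero_sub]
        by_cases hcol : 1 ≤ b ∧ b < n
        · rw [if_pos hcol, hone _ _ (by omega) (by omega), hY₀ _ _ (by omega) (by omega), if_pos (show b - 1 < n by omega)]
          by_cases han : a < n
          · obtain rfl : a + 1 = n := by omega
            have := hGn b hcol.2
            rw [hG, if_neg (show ¬ b = 0 by omega)] at this
            rw [if_pos han, if_neg (show ¬ a = b - 1 by omega), sub_zero]
            linear_combination -this
          · obtain rfl : a = n := by omega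
            rw [if_neg han, if_neg (show ¬ a = b - 1 by omega), Nat.sub_add_cancel hcol.1, sub_zero, neg_neg]
        · rw [if_neg hcol, neg_zero]
          by_cases han : a < n
          · obtain rfl : a + 1 = n := by omega
            rcases (show b = 0 ∨ b = a + 1 by omega) with rfl | rfl
            · have := hGn 0 (by omega)
              rw [hG, if_pos rfl, add_zero] at this
              exact this.symm
            · simpa using hv.symm
          · obtain rfl : a = n := by omega
            rcases (show b = 0 ∨ b = a by omega) with rfl | rfl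
            · exact hu.symm
            · exact hnn.symm
  have hsurj : Function.Surjective Φ := by
    rintro ⟨l, u, v⟩
    let Z₀ : Matrix (Fin (n + 1)) (Fin (n + 1)) O := fun i j =>
      if h : (i : ℕ) < n ∧ (j : ℕ) = 0 then l ⟨i, h.1⟩
      else if (i : ℕ) = n ∧ (j : ℕ) = 0 then u
      else if (i : ℕ) + 1 = n ∧ (j : ℕ) = n then v
      else if (i : ℕ) = n ∧ (j : ℕ) = n then -l ⟨0, by omega⟩ else 0
    have hd : ∀ i : Fin (n + 1), Z₀ i i =
        if (i : ℕ) = 0 then l ⟨0, by omega⟩ else if (i : ℕ) = n then -l ⟨0, by omega⟩ else 0 := fun i => by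
      simp only [Z₀]
      split_ifs <;> first | rfl | omega | (congr 1; exact Fin.ext (by simp only; omega))
    have hZ₀ : Z₀ ∈ sl := by
      show Matrix.trace Z₀ = 0
      rw [Matrix.trace, Finset.sum_eq_add_of_mem (0 : Fin (n + 1)) (Fin.last n) (Finset.mem_univ _) (Finset.mem_univ _)
        (fun h => by simp [Fin.ext_iff] at h; omega)]
      · rw [Matrix.diag_apply, Matrix.diag_apply, hd, hd, if_pos (by simp), if_neg (by simp only [Fin.val_last]; omega), if_pos (Fin.val_last n), add_neg_cancel]
      · intro i _ hi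
        rw [Matrix.diag_apply, hd, if_neg (fun h => hi.1 (Fin.ext (by simp [h]))), if_neg (fun h => hi.2 (Fin.ext (by simp [h])))]
    refine ⟨⟨Z₀, hZ₀⟩, Prod.ext (funext fun e => ?_) (Prod.ext ?_ ?_)⟩
    · show ∑ b ∈ Finset.range (n - e), z Z₀ (b + e) b = l e
      rw [Finset.sum_eq_single 0]
      · simp only [z, Z₀]
        rw [dif_pos ⟨by omega, by omega⟩, dif_pos ⟨by omega, trivial⟩]
        congr 1; exact Fin.ext (by simp)
      · intro b hb hb0
        rw [Finset.mem_range] at hb
        simp only [z, Z₀]
        rw [dif_pos ⟨by omega, by omega⟩, dif_neg (by omega), if_neg (by omega), if_neg (by omega), if_neg (by omega)]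
      · intro h; simp at h
    · show z Z₀ n 0 = u
      simp only [z, Z₀]
      rw [dif_pos ⟨le_rfl, by omega⟩, dif_neg (by omega), if_pos ⟨trivial, trivial⟩]
    · show z Z₀ (n - 1) n = v
      simp only [z, Z₀]
      rw [dif_pos ⟨by omega, le_rfl⟩, dif_neg (by omega), if_neg (by omega), if_pos ⟨by omega, trivial⟩]
  let eq : (sl ⧸ LinearMap.range (LieAlgebra.ad O sl x)) ≃ₗ[O] (Fin n → O) × O × O :=
    (Submodule.quotEquivOfEq _ _ hrange).trans (Φ.quotKerEquivOfSurjective hsurj)
  refine ⟨Module.Free.of_equiv eq.symm, ?_⟩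
  rw [eq.finrank_eq]
  simp [Module.finrank_prod]

end Groth.Agent.S16051
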