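import Groth.Statements.S16052
import Groth.Agent.Lib.Tame16.Basic
import Mathlib.FieldTheory.KummerExtension
import Mathlib.RingTheory.PrincipalIdealDomain
import Mathlib

set_option autoImplicit false
universe u
open Polynomial
open CAlg

namespace Groth.Agent.S16052

/-- Let O be a henselian discrete valuation ring of characteristic zero with algebraically closed
residue field of characteristic p, ϖ a uniformizer and K the fraction field. Let r_1, …, r_m ≥ 1 and
b_1, …, b_m ≥ 1 be integers with gcd(r_i, b_i) = 1 for each i and r_1 + ⋯ + r_m < p, and let v_1, …,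
v_m be units of O. Then the splitting field over K of the polynomial ∏_i (y^{r_i} − v_i ϖ^{b_i}) has
degree lcm(r_1, …, r_m) over K. (In the source O is complete and this polynomial is the y-part of a
deformation y ↦ x² + z² + f(y) of an A_n-singularity with n + 1 = Σ r_i; the proposition goes on to
identify the monodromy element, which is not stated here.) -/
theorem result (O : Type u) [CommRing O] [IsDomain O]
    [IsDiscreteValuationRing O] [HenselianLocalRing O] [CharZero O] [IsAlgClosed (IsLocalRing.ResidueField O)]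
    (p : ℕ) [Fact p.Prime] [CharP (IsLocalRing.ResidueField O) p]
    (ϖ : O) (hϖ : Irreducible ϖ) (m : ℕ) (r b : Fin m → ℕ) (v : Fin m → Oˣ)
    (hr : ∀ i, 1 ≤ r i) (hb : ∀ i, 1 ≤ b i) (hrb : ∀ i, Nat.Coprime (r i) (b i)) (hp : ∑ i, r i < p) :
    Module.finrank (FractionRing O)
        (∏ i, (X ^ (r i) - C (algebraMap O (FractionRing O) ((v i : O) * ϖ ^ (b i))))).SplittingField =
      Finset.univ.lcm r := by
  classical
  let K := FractionRing O
  let N := Finset.univ.lcm r
  have hinjK : Function.Injective (algebraMap O K) := IsFractionRing.injective O K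
  have hN0 : N ≠ 0 := fun h => by
    rw [Finset.lcm_eq_zero_iff] at h
    simp only [Set.mem_image, Finset.mem_coe, Finset.mem_univ, true_and] at h
    obtain ⟨i, hi⟩ := h
    have := hr i
    omega
  have hP : Irreducible ((X ^ N - C (algebraMap O K ϖ)) : K[X]) := GrothLib.Tame16.irreducible_X_pow_sub_C hϖ hN0 K
  haveI : Fact (Irreducible (X ^ N - C (algebraMap O K ϖ) : K[X])) := ⟨hP⟩
  let L := AdjoinRoot (X ^ N - C (algebraMap O K ϖ) : K[X])
  haveI : FiniteDimensional K L := (AdjoinRoot.powerBasis hP.ne_zero).finite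
  have hLdeg : Module.finrank K L = N := by
    rw [(AdjoinRoot.powerBasis hP.ne_zero).finrank, AdjoinRoot.powerBasis_dim, natDegree_X_pow_sub_C]
  let ρ : O →+* L := (algebraMap K L).comp (algebraMap O K)
  let z : L := AdjoinRoot.root (X ^ N - C (algebraMap O K ϖ) : K[X])
  have hz : z ^ N = ρ ϖ := by
    have := AdjoinRoot.eval₂_root (X ^ N - C (algebraMap O K ϖ) : K[X])
    rw [eval₂_sub, eval₂_X_pow, eval₂_C, sub_eq_zero] at this
    exact this
  have hz0 : z ≠ 0 := fun h => by
    rw [h, zero_pow hN0] at hz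
    exact hϖ.ne_zero (hinjK (((algebraMap K L).injective (hz.symm.trans (map_zero _).symm)).trans (map_zero _).symm))
  have hrk : ∀ i, (r i : IsLocalRing.ResidueField O) ≠ 0 := fun i h => by
    rw [CharP.cast_eq_zero_iff _ p] at h
    have h1 := Nat.le_of_dvd (hr i) h
    have h2 : r i ≤ ∑ j, r j := Finset.single_le_sum (fun j _ => Nat.zero_le _) (Finset.mem_univ i)
    omega
  choose ζ hζ using fun i => GrothLib.Tame16.exists_primitiveRoot O (hrk i)
  choose w hw using fun i => GrothLib.Tame16.exists_pow_eq (v i).isUnit (hrk i)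
  have hw0 : ∀ i, w i ≠ 0 := fun i h => (v i).ne_zero (by rw [← hw i, h, zero_pow (Nat.one_le_iff_ne_zero.1 (hr i))])
  choose s hs using fun i => (Finset.dvd_lcm (Finset.mem_univ i) : r i ∣ N)
  let y : Fin m → L := fun i => ρ (w i) * z ^ (s i * b i)
  have hy : ∀ i, y i ^ r i = algebraMap K L (algebraMap O K ((v i : O) * ϖ ^ b i)) := fun i => by
    show (ρ (w i) * z ^ (s i * b i)) ^ r i = ρ ((v i : O) * ϖ ^ b i)
    rw [mul_pow, ← map_pow, hw, ← pow_mul, show s i * b i * r i = N * b i by show _ = Finset.univ.lcm r * b i; rw [hs i]; ring, pow_mul, hz, map_mul, map_pow]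
  let Q : K[X] := ∏ i, (X ^ (r i) - C (algebraMap O K ((v i : O) * ϖ ^ (b i))))
  have hsplit : ∀ i, ((X ^ r i - C (algebraMap O K ((v i : O) * ϖ ^ b i)) : K[X]).map (algebraMap K L)).Splits := fun i => by
    rw [Polynomial.map_sub, Polynomial.map_pow, Polynomial.map_X, Polynomial.map_C]
    exact X_pow_sub_C_splits_of_isPrimitiveRoot
      (((hζ i).map_of_injective hinjK).map_of_injective (algebraMap K L).injective) (hy i)
  have hQ0 : Q ≠ 0 := Finset.prod_ne_zero_iff.2 fun i _ => X_pow_sub_C_ne_zero (hr i) _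
  haveI : Q.IsSplittingField K L := by
    refine ⟨?_, ?_⟩
    · rw [Polynomial.map_prod]
      exact Splits.prod fun i _ => hsplit i
    rw [← IntermediateField.adjoin_toSubalgebra_of_isAlgebraic (fun x _ => Algebra.IsAlgebraic.isAlgebraic x)]
    let M : IntermediateField K L := IntermediateField.adjoin K (Q.rootSet L)
    have hρM : ∀ a, ρ a ∈ M := fun a => M.algebraMap_mem _
    have hyM : ∀ i, y i ∈ M := fun i => IntermediateField.subset_adjoin _ _ (by
      rw [mem_rootSet]
      refine ⟨hQ0, ?_⟩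
      rw [map_prod]
      exact Finset.prod_eq_zero (Finset.mem_univ i) (by simp [hy i]))
    let G : AddSubgroup ℤ :=
      { carrier := {n | z ^ n ∈ M}
        zero_mem' := by simp [M.one_mem]
        add_mem' := fun {a b} ha hb => by
          show z ^ (a + b) ∈ M
          rw [zpow_add₀ hz0]; exact M.mul_mem ha hb
        neg_mem' := fun {a} ha => by
          show z ^ (-a) ∈ M
          rw [zpow_neg]; exact M.inv_mem ha }
    obtain ⟨d, hd⟩ := Int.subgroup_cyclic G
    have hmem : ∀ n : ℕ, z ^ n ∈ M → d ∣ (n : ℤ) := fun n hn => by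
      have : (n : ℤ) ∈ G := show z ^ ((n : ℕ) : ℤ) ∈ M by rw [zpow_natCast]; exact hn
      rw [hd, AddSubgroup.mem_closure_singleton] at this
      obtain ⟨c, hc⟩ := this
      exact ⟨c, by rw [← hc]; simp [mul_comm]⟩
    have hdN : d.natAbs ∣ N := Int.natCast_dvd_natCast.1 (Int.natAbs_dvd.2 (hmem N (hz ▸ hρM ϖ)))
    have hds : ∀ i, d.natAbs ∣ s i := fun i => by
      have h1 : z ^ (s i * b i) ∈ M := by
        have := M.mul_mem (hρM (w i)) (M.inv_mem (M.inv_mem (hyM i)))
        have e : z ^ (s i * b i) = (ρ (w i))⁻¹ * y i := by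
          rw [← mul_assoc, inv_mul_cancel₀, one_mul]
          show algebraMap K L (algebraMap O K (w i)) ≠ 0
          exact (_root_.map_ne_zero _).2 ((map_ne_zero_iff _ hinjK).2 (hw0 i))
        rw [e]
        exact M.mul_mem (M.inv_mem (hρM _)) (hyM i)
      have h2 : z ^ (s i * r i) ∈ M := by rw [mul_comm, ← hs i, hz]; exact hρM ϖ
      have g1 := Int.natCast_dvd_natCast.1 (Int.natAbs_dvd.2 (hmem _ h1))
      have g2 := Int.natCast_dvd_natCast.1 (Int.natAbs_dvd.2 (hmem _ h2))
      have := Nat.dvd_gcd g1 g2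
      rwa [Nat.gcd_mul_left, (Nat.Coprime.symm (hrb i)).gcd_eq_one, mul_one] at this
    obtain ⟨c, hc⟩ := hdN
    have hNc : N ∣ c := Finset.lcm_dvd fun i _ => by
      obtain ⟨t, ht⟩ := hds i
      refine ⟨t, Nat.eq_of_mul_eq_mul_left (Nat.pos_of_ne_zero (fun (h : d.natAbs = 0) => hN0 (by rw [hc, h, zero_mul]))) ?_⟩
      rw [← hc]
      show Finset.univ.lcm r = _
      rw [hs i, ht]; ring
    have hd1 : d.natAbs = 1 := by
      have hcpos : c ≠ 0 := fun h => hN0 (by rw [hc, h, mul_zero])
      have h1 : N ≤ c := Nat.le_of_dvd (Nat.pos_of_ne_zero hcpos) hNc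
      have h2 : d.natAbs ≠ 0 := fun h => hN0 (by rw [hc, h, zero_mul])
      by_contra hne
      have : 2 * c ≤ d.natAbs * c := Nat.mul_le_mul_right c (by omega)
      omega
    have h1G : (1 : ℤ) ∈ G := by
      rw [hd, AddSubgroup.mem_closure_singleton]
      rcases Int.natAbs_eq d with h | h <;> rw [hd1] at h
      · exact ⟨1, by simp [h]⟩
      · exact ⟨-1, by simp [h]⟩
    have hzM : z ∈ M := by
      have h' : z ^ (1 : ℤ) ∈ M := h1G
      rwa [zpow_one] at h'
    refine top_le_iff.1 ?_
    rw [← AdjoinRoot.adjoinRoot_eq_top]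
    exact Algebra.adjoin_le (Set.singleton_subset_iff.2 hzM)
  exact ((IsSplittingField.algEquiv L Q).toLinearEquiv.finrank_eq).symm.trans hLdeg


end Groth.Agent.S16052
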