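import Groth.Statements.S16053
import Groth.Agent.Lib.Tame16.Basic
import Mathlib.FieldTheory.KummerExtension
import Mathlib.FieldTheory.Galois.Basic

set_option autoImplicit false
universe u
open Polynomial
open CAlg

namespace Groth.Agent.S16053

/-- Let O be a henselian discrete valuation ring of characteristic zero with algebraically closed
residue field of characteristic p and fraction field K, and let f ∈ O[y] be a monic polynomial of
degree e with 1 ≤ e < p which is Eisenstein at the maximal ideal of O. Then the splitting field of f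
over K has degree e over K and the Galois group of f over K is cyclic. (In the source O is complete,
e = n + 1 and f is the y-part y^{n+1} + u_n ϖ^{a_n} y^{n−1} + ⋯ + u_1 ϖ of an A_n-degeneration
meeting the discriminant transversally; the corollary's conclusion that monodromy acts through a
Coxeter element is not stated here.) -/
theorem result (O : Type u) [CommRing O] [IsDomain O]
    [IsDiscreteValuationRing O] [HenselianLocalRing O] [CharZero O] [IsAlgClosed (IsLocalRing.ResidueField O)]
    (p : ℕ) [Fact p.Prime] [CharP (IsLocalRing.ResidueField O) p]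
    (f : O[X]) (hmon : f.Monic) (e : ℕ) (hdeg : f.natDegree = e) (he : 1 ≤ e) (hep : e < p)
    (hf : f.IsEisensteinAt (IsLocalRing.maximalIdeal O)) :
    Module.finrank (FractionRing O) (f.map (algebraMap O (FractionRing O))).SplittingField = e ∧
      IsCyclic (f.map (algebraMap O (FractionRing O))).Gal := by
  classical
  let K := FractionRing O
  let fK : K[X] := f.map (algebraMap O K)
  have hinjK : Function.Injective (algebraMap O K) := IsFractionRing.injective O K
  have he0 : e ≠ 0 := by omega
  have hirr : Irreducible fK := (Monic.irreducible_iff_irreducible_map_fraction_map hmon).1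
    (hf.irreducible (IsLocalRing.maximalIdeal.isMaximal O).isPrime hmon.isPrimitive (by omega))
  have hek : (e : IsLocalRing.ResidueField O) ≠ 0 := fun h => by
    rw [CharP.cast_eq_zero_iff _ p] at h
    exact Nat.not_lt.2 (Nat.le_of_dvd (Nat.pos_of_ne_zero he0) h) hep
  obtain ⟨ϖ, hϖ⟩ := IsDiscreteValuationRing.exists_irreducible O
  have hmax : IsLocalRing.maximalIdeal O = Ideal.span {ϖ} := hϖ.maximalIdeal_eq
  haveI : Fact (Irreducible fK) := ⟨hirr⟩
  let L := AdjoinRoot fK
  letI : Algebra O L := inferInstanceAs (Algebra O (AdjoinRoot fK))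
  haveI : IsScalarTower O K L := inferInstanceAs (IsScalarTower O K (AdjoinRoot fK))
  let x : L := AdjoinRoot.root fK
  have hfK0 : fK ≠ 0 := hirr.ne_zero
  haveI : FiniteDimensional K L := (AdjoinRoot.powerBasis hfK0).finite
  have hLdeg : Module.finrank K L = e := by
    rw [(AdjoinRoot.powerBasis hfK0).finrank, AdjoinRoot.powerBasis_dim, hmon.natDegree_map, hdeg]
  have hinjL : Function.Injective (algebraMap O L) := by
    rw [IsScalarTower.algebraMap_eq O K L]
    exact (algebraMap K L).injective.comp hinjK
  have hfx : aeval x f = 0 := by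
    rw [← aeval_map_algebraMap K x f]
    exact AdjoinRoot.aeval_eq fK ▸ AdjoinRoot.mk_self
  have hxint : IsIntegral O x := ⟨f, hmon, hfx⟩
  -- divide the non-leading coefficients by the uniformizer
  have hdiv : ∀ i, i < e → ∃ t, f.coeff i = ϖ * t := fun i hi => by
    have := hf.mem (by rw [hdeg]; exact hi)
    rw [hmax, Ideal.mem_span_singleton] at this
    exact this
  choose! t ht using hdiv
  let g : O[X] := -∑ i ∈ Finset.range e, C (t i) * X ^ i
  have hfg : f = X ^ e - C ϖ * g := by
    conv_lhs => rw [hmon.as_sum, hdeg]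
    simp only [g, mul_neg, sub_neg_eq_add, Finset.mul_sum, ← mul_assoc, ← C_mul]
    refine congrArg (X ^ e + ·) (Finset.sum_congr rfl fun i hi => ?_)
    rw [ht i (Finset.mem_range.1 hi)]
  have hg0 : g.coeff 0 ∉ IsLocalRing.maximalIdeal O := by
    have e0 : g.coeff 0 = -t 0 := by
      simp only [g, coeff_neg, finsetSum_coeff, coeff_C_mul, coeff_X_pow]
      rw [Finset.sum_eq_single_of_mem 0 (Finset.mem_range.2 (by omega)) fun i _ hi => by rw [if_neg (Ne.symm hi), mul_zero]]
      simp
    rw [e0, neg_mem_iff]
    intro h
    refine hf.notMem ?_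
    rw [ht 0 (by omega), hmax, pow_two, Ideal.span_singleton_mul_span_singleton]
    rw [hmax, Ideal.mem_span_singleton] at h
    exact Ideal.mem_span_singleton.2 (mul_dvd_mul_left ϖ h)
  have hxe : x ^ e = algebraMap O L ϖ * aeval x g := by
    have := hfx
    rw [hfg, map_sub, map_pow, aeval_X, map_mul, aeval_C, sub_eq_zero] at this
    exact this
  have hgint : IsIntegral O (aeval x g) := by
    have : aeval x g ∈ Algebra.adjoin O {x} := aeval_mem_adjoin_singleton _ _
    exact adjoin_le_integralClosure hxint this
  obtain ⟨w, hw⟩ := GrothLib.Tame16.exists_pow_eq_aeval hinjL hxint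
    (hmax ▸ Ideal.mem_span_singleton_self ϖ) he0 _ hgint hxe g hg0 hek
  have hw0 : w ≠ 0 := fun h => by
    rw [h, zero_pow he0] at hw
    rw [← hw, mul_zero] at hxe
    have hx0 : x = 0 := (pow_eq_zero_iff he0).1 hxe
    have h0 : f.coeff 0 = 0 := by
      have := hfx
      rw [hx0, aeval_def, eval₂_at_zero] at this
      exact hinjL (this.trans (map_zero _).symm)
    exact hf.notMem (by rw [h0]; exact zero_mem _)
  have hy : (x / w) ^ e = algebraMap K L (algebraMap O K ϖ) := by
    rw [div_pow, hxe, hw, mul_div_assoc, div_self (by rw [← hw]; exact pow_ne_zero _ hw0), mul_one,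
      ← IsScalarTower.algebraMap_apply]
  have hP : Irreducible ((X ^ e - C (algebraMap O K ϖ)) : K[X]) := GrothLib.Tame16.irreducible_X_pow_sub_C hϖ he0 K
  have hadj : IntermediateField.adjoin K ({x / w} : Set L) = ⊤ := by
    refine IntermediateField.eq_of_le_of_finrank_eq le_top ?_
    rw [IntermediateField.adjoin.finrank (Algebra.IsIntegral.isIntegral (x / w)), IntermediateField.finrank_top', hLdeg,
      ← minpoly.eq_of_irreducible_of_monic hP (by simp [hy]) (monic_X_pow_sub_C _ he0), natDegree_X_pow_sub_C]
  obtain ⟨ζ, hζ⟩ := GrothLib.Tame16.exists_primitiveRoot O hek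
  have hK : (primitiveRoots (Module.finrank K L) K).Nonempty := by
    rw [hLdeg]
    exact ⟨algebraMap O K ζ, (mem_primitiveRoots (Nat.pos_of_ne_zero he0)).2 (hζ.map_of_injective hinjK)⟩
  have hy' : (x / w) ^ Module.finrank K L = algebraMap K L (algebraMap O K ϖ) := by rw [hLdeg]; exact hy
  haveI hspl : (X ^ Module.finrank K L - C (algebraMap O K ϖ) : K[X]).IsSplittingField K L :=
    isSplittingField_X_pow_sub_C_of_root_adjoin_eq_top hK hy' hadj
  have hirr' : Irreducible (X ^ Module.finrank K L - C (algebraMap O K ϖ) : K[X]) := by rw [hLdeg]; exact hP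
  have hne : NeZero (Module.finrank K L) := ⟨by rw [hLdeg]; exact he0⟩
  haveI : IsGalois K L := isGalois_of_isSplittingField_X_pow_sub_C hK hirr' L
  haveI hfspl : fK.IsSplittingField K L := by
    have hmin : minpoly K x = fK := by
      rw [← minpoly.eq_of_irreducible_of_monic hirr (by rw [aeval_map_algebraMap]; exact hfx) (hmon.map _)]
    haveI : Normal K L := IsGalois.to_normal
    have hs := Normal.splits ‹Normal K L› x
    rw [hmin] at hs
    refine ⟨hs, ?_⟩
    refine top_le_iff.1 ((AdjoinRoot.adjoinRoot_eq_top (f := fK)).ge.trans (Algebra.adjoin_mono ?_))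
    intro z hz
    rw [Set.mem_singleton_iff] at hz
    subst hz
    rw [mem_rootSet]
    exact ⟨hfK0, by rw [aeval_map_algebraMap]; exact hfx⟩
  let φ : L ≃ₐ[K] fK.SplittingField := IsSplittingField.algEquiv L fK
  haveI : IsCyclic (L ≃ₐ[K] L) := isCyclic_of_isSplittingField_X_pow_sub_C hK hirr' L
  exact ⟨φ.toLinearEquiv.finrank_eq.symm.trans hLdeg,
    isCyclic_of_surjective (AlgEquiv.autCongr φ).toMonoidHom (AlgEquiv.autCongr φ).surjective⟩


end Groth.Agent.S16053
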