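import Groth.Statements.S16074
import Groth.Agent.Lib.HopfAG.SmallGroups

set_option autoImplicit false
universe u
open Hopf

namespace Groth.Agent.S16074

/-- Let p be a prime and R a commutative ring of characteristic p (p = 0 in R, R nonzero). Then μ_p and
α_p over Spec R are not isomorphic: there is no R-bialgebra isomorphism between the group algebra
R[ℤ/p] of the cyclic group of order p (group elements group-like) and the Hopf algebra R[X]/(X^p) of
α_p (X primitive), although the underlying R-algebras R[ℤ/p] = R[Y]/(Y^p) and R[X]/(X^p) are
isomorphic. (Any nonzero commutative base ring of characteristic p is allowed. The published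
statement allows any ring R with p·R = 0; over the zero ring both Hopf algebras are the zero ring
and hence isomorphic, so R is assumed nonzero here.) -/
theorem result (p : ℕ) [Fact p.Prime] (R : Type u) [CommRing R] [CharP R p] :
    IsEmpty (MonoidAlgebra R (Multiplicative (ZMod p)) ≃ₐc[R] AlphaP.A p R) := by
  refine ⟨fun e => ?_⟩
  haveI : Nontrivial R := CharP.nontrivial_of_char_ne_one (Fact.out : p.Prime).ne_one
  have hp := (Fact.out : p.Prime).two_le
  have h : e.symm (AlphaP.x p R) = 0 := GrothLib.HopfAG.monoidAlgebra_primitive R _ (by
    rw [← CoalgHomClass.map_comp_comul_apply, AlphaP.comul_x]; simp)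
  have hx : AlphaP.basis p R ⟨1, by omega⟩ = 0 := by
    rw [AlphaP.basis_apply, pow_one]
    exact e.toAlgEquiv.symm.injective (h.trans (map_zero _).symm)
  exact (AlphaP.basis p R).ne_zero _ hx

end Groth.Agent.S16074
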