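import Groth.Statements.S16075
import Groth.Agent.Lib.HopfAG.SmallGroups

set_option autoImplicit false
universe u
open Hopf

namespace Groth.Agent.S16075

/-- Let p be a prime, T a commutative ring of characteristic p (p = 0 in T, T nonzero) and A =
T[X]/(X^p) the Hopf algebra of α_p over Spec T, with X primitive. Then the endomorphisms of the
T-group α_{p,T} are exactly the scalings: every T-bialgebra endomorphism f of A has f(X) = λ·X for a
unique λ ∈ T, and for every λ ∈ T there is a T-bialgebra endomorphism f of A with f(X) = λ·X. So the
endomorphisms of α_{p,T} correspond bijectively to the elements of T. (Only this bijection is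
stated; that it turns addition and composition of endomorphisms into addition and multiplication in
T, and its naturality in T, are not stated here. The zero ring, allowed as T in the published
statement, is excluded by the characteristic hypothesis here.) -/
theorem result (p : ℕ) [Fact p.Prime] (T : Type u) [CommRing T] [CharP T p] :
    (∀ f : AlphaP.A p T →ₐc[T] AlphaP.A p T, ∃! c : T, f (AlphaP.x p T) = c • AlphaP.x p T) ∧
      (∀ c : T, ∃ f : AlphaP.A p T →ₐc[T] AlphaP.A p T, f (AlphaP.x p T) = c • AlphaP.x p T) := by
  haveI : Nontrivial T := CharP.nontrivial_of_char_ne_one (Fact.out : p.Prime).ne_one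
  refine ⟨fun f => ?_, fun c => GrothLib.HopfAG.exists_endo p T c⟩
  obtain ⟨c, hc⟩ := GrothLib.HopfAG.alphaP_primitive p T (f (AlphaP.x p T)) (by
    rw [← CoalgHomClass.map_comp_comul_apply, AlphaP.comul_x]; simp)
  refine ⟨c, hc, fun d hd => ?_⟩
  have hp := (Fact.out : p.Prime).two_le
  have h := congrArg ((AlphaP.basis p T).coord ⟨1, by omega⟩) (hc.symm.trans hd)
  have hb : AlphaP.x p T = AlphaP.basis p T ⟨1, by omega⟩ := by simp
  simp only [map_smul, smul_eq_mul] at h
  rw [hb, Module.Basis.coord_apply, Module.Basis.repr_self, Finsupp.single_eq_same, mul_one, mul_one] at h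
  exact h.symm

end Groth.Agent.S16075
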