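import Groth.Statements.S16076
import Groth.Agent.Lib.Versch.Basic
import Groth.Agent.Lib.Dual.AlphaP

set_option autoImplicit false
universe u
open scoped TensorProduct
open Versch

namespace Groth.Agent.S16076

open scoped TensorProduct

/-- Let p be a prime, R a commutative ring of characteristic p and A = R[X]/(X^p) the Hopf algebra of
α_p over Spec R, with X primitive. Let v : A → A ⊗_R R^(Frob) be the comorphism of the Verschiebung
V : α_p^(p) → α_p (the ring map whose transpose under the canonical pairing is the relative
Frobenius of the dual Hopf algebra Hom_R(A, R)). Then V is the trivial homomorphism: v is the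
composite of the counit ε : A → R, the identity of underlying rings R → R^(Frob) and the inclusion
of the twisted factor R^(Frob) → A ⊗_R R^(Frob), i.e. v(a) = 1 ⊗ ε(a). (Any commutative base ring of
characteristic p is allowed.) -/
theorem result (p : ℕ) [Fact p.Prime] (R : Type u) [CommRing R] [CharP R p]
    (v : AlphaP.A p R →+* FrobAlg.BaseChange p R (AlphaP.A p R))
    (hv : Versch.IsVerschiebung p R (AlphaP.A p R) v) :
    v = ((Algebra.TensorProduct.includeRight (R := R) (A := AlphaP.A p R) (B := FrobAlg.Twist p R)).toRingHom.comp
          (FrobAlg.toTwist p R).toRingHom).comp (Bialgebra.counitAlgHom R (AlphaP.A p R)).toRingHom := by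
  refine RingHom.ext fun b => Versch.evTw_injective p R _ fun x => ?_
  rw [(Versch.isVerschiebung_iff p R _ v).1 hv b x]
  change _ = Versch.evTw p R _ x ((1 : AlphaP.A p R) ⊗ₜ[R]
    FrobAlg.toTwist p R (Coalgebra.counit (R := R) b))
  rw [Versch.evTw_tmul', ← map_mul]
  congr 1
  haveI : Nontrivial R := CharP.nontrivial_of_char_ne_one (v := p) (Fact.out : p.Prime).ne_one
  haveI : ExpChar (CartDual.D R (AlphaP.A p R)) p := ExpChar.prime (Fact.out : p.Prime)
  let y : CartDual.D R (AlphaP.A p R) := x - x 1 • 1
  have hy : y 1 = 0 := by simp [y]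
  have hxy : x = x 1 • 1 + y := by simp [y]
  have key : ∀ n i : ℕ, i < n → (y ^ n) (AlphaP.x p R ^ i) = 0 := by
    intro n
    induction n with
    | zero => intro i hi; omega
    | succ n ih =>
      intro i hi
      rw [pow_succ, LinearMap.convMul_apply, GrothLib.Dual.alphaP_comul_pow, map_sum, map_sum]
      refine Finset.sum_eq_zero fun j hj => ?_
      simp only [map_smul, TensorProduct.map_tmul, LinearMap.mul'_apply]
      rcases Nat.lt_or_ge j n with hjn | hjn
      · rw [ih j hjn, zero_mul, smul_zero]
      · rw [show i - j = 0 by omega, pow_zero, hy, mul_zero, smul_zero]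
  have hy0 : y ^ p = 0 := by
    refine WithConv.ext ((AlphaP.basis p R).ext fun i => ?_)
    rw [AlphaP.basis_apply]
    simpa using key p i i.2
  conv_lhs => rw [hxy]
  rw [add_pow_expChar, hy0, add_zero, smul_pow, one_pow]
  simp


end Groth.Agent.S16076
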