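import Groth.Statements.S16077
import Mathlib.RingTheory.MvPolynomial.Ideal
import Mathlib.Algebra.CharP.Lemmas
import Mathlib.Algebra.CharP.Algebra
import Mathlib.LinearAlgebra.FiniteDimensional.Basic
import Mathlib.LinearAlgebra.Finsupp.VectorSpace
import Mathlib.LinearAlgebra.Isomorphisms
import Mathlib.Algebra.BigOperators.Fin
import Mathlib.Logic.Equiv.Fintype
import Mathlib.Tactic.Ring
-- import your own Groth.Agent.* helpers here

set_option autoImplicit false
universe u
open CAlg

namespace Groth.Agent.S16077

open MvPolynomial in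
theorem finrank_truncated (k : Type u) [Field k] (r : ℕ) (n : Fin r → ℕ) :
    Module.finrank k (MvPolynomial (Fin r) k ⧸
      Ideal.span (Set.range fun i : Fin r => (X i : MvPolynomial (Fin r) k) ^ n i)) = ∏ i, n i := by
  classical
  set I := Ideal.span (Set.range fun i : Fin r => (X i : MvPolynomial (Fin r) k) ^ n i) with hI
  let Box := {m : Fin r →₀ ℕ // ∀ i, m i < n i}
  let L : MvPolynomial (Fin r) k →ₗ[k] (Box → k) :=
    LinearMap.pi fun m => lcoeff k m.1
  let eBox : Box ≃ ((i : Fin r) → Fin (n i)) :=
    { toFun := fun m i => ⟨m.1 i, m.2 i⟩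
      invFun := fun g => ⟨Finsupp.equivFunOnFinite.symm fun i => (g i : ℕ), fun i => by simp⟩
      left_inv := fun m => Subtype.ext (Finsupp.ext fun i => by simp)
      right_inv := fun g => funext fun i => Fin.ext (by simp) }
  letI : Fintype Box := Fintype.ofEquiv _ eBox.symm
  have hker : LinearMap.ker L = I.restrictScalars k := by
    ext p
    rw [Submodule.restrictScalars_mem, LinearMap.mem_ker]
    have hI' : I = Ideal.span ((fun s => monomial s (1 : k)) '' Set.range fun i => Finsupp.single i (n i)) := by
      rw [hI, ← Set.range_comp]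
      simp [X_pow_eq_monomial, Function.comp_def]
    rw [hI', mem_ideal_span_monomial_image]
    constructor
    · intro h m hm
      by_contra hno
      push Not at hno
      have hlt : ∀ i, m i < n i := fun i => by
        by_contra hge
        refine hno _ ⟨i, rfl⟩ ?_
        rw [Finsupp.single_le_iff]
        omega
      exact mem_support_iff.1 hm (congrFun h ⟨m, hlt⟩)
    · intro h
      funext m
      by_contra hne
      obtain ⟨_, ⟨i, rfl⟩, hle⟩ := h m.1 (mem_support_iff.2 hne)
      rw [Finsupp.single_le_iff] at hle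
      have := m.2 i
      omega
  have hsurj : Function.Surjective L := by
    intro g
    refine ⟨∑ m, monomial m.1 (g m), funext fun m => ?_⟩
    show coeff m.1 (∑ b, monomial b.1 (g b)) = g m
    rw [coeff_sum, Finset.sum_eq_single m]
    · rw [coeff_monomial, if_pos rfl]
    · intro b _ hb
      rw [coeff_monomial, if_neg fun h => hb (Subtype.ext h)]
    · simp
  have e : (MvPolynomial (Fin r) k ⧸ I) ≃ₗ[k] (Box → k) :=
    (Submodule.Quotient.restrictScalarsEquiv k I).symm ≪≫ₗ
      (Submodule.quotEquivOfEq _ _ hker.symm) ≪≫ₗ L.quotKerEquivOfSurjective hsurj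
  rw [e.finrank_eq, Module.finrank_fintype_fun_eq_card, Fintype.card_congr eBox, Fintype.card_pi]
  simp

open MvPolynomial in
theorem finrank_frobenius_quotient (p : ℕ) [Fact p.Prime] (k : Type u) [Field k] [CharP k p]
    (r : ℕ) (e : Fin r → ℕ) (j : ℕ) (J : Ideal (MvPolynomial (Fin r) k ⧸
      Ideal.span (Set.range fun i : Fin r => (X i : MvPolynomial (Fin r) k) ^ p ^ e i)))
    (hJ : J = Ideal.span ((fun a => a ^ p ^ j) '' {a | IsNilpotent a})) :
    Module.finrank k (_ ⧸ J) = p ^ ∑ i, min (e i) j := by
  let I := Ideal.span (Set.range fun i : Fin r => (X i : MvPolynomial (Fin r) k) ^ p ^ e i)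
  have hI : I = Ideal.span (Set.range fun i : Fin r => (X i : MvPolynomial (Fin r) k) ^ p ^ e i) := rfl
  let I' := Ideal.span (Set.range fun i : Fin r => (X i : MvPolynomial (Fin r) k) ^ p ^ min (e i) j)
  have hp : 1 < p := (Fact.out : p.Prime).one_lt
  have hXe : ∀ i, (X i : MvPolynomial (Fin r) k) ^ p ^ e i ∈ I := fun i => Ideal.subset_span ⟨i, rfl⟩
  have hII' : I ≤ I' := by
    rw [hI, Ideal.span_le]
    rintro _ ⟨i, rfl⟩
    exact Ideal.mem_of_dvd _ (pow_dvd_pow _ (Nat.pow_le_pow_right hp.le (min_le_left _ _)))
      (Ideal.subset_span ⟨i, rfl⟩)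
  have key : J = I'.map (Ideal.Quotient.mk I) := by
    refine hJ.trans ?_
    refine le_antisymm ?_ ?_
    · rw [Ideal.span_le]
      rintro _ ⟨a, ⟨N, ha⟩, rfl⟩
      obtain ⟨q, rfl⟩ := Ideal.Quotient.mk_surjective a
      have hq : q ∈ Ideal.span (Set.range (X : Fin r → MvPolynomial (Fin r) k)) := by
        rw [← map_pow, Ideal.Quotient.eq_zero_iff_mem] at ha
        have hle : I ≤ RingHom.ker (constantCoeff : MvPolynomial (Fin r) k →+* k) := by
          rw [hI, Ideal.span_le]
          rintro _ ⟨i, rfl⟩
          simp [RingHom.mem_ker]; intro h; omega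
        have h0 : constantCoeff q = 0 := by
          have := hle ha
          rw [RingHom.mem_ker, map_pow] at this
          exact eq_zero_of_pow_eq_zero this
        rw [← Set.image_univ, mem_ideal_span_X_image]
        intro m hm
        by_contra hno
        push Not at hno
        have : m = 0 := Finsupp.ext fun i => hno i (Set.mem_univ i)
        subst this
        exact mem_support_iff.1 hm h0
      obtain ⟨c, rfl⟩ := (Ideal.mem_span_range_iff_exists_fun).1 hq
      show (Ideal.Quotient.mk I _) ^ p ^ j ∈ _
      rw [← map_pow]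
      refine Ideal.mem_map_of_mem _ ?_
      haveI : CharP (MvPolynomial (Fin r) k) p :=
        charP_of_injective_algebraMap (algebraMap k _).injective p
      rw [sum_pow_char_pow]
      refine Submodule.sum_mem _ fun i _ => ?_
      rw [mul_pow]
      exact Ideal.mul_mem_left _ _ (Ideal.mem_of_dvd _
        (pow_dvd_pow _ (Nat.pow_le_pow_right hp.le (min_le_right _ _))) (Ideal.subset_span ⟨i, rfl⟩))
    · rw [Ideal.map_span, Ideal.span_le]
      rintro _ ⟨_, ⟨i, rfl⟩, rfl⟩
      dsimp only
      rcases le_total (e i) j with h | h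
      · rw [min_eq_left h, Ideal.Quotient.eq_zero_iff_mem.2 (hXe i)]
        exact zero_mem _
      · rw [min_eq_right h, map_pow]
        refine Ideal.subset_span ⟨_, ⟨p ^ e i, ?_⟩, rfl⟩
        rw [← map_pow]
        exact Ideal.Quotient.eq_zero_iff_mem.2 (hXe i)
  subst key
  refine (DoubleQuot.quotQuotEquivQuotOfLEₐ k hII').toLinearEquiv.finrank_eq.trans ?_
  rw [finrank_truncated, Finset.prod_pow_eq_pow_sum]

/-- Let k be a perfect field of characteristic p > 0 and let e_1, …, e_r ≥ 1 and f_1, …, f_s ≥ 1 be
natural numbers. If the k-algebras k[X_1, …, X_r]/(X_i^{p^{e_i}} : 1 ≤ i ≤ r) and k[X_1, …,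
X_s]/(X_j^{p^{f_j}} : 1 ≤ j ≤ s) are isomorphic, then r = s and (f_j) is a permutation of (e_i):
there is a bijection σ between the index sets with f_{σ(i)} = e_i. Such truncated polynomial
algebras are the coordinate rings of the connected finite k-group schemes, and the row says that the
number of variables and the exponents are invariants of the group, indeed of its algebra. (Only this
invariance is stated here; the existence of such a presentation for every connected finite k-group
is a separate statement.) -/
theorem result (p : ℕ) [Fact p.Prime] (k : Type u) [Field k]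
    [CharP k p] [PerfectField k] (r s : ℕ) (e : Fin r → ℕ) (f : Fin s → ℕ) (he : ∀ i, 1 ≤ e i) (hf : ∀ j, 1 ≤ f j)
    (φ : (MvPolynomial (Fin r) k ⧸ Ideal.span (Set.range fun i : Fin r => (MvPolynomial.X i : MvPolynomial (Fin r) k) ^ p ^ e i)) ≃ₐ[k]
      (MvPolynomial (Fin s) k ⧸ Ideal.span (Set.range fun j : Fin s => (MvPolynomial.X j : MvPolynomial (Fin s) k) ^ p ^ f j))) :
    ∃ σ : Fin r ≃ Fin s, ∀ i : Fin r, f (σ i) = e i := by
  classical
  have hS : ∀ j, ∑ i, min (e i) j = ∑ i, min (f i) j := by
    intro j
    apply Nat.pow_right_injective (Fact.out : p.Prime).two_le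
    show p ^ _ = p ^ _
    set Je := Ideal.span ((fun a => a ^ p ^ j) '' {a : MvPolynomial (Fin r) k ⧸ Ideal.span (Set.range fun i : Fin r => (MvPolynomial.X i : MvPolynomial (Fin r) k) ^ p ^ e i) | IsNilpotent a}) with hJe
    set Jf := Ideal.span ((fun a => a ^ p ^ j) '' {a : MvPolynomial (Fin s) k ⧸ Ideal.span (Set.range fun i : Fin s => (MvPolynomial.X i : MvPolynomial (Fin s) k) ^ p ^ f i) | IsNilpotent a}) with hJf
    rw [← finrank_frobenius_quotient p k r e j Je hJe, ← finrank_frobenius_quotient p k s f j Jf hJf]
    refine (Ideal.quotientEquivAlg Je Jf φ ?_).toLinearEquiv.finrank_eq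
    rw [hJe, hJf, Ideal.map_span, ← Set.image_comp]
    congr 1
    ext b
    constructor
    · rintro ⟨a, ha, rfl⟩
      exact ⟨φ.symm a, ha.map φ.symm, by simp⟩
    · rintro ⟨a, ha, rfl⟩
      exact ⟨φ a, ha.map φ, by simp⟩
  have hsucc : ∀ {n : ℕ} (g : Fin n → ℕ) (v : ℕ),
      ∑ i, min (g i) (v + 1) = ∑ i, min (g i) v + (Finset.univ.filter fun i => v < g i).card := by
    intro n g v
    rw [Finset.card_filter, ← Finset.sum_add_distrib]
    refine Finset.sum_congr rfl fun i _ => ?_
    split_ifs <;> omega
  have hgt : ∀ v, (Finset.univ.filter fun i => v < e i).card = (Finset.univ.filter fun i => v < f i).card := by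
    intro v
    have h1 := hsucc e v
    have h2 := hsucc f v
    rw [hS, hS] at h1
    omega
  have heq : ∀ v, Fintype.card {i // e i = v} = Fintype.card {i // f i = v} := by
    intro v
    rcases v with _ | v
    · simp only [Fintype.card_subtype]
      rw [Finset.filter_eq_empty_iff.2 fun {i} _ => by have := he i; omega,
        Finset.filter_eq_empty_iff.2 fun {i} _ => by have := hf i; omega]
      simp
    · simp only [Fintype.card_subtype]
      have key : ∀ {n : ℕ} (g : Fin n → ℕ), (Finset.univ.filter fun i => v < g i).card =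
          (Finset.univ.filter fun i => v + 1 < g i).card + (Finset.univ.filter fun i => g i = v + 1).card := by
        intro n g
        rw [Finset.card_filter, Finset.card_filter, Finset.card_filter, ← Finset.sum_add_distrib]
        refine Finset.sum_congr rfl fun i _ => ?_
        split_ifs <;> omega
      have h1 := key e
      have h2 := key f
      rw [hgt, hgt] at h1
      omega
  refine ⟨Equiv.ofFiberEquiv (f := e) (g := f) fun v => Fintype.equivOfCardEq (heq v), fun i => ?_⟩
  exact Equiv.ofFiberEquiv_map _ i

end Groth.Agent.S16077
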