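import Groth.Statements.S16078
import Mathlib.RingTheory.Flat.FaithfullyFlat.Algebra
import Mathlib.RingTheory.RingHom.FaithfullyFlat
import Mathlib.RingTheory.Flat.EquationalCriterion
import Mathlib.RingTheory.IntegralClosure.IsIntegral.Basic
import Mathlib.RingTheory.LocalRing.Quotient

set_option autoImplicit false
universe u
open scoped TensorProduct
open Hopf

namespace Groth.Agent.S16078

open scoped TensorProduct

/-- Let R be a henselian Noetherian local ring, A and A'' commutative Hopf algebras over R which are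
finite and flat as R-modules, and A'' → A an R-algebra homomorphism compatible with
comultiplications and counits making A faithfully flat over A'' (a faithfully flat homomorphism π :
G → G'' of finite flat R-groups); let J ⊆ A be the ideal generated by the image of the augmentation
ideal of A'' (G' = Spec A/J = ker π, so that 1 → G' → G → G'' → 1 is exact). Let e ∈ A and e'' ∈ A''
be idempotents with ε(e) = 1, ε(e'') = 1 and A/(1 − e), A''/(1 − e'') local rings (the unit
components G⁰ and G''⁰), and let e' ∈ A be an element whose image in A/J is an idempotent, with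
ε(e') = 1 and A/(J + (1 − e')) local (so G'⁰ = Spec (A/J)/(1 − e') is the unit component of G').
Suppose g : A''/(1 − e'') → A/(1 − e) is the ring homomorphism induced by A'' → A (the restriction
π⁰ : G⁰ → G''⁰ of π, which exists because G⁰ is connected). Then g is faithfully flat, and e ≡ e'
modulo J, i.e. J + (1 − e) = J + (1 − e') and the kernel of π⁰, which is cut out in G⁰ by J, is
exactly G'⁰: the sequence 1 → G'⁰ → G⁰ → G''⁰ → 1 is exact. (The published statement also asserts
exactness of the maximal étale quotient G ↦ G^ét, not stated here.) -/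
theorem result (R : Type u) [CommRing R] [HenselianLocalRing R]
    [IsNoetherianRing R] (A A'' : Type u) [CommRing A] [HopfAlgebra R A] [Module.Finite R A] [Module.Flat R A]
    [CommRing A''] [HopfAlgebra R A''] [Module.Finite R A''] [Module.Flat R A'']
    [Algebra A'' A] [IsScalarTower R A'' A] [Module.FaithfullyFlat A'' A]
    (hΔ : (Bialgebra.comulAlgHom R A).comp (IsScalarTower.toAlgHom R A'' A) =
      (Algebra.TensorProduct.map (IsScalarTower.toAlgHom R A'' A) (IsScalarTower.toAlgHom R A'' A)).comp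
        (Bialgebra.comulAlgHom R A''))
    (hε : (Bialgebra.counitAlgHom R A).comp (IsScalarTower.toAlgHom R A'' A) = Bialgebra.counitAlgHom R A'')
    (e : A) (he : IsIdempotentElem e) (heε : Bialgebra.counitAlgHom R A e = 1)
    [IsLocalRing (A ⧸ Ideal.span ({1 - e} : Set A))]
    (e'' : A'') (he'' : IsIdempotentElem e'') (he''ε : Bialgebra.counitAlgHom R A'' e'' = 1)
    [IsLocalRing (A'' ⧸ Ideal.span ({1 - e''} : Set A''))]
    (e' : A) (he' : IsIdempotentElem (Ideal.Quotient.mk ((RingHom.ker (Bialgebra.counitAlgHom R A'')).map (algebraMap A'' A)) e'))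
    (he'ε : Bialgebra.counitAlgHom R A e' = 1)
    [IsLocalRing (A ⧸ (((RingHom.ker (Bialgebra.counitAlgHom R A'')).map (algebraMap A'' A)) ⊔ Ideal.span ({1 - e'} : Set A)))]
    (g : (A'' ⧸ Ideal.span ({1 - e''} : Set A'')) →+* (A ⧸ Ideal.span ({1 - e} : Set A)))
    (hg : g.comp (Ideal.Quotient.mk (Ideal.span ({1 - e''} : Set A''))) =
      (Ideal.Quotient.mk (Ideal.span ({1 - e} : Set A))).comp (algebraMap A'' A)) :
    g.FaithfullyFlat ∧
      Ideal.Quotient.mk ((RingHom.ker (Bialgebra.counitAlgHom R A'')).map (algebraMap A'' A)) e = Ideal.Quotient.mk ((RingHom.ker (Bialgebra.counitAlgHom R A'')).map (algebraMap A'' A)) e' := by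
  haveI : Module.FinitePresentation R A := Module.finitePresentation_of_finite R A
  haveI : Module.Projective R A := Module.Flat.projective_of_finitePresentation
  let I₀ : Ideal A := Ideal.span {1 - e}
  let I'' : Ideal A'' := Ideal.span {1 - e''}
  let J := (RingHom.ker (Bialgebra.counitAlgHom R A'')).map (algebraMap A'' A)
  haveI : IsLocalRing (A ⧸ I₀) := ‹_›
  haveI : IsLocalRing (A'' ⧸ I'') := ‹_›
  constructor
  · haveI : Module.Finite A'' A := Module.Finite.of_restrictScalars_finite R A'' A
    haveI : Module.Finite A'' (A ⧸ I₀) :=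
      Module.Finite.of_surjective (Ideal.Quotient.mkₐ A'' I₀).toLinearMap Ideal.Quotient.mk_surjective
    let s : A ⧸ I₀ →ₗ[A''] A := Submodule.liftQ (Submodule.restrictScalars A'' I₀) (LinearMap.mulLeft A'' e) fun x hx => by
      obtain ⟨c, rfl⟩ := Ideal.mem_span_singleton'.1 (show x ∈ I₀ from hx)
      rw [LinearMap.mem_ker, LinearMap.mulLeft_apply]
      linear_combination (-c) * he.eq
    haveI : Module.Flat A'' (A ⧸ I₀) := by
      refine Module.Flat.of_retract s (Ideal.Quotient.mkₐ A'' I₀).toLinearMap (LinearMap.ext fun x => ?_)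
      obtain ⟨a, rfl⟩ := Ideal.Quotient.mk_surjective x
      change Ideal.Quotient.mk I₀ (e * a) = Ideal.Quotient.mk I₀ a
      rw [Ideal.Quotient.eq, show e * a - a = (-a) * (1 - e) by ring]
      exact Ideal.mul_mem_left _ _ (Ideal.subset_span rfl)
    letI : Algebra (A'' ⧸ I'') (A ⧸ I₀) := g.toAlgebra
    haveI : IsScalarTower A'' (A'' ⧸ I'') (A ⧸ I₀) :=
      IsScalarTower.of_algebraMap_eq fun x => (RingHom.congr_fun hg x).symm
    let m := (LinearMap.id : A ⧸ I₀ →ₗ[A''] A ⧸ I₀).liftBaseChange (A'' ⧸ I'')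
    have hm : ∀ z : (A'' ⧸ I'') ⊗[A''] (A ⧸ I₀), z = (1 : A'' ⧸ I'') ⊗ₜ[A''] m z := fun z => by
      induction z using TensorProduct.induction_on with
      | zero => simp
      | add p q hp hq => rw [map_add, TensorProduct.tmul_add, ← hp, ← hq]
      | tmul c a =>
        obtain ⟨c, rfl⟩ := Ideal.Quotient.mk_surjective c
        rw [show m (Ideal.Quotient.mk I'' c ⊗ₜ[A''] a) = (Ideal.Quotient.mk I'' c) • a from
          LinearMap.liftBaseChange_tmul _ _ _ _, show Ideal.Quotient.mk I'' c = c • (1 : A'' ⧸ I'') by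
          rw [Algebra.smul_def, mul_one]; rfl, TensorProduct.smul_tmul, smul_assoc, one_smul]
    have hbij : Function.Bijective m :=
      ⟨fun x y h => by rw [hm x, hm y, h], fun a => ⟨(1 : A'' ⧸ I'') ⊗ₜ[A''] a, by simp [m]⟩⟩
    haveI : Module.Flat (A'' ⧸ I'') (A ⧸ I₀) := Module.Flat.of_linearEquiv (LinearEquiv.ofBijective m hbij).symm
    haveI : Module.Finite (A'' ⧸ I'') (A ⧸ I₀) := Module.Finite.of_restrictScalars_finite A'' _ _
    haveI : IsLocalHom (algebraMap (A'' ⧸ I'') (A ⧸ I₀)) := by
      haveI : Algebra.IsIntegral (A'' ⧸ I'') (A ⧸ I₀) := Algebra.IsIntegral.of_finite _ _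
      refine ((IsLocalRing.local_hom_TFAE (algebraMap (A'' ⧸ I'') (A ⧸ I₀))).out 0 4).2 ?_
      exact IsLocalRing.eq_maximalIdeal (Ideal.isMaximal_comap_of_isIntegral_of_isMaximal _)
    haveI : Module.FaithfullyFlat (A'' ⧸ I'') (A ⧸ I₀) := Module.FaithfullyFlat.of_flat_of_isLocalHom
    exact RingHom.faithfullyFlat_algebraMap_iff.2 this
  · -- the two idempotents agree on the kernel
    haveI : IsLocalRing (A ⧸ (J ⊔ Ideal.span {1 - e'})) := ‹_›
    have hcap : RingHom.ker (Bialgebra.counitAlgHom R A) ≥ J := by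
      refine Ideal.map_le_iff_le_comap.2 fun b hb => ?_
      exact (DFunLike.congr_fun hε b).trans hb
    have h1 : ∀ (x : A) (K : Ideal A), K ≤ RingHom.ker (Bialgebra.counitAlgHom R A) → J ≤ K →
        IsLocalRing (A ⧸ K) → IsIdempotentElem (Ideal.Quotient.mk J x) → Bialgebra.counitAlgHom R A x = 1 →
        1 - x ∈ K := by
      intro x K hK hJK hl hx hx1
      haveI := hl
      have hxK : IsIdempotentElem (Ideal.Quotient.mk K x) := by
        have := hx.map (Ideal.Quotient.factor hJK)
        rwa [Ideal.Quotient.factor_mk] at this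
      rcases IsLocalRing.isUnit_or_isUnit_one_sub_self (Ideal.Quotient.mk K x) with h | h
      · rw [← Ideal.Quotient.eq_zero_iff_mem, map_sub, map_one,
          (IsIdempotentElem.iff_eq_one_of_isUnit h).1 hxK, sub_self]
      · have h0 : x ∈ K := Ideal.Quotient.eq_zero_iff_mem.1
          (by simpa using (IsIdempotentElem.iff_eq_one_of_isUnit h).1 hxK.one_sub)
        exact absurd ((RingHom.mem_ker.1 (hK h0)).symm.trans hx1) zero_ne_one
    have hle : ∀ x : A, Bialgebra.counitAlgHom R A x = 1 → J ⊔ Ideal.span {1 - x} ≤ RingHom.ker (Bialgebra.counitAlgHom R A) :=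
      fun x hx => sup_le hcap (Ideal.span_le.2 (by
        rintro _ rfl
        change Bialgebra.counitAlgHom R A (1 - x) = 0
        rw [map_sub, map_one, hx, sub_self]))
    haveI : IsLocalRing (A ⧸ (J ⊔ I₀)) := by
      haveI : Nontrivial (A ⧸ (J ⊔ I₀)) := Ideal.Quotient.nontrivial_iff.2
        (fun h => RingHom.ker_ne_top (Bialgebra.counitAlgHom R A) (top_le_iff.1 (h ▸ hle e heε)))
      exact IsLocalRing.of_surjective' (Ideal.Quotient.factor (le_sup_right : I₀ ≤ J ⊔ I₀))
        (Ideal.Quotient.factor_surjective le_sup_right)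
    have a1 := h1 e (J ⊔ Ideal.span {1 - e'}) (hle e' he'ε) le_sup_left ‹_› (he.map _) heε
    have a2 := h1 e' (J ⊔ I₀) (hle e heε) le_sup_left ‹_› he' he'ε
    have b : ∀ x y : A, IsIdempotentElem (Ideal.Quotient.mk J y) → 1 - x ∈ J ⊔ Ideal.span {1 - y} →
        Ideal.Quotient.mk J x * Ideal.Quotient.mk J y = Ideal.Quotient.mk J y := by
      intro x y hy hx
      obtain ⟨j, hj, z, hz, hjz⟩ := Submodule.mem_sup.1 hx
      obtain ⟨c, rfl⟩ := Ideal.mem_span_singleton'.1 hz
      have h := congrArg (Ideal.Quotient.mk J) hjz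
      rw [map_add, map_mul, map_sub, map_sub, map_one, Ideal.Quotient.eq_zero_iff_mem.2 hj, zero_add] at h
      linear_combination Ideal.Quotient.mk J y * h + Ideal.Quotient.mk J c * hy.eq
    exact (b e' e (he.map _) a2).symm.trans ((mul_comm _ _).trans (b e e' he' a1))

end Groth.Agent.S16078
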