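import Groth.Statements.S16079
import Groth.Agent.Lib.HopfFinQuot.MultPart

set_option autoImplicit false
universe u
open scoped TensorProduct
open Hopf

namespace Groth.Agent.S16079

/-- Let R be a henselian Noetherian local ring, A and B commutative and cocommutative Hopf algebras over
R which are finitely generated and projective as R-modules (finite flat commutative R-groups G =
Spec A and H = Spec B), and ψ : B → A an R-bialgebra homomorphism (a homomorphism φ : G → H). Let
e_A ∈ A be an idempotent with ε(e_A) = 1 such that (1 − e_A) is a Hopf ideal and A⁰ = A/(1 − e_A) is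
local, R-projective and cocommutative (the unit component G⁰), and let e'_A be an idempotent of the
dual Hopf algebra Hom_R(A⁰, R) with ε(e'_A) = 1 and local quotient by (1 − e'_A) (the unit component
of the Cartier dual (G⁰)^D); similarly e_B, B⁰ = B/(1 − e_B) and e'_B for H. Call a linear form x on
A⁰ invariant when (id ⊗ multiplication by e'_A)(Δx) = x ⊗ e'_A, i.e. x is invariant under
translation by the unit component of (G⁰)^D and so lies in the Hopf algebra of its étale quotient;
the elements of A⁰ annihilated by all invariant x form the ideal of G_μ ⊆ G⁰ ⊆ G, the largest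
connected multiplicative closed subgroup of G; likewise for B and H_μ. Then the filtration G_μ ⊆ G⁰
⊆ G is respected by φ at the G_μ step: φ maps G_μ into H_μ, i.e. for every b ∈ B whose image in B⁰
is annihilated by all invariant linear forms on B⁰ (b in the ideal of H_μ), the image of ψ(b) in A⁰
is annihilated by all invariant linear forms on A⁰ (ψ(b) in the ideal of G_μ). (That φ maps G⁰ into
H⁰ is the universal property of the unit component and is not restated.) -/
theorem result (R : Type u) [CommRing R]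
    [HenselianLocalRing R] [IsNoetherianRing R] (A B : Type u) [CommRing A] [HopfAlgebra R A] [Coalgebra.IsCocomm R A]
    [Module.Finite R A] [Module.Projective R A] [CommRing B] [HopfAlgebra R B] [Coalgebra.IsCocomm R B]
    [Module.Finite R B] [Module.Projective R B] (ψ : B →ₐc[R] A)
    (eA : A) (heA : IsIdempotentElem eA) (heAε : Bialgebra.counitAlgHom R A eA = 1)
    [(Ideal.span ({1 - eA} : Set A)).IsHopfIdeal R] [IsLocalRing (A ⧸ Ideal.span ({1 - eA} : Set A))] [Module.Projective R (A ⧸ Ideal.span ({1 - eA} : Set A))] [Coalgebra.IsCocomm R (A ⧸ Ideal.span ({1 - eA} : Set A))]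
    (fA : CartDual.D R (A ⧸ Ideal.span ({1 - eA} : Set A))) (hfA : IsIdempotentElem fA)
    (hfAε : Bialgebra.counitAlgHom R (CartDual.D R (A ⧸ Ideal.span ({1 - eA} : Set A))) fA = 1)
    [IsLocalRing (CartDual.D R (A ⧸ Ideal.span ({1 - eA} : Set A)) ⧸ Ideal.span ({1 - fA} : Set (CartDual.D R (A ⧸ Ideal.span ({1 - eA} : Set A)))))]
    (eB : B) (heB : IsIdempotentElem eB) (heBε : Bialgebra.counitAlgHom R B eB = 1)
    [(Ideal.span ({1 - eB} : Set B)).IsHopfIdeal R] [IsLocalRing (B ⧸ Ideal.span ({1 - eB} : Set B))] [Module.Projective R (B ⧸ Ideal.span ({1 - eB} : Set B))] [Coalgebra.IsCocomm R (B ⧸ Ideal.span ({1 - eB} : Set B))]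
    (fB : CartDual.D R (B ⧸ Ideal.span ({1 - eB} : Set B))) (hfB : IsIdempotentElem fB)
    (hfBε : Bialgebra.counitAlgHom R (CartDual.D R (B ⧸ Ideal.span ({1 - eB} : Set B))) fB = 1)
    [IsLocalRing (CartDual.D R (B ⧸ Ideal.span ({1 - eB} : Set B)) ⧸ Ideal.span ({1 - fB} : Set (CartDual.D R (B ⧸ Ideal.span ({1 - eB} : Set B)))))]
    (b : B) (hb : ∀ y : CartDual.D R (B ⧸ Ideal.span ({1 - eB} : Set B)), LinearMap.lTensor (CartDual.D R (B ⧸ Ideal.span ({1 - eB} : Set B))) (LinearMap.mulLeft R fB) (Coalgebra.comul (R := R) y) = y ⊗ₜ[R] fB → y (Ideal.Quotient.mk (Ideal.span ({1 - eB} : Set B)) b) = 0)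
    (x : CartDual.D R (A ⧸ Ideal.span ({1 - eA} : Set A))) (hx : LinearMap.lTensor (CartDual.D R (A ⧸ Ideal.span ({1 - eA} : Set A))) (LinearMap.mulLeft R fA) (Coalgebra.comul (R := R) x) = x ⊗ₜ[R] fA) :
    x (Ideal.Quotient.mk (Ideal.span ({1 - eA} : Set A)) (ψ b)) = 0 := by
  let IA : Ideal A := Ideal.span {1 - eA}
  let IB : Ideal B := Ideal.span {1 - eB}
  let DA := CartDual.D R (A ⧸ IA)
  let DB := CartDual.D R (B ⧸ IB)
  haveI : IsLocalRing (A ⧸ IA) := ‹_›
  haveI : IsLocalRing (B ⧸ IB) := ‹_›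
  haveI : Module.Finite R (A ⧸ IA) :=
    Module.Finite.of_surjective (Ideal.Quotient.mkₐ R IA).toLinearMap Ideal.Quotient.mk_surjective
  haveI : Module.Finite R (B ⧸ IB) :=
    Module.Finite.of_surjective (Ideal.Quotient.mkₐ R IB).toLinearMap Ideal.Quotient.mk_surjective
  haveI := GrothLib.HopfFinQuot.isHopfIdeal (R := R) (A := DA) hfA hfAε
  haveI := GrothLib.HopfFinQuot.isHopfIdeal (R := R) (A := DB) hfB hfBε
  have hle : IB ≤ IA.comap (ψ : B →ₐ[R] A) := by
    rw [Ideal.span_le]
    rintro _ rfl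
    change ψ (1 - eB) ∈ IA
    rw [map_sub, map_one, ← Ideal.Quotient.eq_zero_iff_mem, map_sub, map_one, GrothLib.HopfFinQuot.mk_eq_one (R := R) IA
      (heB.map ψ) ((CoalgHomClass.counit_comp_apply ψ eB).trans heBε), sub_self]
  let β : DA →ₐc[R] DB := CartDual.transpose R (GrothLib.HopfFinQuot.quotBialgHom IB IA ψ hle)
  have hleD : Ideal.span ({1 - fA} : Set DA) ≤ (Ideal.span ({1 - fB} : Set DB)).comap (β : DA →ₐ[R] DB) := by
    rw [Ideal.span_le]
    rintro _ rfl
    change β (1 - fA) ∈ Ideal.span ({1 - fB} : Set DB)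
    rw [map_sub, map_one, ← Ideal.Quotient.eq_zero_iff_mem, map_sub, map_one,
      GrothLib.HopfFinQuot.mk_eq_one (R := R) (Ideal.span ({1 - fB} : Set DB))
      (hfA.map β) ((CoalgHomClass.counit_comp_apply β fA).trans hfAε), sub_self]
  exact hb (β x) ((GrothLib.HopfFinQuot.mem_inv_iff_mulLeft hfB _).1
    (GrothLib.HopfFinQuot.map_inv_of_le β hleD ((GrothLib.HopfFinQuot.mem_inv_iff_mulLeft hfA _).2 hx)))

end Groth.Agent.S16079
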