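import Groth.Statements.S16083
import Groth.Agent.Lib.Ref1.Bidual

set_option autoImplicit false
universe u
open CategoryTheory CategoryTheory.Limits AlgebraicGeometry TopologicalSpace
open SDiv

namespace Groth.Agent.S16083

/-- Suppose X is a normal scheme that is integral and locally Noetherian, write η for its generic point,
let F and G be coherent O_X-modules, and let T : G_η → F_η be an O_{X,η}-linear map of generic
stalks. Then T extends to a morphism G ⟶ F^** — there is a morphism ψ whose stalk map at η is T
followed by the stalk map at η of the canonical map F ⟶ F^** — if and only if for every point x with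
dim O_{X,x} = 1 the map T sends the image of G_x in G_η into the image of F_x in F_η. -/
theorem result (X : Scheme.{u}) [IsIntegral X] [IsLocallyNoetherian X]
    (hX : Pi1.IsNormalScheme X) (F G : X.Modules) (hF : Coh.IsCoh F) (hG : Coh.IsCoh G)
    (T : ↑(G.presheaf.stalk (genericPoint ↥X)) →ₗ[↑(X.presheaf.stalk (genericPoint ↥X))]
      ↑(F.presheaf.stalk (genericPoint ↥X))) :
    (∃ ψ : G ⟶ RefHull.ddual F, RefHull.stalkMapₗ ψ (genericPoint ↥X) =
        (RefHull.stalkMapₗ (RefHull.bidualMap F) (genericPoint ↥X)).comp T) ↔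
      ∀ x : ↥X, ringKrullDim ↑(X.presheaf.stalk x) = 1 →
        Set.MapsTo ⇑T
          (Set.range ⇑(G.presheaf.stalkSpecializes ((genericPoint_spec ↥X).specializes (Set.mem_univ x))).hom)
          (Set.range ⇑(F.presheaf.stalkSpecializes ((genericPoint_spec ↥X).specializes (Set.mem_univ x))).hom) := by
  have := hF.1
  have := hG.1
  have hRF := GrothLib.HomSh.hasRel_of_isCoh hF
  have hCdd := GrothLib.HomSh.isCoh_dual (GrothLib.HomSh.hasRel_dual hRF)
  have hRdd := GrothLib.HomSh.hasRel_of_isCoh hCdd
  have := hCdd.1
  have hOr : RefHull.IsReflexive (Coh.structureModule X) :=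
    (GrothLib.HomSh.isReflexive_iff (GrothLib.HomSh.hasRel_of_isCoh (GrothLib.HomSh.isCoh_structureModule X))).2
      fun x => by
        have : Module.Free (X.presheaf.stalk x) ((Coh.structureModule X).presheaf.stalk x) :=
          Module.Free.of_equiv (GrothLib.HomSh.unitStalk x)
        have : Module.Finite (X.presheaf.stalk x) ((Coh.structureModule X).presheaf.stalk x) :=
          Module.Finite.equiv (GrothLib.HomSh.unitStalk x)
        exact (inferInstance : Module.IsReflexive (X.presheaf.stalk x) ((Coh.structureModule X).presheaf.stalk x))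
  have hddr : RefHull.IsReflexive (RefHull.ddual F) :=
    GrothLib.HomSh.isReflexive_homSh (GrothLib.HomSh.hasRel_dual hRF) (GrothLib.HomSh.isCoh_structureModule X) hOr
  have hlin : ∀ x (v : F.presheaf.stalk x),
      RefHull.stalkMapₗ (RefHull.bidualMap F) x v = GrothLib.QCoh.stalkLin (RefHull.bidualMap F) x v := by
    intro x v
    obtain ⟨U, hU, m, rfl⟩ := TopCat.Presheaf.exists_germ_eq F.presheaf v
    rw [RefHull.stalkMapₗ_germ, GrothLib.QCoh.stalkLin_germ]
  constructor
  · rintro ⟨ψ, hψ⟩ x hx _ ⟨v, rfl⟩
    have hjη : Function.Injective (RefHull.stalkMapₗ (RefHull.bidualMap F) (genericPoint X)) := by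
      rw [funext (hlin _)]
      refine ((GrothLib.HomSh.bijective_bidual_iff hRF _).2 ?_).1
      let hfield : Field (X.presheaf.stalk (genericPoint X)) := IsField.toField (Field.toIsField X.functionField)
      have := hRF.span_stalk (genericPoint X)
      exact (inferInstance : Module.IsReflexive (X.presheaf.stalk (genericPoint X)) (F.presheaf.stalk (genericPoint X)))
    have : IsDomain (X.presheaf.stalk x) := (hX x).1
    have := GrothLib.Ref1.isDiscreteValuationRing_of_dim_one hX hx
    have := hRF.span_stalk x
    obtain ⟨w, hw⟩ := GrothLib.Ref1.bidual_stalk_surjective hRF x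
      (GrothLib.Ref1.bidual_surjective_of_pid _ _) (RefHull.stalkMapₗ ψ x v)
    refine ⟨w, hjη ?_⟩
    refine (GrothLib.Ref1.stalkMapₗ_sp (F := F) (RefHull.bidualMap F) _ w).trans ?_
    rw [hw, ← GrothLib.Ref1.stalkMapₗ_sp, hψ]
    rfl
  · intro hT
    refine GrothLib.Ref1.exists_hom_of_dim_one hX hRdd hddr _ fun x hx v => ?_
    obtain ⟨w, hw⟩ := hT x hx ⟨v, rfl⟩
    refine ⟨RefHull.stalkMapₗ (RefHull.bidualMap F) x w, ?_⟩
    rw [← GrothLib.Ref1.stalkMapₗ_sp]
    exact congrArg _ hw

end Groth.Agent.S16083
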