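import Groth.Statements.S16084
import Groth.Agent.Lib.Ref1.Unit

set_option autoImplicit false
universe u
open CategoryTheory CategoryTheory.Limits AlgebraicGeometry TopologicalSpace
open SDiv

namespace Groth.Agent.S16084

/-- Let X be an integral locally Noetherian normal scheme, F a rank one coherent reflexive O_X-module
and s a nonzero global section of F. Let Z be the set of points x at which multiplication by the
germ of s, O_{X,x} → F_x, fails to be bijective (the complement of the open where s generates F).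
Then every irreducible component of Z has codimension 1 in X: at each point z of Z to which no other
point of Z specializes, the local ring O_{X,z} has dimension 1. -/
theorem result (X : Scheme.{u}) [IsIntegral X] [IsLocallyNoetherian X]
    (hX : Pi1.IsNormalScheme X) (F : X.Modules) (hF : RefHull.IsRef1 F) (s : Γ(F, ⊤)) (hs : s ≠ 0) (z : ↥X)
    (hz : ¬ Function.Bijective fun a : ↑(X.presheaf.stalk z) => a • F.presheaf.germ ⊤ z trivial s)
    (hmax : ∀ y : ↥X, ¬ Function.Bijective (fun a : ↑(X.presheaf.stalk y) => a • F.presheaf.germ ⊤ y trivial s) →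
      y ⤳ z → y = z) :
    ringKrullDim ↑(X.presheaf.stalk z) = 1 := by
  have := hF.1.1
  obtain ⟨e, he⟩ := GrothLib.Ref1.exists_gen_of_genInvertible hF.2.2
  have hg : ∀ y, GrothLib.Ref1.sp F (GrothLib.Ref1.hη y) (F.presheaf.germ ⊤ y trivial s) =
      F.presheaf.germ ⊤ (genericPoint X) trivial s := fun y => GrothLib.Ref1.sp_germ F _ _ s
  have hne : F.presheaf.germ ⊤ (genericPoint X) trivial s ≠ 0 := by
    intro h0
    refine hs (TopCat.Presheaf.section_ext (C := Ab.{u}) (X := X.carrier) ⟨F.presheaf, F.isSheaf⟩ ⊤ s 0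
      fun x hx => GrothLib.Ref1.injective_sp_of_isRef1 hX hF x ?_)
    change GrothLib.Ref1.sp F (GrothLib.Ref1.hη x) (F.presheaf.germ ⊤ x trivial s) =
      GrothLib.Ref1.sp F (GrothLib.Ref1.hη x) (F.presheaf.germ ⊤ x trivial 0)
    rw [hg, h0, map_zero, map_zero]
  have hgen := GrothLib.Ref1.gen_of_ne_zero he hne
  have : IsDomain (X.presheaf.stalk z) := (hX z).1
  have hinj : Function.Injective fun a : X.presheaf.stalk z => a • F.presheaf.germ ⊤ z trivial s := by
    intro a b hab
    have := congrArg (GrothLib.Ref1.sp F (GrothLib.Ref1.hη z)) hab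
    rw [GrothLib.Ref1.sp_smul, GrothLib.Ref1.sp_smul, hg] at this
    exact GrothLib.Ref1.spR_injective z (hgen.1 this)
  by_contra hdim
  refine hz ⟨hinj, fun v => ?_⟩
  obtain ⟨c, hc⟩ := hgen.2 (GrothLib.Ref1.sp F (GrothLib.Ref1.hη z) v)
  obtain ⟨a, rfl⟩ := GrothLib.Ref1.exists_spR_eq_of_forall_dim_one hX z c fun y hy hy1 => by
    have hby : Function.Bijective fun a : X.presheaf.stalk y => a • F.presheaf.germ ⊤ y trivial s := by
      by_contra hb
      obtain rfl := hmax y hb hy
      exact hdim hy1
    obtain ⟨b, hb⟩ := hby.2 (GrothLib.Ref1.sp F hy v)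
    refine ⟨b, hgen.1 ?_⟩
    have := congrArg (GrothLib.Ref1.sp F (GrothLib.Ref1.hη y)) hb
    rw [GrothLib.Ref1.sp_smul, hg, GrothLib.Ref1.sp_sp] at this
    exact this.trans hc.symm
  refine ⟨a, GrothLib.Ref1.injective_sp_of_isRef1 hX hF z ?_⟩
  rw [GrothLib.Ref1.sp_smul, hg]
  exact hc

end Groth.Agent.S16084
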