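import Groth.Statements.S16085
import Groth.Agent.Lib.Ref1.Dual
import Groth.Prelude.Def_Ref1Cl

set_option autoImplicit false
universe u
open CategoryTheory CategoryTheory.Limits AlgebraicGeometry TopologicalSpace
open SDiv

namespace Groth.Agent.S16085

/-- Let X be an integral locally Noetherian normal scheme. Sending (F, G) to the reflexive hull (F
⊗_{O_X} G)^** makes the isomorphism classes of rank one coherent reflexive O_X-modules into an
abelian group: on that set there are a commutative and associative composition law, a neutral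
element and inverses, such that the product of the classes of F and G is the class of the reflexive
hull of F ⊗_{O_X} G, the neutral element is the class of O_X, and the inverse of the class of F is
the class of its dual 𝓗om_{O_X}(F, O_X). -/
theorem result (X : Scheme.{u}) [IsIntegral X] [IsLocallyNoetherian X] (hX : Pi1.IsNormalScheme X) :
    ∃ (mul : {c : PicF.Cl X // ∃ F : X.Modules, PicF.cl F = c ∧ RefHull.IsRef1 F} →
          {c : PicF.Cl X // ∃ F : X.Modules, PicF.cl F = c ∧ RefHull.IsRef1 F} →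
            {c : PicF.Cl X // ∃ F : X.Modules, PicF.cl F = c ∧ RefHull.IsRef1 F})
      (one : {c : PicF.Cl X // ∃ F : X.Modules, PicF.cl F = c ∧ RefHull.IsRef1 F})
      (inv : {c : PicF.Cl X // ∃ F : X.Modules, PicF.cl F = c ∧ RefHull.IsRef1 F} →
          {c : PicF.Cl X // ∃ F : X.Modules, PicF.cl F = c ∧ RefHull.IsRef1 F}),
      (∀ a b, mul a b = mul b a) ∧ (∀ a b c, mul (mul a b) c = mul a (mul b c)) ∧ (∀ a, mul one a = a) ∧
        (∀ a, mul (inv a) a = one) ∧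
        (∀ (F G : X.Modules) (hF : RefHull.IsRef1 F) (hG : RefHull.IsRef1 G),
          (mul ⟨PicF.cl F, F, rfl, hF⟩ ⟨PicF.cl G, G, rfl, hG⟩).1 = PicF.cl (RefHull.ddual (CohB1.tensorMod F G))) ∧
        one.1 = PicF.cl (Coh.structureModule X) ∧
        (∀ (F : X.Modules) (hF : RefHull.IsRef1 F), (inv ⟨PicF.cl F, F, rfl, hF⟩).1 = PicF.cl (RefHull.dual F)) := by
  classical
  have hmem : ∀ (a b : RefFun.Ref1Set X), ∃ F : X.Modules, PicF.cl F = RefFun.refMulCl a.1 b.1 ∧ RefHull.IsRef1 F := by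
    rintro ⟨_, F, rfl, hF⟩ ⟨_, G, rfl, hG⟩
    exact ⟨_, rfl, GrothLib.Ref1.isRef1_refTensor hF hG⟩
  let dualCl : PicF.Cl X → PicF.Cl X := Quot.lift (fun F => PicF.cl (RefHull.dual F)) fun F F' h =>
    Quot.sound (h.map fun e => (RefFun.homComapIso e _))
  have hinv : ∀ (a : RefFun.Ref1Set X), ∃ F : X.Modules, PicF.cl F = dualCl a.1 ∧ RefHull.IsRef1 F := by
    rintro ⟨_, F, rfl, hF⟩
    exact ⟨_, rfl, GrothLib.Ref1.isRef1_dual F hF⟩
  have key : ∀ {F G : X.Modules}, RefHull.IsRef1 F → RefHull.IsRef1 G →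
      ∀ {v : F.presheaf.stalk (genericPoint X)}, v ≠ 0 → ∀ {w : G.presheaf.stalk (genericPoint X)}, w ≠ 0 →
      (∀ x : X, Order.coheight x = 1 → GrothLib.Ref1.secOrd F v x = GrothLib.Ref1.secOrd G w x) →
      PicF.cl F = PicF.cl G :=
    fun hF hG _ hv _ hw h => Quot.sound (GrothLib.Ref1.nonempty_iso_of_secOrd_eq hX hF hG hv hw h)
  have hT := @GrothLib.Ref1.isRef1_refTensor X _ _
  have hne := @GrothLib.Ref1.refMul_ne_zero X _ _
  refine ⟨fun a b => ⟨RefFun.refMulCl a.1 b.1, hmem a b⟩,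
    ⟨PicF.cl (Coh.structureModule X), _, rfl, GrothLib.Ref1.isRef1_structureModule⟩,
    fun a => ⟨dualCl a.1, hinv a⟩, ?_, ?_, ?_, ?_, fun F G hF hG => rfl, rfl, fun F hF => rfl⟩
  · rintro ⟨_, F, rfl, hF⟩ ⟨_, G, rfl, hG⟩
    obtain ⟨v, hv⟩ := GrothLib.Ref1.exists_ne_zero_of_isRef1 hF
    obtain ⟨w, hw⟩ := GrothLib.Ref1.exists_ne_zero_of_isRef1 hG
    refine Subtype.ext (key (hT hF hG) (hT hG hF) (hne hF hG hv hw) (hne hG hF hw hv) fun x hx => ?_)
    rw [GrothLib.Ref1.secOrd_refMul hX hF hG hv hw hx, GrothLib.Ref1.secOrd_refMul hX hG hF hw hv hx, add_comm]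
  · rintro ⟨_, F, rfl, hF⟩ ⟨_, G, rfl, hG⟩ ⟨_, H, rfl, hH⟩
    obtain ⟨u, hu⟩ := GrothLib.Ref1.exists_ne_zero_of_isRef1 hF
    obtain ⟨v, hv⟩ := GrothLib.Ref1.exists_ne_zero_of_isRef1 hG
    obtain ⟨w, hw⟩ := GrothLib.Ref1.exists_ne_zero_of_isRef1 hH
    refine Subtype.ext (key (hT (hT hF hG) hH) (hT hF (hT hG hH)) (hne (hT hF hG) hH (hne hF hG hu hv) hw)
      (hne hF (hT hG hH) hu (hne hG hH hv hw)) fun x hx => ?_)
    rw [GrothLib.Ref1.secOrd_refMul hX (hT hF hG) hH (hne hF hG hu hv) hw hx,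
      GrothLib.Ref1.secOrd_refMul hX hF hG hu hv hx, GrothLib.Ref1.secOrd_refMul hX hF (hT hG hH) hu (hne hG hH hv hw) hx,
      GrothLib.Ref1.secOrd_refMul hX hG hH hv hw hx, add_assoc]
  · rintro ⟨_, F, rfl, hF⟩
    obtain ⟨v, hv⟩ := GrothLib.Ref1.exists_ne_zero_of_isRef1 hF
    have hu := (GrothLib.Ref1.gen_unitStalk (genericPoint X)).ne_zero
    have h1 := GrothLib.Ref1.isRef1_structureModule (X := X)
    refine Subtype.ext (key (hT h1 hF) hF (hne h1 hF hu hv) hv fun x hx => ?_)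
    rw [GrothLib.Ref1.secOrd_refMul hX h1 hF hu hv hx, GrothLib.Ref1.secOrd_unit hx, zero_add]
  · rintro ⟨_, F, rfl, hF⟩
    obtain ⟨v, hv⟩ := GrothLib.Ref1.exists_ne_zero_of_isRef1 hF
    obtain ⟨θ, hθ, hord⟩ := GrothLib.Ref1.exists_secOrd_dual F hX hF hv
    have hD := GrothLib.Ref1.isRef1_dual F hF
    refine Subtype.ext (key (hT hD hF) GrothLib.Ref1.isRef1_structureModule (hne hD hF hθ hv)
      (GrothLib.Ref1.gen_unitStalk (genericPoint X)).ne_zero fun x hx => ?_)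
    rw [GrothLib.Ref1.secOrd_refMul hX hD hF hθ hv hx, GrothLib.Ref1.secOrd_unit hx, hord x hx, neg_add_cancel]

end Groth.Agent.S16085
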