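import Groth.Statements.S16088
import Groth.Agent.Lib.InvDual.Basic
import Groth.Agent.Lib.IdealModSec.Basic

set_option autoImplicit false
set_option linter.all false
universe u
open CategoryTheory CategoryTheory.Limits AlgebraicGeometry TopologicalSpace
open SDiv

namespace Groth.Agent.S16088

/-- Let S be a scheme, D ⊆ S an effective Cartier divisor with ideal sheaf 𝓓 and i : D ⟶ S its closed
immersion. The normal sheaf of D in S, the O_D-dual of the conormal sheaf i^*𝓓, is isomorphic to the
restriction i^*(O_S(D)) to D of O_S(D) = 𝓗om_{O_S}(𝓓, O_S), the dual of the invertible ideal 𝓓.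
Existence of an isomorphism of O_D-modules only; the canonical identification is not named here. -/
theorem result (S : Scheme.{u}) (𝓓 : S.IdealSheafData)
    (hD : BlowUp.IsEffCartierIdeal 𝓓) :
    Nonempty (RefHull.dual (Omega.conormal 𝓓.subschemeι) ≅
      (Scheme.Modules.pullback 𝓓.subschemeι).obj (RefHull.dual (ClSub.idealMod 𝓓))) := by
  rw [Omega.conormal, Scheme.IdealSheafData.ker_subschemeι]
  exact GrothLib.InvDual.nonempty_dual_pullback_iso _ (GrothLib.IdealModSec.isInvertible_of_isEffCartier hD)

end Groth.Agent.S16088
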