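import Groth.Statements.S1609
import Groth.Agent.Lib.BaseChange.Irred

set_option autoImplicit false
universe u
open CategoryTheory CategoryTheory.Limits AlgebraicGeometry
open Variety

namespace Groth.Agent.S1609

/-- Geometric irreducibility of a k-scheme can be checked after an arbitrary extension of the base
field. -/
theorem result (k : Type u) [Field k] (X : Scheme.{u}) [X.Over (Spec (CommRingCat.of k))] (k' : Type u) [Field k'] [Algebra k k']
    [GeometricallyIrreducible (Curv2.bcSnd k X k')] : GeometricallyIrreducible (X ↘ (Spec (CommRingCat.of k))) := by
    open GrothLib.BaseChange in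
    rw [geometricallyIrreducible_iff_forall]
    intro K _ _
    obtain ⟨m, hm⟩ := Ideal.exists_maximal (TensorProduct k k' K)
    let M := (TensorProduct k k' K) ⧸ m
    let _ : Field M := Ideal.Quotient.field m
    let iK : K →ₐ[k] M := (Ideal.Quotient.mkₐ k m).comp Algebra.TensorProduct.includeRight
    let _ : Algebra K M := iK.toRingHom.toAlgebra
    have : IsScalarTower k K M := IsScalarTower.of_algebraMap_eq fun a => (iK.commutes a).symm
    have := GeometricallyIrreducible.geometrically_irreducibleSpace (f := Curv2.bcSnd k X k')
      _ _ _ (isPullback_bcMap k X k' M)
    exact (bcMap k X K M).surjective.irreducibleSpace (bcMap k X K M).continuous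

end Groth.Agent.S1609
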