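import Groth.Statements.S16090
import Groth.Agent.Lib.Ref1.Class

set_option autoImplicit false
universe u
open CategoryTheory CategoryTheory.Limits AlgebraicGeometry TopologicalSpace
open SDiv

namespace Groth.Agent.S16090

/-- The class map is additive for the reflexive tensor product: suppose X is a scheme that is integral,
normal and locally Noetherian, write η for its generic point, and take F and G to be rank one
coherent reflexive O_X-modules with s ∈ F_η, t ∈ G_η nonzero rational sections, with orders
ord_{x,F}(s), ord_{x,G}(t) at the points x of codimension 1 taken with respect to generators of the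
free rank one stalks. Then the reflexive hull (F ⊗_{O_X} G)^** admits a nonzero rational section w
whose order at every codimension-1 point x is ord_{x,F}(s) + ord_{x,G}(t); so the Weil divisor class
of (F ⊗ G)^** is the sum of the classes of F and G. -/
theorem result (X : Scheme.{u}) [IsIntegral X] [IsLocallyNoetherian X]
    (hX : Pi1.IsNormalScheme X) (F G : X.Modules) (hF : RefHull.IsRef1 F) (hG : RefHull.IsRef1 G)
    (s : Cyc.secFibre F (genericPoint ↥X)) (hs : s ≠ 0) (t : Cyc.secFibre G (genericPoint ↥X)) (ht : t ≠ 0) :
    ∃ w : Cyc.secFibre (RefHull.ddual (CohB1.tensorMod F G)) (genericPoint ↥X), w ≠ 0 ∧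
      ∀ (x : ↥X), Order.coheight x = 1 →
        Cyc.secOrdAt (RefHull.ddual (CohB1.tensorMod F G)) (genericPoint ↥X) x
            ((genericPoint_spec ↥X).specializes (Set.mem_univ x)) w =
          Cyc.secOrdAt F (genericPoint ↥X) x ((genericPoint_spec ↥X).specializes (Set.mem_univ x)) s +
            Cyc.secOrdAt G (genericPoint ↥X) x ((genericPoint_spec ↥X).specializes (Set.mem_univ x)) t := by
  obtain ⟨v, rfl⟩ := GrothLib.Ref1.exists_eq_mk s
  obtain ⟨w, rfl⟩ := GrothLib.Ref1.exists_eq_mk t
  have hv : v ≠ 0 := fun h => hs (by rw [h]; exact Submodule.Quotient.mk_zero _)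
  have hw : w ≠ 0 := fun h => ht (by rw [h]; exact Submodule.Quotient.mk_zero _)
  exact ⟨Submodule.Quotient.mk (GrothLib.Ref1.refMul F G v w),
    fun h => GrothLib.Ref1.refMul_ne_zero hF hG hv hw
      (GrothLib.Ref1.mk_injective (h.trans (Submodule.Quotient.mk_zero _).symm)),
    fun x hx => GrothLib.Ref1.secOrd_refMul hX hF hG hv hw hx⟩

end Groth.Agent.S16090
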