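import Groth.Statements.S16092
import Groth.Agent.Lib.Ref1.Class
import Groth.Agent.Lib.InvExt.FiniteFibre
import Groth.Agent.Lib.Ample.Functorial

set_option autoImplicit false
universe u
open CategoryTheory CategoryTheory.Limits AlgebraicGeometry TopologicalSpace
open SDiv

namespace Groth.Agent.S16092

/-- Let X be an integral scheme that is locally Noetherian, with generic point η, let L and N be
invertible O_X-modules and s ∈ L_η, t ∈ N_η nonzero rational sections, with orders ord_{x,L}(s),
ord_{x,N}(t) along the prime divisors, i.e. at the points x with dim O_{X,x} = 1, taken with respect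
to generators of the stalks. Then L ⊗_{O_X} N has a nonzero rational section w with ord_{x,L ⊗ N}(w)
= ord_{x,L}(s) + ord_{x,N}(t) at every such x; hence the Weil divisor class of L ⊗ N is the sum of
the classes of L and N. The published statement names w as the product s·t; here only the existence
of such a w is asserted. -/
theorem result (X : Scheme.{u}) [IsIntegral X] [IsLocallyNoetherian X] (L N : X.Modules)
    (hL : PicF.IsInvertible L) (hN : PicF.IsInvertible N) (s : Cyc.secFibre L (genericPoint ↥X)) (hs : s ≠ 0)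
    (t : Cyc.secFibre N (genericPoint ↥X)) (ht : t ≠ 0) :
    ∃ w : Cyc.secFibre (CohB1.tensorMod L N) (genericPoint ↥X), w ≠ 0 ∧
      ∀ (x : ↥X), ringKrullDim ↑(X.presheaf.stalk x) = 1 →
        Cyc.secOrdAt (CohB1.tensorMod L N) (genericPoint ↥X) x ((genericPoint_spec ↥X).specializes (Set.mem_univ x)) w =
          Cyc.secOrdAt L (genericPoint ↥X) x ((genericPoint_spec ↥X).specializes (Set.mem_univ x)) s +
            Cyc.secOrdAt N (genericPoint ↥X) x ((genericPoint_spec ↥X).specializes (Set.mem_univ x)) t := by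
  have := GrothLib.InvExt.isQuasicoherent_of_isInvertible hL
  have := GrothLib.InvExt.isQuasicoherent_of_isInvertible hN
  have hT := GrothLib.Ample.isInvertible_tensorMod hL hN
  have := GrothLib.InvExt.isQuasicoherent_of_isInvertible hT
  obtain ⟨v, rfl⟩ := GrothLib.Ref1.exists_eq_mk s
  obtain ⟨w, rfl⟩ := GrothLib.Ref1.exists_eq_mk t
  have hv : v ≠ 0 := fun h => hs (by rw [h]; exact Submodule.Quotient.mk_zero _)
  have hw : w ≠ 0 := fun h => ht (by rw [h]; exact Submodule.Quotient.mk_zero _)
  obtain ⟨e, he⟩ := GrothLib.Ref1.exists_gen_of_isInvertible hL (genericPoint X)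
  obtain ⟨e', he'⟩ := GrothLib.Ref1.exists_gen_of_isInvertible hN (genericPoint X)
  refine ⟨Submodule.Quotient.mk (GrothLib.Ref1.tmulStalk L N _ v w), fun h =>
    ((GrothLib.Ref1.gen_of_ne_zero he hv).tmulStalk L N (GrothLib.Ref1.gen_of_ne_zero he' hw)).ne_zero
      (GrothLib.Ref1.mk_injective (h.trans (Submodule.Quotient.mk_zero _).symm)), fun x hx => ?_⟩
  have hx' := GrothLib.Ref1.coheight_of_dim_one hx
  obtain ⟨g, hg⟩ := GrothLib.Ref1.exists_gen_of_isInvertible hL x
  obtain ⟨g', hg'⟩ := GrothLib.Ref1.exists_gen_of_isInvertible hN x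
  obtain ⟨a, ha, rfl⟩ := GrothLib.Ref1.exists_coeff hg hv
  obtain ⟨b, hb, rfl⟩ := GrothLib.Ref1.exists_coeff hg' hw
  show GrothLib.Ref1.secOrd (CohB1.tensorMod L N) _ x = GrothLib.Ref1.secOrd L _ x + GrothLib.Ref1.secOrd N _ x
  simp only [map_smul, LinearMap.smul_apply, ← mul_smul]
  rw [mul_comm b a, ← GrothLib.Ref1.sp_tmulStalk, GrothLib.Ref1.secOrd_gen hx' (hg.tmulStalk L N hg') (mul_ne_zero ha hb),
    GrothLib.Ref1.secOrd_gen hx' hg ha, GrothLib.Ref1.secOrd_gen hx' hg' hb, Scheme.ord_mul ha hb]

end Groth.Agent.S16092
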