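import Groth.Statements.S16095
import Groth.Agent.Lib.BMGysin.Points
import Groth.Agent.Lib.NormFib.Birational
-- import your own Groth.Agent.* helpers here

set_option autoImplicit false
universe u
open CategoryTheory AlgebraicGeometry Opposite
open BMCoh

namespace Groth.Agent.S16095

open GrothLib.BMGysin

lemma pushC_pull {V : ObjectProperty Scheme.{u}} [BMCoh.IsConstructible V] {R : Type u}
    [CommRing R] {A : BMCoh.Coefs R} (T : BMCoh.PreTheory V R A) {X Y : BMCoh.Obj V} (g : X ⟶ Y)
    [IsProper g.hom] (hg : Function.Surjective g.hom) (M : A.Cat) (i n : ℤ) (c : T.gp Y M i n) :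
    (pushC T g M i n).hom ((T.pull g M i n).hom c) = c :=
  (pull_bijective_of_surjective T g hg M i n).1 (pull_pushC T g M i n _)

/-- Let T be a pre-theory (the groups, proper push-forwards and residue maps of a twisted Borel–Moore
cohomology theory, with their conditions) with coefficients in A on a constructible class V of
Noetherian schemes, X an object, w a point of X, Y an integral object identified by e with the
normalisation of the reduced closure of w, and φ : Y → X the normalisation map followed by the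
inclusion of that closure, assumed proper (so that the normalisation map is finite). Let L be a
push-forward datum of groups of points along φ from the generic point of Y to w: maps H^i(η_Y, M(n))
→ H^i(w, M(n)) that, read through nonempty opens of the two reduced closures, are proper
push-forward along the restrictions of φ. Then each map L is bijective. (Only the push-forward
structure of T is used, so the result is stated for a pre-theory; properness of φ is a hypothesis,
automatic when the closure of w has finite normalisation.) -/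
theorem result
    (V : ObjectProperty Scheme.{u}) [BMCoh.IsConstructible V] (R : Type u) [CommRing R]
    (A : BMCoh.Coefs R) (T : BMCoh.PreTheory V R A) (X : BMCoh.Obj V) (w : X.scheme)
    [IsIntegral (X.ptSub w).scheme]
    [QuasiCompact ((X.ptSub w).scheme.fromSpecStalk (genericPoint (X.ptSub w).scheme))]
    [QuasiSeparated ((X.ptSub w).scheme.fromSpecStalk (genericPoint (X.ptSub w).scheme))]
    (Y : BMCoh.Obj V) [IsIntegral Y.scheme] (e : Y.scheme ≅ Curv2.normalization (X.ptSub w).scheme)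
    (φ : Y.scheme ⟶ X.scheme) [IsProper φ]
    (hφ : φ = e.hom ≫ Curv2.normalizationι (X.ptSub w).scheme ≫ X.ptSubι w)
    (L : T.PtPush φ (genericPoint Y.scheme) w) (M : A.Cat) (i n : ℤ) :
    Function.Bijective (L.cpt M i n).hom := by
  set ν : Y.scheme ⟶ (X.ptSub w).scheme := e.hom ≫ Curv2.normalizationι (X.ptSub w).scheme with hν
  have hνφ : ν ≫ X.ptSubι w = φ := by rw [hν, hφ, Category.assoc]
  have hνp : IsProper ν := by
    have : IsProper (ν ≫ X.ptSubι w) := by rw [hνφ]; infer_instance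
    exact IsProper.of_comp ν (X.ptSubι w)
  have hN : IsProper (Curv2.normalizationι (X.ptSub w).scheme) := by
    have : IsProper (e.inv ≫ ν) := inferInstance
    rwa [hν, Iso.inv_hom_id_assoc] at this
  have hfin : IsFinite (Curv2.normalizationι (X.ptSub w).scheme) :=
    (IsFinite.iff_isProper_and_isAffineHom).2 ⟨hN, inferInstance⟩
  obtain ⟨O, hO, hiso⟩ := GrothLib.NormFib.exists_isIso_of_finite hfin
  have hνiso : IsIso (ν ∣_ O) := by
    rw [hν, morphismRestrict_comp]
    have : IsIso (e.hom ∣_ Curv2.normalizationι (X.ptSub w).scheme ⁻¹ᵁ O) :=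
      IsZariskiLocalAtTarget.restrict (P := MorphismProperty.isomorphisms Scheme)
        (inferInstanceAs (IsIso e.hom)) _
    exact IsIso.comp_isIso' this hiso
  have hs : Function.Surjective (Y.ptSubι (genericPoint Y.scheme)) := fun z => by
    have : z ∈ Set.range (Y.ptSubι (genericPoint Y.scheme)) := by rw [range_ptSubι, genericPoint_closure]; trivial
    exact this
  have hsurj : AlgebraicGeometry.Surjective (Y.ptSubι (genericPoint Y.scheme)) := ⟨hs⟩
  have hj : IsIso (Y.ptSubι (genericPoint Y.scheme)) := isIso_of_isClosedImmersion_of_surjective _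
  let ψ : (Y.ptSub (genericPoint Y.scheme)).scheme ⟶ (X.ptSub w).scheme := Y.ptSubι (genericPoint Y.scheme) ≫ ν
  have hψ : ψ ≫ X.ptSubι w = Y.ptSubι (genericPoint Y.scheme) ≫ φ := by rw [Category.assoc, hνφ]
  have hψiso : IsIso (ψ ∣_ O) := by
    show IsIso ((Y.ptSubι (genericPoint Y.scheme) ≫ ν) ∣_ O)
    rw [morphismRestrict_comp]
    exact IsIso.comp_isIso' (IsZariskiLocalAtTarget.restrict
      (P := MorphismProperty.isomorphisms Scheme) hj _) hνiso
  -- over small opens the map is an isomorphism of objects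
  have iso : ∀ (W' : BMCoh.ptIdx X w) (W₀ : BMCoh.ptIdx Y (genericPoint Y.scheme)), W₀.1 = ψ ⁻¹ᵁ W'.1 → W'.1 ≤ O →
      ∃ g : (Y.ptSub (genericPoint Y.scheme)).res W₀.1 ⟶ (X.ptSub w).res W'.1, Function.Surjective g.hom ∧
        g.hom ≫ W'.1.ι = W₀.1.ι ≫ ψ := by
    rintro W' ⟨W₀, hW₀⟩ rfl hle
    have h1 : IsIso (ψ ∣_ W'.1) := by
      have h2 : IsIso ((ψ ∣_ O) ∣_ O.ι ⁻¹ᵁ W'.1) := inferInstance
      have h3 : O.ι ''ᵁ O.ι ⁻¹ᵁ W'.1 = W'.1 := by
        rw [Scheme.Hom.image_preimage_eq_opensRange_inf, Scheme.Opens.opensRange_ι]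
        exact inf_eq_right.2 hle
      have h4 := (MorphismProperty.arrow_mk_iso_iff (MorphismProperty.isomorphisms Scheme)
        (morphismRestrictRestrict ψ O (O.ι ⁻¹ᵁ W'.1))).1 h2
      rw [h3] at h4
      exact h4
    refine ⟨⟨ψ ∣_ W'.1, inferInstanceAs (IsOpenImmersion (ψ ∣_ W'.1)), ?_⟩,
      (ψ ∣_ W'.1).surjective, morphismRestrict_ι _ _⟩
    have h5 : WeilCoh.dim ((Y.ptSub (genericPoint Y.scheme)).res (ψ ⁻¹ᵁ W'.1)).scheme = WeilCoh.dim (Y.ptSub (genericPoint Y.scheme)).scheme :=
      hW₀.2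
    have h6 : WeilCoh.dim ((X.ptSub w).res W'.1).scheme = WeilCoh.dim (X.ptSub w).scheme := W'.2.2
    have h7 := L.codim_eq
    unfold BMCoh.relCodim at h7
    refine h5.trans (Eq.trans ?_ h6.symm)
    exact_mod_cast (sub_eq_zero.1 h7).symm
  let O' : BMCoh.ptIdx X w := mkPtIdx X O hO
  constructor
  · rw [injective_iff_map_eq_zero]
    intro a ha
    obtain ⟨W, b, rfl⟩ := exists_rep (T := T) M i n (goodP_pt Y (genericPoint Y.scheme)) a
    obtain ⟨W', W₀, hW₀, hWO, hle⟩ :=
      exists_restriction φ (genericPoint Y.scheme) w L.maps_pt L.codim_eq ψ hψ W O'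
    obtain ⟨g, hgs, hg⟩ := iso W' W₀ hW₀ hWO
    obtain ⟨f, hf, hi, hn, hfac, h1⟩ :=
      ptPush_cpt_restrict φ (genericPoint Y.scheme) w L ψ hψ W' W₀ hW₀
    obtain rfl : f = g.hom := by rw [← cancel_mono W'.1.ι, hfac, hg]
    rw [← ι_pull (T := T) M i n hle b] at ha ⊢
    generalize hb₀ : (T.pull (Idx.res (Y.ptSub (genericPoint Y.scheme)) W₀ W hle) M i n).hom b = b₀ at ha ⊢
    rw [h1] at ha
    obtain ⟨W'', h'', hz⟩ := exists_le_of_ι_eq_zero (T := T) M i n (goodP_pt X w) ha
    obtain ⟨W₃, W₀', hW₀', hW₃, hle'⟩ :=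
      exists_restriction φ (genericPoint Y.scheme) w L.maps_pt L.codim_eq ψ hψ W₀ W''
    obtain ⟨g', -, hg'⟩ := iso W₃ W₀' hW₀' (hW₃.trans (h''.trans hWO))
    have hcomm : Idx.res (Y.ptSub (genericPoint Y.scheme)) W₀' W₀ hle' ≫ g =
        g' ≫ Idx.res (X.ptSub w) W₃ W'' hW₃ ≫ Idx.res (X.ptSub w) W'' W' h'' := by
      apply GrothLib.BMGysin.hom_ext
      rw [← cancel_mono W'.1.ι, BMCoh.comp_hom, BMCoh.comp_hom, BMCoh.comp_hom, Category.assoc,
        Category.assoc, Category.assoc, hg, Idx.res_hom, Idx.res_hom, Idx.res_hom,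
        Scheme.homOfLE_ι, Scheme.homOfLE_ι, hg', Scheme.homOfLE_ι_assoc]
    refine (ι_pull (T := T) M i n hle' b₀).symm.trans ?_
    rw [← pull_pushC T g M i n b₀, pull_comp, hcomm, ← pull_comp, ← pull_comp]
    exact (congrArg _ ((congrArg _ ((congrArg _ hz).trans (map_zero _))).trans (map_zero _))).trans
      (map_zero _)
  · intro a
    obtain ⟨W₁, c, rfl⟩ := exists_rep (T := T) M i n (goodP_pt X w) a
    let W₂ : BMCoh.ptIdx X w := mkPtIdx X (W₁.1 ⊓ O)
      ((goodP_pt X w).inf W₁ O').1
    let topY : BMCoh.ptIdx Y (genericPoint Y.scheme) :=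
      mkPtIdx Y ⊤ (goodP_pt Y (genericPoint Y.scheme)).top
    obtain ⟨W', W₀, hW₀, hW', -⟩ :=
      exists_restriction φ (genericPoint Y.scheme) w L.maps_pt L.codim_eq ψ hψ topY W₂
    obtain ⟨g, hgs, hg⟩ := iso W' W₀ hW₀ (hW'.trans inf_le_right)
    obtain ⟨f, hf, hi, hn, hfac, h1⟩ :=
      ptPush_cpt_restrict φ (genericPoint Y.scheme) w L ψ hψ W' W₀ hW₀
    obtain rfl : f = g.hom := by rw [← cancel_mono W'.1.ι, hfac, hg]
    refine ⟨((T.ptι Y (genericPoint Y.scheme) i n W₀).app M).hom ((T.pull g M i n).hom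
      ((T.pull (Idx.res (X.ptSub w) W' W₁ (hW'.trans inf_le_left)) M i n).hom c)), ?_⟩
    rw [h1]
    exact (congrArg _ (pushC_pull T g hgs M i n _)).trans (ι_pull (T := T) M i n _ c)

end Groth.Agent.S16095
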