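import Groth.Statements.S16097
import Groth.Agent.Lib.BMGysin.PushRes
import Groth.Agent.Lib.NormFib.Birational
-- import your own Groth.Agent.* helpers here

set_option autoImplicit false
universe u
open CategoryTheory AlgebraicGeometry Opposite
open BMCoh

namespace Groth.Agent.S16097

open GrothLib.BMGysin

/-- Let T be a pre-theory (the groups, proper push-forwards and residue maps of a twisted Borel–Moore
cohomology theory, with their conditions) with coefficients in A on a constructible class V of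
Noetherian schemes. Assume moreover that the residue maps of T are compatible with replacing the
closed part of a decomposition by a closed subscheme with the same support: whenever D and D'' are
decompositions of one object whose open parts are identified over it (gU) and k is a surjective
closed immersion from the closed part of D'' to that of D over it, the residue map of D'' followed
by push-forward along k is the residue map of D (hypothesis hred. The published lemma states neither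
this hypothesis nor the properness of φ below, that is the finiteness of the normalisation map,
which it uses through the push-forward along that map; it reads the functoriality of the Gysin
sequences under a proper morphism f, asked of such a theory with closed part Z' = f⁻¹(Z), as
including this case, while the conditions of a pre-theory here ask that functoriality only when the
closed parts form a cartesian square). Let X be an object, w a point of X of codimension q, Y an
integral object identified by e with the normalisation of the reduced closure of w, φ : Y → X the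
normalisation map followed by the inclusion of that closure, assumed proper, and η the generic point
of Y, of codimension 0. Let P be push-forward data for X at level q (maps ι_x : H^i(x, M(n)) →
H^{i+2q}(F_qX, M(n+q)) for the points x of codimension q, agreeing with proper push-forward), Q
residue data for X at level q (maps ∂_x : H^{i₁}(F_qX, M(n₁)) → H^{i₂}(x, M(n₂)) for the points x of
codimension q + 1, agreeing with the residue maps of decompositions, finitely supported values), L a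
push-forward datum of groups of points along φ from η to w, P' and Q' the corresponding data for Y
at level 0, t a map from the points of codimension 1 of Y to the points of codimension q + 1 of X,
and F y, for each point y of codimension 1 of Y, a push-forward datum of groups of points along φ
from y to t y (in particular t y = φ(y)). The bidegrees (i₁, n₁) = (i + 2q, n + q), (i₂, n₂) = (i₁ +
1 − 2(q+1), n₁ − (q+1)) = (i₃ + 1 − 2, n₃ − 1) and (i₃, n₃) = (i, n) are integer variables carried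
with these equations. Then for every a ∈ H^i(η, M(n)), applying L, then ι_w, then the total residue
map ∂ of X at level q gives the same element of ⊕_x H^{i₂}(x, M(n₂)) (x of codimension q + 1 in X)
as applying ι'_η, then the total residue map ∂' of Y at level 0, then the sum map ⊕_y H^{i₂}(y,
M(n₂)) → ⊕_x H^{i₂}(x, M(n₂)) that sends the summand of y into the summand of t y by F y. (Stated
for a pre-theory: only push-forwards and residue maps with their conditions enter.) -/
theorem result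
    (V : ObjectProperty Scheme.{u}) [BMCoh.IsConstructible V] (R : Type u) [CommRing R]
    (A : BMCoh.Coefs R) (T : BMCoh.PreTheory V R A)
    (hred : ∀ (S : BMCoh.Obj V) (D D'' : BMCoh.Decomp S) (gU : D''.U ⟶ D.U)
      (k : D''.Z.scheme ⟶ D.Z.scheme) [IsClosedImmersion k] [AlgebraicGeometry.Surjective k],
      gU ≫ D.j = D''.j → k ≫ D.i = D''.i →
      ∀ (M : A.Cat) (i n i' n' : ℤ) (hi : i' = i + 1 - 2 * D.codim) (hn : n' = n - D.codim)
        (hi'' : i' = i + 1 - 2 * D''.codim) (hn'' : n' = n - D''.codim)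
        (hk : i' = i' + 2 * BMCoh.relCodim D''.Z.scheme D.Z.scheme)
        (hk' : n' = n' + BMCoh.relCodim D''.Z.scheme D.Z.scheme),
      T.pull gU M i n ≫ T.res D'' M i n i' n' hi'' hn'' ≫ T.push k M i' n' i' n' hk hk' =
        T.res D M i n i' n' hi hn)
    (X : BMCoh.Obj V) (q : ℕ) (w : X.cdPt q)
    [IsIntegral (X.ptSub w.1).scheme]
    [QuasiCompact ((X.ptSub w.1).scheme.fromSpecStalk (genericPoint (X.ptSub w.1).scheme))]
    [QuasiSeparated ((X.ptSub w.1).scheme.fromSpecStalk (genericPoint (X.ptSub w.1).scheme))]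
    (Y : BMCoh.Obj V) [IsIntegral Y.scheme] (e : Y.scheme ≅ Curv2.normalization (X.ptSub w.1).scheme)
    (φ : Y.scheme ⟶ X.scheme) [IsProper φ]
    (hφ : φ = e.hom ≫ Curv2.normalizationι (X.ptSub w.1).scheme ≫ X.ptSubι w.1)
    (hη : WeilCoh.codim Y.scheme (genericPoint Y.scheme) = 0)
    (P : T.PushData X q) (Q : T.ResData X q) (L : T.PtPush φ (genericPoint Y.scheme) w.1)
    (P' : T.PushData Y 0) (Q' : T.ResData Y 0) (t : Y.cdPt 1 → X.cdPt (q + 1))
    (F : ∀ y : Y.cdPt 1, T.PtPush φ y.1 (t y).1)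
    (M : A.Cat) (i n i₁ n₁ i₂ n₂ i₃ n₃ : ℤ)
    (h1 : i₁ = i + 2 * (q : ℤ)) (h1' : n₁ = n + (q : ℤ))
    (h2 : i₂ = i₁ + 1 - 2 * ((q : ℤ) + 1)) (h2' : n₂ = n₁ - ((q : ℤ) + 1))
    (h3 : i₃ = i + 2 * ((0 : ℕ) : ℤ)) (h3' : n₃ = n + ((0 : ℕ) : ℤ))
    (h4 : i₂ = i₃ + 1 - 2 * (((0 : ℕ) : ℤ) + 1)) (h4' : n₂ = n₃ - (((0 : ℕ) : ℤ) + 1))
    (a : T.ptGp Y (genericPoint Y.scheme) M i n) :
    (Q.tot M i₁ n₁ i₂ n₂ h2 h2').hom ((P.cpt w M i n i₁ n₁ h1 h1').hom ((L.cpt M i n).hom a)) =
      (BMCoh.PreTheory.PtPush.famTot t F M i₂ n₂).hom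
        ((Q'.tot M i₃ n₃ i₂ n₂ h4 h4').hom
          ((P'.cpt ⟨genericPoint Y.scheme, hη⟩ M i n i₃ n₃ h3 h3').hom a)) := by
  obtain rfl : i₃ = i := by simpa using h3
  obtain rfl : n₃ = n := by simpa using h3'
  set ν : Y.scheme ⟶ (X.ptSub w.1).scheme := e.hom ≫ Curv2.normalizationι (X.ptSub w.1).scheme with hν
  have hνφ : ν ≫ X.ptSubι w.1 = φ := by rw [hν, hφ, Category.assoc]
  have hfinφ : IsFinite φ := by
    have : IsAffineHom φ := by rw [hφ]; infer_instance
    exact (IsFinite.iff_isProper_and_isAffineHom).2 ⟨inferInstance, inferInstance⟩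
  have hpd : ∀ z : Y.scheme, WeilCoh.pdim X.scheme (φ z) = WeilCoh.pdim Y.scheme z :=
    pdim_map_of_finite φ (finDim Y) (finDim X)
  have hη' : WeilCoh.pdim Y.scheme (genericPoint Y.scheme) = WeilCoh.dim Y.scheme := by
    have := pdim_add_codim (finDim Y) (genericPoint Y.scheme); omega
  have hdY : WeilCoh.dim Y.scheme + q = WeilCoh.dim X.scheme := by
    have h := hpd (genericPoint Y.scheme)
    have hw := pdim_add_codim (finDim X) w.1
    rw [show φ (genericPoint Y.scheme) = w.1 from L.maps_pt, hη'] at h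
    rw [w.2, h] at hw
    exact hw
  have hcodimY : ∀ z : Y.scheme,
      WeilCoh.codim X.scheme (φ z) = WeilCoh.codim Y.scheme z + q := fun z => by
    have h1' := pdim_add_codim (finDim X) (φ z)
    have h2' := pdim_add_codim (finDim Y) z
    rw [hpd z] at h1'
    omega
  let ψ : (Y.ptSub (genericPoint Y.scheme)).scheme ⟶ (X.ptSub w.1).scheme :=
    Y.ptSubι (genericPoint Y.scheme) ≫ ν
  have hψ : ψ ≫ X.ptSubι w.1 = Y.ptSubι (genericPoint Y.scheme) ≫ φ := by
    rw [Category.assoc, hνφ]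
  have hs : Function.Surjective (Y.ptSubι (genericPoint Y.scheme)) := fun z => by
    have : z ∈ Set.range (Y.ptSubι (genericPoint Y.scheme)) := by
      rw [range_ptSubι, genericPoint_closure]; trivial
    exact this
  have hφw : ∀ z : Y.scheme, ∃ v, X.ptSubι w.1 v = φ z := fun z =>
    ⟨ν z, by rw [← Scheme.Hom.comp_apply, hνφ]⟩
  have hν_proper : IsProper ν := by
    have : IsProper (ν ≫ X.ptSubι w.1) := by rw [hνφ]; infer_instance
    exact IsProper.of_comp ν (X.ptSubι w.1)
  obtain ⟨W, b, rfl⟩ := exists_rep (T := T) M i₃ n₃ (goodP_pt Y (genericPoint Y.scheme)) a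
  obtain ⟨W', W₀, hW₀, -, hle⟩ := exists_restriction φ (genericPoint Y.scheme) w.1 L.maps_pt
    L.codim_eq ψ hψ W (mkPtIdx X ⊤ (goodP_pt X w.1).top)
  rw [← ι_pull (T := T) M i₃ n₃ hle b]
  generalize (T.pull (Idx.res (Y.ptSub (genericPoint Y.scheme)) W₀ W hle) M i₃ n₃).hom b = b₀
  obtain ⟨f, hf, hfi, hfn, hfac, hL⟩ :=
    ptPush_cpt_restrict φ (genericPoint Y.scheme) w.1 L ψ hψ W' W₀ hW₀
  rw [hL]
  -- opens
  let C : Set X.scheme := (X.ptSubι w.1).base '' ((W'.1 : Set (X.ptSub w.1).scheme)ᶜ)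
  have hC : IsClosed C :=
    (X.ptSubι w.1).isClosedEmbedding.isClosedMap _ W'.1.isOpen.isClosed_compl
  let U : X.scheme.Opens := ⟨Cᶜ, hC.isOpen_compl⟩
  have hU : BMCoh.ContainsFj X q U := by
    intro y hy hyC
    obtain ⟨v, hv, rfl⟩ := hyC
    have hwv : w.1 ⤳ X.ptSubι w.1 v :=
      specializes_iff_mem_closure.2 ((range_ptSubι X w.1).le ⟨v, rfl⟩)
    have hwe : w.1 = X.ptSubι w.1 v := eq_of_codim_le (finDim X) hwv (hy.trans_eq w.2.symm)
    exact hv (genericPoint_mem w.1 W' v hwe.symm)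
  let UY : Y.scheme.Opens := φ ⁻¹ᵁ U
  have hW₀mem : ∀ v, v ∈ W₀.1 ↔ Y.ptSubι (genericPoint Y.scheme) v ∈ UY := fun v => by
    have e : φ (Y.ptSubι (genericPoint Y.scheme) v) = X.ptSubι w.1 (ψ v) := by
      rw [← Scheme.Hom.comp_apply, ← Scheme.Hom.comp_apply, hψ]
    rw [hW₀]
    show ψ v ∈ W'.1 ↔ φ (Y.ptSubι (genericPoint Y.scheme) v) ∈ U
    rw [e]
    refine ⟨fun hv ⟨v', hv', he⟩ => hv' ?_, fun hv => not_not.1 fun hn => hv ⟨_, hn, rfl⟩⟩
    rw [(X.ptSubι w.1).isEmbedding.injective he]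
    exact hv
  have hUY : BMCoh.ContainsFj Y 0 UY := fun z hz => hU (φ z) (by rw [hcodimY]; omega)
  let UI : BMCoh.Idx X (BMCoh.ContainsFj X q) := mkFjIdx X U hU
  let UYI : BMCoh.Idx Y (BMCoh.ContainsFj Y 0) := mkFjIdx Y UY hUY
  obtain ⟨fU, hfUp, hsqU⟩ := exists_lift_preimage φ U UY rfl
  have hfU : fU ≫ U.ι = UY.ι ≫ φ := hsqU.w.symm
  let fη : ((Y.ptSub (genericPoint Y.scheme)).res W₀.1).scheme ⟶ (Y.res UY).scheme :=
    IsOpenImmersion.lift UY.ι (W₀.1.ι ≫ Y.ptSubι (genericPoint Y.scheme)) (by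
      rw [Scheme.Opens.range_ι]
      rintro _ ⟨v, rfl⟩
      exact (hW₀mem v.1).1 v.2)
  have hfη : fη ≫ UY.ι = W₀.1.ι ≫ Y.ptSubι (genericPoint Y.scheme) := IsOpenImmersion.lift_fac _ _ _
  have : IsImmersion (fη ≫ UY.ι) := by rw [hfη]; infer_instance
  have : IsImmersion fη := .of_comp fη UY.ι
  have hfηp : IsProper fη := by
    have : IsClosedImmersion fη := by
      refine .of_isPreimmersion fη ?_
      convert isClosed_univ
      refine Set.eq_univ_of_forall fun z => ?_
      obtain ⟨v, hv⟩ := hs (UY.ι z)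
      refine ⟨⟨v, (hW₀mem v).2 (by rw [hv]; exact z.2)⟩, UY.ι.isEmbedding.injective ?_⟩
      show UY.ι (fη _) = _
      rw [← Scheme.Hom.comp_apply, hfη]
      exact hv
    infer_instance
  let iW : ((X.ptSub w.1).res W'.1).scheme ⟶ (X.res U).scheme :=
    IsOpenImmersion.lift U.ι (W'.1.ι ≫ X.ptSubι w.1) (by
      rw [Scheme.Opens.range_ι]
      rintro _ ⟨v, rfl⟩ ⟨v', hv', he⟩
      exact hv' ((X.ptSubι w.1).isEmbedding.injective he ▸ v.2))
  have hiW : iW ≫ U.ι = W'.1.ι ≫ X.ptSubι w.1 := IsOpenImmersion.lift_fac _ _ _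
  have : IsImmersion (iW ≫ U.ι) := by rw [hiW]; infer_instance
  have : IsImmersion iW := .of_comp iW U.ι
  have hiWp : IsProper iW := by
    have : IsClosedImmersion iW := by
      refine .of_isPreimmersion iW ?_
      have : Set.range iW = U.ι.base ⁻¹' Set.range (X.ptSubι w.1) := by
        ext z
        constructor
        · rintro ⟨v, rfl⟩
          refine ⟨v.1, ?_⟩
          show _ = U.ι (iW v)
          rw [← Scheme.Hom.comp_apply, hiW]
          rfl
        · rintro ⟨v, hv⟩
          have hvW : v ∈ W'.1 := not_not.1 fun h => z.2 ⟨v, h, hv⟩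
          refine ⟨⟨v, hvW⟩, U.ι.isEmbedding.injective ?_⟩
          show U.ι (iW ⟨v, hvW⟩) = _
          rw [← Scheme.Hom.comp_apply, hiW]
          exact hv
      rw [this]
      exact (X.ptSubι w.1).isClosedEmbedding.isClosed_range.preimage U.ι.continuous
    infer_instance
  have hdUY : WeilCoh.dim (Y.res UY).scheme = WeilCoh.dim Y.scheme := UYI.2.2
  have hdU : WeilCoh.dim (X.res U).scheme = WeilCoh.dim X.scheme := UI.2.2
  have hdW' : WeilCoh.dim ((X.ptSub w.1).res W'.1).scheme = WeilCoh.pdim X.scheme w.1 :=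
    dim_open_ptSub X w.1 W'.1 W'.2.1
  have hdW₀ : WeilCoh.dim ((Y.ptSub (genericPoint Y.scheme)).res W₀.1).scheme =
      WeilCoh.dim Y.scheme :=
    (dim_open_ptSub Y (genericPoint Y.scheme) W₀.1 W₀.2.1).trans hη'
  have hdw : WeilCoh.pdim X.scheme w.1 + q = WeilCoh.dim X.scheme := by
    have h := pdim_add_codim (finDim X) w.1
    rwa [w.2] at h
  have r1 : BMCoh.relCodim ((X.ptSub w.1).res W'.1).scheme (X.res U).scheme = (q : ℤ) := by
    simp only [BMCoh.relCodim, hdW', hdU]; omega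
  have r2 : BMCoh.relCodim (Y.res UY).scheme (X.res U).scheme = (q : ℤ) := by
    simp only [BMCoh.relCodim, hdUY, hdU]; omega
  have r3 : BMCoh.relCodim ((Y.ptSub (genericPoint Y.scheme)).res W₀.1).scheme (Y.res UY).scheme
      = 0 := by
    simp only [BMCoh.relCodim, hdW₀, hdUY]; omega
  have r4 : BMCoh.relCodim ((Y.ptSub (genericPoint Y.scheme)).res W₀.1).scheme (X.res U).scheme
      = (q : ℤ) := by
    simp only [BMCoh.relCodim, hdW₀, hdU]; omega
  have hc : i₁ = i₃ + 2 * BMCoh.relCodim (Y.res UY).scheme (X.res U).scheme := by rw [r2]; exact h1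
  have hc' : n₁ = n₃ + BMCoh.relCodim (Y.res UY).scheme (X.res U).scheme := by rw [r2]; exact h1'
  let c := (T.push (Y := Y.res UY) fη M i₃ n₃ i₃ n₃ (by rw [r3]; ring) (by rw [r3]; ring)).hom b₀
  have : @IsProper ((X.ptSub w.1).res W'.1).scheme (X.res UI.1).scheme iW := hiWp
  have hP := ConcreteCategory.congr_hom (P.cpt_spec w M i₃ n₃ i₁ n₁ h1 h1' UI W' iW hiW
    (h1.trans (by rw [← r1]; rfl)) (h1'.trans (by rw [← r1]; rfl)))
    ((T.push f M i₃ n₃ i₃ n₃ (hfi i₃) (hfn n₃)).hom b₀)
  have : @IsProper ((Y.ptSub (genericPoint Y.scheme)).res W₀.1).scheme (Y.res UYI.1).scheme fη :=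
    hfηp
  have hP' : (P'.cpt ⟨genericPoint Y.scheme, hη⟩ M i₃ n₃ i₃ n₃ h3 h3').hom
      (((T.ptι Y (genericPoint Y.scheme) i₃ n₃ W₀).app M).hom b₀) =
      ((T.fjι Y 0 i₃ n₃ UYI).app M).hom c :=
    ConcreteCategory.congr_hom (P'.cpt_spec ⟨genericPoint Y.scheme, hη⟩ M i₃ n₃ i₃ n₃ h3 h3' UYI W₀
      fη hfη (show i₃ = i₃ + 2 * BMCoh.relCodim ((Y.ptSub (genericPoint Y.scheme)).res W₀.1).scheme
        (Y.res UY).scheme by rw [r3]; ring)
      (show n₃ = n₃ + BMCoh.relCodim ((Y.ptSub (genericPoint Y.scheme)).res W₀.1).scheme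
        (Y.res UY).scheme by rw [r3]; ring)) b₀
  have hPc : (P.cpt w M i₃ n₃ i₁ n₁ h1 h1').hom (((T.ptι X w.1 i₃ n₃ W').app M).hom
      ((T.push f M i₃ n₃ i₃ n₃ (hfi i₃) (hfn n₃)).hom b₀)) =
      ((T.fjι X q i₁ n₁ UI).app M).hom ((T.push fU M i₃ n₃ i₁ n₁ hc hc').hom c) := by
    refine hP.trans ?_
    refine congrArg ((T.fjι X q i₁ n₁ UI).app M).hom ?_
    have e1 := ConcreteCategory.congr_hom (T.push_comp (Y := (X.ptSub w.1).res W'.1)
      (Z := X.res U) f iW M i₃ n₃ i₃ n₃ i₁ n₁ (hfi i₃) (hfn n₃)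
      (by rw [r1]; exact h1) (by rw [r1]; exact h1') (by rw [r4]; exact h1) (by rw [r4]; exact h1')) b₀
    have e2 := ConcreteCategory.congr_hom (T.push_comp (Y := Y.res UY)
      (Z := X.res U) fη fU M i₃ n₃ i₃ n₃ i₁ n₁ (by rw [r3]; ring) (by rw [r3]; ring)
      hc hc' (by rw [r4]; exact h1) (by rw [r4]; exact h1')) b₀
    refine e1.trans ((push_congr ?_ M _ _ _ _ _ _ b₀).trans e2.symm)
    rw [← cancel_mono U.ι, Category.assoc, Category.assoc, hiW, hfU, ← Category.assoc fη, hfη,
      ← Category.assoc, hfac]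
    simp only [ψ, Category.assoc, hνφ]
  rw [hP', hPc]
  clear_value c
  -- residues
  by_cases hx : ∃ x, WeilCoh.codim X.scheme x = q + 1 ∧ x ∉ U
  · obtain ⟨S0, hS0, -⟩ := exists_slice UI (mkFjIdx X ⊤ fun _ _ => trivial) le_top hx
    have hy : ∃ z, WeilCoh.codim Y.scheme z = 0 + 1 ∧ z ∉ UY := by
      obtain ⟨x, hxc, hxU⟩ := hx
      obtain ⟨v, -, rfl⟩ : x ∈ C := not_not.1 hxU
      have hνsurj : Function.Surjective ν := by
        have hcl : IsClosed (Set.range ν) := ν.isClosedMap.isClosed_range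
        intro v'
        obtain ⟨p, hp⟩ := exists_genericPoint (X := X) w.1
        have hgen : p ∈ Set.range ν := ⟨genericPoint Y.scheme, (X.ptSubι w.1).isEmbedding.injective
          ((Scheme.Hom.comp_apply _ _ _).symm.trans
            ((congrArg (fun g => g (genericPoint Y.scheme)) hνφ).trans (L.maps_pt.trans hp.symm)))⟩
        have hpv : p ⤳ v' := by
          refine ((X.ptSubι w.1).isEmbedding.isInducing.specializes_iff).1 ?_
          rw [hp]
          exact specializes_iff_mem_closure.2 ((range_ptSubι X w.1).le ⟨v', rfl⟩)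
        exact hpv.mem_closed hcl hgen
      obtain ⟨z, rfl⟩ := hνsurj v
      rw [← Scheme.Hom.comp_apply, hνφ] at hxc hxU
      exact ⟨z, by rw [hcodimY] at hxc; omega, hxU⟩
    obtain ⟨S1, hS1, -⟩ := exists_slice UYI (mkFjIdx Y ⊤ fun _ _ => trivial) le_top hy
    let bad : Set X.scheme := φ.base '' ((S1.V.1 : Set Y.scheme)ᶜ)
    have hbad : IsClosed bad := φ.isClosedMap _ S1.V.1.isOpen.isClosed_compl
    let VI : BMCoh.Idx X (BMCoh.ContainsFj X (q + 1)) :=
      mkFjIdx X (S0.V.1 ⊓ ⟨badᶜ, hbad.isOpen_compl⟩) fun y hyc => ⟨S0.V.2.1 y hyc, by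
        rintro ⟨z, hz, rfl⟩
        exact hz (S1.V.2.1 z (by rw [hcodimY] at hyc; omega))⟩
    have hUV : S0.U.1 ≤ VI.1 := fun z hz => ⟨S0.le hz, by
      rintro ⟨v, hv, rfl⟩
      refine hv (S1.le ?_)
      rw [hS1]
      rw [hS0] at hz
      exact hz⟩
    let VY : BMCoh.Idx Y (BMCoh.ContainsFj Y (0 + 1)) :=
      mkFjIdx Y (φ ⁻¹ᵁ VI.1) fun z hz => VI.2.1 (φ z) (by rw [hcodimY]; omega)
    have hVY : VY.1 ≤ S1.V.1 := fun z hz => by_contra fun hn =>
      (show φ z ∈ S0.V.1 ⊓ ⟨badᶜ, hbad.isOpen_compl⟩ from hz).2 ⟨z, hn, rfl⟩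
    have hUVY : S1.U.1 ≤ VY.1 := fun z hz => hUV (by
      rw [hS0]
      rw [hS1] at hz
      exact hz)
    obtain ⟨U0, V0, le0, cov0, un0, ex0⟩ := S0
    obtain ⟨U1, V1, le1, cov1, un1, ex1⟩ := S1
    obtain rfl : U0 = UI := hS0
    obtain rfl : U1 = UYI := hS1
    let S := Slice.restrict (⟨UI, V0, le0, cov0, un0, ex0⟩ : Slice X q) VI inf_le_left hUV
    let S' := Slice.restrict (⟨UYI, V1, le1, cov1, un1, ex1⟩ : Slice Y 0) VY hVY hUVY
    have : @IsProper (Y.res S'.U.1).scheme (X.res S.U.1).scheme fU := hfUp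
    refine (resData_tot_slice Q S M h2 h2' _).trans ?_
    refine Eq.trans ?_ (congrArg (BMCoh.PreTheory.PtPush.famTot t F M i₂ n₂).hom
      (resData_tot_slice Q' S' M h4 h4' c)).symm
    exact total_res_push φ hdY hred S S' rfl rfl fU hfU t F M i₃ n₃ i₁ n₁ i₂ n₂ h1 h1' h2 h2'
      h4 h4' hc hc' c
  · push Not at hx
    have e1 : (Q.tot M i₁ n₁ i₂ n₂ h2 h2').hom (((T.fjι X q i₁ n₁ UI).app M).hom
        ((T.push fU M i₃ n₃ i₁ n₁ hc hc').hom c)) = 0 := by
      refine DFinsupp.ext fun x => ?_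
      rw [BMCoh.PreTheory.ResData.tot_apply]
      exact resData_cpt_of_mem Q M h2 h2' UI _ x (hx x.1 x.2)
    have e2 : (Q'.tot M i₃ n₃ i₂ n₂ h4 h4').hom (((T.fjι Y 0 i₃ n₃ UYI).app M).hom c) = 0 := by
      refine DFinsupp.ext fun z => ?_
      rw [BMCoh.PreTheory.ResData.tot_apply]
      exact resData_cpt_of_mem Q' M h4 h4' UYI _ z
        (hx (φ z.1) (by rw [hcodimY, z.2]; omega))
    rw [e1, e2, map_zero]

end Groth.Agent.S16097
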