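import Groth.Statements.S16099
import Groth.Agent.Lib.FunFld.StrongApprox

set_option autoImplicit false
universe u
open FunFld

namespace Groth.Agent.S16099

/-- For a function field `K/k` of one variable of genus `g` and any place `P`, the `k`-space `K /
(O_{\{P\}} + O_P)` is finite-dimensional of dimension `g` (the number of Weierstrass gaps when `P`
is rational), where `O_{\{P\}}` is the ring of elements of `K` integral at every place other than
`P` and `O_P` is the valuation ring of `P` (written as the elements integral at every place outside
the complement of `\{P\}`). (The published example is for a curve over an algebraically closed field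
and is stated with completions at `P`; this is the equivalent form inside `K`, over any field `k`
algebraically closed in `K`.) -/
theorem result (k K : Type u) [Field k] [Field K]
    [Algebra k K] (hK : FunFld.IsFunctionField k K) (P : FunFld.Place k K) :
    FiniteDimensional k (K ⧸ (Subalgebra.toSubmodule (AdFn.SInt ({P} : Set (FunFld.Place k K))) ⊔
        Subalgebra.toSubmodule (AdFn.SInt (({P} : Set (FunFld.Place k K))ᶜ)))) ∧
    Module.finrank k (K ⧸ (Subalgebra.toSubmodule (AdFn.SInt ({P} : Set (FunFld.Place k K))) ⊔
        Subalgebra.toSubmodule (AdFn.SInt (({P} : Set (FunFld.Place k K))ᶜ)))) = FunFld.genus k K := by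
  exact GrothLib.FunFld.single_quot hK P

end Groth.Agent.S16099
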