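import Groth.Statements.S16100
import Groth.Agent.Lib.FunFld.StrongApprox

set_option autoImplicit false
universe u
open AdFn

namespace Groth.Agent.S16100

/-- For a function field `K/k` of one variable of genus `g` and any place `P` with completion `K_P` and
valuation ring `O_P ⊆ K_P`, the `k`-space `K_P / (O_{\{P\}} + O_P)`, where `O_{\{P\}} ⊆ K ⊆ K_P` is
the ring of elements of `K` integral at every place other than `P`, is finite-dimensional of
dimension `g` (the number of Weierstrass gaps when `P` is rational). (The published example is for a
curve over an algebraically closed field; here any field `k` algebraically closed in `K` and any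
place `P` are allowed.) -/
theorem result (k K : Type u) [Field k] [Field K]
    [Algebra k K] (hK : FunFld.IsFunctionField k K) (P : FunFld.Place k K) :
    FiniteDimensional k (AdFn.Kv P ⧸
        (Subalgebra.toSubmodule ((AdFn.SInt ({P} : Set (FunFld.Place k K))).map
            (IsScalarTower.toAlgHom k K (AdFn.Kv P))) ⊔
          Submodule.span k (AdFn.Ov P : Set (AdFn.Kv P)))) ∧
    Module.finrank k (AdFn.Kv P ⧸
        (Subalgebra.toSubmodule ((AdFn.SInt ({P} : Set (FunFld.Place k K))).map
            (IsScalarTower.toAlgHom k K (AdFn.Kv P))) ⊔
          Submodule.span k (AdFn.Ov P : Set (AdFn.Kv P)))) = FunFld.genus k K := by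
  exact GrothLib.FunFld.completion_quot hK P

end Groth.Agent.S16100
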