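import Groth.Statements.S16104
import Mathlib.RingTheory.Length
import Mathlib.RingTheory.Artinian.Ring
import Mathlib.RingTheory.HopkinsLevitzki

set_option autoImplicit false
set_option linter.style.haveILetI false

universe u v
open LunaSt

namespace Groth.Agent.S16104

/-- Case of local rings. Let φ : A → B be a local homomorphism of Noetherian local rings whose composite
A → B/m_B² is surjective (the first infinitesimal neighbourhoods give a closed immersion), and
assume that A/m_A^(n+1) and B/m_B^(n+1) have the same length for every n (the associated graded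
modules of the two maximal ideals have pieces of the same dimension over the common residue field).
Then for every n the composite A → B/m_B^(n+1) is surjective with kernel m_A^(n+1): φ identifies all
infinitesimal neighbourhoods. (The published statement is for a pointed morphism of Noetherian local
algebraic stacks; its proof reduces to this case of local rings.) -/
theorem result
    (A : Type u) (B : Type v) [CommRing A] [CommRing B] [IsLocalRing A] [IsLocalRing B]
    [IsNoetherianRing A] [IsNoetherianRing B] (φ : A →+* B) [IsLocalHom φ]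
    (h1 : Function.Surjective ((Ideal.Quotient.mk (IsLocalRing.maximalIdeal B ^ 2)).comp φ))
    (hlen : ∀ n : ℕ, Module.length A (A ⧸ IsLocalRing.maximalIdeal A ^ (n + 1)) =
      Module.length B (B ⧸ IsLocalRing.maximalIdeal B ^ (n + 1))) (n : ℕ) :
    Function.Surjective ((Ideal.Quotient.mk (IsLocalRing.maximalIdeal B ^ (n + 1))).comp φ) ∧
      RingHom.ker ((Ideal.Quotient.mk (IsLocalRing.maximalIdeal B ^ (n + 1))).comp φ) =
        IsLocalRing.maximalIdeal A ^ (n + 1) := by
  classical
  let mA := IsLocalRing.maximalIdeal A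
  let mB := IsLocalRing.maximalIdeal B
  have hres : ∀ b : B, ∃ a : A, b - φ a ∈ mB := fun b => by
    obtain ⟨a, ha⟩ := h1 (Ideal.Quotient.mk _ b)
    exact ⟨a, Ideal.pow_le_self two_ne_zero (Ideal.Quotient.eq.1 ha.symm)⟩
  have hmap : ∀ i : ℕ, mA ^ i ≤ (mB ^ i).comap φ := fun i => by
    refine (Ideal.pow_right_mono ?_ i).trans (Ideal.le_comap_pow φ i)
    intro a ha
    exact map_nonunit φ a ha
  have hstep : ∀ i : ℕ, ∀ b ∈ mB ^ i, ∃ a ∈ mA ^ i, b - φ a ∈ mB ^ (i + 1) := by
    intro i
    induction i with
    | zero =>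
      intro b _
      obtain ⟨a, ha⟩ := hres b
      exact ⟨a, by simp, by simpa using ha⟩
    | succ i ih =>
      intro b hb
      rw [pow_succ] at hb
      induction hb using Submodule.mul_induction_on' with
      | mem_mul_mem p hp q hq =>
        obtain ⟨a, ha, ha'⟩ := ih p hp
        obtain ⟨c, hc'⟩ := h1 (Ideal.Quotient.mk _ q)
        have hc2 : q - φ c ∈ mB ^ 2 := Ideal.Quotient.eq.1 hc'.symm
        have hc : c ∈ mA := by
          by_contra hcn
          have hu : IsUnit (φ c) := (IsLocalRing.notMem_maximalIdeal.1 hcn).map φ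
          refine IsLocalRing.notMem_maximalIdeal.2 hu ?_
          have h0 := sub_mem hq (Ideal.pow_le_self two_ne_zero hc2); rwa [sub_sub_cancel] at h0
        refine ⟨a * c, by rw [pow_succ]; exact Ideal.mul_mem_mul ha hc, ?_⟩
        rw [map_mul, show p * q - φ a * φ c = (p - φ a) * q + φ a * (q - φ c) by ring]
        refine add_mem ?_ ?_
        · rw [pow_succ]; exact Ideal.mul_mem_mul ha' hq
        · rw [show i + 1 + 1 = i + 2 from rfl, pow_add]; exact Ideal.mul_mem_mul (hmap i ha) hc2
      | add p _ q _ hp hq =>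
        obtain ⟨a, ha, ha'⟩ := hp
        obtain ⟨c, hc, hc'⟩ := hq
        exact ⟨a + c, add_mem ha hc, by rw [map_add, add_sub_add_comm]; exact add_mem ha' hc'⟩
  have hsurj : ∀ i : ℕ, ∀ b : B, ∃ a : A, b - φ a ∈ mB ^ (i + 1) := by
    intro i
    induction i with
    | zero => simpa using hres
    | succ i ih =>
      intro b
      obtain ⟨a, ha⟩ := ih b
      obtain ⟨c, -, hc⟩ := hstep (i + 1) _ ha
      exact ⟨a + c, by rw [map_add, ← sub_sub]; exact hc⟩
  have hS : Function.Surjective ((Ideal.Quotient.mk (mB ^ (n + 1))).comp φ) := fun z => by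
    obtain ⟨b, rfl⟩ := Ideal.Quotient.mk_surjective z
    obtain ⟨a, ha⟩ := hsurj n b
    exact ⟨a, (Ideal.Quotient.eq.2 ha).symm⟩
  refine ⟨hS, le_antisymm ?_ fun a ha => Ideal.Quotient.eq_zero_iff_mem.2 (show φ a ∈ mB ^ (n + 1) from hmap (n + 1) ha)⟩
  letI := φ.toAlgebra
  let q : (A ⧸ mA ^ (n + 1)) →ₗ[A] B ⧸ mB ^ (n + 1) :=
    (Ideal.quotientMapₐ (R₁ := A) (mB ^ (n + 1)) (Algebra.ofId A B) (hmap _)).toLinearMap
  have hq : Function.Surjective q := fun z => by
    obtain ⟨a, ha⟩ := hS z
    exact ⟨Ideal.Quotient.mk _ a, ha⟩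
  have halg : Function.Surjective (algebraMap A (B ⧸ mB ^ (n + 1))) := hS
  have hlen' : Module.length A (B ⧸ mB ^ (n + 1)) = Module.length B (B ⧸ mB ^ (n + 1)) := by
    rw [Module.length_eq_of_surjective (S := B) (R := B ⧸ mB ^ (n + 1)) Ideal.Quotient.mk_surjective]
    exact Module.length_eq_of_surjective halg
  have hker : Module.length A (LinearMap.ker q) = 0 := by
    have h := Module.length_eq_add_of_exact (LinearMap.ker q).subtype q (Submodule.injective_subtype _) hq
      (LinearMap.exact_subtype_ker_map q)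
    rw [hlen', ← hlen n] at h
    have hfin : Module.length A (A ⧸ mA ^ (n + 1)) ≠ ⊤ := by
      haveI : Nontrivial (A ⧸ mA ^ (n + 1)) := Ideal.Quotient.nontrivial_iff.2 fun e =>
        (IsLocalRing.maximalIdeal.isMaximal A).ne_top (top_le_iff.1 (e.ge.trans (Ideal.pow_le_self n.succ_ne_zero)))
      haveI := IsLocalRing.of_surjective' (Ideal.Quotient.mk (mA ^ (n + 1))) Ideal.Quotient.mk_surjective
      haveI : IsArtinianRing (A ⧸ mA ^ (n + 1)) := by
        haveI : IsNoetherianRing (A ⧸ mA ^ (n + 1)) :=
          isNoetherianRing_of_surjective _ _ (Ideal.Quotient.mk _) Ideal.Quotient.mk_surjective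
        rw [isArtinianRing_iff_isNilpotent_maximalIdeal]
        refine ⟨n + 1, ?_⟩
        rw [Ideal.zero_eq_bot, eq_bot_iff, ← IsLocalRing.map_maximalIdeal_of_surjective _
          (Ideal.Quotient.mk_surjective (I := mA ^ (n + 1))), ← Ideal.map_pow, Ideal.map_quotient_self]
      rw [Module.length_eq_of_surjective (R := A ⧸ mA ^ (n + 1)) Ideal.Quotient.mk_surjective]
      exact Module.length_ne_top
    obtain ⟨l, hl⟩ := ENat.ne_top_iff_exists.1 hfin
    rw [← hl] at h
    cases hc : Module.length A (LinearMap.ker q) with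
    | top => rw [hc, top_add] at h; exact absurd h (ENat.natCast_ne_top l)
    | coe c => rw [hc] at h; norm_cast at h ⊢; omega
  intro a ha
  haveI := Module.length_eq_zero_iff.1 hker
  have h0 : q (Ideal.Quotient.mk _ a) = 0 := ha
  have := Subsingleton.elim (⟨_, h0⟩ : LinearMap.ker q) 0
  exact Ideal.Quotient.eq_zero_iff_mem.1 (congrArg Subtype.val this)


end Groth.Agent.S16104
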