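import Groth.Statements.S16105
import Groth.Agent.Lib.LunaFin.Invariants
import Groth.Agent.Lib.LunaFin.ArtinQuot
import Mathlib

set_option autoImplicit false
universe u v w w'
open LunaSt

namespace Groth.Agent.S16105

open TensorProduct

/-- The key claim of its proof. Let k be a field and H a commutative Hopf algebra of finite type over k
all of whose finite-dimensional comodules are semisimple (a linearly reductive affine group G = Spec
H). Let A be a Noetherian commutative k-algebra with a coaction of H that is an algebra map (an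
action of G on Spec A), let m be a maximal ideal of A stable under the coaction (for instance the
ideal of a closed point fixed by G), and assume that the ring of invariants A^G is a Noetherian
local ring, complete with respect to its maximal ideal. Let M be a finite A-module with a compatible
H-coaction (a coherent G-module on Spec A). Then (i) an invariant element of M which lies in m^n M
for every n is zero, and (ii) for every sequence of invariants x_0, x_1, … with x_(n+1) − x_n ∈ m^n
M there is an invariant x with x − x_n ∈ m^n M for all n. In other words M^G → lim_n M^G/(m^n M)^G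
is bijective: the m-adic filtration and the filtration by powers of the maximal ideal of A^G induce
the same topology on M^G. (The ring of invariants is assumed Noetherian here; this also follows from
linear reductivity.) -/
theorem result
    (k : Type u) [Field k] (H : Type v) [CommRing H] [HopfAlgebra k H] [Algebra.FiniteType k H]
    (hG : HopfRep.IsLinearlyReductive k H)
    (A : Type w) [CommRing A] [Algebra k A] [IsNoetherianRing A]
    [HopfRep.Comod k H A] [GLin.IsCoactAlg k H A]
    (m : Ideal A) [m.IsMaximal] (hm : HopfRep.IsSubcomod (k := k) (A := H) (m.restrictScalars k))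
    [IsLocalRing ↥(GLin.invariants k H A)] [IsNoetherianRing ↥(GLin.invariants k H A)]
    [IsAdicComplete (IsLocalRing.maximalIdeal ↥(GLin.invariants k H A)) ↥(GLin.invariants k H A)]
    (M : Type w') [AddCommGroup M] [Module k M] [Module A M] [IsScalarTower k A M] [Module.Finite A M]
    [HopfRep.Comod k H M] [TameAct.IsHopfMod k H A M] :
    (∀ x ∈ HopfRep.fixedPts k H M, (∀ n : ℕ, x ∈ (m ^ n • ⊤ : Submodule A M)) → x = 0) ∧
      ∀ x : ℕ → M, (∀ n, x n ∈ HopfRep.fixedPts k H M) →
        (∀ n, x (n + 1) - x n ∈ (m ^ n • ⊤ : Submodule A M)) →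
          ∃ y ∈ HopfRep.fixedPts k H M, ∀ n, y - x n ∈ (m ^ n • ⊤ : Submodule A M) := by
  classical
  obtain ⟨α, hα, h1⟩ := GrothLib.LRCoh.exists_integral hG
  set B := ↥(GLin.invariants k H A)
  set 𝔪 := IsLocalRing.maximalIdeal B
  let E : M →ₗ[k] M := GrothLib.LunaFin.rey α M
  let EA : A →ₗ[k] A := GrothLib.LunaFin.rey α A
  have hEfix : ∀ x ∈ HopfRep.fixedPts k H M, E x = x := fun x hx => GrothLib.LunaFin.rey_fixed α h1 hx
  have hEmem : ∀ x : M, E x ∈ HopfRep.fixedPts k H M := fun x => GrothLib.LunaFin.rey_coact α hα x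
  have hEAm : ∀ a : A, EA a ∈ GLin.invariants k H A := fun a => GrothLib.LunaFin.rey_coact α hα a
  have hEsmulL : ∀ (a : A) (x : M), x ∈ HopfRep.fixedPts k H M → E (a • x) = EA a • x := by
    intro a x hx
    simp only [E, EA, GrothLib.LunaFin.rey_apply]
    rw [TameAct.IsHopfMod.coact_smul, show HopfRep.Comod.coact (k := k) (A := H) x = x ⊗ₜ[k] (1 : H) from hx]
    induction HopfRep.Comod.coact (k := k) (A := H) a using TensorProduct.induction_on with
    | zero => simp
    | add p q hp hq => simp only [map_add, LinearMap.add_apply, add_smul, hp, hq]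
    | tmul p q => simp
  have hEAmul : ∀ (a : A) (c : B), EA (a * (c : A)) = EA a * (c : A) := fun a c => GrothLib.LunaFin.rey_mul α c.2 a
  -- the maximal ideal of the invariants is the trace of `m`
  let q : Ideal B := m.comap (GLin.invariants k H A).val.toRingHom
  have hq1 : ∀ c : B, (c : A) ∈ m → c ∈ 𝔪 := fun c hc => IsLocalRing.le_maximalIdeal
    (show q ≠ ⊤ from fun h => (Ideal.IsMaximal.ne_top ‹m.IsMaximal›) ((Ideal.eq_top_iff_one m).2 (by
      have : (1 : B) ∈ q := h ▸ Submodule.mem_top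
      exact this))) hc
  have hq2 : ∀ c ∈ 𝔪, (c : A) ∈ m := by
    intro c hc
    by_contra hcm
    obtain ⟨a, ha, i, hi, hai⟩ := Submodule.mem_sup.1 (show (1 : A) ∈ Ideal.span {(c : A)} ⊔ m by
      rw [sup_comm, (Ideal.IsMaximal.out : IsCoatom m).2 _ (left_lt_sup.2 fun h =>
        hcm (h (Ideal.mem_span_singleton_self _)))]; trivial)
    obtain ⟨a, rfl⟩ := Ideal.mem_span_singleton'.1 ha
    have h2 := congrArg EA hai
    rw [map_add, hEAmul, show EA 1 = 1 from GrothLib.LunaFin.rey_fixed α h1 (GLin.invariants k H A).one_mem] at h2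
    have h3 : (⟨EA i, hEAm i⟩ : B) ∈ 𝔪 := hq1 _ (GrothLib.LunaFin.rey_mem_sub α hm hi)
    have h4 : (1 : B) = ⟨EA a, hEAm a⟩ * c + ⟨EA i, hEAm i⟩ := Subtype.ext h2.symm
    exact (IsLocalRing.maximalIdeal.isMaximal B).ne_top ((Ideal.eq_top_iff_one _).2
      (h4 ▸ add_mem (Ideal.mul_mem_left _ _ hc) h3))
  haveI : IsNoetherian A M := inferInstance
  have hsep : ∀ x ∈ HopfRep.fixedPts k H M, (∀ n : ℕ, x ∈ (m ^ n • ⊤ : Submodule A M)) → x = 0 := by
    intro x hx h
    obtain ⟨⟨r, hr⟩, hrx⟩ := (Ideal.mem_iInf_smul_pow_eq_bot_iff (I := m) x).1 ((Submodule.mem_iInf _).2 h)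
    have h2 := congrArg E hrx
    rw [hEsmulL r x hx, hEfix x hx] at h2
    have hu : IsUnit (1 - (⟨EA r, hEAm r⟩ : B)) :=
      IsLocalRing.isUnit_one_sub_self_of_mem_nonunits _ (hq1 _ (GrothLib.LunaFin.rey_mem_sub α hm hr))
    have h3 : ((1 - (⟨EA r, hEAm r⟩ : B) : B) : A) • x = 0 := by
      show (1 - EA r) • x = 0
      rw [sub_smul, one_smul, h2, sub_self]
    have h4 := (hu.map (GLin.invariants k H A).val).smul_eq_zero.1 h3
    exact h4
  refine ⟨hsep, fun x hx hdiff => ?_⟩
  -- the module of invariants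
  let MG : Submodule B M :=
    { carrier := HopfRep.fixedPts k H M
      zero_mem' := Submodule.zero_mem _
      add_mem' := fun ha hb => Submodule.add_mem _ ha hb
      smul_mem' := fun c y hy => by
        show (c : A) • y ∈ HopfRep.fixedPts k H M
        rw [← GrothLib.LunaFin.rey_fixed α h1 (show HopfRep.Comod.coact (k := k) (A := H) (c : A) = (c : A) ⊗ₜ[k] (1 : H) from c.2)]
        rw [show GrothLib.LunaFin.rey α A (c : A) = EA (c : A) from rfl, ← hEsmulL _ y hy]
        exact hEmem _ }
  let sp : Submodule B MG → Submodule A M := fun L => Submodule.span A (Subtype.val '' (L : Set MG))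
  have hsp : ∀ (L : Submodule B MG) (y : MG), (y : M) ∈ sp L → y ∈ L := by
    intro L y hy
    have : ∀ z ∈ sp L, ∀ a : A, ∃ w ∈ L, (w : M) = E (a • z) := by
      intro z hz
      induction hz using Submodule.span_induction with
      | mem z hz =>
        obtain ⟨w, hw, rfl⟩ := hz
        intro a
        exact ⟨(⟨EA a, hEAm a⟩ : B) • w, L.smul_mem _ hw, (hEsmulL a w w.2).symm⟩
      | zero => exact fun a => ⟨0, L.zero_mem, by simp⟩
      | add u v _ _ hu hv =>
        intro a
        obtain ⟨w, hw, hw'⟩ := hu a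
        obtain ⟨w', hw₂, hw₂'⟩ := hv a
        exact ⟨w + w', add_mem hw hw₂, by rw [smul_add, map_add, ← hw', ← hw₂']; rfl⟩
      | smul c z _ hz => exact fun a => by rw [smul_smul]; exact hz (a * c)
    obtain ⟨w, hw, hw'⟩ := this _ hy 1
    rw [one_smul, hEfix _ y.2] at hw'
    exact (Subtype.ext hw' : w = y) ▸ hw
  haveI : IsNoetherian B MG := by
    rw [isNoetherian_iff']
    refine StrictMono.wellFoundedGT (f := sp) fun L L' h => ?_
    refine lt_of_le_of_ne (Submodule.span_mono (Set.image_mono h.le)) fun he => h.ne (le_antisymm h.le fun y hy => ?_)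
    exact hsp L y (he ▸ Submodule.subset_span ⟨y, hy, rfl⟩)
  obtain ⟨r, z, hz⟩ := Module.Finite.exists_fin (R := B) (M := MG)
  have hsmulM : ∀ (n : ℕ) (y : MG), y ∈ (𝔪 ^ n • ⊤ : Submodule B MG) → (y : M) ∈ (m ^ n • ⊤ : Submodule A M) := by
    intro n y hy
    refine Submodule.smul_induction_on hy (fun c hc w _ => ?_) (fun u v hu hv => add_mem hu hv)
    have hc' : (c : A) ∈ m ^ n := by
      have h := Ideal.mem_map_of_mem (GLin.invariants k H A).val.toRingHom hc
      rw [Ideal.map_pow] at h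
      exact Ideal.pow_right_mono (show Ideal.map (GLin.invariants k H A).val.toRingHom 𝔪 ≤ m from Ideal.map_le_iff_le_comap.2 fun c hc => show (c : A) ∈ m from hq2 c hc) n h
    exact Submodule.smul_mem_smul hc' Submodule.mem_top
  -- limits in the module of invariants
  have hlim : ∀ (j₀ : ℕ) (y : ℕ → MG), (∀ j, y (j + 1) - y j ∈ (𝔪 ^ (j₀ + j) • ⊤ : Submodule B MG)) →
      ∃ L : MG, ∀ j, L - y j ∈ (𝔪 ^ (j₀ + j) • ⊤ : Submodule B MG) := by
    intro j₀ y hy
    have hc : ∀ j, ∃ c : Fin r → B, (∀ i, c i ∈ 𝔪 ^ (j₀ + j)) ∧ ∑ i, c i • z i = y (j + 1) - y j := fun j => by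
      have h := hy j
      rw [← hz] at h
      obtain ⟨a, ha, hsum⟩ := (Submodule.mem_ideal_smul_span_iff_exists_sum (𝔪 ^ (j₀ + j)) z _).1 h
      exact ⟨a, ha, by rw [← hsum, Finsupp.sum_fintype]; simp⟩
    choose c hc hcs using hc
    have hpre : ∀ i, ∃ L : B, ∀ n, (∑ j ∈ Finset.range n, c j i) - L ∈ 𝔪 ^ n := fun i => by
      obtain ⟨L, hL⟩ := IsPrecomplete.prec (I := 𝔪) (inferInstance : IsPrecomplete 𝔪 B)
        (f := fun n => ∑ j ∈ Finset.range n, c j i) fun {a b} hab => by
          rw [SModEq.sub_mem, smul_eq_mul, Ideal.mul_top, ← neg_sub, ← Finset.sum_Ico_eq_sub _ hab]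
          exact neg_mem (Ideal.sum_mem _ fun j hj =>
            Ideal.pow_le_pow_right (by have := (Finset.mem_Ico.1 hj).1; omega) (hc j i))
      exact ⟨L, fun n => by have h := hL n; rwa [SModEq.sub_mem, smul_eq_mul, Ideal.mul_top] at h⟩
    choose L hL using hpre
    refine ⟨y 0 + ∑ i, L i • z i, fun j => ?_⟩
    have hy' : y j = y 0 + ∑ i, (∑ l ∈ Finset.range j, c l i) • z i := by
      induction j with
      | zero => simp
      | succ j ih =>
        have := hcs j
        rw [eq_comm, sub_eq_iff_eq_add] at this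
        rw [this, ih]
        simp only [Finset.sum_range_succ, add_smul, Finset.sum_add_distrib]
        abel
    rw [hy', add_sub_add_left_eq_sub, ← Finset.sum_sub_distrib]
    refine Submodule.sum_mem _ fun i _ => ?_
    rw [← sub_smul]
    refine Submodule.smul_mem_smul ?_ Submodule.mem_top
    have h2 := sub_mem (hL i (j₀ + j)) (Ideal.sum_mem _ fun l hl =>
      Ideal.pow_le_pow_right (I := 𝔪) (by have := (Finset.mem_Ico.1 hl).1; omega) (hc l i) :
        (∑ l ∈ Finset.Ico j (j₀ + j), c l i) ∈ 𝔪 ^ (j₀ + j))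
    rw [Finset.sum_Ico_eq_sub _ (Nat.le_add_left j j₀), ← neg_mem_iff] at h2
    rw [show L i - ∑ l ∈ Finset.range j, c l i = -(((∑ l ∈ Finset.range (j₀ + j), c l i) - L i) -
      ((∑ l ∈ Finset.range (j₀ + j), c l i) - ∑ l ∈ Finset.range j, c l i)) by ring]
    exact h2
  -- Chevalley's lemma
  let N : ℕ → Submodule B MG := fun n =>
    { carrier := {y | (y : M) ∈ (m ^ n • ⊤ : Submodule A M)}
      zero_mem' := (m ^ n • ⊤ : Submodule A M).zero_mem
      add_mem' := fun ha hb => (m ^ n • ⊤ : Submodule A M).add_mem ha hb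
      smul_mem' := fun c y hy => (m ^ n • ⊤ : Submodule A M).smul_mem (c : A) hy }
  have hN : Antitone N := fun a b hab y hy =>
    Submodule.smul_mono_left (Ideal.pow_le_pow_right hab) hy
  have hstab : ∀ j, ∃ n₀, ∀ n, n₀ ≤ n → N n₀ ≤ N n ⊔ (𝔪 ^ j • ⊤ : Submodule B MG) := by
    intro j
    haveI : IsArtinian B (MG ⧸ (𝔪 ^ j • ⊤ : Submodule B MG)) :=
      GrothLib.LunaFin.isArtinian_quot_pow 𝔪 j
    obtain ⟨n₀, hn₀⟩ := IsArtinian.monotone_stabilizes (R := B) (M := MG ⧸ (𝔪 ^ j • ⊤ : Submodule B MG))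
      ⟨fun n => OrderDual.toDual (Submodule.map (Submodule.mkQ (𝔪 ^ j • ⊤ : Submodule B MG)) (N n)),
        fun _ _ h => Submodule.map_mono (hN h)⟩
    refine ⟨n₀, fun n hn => ?_⟩
    have h := congrArg (Submodule.comap (Submodule.mkQ (𝔪 ^ j • ⊤ : Submodule B MG))) (OrderDual.toDual.injective (hn₀ n hn))
    rw [Submodule.comap_map_mkQ, Submodule.comap_map_mkQ] at h
    rw [sup_comm, ← h]
    exact le_sup_right
  choose t ht using hstab
  have hchev : ∀ j₀, ∃ n, N n ≤ (𝔪 ^ j₀ • ⊤ : Submodule B MG) := by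
    intro j₀
    let T : ℕ → ℕ := fun j => j + ∑ i ∈ Finset.range (j + 1), t i
    have hT2 : ∀ j, t j ≤ T j := fun j => (Finset.single_le_sum (f := t) (fun i _ => Nat.zero_le _)
      (Finset.self_mem_range_succ j)).trans (Nat.le_add_left _ _)
    have hTmono : ∀ j, T j ≤ T (j + 1) := fun j => by
      have : ∑ i ∈ Finset.range (j + 1), t i ≤ ∑ i ∈ Finset.range (j + 1 + 1), t i :=
        Finset.sum_le_sum_of_subset (Finset.range_mono (Nat.le_succ _))
      show j + _ ≤ j + 1 + _
      omega
    have hstep : ∀ j, ∀ y ∈ N (T j), ∃ w ∈ N (T (j + 1)), w - y ∈ (𝔪 ^ j • ⊤ : Submodule B MG) := by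
      intro j y hy
      obtain ⟨w, hw, e, he, rfl⟩ := Submodule.mem_sup.1 (ht j _ ((hT2 j).trans (hTmono j)) (hN (hT2 j) hy))
      exact ⟨w, hw, by rw [sub_add_cancel_left]; exact neg_mem he⟩
    choose g hg hgy using hstep
    refine ⟨T j₀, fun y₀ hy₀ => ?_⟩
    let y : (i : ℕ) → {w : MG // w ∈ N (T (j₀ + i))} := fun i => Nat.rec ⟨y₀, hy₀⟩
      (fun i w => ⟨g (j₀ + i) w.1 w.2, hg _ _ _⟩) i
    obtain ⟨L, hL⟩ := hlim j₀ (fun i => (y i).1) fun i => hgy _ _ _
    have hL0 : L = 0 := Subtype.ext <| hsep _ L.2 fun n => by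
      have h2 : (y n).1 ∈ N n := hN (show n ≤ T (j₀ + n) by
        show n ≤ (j₀ + n) + _; omega) (y n).2
      have h3 := hsmulM _ _ (hL n)
      have h4 := add_mem (Submodule.smul_mono_left (Ideal.pow_le_pow_right (I := m) (Nat.le_add_left n j₀)) h3) h2
      rwa [AddSubgroupClass.coe_sub, sub_add_cancel] at h4
    have h5 := hL 0
    rw [hL0, zero_sub, neg_mem_iff] at h5
    exact h5
  choose n hn using hchev
  let T : ℕ → ℕ := fun j => j + ∑ i ∈ Finset.range (j + 1), n i
  have hx' : ∀ a b, a ≤ b → x b - x a ∈ (m ^ a • ⊤ : Submodule A M) := by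
    intro a b hab
    induction b, hab using Nat.le_induction with
    | base => rw [sub_self]; exact zero_mem _
    | succ b hb ih =>
      rw [← sub_add_sub_cancel (x (b + 1)) (x b) (x a)]
      exact add_mem (Submodule.smul_mono_left (Ideal.pow_le_pow_right hb) (hdiff b)) ih
  obtain ⟨L, hL⟩ := hlim 0 (fun j => ⟨x (T j), hx _⟩) fun j => by
    rw [zero_add]
    refine hn j ?_
    show x (T (j + 1)) - x (T j) ∈ (m ^ n j • ⊤ : Submodule A M)
    have h1 : n j ≤ T j := (Finset.single_le_sum (f := n) (fun i _ => Nat.zero_le _)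
      (Finset.self_mem_range_succ j)).trans (Nat.le_add_left _ _)
    have h2 : T j ≤ T (j + 1) := by
      have : ∑ i ∈ Finset.range (j + 1), n i ≤ ∑ i ∈ Finset.range (j + 1 + 1), n i :=
        Finset.sum_le_sum_of_subset (Finset.range_mono (Nat.le_succ _))
      show j + _ ≤ j + 1 + _
      omega
    exact Submodule.smul_mono_left (Ideal.pow_le_pow_right h1) (hx' _ _ h2)
  refine ⟨(L : M), L.2, fun j => ?_⟩
  have h1 := hsmulM _ _ (hL j)
  rw [zero_add] at h1
  have h2 := add_mem h1 (hx' j (T j) (Nat.le_add_right _ _))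
  rwa [AddSubgroupClass.coe_sub, sub_add_sub_cancel] at h2

end Groth.Agent.S16105
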