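import Groth.Statements.S16107
import Groth.Agent.Lib.LunaFin.Invariants
import Groth.Prelude.Def_ComodTens
import Mathlib

set_option autoImplicit false
universe u v w
open LunaSt

namespace Groth.Agent.S16107

open TensorProduct

/-- Let k be a field and H a commutative Hopf algebra of finite type over k all of whose
finite-dimensional comodules are semisimple (a linearly reductive affine group G = Spec H of finite
type). Let A be a Noetherian commutative k-algebra with a coaction of H that is an algebra map (an
action of G on Spec A). Then A is of finite type as an algebra over its subring of invariants A^G.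
(The published statement is that a good moduli space with affine diagonal of a Noetherian algebraic
stack is of finite type; this row is its case [Spec A/G] → Spec A^G.) -/
theorem result
    (k : Type u) [Field k] (H : Type v) [CommRing H] [HopfAlgebra k H] [Algebra.FiniteType k H]
    (hG : HopfRep.IsLinearlyReductive k H)
    (A : Type w) [CommRing A] [Algebra k A] [IsNoetherianRing A]
    [HopfRep.Comod k H A] [GLin.IsCoactAlg k H A] :
    Algebra.FiniteType ↥(GLin.invariants k H A) A := by
  classical
  letI cC : HopfRep.Comod k H (A ⊗[k] H) :=
    ComodTens.Comod.tensor (inferInstance : HopfRep.Comod k H A) (HopfRep.Comod.regular (k := k) (A := H))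
  let Q : A ⊗[k] H →ₐ[k] (A ⊗[k] H) ⊗[k] H :=
    (Algebra.TensorProduct.map (AlgHom.id k (A ⊗[k] H)) (Algebra.TensorProduct.lmul' k)).comp
      ((Algebra.TensorProduct.tensorTensorTensorComm k k k k A H H H).toAlgHom.comp
        (Algebra.TensorProduct.map (GLin.coactAlgHom k H A) (Bialgebra.comulAlgHom k H)))
  have hQ : ∀ t, HopfRep.Comod.coact (k := k) (A := H) (V := A ⊗[k] H) t = Q t := by
    intro t
    induction t using TensorProduct.induction_on with
    | zero => simp
    | add p q hp hq => simp only [map_add, hp, hq]
    | tmul a h =>
      refine (ComodTens.tensor_coact_tmul _ _ a h).trans ?_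
      simp only [Q, AlgHom.comp_apply, Algebra.TensorProduct.map_tmul, GLin.coactAlgHom_apply]
      have key : ∀ (u : A ⊗[k] H) (w : H ⊗[k] H),
          TensorProduct.map LinearMap.id (LinearMap.mul' k H)
            (TensorProduct.AlgebraTensorModule.tensorTensorTensorComm k k k k A H H H (u ⊗ₜ[k] w)) =
          Algebra.TensorProduct.map (AlgHom.id k (A ⊗[k] H)) (Algebra.TensorProduct.lmul' k)
            (Algebra.TensorProduct.tensorTensorTensorComm k k k k A H H H (u ⊗ₜ[k] w)) := fun u w => by
        induction u using TensorProduct.induction_on with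
        | zero => simp
        | add p q hp hq => simp only [TensorProduct.add_tmul, map_add, hp, hq]
        | tmul p q =>
          induction w using TensorProduct.induction_on with
          | zero => simp
          | add p q hp hq => simp only [TensorProduct.tmul_add, map_add, hp, hq]
          | tmul r s => simp
      exact key _ _
  haveI : GLin.IsCoactAlg k H (A ⊗[k] H) :=
    ⟨by rw [hQ, map_one], fun x y => by rw [hQ, hQ, hQ, map_mul]⟩
  haveI : Algebra.FiniteType A (A ⊗[k] H) := inferInstance
  have hAC : Hoch.IsComodHom H (IsScalarTower.toAlgHom k A (A ⊗[k] H)).toLinearMap := by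
    refine LinearMap.ext fun a => ?_
    show HopfRep.Comod.coact (k := k) (A := H) (algebraMap A (A ⊗[k] H) a) =
      (IsScalarTower.toAlgHom k A (A ⊗[k] H)).toLinearMap.rTensor H (HopfRep.Comod.coact (k := k) (A := H) a)
    rw [hQ, Algebra.TensorProduct.algebraMap_apply]
    simp only [Q, AlgHom.comp_apply, Algebra.TensorProduct.map_tmul, GLin.coactAlgHom_apply, map_one]
    induction HopfRep.Comod.coact (k := k) (A := H) a using TensorProduct.induction_on with
    | zero => simp
    | add p q hp hq => simp only [TensorProduct.add_tmul, map_add, hp, hq]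
    | tmul p q => simp [Algebra.TensorProduct.one_def]
  obtain ⟨s, hs⟩ := GrothLib.LunaFin.exists_adjoin hG hAC
  let e : A ⊗[k] H →ₐ[k] A :=
    (Algebra.TensorProduct.rid k k A).toAlgHom.comp
      (Algebra.TensorProduct.map (AlgHom.id k A) (Bialgebra.counitAlgHom k H))
  refine ⟨⟨s.image e, ?_⟩⟩
  rw [eq_top_iff]
  intro a _
  let S := HopfAlgebraStruct.antipode k (A := H)
  let z : A ⊗[k] H := S.lTensor A (HopfRep.Comod.coact (k := k) (A := H) a)
  have hz : z ∈ GLin.invariants k H (A ⊗[k] H) := by
    show HopfRep.Comod.coact (k := k) (A := H) (V := A ⊗[k] H) z = z ⊗ₜ[k] (1 : H)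
    let ξ : H ⊗[k] H →ₗ[k] H ⊗[k] H :=
      (TensorProduct.comm k H H).toLinearMap ∘ₗ TensorProduct.map (LinearMap.mul' k H ∘ₗ S.lTensor H) S ∘ₗ
        (TensorProduct.assoc k H H H).symm.toLinearMap ∘ₗ (CoalgebraStruct.comul (R := k) (A := H)).lTensor H
    have hξ : ∀ h : H, ξ (CoalgebraStruct.comul (R := k) h) = S h ⊗ₜ[k] (1 : H) := by
      intro h
      simp only [ξ, LinearMap.comp_apply, LinearEquiv.coe_coe]
      rw [Coalgebra.coassoc_symm_apply]
      have h1 : ∀ w : H ⊗[k] H, TensorProduct.comm k H H (TensorProduct.map (LinearMap.mul' k H ∘ₗ S.lTensor H) S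
          ((CoalgebraStruct.comul (R := k) (A := H)).rTensor H w)) =
          S (TensorProduct.lid k H ((CoalgebraStruct.counit (R := k) (A := H)).rTensor H w)) ⊗ₜ[k] (1 : H) := fun w => by
        induction w using TensorProduct.induction_on with
        | zero => simp
        | add p q hp hq => simp only [map_add, TensorProduct.add_tmul, hp, hq]
        | tmul p q =>
          simp only [LinearMap.rTensor_tmul, TensorProduct.map_tmul, LinearMap.comp_apply, S,
            HopfAlgebra.mul_antipode_lTensor_comul_apply, TensorProduct.comm_tmul, TensorProduct.lid_tmul, map_smul,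
            Algebra.algebraMap_eq_smul_one, TensorProduct.tmul_smul, TensorProduct.smul_tmul']
      rw [h1, Coalgebra.rTensor_counit_comul]
      simp
    let G : A ⊗[k] (H ⊗[k] H) →ₗ[k] (A ⊗[k] H) ⊗[k] H :=
      (TensorProduct.assoc k A H H).symm.toLinearMap ∘ₗ ξ.lTensor A
    have h2 : ∀ t : A ⊗[k] H, Q (S.lTensor A t) =
        G (TensorProduct.assoc k A H H ((HopfRep.Comod.coact (k := k) (A := H) (V := A)).rTensor H t)) := fun t => by
      induction t using TensorProduct.induction_on with
      | zero => simp
      | add p q hp hq => simp only [map_add, hp, hq]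
      | tmul r h =>
        simp only [LinearMap.lTensor_tmul, LinearMap.rTensor_tmul, Q, AlgHom.comp_apply,
          Algebra.TensorProduct.map_tmul, GLin.coactAlgHom_apply]
        rw [show Bialgebra.comulAlgHom k H (S h) = TensorProduct.map S S (TensorProduct.comm k H H
          (CoalgebraStruct.comul (R := k) h)) from GrothLib.Hopf.comul_antipode k h]
        induction HopfRep.Comod.coact (k := k) (A := H) r using TensorProduct.induction_on with
        | zero => simp
        | add p q hp hq => simp only [TensorProduct.add_tmul, map_add, hp, hq]
        | tmul p q =>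
          simp only [G, ξ, LinearMap.comp_apply, LinearEquiv.coe_coe, TensorProduct.assoc_tmul, LinearMap.lTensor_tmul]
          induction CoalgebraStruct.comul (R := k) h using TensorProduct.induction_on with
          | zero => simp
          | add a b ha hb => simp only [TensorProduct.tmul_add, map_add, ha, hb]
          | tmul a b => simp
    rw [hQ, h2, show TensorProduct.assoc k A H H ((HopfRep.Comod.coact (k := k) (A := H) (V := A)).rTensor H
        (HopfRep.Comod.coact (k := k) (A := H) a)) = (CoalgebraStruct.comul (R := k) (A := H)).lTensor A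
          (HopfRep.Comod.coact (k := k) (A := H) a) from
      LinearMap.congr_fun (HopfRep.Comod.coassoc (k := k) (A := H) (V := A)) a]
    show G ((CoalgebraStruct.comul (R := k) (A := H)).lTensor A (HopfRep.Comod.coact (k := k) (A := H) a)) =
      S.lTensor A (HopfRep.Comod.coact (k := k) (A := H) a) ⊗ₜ[k] (1 : H)
    induction HopfRep.Comod.coact (k := k) (A := H) a using TensorProduct.induction_on with
    | zero => simp
    | add p q hp hq => simp only [map_add, TensorProduct.add_tmul, hp, hq]
    | tmul p q => simp [G, hξ]
  have hez : e z = a := by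
    have h : ∀ t : A ⊗[k] H, e (S.lTensor A t) =
        TensorProduct.rid k A ((CoalgebraStruct.counit (R := k) (A := H)).lTensor A t) := fun t => by
      induction t using TensorProduct.induction_on with
      | zero => simp
      | add p q hp hq => simp only [map_add, hp, hq]
      | tmul p q => simp [e, S, HopfAlgebra.counit_antipode]
    rw [show z = S.lTensor A (HopfRep.Comod.coact (k := k) (A := H) a) from rfl, h]
    have := LinearMap.congr_fun (HopfRep.Comod.counit_comp (k := k) (A := H) (V := A)) a
    simp only [LinearMap.comp_apply] at this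
    rw [this]; simp
  rw [hs] at hz
  rw [← hez]
  clear hez
  clear_value z
  induction hz using Algebra.adjoin_induction with
  | mem w hw =>
    rcases hw with ⟨r, hr, rfl⟩ | hw
    · have : e (algebraMap A (A ⊗[k] H) r) = r := by simp [e]
      rw [this]
      exact Subalgebra.algebraMap_mem _ (⟨r, hr⟩ : ↥(GLin.invariants k H A))
    · exact Algebra.subset_adjoin (Finset.mem_coe.2 (Finset.mem_image_of_mem e hw))
  | algebraMap c =>
    rw [AlgHom.commutes, IsScalarTower.algebraMap_apply k ↥(GLin.invariants k H A) A]
    exact Subalgebra.algebraMap_mem _ _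
  | add x y _ _ hx hy => rw [map_add]; exact add_mem hx hy
  | mul x y _ _ hx hy => rw [map_mul]; exact mul_mem hx hy

end Groth.Agent.S16107
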