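import Groth.Statements.S16109
import Groth.Agent.Lib.BiDual22.Main

set_option autoImplicit false
set_option maxHeartbeats 1000000
set_option linter.style.haveILetI false
universe u
open CategoryTheory CategoryTheory.Limits
attribute [local instance] HasDerivedCategory.standard
open DCoh

namespace Groth.Agent.S16109

open AlgebraicGeometry in
/-- Let X be a separated Noetherian scheme; let E be an object of D^b_coh(X), given by a cochain complex
K of O_X-modules whose image in D(O_X) has coherent and bounded cohomology sheaves; let F and G be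
given by bounded complexes L and I of injective O_X-modules whose images in D(O_X) have coherent
cohomology sheaves (so F and G lie in D^b_coh(X) and have finite injective dimension); assume
moreover that RHom(−, F) and RHom(−, G) send D^b_coh(X) into itself. Then for every cochain complex
D representing RHom(E, F) there is an isomorphism RHom(F, G) ⊗^L E ≅ RHom(RHom(E, F), G) in D(O_X);
the derived tensor functors and their right adjoints RHom are taken under their existence binders.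
(The published statement does not assume that F and G have finite injective dimension and names a
canonical map; this row assumes F and G given by bounded complexes of injective modules, the case
its printed argument treats, and asserts only the existence of an isomorphism.) -/
theorem result
    (X : Scheme.{u}) [X.IsSeparated] [IsNoetherian X]
    (K : CochainComplex X.Modules ℤ) [DCoh.HasLTensorCx K] [DCoh.HasRSheafHom K]
    (hKcoh : ∀ i : ℤ, Coh.IsCoh (DCoh.HD (DCoh.toD X K) i))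
    (hKbdd : ∃ a b : ℤ, ∀ i : ℤ, (i < a ∨ b < i) → IsZero (DCoh.HD (DCoh.toD X K) i))
    (L : CochainComplex X.Modules ℤ) [DCoh.HasLTensorCx L] [DCoh.HasRSheafHom L]
    (hLinj : ∀ i : ℤ, Injective (L.X i)) (hLbdd : ∃ a b : ℤ, ∀ i : ℤ, (i < a ∨ b < i) → IsZero (L.X i))
    (hLcoh : ∀ i : ℤ, Coh.IsCoh (DCoh.HD (DCoh.toD X L) i))
    (I : CochainComplex X.Modules ℤ)
    (hIinj : ∀ i : ℤ, Injective (I.X i)) (hIbdd : ∃ a b : ℤ, ∀ i : ℤ, (i < a ∨ b < i) → IsZero (I.X i))
    (hIcoh : ∀ i : ℤ, Coh.IsCoh (DCoh.HD (DCoh.toD X I) i))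
    (hF : ∀ (P : CochainComplex X.Modules ℤ) [DCoh.HasLTensorCx P] [DCoh.HasRSheafHom P],
      (∀ i : ℤ, Coh.IsCoh (DCoh.HD (DCoh.toD X P) i)) →
      (∃ a b : ℤ, ∀ i : ℤ, (i < a ∨ b < i) → IsZero (DCoh.HD (DCoh.toD X P) i)) →
      (∀ i : ℤ, Coh.IsCoh (DCoh.HD ((DCoh.RSheafHom P).obj (DCoh.toD X L)) i)) ∧
        ∃ a b : ℤ, ∀ i : ℤ, (i < a ∨ b < i) → IsZero (DCoh.HD ((DCoh.RSheafHom P).obj (DCoh.toD X L)) i))
    (hG : ∀ (P : CochainComplex X.Modules ℤ) [DCoh.HasLTensorCx P] [DCoh.HasRSheafHom P],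
      (∀ i : ℤ, Coh.IsCoh (DCoh.HD (DCoh.toD X P) i)) →
      (∃ a b : ℤ, ∀ i : ℤ, (i < a ∨ b < i) → IsZero (DCoh.HD (DCoh.toD X P) i)) →
      (∀ i : ℤ, Coh.IsCoh (DCoh.HD ((DCoh.RSheafHom P).obj (DCoh.toD X I)) i)) ∧
        ∃ a b : ℤ, ∀ i : ℤ, (i < a ∨ b < i) → IsZero (DCoh.HD ((DCoh.RSheafHom P).obj (DCoh.toD X I)) i))
    (D : CochainComplex X.Modules ℤ) [DCoh.HasLTensorCx D] [DCoh.HasRSheafHom D]
    (hD : Nonempty (DCoh.toD X D ≅ (DCoh.RSheafHom K).obj (DCoh.toD X L))) :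
    Nonempty ((DCoh.LTensorCx K).obj ((DCoh.RSheafHom L).obj (DCoh.toD X I)) ≅
      (DCoh.RSheafHom D).obj (DCoh.toD X I)) := by
  obtain ⟨aL, bL, hL⟩ := GrothLib.RHomInj22.exists_bddInj hLinj hLbdd
  obtain ⟨aI, bI, hI⟩ := GrothLib.RHomInj22.exists_bddInj hIinj hIbdd
  obtain ⟨a, b, hK⟩ := hKbdd
  obtain ⟨eD⟩ := hD
  haveI := hL.isKInjective
  haveI := hI.isKInjective
  obtain ⟨K', qK, hK', -, hqK, -⟩ := GrothLib.OX.exists_kflat_resolution K
  haveI := GrothLib.OX.hasLTensorCx K'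
  haveI := GrothLib.OX.hasRSheafHom K'
  obtain ⟨L', qL, hL', -, hqL, -⟩ := GrothLib.OX.exists_kflat_resolution L
  haveI := GrothLib.OX.hasLTensorCx L'
  haveI := GrothLib.OX.hasRSheafHom L'
  obtain ⟨A, r, hA, hA', hr, -⟩ := GrothLib.OX.exists_kflat_resolution ((GrothLib.OX.homCx L).obj I)
  have hLz : ∀ i, i < aL → IsZero (L.homology i) := fun i hi =>
    GrothLib.BiDual22.isZero_homology_of_Q (DerivedCategory.isZero_of_isGE _ aL i hi (hX := hL.isGE))
  have hAb : ∀ i, bI - aL < i → IsZero (A.homology i) := fun i hi =>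
    ((GrothLib.BiDual22.bound_homCx hI L).2 aL hLz i hi).of_iso (isoOfQuasiIsoAt r i)
  obtain ⟨β, hβ⟩ := GrothLib.BiDual22.exists_beta (L := L) (I := I) r hr
  let eK := asIso (DerivedCategory.Q.map qK)
  haveI : (DerivedCategory.Q.obj K').IsLE b := (DerivedCategory.isLE_iff _ b).2 fun i hi =>
    (hK i (Or.inr hi)).of_iso ((DerivedCategory.homologyFunctor _ i).mapIso eK)
  have hpc : ∀ n, DCoh.IsPseudoCoherentD n (DerivedCategory.Q.obj K') := GrothLib.OX.isPseudoCoherentD_of_isCohD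
    (fun i => GrothLib.QCoh.isCoh_of_iso ((DerivedCategory.homologyFunctor _ i).mapIso eK.symm) (hKcoh i)) b
  have hφ := GrothLib.BiDual22.isIso_Q_phi (A := A) (L := L) (I := I) β hβ hA hA' hAb hL hI K' hpc
  obtain ⟨cK⟩ := GrothLib.OX.nonempty_ltensorCx_congr_of_iso (E := K') (E' := K) eK
  obtain ⟨rK⟩ := GrothLib.OX.nonempty_RSheafHom_congr (E := K') (E' := K) eK
  obtain ⟨rL⟩ := GrothLib.OX.nonempty_RSheafHom_congr (E := L') (E' := L) (asIso (DerivedCategory.Q.map qL))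
  obtain ⟨vL⟩ := GrothLib.OX.nonempty_RSheafHom_value L' hL' I
  have h1 : IsIso (DerivedCategory.Q.map (GrothLib.OX.homMap qL I)) :=
    GrothLib.DualPerf22.isIso_Q_homMap qL hqL I hI.injective
  let eA : (DCoh.RSheafHom L).obj (DCoh.toD X I) ≅ DerivedCategory.Q.obj A :=
    rL.symm.app _ ≪≫ vL ≪≫ (asIso (DerivedCategory.Q.map (GrothLib.OX.homMap qL I))).symm ≪≫
      (asIso (DerivedCategory.Q.map r)).symm
  obtain ⟨w⟩ := GrothLib.OX.ltensorCx_value K' A hA
  obtain ⟨Dk, p, hDk, -, hp, -⟩ := GrothLib.OX.exists_kflat_resolution ((GrothLib.OX.homCx K').obj L)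
  haveI := GrothLib.OX.hasLTensorCx Dk
  haveI := GrothLib.OX.hasRSheafHom Dk
  obtain ⟨vK⟩ := GrothLib.OX.nonempty_RSheafHom_value K' hK' L
  obtain ⟨vD⟩ := GrothLib.OX.nonempty_RSheafHom_value Dk hDk I
  have h2 : IsIso (DerivedCategory.Q.map (GrothLib.OX.homMap p I)) :=
    GrothLib.DualPerf22.isIso_Q_homMap p hp I hI.injective
  let iD : DerivedCategory.Q.obj Dk ≅ DerivedCategory.Q.obj D :=
    asIso (DerivedCategory.Q.map p) ≪≫ vK.symm ≪≫ rK.app _ ≪≫ eD.symm
  obtain ⟨rD⟩ := GrothLib.OX.nonempty_RSheafHom_congr (E := Dk) (E' := D) iD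
  exact ⟨(DCoh.LTensorCx K).mapIso eA ≪≫ cK.symm.app _ ≪≫ w ≪≫
    @asIso _ _ _ _ _ hφ ≪≫ asIso (DerivedCategory.Q.map (GrothLib.OX.homMap p I)) ≪≫ vD.symm ≪≫ rD.app _⟩

end Groth.Agent.S16109
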