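import Groth.Statements.S16110
import Groth.Agent.Lib.RightAdj20.AdjQCoh

set_option autoImplicit false
set_option maxHeartbeats 1000000
set_option linter.style.haveILetI false
set_option backward.isDefEq.respectTransparency false
universe u
open CategoryTheory CategoryTheory.Limits
attribute [local instance] HasDerivedCategory.standard
open DCoh

namespace Groth.Agent.S16110

open AlgebraicGeometry in
/-- Let f : X ⟶ Y be a proper morphism of finite Tor-dimension between separated Noetherian schemes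
(finite Tor-dimension: for some integer m, H^i(Lf^*M) = 0 for all i < m and all quasi-coherent
O_Y-modules M), let f^! be the right adjoint of Rf_* : D_qc(X) → D_qc(Y) (f is proper) and let G₁,
G₂ be objects of D_qc(Y), G₁ given by a cochain complex P of O_Y-modules and Lf^*G₁ by a cochain
complex P' of O_X-modules. Assume that RHom(G₁, G₂) and RHom(Lf^*G₁, f^!G₂) have quasi-coherent
cohomology sheaves. Then f^! RHom(G₁, G₂) ≅ RHom(Lf^*G₁, f^!G₂) in D(O_X). The derived functors
Rf_*, Lf^*, ⊗^L and the internal RHom (right adjoint of ⊗^L) are taken under their existence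
binders. (The published statement uses the internal Hom of D_qc and a canonical isomorphism; here
RHom is the internal Hom of D(O_X), the two quasi-coherence assumptions replace the passage to D_qc,
and only the existence of an isomorphism is asserted.) -/
theorem result
    {X Y : Scheme.{u}} [X.IsSeparated] [IsNoetherian X] [Y.IsSeparated] [IsNoetherian Y]
    (f : X ⟶ Y) [IsProper f] [DCoh.HasRpush f] [DCoh.HasLpull f]
    (hfTor : ∃ m : ℤ, ∀ (M : Y.Modules), Coh.IsQCoh M →
      ∀ i : ℤ, i < m → IsZero (DCoh.HD ((DCoh.Lpull f).obj (DCoh.inD Y M)) i))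
    (h : DCoh.RpushPreservesQCoh f) [DCoh.HasShriek f h]
    (P : CochainComplex Y.Modules ℤ) [DCoh.HasLTensorCx P] [DCoh.HasRSheafHom P]
    (hP : DCoh.IsQCohD (DCoh.toD Y P)) (G₂ : DCoh.DQCoh Y)
    (hq : DCoh.IsQCohD ((DCoh.RSheafHom P).obj G₂.obj))
    (P' : CochainComplex X.Modules ℤ) [DCoh.HasLTensorCx P'] [DCoh.HasRSheafHom P']
    (hP' : Nonempty (DCoh.toD X P' ≅ (DCoh.Lpull f).obj (DCoh.toD Y P)))
    (hq' : DCoh.IsQCohD ((DCoh.RSheafHom P').obj ((DCoh.shriek f h).obj G₂).obj)) :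
    Nonempty (((DCoh.shriek f h).obj ⟨(DCoh.RSheafHom P).obj G₂.obj, hq⟩).obj ≅
      (DCoh.RSheafHom P').obj ((DCoh.shriek f h).obj G₂).obj) := by
  obtain ⟨eP'⟩ := hP'
  obtain ⟨Q, hQ, ⟨eQ⟩⟩ := GrothLib.OX.exists_kflat_rep (DCoh.toD Y P)
  haveI := GrothLib.OX.hasLTensorCx Q
  haveI := GrothLib.OX.hasRSheafHom Q
  haveI := GrothLib.OX.hasLTensorCx ((GrothLib.OX.pullCxF f).obj Q)
  haveI := GrothLib.OX.hasRSheafHom ((GrothLib.OX.pullCxF f).obj Q)
  obtain ⟨v⟩ := GrothLib.OX.lpull_value f Q hQ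
  obtain ⟨c⟩ := GrothLib.OX.nonempty_RSheafHom_congr eQ
  obtain ⟨c'⟩ := GrothLib.OX.nonempty_RSheafHom_congr (v.symm ≪≫ (DCoh.Lpull f).mapIso eQ ≪≫ eP'.symm)
  have hqQ : DCoh.IsQCohD (DerivedCategory.Q.obj Q) := fun i => GrothLib.OX.isQCoh_of_iso
    ((DerivedCategory.homologyFunctor _ i).mapIso eQ.symm) (hP i)
  have hN : DCoh.IsQCohD ((DCoh.RSheafHom ((GrothLib.OX.pullCxF f).obj Q)).obj ((DCoh.shriek f h).obj G₂).obj) :=
    fun i => GrothLib.OX.isQCoh_of_iso ((DerivedCategory.homologyFunctor _ i).mapIso (c'.app _).symm) (hq' i)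
  obtain ⟨n⟩ := GrothLib.RightAdj20.nonempty_adjoint_RHom_qcoh f h (DCoh.shriekAdj f h) Q hQ hqQ G₂
    ⟨(DCoh.RSheafHom P).obj G₂.obj, hq⟩ (c.app G₂.obj).symm hN
  exact ⟨n ≪≫ c'.app _⟩

end Groth.Agent.S16110
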