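import Groth.Statements.S16113
import Groth.Agent.Lib.UnitProd.Split
import Groth.Agent.Lib.UnitsFG.Scheme
import Mathlib.LinearAlgebra.FreeModule.PID
-- import your own Groth.Agent.* helpers here

set_option autoImplicit false
universe u
open CategoryTheory MonoidalCategory CartesianMonoidalCategory MonObj GrpObj AlgebraicGeometry CategoryTheory.Limits
open AlgGrp

namespace Groth.Agent.S16113

/-- Over an algebraically closed field k, let X be an irreducible variety (an integral separated
k-scheme of finite type) and R = Γ(X, O_X). Then the quotient of the unit group R^× by the subgroup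
k^× of nonzero constants is a free abelian group of finite rank: for some n there is a surjective
group homomorphism from R^× onto ℤⁿ (written multiplicatively) whose kernel is exactly the image of
k^× under the structure map k → R. -/
theorem result (k : Type u) [Field k] [IsAlgClosed k]
    (X : Over (Spec (CommRingCat.of k))) [IsIntegral X.left] [IsSeparated X.hom] [LocallyOfFiniteType X.hom] [QuasiCompact X.hom] :
    ∃ (n : ℕ) (v : (Γ(X.left, ⊤))ˣ →* Multiplicative (Fin n → ℤ)), Function.Surjective v ∧
      v.ker = (Units.map (((Scheme.ΓSpecIso (CommRingCat.of k)).inv ≫ X.hom.appTop).hom : k →* Γ(X.left, ⊤))).range := by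
  have hirr : (irreducibleComponents (X.left : Type u)).Finite := by
    have : IsLocallyNoetherian X.left := LocallyOfFiniteType.isLocallyNoetherian X.hom
    have : CompactSpace X.left := QuasiCompact.compactSpace_of_compactSpace X.hom
    have : IsNoetherian X.left := {}
    exact TopologicalSpace.NoetherianSpace.finite_irreducibleComponents
  let r : k →+* Γ(X.left, ⊤) := ((Scheme.ΓSpecIso (CommRingCat.of k)).inv ≫ X.hom.appTop).hom
  have hint : ∀ x : Γ(X.left, ⊤), r.IsIntegralElem x → x ∈ Set.range r := fun x hx =>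
    GrothLib.UnitProd.mem_range_of_isIntegral X.hom hx
  let N := (Units.map (r : k →* Γ(X.left, ⊤))).range
  let cg : CommGroup ((Γ(X.left, ⊤))ˣ ⧸ N) := inferInstance
  letI : AddCommGroup (Additive ((Γ(X.left, ⊤))ˣ ⧸ N)) := Additive.addCommGroup
  haveI : Group.FG ((Γ(X.left, ⊤))ˣ ⧸ N) := GrothLib.UnitsFG.fg_units_quotient k X.left X.hom hirr hint
  haveI : Module.Finite ℤ (Additive ((Γ(X.left, ⊤))ˣ ⧸ N)) :=
    Module.Finite.iff_addGroup_fg.mpr (GroupFG.iff_add_fg.mp ‹_›)
  haveI : IsMulTorsionFree ((Γ(X.left, ⊤))ˣ ⧸ N) := by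
    refine IsMulTorsionFree.of_not_isOfFinOrder fun x hx hfin => hx ?_
    induction x using QuotientGroup.induction_on with
    | H u =>
      obtain ⟨n, hn, hpow⟩ := isOfFinOrder_iff_pow_eq_one.mp hfin
      rw [← QuotientGroup.mk_pow, QuotientGroup.eq_one_iff] at hpow
      obtain ⟨c, hc⟩ := hpow
      obtain ⟨d, hd⟩ := hint (u : Γ(X.left, ⊤)) ⟨Polynomial.X ^ n - Polynomial.C (c : k),
        Polynomial.monic_X_pow_sub_C _ hn.ne', by
          simp only [Polynomial.eval₂_sub, Polynomial.eval₂_X_pow, Polynomial.eval₂_C]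
          rw [← Units.val_pow_eq_pow_val, ← hc]
          exact sub_self _⟩
      have : Nonempty ↥(⊤ : X.left.Opens) := ⟨⟨Classical.arbitrary X.left, trivial⟩⟩
      have hd0 : d ≠ 0 := fun h0 => u.ne_zero (by rw [← hd, h0, map_zero])
      exact (QuotientGroup.eq_one_iff u).mpr ⟨Units.mk0 d hd0, Units.ext hd⟩
  let b := Module.finBasis ℤ (Additive ((Γ(X.left, ⊤))ˣ ⧸ N))
  let e : Additive ((Γ(X.left, ⊤))ˣ ⧸ N) ≃+ (Fin _ → ℤ) := b.equivFun.toAddEquiv
  let v := e.toMultiplicativeRight.toMonoidHom.comp (QuotientGroup.mk' N)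
  refine ⟨_, v, e.toMultiplicativeRight.surjective.comp (QuotientGroup.mk'_surjective N), ?_⟩
  ext u
  refine Iff.trans ?_ (QuotientGroup.eq_one_iff u)
  exact e.toMultiplicativeRight.map_eq_one_iff


end Groth.Agent.S16113
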