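import Groth.Statements.S16114
import Groth.Agent.Lib.UnitProd.Split
import Groth.Agent.Lib.RedSmooth.Basic
-- import your own Groth.Agent.* helpers here

set_option autoImplicit false
universe u
open CategoryTheory MonoidalCategory CartesianMonoidalCategory MonObj GrpObj AlgebraicGeometry CategoryTheory.Limits
open AlgGrp

namespace Groth.Agent.S16114

/-- Over an algebraically closed field k, let G be a connected algebraic group (a smooth connected
k-group scheme of finite type, not necessarily affine) and f ∈ Γ(G, O_G) a unit whose pullback along
the unit section e : Spec k → G equals 1. Then f is a character of G: m^*(f) = p₁^*(f) · p₂^*(f) in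
Γ(G × G, O), where m is the multiplication and p₁, p₂ are the projections. -/
theorem result (k : Type u) [Field k] [IsAlgClosed k]
    (G : Over (Spec (CommRingCat.of k))) [GrpObj G] [Smooth G.hom] [QuasiCompact G.hom] [ConnectedSpace ↥G.left]
    (f : Γ(G.left, ⊤)) (hf : IsUnit f) (he : η[G].left.appTop f = 1) :
    μ[G].left.appTop f = (fst G G).left.appTop f * (snd G G).left.appTop f := by
  have : IsReduced G.left := GrothLib.RedSmooth.isReduced_of_smooth G.hom
  have : GeometricallyReduced G.hom := GrothLib.UnitProd.geometricallyReduced_of_isReduced _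
  have : CompactSpace G.left := QuasiCompact.compactSpace_of_compactSpace G.hom
  obtain ⟨g, h, -, -, e⟩ := GrothLib.UnitProd.exists_units_mul G G (μ[G].left.appTop f) (hf.map _)
  have key : ∀ {W : Over (Spec (CommRingCat.of k))} (a b : W ⟶ G),
      (a * b).left.appTop f = a.left.appTop g * b.left.appTop h := fun {W} a b => by
    rw [Hom.mul_def, Over.comp_left, Scheme.Hom.comp_appTop, CommRingCat.comp_apply, e, map_mul,
      ← CommRingCat.comp_apply, ← CommRingCat.comp_apply, ← Scheme.Hom.comp_appTop,
      ← Scheme.Hom.comp_appTop, ← Over.comp_left, ← Over.comp_left, lift_fst, lift_snd]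
  have one_app : ∀ W : Over (Spec (CommRingCat.of k)), (1 : W ⟶ G).left.appTop f = 1 := fun W => by
    rw [Hom.one_def, Over.comp_left, Scheme.Hom.comp_appTop, CommRingCat.comp_apply, he, map_one]
  have h1 := key (fst G G) 1
  have h2 := key 1 (snd G G)
  have h3 := key (W := G ⊗ G) 1 1
  have h4 := key (fst G G) (snd G G)
  rw [_root_.mul_one] at h1
  rw [_root_.one_mul] at h2
  rw [_root_.mul_one, one_app] at h3
  rw [show fst G G * snd G G = μ[G] by rw [Hom.mul_def, lift_fst_snd, Category.id_comp]] at h4
  rw [h4, h1, h2]
  linear_combination ((fst G G).left.appTop g * (snd G G).left.appTop h) * h3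

end Groth.Agent.S16114
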