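import Groth.Statements.S16115
import Groth.Agent.Lib.UnitProd.Split
import Groth.Agent.Lib.RedSmooth.Basic
import Groth.Agent.S16114
-- import your own Groth.Agent.* helpers here

set_option autoImplicit false
universe u
open CategoryTheory MonoidalCategory CartesianMonoidalCategory MonObj GrpObj AlgebraicGeometry CategoryTheory.Limits
open AlgGrp

namespace Groth.Agent.S16115

/-- Over an algebraically closed field k, let G be a connected algebraic group (a smooth connected
k-group scheme of finite type) and X an irreducible variety (an integral separated k-scheme of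
finite type). Then every unit f of Γ(G × X, O) is of the form p₁^*(χ) · p₂^*(u) with χ a character
of G (a unit of Γ(G, O_G) with e^*(χ) = 1 and m^*(χ) = p₁^*(χ) · p₂^*(χ)) and u a unit of Γ(X, O_X).
(The published statement asserts that the product map from characters of G times units of X to units
of G × X is an isomorphism; injectivity is immediate by restriction to e × X and is not restated.) -/
theorem result (k : Type u) [Field k] [IsAlgClosed k]
    (G X : Over (Spec (CommRingCat.of k))) [GrpObj G] [Smooth G.hom] [QuasiCompact G.hom] [ConnectedSpace ↥G.left]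
    [IsIntegral X.left] [IsSeparated X.hom] [LocallyOfFiniteType X.hom] [QuasiCompact X.hom]
    (f : Γ((G ⊗ X).left, ⊤)) (hf : IsUnit f) :
    ∃ (χ : Γ(G.left, ⊤)) (u : Γ(X.left, ⊤)), IsUnit χ ∧ η[G].left.appTop χ = 1 ∧
      μ[G].left.appTop χ = (fst G G).left.appTop χ * (snd G G).left.appTop χ ∧ IsUnit u ∧
      f = (fst G X).left.appTop χ * (snd G X).left.appTop u := by
  have : IsReduced G.left := GrothLib.RedSmooth.isReduced_of_smooth G.hom
  have : GeometricallyReduced G.hom := GrothLib.UnitProd.geometricallyReduced_of_isReduced _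
  have : CompactSpace G.left := QuasiCompact.compactSpace_of_compactSpace G.hom
  have : CompactSpace X.left := QuasiCompact.compactSpace_of_compactSpace X.hom
  obtain ⟨g, h, hg, hh, e⟩ := GrothLib.UnitProd.exists_units_mul G X f hf
  let c : ∀ W : Over (Spec (CommRingCat.of k)), Γ(W.left, ⊤) := fun W => (toUnit W ≫ η[G]).left.appTop g
  have hc : ∀ W, IsUnit (c W) := fun W => hg.map (toUnit W ≫ η[G]).left.appTop.hom
  have app_comp : ∀ {A B C : Over (Spec (CommRingCat.of k))} (a : A ⟶ B) (b : B ⟶ C) (z : Γ(C.left, ⊤)),
      (a ≫ b).left.appTop z = a.left.appTop (b.left.appTop z) := fun a b z => by simp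
  have app_id : ∀ {A : Over (Spec (CommRingCat.of k))} (z : Γ(A.left, ⊤)), (𝟙 A : A ⟶ A).left.appTop z = z :=
    fun z => by simp
  have hcm : ∀ {A B : Over (Spec (CommRingCat.of k))} (a : A ⟶ B), a.left.appTop (c B) = c A := fun {A B} a => by
    simp only [c]
    rw [← app_comp, ← Category.assoc, Subsingleton.elim (a ≫ toUnit B) (toUnit A)]
  let χ : Γ(G.left, ⊤) := g * ↑(hc G).unit⁻¹
  have hinv : c G * ↑(hc G).unit⁻¹ = 1 := by
    conv_lhs => arg 1; rw [← (hc G).unit_spec]
    exact Units.mul_inv _
  have hχu : IsUnit χ := hg.mul (Units.isUnit _)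
  have hχe : η[G].left.appTop χ = 1 := by
    have h1 : η[G].left.appTop g = η[G].left.appTop (c G) := by
      simp only [c]
      rw [← app_comp, ← Category.assoc, Subsingleton.elim (η[G] ≫ toUnit G) (𝟙 _), Category.id_comp]
    simp only [χ, map_mul, h1]
    rw [← map_mul, hinv, map_one]
  refine ⟨χ, h * c X, hχu, hχe, Groth.Agent.S16114.result k G χ hχu hχe, hh.mul (hc X), ?_⟩
  rw [e]
  simp only [χ, map_mul, hcm]
  have h2 := congrArg (fst G X).left.appTop hinv
  rw [map_mul, hcm, map_one] at h2
  linear_combination (-((fst G X).left.appTop g * (snd G X).left.appTop h)) * h2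


end Groth.Agent.S16115
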