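import Groth.Statements.S16116
import Groth.Agent.Lib.UnitProd.Split
import Groth.Agent.S16115
-- import your own Groth.Agent.* helpers here

set_option autoImplicit false
universe u
open CategoryTheory MonoidalCategory CartesianMonoidalCategory MonObj GrpObj AlgebraicGeometry CategoryTheory.Limits
open AlgGrp

namespace Groth.Agent.S16116

/-- Over an algebraically closed field k, let G be a connected algebraic group (a smooth connected
k-group scheme of finite type) acting by σ on an irreducible variety X (an integral separated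
k-scheme of finite type), and let f be a unit of Γ(X, O_X). Then f is a semi-invariant: there is a
unique character χ of G (a unit of Γ(G, O_G) with e^*(χ) = 1 and m^*(χ) = p₁^*(χ) · p₂^*(χ)) such
that σ^*(f) = p₁^*(χ) · p₂^*(f) in Γ(G × X, O). -/
theorem result (k : Type u) [Field k] [IsAlgClosed k]
    (G X : Over (Spec (CommRingCat.of k))) [GrpObj G] [Smooth G.hom] [QuasiCompact G.hom] [ConnectedSpace ↥G.left]
    [IsIntegral X.left] [IsSeparated X.hom] [LocallyOfFiniteType X.hom] [QuasiCompact X.hom] (a : AlgGrp.Action G X)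
    (f : Γ(X.left, ⊤)) (hf : IsUnit f) :
    ∃! χ : Γ(G.left, ⊤), IsUnit χ ∧ η[G].left.appTop χ = 1 ∧
      μ[G].left.appTop χ = (fst G G).left.appTop χ * (snd G G).left.appTop χ ∧
      a.act.left.appTop f = (fst G X).left.appTop χ * (snd G X).left.appTop f := by
  obtain ⟨χ, u, hχ, hχe, hχm, hu, e⟩ := Groth.Agent.S16115.result k G X (a.act.left.appTop f) (hf.map _)
  have app_comp : ∀ {A B C : Over (Spec (CommRingCat.of k))} (a : A ⟶ B) (b : B ⟶ C) (z : Γ(C.left, ⊤)),
      (a ≫ b).left.appTop z = a.left.appTop (b.left.appTop z) := fun a b z => by simp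
  have hslice : lift (toUnit X ≫ η[G]) (𝟙 X) ≫ a.act = 𝟙 X := by
    rw [show lift (toUnit X ≫ η[G]) (𝟙 X) = (λ_ X).inv ≫ (η[G] ▷ X) by
      apply CartesianMonoidalCategory.hom_ext <;> simp, Category.assoc, a.one_act, Iso.inv_hom_id]
  have hu' : f = u := by
    have h1 := congrArg (lift (toUnit X ≫ η[G]) (𝟙 X)).left.appTop e
    rw [map_mul, ← app_comp, ← app_comp, ← app_comp, hslice, lift_fst, lift_snd, app_comp, hχe, map_one,
      _root_.one_mul] at h1
    simpa using h1
  subst hu'
  obtain ⟨x₀⟩ := GrothLib.UnitProd.nonempty_pt X.hom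
  let p : 𝟙_ (Over (Spec (CommRingCat.of k))) ⟶ X := Over.homMk x₀.1 x₀.2
  refine ⟨χ, ⟨hχ, hχe, hχm, e⟩, ?_⟩
  rintro χ' ⟨-, -, -, e'⟩
  have h1 := congrArg (lift (𝟙 G) (toUnit G ≫ p)).left.appTop (e.symm.trans e')
  simp only [map_mul, ← app_comp, lift_fst, lift_snd] at h1
  have hunit : IsUnit ((toUnit G ≫ p).left.appTop f) := hf.map _
  have := hunit.mul_right_cancel h1
  simpa using this.symm


end Groth.Agent.S16116
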