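import Groth.Statements.S16120
import Groth.Agent.Lib.PicProd26.Prod

set_option autoImplicit false
universe u
open CategoryTheory MonoidalCategory CartesianMonoidalCategory MonObj GrpObj AlgebraicGeometry CategoryTheory.Limits
open PicGrp

namespace Groth.Agent.S16120

/-- Over an algebraically closed field k, let X and Y be normal irreducible varieties (integral normal
separated k-schemes of finite type) and assume X rational: some nonempty open subscheme of X is
isomorphic over k to an open subscheme of an affine space 𝔸ⁿ_k. Assume the Picard group laws on X, Y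
and X × Y, with pullback along the two projections multiplicative. Then the map Pic(X) × Pic(Y) →
Pic(X × Y), (c, d) ↦ p₁^*(c) · p₂^*(d), is bijective. (The published companion assertion on divisor
class groups is not stated here.) -/
theorem result (k : Type u) [Field k] [IsAlgClosed k]
    (X Y : Over (Spec (CommRingCat.of k))) [IsIntegral X.left] [IsSeparated X.hom] [LocallyOfFiniteType X.hom] [QuasiCompact X.hom]
    [IsIntegral Y.left] [IsSeparated Y.hom] [LocallyOfFiniteType Y.hom] [QuasiCompact Y.hom]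
    (hX : Pi1.IsNormalScheme X.left) (hY : Pi1.IsNormalScheme Y.left)
    (hrat : ∃ (U : X.left.Opens) (n : ℕ) (V : (𝔸(ULift.{u} (Fin n); Spec (CommRingCat.of k))).Opens)
      (e : (U : Scheme.{u}) ≅ (V : Scheme.{u})), (U : Set ↥X.left).Nonempty ∧
        e.hom ≫ V.ι ≫ (𝔸(ULift.{u} (Fin n); Spec (CommRingCat.of k)) ↘ Spec (CommRingCat.of k)) = U.ι ≫ X.hom)
    [PicGrp.Law X.left] [PicGrp.Law Y.left] [PicGrp.Law (X ⊗ Y).left]
    (h₁ : PicGrp.PullMul (fst X Y).left) (h₂ : PicGrp.PullMul (snd X Y).left) :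
    Function.Bijective (fun cd : PicLoc.PicSet X.left × PicLoc.PicSet Y.left =>
      PicGrp.pullHom (fst X Y).left h₁ cd.1 * PicGrp.pullHom (snd X Y).left h₂ cd.2) := by
  obtain ⟨U, n, V, e, hU, he⟩ := hrat
  obtain ⟨iX, iY, e1, e2, h3, h4, hsur⟩ := GrothLib.PicProd26.exists_slices X Y
    (fun x => (hX x).2) (fun y => (hY y).2) U hU V e he
  refine ⟨?_, fun d => ?_⟩
  · rintro ⟨a, b⟩ ⟨a', b'⟩ h
    obtain ⟨A, hA, rfl⟩ := exists_eq_cls a
    obtain ⟨A', hA', rfl⟩ := exists_eq_cls a'
    obtain ⟨B, hB, rfl⟩ := exists_eq_cls b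
    obtain ⟨B', hB', rfl⟩ := exists_eq_cls b'
    have h' := congrArg Subtype.val h
    simp only [pullHom_cls, cls_mul_cls_val, cl_eq_cl_iff] at h'
    have hp := GrothLib.Ample.isInvertible_pullback (fst X Y).left hA
    have hq := GrothLib.Ample.isInvertible_pullback (snd X Y).left hB
    have hp' := GrothLib.Ample.isInvertible_pullback (fst X Y).left hA'
    have hq' := GrothLib.Ample.isInvertible_pullback (snd X Y).left hB'
    have hc := (GrothLib.Cube.clsMod_eq_iff (GrothLib.Ample.isInvertible_tensorMod hp hq)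
      (GrothLib.Ample.isInvertible_tensorMod hp' hq')).2 h'
    rw [GrothLib.Cube.clsMod_tensorMod hp hq, GrothLib.Cube.clsMod_tensorMod hp' hq', GrothLib.Cube.clsMod_pullback _ hA,
      GrothLib.Cube.clsMod_pullback _ hA', GrothLib.Cube.clsMod_pullback _ hB,
      GrothLib.Cube.clsMod_pullback _ hB'] at hc
    have hcX := congrArg (GrothLib.Cube.pull iX) hc
    have hcY := congrArg (GrothLib.Cube.pull iY) hc
    rw [map_mul, map_mul, h3, h3, _root_.mul_one, _root_.mul_one, GrothLib.Cube.pull_comp, GrothLib.Cube.pull_comp, e1,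
      GrothLib.Cube.pull_id, GrothLib.Cube.pull_id, GrothLib.Cube.clsMod_eq_iff] at hcX
    rw [map_mul, map_mul, h4, h4, _root_.one_mul, _root_.one_mul, GrothLib.Cube.pull_comp, GrothLib.Cube.pull_comp, e2,
      GrothLib.Cube.pull_id, GrothLib.Cube.pull_id, GrothLib.Cube.clsMod_eq_iff] at hcY
    exact Prod.ext ((cls_eq_cls_iff hA hA').2 hcX) ((cls_eq_cls_iff hB hB').2 hcY)
  · obtain ⟨L, hL, rfl⟩ := exists_eq_cls d
    have hA := GrothLib.Ample.isInvertible_pullback iX hL
    have hB := GrothLib.Ample.isInvertible_pullback iY hL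
    refine ⟨(cls _ hA, cls _ hB), Subtype.ext ?_⟩
    simp only [pullHom_cls, cls_mul_cls_val]
    rw [cls_val, cl_eq_cl_iff]
    refine (GrothLib.Cube.clsMod_eq_iff (GrothLib.Ample.isInvertible_tensorMod
      (GrothLib.Ample.isInvertible_pullback (fst X Y).left hA)
      (GrothLib.Ample.isInvertible_pullback (snd X Y).left hB)) hL).1 ?_
    rw [GrothLib.Cube.clsMod_tensorMod (GrothLib.Ample.isInvertible_pullback (fst X Y).left hA)
      (GrothLib.Ample.isInvertible_pullback (snd X Y).left hB), GrothLib.Cube.clsMod_pullback _ hA, GrothLib.Cube.clsMod_pullback _ hB,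
      GrothLib.Cube.clsMod_pullback _ hL, GrothLib.Cube.clsMod_pullback _ hL]
    exact (hsur _).symm

end Groth.Agent.S16120
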