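import Groth.Statements.S2324
import Groth.Agent.Lib.Ample.Criterion
import Groth.Agent.Lib.Ample.Finite

set_option autoImplicit false
universe u
open CategoryTheory CategoryTheory.Limits AlgebraicGeometry
open EGA2

namespace Groth.Agent.S2324

/-- Let X be a quasi-compact separated scheme, L an ample invertible O_X-module, Z a finite set of
points of X and U an open subset containing Z. Then for some n > 0 and some global section s of
L^{⊗n}, the open X_s where s generates is affine, contains Z and is contained in U. -/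
theorem result (X : Scheme.{u}) [CompactSpace X] [X.IsSeparated] (L : X.Modules) (hL : CohB1.IsAmple L)
    (Z : Set X) (hZ : Z.Finite) (U : X.Opens) (hZU : Z ⊆ U) :
    ∃ (n : ℕ) (s : Coh.structureModule X ⟶ CohB1.tensorPow L (n + 1)),
      Z ⊆ CohB1.genLocus _ s ∧ (CohB1.genLocus _ s : Set X) ⊆ U ∧ IsAffineOpen (CohB1.genLocus _ s) := by
  obtain ⟨c, ⟨e⟩⟩ := GrothLib.Ample.exists_cocycle hL.1
  obtain ⟨n, a, h1, h2, h3⟩ := c.exists_affine_locus_finite ((c.isAmple_iff e).mp hL).2 hZ hZU
  obtain ⟨d⟩ := c.nonempty_tensorPow_iso e (n + 1)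
  obtain ⟨s, hs⟩ := c.exists_section_of_sect d a
  exact ⟨n, s, by rw [hs]; exact h1, by rw [hs]; exact h2, by rw [hs]; exact h3⟩

end Groth.Agent.S2324
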