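import Groth.Statements.S16124
import Groth.Agent.S2324

set_option autoImplicit false
universe u
open CategoryTheory MonoidalCategory CartesianMonoidalCategory MonObj GrpObj AlgebraicGeometry CategoryTheory.Limits
open AlgGrp

namespace Groth.Agent.S16124

/-- Over an algebraically closed field k, let X be a quasi-projective variety (a reduced separated
k-scheme, quasi-projective over k) with an action of a finite group Γ by k-automorphisms. Then X is
covered by Γ-stable affine open subschemes: every point x of X lies in an affine open U with σ⁻¹(U)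
= U for every σ in Γ. -/
theorem result (k : Type u) [Field k] [IsAlgClosed k]
    (X : Over (Spec (CommRingCat.of k))) [IsReduced X.left] [IsSeparated X.hom] (hX : RelProj.IsQuasiProjective X.hom)
    (Γgrp : Type u) [Group Γgrp] [Finite Γgrp] (ρ : Γgrp →* Aut X.left)
    (hρ : ∀ σ : Γgrp, (ρ σ).hom ≫ X.hom = X.hom) (x : ↥X.left) :
    ∃ U : X.left.Opens, x ∈ U ∧ IsAffineOpen U ∧ ∀ σ : Γgrp, (ρ σ).hom ⁻¹ᵁ U = U := by
  classical
  haveI : LocallyOfFiniteType X.hom := hX.1
  haveI : QuasiCompact X.hom := hX.2.1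
  haveI : X.left.IsSeparated := ⟨by
    rw [← terminal.comp_from X.hom]; infer_instance⟩
  haveI : CompactSpace X.left := QuasiCompact.compactSpace_of_compactSpace X.hom
  obtain ⟨L, hq, hamp⟩ := hX.2.2
  let T : (Spec (CommRingCat.of k)).affineOpens := ⟨⊤, isAffineOpen_top _⟩
  let P : X.left.Opens := X.hom ⁻¹ᵁ T.1
  have hP : P = ⊤ := rfl
  haveI : CompactSpace (P : Scheme.{u}) := by
    exact isCompact_iff_compactSpace.mp (show IsCompact (P : Set X.left) from isCompact_univ)
  haveI : (P : Scheme.{u}).IsSeparated := ⟨by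
    rw [← terminal.comp_from P.ι]; infer_instance⟩
  let orb : Set ↥(P : Scheme.{u}) := Set.range fun σ : Γgrp => (⟨(ρ σ).hom.base x, trivial⟩ : ↥(P : Scheme.{u}))
  obtain ⟨n, s, hZ, -, haff⟩ := Groth.Agent.S2324.result (P : Scheme.{u}) _ (hamp T) orb (Set.finite_range _) ⊤
    (Set.subset_univ _)
  let V : X.left.Opens := P.ι ''ᵁ CohB1.genLocus _ s
  have hV : IsAffineOpen V := haff.image_of_isOpenImmersion _
  have hmem : ∀ σ, (ρ σ).hom.base x ∈ V := fun σ => ⟨_, hZ ⟨σ, rfl⟩, rfl⟩
  haveI := Fintype.ofFinite Γgrp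
  let W : X.left.Opens := ⨅ σ : Γgrp, (ρ σ).hom ⁻¹ᵁ V
  have hmemW : ∀ y : X.left, y ∈ W ↔ ∀ σ, (ρ σ).hom.base y ∈ V := by
    intro y
    have hc : (↑W : Set X.left) = ⋂ σ : Γgrp, ((ρ σ).hom.base ⁻¹' (V : Set X.left)) := by
      simp only [W, TopologicalSpace.Opens.coe_iInf]
      rfl
    rw [← SetLike.mem_coe, hc]
    simp
  refine ⟨W, (hmemW x).2 hmem, ?_, fun τ => ?_⟩
  · exact IsAffineOpen.iInf fun σ => hV.preimage_of_isIso (ρ σ).hom
  · ext y
    change (ρ τ).hom.base y ∈ W ↔ y ∈ W
    rw [hmemW, hmemW]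
    have hcomp : ∀ σ, (ρ σ).hom.base ((ρ τ).hom.base y) = (ρ (σ * τ)).hom.base y := by
      intro σ
      rw [map_mul, Aut.Aut_mul_def, Iso.trans_hom]
      rfl
    simp only [hcomp]
    constructor
    · intro h σ
      have := h (σ * τ⁻¹)
      rwa [inv_mul_cancel_right] at this
    · intro h σ
      exact h _

end Groth.Agent.S16124
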