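import Groth.Statements.S16126
import Groth.Agent.Lib.Repr.GmWeight
import Groth.Agent.Lib.Repr.Faithful
import Groth.Agent.Lib.GrpSchField.Points
-- import your own Groth.Agent.* helpers here

set_option autoImplicit false
universe u
open CategoryTheory MonoidalCategory CartesianMonoidalCategory MonObj GrpObj AlgebraicGeometry CategoryTheory.Limits
open AlgGrp

namespace Groth.Agent.S16126

/-- Over an algebraically closed field k, let E and G be linear algebraic groups (affine smooth k-group
schemes) with G connected, i : 𝔾_m → E a homomorphism which is a closed immersion with central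
image, and f : E → G a flat surjective homomorphism with kernel i (a central extension 1 → 𝔾_m → E →
G → 1). Then there exist a character χ : E → 𝔾_m and an integer n ≥ 1 such that χ ∘ i is the n-th
power map of 𝔾_m: for every point t of 𝔾_m with values in a k-scheme T, χ(i(t)) = tⁿ in the group of
T-points of 𝔾_m. (The published lemma is stated in a setting where all groups are linear; for a
connected G that is not linear the conclusion can fail.) -/
theorem result (k : Type u) [Field k] [IsAlgClosed k]
    (E G : Over (Spec (CommRingCat.of k))) [GrpObj E] [IsAffine E.left] [Smooth E.hom]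
    [GrpObj G] [IsAffine G.left] [Smooth G.hom] [ConnectedSpace ↥G.left]
    (i : Red.Gm (Spec (CommRingCat.of k)) ⟶ E) [IsMonHom i] [IsClosedImmersion i.left]
    (hcent : ∀ (T : Over (Spec (CommRingCat.of k))) (t : T ⟶ Red.Gm (Spec (CommRingCat.of k))) (g : T ⟶ E),
      (t ≫ i) * g = g * (t ≫ i))
    (f : E ⟶ G) [IsMonHom f] [Flat f.left] [Surjective f.left] (hker : AlgGrp.IsKernel i f) :
    ∃ (χ : E ⟶ Red.Gm (Spec (CommRingCat.of k))) (n : ℕ), IsMonHom χ ∧ 1 ≤ n ∧
      ∀ (T : Over (Spec (CommRingCat.of k))) (t : T ⟶ Red.Gm (Spec (CommRingCat.of k))), (t ≫ i) ≫ χ = t ^ n := by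
  classical
  obtain ⟨N, ρ, hρm, hρ⟩ := GrothLib.Repr.exists_faithful_GL E
  open GrothLib.Repr in
  obtain ⟨n, hn0, hA⟩ : ∃ n : ℤ, n ≠ 0 ∧ weightMat ρ i n ≠ 0 := by
    by_contra! hall
    haveI : Mono i := (Over.forget _).mono_of_mono_map (inferInstanceAs (Mono i.left))
    have h1 := hρ _ _ (comp_eq_one_of_matOf ρ (unitT_eq_one_of_weight ρ i hall))
    rw [← MonObj.one_comp i, cancel_mono, ← map_one (gmPt k (R := LaurentPolynomial k))] at h1
    have h2 := congrArg (fun p : LaurentPolynomial k => lcoeff 1 p)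
      (congrArg Units.val ((gmPt k).injective h1))
    change (AddMonoidAlgebra.single (1 : ℤ) (1 : k)).coeff 1 = lcoeff 1 (1 : LaurentPolynomial k) at h2
    rw [← map_one LaurentPolynomial.C, lcoeff_C, if_neg one_ne_zero, AddMonoidAlgebra.coeff_single,
      Finsupp.single_eq_same] at h2
    exact one_ne_zero h2
  open GrothLib.Repr in
  let Er := fun (R : Type u) [CommRing R] [Algebra k R] => weightMatR ρ i R n
  open GrothLib.Repr in
  let V := fun (R : Type u) [CommRing R] [Algebra k R] (g : VecGrp.pt k R ⟶ E) => matOf ρ g * Er R + (1 - Er R)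
  open GrothLib.Repr in
  have hsq : ∀ (R : Type u) [CommRing R] [Algebra k R], Er R * Er R = Er R := fun R _ _ => by
    simp only [Er, weightMatR]
    rw [← Matrix.map_mul, weightMat_mul_self]
  open GrothLib.Repr in
  have hVm : ∀ (R : Type u) [CommRing R] [Algebra k R] (g h : VecGrp.pt k R ⟶ E), V R (g * h) = V R g * V R h := by
    intro R _ _ g h
    have hs : Er R * Er R = Er R := hsq R
    have hc : Er R * matOf ρ h = matOf ρ h * Er R := weight_comm ρ i hcent h n
    simp only [V, matOf_mul]
    have e1 : matOf ρ g * Er R * (matOf ρ h * Er R) = matOf ρ g * matOf ρ h * Er R := by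
      rw [_root_.mul_assoc (matOf ρ g), ← _root_.mul_assoc (Er R), hc, _root_.mul_assoc (matOf ρ h), hs,
        ← _root_.mul_assoc]
    have e2 : matOf ρ g * Er R * (1 - Er R) = 0 := by
      rw [_root_.mul_assoc, mul_sub, _root_.mul_one, hs, sub_self, mul_zero]
    have e3 : (1 - Er R) * (matOf ρ h * Er R) = 0 := by
      rw [sub_mul, _root_.one_mul, ← _root_.mul_assoc, hc, _root_.mul_assoc, hs, sub_self]
    have e4 : (1 - Er R) * (1 - Er R) = 1 - Er R := by
      rw [sub_mul, _root_.one_mul, mul_sub, _root_.mul_one, hs, sub_self, sub_zero]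
    rw [add_mul, mul_add, mul_add, e1, e2, e3, e4, add_zero, zero_add]
  open GrothLib.Repr in
  have hV1 : ∀ (R : Type u) [CommRing R] [Algebra k R], V R 1 = 1 := fun R _ _ => by
    simp only [V, matOf_one, _root_.one_mul, add_sub_cancel]
  let D := fun (R : Type u) [CommRing R] [Algebra k R] (g : VecGrp.pt k R ⟶ E) => (V R g).det
  open GrothLib.Repr in
  have hDn : ∀ (R R' : Type u) [CommRing R] [Algebra k R] [CommRing R'] [Algebra k R'] (f : R →ₐ[k] R')
      (g : VecGrp.pt k R ⟶ E), f (D R g) = D R' (VecGrp.ptMap f ≫ g) := by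
    intro R R' _ _ _ _ f g
    simp only [D]
    rw [AlgHom.map_det]
    congr 1
    simp only [V, map_add, map_sub, map_mul, map_one]
    rw [show f.mapMatrix (Er R) = Er R' from weightMatR_map ρ i f n,
      show f.mapMatrix (matOf ρ g) = matOf ρ (VecGrp.ptMap f ≫ g) from map_matOf ρ f g]
  have hDm : ∀ (R : Type u) [CommRing R] [Algebra k R] (g h : VecGrp.pt k R ⟶ E), D R (g * h) = D R g * D R h :=
    fun R _ _ g h => (congrArg Matrix.det (hVm R g h)).trans (Matrix.det_mul _ _)
  have hD1 : ∀ (R : Type u) [CommRing R] [Algebra k R], D R 1 = 1 := fun R _ _ =>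
    (congrArg Matrix.det (hV1 R)).trans Matrix.det_one
  let U := fun (R : Type u) [CommRing R] [Algebra k R] (g : VecGrp.pt k R ⟶ E) =>
    (⟨D R g, D R g⁻¹, by rw [← hDm, mul_inv_cancel, hD1], by rw [← hDm, inv_mul_cancel, hD1]⟩ : Rˣ)
  let U' := fun (R : Type u) [CommRing R] [Algebra k R] (g : VecGrp.pt k R ⟶ E) =>
    if 0 < n then U R g else (U R g)⁻¹
  have hU'm : ∀ (R : Type u) [CommRing R] [Algebra k R] (g h : VecGrp.pt k R ⟶ E),
      U' R (g * h) = U' R g * U' R h := fun R _ _ g h => by
    have hm : U R (g * h) = U R g * U R h := Units.ext (hDm R g h)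
    simp only [U']
    split_ifs with hp
    · exact hm
    · rw [hm, _root_.mul_inv]
  have hU'n : ∀ (R R' : Type u) [CommRing R] [Algebra k R] [CommRing R'] [Algebra k R'] (f : R →ₐ[k] R')
      (g : VecGrp.pt k R ⟶ E), Units.map (f : R →* R') (U' R g) = U' R' (VecGrp.ptMap f ≫ g) :=
    fun R R' _ _ _ _ f g => by
    have hm : Units.map (f : R →* R') (U R g) = U R' (VecGrp.ptMap f ≫ g) := Units.ext (hDn R R' f g)
    simp only [U']
    split_ifs with hp
    · exact hm
    · rw [map_inv, hm]
  open GrothLib.Repr in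
  obtain ⟨χ, hχ⟩ := exists_hom_of_natural (fun R _ _ g => gmPt k (U' R g))
    (fun R R' _ _ _ _ f g => by rw [gmPt_map, hU'n])
  open GrothLib.Repr Polynomial in
  obtain ⟨r, hr, hdet⟩ : ∃ r : ℕ, 0 < r ∧
      ∀ (R : Type u) [CommRing R] [Algebra k R] (a : R), (1 + (a - 1) • Er R).det = a ^ r := by
    let p : k[X] := (1 + (Polynomial.X - 1 : k[X]) • Er k[X]).det
    have hev : ∀ (R : Type u) [CommRing R] [Algebra k R] (a : R),
        Polynomial.aeval a p = (1 + (a - 1) • Er R).det := by
      intro R _ _ a
      simp only [p, AlgHom.map_det]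
      congr 1
      refine Matrix.ext fun x y => ?_
      simp only [AlgHom.mapMatrix_apply, Matrix.map_apply, Matrix.add_apply, Matrix.smul_apply, smul_eq_mul,
        map_add, map_mul, map_sub, map_one, Polynomial.aeval_X]
      congr 1
      · congr 1
        exact (Polynomial.aeval a).commutes _
    have hmul : ∀ (R : Type u) [CommRing R] [Algebra k R] (a b : R),
        Polynomial.aeval (a * b) p = Polynomial.aeval a p * Polynomial.aeval b p := by
      intro R _ _ a b
      rw [hev, hev, hev, ← Matrix.det_mul]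
      congr 1
      simp only [add_mul, mul_add, _root_.one_mul, _root_.mul_one, Matrix.smul_mul, Matrix.mul_smul, hsq R,
        smul_smul]
      rw [add_assoc]
      congr 1
      rw [← add_smul, ← add_smul]
      congr 1
      ring
    have hp1 : p.eval 1 = 1 := by
      rw [← Polynomial.coe_aeval_eq_eval, hev]
      simp
    obtain ⟨j, hj⟩ : ∃ j, p.coeff j ≠ 0 := by
      by_contra! h0
      rw [show p = 0 from Polynomial.ext fun m => (h0 m).trans (Polynomial.coeff_zero m).symm] at hp1
      simp at hp1
    have key := congrArg (fun P : Polynomial k[X] => P.coeff j)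
      (hmul (Polynomial k[X]) (Polynomial.C Polynomial.X) Polynomial.X)
    have hsum : ∀ (R : Type u) [CommRing R] [Algebra k R] (a : R),
        Polynomial.aeval a p = p.sum fun e c => algebraMap k R c * a ^ e := fun R _ _ a => by
      rw [Polynomial.aeval_def, Polynomial.eval₂_eq_sum]
    have hCX : Polynomial.aeval (Polynomial.C Polynomial.X : Polynomial k[X]) p = Polynomial.C p := by
      rw [show (Polynomial.C Polynomial.X : Polynomial k[X]) = (Polynomial.CAlgHom (R := k)) Polynomial.X from rfl,
        Polynomial.aeval_algHom_apply, Polynomial.aeval_X_left_apply]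
      rfl
    simp only [hCX, Polynomial.coeff_C_mul] at key
    rw [hsum, hsum, Polynomial.sum_def, Polynomial.sum_def, Polynomial.finsetSum_coeff,
      Polynomial.finsetSum_coeff] at key
    have hcoe : ∀ c : k, algebraMap k (Polynomial k[X]) c = Polynomial.C (Polynomial.C c) := fun c => rfl
    simp only [hcoe, mul_pow, ← Polynomial.C_pow, Polynomial.coeff_C_mul, Polynomial.coeff_X_pow,
      mul_ite, _root_.mul_one, mul_zero, Finset.sum_ite_eq] at key
    simp only [if_pos (Polynomial.mem_support_iff.2 hj)] at key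
    have hp : p = Polynomial.X ^ j := by
      refine (mul_right_cancel₀ (Polynomial.C_ne_zero.2 hj) (key.symm.trans ?_))
      rw [_root_.mul_comm]
    refine ⟨j, Nat.pos_of_ne_zero fun h0 => hA ?_, fun R _ _ a => ?_⟩
    · have e : (1 + (0 - 1 : k) • Er k).det = 1 := by rw [← hev, hp, h0]; simp
      have hu : IsUnit (1 - Er k) := (Matrix.isUnit_iff_isUnit_det _).2 (by
        rw [show (1 : Matrix (Fin N) (Fin N) k) - Er k = 1 + (0 - 1 : k) • Er k by simp [sub_eq_add_neg]]
        rw [e]; exact isUnit_one)
      have hz : Er k * (1 - Er k) = 0 := by rw [mul_sub, _root_.mul_one, hsq, sub_self]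
      have hE0 : Er k = 0 := hu.mul_left_eq_zero.1 hz
      exact hE0
    · rw [← hev, hp]
      simp
  open GrothLib.Repr in
  haveI hχm : IsMonHom χ := GrothLib.GrpSchField.isMonHom_of_mul _ (hom_ext_pts fun R _ _ p => by
    rw [← GrothLib.GrpSchField.lift_fst_snd_comp p]
    generalize p ≫ fst E E = a
    generalize p ≫ snd E E = b
    rw [← Category.assoc, ← Hom.mul_def, hχ, lift_map_assoc, ← Hom.mul_def, hχ, hχ, hU'm, map_mul])
  refine ⟨χ, n.natAbs * r, hχm, Nat.mul_pos (Int.natAbs_pos.2 hn0) hr, fun T t => ?_⟩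
  open GrothLib.Repr in
  have hmain : i ≫ χ = (𝟙 (Red.Gm (Spec (CommRingCat.of k)))) ^ (n.natAbs * r) := hom_ext_pts fun R _ _ p => by
    obtain ⟨w, rfl⟩ := (gmPt k (R := R)).surjective p
    rw [MonObj.comp_pow, Category.comp_id, ← map_pow, ← Category.assoc, hχ]
    congr 1
    have hD : U R (gmPt k w ≫ i) = (w ^ n) ^ r := by
      refine Units.ext ?_
      show (gmMat ρ i w * Er R + (1 - Er R)).det = _
      rw [gmMat_mul_weight, Units.val_pow_eq_pow_val, ← hdet R ((w ^ n : Rˣ) : R)]
      congr 1
      rw [sub_smul, one_smul]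
      abel
    simp only [U', hD]
    rw [← zpow_natCast (w ^ n), ← zpow_mul]
    split_ifs with hp
    · rw [← zpow_natCast w, Nat.cast_mul, Int.natAbs_of_nonneg hp.le]
    · rw [← zpow_neg, ← zpow_natCast w, Nat.cast_mul, Int.ofNat_natAbs_of_nonpos (not_lt.1 hp), neg_mul]
  rw [Category.assoc, hmain, MonObj.comp_pow, Category.comp_id]

end Groth.Agent.S16126
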