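import Groth.Statements.S16127
import Mathlib.AlgebraicGeometry.Sites.Fpqc
-- import your own Groth.Agent.* helpers here

set_option autoImplicit false
universe u
open CategoryTheory MonoidalCategory CartesianMonoidalCategory MonObj GrpObj AlgebraicGeometry CategoryTheory.Limits
open AlgGrp

namespace Groth.Agent.S16127

/-- Over an algebraically closed field k, let G be an algebraic group (a smooth k-group scheme of finite
type) acting by σ on a variety X, and let f : X → Y be a principal G-bundle over a variety Y (X, Y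
reduced separated k-schemes of finite type; f flat and surjective, the square σ, p₂ : G × X → X, f,
f cartesian). Then f^* identifies Γ(Y, O_Y) with the invariants Γ(X, O_X)^G: f^* on global sections
is injective and its range is the set of global functions s on X with σ^*(s) = p₂^*(s). -/
theorem result (k : Type u) [Field k] [IsAlgClosed k]
    (G X Y : Over (Spec (CommRingCat.of k))) [GrpObj G] [Smooth G.hom] [QuasiCompact G.hom]
    [IsReduced X.left] [IsSeparated X.hom] [LocallyOfFiniteType X.hom] [QuasiCompact X.hom]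
    [IsReduced Y.left] [IsSeparated Y.hom] [LocallyOfFiniteType Y.hom] [QuasiCompact Y.hom]
    (a : AlgGrp.Action G X) (f : X ⟶ Y) [Flat f.left] [Surjective f.left]
    (hsq : IsPullback a.act.left (snd G X).left f.left f.left) :
    Function.Injective (f.left.appTop) ∧
      Set.range (f.left.appTop) = {s : Γ(X.left, ⊤) | a.act.left.appTop s = (snd G X).left.appTop s} := by
  have hQC : QuasiCompact (f.left ≫ Y.hom) := by rw [Over.w f]; infer_instance
  have : QuasiCompact f.left := QuasiCompact.of_comp f.left Y.hom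
  let A : Scheme.{u} := Spec (CommRingCat.of (Polynomial (ULift.{u} ℤ)))
  let z : Γ(A, ⊤) := (Scheme.ΓSpecIso _).inv Polynomial.X
  have hext : ∀ {T : Scheme.{u}} (p q : T ⟶ A), p.appTop z = q.appTop z → p = q := fun {T} p q e => by
    refine ext_of_isAffine ?_
    apply (cancel_epi (Scheme.ΓSpecIso (CommRingCat.of (Polynomial (ULift.{u} ℤ)))).inv).mp
    refine CommRingCat.hom_ext (Polynomial.ringHom_ext (fun n => ?_) e)
    obtain ⟨n⟩ := n
    rw [show (ULift.up n : ULift.{u} ℤ) = ((n : ℤ) : ULift.{u} ℤ) from by ext; simp, map_intCast, map_intCast, map_intCast]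
  have hmk : ∀ {T : Scheme.{u}} (s : Γ(T, ⊤)), ∃ p : T ⟶ A, p.appTop z = s := fun {T} s => by
    let φ : CommRingCat.of (Polynomial (ULift.{u} ℤ)) ⟶ Γ(T, ⊤) :=
      CommRingCat.ofHom (Polynomial.eval₂RingHom ((Int.castRingHom _).comp ULift.ringEquiv.toRingHom) s)
    refine ⟨T.toSpecΓ ≫ Spec.map φ, ?_⟩
    rw [Scheme.Hom.comp_appTop, Scheme.toSpecΓ_appTop]
    have h1 := congrArg (fun χ => (ConcreteCategory.hom χ) (Polynomial.X : Polynomial (ULift.{u} ℤ)))
      (Scheme.ΓSpecIso_inv_naturality φ)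
    change (Scheme.ΓSpecIso Γ(T, ⊤)).hom ((Spec.map φ).appTop z) = s
    have h2 : (Spec.map φ).appTop z = (Scheme.ΓSpecIso Γ(T, ⊤)).inv (φ Polynomial.X) := h1.symm
    rw [h2]
    refine (congrArg (fun χ => (ConcreteCategory.hom χ) (φ Polynomial.X)) (Scheme.ΓSpecIso Γ(T, ⊤)).inv_hom_id).trans ?_
    simp [φ]
  refine ⟨fun s t e => ?_, Set.ext fun s => ⟨?_, fun hs => ?_⟩⟩
  · obtain ⟨p, rfl⟩ := hmk s
    obtain ⟨q, rfl⟩ := hmk t
    refine congrArg (fun r : Y.left ⟶ A => r.appTop z) ((cancel_epi f.left).mp (hext _ _ ?_))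
    rw [Scheme.Hom.comp_appTop, Scheme.Hom.comp_appTop, CommRingCat.comp_apply, CommRingCat.comp_apply]
    exact e
  · rintro ⟨t, rfl⟩
    show a.act.left.appTop (f.left.appTop t) = (snd G X).left.appTop (f.left.appTop t)
    rw [← CommRingCat.comp_apply, ← CommRingCat.comp_apply, ← Scheme.Hom.comp_appTop,
      ← Scheme.Hom.comp_appTop, hsq.w]
  · obtain ⟨p, rfl⟩ := hmk s
    have hp : a.act.left ≫ p = (snd G X).left ≫ p := hext _ _ (by
      rw [Scheme.Hom.comp_appTop, Scheme.Hom.comp_appTop, CommRingCat.comp_apply, CommRingCat.comp_apply]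
      exact hs)
    have hd : ∀ {Z : Scheme.{u}} (g₁ g₂ : Z ⟶ X.left), g₁ ≫ f.left = g₂ ≫ f.left → g₁ ≫ p = g₂ ≫ p := by
      intro Z g₁ g₂ e
      rw [← hsq.lift_fst g₁ g₂ e, Category.assoc, hp, ← Category.assoc, hsq.lift_snd]
    refine ⟨(EffectiveEpi.desc f.left p hd).appTop z, ?_⟩
    rw [← CommRingCat.comp_apply, ← Scheme.Hom.comp_appTop, EffectiveEpi.fac]


end Groth.Agent.S16127
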