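import Groth.Statements.S1613
import Groth.Agent.Lib.CurveMult.OmegaApp

set_option autoImplicit false
universe u
open CategoryTheory CategoryTheory.Limits AlgebraicGeometry
open Curves

namespace Groth.Agent.S1613

/-- Let X be a smooth proper connected curve over an algebraically closed field k, of genus g ≥ 2. Then
every O_X-linear map from the sheaf of differentials Ω_{X/k} to O_X is zero (X has no nonzero
k-derivations of its structure sheaf). -/
theorem result (k : Type u) [Field k] [IsAlgClosed k] (X : Scheme.{u}) [X.Over (Spec (CommRingCat.of k))]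
    (hX : Curve.IsSmoothProperCurve k X (X ↘ (Spec (CommRingCat.of k)))) (hg : 2 ≤ Curv2.genus k X)
    (θ : Omega.sheaf (X ↘ (Spec (CommRingCat.of k))) ⟶ Coh.structureModule X) : θ = 0 := by
  obtain ⟨hp, hsm, hint, hdim⟩ := hX
  haveI := hint
  haveI := hp
  haveI := hsm
  haveI := GrothLib.CurveRR.regCurve_of_smooth (X ↘ (Spec (CommRingCat.of k))) hdim
  have h0 := GrothLib.CurveRR.finrank_H0_structure_eq_one k (X := X)
  have hK := GrothLib.CurveRR.isFunctionField k h0
  have hgen := GrothLib.CurveRR.genus_eq k h0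
  obtain ⟨C, hC, ⟨eC⟩⟩ := GrothLib.CurveMult.OmegaCan.exists_iso_omega (k := k) (X := X)
  obtain ⟨e0⟩ := GrothLib.CurveRR.nonempty_iso_oD_zero k (X := X)
  obtain ⟨φ, hφ⟩ : ∃ φ, φ = eC.inv ≫ θ ≫ e0.hom := ⟨_, rfl⟩
  suffices h : φ = 0 by
    rw [hφ] at h
    rw [← cancel_epi eC.inv, ← cancel_mono e0.hom, Category.assoc, h, comp_zero, zero_comp]
  obtain ⟨f, hf⟩ := GrothLib.CurveMult.DivIso.exists_factor k φ
  obtain ⟨-, hdC⟩ := GrothLib.FunFld.ell_canonical hK hC
  rcases eq_or_ne f 0 with rfl | hf0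
  · refine Scheme.Modules.hom_ext _ _ fun V => ?_
    ext s
    refine GrothLib.CurveRR.oval_ext fun hV => ?_
    rw [hf, zero_mul]
    exact (GrothLib.ProjCoh.val_zero hV).symm.trans (congrArg (GrothLib.ProjCoh.val · hV) (map_zero _).symm)
  · exfalso
    have hle : C ≤ FunFld.div k f := fun P => by
      obtain ⟨x, rfl⟩ := GrothLib.CurveRR.place_surjective (k := k) (X := X) P
      have h1 := GrothLib.CurveMult.DivIso.le_of_factor k hf x
      rw [GrothLib.FunFld.val_eq _ hf0, ← WithZero.exp_add, WithZero.exp_le_exp] at h1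
      rw [GrothLib.FunFld.IsFG.div_apply hK.1]
      simp only [Finsupp.zero_apply] at h1
      omega
    have h2 := GrothLib.FunFld.deg_mono hle
    rw [hdC, GrothLib.FunFld.IsFG.deg_div hK.1] at h2
    omega

end Groth.Agent.S1613
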