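import Groth.Statements.S16130
import Groth.Agent.Lib.OrbitDim.Formula
-- import your own Groth.Agent.* helpers here

set_option autoImplicit false
universe u
open CategoryTheory MonoidalCategory CartesianMonoidalCategory MonObj GrpObj AlgebraicGeometry CategoryTheory.Limits
open AlgGrp

namespace Groth.Agent.S16130

/-- Over an algebraically closed field k, let G be an algebraic group (a smooth k-group scheme of finite
type, not necessarily connected) acting on a variety X (a reduced separated k-scheme of finite
type), and let x be a k-point of X with orbit map α_x : G → X. Then dim G = dim(G · x) + dim(G_x),
where G · x is the image of α_x with its subspace topology and G_x is the stabilizer, the fibre of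
α_x over x; all dimensions are Krull dimensions of topological spaces. (The published statement also
asserts that the irreducible components of G · x are precisely the G⁰-orbits it contains, all of
that dimension; that clause is not stated here.) -/
theorem result (k : Type u) [Field k] [IsAlgClosed k]
    (G X : Over (Spec (CommRingCat.of k))) [GrpObj G] [Smooth G.hom] [QuasiCompact G.hom]
    [IsReduced X.left] [IsSeparated X.hom] [LocallyOfFiniteType X.hom] [QuasiCompact X.hom]
    (a : AlgGrp.Action G X) (x : 𝟙_ (Over (Spec (CommRingCat.of k))) ⟶ X) :
    topologicalKrullDim ↥G.left =
      topologicalKrullDim ↥(Set.range (a.orbitMap x).left.base) +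
        topologicalKrullDim ↥(Limits.pullback (a.orbitMap x).left x.left) := by
  rw [GrothLib.OrbitDim.dim_eq_add a x, GrothLib.OrbitDim.dim_stabilizer a x]


end Groth.Agent.S16130
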