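import Groth.Statements.S16131
import Groth.Agent.Lib.OrbitDim.Basic
-- import your own Groth.Agent.* helpers here

set_option autoImplicit false
universe u
open CategoryTheory MonoidalCategory CartesianMonoidalCategory MonObj GrpObj AlgebraicGeometry CategoryTheory.Limits
open AlgGrp

namespace Groth.Agent.S16131

/-- Over an algebraically closed field k, let G be an algebraic group (a smooth k-group scheme of finite
type, not necessarily connected) acting on a variety X (a reduced separated k-scheme of finite
type), and let x be a k-point of X with orbit G · x (the image of the orbit map). Then the boundary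
cl(G · x) ∖ G · x has strictly smaller Krull dimension than G · x (both with the subspace topology
from X); so the orbit closure is the union of the orbit and of orbits of smaller dimension. -/
theorem result (k : Type u) [Field k] [IsAlgClosed k]
    (G X : Over (Spec (CommRingCat.of k))) [GrpObj G] [Smooth G.hom] [QuasiCompact G.hom]
    [IsReduced X.left] [IsSeparated X.hom] [LocallyOfFiniteType X.hom] [QuasiCompact X.hom]
    (a : AlgGrp.Action G X) (x : 𝟙_ (Over (Spec (CommRingCat.of k))) ⟶ X) :
    topologicalKrullDim ↥(closure (Set.range (a.orbitMap x).left.base) \ Set.range (a.orbitMap x).left.base) <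
      topologicalKrullDim ↥(Set.range (a.orbitMap x).left.base) := by
  have : IsLocallyNoetherian X.left := LocallyOfFiniteType.isLocallyNoetherian X.hom
  have : QuasiCompact ((a.orbitMap x).left ≫ X.hom) := by rw [Over.w]; infer_instance
  have : QuasiCompact (a.orbitMap x).left := QuasiCompact.of_comp _ X.hom
  exact GrothLib.OrbitDim.dim_boundary_lt X.hom (GrothLib.GrpSchField.isLocallyClosed_range_orbitMap a x)
    ⟨_, Set.mem_range_self (η[G].left.base (IsLocalRing.closedPoint k))⟩


end Groth.Agent.S16131
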