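import Groth.Statements.S16145
import Groth.Agent.Lib.BiReg5.Main
-- import your own Groth.Agent.* helpers here

set_option autoImplicit false
universe u
open CategoryTheory CategoryTheory.Limits AlgebraicGeometry
open Variety

namespace Groth.Agent.S16145

/-- Let k be an algebraically closed field of characteristic zero and G a finite locally free O-module
on P¹ ×_k P¹ which is (p, q)-regular in the bigraded sense (H^{u₁+u₂}(P¹ × P¹, G(p - u₁, q - u₂)) =
0 whenever u₁ + u₂ > 0) and whose twist G(p, q) is globally generated. Then for every natural number
j, every j-th exterior power L of G (an O-module with L(U) ≅ ⋀^j G(U) over the affine opens U,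
compatibly with restriction) is (j·p, j·q)-regular. (As for the first assertion, the published lemma
has no global-generation hypothesis and takes it from the bigraded form of Mumford's regularity
criterion, quoted without proof in the source; it is carried here. The source states this assertion
over the complex numbers.) -/
theorem result (k : Type u) [Field k] [IsAlgClosed k] [CharZero k]
    (G : (W4c3multigrregular.biProj 1 1 k).Modules) (hG : FlatMod.IsFinLocFree G) (p q : ℤ)
    (hreg : W4c3multigrregular.IsBiReg 1 1 k G p q)
    (hgg : Curv2.IsGloballyGenerated (W4c3multigrregular.twistBi 1 1 k G p q))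
    (j : ℕ) (L : (W4c3multigrregular.biProj 1 1 k).Modules) (hL : ExtPow.IsExtPow j G L) :
    W4c3multigrregular.IsBiReg 1 1 k L (j * p) (j * q) := by
  obtain ⟨e⟩ := GrothLib.ExtPowX.nonempty_iso (GrothLib.ExtPowX.isExtPow_wedge hG j) hL (Iso.refl G)
  exact ((GrothLib.BiReg5.Reg.wedge k ⟨hreg, hgg⟩ hG j).of_iso k e).1

end Groth.Agent.S16145
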