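import Groth.Statements.S16146
-- import your own Groth.Agent.* helpers here
import Groth.Agent.Lib.CurveMult.HypSect28
import Groth.Agent.Lib.MultDeg12.Form
import Groth.Agent.Lib.Chow.Prod

set_option autoImplicit false
set_option maxHeartbeats 1600000
set_option linter.style.haveILetI false
set_option backward.isDefEq.respectTransparency false
universe u
open CategoryTheory CategoryTheory.Limits AlgebraicGeometry
open Curves

namespace Groth.Agent.S16146

/-- Let k be an algebraically closed field of characteristic zero, a, b ≥ 2, and C a smooth curve over k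
(integral, proper over k, of dimension one, all local rings regular) with a closed immersion i : C →
P^a ×_k P^b over k whose two projections j₁ : C → P^a, j₂ : C → P^b are birational onto their images
(each restricts to a closed immersion over some open of the target meeting the image) and have
nondegenerate images (no nonzero linear form pulls back to zero on C). For linear forms ℓ on P^a and
m on P^b write C ∩ (V(ℓ) × P^b) and C ∩ (P^a × V(m)) for the sets of points of C mapped by j₁ into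
the hyperplane V(ℓ), resp. by j₂ into V(m). Assume property (*): for every nonzero ℓ there is a
nonzero m with C ∩ (V(ℓ) × P^b) ⊆ C ∩ (P^a × V(m)), and for every nonzero m there is a nonzero ℓ
with C ∩ (P^a × V(m)) ⊆ C ∩ (V(ℓ) × P^b) (the images of the hyperplane sections under the other
projection never span). Then for a general linear form ℓ on P^a (all ℓ outside the zero set of a
nonzero polynomial function on the space of linear forms): (i) the points j₁(C ∩ (V(ℓ) × P^b)) span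
the hyperplane V(ℓ), i.e. every linear form ℓ' on P^a vanishing at all of them is a scalar multiple
of ℓ; (ii)–(iii) there is a nonzero linear form m on P^b with C ∩ (V(ℓ) × P^b) = C ∩ (P^a × V(m)),
and every linear form m' on P^b with C ∩ (V(ℓ) × P^b) ⊆ C ∩ (P^a × V(m')) is a scalar multiple of m
(the points j₂(C ∩ (V(ℓ) × P^b)) span exactly the hyperplane V(m)). (The source works over the
complex numbers.) -/
theorem result (k : Type u) [Field k] [IsAlgClosed k] [CharZero k]
    (a b : ℕ) (ha : 2 ≤ a) (hb : 2 ≤ b)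
    (C : Scheme.{u}) [C.Over (Spec (CommRingCat.of k))] [IsIntegral C] [IsProper (C ↘ (Spec (CommRingCat.of k)))]
    (hdim : topologicalKrullDim C = 1) (hsm : ∀ x : C, IsRegularLocalRing (C.presheaf.stalk x))
    (i : C ⟶ W4c3multigrregular.biProj a b k) [IsClosedImmersion i]
    (hi : i ≫ W4c3multigrregular.biProj.toSpec a b k = (C ↘ (Spec (CommRingCat.of k))))
    (hbir₁ : ∃ U : (CohB1.ProjSpace a k).Opens, (∃ x : C, (i ≫ W4c3multigrregular.biProj.fst a b k).base x ∈ U) ∧ IsClosedImmersion ((i ≫ W4c3multigrregular.biProj.fst a b k) ∣_ U))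
    (hbir₂ : ∃ U : (CohB1.ProjSpace b k).Opens, (∃ x : C, (i ≫ W4c3multigrregular.biProj.snd a b k).base x ∈ U) ∧ IsClosedImmersion ((i ≫ W4c3multigrregular.biProj.snd a b k) ∣_ U))
    (hnd₁ : ∀ s : LinSer.Sect (CohB1.ProjSpace a k) (Twist.twistProjSpace a k 1), s ≠ 0 →
      OmegaSh.pullSect (i ≫ W4c3multigrregular.biProj.fst a b k) (Twist.twistProjSpace a k 1) ⊤ s ≠ 0)
    (hnd₂ : ∀ s : LinSer.Sect (CohB1.ProjSpace b k) (Twist.twistProjSpace b k 1), s ≠ 0 →
      OmegaSh.pullSect (i ≫ W4c3multigrregular.biProj.snd a b k) (Twist.twistProjSpace b k 1) ⊤ s ≠ 0)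
    (hstar₁ : ∀ ℓ : LefPen.Form a k 1, ℓ ≠ 0 → ∃ m : LefPen.Form b k 1, m ≠ 0 ∧
      ∀ x : C, (i ≫ W4c3multigrregular.biProj.fst a b k).base x ∈ (LefPen.hypIdeal ℓ).support → (i ≫ W4c3multigrregular.biProj.snd a b k).base x ∈ (LefPen.hypIdeal m).support)
    (hstar₂ : ∀ m : LefPen.Form b k 1, m ≠ 0 → ∃ ℓ : LefPen.Form a k 1, ℓ ≠ 0 ∧
      ∀ x : C, (i ≫ W4c3multigrregular.biProj.snd a b k).base x ∈ (LefPen.hypIdeal m).support → (i ≫ W4c3multigrregular.biProj.fst a b k).base x ∈ (LefPen.hypIdeal ℓ).support) :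
    LefPen.IsGeneric k {ℓ : LefPen.Form a k 1 |
      (∀ ℓ' : LefPen.Form a k 1, (∀ x : C, (i ≫ W4c3multigrregular.biProj.fst a b k).base x ∈ (LefPen.hypIdeal ℓ).support → (i ≫ W4c3multigrregular.biProj.fst a b k).base x ∈ (LefPen.hypIdeal ℓ').support) → ∃ c : k, ℓ' = c • ℓ) ∧
      ∃ m : LefPen.Form b k 1, m ≠ 0 ∧ (∀ x : C, ((i ≫ W4c3multigrregular.biProj.fst a b k).base x ∈ (LefPen.hypIdeal ℓ).support ↔ (i ≫ W4c3multigrregular.biProj.snd a b k).base x ∈ (LefPen.hypIdeal m).support)) ∧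
        ∀ m' : LefPen.Form b k 1, (∀ x : C, (i ≫ W4c3multigrregular.biProj.fst a b k).base x ∈ (LefPen.hypIdeal ℓ).support → (i ≫ W4c3multigrregular.biProj.snd a b k).base x ∈ (LefPen.hypIdeal m').support) → ∃ c : k, m' = c • m} := by
  classical
  obtain ⟨hRC, hsm, -, -, -⟩ := GrothLib.CurveMult.OmegaApp.setup k hdim hsm
  haveI := hRC
  set i₁ := i ≫ W4c3multigrregular.biProj.fst a b k with hi₁def
  set i₂ := i ≫ W4c3multigrregular.biProj.snd a b k with hi₂def
  have hi₁ : i₁ ≫ CohB1.ProjSpace.toSpec a k = C ↘ Spec (CommRingCat.of k) := (Category.assoc _ _ _).trans hi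
  have hi₂ : i₂ ≫ CohB1.ProjSpace.toSpec b k = C ↘ Spec (CommRingCat.of k) := by
    rw [← hi, hi₂def, Category.assoc]
    exact congrArg (i ≫ ·) Limits.pullback.condition.symm
  obtain ⟨f, hf, hex, hgood⟩ := GrothLib.CurveMult.HypSect28.isGeneric_span k i₁ hi₁ hnd₁ hsm
  refine ⟨f, hf, hex, fun ℓ hℓ => ?_⟩
  obtain ⟨hℓ0, hP⟩ := hgood ℓ hℓ
  obtain ⟨m, hm0, hm⟩ := hstar₁ ℓ hℓ0
  have hsmul : ∀ (N : ℕ) (y : ↥(CohB1.ProjSpace N k)) (c : k) (G : LefPen.Form N k 1), c ≠ 0 →
      (y ∈ (LefPen.hypIdeal (c • G)).support ↔ y ∈ (LefPen.hypIdeal G).support) := fun N y c G hc => by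
    rw [GrothLib.CI20.mem_support_hyp, GrothLib.CI20.mem_support_hyp, SetLike.val_smul, MvPolynomial.smul_eq_C_mul]
    refine ⟨fun h => ?_, fun h => Ideal.mul_mem_left _ _ h⟩
    have := Ideal.mul_mem_left y.asHomogeneousIdeal.toIdeal (MvPolynomial.C c⁻¹) h
    rwa [← mul_assoc, ← map_mul, inv_mul_cancel₀ hc, map_one, one_mul] at this
  have heq : ∀ m : LefPen.Form b k 1, m ≠ 0 →
      (∀ x : C, i₁ x ∈ (LefPen.hypIdeal ℓ).support → i₂ x ∈ (LefPen.hypIdeal m).support) →
      ∀ x : C, i₂ x ∈ (LefPen.hypIdeal m).support → i₁ x ∈ (LefPen.hypIdeal ℓ).support := by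
    intro m hm0 hm x hx
    obtain ⟨ℓ', hℓ'0, hℓ'⟩ := hstar₂ m hm0
    obtain ⟨c, rfl⟩ := hP ℓ' fun y hy => hℓ' y (hm y hy)
    exact (hsmul a _ c ℓ (fun hc => hℓ'0 (by rw [hc, zero_smul]))).1 (hℓ' x hx)
  refine ⟨hP, m, hm0, fun x => ⟨hm x, heq m hm0 hm x⟩, fun m' hm' => ?_⟩
  haveI : LocallyOfFiniteType (C ↘ Spec (CommRingCat.of k)) := inferInstance
  haveI : JacobsonSpace C := LocallyOfFiniteType.jacobsonSpace (C ↘ Spec (CommRingCat.of k))
  obtain ⟨x₀, hx₀, hx₀c⟩ := nonempty_inter_closedPoints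
    (Z := (i₁ ⁻¹' ((LefPen.hypIdeal ℓ).support : Set _))ᶜ)
    (Set.nonempty_compl.2 fun h => hℓ0 (GrothLib.CurveMult.HypSect28.eq_zero_of_forall_mem k i₁ hi₁ hnd₁
      fun x => h.ge (Set.mem_univ x)))
    ((LefPen.hypIdeal ℓ).support.isClosed.preimage i₁.continuous).isOpen_compl.isLocallyClosed
  haveI := GrothLib.Chow.isProper_toSpec b k
  haveI : IsProper i₂ := by
    haveI : IsProper (i₂ ≫ CohB1.ProjSpace.toSpec b k) := by rw [hi₂]; infer_instance
    exact IsProper.of_comp i₂ (CohB1.ProjSpace.toSpec b k)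
  have hy : IsClosed ({i₂ x₀} : Set ↥(CohB1.ProjSpace b k)) := by
    simpa using i₂.isClosedMap _ (mem_closedPoints_iff.1 hx₀c)
  obtain ⟨j, hj⟩ : ∃ j, i₂ x₀ ∈ LefPen.chart b k j :=
    TopologicalSpace.Opens.mem_iSup.1 ((GrothLib.Ample.ProjMap.iSup_basicOpen_X b k).ge (TopologicalSpace.Opens.mem_top _))
  obtain ⟨co, hco⟩ := GrothLib.MultDeg12.exists_coords hy hj
  have hQ : ∀ l, (MvPolynomial.X l - MvPolynomial.C (co l) * MvPolynomial.X j) ∈ (i₂ x₀).asHomogeneousIdeal.toIdeal := fun l => by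
    have h := hco l
    rwa [show (GrothLib.LinesPt28.frm (Pi.single l (1 : k) - co l • Pi.single j 1) : LefPen.Form b k 1).1 =
      MvPolynomial.X l - MvPolynomial.C (co l) * MvPolynomial.X j by
        show GrothLib.Tango28.form _ = _
        rw [map_sub, map_smul, GrothLib.MultDeg12.form_single, GrothLib.MultDeg12.form_single,
          MvPolynomial.smul_eq_C_mul]] at h
  have hev : ∀ F : LefPen.Form b k 1, MvPolynomial.eval co F.1 = 0 → i₂ x₀ ∈ (LefPen.hypIdeal F).support := fun F hF => by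
    rw [GrothLib.CI20.mem_support_hyp]
    have := GrothLib.MultDeg12.mk_eq_of_linear _ co j hQ ((MvPolynomial.mem_homogeneousSubmodule 1 _).1 F.2)
    rwa [hF, map_zero, zero_mul, sub_zero] at this
  have he : MvPolynomial.eval co m.1 ≠ 0 := fun h0 => hx₀ (heq m hm0 hm x₀ (hev m h0))
  refine ⟨MvPolynomial.eval co m'.1 / MvPolynomial.eval co m.1, ?_⟩
  rw [← sub_eq_zero]
  by_contra hr
  refine hx₀ (heq _ hr (fun x hx => ?_) x₀ (hev _ ?_))
  · have h1 := hm x hx
    have h2 := hm' x hx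
    rw [GrothLib.CI20.mem_support_hyp] at h1 h2 ⊢
    rw [AddSubgroupClass.coe_sub, SetLike.val_smul, MvPolynomial.smul_eq_C_mul]
    exact Ideal.sub_mem _ h2 (Ideal.mul_mem_left _ _ h1)
  · rw [AddSubgroupClass.coe_sub, SetLike.val_smul, map_sub, MvPolynomial.smul_eval, div_mul_cancel₀ _ he, sub_self]

end Groth.Agent.S16146
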