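import Groth.Statements.S16149
import Groth.Agent.Lib.QCoh.SupportExact
import Groth.Agent.Lib.QCoh.FT
import Groth.Agent.Lib.WeakAss.Structure

set_option autoImplicit false
universe u
open CategoryTheory CategoryTheory.Limits AlgebraicGeometry TopologicalSpace
open SDiv

namespace Groth.Agent.S16149

/-- Let X be a locally Noetherian scheme, F a coherent O_X-module (quasi-coherent of finite type) and s
: O_X → F a global section of F. Then the set of points x of X at which the stalk map (O_X)_x → F_x
of s is bijective is open. (The published statement assumes moreover X integral and normal and F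
reflexive of rank one; the openness assertion uses only that F is coherent on a locally Noetherian
scheme, and it can fail for F quasi-coherent of finite type on a scheme that is not locally
Noetherian.) -/
theorem result (X : Scheme.{u}) [IsLocallyNoetherian X] (F : X.Modules) (hF : Coh.IsCoh F)
    (s : Coh.structureModule X ⟶ F) : IsOpen (RefPow.isoLocus s) := by
  have hO : Coh.IsCoh (Coh.structureModule X) := by
    have := GrothLib.WeakAss.isQuasicoherent_structureModule (X := X)
    refine ⟨this, (GrothLib.QCoh.isFiniteType_iff_moduleFinite _).2 fun U hU => ?_⟩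
    exact Module.Finite.of_surjective
      (LinearMap.toSpanSingleton Γ(X, U) Γ(Coh.structureModule X, U) (1 : Γ(X, U))) fun m =>
        ⟨m, mul_one (show Γ(X, U) from m)⟩
  have e : ∀ x, (RefHull.stalkMapₗ s x : _ → _) = GrothLib.QCoh.stalkLin s x := fun x => by
    funext v
    obtain ⟨U, hx, m, rfl⟩ := TopCat.Presheaf.exists_germ_eq (Coh.structureModule X).presheaf v
    rw [RefHull.stalkMapₗ_germ, GrothLib.QCoh.stalkLin_germ]
  have hiso : RefPow.isoLocus s = (CohB1.support (kernel s) ∪ CohB1.support (cokernel s))ᶜ := by
    ext x
    rw [RefPow.mem_isoLocus, e, Set.mem_compl_iff, Set.mem_union, not_or]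
    constructor
    · intro h
      exact ⟨GrothLib.QCoh.notMem_support_kernel_of_injective s h.1,
        GrothLib.QCoh.notMem_support_cokernel_of_surjective s h.2⟩
    · rintro ⟨hk, hc⟩
      have := GrothLib.QCoh.stalk_subsingleton_of_notMem hk
      have := GrothLib.QCoh.stalk_subsingleton_of_notMem hc
      have h1 := (GrothLib.OX.exact_iff (ShortComplex.mk (kernel.ι s) s (kernel.condition s))).1
        (ShortComplex.exact_of_f_is_kernel _ (kernelIsKernel s)) x
      have h2 := (GrothLib.OX.exact_iff (ShortComplex.mk s (cokernel.π s) (cokernel.condition s))).1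
        (ShortComplex.exact_of_g_is_cokernel _ (cokernelIsCokernel s)) x
      rw [ShortComplex.moduleCat_exact_iff] at h1 h2
      refine ⟨(injective_iff_map_eq_zero _).2 fun v hv => ?_, fun w => ?_⟩
      · obtain ⟨a, rfl⟩ := h1 v hv
        exact (congrArg _ (Subsingleton.elim (α := (kernel s).presheaf.stalk x) a 0)).trans (map_zero _)
      · exact h2 w (Subsingleton.elim (α := (cokernel s).presheaf.stalk x) _ _)
  rw [hiso]
  exact ((GrothLib.QCoh.isClosed_support_of_isCoh (GrothLib.QCoh.isCoh_kernel s hO hF)).union
    (GrothLib.QCoh.isClosed_support_of_isCoh (GrothLib.QCoh.isCoh_cokernel s hO hF))).isOpen_compl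

end Groth.Agent.S16149
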