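import Groth.Statements.S1615
import Groth.Agent.Lib.GradedAlg.Spectrum

set_option autoImplicit false
universe u
open CategoryTheory CategoryTheory.Limits AlgebraicGeometry
open Constr

namespace Groth.Agent.S1615

/-- For a graded ring A, quasi-compactness of Proj A is equivalent to the existence of finitely many
homogeneous elements of positive degree generating an ideal whose radical contains the irrelevant
ideal A_+. -/
theorem result {R A : Type u} [CommRing R] [CommRing A] [Algebra R A] (𝒜 : ℕ → Submodule R A) [GradedAlgebra 𝒜] :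
    CompactSpace ↥(Proj 𝒜) ↔ ∃ s : Finset A, (∀ f ∈ s, ∃ d : ℕ, 0 < d ∧ f ∈ 𝒜 d) ∧
      (HomogeneousIdeal.irrelevant 𝒜).toIdeal ≤ (Ideal.span (s : Set A)).radical := by
  constructor
  · intro _
    let ι := {f : A // ∃ d : ℕ, 0 < d ∧ f ∈ 𝒜 d}
    obtain ⟨t, ht⟩ := (isCompact_univ (X := ↥(Proj 𝒜))).elim_finite_subcover
      (fun f : ι => ((Proj.basicOpen 𝒜 f.1 : (Proj 𝒜).Opens) : Set ↥(Proj 𝒜)))
      (fun f => (Proj.basicOpen 𝒜 f.1).isOpen) (fun x _ => by
        obtain ⟨f, hf, hfx⟩ := GrothLib.GradedAlg.exists_mem_irrelevant_notMem 𝒜 x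
        classical
        obtain ⟨i, hi⟩ : ∃ i, (DirectSum.decompose 𝒜 f i : A) ∉ x.asHomogeneousIdeal.toIdeal := by
          by_contra! h
          refine hfx ?_
          rw [← DirectSum.sum_support_decompose 𝒜 f]
          exact Ideal.sum_mem _ fun i _ => h i
        refine Set.mem_iUnion.2 ⟨⟨_, i, Nat.pos_of_ne_zero fun h0 => hi ?_, SetLike.coe_mem _⟩, hi⟩
        subst h0
        have h0 := (HomogeneousIdeal.mem_irrelevant_iff 𝒜 f).1 hf
        rw [GradedRing.proj_apply] at h0
        rw [h0]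
        exact zero_mem _)
    classical
    refine ⟨t.image Subtype.val, fun f hf => ?_, fun f hf => ?_⟩
    · obtain ⟨g, -, rfl⟩ := Finset.mem_image.1 hf
      exact g.2
    · refine GrothLib.GradedAlg.mem_radical_of_forall_mem 𝒜 (Ideal.homogeneous_span _ _ ?_) hf fun x hx => ?_
      · intro g hg
        obtain ⟨g', -, rfl⟩ := Finset.mem_image.1 hg
        obtain ⟨d, -, hd⟩ := g'.2
        exact ⟨d, hd⟩
      · obtain ⟨g, hgt, hgx⟩ := Set.mem_iUnion₂.1 (ht (Set.mem_univ x))
        exact absurd (hx (Ideal.subset_span (Finset.mem_image_of_mem _ hgt))) hgx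
  · rintro ⟨s, hs, hrad⟩
    refine isCompact_univ_iff.1 ?_
    have h : Set.univ = ⋃ f ∈ s, ((Proj.basicOpen 𝒜 f : (Proj 𝒜).Opens) : Set ↥(Proj 𝒜)) := by
      refine (Set.eq_univ_of_forall fun x => ?_).symm
      by_contra hx
      simp only [Set.mem_iUnion₂, not_exists] at hx
      refine x.not_irrelevant_le ?_
      intro f hf
      exact (x.isPrime.radical_le_iff.2 (Ideal.span_le.2 fun g hg => of_not_not (hx g hg))) (hrad hf)
    rw [h]
    refine s.finite_toSet.isCompact_biUnion fun f hf => ?_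
    obtain ⟨d, hd, hfd⟩ := hs f hf
    exact (Proj.isAffineOpen_basicOpen 𝒜 f hfd hd).isCompact

end Groth.Agent.S1615
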