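import Groth.Statements.S16151
import Groth.Agent.Lib.Ref1.AffineLocus

set_option autoImplicit false
universe u
open CategoryTheory CategoryTheory.Limits AlgebraicGeometry TopologicalSpace
open SDiv

namespace Groth.Agent.S16151

/-- Let X be an integral locally Noetherian normal scheme, F a rank one coherent reflexive O_X-module
and s : O_X → F a global section of F; let U be the open subscheme of X whose points are those x at
which the stalk map (O_X)_x → F_x of s is bijective, and let F^[n] denote the reflexive powers of F
(F^[0] = O_X, F^[1] = F, F^[n+1] the reflexive hull of F^[n] ⊗ F) with s^n ∈ Γ(X, F^[n]) the n-th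
power of s. Then the following are equivalent: (1) the inclusion morphism U → X is affine; (2) for
every point x of X not in U there is an integer n > 0 such that the germ of s^n at x lies in m_x ·
(F^[n])_x, where m_x is the maximal ideal of the local ring at x. -/
theorem result (X : Scheme.{u}) [IsIntegral X] [IsLocallyNoetherian X]
    (hX : Pi1.IsNormalScheme X) (F : X.Modules) (hF : RefHull.IsRef1 F) (s : Coh.structureModule X ⟶ F)
    (U : X.Opens) (hU : (U : Set X) = RefPow.isoLocus s) :
    IsAffineHom U.ι ↔
      ∀ x : X, x ∉ U → ∃ n : ℕ, 0 < n ∧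
        RefPow.sPowGerm s n x ∈ IsLocalRing.maximalIdeal (X.presheaf.stalk x) •
          (⊤ : Submodule (X.presheaf.stalk x) ((RefPow.refPow F n).presheaf.stalk x)) := by
  refine ⟨fun _ x hx => GrothLib.Ref1.forall_mem_of_isAffineHom s U hU hX hF x hx, fun h => ?_⟩
  exact GrothLib.Ref1.isAffineHom_of_forall_mem s U hU hF fun x hx =>
    let ⟨n, _, hn⟩ := h x hx
    ⟨n, hn⟩

end Groth.Agent.S16151
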