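import Groth.Statements.S16152
import Mathlib

set_option autoImplicit false
universe u
open WGauss

namespace Groth.Agent.S16152

open MvPolynomial in
/-- Over a field k of characteristic zero, for e, a, b positive integers with a < b, the weighted
Gaussian map of the line bundle O(e) on projective n-space is surjective. Concretely, identifying
global sections of O(m) with homogeneous polynomials of degree m in X_0, ..., X_n and global
sections of the twisted cotangent sheaf Omega^1(t) with the (n+1)-tuples of homogeneous polynomials
of degree t - 1 killed by the Euler map (f_i) to sum_i X_i f_i, every such tuple with t = (a+b)e is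
a k-linear combination of the tuples (b tau (d sigma / d X_i) - a sigma (d tau / d X_i))_i with
sigma homogeneous of degree ae and tau homogeneous of degree be. (The source works over the complex
numbers; the statement is one of linear algebra and is given here over any field of characteristic
zero.) -/
theorem result
    (k : Type u) [Field k] [CharZero k] (n e a b : ℕ) (he : 0 < e) (ha : 0 < a) (hab : a < b)
    (f : Fin (n + 1) → MvPolynomial (Fin (n + 1)) k)
    (hf : ∀ i, (f i).IsHomogeneous ((a + b) * e - 1))
    (hEuler : ∑ i, X i * f i = 0) :
    f ∈ Submodule.span k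
      {g : Fin (n + 1) → MvPolynomial (Fin (n + 1)) k |
        ∃ σ τ : MvPolynomial (Fin (n + 1)) k, σ.IsHomogeneous (a * e) ∧ τ.IsHomogeneous (b * e) ∧
          g = fun i => (b : k) • (τ * pderiv i σ) - (a : k) • (σ * pderiv i τ)} := by
  classical
  set D := (a + b) * e with hD
  set S := Submodule.span k
      {g : Fin (n + 1) → MvPolynomial (Fin (n + 1)) k |
        ∃ σ τ : MvPolynomial (Fin (n + 1)) k, σ.IsHomogeneous (a * e) ∧ τ.IsHomogeneous (b * e) ∧
          g = fun i => (b : k) • (τ * pderiv i σ) - (a : k) • (σ * pderiv i τ)} with hS
  have hae : 0 < a * e := by positivity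
  have hbe : 0 < b * e := Nat.mul_pos (by omega) he
  have hDsum : D = a * e + b * e := by rw [hD]; ring
  let v : (Fin (n + 1) →₀ ℕ) → Fin (n + 1) → Fin (n + 1) → MvPolynomial (Fin (n + 1)) k :=
    fun α i => Pi.single i (monomial (α - Finsupp.single i 1) (1 : k))
  -- the generator attached to a splitting
  have hgen : ∀ α β : Fin (n + 1) →₀ ℕ, β ≤ α → β.degree = a * e → α.degree = D →
      (∑ l, (((a : k) + b) * (β l : k) - (a : k) * (α l : k)) • v α l) ∈ S := by
    intro α β hle hβ hα
    refine Submodule.subset_span ⟨monomial β 1, monomial (α - β) 1, isHomogeneous_monomial _ hβ, ?_, ?_⟩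
    · refine isHomogeneous_monomial _ ?_
      have h1 : (α - β).degree + β.degree = α.degree := by
        rw [← map_add, tsub_add_cancel_of_le hle]
      omega
    · funext i
      rw [Finset.sum_apply, Finset.sum_eq_single i]
      · simp only [Pi.smul_apply, v, Pi.single_eq_same, pderiv_monomial, monomial_mul, smul_monomial,
          smul_eq_mul, mul_one, one_mul]
        have hsub : ((α - β) i : k) = (α i : k) - (β i : k) := by
          rw [Finsupp.tsub_apply, Nat.cast_sub (hle i)]
        have h1 : monomial (α - β + (β - Finsupp.single i 1)) (β i : k) = monomial (α - Finsupp.single i 1) (β i : k) := by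
          rcases eq_or_ne (β i) 0 with h | h
          · simp [h]
          · congr 1
            rw [← add_tsub_assoc_of_le (Finsupp.single_le_iff.mpr (by omega)),
              tsub_add_cancel_of_le hle]
        have h2 : monomial (β + (α - β - Finsupp.single i 1)) ((α - β) i : k) =
            monomial (α - Finsupp.single i 1) ((α - β) i : k) := by
          rcases eq_or_ne ((α - β) i) 0 with h | h
          · simp [h]
          · congr 1
            rw [← add_tsub_assoc_of_le (Finsupp.single_le_iff.mpr (by omega)),
              add_tsub_cancel_of_le hle]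
        have h1' := congrArg ((b : k) • ·) h1
        have h2' := congrArg ((a : k) • ·) h2
        simp only [smul_monomial, smul_eq_mul] at h1' h2'
        rw [h1', h2', hsub, ← map_sub]
        congr 1
        ring
      · intro l _ hl
        simp [v, hl.symm]
      · simp
  have hpair : ∀ α : Fin (n + 1) →₀ ℕ, α.degree = D → ∀ i j, α i ≠ 0 → α j ≠ 0 → v α i - v α j ∈ S := by
    intro α hα i j hi hj
    rcases eq_or_ne i j with rfl | hij
    · simp
    -- a splitting with room at `i` and something at `j`
    have hex : ∀ m, 1 ≤ m → m + 1 ≤ α.degree →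
        ∃ β : Fin (n + 1) →₀ ℕ, Finsupp.single j 1 ≤ β ∧ β + Finsupp.single i 1 ≤ α ∧ β.degree = m := by
      intro m h1
      induction m, h1 using Nat.le_induction with
      | base =>
        intro _
        refine ⟨Finsupp.single j 1, le_rfl, fun l => ?_, Finsupp.degree_single _ _⟩
        rcases eq_or_ne l i with rfl | hli
        · simp [hij]; omega
        · rcases eq_or_ne l j with rfl | hlj
          · simp [hli]; omega
          · simp [hli, hlj]
      | succ m _ ih =>
        intro hm
        obtain ⟨β, h1, h2, h3⟩ := ih (by omega)
        obtain ⟨l, hl⟩ : ∃ l, (β + Finsupp.single i 1 : Fin (n + 1) →₀ ℕ) l < α l := by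
          by_contra h
          push Not at h
          have : β + Finsupp.single i 1 = α := le_antisymm h2 h
          rw [← this, map_add, Finsupp.degree_single, h3] at hm
          omega
        refine ⟨β + Finsupp.single l 1, h1.trans le_self_add, fun t => ?_, by simp [h3]⟩
        have := h2 t
        rcases eq_or_ne t l with rfl | htl
        · simp at hl ⊢; omega
        · simpa [htl] using this
    obtain ⟨β, hβj, hβi, hβ⟩ := hex (a * e) hae (by omega)
    have hjβ : 1 ≤ β j := by simpa using hβj j
    let β' := β - Finsupp.single j 1 + Finsupp.single i 1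
    have hβ'le : β' ≤ α := fun l => by
      have := hβi l
      simp [β'] at this ⊢
      omega
    have hβ'deg : β'.degree = a * e := by
      have : (β - Finsupp.single j 1) + Finsupp.single j 1 = β := tsub_add_cancel_of_le hβj
      have h := congrArg Finsupp.degree this
      simp [β'] at h ⊢
      omega
    have h := S.sub_mem (hgen α β' hβ'le hβ'deg hα) (hgen α β (le_self_add.trans hβi) hβ hα)
    rw [← Finset.sum_sub_distrib] at h
    have hval : ∀ l, (β' l : k) = (β l : k) + (if l = i then 1 else 0) - (if l = j then 1 else 0) := by
      intro l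
      simp only [β', Finsupp.add_apply, Finsupp.tsub_apply]
      rcases eq_or_ne l j with rfl | hlj
      · simp [hij.symm, Nat.cast_sub hjβ]
      · rcases eq_or_ne l i with rfl | hli
        · simp [hlj]
        · simp [hlj, hli]
    have hab0 : (a : k) + b ≠ 0 := by
      rw [← Nat.cast_add]; exact Nat.cast_ne_zero.mpr (by omega)
    have : ((a : k) + b)⁻¹ • ∑ l, ((((a : k) + b) * (β' l : k) - (a : k) * (α l : k)) • v α l -
        (((a : k) + b) * (β l : k) - (a : k) * (α l : k)) • v α l) = v α i - v α j := by
      rw [Finset.smul_sum]
      rw [show v α i - v α j = ∑ l, ((if l = i then (1 : k) else 0) - (if l = j then 1 else 0)) • v α l by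
        simp [sub_smul, Finset.sum_sub_distrib]]
      refine Finset.sum_congr rfl fun l _ => ?_
      rw [← sub_smul, smul_smul, hval]
      congr 1
      field_simp
      ring
    rw [← this]
    exact S.smul_mem _ h
  -- normal form
  let pick : (Fin (n + 1) →₀ ℕ) → Fin (n + 1) := fun α =>
    if h : ∃ i, α i ≠ 0 then h.choose else 0
  have hpick : ∀ (α : Fin (n + 1) →₀ ℕ) i, α i ≠ 0 → α (pick α) ≠ 0 := by
    intro α i hi
    have h : ∃ i, α i ≠ 0 := ⟨i, hi⟩
    simp only [pick, dif_pos h]
    exact h.choose_spec
  let Φ : MvPolynomial (Fin (n + 1)) k →ₗ[k] (Fin (n + 1) → MvPolynomial (Fin (n + 1)) k) :=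
    (basisMonomials (Fin (n + 1)) k).constr k fun α => v α (pick α)
  have hΦ : ∀ α c, Φ (monomial α c) = c • v α (pick α) := by
    intro α c
    rw [← mul_one c, ← smul_eq_mul, ← smul_monomial, map_smul]
    simp only [Φ, smul_eq_mul, mul_one]
    congr 1
    have := (basisMonomials (Fin (n + 1)) k).constr_basis k (fun α => v α (pick α)) α
    rwa [coe_basisMonomials] at this
  have hkey : ∀ i, Pi.single i (f i) - Φ (X i * f i) ∈ S := by
    intro i
    rw [(f i).as_sum]
    simp only [Finset.mul_sum, map_sum]
    have hsingle : (Pi.single i (∑ m ∈ (f i).support, monomial m (coeff m (f i))) :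
        Fin (n + 1) → MvPolynomial (Fin (n + 1)) k) =
        ∑ m ∈ (f i).support, Pi.single i (monomial m (coeff m (f i))) :=
      map_sum (AddMonoidHom.single (fun _ : Fin (n + 1) => MvPolynomial (Fin (n + 1)) k) i) _ _
    rw [hsingle, ← Finset.sum_sub_distrib]
    refine S.sum_mem fun m hm => ?_
    set c := coeff m (f i)
    set α := Finsupp.single i 1 + m with hα
    have hαdeg : α.degree = D := by
      have : m.degree = D - 1 := by
        rw [Finsupp.degree_eq_weight_one]
        exact hf i (mem_support_iff.mp hm)
      rw [hα, map_add, Finsupp.degree_single, this]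
      omega
    have hαi : α i ≠ 0 := by simp [hα]
    have hsub : α - Finsupp.single i 1 = m := by simp [hα]
    rw [show X i * monomial m c = monomial α c by
      rw [X, monomial_mul, one_mul], hΦ,
      show (Pi.single i (monomial m c) : Fin (n + 1) → MvPolynomial (Fin (n + 1)) k) = c • v α i by
        simp only [v, hsub, ← Pi.single_smul, smul_monomial, smul_eq_mul, mul_one], ← smul_sub]
    exact S.smul_mem _ (hpair α hαdeg i _ hαi (hpick α i hαi))
  have := S.sum_mem (t := Finset.univ) fun i _ => hkey i
  rwa [Finset.sum_sub_distrib, ← map_sum, hEuler, map_zero, sub_zero, Finset.univ_sum_single] at this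

end Groth.Agent.S16152
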