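import Groth.Statements.S16153
import Groth.Agent.Lib.SpinCubic27.Basic
-- import your own Groth.Agent.* helpers here

set_option autoImplicit false
universe u
open SpinRat

namespace Groth.Agent.S16153

open MvPolynomial in
/-- In the bigraded polynomial ring k[x0, x1, y0, y1] of the quadric surface (variables X 0, X 1, X 2, X
3 in this order), over a field k of characteristic zero, let iota exchange x_i with y_i, let l = x0
y1 - x1 y0 be the diagonal, h1 = x0 (y1 - y0) + y0 (x1 - x0), h2 = x1 (y0 - y1) + y1 (x0 - x1), h3 =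
x0 y1 + x1 y0, h = h1 + h2 + h3, h13 = h1 - h3, h23 = h2 - h3, and let c = x0 x1 (x0 - x1) y0 y1 (y0
- y1) be the product of the six rulings through the three diagonal points (1:0)x(1:0), (0:1)x(0:1),
(1:1)x(1:1). Let I be the space of forms of bidegree (3,3) whose restriction to the diagonal is
divisible by (x0 x1 (x0 - x1))^2, that is, the bidegree-(3,3) forms through the length-six subscheme
of the diagonal doubled at those three points. Then the iota-invariant forms in I are exactly the
span of c, l^2 h, l^2 h13, l^2 h23; the iota-anti-invariant forms in I are exactly the span of l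
h^2, l h h13, l h h23, l h13^2, l h23^2, l h13 h23; and these ten forms are linearly independent.
(The source works over the complex numbers and writes the two eigenspaces as direct sums of the
displayed pieces; the six-line form c is read as the product of the two cubic factors.) -/
theorem result
    (k : Type u) [Field k] [CharZero k]
    (l h1 h2 h3 h h13 h23 c : MvPolynomial (Fin 4) k)
    (hl : l = X 0 * X 3 - X 1 * X 2)
    (hh1 : h1 = X 0 * (X 3 - X 2) + X 2 * (X 1 - X 0))
    (hh2 : h2 = X 1 * (X 2 - X 3) + X 3 * (X 0 - X 1))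
    (hh3 : h3 = X 0 * X 3 + X 1 * X 2)
    (hh : h = h1 + h2 + h3) (hh13 : h13 = h1 - h3) (hh23 : h23 = h2 - h3)
    (hc : c = X 0 * X 1 * (X 0 - X 1) * (X 2 * X 3 * (X 2 - X 3)))
    (I : Submodule k (MvPolynomial (Fin 4) k))
    (hI : ∀ f, f ∈ I ↔
      (f.IsWeightedHomogeneous (![1, 1, 0, 0] : Fin 4 → ℕ) 3 ∧
       f.IsWeightedHomogeneous (![0, 0, 1, 1] : Fin 4 → ℕ) 3 ∧
       (X 0 * X 1 * (X 0 - X 1)) ^ 2 ∣ rename (![0, 1, 0, 1] : Fin 4 → Fin 2) f)) :
    (∀ f, (f ∈ I ∧ rename (![2, 3, 0, 1] : Fin 4 → Fin 4) f = f) ↔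
        f ∈ Submodule.span k ({c, l ^ 2 * h, l ^ 2 * h13, l ^ 2 * h23} : Set (MvPolynomial (Fin 4) k))) ∧
    (∀ f, (f ∈ I ∧ rename (![2, 3, 0, 1] : Fin 4 → Fin 4) f = -f) ↔
        f ∈ Submodule.span k ({l * h ^ 2, l * h * h13, l * h * h23, l * h13 ^ 2, l * h23 ^ 2, l * h13 * h23} :
          Set (MvPolynomial (Fin 4) k))) ∧
    LinearIndependent k
      ![c, l ^ 2 * h, l ^ 2 * h13, l ^ 2 * h23, l * h ^ 2, l * h * h13, l * h * h23, l * h13 ^ 2, l * h23 ^ 2,
        l * h13 * h23] := by
  simp only [hI]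
  exact GrothLib.SpinCubic27.main l h1 h2 h3 h h13 h23 c hl hh1 hh2 hh3 hh hh13 hh23 hc

end Groth.Agent.S16153
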