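import Groth.Statements.S16154
import Groth.Agent.Lib.HypCI12.Top

set_option autoImplicit false
set_option maxHeartbeats 800000
set_option linter.style.haveILetI false
set_option backward.isDefEq.respectTransparency false
universe u
open CategoryTheory CategoryTheory.Limits AlgebraicGeometry
open WGauss

namespace Groth.Agent.S16154

/-- Let k be a field and X in projective n-space over k the common zero scheme of m forms G_j of degrees
d_1 >= d_2 >= ... >= d_m >= 2 (m >= 1), smooth over k of relative dimension kk >= 1 with kk + m = n,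
so that X is a smooth complete intersection of dimension kk whose twisted conormal bundle N_X^*(t)
is the direct sum of the O_X(t - d_j). Then, for an integer t, H^1(X, O_X(t - d_j)) = 0 for every j
(that is, H^1(X, N_X^*(t)) = 0) if and only if either kk >= 2, or kk = 1 and t > 2 d_1 + d_2 + ... +
d_m - n - 1. Here O_X(c) is the pullback of O(c) from projective space along the inclusion of X.
(The source works over the complex numbers with X smooth projective; the statement is given over any
field.) -/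
theorem result
    (k : Type u) [Field k] (n kk m : ℕ) (hkk : 1 ≤ kk) (hm : 1 ≤ m) (hn : kk + m = n)
    (d : Fin m → ℕ) (hd2 : ∀ j, 2 ≤ d j) (hanti : Antitone d)
    (G : ∀ j : Fin m, LefPen.Form n k (d j))
    [SmoothOfRelativeDimension kk ((LefPen.ciIdeal G).subschemeι ≫ CohB1.ProjSpace.toSpec n k)]
    (t : ℤ) :
    (∀ j : Fin m, Subsingleton (Coh.HH (LefPen.ciIdeal G).subscheme
        ((Scheme.Modules.pullback (LefPen.ciIdeal G).subschemeι).obj
          (Twist.twistProjSpace n k (t - (d j : ℤ)))) 1)) ↔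
      (2 ≤ kk ∨ (kk = 1 ∧ ((d ⟨0, hm⟩ : ℤ) + ∑ j : Fin m, (d j : ℤ)) - (n : ℤ) - 1 < t)) := by
  subst hn
  have ha : ∀ j, 1 ≤ d j := fun j => le_trans one_le_two (hd2 j)
  have hdim := GrothLib.HypCI12.dim_of_smooth G (by omega : m ≤ kk + m) ha kk
  have hdim' : topologicalKrullDim ↥(LefPen.ciIdeal G).subscheme = ((kk + m - m : ℕ) : WithBot ℕ∞) := by
    rw [hdim, Nat.add_sub_cancel]
  rcases Nat.lt_or_ge kk 2 with hk1 | hk2
  swap
  · exact ⟨fun _ => Or.inl hk2, fun _ j => GrothLib.CI20.subsingleton_twist G ha (by omega) hdim' _ one_pos (by omega)⟩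
  obtain rfl : kk = 1 := by omega
  obtain ⟨ι, _, σ, ⟨i₀, hi₀⟩, hσ⟩ := GrothLib.HypCI12.finrank_top (n := 1 + m) m d G ha (by omega) hdim'.le
  have hnm : 1 + m - m = 1 := by omega
  rw [hnm] at hσ
  have key : ∀ c : ℤ, Subsingleton (Coh.HH (LefPen.ciIdeal G).subscheme
      ((Scheme.Modules.pullback (LefPen.ciIdeal G).subschemeι).obj (Twist.twistProjSpace (1 + m) k c)) 1) ↔
      (∑ l, (d l : ℤ)) - (1 + m : ℕ) - 1 < c := by
    intro c
    let j := (LefPen.ciIdeal G).subschemeι
    letI : (LefPen.ciIdeal G).subscheme.Over (Spec (CommRingCat.of k)) := ⟨j ≫ CohB1.ProjSpace.toSpec (1 + m) k⟩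
    let M := (Scheme.Modules.pullback j).obj (Twist.twistProjSpace (1 + m) k c)
    haveI : M.IsQuasicoherent := GrothLib.InvExt.isQuasicoherent_of_isInvertible
      (GrothLib.RelProjK.isInvertible_pullback j (GrothLib.CMReg.isInvertible_twist (n := 1 + m) (k := k) c))
    obtain ⟨e⟩ := GrothLib.Snapper.nonempty_HH_linearEquiv_pushforward (A := k) j rfl M 1
    obtain ⟨e3⟩ := GrothLib.CI20.nonempty_projection j c
    have etot := e.trans (GrothLib.Euler.hhEquiv (A := k) e3 1).symm
    obtain ⟨hf, hr⟩ := hσ c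
    refine Iff.trans (Equiv.subsingleton_congr etot.toEquiv) ?_
    haveI := hf
    refine Iff.trans (Module.finrank_zero_iff (R := k) (M := Coh.HH (CohB1.ProjSpace (1 + m) k)
      (GrothLib.CMReg.Ft (ClSub.quotMod (LefPen.ciIdeal G)) c) 1)).symm ?_
    rw [show Module.finrank k (Coh.HH (CohB1.ProjSpace (1 + m) k)
      (GrothLib.CMReg.Ft (ClSub.quotMod (LefPen.ciIdeal G)) c) 1) = _ from hr, Finset.sum_eq_zero_iff]
    constructor
    · intro h
      by_contra hc
      have := GrothLib.HypCI12.g_pos 1 (x := (∑ l, (d l : ℤ)) - ((1 + m : ℕ) : ℤ) - 1 - c - σ i₀) (by rw [hi₀]; omega)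
      rw [h i₀ (Finset.mem_univ _)] at this
      exact lt_irrefl _ this
    · intro h i _
      exact GrothLib.HypCI12.g_eq_zero le_rfl (by omega)
  constructor
  · intro h
    have := (key _).1 (h ⟨0, hm⟩)
    exact Or.inr ⟨rfl, by omega⟩
  · rintro (h | ⟨-, h⟩) j
    · omega
    · refine (key _).2 ?_
      have h2 : d j ≤ d ⟨0, hm⟩ := hanti (Nat.zero_le j.1)
      omega

end Groth.Agent.S16154
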