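import Groth.Statements.S16156
import Mathlib

set_option autoImplicit false
universe u
open MukaiVec

namespace Groth.Agent.S16156

/-- Let N be an abelian group with a symmetric integer-valued bilinear form and H an element with H·H =
2n for some n > 0 such that every x with x·H = 0 satisfies x·x ≤ 0 (the Hodge index inequality). Fix
integers r ≥ 2, d > 0 and χ < 0 (a Mukai vector v = (r, dH, χ)) and an isotropic Mukai vector u =
(p, η, q), p ≥ 0, η ∈ N, η·η = 2pq, whose pairing ⟨v, u⟩ = d(H·η) − rq − χp has absolute value 1 or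
2. Exclude the case d = 1, χ = −1, H·η = 1, η·η = 0, and when r = 2 also the case p = 0, H·η = 0.
Then the pairings of u∨ = (p, −η, q) with w₀ = (0, rH, −2nd) and with w₁ = (2nd, −χH, 0) are both
non-negative or both negative: 2ndp − r(H·η) ≥ 0 holds if and only if χ(H·η) − 2ndq ≥ 0 holds. -/
theorem result
    (N : Type u) [AddCommGroup N] (B : LinearMap.BilinForm ℤ N) (hB : ∀ x y : N, B x y = B y x)
    (H : N) (n : ℤ) (hn : 0 < n) (hH : B H H = 2 * n) (hodge : ∀ x : N, B x H = 0 → B x x ≤ 0)
    (r d χ p q : ℤ) (η : N) (hr : 2 ≤ r) (hd : 0 < d) (hχ : χ < 0) (hp : 0 ≤ p)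
    (hiso : B η η = 2 * p * q)
    (hvu : 1 ≤ |d * B H η - r * q - χ * p| ∧ |d * B H η - r * q - χ * p| ≤ 2)
    (hexc : ¬ (d = 1 ∧ χ = -1 ∧ B H η = 1 ∧ B η η = 0))
    (hr2 : r = 2 → ¬ (p = 0 ∧ B H η = 0)) :
    (0 ≤ 2 * n * d * p - r * B H η ↔ 0 ≤ χ * B H η - 2 * n * d * q) := by
  set h := B H η with hh
  have hx := hodge ((2 * n) • η - h • H) (by
    simp only [map_sub, map_smul, LinearMap.sub_apply, LinearMap.smul_apply, smul_eq_mul, hH, hB η H, ← hh]
    ring)
  simp only [map_sub, map_smul, LinearMap.sub_apply, LinearMap.smul_apply, smul_eq_mul, hH, hB η H, ← hh, hiso] at hx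
  obtain ⟨e, he⟩ : ∃ e, e = d * h - r * q - χ * p := ⟨_, rfl⟩
  rw [← he] at hvu
  obtain ⟨he1, he2⟩ := hvu
  obtain ⟨el, eu⟩ := abs_le.1 he2
  have hpq : 4 * n * (p * q) ≤ h ^ 2 := by nlinarith
  obtain ⟨c, hc⟩ : ∃ c, c = -χ := ⟨_, rfl⟩
  have hc1 : 1 ≤ c := by omega
  obtain rfl : χ = -c := by omega
  by_cases hAB : 0 < (2 * n * d * p - r * h) * (-c * h - 2 * n * d * q)
  · rcases pos_and_pos_or_neg_and_neg_of_mul_pos hAB with ⟨h1, h2⟩ | ⟨h1, h2⟩ <;>
      constructor <;> intro <;> linarith
  have heq : (2 * n * d * p - r * h) * (-c * h - 2 * n * d * q) =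
      (2 * n * d ^ 2 + r * c) * h ^ 2 - 2 * n * d * h * e - 4 * n ^ 2 * d ^ 2 * (p * q) := by
    rw [he]; ring
  rw [heq] at hAB
  push Not at hAB
  have hnd := mul_pos hn hd
  have hrc : 2 ≤ r * c := by nlinarith
  have small : 0 < p → 0 < q → False := by
    intro hp0 hq0
    have hpq1 : 1 ≤ p * q := mul_pos hp0 hq0
    have hsq : 4 ≤ |h| ^ 2 := by rw [sq_abs]; nlinarith
    have hk : 2 ≤ |h| := by nlinarith [abs_nonneg h]
    have h1 : 4 * n * (p * q) * (n * d ^ 2) ≤ |h| ^ 2 * (n * d ^ 2) := by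
      rw [sq_abs]; exact mul_le_mul_of_nonneg_right hpq (mul_pos hn (pow_pos hd 2)).le
    have h2 : h * e ≤ |h| * 2 :=
      (le_abs_self _).trans (by rw [abs_mul]; exact mul_le_mul_of_nonneg_left he2 (abs_nonneg h))
    have h3 := mul_le_mul_of_nonneg_left h2 (show 0 ≤ 2 * (n * d) by linarith)
    have hsqa : |h| ^ 2 = h ^ 2 := sq_abs h
    have hfac : |h| * ((n * d ^ 2 + r * c) * |h| - 4 * (n * d)) ≤ 0 := by rw [← hsqa] at hAB; linarith
    have hfac2 : (n * d ^ 2 + r * c) * |h| - 4 * (n * d) ≤ 0 := by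
      by_contra hcon; nlinarith [mul_pos (show (0:ℤ) < |h| by omega) (not_le.1 hcon)]
    have hdh : d * |h| < 4 := by
      by_contra hcon
      nlinarith [mul_le_mul_of_nonneg_left (not_lt.1 hcon) hnd.le,
        mul_pos (show (0:ℤ) < r * c by omega) (show (0:ℤ) < |h| by omega)]
    have hd1 : d = 1 := by nlinarith
    subst hd1
    rw [one_mul] at hdh he
    obtain ⟨hl, hu⟩ := abs_le.1 (show |h| ≤ 3 by omega)
    have hb : |h| ^ 2 ≤ 9 := by nlinarith
    have hp2 : p ≤ 2 := by nlinarith
    have hq2 : q ≤ 2 := by nlinarith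
    have hn2 : n ≤ 2 := by nlinarith
    interval_cases n <;> interval_cases p <;> interval_cases q <;> interval_cases h <;>
      norm_num at * <;> first | omega | nlinarith
  rcases lt_trichotomy h 0 with hneg | hzero | hpos
  · have hA : 0 ≤ 2 * n * d * p - r * h := by nlinarith
    refine iff_of_true hA ?_
    by_contra hcon
    have hq : 0 < q := by
      by_contra hq; nlinarith [mul_nonneg hnd.le (show (0:ℤ) ≤ -q by omega)]
    rcases hp.eq_or_lt with hp0 | hp0
    · subst hp0
      nlinarith [mul_pos hd (show (0:ℤ) < -h by omega), mul_le_mul_of_nonneg_right hr hq.le]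
    · exact small hp0 hq
  · rw [hzero] at he hr2 hpq ⊢
    rcases hp.eq_or_lt with hp0 | hp0
    · exfalso
      subst hp0
      have he' : e = -(r * q) := by rw [he]; ring
      have hq0 : q ≠ 0 := fun hq => by subst hq; simp [he'] at he1
      refine hr2 ?_ ⟨rfl, rfl⟩
      have := Int.one_le_abs hq0
      rw [he', abs_neg, abs_mul, abs_of_pos (by omega : (0:ℤ) < r)] at he2
      nlinarith
    · have hq : q ≤ 0 := by
        by_contra hq
        nlinarith [mul_pos hn (mul_pos hp0 (not_le.1 hq))]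
      constructor <;> intro _ <;> nlinarith [mul_pos hnd hp0, mul_nonneg hnd.le (show (0:ℤ) ≤ -q by omega)]
  · have hBneg : ∀ (_ : 0 ≤ q), -c * h - 2 * n * d * q < 0 := fun hq => by
      nlinarith [mul_nonneg hnd.le hq, mul_pos hpos (show (0:ℤ) < c by omega)]
    constructor
    · intro hA
      exfalso
      have hp1 : 0 < p := by
        by_contra hcon
        obtain rfl : p = 0 := by omega
        nlinarith [mul_pos hpos (show (0:ℤ) < r by omega)]
      have hdh : 1 ≤ d * h := one_le_mul_of_one_le_of_one_le hd hpos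
      have hcp : 1 ≤ c * p := one_le_mul_of_one_le_of_one_le hc1 hp1
      rcases lt_trichotomy q 0 with hq | hq | hq
      · nlinarith [mul_le_mul_of_nonneg_right hr (show (0:ℤ) ≤ -q by omega)]
      · subst hq
        have he' : e = d * h + c * p := by rw [he]; ring
        have hd1 := Int.eq_one_or_neg_one_of_mul_eq_one (show d * h = 1 by omega)
        have hh1 : h = 1 := by
          rcases hd1 with h' | h'
          · subst h'; omega
          · omega
        have hd1' : d = 1 := by rcases hd1 with h' | h' <;> omega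
        have hc' := Int.eq_one_or_neg_one_of_mul_eq_one (show c * p = 1 by omega)
        exact hexc ⟨hd1', by omega, hh1, by rw [hiso]; ring⟩
      · exact small hp1 hq
    · intro hB'
      by_contra hA
      rcases le_or_gt 0 q with hq | hq
      · linarith [hBneg hq]
      · rcases hp.eq_or_lt with hp0 | hp0
        · subst hp0
          have : 3 ≤ e := by rw [he]; nlinarith [mul_pos hd hpos, mul_le_mul_of_nonneg_right hr (show (0:ℤ) ≤ -q by omega)]
          omega
        · have : 3 ≤ e := by rw [he]; nlinarith [mul_pos hd hpos, mul_pos (show (0:ℤ) < c by omega) hp0, mul_le_mul_of_nonneg_right hr (show (0:ℤ) ≤ -q by omega)]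
          omega

end Groth.Agent.S16156
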