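import Groth.Statements.S16157
import Groth.Agent.Lib.FMK22.GVTensor
import Groth.Agent.Lib.FMInv15.Derived
import Groth.Agent.Lib.Poincare.Dual
import Groth.Agent.Lib.Snapper.LerayAcyclic
import Groth.Agent.Lib.FibTriv28.Fibre
import Groth.Agent.Lib.OX.OneDegLocus
import Groth.Agent.Lib.Cohom.Affine
-- import your own Groth.Agent.* helpers here

set_option autoImplicit false
universe u
open CategoryTheory CategoryTheory.Limits MonoidalCategory CartesianMonoidalCategory MonObj GrpObj AlgebraicGeometry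
attribute [local instance] HasDerivedCategory.standard
open AbVar

namespace Groth.Agent.S16157

set_option maxHeartbeats 2000000
set_option linter.style.haveILetI false
set_option backward.isDefEq.respectTransparency false

/-- On a one-point scheme a module locally free of rank `n` is free. -/
theorem nonempty_iso_freeMod {T : Scheme.{u}} [Subsingleton ↥T] [Nonempty ↥T] {M : T.Modules} {n : ℕ}
    (h : FlatMod.IsFinLocFreeOfRank n M) : Nonempty (M ≅ FlatMod.freeMod T n) := by
  obtain ⟨t⟩ := ‹Nonempty ↥T›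
  obtain ⟨U, ht, ⟨e⟩⟩ := h t
  obtain rfl : U = ⊤ := top_unique fun z _ => by rwa [Subsingleton.elim z t]
  have hj : T.topIso.inv ≫ (⊤ : T.Opens).ι = 𝟙 T := T.topIso.inv_hom_id
  exact ⟨((Scheme.Modules.pullbackId T).app M).symm ≪≫ (Scheme.Modules.pullbackCongr hj.symm).app M ≪≫
    ((Scheme.Modules.pullbackComp T.topIso.inv (⊤ : T.Opens).ι).app M).symm ≪≫
    (Scheme.Modules.pullback T.topIso.inv).mapIso
      (((Scheme.Modules.restrictFunctorIsoPullback (⊤ : T.Opens).ι).app M).symm ≪≫ e) ≪≫
    GrothLib.OX.pullFreeModIso _ n⟩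

/-- Let k be an algebraically closed field, A an abelian variety over k (a proper smooth k-group scheme
with geometrically connected fibres), (A^t, φ) a given dual abelian variety of A for the fppf
topology with A^t itself an abelian variety, P an invertible module on A ×_k A^t whose class is a
Poincaré class, and Φ_P = Rpr_{2,*}(Lpr_1^*(−) ⊗^L P) the Fourier–Mukai functor D(O_A) → D(O_{A^t})
(the derived functors are assumed to exist). Let F be a coherent O_A-module satisfying the index
condition with index i: the cohomology sheaves of Φ_P(F) vanish in every degree other than i, and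
the one in degree i (the transform of F) is finite locally free of rank n. Then the Euler
characteristic χ(A, F) = Σ_j (−1)^j dim_k H^j(A, F) equals (−1)^i · n. (The rank here is that of the
transform of F, which is what the last step of the published proof computes; reading it as the rank
of F itself is wrong already for an invertible sheaf of degree two on an elliptic curve, whose Euler
characteristic is 2.) -/
theorem result (k : Type u) [Field k] [IsAlgClosed k]
    (A At : Over (Spec (CommRingCat.of k))) [GrpObj A] [IsProper A.hom] [Smooth A.hom] [GeometricallyConnected A.hom]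
    [GrpObj At] [IsProper At.hom] [Smooth At.hom] [GeometricallyConnected At.hom]
    (φ : ∀ T : Over (Spec (CommRingCat.of k)), PicF.Cl (PicF.XT A.hom T) → (T ⟶ At))
    (hφ : AbDual.IsDualAV Scheme.fppfPrecoverage A At φ)
    (P : (pullback A.hom At.hom).Modules) (hP : PicF.IsInvertible P)
    (hPξ : AbDual.IsPoincareCl A At φ (PicF.cl P))
    [DCoh.HasLpull (pullback.fst A.hom At.hom)] [DCoh.HasLTensorMod P] [DCoh.HasRpush (pullback.snd A.hom At.hom)]
    (F : A.left.Modules) (hF : Coh.IsCoh F) (i n : ℕ)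
    (hvan : ∀ j : ℤ, j ≠ (i : ℤ) →
      IsZero (DCoh.HD ((DCoh.Lpull (pullback.fst A.hom At.hom) ⋙ DCoh.LTensorMod P ⋙
        DCoh.Rpush (pullback.snd A.hom At.hom)).obj (DCoh.inD A.left F)) j))
    (hfree : FlatMod.IsFinLocFreeOfRank n
      (DCoh.HD ((DCoh.Lpull (pullback.fst A.hom At.hom) ⋙ DCoh.LTensorMod P ⋙
        DCoh.Rpush (pullback.snd A.hom At.hom)).obj (DCoh.inD A.left F)) (i : ℤ))) :
    @Curv2.euler k _ A.left ⟨A.hom⟩ F = (-1 : ℤ) ^ i * (n : ℤ) := by
  haveI := GrothLib.Dual.geometricallyIntegral_of_abScheme A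
  haveI := GrothLib.Dual.geometricallyIntegral_of_abScheme At
  haveI : IsNoetherian A.left := GrothLib.RightAdj22.isNoetherian_of_proper A.hom
  letI : A.left.Over (Spec (CommRingCat.of k)) := ⟨A.hom⟩
  letI : (Spec (CommRingCat.of k)).Over (Spec (CommRingCat.of k)) := ⟨𝟙 _⟩
  haveI : IsProper (A.left ↘ Spec (CommRingCat.of k)) := inferInstanceAs (IsProper A.hom)
  haveI : IsProper (Spec (CommRingCat.of k) ↘ Spec (CommRingCat.of k)) :=
    inferInstanceAs (IsProper (𝟙 (Spec (CommRingCat.of k))))
  haveI : DCoh.HasLpull (fst A At).left := ‹DCoh.HasLpull (pullback.fst A.hom At.hom)›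
  haveI : DCoh.HasLTensorMod (X := (A ⊗ At).left) P := ‹DCoh.HasLTensorMod P›
  haveI : DCoh.HasRpush (snd A At).left := ‹DCoh.HasRpush (pullback.snd A.hom At.hom)›
  let e : 𝟙_ (Over (Spec (CommRingCat.of k))) ⟶ At := η[At]
  let j := (lift (𝟙 A) (toUnit A ≫ e)).left
  let Pe := (Scheme.Modules.pullback j).obj P
  have hcl := GrothLib.Cube.hasCls_clsMod (X := (A ⊗ At).left) hP
  have hPe : PicF.IsInvertible Pe := (hcl.pullback j).1
  have hone : toUnit A ≫ e = (1 : A ⟶ At) := (Hom.one_def).symm
  obtain ⟨ePe⟩ : Nonempty (Pe ≅ Coh.structureModule A.left) := by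
    refine (hcl.pullback j).iso (GrothLib.Cube.hasCls_structureModule _) ?_
    have h2 := (GrothLib.Dual.isBirigid_of_isPoincareCl hφ hcl hPξ).2
    rw [← hone] at h2
    exact h2
  haveI := GrothLib.OX.hasLTensorMod Pe
  haveI := GrothLib.OX.hasLpull e.left
  haveI : DCoh.HasRpush A.hom := GrothLib.KInj.hasRightDerivedFunctor _
  haveI : DCoh.HasLTensorMod ((Scheme.Modules.pullback (lift (𝟙 A) (toUnit A ≫ e)).left).obj P) :=
    GrothLib.OX.hasLTensorMod _
  obtain ⟨f⟩ := GrothLib.FMBC15.nonempty_fibre (A := A) (At := At) hP e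
  let M₀ : (DCoh.IsQCohD (X := A.left)).FullSubcategory :=
    ⟨DCoh.inD A.left F, fun l => (GrothLib.RightAdj22.isCohD_inD hF l).1⟩
  obtain ⟨_, _, _⟩ := GrothLib.FMTrans15.exact_tF' hPe
  obtain ⟨t⟩ := GrothLib.FMTrans15.nonempty_ltensor_iso Pe
  let eT : (DCoh.LTensorMod Pe).obj (DCoh.inD A.left F) ≅ DCoh.inD A.left F :=
    t.app _ ≪≫ ((GrothLib.Euler.tF Pe).mapDerivedCategorySingleFunctor 0).app F ≪≫
      (DerivedCategory.singleFunctor A.left.Modules 0).mapIso
        (((DCoh.tensorBi (X := A.left)).obj F).mapIso ePe ≪≫ GrothLib.Euler.tFUnitIso F)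
  -- the transform is one locally free sheaf in degree `i`
  let ΦF := (DCoh.Lpull (fst A At).left ⋙ DCoh.LTensorMod P ⋙ DCoh.Rpush (snd A At).left).obj (DCoh.inD A.left F)
  haveI : ΦF.IsGE (i : ℤ) := (DerivedCategory.isGE_iff _ _).2 fun l hl => hvan l (by omega)
  haveI : ΦF.IsLE (i : ℤ) := (DerivedCategory.isLE_iff _ _).2 fun l hl => hvan l (by omega)
  obtain ⟨eΦ⟩ := GrothLib.DerTrunc.nonempty_iso_single ΦF (i : ℤ)
  let H := DCoh.HD ΦF (i : ℤ)
  obtain ⟨v⟩ := GrothLib.OX.lpull_value e.left _ (GrothLib.OX.isKFlat_single H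
    (GrothLib.OX.flat_of_isFinLocFree (fun x => by
      obtain ⟨U, hx, hU⟩ := hfree x
      exact ⟨U, n, hx, hU⟩)) (i : ℤ))
  let N := (Scheme.Modules.pullback e.left).obj H
  let eR : (GrothLib.SiteDer.Rres (GrothLib.OX.rmor A.hom)).obj (DCoh.inD A.left F) ≅
      (DerivedCategory.singleFunctor (Spec (CommRingCat.of k)).Modules (i : ℤ)).obj N :=
    ((GrothLib.OX.rpushIsoRres A.hom).app _).symm ≪≫ (DCoh.Rpush A.hom).mapIso eT.symm ≪≫ f.app M₀ ≪≫
      (DCoh.Lpull e.left).mapIso (eΦ ≪≫ (DerivedCategory.singleFunctorIsoCompQ At.left.Modules (i : ℤ)).app H) ≪≫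
      v ≪≫ DerivedCategory.Q.mapIso ((HomologicalComplex.singleMapHomologicalComplex
        (Scheme.Modules.pullback e.left) (ComplexShape.up ℤ) (i : ℤ)).app H) ≪≫
      ((DerivedCategory.singleFunctorIsoCompQ _ (i : ℤ)).app N).symm
  haveI := GrothLib.RpushSupp20.hasInjectiveResolutions A.left
  let cq : ∀ q : ℕ, (Coh.Rpush A.hom q).obj F ≅
      DCoh.HD ((DerivedCategory.singleFunctor (Spec (CommRingCat.of k)).Modules (i : ℤ)).obj N) (q : ℤ) := fun q =>
    (GrothLib.SiteDer.nonempty_homology_Rres_single (GrothLib.OX.rmor A.hom) F q).some.symm ≪≫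
      (DerivedCategory.homologyFunctor _ (q : ℤ)).mapIso eR
  have hA : ∀ a b : ℕ, Subsingleton (Coh.HH (Spec (CommRingCat.of k)) ((Coh.Rpush A.hom a).obj F) (b + 1)) :=
    fun a b => by
      haveI := (GrothLib.Cohom.isCoh_Rpush A.hom F hF a).1
      exact GrothLib.Cohom.subsingleton_HH_of_isAffine _ _ (Nat.succ_pos b)
  have hdim : ∀ q : ℕ, Module.finrank k (Coh.HH A.left F q) = if q = i then n else 0 := fun q => by
    rw [GrothLib.Snapper.finrank_HH_eq_of_acyclic_Rpush k (f := A.hom) (X := Spec (CommRingCat.of k))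
      (Category.comp_id _) F hF hA q]
    split_ifs with hq
    · subst hq
      haveI : Subsingleton ↥(Spec (CommRingCat.of k)) := inferInstanceAs (Subsingleton (PrimeSpectrum k))
      haveI : Nonempty ↥(Spec (CommRingCat.of k)) := inferInstanceAs (Nonempty (PrimeSpectrum k))
      obtain ⟨eN⟩ := nonempty_iso_freeMod (T := Spec (CommRingCat.of k)) (M := N)
        (GrothLib.OX.isFinLocFreeOfRank_pullback e.left hfree)
      rw [(GrothLib.Euler.hhEquiv (A := k) (cq q ≪≫
        (DerivedCategory.singleFunctorCompHomologyFunctorIso _ (q : ℤ)).app N ≪≫ eN) 0).finrank_eq]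
      refine GrothLib.FibTriv28.finrank_H0_freeMod ?_ n
      exact Function.bijective_id
    · have hz : IsZero ((Coh.Rpush A.hom q).obj F) := by
        refine IsZero.of_iso ?_ (cq q)
        rcases lt_or_gt_of_ne hq with h | h
        · exact DerivedCategory.isZero_of_isGE _ (i : ℤ) _ (by omega)
        · exact DerivedCategory.isZero_of_isLE _ (i : ℤ) _ (by omega)
      haveI := GrothLib.Cohom.subsingleton_HH_of_isZero hz 0
      exact Module.finrank_zero_of_subsingleton
  show (∑ᶠ q : ℕ, (-1 : ℤ) ^ q * (Module.finrank k (Coh.HH A.left F q) : ℤ)) = _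
  rw [finsum_eq_single _ i fun q hq => by rw [hdim, if_neg hq]; simp, hdim, if_pos rfl]

end Groth.Agent.S16157
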