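import Groth.Statements.S16160
import Groth.Agent.Lib.HopfAG.SimDiag
import Groth.Agent.Lib.HopfAG.PointAct
import Mathlib.LinearAlgebra.TensorProduct.Finiteness

set_option autoImplicit false
universe u v w
open scoped TensorProduct
open MadRed

namespace Groth.Agent.S16160

/-- Let k be a field, G = Spec A an affine k-group with A a commutative Hopf algebra over k, and R a
commutative Noetherian k-algebra, so that R ⊗ A is the coordinate ring of the base change G_R and
the k-algebra maps A → R are its R-valued points. Let H be a set of R-valued points which pairwise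
commute for the convolution product of G(R) (the case of an abelian subgroup of G(R)). If every g in
H is diagonalizable over k on R ⊗ A, meaning that the eigenspaces of right translation by g, for
eigenvalues in k, span R ⊗ A, then H is simultaneously diagonalizable over k on R ⊗ A: the common
eigenspaces of the right translations by all g in H span R ⊗ A. The standing assumptions of the
source at this point (k algebraically closed of characteristic zero, G reductive) are not used. -/
theorem result (k : Type u) [Field k]
    (A : Type v) [CommRing A] [HopfAlgebra k A] (R : Type w) [CommRing R] [Algebra k R]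
    [IsNoetherianRing R] (H : Set (A →ₐ[k] R))
    (hcomm : ∀ g ∈ H, ∀ h ∈ H,
      WithConv.toConv g * WithConv.toConv h = WithConv.toConv h * WithConv.toConv g)
    (hdiag : ∀ g ∈ H, ⨆ μ : k,
      Module.End.eigenspace (((MadRed.ptAct k A R g).toLinearMap).restrictScalars k) μ = ⊤) :
    ⨆ χ : H → k, ⨅ g : H,
      Module.End.eigenspace (((MadRed.ptAct k A R g.1).toLinearMap).restrictScalars k) (χ g) = ⊤ := by
  classical
  let f : H → Module.End R (R ⊗[k] A) := fun g => (MadRed.ptAct k A R g.1).toLinearMap
  letI : HopfRep.Comod k A A := HopfRep.Comod.regular k A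
  have hG : ∀ g : H, f g = GrothLib.PointAct.G (V := A) g.1 := by
    intro g
    refine TensorProduct.AlgebraTensorModule.ext fun r a => ?_
    rw [GrothLib.PointAct.G_tmul]
    show MadRed.ptAct k A R g.1 (r ⊗ₜ[k] a) = _
    rw [MadRed.ptAct, Algebra.TensorProduct.lift_tmul]
    show (r ⊗ₜ[k] (1 : A)) * (Algebra.TensorProduct.map g.1 (AlgHom.id k A))
      (TensorProduct.comm k A A (Coalgebra.comul (R := k) a)) =
      r • TensorProduct.comm k A R (g.1.toLinearMap.lTensor A (Coalgebra.comul (R := k) a))
    induction Coalgebra.comul (R := k) a using TensorProduct.induction_on with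
    | zero => simp
    | add p q hp hq => simp only [map_add, mul_add, smul_add, hp, hq]
    | tmul p q => simp [TensorProduct.smul_tmul']
  have hcomm' : ∀ i j : H, Commute (f i) (f j) := by
    intro i j
    show f i * f j = f j * f i
    rw [hG, hG, Module.End.mul_eq_comp, Module.End.mul_eq_comp, ← GrothLib.PointAct.G_mul,
      ← GrothLib.PointAct.G_mul, hcomm i.1 i.2 j.1 j.2]
  refine eq_top_iff.2 fun v _ => ?_
  suffices h : ∀ z : R ⊗[k] A, z ∈ (⨆ χ : H → k, ⨅ g : H,
      Module.End.eigenspace ((f g).restrictScalars k) (χ g)) from h v
  intro z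
  obtain ⟨s, hs⟩ := TensorProduct.exists_finset (R := k) z
  obtain ⟨U, hU, hsU, -, hfg⟩ :=
    GrothLib.Hopf.Comod.exists_smallest (k := k) (C := A) (V := A) (Submodule.span k ((s.image Prod.snd : Finset A) : Set A))
  haveI := Module.Finite.iff_fg.2 (hfg (Submodule.fg_span (Finset.finite_toSet _)))
  have hWfg : (U.baseChange R).FG := by
    rw [Submodule.baseChange, LinearMap.range_eq_map]
    exact Submodule.FG.map _ Module.Finite.fg_top
  haveI := isNoetherian_of_fg_of_noetherian _ hWfg
  refine GrothLib.SimDiag.le_common f hcomm' (fun g => hdiag g.1 g.2) (U.baseChange R) (fun g w hw => ?_) ?_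
  · rw [hG]
    refine (GrothLib.PointAct.mem_baseChange_iff U g.1).2 (fun u hu => ?_) w hw
    obtain ⟨y, hy⟩ := hU u hu
    rw [← hy]
    refine ⟨g.1.toLinearMap.lTensor U y, ?_⟩
    rw [← LinearMap.comp_apply, LinearMap.rTensor_comp_lTensor, ← LinearMap.lTensor_comp_rTensor]
    rfl
  · rw [hs]
    exact Submodule.sum_mem _ fun i hi => Submodule.tmul_mem_baseChange_of_mem _
      (hsU (Submodule.subset_span (Finset.mem_coe.2 (Finset.mem_image_of_mem _ hi))))

end Groth.Agent.S16160
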