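import Groth.Statements.S16161
import Mathlib.RingTheory.RootsOfUnity.AlgebraicallyClosed
import Mathlib.RingTheory.RootsOfUnity.PrimitiveRoots
import Mathlib.LinearAlgebra.Eigenspace.Basic
import Mathlib.RingTheory.Polynomial.Cyclotomic.Basic
import Mathlib.RingTheory.Polynomial.Basic

set_option autoImplicit false
universe u v
open MadRed

namespace Groth.Agent.S16161

/-- Let k be an algebraically closed field of characteristic zero and R a reduced finitely generated
commutative k-algebra whose spectrum is connected (R has no idempotents besides 0 and 1); let W =
R^n be a free R-module of finite rank and g an R-linear endomorphism of W of finite order, g^m = 1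
with m > 0 (an element of finite order of GL(W)(R)). Then the action of g on W is diagonalizable
over k: viewing g as a k-linear map, its eigenspaces for eigenvalues in k span W. The source also
assumes that g is diagonalizable over k on every fibre W ⊗ k(x), x a point of Spec R; for g of
finite order this holds automatically (k is algebraically closed of characteristic zero), as the
source itself notes, so that hypothesis is omitted. -/
theorem result
    (k : Type u) [Field k] [IsAlgClosed k] [CharZero k]
    (R : Type v) [CommRing R] [Algebra k R] [IsReduced R] [Algebra.FiniteType k R]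
    (hconn : ∀ e : R, IsIdempotentElem e → e = 0 ∨ e = 1)
    (n : ℕ) (g : Module.End R (Fin n → R)) (m : ℕ) (hm : 0 < m) (hg : g ^ m = 1) :
    ⨆ μ : k, Module.End.eigenspace (g.restrictScalars k) μ = ⊤ := by
  classical
  haveI : NeZero (m : k) := ⟨Nat.cast_ne_zero.2 hm.ne'⟩
  obtain ⟨ζ, hζ⟩ := HasEnoughRootsOfUnity.exists_primitiveRoot k m
  set f : Module.End k (Fin n → R) := g.restrictScalars k with hf
  have hpow : ∀ j v, (f ^ j) v = (g ^ j) v := by
    intro j
    induction j with
    | zero => intro v; rfl
    | succ j ih => intro v; rw [pow_succ', pow_succ', Module.End.mul_apply, Module.End.mul_apply, ih]; rfl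
  have hfm : f ^ m = 1 := LinearMap.ext fun v => by rw [hpow, hg]; rfl
  have hkey : ∀ t : Finset k, LinearMap.ker (Polynomial.aeval f (∏ μ ∈ t, (Polynomial.X - Polynomial.C μ))) ≤
      ⨆ μ : k, Module.End.eigenspace f μ := by
    intro t
    induction t using Finset.induction with
    | empty =>
      intro v hv
      rw [Finset.prod_empty, map_one, LinearMap.mem_ker, Module.End.one_apply] at hv
      rw [hv]; exact zero_mem _
    | insert a t ha ih =>
      rw [Finset.prod_insert ha, ← Polynomial.sup_ker_aeval_eq_ker_aeval_mul_of_coprime]
      · refine sup_le (fun v hv => Submodule.mem_iSup_of_mem a (Module.End.mem_eigenspace_iff.2 ?_)) ih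
        simpa [sub_eq_zero] using hv
      · refine IsCoprime.prod_right fun b hb => ?_
        exact Polynomial.pairwise_coprime_X_sub_C (fun _ _ h => h) (show a ≠ b from fun h => ha (h ▸ hb))
  refine eq_top_iff.2 (le_trans ?_ (hkey (Polynomial.nthRootsFinset m (1 : k))))
  intro v _
  rw [LinearMap.mem_ker, ← Polynomial.X_pow_sub_one_eq_prod hm hζ]
  simp [hfm]

end Groth.Agent.S16161
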