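import Groth.Statements.S16162
import Mathlib.AlgebraicGeometry.PullbackCarrier
import Mathlib.AlgebraicGeometry.Morphisms.Flat
import Mathlib.AlgebraicGeometry.Morphisms.UniversallyOpen
import Mathlib.AlgebraicGeometry.Morphisms.FlatRank

set_option autoImplicit false
open CategoryTheory MonoidalCategory CartesianMonoidalCategory MonObj GrpObj AlgebraicGeometry
universe u
open MadRed

namespace Groth.Agent.S16162

/-- Let S be a scheme, G a group scheme over S, and X an S-scheme with an action of G making X → S a
principal G-bundle (a torsor in the representable fppf sense: X → S surjective, flat and locally of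
finite presentation, and G ×_S X → X ×_S X, (g, x) ↦ (g·x, x), an isomorphism). Let P be a closed
subset of X stable under the action: the action map sends into P every point of G ×_S X whose second
projection lies in P. Then the image of P in S is closed, and P is the full preimage of its image.
(The source works with varieties over the complex numbers and an affine algebraic group; the
assertion holds over any base. Its second assertion, that P → image is again a principal bundle for
the induced reduced structures, then comes from base change and is not part of this row.) -/
theorem result {S : Scheme.{u}}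
    {G X : Over S} [GrpObj G] (a : AlgGrp.Action G X) (ha : RedSub.IsTorsor a)
    (P : Set X.left) (hP : IsClosed P)
    (hstab : ∀ w : (G ⊗ X).left, (snd G X).left.base w ∈ P → a.act.left.base w ∈ P) :
    IsClosed (X.hom.base '' P) ∧ X.hom.base ⁻¹' (X.hom.base '' P) = P := by
  obtain ⟨hs, hfl, hfp, hiso⟩ := ha
  haveI := hs; haveI := hfl; haveI := hfp; haveI := hiso
  have hpre : X.hom.base ⁻¹' (X.hom.base '' P) = P := by
    refine Set.Subset.antisymm ?_ (Set.subset_preimage_image _ _)
    rintro y ⟨x, hx, hxy⟩
    obtain ⟨z, hz1, hz2⟩ := Scheme.Pullback.exists_preimage_pullback (f := X.hom) (g := X.hom) y x hxy.symm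
    haveI : IsIso (lift a.act (snd G X)).left :=
      inferInstanceAs (IsIso ((Over.forget S).map (lift a.act (snd G X))))
    let j := lift a.act (snd G X)
    obtain ⟨w, hw⟩ : ∃ w, j.left.base w = z := (Scheme.homeoOfIso (asIso j.left)).surjective z
    have e1 : a.act.left.base w = y := by
      rw [← hz1, ← hw, ← Scheme.Hom.comp_apply, ← lift_fst a.act (snd G X)]
      rfl
    have e2 : (snd G X).left.base w = x := by
      rw [← hz2, ← hw, ← Scheme.Hom.comp_apply, ← lift_snd a.act (snd G X)]
      rfl
    rw [← e1]
    exact hstab w (e2 ▸ hx)
  refine ⟨?_, hpre⟩
  haveI : UniversallyOpen X.hom := inferInstance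
  have hq : Topology.IsQuotientMap X.hom.base :=
    X.hom.isOpenMap.isQuotientMap X.hom.continuous X.hom.surjective
  rw [← hq.isClosed_preimage, hpre]
  exact hP

end Groth.Agent.S16162
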