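import Groth.Statements.S16170
import Mathlib.Tactic.Abel
import Mathlib.Tactic.NoncommRing
import Mathlib.Tactic.Linarith
import Mathlib.Tactic.Push
-- import your own Groth.Agent.* helpers here

set_option autoImplicit false
open Neron

namespace Groth.Agent.S16170

/-- Let M and N be symmetric positive-semidefinite integer matrices on the same finite index set whose
sum M + N is positive definite, and let χ₁, χ₂ be integer matrices with χ₁ + χ₂ = 1 and M χ₂ = N χ₁.
Then χ₁ and χ₂ are idempotent. (In the intended application M = P.transpose Ψ₁ P and N = Q.transpose Ψ₂ Q for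
surjective integer matrices P, Q and positive-definite Ψ₁, Ψ₂.) -/
theorem result
    {ι : Type} [Fintype ι] [DecidableEq ι]
    (M N χ₁ χ₂ : Matrix ι ι ℤ) (hM : M.IsSymm) (hN : N.IsSymm)
    (hMpos : ∀ v : ι → ℤ, 0 ≤ v ⬝ᵥ M.mulVec v) (hNpos : ∀ v : ι → ℤ, 0 ≤ v ⬝ᵥ N.mulVec v)
    (hpos : ∀ v : ι → ℤ, v ≠ 0 → 0 < v ⬝ᵥ (M + N).mulVec v)
    (hsum : χ₁ + χ₂ = 1) (hrel : M * χ₂ = N * χ₁) :
    χ₁ * χ₁ = χ₁ ∧ χ₂ * χ₂ = χ₂ := by
  set P := M + N with hP
  have hχ2 : χ₂ = 1 - χ₁ := eq_sub_of_add_eq' hsum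
  have hPM : P * χ₁ = M := by
    rw [hP, add_mul, ← hrel, hχ2, mul_sub, mul_one]; abel
  have hPN : P * χ₂ = N := by rw [hχ2, mul_sub, mul_one, hPM, hP]; abel
  have hcomm : χ₁ * χ₂ = χ₂ * χ₁ := by rw [hχ2]; noncomm_ring
  have hMP : χ₁.transpose * P = M := by
    have := congrArg Matrix.transpose hPM
    rwa [Matrix.transpose_mul, hP, Matrix.transpose_add, hM.eq, hN.eq, ← hP] at this
  have hNP : χ₂.transpose * P = N := by
    have := congrArg Matrix.transpose hPN
    rwa [Matrix.transpose_mul, hP, Matrix.transpose_add, hM.eq, hN.eq, ← hP] at this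
  -- the form attached to `P`
  let q : (ι → ℤ) → (ι → ℤ) → ℤ := fun u w => u ⬝ᵥ P.mulVec w
  have hsym : ∀ u w, q u w = q w u := fun u w => by
    change u ⬝ᵥ P.mulVec w = w ⬝ᵥ P.mulVec u
    rw [Matrix.dotProduct_mulVec, dotProduct_comm, ← Matrix.mulVec_transpose, hP, Matrix.transpose_add, hM.eq, hN.eq]
  have hadj1 : ∀ u w, q (χ₁.mulVec u) w = q u (χ₁.mulVec w) := fun u w => by
    change _ ⬝ᵥ _ = _ ⬝ᵥ _
    rw [Matrix.mulVec_mulVec, hPM, ← hMP, ← Matrix.mulVec_mulVec, Matrix.dotProduct_mulVec u,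
      Matrix.vecMul_transpose]
  have h1 : ∀ u, 0 ≤ q u (χ₁.mulVec u) := fun u => by
    change 0 ≤ _ ⬝ᵥ _; rw [Matrix.mulVec_mulVec, hPM]; exact hMpos u
  have h2 : ∀ u, 0 ≤ q u (χ₂.mulVec u) := fun u => by
    change 0 ≤ _ ⬝ᵥ _; rw [Matrix.mulVec_mulVec, hPN]; exact hNpos u
  have hadd : ∀ u w w', q u (w + w') = q u w + q u w' := fun u w w' => by
    simp [q, Matrix.mulVec_add, dotProduct_add]
  have hsplit : ∀ u, u = χ₁.mulVec u + χ₂.mulVec u := fun u => by
    rw [← Matrix.add_mulVec, hsum, Matrix.one_mulVec]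
  have hadj2 : ∀ u w, q (χ₂.mulVec u) w = q u (χ₂.mulVec w) := fun u w => by
    change _ ⬝ᵥ _ = _ ⬝ᵥ _
    rw [Matrix.mulVec_mulVec, hPN, ← hNP, ← Matrix.mulVec_mulVec, Matrix.dotProduct_mulVec u,
      Matrix.vecMul_transpose]
  have hcv : ∀ u, χ₁.mulVec (χ₂.mulVec u) = χ₂.mulVec (χ₁.mulVec u) := fun u => by
    rw [Matrix.mulVec_mulVec, Matrix.mulVec_mulVec, hcomm]
  have h12 : ∀ u, 0 ≤ q u (χ₁.mulVec (χ₂.mulVec u)) := fun u => by
    conv_rhs => rw [hsplit (χ₁.mulVec (χ₂.mulVec u)), hadd]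
    refine add_nonneg ?_ ?_
    · rw [← hadj1, hcv]; exact h2 _
    · rw [← hadj2]; exact h1 _
  have hdef : ∀ u, q u u = 0 → u = 0 := fun u hu => by
    by_contra hne; exact (hpos u hne).ne' hu
  have hstep : ∀ u, q (χ₁.mulVec u) (χ₁.mulVec u) ≤ q u u ∧
      (q (χ₁.mulVec u) (χ₁.mulVec u) = q u u → χ₂.mulVec u = 0) := fun u => by
    have e : q u u = q (χ₁.mulVec u) (χ₁.mulVec u) + q u (χ₁.mulVec (χ₂.mulVec u)) + q u (χ₂.mulVec u) := by
      rw [hadj1, ← hadd, ← Matrix.mulVec_add, ← hsplit, ← hadd, ← hsplit]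
    refine ⟨by linarith [h12 u, h2 u], fun heq => ?_⟩
    have hz : q u (χ₂.mulVec u) = 0 := by linarith [h12 u, h2 u]
    -- a vector on which a positive form vanishes is in its kernel
    have h3 : ∀ t : ℤ, 0 ≤ 2 * t * q (χ₂.mulVec u) (χ₂.mulVec u) + t * t * q (χ₂.mulVec u) (χ₂.mulVec (χ₂.mulVec u)) := by
      intro t
      have := h2 (u + t • χ₂.mulVec u)
      simp only [q, Matrix.mulVec_add, Matrix.mulVec_smul, add_dotProduct, dotProduct_add, smul_dotProduct,
        dotProduct_smul, smul_eq_mul] at this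
      have e1 := hz
      have e2 := hadj2 u (χ₂.mulVec u)
      simp only [q] at e1 e2 ⊢
      rw [e1, ← e2] at this
      linarith
    refine hdef _ (le_antisymm ?_ ?_)
    · by_contra hc
      have ha := not_le.1 hc
      set a := q (χ₂.mulVec u) (χ₂.mulVec u)
      set b := q (χ₂.mulVec u) (χ₂.mulVec (χ₂.mulVec u))
      have hb : b ≤ a := by
        have e' : a = q (χ₂.mulVec u) (χ₁.mulVec (χ₂.mulVec u)) + b := by rw [← hadd, ← hsplit]
        linarith [h1 (χ₂.mulVec u)]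
      have := h3 (-1)
      nlinarith
    · linarith [h1 (χ₂.mulVec u), h2 (χ₂.mulVec u), hadd (χ₂.mulVec u) (χ₁.mulVec (χ₂.mulVec u)) (χ₂.mulVec (χ₂.mulVec u)),
        congrArg (q (χ₂.mulVec u)) (hsplit (χ₂.mulVec u))]
  have h0 : ∀ w, χ₁.mulVec (χ₂.mulVec w) = 0 := by
    intro w
    let s : ℕ → ι → ℤ := fun k => (χ₁.mulVec)^[k] w
    have hnn : ∀ k, 0 ≤ q (s k) (s k) := fun k => by
      linarith [h1 (s k), h2 (s k), hadd (s k) (χ₁.mulVec (s k)) (χ₂.mulVec (s k)), congrArg (q (s k)) (hsplit (s k))]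
    have hsucc : ∀ k, s (k + 1) = χ₁.mulVec (s k) := fun k => Function.iterate_succ_apply' _ _ _
    obtain ⟨k, hk⟩ : ∃ k, χ₂.mulVec (s k) = 0 := by
      by_contra hc
      push Not at hc
      have hdec : ∀ k : ℕ, q (s k) (s k) + k ≤ q (s 0) (s 0) := fun k => by
        induction k with
        | zero => simp
        | succ k ih =>
          have h := hstep (s k)
          rw [← hsucc] at h
          have : q (s (k+1)) (s (k+1)) < q (s k) (s k) := h.1.lt_of_ne fun e => hc k (h.2 e)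
          push_cast; omega
      have := hdec ((q (s 0) (s 0)).toNat + 1)
      have := hnn ((q (s 0) (s 0)).toNat + 1)
      omega
    -- descend: `χ₁ ^ (j + 1) u = 0` implies `χ₁ u = 0`
    have hdesc : ∀ j, ∀ u, (χ₁.mulVec)^[j + 1] u = 0 → χ₁.mulVec u = 0 := by
      intro j
      induction j with
      | zero => intro u hu; simpa using hu
      | succ j ih =>
        intro u hu
        apply ih
        apply hdef
        rw [Function.iterate_succ_apply', hadj1, ← Function.iterate_succ_apply' (χ₁.mulVec) j,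
          ← Function.iterate_succ_apply' (χ₁.mulVec) (j + 1), hu]
        simp [q]
    refine hdesc k _ ?_
    have : ∀ j, (χ₁.mulVec)^[j] (χ₂.mulVec w) = χ₂.mulVec (s j) := fun j => by
      induction j with
      | zero => rfl
      | succ j ih => rw [Function.iterate_succ_apply', ih, hsucc, hcv]
    rw [Function.iterate_succ_apply', this, hk, Matrix.mulVec_zero]
  have hz : χ₁ * χ₂ = 0 := Matrix.ext_of_mulVec_single fun i => by
    rw [← Matrix.mulVec_mulVec, h0, Matrix.zero_mulVec]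
  constructor
  · calc χ₁ * χ₁ = χ₁ * (χ₁ + χ₂) - χ₁ * χ₂ := by noncomm_ring
      _ = χ₁ := by rw [hsum, hz, mul_one, sub_zero]
  · calc χ₂ * χ₂ = (χ₁ + χ₂) * χ₂ - χ₁ * χ₂ := by noncomm_ring
      _ = χ₂ := by rw [hsum, hz, one_mul, sub_zero]

end Groth.Agent.S16170
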