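import Groth.Statements.S16164
import Groth.Agent.S16170
-- import your own Groth.Agent.* helpers here

set_option autoImplicit false
open Neron

namespace Groth.Agent.S16164

/-- Let X, Y₁, Y₂ be finitely generated free abelian groups with chosen bases, so that homomorphisms are
integer matrices acting on column vectors and each group is identified with its dual; let P : X → Y₁
and Q : X → Y₂ be surjective with A = (P over Q) : X → Y₁ ⊕ Y₂ injective, and let Ψ₁, Ψ₂ be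
symmetric positive-definite integer matrices on Y₁ and Y₂, Ψ their block-diagonal sum. If the image
of Aᵀ Ψ : Y₁ ⊕ Y₂ → X coincides with the image of Aᵀ Ψ A : X → X (the reverse inclusion always
holds), then A is bijective. (In the source X, Y₁, Y₂ are character groups of maximal tori, P and Q
specialization maps, Ψ₁ and Ψ₂ monodromy pairings, and the hypothesis expresses that two groups of
components coincide.) -/
theorem result
    {ι κ₁ κ₂ : Type} [Fintype ι] [Fintype κ₁] [Fintype κ₂]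
    (P : Matrix κ₁ ι ℤ) (Q : Matrix κ₂ ι ℤ)
    (hP : Function.Surjective P.mulVec) (hQ : Function.Surjective Q.mulVec)
    (hA : Function.Injective (Matrix.fromRows P Q).mulVec)
    (Ψ₁ : Matrix κ₁ κ₁ ℤ) (Ψ₂ : Matrix κ₂ κ₂ ℤ) (hΨ₁ : Ψ₁.IsSymm) (hΨ₂ : Ψ₂.IsSymm)
    (hΨ₁pos : ∀ y : κ₁ → ℤ, y ≠ 0 → 0 < y ⬝ᵥ Ψ₁.mulVec y)
    (hΨ₂pos : ∀ y : κ₂ → ℤ, y ≠ 0 → 0 < y ⬝ᵥ Ψ₂.mulVec y)
    (himage : LinearMap.range ((Matrix.fromRows P Q).transpose * Matrix.fromBlocks Ψ₁ 0 0 Ψ₂).mulVecLin =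
      LinearMap.range ((Matrix.fromRows P Q).transpose * Matrix.fromBlocks Ψ₁ 0 0 Ψ₂ * Matrix.fromRows P Q).mulVecLin) :
    Function.Bijective (Matrix.fromRows P Q).mulVec := by
  classical
  refine ⟨hA, fun z => ?_⟩
  set A := Matrix.fromRows P Q with hAdef
  set M := P.transpose * Ψ₁ * P with hMdef
  set N := Q.transpose * Ψ₂ * Q with hNdef
  set Λ := A.transpose * Matrix.fromBlocks Ψ₁ 0 0 Ψ₂ with hΛ
  have hΛA : Λ * A = M + N := by
    rw [hΛ, hAdef, Matrix.transpose_fromRows, Matrix.fromCols_mul_fromBlocks, Matrix.mul_zero, Matrix.mul_zero,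
      add_zero, zero_add, Matrix.fromCols_mul_fromRows]
  -- solve `(M + N) χ₁ = M` column by column
  have hsol : ∀ v : ι → ℤ, ∃ x, (M + N).mulVec x = M.mulVec v := by
    intro v
    have hmem : M.mulVec v ∈ LinearMap.range Λ.mulVecLin := by
      refine ⟨Sum.elim (P.mulVec v) 0, ?_⟩
      rw [Matrix.mulVecLin_apply, hΛ, hAdef, Matrix.transpose_fromRows, Matrix.fromCols_mul_fromBlocks,
        Matrix.mul_zero, Matrix.mul_zero, add_zero, zero_add, Matrix.fromCols_mulVec, Sum.elim_comp_inl,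
        Sum.elim_comp_inr, Matrix.mulVec_zero, add_zero, Matrix.mulVec_mulVec]
    rw [himage] at hmem
    obtain ⟨x, hx⟩ := hmem
    exact ⟨x, by rwa [Matrix.mulVecLin_apply, hΛA] at hx⟩
  choose c hc using fun j : ι => hsol (Pi.single j 1)
  set χ₁ : Matrix ι ι ℤ := Matrix.of fun i j => c j i with hχ
  have hχ1 : (M + N) * χ₁ = M := by
    refine Matrix.ext fun i j => ?_
    have := congrFun (hc j) i
    rw [Matrix.mulVec_single_one] at this
    exact this
  have hMs : M.IsSymm := by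
    rw [Matrix.IsSymm, hMdef, Matrix.transpose_mul, Matrix.transpose_mul, Matrix.transpose_transpose, hΨ₁.eq, Matrix.mul_assoc]
  have hNs : N.IsSymm := by
    rw [Matrix.IsSymm, hNdef, Matrix.transpose_mul, Matrix.transpose_mul, Matrix.transpose_transpose, hΨ₂.eq, Matrix.mul_assoc]
  have hMq : ∀ v : ι → ℤ, v ⬝ᵥ M.mulVec v = (P.mulVec v) ⬝ᵥ Ψ₁.mulVec (P.mulVec v) := fun v => by
    rw [hMdef, ← Matrix.mulVec_mulVec, ← Matrix.mulVec_mulVec, Matrix.dotProduct_mulVec v, Matrix.vecMul_transpose]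
  have hNq : ∀ v : ι → ℤ, v ⬝ᵥ N.mulVec v = (Q.mulVec v) ⬝ᵥ Ψ₂.mulVec (Q.mulVec v) := fun v => by
    rw [hNdef, ← Matrix.mulVec_mulVec, ← Matrix.mulVec_mulVec, Matrix.dotProduct_mulVec v, Matrix.vecMul_transpose]
  have h1 : ∀ y, 0 ≤ y ⬝ᵥ Ψ₁.mulVec y := fun y => by
    by_cases hy : y = 0
    · simp [hy]
    · exact (hΨ₁pos y hy).le
  have h2 : ∀ y, 0 ≤ y ⬝ᵥ Ψ₂.mulVec y := fun y => by
    by_cases hy : y = 0
    · simp [hy]
    · exact (hΨ₂pos y hy).le
  have hp : ∀ v : ι → ℤ, v ≠ 0 → 0 < v ⬝ᵥ (M + N).mulVec v := fun v hv => by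
    rw [Matrix.add_mulVec, dotProduct_add, hMq, hNq]
    rcases em (P.mulVec v = 0) with hP0 | hP0
    · refine add_pos_of_nonneg_of_pos (h1 _) (hΨ₂pos _ fun hQ0 => hv (hA ?_))
      rw [hAdef, Matrix.fromRows_mulVec, hP0, hQ0, Matrix.mulVec_zero]
      ext (i | i) <;> rfl
    · exact add_pos_of_pos_of_nonneg (hΨ₁pos _ hP0) (h2 _)
  have hrel : M * (1 - χ₁) = N * χ₁ := by
    rw [Matrix.add_mul] at hχ1
    rw [Matrix.mul_sub, Matrix.mul_one]
    exact sub_eq_iff_eq_add'.2 hχ1.symm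
  obtain ⟨hid, -⟩ := Groth.Agent.S16170.result M N χ₁ (1 - χ₁) hMs hNs
    (fun v => (hMq v) ▸ h1 _) (fun v => (hNq v) ▸ h2 _) hp (add_sub_cancel _ _) hrel
  have hM0 : M * (1 - χ₁) = 0 := by
    rw [Matrix.mul_sub, Matrix.mul_one]
    nth_rw 2 [← hχ1]
    rw [Matrix.mul_assoc]
    nth_rw 1 [← hχ1]
    rw [hid, sub_self]
  have hN0 : N * χ₁ = 0 := hrel ▸ hM0
  have hPχ : ∀ v, P.mulVec ((1 - χ₁).mulVec v) = 0 := fun v => by
    by_contra h
    have := hΨ₁pos _ h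
    rw [← hMq, Matrix.mulVec_mulVec, hM0, Matrix.zero_mulVec, dotProduct_zero] at this
    exact this.false
  have hQχ : ∀ v, Q.mulVec (χ₁.mulVec v) = 0 := fun v => by
    by_contra h
    have := hΨ₂pos _ h
    rw [← hNq, Matrix.mulVec_mulVec, hN0, Matrix.zero_mulVec, dotProduct_zero] at this
    exact this.false
  obtain ⟨a, ha⟩ := hP (z ∘ Sum.inl)
  obtain ⟨b, hb⟩ := hQ (z ∘ Sum.inr)
  refine ⟨χ₁.mulVec a + (1 - χ₁).mulVec b, ?_⟩
  have ea : P.mulVec (χ₁.mulVec a) = P.mulVec a := by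
    have := hPχ a
    rw [Matrix.sub_mulVec, Matrix.one_mulVec, Matrix.mulVec_sub] at this
    exact (sub_eq_zero.1 this).symm
  have eb : Q.mulVec ((1 - χ₁).mulVec b) = Q.mulVec b := by
    rw [Matrix.sub_mulVec, Matrix.one_mulVec, Matrix.mulVec_sub, hQχ, sub_zero]
  rw [hAdef, Matrix.fromRows_mulVec, Matrix.mulVec_add, Matrix.mulVec_add, hPχ, hQχ, ea, eb, add_zero, zero_add, ha, hb]
  exact Sum.elim_comp_inl_inr z

end Groth.Agent.S16164
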