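import Groth.Statements.S16174
import Mathlib.RingTheory.Henselian
import Mathlib.RingTheory.Valuation.ValuationRing
import Mathlib.RingTheory.Localization.AtPrime.Basic
import Mathlib.Algebra.Polynomial.Taylor
import Mathlib.Algebra.Polynomial.Lifts
import Mathlib.Tactic.Ring
import Mathlib.Tactic.LinearCombination
-- import your own Groth.Agent.* helpers here

set_option autoImplicit false
universe u
open Hensel

namespace Groth.Agent.S16174

/-- Let V be a Henselian valuation ring and p a prime ideal of V. Then the local rings V_p (localisation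
at p) and V/p are Henselian. (Both are again valuation rings, which is elementary and not restated.) -/
theorem result (V : Type u) [CommRing V]
    [IsDomain V] [ValuationRing V] [HenselianLocalRing V] (p : Ideal V) [p.IsPrime] :
    HenselianLocalRing (Localization.AtPrime p) ∧ HenselianLocalRing (V ⧸ p) := by
  classical
  constructor
  · constructor
    intro f hf a₀ h₀ h₁
    let L := Localization.AtPrime p
    let ι := algebraMap V L
    have hmem : ∀ x ∈ IsLocalRing.maximalIdeal L, ∃ b ∈ p, ι b = x := by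
      intro x hx
      obtain ⟨a, s, rfl⟩ := IsLocalization.exists_mk'_eq p.primeCompl x
      have ha : a ∈ p := (IsLocalization.AtPrime.mk'_mem_maximal_iff L p a s).1 hx
      obtain ⟨b, hb | hb⟩ := ValuationRing.cond (s : V) a
      · refine ⟨b, (Ideal.IsPrime.mem_or_mem ‹p.IsPrime› (hb ▸ ha)).resolve_left s.2, ?_⟩
        rw [← hb, eq_comm, IsLocalization.mk'_eq_iff_eq_mul, map_mul, mul_comm]
      · exact absurd (hb ▸ p.mul_mem_right b ha) s.2
    set T := Polynomial.taylor a₀ f with hT
    have ht0 : T.coeff 0 = f.eval a₀ := Polynomial.taylor_coeff_zero _ _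
    have ht1 : T.coeff 1 = f.derivative.eval a₀ := Polynomial.taylor_coeff_one _ _
    obtain ⟨u, hu⟩ := h₁
    set ε : L := f.eval a₀ * ↑u⁻¹ with hε
    have hεm : ε ∈ IsLocalRing.maximalIdeal L := Ideal.mul_mem_right _ _ h₀
    set N := T.natDegree + 2 with hN
    have hb : ∀ i, 2 ≤ i → ∃ b ∈ p, ι b = T.coeff i * ε ^ (i - 1) * ↑u⁻¹ := fun i hi => hmem _
      (Ideal.mul_mem_right _ _ (Ideal.mul_mem_left _ _ (Ideal.pow_mem_of_mem _ hεm _ (by omega))))
    choose b hbp hbe using hb
    let c : ℕ → V := fun j => b (j + 2) (by omega)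
    let H : Polynomial V := Polynomial.X ^ N + Polynomial.X ^ (N - 1) +
      ∑ j ∈ Finset.range (N - 1), Polynomial.C (c j) * Polynomial.X ^ (N - (j + 2))
    have hpm : p ≤ IsLocalRing.maximalIdeal V := IsLocalRing.le_maximalIdeal (Ideal.IsPrime.ne_top ‹_›)
    have hHm : H.Monic := by
      simp only [H, add_assoc]
      refine Polynomial.monic_X_pow_add (lt_of_le_of_lt (Polynomial.degree_add_le _ _) (max_lt ?_ ?_))
      · rw [Polynomial.degree_X_pow]; exact_mod_cast (by omega : N - 1 < N)
      · refine lt_of_le_of_lt (Polynomial.degree_sum_le _ _)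
          ((Finset.sup_lt_iff (WithBot.bot_lt_coe N)).2 fun j _ => ?_)
        exact lt_of_le_of_lt (Polynomial.degree_C_mul_X_pow_le _ _)
          (WithBot.coe_lt_coe.2 (by omega : N - (j + 2) < N))
    have hsum : ∀ z : V, H.eval z - (z ^ N + z ^ (N - 1)) ∈ IsLocalRing.maximalIdeal V := by
      intro z
      simp only [H, Polynomial.eval_add, Polynomial.eval_pow, Polynomial.eval_X, Polynomial.eval_finsetSum,
        Polynomial.eval_mul, Polynomial.eval_C, add_sub_cancel_left]
      exact Submodule.sum_mem _ fun j _ => Ideal.mul_mem_right _ _ (hpm (hbp _ _))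
    have hH0 : H.eval (-1) ∈ IsLocalRing.maximalIdeal V := by
      have h := hsum (-1)
      rwa [show ((-1 : V)) ^ N + (-1) ^ (N - 1) = 0 by
        rw [show N = (N - 1) + 1 by omega, pow_succ, Nat.add_sub_cancel]; ring, sub_zero] at h
    have hH1 : IsUnit (H.derivative.eval (-1)) := by
      obtain ⟨n, hn⟩ : ∃ n, N = n + 2 := ⟨T.natDegree, rfl⟩
      have h : H.derivative.eval (-1) - (-1 : V) ^ (n + 1) ∈ IsLocalRing.maximalIdeal V := by
        have hd : H.derivative.eval (-1) = ((N : V) * (-1) ^ (N - 1) + ((N - 1 : ℕ) : V) * (-1) ^ (N - 1 - 1)) +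
            ∑ j ∈ Finset.range (N - 1), c j * ((N - (j + 2) : ℕ) : V) * (-1) ^ (N - (j + 2) - 1) := by
          simp [H, Polynomial.derivative_X_pow, Polynomial.eval_finsetSum, mul_assoc]
        rw [hd, hn, show n + 2 - 1 = n + 1 by omega, Nat.add_sub_cancel,
          show (((n + 2 : ℕ)) : V) * (-1) ^ (n + 1) + ((n + 1 : ℕ) : V) * (-1) ^ n = (-1) ^ (n + 1) by
            push_cast; ring, add_sub_cancel_left]
        exact Submodule.sum_mem _ fun j _ => Ideal.mul_mem_right _ _ (Ideal.mul_mem_right _ _ (hpm (hbp _ _)))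
      by_contra hnu
      have := sub_mem ((IsLocalRing.mem_maximalIdeal _).2 hnu) h
      rw [sub_sub_cancel] at this
      exact (IsLocalRing.mem_maximalIdeal _).1 this (isUnit_one.neg.pow _)
    obtain ⟨z, hz, hz1⟩ := HenselianLocalRing.is_henselian H hHm (-1) hH0 hH1
    have hzu : IsUnit z := by
      by_contra hnu
      have := sub_mem hz1 ((IsLocalRing.mem_maximalIdeal _).2 hnu)
      rw [show z - -1 - z = (1 : V) by ring] at this
      exact (IsLocalRing.mem_maximalIdeal _).1 this isUnit_one
    obtain ⟨y, hy⟩ := (hzu.map ι).exists_left_inv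
    refine ⟨a₀ + ε * y, ?_, by simpa using Ideal.mul_mem_right y _ hεm⟩
    have hev : f.eval (a₀ + ε * y) = T.eval (ε * y) := by rw [hT, Polynomial.taylor_eval, add_comm]
    show f.eval (a₀ + ε * y) = 0
    rw [hev, Polynomial.eval_eq_sum_range' (n := N + 1) (by omega)]
    have hz' : ι (H.eval z) = 0 := by rw [show H.eval z = 0 from hz, map_zero]
    have hyN : ∀ i ≤ N, y ^ N * ι z ^ (N - i) = y ^ i := by
      intro i hi
      conv_lhs => rw [show N = i + (N - i) by omega, pow_add, Nat.add_sub_cancel_left]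
      rw [mul_assoc, ← mul_pow, hy, one_pow, mul_one]
    have hexp : y ^ N * ι (H.eval z) = 1 + y + ∑ j ∈ Finset.range (N - 1), ι (c j) * y ^ (j + 2) := by
      simp only [H, Polynomial.eval_add, Polynomial.eval_pow, Polynomial.eval_X, Polynomial.eval_finsetSum,
        Polynomial.eval_mul, Polynomial.eval_C, map_add, map_pow, map_sum, map_mul, mul_add, Finset.mul_sum]
      refine congrArg₂ (· + ·) (congrArg₂ (· + ·) ?_ ?_) (Finset.sum_congr rfl fun j hj => ?_)
      · simpa using hyN 0 (Nat.zero_le _)
      · simpa using hyN 1 (by omega)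
      · rw [mul_left_comm, hyN _ (by have := Finset.mem_range.1 hj; omega)]
    rw [hz', mul_zero] at hexp
    rw [show N + 1 = (N - 1) + 1 + 1 by omega, Finset.sum_range_succ', Finset.sum_range_succ']
    have hterm : ∀ j, T.coeff (j + 1 + 1) * (ε * y) ^ (j + 1 + 1) = ε * (u : L) * (ι (c j) * y ^ (j + 2)) := by
      intro j
      simp only [c, hbe]
      rw [show j + 2 - 1 = j + 1 by omega]
      calc T.coeff (j + 1 + 1) * (ε * y) ^ (j + 1 + 1)
          = T.coeff (j + 2) * (ε * y) ^ (j + 2) * (↑u⁻¹ * (u : L)) := by rw [Units.inv_mul, mul_one]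
        _ = _ := by ring
    have hεu : ε * (u : L) = f.eval a₀ := by rw [hε, mul_assoc, Units.inv_mul, mul_one]
    rw [Finset.sum_congr rfl (fun j _ => hterm j), ← Finset.mul_sum, zero_add, pow_one, pow_zero, ht0, ht1, ← hu,
      hεu]
    linear_combination (f.eval a₀) * (-hexp) + y * hεu
  · haveI : IsLocalRing (V ⧸ p) :=
      IsLocalRing.of_surjective' (Ideal.Quotient.mk p) Ideal.Quotient.mk_surjective
    constructor
    intro f hf a₀ h₀ h₁
    let π := Ideal.Quotient.mk p
    haveI : IsLocalHom π := IsLocalHom.of_surjective π Ideal.Quotient.mk_surjective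
    obtain ⟨F, hF, -, hFm⟩ := Polynomial.lifts_and_natDegree_eq_and_monic
      ((Polynomial.mem_lifts _).2 (Polynomial.map_surjective π Ideal.Quotient.mk_surjective f)) hf
    obtain ⟨A, rfl⟩ := Ideal.Quotient.mk_surjective a₀
    have hev : ∀ (G : Polynomial V) (z : V), (G.map π).eval (π z) = π (G.eval z) := fun G z => by
      rw [Polynomial.eval_map_apply]
    have h0' : F.eval A ∈ IsLocalRing.maximalIdeal V := by
      rw [IsLocalRing.mem_maximalIdeal]
      intro hu
      refine (IsLocalRing.mem_maximalIdeal _).1 h₀ ?_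
      rw [← hF, hev]; exact hu.map π
    have h1' : IsUnit (F.derivative.eval A) := by
      apply isUnit_of_map_unit π
      rw [← hev, ← Polynomial.derivative_map, hF]; exact h₁
    obtain ⟨z, hz, hz1⟩ := HenselianLocalRing.is_henselian F hFm A h0' h1'
    refine ⟨π z, ?_, ?_⟩
    · show f.eval (π z) = 0
      rw [← hF, hev, show F.eval z = 0 from hz, map_zero]
    · rw [IsLocalRing.mem_maximalIdeal] at hz1 ⊢
      intro hu
      rw [← map_sub] at hu
      exact hz1 (isUnit_of_map_unit π _ hu)

end Groth.Agent.S16174
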