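import Groth.Statements.S16178
import Mathlib
import Groth.Agent.Lib.NagataFP.PD
-- import your own Groth.Agent.* helpers here

set_option autoImplicit false
universe u
open CategoryTheory
open CAlg

open CategoryTheory
set_option backward.isDefEq.respectTransparency false

namespace Groth.Agent.S16178

/-- Let V be a valuation ring, B a flat V-algebra of finite presentation, q a prime ideal of B lying
over the prime p of V, A = B_q the local ring of Spec B at q, and suppose that the local ring A/pA
of the fibre over p at q is a regular local ring of dimension n. Then every finitely presented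
A-module M which is flat as a V-module has projective dimension at most n over A. -/
theorem result (V : Type u) [CommRing V] [IsDomain V] [ValuationRing V]
    (B : Type u) [CommRing B] [Algebra V B] [Module.Flat V B] [Algebra.FinitePresentation V B]
    (q : Ideal B) [q.IsPrime] (n : ℕ)
    (hreg : IsRegularLocalRing (Localization.AtPrime q ⧸ Ideal.map (algebraMap V (Localization.AtPrime q)) (Ideal.comap (algebraMap V B) q)))
    (hn : ringKrullDim (Localization.AtPrime q ⧸ Ideal.map (algebraMap V (Localization.AtPrime q)) (Ideal.comap (algebraMap V B) q)) = n)
    (M : Type u) [AddCommGroup M] [Module (Localization.AtPrime q) M] [Module.FinitePresentation (Localization.AtPrime q) M]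
    [Module V M] [IsScalarTower V (Localization.AtPrime q) M] [Module.Flat V M] :
    HasProjectiveDimensionLE (ModuleCat.of (Localization.AtPrime q) M) n := by
  let A := Localization.AtPrime q
  haveI := hreg
  have hP : (Ideal.comap (algebraMap V B) q).map (algebraMap V A) ≤ IsLocalRing.maximalIdeal A := by
    rw [IsScalarTower.algebraMap_eq V B A, ← Ideal.map_map, ← Localization.AtPrime.map_eq_maximalIdeal]
    exact Ideal.map_mono Ideal.map_comap_le
  have hA : GrothLib.NagataFP.TF V A A := fun a m ha hm =>
    (smul_eq_zero.1 (show a • m = 0 from (algebraMap_smul A a m).symm.trans hm)).resolve_left ha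
  exact GrothLib.NagataFP.pdLE_of_tf _ hP hn hA M fun a m ha hm => (smul_eq_zero.1 (show a • m = 0 from (algebraMap_smul A a m).symm.trans hm)).resolve_left ha

end Groth.Agent.S16178
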