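import Groth.Statements.S16184
import Groth.Agent.Lib.SelfCent19.Semisimple
import Groth.Agent.Lib.Chev24.Tori
-- import your own Groth.Agent.* helpers here

set_option autoImplicit false
universe u
set_option linter.all false
set_option maxHeartbeats 2000000
set_option synthInstance.maxHeartbeats 200000
set_option backward.isDefEq.respectTransparency false
open CategoryTheory MonoidalCategory CartesianMonoidalCategory MonObj GrpObj AlgebraicGeometry
open AGF

namespace Groth.Agent.S16184

/-- Let G be a semisimple group over an algebraically closed field k and T ⊆ G a maximal torus. A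
character χ : T → 𝔾_m which is Weyl-invariant — χ ∘ φ = χ whenever φ : T → T is induced by
conjugation by a k-point of G carrying T into itself — is the trivial character. (In the source this
is the vanishing of the Weyl-invariants of the character lattice of the maximal torus of the derived
subgroup.) -/
theorem result (k : Type u) [Field k] [IsAlgClosed k]
    (G : Over (Spec (CommRingCat.of k))) [GrpObj G] (hG : Red.IsSemisimple G)
    (T : Over (Spec (CommRingCat.of k))) [GrpObj T] (iT : T ⟶ G) (hT : Red.IsMaximalTorus iT)
    (χ : T ⟶ Red.Gm (Spec (CommRingCat.of k))) [IsMonHom χ]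
    (hχ : ∀ (n : 𝟙_ (Over (Spec (CommRingCat.of k))) ⟶ G) (φ : T ⟶ T), φ ≫ iT = AGF.conjBy n iT → φ ≫ χ = χ) :
    χ = 1 := by
  have hR := GrothLib.SelfCent19.isReductive_of_isSemisimple hG
  obtain ⟨ha, hs, hc⟩ := GrothLib.UnipFix19.props_of_isReductive hR
  haveI := ha; haveI := hs; haveI := hc
  haveI : IsSeparated (Red.Gm (Spec (CommRingCat.of k))).hom := GrothLib.GrpSchField.isSeparated _
  refine GrothLib.SelfCent19.eq_one_of_invariant (GrothLib.SelfCent19.isReductiveOver_self hR)
    (fun R _ r _ => GrothLib.SelfCent19.isTrivialGrp_normal_torus hG R r) iT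
    (GrothLib.Chev24.isMaxTorus_of_isMaximalTorus hT) χ fun x e he => ?_
  exact hχ _ e.hom he

end Groth.Agent.S16184
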