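import Groth.Statements.S16185
import Groth.Agent.Lib.GorMor23.BaseChange
-- import your own Groth.Agent.* helpers here

set_option autoImplicit false
universe u
open CategoryTheory CategoryTheory.Limits AlgebraicGeometry
open Dual3

namespace Groth.Agent.S16185

/-- Let A be an Artinian local ring with maximal ideal m and let f : P → Spec A be a flat morphism of
schemes whose closed fibre X = P ×_{Spec A} Spec (A/m) is a Gorenstein scheme (locally Noetherian,
all local rings Gorenstein). Then f is a Gorenstein morphism: flat at every point with Gorenstein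
local rings on its fibres. (The source takes A to be a local Artinian algebra over a field k with
residue field k and X a k-scheme deformed flatly over A; the k-algebra structure plays no role, so
the residue field of A is used directly.) -/
theorem result
    {A : Type u} [CommRing A] [IsArtinianRing A] [IsLocalRing A]
    {P X : Scheme.{u}} (f : P ⟶ Spec (CommRingCat.of A)) [Flat f]
    (i : X ⟶ P) (q : X ⟶ Spec (CommRingCat.of (IsLocalRing.ResidueField A)))
    (hsq : IsPullback i q f (Spec.map (CommRingCat.ofHom (IsLocalRing.residue A))))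
    (hX : Dual3.IsGorenstein X) : Dual3.IsGorensteinMor f := by
  intro x
  refine ⟨Flat.stalkMap f x, ?_⟩
  let s : PrimeSpectrum A := f x
  have hs : s.asIdeal = IsLocalRing.maximalIdeal A := IsLocalRing.eq_maximalIdeal s.2.isMaximal'
  haveI : s.asIdeal.IsMaximal := hs ▸ IsLocalRing.maximalIdeal.isMaximal A
  let R := CommRingCat.of A
  let e₁ : (A ⧸ IsLocalRing.maximalIdeal A) ≃+* s.asIdeal.ResidueField :=
    (Ideal.quotEquivOfEq hs.symm).trans (RingEquiv.ofBijective (algebraMap (A ⧸ s.asIdeal) s.asIdeal.ResidueField)
      (Ideal.bijective_algebraMap_quotient_residueField s.asIdeal))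
  have he₁ : ∀ a : A, e₁ (IsLocalRing.residue A a) = algebraMap A s.asIdeal.ResidueField a := fun a => by
    exact (IsScalarTower.algebraMap_apply A (A ⧸ s.asIdeal) s.asIdeal.ResidueField a).symm
  let φ : CommRingCat.of (IsLocalRing.ResidueField A) ≅ (Spec R).residueField (f x) :=
    RingEquiv.toCommRingCatIso e₁ ≪≫ (Scheme.Spec.residueFieldIso R s).symm
  have hw : Spec.map φ.hom ≫ Spec.map (CommRingCat.ofHom (IsLocalRing.residue A)) = (Spec R).fromSpecResidueField (f x) := by
    rw [← Spec.map_comp]
    refine Eq.trans (congrArg Spec.map ?_)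
      ((Spec.map_comp _ _).trans (Scheme.Spec.map_residueFieldIso_inv_eq_fromSpecResidueField R s))
    simp only [φ, Iso.trans_hom, Iso.symm_hom, ← Category.assoc]
    congr 1
  have hsq' : IsPullback (f.fiberι (f x)) (f.fiberToSpecResidueField (f x) ≫ Spec.map φ.hom) f
      (Spec.map (CommRingCat.ofHom (IsLocalRing.residue A))) :=
    (IsPullback.of_hasPullback f ((Spec R).fromSpecResidueField (f x))).of_iso (Iso.refl _) (Iso.refl _)
      (Scheme.Spec.mapIso φ.op) (Iso.refl _) ((Category.comp_id _).trans (Category.id_comp _).symm) (Category.id_comp _).symm ((Category.comp_id _).trans (Category.id_comp _).symm)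
      ((Category.comp_id _).trans hw.symm)
  let E : f.fiber (f x) ≅ X := hsq'.isoIsPullback _ _ hsq
  haveI := hX.2 (E.hom (f.asFiber x))
  exact GrothLib.GorEquiv.of_ringEquiv (asIso (E.hom.stalkMap (f.asFiber x))).commRingCatIsoToRingEquiv

end Groth.Agent.S16185
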