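import Groth.Statements.S16186
-- import your own Groth.Agent.* helpers here
import Groth.Agent.Lib.GenSmoothing26.Main

set_option autoImplicit false
universe u
open CategoryTheory CategoryTheory.Limits AlgebraicGeometry
open Deform

set_option backward.isDefEq.respectTransparency false
set_option linter.style.haveILetI false

noncomputable section

open GrothLib

namespace Groth.Agent.S16186

/-- Let k be an algebraically closed field and let p : P → Spec k[[t]] be flat and projective, i.e. P is
a closed subscheme of a projective space over k[[t]] compatibly with p; let X be its closed fibre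
over k and suppose the generic fibre P ⊗ Frac k[[t]] is smooth. Then X is geometrically smoothable:
there exist an affine integral curve C, smooth of dimension one over k, a k-rational point c of C
and a flat proper morphism Y → C whose fibre over c is isomorphic to X over k and whose fibre over
the generic point of C is smooth. (The source's statement is the equivalence, for X reduced
projective and equidimensional over an algebraically closed field of characteristic zero with H^2(X,
O_X) = 0 or with X Gorenstein and its dualizing sheaf or the dual of it ample, between the existence
of a formal smoothing and of a geometric smoothing; its proof first turns a formal smoothing into a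
smoothing over Spec k[[t]] and then runs the argument stated here, which uses neither characteristic
zero nor the hypotheses on X.) -/
theorem result
    (k : Type u) [Field k] [IsAlgClosed k]
    (X : Scheme.{u}) (pX : X ⟶ Spec (CommRingCat.of k))
    (P : Scheme.{u}) (p : P ⟶ Spec (CommRingCat.of (PowerSeries k))) [Flat p]
    (hproj : ∃ (d : ℕ) (ι : P ⟶ CohB1.ProjSpace d (PowerSeries k)), IsClosedImmersion ι ∧
      ι ≫ CohB1.ProjSpace.toSpec d (PowerSeries k) = p)
    (i : X ⟶ P)
    (hX : IsPullback i pX p (Spec.map (CommRingCat.ofHom (PowerSeries.constantCoeff (R := k)))))
    (hgen : Smooth (pullback.snd p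
      (Spec.map (CommRingCat.ofHom (algebraMap (PowerSeries k) (FractionRing (PowerSeries k)))))))
    : ∃ (C : Scheme.{u}) (qC : C ⟶ Spec (CommRingCat.of k)) (c : Spec (CommRingCat.of k) ⟶ C)
      (_ : c ≫ qC = 𝟙 (Spec (CommRingCat.of k))) (_ : IsIntegral C) (_ : IsAffine C) (_ : Smooth qC)
      (_ : topologicalKrullDim C = 1)
      (Y : Scheme.{u}) (π : Y ⟶ C) (_ : Flat π) (_ : IsProper π) (j : X ⟶ Y)
      (η : C) (_ : closure ({η} : Set C) = Set.univ),
      IsPullback j pX π c ∧ Smooth (π.fiberToSpecResidueField η) := by
  obtain ⟨d, ι, hι, rfl⟩ := hproj
  haveI : IsProper (CohB1.ProjSpace.toSpec d (PowerSeries k)) := Chow.isProper_toSpec d _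
  haveI := hι
  exact GrothLib.GenSmoothing26.exists_smoothing pX _ i hX hgen

end Groth.Agent.S16186
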