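import Groth.Statements.S16188
import Groth.Agent.Lib.RedSub.Basic

set_option autoImplicit false
universe u
open CategoryTheory AlgebraicGeometry TopologicalSpace
open SchMor

namespace Groth.Agent.S16188

/-- Let f : X → Y be a morphism of schemes with X reduced and irreducible. Then f factors through an
irreducible component of Y carrying its reduced closed-subscheme structure: there are an irreducible
component Z of Y and a morphism g from X to the closed subscheme of Y cut out by the vanishing ideal
sheaf of Z with g followed by the inclusion equal to f; that closed subscheme is integral. -/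
theorem result
    {X Y : Scheme.{u}} (f : X ⟶ Y) [IsReduced X] [IrreducibleSpace X] :
    ∃ (Z : Closeds Y) (_ : (Z : Set Y) ∈ irreducibleComponents Y)
      (_ : IsIntegral (Scheme.IdealSheafData.vanishingIdeal Z).subscheme)
      (g : X ⟶ (Scheme.IdealSheafData.vanishingIdeal Z).subscheme),
      g ≫ (Scheme.IdealSheafData.vanishingIdeal Z).subschemeι = f := by
  obtain ⟨Z₀, hZ₀, hle⟩ := exists_mem_irreducibleComponents_subset_of_isIrreducible (Set.range f)
    (by rw [← Set.image_univ]; exact (IrreducibleSpace.isIrreducible_univ X).image _ f.continuous.continuousOn)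
  let Z : Closeds Y := ⟨Z₀, isClosed_of_mem_irreducibleComponents _ hZ₀⟩
  have := GrothLib.RedSub.isReduced_subscheme_vanishingIdeal Z
  have hr := GrothLib.RedSub.range_subschemeι_vanishingIdeal Z
  have : IrreducibleSpace (Scheme.IdealSheafData.vanishingIdeal Z).subscheme := by
    let ι' := (Scheme.IdealSheafData.vanishingIdeal Z).subschemeι
    have hp : IsPreirreducible (Set.univ : Set (Scheme.IdealSheafData.vanishingIdeal Z).subscheme) := by
      have h2 : IsIrreducible (Set.range ι'.base) := hr.symm ▸ hZ₀.1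
      intro u v hu hv ⟨a, _, ha⟩ ⟨b, _, hb⟩
      obtain ⟨u', hu', rfl⟩ := ι'.isEmbedding.isInducing.isOpen_iff.mp hu
      obtain ⟨v', hv', rfl⟩ := ι'.isEmbedding.isInducing.isOpen_iff.mp hv
      obtain ⟨_, ⟨c, rfl⟩, hc⟩ := h2.2 u' v' hu' hv' ⟨_, ⟨a, rfl⟩, ha⟩ ⟨_, ⟨b, rfl⟩, hb⟩
      exact ⟨c, trivial, hc⟩
    have : PreirreducibleSpace (Scheme.IdealSheafData.vanishingIdeal Z).subscheme := ⟨hp⟩
    obtain ⟨z, hz⟩ := hZ₀.1.nonempty
    obtain ⟨w, -⟩ := hr.ge hz
    exact ⟨⟨w⟩⟩
  have hint : IsIntegral (Scheme.IdealSheafData.vanishingIdeal Z).subscheme :=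
    isIntegral_of_irreducibleSpace_of_isReduced _
  obtain ⟨g, hg⟩ := GrothLib.RedSub.exists_lift f (Scheme.IdealSheafData.vanishingIdeal Z).subschemeι
    (hr.symm ▸ hle)
  exact ⟨Z, hZ₀, hint, g, hg⟩

end Groth.Agent.S16188
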