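import Groth.Statements.S16189
import Groth.Agent.S3637
import Groth.Agent.S3624
import Groth.Agent.Lib.Gor.Basic
import Groth.Agent.Lib.AlgSp.GorBaseChange
import Groth.Agent.Lib.FMAdj25.BaseChange
import Groth.Agent.Lib.FMAdj25.LocUnitDeg
import Groth.Agent.Lib.DualRing.SchemePull
import Mathlib.RingTheory.PowerSeries.Inverse

set_option autoImplicit false
set_option maxHeartbeats 1000000
set_option linter.style.haveILetI false
set_option backward.isDefEq.respectTransparency false
universe u
open CategoryTheory CategoryTheory.Limits AlgebraicGeometry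
attribute [local instance] HasDerivedCategory.standard
open Deform

namespace Groth.Agent.S16189

theorem surjective_level_zero (k : Type u) [Field k] : Function.Surjective
    ((Ideal.Quotient.mk (Ideal.span {PowerSeries.X (R := k)} ^ (0 + 1))).comp (algebraMap k (PowerSeries k))) := by
  intro y
  obtain ⟨g, rfl⟩ := Ideal.Quotient.mk_surjective y
  refine ⟨PowerSeries.constantCoeff g, ?_⟩
  rw [RingHom.comp_apply, Ideal.Quotient.eq, zero_add, pow_one, Ideal.mem_span_singleton, PowerSeries.X_dvd_iff]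
  simp [PowerSeries.algebraMap_apply]

theorem isIso_level_zero (k : Type u) [Field k] : IsIso (Spec.map (CommRingCat.ofHom
    ((Ideal.Quotient.mk (Ideal.span {PowerSeries.X (R := k)} ^ (0 + 1))).comp (algebraMap k (PowerSeries k))))) := by
  haveI : Nontrivial (PowerSeries k ⧸ Ideal.span {PowerSeries.X (R := k)} ^ (0 + 1)) := by
    rw [Ideal.Quotient.nontrivial_iff, zero_add, pow_one, Ne, Ideal.span_singleton_eq_top,
      PowerSeries.isUnit_iff_constantCoeff]
    simp
  let φ := (Ideal.Quotient.mk (Ideal.span {PowerSeries.X (R := k)} ^ (0 + 1))).comp (algebraMap k (PowerSeries k))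
  haveI : IsIso (CommRingCat.ofHom φ) :=
    (RingEquiv.ofBijective φ ⟨φ.injective, surjective_level_zero k⟩).toCommRingCatIso.isIso_hom
  infer_instance

theorem surjective_specQuotTrans {A : Type u} [CommRing A] (I : Ideal A) (m : ℕ) :
    Surjective (CohB1.specQuotTrans I m) := by
  refine ⟨fun q => ?_⟩
  let J := q.asIdeal.comap (Ideal.Quotient.mk (I ^ (m + 2)))
  have hI : I ≤ J := by
    haveI : J.IsPrime := Ideal.IsPrime.comap _
    refine (Ideal.IsPrime.pow_le_iff (Nat.succ_ne_zero (m + 1))).1 fun a ha => ?_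
    show Ideal.Quotient.mk (I ^ (m + 2)) a ∈ q.asIdeal
    rw [Ideal.Quotient.eq_zero_iff_mem.2 ha]
    exact q.asIdeal.zero_mem
  refine Set.mem_range.1 ?_
  show q ∈ Set.range (PrimeSpectrum.comap (Ideal.Quotient.factor (Ideal.pow_le_pow_right (Nat.le_succ (m + 1)))))
  rw [range_comap_of_surjective _ _ (Ideal.Quotient.factor_surjective _)]
  refine (PrimeSpectrum.mem_zeroLocus _ _).2 ?_
  intro z hz
  obtain ⟨a, rfl⟩ := Ideal.Quotient.mk_surjective z
  rw [SetLike.mem_coe, RingHom.mem_ker, Ideal.Quotient.factor_mk, Ideal.Quotient.eq_zero_iff_mem] at hz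
  exact (Ideal.pow_le_self (Nat.succ_ne_zero m)).trans hI hz

/-- Let k be a field and X a projective Gorenstein k-scheme, equidimensional of dimension n, and let ω_X
be its dualizing module, the cohomology sheaf in degree -n of f^! O for f : X → Spec k (computed
through an assumed right adjoint of Rf_* on D_QCoh, as the shared prelude presents f^!). Let 𝔛 → Spf
k[[t]] be a formal deformation of X: an adic morphism of systems of thickenings to the system (Spec
k[[t]]/(t^{m+1}))_m whose levels X_m → Spec k[[t]]/(t^{m+1}) are all flat and proper, together with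
an isomorphism of X with the level-0 scheme compatible with the structure maps to Spec k. Then ω_X
extends to an invertible formal sheaf on 𝔛: there is a system (L_m)_m of invertible O_{X_m}-modules
with transition isomorphisms L_{m+1}|_{X_m} ≅ L_m whose level-0 term pulls back to a module
isomorphic to ω_X (existence of an isomorphism only). (The published statement adds that this
invertible formal sheaf is unique; the proof gives existence only, and uniqueness fails already for
the constant deformation of an elliptic curve, whose trivial dualizing module extends both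
constantly and along a non-constant formal family of degree-zero invertible sheaves. The published
setting is an algebraically closed field of characteristic zero and a Gorenstein X with locally
constant dimension; the proof uses neither property of k, and a single dimension n is fixed here.) -/
theorem result
    (k : Type u) [Field k] (X : Scheme.{u}) [X.Over (Spec (CommRingCat.of k))]
    (hproj : ∃ (d : ℕ) (ι : X ⟶ CohB1.ProjSpace d k), IsClosedImmersion ι ∧
      ι ≫ CohB1.ProjSpace.toSpec d k = X ↘ Spec (CommRingCat.of k))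
    (hG : Dual3.IsGorenstein X) (n : ℕ)
    (hequi : ∀ Z ∈ irreducibleComponents (X : Type u), topologicalKrullDim Z = n)
    [DCoh.HasRpush (X ↘ Spec (CommRingCat.of k))] (h : DCoh.RpushPreservesQCoh (X ↘ Spec (CommRingCat.of k)))
    [DCoh.HasShriek (X ↘ Spec (CommRingCat.of k)) h]
    (OY : DCoh.DQCoh (Spec (CommRingCat.of k)))
    (hOY : Nonempty (OY.obj ≅ DCoh.inD (Spec (CommRingCat.of k)) (Coh.structureModule (Spec (CommRingCat.of k)))))
    (𝔛 : FSch.Sys.{u}) (𝔣 : 𝔛 ⟶ FSch.spf (PowerSeries k) (Ideal.span {PowerSeries.X (R := k)}))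
    (hadic : FSch.IsAdicHom 𝔣)
    (hflat : ∀ m : ℕ, Flat (FSch.Hom.app 𝔣 m)) (hprop : ∀ m : ℕ, IsProper (FSch.Hom.app 𝔣 m))
    (e : X ≅ 𝔛.X 0)
    (he : e.hom ≫ FSch.Hom.app 𝔣 0 ≫ Spec.map (CommRingCat.ofHom
      ((Ideal.Quotient.mk (Ideal.span {PowerSeries.X (R := k)} ^ (0 + 1))).comp (algebraMap k (PowerSeries k)))) =
      X ↘ Spec (CommRingCat.of k)) :
    ∃ 𝔏 : FSch.ModSys 𝔛, (∀ m : ℕ, PicF.IsInvertible (𝔏.F m)) ∧
      Nonempty ((Scheme.Modules.pullback e.hom).obj (𝔏.F 0) ≅
        DCoh.dualizingMod (X ↘ Spec (CommRingCat.of k)) h OY n) := by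
  obtain ⟨d, ι, hι, -⟩ := hproj
  haveI : IsProper (X ↘ Spec (CommRingCat.of k)) := by
    rw [← he]
    haveI : IsProper (FSch.Hom.app 𝔣 0) := hprop 0
    haveI : IsClosedImmersion (Spec.map (CommRingCat.ofHom
      ((Ideal.Quotient.mk (Ideal.span {PowerSeries.X (R := k)} ^ (0 + 1))).comp (algebraMap k (PowerSeries k))))) :=
      IsClosedImmersion.spec_of_surjective _ (surjective_level_zero k)
    infer_instance
  obtain ⟨eY⟩ := hOY
  let S := FSch.spf (PowerSeries k) (Ideal.span {PowerSeries.X (R := k)})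
  let f : ∀ m, 𝔛.X m ⟶ S.X m := fun m => FSch.Hom.app 𝔣 m
  haveI : ∀ m, IsProper (f m) := hprop
  haveI : ∀ m, Flat (f m) := hflat
  haveI : ∀ m, AlgebraicGeometry.IsNoetherian (S.X m) := fun m =>
    inferInstanceAs (AlgebraicGeometry.IsNoetherian
      (Spec (CommRingCat.of (PowerSeries k ⧸ Ideal.span {PowerSeries.X (R := k)} ^ (m + 1)))))
  haveI : ∀ m, AlgebraicGeometry.IsNoetherian (𝔛.X m) := fun m => GrothLib.RightAdj22.isNoetherian_of_proper (f m)
  haveI : ∀ m, LocallyOfFinitePresentation (f m) := fun m => inferInstance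
  haveI : ∀ m, DCoh.HasRpush (f m) := fun m => GrothLib.KInj.hasRightDerivedFunctor _
  let hR := fun m => GrothLib.FMAdj25.rpushPreservesQCoh (f m)
  haveI : ∀ m, DCoh.HasShriek (f m) (hR m) := fun m =>
    ((GrothLib.RightAdj22.aQAdj (f m)).ofNatIsoLeft (GrothLib.RightAdj22.rpushQIso (f m) (hR m)).symm).isLeftAdjoint
  let O : ∀ m, DCoh.DQCoh (S.X m) := fun m =>
    ⟨DCoh.inD _ (Coh.structureModule _), GrothLib.OX.isQCohD_of_isPerfect (GrothLib.OX.isPerfect_unit _)⟩
  have hs : ∀ m, Surjective (S.ι m) := fun m => surjective_specQuotTrans _ m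
  have hsX : ∀ m, Surjective (𝔛.ι m) := fun m =>
    MorphismProperty.of_isPullback (P := @Surjective) (hadic m).flip (hs m)
  have hGm : ∀ m, Dual3.IsGorensteinMor (f m) := by
    intro m
    induction m with
    | zero => exact (S3624.result _ _ (f 0) (GrothLib.AlgSp.isGorenstein_of_iso e.symm hG)).1
    | succ m ih =>
      haveI : LocallyOfFiniteType (S.ι m) := by
        haveI : IsClosedImmersion (S.ι m) := IsClosedImmersion.spec_of_surjective _
          (Ideal.Quotient.factor_surjective (Ideal.pow_le_pow_right (Nat.le_succ (m + 1))))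
        infer_instance
      intro x
      obtain ⟨y, rfl⟩ := (hsX m).surj x
      have hfib : ∀ z, IsLocallyNoetherian ((f (m + 1)).fiber z) := fun z =>
        haveI : LocallyOfFiniteType ((f (m + 1)).fiberToSpecResidueField z) :=
          inferInstanceAs (LocallyOfFiniteType (pullback.snd (f (m + 1)) ((S.X (m + 1)).fromSpecResidueField z)))
        LocallyOfFiniteType.isLocallyNoetherian ((f (m + 1)).fiberToSpecResidueField z)
      exact (GrothLib.GorMor23.isGorensteinAt_iff _ _).2 ⟨Flat.stalkMap _ _,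
        (GrothLib.GorMor23.isGorensteinAt_baseChange_iff hfib (hadic m) y).1
          ((GrothLib.GorMor23.isGorensteinAt_iff _ _).1 (ih y)).2⟩
  have hl := fun m => GrothLib.FMAdj25.locUnit_dualizingCx (f m) (hGm m) (hR m) (O m) (Iso.refl _)
  haveI : ∀ m, DCoh.HasLpull (𝔛.ι m) := fun m => GrothLib.OX.hasLpull _
  have hbc : ∀ m, Nonempty ((DCoh.Lpull (𝔛.ι m)).obj (DCoh.dualizingCx (f (m + 1)) (hR (m + 1)) (O (m + 1))) ≅
      DCoh.dualizingCx (f m) (hR m) (O m)) := fun m =>
    GrothLib.FMAdj25.nonempty_dualizingCx_bc' (hadic m) (hR (m + 1)) (hR m) (O (m + 1)) (Iso.refl _) (O m) (Iso.refl _)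
  -- the special fibre
  let ρ : S.X 0 ⟶ Spec (CommRingCat.of k) := Spec.map (CommRingCat.ofHom
    ((Ideal.Quotient.mk (Ideal.span {PowerSeries.X (R := k)} ^ (0 + 1))).comp (algebraMap k (PowerSeries k))))
  haveI : IsIso ρ := isIso_level_zero k
  have hsq : IsPullback e.hom (X ↘ Spec (CommRingCat.of k)) (f 0) (inv ρ) := IsPullback.of_horiz_isIso ⟨by
    rw [← he, Category.assoc, Category.assoc, IsIso.hom_inv_id, Category.comp_id]⟩
  haveI : AlgebraicGeometry.IsNoetherian X := GrothLib.RightAdj22.isNoetherian_of_proper (X ↘ Spec (CommRingCat.of k))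
  haveI := GrothLib.OX.hasLpull e.hom
  haveI := GrothLib.OX.additive_pullback e.hom
  haveI := GrothLib.OX.preservesFiniteLimits_pullback_of_flat e.hom
  obtain ⟨c⟩ := GrothLib.FMAdj25.nonempty_dualizingCx_bc' hsq (hR 0) h (O 0) (Iso.refl _) OY eY
  obtain ⟨l⟩ := GrothLib.DualRing.nonempty_lpull_flat e.hom
  let hdX : ∀ i : ℤ, (Scheme.Modules.pullback e.hom).obj (DCoh.HD (DCoh.dualizingCx (f 0) (hR 0) (O 0)) i) ≅
      DCoh.HD (DCoh.dualizingCx (X ↘ Spec (CommRingCat.of k)) h OY) i := fun i =>
    ((GrothLib.DerTrunc.homologyMapIso _ _).app _).symm ≪≫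
      (DerivedCategory.homologyFunctor _ i).mapIso ((l.app _).symm ≪≫ c)
  have hX := (S3637.result k X (X ↘ Spec (CommRingCat.of k))
    (fun x => haveI := hG.2 x; GrothLib.Gor.isCohenMacaulayLocalRing _) n hequi h _
    (DCoh.shriekAdj (X ↘ Spec (CommRingCat.of k)) h) OY ⟨eY⟩).1
  have hdeg : ∀ m, ∀ i : ℤ, i ≠ -(n : ℤ) → IsZero (DCoh.HD (DCoh.dualizingCx (f m) (hR m) (O m)) i) := by
    intro m
    induction m with
    | zero =>
      intro i hi
      refine ((Scheme.Modules.pullback e.inv).map_isZero ((hX i hi).of_iso (hdX i))).of_iso ?_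
      exact ((Scheme.Modules.pullbackId _).app _).symm ≪≫ (Scheme.Modules.pullbackCongr e.inv_hom_id.symm).app _ ≪≫
        ((Scheme.Modules.pullbackComp e.inv e.hom).app _).symm
    | succ m ih =>
      haveI := hsX m
      exact GrothLib.FMAdj25.degree_of_lpull (𝔛.ι m) (hl (m + 1)) (hbc m).some ih
  let L : ∀ m, (𝔛.X m).Modules := fun m => DCoh.HD (DCoh.dualizingCx (f m) (hR m) (O m)) (-(n : ℤ))
  have hL := fun m => GrothLib.FMAdj25.exists_invertible_single (hl m) (hdeg m)
  have ht : ∀ m, Nonempty ((Scheme.Modules.pullback (𝔛.ι m)).obj (L (m + 1)) ≅ L m) := fun m => by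
    obtain ⟨a⟩ := (hL (m + 1)).2
    obtain ⟨b⟩ := hbc m
    obtain ⟨t⟩ := GrothLib.FMAdj25.nonempty_lpull_single (𝔛.ι m) (hL (m + 1)).1 (-(n : ℤ))
    exact ⟨(GrothLib.FMAdj25.HDSingleIso _ _).symm ≪≫
      (DerivedCategory.homologyFunctor _ _).mapIso (t.symm ≪≫ (DCoh.Lpull _).mapIso a.symm ≪≫ b)⟩
  exact ⟨⟨L, fun m => (ht m).some⟩, fun m => (hL m).1, ⟨hdX (-(n : ℤ))⟩⟩

end Groth.Agent.S16189
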