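import Groth.Statements.S1619
import Groth.Agent.Lib.AffDom.Over

set_option autoImplicit false
universe u
open CategoryTheory CategoryTheory.Limits AlgebraicGeometry
attribute [local instance] Curv2.stalkAlgebra Curv2.resAlgebra
open Variety

namespace Groth.Agent.S1619

/-- Let X be irreducible and locally of finite type over a field k, with generic point ξ. If the residue
field of ξ has transcendence degree n over k then X has Krull dimension n. -/
theorem result (k : Type u) [Field k] (X : Scheme.{u}) [X.Over (Spec (CommRingCat.of k))] [LocallyOfFiniteType (X ↘ (Spec (CommRingCat.of k)))] [IrreducibleSpace X]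
    (n : ℕ) (hn : Algebra.trdeg k (X.residueField (genericPoint X)) = n) : topologicalKrullDim X = n := by
  rw [← GrothLib.AffDom.ptDim_eq_of_trdeg_eq k X _ n hn]
  refine le_antisymm ?_ (GrothLib.AffDom.ptDim_le _)
  rw [GrothLib.AffDom.topologicalKrullDim_eq_iSup_ptDim]
  exact iSup_le fun x => GrothLib.AffDom.ptDim_mono (genericPoint_specializes x)

end Groth.Agent.S1619
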