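import Groth.Statements.S16190
import Groth.Agent.Lib.Taylor10.Basic
import Groth.Agent.Lib.CurvePoints.Basic
import Groth.Agent.Lib.GrpSchField.SmoothRegular
import Mathlib

set_option autoImplicit false
universe u
open CategoryTheory CategoryTheory.Limits AlgebraicGeometry
open Deform

namespace Groth.Agent.S16190

/-- Let k be an algebraically closed field and let X have a geometric smoothing, i.e. there are an
integral k-scheme C smooth of dimension one over k, a k-rational point c of C and a flat proper
morphism π : Y → C whose fibre over c is X (as a k-scheme) and whose fibre over the generic point of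
C is smooth. Then X has a smoothing over Spec k[[t]]: a flat proper morphism P → Spec k[[t]] with
closed fibre X over k and smooth generic fibre P ⊗ Frac k[[t]]. (The published lemma concludes that
X, assumed projective and equidimensional, is formally smoothable; its proof builds exactly this
family over the completed local ring of C at c, identified with k[[t]], and then appeals to a
criterion equating smoothings over a discrete valuation ring with formal smoothings, which is not
restated; the hypotheses on X are not used in the step stated.) -/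
theorem result
    (k : Type u) [Field k] [IsAlgClosed k]
    (X : Scheme.{u}) (pX : X ⟶ Spec (CommRingCat.of k))
    (C : Scheme.{u}) (qC : C ⟶ Spec (CommRingCat.of k)) (c : Spec (CommRingCat.of k) ⟶ C)
    (hc : c ≫ qC = 𝟙 (Spec (CommRingCat.of k))) [IsIntegral C] [Smooth qC]
    (hC : topologicalKrullDim C = 1)
    (Y : Scheme.{u}) (π : Y ⟶ C) [Flat π] [IsProper π] (j : X ⟶ Y) (hsq : IsPullback j pX π c)
    (hgen : Smooth (π.fiberToSpecResidueField (genericPoint C))) :
    ∃ (P : Scheme.{u}) (p : P ⟶ Spec (CommRingCat.of (PowerSeries k))) (_ : Flat p) (_ : IsProper p)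
      (i : X ⟶ P),
      IsPullback i pX p (Spec.map (CommRingCat.ofHom (PowerSeries.constantCoeff (R := k)))) ∧
      Smooth (pullback.snd p
        (Spec.map (CommRingCat.ofHom (algebraMap (PowerSeries k) (FractionRing (PowerSeries k)))))) := by
  haveI : IsLocallyNoetherian C := LocallyOfFiniteType.isLocallyNoetherian qC
  haveI : JacobsonSpace ↥C := LocallyOfFiniteType.jacobsonSpace qC
  haveI : IsImmersion (c ≫ qC) := by rw [hc]; infer_instance
  haveI : IsImmersion c := IsImmersion.of_comp c qC
  let pt : ↥(Spec (CommRingCat.of k)) := IsLocalRing.closedPoint k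
  let x : C := c pt
  have hrange : Set.range c = {x} := Set.eq_singleton_iff_unique_mem.mpr
    ⟨⟨pt, rfl⟩, fun _ ⟨y, hy⟩ => hy ▸ congrArg c (Subsingleton.elim y pt)⟩
  have hxc : IsClosed ({x} : Set C) :=
    isClosed_singleton_of_isLocallyClosed_singleton (hrange ▸ IsImmersion.isLocallyClosed_range)
  have hxη : x ≠ genericPoint C := fun h =>
    GrothLib.CurvePoints.genericPoint_not_isClosed hC (h ▸ hxc)
  haveI := GrothLib.GrpSchField.isRegularLocalRing_stalk_of_smooth qC hxc
  have hdim := GrothLib.CurvePoints.ringKrullDim_stalk hC.le hxη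
  haveI : IsDiscreteValuationRing (C.presheaf.stalk x) := by
    have hnf : ¬ IsField (C.presheaf.stalk x) := fun hF => by
      rw [ringKrullDim_eq_zero_of_isField hF] at hdim
      exact zero_ne_one hdim
    refine ((IsDiscreteValuationRing.TFAE _ hnf).out 0 4).2 ?_
    have h1 := IsRegularLocalRing.spanFinrank_maximalIdeal (R := C.presheaf.stalk x)
    rw [hdim] at h1
    have h2 : (IsLocalRing.maximalIdeal (C.presheaf.stalk x)).spanFinrank = 1 := by exact_mod_cast h1
    exact ((Submodule.spanFinrank_eq_one_iff _).mp h2).1
  let ev : C.presheaf.stalk x ⟶ CommRingCat.of k := Scheme.stalkClosedPointTo c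
  haveI : IsLocalHom ev.hom := inferInstanceAs (IsLocalHom (Scheme.stalkClosedPointTo c).hom)
  have hev : Spec.map ev ≫ C.fromSpecStalk x = c := Scheme.Spec_stalkClosedPointTo_fromSpecStalk c
  let φ : CommRingCat.of k ⟶ C.presheaf.stalk x := Spec.preimage (C.fromSpecStalk x ≫ qC)
  have hφ : φ ≫ ev = 𝟙 _ := Spec.map_injective <| by
    rw [Spec.map_comp, Spec.map_preimage, ← Category.assoc, hev, hc, Spec.map_id]
  obtain ⟨ψ, hψ₁, hψinj⟩ := GrothLib.Taylor10.exists_powerSeries_hom φ.hom ev.hom (congrArg CommRingCat.Hom.hom hφ)
  let g : Spec (CommRingCat.of (PowerSeries k)) ⟶ C := Spec.map (CommRingCat.ofHom ψ) ≫ C.fromSpecStalk x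
  let cc : Spec (CommRingCat.of k) ⟶ Spec (CommRingCat.of (PowerSeries k)) :=
    Spec.map (CommRingCat.ofHom (PowerSeries.constantCoeff (R := k)))
  have hcc : cc ≫ g = c := by
    rw [← Category.assoc, ← Spec.map_comp, show CommRingCat.ofHom ψ ≫ CommRingCat.ofHom
      (PowerSeries.constantCoeff (R := k)) = ev from CommRingCat.hom_ext hψ₁, hev]
  have hw : j ≫ π = (pX ≫ cc) ≫ g := by rw [Category.assoc, hcc, hsq.w]
  let i : X ⟶ pullback π g := pullback.lift j (pX ≫ cc) hw
  refine ⟨pullback π g, pullback.snd π g, inferInstance, inferInstance, i, ?_, ?_⟩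
  · refine IsPullback.of_right ?_ (pullback.lift_snd _ _ _) (IsPullback.of_hasPullback π g)
    rw [pullback.lift_fst, hcc]
    exact hsq
  · let gen : Spec (CommRingCat.of (FractionRing (PowerSeries k))) ⟶ Spec (CommRingCat.of (PowerSeries k)) :=
      Spec.map (CommRingCat.ofHom (algebraMap (PowerSeries k) (FractionRing (PowerSeries k))))
    have hgη : (gen ≫ g) (IsLocalRing.closedPoint (FractionRing (PowerSeries k))) = genericPoint C := by
      have hbot : Spec.map (CommRingCat.ofHom ψ) (gen (IsLocalRing.closedPoint (FractionRing (PowerSeries k)))) =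
          (⊥ : PrimeSpectrum (C.presheaf.stalk x)) := by
        refine PrimeSpectrum.ext ?_
        show ((IsLocalRing.maximalIdeal (FractionRing (PowerSeries k))).comap _).comap ψ = ⊥
        rw [IsLocalRing.maximalIdeal_eq_bot, Ideal.comap_bot_of_injective (CommRingCat.ofHom (algebraMap (PowerSeries k) (FractionRing (PowerSeries k)))).hom (IsFractionRing.injective (PowerSeries k) (FractionRing (PowerSeries k))),
          Ideal.comap_bot_of_injective _ hψinj]
      show C.fromSpecStalk x (Spec.map (CommRingCat.ofHom ψ) (gen _)) = _
      rw [hbot]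
      obtain ⟨p, hp⟩ : genericPoint C ∈ Set.range (C.fromSpecStalk x) := by
        rw [Scheme.range_fromSpecStalk]
        exact (genericPoint_spec C).specializes trivial
      refine (Specializes.antisymm ?_ ((genericPoint_spec C).specializes trivial)).eq
      rw [← hp]
      exact ((PrimeSpectrum.le_iff_specializes (⊥ : PrimeSpectrum (C.presheaf.stalk x)) p).mp bot_le).map
        (C.fromSpecStalk x).continuous
    have key : ∀ (η : C), (gen ≫ g) (IsLocalRing.closedPoint (FractionRing (PowerSeries k))) = η →
        ∃ h : Spec (CommRingCat.of (FractionRing (PowerSeries k))) ⟶ Spec (C.residueField η),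
          h ≫ C.fromSpecResidueField η = gen ≫ g := by
      rintro η rfl
      exact ⟨_, Scheme.descResidueField_stalkClosedPointTo_fromSpecResidueField _ _ (gen ≫ g)⟩
    obtain ⟨h, hh⟩ := key _ hgη
    have hbig := (IsPullback.of_hasPullback (pullback.snd π g) gen).paste_horiz (IsPullback.of_hasPullback π g)
    rw [← hh] at hbig
    have hfib : IsPullback (π.fiberι (genericPoint C)) (π.fiberToSpecResidueField (genericPoint C)) π
        (C.fromSpecResidueField (genericPoint C)) := IsPullback.of_hasPullback _ _
    exact MorphismProperty.of_isPullback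
      (IsPullback.of_right (h₁₁ := hfib.lift _ (pullback.snd (pullback.snd π g) gen ≫ h) (by rw [Category.assoc]; exact hbig.w))
        (by rw [hfib.lift_fst]; exact hbig) (hfib.lift_snd _ _ _) hfib) hgen

end Groth.Agent.S16190
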