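import Groth.Statements.S16193
import Mathlib
import Groth.Agent.Lib.JacExt1.FormalInst
import Groth.Agent.Lib.Fitting.Support
-- import your own Groth.Agent.* helpers here

set_option autoImplicit false
universe u
open CategoryTheory
open Fitt

namespace Groth.Agent.S16193

/-- (2) ⇔ (5): let k be an algebraically closed field, R = k[[t]], and B a quotient of the t-adic
completion Ã of R[T_1, …, T_r] by (a_1, …, a_c) with B Noetherian, t-adically complete and flat over
R, the images of a_1, …, a_c in Ã/t^{n+1}Ã a regular sequence for every n, and B/tB reduced; let Ω̂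
be the t-adic completion of Ω_{B/R} and T^1 = Ext^1_B(Ω̂, B). Then some power of t lies in the (r -
c)-th Fitting ideal of Ω̂ if and only if some power of t annihilates T^1. (For a flat local complete
intersection formal family 𝔛 → Spf k[[t]] with reduced, proper closed fibre, the first condition for
every chart says that 𝔛 is a formal smoothing of its closed fibre.) -/
theorem result
    (k : Type u) [Field k] [IsAlgClosed k] (r c : ℕ)
    (a : Fin c → AdicCompletion (Ideal.span {MvPolynomial.C (σ := Fin r) (PowerSeries.X (R := k))}) (MvPolynomial (Fin r) (PowerSeries k)))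
    (B : Type u) [CommRing B] [Algebra (PowerSeries k) B] [IsNoetherianRing B]
    [IsAdicComplete (Ideal.span {algebraMap (PowerSeries k) B PowerSeries.X}) B]
    [Module.Flat (PowerSeries k) B]
    (ψ : AdicCompletion (Ideal.span {MvPolynomial.C (σ := Fin r) (PowerSeries.X (R := k))}) (MvPolynomial (Fin r) (PowerSeries k)) →ₐ[PowerSeries k] B)
    (hψ : Function.Surjective ψ) (hker : RingHom.ker ψ.toRingHom = Ideal.span (Set.range a))
    (hreg : ∀ n : ℕ, RingTheory.Sequence.IsRegular
      (AdicCompletion (Ideal.span {MvPolynomial.C (σ := Fin r) (PowerSeries.X (R := k))}) (MvPolynomial (Fin r) (PowerSeries k)) ⧸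
        Ideal.span {algebraMap (PowerSeries k) (AdicCompletion (Ideal.span {MvPolynomial.C (σ := Fin r) (PowerSeries.X (R := k))}) (MvPolynomial (Fin r) (PowerSeries k))) PowerSeries.X ^ (n + 1)})
      ((List.ofFn a).map (Ideal.Quotient.mk (Ideal.span {algebraMap (PowerSeries k)
        (AdicCompletion (Ideal.span {MvPolynomial.C (σ := Fin r) (PowerSeries.X (R := k))}) (MvPolynomial (Fin r) (PowerSeries k))) PowerSeries.X ^ (n + 1)}))))
    [IsReduced (B ⧸ Ideal.span {algebraMap (PowerSeries k) B PowerSeries.X})] :
    (∃ κ : ℕ, algebraMap (PowerSeries k) B PowerSeries.X ^ κ ∈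
        Fitt.ideal B (AdicCompletion (Ideal.span {algebraMap (PowerSeries k) B PowerSeries.X})
          (KaehlerDifferential (PowerSeries k) B)) (r - c)) ↔
      (∃ m : ℕ, ∀ x : Abelian.Ext.{u} (ModuleCat.of B (AdicCompletion
          (Ideal.span {algebraMap (PowerSeries k) B PowerSeries.X}) (KaehlerDifferential (PowerSeries k) B)))
          (ModuleCat.of B B) 1,
        (algebraMap (PowerSeries k) B PowerSeries.X ^ m) • x = 0) := by
  obtain ⟨φ, p, J, hP, hJ, hT0, hinj⟩ := GrothLib.JacExt1.exists_formalPres k r c a B ψ hψ hker (hreg 0).1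
  set T := algebraMap (PowerSeries k) B PowerSeries.X
  rcases subsingleton_or_nontrivial B with h | h
  · haveI := Module.subsingleton B (Abelian.Ext.{u} (ModuleCat.of B (AdicCompletion
      (Ideal.span {T}) (KaehlerDifferential (PowerSeries k) B))) (ModuleCat.of B B) 1)
    exact ⟨fun _ => ⟨0, fun x => Subsingleton.elim _ _⟩, fun _ => ⟨0, by
      rw [Subsingleton.elim (T ^ 0) 0]; exact zero_mem _⟩⟩
  have hd := GrothLib.JacExt1.vecMul_injective hT0 hinj
  have hs := GrothLib.JacExt1.completedGens_surjective hP
  have hex := GrothLib.JacExt1.completedGens_exact hP hJ hT0 hinj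
  obtain ⟨e⟩ := GrothLib.T1Base26.nonempty_ext_one_equiv (N := B) hd hs hex
  haveI := Module.Finite.equiv e
  rw [GrothLib.JacExt1.fitt_coker_eq J _ hd hs hex]
  constructor
  · rintro ⟨κ, hκ⟩
    exact ⟨κ, fun x => Module.mem_annihilator.1 (GrothLib.Fitting.ideal_zero_le_annihilator hκ) x⟩
  · rintro ⟨m, hm⟩
    obtain ⟨n, x, hx⟩ := GrothLib.Fitting.exists_tuple B (Abelian.Ext.{u} (ModuleCat.of B (AdicCompletion
      (Ideal.span {T}) (KaehlerDifferential (PowerSeries k) B))) (ModuleCat.of B B) 1)
    refine ⟨m * n, ?_⟩
    rw [GrothLib.Fitting.ideal_eq_minors x hx, Nat.sub_zero]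
    have h1 := GrothLib.Fitting.det_mem_minors (L := GrothLib.Fitting.rel (R := B) x)
      (fun b => (Pi.single b (T ^ m) : Fin n → B)) id (fun b => by
        rw [GrothLib.Fitting.mem_rel, Finset.sum_eq_single b (fun i _ hi => by simp [hi]) (by simp)]
        simpa using hm (x b))
    have h2 : (Matrix.of fun a b : Fin n => (Pi.single b (T ^ m) : Fin n → B) (id a)) =
        Matrix.diagonal fun _ => T ^ m := by
      ext a b
      simp [Matrix.diagonal_apply, Pi.single_apply]
    rw [h2, Matrix.det_diagonal, Finset.prod_const, Finset.card_univ, Fintype.card_fin, ← pow_mul] at h1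
    exact h1

end Groth.Agent.S16193
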