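import Groth.Statements.S16194
-- import your own Groth.Agent.* helpers here

set_option autoImplicit false
universe u
open DivAlg

namespace Groth.Agent.S16194

/-- In an associative unital ring R, not necessarily commutative, every element r of the Jacobson
radical (the set of elements lying in every maximal left ideal) is quasiregular, i.e. 1 - r is a
two-sided unit. -/
theorem result {R : Type u} [Ring R] (r : R)
    (hr : r ∈ Ring.jacobson R) : IsUnit (1 - r) := by
  have key : ∀ r : R, r ∈ Ring.jacobson R → ∃ u, u * (1 - r) = 1 := by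
    intro r hr
    have : Ideal.span {1 - r} = (⊤ : Ideal R) := by
      by_contra hne
      obtain ⟨M, hM, hle⟩ := Ideal.exists_le_maximal _ hne
      have hrM : r ∈ M := Ring.jacobson_le_of_isMaximal M hr
      exact hM.ne_top ((Ideal.eq_top_iff_one M).mpr (by simpa using M.add_mem (hle (Ideal.mem_span_singleton_self _)) hrM))
    exact Ideal.mem_span_singleton'.mp (this ▸ Submodule.mem_top)
  obtain ⟨u, hu⟩ := key r hr
  have hu1 : -(u * r) ∈ Ring.jacobson R := neg_mem (Ideal.mul_mem_left _ _ hr)
  obtain ⟨v, hv⟩ := key _ hu1
  have hu2 : 1 - -(u * r) = u := by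
    rw [mul_sub, mul_one, sub_eq_iff_eq_add] at hu
    rw [sub_neg_eq_add]; exact hu.symm
  rw [hu2] at hv
  have : v = 1 - r := by
    calc v = v * (u * (1 - r)) := by rw [hu, mul_one]
      _ = 1 - r := by rw [← mul_assoc, hv, one_mul]
  rw [this] at hv
  exact isUnit_iff_exists.mpr ⟨u, hv, hu⟩

end Groth.Agent.S16194
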