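import Groth.Statements.S16196
import Mathlib.Algebra.Module.BigOperators

set_option autoImplicit false
universe u v
open DivAlg

namespace Groth.Agent.S16196

/-- Let R be a ring (associative, unital, not necessarily commutative) and M a left R-module which is a
generator, in the form: for some n there is an R-linear surjection from M^n onto R. Then the natural
ring homomorphism from R to the double endomorphism ring BiEnd_R(M) = End_{End_R(M)}(M)
(endomorphisms of M commuting with every R-linear endomorphism), r ↦ multiplication by r, is
bijective. (The printed form takes R an algebra over a commutative ring k, embeds R in E = End_k(M)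
and asserts R = C_E(C_E(R)); the double centralizer there is BiEnd_R(M).) -/
theorem result {R : Type u} [Ring R] (M : Type v)
    [AddCommGroup M] [Module R M]
    (hgen : ∃ (n : ℕ) (f : (Fin n → M) →ₗ[R] R), Function.Surjective f) :
    Function.Bijective (Module.toModuleEnd (Module.End R M) (S := R) M) := by
  classical
  obtain ⟨n, f, hf⟩ := hgen
  obtain ⟨x, hx⟩ := hf 1
  constructor
  · intro r s h
    have he : ∀ m : M, r • m = s • m := fun m => LinearMap.congr_fun h m
    have : r • x = s • x := funext fun i => he (x i)
    have := congrArg f this
    rwa [map_smul, map_smul, hx, smul_eq_mul, mul_one, smul_eq_mul, mul_one] at this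
  · intro T
    have hone : (1 : R) = ∑ i, f (Pi.single i (x i)) := by rw [← map_sum, Finset.univ_sum_single, hx]
    refine ⟨∑ i, f (Pi.single i (T (x i))), LinearMap.ext fun m => ?_⟩
    show (∑ i, f (Pi.single i (T (x i)))) • m = T m
    conv_rhs => rw [← one_smul R m, hone, Finset.sum_smul, map_sum]
    rw [Finset.sum_smul]
    refine Finset.sum_congr rfl fun i _ => ?_
    exact (T.map_smul ((LinearMap.toSpanSingleton R M m).comp (f.comp (LinearMap.single R (fun _ => M) i))) (x i)).symm

end Groth.Agent.S16196
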