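import Groth.Statements.S16197
-- import your own Groth.Agent.* helpers here

set_option autoImplicit false
universe u v w
open DivAlg

namespace Groth.Agent.S16197

/-- Let R be a ring (associative, unital, not necessarily commutative) and M a left R-module which is a
generator, used here only through the existence of an R-linear surjection from a direct sum of
copies of M, indexed by an arbitrary type, onto R. Then some finite power M^n decomposes as R × Q
for a submodule Q of M^n. (The published statement is an equivalence; this row states only the
implication from the existence of such a surjection to the splitting.) -/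
theorem result {R : Type u} [Ring R] (M : Type v)
    [AddCommGroup M] [Module R M]
    (hgen : ∃ (ι : Type w) (f : (ι →₀ M) →ₗ[R] R), Function.Surjective f) :
    ∃ (n : ℕ) (Q : Submodule R (Fin n → M)), Nonempty ((Fin n → M) ≃ₗ[R] (R × Q)) := by
  classical
  obtain ⟨ι, f, hf⟩ := hgen
  obtain ⟨x, hx⟩ := hf 1
  let e : Fin x.support.card ≃ x.support := x.support.equivFin.symm
  let g : (Fin x.support.card → M) →ₗ[R] R :=
    ∑ i, f.comp ((Finsupp.lsingle (e i : ι)).comp (LinearMap.proj i))
  have hg : g (fun i => x (e i)) = 1 := by
    simp only [g, LinearMap.sum_apply, LinearMap.comp_apply, LinearMap.proj_apply, Finsupp.lsingle_apply]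
    rw [Fintype.sum_equiv e _ (fun j : x.support => f (Finsupp.single (j : ι) (x j))) (fun i => rfl),
      Finset.sum_coe_sort x.support (fun j => f (Finsupp.single j (x j))), ← map_sum]
    rw [← hx]; congr 1; exact x.sum_single
  let s : R →ₗ[R] (Fin x.support.card → M) := LinearMap.toSpanSingleton R _ (fun i => x (e i))
  have hs : ∀ r, g (s r) = r := fun r => by
    simp [s, map_smul, hg]
  refine ⟨_, LinearMap.ker g, ⟨LinearEquiv.ofLinear
    (LinearMap.prod g (LinearMap.codRestrict (LinearMap.ker g) (LinearMap.id - s.comp g) (fun y => by simp [hs])))
    (LinearMap.coprod s (LinearMap.ker g).subtype) ?_ ?_⟩⟩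
  · apply LinearMap.ext
    rintro ⟨r, q, hq⟩
    have hq' : g q = 0 := hq
    refine Prod.ext (by simp [hs, hq']) (Subtype.ext ?_)
    simp [hs, hq']
  · apply LinearMap.ext; intro y
    simp

end Groth.Agent.S16197
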