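import Groth.Statements.S16198
import Groth.Agent.Lib.AzMod.DetPow

set_option autoImplicit false
universe u v
open DivAlg

namespace Groth.Agent.S16198

open scoped TensorProduct
open GrothLib

/-- In the case of a commutative ring R, let N be an invertible R-module such that the direct sum N^n is
isomorphic to R^n for some natural number n. Then the class of N in Pic(R) satisfies [N]^n = 1. (The
published statement is for invertible modules on an arbitrary ringed site; this row states the case
of a commutative ring.) -/
theorem result {R : Type u} [CommRing R] (N : Type v)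
    [AddCommGroup N] [Module R N] [Module.Invertible R N] (n : ℕ)
    (e : (Fin n → N) ≃ₗ[R] (Fin n → R)) :
    CommRing.Pic.mk R N ^ n = 1 := by
  obtain ⟨_, hc⟩ := AzMod.piTensor_invertible (R := R) N n
  rw [← hc, CommRing.Pic.mk_eq_one_iff]
  obtain ⟨k, y, g, hg⟩ := AzMod.exists_sum_dual_eq_one (R := R) N
  refine AzMod.piTensor_equiv_of_det (fun i => e.toLinearMap ∘ₗ LinearMap.single R (fun _ => N) i) fun m hm => ?_
  obtain ⟨l, -, hl⟩ : ∃ l ∈ Finset.univ, g l (y l) ∉ m := by
    by_contra hcon
    push Not at hcon
    exact hm.ne_top ((Ideal.eq_top_iff_one _).2 (hg ▸ sum_mem hcon))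
  refine ⟨y l, fun hz => hl (hm.isPrime.mem_of_pow_mem n ?_)⟩
  let E : Matrix (Fin n) (Fin n) R := fun i => e (Pi.single i (y l))
  let W : Matrix (Fin n) (Fin n) R := fun j i => g l (e.symm (Pi.single j 1) i)
  have h : E * W = Matrix.diagonal fun _ => g l (y l) := by
    ext i j
    simp only [Matrix.mul_apply, W]
    have h1 : ∑ c, E i c • g l (e.symm (Pi.single c 1) j) = g l ((Pi.single i (y l) : Fin n → N) j) := by
      rw [← e.symm_apply_apply (Pi.single i (y l)), pi_eq_sum_univ' (e (Pi.single i (y l))), map_sum]
      simp [E, map_smul, Pi.single_apply]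
    simp only [smul_eq_mul] at h1
    rw [h1]
    by_cases hij : i = j
    · subst hij; simp
    · simp [Matrix.diagonal_apply_ne _ hij, Ne.symm hij]
  have h2 := congrArg Matrix.det h
  rw [Matrix.det_mul, Matrix.det_diagonal] at h2
  simp at h2
  rw [← h2]
  exact m.mul_mem_right _ hz

end Groth.Agent.S16198
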