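import Groth.Statements.S16199
import Groth.Agent.Lib.AzMod.HomTwist
import Mathlib.Algebra.Azumaya.Matrix

set_option autoImplicit false
universe u
open DivAlg

namespace Groth.Agent.S16199

open scoped TensorProduct
open GrothLib

/-- Let R be a commutative ring and n ≥ 1. The natural map from GL_n(R) to the R-algebra automorphisms
of M_n(R) is surjective (every automorphism is inner) if and only if Pic_(n)(R) = 0, i.e. every
invertible R-module N with N^n ≅ R^n is free. (For n = 0 the left side holds trivially while the
right side fails whenever Pic(R) ≠ 0, so this row assumes n ≥ 1, which the published statement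
leaves implicit; invertible modules are quantified in the universe of R, which loses nothing since
every invertible module is finitely generated.) -/
theorem result {R : Type u} [CommRing R] (n : ℕ)
    (hn : 1 ≤ n) :
    (∀ φ : Matrix (Fin n) (Fin n) R ≃ₐ[R] Matrix (Fin n) (Fin n) R,
        ∃ P : GL (Fin n) R, ∀ A : Matrix (Fin n) (Fin n) R, φ A = P.1 * A * (P⁻¹).1) ↔
      (∀ (N : Type u) [AddCommGroup N] [Module R N] [Module.Invertible R N],
        Nonempty ((Fin n → N) ≃ₗ[R] (Fin n → R)) → Module.Free R N) := by
  have : Nonempty (Fin n) := ⟨⟨0, hn⟩⟩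
  have := IsAzumaya.matrix R (Fin n)
  constructor
  · intro hinn N _ _ _ ⟨e⟩
    let act : Matrix (Fin n) (Fin n) R →ₐ[R] Module.End R (Fin n → N) :=
      AlgHom.ofLinearMap
        { toFun := fun M =>
            { toFun := fun x i => ∑ j, M i j • x j
              map_add' := fun x x' => funext fun i => by simp [smul_add, Finset.sum_add_distrib]
              map_smul' := fun c x => funext fun i => by simp [Finset.smul_sum, smul_comm c] }
          map_add' := fun M M' => LinearMap.ext fun x => funext fun i => by
            simp [add_smul, Finset.sum_add_distrib]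
          map_smul' := fun c M => LinearMap.ext fun x => funext fun i => by simp [Finset.smul_sum, mul_smul] }
        (LinearMap.ext fun x => funext fun i => by simp [Matrix.one_apply, ite_smul])
        (fun M M' => LinearMap.ext fun x => funext fun i => by
          simp [Matrix.mul_apply, Finset.sum_smul, Finset.smul_sum, mul_smul]
          exact Finset.sum_comm)
    have hact : ∀ M x i, act M x i = ∑ j, M i j • x j := fun _ _ _ => rfl
    let ψ : Matrix (Fin n) (Fin n) R →ₐ[R] Matrix (Fin n) (Fin n) R :=
      (((e.conjAlgEquiv R).trans Matrix.toLinAlgEquiv'.symm) : _ →ₐ[R] _).comp act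
    have hψ : ∀ M, Matrix.toLinAlgEquiv' (ψ M) = e.conj (act M) := fun M => by
      simp [ψ, LinearEquiv.conjAlgEquiv]
      rfl
    have hb : Function.Bijective ψ := by
      refine ⟨AzMod.injective_of_scalars ψ, fun T => ?_⟩
      let h := e.symm.conj (Matrix.toLinAlgEquiv' T)
      have hij : ∀ i j, ∃ c : R, ∀ x : N, c • x = h (Pi.single j x) i := fun i j => by
        obtain ⟨c, hc⟩ := (Module.Invertible.toModuleEnd_bijective (R := R) (M := N)).2
          (LinearMap.proj i ∘ₗ h ∘ₗ LinearMap.single R (fun _ => N) j)
        exact ⟨c, fun x => LinearMap.congr_fun hc x⟩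
      choose M hM using hij
      refine ⟨M, Matrix.toLinAlgEquiv'.injective ?_⟩
      rw [hψ]
      have h1 : act M = h := LinearMap.ext fun x => funext fun i => by
        rw [hact]
        conv_rhs => rw [← Finset.univ_sum_single x, map_sum, Finset.sum_apply]
        exact Finset.sum_congr rfl fun j _ => hM i j _
      rw [h1]
      ext x; simp [h]
    obtain ⟨P, hP⟩ := hinn (AlgEquiv.ofBijective ψ hb)
    let PE : (Fin n → R) ≃ₗ[R] (Fin n → R) :=
      LinearEquiv.ofLinearMap (Matrix.toLinAlgEquiv' (P⁻¹).1) (Matrix.toLinAlgEquiv' P.1)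
        (by rw [← Module.End.mul_eq_comp, ← map_mul, Units.inv_mul, map_one]; rfl)
        (by rw [← Module.End.mul_eq_comp, ← map_mul, Units.mul_inv, map_one]; rfl)
    let e' : (Fin n → N) ≃ₗ[R] (Fin n → R) := e.trans PE
    have he' : ∀ M x, e' (act M x) = Matrix.toLinAlgEquiv' M (e' x) := fun M x => by
      have h1 : e (act M x) = Matrix.toLinAlgEquiv' (ψ M) (e x) := by rw [hψ]; simp
      show Matrix.toLinAlgEquiv' (P⁻¹).1 (e (act M x)) = Matrix.toLinAlgEquiv' M (Matrix.toLinAlgEquiv' (P⁻¹).1 (e x))
      rw [h1, show ψ M = P.1 * M * (P⁻¹).1 from hP M, ← Module.End.mul_apply, ← Module.End.mul_apply,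
        ← map_mul, ← map_mul, ← mul_assoc, ← mul_assoc, Units.inv_mul, one_mul]
    let o : Fin n := ⟨0, hn⟩
    have hE : ∀ x : N, e' (Pi.single o x) = Pi.single o (e' (Pi.single o x) o) := fun x => by
      have h1 : act (Matrix.single o o 1) (Pi.single o x) = Pi.single o x := by
        ext i; rw [hact]; by_cases hi : i = o <;> simp [hi, Matrix.single_apply, Pi.single_apply, eq_comm]
      conv_lhs => rw [← h1, he']
      ext i; by_cases hi : i = o <;> simp [hi, Matrix.single_apply, Pi.single_apply, Matrix.mulVec, dotProduct, eq_comm]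
    have hE' : ∀ c : R, e'.symm (Pi.single o c) = Pi.single o (e'.symm (Pi.single o c) o) := fun c => by
      have h1 : Matrix.toLinAlgEquiv' (Matrix.single o o (1 : R)) (Pi.single o c) = Pi.single o c := by
        ext i; by_cases hi : i = o <;> simp [hi, Matrix.single_apply, Pi.single_apply, Matrix.mulVec, dotProduct, eq_comm]
      conv_lhs => rw [← h1, ← e'.apply_symm_apply (Pi.single o c), ← he', LinearEquiv.symm_apply_apply]
      ext i; rw [hact]; by_cases hi : i = o <;> simp [hi, Matrix.single_apply, Pi.single_apply, eq_comm]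
    exact Module.Free.of_equiv (LinearEquiv.ofLinearMap
      ((LinearMap.proj o) ∘ₗ e'.toLinearMap ∘ₗ LinearMap.single R (fun _ => N) o)
      ((LinearMap.proj o) ∘ₗ e'.symm.toLinearMap ∘ₗ LinearMap.single R (fun _ => R) o)
      (LinearMap.ext fun c => by
        show e' (Pi.single o (e'.symm (Pi.single o c) o)) o = c
        rw [← hE', LinearEquiv.apply_symm_apply, Pi.single_eq_same])
      (LinearMap.ext fun x => by
        show e'.symm (Pi.single o (e' (Pi.single o x) o)) o = x
        rw [← hE, LinearEquiv.symm_apply_apply, Pi.single_eq_same])).symm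
  · intro hfree φ
    let η : Matrix (Fin n) (Fin n) R ≃ₐ[R] Module.End R (Fin n → R) := Matrix.toLinAlgEquiv'
    have : FaithfulSMul R (Fin n → R) := ⟨fun {r s} h => by
      simpa using congr_fun (h (fun _ => 1)) ⟨0, hn⟩⟩
    let φ' : Module.End R (Fin n → R) ≃ₐ[R] Module.End R (Fin n → R) := η.symm.trans (φ.trans η)
    obtain ⟨hinv, hbij⟩ := AzMod.homTwist_invertible_and_bijective φ'
    let L := AzMod.homTwist (φ' : Module.End R (Fin n → R) →ₐ[R] Module.End R (Fin n → R))
    let ξ : (Fin n → R) ⊗[R] L ≃ₗ[R] (Fin n → R) := LinearEquiv.ofBijective _ hbij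
    have := hfree L ⟨((TensorProduct.piScalarRight R R L (Fin n)).symm.trans
      (TensorProduct.comm R L (Fin n → R))).trans ξ⟩
    obtain ⟨l⟩ := Module.Invertible.free_iff_linearEquiv.1 this
    let Q : (Fin n → R) ≃ₗ[R] (Fin n → R) :=
      ((TensorProduct.rid R _).symm.trans (TensorProduct.congr (LinearEquiv.refl R _) l.symm)).trans ξ
    have hQ : ∀ v, Q v = (l.symm 1 : L).1 v := fun v => rfl
    refine ⟨⟨η.symm Q, η.symm Q.symm,
      by rw [← map_mul]; exact (congrArg η.symm (LinearMap.ext fun v => Q.apply_symm_apply v)).trans (map_one _),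
      by rw [← map_mul]; exact (congrArg η.symm (LinearMap.ext fun v => Q.symm_apply_apply v)).trans (map_one _)⟩,
      fun M => η.injective ?_⟩
    show η (φ M) = η (η.symm Q * M * η.symm Q.symm)
    rw [map_mul, map_mul, AlgEquiv.apply_symm_apply, AlgEquiv.apply_symm_apply]
    refine LinearMap.ext fun v => ?_
    show η (φ M) v = Q (η M (Q.symm v))
    have h := LinearMap.congr_fun (AzMod.mem_homTwist.1 (l.symm 1 : L).2 (η M)) (Q.symm v)
    simp only [LinearMap.comp_apply, AlgEquiv.coe_toAlgHom, φ', AlgEquiv.trans_apply,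
      AlgEquiv.symm_apply_apply] at h
    rw [hQ, ← h, ← hQ, LinearEquiv.apply_symm_apply]

end Groth.Agent.S16199
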