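import Groth.Statements.S1620
import Groth.Agent.Lib.AffDom.Over
import Groth.Agent.Lib.AffDom.LocalDim

set_option autoImplicit false
universe u
open CategoryTheory CategoryTheory.Limits AlgebraicGeometry
attribute [local instance] Curv2.stalkAlgebra Curv2.resAlgebra
open Variety

namespace Groth.Agent.S1620

/-- Let X be locally of finite type over a field k and x ⤳ x' an immediate specialisation (x ≠ x' and no
point strictly in between). If the residue field of x' has transcendence degree n over k then the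
residue field of x has transcendence degree n + 1. -/
theorem result (k : Type u) [Field k] (X : Scheme.{u}) [X.Over (Spec (CommRingCat.of k))] [LocallyOfFiniteType (X ↘ (Spec (CommRingCat.of k)))] (x x' : X) (hne : x ≠ x') (hsp : x ⤳ x')
    (himm : ∀ y : X, x ⤳ y → y ⤳ x' → y = x ∨ y = x')
    (n : ℕ) (hn : Algebra.trdeg k (X.residueField x') = n) : Algebra.trdeg k (X.residueField x) = n + 1 := by
  let f := X ↘ Spec (CommRingCat.of k)
  have hx' := GrothLib.AffDom.ptDim_eq_of_trdeg_eq k X x' n hn
  refine (GrothLib.AffDom.trdeg_eq_of_ptDim_eq k X x (n + 1) ?_).trans (by push_cast; ring)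
  obtain ⟨_, ⟨U, hU, rfl⟩, hxU, -⟩ :=
    X.isBasis_affineOpens.exists_subset_of_mem_open (Set.mem_univ x') isOpen_univ
  have hU : IsAffineOpen U := hU
  obtain ⟨q, rfl⟩ := hU.range_fromSpec.ge hxU
  obtain ⟨p, rfl⟩ := hU.range_fromSpec.ge (hsp.mem_open U.2 hxU)
  obtain ⟨ψ, hψ, hψ'⟩ := GrothLib.Dim.exists_finiteType_specMap f hU
  algebraize [ψ.hom]
  have : Algebra.FiniteType k Γ(X, U) := hψ
  have hle : ∀ a b : PrimeSpectrum Γ(X, U), (hU.fromSpec a ⤳ hU.fromSpec b) ↔ a ≤ b := fun a b =>
    (hU.fromSpec.isEmbedding.isInducing.specializes_iff).trans (PrimeSpectrum.le_iff_specializes a b).symm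
  have hpq : CovBy (α := PrimeSpectrum Γ(X, U)) p q := by
    refine ⟨lt_of_le_of_ne ((hle p q).1 hsp) fun h => hne (congrArg hU.fromSpec h), fun c hpc hcq => ?_⟩
    rcases himm (hU.fromSpec c) ((hle p c).2 hpc.le) ((hle c q).2 hcq.le) with h | h
    · exact hpc.ne (hU.fromSpec.isOpenEmbedding.injective h).symm
    · exact hcq.ne (hU.fromSpec.isOpenEmbedding.injective h)
  rw [GrothLib.AffDom.ptDim_fromSpec f hU] at hx' ⊢
  rw [← GrothLib.AffDom.ringKrullDim_quotient_covBy k Γ(X, U) hpq, hx']
  push_cast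
  rfl

end Groth.Agent.S1620
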