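import Groth.Statements.S16200
import Mathlib.RingTheory.PicardGroup
import Mathlib.RingTheory.DedekindDomain.Factorization
import Mathlib.LinearAlgebra.Pi

set_option autoImplicit false
universe u v
open DivAlg

namespace Groth.Agent.S16200

open scoped TensorProduct

theorem swap {R : Type*} [CommRing R] {P : Type*} [AddCommGroup P] [Module R P] [Module.Invertible R P]
    (f : P →ₗ[R] R) (x y : P) : f x • y = f y • x := by
  simpa using congrArg (TensorProduct.lift ((LinearMap.lsmul R P).comp f))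
    (Module.Invertible.tmul_comm (R := R) (m₁ := x) (m₂ := y))

theorem prod_equiv {R : Type*} [CommRing R] {P : Type*} [AddCommGroup P] [Module R P] [Module.Invertible R P]
    {Q : Type*} [AddCommGroup Q] [Module R Q] [Module.Invertible R Q]
    (f : P →ₗ[R] R) (g : Q →ₗ[R] R) (a : P) (b : Q) (h : f a + g b = 1) :
    Nonempty ((P × Q) ≃ₗ[R] R × (P ⊗[R] Q)) := by
  let τ : P × Q →ₗ[R] P ⊗[R] Q :=
    (TensorProduct.mk R P Q).flip b ∘ₗ LinearMap.fst R P Q - TensorProduct.mk R P Q a ∘ₗ LinearMap.snd R P Q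
  let ι : P ⊗[R] Q →ₗ[R] P × Q := TensorProduct.lift
    (LinearMap.mk₂ R (fun p q => (g q • p, -(f p • q)))
      (fun x y q => by ext <;> simp [add_smul] ; abel)
      (fun c x q => by ext <;> simp [smul_smul, mul_comm])
      (fun x y y' => by ext <;> simp [add_smul] ; abel)
      (fun c x q => by ext <;> simp [smul_smul, mul_comm]))
  have hι : ∀ p q, ι (p ⊗ₜ q) = (g q • p, -(f p • q)) := fun p q => rfl
  have hτ : ∀ p q, τ (p, q) = p ⊗ₜ b - a ⊗ₜ q := fun p q => rfl
  refine ⟨LinearEquiv.ofLinearMap ((f.coprod g).prod τ)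
    ((LinearMap.toSpanSingleton R (P × Q) (a, b)).coprod ι) ?_ ?_⟩
  · refine LinearMap.prod_ext (LinearMap.ext fun c => ?_) (TensorProduct.ext' fun p q => ?_)
    · simp [hτ, ← mul_add, h, TensorProduct.smul_tmul]
    · simp only [LinearMap.comp_apply, LinearMap.inr_apply, LinearMap.coprod_apply,
        LinearMap.toSpanSingleton_apply, zero_smul, zero_add, LinearMap.id_apply]
      show ((f.coprod g).prod τ) (ι (p ⊗ₜ q)) = ((0 : R), p ⊗ₜ q)
      have h1 : (f.coprod g) (ι (p ⊗ₜ q)) = (0 : R) := by simp [hι]; ring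
      have h2 : τ (ι (p ⊗ₜ q)) = p ⊗ₜ q := by
        rw [hι, hτ, TensorProduct.tmul_neg, sub_neg_eq_add, TensorProduct.smul_tmul, swap g q b,
          ← TensorProduct.smul_tmul, ← TensorProduct.smul_tmul, swap f p a, ← TensorProduct.add_tmul,
          ← add_smul, add_comm, h, one_smul]
      exact Prod.ext h1 h2
  · refine LinearMap.ext fun x => ?_
    obtain ⟨p, q⟩ := x
    show (f p + g q) • (a, b) + ι (τ (p, q)) = (p, q)
    rw [hτ, map_sub, hι, hι]
    refine Prod.ext ?_ ?_
    · show (f p + g q) • a + (g b • p - g q • a) = p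
      calc (f p + g q) • a + (g b • p - g q • a) = (f a + g b) • p := by
            rw [add_smul, add_smul, swap f p a]; abel
        _ = p := by rw [h, one_smul]
    · show (f p + g q) • b + (-(f p • b) - -(f a • q)) = q
      calc (f p + g q) • b + (-(f p • b) - -(f a • q)) = (f a + g b) • q := by
            rw [add_smul, add_smul, swap g q b]; abel
        _ = q := by rw [h, one_smul]

theorem gen {R : Type*} [CommRing R] (N : Type*) [AddCommGroup N] [Module R N] [Module.Invertible R N]
    (m : Ideal R) (hm : m ≠ ⊤) : ∃ (g : N →ₗ[R] R) (y : N), g y ∉ m := by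
  by_contra hcon
  push Not at hcon
  refine hm ((Ideal.eq_top_iff_one _).2 ?_)
  obtain ⟨t, ht⟩ := (Module.Invertible.linearEquiv R N).surjective 1
  rw [← ht]
  clear ht
  induction t using TensorProduct.induction_on with
  | zero => simp
  | tmul g y => exact hcon g y
  | add p q hp hq => rw [map_add]; exact add_mem hp hq

open scoped Classical in
theorem steinitz {R : Type*} [CommRing R] [IsDedekindDomain R]
    (P : Type*) [AddCommGroup P] [Module R P] [Module.Invertible R P]
    (Q : Type*) [AddCommGroup Q] [Module R Q] [Module.Invertible R Q] :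
    Nonempty ((P × Q) ≃ₗ[R] R × (P ⊗[R] Q)) := by
  obtain ⟨g, y₀, hy₀⟩ := gen (R := R) Q ⊥ bot_ne_top
  set J : Ideal R := LinearMap.range g
  have hJ : J ≠ 0 := fun h0 => hy₀ (by
    have : g y₀ ∈ J := ⟨y₀, rfl⟩
    rwa [h0] at this)
  have hfin := Ideal.finite_factors hJ
  let S : Finset (Ideal R) := (hfin.image fun v => v.asIdeal).toFinset
  have hS : ∀ m : Ideal R, m.IsMaximal → J ≤ m → m ∈ S := fun m hm hle => by
    simp only [S, Set.Finite.mem_toFinset, Set.mem_image, Set.mem_ofPred_eq]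
    exact ⟨⟨m, hm.isPrime, fun h0 => hJ (le_bot_iff.1 (h0 ▸ hle))⟩, Ideal.dvd_iff_le.2 hle, rfl⟩
  have hmax : ∀ m ∈ S, m.IsMaximal := fun m hm => by
    simp only [S, Set.Finite.mem_toFinset, Set.mem_image] at hm
    obtain ⟨v, -, rfl⟩ := hm
    exact v.isPrime.isMaximal v.ne_bot
  have hsep : ∀ m ∈ S, ∀ m' ∈ S, ∃ e : R, e ∉ m ∧ (m' ≠ m → e ∈ m') := fun m hm m' hm' => by
    by_cases h : m' = m
    · exact ⟨1, fun h1 => (hmax m hm).ne_top ((Ideal.eq_top_iff_one _).2 h1), fun h' => absurd h h'⟩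
    · obtain ⟨e, he, he'⟩ := SetLike.not_le_iff_exists.1 fun hle =>
        h ((hmax m' hm').eq_of_le (hmax m hm).ne_top hle)
      exact ⟨e, he', fun _ => he⟩
  choose e he he' using hsep
  choose fm ym hym using fun m : S => gen (R := R) P m.1 (hmax m.1 m.2).ne_top
  let f : P →ₗ[R] R := ∑ m : S, (∏ m' : S, e m.1 m.2 m'.1 m'.2) • fm m
  have hf : ∀ m : S, f (ym m) ∉ m.1 := by
    intro m hmem
    have hprime := (hmax m.1 m.2).isPrime
    simp only [f, LinearMap.sum_apply, LinearMap.smul_apply, smul_eq_mul] at hmem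
    rw [← Finset.add_sum_erase _ _ (Finset.mem_univ m)] at hmem
    rw [Submodule.add_mem_iff_left _ (Submodule.sum_mem _ fun l hl => ?_)] at hmem
    · rcases hprime.mem_or_mem hmem with h1 | h1
      · obtain ⟨m', -, hm'⟩ := (Ideal.IsPrime.prod_mem_iff.1 h1)
        exact he _ _ _ _ hm'
      · exact hym m h1
    · refine m.1.mul_mem_right _ (m.1.mem_of_dvd (Finset.dvd_prod_of_mem (fun m' : S => e l.1 l.2 m'.1 m'.2) (Finset.mem_univ m)) (he' l.1 l.2 m.1 m.2 ?_))
      exact fun h => (Finset.mem_erase.1 hl).1 (Subtype.ext h).symm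
  have htop : LinearMap.range f ⊔ J = ⊤ := by
    by_contra hne
    obtain ⟨m, hm, hle⟩ := Ideal.exists_le_maximal _ hne
    exact hf ⟨m, hS m hm (le_sup_right.trans hle)⟩ (le_sup_left.trans hle ⟨_, rfl⟩)
  obtain ⟨_, ⟨a, rfl⟩, _, ⟨b, rfl⟩, hab⟩ := Submodule.mem_sup.1 (htop ▸ Submodule.mem_top : (1 : R) ∈ LinearMap.range f ⊔ J)
  exact prod_equiv f g a b hab

theorem pi_equiv {R : Type u} [CommRing R] [IsDedekindDomain R]
    (N : Type v) [AddCommGroup N] [Module R N] [Module.Invertible R N] (k : ℕ) :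
    Nonempty ((Fin (k + 1) → N) ≃ₗ[R] (Fin k → R) × (CommRing.Pic.mk R N ^ (k + 1) : CommRing.Pic R)) := by
  induction k with
  | zero =>
    rw [pow_one]
    exact ⟨((LinearEquiv.funUnique (Fin 1) R N).trans (CommRing.Pic.mk.linearEquiv R N).symm).trans
      (LinearEquiv.uniqueProd (R := R) (M₂ := Fin 0 → R)).symm⟩
  | succ k ih =>
    obtain ⟨e⟩ := ih
    obtain ⟨s⟩ := steinitz (R := R) (CommRing.Pic.mk R N ^ (k + 1) : CommRing.Pic R) N
    obtain ⟨t⟩ : Nonempty (((CommRing.Pic.mk R N ^ (k + 1) : CommRing.Pic R) ⊗[R] N) ≃ₗ[R]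
        (CommRing.Pic.mk R N ^ (k + 1 + 1) : CommRing.Pic R)) := by
      rw [← CommRing.Pic.mk_eq_iff, CommRing.Pic.mk_tensor, CommRing.Pic.mk_eq_self, ← pow_succ]
    exact ⟨(Fin.consLinearEquiv R (fun _ => N)).symm.trans
      ((LinearEquiv.prodComm R N _).trans ((e.prodCongr (LinearEquiv.refl R N)).trans
        ((LinearEquiv.prodAssoc R _ _ _).trans (((LinearEquiv.refl R _).prodCongr s).trans
          ((LinearEquiv.prodAssoc R _ _ _).symm.trans
            (((LinearEquiv.prodComm R _ _).trans (Fin.consLinearEquiv R (fun _ => R))).prodCongr t))))))⟩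

/-- Let R be a Dedekind domain, N an invertible R-module and n a natural number with [N]^n = 1 in
Pic(R). Then the direct sum N^n is isomorphic to R^n; thus over a Dedekind domain the invertible
modules N with N^n ≅ R^n are exactly the n-torsion classes of Pic(R), the other inclusion holding
over any commutative ring. -/
theorem result {R : Type u} [CommRing R]
    [IsDedekindDomain R] (N : Type v) [AddCommGroup N] [Module R N] [Module.Invertible R N]
    (n : ℕ) (h : CommRing.Pic.mk R N ^ n = 1) :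
    Nonempty ((Fin n → N) ≃ₗ[R] (Fin n → R)) := by
  cases n with
  | zero => exact ⟨LinearEquiv.ofSubsingleton _ _⟩
  | succ k =>
    obtain ⟨e⟩ := pi_equiv (R := R) N k
    rw [h] at e
    obtain ⟨t⟩ := Module.Invertible.free_iff_linearEquiv.1
      (inferInstance : Module.Free R (1 : CommRing.Pic R))
    exact ⟨e.trans (((LinearEquiv.refl R _).prodCongr t).trans
      ((LinearEquiv.prodComm R _ _).trans (Fin.consLinearEquiv R (fun _ => R))))⟩

end Groth.Agent.S16200
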