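import Groth.Statements.S16201
import Mathlib
import Groth.Agent.Lib.NoethTop.Constructible

set_option autoImplicit false
open CategoryTheory AlgebraicGeometry
open Variety

namespace Groth.Agent.S16201

/-- Let f : Y → Z be a morphism of schemes of finite type over ℂ, with Z irreducible. Suppose that the
general fibre of f is irreducible, in the sense that there is a nonempty open subset V of Z such
that the fibre of f over every closed point of V is an irreducible topological space, and that each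
irreducible component of Y has dense image in Z. Then Y is irreducible. (The published statement is
for a morphism of projective varieties; only finiteness of type over the field is used, and the row
is stated in that generality.) -/
theorem result
    (Y Z : Scheme.{0}) (g : Z ⟶ Spec (CommRingCat.of ℂ)) (f : Y ⟶ Z)
    [LocallyOfFiniteType g] [QuasiCompact g] [LocallyOfFiniteType f] [QuasiCompact f]
    [IrreducibleSpace Z]
    (hgen : ∃ V : Z.Opens, (V : Set Z).Nonempty ∧
      ∀ z ∈ V, IsClosed ({z} : Set Z) → IsIrreducible (f.base ⁻¹' {z}))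
    (hdom : ∀ W ∈ irreducibleComponents Y, Dense (f.base '' W)) :
    IrreducibleSpace Y := by
  haveI : IsLocallyNoetherian Z := LocallyOfFiniteType.isLocallyNoetherian g
  haveI : IsLocallyNoetherian Y := LocallyOfFiniteType.isLocallyNoetherian f
  haveI : CompactSpace Z := HasAffineProperty.iff_of_isAffine.mp ‹QuasiCompact g›
  haveI : IsNoetherian Z := ⟨⟩
  haveI : CompactSpace Y := HasAffineProperty.iff_of_isAffine.mp (inferInstance : QuasiCompact (f ≫ g))
  haveI : IsNoetherian Y := ⟨⟩
  haveI : JacobsonSpace Z := LocallyOfFiniteType.jacobsonSpace g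
  obtain ⟨V, hVne, hV⟩ := hgen
  haveI : Nonempty Y := by
    obtain ⟨v, hv⟩ := hVne
    obtain ⟨z, hz, hzc⟩ := nonempty_inter_closedPoints ⟨v, hv⟩ V.2.isLocallyClosed
    obtain ⟨y, -⟩ := (hV z hz (mem_closedPoints_iff.mp hzc)).nonempty
    exact ⟨y⟩
  have hfin : (irreducibleComponents Y).Finite := TopologicalSpace.NoetherianSpace.finite_irreducibleComponents
  obtain ⟨W₀, hW₀⟩ : (irreducibleComponents Y).Nonempty :=
    ⟨_, irreducibleComponent_mem_irreducibleComponents (Classical.arbitrary Y)⟩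
  suffices h : ∀ W ∈ irreducibleComponents Y, W = W₀ by
    have hu : W₀ = Set.univ := Set.eq_univ_of_forall fun y =>
      h _ (irreducibleComponent_mem_irreducibleComponents y) ▸ mem_irreducibleComponent
    haveI : PreirreducibleSpace Y := ⟨hu ▸ hW₀.1.2⟩
    exact ⟨‹Nonempty Y›⟩
  intro W₁ hW₁
  by_contra hne
  have key : ∀ W ∈ irreducibleComponents Y, ∃ U : Set Y, IsOpen U ∧ U ⊆ W ∧
      (∀ W' ∈ irreducibleComponents Y, W' ≠ W → Disjoint U W') ∧
      ∃ O : Set Z, IsOpen O ∧ O.Nonempty ∧ O ⊆ f '' U := by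
    intro W hW
    let U : Set Y := (⋃₀ (irreducibleComponents Y \ {W}))ᶜ
    have hUo : IsOpen U := (Set.sUnion_eq_biUnion ▸ Set.Finite.isClosed_biUnion (hfin.subset Set.sdiff_subset)
      fun A hA => isClosed_of_mem_irreducibleComponents A hA.1).isOpen_compl
    have hUW : U ⊆ W := fun y hy => by
      by_contra hyW
      exact hy ⟨_, ⟨irreducibleComponent_mem_irreducibleComponents y, fun h => hyW ((Set.mem_singleton_iff.mp h) ▸ mem_irreducibleComponent)⟩, mem_irreducibleComponent⟩
    have hUne : U.Nonempty := by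
      by_contra h
      rw [Set.not_nonempty_iff_eq_empty, Set.compl_empty_iff] at h
      obtain ⟨A, hA, hWA⟩ := isIrreducible_iff_sUnion_isClosed.mp hW.1 (hfin.subset Set.sdiff_subset).toFinset
        (fun A hA => isClosed_of_mem_irreducibleComponents A ((Set.Finite.mem_toFinset _).mp hA).1)
        (by rw [Set.Finite.coe_toFinset, h]; exact Set.subset_univ _)
      obtain ⟨hA1, hA2⟩ := (Set.Finite.mem_toFinset _).mp hA
      exact hA2 (le_antisymm (hW.2 hA1.1 hWA) hWA)
    refine ⟨U, hUo, hUW, fun W' hW' hne' => Set.disjoint_left.mpr fun y hy hy' => hy ⟨W', ⟨hW', hne'⟩, hy'⟩, ?_⟩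
    have hdense : Dense (f '' U) := by
      have h1 : W ⊆ closure U := (GrothLib.NoethTop.subset_closure_inter hW.1.2 hUo
        (by obtain ⟨y, hy⟩ := hUne; exact ⟨y, hy, hUW hy⟩)).trans (closure_mono fun y hy => hy.1)
      intro z
      refine closure_minimal ?_ isClosed_closure ((hdom W hW) z)
      exact (Set.image_mono h1).trans (image_closure_subset_closure_image f.continuous)
    have hcons := f.isConstructible_image (GrothLib.NoethTop.isConstructible_of_isOpen hUo)
    obtain ⟨O, hO, hOne, hOsub⟩ := (GrothLib.NoethTop.isConstructible_dense_iff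
      (IrreducibleSpace.isIrreducible_univ Z) hcons).mp (by rw [Set.inter_univ]; exact fun z _ => hdense z)
    rw [Set.inter_univ] at hOne hOsub
    exact ⟨O, hO, hOne, hOsub⟩
  obtain ⟨U₀, hU₀, hU₀W, -, O₀, hO₀, hO₀ne, hO₀sub⟩ := key W₀ hW₀
  obtain ⟨U₁, hU₁, -, hdis, O₁, hO₁, hO₁ne, hO₁sub⟩ := key W₁ hW₁
  have h01 := (IrreducibleSpace.isIrreducible_univ Z).2 O₀ O₁ hO₀ hO₁ (by simpa using hO₀ne) (by simpa using hO₁ne)
  rw [Set.univ_inter] at h01
  have h2 := (IrreducibleSpace.isIrreducible_univ Z).2 (V : Set Z) (O₀ ∩ O₁) V.2 (hO₀.inter hO₁) (by simpa using hVne) (by simpa using h01)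
  rw [Set.univ_inter] at h2
  obtain ⟨z, ⟨hzV, hz₀, hz₁⟩, hzc⟩ := nonempty_inter_closedPoints h2 (V.2.inter (hO₀.inter hO₁)).isLocallyClosed
  obtain ⟨y₀, hy₀, hfy₀⟩ := hO₀sub hz₀
  obtain ⟨y₁, hy₁, hfy₁⟩ := hO₁sub hz₁
  obtain ⟨y, -, hyU₀, hyU₁⟩ := (hV z hzV (mem_closedPoints_iff.mp hzc)).2 U₀ U₁ hU₀ hU₁ ⟨y₀, hfy₀, hy₀⟩ ⟨y₁, hfy₁, hy₁⟩
  exact Set.disjoint_left.mp (hdis W₀ hW₀ (Ne.symm hne)) hyU₁ (hU₀W hyU₀)

end Groth.Agent.S16201
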