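import Groth.Statements.S16202
import Groth.Agent.Lib.NegTwist.ConnectedIntegral
import Groth.Agent.Lib.Chow.Prod

set_option autoImplicit false
open CategoryTheory CategoryTheory.Limits AlgebraicGeometry
open Variety

namespace Groth.Agent.S16202

/-- Let X be an integral projective scheme over ℂ of dimension at least 2 and D an effective ample
divisor on X. Then the support of D is connected. Here D is given by an ample invertible module L
together with a nonzero global section s (a monomorphism O_X → L), and its support is the zero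
scheme Z(s), which is asserted to be a connected (in particular nonempty) topological space. -/
theorem result
    (X : Scheme.{0}) (f : X ⟶ Spec (CommRingCat.of ℂ)) [IsIntegral X]
    (hproj : (∃ (n : ℕ) (ι : X ⟶ CohB1.ProjSpace n ℂ), IsClosedImmersion ι ∧ ι ≫ CohB1.ProjSpace.toSpec n ℂ = f))
    (hdim : (2 : WithBot ℕ∞) ≤ topologicalKrullDim X)
    (L : X.Modules) (hL : CohB1.IsAmple L) (s : Coh.structureModule X ⟶ L) (hs : Mono s) :
    ConnectedSpace ↥(PicF2.zeroScheme L s).subscheme := by
  classical
  haveI := hs
  obtain ⟨n, ι, hι, hf⟩ := hproj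
  haveI := hι
  haveI := GrothLib.Chow.isProper_toSpec n ℂ
  haveI : IsProper f := hf ▸ inferInstanceAs (IsProper (ι ≫ CohB1.ProjSpace.toSpec n ℂ))
  letI : X.Over (Spec (CommRingCat.of ℂ)) := ⟨f⟩
  haveI : IsProper (X ↘ Spec (CommRingCat.of ℂ)) := ‹IsProper f›
  haveI := GrothLib.Euler.isNoetherian_of_proper (X := X) ℂ
  have h := GrothLib.NegTwist.isConnected_compl_of_isIntegral ℂ hdim hL s
    (GrothLib.NegTwist.genericPoint_mem_genLocus hL.1 s)
  rw [← GrothLib.NegTwist.support_zeroScheme hL.1 s, ← Scheme.IdealSheafData.range_subschemeι,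
    ← Set.image_univ] at h
  rw [connectedSpace_iff_univ]
  exact ⟨⟨_, Set.mem_univ h.1.choose_spec.choose⟩,
    ((PicF2.zeroScheme L s).subschemeι.isEmbedding.isInducing.isPreconnected_image).1 h.2⟩

end Groth.Agent.S16202
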