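import Groth.Statements.S16206
import Groth.Agent.Lib.ConicTree.Basic

set_option autoImplicit false
open RatCurv

namespace Groth.Agent.S16206

/-- Let G₁ and G₂ be dual graphs of linear trees of the same total degree e and with k marked points
each, that is finite trees with e vertices, every vertex of degree one, together with a list of k
marked vertices (repetitions allowed). Then a finite chain of conic deformations leads from G₁ to
G₂. Here a conic deformation of such a graph is the marked graph obtained by contracting one edge
(the contracted vertex being the unique vertex of degree two), two marked trees are one step apart
when they have isomorphic conic deformations, the isomorphism matching the contracted vertices and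
the i-th marked vertices, and the conclusion is that G₁ and G₂ are related by the
reflexive-transitive closure of this one-step relation. -/
theorem result (k : ℕ) (T₁ T₂ : W4c3cyccovratcurv.MarkedTree k)
    (h : T₁.n = T₂.n) :
    Relation.ReflTransGen W4c3cyccovratcurv.ConicAdj T₁ T₂ := by
  exact GrothLib.ConicTree.reflTransGen_conicAdj T₁ T₂ h

end Groth.Agent.S16206
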