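import Groth.Statements.S16211
import Mathlib

set_option autoImplicit false
universe u v
open InvTh

namespace Groth.Agent.S16211

/-- Let R be a commutative ring, O a formally smooth R-algebra and G a finite group whose order is
invertible in R, acting on O by R-algebra automorphisms. Then the largest quotient algebra of O on
which G acts trivially, namely the quotient of O by the ideal generated by all g • f - f (the
coordinate ring of the subscheme of G-fixed points of Spec O), is again formally smooth over R:
invariant homomorphisms lift along square-zero extensions. The published statement is about a scheme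
X smooth and of finite presentation over the base and concludes that its fixed-point scheme is
smooth; this row, the affine step of its proof, assumes only that O is formally smooth over R and
concludes only formal smoothness. -/
theorem result (R : Type u) [CommRing R]
    (O : Type u) [CommRing O] [Algebra R O] [Algebra.FormallySmooth R O]
    (G : Type v) [Group G] [Finite G] [MulSemiringAction G O] [SMulCommClass G R O]
    (hG : IsUnit (Nat.card G : R)) :
    Algebra.FormallySmooth R (O ⧸ Ideal.span {x : O | ∃ (g : G) (f : O), x = g • f - f}) := by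
  classical
  have := Fintype.ofFinite G
  set J : Ideal O := Ideal.span {x : O | ∃ (g : G) (f : O), x = g • f - f}
  refine Algebra.FormallySmooth.of_comp_surjective fun B _ _ I hI f => ?_
  obtain ⟨φ, hφ⟩ := Algebra.FormallySmooth.comp_surjective (R := R) (A := O) I hI (f.comp (Ideal.Quotient.mkₐ R J))
  set c : B := algebraMap R B ↑(hG.unit⁻¹) with hc
  have hcN : c * (Fintype.card G : B) = 1 := by
    rw [hc, ← map_natCast (algebraMap R B), ← map_mul, Fintype.card_eq_nat_card, IsUnit.val_inv_mul, map_one]
  have hφ' : ∀ (g : G) (x : O), φ (g • x) - φ x ∈ I := fun g x => by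
    rw [← Ideal.Quotient.eq]
    have h1 : ∀ y, Ideal.Quotient.mk I (φ y) = f (Ideal.Quotient.mk J y) := fun y => AlgHom.congr_fun hφ y
    have h2 : Ideal.Quotient.mk J (g • x) = Ideal.Quotient.mk J x :=
      Ideal.Quotient.eq.2 (Ideal.subset_span (s := {x : O | ∃ (g : G) (f : O), x = g • f - f}) ⟨g, x, rfl⟩)
    rw [h1, h1, h2]
  let avg : O → B := fun x => c * ∑ g : G, φ (g • x)
  have hdiff : ∀ (g : G) (x : O), φ (g • x) - avg x ∈ I := fun g x => by
    have : φ (g • x) - avg x = (φ (g • x) - φ x) - c * ∑ h : G, (φ (h • x) - φ x) := by
      rw [Finset.sum_sub_distrib, Finset.sum_const, Finset.card_univ, nsmul_eq_mul, mul_sub, ← mul_assoc,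
        hcN, one_mul]
      simp only [avg]
      ring
    rw [this]
    exact I.sub_mem (hφ' g x) (I.mul_mem_left _ (I.sum_mem fun h _ => hφ' h x))
  have hmul : ∀ x y, avg (x * y) = avg x * avg y := fun x y => by
    have h0 : ∀ g : G, φ (g • x) * φ (g • y) =
        avg x * φ (g • y) + avg y * φ (g • x) - avg x * avg y := fun g => by
      have : (φ (g • x) - avg x) * (φ (g • y) - avg y) = 0 := by
        have := Ideal.mul_mem_mul (hdiff g x) (hdiff g y)
        rwa [← pow_two I, hI, Ideal.mem_bot] at this
      linear_combination this
    change c * ∑ g : G, φ (g • (x * y)) = _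
    simp only [smul_mul', map_mul, h0]
    rw [Finset.sum_sub_distrib, Finset.sum_add_distrib, ← Finset.mul_sum, ← Finset.mul_sum, Finset.sum_const,
      Finset.card_univ, nsmul_eq_mul]
    have ha : avg x = c * ∑ g : G, φ (g • x) := rfl
    have hb : avg y = c * ∑ g : G, φ (g • y) := rfl
    linear_combination (-(avg x)) * hb + (-(avg y)) * ha - (avg x * avg y) * hcN
  let ψ : O →ₐ[R] B :=
    { toFun := avg
      map_one' := by simp [avg, smul_one, hcN]
      map_mul' := hmul
      map_zero' := by simp [avg]
      map_add' := fun x y => by simp only [avg, smul_add, map_add, Finset.sum_add_distrib, mul_add]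
      commutes' := fun r => by
        have : ∀ g : G, g • algebraMap R O r = algebraMap R O r := fun g => smul_algebraMap g r
        simp only [avg, this, AlgHom.commutes, Finset.sum_const, Finset.card_univ, nsmul_eq_mul, ← mul_assoc,
          hcN, one_mul] }
  have hinv : ∀ a ∈ J, ψ a = 0 := by
    intro a ha
    have : J ≤ RingHom.ker ψ.toRingHom := Ideal.span_le.2 <| by
      rintro _ ⟨h, x, rfl⟩
      rw [SetLike.mem_coe, RingHom.mem_ker]
      change ψ (h • x - x) = 0
      rw [map_sub, sub_eq_zero]
      change c * ∑ g : G, φ (g • h • x) = c * ∑ g : G, φ (g • x)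
      simp only [smul_smul]
      exact congrArg (c * ·) (Equiv.sum_comp (Equiv.mulRight h) (fun g => φ (g • x)))
    exact this ha
  refine ⟨Ideal.Quotient.liftₐ J ψ hinv, Ideal.Quotient.algHom_ext R ?_⟩
  ext x
  change Ideal.Quotient.mk I (ψ x) = f (Ideal.Quotient.mk J x)
  rw [← show Ideal.Quotient.mk I (φ x) = f (Ideal.Quotient.mk J x) from AlgHom.congr_fun hφ x, Ideal.Quotient.eq]
  have := hdiff 1 x
  rw [one_smul] at this
  exact I.neg_mem_iff.1 (by rw [neg_sub]; exact this)

end Groth.Agent.S16211
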