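import Groth.Statements.S16212

-- import your own Groth.Agent.* helpers here

set_option autoImplicit false
universe u v
open CategoryTheory AlgebraicGeometry
open AlgGrp

namespace Groth.Agent.S16212

/-- The fixed locus of a finite group of invertible order in a smooth algebra is smooth. -/
theorem smooth_fixed {R A : Type u} [CommRing R] [CommRing A] [Algebra R A] [Algebra.Smooth R A]
    {G : Type v} [Group G] [Fintype G] (φ : G → A →ₐ[R] A)
    (hmul : ∀ g h, φ (g * h) = (φ h).comp (φ g)) (hn : IsUnit (Fintype.card G : R)) :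
    Algebra.Smooth R (A ⧸ Ideal.span (Set.range fun p : G × A => φ p.1 p.2 - p.2)) := by
  classical
  set I := Ideal.span (Set.range fun p : G × A => φ p.1 p.2 - p.2)
  obtain ⟨s, hs⟩ := (inferInstance : Algebra.FiniteType R A).out
  have hfg : I.FG := by
    refine ⟨(Finset.univ ×ˢ s).image fun p : G × A => φ p.1 p.2 - p.2, le_antisymm ?_ ?_⟩
    · exact Ideal.span_mono (by rw [Finset.coe_image]; exact Set.image_subset_range _ _)
    · set J := Ideal.span (↑((Finset.univ ×ˢ s).image fun p : G × A => φ p.1 p.2 - p.2) : Set A)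
      refine Ideal.span_le.2 ?_
      rintro _ ⟨⟨g, a⟩, rfl⟩
      let E : Subalgebra R A :=
        { carrier := {x | φ g x - x ∈ J}
          mul_mem' := fun {x y} hx hy => by
            show φ g (x * y) - x * y ∈ J
            rw [map_mul, show φ g x * φ g y - x * y = φ g x * (φ g y - y) + y * (φ g x - x) by ring]
            exact J.add_mem (J.mul_mem_left _ hy) (J.mul_mem_left _ hx)
          add_mem' := fun {x y} hx hy => by
            show φ g (x + y) - (x + y) ∈ J
            rw [map_add, add_sub_add_comm]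
            exact J.add_mem hx hy
          algebraMap_mem' := fun r => by simp }
      have : Algebra.adjoin R (s : Set A) ≤ E :=
        Algebra.adjoin_le fun x hx => Ideal.subset_span (by simpa using ⟨g, x, hx, rfl⟩)
      exact this (hs ▸ Algebra.mem_top)
  haveI : Algebra.FinitePresentation R (A ⧸ I) := Algebra.FinitePresentation.quotient hfg
  haveI : Algebra.FormallySmooth R (A ⧸ I) := by
    refine Algebra.FormallySmooth.of_comp_surjective fun B _ _ N hN f₀ => ?_
    obtain ⟨l, hl⟩ := Algebra.FormallySmooth.comp_surjective R A N hN (f₀.comp (Ideal.Quotient.mkₐ R I))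
    obtain ⟨n, hnn⟩ : ∃ n : B, n * (Fintype.card G : B) = 1 := by
      obtain ⟨v, hv⟩ := hn.exists_left_inv
      exact ⟨algebraMap R B v, by simpa using congrArg (algebraMap R B) hv⟩
    let avg : A → B := fun a => n * ∑ g, l (φ g a)
    have hd : ∀ g a, l (φ g a) - l a ∈ N := fun g a => by
      rw [← Ideal.Quotient.eq]
      have h₁ := DFunLike.congr_fun hl (φ g a)
      have h₂ := DFunLike.congr_fun hl a
      simp only [AlgHom.comp_apply, Ideal.Quotient.mkₐ_eq_mk] at h₁ h₂
      rw [h₁, h₂]
      congr 1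
      exact Ideal.Quotient.eq.2 (Ideal.subset_span ⟨(g, a), rfl⟩)
    have hsum : ∀ a, avg a = l a + n * ∑ g, (l (φ g a) - l a) := fun a => by
      simp only [avg, Finset.sum_sub_distrib, Finset.sum_const, Finset.card_univ, nsmul_eq_mul, mul_sub,
        ← _root_.mul_assoc, hnn, _root_.one_mul, add_sub_cancel]
    have hmem : ∀ a, avg a - l a ∈ N := fun a => by
      rw [hsum, add_sub_cancel_left]
      exact N.mul_mem_left _ (N.sum_mem fun g _ => hd g a)
    let l' : A →ₐ[R] B :=
      { toFun := avg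
        map_one' := by simp [avg, hnn]
        map_zero' := by simp [avg]
        map_add' := fun x y => by simp [avg, Finset.sum_add_distrib, mul_add]
        commutes' := fun r => by
          simp only [avg, AlgHom.commutes, Finset.sum_const, Finset.card_univ, nsmul_eq_mul,
            ← _root_.mul_assoc, hnn, _root_.one_mul]
        map_mul' := fun x y => by
          have hprod : ∀ p q : B, p ∈ N → q ∈ N → p * q = 0 := fun p q hp hq => by
            have := Ideal.mul_mem_mul hp hq
            rwa [← pow_two, hN, Ideal.mem_bot] at this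
          have e : ∑ g, (l (φ g (x * y)) - l (x * y)) =
              l x * ∑ g, (l (φ g y) - l y) + l y * ∑ g, (l (φ g x) - l x) := by
            rw [Finset.mul_sum, Finset.mul_sum, ← Finset.sum_add_distrib]
            refine Finset.sum_congr rfl fun g _ => ?_
            have := hprod _ _ (hd g x) (hd g y)
            rw [map_mul, map_mul, map_mul]
            linear_combination this
          have hxy := hprod _ _ (N.mul_mem_left n (N.sum_mem (t := Finset.univ) fun g _ => hd g x))
            (N.mul_mem_left n (N.sum_mem (t := Finset.univ) fun g _ => hd g y))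
          rw [hsum, hsum, hsum, e, map_mul]
          linear_combination -hxy }
    have hI : ∀ a, a ∈ I → l' a = 0 := by
      intro a ha
      induction ha using Submodule.span_induction with
      | mem x hx =>
        obtain ⟨⟨h, b⟩, rfl⟩ := hx
        rw [map_sub, sub_eq_zero]
        show n * _ = n * _
        congr 1
        refine Fintype.sum_equiv (Equiv.mulLeft h) _ _ fun g => ?_
        rw [Equiv.coe_mulLeft, hmul, AlgHom.comp_apply]
      | zero => exact map_zero _
      | add x y _ _ hx hy => rw [map_add, hx, hy, add_zero]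
      | smul c x _ hx => rw [smul_eq_mul, map_mul, hx, mul_zero]
    refine ⟨Ideal.Quotient.liftₐ I l' hI, ?_⟩
    refine AlgHom.ext fun x => ?_
    obtain ⟨a, rfl⟩ := Ideal.Quotient.mk_surjective x
    have h₂ := DFunLike.congr_fun hl a
    simp only [AlgHom.comp_apply, Ideal.Quotient.mkₐ_eq_mk] at h₂ ⊢
    rw [← h₂]
    exact Ideal.Quotient.eq.2 (hmem a)
  exact ⟨inferInstance, inferInstance⟩

theorem isPullback_fixed {A : CommRingCat.{u}} {X Z : Scheme.{u}} {G : Type v}
    (j : Spec A ⟶ X) [Mono j] (ι : Z ⟶ X) [Mono ι] (φ : G → (A ⟶ A)) (τ : G → (X ⟶ X))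
    (hφ : ∀ g, Spec.map (φ g) ≫ j = j ≫ τ g) (hι : ∀ g, ι ≫ τ g = ι)
    (q : Spec (CommRingCat.of (A ⧸ Ideal.span (Set.range fun p : G × A => (φ p.1).hom p.2 - p.2))) ⟶ Z)
    (hq : q ≫ ι = Spec.map (CommRingCat.ofHom (Ideal.Quotient.mk _)) ≫ j) :
    IsPullback q (Spec.map (CommRingCat.ofHom (Ideal.Quotient.mk _))) ι j := by
  have hex : ∀ c : Limits.PullbackCone ι j, ∃ l, l ≫ Spec.map (CommRingCat.ofHom
      (Ideal.Quotient.mk (Ideal.span (Set.range fun p : G × A => (φ p.1).hom p.2 - p.2)))) = c.snd := by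
    intro c
    have hc : ∀ g, c.snd ≫ Spec.map (φ g) = c.snd := fun g => by
      rw [← cancel_mono j, Category.assoc, hφ, ← reassoc_of% c.condition, ← c.condition, hι g]
    have hker : ∀ a ∈ Ideal.span (Set.range fun p : G × A => (φ p.1).hom p.2 - p.2),
        ((Scheme.ΓSpecIso A).inv ≫ c.snd.appTop).hom a = 0 := by
      intro a ha
      refine (Ideal.span_le (I := RingHom.ker _)).2 ?_ ha
      rintro _ ⟨⟨g, b⟩, rfl⟩
      rw [SetLike.mem_coe, RingHom.mem_ker, map_sub, sub_eq_zero]
      have e : φ g ≫ (Scheme.ΓSpecIso A).inv ≫ c.snd.appTop = (Scheme.ΓSpecIso A).inv ≫ c.snd.appTop := by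
        conv_rhs => rw [← hc g, Scheme.Hom.comp_appTop, ← Scheme.ΓSpecIso_inv_naturality_assoc]
      exact congr($e b)
    refine ⟨c.pt.toSpecΓ ≫ Spec.map (CommRingCat.ofHom (Ideal.Quotient.lift _ _ hker)), ?_⟩
    have key' : CommRingCat.ofHom (Ideal.Quotient.mk (Ideal.span (Set.range fun p : G × A => (φ p.1).hom p.2 - p.2))) ≫
        CommRingCat.ofHom (Ideal.Quotient.lift _ ((Scheme.ΓSpecIso A).inv ≫ c.snd.appTop).hom hker) =
        (Scheme.ΓSpecIso A).inv ≫ c.snd.appTop := CommRingCat.hom_ext (RingHom.ext fun a => rfl)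
    rw [Category.assoc, ← Spec.map_comp, key', Spec.map_comp, ← Scheme.toSpecΓ_naturality_assoc,
      ← SpecMap_ΓSpecIso_hom, ← Spec.map_comp, Iso.inv_hom_id, Spec.map_id]
    exact Category.comp_id _
  choose l hl using hex
  refine ⟨⟨hq⟩, ⟨Limits.PullbackCone.IsLimit.mk _ l ?_ hl ?_⟩⟩
  · intro c
    rw [← cancel_mono ι, Category.assoc, hq, ← Category.assoc, hl, c.condition]
  · intro c m _ hm
    exact (cancel_mono _).1 (hm.trans (hl c).symm)

theorem exists_fixed_closed {S : Scheme.{u}} (X : Over S) [IsSeparated X.hom] {G : Type v} [Group G]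
    (ρ : G →* Aut X) (s : Finset G) :
    ∃ (E : Over S) (j : E ⟶ X), IsClosedImmersion j.left ∧ (∀ g ∈ s, j ≫ (ρ g).hom = j) ∧
      ∀ (T : Over S) (t : T ⟶ X), (∀ g ∈ s, t ≫ (ρ g).hom = t) → ∃ t' : T ⟶ E, t' ≫ j = t := by
  classical
  induction s using Finset.induction_on with
  | empty => exact ⟨X, 𝟙 X, inferInstanceAs (IsClosedImmersion (𝟙 X.left)), by simp, fun T t _ => ⟨t, Category.comp_id t⟩⟩
  | insert a s _ ih =>
    obtain ⟨E, j, hj, hfix, huniv⟩ := ih
    refine ⟨Limits.equalizer (j ≫ (ρ a).hom) j, Limits.equalizer.ι _ _ ≫ j, ?_, fun g hg => ?_, fun T t ht => ?_⟩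
    · rw [Over.comp_left]
      infer_instance
    · rw [Category.assoc]
      rcases Finset.mem_insert.1 hg with rfl | hg
      · exact Limits.equalizer.condition _ _
      · rw [hfix g hg]
    · obtain ⟨t', rfl⟩ := huniv T t fun g hg => ht g (Finset.mem_insert_of_mem hg)
      exact ⟨Limits.equalizer.lift t' (by simpa using ht a (Finset.mem_insert_self _ _)), Limits.equalizer.lift_ι_assoc _ _ _⟩

set_option maxHeartbeats 1000000

/-- Let S be a scheme, X an S-scheme that is smooth, separated and of finite presentation over S, and G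
a finite group whose order is invertible on S (a unit among the global functions of S) acting on X
by S-automorphisms. Then the scheme of G-fixed points of X, namely any S-scheme Z with an S-morphism
ι to X that is itself fixed by every element of G (ι followed by the automorphism of each g equals
ι) and such that an S-morphism T → X is fixed by every element of G exactly when it factors through
ι, and then uniquely, is a closed subscheme of X (ι is a closed immersion) which is smooth and of
finite presentation over S (smooth, quasi-compact and quasi-separated). The published statement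
assumes X only smooth and of finite presentation over S; this row also assumes X separated over S. -/
theorem result (S : Scheme.{u})
    (X : Over S) [Smooth X.hom] [QuasiCompact X.hom] [IsSeparated X.hom]
    (G : Type v) [Group G] [Finite G] (ρ : G →* Aut X)
    (hG : IsUnit (Nat.card G : Γ(S, ⊤)))
    (Z : Over S) (ι : Z ⟶ X) (hι : ∀ g : G, ι ≫ (ρ g).hom = ι)
    (hZ : ∀ (T : Over S) (t : T ⟶ X), (∀ g : G, t ≫ (ρ g).hom = t) ↔ ∃! t' : T ⟶ Z, t' ≫ ι = t) :
    IsClosedImmersion ι.left ∧ Smooth Z.hom ∧ QuasiCompact Z.hom ∧ QuasiSeparated Z.hom := by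
  classical
  haveI := Fintype.ofFinite G
  obtain ⟨E, j, hj, hjfix, hjuniv⟩ := exists_fixed_closed X ρ Finset.univ
  obtain ⟨t', ht', -⟩ := (hZ E j).1 fun g => hjfix g (Finset.mem_univ g)
  obtain ⟨e, he⟩ := hjuniv Z ι fun g _ => hι g
  have hι1 : ∀ {T : Over S} (u v : T ⟶ Z), u ≫ ι = v ≫ ι → u = v := fun {T} u v h =>
    ((hZ T (v ≫ ι)).1 fun g => by rw [Category.assoc, hι]).unique h rfl
  haveI : Mono j.left := inferInstance
  haveI : IsIso e := ⟨⟨t', hι1 _ _ (by rw [Category.assoc, ht', he, Category.id_comp]),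
    (Over.forget S).map_injective ((cancel_mono j.left).1 (by
      show (t' ≫ e).left ≫ j.left = (𝟙 E : E ⟶ E).left ≫ j.left
      rw [← Over.comp_left, ← Over.comp_left, Category.assoc, he, ht', Category.id_comp]))⟩⟩
  haveI hιc : IsClosedImmersion ι.left := by
    rw [← he, Over.comp_left]
    haveI : IsIso e.left := inferInstanceAs (IsIso ((Over.forget S).map e))
    infer_instance
  have hqc : QuasiCompact Z.hom := by rw [← Over.w ι]; infer_instance
  have hqs : QuasiSeparated Z.hom := by rw [← Over.w ι]; infer_instance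
  refine ⟨hιc, ?_, hqc, hqs⟩
  have hloc : ∀ z : Z.left, ∃ (O : Z.left.Opens), z ∈ O ∧ Smooth (O.ι ≫ Z.hom) := by
    intro z
    obtain ⟨W, hW, hxW, -⟩ := exists_isAffineOpen_mem_and_subset (TopologicalSpace.Opens.mem_top (X.hom.base (ι.left.base z)))
    obtain ⟨V₀, hV₀, hxV₀, hV₀W⟩ :=
      exists_isAffineOpen_mem_and_subset (show ι.left.base z ∈ X.hom ⁻¹ᵁ W from hxW)
    have hρX : ∀ g, (ρ g).hom.left ≫ X.hom = X.hom := fun g => Over.w _
    have hpre : ∀ g, (ρ g).hom.left ⁻¹ᵁ (X.hom ⁻¹ᵁ W) = X.hom ⁻¹ᵁ W := fun g => by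
      rw [← Scheme.Hom.comp_preimage, hρX]
    have hfix : ∀ g, (ρ g).hom.left.base (ι.left.base z) = ι.left.base z := fun g => by
      rw [← Scheme.Hom.comp_apply, ← Over.comp_left, hι g]
    let V : X.left.Opens := ⨅ g : G, (ρ g).hom.left ⁻¹ᵁ V₀
    haveI : ∀ g, IsIso (ρ g).hom.left := fun g => ((Over.forget S).mapIso (ρ g : X ≅ X)).isIso_hom
    have hV : IsAffineOpen V ∧ V ≤ X.hom ⁻¹ᵁ W := by
      refine InfClosed.iInf_mem_of_nonempty (s := {U : X.left.Opens | IsAffineOpen U ∧ U ≤ X.hom ⁻¹ᵁ W}) ?_ ?_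
      · rintro U₁ ⟨h₁, l₁⟩ U₂ ⟨h₂, l₂⟩
        exact ⟨isAffineHom_diagonal_iff.mp inferInstance W hW U₁ l₁ U₂ l₂ h₁ h₂, inf_le_left.trans l₁⟩
      · exact fun g => ⟨hV₀.preimage_of_isIso _, (Scheme.Hom.preimage_mono _ hV₀W).trans (hpre g).le⟩
    have hzV : ι.left.base z ∈ V := by
      simp only [V, ← SetLike.mem_coe, TopologicalSpace.Opens.coe_iInf, Set.mem_iInter]
      intro g
      show (ρ g).hom.left.base (ι.left.base z) ∈ V₀
      rw [hfix]
      exact hxV₀
    have hρmul : ∀ g h, (ρ (g * h)).hom.left = (ρ h).hom.left ≫ (ρ g).hom.left := fun g h => by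
      rw [map_mul]
      rfl
    have hstab : ∀ g, Set.range (hV.1.fromSpec ≫ (ρ g).hom.left).base ⊆ Set.range hV.1.fromSpec.base := by
      rintro g _ ⟨p, rfl⟩
      rw [IsAffineOpen.range_fromSpec]
      have hp : hV.1.fromSpec.base p ∈ V := by
        rw [← SetLike.mem_coe, ← IsAffineOpen.range_fromSpec hV.1]
        exact ⟨p, rfl⟩
      simp only [V, SetLike.mem_coe, ← SetLike.mem_coe, TopologicalSpace.Opens.coe_iInf, Set.mem_iInter] at hp ⊢
      intro h
      show (ρ h).hom.left.base ((hV.1.fromSpec ≫ (ρ g).hom.left).base p) ∈ V₀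
      rw [Scheme.Hom.comp_apply, ← Scheme.Hom.comp_apply, ← hρmul]
      exact hp (h * g)
    let σ : G → (Spec Γ(X.left, V) ⟶ Spec Γ(X.left, V)) := fun g =>
      IsOpenImmersion.lift hV.1.fromSpec (hV.1.fromSpec ≫ (ρ g).hom.left) (hstab g)
    have hσ : ∀ g, σ g ≫ hV.1.fromSpec = hV.1.fromSpec ≫ (ρ g).hom.left := fun g => IsOpenImmersion.lift_fac _ _ _
    letI : Algebra Γ(S, W) Γ(X.left, V) := (X.hom.appLE W V hV.2).hom.toAlgebra
    haveI : Algebra.Smooth Γ(S, W) Γ(X.left, V) := X.hom.smooth_appLE hW hV.1 hV.2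
    have hlin : ∀ g, X.hom.appLE W V hV.2 ≫ Spec.preimage (σ g) = X.hom.appLE W V hV.2 := fun g => by
      apply Spec.map_injective
      rw [Spec.map_comp, Spec.map_preimage, ← cancel_mono hW.fromSpec, Category.assoc,
        IsAffineOpen.SpecMap_appLE_fromSpec, reassoc_of% (hσ g), hρX]
    let φ : G → Γ(X.left, V) →ₐ[Γ(S, W)] Γ(X.left, V) := fun g =>
      { (Spec.preimage (σ g)).hom with commutes' := fun r => congr($(hlin g) r) }
    have hmul : ∀ g h, φ (g * h) = (φ h).comp (φ g) := fun g h => by
      have : Spec.preimage (σ (g * h)) = Spec.preimage (σ g) ≫ Spec.preimage (σ h) := by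
        apply Spec.map_injective
        rw [Spec.map_comp, Spec.map_preimage, Spec.map_preimage, Spec.map_preimage,
          ← cancel_mono hV.1.fromSpec, Category.assoc, hσ, hσ, reassoc_of% (hσ h), hρmul]
      exact AlgHom.ext fun a => congr($this a)
    have hn : IsUnit (Fintype.card G : Γ(S, W)) := by
      have := hG.map (S.presheaf.map (homOfLE (le_top : W ≤ ⊤)).op).hom
      rwa [map_natCast, Nat.card_eq_fintype_card] at this
    haveI := smooth_fixed φ hmul hn
    let I : Ideal Γ(X.left, V) := Ideal.span (Set.range fun p : G × Γ(X.left, V) => φ p.1 p.2 - p.2)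
    let mk : Γ(X.left, V) ⟶ CommRingCat.of (Γ(X.left, V) ⧸ I) := CommRingCat.ofHom (Ideal.Quotient.mk I)
    let p : Spec (CommRingCat.of (Γ(X.left, V) ⧸ I)) ⟶ X.left := Spec.map mk ≫ hV.1.fromSpec
    have hmk : ∀ g, Spec.preimage (σ g) ≫ mk = mk := fun g => by
      ext a
      exact Ideal.Quotient.eq.2 (Ideal.subset_span ⟨(g, a), rfl⟩)
    obtain ⟨q, hq, -⟩ := (hZ (Over.mk (p ≫ X.hom)) (Over.homMk p rfl)).1 fun g => by
      ext1
      show p ≫ (ρ g).hom.left = p
      simp only [p, Category.assoc, ← hσ]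
      rw [← Spec.map_preimage (σ g), ← Spec.map_comp_assoc, hmk]
    have hq' : q.left ≫ ι.left = Spec.map mk ≫ hV.1.fromSpec := congr($(hq).left)
    have hpb : IsPullback q.left (Spec.map mk) ι.left hV.1.fromSpec :=
      isPullback_fixed (G := G) hV.1.fromSpec ι.left (fun g => Spec.preimage (σ g)) (fun g => (ρ g).hom.left)
        (fun g => by rw [Spec.map_preimage, hσ]) (fun g => by rw [← Over.comp_left, hι]) q.left hq'
    haveI : IsOpenImmersion q.left := MorphismProperty.of_isPullback hpb.flip inferInstance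
    refine ⟨q.left.opensRange, ?_, ?_⟩
    · show z ∈ Set.range q.left.base
      rw [← hpb.isoPullback_hom_fst, Scheme.Hom.comp_base, TopCat.coe_comp, Set.range_comp, Set.range_eq_univ.2 hpb.isoPullback.hom.surjective, Set.image_univ, Scheme.Pullback.range_fst]
      rw [Set.mem_preimage, IsAffineOpen.range_fromSpec]
      exact hzV
    · have hsm : Smooth (q.left ≫ Z.hom) := by
        rw [Over.w q]
        show Smooth ((Spec.map mk ≫ hV.1.fromSpec) ≫ X.hom)
        rw [Category.assoc, ← IsAffineOpen.SpecMap_appLE_fromSpec X.hom hW hV.1 hV.2, ← Spec.map_comp_assoc]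
        haveI : Smooth (Spec.map (X.hom.appLE W V hV.2 ≫ mk)) :=
          (HasRingHomProperty.Spec_iff (P := @Smooth)).2
            ((RingHom.smooth_algebraMap (R := Γ(S, W)) (S := Γ(X.left, V) ⧸ I)).2 inferInstance)
        infer_instance
      have e : q.left.opensRange.ι ≫ Z.hom = q.left.isoOpensRange.inv ≫ q.left ≫ Z.hom := by
        rw [Scheme.Hom.isoOpensRange_inv_comp_assoc]
      rw [e]
      exact MorphismProperty.comp_mem _ _ _ inferInstance hsm
  choose O hzO hO using hloc
  haveI : IsZariskiLocalAtSource @Smooth.{u} := HasRingHomProperty.instIsZariskiLocalAtSource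
  exact (IsZariskiLocalAtSource.iff_of_iSup_eq_top (P := @Smooth.{u}) O
    (eq_top_iff.2 fun z _ => TopologicalSpace.Opens.mem_iSup.2 ⟨z, hzO z⟩)).2 hO

end Groth.Agent.S16212
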