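import Groth.Statements.S16214
import Groth.Agent.Lib.BGAtlas.BGSmooth


set_option autoImplicit false
set_option backward.isDefEq.respectTransparency false
set_option backward.isDefEq.respectTransparency.types false
universe u
open CategoryTheory AlgebraicGeometry
open AlgSt

namespace Groth.Agent.S16214

/-- Let k be an algebraically closed field and Δ a finite diagonalizable group scheme over k, written Δ
= D(M) = Spec k[M] for a finite abelian group M. Then the classifying stack BΔ (whose objects over a
k-scheme T are the fppf-locally trivial Δ_T-torsors) is smooth over k, in the chart form: there are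
schemes U, V over k, a smooth surjective chart (Sch/U) ⟶ BΔ, a smooth chart (Sch/V) of Spec k and a
smooth U ⟶ V making the chart square commute up to isomorphism. (Δ itself need not be smooth, e.g.
μ_p in characteristic p.) The published statement allows any diagonalizable Δ; this row takes Δ
finite, i.e. M finite, the case its proof treats. -/
theorem result (k : Type u) [Field k] [IsAlgClosed k]
    (M : Type) [AddCommGroup M] [Finite M] :
    AlgSt.LocQ (AlgSp.LocP @Smooth)
      (FibCat.toSelf (AlgSt.BG Scheme.fppfPrecoverage (Red.diag k M))) := by
  haveI : Finite (Multiplicative M) := inferInstanceAs (Finite M)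
  haveI : IsAffineHom (Red.diag k M).hom := inferInstanceAs (IsAffineHom (Spec.map _))
  haveI : Flat (Red.diag k M).hom := by
    change Flat (Spec.map (CommRingCat.ofHom (algebraMap k (MonoidAlgebra k (Multiplicative M)))))
    rw [HasRingHomProperty.Spec_iff (P := @Flat)]
    exact RingHom.flat_algebraMap_iff.mpr inferInstance
  haveI : LocallyOfFinitePresentation (Red.diag k M).hom := by
    change LocallyOfFinitePresentation (Spec.map (CommRingCat.ofHom (algebraMap k (MonoidAlgebra k (Multiplicative M)))))
    rw [HasRingHomProperty.Spec_iff (P := @LocallyOfFinitePresentation)]
    haveI : Module.Finite k (MonoidAlgebra k (Multiplicative M)) := Module.Finite.of_basis (MonoidAlgebra.basis (Multiplicative M) k)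
    exact RingHom.finitePresentation_algebraMap.mpr (Algebra.FinitePresentation.of_finiteType.mp (inferInstanceAs (Algebra.FiniteType k (MonoidAlgebra k (Multiplicative M)))))
  exact GrothLib.BGAtlas.locQ_smooth_BG

end Groth.Agent.S16214
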