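import Groth.Statements.S16218
import Groth.Agent.Lib.GenusZeroFam2.Coarse

set_option autoImplicit false
set_option linter.all false
universe u
open CategoryTheory CategoryTheory.Limits AlgebraicGeometry
open Curves

namespace Groth.Agent.S16218

/-- Let k be an algebraically closed field. For the moduli problem of curves of genus 0 over k-schemes
(smooth proper geometrically irreducible morphisms whose geometric fibres are one-dimensional of
genus 0, up to isomorphism over the base), the point M = Spec k with the morphism φ sending each
family over T to the structure morphism of T satisfies: (b) every morphism ψ from the problem to a
functor of points h_N, both taken on test schemes of finite type over k, factors as φ followed by a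
unique k-morphism Spec k → N; and (a) φ is bijective on geometric points: over every algebraically
closed field Ω over k there is a family of genus-0 curves over Spec Ω and any two are isomorphic. In
particular Spec k is a coarse moduli scheme for curves of genus 0 in this sense (universal property
for test schemes of finite type over k), and the family over Spec k in (a) is a tautological family.
(The published statement asserts the universal property (b) for all k-schemes as test schemes and
for families projective over the base; its proof treats test schemes of finite type over k,
indicating the general case only in outline, so (b) is stated for finite-type test schemes here, and
properness replaces projectivity, which changes nothing in the argument. Since Spec k is terminal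
among k-schemes, φ is unique and is quantified existentially.) -/
theorem result
    {k : Type u} [Field k] [IsAlgClosed k] :
    ∃ φ : (ModFun.Mg (Spec (CommRingCat.of k)) 0).Hom ⊤ (Over.mk (𝟙 (Spec (CommRingCat.of k)))),
      ModFun.IsBestApprox
          (fun T : Over (Spec (CommRingCat.of k)) => LocallyOfFiniteType T.hom ∧ QuasiCompact T.hom)
          (ModFun.Mg (Spec (CommRingCat.of k)) 0) (Over.mk (𝟙 (Spec (CommRingCat.of k)))) (φ.ofLE le_top) ∧
        ModFun.GeomBij (ModFun.Mg (Spec (CommRingCat.of k)) 0) (Over.mk (𝟙 (Spec (CommRingCat.of k)))) φ :=
  GrothLib.GenusZeroFam2.coarse k

end Groth.Agent.S16218
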