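import Groth.Statements.S16219
import Mathlib

set_option autoImplicit false
set_option maxHeartbeats 1000000
set_option linter.all false
set_option backward.isDefEq.respectTransparency false
universe u
open Lim

namespace Groth.Agent.S16219

open AlgebraicGeometry CategoryTheory Limits TopologicalSpace PrimeSpectrum

instance std_of_injective {R C : CommRingCat.{u}} (ι : R ⟶ C) [hi : Fact (Function.Injective ι.hom)] :
    IsSchemeTheoreticallyDominant (Spec.map ι) := by
  constructor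
  rw [AlgebraicGeometry.Scheme.ker_of_isAffine]
  have : Function.Injective (Spec.map ι).appTop.hom := by
    have h := congrArg (fun φ => φ.hom) (Scheme.ΓSpecIso_naturality ι)
    intro x y hxy
    have h1 := DFunLike.congr_fun h x
    have h2 := DFunLike.congr_fun h y
    simp only [CommRingCat.hom_comp, RingHom.comp_apply, hxy] at h1 h2
    exact (Scheme.ΓSpecIso R).commRingCatIsoToRingEquiv.injective (hi.out (h1.symm.trans h2))
  rw [(RingHom.injective_iff_ker_eq_bot _).1 this]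
  refine Scheme.IdealSheafData.ext (funext fun U => ?_)
  exact Ideal.map_bot

abbrev bo {R : CommRingCat.{u}} (c : R) : (Spec R).Opens := PrimeSpectrum.basicOpen c

theorem ext_preimage {κ : Type u} {Y X' Z : Scheme.{u}} (q : Y ⟶ X') (W : κ → X'.Opens) (hW : IsOpenCover W)
    (a b : Y ⟶ Z) (h : ∀ c, (q ⁻¹ᵁ W c).ι ≫ a = (q ⁻¹ᵁ W c).ι ≫ b) : a = b :=
  (Scheme.openCoverOfIsOpenCover Y (fun c => q ⁻¹ᵁ W c) (hW.comap q.base.hom)).hom_ext _ _ h

theorem restrict_cancel {R C : CommRingCat.{u}} (ι : R ⟶ C) (hι : Function.Injective ι.hom)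
    (O : (Spec R).Opens) {Y : Scheme.{u}} [IsAffine Y] (a b : O.toScheme ⟶ Y)
    (h : Spec.map ι ∣_ O ≫ a = Spec.map ι ∣_ O ≫ b) : a = b := by
  have : Fact (Function.Injective ι.hom) := ⟨hι⟩
  have : IsSchemeTheoreticallyDominant (Spec.map ι ∣_ O) :=
    .of_isPullback (isPullback_morphismRestrict (Spec.map ι) O).flip
  refine ext_of_isAffine ?_
  ext x
  apply (Spec.map ι ∣_ O).app_injective ⊤
  have := congrArg (fun φ => (Scheme.Hom.appTop φ).hom x) h
  simpa using this

theorem app_algebraMap {R C : CommRingCat.{u}} (ι : R ⟶ C) (U : (Spec R).Opens) (r : R) :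
    (Spec.map ι).app U (algebraMap R Γ(Spec R, U) r) = algebraMap C Γ(Spec C, Spec.map ι ⁻¹ᵁ U) (ι r) := by
  have : (Scheme.ΓSpecIso R).inv ≫ (Spec R).presheaf.map (homOfLE le_top).op ≫ (Spec.map ι).app U =
      ι ≫ (Scheme.ΓSpecIso C).inv ≫ (Spec C).presheaf.map (homOfLE le_top).op := by
    rw [(Spec.map ι).naturality, ← Category.assoc, ← Category.assoc, Scheme.ΓSpecIso_inv_naturality]
    rfl
  exact ConcreteCategory.congr_hom this r

theorem exists_local {A C : CommRingCat.{u}} (aC : A ⟶ C) (X : Scheme.{u}) (f : X ⟶ Spec A)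
    [LocallyOfFiniteType f] (g : Spec C ⟶ X) (hg : g ≫ f = Spec.map aC) (c : C) (U : X.Opens)
    (hU : IsAffineOpen U) (hc : bo c ≤ g ⁻¹ᵁ U) :
    ∃ F : Set C, F.Finite ∧ ∀ (R : CommRingCat.{u}) (ι : R ⟶ C) (aR : A ⟶ R), aR ≫ ι = aC →
      Function.Injective ι.hom → F ⊆ Set.range ι.hom → ∀ c' : R, ι c' = c →
      ∃ h : (bo c').toScheme ⟶ X,
        Spec.map ι ∣_ bo c' ≫ h = (Spec.map ι ⁻¹ᵁ bo c').ι ≫ g ∧
        h ≫ f = (bo c').ι ≫ Spec.map aR ∧
        Set.range h ⊆ (U : Set X) := by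
  classical
  let T : (Spec A).Opens := ⊤
  have hfin := LocallyOfFiniteType.finiteType_appLE (f := f) (isAffineOpen_top _) hU (e := le_top)
  let := (f.appLE T U le_top).hom.toAlgebra
  obtain ⟨s, hs⟩ := (hfin : Algebra.FiniteType Γ(Spec A, T) Γ(X, U)).1
  choose n x hx using fun b : s => IsLocalization.Away.surj c (g.appLE U (bo c) hc b.1)
  refine ⟨Set.range x, Set.finite_range x, fun R ι aR haR hι hF c' hc' => ?_⟩
  subst hc'
  let W : (Spec R).Opens := bo c'
  let φ : Γ(X, U) ⟶ Γ(Spec C, Spec.map ι ⁻¹ᵁ W) := g.appLE U _ hc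
  have : Fact (Function.Injective ι.hom) := ⟨hι⟩
  have hinj : Function.Injective ((Spec.map ι).app W).hom := (Spec.map ι).app_injective W
  have hA : ∀ a, φ ((f.appLE T U le_top) a) ∈ ((Spec.map ι).app W).hom.range := by
    intro a
    refine ⟨(Spec.map aR).appLE T W le_top a, ?_⟩
    have : (Spec.map aR).appLE T W le_top ≫ (Spec.map ι).app W = f.appLE T U le_top ≫ φ := by
      rw [Scheme.Hom.app_eq_appLE, Scheme.Hom.appLE_comp_appLE, Scheme.Hom.appLE_comp_appLE]
      congr 1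
      rw [hg, ← haR, Spec.map_comp]
    exact ConcreteCategory.congr_hom this a
  have hr : ∀ b, φ b ∈ ((Spec.map ι).app W).hom.range := by
    intro b
    have hb : b ∈ Algebra.adjoin Γ(Spec A, T) (s : Set Γ(X, U)) := hs ▸ Algebra.mem_top
    induction hb using Algebra.adjoin_induction with
    | mem b hb =>
      obtain ⟨z, hz⟩ := hF ⟨⟨b, hb⟩, rfl⟩
      obtain ⟨v, hv⟩ := ((IsLocalization.Away.algebraMap_isUnit c' (S := Γ(Spec R, W))).pow (n ⟨b, hb⟩)).exists_right_inv
      refine ⟨algebraMap R Γ(Spec R, W) z * v, ?_⟩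
      have h1 := congrArg ((Spec.map ι).app W).hom hv
      rw [map_mul, map_pow, map_one] at h1
      rw [map_mul]
      erw [app_algebraMap ι W c'] at h1
      erw [app_algebraMap ι W z, hz, ← hx ⟨b, hb⟩, mul_assoc, h1, mul_one]
      rfl
    | algebraMap r => exact hA r
    | add x y _ _ hx hy => rw [map_add]; exact add_mem hx hy
    | mul x y _ _ hx hy => rw [map_mul]; exact mul_mem hx hy
  choose ψ hψ using hr
  let ψ' : Γ(X, U) ⟶ Γ(Spec R, W) := CommRingCat.ofHom
    { toFun := ψ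
      map_one' := hinj (by rw [hψ, map_one, map_one])
      map_mul' := fun a b => hinj (by rw [map_mul, hψ, hψ, hψ, map_mul])
      map_zero' := hinj (by rw [hψ, map_zero, map_zero])
      map_add' := fun a b => hinj (by rw [map_add, hψ, hψ, hψ, map_add]) }
  have hψ' : ψ' ≫ (Spec.map ι).app W = φ := by
    ext b
    exact hψ b
  refine ⟨W.toSpecΓ ≫ Spec.map ψ' ≫ hU.fromSpec, ?_, ?_, ?_⟩
  · rw [← Scheme.Opens.toSpecΓ_naturality_assoc, ← Spec.map_comp_assoc, hψ',
      Scheme.Opens.toSpecΓ_SpecMap_appLE_assoc, hU.toSpecΓ_fromSpec, Scheme.Hom.resLE_comp_ι]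
  · refine restrict_cancel ι hι W _ _ ?_
    rw [morphismRestrict_ι_assoc, ← Spec.map_comp, haR]
    simp only [Category.assoc]
    rw [← Scheme.Opens.toSpecΓ_naturality_assoc, ← Spec.map_comp_assoc, hψ', Scheme.Opens.toSpecΓ_SpecMap_appLE_assoc, hU.toSpecΓ_fromSpec_assoc,
      Scheme.Hom.resLE_comp_ι_assoc, hg]
  · rw [← hU.range_fromSpec]
    rintro _ ⟨p, rfl⟩
    exact ⟨_, rfl⟩

theorem exists_le {R C : CommRingCat.{u}} (ι : R ⟶ C) (V : (Spec R).Opens) (d : R)
    (h : Spec.map ι ⁻¹ᵁ bo d ≤ Spec.map ι ⁻¹ᵁ V) :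
    ∃ F : Set C, F.Finite ∧ ∀ (R' : CommRingCat.{u}) (τ : R ⟶ R') (ι' : R' ⟶ C), τ ≫ ι' = ι →
      Function.Injective ι'.hom → F ⊆ Set.range ι'.hom → Spec.map τ ⁻¹ᵁ bo d ≤ Spec.map τ ⁻¹ᵁ V := by
  classical
  obtain ⟨s, hs⟩ := (PrimeSpectrum.isOpen_iff (V : Set (Spec R))).1 V.isOpen
  have h1 : ι d ∈ (Ideal.span (ι '' s)).radical := by
    rw [← vanishingIdeal_zeroLocus_eq_radical, mem_vanishingIdeal]
    intro p hp
    rw [zeroLocus_span] at hp
    by_contra hd
    have := h (show p ∈ Spec.map ι ⁻¹ᵁ bo d from hd)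
    refine (show (Spec.map ι p : PrimeSpectrum R) ∉ (V : Set (Spec R))ᶜ from fun h' => h' this) ?_
    rw [hs]
    intro r hr
    exact hp ⟨r, hr, rfl⟩
  obtain ⟨m, hm⟩ := h1
  obtain ⟨x, t, ht, -, hsum⟩ := Submodule.mem_span_iff_exists_finset_subset.1 hm
  refine ⟨x '' t, t.finite_toSet.image x, fun R' τ ι' hτ hι' hF p hp => ?_⟩
  by_contra hpV
  have hall : ∀ r ∈ s, τ r ∈ (show PrimeSpectrum R' from p).asIdeal := fun r hr => by
    have : (Spec.map τ p : PrimeSpectrum R) ∈ ((V : Set (Spec R))ᶜ : Set (PrimeSpectrum R)) := hpV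
    rw [hs] at this
    exact this hr
  apply hp
  refine (show PrimeSpectrum R' from p).isPrime.mem_of_pow_mem m ?_
  have hcomp : ∀ r, ι r = ι' (τ r) := fun r => (ConcreteCategory.congr_hom hτ r).symm
  choose z hz using fun a : t => hF ⟨a.1, a.2, rfl⟩
  choose q hq hqe using fun a : t => ht a.2
  have : (τ d) ^ m = ∑ a : t, z a * τ (q a) := by
    apply hι'
    simp only [map_sum, map_mul, map_pow]
    rw [← hcomp, ← hsum, ← Finset.sum_coe_sort t (fun a => x a • a)]
    refine Finset.sum_congr rfl fun a _ => ?_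
    rw [smul_eq_mul, hz a, ← hcomp, hqe]
  exact this ▸ Ideal.sum_mem _ fun a _ => Ideal.mul_mem_left _ _ (hall _ (hq a))

theorem exists_index {ι : Type u} {A C : Type u} [CommRing A] [CommRing C] [Algebra A C]
    {S : ι → Subalgebra A C} (hdir : Directed (· ≤ ·) S) (hcov : ∀ c : C, ∃ i, c ∈ S i)
    (i₀ : ι) {F : Set C} (hF : F.Finite) : ∃ i, S i₀ ≤ S i ∧ F ⊆ (S i : Set C) := by
  induction F, hF using Set.Finite.induction_on with
  | empty => exact ⟨i₀, le_rfl, Set.empty_subset _⟩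
  | @insert a F _ _ ih =>
    obtain ⟨i, h1, h2⟩ := ih
    obtain ⟨k, hk⟩ := hcov a
    obtain ⟨j, hj, hj'⟩ := hdir i k
    exact ⟨j, h1.trans hj, Set.insert_subset (hj' hk) (h2.trans hj)⟩


open AlgebraicGeometry CategoryTheory in
/-- Let A be a commutative ring, X a scheme of finite type over Spec A (quasi-compact and locally of
finite type), C an A-algebra that is an integral domain and the union of a directed family of
A-subalgebras C_i, and g : Spec C → X an A-morphism. Then for some index i there is an A-morphism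
Spec C_i → X whose composite with the morphism Spec C → Spec C_i induced by the inclusion is g. The
published statement asserts that the map from the colimit of the sets of A-morphisms Spec C_i → X to
the set of A-morphisms Spec C → X is bijective; this row states only that it is surjective
(injectivity holds for every filtered colimit of A-algebras). -/
theorem result
    {ι : Type u} (A C : Type u) [CommRing A] [CommRing C] [Algebra A C] [IsDomain C]
    (S : ι → Subalgebra A C) (hdir : Directed (· ≤ ·) S) (hcov : ∀ c : C, ∃ i, c ∈ S i)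
    (X : Scheme.{u}) (f : X ⟶ Spec (CommRingCat.of A))
    [LocallyOfFiniteType f] [QuasiCompact f]
    (g : Spec (CommRingCat.of C) ⟶ X)
    (hg : g ≫ f = Spec.map (CommRingCat.ofHom (algebraMap A C))) :
    ∃ (i : ι) (g' : Spec (CommRingCat.of (S i)) ⟶ X),
      g' ≫ f = Spec.map (CommRingCat.ofHom (algebraMap A (S i))) ∧
      Spec.map (CommRingCat.ofHom (S i).val.toRingHom) ≫ g' = g := by
  classical
  let C' : CommRingCat.{u} := CommRingCat.of C
  let T : Set C := {c | ∃ U : X.Opens, IsAffineOpen U ∧ (PrimeSpectrum.basicOpen c : (Spec C').Opens) ≤ g ⁻¹ᵁ U}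
  have hT : (1 : C) ∈ Ideal.span T := by
    rw [← Ideal.eq_top_iff_one]
    by_contra hne
    obtain ⟨m, hm, hle⟩ := Ideal.exists_le_maximal _ hne
    let p : Spec C' := (⟨m, hm.isPrime⟩ : PrimeSpectrum C)
    obtain ⟨_, ⟨U, hU, rfl⟩, hpU, -⟩ :=
      X.isBasis_affineOpens.exists_subset_of_mem_open (Set.mem_univ (g p)) isOpen_univ
    obtain ⟨_, ⟨c, rfl⟩, hpc, hcU⟩ :=
      PrimeSpectrum.isTopologicalBasis_basic_opens.exists_subset_of_mem_open
        (show p ∈ (g ⁻¹ᵁ U : Set _) from hpU) (g ⁻¹ᵁ U).isOpen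
    exact hpc (hle (Ideal.subset_span ⟨U, hU, hcU⟩))
  obtain ⟨r, t, htT, -, hsum⟩ := Submodule.mem_span_iff_exists_finset_subset.1 hT
  choose U hU hle using fun c : t => htT c.2
  let aC : CommRingCat.of A ⟶ C' := CommRingCat.ofHom (algebraMap A C)
  choose F hF hloc using fun c : t => exists_local aC X f g hg c.1 (U c) (hU c) (hle c)
  obtain ⟨i₀, -⟩ := hcov 0
  obtain ⟨i, -, hi⟩ := exists_index hdir hcov i₀ ((Set.finite_iUnion hF).union t.finite_toSet)
  let R : CommRingCat.{u} := CommRingCat.of (S i)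
  let v : R ⟶ C' := CommRingCat.ofHom (S i).val.toRingHom
  let cc : t → R := fun c => ⟨c.1, hi (.inr c.2)⟩
  choose h hh hhf hhU using fun c : t => hloc c R v (CommRingCat.ofHom (algebraMap A (S i))) rfl
    Subtype.val_injective (fun y hy => ⟨⟨y, hi (.inl (Set.mem_iUnion_of_mem c hy))⟩, rfl⟩) (cc c) rfl
  let W : t → (Spec R).Opens := fun c => PrimeSpectrum.basicOpen (cc c)
  let V : t → t → (Spec R).Opens := fun k l => (W k).ι ''ᵁ (h k ⁻¹ᵁ U l)
  have hV : ∀ k l, Spec.map v ⁻¹ᵁ PrimeSpectrum.basicOpen (cc k * cc l) ≤ Spec.map v ⁻¹ᵁ V k l := by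
    intro k l p hp
    have hp' : Spec.map v p ∈ W k ⊓ W l := by
      show Spec.map v p ∈ PrimeSpectrum.basicOpen (cc k) ⊓ PrimeSpectrum.basicOpen (cc l)
      rw [← PrimeSpectrum.basicOpen_mul]; exact hp
    refine ⟨⟨_, hp'.1⟩, ?_, rfl⟩
    have := congrArg (fun φ => φ ⟨p, hp'.1⟩) (hh k)
    simp only [Scheme.Hom.comp_apply] at this
    have e : (Spec.map v ∣_ W k) ⟨p, hp'.1⟩ = ⟨_, hp'.1⟩ := Subtype.ext (morphismRestrict_base_coe _ _ _)
    rw [e] at this
    show h k _ ∈ U l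
    rw [this]
    exact hle l hp'.2
  choose G hG hGle using fun kl : t × t => exists_le v (V kl.1 kl.2) (cc kl.1 * cc kl.2) (hV kl.1 kl.2)
  obtain ⟨j, hij, hj⟩ := exists_index hdir hcov i
    ((Set.finite_iUnion hG).union ((t.finite_toSet.image r).union t.finite_toSet))
  let R' : CommRingCat.{u} := CommRingCat.of (S j)
  let v' : R' ⟶ C' := CommRingCat.ofHom (S j).val.toRingHom
  let τ : R ⟶ R' := CommRingCat.ofHom (Subalgebra.inclusion hij).toRingHom
  have hτ : τ ≫ v' = v := rfl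
  have hπ : Spec.map v' ≫ Spec.map τ = Spec.map v := by rw [← Spec.map_comp, hτ]
  let W' : t → (Spec R').Opens := fun c => Spec.map τ ⁻¹ᵁ W c
  let h' : ∀ c, (W' c).toScheme ⟶ X := fun c => Spec.map τ ∣_ W c ≫ h c
  have hcov' : IsOpenCover W' := by
    show ⨆ c, PrimeSpectrum.basicOpen (τ (cc c)) = ⊤
    rw [PrimeSpectrum.iSup_basicOpen_eq_top_iff, Ideal.eq_top_iff_one]
    have hone : (1 : R') = ∑ c : t, (⟨r c.1, hj (.inr (.inl ⟨c.1, c.2, rfl⟩))⟩ : R') * τ (cc c) := by
      apply Subtype.val_injective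
      rw [AddSubmonoidClass.coe_finset_sum]
      show (1 : C) = ∑ c : t, r c.1 * c.1
      rw [Finset.sum_coe_sort t (fun c => r c * c)]
      simpa using hsum.symm
    rw [hone]
    exact Ideal.sum_mem _ fun c _ => Ideal.mul_mem_left _ _ (Ideal.subset_span ⟨c, rfl⟩)
  have key : ∀ (c : t) (O : (Spec R').Opens) (hO : O ≤ W' c),
      Spec.map v' ∣_ O ≫ (Spec R').homOfLE hO ≫ h' c = (Spec.map v' ⁻¹ᵁ O).ι ≫ g := by
    intro c O hO
    have hle' : Spec.map v' ⁻¹ᵁ O ≤ Spec.map v ⁻¹ᵁ W c := by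
      rw [← hπ]; exact (Spec.map v').preimage_mono hO
    have e : Spec.map v' ∣_ O ≫ (Spec R').homOfLE hO ≫ Spec.map τ ∣_ W c =
        (Spec C').homOfLE hle' ≫ Spec.map v ∣_ W c := by
      rw [← cancel_mono (W c).ι]
      simp [W', hπ]
    rw [reassoc_of% e, hh c, Scheme.homOfLE_ι_assoc]
  let 𝒲 := Scheme.openCoverOfIsOpenCover _ W' hcov'
  have hglue : ∀ k l, pullback.fst (W' k).ι (W' l).ι ≫ h' k = pullback.snd (W' k).ι (W' l).ι ≫ h' l := by
    intro k l
    rw [← cancel_epi (isPullback_opens_inf (W' k) (W' l)).isoPullback.hom]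
    simp only [IsPullback.isoPullback_hom_fst_assoc, IsPullback.isoPullback_hom_snd_assoc]
    let O := W' k ⊓ W' l
    have : IsAffine (U l).toScheme := hU l
    have hle'' : O ≤ Spec.map τ ⁻¹ᵁ V k l := by
      refine le_trans ?_ (hGle (k, l) R' τ v' hτ Subtype.val_injective
        fun y hy => ⟨⟨y, hj (.inl (Set.mem_iUnion_of_mem (k, l) hy))⟩, rfl⟩)
      show _ ≤ Spec.map τ ⁻¹ᵁ PrimeSpectrum.basicOpen (cc k * cc l)
      rw [PrimeSpectrum.basicOpen_mul]
      exact le_rfl
    have r1 : Set.range ((Spec R').homOfLE (show O ≤ W' k from inf_le_left) ≫ h' k) ⊆ Set.range (U l).ι := by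
      rw [Scheme.Opens.range_ι]
      rintro _ ⟨p, rfl⟩
      obtain ⟨q, hq, hq'⟩ := hle'' p.2
      have : (Spec.map τ ∣_ W k) ((Spec R').homOfLE (show O ≤ W' k from inf_le_left) p) = q :=
        Subtype.ext ((morphismRestrict_base_coe _ _ _).trans (by simpa using hq'.symm))
      show h k ((Spec.map τ ∣_ W k) _) ∈ U l
      exact (congrArg (fun z => h k z ∈ U l) this).mpr hq
    have r2 : Set.range ((Spec R').homOfLE (show O ≤ W' l from inf_le_right) ≫ h' l) ⊆ Set.range (U l).ι := by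
      rw [Scheme.Opens.range_ι]
      rintro _ ⟨p, rfl⟩
      exact hhU l ⟨_, rfl⟩
    rw [← IsOpenImmersion.lift_fac (U l).ι _ r1, ← IsOpenImmersion.lift_fac (U l).ι _ r2]
    congr 1
    refine restrict_cancel v' Subtype.val_injective O _ _ ?_
    rw [← cancel_mono (U l).ι, Category.assoc, Category.assoc, IsOpenImmersion.lift_fac,
      IsOpenImmersion.lift_fac, key k O inf_le_left, key l O inf_le_right]
  refine ⟨j, 𝒲.glueMorphisms h' hglue, 𝒲.hom_ext _ _ fun c => ?_, ?_⟩
  · rw [Scheme.Cover.ι_glueMorphisms_assoc]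
    show (Spec.map τ ∣_ W c ≫ h c) ≫ f = (W' c).ι ≫ _
    rw [Category.assoc, hhf c, morphismRestrict_ι_assoc, ← Spec.map_comp]
    rfl
  · refine ext_preimage (Spec.map v') W' hcov' _ _ fun c => ?_
    have hF : (W' c).ι ≫ 𝒲.glueMorphisms h' hglue = h' c := Scheme.Cover.ι_glueMorphisms 𝒲 h' hglue c
    show (Spec.map v' ⁻¹ᵁ W' c).ι ≫ Spec.map v' ≫ _ = _
    rw [← morphismRestrict_ι_assoc, hF]
    have := key c (W' c) le_rfl
    rwa [Scheme.homOfLE_rfl, Category.id_comp] at this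

end Groth.Agent.S16219
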