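import Groth.Statements.S16223
import Mathlib
import Groth.Agent.Lib.RingDesc.Functorial
import Groth.Prelude.Def_W4c3truncdispsmoothDesc

set_option autoImplicit false
open CategoryTheory Opposite
universe u
open CAlg

namespace Groth.Agent.S16223

open TensorProduct CategoryTheory Opposite

theorem exists_of_tmul_one_eq' {R S : Type u} [CommRing R] [CommRing S] [Algebra R S]
    [Module.FaithfullyFlat R S] (p : ℕ) [Fact p.Prime] (n : ℕ) (z : TruncatedWittVector p n S)
    (h : WittGrp.truncMap p n (Algebra.TensorProduct.includeLeftRingHom : S →+* S ⊗[R] S) z =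
      WittGrp.truncMap p n ((Algebra.TensorProduct.includeRight : S →ₐ[R] S ⊗[R] S).toRingHom) z) :
    ∃ r, WittGrp.truncMap p n (algebraMap R S) r = z := by
  choose r hr using fun l : Fin n =>
    GrothLib.RingDesc.Functorial.exists_of_tmul_one_eq (R := R) (z.coeff l) (by
      have h1 := congrArg (fun w => TruncatedWittVector.coeff l w) h
      simp only [WittGrp.coeff_truncMap] at h1
      exact h1)
  exact ⟨TruncatedWittVector.mk p r, TruncatedWittVector.ext fun l => by
    simp [WittGrp.coeff_truncMap, hr]⟩

theorem aux.{v₁, w₁} {C : Type w₁} [Category.{v₁} C] (G : Cᵒᵖ ⥤ CommRingCat.{u})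
    (P : Pseudofunctor (LocallyDiscrete Cᵒᵖ) Cat.{u, u + 1})
    (hP : P = G.toPseudofunctor.comp CommRingCat.moduleCatExtendScalarsPseudofunctor.{u})
    {X X₀ Y : C} (f : X ⟶ X₀) (a b : Y ⟶ X) (hab : a ≫ f = b ≫ f)
    (hmapinj : Function.Injective (G.map f.op).hom)
    (heq : ∀ z : G.obj (op X), (G.map a.op).hom z = (G.map b.op).hom z →
      ∃ r, (G.map f.op).hom r = z)
    (M N : P.obj ⟨op X₀⟩) (N' : ModuleCat.{u} (G.obj (op X₀))) (hN : HEq N N')
    {m : ℕ} (π : (Fin m → G.obj (op X₀)) →ₗ[G.obj (op X₀)] N')
    (i : N' →ₗ[G.obj (op X₀)] Fin m → G.obj (op X₀))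
    (hπi : π.comp i = LinearMap.id) :
    Function.Bijective (fun φ : M ⟶ N => (P.toDescentData (fun _ : PUnit.{u + 1} => f)).map φ) := by
  subst hP
  obtain rfl := eq_of_heq hN
  exact GrothLib.RingDesc.Functorial.bijective_map G f a b hab hmapinj heq M N π i hπi


/-- Let p be a prime, n a natural number, and R → R' a faithfully flat homomorphism of commutative rings
in which p is nilpotent; write W_n for truncated Witt vectors of length n. A descent datum of
W_n(R')-modules relative to R → R' is a W_n(R')-module M' with, for every ring T and every pair of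
maps R' ⇉ T agreeing on R, an isomorphism between the two base changes of M' to W_n(T), natural in T
and satisfying the cocycle condition (equivalently an isomorphism over W_n(R' ⊗_R R') with the
cocycle condition over W_n(R' ⊗_R R' ⊗_R R')); base change W_n(R') ⊗_{W_n(R)} M of a W_n(R)-module M
carries the canonical such datum. Then for finitely generated projective W_n(R)-modules M and N, the
map sending a W_n(R)-linear map M → N to the induced morphism of canonical descent data is bijective
(the functor to descent data is fully faithful on such modules). -/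
theorem result (p : ℕ) [Fact p.Prime] (n : ℕ)
    (R R' : Type u) [CommRing R] [CommRing R'] [Algebra R R'] [Module.FaithfullyFlat R R']
    (hp : IsNilpotent (p : R))
    (M N : ModuleCat.{u} (TruncatedWittVector p n R))
    [Module.Finite (TruncatedWittVector p n R) M] [Module.Projective (TruncatedWittVector p n R) M]
    [Module.Finite (TruncatedWittVector p n R) N] [Module.Projective (TruncatedWittVector p n R) N] :
    Function.Bijective (fun φ : M ⟶ N =>
      ((W4c3truncdispsmooth.wittModPF.{u} p n).toDescentData (fun _ : PUnit.{u + 1} => (CommRingCat.ofHom (algebraMap R R')).op)).map φ) := by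
  obtain ⟨m, π, i, -, -, hπi⟩ :=
    Module.Finite.exists_comp_eq_id_of_projective (TruncatedWittVector p n R) N
  refine aux ((unopUnop CommRingCat.{u}) ⋙ W4c3truncdispsmooth.wittTrunc p n)
    (W4c3truncdispsmooth.wittModPF.{u} p n) rfl
    (CommRingCat.ofHom (algebraMap R R')).op (GrothLib.RingDesc.p₁ (R := R) (S := R'))
    (GrothLib.RingDesc.p₂ (R := R) (S := R')) (GrothLib.RingDesc.p_eq (R := R) (S := R')) ?_
    (fun z hz => exists_of_tmul_one_eq' (R := R) (S := R') p n z hz) M N N HEq.rfl π i hπi
  refine fun (x y : TruncatedWittVector p n R) hxy => ?_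
  refine TruncatedWittVector.ext (p := p) fun j => FaithfulSMul.algebraMap_injective R R' ?_
  have h1 := congrArg (fun w => TruncatedWittVector.coeff j w)
    (show WittGrp.truncMap p n (algebraMap R R') x = WittGrp.truncMap p n (algebraMap R R') y from hxy)
  simpa [WittGrp.coeff_truncMap] using h1

end Groth.Agent.S16223
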