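import Groth.Statements.S16224
import Mathlib
import Groth.Agent.Lib.WittDesc.Effective
import Groth.Agent.Lib.WittDesc.Bridge
import Groth.Prelude.Def_W4c3truncdispsmoothDesc

set_option autoImplicit false
open CategoryTheory Opposite
universe u
open CAlg

namespace Groth.Agent.S16224

open TensorProduct CategoryTheory Opposite GrothLib.WittDesc

/-- The functor of truncated Witt vectors on affine schemes. -/
noncomputable abbrev GW (p : ℕ) [Fact p.Prime] (n : ℕ) : (CommRingCat.{u}ᵒᵖ)ᵒᵖ ⥤ CommRingCat.{u} :=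
  (unopUnop CommRingCat.{u}) ⋙ W4c3truncdispsmooth.wittTrunc p n

theorem subsingleton_witt_zero (p : ℕ) (A : Type u) : Subsingleton (TruncatedWittVector p 0 A) :=
  ⟨fun _ _ => TruncatedWittVector.ext fun i => i.elim0⟩

theorem exists_eff (p : ℕ) [Fact p.Prime] (n : ℕ) (R R' : Type u) [CommRing R] [CommRing R'] [Algebra R R']
    [Module.FaithfullyFlat R R'] (hp : IsNilpotent (p : R))
    (D : Bridge.DDG (GW p n) (CommRingCat.ofHom (algebraMap R R')).op)
    {m : ℕ} (π : (Fin m → (GW p n).obj (op (op (CommRingCat.of R')))) →ₗ[(GW p n).obj (op (op (CommRingCat.of R')))]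
      Bridge.obG D)
    (i : Bridge.obG D →ₗ[(GW p n).obj (op (op (CommRingCat.of R')))]
      Fin m → (GW p n).obj (op (op (CommRingCat.of R'))))
    (hπi : π.comp i = LinearMap.id) :
    ∃ M : ModuleCat.{u} ((GW p n).obj (op (op (CommRingCat.of R)))),
      Module.Finite ((GW p n).obj (op (op (CommRingCat.of R)))) M ∧
      Module.Projective ((GW p n).obj (op (op (CommRingCat.of R)))) M ∧
      Nonempty ((((GW p n).toPseudofunctor.comp
        CommRingCat.moduleCatExtendScalarsPseudofunctor.{u}).toDescentData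
          (fun _ : PUnit.{u + 1} => (CommRingCat.ofHom (algebraMap R R')).op)).obj M ≅ D) := by
  let f : op (CommRingCat.of R') ⟶ op (CommRingCat.of R) := (CommRingCat.ofHom (algebraMap R R')).op
  let T := (base R R').witt p n
  let c0 : op (CommRingCat.of (R' ⊗[R] R')) ⟶ op (CommRingCat.of R') := (CommRingCat.ofHom (base R R').a0).op
  let c1 : op (CommRingCat.of (R' ⊗[R] R')) ⟶ op (CommRingCat.of R') := (CommRingCat.ofHom (base R R').a1).op
  have hc : c0 ≫ f = c1 ≫ f := by
    apply Quiver.Hom.unop_inj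
    ext r
    exact ((il R R').commutes r).trans ((ir R R').commutes r).symm
  have hinjA : Function.Injective (WittGrp.truncMap p n (algebraMap R R')) := fun x y hxy =>
    TruncatedWittVector.ext fun j => FaithfulSMul.algebraMap_injective R R' (by
      have h1 := congrArg (fun w => TruncatedWittVector.coeff j w) hxy
      simpa [WittGrp.coeff_truncMap] using h1)
  have huniv : ∀ (Y : CommRingCat.{u}ᵒᵖ) (a b : Y ⟶ op (CommRingCat.of R')) (hab : a ≫ f = b ≫ f),
      ∃ g : Y ⟶ op (CommRingCat.of (R' ⊗[R] R')), g ≫ c0 = a ∧ g ≫ c1 = b := by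
    intro Y a b hab
    letI : Algebra R Y.unop := ((f.unop ≫ a.unop).hom).toAlgebra
    let αa : R' →ₐ[R] Y.unop := { a.unop.hom with commutes' := fun r => rfl }
    let αb : R' →ₐ[R] Y.unop :=
      { b.unop.hom with commutes' := fun r => congr(($(hab.symm)).unop.hom r) }
    let αl : R' ⊗[R] R' →ₐ[R] Y.unop := Algebra.TensorProduct.lift αa αb fun _ _ => Commute.all _ _
    refine ⟨(CommRingCat.ofHom αl.toRingHom).op, ?_, ?_⟩
    · refine Quiver.Hom.unop_inj (CommRingCat.hom_ext (RingHom.ext fun s => ?_))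
      show αl (s ⊗ₜ 1) = αa s
      rw [Algebra.TensorProduct.lift_tmul, map_one, mul_one]
    · refine Quiver.Hom.unop_inj (CommRingCat.hom_ext (RingHom.ext fun s => ?_))
      show αl (1 ⊗ₜ s) = αb s
      rw [Algebra.TensorProduct.lift_tmul, map_one, one_mul]
  let e : Matrix (Fin m) (Fin m) (TruncatedWittVector p n R') := Bridge.idem D π i
  let Φ : Matrix (Fin m) (Fin m) (TruncatedWittVector p n (R' ⊗[R] R')) := Bridge.mat D π i c0 c1 hc
  have hDD : IsDD T e Φ := by
    refine ⟨Bridge.idem_sq D π i hπi, Bridge.mat_right D π i hπi c0 c1 hc,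
      Bridge.mat_left D π i hπi c0 c1 hc, ?_, ?_⟩
    · let gμ : op (CommRingCat.of R') ⟶ op (CommRingCat.of (R' ⊗[R] R')) :=
        (CommRingCat.ofHom (base R R').μ).op
      have h1 := Bridge.mat_pull D π i hπi gμ c0 c1 hc (𝟙 _) (𝟙 _)
        (Quiver.Hom.unop_inj (CommRingCat.hom_ext (base R R').μ_a0))
        (Quiver.Hom.unop_inj (CommRingCat.hom_ext (base R R').μ_a1)) rfl
      rw [Bridge.mat_self D π i hπi, op_id, (GW p n).map_id] at h1
      exact h1.symm
    · let g12 : op (CommRingCat.of (R' ⊗[R] (R' ⊗[R] R'))) ⟶ op (CommRingCat.of (R' ⊗[R] R')) :=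
        (CommRingCat.ofHom (base R R').q12).op
      let g13 : op (CommRingCat.of (R' ⊗[R] (R' ⊗[R] R'))) ⟶ op (CommRingCat.of (R' ⊗[R] R')) :=
        (CommRingCat.ofHom (base R R').q13).op
      let g23 : op (CommRingCat.of (R' ⊗[R] (R' ⊗[R] R'))) ⟶ op (CommRingCat.of (R' ⊗[R] R')) :=
        (CommRingCat.ofHom (base R R').q23).op
      have e1 : g13 ≫ c0 = g12 ≫ c0 :=
        Quiver.Hom.unop_inj (CommRingCat.hom_ext (base R R').q12_a0.symm)
      have e2 : g23 ≫ c0 = g12 ≫ c1 :=
        Quiver.Hom.unop_inj (CommRingCat.hom_ext (base R R').q12_a1.symm)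
      have e3 : g13 ≫ c1 = g23 ≫ c1 :=
        Quiver.Hom.unop_inj (CommRingCat.hom_ext (base R R').q13_a1)
      have hab : (g12 ≫ c0) ≫ f = (g12 ≫ c1) ≫ f := by rw [Category.assoc, hc, Category.assoc]
      have hbc : (g12 ≫ c1) ≫ f = (g23 ≫ c1) ≫ f := by rw [← e2, Category.assoc, hc, Category.assoc]
      have h1 := Bridge.mat_comp D π i hπi _ _ _ hab hbc
      rw [Bridge.mat_pull D π i hπi g12 c0 c1 hc _ _ rfl rfl hab,
        Bridge.mat_pull D π i hπi g23 c0 c1 hc _ _ e2 rfl hbc,
        Bridge.mat_pull D π i hπi g13 c0 c1 hc _ _ e1 e3 (hab.trans hbc)] at h1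
      exact h1
  obtain ⟨K, _, V, L, hV, hVL, hLV⟩ : ∃ (K : Type) (_ : Fintype K) (V : Matrix (Fin m) K (TruncatedWittVector p n R'))
      (L : Matrix K (Fin m) (TruncatedWittVector p n R')),
      IsInv T Φ V ∧ V * L = e ∧ (L * V).map T.a0 = (L * V).map T.a1 := by
    rcases n with _ | k
    · haveI : ∀ A : Type u, Subsingleton (TruncatedWittVector p 0 A) := subsingleton_witt_zero p
      exact ⟨Fin 0, inferInstance, 0, 0, Matrix.ext fun _ _ => Subsingleton.elim _ _,
        Matrix.ext fun _ _ => Subsingleton.elim _ _, Matrix.ext fun _ _ => Subsingleton.elim _ _⟩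
    · obtain ⟨N, hN⟩ := hp
      obtain ⟨K, hK, V, L, hV, hL, hVL⟩ := exists_effective p k (R := R) (S := R') (N := N)
        (by simpa using congrArg (algebraMap R R') hN) hDD
      refine ⟨K, hK, V, L, hV, hVL, ?_⟩
      rw [Matrix.map_mul, Matrix.map_mul, ← hL, Matrix.mul_assoc, hV]
  have hex : ∀ k l, ∃ r : TruncatedWittVector p n R, WittGrp.truncMap p n (algebraMap R R') r = (L * V) k l := by
    intro k l
    choose r hr using fun j : Fin n =>
      GrothLib.RingDesc.Functorial.exists_of_tmul_one_eq (R := R) (((L * V) k l).coeff j) (by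
        have h1 := congrArg (fun w => TruncatedWittVector.coeff j w) (congrFun (congrFun hLV k) l)
        simp only [Matrix.map_apply, T, Maps.witt, WittGrp.coeff_truncMap] at h1
        exact h1)
    exact ⟨TruncatedWittVector.mk p r, TruncatedWittVector.ext fun j => by
      simp [WittGrp.coeff_truncMap, hr]⟩
  choose e0 he0 using hex
  refine Bridge.effective D π i hπi V L (fun Y a b hab => ?_) hVL (Matrix.of e0)
    (Matrix.ext fun k l => he0 k l) hinjA
  obtain ⟨g, rfl, rfl⟩ := huniv Y a b hab
  rw [Bridge.mat_pull D π i hπi g c0 c1 hc _ _ rfl rfl hab, op_comp, op_comp, (GW p n).map_comp,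
    (GW p n).map_comp]
  have h1 := congrArg (fun M : Matrix (Fin m) K (TruncatedWittVector p n (R' ⊗[R] R')) =>
    M.map ((GW p n).map g.op).hom) hV
  exact Matrix.map_mul.symm.trans h1

theorem aux (p : ℕ) [Fact p.Prime] (n : ℕ) (R R' : Type u) [CommRing R] [CommRing R'] [Algebra R R']
    [Module.FaithfullyFlat R R'] (hp : IsNilpotent (p : R))
    (P : Pseudofunctor (LocallyDiscrete (CommRingCat.{u}ᵒᵖ)ᵒᵖ) Cat.{u, u + 1})
    (hP : P = (GW p n).toPseudofunctor.comp CommRingCat.moduleCatExtendScalarsPseudofunctor.{u})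
    (D : P.DescentData (fun _ : PUnit.{u + 1} => (CommRingCat.ofHom (algebraMap R R')).op))
    (N : ModuleCat.{u} (TruncatedWittVector p n R'))
    (hN : HEq (D.obj PUnit.unit) N)
    [Module.Finite (TruncatedWittVector p n R') N] [Module.Projective (TruncatedWittVector p n R') N] :
    ∃ M0 : ModuleCat.{u} (TruncatedWittVector p n R),
      Module.Finite (TruncatedWittVector p n R) M0 ∧ Module.Projective (TruncatedWittVector p n R) M0 ∧
      ∀ M : P.obj ⟨op (op (CommRingCat.of R))⟩, HEq M M0 →
        Nonempty ((P.toDescentData (fun _ : PUnit.{u + 1} =>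
          (CommRingCat.ofHom (algebraMap R R')).op)).obj M ≅ D) := by
  subst hP
  obtain ⟨m, π, i, -, -, hπi⟩ :=
    Module.Finite.exists_comp_eq_id_of_projective (TruncatedWittVector p n R') N
  obtain rfl := eq_of_heq hN
  obtain ⟨M, hfin, hproj, ⟨iso⟩⟩ := exists_eff p n R R' hp D π i hπi
  exact ⟨M, hfin, hproj, fun M' hM => by cases eq_of_heq hM; exact ⟨iso⟩⟩


/-- Let p be a prime, n a natural number, and R → R' a faithfully flat homomorphism of commutative rings
in which p is nilpotent; write W_n for truncated Witt vectors of length n. A descent datum of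
W_n(R')-modules relative to R → R' is a W_n(R')-module M' with, for every ring T and every pair of
maps R' ⇉ T agreeing on R, an isomorphism between the two base changes of M' to W_n(T), natural in T
and satisfying the cocycle condition (equivalently an isomorphism over W_n(R' ⊗_R R') with the
cocycle condition over W_n(R' ⊗_R R' ⊗_R R')); base change W_n(R') ⊗_{W_n(R)} M of a W_n(R)-module M
carries the canonical such datum. Then every descent datum whose underlying W_n(R')-module is
finitely generated and projective is isomorphic to the canonical datum of W_n(R') ⊗ M for some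
finitely generated projective W_n(R)-module M. (Here W_n(R) → W_n(R') is in general not flat, so
this is not a case of faithfully flat descent.) -/
theorem result (p : ℕ) [Fact p.Prime] (n : ℕ)
    (R R' : Type u) [CommRing R] [CommRing R'] [Algebra R R'] [Module.FaithfullyFlat R R']
    (hp : IsNilpotent (p : R))
    (D : (W4c3truncdispsmooth.wittModPF.{u} p n).DescentData (fun _ : PUnit.{u + 1} => (CommRingCat.ofHom (algebraMap R R')).op))
    [Module.Finite (TruncatedWittVector p n R') (W4c3truncdispsmooth.descObj D)]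
    [Module.Projective (TruncatedWittVector p n R') (W4c3truncdispsmooth.descObj D)] :
    ∃ M : ModuleCat.{u} (TruncatedWittVector p n R),
      Module.Finite (TruncatedWittVector p n R) M ∧ Module.Projective (TruncatedWittVector p n R) M ∧
        Nonempty (((W4c3truncdispsmooth.wittModPF.{u} p n).toDescentData (fun _ : PUnit.{u + 1} => (CommRingCat.ofHom (algebraMap R R')).op)).obj M ≅ D) := by
  obtain ⟨M, hfin, hproj, hiso⟩ := aux p n R R' hp (W4c3truncdispsmooth.wittModPF.{u} p n) rfl D
    (W4c3truncdispsmooth.descObj D) HEq.rfl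
  exact ⟨M, hfin, hproj, hiso M HEq.rfl⟩

end Groth.Agent.S16224
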