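import Groth.Statements.S16225
import Mathlib
-- import your own Groth.Agent.* helpers here

set_option autoImplicit false
open scoped TensorProduct
universe u v
open CAlg

namespace Groth.Agent.S16225

/-- Let p be a prime, n a natural number and R → R' a faithfully flat homomorphism of commutative rings
in which p is nilpotent. Regard W_n(R') and W_n(R' ⊗_R R') as W_n(R)-algebras through the
componentwise maps induced by R → R' and R → R' ⊗_R R', and let ψ₁, ψ₂ : W_n(R') → W_n(R' ⊗_R R') be
the componentwise maps induced by the two inclusions of R' (these are W_n(R)-algebra maps). Then for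
every flat W_n(R)-module M the sequence 0 → M → M ⊗_{W_n(R)} W_n(R') ⇉ M ⊗_{W_n(R)} W_n(R' ⊗_R R')
is exact: m ↦ m ⊗ 1 is injective and its image is the equalizer of id ⊗ ψ₁ and id ⊗ ψ₂. (This is the
beginning, in degrees 0 and 1, of a complex continued by the higher tensor powers of R', which the
published proof asserts to be exact throughout; W_n(R) → W_n(R') is not flat in general, so this is
not faithfully flat descent.) -/
theorem result (p : ℕ) [Fact p.Prime] (n : ℕ)
    (R R' : Type u) [CommRing R] [CommRing R'] [Algebra R R'] [Module.FaithfullyFlat R R']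
    (hp : IsNilpotent (p : R))
    [Algebra (TruncatedWittVector p n R) (TruncatedWittVector p n R')]
    (h₁ : algebraMap (TruncatedWittVector p n R) (TruncatedWittVector p n R') = WittGrp.truncMap p n (algebraMap R R'))
    [Algebra (TruncatedWittVector p n R) (TruncatedWittVector p n (TensorProduct R R' R'))]
    (h₂ : algebraMap (TruncatedWittVector p n R) (TruncatedWittVector p n (TensorProduct R R' R')) =
      WittGrp.truncMap p n (algebraMap R (TensorProduct R R' R')))
    (ψ₁ ψ₂ : TruncatedWittVector p n R' →ₐ[TruncatedWittVector p n R] TruncatedWittVector p n (TensorProduct R R' R'))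
    (hψ₁ : (ψ₁ : TruncatedWittVector p n R' →+* TruncatedWittVector p n (TensorProduct R R' R')) =
      WittGrp.truncMap p n (Algebra.TensorProduct.includeLeftRingHom : R' →+* TensorProduct R R' R'))
    (hψ₂ : (ψ₂ : TruncatedWittVector p n R' →+* TruncatedWittVector p n (TensorProduct R R' R')) =
      WittGrp.truncMap p n ((Algebra.TensorProduct.includeRight : R' →ₐ[R] TensorProduct R R' R') : R' →+* TensorProduct R R' R'))
    (M : Type v) [AddCommGroup M] [Module (TruncatedWittVector p n R) M] [Module.Flat (TruncatedWittVector p n R) M] :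
    Function.Injective (fun m : M => m ⊗ₜ[TruncatedWittVector p n R] (1 : TruncatedWittVector p n R')) ∧
      ∀ x : M ⊗[TruncatedWittVector p n R] TruncatedWittVector p n R',
        LinearMap.lTensor M ψ₁.toLinearMap x = LinearMap.lTensor M ψ₂.toLinearMap x →
          x ∈ Set.range (fun m : M => m ⊗ₜ[TruncatedWittVector p n R] (1 : TruncatedWittVector p n R')) := by
  have hinj : Function.Injective (algebraMap R R') := FaithfulSMul.algebraMap_injective R R'
  have heq : ∀ x : R', x ⊗ₜ[R] (1 : R') = (1 : R') ⊗ₜ[R] x → x ∈ Set.range (algebraMap R R') := by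
    intro x hx
    let Q := LinearMap.range (Algebra.linearMap R R')
    have h0 : (1 : R') ⊗ₜ[R] Submodule.mkQ Q x = 0 := by
      have h := congrArg ((Submodule.mkQ Q).lTensor R') hx
      rw [LinearMap.lTensor_tmul, LinearMap.lTensor_tmul,
        show Submodule.mkQ Q (1 : R') = 0 from (Submodule.Quotient.mk_eq_zero Q).mpr ⟨1, by simp⟩,
        TensorProduct.tmul_zero] at h
      exact h.symm
    have h1 : Submodule.mkQ Q x = 0 :=
      Module.FaithfullyFlat.tensorProduct_mk_injective (A := R) (B := R') (R' ⧸ Q)
        (by rw [map_zero]; exact h0)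
    obtain ⟨r, hr⟩ := (Submodule.Quotient.mk_eq_zero Q).mp h1
    exact ⟨r, hr⟩
  let ι := Algebra.linearMap (TruncatedWittVector p n R) (TruncatedWittVector p n R')
  have hιc : ∀ a i, (ι a).coeff i = algebraMap R R' (a.coeff i) := fun a i => by
    show (algebraMap _ _ a : TruncatedWittVector p n R').coeff i = _
    rw [h₁, WittGrp.coeff_truncMap]
  have hι : Function.Injective ι := fun a b hab => TruncatedWittVector.ext fun i => hinj (by
    rw [← hιc, ← hιc, hab])
  let δ := ψ₁.toLinearMap - ψ₂.toLinearMap
  have hex : Function.Exact ι δ := by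
    intro x
    constructor
    · intro hx
      have hx' : ψ₁ x = ψ₂ x := sub_eq_zero.mp hx
      have hc : ∀ i, x.coeff i ∈ Set.range (algebraMap R R') := fun i => heq _ (by
        have := congrArg (fun w => TruncatedWittVector.coeff i w) hx'
        rw [show ψ₁ x = (ψ₁ : TruncatedWittVector p n R' →+* _) x from rfl,
          show ψ₂ x = (ψ₂ : TruncatedWittVector p n R' →+* _) x from rfl, hψ₁, hψ₂,
          WittGrp.coeff_truncMap, WittGrp.coeff_truncMap] at this
        exact this)
      choose c hc using hc
      exact ⟨TruncatedWittVector.mk p c, TruncatedWittVector.ext fun i => by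
        rw [hιc, TruncatedWittVector.coeff_mk, hc]⟩
    · rintro ⟨a, rfl⟩
      show ψ₁ (algebraMap _ _ a) - ψ₂ (algebraMap _ _ a) = 0
      rw [AlgHom.commutes, AlgHom.commutes, sub_self]
  have hι' : Function.Injective (ι.lTensor M) := Module.Flat.lTensor_preserves_injective_linearMap ι hι
  have hcomp : ∀ m : M, ι.lTensor M (m ⊗ₜ 1) = m ⊗ₜ 1 := fun m => by
    rw [LinearMap.lTensor_tmul]; congr 1; exact map_one (algebraMap _ _)
  refine ⟨fun m m' h => ?_, fun x hx => ?_⟩
  · have h2 : m ⊗ₜ[TruncatedWittVector p n R] (1 : TruncatedWittVector p n R) = m' ⊗ₜ 1 :=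
      hι' (by rw [hcomp, hcomp]; exact h)
    simpa using congrArg (TensorProduct.rid _ M) h2
  · have hx' : δ.lTensor M x = 0 := by
      rw [LinearMap.lTensor_sub, LinearMap.sub_apply, sub_eq_zero]; exact hx
    obtain ⟨y, rfl⟩ := (Module.Flat.lTensor_exact M hex x).mp hx'
    refine ⟨TensorProduct.rid _ M y, ?_⟩
    show (TensorProduct.rid _ M y) ⊗ₜ _ = _
    rw [← hcomp, ← TensorProduct.rid_symm_apply, LinearEquiv.symm_apply_apply]

end Groth.Agent.S16225
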