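import Groth.Statements.S16226
import Groth.Agent.Lib.TorsorDesc.Pseudo
-- import your own Groth.Agent.* helpers here

set_option autoImplicit false
universe u
open CategoryTheory MonoidalCategory CartesianMonoidalCategory MonObj AlgebraicGeometry
open PrincBund

namespace Groth.Agent.S16226

/-- Let i : G → H be a homomorphism of group schemes over a base scheme S which is a closed immersion, F
an H-torsor over S for the etale topology with action aF, and π : F → Q a morphism of S-schemes
exhibiting Q as the quotient F/G, in the sense that the square formed by the restricted action G ×_S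
F → F, the projection G ×_S F → F and π twice is cartesian and π acquires sections etale-locally on
Q. Then for every section σ of Q over S there are a G-torsor E over S for the etale topology and an
i-equivariant morphism φ : E → F over S such that the square (φ, E → S; π, σ) is cartesian; that is,
σ comes from a reduction of the structure group of F to G. (Stated over an arbitrary base scheme and
for arbitrary group schemes; the quotient F/G is taken as data through its torsor property rather
than constructed.) -/
theorem result
    {S : Scheme.{u}} {G H F Q : Over S} [GrpObj G] [GrpObj H]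
    (i : G ⟶ H) [IsMonHom i] [IsClosedImmersion i.left]
    (aF : AlgGrp.Action H F) (hF : NonAbH1.IsTorsorFor Scheme.etalePrecoverage aF)
    (π : F ⟶ Q)
    (hsq : IsPullback (aF.restrict i).act (snd G F) π π)
    (hloc : NonAbH1.IsLocallyTrivialFor Scheme.etalePrecoverage (Over.mk π.left : Over Q.left))
    (σ : 𝟙_ (Over S) ⟶ Q) :
    ∃ (E : Over S) (aE : AlgGrp.Action G E) (φ : E ⟶ F),
      NonAbH1.IsTorsorFor Scheme.etalePrecoverage aE ∧
      AlgGrp.Action.IsEquivariant aE (aF.restrict i) φ ∧
      IsPullback φ (toUnit E) π σ := by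
  let E : Over S := Limits.pullback π σ
  let φ : E ⟶ F := Limits.pullback.fst π σ
  have hE : IsPullback φ (toUnit E) π σ := by
    rw [toUnit_unique (toUnit E) (Limits.pullback.snd π σ)]
    exact IsPullback.of_hasPullback π σ
  haveI : Mono φ := ⟨fun f g e => hE.hom_ext e (toUnit_unique _ _)⟩
  have hinv : ∀ {T : Over S} (g : T ⟶ G) (f : T ⟶ F), (lift g f ≫ (aF.restrict i).act) ≫ π = f ≫ π := by
    intro T g f
    rw [Category.assoc, hsq.w, lift_snd_assoc]
  have hcond : ((G ◁ φ) ≫ (aF.restrict i).act) ≫ π = toUnit (G ⊗ E) ≫ σ := by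
    rw [Category.assoc, hsq.w, whiskerLeft_snd_assoc, hE.w, ← Category.assoc,
      toUnit_unique (snd G E ≫ toUnit E) (toUnit (G ⊗ E))]
  let aE : AlgGrp.Action G E :=
    { act := hE.lift ((G ◁ φ) ≫ (aF.restrict i).act) (toUnit _) hcond
      one_act := by
        rw [← cancel_mono φ, Category.assoc, hE.lift_fst, ← whisker_exchange_assoc, (aF.restrict i).one_act,
          leftUnitor_hom, leftUnitor_hom, whiskerLeft_snd]
      mul_act := by
        rw [← cancel_mono φ]
        apply AlgGrp.Action.hom_ext_lift₃
        intro T h h' z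
        simp only [Category.assoc, hE.lift_fst]
        rw [lift_whiskerRight_assoc, lift_whiskerLeft_assoc, lift_lift_associator_hom_assoc, lift_whiskerLeft_assoc,
          ← Hom.mul_def, AlgGrp.Action.lift_mul_act, lift_whiskerLeft_assoc, Category.assoc, hE.lift_fst,
          lift_whiskerLeft_assoc] }
  have hφ : AlgGrp.Action.IsEquivariant aE (aF.restrict i) φ := hE.lift_fst _ _ _
  have hφp : ∀ {T : Over S} (g : T ⟶ G) (e : T ⟶ E),
      (lift g e ≫ aE.act) ≫ φ = lift g (e ≫ φ) ≫ (aF.restrict i).act := by
    intro T g e
    rw [Category.assoc, show aE.act ≫ φ = _ from hφ, lift_whiskerLeft_assoc]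
  refine ⟨E, aE, φ, ⟨?_, ?_⟩, hφ, hE⟩
  · refine GrothLib.TorsorDesc.isPseudoTorsorSch_of_points (fun T p₁ p₂ => ?_) fun T g₁ g₂ p e => ?_
    · have hp : (p₁ ≫ φ) ≫ π = (p₂ ≫ φ) ≫ π := by
        rw [Category.assoc, Category.assoc, hE.w, ← Category.assoc, ← Category.assoc,
          toUnit_unique (p₁ ≫ toUnit E) (p₂ ≫ toUnit E)]
      refine ⟨hsq.lift _ _ hp ≫ fst G F, ?_⟩
      rw [← cancel_mono φ, hφp]
      conv_rhs => rw [← hsq.lift_fst _ _ hp]
      congr 1
      apply CartesianMonoidalCategory.hom_ext
      · rw [lift_fst]
      · rw [lift_snd, hsq.lift_snd]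
    · have e' := congrArg (· ≫ φ) e
      simp only [hφp] at e'
      have e'' : lift g₁ (p ≫ φ) = lift g₂ (p ≫ φ) := hsq.hom_ext e' (by rw [lift_snd, lift_snd])
      simpa using congrArg (· ≫ fst G F) e''
  · haveI : Scheme.etalePrecoverage.{u}.IsStableUnderBaseChange := by
      unfold Scheme.etalePrecoverage; infer_instance
    exact GrothLib.TorsorDesc.isLocallyTrivialFor_of_isPullback _ (hE.map (Over.forget S)) hloc

end Groth.Agent.S16226
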