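import Groth.Statements.S16227
import Groth.Agent.Lib.TorsorDesc.Pseudo
-- import your own Groth.Agent.* helpers here

set_option autoImplicit false
universe u
open CategoryTheory MonoidalCategory CartesianMonoidalCategory MonObj AlgebraicGeometry
open PrincBund

namespace Groth.Agent.S16227

/-- Let i : G → H be a homomorphism of group schemes over a base scheme S which is a closed immersion, F
an H-torsor over S for the etale topology with action aF, and π : F → Q a morphism of S-schemes
exhibiting Q as the quotient F/G, in the sense that the square formed by the restricted action G ×_S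
F → F, the projection G ×_S F → F and π twice is cartesian and π acquires sections etale-locally on
Q. Then a reduction of the structure group of F to G, namely a G-torsor E over S for the etale
topology together with an i-equivariant morphism φ : E → F over S, determines a unique section σ of
Q over S such that the composite E → S → Q equals φ followed by π, and for this σ the square (φ, E →
S; π, σ) is cartesian, so that E is recovered as the pullback of F along σ. (Stated over an
arbitrary base scheme and for arbitrary group schemes; the quotient F/G is taken as data through its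
torsor property rather than constructed.) -/
theorem result
    {S : Scheme.{u}} {G H F Q : Over S} [GrpObj G] [GrpObj H]
    (i : G ⟶ H) [IsMonHom i] [IsClosedImmersion i.left]
    (aF : AlgGrp.Action H F) (hF : NonAbH1.IsTorsorFor Scheme.etalePrecoverage aF)
    (π : F ⟶ Q)
    (hsq : IsPullback (aF.restrict i).act (snd G F) π π)
    (hloc : NonAbH1.IsLocallyTrivialFor Scheme.etalePrecoverage (Over.mk π.left : Over Q.left))
    {E : Over S} (aE : AlgGrp.Action G E) (hE : NonAbH1.IsTorsorFor Scheme.etalePrecoverage aE)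
    (φ : E ⟶ F) (hφ : AlgGrp.Action.IsEquivariant aE (aF.restrict i) φ) :
    (∃! σ : 𝟙_ (Over S) ⟶ Q, toUnit E ≫ σ = φ ≫ π) ∧
      ∀ σ : 𝟙_ (Over S) ⟶ Q, toUnit E ≫ σ = φ ≫ π → IsPullback φ (toUnit E) π σ := by
  have hle : Scheme.etalePrecoverage.{u} ≤ Scheme.fpqcPrecoverage :=
    le_trans (Scheme.precoverage_mono fun _ _ f hf => by
      have : Etale f := hf
      exact ⟨inferInstance, inferInstance⟩) Scheme.fppfPrecoverage_le_fpqcPrecoverage
  have hEl := GrothLib.TorsorDesc.isLocallyTrivialFor_mono hle hE.2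
  haveI : EffectiveEpi (toUnit E).left := GrothLib.TorsorDesc.effectiveEpi_of_localSections _ hEl
  have hφp : ∀ {T : Over S} (g : T ⟶ G) (e : T ⟶ E),
      (lift g e ≫ aE.act) ≫ φ = lift g (e ≫ φ) ≫ (aF.restrict i).act := by
    intro T g e
    rw [Category.assoc, show aE.act ≫ φ = _ from hφ, lift_whiskerLeft_assoc]
  have hinv : ∀ {T : Over S} (e₁ e₂ : T ⟶ E), e₁ ≫ φ ≫ π = e₂ ≫ φ ≫ π := by
    intro T e₁ e₂
    obtain ⟨g, rfl⟩ := GrothLib.TorsorDesc.exists_act_eq hE.1 e₁ e₂
    rw [← Category.assoc, hφp, Category.assoc, hsq.w, lift_snd_assoc, Category.assoc]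
  haveI : Mono φ := ⟨fun {T} e₁ e₂ h => by
    obtain ⟨g, rfl⟩ := GrothLib.TorsorDesc.exists_act_eq hE.1 e₁ e₂
    rw [hφp] at h
    have e'' : lift g (e₂ ≫ φ) = lift 1 (e₂ ≫ φ) :=
      hsq.hom_ext (by rw [h, AlgGrp.Action.lift_one_act]) (by rw [lift_snd, lift_snd])
    rw [show g = 1 by simpa using congrArg (· ≫ fst G F) e'', AlgGrp.Action.lift_one_act]⟩
  refine ⟨GrothLib.TorsorDesc.existsUnique_desc (toUnit E) (φ ≫ π) fun T a b _ => hinv a b, fun σ hσ => ?_⟩
  have hw : φ ≫ π = toUnit E ≫ σ := hσ.symm
  have hex : ∀ {T : Over S} (f : T ⟶ F), f ≫ π = toUnit T ≫ σ → ∃ e : T ⟶ E, e ≫ φ = f := by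
    intro T f hf
    have hp : IsPullback (fst E T) (snd E T) (toUnit E) (toUnit T) :=
      IsPullback.of_is_product
        (Limits.BinaryFan.IsLimit.mk _ (fun a b => lift a b) (fun a b => lift_fst a b) (fun a b => lift_snd a b)
          fun a b m h₁ h₂ => CartesianMonoidalCategory.hom_ext _ _ (h₁.trans (lift_fst a b).symm) (h₂.trans (lift_snd a b).symm))
        isTerminalTensorUnit
    haveI : EffectiveEpi (snd E T).left := GrothLib.TorsorDesc.effectiveEpi_of_localSections _
      (GrothLib.TorsorDesc.isLocallyTrivialFor_of_isPullback _ (hp.map (Over.forget S)) hEl)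
    have hc : (snd E T ≫ f) ≫ π = (fst E T ≫ φ) ≫ π := by
      rw [Category.assoc, hf, Category.assoc, hw, ← Category.assoc, ← Category.assoc (fst E T),
        toUnit_unique (snd E T ≫ toUnit T) (fst E T ≫ toUnit E)]
    let g : E ⊗ T ⟶ G := hsq.lift _ _ hc ≫ fst G F
    obtain ⟨ψ, hψdef⟩ : ∃ ψ : E ⊗ T ⟶ E, ψ = lift g (fst E T) ≫ aE.act := ⟨_, rfl⟩
    have hψ : ψ ≫ φ = snd E T ≫ f := by
      rw [hψdef]
      rw [hφp]
      conv_rhs => rw [← hsq.lift_fst _ _ hc]
      congr 1
      apply CartesianMonoidalCategory.hom_ext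
      · rw [lift_fst]
      · rw [lift_snd, hsq.lift_snd]
    obtain ⟨e, he, -⟩ := GrothLib.TorsorDesc.existsUnique_desc (snd E T) ψ fun T' a b h => by
      rw [← cancel_mono φ, Category.assoc, Category.assoc, hψ, reassoc_of% h]
    refine ⟨e, ?_⟩
    apply GrothLib.TorsorDesc.cancel_of_effectiveEpi (snd E T)
    rw [← Category.assoc, he, hψ]
  choose e he using fun (s : Limits.PullbackCone π σ) => hex s.fst (by
    rw [s.condition, toUnit_unique s.snd (toUnit _)])
  exact IsPullback.mk ⟨hw⟩ ⟨Limits.PullbackCone.IsLimit.mk _ e he (fun s => toUnit_unique _ _)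
    fun s m h₁ h₂ => by rw [← cancel_mono φ, h₁, he]⟩

end Groth.Agent.S16227
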