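import Groth.Statements.S1623
import Groth.Agent.Lib.BlowUpRegular.Cover
import Groth.Agent.Lib.RegLoc.Basic
import Groth.Agent.S0010


set_option autoImplicit false
universe u
open CategoryTheory CategoryTheory.Limits AlgebraicGeometry
open Resolve

namespace Groth.Agent.S1623

/-- Let A be a regular local ring of dimension two and b : X → Spec A a blowing up in the maximal ideal.
For every quasi-coherent O_X-module F and every p ≥ 2, H^p(X, F) = 0. -/
theorem result (A : Type u) [CommRing A] [IsRegularLocalRing A] (hA : ringKrullDim A = 2)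
    (X : Scheme.{u}) (b : X ⟶ Spec (CommRingCat.of A)) (hb : BlowUp.IsBlowUp b (Curv2.idealSheaf A (IsLocalRing.maximalIdeal A)))
    (F : X.Modules) (hF : Coh.IsQCoh F) (p : ℕ) (hp : 2 ≤ p) : Subsingleton (Coh.HH X F p) := by
  obtain ⟨z, hz⟩ := GrothLib.RegLoc.exists_generators_fin (IsLocalRing.maximalIdeal A)
  have h2 : (IsLocalRing.maximalIdeal A).spanFinrank = 2 := by
    have := IsRegularLocalRing.spanFinrank_maximalIdeal (R := A)
    rw [hA] at this
    exact_mod_cast this
  have hb' : BlowUp.IsBlowUp b (GrothLib.BlowUp.idealSheaf (GrothLib.BlowUp17.ctr z)) := by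
    rw [GrothLib.BlowUp17.ctr, hz]
    exact hb
  obtain ⟨hsep, U, hU, hcov⟩ := GrothLib.BlowUpRegular.exists_affine_cover z hb'
  haveI := hsep
  haveI : Coh.IsQCoh F := hF
  refine Groth.Agent.S0010.result X _ U hU hcov (fun V W hV hW => hV.inf hW) F p ?_
  omega

end Groth.Agent.S1623
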