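import Groth.Statements.S16231
import Groth.Agent.Lib.Morse.Translate
import Mathlib.RingTheory.LocalRing.MaximalIdeal.Basic

set_option autoImplicit false
universe u
open VanCyc

namespace Groth.Agent.S16231

open MvPowerSeries Matrix GrothLib.Morse

section Aux

variable {A : Type u} [CommRing A] {n : ℕ} {I : Ideal A}

theorem quadPart_apply (G : MvPowerSeries (Fin n) A) {p r : Fin n} (h : p ≤ r) :
    VanCyc.quadPart G p r = coeff (Finsupp.single p 1 + Finsupp.single r 1) G := by
  rcases h.lt_or_eq with hl | rfl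
  · simp [VanCyc.quadPart, hl.ne, hl]
  · simp [VanCyc.quadPart, ← Finsupp.single_add]

theorem polar_sub_mem {J : Ideal A} {q q' : Fin n → Fin n → A}
    (h : ∀ p r, p ≤ r → q' p r - q p r ∈ J) (i j : Fin n) :
    VanCyc.polarMatrix q' i j - VanCyc.polarMatrix q i j ∈ J := by
  simp only [VanCyc.polarMatrix]
  split_ifs with h1 h2
  · rw [← mul_sub]; exact J.mul_mem_left _ (h i i le_rfl)
  · exact h i j h2.le
  · exact h j i (le_of_not_gt h2)

theorem vecMul_mem {J : Ideal A} {v : Fin n → A} (hv : ∀ i, v i ∈ J) (M : Matrix (Fin n) (Fin n) A)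
    (i : Fin n) : vecMul v M i ∈ J :=
  Ideal.sum_mem J (t := Finset.univ) (f := fun j => v j * M j i) fun j _ => J.mul_mem_right (M j i) (hv j)

variable [IsAdicComplete I A]

theorem translate_low {c : Fin n → A} (hc : ∀ i, c i ∈ I) {t : ℕ} (hct : ∀ i, c i ∈ I ^ t)
    {G : MvPowerSeries (Fin n) A} {q : Fin n → Fin n → A} {ℓ : Fin n → A} {a : A}
    (hG : OrdGE 3 (G - (lowPoly q ℓ a : MvPowerSeries (Fin n) A))) :
    (constantCoeff (translate hc G) - (a + VanCyc.quadEval q c + ∑ i, ℓ i * c i) ∈ I ^ (t * 3)) ∧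
    (∀ r, coeff (Finsupp.single r 1) (translate hc G) -
        (ℓ r + vecMul c (VanCyc.polarMatrix q) r) ∈ I ^ (t * 2)) ∧
    (∀ p r, p ≤ r → VanCyc.quadPart (translate hc G) p r - q p r ∈ I ^ t) := by
  obtain ⟨l0, l1, l2⟩ :=
    coeff_lowPoly q (ℓ + vecMul c (VanCyc.polarMatrix q)) (a + VanCyc.quadEval q c + ∑ i, ℓ i * c i)
  have he : translate hc G = translate hc (lowPoly q ℓ a : MvPowerSeries (Fin n) A) +
      translate hc (G - (lowPoly q ℓ a : MvPowerSeries (Fin n) A)) := by
    rw [← map_add, add_sub_cancel]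
  rw [translate_lowPoly] at he
  refine ⟨?_, fun r => ?_, fun p r hpr => ?_⟩
  · have h := coeff_translate_mem hc hct hG 0
    rw [he, map_add, l0, add_sub_cancel_left, ← coeff_zero_eq_constantCoeff_apply]
    simpa using h
  · have h := coeff_translate_mem hc hct hG (Finsupp.single r 1)
    rw [Finsupp.degree_single] at h
    rw [he, map_add, l1, Pi.add_apply, add_sub_cancel_left]
    exact h
  · have h := coeff_translate_mem hc hct hG (Finsupp.single p 1 + Finsupp.single r 1)
    rw [map_add Finsupp.degree, Finsupp.degree_single, Finsupp.degree_single, show t * (3 - (1 + 1)) = t by simp] at h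
    rw [quadPart_apply _ hpr, he, map_add, l2 p r hpr, add_sub_cancel_left]
    exact h

theorem exists_critical {q : Fin n → Fin n → A} (hq : VanCyc.QuadNondeg q) {ℓ : Fin n → A}
    (hℓ : ∀ i, ℓ i ∈ I) {a : A} {F : MvPowerSeries (Fin n) A}
    (hF : OrdGE 3 (F - (lowPoly q ℓ a : MvPowerSeries (Fin n) A))) :
    ∃ (c : Fin n → A) (hc : ∀ i, c i ∈ I), ∀ r, coeff (Finsupp.single r 1) (translate hc F) = 0 := by
  let lin : MvPowerSeries (Fin n) A → Fin n → A := fun G r => coeff (Finsupp.single r 1) G
  let B := VanCyc.polarMatrix q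
  have hlin : ∀ (c : Fin n → A) (hc : ∀ i, c i ∈ I) r, lin (translate hc F) r ∈ I := fun c hc r => by
    have h := (translate_low hc (t := 1) (fun i => by simpa using hc i) hF).2.1 r
    have h1 : ℓ r + vecMul c B r ∈ I := I.add_mem (hℓ r) (vecMul_mem hc _ r)
    have h2 : lin (translate hc F) r - (ℓ r + vecMul c B r) ∈ I :=
      Ideal.pow_le_self (by norm_num) h
    simpa using I.add_mem h2 h1
  let step : {c : Fin n → A // ∀ i, c i ∈ I} → {c : Fin n → A // ∀ i, c i ∈ I} := fun c =>
    ⟨c.1 + -vecMul (lin (translate c.2 F)) B⁻¹, fun i =>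
      I.add_mem (c.2 i) (I.neg_mem (vecMul_mem (hlin c.1 c.2) _ i))⟩
  let cs : ℕ → {c : Fin n → A // ∀ i, c i ∈ I} := fun s => step^[s] ⟨0, fun _ => I.zero_mem⟩
  have hcs : ∀ s, cs (s + 1) = step (cs s) := fun s => Function.iterate_succ_apply' step s _
  -- effect of a further translation on the linear part
  have hmove : ∀ (c : Fin n → A) (hc : ∀ i, c i ∈ I) (d : Fin n → A) (t : ℕ), 0 < t →
      (∀ i, d i ∈ I ^ t) → ∀ (hcd : ∀ i, (c + d) i ∈ I) r,
      lin (translate hcd F) r - (lin (translate hc F) r + vecMul d B r) ∈ I ^ (t + 1) := by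
    intro c hc d t ht hdt hcd r
    have hd : ∀ i, d i ∈ I := fun i => Ideal.pow_le_self ht.ne' (hdt i)
    let G := translate hc F
    let q' := VanCyc.quadPart G
    have hG : OrdGE 3 (G - (lowPoly q' (lin G) (constantCoeff G) : MvPowerSeries (Fin n) A)) :=
      ordGE_three_sub rfl (fun _ => rfl) fun p r hpr => (quadPart_apply G hpr).symm
    have h := (translate_low hd hdt hG).2.1 r
    rw [show translate hd G = translate hcd F from translate_translate hc hd hcd F] at h
    have h' : lin (translate hcd F) r - (lin G r + vecMul d (VanCyc.polarMatrix q') r) ∈ I ^ (t + 1) :=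
      Ideal.pow_le_pow_right (by omega) h
    have hB : vecMul d (VanCyc.polarMatrix q') r - vecMul d B r ∈ I ^ (t + 1) := by
      simp only [vecMul, dotProduct, ← Finset.sum_sub_distrib, ← mul_sub]
      refine Ideal.sum_mem _ fun j _ => ?_
      rw [pow_succ]
      refine Ideal.mul_mem_mul (hdt j) (polar_sub_mem (fun p r hpr => ?_) j r)
      simpa using (translate_low hc (t := 1) (fun i => by simpa using hc i) hF).2.2 p r hpr
    have := (I ^ (t + 1)).add_mem h' hB
    convert this using 1
    ring
  have hI : ∀ s r, lin (translate (cs s).2 F) r ∈ I ^ (s + 1) := by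
    intro s
    induction s with
    | zero => intro r; simpa using hlin _ (cs 0).2 r
    | succ s ih =>
      intro r
      rw [hcs]
      have h := hmove (cs s).1 (cs s).2 (-vecMul (lin (translate (cs s).2 F)) B⁻¹) (s + 1) (by omega)
        (fun i => (I ^ (s + 1)).neg_mem (vecMul_mem ih _ i)) (step (cs s)).2 r
      rw [neg_vecMul, vecMul_vecMul, nonsing_inv_mul _ hq, vecMul_one, Pi.neg_apply,
        add_neg_cancel, sub_zero] at h
      exact h
  have hdiff : ∀ s l, s ≤ l → ∀ i, (cs l).1 i - (cs s).1 i ∈ I ^ s := by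
    intro s l hsl i
    induction l, hsl using Nat.le_induction with
    | base => simp
    | succ l hl ih =>
      have h1 : (cs (l + 1)).1 i - (cs l).1 i ∈ I ^ s := by
        rw [hcs]
        have := (I ^ (l + 1)).neg_mem (vecMul_mem (hI l) B⁻¹ i)
        simpa [step] using Ideal.pow_le_pow_right (by omega) this
      simpa using (I ^ s).add_mem h1 ih
  choose c hc using fun i => IsPrecomplete.prec' (I := I) (fun s => (cs s).1 i) fun {s l} hsl => by
    rw [SModEq.sub_mem, smul_eq_mul, Ideal.mul_top, ← Ideal.neg_mem_iff, neg_sub]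
    exact hdiff s l hsl i
  have hc' : ∀ s i, c i - (cs s).1 i ∈ I ^ s := fun s i => by
    have := hc i s
    rw [SModEq.sub_mem, smul_eq_mul, Ideal.mul_top] at this
    simpa using (I ^ s).neg_mem this
  have hcI : ∀ i, c i ∈ I := fun i => by
    have h := I.add_mem (Ideal.pow_le_self one_ne_zero (hc' 1 i)) ((cs 1).2 i)
    rwa [sub_add_cancel] at h
  refine ⟨c, hcI, fun r => eq_zero_of_forall_mem (I := I) fun k => ?_⟩
  have h := hmove (cs (k + 1)).1 (cs (k + 1)).2 (c - (cs (k + 1)).1) (k + 1) (by omega) (hc' (k + 1))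
    (by simpa using hcI) r
  rw [translate_congr (add_sub_cancel _ c) _ hcI] at h
  have h1 : lin (translate hcI F) r - (lin (translate (cs (k + 1)).2 F) r + vecMul (c - (cs (k + 1)).1) B r) +
      (lin (translate (cs (k + 1)).2 F) r + vecMul (c - (cs (k + 1)).1) B r) ∈ I ^ k :=
    (I ^ k).add_mem (Ideal.pow_le_pow_right (by omega) h)
      ((I ^ k).add_mem (Ideal.pow_le_pow_right (by omega) (hI (k + 1) r))
        (Ideal.pow_le_pow_right (by omega) (vecMul_mem (hc' (k + 1)) B r)))
  simpa using h1

end Aux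

/-- Let A be a local ring with maximal ideal m that is separated and complete for the m-adic topology (A
is not assumed Noetherian), n a natural number, q an n × n coefficient table over A whose quadratic
form Q(x) = Σ_{i≤j} q_ij x_i x_j is non-degenerate (unit Gram determinant of the polar bilinear
form), a and ℓ_1, …, ℓ_n elements of m, and F a formal power series in x_1, …, x_n over A whose
coefficients in total degree at most 2 agree with those of a + Σ ℓ_i x_i + Q(x). Then there are an
element a' of m and a non-degenerate coefficient table q' such that A[[x]]/(F) and A[[x]]/(Q'(x) +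
a') are isomorphic as A-algebras, Q' the quadratic form of q'. -/
theorem result
    (A : Type u) [CommRing A] [IsLocalRing A]
    [IsAdicComplete (IsLocalRing.maximalIdeal A) A] (n : ℕ)
    (q : Fin n → Fin n → A) (hq : VanCyc.QuadNondeg q)
    (a : A) (ha : a ∈ IsLocalRing.maximalIdeal A)
    (ℓ : Fin n → A) (hℓ : ∀ i, ℓ i ∈ IsLocalRing.maximalIdeal A)
    (F : MvPowerSeries (Fin n) A)
    (hF : ∀ e : Fin n →₀ ℕ, e.degree ≤ 2 →
      MvPowerSeries.coeff e F = MvPowerSeries.coeff e ((VanCyc.quadPoly q + ∑ i, MvPolynomial.C (ℓ i) * MvPolynomial.X i + MvPolynomial.C a : MvPolynomial (Fin n) A) : MvPowerSeries (Fin n) A)) :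
    ∃ (a' : A) (q' : Fin n → Fin n → A), a' ∈ IsLocalRing.maximalIdeal A ∧ VanCyc.QuadNondeg q' ∧
      Nonempty ((MvPowerSeries (Fin n) A ⧸ Ideal.span {F}) ≃ₐ[A]
        (MvPowerSeries (Fin n) A ⧸ Ideal.span {((VanCyc.quadPoly q' + MvPolynomial.C a' : MvPolynomial (Fin n) A) : MvPowerSeries (Fin n) A)})) := by
  classical
  have hF3 : OrdGE 3 (F - (lowPoly q ℓ a : MvPowerSeries (Fin n) A)) := fun e he => by
    rw [map_sub, hF e (by omega), lowPoly, sub_self]
  obtain ⟨c, hc, hlin⟩ := exists_critical (I := IsLocalRing.maximalIdeal A) hq hℓ hF3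
  obtain ⟨h0, -, h2⟩ := translate_low hc (t := 1) (fun i => by simpa using hc i) hF3
  let G := translate hc F
  let q' := VanCyc.quadPart G
  let a' := constantCoeff G
  have ha' : a' ∈ IsLocalRing.maximalIdeal A := by
    have h1 : a + VanCyc.quadEval q c + ∑ i, ℓ i * c i ∈ IsLocalRing.maximalIdeal A := by
      refine Ideal.add_mem _ (Ideal.add_mem _ ha ?_) (Ideal.sum_mem _ fun i _ => Ideal.mul_mem_left _ _ (hc i))
      refine Ideal.sum_mem _ fun i _ => Ideal.sum_mem _ fun j _ => ?_
      split_ifs
      · exact Ideal.mul_mem_left _ _ (hc j)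
      · exact zero_mem _
    simpa [a', G] using Ideal.add_mem _ (Ideal.pow_le_self (by norm_num) h0) h1
  have hq' : VanCyc.QuadNondeg q' := by
    have hmap : (VanCyc.polarMatrix q').map (IsLocalRing.residue A) =
        (VanCyc.polarMatrix q).map (IsLocalRing.residue A) := by
      ext i j
      rw [Matrix.map_apply, Matrix.map_apply, IsLocalRing.residue]
      refine Ideal.Quotient.eq.mpr ?_
      exact polar_sub_mem (fun p r hpr => by simpa [q', G] using h2 p r hpr) i j
    have hdet : IsLocalRing.residue A (VanCyc.polarMatrix q').det =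
        IsLocalRing.residue A (VanCyc.polarMatrix q).det := by
      rw [RingHom.map_det, RingHom.map_det]; exact congrArg Matrix.det hmap
    refine IsLocalRing.residue_ne_zero_iff_isUnit _ |>.mp ?_
    rw [hdet]
    exact (hq.map _).ne_zero
  refine ⟨a', q', ha', hq', ?_⟩
  have hn : ∀ e : Fin n →₀ ℕ, e.degree ≤ 2 → coeff e G = coeff e (normalForm q' a') := by
    intro e he
    have h := ordGE_three_sub (G := G) (q := q') (ℓ := 0) (a := a') rfl hlin
      (fun p r hpr => (quadPart_apply G hpr).symm) e (by omega)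
    rw [map_sub, sub_eq_zero] at h
    rw [h, normalForm, lowPoly]
    simp
  obtain ⟨g, h, -, -, -, -, ⟨e⟩⟩ := exists_normalise le_rfl q' hq' a' G hn
  refine ⟨(Ideal.quotientEquivAlg _ _ (translateEquiv hc) ?_).trans e⟩
  rw [Ideal.map_span, Set.image_singleton]
  rfl

end Groth.Agent.S16231
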