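import Groth.Statements.S16232
import Groth.Agent.Lib.FundChar

set_option autoImplicit false
universe u v
open VanCyc

namespace Groth.Agent.S16232

/-- Let R be a strictly Henselian discrete valuation ring (Henselian, with separably closed residue
field), K its fraction field, Ω a separable closure of K and G the group of K-algebra automorphisms
of Ω; let r ≥ 1 be an integer invertible in the residue field of R, ϖ a uniformizer of R and ρ an
r-th root of ϖ in Ω, so that the fundamental character χ : G → μ_r(Ω) is σ ↦ σ(ρ)/ρ. Then every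
homomorphism φ of the abstract group G into an abelian group M with rM = 0 factors uniquely through
χ: there is exactly one homomorphism u : μ_r(Ω) → M with φ(σ) = u(χ(σ)) for every σ in G.
(Homomorphisms are written as maps respecting the group laws; χ(σ) is the root of unity ζ with ζρ =
σ(ρ).) -/
theorem result
    (R : Type u) [CommRing R] [IsDomain R] [IsDiscreteValuationRing R] [HenselianLocalRing R]
    [IsSepClosed (IsLocalRing.ResidueField R)]
    (K : Type u) [Field K] [Algebra R K] [IsFractionRing R K]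
    (Ω : Type u) [Field Ω] [Algebra K Ω] [IsSepClosure K Ω]
    (r : ℕ) [NeZero r] (hr : IsUnit (r : IsLocalRing.ResidueField R))
    (ϖ : R) (hϖ : Irreducible ϖ) (ρ : Ω) (hρ : ρ ^ r = algebraMap K Ω (algebraMap R K ϖ))
    (M : Type v) [AddCommGroup M] (hM : ∀ x : M, r • x = 0)
    (φ : (Ω ≃ₐ[K] Ω) → M) (hφ : ∀ σ τ : Ω ≃ₐ[K] Ω, φ (σ * τ) = φ σ + φ τ) :
    ∃! u : ↥(rootsOfUnity r Ω) → M, (∀ ζ ξ : ↥(rootsOfUnity r Ω), u (ζ * ξ) = u ζ + u ξ) ∧
      ∀ (σ : Ω ≃ₐ[K] Ω) (ζ : ↥(rootsOfUnity r Ω)), ((ζ : Ωˣ) : Ω) * ρ = σ ρ → φ σ = u ζ := by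
  classical
  letI : Algebra R Ω := ((algebraMap K Ω).comp (algebraMap R K)).toAlgebra
  haveI : IsScalarTower R K Ω := IsScalarTower.of_algebraMap_eq fun _ => rfl
  haveI : IsGalois K Ω := inferInstance
  haveI : IsSepClosed Ω := IsSepClosure.sep_closed (k := K)
  have hrR : IsUnit (r : R) := by
    rw [← IsLocalRing.residue_ne_zero_iff_isUnit, map_natCast]
    exact hr.ne_zero
  haveI : NeZero (r : Ω) := ⟨by
    have := (hrR.map (algebraMap R Ω)).ne_zero
    rwa [map_natCast] at this⟩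
  obtain ⟨η, hη⟩ := HasEnoughRootsOfUnity.exists_primitiveRoot Ω r
  have hρ0 : ρ ≠ 0 := by
    rintro rfl
    rw [zero_pow (NeZero.ne r), eq_comm, map_eq_zero, IsFractionRing.to_map_eq_zero_iff] at hρ
    exact hϖ.ne_zero hρ
  have htrans : ∀ ζ : Ω, ζ ^ r = 1 → ∃ g : Ω ≃ₐ[K] Ω, g ρ = ζ * ρ := by
    intro ζ hζ
    let f : Polynomial R := Polynomial.X ^ r - Polynomial.C ϖ
    have hmonic : f.Monic := Polynomial.monic_X_pow_sub_C ϖ (NeZero.ne r)
    have hdeg : f.natDegree = r := Polynomial.natDegree_X_pow_sub_C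
    have heis : f.IsEisensteinAt (IsLocalRing.maximalIdeal R) := by
      refine hmonic.isEisensteinAt_of_mem_of_notMem (Ideal.IsPrime.ne_top inferInstance) ?_ ?_
      · intro n hn
        rw [hdeg] at hn
        simp only [f, Polynomial.coeff_sub, Polynomial.coeff_X_pow, Polynomial.coeff_C, if_neg hn.ne,
          zero_sub, neg_mem_iff]
        split_ifs
        · exact (IsLocalRing.mem_maximalIdeal _).2 hϖ.not_isUnit
        · exact zero_mem _
      · simp only [f, Polynomial.coeff_sub, Polynomial.coeff_X_pow, Polynomial.coeff_C_zero,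
          if_neg (NeZero.ne r).symm, zero_sub, neg_mem_iff, hϖ.maximalIdeal_eq,
          Ideal.span_singleton_pow, Ideal.mem_span_singleton]
        exact fun h => by
          have h' : ϖ ^ 2 ∣ ϖ ^ 1 := by rwa [pow_one]
          have := (pow_dvd_pow_iff hϖ.ne_zero hϖ.not_isUnit).1 h'
          omega
    have hirr := heis.irreducible inferInstance hmonic.isPrimitive (hdeg ▸ NeZero.pos r)
    rw [hmonic.irreducible_iff_irreducible_map_fraction_map (K := K)] at hirr
    have hmin : f.map (algebraMap R K) = minpoly K ρ :=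
      minpoly.eq_of_irreducible_of_monic hirr
        (by simp [f, Polynomial.map_pow, hρ]) (hmonic.map _)
    refine minpoly.exists_algEquiv_of_root' (Algebra.IsAlgebraic.isAlgebraic ρ) ?_
    rw [← hmin]
    simp [f, Polynomial.map_pow, mul_pow, hζ, hρ]
  -- finite levels
  have key : ∀ (t : Finset Ω),
      (∀ (g : Ω ≃ₐ[K] Ω) (ζ : Ω), ζ ^ r = 1 → g ζ = ζ) ∧
      (∀ h : Ω ≃ₐ[K] Ω, h ρ = ρ → ∃ a b : Ω ≃ₐ[K] Ω, ∀ x ∈ t, (a ^ r * b ^ r) x = h x) := by
    intro t
    haveI : Finite ((↑(insert ρ (insert η t)) : Set Ω)) := Finset.finite_toSet _ |>.to_subtype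
    let L : FiniteGaloisIntermediateField K Ω :=
      FiniteGaloisIntermediateField.adjoin K (↑(insert ρ (insert η t)) : Set Ω)
    have hmem : ∀ x ∈ insert ρ (insert η t), x ∈ L.toIntermediateField := fun x hx =>
      FiniteGaloisIntermediateField.subset_adjoin K _ (Finset.mem_coe.2 hx)
    let ρL : L.toIntermediateField := ⟨ρ, hmem ρ (Finset.mem_insert_self _ _)⟩
    let ηL : L.toIntermediateField :=
      ⟨η, hmem η (Finset.mem_insert_of_mem (Finset.mem_insert_self _ _))⟩
    let res := AlgEquiv.restrictNormalHom (F := K) (K₁ := Ω) L.toIntermediateField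
    have hres : ∀ (g : Ω ≃ₐ[K] Ω) (x : L.toIntermediateField),
        ((res g x : L.toIntermediateField) : Ω) = g x := fun g x =>
      AlgEquiv.restrictNormal_commutes g L.toIntermediateField x
    letI : Algebra R L.toIntermediateField :=
      ((algebraMap K L.toIntermediateField).comp (algebraMap R K)).toAlgebra
    haveI : IsScalarTower R K L.toIntermediateField := IsScalarTower.of_algebraMap_eq fun _ => rfl
    obtain ⟨h1, h2⟩ := FundChar.finite_level' R K L.toIntermediateField
      (integralClosure R L.toIntermediateField) hrR ηL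
      (hη.of_map_of_injective (f := L.toIntermediateField.val) Subtype.val_injective) ρL
      (fun g => by
        have : ρL ^ r = algebraMap K L.toIntermediateField (algebraMap R K ϖ) := Subtype.ext (by
          simpa [ρL] using hρ)
        rw [← map_pow, this, AlgEquiv.commutes])
      (fun h => hρ0 (congrArg Subtype.val h))
      (fun ζ hζ => by
        obtain ⟨g, hg⟩ := htrans (ζ : Ω) (by simpa using congrArg Subtype.val hζ)
        exact ⟨res g, Subtype.ext ((hres g ρL).trans hg)⟩)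
    refine ⟨fun g ζ hζ => ?_, fun h hh => ?_⟩
    · obtain ⟨i, -, rfl⟩ := hη.eq_pow_of_pow_eq_one hζ
      have := congrArg Subtype.val (h1 (res g) ηL
        (Subtype.ext (by simpa [ηL] using hη.pow_eq_one)))
      rw [hres] at this
      rw [map_pow]
      exact congrArg (· ^ i) this
    · obtain ⟨a', b', hab⟩ := h2 (res h) (Subtype.ext ((hres h ρL).trans hh))
      obtain ⟨a, rfl⟩ := AlgEquiv.restrictNormalHom_surjective Ω a'
      obtain ⟨b, rfl⟩ := AlgEquiv.restrictNormalHom_surjective Ω b'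
      refine ⟨a, b, fun x hx => ?_⟩
      let xL : L.toIntermediateField :=
        ⟨x, hmem x (Finset.mem_insert_of_mem (Finset.mem_insert_of_mem hx))⟩
      have hab' : res h = res (a ^ r * b ^ r) := by rw [map_mul, map_pow, map_pow]; exact hab
      exact (hres _ xL).symm.trans ((congrArg (fun e => ((e xL : L.toIntermediateField) : Ω))
        hab'.symm).trans (hres h xL))
  have hfix := (key ∅).1
  -- compactness
  have hH : ∀ h : Ω ≃ₐ[K] Ω, h ρ = ρ → φ h = 0 := by
    intro h hh
    let S : Ω → Set ((Ω ≃ₐ[K] Ω) × (Ω ≃ₐ[K] Ω)) := fun x =>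
      {ab | (ab.1 ^ r * ab.2 ^ r) x = h x}
    have hclosed : ∀ x, IsClosed (S x) := by
      intro x
      have hst : IsClosed ((MulAction.stabilizer (Ω ≃ₐ[K] Ω) x : Subgroup _) : Set (Ω ≃ₐ[K] Ω)) :=
        Subgroup.isClosed_of_isOpen _ (stabilizer_isOpen_of_isIntegral x)
      have hc : Continuous fun ab : (Ω ≃ₐ[K] Ω) × (Ω ≃ₐ[K] Ω) => h⁻¹ * (ab.1 ^ r * ab.2 ^ r) := by
        fun_prop
      convert hst.preimage hc using 1
      ext ab
      simp only [S, Set.mem_setOf_eq, Set.mem_preimage, SetLike.mem_coe, MulAction.mem_stabilizer_iff,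
        AlgEquiv.smul_def]
      exact (h.symm_apply_eq (x := (ab.1 ^ r * ab.2 ^ r) x) (y := x)).symm
    obtain ⟨⟨a, b⟩, hab⟩ := CompactSpace.iInter_nonempty hclosed (fun t => by
      obtain ⟨a, b, hab⟩ := (key t).2 h hh
      exact ⟨(a, b), Set.mem_iInter₂.2 hab⟩)
    have : h = a ^ r * b ^ r := AlgEquiv.ext fun x => (Set.mem_iInter.1 hab x).symm
    have hφ1 : φ 1 = 0 := by simpa using hφ 1 1
    have hpow : ∀ (a : Ω ≃ₐ[K] Ω) (n : ℕ), φ (a ^ n) = n • φ a := by
      intro a n
      induction n with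
      | zero => simpa using hφ1
      | succ n ih => rw [pow_succ, hφ, ih, succ_nsmul]
    rw [this, hφ, hpow, hpow, hM, hM, add_zero]
  -- definition of `u`
  have hex : ∀ ζ : ↥(rootsOfUnity r Ω), ∃ g : Ω ≃ₐ[K] Ω, g ρ = ((ζ : Ωˣ) : Ω) * ρ := fun ζ =>
    htrans _ ((mem_rootsOfUnity' r _).1 ζ.2)
  choose sec hsec using hex
  have hwd : ∀ (σ : Ω ≃ₐ[K] Ω) (ζ : ↥(rootsOfUnity r Ω)), σ ρ = ((ζ : Ωˣ) : Ω) * ρ →
      φ σ = φ (sec ζ) := by
    intro σ ζ hσ
    have hk : φ ((sec ζ)⁻¹ * σ) = 0 := hH _ (by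
      rw [AlgEquiv.mul_apply, hσ, ← hsec ζ]
      exact (sec ζ).symm_apply_apply ρ)
    calc φ σ = φ (sec ζ * ((sec ζ)⁻¹ * σ)) := by rw [mul_inv_cancel_left]
      _ = φ (sec ζ) := by rw [hφ, hk, add_zero]
  refine ⟨fun ζ => φ (sec ζ), ⟨fun ζ ξ => ?_, fun σ ζ hσ => hwd σ ζ hσ.symm⟩, ?_⟩
  · refine (hwd (sec ζ * sec ξ) (ζ * ξ) ?_).symm.trans (hφ _ _)
    rw [AlgEquiv.mul_apply, hsec, map_mul, hfix _ _ ((mem_rootsOfUnity' r _).1 ξ.2), hsec,
      Subgroup.coe_mul, Units.val_mul]
    ring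
  · rintro u ⟨-, hu⟩
    funext ζ
    exact (hu (sec ζ) ζ (hsec ζ).symm).symm

end Groth.Agent.S16232
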