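import Groth.Statements.S16234
import Mathlib

set_option autoImplicit false
universe u v
open CAlg

namespace Groth.Agent.S16234

/-- For a finitely generated module M over a Noetherian commutative ring A, every prime ideal in the
support of M is a maximal ideal if and only if M has finite length. -/
theorem result (A : Type u) [CommRing A] [IsNoetherianRing A]
    (M : Type v) [AddCommGroup M] [Module A M] [Module.Finite A M] :
    (∀ p ∈ Module.support A M, p.asIdeal.IsMaximal) ↔ IsFiniteLength A M := by
  have hs : Module.support A M = PrimeSpectrum.zeroLocus (Module.annihilator A M) :=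
    Module.support_eq_zeroLocus
  rw [isFiniteLength_iff_isNoetherian_isArtinian]
  set J := Module.annihilator A M with hJ
  letI : Module (A ⧸ J) M := Module.IsTorsionBySet.module (fun m a =>
    (Module.mem_annihilator.mp a.2 m : (a : A) • m = 0))
  haveI : IsScalarTower A (A ⧸ J) M := ⟨fun a b m => by
    induction b using Submodule.Quotient.induction_on with
    | _ b => exact mul_smul a b m⟩
  constructor
  · intro h
    refine ⟨inferInstance, ?_⟩
    haveI : Ring.KrullDimLE 0 (A ⧸ J) := Ring.krullDimLE_zero_iff.mpr fun P hP => by
      have hP' : (P.comap (Ideal.Quotient.mk J)).IsPrime := Ideal.comap_isPrime _ _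
      have := h ⟨_, hP'⟩ (by
        rw [hs, PrimeSpectrum.mem_zeroLocus]
        intro a ha
        simp [Ideal.Quotient.eq_zero_iff_mem.mpr ha])
      rcases Ideal.map_eq_top_or_isMaximal_of_surjective (Ideal.Quotient.mk J) Ideal.Quotient.mk_surjective this with h' | h'
      · rw [Ideal.map_comap_of_surjective _ Ideal.Quotient.mk_surjective] at h'
        exact absurd h' hP.ne_top
      · rwa [Ideal.map_comap_of_surjective _ Ideal.Quotient.mk_surjective] at h'
    haveI : IsArtinianRing (A ⧸ J) := IsNoetherianRing.isArtinianRing_of_krullDimLE_zero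
    haveI : Module.Finite (A ⧸ J) M := Module.Finite.of_restrictScalars_finite A (A ⧸ J) M
    exact isArtinian_of_surjective_algebraMap (R := A ⧸ J) (S := A) (M := M) Ideal.Quotient.mk_surjective
  · rintro ⟨_, hA⟩ q hq
    rw [hs, PrimeSpectrum.mem_zeroLocus] at hq
    obtain ⟨n, f, hf⟩ := Module.Finite.exists_fin (R := A) (M := M)
    let g : A →ₗ[A] (Fin n → M) := LinearMap.pi fun i => LinearMap.toSpanSingleton A M (f i)
    have hg : LinearMap.ker g = J := by
      ext a
      simp only [LinearMap.mem_ker, g, funext_iff, LinearMap.pi_apply,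
        LinearMap.toSpanSingleton_apply, Pi.zero_apply]
      rw [hJ, Module.mem_annihilator]
      refine ⟨fun h m => ?_, fun h i => h _⟩
      have hm : m ∈ Submodule.span A (Set.range f) := hf ▸ Submodule.mem_top
      induction hm using Submodule.span_induction with
      | mem y hy => obtain ⟨i, rfl⟩ := hy; exact h i
      | zero => simp
      | add y z _ _ hy hz => simp [hy, hz]
      | smul c y _ hy => rw [smul_comm, hy, smul_zero]
    haveI : IsArtinian A (A ⧸ LinearMap.ker g) :=
      isArtinian_of_linearEquiv g.quotKerEquivRange.symm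
    haveI : IsArtinian A (A ⧸ J) := isArtinian_of_linearEquiv (Submodule.quotEquivOfEq _ _ hg)
    haveI : IsArtinianRing (A ⧸ J) := isArtinian_of_tower A inferInstance
    have hq' : J ≤ q.asIdeal := hq
    haveI := q.isPrime
    haveI : (q.asIdeal.map (Ideal.Quotient.mk J)).IsPrime :=
      Ideal.map_isPrime_of_surjective Ideal.Quotient.mk_surjective (by simpa using hq')
    have := IsArtinianRing.isMaximal_of_isPrime (q.asIdeal.map (Ideal.Quotient.mk J))
    have h2 := Ideal.comap_isMaximal_of_surjective (Ideal.Quotient.mk J) Ideal.Quotient.mk_surjective (K := q.asIdeal.map (Ideal.Quotient.mk J))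
    rwa [Ideal.comap_map_of_surjective _ Ideal.Quotient.mk_surjective, ← RingHom.ker_eq_comap_bot, Ideal.mk_ker, sup_of_le_left hq'] at h2

end Groth.Agent.S16234
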