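import Groth.Statements.S16235
import Groth.Agent.Lib.CMFree.Params
import Mathlib.RingTheory.Regular.Flat
import Mathlib.RingTheory.Ideal.KrullsHeightTheorem
-- import your own Groth.Agent.* helpers here

set_option autoImplicit false
universe u
open CAlg

namespace Groth.Agent.S16235

/-- Let A be a Noetherian commutative ring and x_1, …, x_r a regular sequence on A (each x_i a
non-zero-divisor on A/(x_1, …, x_{i-1})) generating an ideal I ≠ A. Then the height of I, the
infimum of the heights of the minimal primes over I, equals r. -/
theorem result (A : Type u) [CommRing A] [IsNoetherianRing A]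
    (r : ℕ) (x : Fin r → A) (hx : RingTheory.Sequence.IsWeaklyRegular A (List.ofFn x))
    (hI : Ideal.span (Set.range x) ≠ ⊤) :
    (Ideal.span (Set.range x)).height = r := by
  classical
  refine le_antisymm ?_ ?_
  · obtain ⟨P, hP⟩ := Ideal.nonempty_minimalPrimes hI
    refine (Ideal.height_mono hP.1.2).trans ((Ideal.height_le_card_of_mem_minimalPrimes_span (Set.finite_range x) hP).trans ?_)
    rw [← Set.image_univ]
    exact_mod_cast (Set.ncard_image_le Set.finite_univ).trans (by simp)
  · rw [Ideal.height_eq_inf_minimalPrimes]
    refine le_iInf₂ fun P hP => ?_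
    haveI := hP.1.1
    have hreg := RingTheory.Sequence.IsWeaklyRegular.of_flat (S := Localization.AtPrime P) hx
    obtain ⟨q, hq⟩ := associatedPrimes.nonempty (Localization.AtPrime P) (Localization.AtPrime P)
    have h1 := GrothLib.CMFree.length_le_ringKrullDim_quotient _ ?_ _ hreg q hq
    · simp only [List.length_map, List.length_ofFn] at h1
      have h2 : ringKrullDim (Localization.AtPrime P ⧸ q) ≤ (P.height : WithBot ℕ∞) :=
        (ringKrullDim_quotient_le q).trans_eq (IsLocalization.AtPrime.ringKrullDim_eq_height P _)
      exact WithBot.coe_le_coe.mp (h1.trans h2)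
    · intro y hy
      simp only [List.mem_map, List.mem_ofFn] at hy
      obtain ⟨_, ⟨i, rfl⟩, rfl⟩ := hy
      exact (IsLocalization.AtPrime.to_map_mem_maximal_iff _ P _).2 (hP.1.2 (Ideal.subset_span ⟨i, rfl⟩))

end Groth.Agent.S16235
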