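import Groth.Statements.S16236
-- import your own Groth.Agent.* helpers here
import Groth.Agent.Lib.K0Sub.Killed

set_option autoImplicit false
universe u
open CategoryTheory CategoryTheory.Limits AlgebraicGeometry
attribute [local instance] HasDerivedCategory.standard
open SGA6

namespace Groth.Agent.S16236

/-- Let X be a Noetherian scheme and i : X' ⟶ X a closed immersion which is surjective on points (a
closed subscheme with the same underlying space, such as X_red ⊂ X). Direct image along i is exact
and preserves coherence (instance hypotheses and hypothesis hi); the induced homomorphism K₀(Coh X')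
⟶ K₀(Coh X) between the Grothendieck groups of coherent modules is bijective. (The published
statement is the case X' = X_red; this row takes any closed immersion that is surjective on points.) -/
theorem result {X X' : Scheme.{u}} [IsNoetherian X]
    (i : X' ⟶ X) [IsClosedImmersion i] [Surjective i]
    [(Scheme.Modules.pushforward i).Additive] [PreservesFiniteLimits (Scheme.Modules.pushforward i)]
    [PreservesFiniteColimits (Scheme.Modules.pushforward i)]
    (hi : ∀ M : X'.Modules, Coh.IsCoh M → Coh.IsCoh ((Scheme.Modules.pushforward i).obj M)) :
    Function.Bijective (SGA6.mapSub (Scheme.Modules.pushforward i) (fun M : (X').Modules => Coh.IsCoh M)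
      (fun M : (X).Modules => Coh.IsCoh M) hi) := by
  have h := GrothLib.K0Sub.devHyp (X := X) i
  have h1 := GrothLib.K0Sub.bijective_mapSub_push i hi
  have h2 := GrothLib.K0Sub.bijective_mapSub_of_filtered h
    (GrothLib.K0Sub.exists_filtration_of_surjective i)
  convert h2.comp h1 using 1
  rw [← AddMonoidHom.coe_comp]
  congr 1
  refine GrothLib.K0Sub.hom_ext fun M hM => ?_
  rw [AddMonoidHom.comp_apply, GrothLib.K0Sub.mapSub_clSub _ _ _ hM,
    GrothLib.K0Sub.mapSub_clSub _ _ _ hM,
    GrothLib.K0Sub.mapSub_clSub _ _ _ ⟨hi M hM, GrothLib.K0Sub.killedByIdeal_push i M⟩]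
  rfl

end Groth.Agent.S16236
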