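import Groth.Statements.S16237
-- import your own Groth.Agent.* helpers here
import Groth.Agent.Lib.Torus17.Main

set_option autoImplicit false
universe u
open CategoryTheory CategoryTheory.Limits AlgebraicGeometry
attribute [local instance] HasDerivedCategory.standard
open SGA6

namespace Groth.Agent.S16237

/-- Let X be a Noetherian scheme, 𝔸¹_X the affine line over X with coordinate t, and j : U ⟶ 𝔸¹_X an
open immersion whose image is the open subset D(t) where t is invertible (so U is X × Spec ℤ[t,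
t⁻¹]). Restriction along j is exact and preserves coherence (instance hypothesis and hypothesis hj);
the induced homomorphism K₀(Coh 𝔸¹_X) ⟶ K₀(Coh U) between Grothendieck groups of coherent modules is
bijective. -/
theorem result (X : Scheme.{u}) [IsNoetherian X] {U : Scheme.{u}}
    (j : U ⟶ 𝔸(ULift.{u} (Fin 1); X)) [IsOpenImmersion j]
    (hU : Set.range j = ((𝔸(ULift.{u} (Fin 1); X)).basicOpen (AffineSpace.coord X (ULift.up (0 : Fin 1))) : Set (𝔸(ULift.{u} (Fin 1); X))))
    [PreservesFiniteLimits (Scheme.Modules.restrictFunctor j)]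
    (hj : ∀ M : (𝔸(ULift.{u} (Fin 1); X)).Modules, Coh.IsCoh M → Coh.IsCoh ((Scheme.Modules.restrictFunctor j).obj M)) :
    Function.Bijective (SGA6.mapSub (Scheme.Modules.restrictFunctor j) (fun M : (𝔸(ULift.{u} (Fin 1); X)).Modules => Coh.IsCoh M)
      (fun M : (U).Modules => Coh.IsCoh M) hj) := by
  haveI : IsNoetherian 𝔸(ULift.{u} (Fin 1); X) := by
    haveI : LocallyOfFiniteType (𝔸(ULift.{u} (Fin 1); X) ↘ X) := inferInstance
    haveI : QuasiCompact (𝔸(ULift.{u} (Fin 1); X) ↘ X) := inferInstance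
    haveI := LocallyOfFiniteType.isLocallyNoetherian (𝔸(ULift.{u} (Fin 1); X) ↘ X)
    haveI := QuasiCompact.compactSpace_of_compactSpace (𝔸(ULift.{u} (Fin 1); X) ↘ X)
    exact {}
  haveI : (Scheme.Modules.restrictFunctor j).Additive := inferInstance
  have hU' : Set.range j = (Set.range (GrothLib.Torus17.sec X))ᶜ :=
    hU.trans (GrothLib.Torus17.range_compl X)
  obtain ⟨_, _, _⟩ := GrothLib.K0Sub.pushforward_exact (GrothLib.Torus17.sec X)
  refine ⟨?_, GrothLib.K0Sub.surjective_res j hj⟩
  rw [← AddMonoidHom.ker_eq_bot_iff, eq_bot_iff]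
  intro x hx
  obtain ⟨y, rfl⟩ := GrothLib.K0Sub.ker_le_range j (GrothLib.Torus17.sec X) hU' hj hx
  have h0 : GrothLib.K0Sub.pushK (GrothLib.Torus17.sec X) = 0 :=
    GrothLib.K0Sub.hom_ext fun N hN => by
      rw [GrothLib.K0Sub.mapSub_clSub _ _ _ hN]
      exact GrothLib.Torus17.pushK_sec_eq_zero X N hN
  rw [h0]
  rfl

end Groth.Agent.S16237
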