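import Groth.Statements.S16239
-- import your own Groth.Agent.* helpers here
import Groth.Agent.Lib.K0Curve28.Main
import Groth.Agent.Lib.CurveRR.Setup

set_option autoImplicit false
set_option maxHeartbeats 1600000
set_option linter.style.haveILetI false
set_option backward.isDefEq.respectTransparency false
universe u
open CategoryTheory CategoryTheory.Limits AlgebraicGeometry
attribute [local instance] HasDerivedCategory.standard
open SGA6

namespace Groth.Agent.S16239

/-- Let X be a smooth proper integral curve (dimension one) over an algebraically closed field k, and
write K for the Grothendieck group of finite locally free O_X-modules. Then every element of K can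
be written as (n − 1)·[O_X] + [L] with n an integer and L an invertible O_X-module, and in such an
expression n and the isomorphism class of L are unique. (This is the bijection ℤ × Pic(X) → K
underlying the ring isomorphism K ≅ ℤ ⊕ Pic(X), α ↦ (rank α, det α), of the source, which identifies
K with K₀ of coherent modules via the Cartan isomorphism. The published statement takes X
projective; a proper curve over a field is projective, so this row takes X proper.) -/
theorem result (k : Type u) [Field k] [IsAlgClosed k]
    (X : Scheme.{u}) [X.Over (Spec (CommRingCat.of k))] [IsIntegral X]
    [IsProper (X ↘ Spec (CommRingCat.of k))] [Smooth (X ↘ Spec (CommRingCat.of k))]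
    (hdim : topologicalKrullDim ↥X = 1) :
    (∀ a : SGA6.Kvb X, ∃ (n : ℤ) (L : X.Modules), PicF.IsInvertible L ∧
        a = (n - 1) • KZero.clSub (fun M : X.Modules => FlatMod.IsFinLocFree M) (Coh.structureModule X) +
          KZero.clSub (fun M : X.Modules => FlatMod.IsFinLocFree M) L) ∧
      (∀ (n m : ℤ) (L L' : X.Modules), PicF.IsInvertible L → PicF.IsInvertible L' →
        (n - 1) • KZero.clSub (fun M : X.Modules => FlatMod.IsFinLocFree M) (Coh.structureModule X) +
            KZero.clSub (fun M : X.Modules => FlatMod.IsFinLocFree M) L =
          (m - 1) • KZero.clSub (fun M : X.Modules => FlatMod.IsFinLocFree M) (Coh.structureModule X) +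
            KZero.clSub (fun M : X.Modules => FlatMod.IsFinLocFree M) L' →
        n = m ∧ Nonempty (L ≅ L')) := by
  haveI := GrothLib.CurveRR.regCurve_of_smooth (X ↘ (Spec (CommRingCat.of k))) hdim
  exact ⟨fun a => GrothLib.K0Curve28.exists_decomposition k a,
    fun n m L L' hL hL' h => GrothLib.K0Curve28.unique_decomposition k n m L L' hL hL' h⟩

end Groth.Agent.S16239
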