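import Groth.Statements.S1624
import Groth.Agent.Lib.RatSing29.ChartH1
import Groth.Agent.Lib.RegLoc.Basic

set_option autoImplicit false
universe u
open CategoryTheory CategoryTheory.Limits AlgebraicGeometry
open Resolve

namespace Groth.Agent.S1624

/-- Let A be a regular local ring of dimension two and b : X → Spec A the blowing up in the maximal
ideal. If F is a quasi-coherent O_X-module which is globally generated, then H¹(X, F) = 0. -/
theorem result (A : Type u) [CommRing A] [IsRegularLocalRing A] (hA : ringKrullDim A = 2)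
    (X : Scheme.{u}) (b : X ⟶ Spec (CommRingCat.of A)) (hb : BlowUp.IsBlowUp b (Curv2.idealSheaf A (IsLocalRing.maximalIdeal A)))
    (F : X.Modules) (hF : Coh.IsQCoh F) (hgg : Curv2.IsGloballyGenerated F) : Subsingleton (Coh.HH X F 1) := by
  obtain ⟨z, hz⟩ := GrothLib.RegLoc.exists_generators_fin (IsLocalRing.maximalIdeal A)
  have h2 : (IsLocalRing.maximalIdeal A).spanFinrank = 2 := by
    have := IsRegularLocalRing.spanFinrank_maximalIdeal (R := A)
    rw [hA] at this
    exact_mod_cast this
  let z' : Fin 2 → A := z ∘ Fin.cast h2.symm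
  have hz' : Ideal.span (Set.range z') = IsLocalRing.maximalIdeal A := by
    rw [← hz]
    congr 1
    exact (finCongr h2.symm).surjective.range_comp z
  have hb' : _root_.BlowUp.IsBlowUp b (GrothLib.BlowUp.idealSheaf (GrothLib.BlowUp17.ctr z')) := by
    rw [GrothLib.BlowUp17.ctr, hz']
    exact hb
  haveI : F.IsQuasicoherent := hF
  exact @Equiv.subsingleton _ _ (GrothLib.Cohom.HEquivTop (Coh.toAb F) 1).toEquiv
    (GrothLib.RatSing29.subsingleton_h1 z' hb' F hgg)

end Groth.Agent.S1624
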