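import Groth.Statements.S16240
import Groth.Agent.S0563
import Groth.Agent.Lib.Ref1.Frame
import Groth.Agent.Lib.Euler.Coh
import Groth.Agent.Lib.Euler.Rank
import Groth.Agent.Lib.QCoh.SupportExact
import Groth.Agent.Lib.OX.Exact
import Mathlib.Algebra.Category.ModuleCat.Projective
import Mathlib.Topology.KrullDimension
import Mathlib.RingTheory.LocalRing.Module

set_option autoImplicit false
universe u
open CategoryTheory CategoryTheory.Limits AlgebraicGeometry
open Coh

namespace Groth.Agent.S16240

/-- Let X be a Noetherian scheme all of whose local rings are regular, of (topological Krull) dimension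
at most m, and let S be an exact sequence of O_X-modules G ⟶ E_m ⟶ ⋯ ⟶ E_1 ⟶ F with m + 2 terms (G
in position 0, F in position m + 1), injective at the first map and surjective at the last, in which
F is coherent and E_1, …, E_m are finite locally free. Then G is finite locally free. (The source
asks for p + 1 vector bundles with p ≥ dim X − 1, i.e. at least dim X of them, and finite dimension;
here m bounds the dimension.) -/
theorem result (X : Scheme.{u}) [IsNoetherian X]
    (hreg : ∀ x : X, IsRegularLocalRing (X.presheaf.stalk x)) (m : ℕ)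
    (hdim : topologicalKrullDim ↥X ≤ (m : WithBot ℕ∞))
    (S : ComposableArrows X.Modules (m + 1)) (hS : S.Exact)
    (hmono : Mono (S.map' 0 1 (Nat.zero_le 1) (Nat.le_add_left 1 m)))
    (hepi : Epi (S.map' m (m + 1) (Nat.le_succ m) (le_refl (m + 1))))
    (hE : ∀ i : Fin m, FlatMod.IsFinLocFree (S.obj ⟨i.1 + 1, Nat.succ_lt_succ (Nat.lt_succ_of_lt i.2)⟩))
    (hF : Coh.IsCoh (S.obj (Fin.last (m + 1)))) :
    FlatMod.IsFinLocFree (S.obj 0) := by
  classical
  let f : ∀ (i : ℕ) (h : i + 1 ≤ m + 1), S.obj ⟨i, by omega⟩ ⟶ S.obj ⟨i + 1, by omega⟩ :=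
    fun i h => S.map' i (i + 1) (Nat.le_succ i) h
  have hE' : ∀ (j : ℕ) (h1 : 1 ≤ j) (h2 : j ≤ m), FlatMod.IsFinLocFree (S.obj ⟨j, by omega⟩) := by
    intro j h1 h2
    obtain ⟨k, rfl⟩ := Nat.exists_eq_add_of_le' h1
    exact hE ⟨k, by omega⟩
  haveI hm0 : Mono (f 0 (by omega)) := hmono
  have hG : Coh.IsCoh (S.obj 0) := by
    rcases Nat.eq_zero_or_pos m with h0 | h0
    · subst h0
      haveI : Epi (f 0 le_rfl) := hepi
      haveI := isIso_of_mono_of_epi (f 0 le_rfl)
      exact GrothLib.QCoh.isCoh_of_iso (asIso (f 0 le_rfl)).symm hF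
    · have h1 := GrothLib.Euler.isCoh_of_isFinLocFree (hE' 1 le_rfl h0)
      have h2 : Coh.IsCoh (S.obj ⟨2, by omega⟩) := by
        rcases Nat.lt_or_ge m 2 with h | h
        · obtain rfl : m = 1 := by omega
          exact hF
        · exact GrothLib.Euler.isCoh_of_isFinLocFree (hE' 2 (by omega) h)
      have hex := hS.exact' 0 1 2 rfl rfl (by omega)
      haveI : Mono (S.sc' hS.toIsComplex 0 1 2 rfl rfl (by omega)).f := hm0
      exact GrothLib.QCoh.isCoh_of_iso ((Limits.limit.isLimit _).conePointUniqueUpToIso hex.fIsKernel)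
        (GrothLib.QCoh.isCoh_kernel (f 1 (by omega)) h1 h2)
  refine (GrothLib.Ref1.isFinLocFree_iff_free (GrothLib.HomSh.hasRel_of_isCoh hG)).2 fun x => ?_
  haveI := hreg x
  let R := X.presheaf.stalk x
  let T := GrothLib.OX.stalk x
  have hfree : ∀ (j : ℕ) (h1 : 1 ≤ j) (h2 : j ≤ m), Projective (T.obj (S.obj ⟨j, by omega⟩)) := by
    intro j h1 h2
    have h := (GrothLib.Ref1.isFinLocFree_iff_free (GrothLib.HomSh.hasRel_of_isCoh
      (GrothLib.Euler.isCoh_of_isFinLocFree (hE' j h1 h2)))).1 (hE' j h1 h2) x
    haveI : Module.Free R (T.obj (S.obj ⟨j, by omega⟩)) := h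
    haveI : Module.Projective R (T.obj (S.obj ⟨j, by omega⟩)) := Module.Projective.of_free
    exact ModuleCat.projective_of_categoryTheory_projective _
  -- dimension of the local ring
  have hd : ringKrullDim R ≤ (m : WithBot ℕ∞) := by
    rw [← PrimeSpectrum.topologicalKrullDim_eq_ringKrullDim]
    exact ((X.fromSpecStalk x).isEmbedding.isInducing.topologicalKrullDim_le).trans hdim
  obtain ⟨d, hdd, hdm⟩ : ∃ d : ℕ, ringKrullDim R = d ∧ d ≤ m := by
    have hne : ringKrullDim R ≠ ⊥ := ringKrullDim_ne_bot
    obtain ⟨a, ha⟩ := WithBot.ne_bot_iff_exists.1 hne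
    have ha' : a ≤ (m : ℕ∞) := by
      rw [← ha] at hd
      exact WithBot.coe_le_coe.1 hd
    lift a to ℕ using ne_top_of_le_ne_top (ENat.coe_ne_top m) ha'
    exact ⟨a, ha.symm, by exact_mod_cast ha'⟩
  let g : ∀ (i : ℕ) (h : i + 1 ≤ m + 1), T.obj (S.obj ⟨i, by omega⟩) →ₗ[R] T.obj (S.obj ⟨i + 1, by omega⟩) :=
    fun i h => (T.map (f i h)).hom
  have key : ∀ k i : ℕ, ∀ h : i + k = m,
      HasProjectiveDimensionLT (ModuleCat.of R (LinearMap.range (g i (by omega)))) (i + 1) := by
    intro k
    induction k with
    | zero =>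
      intro i h
      obtain rfl : i = m := by omega
      haveI : Epi (f i (by omega)) := hepi
      have hsurj : Function.Surjective (g i (by omega)) :=
        (ModuleCat.epi_iff_surjective (T.map (f i (by omega)))).1 inferInstance
      haveI := Groth.Agent.S0563.result R d hdd (T.obj (S.obj ⟨i + 1, by omega⟩))
      haveI : HasProjectiveDimensionLT (ModuleCat.of R (T.obj (S.obj ⟨i + 1, by omega⟩))) (i + 1) :=
        hasProjectiveDimensionLT_of_ge _ (d + 1) (i + 1) (by omega)
      exact hasProjectiveDimensionLT_of_iso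
        ((LinearEquiv.ofTop _ (LinearMap.range_eq_top.2 hsurj)).symm.toModuleIso :
          ModuleCat.of R (T.obj (S.obj ⟨i + 1, by omega⟩)) ≅ ModuleCat.of R (LinearMap.range (g i (by omega)))) (i + 1)
    | succ k ih =>
      intro i h
      have hex : LinearMap.range (g i (by omega)) = LinearMap.ker (g (i + 1) (by omega)) :=
        ((hS.exact' i (i + 1) (i + 2) rfl rfl (by omega)).map T).moduleCat_range_eq_ker
      let C : ShortComplex (ModuleCat R) := ShortComplex.mk
        (ModuleCat.ofHom (LinearMap.range (g i (by omega))).subtype)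
        (ModuleCat.ofHom (g (i + 1) (by omega)).rangeRestrict) (by
          ext ⟨v, hv⟩
          rw [hex] at hv
          exact hv)
      have hC : C.ShortExact := {
        exact := (ShortComplex.moduleCat_exact_iff_range_eq_ker C).2 (by
          show LinearMap.range (Submodule.subtype _) = LinearMap.ker (LinearMap.rangeRestrict _)
          rw [Submodule.range_subtype, LinearMap.ker_rangeRestrict, hex])
        mono_f := (ModuleCat.mono_iff_injective _).2 Subtype.val_injective
        epi_g := (ModuleCat.epi_iff_surjective _).2 (LinearMap.surjective_rangeRestrict _) }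
      haveI := hfree (i + 1) (by omega) (by omega)
      haveI : HasProjectiveDimensionLT C.X₂ (i + 1) := by
        haveI : Projective C.X₂ := hfree (i + 1) (by omega) (by omega)
        exact hasProjectiveDimensionLT_of_ge _ 1 (i + 1) (by omega)
      exact hC.hasProjectiveDimensionLT_X₁ (i + 1) inferInstance (ih (i + 1) (by omega))
  have h0 := key m 0 (Nat.zero_add m)
  have hinj : Function.Injective (g 0 (by omega)) :=
    (ModuleCat.mono_iff_injective (T.map (f 0 (by omega)))).1 inferInstance
  haveI : Projective (T.obj (S.obj 0)) := by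
    haveI := h0
    haveI : HasProjectiveDimensionLT (ModuleCat.of R (T.obj (S.obj 0))) 1 := hasProjectiveDimensionLT_of_iso
      ((LinearEquiv.ofInjective _ hinj).symm.toModuleIso :
        ModuleCat.of R (LinearMap.range (g 0 (by omega))) ≅ ModuleCat.of R (T.obj (S.obj 0))) 1
    exact (inferInstance : Projective (ModuleCat.of R (T.obj (S.obj 0))))
  haveI : Module.Projective R ((S.obj 0).presheaf.stalk x) :=
    (IsProjective.iff_projective (P := ((S.obj 0).presheaf.stalk x))).2 ‹Projective (T.obj (S.obj 0))›
  haveI : Module.Finite R ((S.obj 0).presheaf.stalk x) := GrothLib.Euler.stalk_finite hG x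
  exact Module.free_of_flat_of_isLocalRing

end Groth.Agent.S16240
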