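import Groth.Statements.S16243
import Mathlib
import Groth.Agent.Lib.NodeTor.Basic
-- import your own Groth.Agent.* helpers here

set_option autoImplicit false
universe u
open CategoryTheory
open CAlg

namespace Groth.Agent.S16243

/-- Let k be a field, A = k[x, y]/(xy) (x = X_0, y = X_1) and κ = A/(x, y) the residue field at the
origin, viewed as an A-module. Then for every i ≥ 1 the A-module Tor_i^A(κ, κ) has length 2 (it is a
two-dimensional κ-vector space; Tor_0 is κ), and κ admits no finite projective resolution over A: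
for no n is its projective dimension less than n. -/
theorem result (k : Type u) [Field k] :
    (∀ i : ℕ, 1 ≤ i →
      Module.length (MvPolynomial (Fin 2) k ⧸ Ideal.span {(MvPolynomial.X 0 * MvPolynomial.X 1 : MvPolynomial (Fin 2) k)}) ((((Tor (ModuleCat.{u} (MvPolynomial (Fin 2) k ⧸ Ideal.span {(MvPolynomial.X 0 * MvPolynomial.X 1 : MvPolynomial (Fin 2) k)})) i).obj (ModuleCat.of (MvPolynomial (Fin 2) k ⧸ Ideal.span {(MvPolynomial.X 0 * MvPolynomial.X 1 : MvPolynomial (Fin 2) k)}) ((MvPolynomial (Fin 2) k ⧸ Ideal.span {(MvPolynomial.X 0 * MvPolynomial.X 1 : MvPolynomial (Fin 2) k)}) ⧸ Ideal.span {Ideal.Quotient.mk (Ideal.span {(MvPolynomial.X 0 * MvPolynomial.X 1 : MvPolynomial (Fin 2) k)}) (MvPolynomial.X 0), Ideal.Quotient.mk (Ideal.span {(MvPolynomial.X 0 * MvPolynomial.X 1 : MvPolynomial (Fin 2) k)}) (MvPolynomial.X 1)}))).obj (ModuleCat.of (MvPolynomial (Fin 2) k ⧸ Ideal.span {(MvPolynomial.X 0 * MvPolynomial.X 1 : MvPolynomial (Fin 2) k)}) ((MvPolynomial (Fin 2) k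 ⧸ Ideal.span {(MvPolynomial.X 0 * MvPolynomial.X 1 : MvPolynomial (Fin 2) k)}) ⧸ Ideal.span {Ideal.Quotient.mk (Ideal.span {(MvPolynomial.X 0 * MvPolynomial.X 1 : MvPolynomial (Fin 2) k)}) (MvPolynomial.X 0), Ideal.Quotient.mk (Ideal.span {(MvPolynomial.X 0 * MvPolynomial.X 1 : MvPolynomial (Fin 2) k)}) (MvPolynomial.X 1)}))) : Type u) = 2) ∧
    ∀ n : ℕ, ¬ HasProjectiveDimensionLT (ModuleCat.of (MvPolynomial (Fin 2) k ⧸ Ideal.span {(MvPolynomial.X 0 * MvPolynomial.X 1 : MvPolynomial (Fin 2) k)}) ((MvPolynomial (Fin 2) k ⧸ Ideal.span {(MvPolynomial.X 0 * MvPolynomial.X 1 : MvPolynomial (Fin 2) k)}) ⧸ Ideal.span {Ideal.Quotient.mk (Ideal.span {(MvPolynomial.X 0 * MvPolynomial.X 1 : MvPolynomial (Fin 2) k)}) (MvPolynomial.X 0), Ideal.Quotient.mk (Ideal.span {(MvPolynomial.X 0 * MvPolynomial.X 1 : MvPolynomial (Fin 2) k)}) (MvPolynomial.X 1)})) n := by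
  classical
  set P := MvPolynomial (Fin 2) k
  set J : Ideal P := Ideal.span {(MvPolynomial.X 0 * MvPolynomial.X 1 : MvPolynomial (Fin 2) k)} with hJ
  have hX : ∀ i, (MvPolynomial.X i : P) ≠ 0 := fun i => MvPolynomial.X_ne_zero i
  have hann : ∀ i j : Fin 2, (MvPolynomial.X 0 * MvPolynomial.X 1 : P) = MvPolynomial.X i * MvPolynomial.X j →
      ∀ a : P ⧸ J, Ideal.Quotient.mk J (MvPolynomial.X i) * a = 0 →
        ∃ c, a = Ideal.Quotient.mk J (MvPolynomial.X j) * c := by
    intro i j hij a ha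
    obtain ⟨p, rfl⟩ := Ideal.Quotient.mk_surjective a
    rw [← map_mul, Ideal.Quotient.eq_zero_iff_mem, hJ, Ideal.mem_span_singleton] at ha
    obtain ⟨q, hq⟩ := ha
    rw [hij, mul_assoc] at hq
    exact ⟨Ideal.Quotient.mk J q, by rw [← map_mul, mul_left_cancel₀ (hX i) hq]⟩
  let nd : GrothLib.NodeTor.Node (P ⧸ J) :=
    { x := Ideal.Quotient.mk J (MvPolynomial.X 0)
      y := Ideal.Quotient.mk J (MvPolynomial.X 1)
      mul_eq := by
        rw [← map_mul, Ideal.Quotient.eq_zero_iff_mem]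
        exact Ideal.subset_span rfl
      ann_x := hann 0 1 rfl
      ann_y := hann 1 0 (mul_comm _ _)
      disjoint := fun a b h => by
        obtain ⟨p, rfl⟩ := Ideal.Quotient.mk_surjective a
        obtain ⟨q, rfl⟩ := Ideal.Quotient.mk_surjective b
        rw [← map_mul, ← map_mul, ← map_add, Ideal.Quotient.eq_zero_iff_mem, hJ,
          Ideal.mem_span_singleton] at h
        obtain ⟨r, hr⟩ := h
        have h1 : (MvPolynomial.X 0 : P) ∣ MvPolynomial.X 1 * q :=
          ⟨MvPolynomial.X 1 * r - p, by linear_combination hr⟩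
        have h2 : (MvPolynomial.X 0 : P) ∣ q := (MvPolynomial.X_prime.dvd_or_dvd h1).resolve_left
          (fun h => absurd (MvPolynomial.X_dvd_X.1 h) (by decide))
        obtain ⟨s, rfl⟩ := h2
        rw [← map_mul, Ideal.Quotient.eq_zero_iff_mem, hJ, Ideal.mem_span_singleton]
        exact ⟨r - s, by linear_combination hr⟩ }
  have hI : nd.I.IsMaximal := by
    have hle : ∀ p ∈ J, MvPolynomial.constantCoeff p = 0 := fun p hp => by
      rw [hJ, Ideal.mem_span_singleton] at hp
      obtain ⟨q, rfl⟩ := hp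
      simp
    let ψ : (P ⧸ J) →+* k := Ideal.Quotient.lift J MvPolynomial.constantCoeff hle
    have hψ : Function.Surjective ψ := fun a => ⟨Ideal.Quotient.mk J (MvPolynomial.C a), MvPolynomial.constantCoeff_C (Fin 2) a⟩
    have hker : RingHom.ker ψ = nd.I := by
      refine le_antisymm ?_ (Ideal.span_le.2 ?_)
      · intro a ha
        obtain ⟨p, rfl⟩ := Ideal.Quotient.mk_surjective a
        have hp : p ∈ Ideal.span (MvPolynomial.X '' (Set.univ : Set (Fin 2))) := by
          rw [MvPolynomial.mem_ideal_span_X_image]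
          intro m hm
          by_contra hcon
          push Not at hcon
          have hm0 : m = 0 := Finsupp.ext fun i => hcon i trivial
          subst hm0
          exact (MvPolynomial.mem_support_iff.1 hm) ha
        have := Ideal.mem_map_of_mem (Ideal.Quotient.mk J) hp
        rw [Ideal.map_span] at this
        refine Ideal.span_le.2 ?_ this
        rintro z ⟨w, ⟨i, -, rfl⟩, rfl⟩
        fin_cases i
        · exact Ideal.subset_span (Or.inl rfl)
        · exact Ideal.subset_span (Or.inr rfl)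
      · rintro z (rfl | rfl) <;> exact MvPolynomial.constantCoeff_X k _
    rw [← hker]
    exact RingHom.ker_isMaximal_of_surjective ψ hψ
  exact ⟨fun i hi => by
    obtain ⟨j, rfl⟩ : ∃ j, i = j + 1 := ⟨i - 1, by omega⟩
    exact GrothLib.NodeTor.length_tor nd hI j, fun n => GrothLib.NodeTor.not_pdLT nd hI n⟩

end Groth.Agent.S16243
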