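import Groth.Statements.S16244
import Mathlib.RingTheory.RootsOfUnity.AlgebraicallyClosed
import Mathlib.AlgebraicGeometry.EllipticCurve.NormalForms
import Mathlib.Tactic.LinearCombination

set_option autoImplicit false
universe u
open Curves

namespace Groth.Agent.S16244

/-- Let k be an algebraically closed field in which 2 and 3 are nonzero, and W a short Weierstrass
equation y² = x³ + a₄x + a₆ over k with nonzero discriminant. The admissible changes of variables
(u, r, s, t) that fix W form a cyclic group, of order 6 when a₄ = 0, of order 4 when a₆ = 0, and of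
order 2 when a₄ and a₆ are both nonzero. (The published statement says the automorphism group of the
elliptic curve is cyclic of order 2, 4 or 6; the automorphisms are rendered here as the changes of
variables preserving the equation, and the case distinction is the one the computation gives.) -/
theorem result
    (k : Type u) [Field k] [IsAlgClosed k] (h2 : (2 : k) ≠ 0) (h3 : (3 : k) ≠ 0)
    (W : WeierstrassCurve k) [W.IsShortNF] (hΔ : W.Δ ≠ 0) :
    IsCyclic ↥(MulAction.stabilizer (WeierstrassCurve.VariableChange k) W) ∧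
      (W.a₄ = 0 → Nat.card ↥(MulAction.stabilizer (WeierstrassCurve.VariableChange k) W) = 6) ∧
      (W.a₆ = 0 → Nat.card ↥(MulAction.stabilizer (WeierstrassCurve.VariableChange k) W) = 4) ∧
      (W.a₄ ≠ 0 → W.a₆ ≠ 0 → Nat.card ↥(MulAction.stabilizer (WeierstrassCurve.VariableChange k) W) = 2) := by
  classical
  have fix_iff : ∀ C : WeierstrassCurve.VariableChange k, C • W = W ↔
      C.r = 0 ∧ C.s = 0 ∧ C.t = 0 ∧ (C.u : k) ^ 4 * W.a₄ = W.a₄ ∧ (C.u : k) ^ 6 * W.a₆ = W.a₆ := by
    intro C
    rw [WeierstrassCurve.variableChange_def, WeierstrassCurve.ext_iff]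
    simp only [W.a₁_of_isShortNF, W.a₂_of_isShortNF, W.a₃_of_isShortNF, mul_zero, zero_add, sub_zero, add_zero, zero_sub]
    have hv : (C.u⁻¹ : kˣ).val ≠ 0 := Units.ne_zero _
    have huv : (C.u : k) * (C.u⁻¹ : kˣ).val = 1 := C.u.mul_inv
    constructor
    · rintro ⟨h1, h2', h3', h4, h6⟩
      have hs : C.s = 0 := by simpa [hv, h2] using h1
      have ht : C.t = 0 := by simpa [hv, h2] using h3'
      have hr : C.r = 0 := by simpa [hv, h3, hs] using h2'
      simp [hs, ht, hr] at h4 h6
      refine ⟨hr, hs, ht, ?_, ?_⟩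
      · conv_lhs => rw [← h4]
        simp
      · conv_lhs => rw [← h6]
        simp
    · rintro ⟨hr, hs, ht, h4, h6⟩
      refine ⟨by simp [hs], by simp [hr, hs], by simp [ht], ?_, ?_⟩
      · simp [hr, hs, ht]
        conv_lhs => rw [← h4]
        simp
      · simp [hr, hs, ht]
        conv_lhs => rw [← h6]
        simp
  have key : ∀ (n : ℕ) [NeZero n] [HasEnoughRootsOfUnity k n],
      (∀ u : kˣ, ((u : k) ^ 4 * W.a₄ = W.a₄ ∧ (u : k) ^ 6 * W.a₆ = W.a₆) ↔ u ∈ rootsOfUnity n k) →
      IsCyclic ↥(MulAction.stabilizer (WeierstrassCurve.VariableChange k) W) ∧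
        Nat.card ↥(MulAction.stabilizer (WeierstrassCurve.VariableChange k) W) = n := by
    intro n _ _ hn
    let e : ↥(MulAction.stabilizer (WeierstrassCurve.VariableChange k) W) ≃* ↥(rootsOfUnity n k) :=
      { toFun := fun C => ⟨C.1.u, (hn _).1 ((fix_iff C.1).1 C.2).2.2.2⟩
        invFun := fun u => ⟨⟨u.1, 0, 0, 0⟩, (fix_iff _).2 ⟨rfl, rfl, rfl, (hn _).2 u.2⟩⟩
        left_inv := fun C => by
          obtain ⟨hr, hs, ht, -⟩ := (fix_iff C.1).1 C.2
          exact Subtype.ext (WeierstrassCurve.VariableChange.ext rfl hr.symm hs.symm ht.symm)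
        right_inv := fun u => rfl
        map_mul' := fun C C' => rfl }
    exact ⟨isCyclic_of_surjective e.symm.toMonoidHom e.symm.surjective,
      (Nat.card_congr e.toEquiv).trans (HasEnoughRootsOfUnity.natCard_rootsOfUnity k n)⟩
  have hh : ∀ n : ℕ, (n : k) ≠ 0 → HasEnoughRootsOfUnity k n ∧ NeZero n := fun n hn => by
    haveI : NeZero (n : k) := ⟨hn⟩
    exact ⟨inferInstance, .of_neZero_natCast k⟩
  by_cases h4 : W.a₄ = 0
  · have h6 : W.a₆ ≠ 0 := fun h6 => hΔ (by rw [W.Δ_of_isShortNF, h4, h6]; ring)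
    obtain ⟨_, _⟩ := hh 6 (by norm_num; rw [show (6 : k) = 2 * 3 by norm_num]; exact mul_ne_zero h2 h3)
    obtain ⟨h1, h2'⟩ := key 6 (fun u => by simp [mem_rootsOfUnity, Units.ext_iff, h4, h6])
    exact ⟨h1, fun _ => h2', fun h => absurd h h6, fun h => absurd h4 h⟩
  · by_cases h6 : W.a₆ = 0
    · obtain ⟨_, _⟩ := hh 4 (by norm_num; rw [show (4 : k) = 2 * 2 by norm_num]; exact mul_ne_zero h2 h2)
      obtain ⟨h1, h2'⟩ := key 4 (fun u => by simp [mem_rootsOfUnity, Units.ext_iff, h4, h6])
      exact ⟨h1, fun h => absurd h h4, fun _ => h2', fun _ h => absurd h6 h⟩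
    · obtain ⟨_, _⟩ := hh 2 (by exact_mod_cast h2)
      obtain ⟨h1, h2'⟩ := key 2 (fun u => by
        simp only [mem_rootsOfUnity, Units.ext_iff, Units.val_pow_eq_pow_val, Units.val_one]
        refine ⟨fun ⟨ha, hb⟩ => ?_, fun h => ⟨by linear_combination W.a₄ * ((u : k) ^ 2 + 1) * h,
          by linear_combination W.a₆ * ((u : k) ^ 4 + (u : k) ^ 2 + 1) * h⟩⟩
        have ha' : (u : k) ^ 4 = 1 := by simpa [h4] using ha
        have hb' : (u : k) ^ 6 = 1 := by simpa [h6] using hb
        linear_combination hb' - (u : k) ^ 2 * ha')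
      exact ⟨h1, fun h => absurd h h4, fun h => absurd h h6, fun _ _ => h2'⟩

end Groth.Agent.S16244
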