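import Groth.Statements.S16245
import Groth.Agent.Lib.EssFree.Over

set_option autoImplicit false
set_option linter.all false
universe u
open CategoryTheory CategoryTheory.Limits AlgebraicGeometry
open SDiv

namespace Groth.Agent.S16245

/-- Let f : X → S be a morphism of schemes, D ⊆ X an effective Cartier divisor with ideal sheaf 𝓘, and
D' ⊆ X a closed subscheme with ideal sheaf 𝓘' such that D' → S is finite, flat and locally of finite
presentation (finite locally free). Then there is a closed subscheme Z ⊆ S such that a morphism g :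
T → S factors through Z exactly when, on X ×_S T, the inverse image ideal of 𝓘 is contained in the
inverse image ideal of 𝓘', that is, the pull-back of D' is a closed subscheme of the pull-back of D.
This universal property determines Z, and compatibility of Z with base change follows from it. (In
the source X is a family of elliptic curves and D, D' are relative effective Cartier divisors, D'
then being finite locally free over S; the argument uses only the hypotheses stated here.) -/
theorem result
    {X S : Scheme.{u}} (f : X ⟶ S) (𝓘 𝓘' : X.IdealSheafData) (hD : BlowUp.IsEffCartierIdeal 𝓘)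
    [IsFinite (𝓘'.subschemeι ≫ f)] [Flat (𝓘'.subschemeι ≫ f)]
    [LocallyOfFinitePresentation (𝓘'.subschemeι ≫ f)] :
    ∃ 𝓩 : S.IdealSheafData, ∀ (T : Scheme.{u}) (g : T ⟶ S),
      (∃ t : T ⟶ 𝓩.subscheme, t ≫ 𝓩.subschemeι = g) ↔
        𝓘.comap (pullback.fst f g) ≤ 𝓘'.comap (pullback.fst f g) := by
  let p := 𝓘'.subschemeι ≫ f
  let e := (𝓘.comap 𝓘'.subschemeι).subschemeι
  obtain ⟨Z, ι, hι, hZ⟩ := GrothLib.EssFree.exists_closed_locus p e (GrothLib.EssFree.projCover_finLocFree p)
  haveI := hι
  refine ⟨ι.ker, fun T g => ?_⟩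
  have h0 : (∃ t : T ⟶ ι.ker.subscheme, t ≫ ι.ker.subschemeι = g) ↔ ∃ z : T ⟶ Z, z ≫ ι = g := by
    constructor
    · rintro ⟨t, rfl⟩
      exact ⟨IsClosedImmersion.lift ι (t ≫ ι.ker.subschemeι)
        ((ι.ker.ker_subschemeι).ge.trans (Scheme.Hom.le_ker_comp _ _)), IsClosedImmersion.lift_fac _ _ _⟩
    · rintro ⟨z, rfl⟩
      exact ⟨z ≫ ι.toImage, by rw [Category.assoc]; exact congrArg (z ≫ ·) ι.toImage_imageι⟩
  rw [h0, hZ]
  have hP : IsPullback (pullback.snd (pullback.fst f g) 𝓘'.subschemeι)
      (pullback.fst (pullback.fst f g) 𝓘'.subschemeι ≫ pullback.snd f g) p g :=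
    (IsPullback.of_hasPullback (pullback.fst f g) 𝓘'.subschemeι).flip.paste_vert
      (IsPullback.of_hasPullback f g)
  have hker : (pullback.fst p g).ker = (pullback.snd (pullback.fst f g) 𝓘'.subschemeι).ker := by
    rw [← hP.isoPullback_hom_fst, Scheme.Hom.ker_comp_of_isIso]
  have key : 𝓘.comap (pullback.fst f g) ≤ 𝓘'.comap (pullback.fst f g) ↔
      𝓘.comap 𝓘'.subschemeι ≤ (pullback.fst p g).ker := by
    rw [← Scheme.IdealSheafData.le_map_iff_comap_le, ← Scheme.IdealSheafData.le_map_iff_comap_le, hker]
    show 𝓘 ≤ (pullback.fst (pullback.fst f g) 𝓘'.subschemeι).ker.map (pullback.fst f g) ↔ _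
    rw [← Scheme.Hom.ker_comp, ← Scheme.Hom.ker_comp, pullback.condition]
  rw [key]
  constructor
  · rintro ⟨l, hl⟩
    rw [← hl]
    exact (Scheme.IdealSheafData.ker_subschemeι _).ge.trans (Scheme.Hom.le_ker_comp _ _)
  · intro h
    exact ⟨IsClosedImmersion.lift e (pullback.fst p g)
      ((Scheme.IdealSheafData.ker_subschemeι _).le.trans h), IsClosedImmersion.lift_fac _ _ _⟩

end Groth.Agent.S16245
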