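import Groth.Statements.S16248
-- import your own Groth.Agent.* helpers here
import Groth.Agent.Lib.EllGroup15.ExactOrder
import Groth.Agent.Lib.SecComp6.Smooth

set_option autoImplicit false
universe u
open CategoryTheory CategoryTheory.Limits AlgebraicGeometry MonObj
open AgPol

namespace Groth.Agent.S16248

/-- Let E be an S-group scheme which is smooth and proper over S with geometrically connected fibres of
dimension one (a family of elliptic curves over S with its group law), and let N ≥ 1 be an integer
invertible on S. Consider, for an S-scheme T, the T-valued points Q of E with N·Q = 0 whose value at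
every geometric point of T has order exactly N (for N invertible these are exactly the level
structures of type ℤ/N sending 1 to Q). This functor is represented by an S-scheme Z which is finite
and étale over S: there are such a Z and a point P of E with values in Z having this property, such
that every Q with the property over any T is the pull-back of P along a unique S-morphism T → Z. -/
theorem result
    {S : Scheme.{u}} (E : Over S) [GrpObj E] (hE : AgPol.IsAbSch E 1)
    (N : ℕ) (hN : 1 ≤ N) (hNu : IsUnit (N : Γ(S, ⊤))) :
    ∃ (Z : Over S) (P : Z ⟶ E), IsFinite Z.hom ∧ Etale Z.hom ∧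
      (P ^ N = 1 ∧ ∀ (Ω : Type u) [Field Ω] [IsAlgClosed Ω] (t : Spec (CommRingCat.of Ω) ⟶ Z.left),
        orderOf ((Over.homMk t rfl : Over.mk (t ≫ Z.hom) ⟶ Z) ≫ P) = N) ∧
      ∀ (T : Over S) (Q : T ⟶ E), Q ^ N = 1 →
        (∀ (Ω : Type u) [Field Ω] [IsAlgClosed Ω] (t : Spec (CommRingCat.of Ω) ⟶ T.left),
          orderOf ((Over.homMk t rfl : Over.mk (t ≫ T.hom) ⟶ T) ≫ Q) = N) →
        ∃! v : T ⟶ Z, v ≫ P = Q := by
  haveI := hE.smooth
  haveI := hE.proper
  haveI := hE.geomConnected
  haveI := GrothLib.SecComp6.geometricallyReduced_of_smooth E.hom
  haveI := GrothLib.Cube.isCommMonObj_abScheme E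
  exact GrothLib.EllGroup15.exists_exactOrder E N hN hNu

end Groth.Agent.S16248
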