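import Groth.Statements.S16249
-- import your own Groth.Agent.* helpers here
import Groth.Agent.Lib.EllGroup15.DegZero

set_option autoImplicit false
universe u
open CategoryTheory CategoryTheory.Limits AlgebraicGeometry
open PicF

namespace Groth.Agent.S16249

/-- Let f : E → S be a family of elliptic curves: f is proper and smooth of relative dimension one with
geometrically connected fibres whose structure sheaf has Euler characteristic 0 (genus one), and σ
is a section of f. Then for every invertible O_E-module L whose restriction to every fibre of f has
degree zero (Euler characteristic equal to that of the structure sheaf of the fibre) there is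
exactly one section P of f such that L ⊗ I_P ≅ I_σ ⊗ f^*M for some invertible O_S-module M, where
I_P and I_σ are the ideal sheaves of the closed subschemes P(S) and σ(S) of E. In other words P ↦
O(P − σ) is a bijection from E(S) onto the classes of fibrewise-degree-zero invertible modules
modulo modules pulled back from S. (The published statement goes on to say that E is thereby an
S-group scheme, with P + Q = R exactly when O(P) ⊗ O(Q) ⊗ O(−σ) ≅ O(R) ⊗ f^*M for some invertible M
on the base — its printed formula has O(−R), a misprint — ; that transport of the group structure is
not part of this statement.) -/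
theorem result
    {E S : Scheme.{u}} (f : E ⟶ S) [IsProper f] [SmoothOfRelativeDimension 1 f]
    (hc : GeometricallyConnected f)
    (hg : ∀ s : S, @FGA.eulerCharLE (S.residueField s) _ (f.fiber s) (f.fiberOverSpecResidueField s)
      (Coh.structureModule (f.fiber s)) 1 = 0)
    (σ : S ⟶ E) (hσ : σ ≫ f = 𝟙 S)
    (L : E.Modules) (hL : PicF.IsInvertible L)
    (hL0 : ∀ s : S, @FGA.eulerCharLE (S.residueField s) _ (f.fiber s) (f.fiberOverSpecResidueField s)
      ((Scheme.Modules.pullback (f.fiberι s)).obj L) 1 = 0) :
    ∃! P : S ⟶ E, P ≫ f = 𝟙 S ∧ ∃ M : S.Modules, PicF.IsInvertible M ∧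
      Nonempty (CohB1.tensorMod L (ClSub.idealMod P.ker) ≅
        CohB1.tensorMod (ClSub.idealMod σ.ker) ((Scheme.Modules.pullback f).obj M)) := by
  exact GrothLib.EllGroup15.existsUnique_section_of_deg_zero hc hg σ hσ L hL hL0

end Groth.Agent.S16249
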