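import Groth.Statements.S1625
import Groth.Agent.Lib.CurveModel.Completion

set_option autoImplicit false
universe u
open CategoryTheory CategoryTheory.Limits AlgebraicGeometry
open Variety

namespace Groth.Agent.S1625

/-- Let X be separated of finite type over k with dim X ≤ 1. Then there are a closed subscheme Y of some
projective space P^d_k and an open immersion j : X → Y over k whose image is dense and
scheme-theoretically dense and whose complement is a finite set of closed points. -/
theorem result (k : Type u) [Field k] (X : Scheme.{u}) [X.Over (Spec (CommRingCat.of k))] [IsSeparated (X ↘ (Spec (CommRingCat.of k)))] [LocallyOfFiniteType (X ↘ (Spec (CommRingCat.of k)))] [QuasiCompact (X ↘ (Spec (CommRingCat.of k)))] (hdim : topologicalKrullDim X ≤ 1) :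
    ∃ (d : ℕ) (Y : Scheme.{u}) (c : Y ⟶ CohB1.ProjSpace d k) (j : X ⟶ Y), IsClosedImmersion c ∧ IsOpenImmersion j ∧
      j ≫ c ≫ CohB1.ProjSpace.toSpec d k = X ↘ (Spec (CommRingCat.of k)) ∧ Dense (Set.range j.base) ∧ IsSchemeTheoreticallyDominant j ∧
      (Set.range j.base)ᶜ.Finite ∧ ∀ y ∈ (Set.range j.base)ᶜ, IsClosed ({y} : Set Y) := by
  haveI := GrothLib.CurveModel.isNoetherian_of_finiteType (X := X) k
  obtain ⟨d, Y, c, j, hc, hj, hjc, hd, hs, hY, hB, hdY⟩ := GrothLib.CurveModel.exists_completion k hdim
  haveI := hj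
  haveI := hY
  refine ⟨d, Y, c, j, hc, hj, hjc, hd, hs, ?_, fun y hy =>
    GrothLib.Euler.isClosed_singleton_of_notMem_genericPoints hdY (hB y hy)⟩
  exact GrothLib.Euler.finite_of_closed_points j.isOpenEmbedding.isOpen_range.isClosed_compl fun y hy =>
    GrothLib.Euler.isClosed_singleton_of_notMem_genericPoints hdY (hB y hy)

end Groth.Agent.S1625
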