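import Groth.Statements.S16253
import Groth.Agent.Lib.OmegaSheaf.Basic
import Groth.Agent.Lib.FittSheaf.Basic
import Groth.Agent.Lib.JacLocus.Basic
import Mathlib.AlgebraicGeometry.Morphisms.Smooth
import Mathlib.AlgebraicGeometry.Morphisms.ClosedImmersion

set_option autoImplicit false
set_option linter.all false
universe u
open CategoryTheory CategoryTheory.Limits AlgebraicGeometry TopologicalSpace
open SDiv

namespace Groth.Agent.S16253

/-- Let f : X ⟶ Y be locally of finite presentation and quasi-separated and p ≥ 0, and let J^p(X/Y) ⊆ X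
be the closed subset cut out by the p-th Fitting ideal of the module of differentials Ω_{X/Y} (the
p-th Jacobian locus). Then a point x of X lies outside J^p(X/Y) if and only if x has an open
neighbourhood U admitting a closed immersion over Y into a Y-scheme U' which is smooth of relative
dimension p over Y. (The published statement takes f of finite presentation and asks U' smooth over
Y with fibre dimension p at x; after shrinking U' this is smoothness of relative dimension p.
Quasi-separatedness of f is assumed because the module Ω_{X/Y} used here is defined for such f.) -/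
theorem result
    {X Y : Scheme.{u}} (f : X ⟶ Y) [LocallyOfFinitePresentation f] [QuasiSeparated f] (p : ℕ) (x : ↥X) :
    x ∉ (Fitt.sheafIdeal (Omega.sheaf f) p).support ↔
      ∃ (U : X.Opens) (U' : Scheme.{u}) (i : (U : Scheme.{u}) ⟶ U') (g : U' ⟶ Y),
        x ∈ U ∧ IsClosedImmersion i ∧ SmoothOfRelativeDimension p g ∧ i ≫ g = U.ι ≫ f := by
  haveI := GrothLib.OmegaSheaf.isQuasicoherent_sheaf f
  have hM := GrothLib.OmegaSheaf.isFT_sheaf f
  constructor
  · intro hx
    obtain ⟨V, hV, hxV, -⟩ := exists_isAffineOpen_mem_and_subset (Opens.mem_top (f.base x))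
    obtain ⟨U, hU, hxU, hUV⟩ := exists_isAffineOpen_mem_and_subset (U := f ⁻¹ᵁ V) (x := x) hxV
    rw [GrothLib.FittSheaf.notMem_support_iff_not_le hM p ⟨U, hU⟩ hxU] at hx
    letI := (f.appLE V U hUV).hom.toAlgebra
    haveI : Algebra.FiniteType Γ(Y, V) Γ(X, U) :=
      HasRingHomProperty.appLE @LocallyOfFiniteType f inferInstance ⟨V, hV⟩ ⟨U, hU⟩ hUV
    obtain ⟨e⟩ := GrothLib.OmegaSheaf.nonempty_sections_equiv f hU hV hUV
    haveI := GrothLib.FittSheaf.finite_sections hM ⟨U, hU⟩
    have hx' : ¬ Fitt.ideal Γ(X, U) (KaehlerDifferential Γ(Y, V) Γ(X, U)) p ≤ GrothLib.WeakAss.primeAt x hxU :=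
      fun h => hx (le_of_eq_of_le (GrothLib.Fitting.ideal_congr e p) h)
    obtain ⟨r, hr, hC⟩ := GrothLib.JacLocus.exists_standardSmooth_surjective p
      (GrothLib.WeakAss.primeAt x hxU) hx'
    haveI := hU.isLocalization_basicOpen r
    obtain ⟨C, _, _, ψ, hsm, hψ, hψA⟩ := hC Γ(X, X.basicOpen r)
    have hD : IsAffineOpen (X.basicOpen r) := hU.basicOpen r
    have hDV : X.basicOpen r ≤ f ⁻¹ᵁ V := (X.basicOpen_le r).trans hUV
    have hcompat : CommRingCat.ofHom (algebraMap Γ(Y, V) C) ≫ CommRingCat.ofHom ψ =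
        f.appLE V (X.basicOpen r) hDV := by
      rw [← CommRingCat.ofHom_comp, hψA]
      show f.appLE V U hUV ≫ X.presheaf.map (homOfLE (X.basicOpen_le r)).op = _
      exact f.appLE_map _ _
    haveI : IsClosedImmersion (Spec.map (CommRingCat.ofHom ψ)) :=
      IsClosedImmersion.spec_of_surjective _ hψ
    haveI : SmoothOfRelativeDimension p (Spec.map (CommRingCat.ofHom (algebraMap Γ(Y, V) C))) :=
      (HasRingHomProperty.Spec_iff (P := @SmoothOfRelativeDimension p)).mpr
        (RingHom.locally_of RingHom.isStandardSmoothOfRelativeDimension_respectsIso _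
          ((RingHom.isStandardSmoothOfRelativeDimension_algebraMap p).mpr hsm))
    haveI := hV.isOpenImmersion_fromSpec
    refine ⟨X.basicOpen r, Spec (CommRingCat.of C), hD.isoSpec.hom ≫ Spec.map (CommRingCat.ofHom ψ),
      Spec.map (CommRingCat.ofHom (algebraMap Γ(Y, V) C)) ≫ hV.fromSpec,
      GrothLib.WeakAss.notMem_primeAt_iff.mp hr, inferInstance, ?_, ?_⟩
    · exact inferInstanceAs (SmoothOfRelativeDimension (p + 0) _)
    · rw [Category.assoc, ← Spec.map_comp_assoc, hcompat, IsAffineOpen.SpecMap_appLE_fromSpec f hV hD hDV,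
        ← Category.assoc, hD.isoSpec_hom_fromSpec]
  · rintro ⟨U, U', i, g, hxU, hi, hg, hig⟩
    obtain ⟨V, hV, W, hW, hxW, hWV, hsm⟩ :=
      hg.exists_isStandardSmoothOfRelativeDimension (i ⟨x, hxU⟩)
    have hU₀ : IsAffineOpen (i ⁻¹ᵁ W) := hW.preimage i
    let U₁ : X.Opens := U.ι ''ᵁ (i ⁻¹ᵁ W)
    have hU₁ : IsAffineOpen U₁ := hU₀.image_of_isOpenImmersion U.ι
    have hxU₁ : x ∈ U₁ := ⟨⟨x, hxU⟩, hxW, rfl⟩
    have hU₁V : U₁ ≤ f ⁻¹ᵁ V := by
      rintro _ ⟨y, hy, rfl⟩
      show (U.ι ≫ f).base y ∈ V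
      rw [← hig]
      exact hWV hy
    rw [GrothLib.FittSheaf.notMem_support_iff_not_le hM p ⟨U₁, hU₁⟩ hxU₁]
    letI := (f.appLE V U₁ hU₁V).hom.toAlgebra
    letI := (g.appLE V W hWV).hom.toAlgebra
    haveI : Algebra.IsStandardSmoothOfRelativeDimension p Γ(Y, V) Γ(U', W) := hsm
    have hcompat : g.appLE V W hWV ≫ i.app W ≫ (U.ι.appIso (i ⁻¹ᵁ W)).inv = f.appLE V U₁ hU₁V := by
      rw [← Category.assoc, Iso.comp_inv_eq, Scheme.Hom.app_eq_appLE, Scheme.Hom.appLE_comp_appLE,
        Scheme.Hom.appIso_hom']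
      rw [Scheme.Hom.appLE_comp_appLE]
      simp only [hig]
    let ψ : Γ(U', W) →ₐ[Γ(Y, V)] Γ(X, U₁) :=
      { (i.app W ≫ (U.ι.appIso (i ⁻¹ᵁ W)).inv).hom with
        commutes' := fun a => ConcreteCategory.congr_hom hcompat a }
    have hψ : Function.Surjective ψ :=
      (U.ι.appIso (i ⁻¹ᵁ W)).symm.commRingCatIsoToRingEquiv.surjective.comp (i.app_surjective W hW)
    obtain ⟨e⟩ := GrothLib.OmegaSheaf.nonempty_sections_equiv f hU₁ hV hU₁V
    haveI := GrothLib.FittSheaf.finite_sections hM ⟨U₁, hU₁⟩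
    have htop := GrothLib.JacLocus.fitting_eq_top_of_surjective p ψ hψ
    intro hle
    refine (inferInstance : (GrothLib.WeakAss.primeAt x hxU₁).IsPrime).ne_top (top_le_iff.mp ?_)
    rw [← htop, ← GrothLib.Fitting.ideal_congr e p]
    exact hle

end Groth.Agent.S16253
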