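import Groth.Statements.S16254
import Mathlib

set_option autoImplicit false
set_option linter.all false
universe u
open scoped BigOperators
open LefPen

namespace Groth.Agent.S16254

/-- Let A be a commutative ring and m_1, …, m_s ∈ A^(N+1) linearly independent vectors whose span M has
projective (that is, locally free) quotient A^(N+1)/M. Write a_0, …, a_N for the coordinate
functions, so that restricting linear forms to M and expressing them in the basis dual to the m_i
gives the A-algebra map A[a_0, …, a_N] ⟶ A[y_1, …, y_s], a_j ↦ Σ_i (m_i)_j y_i (the map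
Sym((A^(N+1))^∨) ⟶ Sym(M^∨)). Its kernel is the ideal generated by the (s+1) × (s+1) minors of the
(s+1) × (N+1) matrix whose first s rows are the coordinate rows of m_1, …, m_s and whose last row is
(a_0, …, a_N). The minors are indexed here by all maps c from Fin (s+1) to Fin (N+1) choosing the
columns (non-injective choices give zero). -/
theorem result
    (A : Type u) [CommRing A] (N s : ℕ) (m : Fin s → (Fin (N + 1) → A))
    (hli : LinearIndependent A m)
    (hproj : Module.Projective A ((Fin (N + 1) → A) ⧸ Submodule.span A (Set.range m))) :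
    RingHom.ker (MvPolynomial.aeval (R := A) (S₁ := MvPolynomial (Fin s) A)
        (fun j : Fin (N + 1) => ∑ i : Fin s, MvPolynomial.C (m i j) * MvPolynomial.X i)) =
      Ideal.span (Set.range fun c : Fin (s + 1) → Fin (N + 1) =>
        (Matrix.of fun (i : Fin (s + 1)) (j : Fin (s + 1)) =>
          (Fin.snoc (α := fun _ => MvPolynomial (Fin (N + 1)) A)
            (fun i' : Fin s => MvPolynomial.C (m i' (c j))) (MvPolynomial.X (c j)) i)).det) := by
  classical
  set φ : MvPolynomial (Fin (N + 1)) A →ₐ[A] MvPolynomial (Fin s) A :=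
    MvPolynomial.aeval (R := A) (S₁ := MvPolynomial (Fin s) A)
      (fun j : Fin (N + 1) => ∑ i : Fin s, MvPolynomial.C (m i j) * MvPolynomial.X i) with hφdef
  have hφX : ∀ j, φ (MvPolynomial.X j) = ∑ i : Fin s, MvPolynomial.C (m i j) * MvPolynomial.X i :=
    fun j => MvPolynomial.aeval_X _ _
  have hφC : ∀ x, φ (MvPolynomial.C x) = MvPolynomial.C x := fun x => by
    rw [← MvPolynomial.algebraMap_eq, AlgHom.commutes]; rfl
  let B : Matrix (Fin (s + 1)) (Fin (N + 1)) (MvPolynomial (Fin (N + 1)) A) :=
    Matrix.of fun i l => Fin.snoc (α := fun _ => MvPolynomial (Fin (N + 1)) A)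
      (fun i' : Fin s => MvPolynomial.C (m i' l)) (MvPolynomial.X l) i
  set J : Ideal (MvPolynomial (Fin (N + 1)) A) := Ideal.span (Set.range fun c : Fin (s + 1) → Fin (N + 1) =>
    (Matrix.of fun (i : Fin (s + 1)) (j : Fin (s + 1)) =>
      (Fin.snoc (α := fun _ => MvPolynomial (Fin (N + 1)) A)
        (fun i' : Fin s => MvPolynomial.C (m i' (c j))) (MvPolynomial.X (c j)) i)).det) with hJ
  -- a retraction of the inclusion of the span
  obtain ⟨R, hR⟩ : ∃ R : Fin s → Fin (N + 1) → A, ∀ k i, ∑ j, R k j * m i j = if k = i then 1 else 0 := by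
    obtain ⟨sec, hsec⟩ := Module.projective_lifting_property
      (Submodule.span A (Set.range m)).mkQ LinearMap.id (Submodule.mkQ_surjective _)
    let p : (Fin (N + 1) → A) →ₗ[A] Submodule.span A (Set.range m) :=
      (LinearMap.id - sec ∘ₗ (Submodule.span A (Set.range m)).mkQ).codRestrict _ fun x => by
        rw [← Submodule.Quotient.mk_eq_zero]
        have := LinearMap.congr_fun hsec ((Submodule.span A (Set.range m)).mkQ x)
        simp only [LinearMap.comp_apply, LinearMap.id_apply, Submodule.mkQ_apply] at this
        simp [this]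
    let Bs := Module.Basis.span hli
    refine ⟨fun k j => Bs.repr (p (Pi.single j 1)) k, fun k i => ?_⟩
    have hp : p (m i) = Bs i := by
      apply Subtype.ext
      rw [Module.Basis.span_apply]
      have : (Submodule.span A (Set.range m)).mkQ (m i) = 0 :=
        (Submodule.Quotient.mk_eq_zero _).mpr (Submodule.subset_span ⟨i, rfl⟩)
      change m i - sec ((Submodule.span A (Set.range m)).mkQ (m i)) = m i
      rw [this, map_zero, sub_zero]
    have h1 : Bs.repr (p (m i)) k = ∑ j, Bs.repr (p (Pi.single j 1)) k * m i j := by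
      conv_lhs => rw [pi_eq_sum_univ (m i)]
      rw [map_sum, map_sum, Finsupp.finsetSum_apply]
      refine Finset.sum_congr rfl fun j _ => ?_
      rw [map_smul, map_smul, Finsupp.smul_apply, smul_eq_mul, mul_comm]
      congr 3
      congr 1
      funext l
      simp [Pi.single_apply, eq_comm]
    rw [← h1, hp, Module.Basis.repr_self, Finsupp.single_apply]
    simp [eq_comm]
  -- every determinant B * C lies in J
  have hBC : ∀ Cm : Matrix (Fin (N + 1)) (Fin (s + 1)) (MvPolynomial (Fin (N + 1)) A), (B * Cm).det ∈ J := by
    intro Cm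
    rw [← Matrix.det_transpose]
    have e : (B * Cm).transpose = fun k => ∑ l, Cm l k • B.transpose l := by
      funext k i
      simp [Matrix.mul_apply, mul_comm]
    change Matrix.detRowAlternating.toMultilinearMap ((B * Cm).transpose) ∈ J
    rw [e, MultilinearMap.map_sum]
    refine Ideal.sum_mem _ fun c _ => ?_
    rw [MultilinearMap.map_smul_univ, smul_eq_mul]
    refine Ideal.mul_mem_left _ _ (Ideal.subset_span ⟨c, ?_⟩)
    exact (Matrix.det_transpose _).symm
  -- the linear forms generating the kernel
  let T : Fin s → MvPolynomial (Fin (N + 1)) A := fun i => ∑ l, MvPolynomial.C (R i l) * MvPolynomial.X l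
  have hℓ : ∀ j, MvPolynomial.X j - ∑ i, MvPolynomial.C (m i j) * T i ∈ J := by
    intro j
    let Cm : Matrix (Fin (N + 1)) (Fin (s + 1)) (MvPolynomial (Fin (N + 1)) A) :=
      Matrix.of fun l k => Fin.snoc (α := fun _ => MvPolynomial (Fin (N + 1)) A)
        (fun k' : Fin s => MvPolynomial.C (R k' l)) (if l = j then 1 else 0) k
    have e11 : ∀ i k : Fin s, (B * Cm) i.castSucc k.castSucc = if k = i then 1 else 0 := by
      intro i k
      simp only [Matrix.mul_apply, B, Cm, Matrix.of_apply, Fin.snoc_castSucc, ← MvPolynomial.C_mul,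
        ← map_sum, mul_comm (m i _), hR]
      split_ifs <;> simp
    have e21 : ∀ k : Fin s, (B * Cm) (Fin.last s) k.castSucc = T k := by
      intro k
      simp [Matrix.mul_apply, B, Cm, T, mul_comm]
    have e12 : ∀ i : Fin s, (B * Cm) i.castSucc (Fin.last s) = MvPolynomial.C (m i j) := by
      intro i; simp [Matrix.mul_apply, B, Cm]
    have e22 : (B * Cm) (Fin.last s) (Fin.last s) = MvPolynomial.X j := by
      simp [Matrix.mul_apply, B, Cm]
    have := hBC Cm
    generalize B * Cm = M at this e11 e21 e12 e22
    have hdet := Matrix.det_updateRow_sum M (Fin.last s)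
      (Fin.snoc (α := fun _ => MvPolynomial (Fin (N + 1)) A) (fun i => -T i) 1)
    rw [Fin.snoc_last, one_smul, Matrix.det_of_isUpperTriangular] at hdet
    · rw [Fin.prod_univ_castSucc] at hdet
      simp only [Matrix.updateRow_self, Matrix.updateRow_ne (Fin.castSucc_lt_last _).ne, e11,
        if_true, Finset.prod_const_one, one_mul, Fin.sum_univ_castSucc, Fin.snoc_castSucc,
        Fin.snoc_last, Pi.add_apply, Finset.sum_apply, Pi.smul_apply, smul_eq_mul, e12, e22] at hdet
      rw [← hdet] at this
      convert this using 1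
      simp only [neg_mul, Finset.sum_neg_distrib, mul_comm (T _)]
      ring
    · intro i k hik
      simp only [id_eq] at hik
      induction k using Fin.lastCases with
      | last => exact absurd hik (not_lt.mpr (Fin.le_last i))
      | cast k =>
        induction i using Fin.lastCases with
        | last =>
          simp [Matrix.updateRow_self, Fin.sum_univ_castSucc, e11, e21]
        | cast i =>
          rw [Matrix.updateRow_ne (Fin.castSucc_lt_last _).ne, e11, if_neg]
          rintro rfl; exact lt_irrefl _ hik
  refine le_antisymm (fun f hf => ?_) (Ideal.span_le.mpr ?_)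
  · let ψ : MvPolynomial (Fin s) A →ₐ[A] MvPolynomial (Fin (N + 1)) A := MvPolynomial.aeval T
    have key : (Ideal.Quotient.mkₐ A J).comp (ψ.comp φ) = Ideal.Quotient.mkₐ A J := by
      refine MvPolynomial.algHom_ext fun j => ?_
      change Ideal.Quotient.mk J (ψ (φ (MvPolynomial.X j))) = Ideal.Quotient.mk J (MvPolynomial.X j)
      rw [hφX, map_sum ψ, eq_comm, Ideal.Quotient.eq]
      simpa [ψ] using hℓ j
    rw [← Ideal.Quotient.eq_zero_iff_mem]
    have := AlgHom.congr_fun key f
    change Ideal.Quotient.mk J (ψ (φ f)) = Ideal.Quotient.mk J f at this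
    rw [← this, show φ f = 0 from hf, map_zero, map_zero]
  · rintro _ ⟨c, rfl⟩
    rw [SetLike.mem_coe, RingHom.mem_ker, AlgHom.map_det]
    let M : Matrix (Fin (s + 1)) (Fin (s + 1)) (MvPolynomial (Fin s) A) :=
      φ.mapMatrix (Matrix.of fun i k => B i (c k))
    change M.det = 0
    have hrow : M (Fin.last s) = ∑ k, (Fin.snoc (α := fun _ => MvPolynomial (Fin s) A)
        (fun i : Fin s => MvPolynomial.X i) 0 : Fin (s + 1) → _) k • M k := by
      funext k
      simp [M, B, Fin.sum_univ_castSucc, hφX, hφC, mul_comm]
    rw [← Matrix.updateRow_eq_self M (Fin.last s), hrow, Matrix.det_updateRow_sum, Fin.snoc_last, zero_smul]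

end Groth.Agent.S16254
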