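import Groth.Statements.S16255
import Groth.Agent.Lib.JacQuad10.Point

set_option autoImplicit false
universe u
open VanCyc

namespace Groth.Agent.S16255

/-- (b) ⇔ (c): let k be an algebraically closed field, m ≥ 0, f ∈ k[x_0, …, x_m], B = k[x_0, …, x_m]/(f)
and P a maximal ideal of B (a closed point y of the hypersurface Y = V(f)) containing the classes of
all partial derivatives ∂f/∂x_j, so that y lies in the m-th Jacobian locus of Y (cut out in Y by the
m-th Fitting ideal of Ω_{Y/k}, which is generated by these classes). Then the following are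
equivalent: (b) the classes of the ∂f/∂x_j generate the maximal ideal of the local ring B_P, i.e.
near y the Jacobian locus is the reduced point y; (c) y is a non-degenerate quadratic singularity of
Y of dimension m: the completion of B_P is k-isomorphic to k[[x_0, …, x_m]]/(g) for a power series g
without constant or linear terms whose quadratic part has unit polar discriminant. (The published
statement is for Y a local complete intersection of virtual dimension m over k and a point of the
m-th but not the (m+1)-st Jacobian locus; the statement here is its affine hypersurface case, to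
which its proof reduces by an étale chart. A third equivalent condition there, on the differentials
of the Jacobian scheme at y, is not stated here.) -/
theorem result
    (k : Type u) [Field k] [IsAlgClosed k] (m : ℕ) (f : MvPolynomial (Fin (m + 1)) k)
    (P : Ideal (MvPolynomial (Fin (m + 1)) k ⧸ Ideal.span {f})) [P.IsMaximal]
    (hP : ∀ j : Fin (m + 1), Ideal.Quotient.mk (Ideal.span {f}) (MvPolynomial.pderiv j f) ∈ P) :
    Ideal.map (algebraMap (MvPolynomial (Fin (m + 1)) k ⧸ Ideal.span {f}) (Localization.AtPrime P))
        (Ideal.span (Set.range fun j : Fin (m + 1) =>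
          Ideal.Quotient.mk (Ideal.span {f}) (MvPolynomial.pderiv j f))) =
      IsLocalRing.maximalIdeal (Localization.AtPrime P) ↔
    VanCyc.IsNondegQuadSing k (Localization.AtPrime P) m 
:= by
  classical
  let mkB := Ideal.Quotient.mk (Ideal.span ({f} : Set (MvPolynomial (Fin (m + 1)) k)))
  haveI : (P.comap mkB).IsMaximal := Ideal.comap_isMaximal_of_surjective mkB Ideal.Quotient.mk_surjective
  obtain ⟨a, ha⟩ := ((MvPolynomial.isMaximal_iff_eq_vanishingIdeal_singleton (I := P.comap mkB))).1 inferInstance
  have hPi : P.comap mkB = GrothLib.JacQuad10.mP a := by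
    rw [ha]
    ext q
    simp [GrothLib.JacQuad10.mP, MvPolynomial.mem_vanishingIdeal_iff, MvPolynomial.aeval_eq_eval]
  have hev : ∀ q, mkB q ∈ P → MvPolynomial.eval a q = 0 := fun q hq => by
    have : q ∈ P.comap mkB := hq
    rwa [hPi] at this
  have hf : MvPolynomial.eval a f = 0 := hev f (by
    rw [show mkB f = 0 from Ideal.Quotient.eq_zero_iff_mem.2 (Ideal.mem_span_singleton_self f)]
    exact zero_mem _)
  obtain ⟨hiff, ⟨e⟩, hlow⟩ := GrothLib.JacQuad10.jacobian_iff (Nat.succ_pos m) a f hf (fun i => hev _ (hP i)) P hPi
  rw [hiff]
  constructor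
  · intro hn
    refine ⟨GrothLib.JacQuad10.taylor a f, ⟨hlow, ?_⟩, ⟨e⟩⟩
    rw [VanCyc.QuadNondeg, ← GrothLib.JacQuad10.pol_eq_polarMatrix]
    exact hn
  · rintro ⟨g, ⟨hgl, hgn⟩, ⟨e'⟩⟩
    rw [VanCyc.QuadNondeg, ← GrothLib.JacQuad10.pol_eq_polarMatrix] at hgn
    exact GrothLib.JacQuad10.nondeg_of_algEquiv (Nat.succ_pos m) hlow hgl hgn (e'.symm.trans e)

end Groth.Agent.S16255
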