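import Groth.Statements.S16256
import Groth.Agent.Lib.OmegaSheaf.Basic
import Groth.Agent.Lib.FittSheaf.Basic
import Groth.Agent.Lib.JacLocus.LCI
import Groth.Agent.Lib.RegSeqLoc.Comp
import Mathlib.AlgebraicGeometry.Morphisms.Smooth

set_option autoImplicit false
set_option linter.all false
set_option backward.isDefEq.respectTransparency false
universe u
open CategoryTheory CategoryTheory.Limits AlgebraicGeometry TopologicalSpace
open SDiv

namespace Groth.Agent.S16256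

/-- Let f : Y ⟶ X be locally of finite presentation and quasi-separated, m ≥ 0, and y a point of Y near
which f is a local complete intersection of virtual dimension m, in the factorisation sense: some
open neighbourhood U of y admits a Koszul-regular immersion i of constant codimension c into a
scheme P smooth of relative dimension m + c over X, compatibly with f. Then f is smooth on some open
neighbourhood of y if and only if y does not lie in the m-th Jacobian locus of Y over X, the closed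
subset cut out by the m-th Fitting ideal of Ω_{Y/X}. (Quasi-separatedness of f is assumed because
the module Ω_{Y/X} used here is defined for such f.) -/
theorem result
    {Y X : Scheme.{u}} (f : Y ⟶ X) [LocallyOfFinitePresentation f] [QuasiSeparated f] (m : ℕ) (y : ↥Y)
    (hlci : ∃ (U : Y.Opens) (P : Scheme.{u}) (i : (U : Scheme.{u}) ⟶ P) (π : P ⟶ X) (c : ℕ),
      y ∈ U ∧ RegImm.IsRegularImmersionOfCodim RegImm.Kind.koszul c i ∧
        SmoothOfRelativeDimension (m + c) π ∧ i ≫ π = U.ι ≫ f) :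
    (∃ V : Y.Opens, y ∈ V ∧ Smooth (V.ι ≫ f)) ↔ y ∉ (Fitt.sheafIdeal (Omega.sheaf f) m).support := by
  obtain ⟨U, P, i, π, c, hyU, hi, hπ, hiπ⟩ := hlci
  haveI := hi.1
  haveI := hπ
  obtain ⟨W, hyW, hci, rs, hlen, hK, hI⟩ := hi.2 ⟨y, hyU⟩
  obtain ⟨V, hV, W₂, hW₂, hyW₂, hW₂V, hsm⟩ :=
    hπ.exists_isStandardSmoothOfRelativeDimension (i ⟨y, hyU⟩)
  obtain ⟨g, g', hgg, hyg⟩ := exists_basicOpen_le_affine_inter hW₂ W.2 (i ⟨y, hyU⟩) ⟨hyW₂, hyW⟩
  let W' : P.affineOpens := ⟨P.basicOpen g, hW₂.basicOpen g⟩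
  obtain ⟨-, hsurj, hU₀, ss, hlen', hK', hI'⟩ :=
    GrothLib.RegSeqLoc.exists_shrink i W hci rs hI hK W' (show P.basicOpen g ≤ W.1 from hgg ▸ P.basicOpen_le g')
  let U₁ : Y.Opens := U.ι ''ᵁ (i ⁻¹ᵁ W'.1)
  have hU₁ : IsAffineOpen U₁ := hU₀.image_of_isOpenImmersion U.ι
  have hyU₁ : y ∈ U₁ := ⟨⟨y, hyU⟩, hyg, rfl⟩
  have hW'V : W'.1 ≤ π ⁻¹ᵁ V := (P.basicOpen_le g).trans hW₂V
  have hU₁V : U₁ ≤ f ⁻¹ᵁ V := by
    rintro _ ⟨z, hz, rfl⟩
    show (U.ι ≫ f).base z ∈ V
    rw [← hiπ]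
    exact hW'V hz
  letI := (f.appLE V U₁ hU₁V).hom.toAlgebra
  letI := (π.appLE V W'.1 hW'V).hom.toAlgebra
  haveI hsm' : Algebra.IsStandardSmoothOfRelativeDimension (m + c) Γ(X, V) Γ(P, W'.1) := by
    letI := (π.appLE V W₂ hW₂V).hom.toAlgebra
    haveI : Algebra.IsStandardSmoothOfRelativeDimension (m + c) Γ(X, V) Γ(P, W₂) := hsm
    letI : Algebra Γ(P, W₂) Γ(P, W'.1) := (P.presheaf.map (homOfLE (P.basicOpen_le g)).op).hom.toAlgebra
    haveI : IsLocalization.Away g Γ(P, W'.1) :=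
      hW₂.isLocalization_of_eq_basicOpen g (homOfLE (P.basicOpen_le g)) rfl
    haveI : IsScalarTower Γ(X, V) Γ(P, W₂) Γ(P, W'.1) := IsScalarTower.of_algebraMap_eq' (by
      show (π.appLE V W'.1 hW'V).hom = ((π.appLE V W₂ hW₂V) ≫ P.presheaf.map (homOfLE (P.basicOpen_le g)).op).hom
      rw [Scheme.Hom.appLE_map])
    haveI : Algebra.IsStandardSmoothOfRelativeDimension 0 Γ(P, W₂) Γ(P, W'.1) :=
      Algebra.IsStandardSmoothOfRelativeDimension.localization_away g
    have := Algebra.IsStandardSmoothOfRelativeDimension.trans (n := m + c) (m := 0) Γ(X, V) Γ(P, W₂) Γ(P, W'.1)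
    simpa using this
  have hcompat : π.appLE V W'.1 hW'V ≫ i.app W'.1 ≫ (U.ι.appIso (i ⁻¹ᵁ W'.1)).inv = f.appLE V U₁ hU₁V := by
    rw [← Category.assoc, Iso.comp_inv_eq, Scheme.Hom.app_eq_appLE, Scheme.Hom.appLE_comp_appLE,
      Scheme.Hom.appIso_hom']
    rw [Scheme.Hom.appLE_comp_appLE]
    simp only [hiπ]
  let ψ : Γ(P, W'.1) →ₐ[Γ(X, V)] Γ(Y, U₁) :=
    { (i.app W'.1 ≫ (U.ι.appIso (i ⁻¹ᵁ W'.1)).inv).hom with
      commutes' := fun a => ConcreteCategory.congr_hom hcompat a }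
  have hψ : Function.Surjective ψ :=
    (U.ι.appIso (i ⁻¹ᵁ W'.1)).symm.commRingCatIsoToRingEquiv.surjective.comp hsurj
  let x : Fin c → Γ(P, W'.1) := fun j => ss.get (j.cast (by rw [hlen', hlen]))
  have hxrange : Set.range x = Set.range ss.get :=
    Function.Surjective.range_comp (fun j => ⟨j.cast (by rw [hlen', hlen]), rfl⟩) ss.get
  have hker : RingHom.ker ψ.toRingHom = Ideal.span (Set.range x) := by
    rw [hxrange, Set.range_list_get]
    refine Eq.trans ?_ hI'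
    ext a
    constructor
    · intro ha
      exact (U.ι.appIso (i ⁻¹ᵁ W'.1)).symm.commRingCatIsoToRingEquiv.injective
        ((RingHom.mem_ker.1 ha).trans (map_zero _).symm)
    · intro ha
      exact (congrArg (U.ι.appIso (i ⁻¹ᵁ W'.1)).inv (RingHom.mem_ker.1 ha)).trans (map_zero _)
  have hreg : CAlgX.IsH1Regular x := by
    have h1 := GrothLib.SeqKinds.isH1Regular_of_isKoszulRegularSeq ss hK'
    have hc : ss.length = c := by rw [hlen', hlen]
    subst hc
    exact h1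
  haveI := GrothLib.OmegaSheaf.isQuasicoherent_sheaf f
  have hM := GrothLib.OmegaSheaf.isFT_sheaf f
  obtain ⟨e⟩ := GrothLib.OmegaSheaf.nonempty_sections_equiv f hU₁ hV hU₁V
  haveI := GrothLib.FittSheaf.finite_sections hM ⟨U₁, hU₁⟩
  rw [GrothLib.FittSheaf.notMem_support_iff_not_le hM m ⟨U₁, hU₁⟩ hyU₁]
  have hq : GrothLib.WeakAss.primeAt y hyU₁ = (hU₁.primeIdealOf ⟨y, hyU₁⟩).asIdeal := by
    rw [hU₁.primeIdealOf_eq_map_closedPoint]
    rfl
  show _ ↔ ¬ Fitt.ideal Γ(Y, U₁) _ m ≤ GrothLib.WeakAss.primeAt y hyU₁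
  rw [GrothLib.Fitting.ideal_congr e m, hq,
    ← GrothLib.JacLocus.isSmoothAt_iff_fitting (A := Γ(X, V)) ψ hψ x hker hreg]
  constructor
  · rintro ⟨T, hyT, hT⟩
    have h : y ∈ f.smoothLocus := by
      have h2 : (⟨y, hyT⟩ : T.toScheme) ∈ T.ι ⁻¹ᵁ f.smoothLocus := by
        rw [Scheme.Hom.preimage_smoothLocus_eq, Scheme.Hom.smoothLocus_eq_top]
        trivial
      exact h2
    rw [Scheme.Hom.mem_smoothLocus, formallySmooth_stalkMap_iff V hV U₁ hU₁ hU₁V hyU₁] at h
    exact h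
  · intro h
    have hmem : y ∈ f.smoothLocus :=
      Scheme.Hom.mem_smoothLocus.2 ((formallySmooth_stalkMap_iff V hV U₁ hU₁ hU₁V hyU₁).2 h)
    refine ⟨f.smoothLocus, hmem, Scheme.Hom.smoothLocus_eq_top_iff.1 ?_⟩
    rw [← Scheme.Hom.preimage_smoothLocus_eq]
    exact Scheme.Opens.ι_preimage_self f.smoothLocus

end Groth.Agent.S16256
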