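import Groth.Statements.S16257
-- import your own Groth.Agent.* helpers here
import Groth.Agent.Lib.CurveSupp9.Basic
import Groth.Agent.Lib.EtSupp19.Supp
import Groth.Agent.Lib.ExtZero.Stalk
import Groth.Agent.Lib.EtSite.Pull
import Groth.Agent.Lib.EtDer.HpullComp
import Groth.Agent.Lib.RedSmooth.Basic
import Groth.Agent.Lib.NodeEt.Node
import Groth.Agent.Lib.Euler.Vanish
import Groth.Agent.Lib.CotTangent.Components

set_option autoImplicit false
set_option maxHeartbeats 1600000
set_option linter.style.haveILetI false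
set_option backward.isDefEq.respectTransparency false
universe u
open CategoryTheory CategoryTheory.Limits AlgebraicGeometry Opposite
open FinFr

namespace Groth.Agent.S16257

open GrothLib.EtSite CategoryTheory.Abelian

/-- The stalk of an extension by zero of a map is an isomorphism if all stalks above are. -/
theorem isIso_stalk_extZero_map {U X : Scheme.{u}} (j : U ⟶ X) [Etale j] [EtShriek.JCont j]
    {Ω : Type u} [Field Ω] [IsSepClosed Ω] (ξ : Spec (CommRingCat.of Ω) ⟶ X) {F G : EtCoh.Ab U} (a : F ⟶ G)
    (h : ∀ v : GrothLib.ExtZero.Pts j ξ, IsIso ((EtCoh.stalk v.1).map a)) :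
    IsIso ((EtCoh.stalk ξ).map ((EtShriek.extZero j).map a)) := by
  have e : (EtCoh.stalk ξ).map ((EtShriek.extZero j).map a) =
      (GrothLib.ExtZero.sumIso j ξ F).inv ≫ Limits.Sigma.map (fun v : GrothLib.ExtZero.Pts j ξ => (EtCoh.stalk v.1).map a) ≫
        (GrothLib.ExtZero.sumIso j ξ G).hom := by
    rw [Iso.eq_inv_comp]
    exact (GrothLib.ExtZero.fromSum_naturality j ξ a).symm
  haveI := h
  rw [e]
  infer_instance

/-- Isomorphism on stalks outside closed points gives a cokernel supported at closed points. -/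
theorem isPtSupp_cokernel {X : Scheme.{u}} {F G : EtCoh.Ab X} (φ : F ⟶ G)
    (h : ∀ (Ω : Type u) [Field Ω] [IsSepClosed Ω] (ξ : Spec (CommRingCat.of Ω) ⟶ X),
      ¬ IsClosed ({ξ.base (default : Spec (CommRingCat.of Ω))} : Set X) → IsIso ((EtCoh.stalk ξ).map φ)) :
    GrothLib.CurveSupp9.IsPtSupp (cokernel φ) := fun Ω _ _ ξ hξ => by
  haveI := h Ω ξ hξ
  exact IsZero.of_iso (isZero_cokernel_of_epi ((EtCoh.stalk ξ).map φ)) (PreservesCokernel.iso (EtCoh.stalk ξ) φ)

/-- Let k be a field, K an algebraic closure of k, X₀ a smooth, separated, geometrically irreducible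
k-curve of finite type, j : X₀ ⟶ P₀ an open immersion into a proper k-scheme (a compactification,
through which compactly supported cohomology is computed as H^*(P₀ ⊗_k K, j_!(-))), i : U₀ ⟶ X₀ the
inclusion of a non-empty open subscheme, and F an abelian étale sheaf on X₀ killed by an integer ν
invertible in k. Then the canonical map H^2_c(U₀ ⊗_k K, F|U) ⟶ H^2_c(X₀ ⊗_k K, F), namely the map
induced on H^2(P₀ ⊗_k K, -) by j_! of the counit i_! i^{-1} F ⟶ F, is bijective. (The published
statement is for an arbitrary constructible ℓ-adic sheaf with Q̄_ℓ-coefficients; the statement here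
is the finite-coefficient form of its excision argument, over any base field.) -/
theorem result
    (k K : Type u) [Field k] [Field K] [Algebra k K] [IsAlgClosed K] [Algebra.IsAlgebraic k K]
    {X₀ P₀ U₀ : Scheme.{u}} (a : X₀ ⟶ Spec (CommRingCat.of k))
    [SmoothOfRelativeDimension 1 a] [IsSeparated a] [QuasiCompact a] [GeometricallyIrreducible a]
    (j : X₀ ⟶ P₀) [IsOpenImmersion j] [EtShriek.JCont j] (b : P₀ ⟶ Spec (CommRingCat.of k)) [IsProper b]
    (hj : j ≫ b = a) (i : U₀ ⟶ X₀) [IsOpenImmersion i] [EtShriek.JCont i] [Nonempty ↥U₀]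
    (ν : ℕ) (hν : (ν : k) ≠ 0) (F : EtCoh.Ab X₀) (hF : EtCoh.KilledBy ν F) :
    Function.Bijective (Sheaf.H.map ((EtCoh.pull (FinFr.extπ K b)).map
      ((EtShriek.extZero j).map ((EtShriek.extZeroAdj i).counit.app F))) 2) := by
  let π := FinFr.extπ K b
  let c := (EtShriek.extZeroAdj i).counit.app F
  haveI : Mono c := GrothLib.EtSupp19.mono_counit_restr i F
  haveI := GrothLib.ExtZero.preservesMonomorphisms_extZero j
  haveI := GrothLib.EtDer.pullFL π
  haveI : Mono ((EtCoh.pull π).map ((EtShriek.extZero j).map c)) := inferInstance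
  haveI : IsProper (FinFr.extStr K b) := inferInstanceAs (IsProper (pullback.snd b _))
  haveI : IsLocallyNoetherian (FinFr.ext K b) := LocallyOfFiniteType.isLocallyNoetherian (FinFr.extStr K b)
  haveI : CompactSpace (FinFr.ext K b) := QuasiCompact.compactSpace_of_compactSpace (FinFr.extStr K b)
  haveI : AlgebraicGeometry.IsNoetherian (FinFr.ext K b) := {}
  haveI : IrreducibleSpace X₀ :=
    GeometricallyIrreducible.geometrically_irreducibleSpace (f := a) (𝟙 _) (𝟙 X₀) a IsPullback.of_id_fst
  haveI : Smooth a := SmoothOfRelativeDimension.smooth 1 a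
  haveI : IsReduced X₀ := GrothLib.RedSmooth.isReduced_of_smooth a
  haveI : IsIntegral X₀ := isIntegral_of_irreducibleSpace_of_isReduced X₀
  have hdim : topologicalKrullDim X₀ ≤ 1 :=
    (GrothLib.CotTangent.topologicalKrullDim_integral_of_smoothOfRelativeDimension a 1).le
  have hQ : GrothLib.CurveSupp9.IsPtSupp (cokernel ((EtCoh.pull π).map ((EtShriek.extZero j).map c))) := by
    refine isPtSupp_cokernel _ fun Ω _ _ ξ hξ => ?_
    refine (NatIso.isIso_map_iff (GrothLib.EtSite.pullStalkIso ξ π) _).2 ?_
    refine isIso_stalk_extZero_map j (ξ ≫ π) c fun v => ?_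
    refine GrothLib.ExtZero.isIso_stalk_counit i F v.1 ?_
    let x₀ := v.1.base (default : Spec (CommRingCat.of Ω))
    have hj0 : j.base x₀ = π.base (ξ.base default) := by
      show (v.1 ≫ j).base default = (ξ ≫ π).base default
      rw [v.2]
    have hx₀ : ¬ IsClosed ({x₀} : Set X₀) := fun hc => hξ <| by
      haveI : JacobsonSpace P₀ := LocallyOfFiniteType.jacobsonSpace b
      have h1 : IsClosed ({j.base x₀} : Set P₀) := j.closePoints_subset_preimage_closedPoints hc
      rw [hj0] at h1
      exact GrothLib.NodeEt.isClosed_singleton_bc b K _ h1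
    have hgen : x₀ ∈ genericPoints (X₀ : Type u) := by
      by_contra h
      exact hx₀ (GrothLib.Euler.isClosed_singleton_of_notMem_genericPoints hdim h)
    have heq : x₀ = genericPoint X₀ := by
      rw [genericPoints, Set.mem_setOf_eq] at hgen
      rw [irreducibleComponents_eq_singleton, Set.mem_singleton_iff] at hgen
      exact IsGenericPoint.eq (S := Set.univ) hgen (genericPoint_spec X₀)
    show x₀ ∈ Set.range i.base
    rw [heq]
    exact ((genericPoint_spec X₀).mem_open_set_iff i.isOpenEmbedding.isOpen_range).2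
      (by simpa using Set.range_nonempty i.base)
  have hb := GrothLib.CurveSupp9.bijective_of_mono
    (fun x hx => GrothLib.CurveSupp9.isSepClosed_residueField (FinFr.extStr K b) x hx)
    ((EtCoh.pull π).map ((EtShriek.extZero j).map c)) hQ 2 one_lt_two
  exact hb

end Groth.Agent.S16257
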