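import Groth.Statements.S16258
import Groth.Agent.Lib.EtShriek.BC3
import Groth.Agent.Lib.EtShriek.H0c
import Groth.Agent.Lib.LocConst.Connected
import Groth.Agent.Lib.EtColim.Cohomology


set_option autoImplicit false
set_option linter.all false
set_option backward.isDefEq.respectTransparency false
set_option maxHeartbeats 1000000
universe u
open CategoryTheory CategoryTheory.Limits AlgebraicGeometry Opposite
open FinFr

namespace Groth.Agent.S16258


open GrothLib.EtSite GrothLib.LocConst EtShriek

/-- The support of a section of a locally constant sheaf is open. -/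
theorem isOpen_sectSupp_top {X : Scheme.{u}} (F : EtCoh.Ab X) (hF : EtCoh.IsFiniteLocallyConstant F)
    (s : EtCoh.sect F (EtCoh.top X)) : IsOpen (sectSupp F (EtCoh.top X) s) := by
  rw [isOpen_iff_forall_mem_open]
  intro x hx
  obtain ⟨U, v, hv, M, hM, hfin, a, ha⟩ := (flc_iff_charts F).1 hF x
  let g : U ⟶ EtCoh.top X := (EtCore.topIsTerminal X).from U
  have hg : g.left = U.hom := (Category.comp_id _).symm.trans (MorphismProperty.Over.w g)
  have hv' : g.left.base v = x := by rw [hg]; exact hv
  let t' : EtCoh.sect F U := F.obj.map g.op s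
  have hmem : v ∈ sectSupp F U t' := by
    rw [GrothLib.EtShriek.sectSupp_map]; exact (congrArg (· ∈ sectSupp F (EtCoh.top X) s) hv').mpr hx
  obtain ⟨t, ht⟩ := exists_fib (gpt (U.hom.base v)) (U := U) v (gpt_default _).symm
  obtain ⟨m, hm⟩ := (ha _ _ t).2 (germ _ F t t')
  have hne : germ _ F t t' ≠ 0 := (GrothLib.EtBasicB.germ_ne_zero_iff _ F t t').2
    ((congrArg (fun z => z ∈ sectSupp F U t') ht).mpr hmem)
  have hm0 : m ≠ 0 := by
    rintro rfl
    exact hne (hm.symm.trans ((congrArg _ (map_zero a)).trans (map_zero _)))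
  have hd : v ∉ sectSupp F U (t' - a m) := fun h => by
    have := (GrothLib.EtBasicB.germ_ne_zero_iff _ F t (t' - a m)).2
      ((congrArg (fun z => z ∈ sectSupp F U (t' - a m)) ht).mpr h)
    exact this (by rw [map_sub, sub_eq_zero]; exact hm.symm)
  haveI : Etale U.hom := U.prop
  refine ⟨U.hom.base '' (sectSupp F U (t' - a m))ᶜ, ?_,
    U.hom.isOpenMap _ (GrothLib.EtBasicB.isClosed_sectSupp F U _).isOpen_compl, ⟨v, hd, hv⟩⟩
  rintro _ ⟨w, hw, rfl⟩
  obtain ⟨r, hr⟩ := exists_fib (gpt (U.hom.base w)) (U := U) w (gpt_default _).symm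
  have h0 : germ _ F r (t' - a m) = 0 := by
    by_contra h
    exact hw ((congrArg (fun z => z ∈ sectSupp F U (t' - a m)) hr).mp
      ((GrothLib.EtBasicB.germ_ne_zero_iff _ F r _).1 h))
  rw [map_sub, sub_eq_zero] at h0
  have h1 : germ _ F r t' ≠ 0 := by
    rw [h0]
    intro h
    exact hm0 ((ha _ _ r).1 (h.trans ((congrArg _ (map_zero a)).trans (map_zero _)).symm))
  have h2 := (congrArg (fun z => z ∈ sectSupp F U t') hr).mp
    ((GrothLib.EtBasicB.germ_ne_zero_iff _ F r _).1 h1)
  rw [GrothLib.EtShriek.sectSupp_map, Set.mem_preimage, hg] at h2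
  exact h2

/-- A section with empty support vanishes. -/
theorem eq_zero_of_sectSupp_empty {X : Scheme.{u}} (F : EtCoh.Ab X) (U : X.Etale) (s : EtCoh.sect F U)
    (h : sectSupp F U s = ∅) : s = 0 := by
  refine section_eq_zero_of_germs F U s ?_
  intro Ω _ _ ξ t
  by_contra h0
  exact (h ▸ (GrothLib.EtBasicB.germ_ne_zero_iff ξ F t s).1 h0 : _ ∈ (∅ : Set U.left))

theorem main {k K : Type u} [Field k] [Field K] [Algebra k K]
    {X₀ P₀ : Scheme.{u}}
    (j : X₀ ⟶ P₀) [IsOpenImmersion j] [EtShriek.JCont j] (b : P₀ ⟶ Spec (CommRingCat.of k)) [IsProper b]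
    [QuasiCompact (j ≫ b)] [GeometricallyIrreducible (j ≫ b)] (ha : ¬ IsProper (j ≫ b))
    (F : EtCoh.Ab X₀) (hF : EtCoh.IsFiniteLocallyConstant F) :
    Subsingleton (EtCoh.H (FinFr.ext K b) ((EtCoh.pull (FinFr.extπ K b)).obj ((EtShriek.extZero j).obj F)) 0) := by
  let π := FinFr.extπ K b
  let X' := pullback j π
  let g' : X' ⟶ X₀ := pullback.fst j π
  let j' : X' ⟶ FinFr.ext K b := pullback.snd j π
  let pb : FinFr.ext K b ⟶ Spec (CommRingCat.of K) := FinFr.extStr K b
  have sq : IsPullback g' j' j π := IsPullback.of_hasPullback _ _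
  haveI : IsOpenImmersion j' := inferInstanceAs (IsOpenImmersion (pullback.snd j π))
  haveI : IsProper pb := inferInstanceAs (IsProper (pullback.snd b _))
  haveI hirr : IrreducibleSpace X' :=
    GeometricallyIrreducible.geometrically_irreducibleSpace (f := j ≫ b) (FinFr.specι k K) g' (j' ≫ pb)
      (sq.paste_vert (IsPullback.of_hasPullback b (FinFr.specι k K)))
  haveI : EtShriek.JCont j' := inferInstance
  obtain ⟨e₁⟩ := GrothLib.EtShriek.nonempty_extZero_iso j
  obtain ⟨e₂⟩ := GrothLib.EtShriek.nonempty_extZero_iso j'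
  let F' := (EtCoh.pull g').obj F
  have hF' : EtCoh.IsFiniteLocallyConstant F' := isFiniteLocallyConstant_pull g' F hF
  let G := (EtCoh.pull π).obj ((EtShriek.extZero j).obj F)
  let e : G ≅ (EtShriek.extZero j').obj F' :=
    (EtCoh.pull π).mapIso (e₁.app F) ≪≫ GrothLib.EtShriek.lowerShriekBC j π j' g' sq F ≪≫ (e₂.app F').symm
  obtain ⟨eH⟩ := GrothLib.EtShriek.nonempty_H0c_equiv j' pb F'
  have hz : Subsingleton (H0c (j' ≫ pb) F') := by
    refine subsingleton_of_forall_eq 0 fun ⟨s, hs⟩ => Subtype.ext ?_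
    rw [GrothLib.EtShriek.mem_H0c_iff] at hs
    apply eq_zero_of_sectSupp_empty
    haveI : PreconnectedSpace (EtCoh.top X').left := inferInstanceAs (PreconnectedSpace X')
    rcases isClopen_iff.1 ⟨GrothLib.EtShriek.isClosed_sectSupp F' _ s, isOpen_sectSupp_top F' hF' s⟩ with h | h
    · exact h
    · exfalso
      apply ha
      obtain ⟨hZ, hp⟩ := hs
      let ρ := GrothLib.ProperOver.redι (sectSupp F' (EtCoh.top X') s) hZ
      haveI : IsProper ((ρ ≫ j') ≫ pb) := by rw [Category.assoc]; exact hp
      haveI : IsProper (ρ ≫ j') := IsProper.of_comp _ pb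
      have hsurj : Set.range ρ = Set.univ := by rw [GrothLib.ProperOver.range_redι]; exact h
      have hcl : IsClosed (Set.range j') := by
        have : Set.range (ρ ≫ j') = Set.range j' := by
          simp only [Scheme.Hom.comp_base, TopCat.coe_comp, Set.range_comp, hsurj, Set.image_univ]
          rfl
        exact this ▸ (ρ ≫ j').isClosedMap.isClosed_range
      haveI : Surjective (FinFr.specι k K) := ⟨fun y => ⟨IsLocalRing.closedPoint K, Subsingleton.elim _ _⟩⟩
      haveI : Flat (FinFr.specι k K) := inferInstance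
      have hπs : Surjective π := inferInstanceAs (Surjective (pullback.fst b _))
      have hq : Topology.IsQuotientMap π := Flat.isQuotientMap_of_surjective π
      have hcl0 : IsClosed (Set.range j) := by
        rw [← hq.isClosed_preimage, ← Scheme.Pullback.range_snd]
        exact hcl
      haveI : IsClosedImmersion j := IsClosedImmersion.of_isPreimmersion j hcl0
      infer_instance
  have hs : Subsingleton (EtCoh.sect ((EtShriek.extZero j').obj F') (EtCoh.top _)) :=
    eH.symm.toEquiv.subsingleton
  have hG : Subsingleton (EtCoh.sect G (EtCoh.top _)) :=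
    (AddCommGrpCat.Hom.hom (e.hom.hom.app (op (EtCoh.top _)))).toFun |> fun f =>
      ⟨fun x y => (ConcreteCategory.bijective_of_isIso (e.hom.hom.app (op (EtCoh.top _)))).1 (Subsingleton.elim _ _)⟩
  exact ((CategoryTheory.Abelian.Ext.addEquiv₀.toEquiv).trans
    (Equiv.ofBijective _ (GrothLib.EtColim.bijective_evOne G))).subsingleton


/-- Let k be a field, K an algebraic closure of k, X₀ a smooth, separated, geometrically irreducible
k-curve of finite type which is NOT proper over k, j : X₀ ⟶ P₀ an open immersion into a proper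
k-scheme, and F a finite locally constant abelian étale sheaf on X₀. Then the compactly supported
cohomology in degree 0, H^0_c(X₀ ⊗_k K, F) = H^0(P₀ ⊗_k K, j_! F), is zero. (The published statement
is for a smooth ℓ-adic sheaf with Q̄_ℓ-coefficients, together with H^0_c = H^0 for proper curves;
the statement here is the finite locally constant case of the non-proper half.) -/
theorem result
    (k K : Type u) [Field k] [Field K] [Algebra k K] [IsAlgClosed K] [Algebra.IsAlgebraic k K]
    {X₀ P₀ : Scheme.{u}} (a : X₀ ⟶ Spec (CommRingCat.of k))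
    [SmoothOfRelativeDimension 1 a] [IsSeparated a] [QuasiCompact a] [GeometricallyIrreducible a]
    (ha : ¬ IsProper a)
    (j : X₀ ⟶ P₀) [IsOpenImmersion j] [EtShriek.JCont j] (b : P₀ ⟶ Spec (CommRingCat.of k)) [IsProper b]
    (hj : j ≫ b = a) (F : EtCoh.Ab X₀) (hF : EtCoh.IsFiniteLocallyConstant F) :
    Subsingleton (EtCoh.H (FinFr.ext K b) ((EtCoh.pull (FinFr.extπ K b)).obj ((EtShriek.extZero j).obj F)) 0) := by
  subst hj
  exact main j b ha F hF


end Groth.Agent.S16258
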