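import Groth.Statements.S16259
import Mathlib

set_option autoImplicit false
open W4c3wronskmg

namespace Groth.Agent.S16259

open Polynomial in
/-- Over a field of characteristic zero, for positive integers `i, j` and a natural number `n`, the
polynomial `h(W) = ∑_{l=0}^{n} (i choose l) (j choose (n-l)) W^(n-l)`, the coefficient of
`X^(i+j-n)` in `(X+1)^i (X+W)^j`, has no multiple root other than possibly `0` and `1`: every `c ≠
0, 1` has root multiplicity at most one. -/
theorem result
    (k : Type*) [Field k] [CharZero k] (i j n : ℕ) (hi : 0 < i) (hj : 0 < j) (c : k) (hc0 : c ≠ 0) (hc1 : c ≠ 1) :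
    Polynomial.rootMultiplicity c
      (∑ l ∈ Finset.range (n + 1),
        Polynomial.C (((i.choose l) * (j.choose (n - l)) : ℕ) : k) * Polynomial.X ^ (n - l)) ≤ 1 := by
  set P := ∑ l ∈ Finset.range (n + 1),
        Polynomial.C (((i.choose l) * (j.choose (n - l)) : ℕ) : k) * Polynomial.X ^ (n - l) with hP
  by_contra hlt
  push Not at hlt
  have hch : ∀ a b : ℕ, ((a.choose (b + 1) : ℕ) : k) * ((b : k) + 1) = ((a.choose b : ℕ) : k) * ((a : k) - b) := by
    intro a b
    rcases le_or_gt b a with h | h
    · rw [← Nat.cast_sub h, ← Nat.cast_mul, ← Nat.cast_add_one, ← Nat.cast_mul, Nat.choose_succ_right_eq]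
    · simp [Nat.choose_eq_zero_of_lt h, Nat.choose_eq_zero_of_lt (show a < b + 1 by omega)]
  have hcoe : ∀ s, P.coeff s = if s ≤ n then ((i.choose (n - s) : ℕ) : k) * ((j.choose s : ℕ) : k) else 0 := by
    intro s
    rw [hP, Polynomial.finsetSum_coeff]
    simp only [Polynomial.coeff_C_mul, Polynomial.coeff_X_pow]
    split_ifs with hs
    · rw [Finset.sum_eq_single (n - s)]
      · rw [show n - (n - s) = s by omega, if_pos rfl, mul_one, Nat.cast_mul]
      · intro l hl hne
        have := Finset.mem_range.1 hl
        rw [if_neg (by omega), mul_zero]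
      · intro h; exact absurd (Finset.mem_range.2 (by omega)) h
    · refine Finset.sum_eq_zero fun l _ => ?_
      rw [if_neg (by omega), mul_zero]
  have hrec : ∀ s, P.coeff (s + 1) * ((s : k) + 1) * ((i : k) + 1 + s - n) =
      P.coeff s * ((j : k) - s) * ((n : k) - s) := by
    intro s
    rw [hcoe, hcoe]
    rcases lt_trichotomy s n with h | rfl | h
    · obtain ⟨r, rfl⟩ : ∃ r, n = s + r + 1 := ⟨n - s - 1, by omega⟩
      rw [if_pos (by omega), if_pos (by omega), show s + r + 1 - s = r + 1 by omega,
        show s + r + 1 - (s + 1) = r by omega]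
      have h1 := hch j s
      have h2 := hch i r
      push_cast
      linear_combination ((i.choose r : ℕ) : k) * ((i : k) - r) * h1 - ((j.choose s : ℕ) : k) * ((j : k) - s) * h2
    · simp
    · simp [show ¬ s + 1 ≤ n by omega, show ¬ s ≤ n by omega]
  set D := Polynomial.derivative P
  set D2 := Polynomial.derivative D
  have hode : Polynomial.X * D2 - Polynomial.X * (Polynomial.X * D2) =
      Polynomial.C ((j : k) * n) * P - Polynomial.C ((i : k) + 1 - n) * D + Polynomial.C (1 - (j : k) - n) * (Polynomial.X * D) := by
    ext s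
    rcases s with _ | s
    · simp only [Polynomial.coeff_sub, Polynomial.coeff_add, Polynomial.coeff_X_mul_zero, Polynomial.coeff_C_mul,
        D, Polynomial.coeff_derivative, mul_zero]
      have := hrec 0
      push_cast at this ⊢
      linear_combination this
    rcases s with _ | s
    · simp only [Polynomial.coeff_sub, Polynomial.coeff_add, Polynomial.coeff_X_mul, Polynomial.coeff_X_mul_zero,
        Polynomial.coeff_C_mul, D, D2, Polynomial.coeff_derivative, sub_zero]
      have := hrec 1
      push_cast at this ⊢
      linear_combination this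
    · simp only [Polynomial.coeff_sub, Polynomial.coeff_add, Polynomial.coeff_X_mul, Polynomial.coeff_C_mul,
        D, D2, Polynomial.coeff_derivative]
      have := hrec (s + 2)
      push_cast at this ⊢
      linear_combination this
  have hP0 : P ≠ 0 := fun h => by
    rw [h, Polynomial.rootMultiplicity_zero] at hlt
    omega
  set μ := P.rootMultiplicity c
  have hroot : P.IsRoot c := (Polynomial.rootMultiplicity_pos hP0).1 (by omega)
  have hd1 : D.rootMultiplicity c = μ - 1 := Polynomial.derivative_rootMultiplicity_of_root hroot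
  have hD0 : D ≠ 0 := fun h => by
    rw [h, Polynomial.rootMultiplicity_zero] at hd1
    omega
  have hroot1 : D.IsRoot c := (Polynomial.rootMultiplicity_pos hD0).1 (by omega)
  have hd2 : D2.rootMultiplicity c = μ - 2 := by
    rw [Polynomial.derivative_rootMultiplicity_of_root hroot1, hd1]; omega
  have hD20 : D2 ≠ 0 := fun h => by
    obtain ⟨a, ha⟩ := (Polynomial.natDegree_eq_zero.1 (Polynomial.natDegree_eq_zero_of_derivative_eq_zero h))
    rw [← ha, Polynomial.rootMultiplicity_C] at hd1
    omega
  set L := (Polynomial.X - Polynomial.C c) ^ (μ - 1)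
  have h1 : L ∣ P := dvd_trans (pow_dvd_pow _ (Nat.sub_le _ _)) (Polynomial.pow_rootMultiplicity_dvd P c)
  have h2 : L ∣ D := by have h := Polynomial.pow_rootMultiplicity_dvd D c; rwa [hd1] at h
  have h3 : L ∣ (Polynomial.X - Polynomial.X * Polynomial.X) * D2 := by
    rw [sub_mul, mul_assoc, hode]
    exact dvd_add (dvd_sub (h1.mul_left _) (h2.mul_left _)) ((h2.mul_left _).mul_left _)
  have hcop : IsCoprime L (Polynomial.X - Polynomial.X * Polynomial.X) := by
    refine IsCoprime.pow_left ?_
    rw [(Polynomial.irreducible_X_sub_C c).coprime_iff_not_dvd, Polynomial.dvd_iff_isRoot, Polynomial.IsRoot]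
    simp only [Polynomial.eval_sub, Polynomial.eval_mul, Polynomial.eval_X]
    intro h
    rcases mul_eq_zero.1 (show c * (1 - c) = 0 by linear_combination h) with h | h
    · exact hc0 h
    · exact hc1 (sub_eq_zero.1 h).symm
  have h4 := (Polynomial.le_rootMultiplicity_iff hD20).2 (hcop.dvd_of_dvd_mul_left h3)
  omega

end Groth.Agent.S16259
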