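import Groth.Statements.S16260
import Groth.Agent.Lib.Wronsk.Pointed

set_option autoImplicit false
open W4c3wronskmg

namespace Groth.Agent.S16260

open Polynomial in
/-- Let `k` be a field of characteristic zero, `a, b, i` positive integers with `i ≤ a + b`, and `j = a
+ b + 2 - i`. On the projective line with three marked points `A = 0`, `B = 1`, `C = ∞`, the
`(a+b+1)`-dimensional linear system `V = H⁰(ω((1+a)A)) ⊕ H⁰(ω((1+b)B)) ⊕ H⁰(ω(2C)) ⊆ H⁰(ω((1+a)A +
(1+b)B + 2C)) ≅ H⁰(O(a+b+2))` becomes, in the affine coordinate, the span of the multiples of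
`X^(a+1)` of degree at most `a+b`, the multiples of `(X-1)^(b+1)` of degree at most `a+b`, and
`X^(a+1) (X-1)^(b+1)`; and `V(-iP-jQ)` is the subspace of members divisible by `(X-p)^i (X-q)^j`.
Then there are no points `P = p`, `Q = q` other than `A, B, C` (that is, `p, q ∉ {0, 1}`; `p = q`
allowed) with both `dim V(-iP-jQ) ≥ 1` and `dim V(-(i-1)P-(j-1)Q) ≥ 2`. (The published statement is
over the complex numbers.) -/
theorem result
    (k : Type*) [Field k] [CharZero k] (a b i j : ℕ) (ha : 0 < a) (hb : 0 < b) (hi : 0 < i) (hiab : i ≤ a + b)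
    (hj : i + j = a + b + 2)
    (V : Submodule k (Polynomial k))
    (hV : V = ((Ideal.span {(X : Polynomial k) ^ (a + 1)}).restrictScalars k ⊓ Polynomial.degreeLE k ↑(a + b)) ⊔
      ((Ideal.span {((X : Polynomial k) - 1) ^ (b + 1)}).restrictScalars k ⊓ Polynomial.degreeLE k ↑(a + b)) ⊔
      Submodule.span k {(X : Polynomial k) ^ (a + 1) * (X - 1) ^ (b + 1)})
    (p q : k) (hp0 : p ≠ 0) (hp1 : p ≠ 1) (hq0 : q ≠ 0) (hq1 : q ≠ 1) :
    ¬ (1 ≤ Module.finrank k ↥(V ⊓ (Ideal.span {(X - C p) ^ i * (X - C q) ^ j}).restrictScalars k) ∧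
       2 ≤ Module.finrank k ↥(V ⊓ (Ideal.span {(X - C p) ^ (i - 1) * (X - C q) ^ (j - 1)}).restrictScalars k)) := by
  rintro ⟨h1, h2⟩
  rw [hV, Wronsk.three_pointed_eq] at h1 h2
  exact Wronsk.no_pair a b i j hi (by omega) hj p q hp0 hp1 hq0 hq1 h1 h2

end Groth.Agent.S16260
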