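import Groth.Statements.S16261
import Groth.Agent.Lib.Wronsk.Pointed

set_option autoImplicit false
open W4c3wronskmg

namespace Groth.Agent.S16261

open Polynomial in
/-- With `k` of characteristic zero, `a, b, i` positive, `i ≤ a + b`, `j = a + b + 2 - i` and `V ⊆ k[X]`
the linear system of the first assertion (marked points `A = 0`, `B = 1`, `C = ∞`; `V` spanned by
the multiples of `X^(a+1)` of degree at most `a+b`, the multiples of `(X-1)^(b+1)` of degree at most
`a+b`, and `X^(a+1) (X-1)^(b+1)`): if the point `P` is put at `A` and `Q = q` is any point other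
than `C`, and both `dim V(-iA-jQ) ≥ 1` and `dim V(-(i-1)A-(j-1)Q) ≥ 2` hold, then `i ≥ a + 1`. (The
published statement is over the complex numbers.) -/
theorem result
    (k : Type*) [Field k] [CharZero k] (a b i j : ℕ) (ha : 0 < a) (hb : 0 < b) (hi : 0 < i) (hiab : i ≤ a + b)
    (hj : i + j = a + b + 2)
    (V : Submodule k (Polynomial k))
    (hV : V = ((Ideal.span {(X : Polynomial k) ^ (a + 1)}).restrictScalars k ⊓ Polynomial.degreeLE k ↑(a + b)) ⊔
      ((Ideal.span {((X : Polynomial k) - 1) ^ (b + 1)}).restrictScalars k ⊓ Polynomial.degreeLE k ↑(a + b)) ⊔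
      Submodule.span k {(X : Polynomial k) ^ (a + 1) * (X - 1) ^ (b + 1)})
    (q : k)
    (h1 : 1 ≤ Module.finrank k ↥(V ⊓ (Ideal.span {(X : Polynomial k) ^ i * (X - C q) ^ j}).restrictScalars k))
    (h2 : 2 ≤ Module.finrank k ↥(V ⊓ (Ideal.span {(X : Polynomial k) ^ (i - 1) * (X - C q) ^ (j - 1)}).restrictScalars k)) :
    a + 1 ≤ i := by
  rw [hV, Wronsk.three_pointed_eq] at h1 h2
  exact Wronsk.le_of_pair a b i j hi hj q h1 h2

end Groth.Agent.S16261
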