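import Groth.Statements.S16265
import Groth.Agent.Lib.FunFld.Linear

set_option autoImplicit false
open FunFld

namespace Groth.Agent.S16265

/-- Let `K/k` be a function field of one variable over an algebraically closed field `k` of
characteristic zero (the function field of a smooth projective curve), `D` a divisor and `V ⊆ L(D)`
a linear system of dimension `r + 1`; write `V(-mP-nQ) = V ∩ L(D - mP - nQ)` for the members
vanishing to the indicated orders. Assume `V` has no special ramification point, i.e. no place of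
weight at least two: for every place `R`, `dim V(-rR) ≤ 1` and `V(-(r+2)R) = 0`. Let `P ≠ Q` be
places and `a, b ≥ 1` with `a + b = r + 1` (so that `V(-aP)` and `V(-bQ)` have dimensions `b` and
`a`). Then the following are equivalent: (1) the system `V(-aP)` has weight at least two at `Q`,
that is `dim V(-aP-(b-1)Q) ≥ 2` or `dim V(-aP-(b+1)Q) ≥ 1`, and the system `V(-bQ)` has weight at
least two at `P`, that is `dim V(-(a-1)P-bQ) ≥ 2` or `dim V(-(a+1)P-bQ) ≥ 1`; (2) one of (a) `dim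
V(-(a+1)P-(b+1)Q) ≥ 1`, (b) `dim V(-(a-1)P-(b-1)Q) ≥ 3`, (c) `dim V(-aP-(b+1)Q) ≥ 1` and `dim
V(-(a-1)P-bQ) ≥ 2`, (d) `dim V(-(a+1)P-bQ) ≥ 1` and `dim V(-aP-(b-1)Q) ≥ 2`. (The published
statement is for a smooth curve over the complex numbers.) -/
theorem result
    (k K : Type*) [Field k] [IsAlgClosed k] [CharZero k] [Field K] [Algebra k K]
    (hK : FunFld.IsFunctionField k K) (D : FunFld.Divisor k K)
    (V : Submodule k K) (hVD : V ≤ FunFld.L D) (r : ℕ) (hr : Module.finrank k ↥V = r + 1)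
    (hns : ∀ R : FunFld.Place k K,
      Module.finrank k ↥(V ⊓ FunFld.L (D - Finsupp.single R (r : ℤ))) ≤ 1 ∧
        V ⊓ FunFld.L (D - Finsupp.single R ((r : ℤ) + 2)) = ⊥)
    (P Q : FunFld.Place k K) (hPQ : P ≠ Q) (a b : ℕ) (ha : 1 ≤ a) (hb : 1 ≤ b) (hab : a + b = r + 1) :
    ((2 ≤ Module.finrank k ↥(V ⊓ FunFld.L (D - Finsupp.single P (a : ℤ) - Finsupp.single Q ((b : ℤ) - 1 : ℤ))) ∨
        1 ≤ Module.finrank k ↥(V ⊓ FunFld.L (D - Finsupp.single P (a : ℤ) - Finsupp.single Q ((b : ℤ) + 1 : ℤ)))) ∧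
      (2 ≤ Module.finrank k ↥(V ⊓ FunFld.L (D - Finsupp.single P ((a : ℤ) - 1 : ℤ) - Finsupp.single Q (b : ℤ))) ∨
        1 ≤ Module.finrank k ↥(V ⊓ FunFld.L (D - Finsupp.single P ((a : ℤ) + 1 : ℤ) - Finsupp.single Q (b : ℤ))))) ↔
    (1 ≤ Module.finrank k ↥(V ⊓ FunFld.L (D - Finsupp.single P ((a : ℤ) + 1 : ℤ) - Finsupp.single Q ((b : ℤ) + 1 : ℤ))) ∨
      3 ≤ Module.finrank k ↥(V ⊓ FunFld.L (D - Finsupp.single P ((a : ℤ) - 1 : ℤ) - Finsupp.single Q ((b : ℤ) - 1 : ℤ))) ∨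
      (1 ≤ Module.finrank k ↥(V ⊓ FunFld.L (D - Finsupp.single P (a : ℤ) - Finsupp.single Q ((b : ℤ) + 1 : ℤ))) ∧
        2 ≤ Module.finrank k ↥(V ⊓ FunFld.L (D - Finsupp.single P ((a : ℤ) - 1 : ℤ) - Finsupp.single Q (b : ℤ)))) ∨
      (1 ≤ Module.finrank k ↥(V ⊓ FunFld.L (D - Finsupp.single P ((a : ℤ) + 1 : ℤ) - Finsupp.single Q (b : ℤ))) ∧
        2 ≤ Module.finrank k ↥(V ⊓ FunFld.L (D - Finsupp.single P (a : ℤ) - Finsupp.single Q ((b : ℤ) - 1 : ℤ))))) := by
  classical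
  have hfg : GrothLib.FunFld.IsFG k K := hK.1
  let W : ℤ → ℤ → Submodule k K := fun m n =>
    V ⊓ FunFld.L (D - Finsupp.single P m - Finsupp.single Q n)
  let f : ℤ → ℤ → ℕ := fun m n => Module.finrank k ↥(W m n)
  have hfin : ∀ m n, Module.Finite k ↥(W m n) := fun m n =>
    GrothLib.FunFld.finite_inf_L hfg V _
  have hmono : ∀ m n m' n', m ≤ m' → n ≤ n' → W m' n' ≤ W m n := fun m n m' n' hm hn =>
    inf_le_inf_left V (GrothLib.FunFld.L_mono (sub_le_sub (sub_le_sub_left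
      (Finsupp.single_le_single.2 hm) D) (Finsupp.single_le_single.2 hn)))
  have hstep1 : ∀ m n, f m n ≤ f (m + 1) n + 1 := by
    intro m n
    have := GrothLib.FunFld.vdim_le_succ hfg V (D - Finsupp.single Q n) (hfg.deg_eq_one P) m
    simp only [GrothLib.FunFld.vdim] at this
    have hswap : ∀ m', f m' n = Module.finrank k
        ↥(V ⊓ FunFld.L (D - Finsupp.single Q n - Finsupp.single P m')) := fun m' =>
      congrArg (fun E => Module.finrank k ↥(V ⊓ FunFld.L E)) (sub_right_comm D _ _)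
    rw [hswap, hswap]
    exact this
  have hinf : ∀ m n, W (m + 1) n ⊓ W m (n + 1) ≤ W (m + 1) (n + 1) := by
    intro m n x hx
    refine ⟨hx.1.1, fun R => ?_⟩
    have h1 := hx.1.2 R
    have h2 := hx.2.2 R
    by_cases hR : P = R
    · subst hR; simpa [Ne.symm hPQ, hPQ] using h1
    · simpa [hR] using h2
  have hsub : ∀ m n, f (m + 1) n + f m (n + 1) ≤ f m n + f (m + 1) (n + 1) := by
    intro m n
    have := hfin (m + 1) n
    have := hfin m (n + 1)
    have := hfin m n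
    have := hfin (m + 1) (n + 1)
    have h1 := Submodule.finrank_sup_add_finrank_inf_eq (W (m + 1) n) (W m (n + 1))
    have h2 := Submodule.finrank_mono (sup_le (hmono m n (m + 1) n (by omega) le_rfl)
      (hmono m n m (n + 1) le_rfl (by omega)))
    have h3 := Submodule.finrank_mono (hinf m n)
    simp only [f]; omega
  have hle : ∀ m n m' n', m ≤ m' → n ≤ n' → f m' n' ≤ f m n := fun m n m' n' hm hn => by
    have := hfin m n
    exact Submodule.finrank_mono (hmono m n m' n' hm hn)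
  have e1 := hsub ((a : ℤ) - 1) ((b : ℤ) - 1)
  have e2 := hsub (a : ℤ) (b : ℤ)
  have e3 := hstep1 (a : ℤ) (b : ℤ)
  simp only [sub_add_cancel] at e1
  have m1 := hle (a : ℤ) ((b : ℤ) - 1) a b le_rfl (by omega)
  have m2 := hle ((a : ℤ) - 1) (b : ℤ) a b (by omega) le_rfl
  have m3 := hle (a : ℤ) ((b : ℤ) + 1) ((a : ℤ) + 1) ((b : ℤ) + 1) (by omega) le_rfl
  have m4 := hle ((a : ℤ) + 1) (b : ℤ) ((a : ℤ) + 1) ((b : ℤ) + 1) le_rfl (by omega)
  have m5 := hle ((a : ℤ) - 1) ((b : ℤ) - 1) (a : ℤ) ((b : ℤ) - 1) (by omega) le_rfl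
  have m6 := hle ((a : ℤ) - 1) ((b : ℤ) - 1) ((a : ℤ) - 1) (b : ℤ) le_rfl (by omega)
  have s1 := hstep1 ((a : ℤ) - 1) ((b : ℤ) - 1)
  have s2 := hstep1 ((a : ℤ) - 1) (b : ℤ)
  simp only [sub_add_cancel] at s1 s2
  have s3 : f ((a : ℤ) - 1) ((b : ℤ) - 1) ≤ f ((a : ℤ) - 1) (b : ℤ) + 1 := by
    have := GrothLib.FunFld.vdim_le_succ hfg V (D - Finsupp.single P ((a : ℤ) - 1))
      (hfg.deg_eq_one Q) ((b : ℤ) - 1)
    rw [sub_add_cancel] at this
    exact this
  simp only [f, W] at *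
  omega

end Groth.Agent.S16265
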