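import Groth.Statements.S16266
import Groth.Agent.Lib.FunFld.Linear

set_option autoImplicit false
open FunFld

namespace Groth.Agent.S16266

/-- Let `K/k` be a function field of one variable over an algebraically closed field `k` of
characteristic zero, `D` a divisor, `V ⊆ L(D)` a linear system of dimension `r + 1` with `r ≥ 1`,
and `P` a place with `V' = V(-P) = V ∩ L(D - P) ≠ V`, an `r`-dimensional system in `L(D - P)`.
Assume that neither `V` nor `V'` has a special ramification point (a place of weight at least two):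
for every place `R`, `dim V ∩ L(D - rR) ≤ 1`, `V ∩ L(D - (r+2)R) = 0`, `dim V' ∩ L(D - P - (r-1)R) ≤
1` and `V' ∩ L(D - P - (r+1)R) = 0`. Then no place `Q ≠ P` is a ramification point of both `V` and
`V'`: for no such `Q` are both `V ∩ L(D - (r+1)Q)` and `V' ∩ L(D - P - rQ)` nonzero. (The published
statement is for a smooth curve over the complex numbers.) -/
theorem result
    (k K : Type*) [Field k] [IsAlgClosed k] [CharZero k] [Field K] [Algebra k K]
    (hK : FunFld.IsFunctionField k K) (D : FunFld.Divisor k K)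
    (V : Submodule k K) (hVD : V ≤ FunFld.L D) (r : ℕ) (hr : Module.finrank k ↥V = r + 1) (hr1 : 1 ≤ r)
    (P : FunFld.Place k K) (hP : V ⊓ FunFld.L (D - Finsupp.single P 1) ≠ V)
    (hns : ∀ R : FunFld.Place k K,
      Module.finrank k ↥(V ⊓ FunFld.L (D - Finsupp.single R (r : ℤ))) ≤ 1 ∧
        V ⊓ FunFld.L (D - Finsupp.single R ((r : ℤ) + 2)) = ⊥)
    (hns' : ∀ R : FunFld.Place k K,
      Module.finrank k ↥(V ⊓ FunFld.L (D - Finsupp.single P 1 - Finsupp.single R ((r : ℤ) - 1))) ≤ 1 ∧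
        V ⊓ FunFld.L (D - Finsupp.single P 1 - Finsupp.single R ((r : ℤ) + 1)) = ⊥)
    (Q : FunFld.Place k K) (hQP : Q ≠ P) :
    ¬ (V ⊓ FunFld.L (D - Finsupp.single Q ((r : ℤ) + 1)) ≠ ⊥ ∧
       V ⊓ FunFld.L (D - Finsupp.single P 1 - Finsupp.single Q (r : ℤ)) ≠ ⊥) := by
  classical
  have hfg : GrothLib.FunFld.IsFG k K := hK.1
  rintro ⟨h1, h2⟩
  obtain ⟨u, hu, hu0⟩ := Submodule.exists_mem_ne_zero_of_ne_bot h1
  obtain ⟨w, hw, hw0⟩ := Submodule.exists_mem_ne_zero_of_ne_bot h2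
  have hu' : u ∈ V ⊓ FunFld.L (D - Finsupp.single Q (r : ℤ)) :=
    ⟨hu.1, GrothLib.FunFld.L_mono (sub_le_sub_left (Finsupp.single_le_single.2 (by omega)) D) hu.2⟩
  have hw' : w ∈ V ⊓ FunFld.L (D - Finsupp.single Q (r : ℤ)) :=
    ⟨hw.1, GrothLib.FunFld.L_mono (sub_le_sub_right
      (sub_le_self D (Finsupp.single_nonneg.2 zero_le_one)) _) hw.2⟩
  have := GrothLib.FunFld.finite_inf_L hfg V (D - Finsupp.single Q (r : ℤ))
  have hr1' : Module.finrank k ↥(V ⊓ FunFld.L (D - Finsupp.single Q (r : ℤ))) = 1 := by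
    refine le_antisymm (hns Q).1 ?_
    rw [Nat.one_le_iff_ne_zero, Ne, Submodule.finrank_eq_zero]
    exact fun h0 => hu0 ((Submodule.mem_bot k).1 (h0 ▸ hu'))
  obtain ⟨c, hc⟩ := (finrank_eq_one_iff_of_nonzero' (⟨u, hu'⟩ : ↥(V ⊓ FunFld.L
    (D - Finsupp.single Q (r : ℤ)))) (fun h => hu0 (congrArg Subtype.val h))).1 hr1' ⟨w, hw'⟩
  have hcw : c • u = w := congrArg Subtype.val hc
  have hwQ : w ∈ FunFld.L (D - Finsupp.single Q ((r : ℤ) + 1)) := hcw ▸ Submodule.smul_mem _ c hu.2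
  have hmem : w ∈ V ⊓ FunFld.L (D - Finsupp.single P 1 - Finsupp.single Q ((r : ℤ) + 1)) := by
    refine ⟨hw.1, fun R => ?_⟩
    by_cases hR : Q = R
    · subst hR; simpa [Ne.symm hQP, hQP] using hwQ Q
    · simpa [hR] using hw.2 R
  rw [(hns' Q).2] at hmem
  exact hw0 ((Submodule.mem_bot k).1 hmem)

end Groth.Agent.S16266
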