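import Groth.Statements.S16268

-- import your own Groth.Agent.* helpers here

set_option autoImplicit false
universe u w
open CategoryTheory CategoryTheory.Limits AlgebraicGeometry Opposite
open EtCore

namespace Groth.Agent.S16268

/-- Let X be a scheme, Y an etale X-scheme with Y -> X surjective, and G a finite group acting on Y by
X-automorphisms such that the morphisms (id, g) : Y -> Y x_X Y exhibit Y x_X Y as the coproduct of
copies of Y indexed by G (Y -> X is a Galois covering with group G). Let P be a presheaf of sets on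
the small etale site of X which takes this coproduct to a product: s |-> (g |-> (id, g)^* s) is a
bijection from P(Y x_X Y) onto the G-indexed families in P(Y). Then P satisfies the sheaf condition
for the covering consisting of the single morphism Y -> X if and only if the restriction P(X) ->
P(Y) is injective and its image is the set of G-invariant elements of P(Y). -/
theorem result (X : Scheme.{u})
    (Y : X.Etale) (hY : Function.Surjective Y.hom.base)
    {G : Type u} [Group G] [Finite G] (σ : G →* Aut Y)
    (hgal : Nonempty (IsColimit (Cofan.mk (Y ⨯ Y) (fun g : G => prod.lift (𝟙 Y) (σ g).hom))))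
    (P : X.Etaleᵒᵖ ⥤ Type w)
    (hP : Function.Bijective (fun s : P.obj (op (Y ⨯ Y)) => fun g : G => P.map (prod.lift (𝟙 Y) (σ g).hom).op s)) :
    Presieve.IsSheafFor P (Presieve.singleton ((EtCore.topIsTerminal X).from Y)) ↔
      (Function.Injective (P.map ((EtCore.topIsTerminal X).from Y).op) ∧
        Set.range (P.map ((EtCore.topIsTerminal X).from Y).op) = {s | ∀ g : G, P.map (σ g).hom.op s = s}) := by
  let t := (EtCore.topIsTerminal X).from Y
  rw [Presieve.isSheafFor_singleton]
  have key : ∀ x : P.obj (op Y),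
      (∀ {Z : X.Etale} (p₁ p₂ : Z ⟶ Y), p₁ ≫ t = p₂ ≫ t → P.map p₁.op x = P.map p₂.op x) ↔
        ∀ g : G, P.map (σ g).hom.op x = x := by
    intro x
    refine ⟨fun h g => (h (σ g).hom (𝟙 Y) ((EtCore.topIsTerminal X).hom_ext _ _)).trans (by simp), fun h Z p₁ p₂ _ => ?_⟩
    have e : P.map (prod.fst : Y ⨯ Y ⟶ Y).op x = P.map (prod.snd : Y ⨯ Y ⟶ Y).op x := by
      apply hP.1
      funext g
      change P.map _ (P.map _ x) = P.map _ (P.map _ x)
      rw [← Functor.map_comp_apply, ← Functor.map_comp_apply, ← op_comp, ← op_comp, prod.lift_fst,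
        prod.lift_snd, h g]
      simp
    have h1 : P.map p₁.op x = P.map (prod.lift p₁ p₂).op (P.map (prod.fst : Y ⨯ Y ⟶ Y).op x) := by
      rw [← Functor.map_comp_apply, ← op_comp, prod.lift_fst]
    have h2 : P.map p₂.op x = P.map (prod.lift p₁ p₂).op (P.map (prod.snd : Y ⨯ Y ⟶ Y).op x) := by
      rw [← Functor.map_comp_apply, ← op_comp, prod.lift_snd]
    rw [h1, h2, e]
  have hr : ∀ y, ∀ g : G, P.map (σ g).hom.op (P.map t.op y) = P.map t.op y := fun y g => by
    rw [← Functor.map_comp_apply, ← op_comp, (EtCore.topIsTerminal X).hom_ext ((σ g).hom ≫ t) t]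
  constructor
  · intro h
    refine ⟨fun a b hab => (h _ ((key _).2 (hr b))).unique hab rfl, Set.ext fun x => ⟨?_, fun hx => ?_⟩⟩
    · rintro ⟨y, rfl⟩
      exact hr y
    · obtain ⟨y, hy, -⟩ := h x ((key x).2 hx)
      exact ⟨y, hy⟩
  · intro h x hx
    obtain ⟨y, hy⟩ := h.2.ge ((key x).1 hx)
    exact ⟨y, hy, fun z hz => h.1 (hz.trans hy.symm)⟩

end Groth.Agent.S16268
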