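import Groth.Statements.S16269
import Groth.Agent.Lib.EtSite.Points
-- import your own Groth.Agent.* helpers here

set_option autoImplicit false
universe u w
open CategoryTheory CategoryTheory.Limits AlgebraicGeometry Opposite
open EtCore

namespace Groth.Agent.S16269

/-- The preimage lemma. -/
lemma exists_sigma_preimage {ι : Type u} (A : ι → Scheme.{u}) (z : ↥(∐ A)) :
    ∃ i, ∃ y, (Sigma.ι A i).base y = z :=
  ⟨_, (Scheme.Cover.exists_eq (sigmaOpenCover A) z).choose_spec⟩

set_option backward.isDefEq.respectTransparency.types false in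
theorem jointly_surjective_of_isColimit {X : Scheme.{u}} (Y : X.Etale) {G : Type u} [Group G] [Finite G]
    (σ : G →* Aut Y)
    (hc : IsColimit (Cofan.mk (Y ⨯ Y) (fun g : G => prod.lift (𝟙 Y) (σ g).hom))) :
    Sieve.generate (Presieve.ofArrows (fun _ : G => Y) fun g => prod.lift (𝟙 Y) (σ g).hom) ∈
      X.smallEtaleTopology (Y ⨯ Y) := by
  rw [GrothLib.EtSite.mem_topology_iff]
  intro z
  let q : ∐ (fun _ : G => Y.left) ⟶ X := Sigma.desc fun _ => Y.hom
  haveI : Etale Y.hom := Y.prop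
  haveI : Etale q := IsZariskiLocalAtSource.sigmaDesc (P := @Etale) fun _ => inferInstanceAs (Etale Y.hom)
  let D : X.Etale := Scheme.Etale.mk q
  let i : ∀ _ : G, Y ⟶ D := fun g => MorphismProperty.Over.homMk (Sigma.ι (fun _ : G => Y.left) g)
    (Sigma.ι_desc _ _)
  let d : Y ⨯ Y ⟶ D := hc.desc (Cofan.mk D i)
  let b : D.left ⟶ (Y ⨯ Y).left := Sigma.desc fun g => (prod.lift (𝟙 Y) (σ g).hom).left
  have hb : b ≫ (Y ⨯ Y).hom = D.hom := Sigma.hom_ext _ _ fun g => by
    change Sigma.ι _ g ≫ b ≫ _ = Sigma.ι _ g ≫ q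
    rw [← Category.assoc, Sigma.ι_desc, Sigma.ι_desc]
    exact MorphismProperty.Over.w _
  let bD : D ⟶ Y ⨯ Y := MorphismProperty.Over.homMk b hb
  have hid : d ≫ bD = 𝟙 _ := Cofan.IsColimit.hom_ext hc _ _ fun g => by
    refine (Category.assoc _ _ _).symm.trans ((congrArg (· ≫ bD) (hc.fac (Cofan.mk D i) ⟨g⟩)).trans
      (Eq.trans ?_ (Category.comp_id _).symm))
    apply MorphismProperty.Over.Hom.ext
    exact Sigma.ι_desc (fun g : G => ((prod.lift (𝟙 Y) (σ g).hom).left : Y.left ⟶ (Y ⨯ Y).left)) g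
  have hz : b.base (d.left.base z) = z :=
    congrArg (fun m : Y ⨯ Y ⟶ Y ⨯ Y => m.left.base z) hid
  obtain ⟨g, y, hy⟩ := exists_sigma_preimage (fun _ : G => Y.left) (d.left.base z)
  refine ⟨Y, prod.lift (𝟙 Y) (σ g).hom, y, ⟨Y, 𝟙 Y, _, ⟨g⟩, Category.id_comp _⟩, ?_⟩
  rw [← hz, ← hy]
  exact congrArg (fun m : Y.left ⟶ (Y ⨯ Y).left => m.base y)
    (Sigma.ι_desc (fun g => (prod.lift (𝟙 Y) (σ g).hom).left) g).symm

/-- Let X be a scheme, Y an etale X-scheme with Y -> X surjective, and G a finite group acting on Y by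
X-automorphisms such that the morphisms (id, g) : Y -> Y x_X Y exhibit Y x_X Y as the coproduct of
copies of Y indexed by G (a Galois covering with group G). For an abelian sheaf F on the small etale
site of X, the restriction map F(X) -> F(Y) is injective and its image is the set of sections of F
over Y fixed by every element of G. -/
theorem result (X : Scheme.{u})
    (Y : X.Etale) (hY : Function.Surjective Y.hom.base)
    {G : Type u} [Group G] [Finite G] (σ : G →* Aut Y)
    (hgal : Nonempty (IsColimit (Cofan.mk (Y ⨯ Y) (fun g : G => prod.lift (𝟙 Y) (σ g).hom))))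
    (F : EtCoh.Ab X) :
    Function.Injective (F.obj.map ((EtCore.topIsTerminal X).from Y).op) ∧
      Set.range (F.obj.map ((EtCore.topIsTerminal X).from Y).op) =
        {s : EtCoh.sect F Y | ∀ g : G, F.obj.map (σ g).hom.op s = s} := by
  let t := (EtCore.topIsTerminal X).from Y
  have hsh : ∀ (U : X.Etale) (R : Sieve U), R ∈ X.smallEtaleTopology U →
      Presieve.IsSheafFor (F.obj ⋙ CategoryTheory.forget AddCommGrpCat.{u + 1}) R.arrows := fun U R hR =>
    (((isSheaf_iff_isSheaf_of_type _ _).1 ((sheafCompose X.smallEtaleTopology (CategoryTheory.forget AddCommGrpCat.{u + 1})).obj F).property) R hR)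
  have hcov : Sieve.generate (Presieve.singleton t) ∈ X.smallEtaleTopology (EtCoh.top X) := by
    rw [GrothLib.EtSite.mem_topology_iff]
    intro x
    obtain ⟨y, hy⟩ := hY x
    refine ⟨Y, t, y, ⟨Y, 𝟙 Y, t, Presieve.singleton.mk, Category.id_comp t⟩, ?_⟩
    have hw : (t.left : Y.left ⟶ X) = Y.hom := (Category.comp_id _).symm.trans (MorphismProperty.Over.w t)
    exact (congrArg (fun m : Y.left ⟶ X => m.base y) hw).trans hy
  have h1 : Presieve.IsSheafFor (F.obj ⋙ CategoryTheory.forget AddCommGrpCat.{u + 1}) (Presieve.singleton t) :=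
    (Presieve.isSheafFor_iff_generate _).2 (hsh _ _ hcov)
  rw [Presieve.isSheafFor_singleton] at h1
  have hprod : Sieve.generate (Presieve.ofArrows (fun _ : G => Y) fun g => prod.lift (𝟙 Y) (σ g).hom) ∈
      X.smallEtaleTopology (Y ⨯ Y) := jointly_surjective_of_isColimit Y σ hgal.some
  have hr : ∀ y, ∀ g : G, F.obj.map (σ g).hom.op (F.obj.map t.op y) = F.obj.map t.op y := fun y g => by
    rw [← Functor.map_comp_apply, ← op_comp, (EtCore.topIsTerminal X).hom_ext ((σ g).hom ≫ t) t]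
  have key : ∀ x : EtCoh.sect F Y, (∀ g : G, F.obj.map (σ g).hom.op x = x) →
      ∀ {Z : X.Etale} (p₁ p₂ : Z ⟶ Y), p₁ ≫ t = p₂ ≫ t → F.obj.map p₁.op x = F.obj.map p₂.op x := by
    intro x hx Z p₁ p₂ _
    have e : F.obj.map (prod.fst : Y ⨯ Y ⟶ Y).op x = F.obj.map (prod.snd : Y ⨯ Y ⟶ Y).op x := by
      refine (hsh _ _ hprod).isSeparatedFor.ext ?_
      rintro V _ ⟨_, a, _, ⟨g⟩, rfl⟩
      change F.obj.map _ (F.obj.map _ x) = F.obj.map _ (F.obj.map _ x)
      rw [← Functor.map_comp_apply, ← Functor.map_comp_apply, ← op_comp, ← op_comp, Category.assoc,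
        Category.assoc, prod.lift_fst, prod.lift_snd, op_comp, op_comp, Functor.map_comp_apply,
        Functor.map_comp_apply, hx g]
      simp
    have h2 : F.obj.map p₁.op x = F.obj.map (prod.lift p₁ p₂).op (F.obj.map (prod.fst : Y ⨯ Y ⟶ Y).op x) := by
      rw [← Functor.map_comp_apply, ← op_comp, prod.lift_fst]
    have h3 : F.obj.map p₂.op x = F.obj.map (prod.lift p₁ p₂).op (F.obj.map (prod.snd : Y ⨯ Y ⟶ Y).op x) := by
      rw [← Functor.map_comp_apply, ← op_comp, prod.lift_snd]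
    rw [h2, h3, e]
  refine ⟨fun a b hab => (h1 _ (key _ (hr b))).unique hab rfl, Set.ext fun x => ⟨?_, fun hx => ?_⟩⟩
  · rintro ⟨y, rfl⟩
    exact hr y
  · obtain ⟨y, hy, -⟩ := h1 x (key x hx)
    exact ⟨y, hy⟩

end Groth.Agent.S16269
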