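import Groth.Statements.S1627
import Groth.Agent.Lib.CurveModel.Completion

set_option autoImplicit false
universe u
open CategoryTheory CategoryTheory.Limits AlgebraicGeometry
open Variety

namespace Groth.Agent.S1627

/-- A curve X over k (integral, separated, of finite type, of dimension one) is either affine or
H-projective, i.e. admits a closed immersion into some P^d_k over k. -/
theorem result (k : Type u) [Field k] (X : Scheme.{u}) [X.Over (Spec (CommRingCat.of k))] [IsIntegral X] [IsSeparated (X ↘ (Spec (CommRingCat.of k)))] [LocallyOfFiniteType (X ↘ (Spec (CommRingCat.of k)))] [QuasiCompact (X ↘ (Spec (CommRingCat.of k)))] (hdim : topologicalKrullDim X = 1) :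
    IsAffine X ∨ ∃ (d : ℕ) (c : X ⟶ CohB1.ProjSpace d k), IsClosedImmersion c ∧ c ≫ CohB1.ProjSpace.toSpec d k = X ↘ (Spec (CommRingCat.of k)) := by
  haveI := GrothLib.CurveModel.isNoetherian_of_finiteType (X := X) k
  exact GrothLib.CurveModel.affine_or_projective k hdim

end Groth.Agent.S1627
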