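import Groth.Statements.S16277
import Groth.Agent.Lib.HypVan12.Core
-- import your own Groth.Agent.* helpers here

set_option autoImplicit false
set_option linter.style.haveILetI false
set_option maxHeartbeats 1000000
universe u
open CategoryTheory CategoryTheory.Limits AlgebraicGeometry
open HodgeNum

namespace Groth.Agent.S16277

/-- Let k be an algebraically closed field of characteristic p > 0, X a smooth projective k-variety of
dimension n + 1 (an integral k-scheme, smooth of relative dimension n + 1 over k, with a closed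
immersion into some P^N_k over k) and L an ample invertible O_X-module. Then for d large enough
every smooth divisor Y in the linear system of L^{⊗d} satisfies h^{p,q}(Y) = h^{p,q}(X) for p + q ≤
n - 1: there is d₀ such that for all d ≥ d₀, every M with M ⊗ L^{⊗d} ≅ O_X, every closed subscheme Y
of X which is smooth of relative dimension n over k and whose ideal sheaf is isomorphic to M, all p,
q with p + q ≤ n - 1, every p-th exterior power F of Ω_{Y/k} and every p-th exterior power E of
Ω_{X/k}, the k-vector spaces H^q(Y, F) and H^q(X, E) have the same dimension. (The published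
statement assumes L very ample; its argument only uses that L is ample, which is what is assumed
here.) -/
theorem result (k : Type u) [Field k] [IsAlgClosed k]
    (pc : ℕ) [Fact pc.Prime] [CharP k pc] (n N : ℕ)
    (X : Scheme.{u}) [X.Over (Spec (CommRingCat.of k))] [IsIntegral X]
    [SmoothOfRelativeDimension (n + 1) (X ↘ Spec (CommRingCat.of k))]
    (ι : X ⟶ CohB1.ProjSpace N k) [IsClosedImmersion ι] (hι : ι ≫ CohB1.ProjSpace.toSpec N k = X ↘ Spec (CommRingCat.of k))
    (L : X.Modules) (hL : CohB1.IsAmple L) :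
    ∃ d₀ : ℕ, ∀ d : ℕ, d₀ ≤ d → ∀ M : X.Modules, ClSub.IsInverseOf M (CohB1.tensorPow L d) →
      ∀ (I : X.IdealSheafData) [I.subscheme.Over (Spec (CommRingCat.of k))],
        I.subscheme ↘ Spec (CommRingCat.of k) = I.subschemeι ≫ X ↘ Spec (CommRingCat.of k) → Nonempty (ClSub.idealMod I ≅ M) →
        SmoothOfRelativeDimension n (I.subscheme ↘ Spec (CommRingCat.of k)) →
        ∀ p q : ℕ, p + q + 1 ≤ n →
          ∀ F : I.subscheme.Modules, ExtPow.IsExtPow p (Omega.sheaf (I.subscheme ↘ Spec (CommRingCat.of k))) F →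
          ∀ E : X.Modules, ExtPow.IsExtPow p (Omega.sheaf (X ↘ Spec (CommRingCat.of k))) E →
            Module.finrank k (Coh.HH I.subscheme F q) = Module.finrank k (Coh.HH X E q) := by
  haveI : IsProper (CohB1.ProjSpace.toSpec N k) := GrothLib.Chow.isProper_toSpec N k
  haveI : IsProper (X ↘ Spec (CommRingCat.of k)) := by rw [← hι]; infer_instance
  haveI : Smooth (X ↘ Spec (CommRingCat.of k)) := SmoothOfRelativeDimension.smooth (n + 1) _
  haveI := GrothLib.Euler.isNoetherian_of_proper (X := X) k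
  haveI : Nonempty X := inferInstance
  have hdim : topologicalKrullDim X = ((n + 1 : ℕ) : WithBot ℕ∞) :=
    GrothLib.Transversal.dim_eq_of_smooth (X ↘ Spec (CommRingCat.of k)) (n + 1)
  have hΩ : FlatMod.IsFinLocFree (Omega.sheaf (X ↘ Spec (CommRingCat.of k))) :=
    GrothLib.OmegaAb15.isFinLocFree_omega _
  obtain ⟨Li, hLi, ⟨eLi⟩⟩ := GrothLib.Kodaira.exists_inverse hL.1
  have hbraid : ClSub.IsInverseOf L Li := ⟨GrothLib.GrTilde.tensorModComm _ _ ≪≫ eLi⟩
  have hvan : ∀ p : ℕ, ∃ m₁ : ℕ, ∀ t, m₁ ≤ t → ∀ i, i ≤ n → Subsingleton (Coh.HH X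
      (CohB1.tensorMod (GrothLib.ExtPowX.wedge (Omega.sheaf (X ↘ Spec (CommRingCat.of k))) p)
        (CohB1.tensorPow Li t)) i) := fun p =>
    GrothLib.NegVan7.eventually_vanish k hL hbraid
      (GrothLib.Euler.isCoh_of_isFinLocFree (GrothLib.ExtPowX.isFinLocFree_wedge hΩ p)) n
      (fun x hx => lt_of_lt_of_le (by exact_mod_cast Nat.lt_succ_self n)
        (GrothLib.HypVan12.depth_ge k hdim (GrothLib.ExtPowX.isFinLocFree_wedge hΩ p) x hx))
  choose m₁ hm₁ using hvan
  refine ⟨(Finset.range (n + 1)).sup m₁ + 1, fun d hd M hM I _ hover hI hsm p q hpq F hF E hE => ?_⟩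
  haveI : I.subschemeι.IsOver (Spec (CommRingCat.of k)) := ⟨hover.symm⟩
  haveI : Smooth (I.subscheme ↘ Spec (CommRingCat.of k)) := SmoothOfRelativeDimension.smooth n _
  obtain ⟨eI⟩ := hI
  have hMi : PicF.IsInvertible M := GrothLib.NegVan7.isInvertible_of_inverse k
    (GrothLib.Ample.isInvertible_tensorPow hL.1 d) (by
      obtain ⟨e⟩ := hM
      exact ⟨GrothLib.GrTilde.tensorModComm _ _ ≪≫ e⟩)
  have hIi : PicF.IsInvertible (ClSub.idealMod I) := GrothLib.ParaPair.isInvertible_of_iso eI hMi
  have hinv : ClSub.IsInverseOf (ClSub.idealMod I) (CohB1.tensorPow L d) := by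
    obtain ⟨e⟩ := hM
    exact ⟨GrothLib.Ample.LineData.tensorModMapIso eI (Iso.refl _) ≪≫ e⟩
  have hv : ∀ p' j r : ℕ, 1 ≤ j → p' + r < n + 1 → Subsingleton (Coh.HH X
      (CohB1.tensorMod (GrothLib.ExtPowX.wedge (Omega.sheaf (X ↘ Spec (CommRingCat.of k))) p')
        (CohB1.tensorPow (ClSub.idealMod I) j)) r) := by
    intro p' j r hj hr
    have h1 := GrothLib.HypVan12.isInverse_pow hL.1 hIi hinv j
    have h2 := GrothLib.HypVan12.isInverse_pow hL.1 hLi (M := Li) (d := 1)
      (⟨GrothLib.Ample.LineData.tensorModMapIso (Iso.refl Li) (GrothLib.OX.tensorUnitLeftIso L) ≪≫ eLi⟩) (d * j)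
    rw [one_mul] at h2
    obtain ⟨e⟩ : Nonempty (CohB1.tensorPow (ClSub.idealMod I) j ≅ CohB1.tensorPow Li (d * j)) := by
      have a1 := GrothLib.Ample.isInvertible_tensorPow hIi j
      have a2 := GrothLib.Ample.isInvertible_tensorPow hLi (d * j)
      have aL := GrothLib.Ample.isInvertible_tensorPow hL.1 (d * j)
      refine (GrothLib.Cube.clsMod_eq_iff a1 a2).1 (mul_right_cancel (b := GrothLib.Cube.clsMod aL) ?_)
      rw [← GrothLib.Cube.clsMod_tensorMod a1 aL, ← GrothLib.Cube.clsMod_tensorMod a2 aL,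
        (GrothLib.Cube.clsMod_eq_one_iff _).2 h1, (GrothLib.Cube.clsMod_eq_one_iff _).2 h2]
    have hdj : m₁ p' ≤ d * j := by
      have := Finset.le_sup (f := m₁) (Finset.mem_range.2 (show p' < n + 1 by omega))
      have := Nat.le_mul_of_pos_right d (show 0 < j by omega)
      omega
    haveI := hm₁ p' (d * j) hdj r (by omega)
    exact (GrothLib.Euler.hhEquiv (A := k)
      (GrothLib.Ample.LineData.tensorModMapIso (Iso.refl _) e) r).toEquiv.subsingleton
  exact ((GrothLib.HypVan12.lefschetz_core k I hIi (n + 1) hv p q E F hE hF).1 (by omega)).symm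


end Groth.Agent.S16277
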