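import Groth.Statements.S16280
import Groth.Agent.Lib.ExtTilde20.Coh
import Groth.Agent.Lib.Cohom.RpushModules
import Groth.Agent.Lib.CohSS9.Basic
import Groth.Agent.Lib.Chow.Prod
import Groth.Agent.Lib.OX.CohClass
import Groth.Agent.Lib.GrothSS.Main
import Groth.Agent.Lib.SheafHom19.Flasque
import Groth.Agent.Lib.Cohom.PushDerived

set_option autoImplicit false
set_option maxHeartbeats 1000000
set_option linter.style.haveILetI false
set_option backward.isDefEq.respectTransparency.types false
universe u
open CategoryTheory CategoryTheory.Limits AlgebraicGeometry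
open Coherent ZeroObject

namespace Groth.Agent.S16280

/-- Let Y be a Noetherian scheme, f : X → Y a morphism admitting a factorisation through a closed
immersion e : X → P^n_Y followed by the projection (a projective morphism), and F, G coherent
O_X-modules. Then for every p ≥ 0 the relative Ext sheaf Ext^p_f(F, G) — the value at G of the p-th
right derived functor of the left exact functor G ↦ f_* Hom_{O_X}(F, G) from O_X-modules to
O_Y-modules — is a coherent O_Y-module. (The internal Hom functor of F, injective resolutions of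
O_X-modules and additivity of the composite functor are the stated instance hypotheses, all true.) -/
theorem result (X Y : Scheme.{u}) [IsNoetherian Y] (f : X ⟶ Y)
    (n : ℕ) (e : X ⟶ CohB1.ProjSpaceOver n Y) [IsClosedImmersion e] (he : e ≫ CohB1.ProjSpaceOver.toBase n Y = f)
    (F G : X.Modules) (hF : Coh.IsCoh F) (hG : Coh.IsCoh G)
    [ModSite.HasSheafHom (O := X.sheaf) F] [HasInjectiveResolutions (ModSite.Mod X.sheaf)]
    [(ModSite.sheafHom (O := X.sheaf) F ⋙ Scheme.Modules.pushforward f).Additive] (p : ℕ) :
    Coh.IsCoh (((ModSite.sheafHom (O := X.sheaf) F ⋙ Scheme.Modules.pushforward f).rightDerived p).obj G) := by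
  haveI : IsProper f := by
    haveI := GrothLib.Chow.isProper_toBase n Y
    rw [← he]; infer_instance
  haveI : IsLocallyNoetherian X := LocallyOfFiniteType.isLocallyNoetherian f
  haveI : HasInjectiveResolutions X.Modules := inferInstanceAs (HasInjectiveResolutions (ModSite.Mod X.sheaf))
  let T : ModSite.Mod X.sheaf ⥤ X.Modules := ModSite.sheafHom (O := X.sheaf) F
  haveI : T.Additive := by
    have : PreservesLimitsOfSize.{0, 0} (ModSite.sheafHom (O := X.sheaf) F) :=
      (ModSite.sheafHomAdj (O := X.sheaf) F).rightAdjoint_preservesLimits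
    exact (Functor.additive_of_preserves_binary_products (ModSite.sheafHom (O := X.sheaf) F) :)
  have hT : ∀ Q : ModSite.Mod X.sheaf, Injective Q → ∀ q : ℕ, 0 < q →
      IsZero (((Scheme.Modules.pushforward f).rightDerived q).obj (T.obj Q)) := by
    intro Q hQ q hq
    obtain ⟨m, rfl⟩ : ∃ m, q = m + 1 := ⟨q - 1, by omega⟩
    let H := (ModSite.sheafHom (O := X.sheaf) F).obj Q
    have : TopCat.Sheaf.IsFlasque (ModSite.toAb H) :=
      ⟨fun i => (AddCommGrpCat.epi_iff_surjective _).2
        (GrothLib.SheafHom19.sheafHom_map_surjective X.sheaf F Q i.unop)⟩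
    refine GrothLib.Cohom.isZero_Rpush_of_acyclicOn f (T.obj Q) (fun W _ n => ?_) m
    exact GrothLib.SheafCoh.flasque_HU_subsingleton (ModSite.toAb H) n ((TopologicalSpace.Opens.map f.base).obj W)
  obtain ⟨E, a, ha, -, hE⟩ := GrothLib.GrothSS.exists_grothendieck (Scheme.Modules.pushforward f) T hT G
    (fun i j => (Coh.Rpush f i).obj ((ModSite.extSh (O := X.sheaf) F j).obj G))
    (fun i => ((ModSite.sheafHom (O := X.sheaf) F ⋙ Scheme.Modules.pushforward f).rightDerived i).obj G)
    (0 : Y.Modules) (isZero_zero _) (fun i => ⟨Iso.refl _⟩) (fun i j => ⟨Iso.refl _⟩)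
  have hZ : Coh.IsCoh (0 : Y.Modules) := GrothLib.OX.isCoh_of_isZero (isZero_zero _)
  have hpage : ∀ i j : ℤ, Coh.IsCoh ((E.page 2 le_rfl).X (i, j)) := by
    intro i j
    refine GrothLib.QCoh.isCoh_of_iso (hE i j).some.symm ?_
    split_ifs
    · exact GrothLib.Cohom.isCoh_Rpush f _ (GrothLib.ExtTilde20.isCoh_extSh F G hF hG _) _
    · exact hZ
  have := GrothLib.CohSS9.isCoh_abutment E a (p : ℤ) (ha p) (fun pq => (hpage pq.1 pq.2).1)
    (fun i j _ => hpage i j)
  simpa using this

end Groth.Agent.S16280
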