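import Groth.Statements.S16281
import Groth.Agent.Lib.HomRestrict20.Basic

set_option autoImplicit false
set_option maxHeartbeats 400000
set_option linter.style.haveILetI false
set_option backward.isDefEq.respectTransparency.types false
universe u
open CategoryTheory CategoryTheory.Limits AlgebraicGeometry
open Coherent

namespace Groth.Agent.S16281

theorem derived_restrict {X U Y V : Scheme.{u}} [HasInjectiveResolutions X.Modules]
    [HasInjectiveResolutions U.Modules] (j : U ⟶ X) [IsOpenImmersion j] (k : V ⟶ Y) [IsOpenImmersion k]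
    (A : X.Modules ⥤ Y.Modules) [A.Additive] (B : U.Modules ⥤ V.Modules) [B.Additive]
    (e : A ⋙ Scheme.Modules.restrictFunctor k ≅ Scheme.Modules.restrictFunctor j ⋙ B) (G : X.Modules) (p : ℕ) :
    Nonempty ((Scheme.Modules.restrictFunctor k).obj ((A.rightDerived p).obj G) ≅
      (B.rightDerived p).obj ((Scheme.Modules.restrictFunctor j).obj G)) := by
  have := GrothLib.HomRestrict20.additive_restrictFunctor j
  have := GrothLib.HomRestrict20.additive_restrictFunctor k
  have : (Scheme.Modules.restrictFunctor k).PreservesHomology := Functor.preservesHomologyOfExact _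
  exact ⟨(GrothLib.ModSupp25.rightDerivedPostIso A (Scheme.Modules.restrictFunctor k) p ≪≫
    GrothLib.SheafCoh.rightDerivedCongr e p ≪≫
    (GrothLib.LocZ.rightDerivedPreExactIso (Scheme.Modules.restrictFunctor j)
      (fun I hI => GrothLib.HomRestrict20.injective_restrictFunctor j I hI) B p).symm).app G⟩

/-- Let f : X → Y be a morphism of schemes, F and G O_X-modules, W ⊆ Y an open subscheme and p ≥ 0.
Write Ext^p_f(F, -) for the p-th right derived functor of the left exact functor G ↦ f_*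
Hom_{O_X}(F, G) from O_X-modules to O_Y-modules (the relative Ext sheaves). Then the restriction of
Ext^p_f(F, G) to W is isomorphic to Ext^p_{f'}(F|_{f⁻¹W}, G|_{f⁻¹W}), where f' : f⁻¹W → W is the
restricted morphism. (Stated for schemes, the published statement being for ringed spaces; existence
of an isomorphism of O_W-modules only. The internal Hom functors, injective resolutions and
additivity of the composite functors on X and on f⁻¹W are the stated instance hypotheses, all true.) -/
theorem result (X Y : Scheme.{u}) (f : X ⟶ Y) (W : Y.Opens)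
    (F G : X.Modules) (p : ℕ)
    [ModSite.HasSheafHom (O := X.sheaf) F] [HasInjectiveResolutions (ModSite.Mod X.sheaf)]
    [(ModSite.sheafHom (O := X.sheaf) F ⋙ Scheme.Modules.pushforward f).Additive]
    [ModSite.HasSheafHom (O := (↑(f ⁻¹ᵁ W) : Scheme.{u}).sheaf) (F.restrict (f ⁻¹ᵁ W).ι)]
    [HasInjectiveResolutions (ModSite.Mod (↑(f ⁻¹ᵁ W) : Scheme.{u}).sheaf)]
    [(ModSite.sheafHom (O := (↑(f ⁻¹ᵁ W) : Scheme.{u}).sheaf) (F.restrict (f ⁻¹ᵁ W).ι) ⋙ Scheme.Modules.pushforward (f ∣_ W)).Additive] :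
    Nonempty ((Scheme.Modules.restrictFunctor W.ι).obj (((ModSite.sheafHom (O := X.sheaf) F ⋙ Scheme.Modules.pushforward f).rightDerived p).obj G) ≅
      ((ModSite.sheafHom (O := (↑(f ⁻¹ᵁ W) : Scheme.{u}).sheaf) (F.restrict (f ⁻¹ᵁ W).ι) ⋙ Scheme.Modules.pushforward (f ∣_ W)).rightDerived p).obj
        (G.restrict (f ⁻¹ᵁ W).ι)) := by
  have : ModSite.HasSheafHom (O := (↑(f ⁻¹ᵁ W) : Scheme.{u}).sheaf)
      ((Scheme.Modules.restrictFunctor (f ⁻¹ᵁ W).ι).obj F) :=
    ‹ModSite.HasSheafHom (O := (↑(f ⁻¹ᵁ W) : Scheme.{u}).sheaf) (F.restrict (f ⁻¹ᵁ W).ι)›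
  exact @derived_restrict _ _ _ _ ‹_› ‹_› (f ⁻¹ᵁ W).ι _ W.ι _
    (ModSite.sheafHom (O := X.sheaf) F ⋙ Scheme.Modules.pushforward f) ‹_›
    (ModSite.sheafHom (O := (↑(f ⁻¹ᵁ W) : Scheme.{u}).sheaf) (F.restrict (f ⁻¹ᵁ W).ι) ⋙
      Scheme.Modules.pushforward (f ∣_ W)) ‹_›
    (Functor.associator _ _ _ ≪≫
      Functor.isoWhiskerLeft (ModSite.sheafHom (O := X.sheaf) F) (GrothLib.OX.pushRestrictIso f W) ≪≫
      (Functor.associator _ _ _).symm ≪≫
      Functor.isoWhiskerRight (GrothLib.HomRestrict20.sheafHomRestrictIso (f ⁻¹ᵁ W).ι F) _ ≪≫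
      Functor.associator _ _ _) G p

end Groth.Agent.S16281
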