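import Groth.Statements.S16283
import Groth.Agent.Lib.SheafHom19.Flasque
import Groth.Agent.Lib.GrothSS.Main
import Groth.Agent.Lib.Cohom.PushDerived
import Groth.Prelude.Def_RDer

set_option autoImplicit false
set_option backward.isDefEq.respectTransparency false
set_option backward.isDefEq.respectTransparency.types false
universe u
open CategoryTheory CategoryTheory.Limits AlgebraicGeometry ZeroObject
open Coherent

namespace Groth.Agent.S16283

/-- Let f : X → Y and g : Y → Z be morphisms of schemes, h = g ∘ f, and F, G O_X-modules. For a morphism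
u out of X write Ext^b_u(F, -) for the b-th right derived functor of the left exact functor G ↦ u_*
Hom_{O_X}(F, G) from O_X-modules. Then there is an E₂ spectral sequence of O_Z-modules with E₂^{a,b}
≅ R^a g_*(Ext^b_f(F, G)) for a, b ≥ 0 (and 0 otherwise), bounded, abutting with finite filtrations
to Ext^n_h(F, G) (n ≥ 0; 0 for n < 0). (Stated for schemes, the published statement being for ringed
spaces. Existence only: the E₂ identifications and the abutment are some isomorphisms. The internal
Hom functor of F, injective resolutions on X and Y and additivity of the composite functors are the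
stated instance hypotheses, all true.) -/
theorem result (X Y Z : Scheme.{u}) (f : X ⟶ Y) (g : Y ⟶ Z)
    (F G : X.Modules)
    [ModSite.HasSheafHom (O := X.sheaf) F] [HasInjectiveResolutions (ModSite.Mod X.sheaf)] [HasInjectiveResolutions Y.Modules]
    [(ModSite.sheafHom (O := X.sheaf) F ⋙ Scheme.Modules.pushforward f).Additive]
    [(ModSite.sheafHom (O := X.sheaf) F ⋙ Scheme.Modules.pushforward (f ≫ g)).Additive] :
    ∃ (E : E₂CohomologicalSpectralSequence Z.Modules)
      (a : SpSeq.Abutment E (fun n : ℤ =>
        if 0 ≤ n then ((ModSite.sheafHom (O := X.sheaf) F ⋙ Scheme.Modules.pushforward (f ≫ g)).rightDerived n.toNat).obj G else (0 : Z.Modules))),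
      (∀ n : ℤ, a.IsFinite n) ∧ SpSeq.IsBounded E ∧
      ∀ p q : ℤ, Nonempty ((E.page 2 le_rfl).X (p, q) ≅
        (if 0 ≤ p ∧ 0 ≤ q then (Coh.Rpush g p.toNat).obj (((ModSite.sheafHom (O := X.sheaf) F ⋙ Scheme.Modules.pushforward f).rightDerived q.toNat).obj G)
          else (0 : Z.Modules))) := by
  let T : ModSite.Mod X.sheaf ⥤ Y.Modules :=
    ModSite.sheafHom (O := X.sheaf) F ⋙ Scheme.Modules.pushforward f
  let eT : T ⋙ Scheme.Modules.pushforward g ≅
      ModSite.sheafHom (O := X.sheaf) F ⋙ Scheme.Modules.pushforward (f ≫ g) :=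
    Functor.associator _ _ _ ≪≫ Functor.isoWhiskerLeft _ (Scheme.Modules.pushforwardComp f g)
  refine GrothLib.GrothSS.exists_grothendieck (Scheme.Modules.pushforward g) T (fun Q hQ q hq => ?_)
    G _ _ (0 : Z.Modules) (isZero_zero _)
    (fun n => ⟨((RDer.rightDerivedIso eT n).app G).symm⟩) (fun p q => ⟨Iso.refl _⟩)
  obtain ⟨m, rfl⟩ : ∃ m, q = m + 1 := ⟨q - 1, by omega⟩
  let H := (ModSite.sheafHom (O := X.sheaf) F).obj Q
  have : TopCat.Sheaf.IsFlasque (ModSite.toAb H) :=
    ⟨fun i => (AddCommGrpCat.epi_iff_surjective _).2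
      (GrothLib.SheafHom19.sheafHom_map_surjective X.sheaf F Q i.unop)⟩
  refine GrothLib.Cohom.isZero_Rpush_of_acyclicOn g (T.obj Q) (fun W _ n => ?_) m
  have : TopCat.Sheaf.IsFlasque ((GrothLib.Cohom.pushFun f.base).obj (ModSite.toAb H)) :=
    TopCat.Presheaf.IsFlasque.pushforward_isFlasque (ModSite.toAb H).obj f.base
  exact GrothLib.SheafCoh.flasque_HU_subsingleton
    ((GrothLib.Cohom.pushFun f.base).obj (ModSite.toAb H)) n ((TopologicalSpace.Opens.map g.base).obj W)

end Groth.Agent.S16283
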