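import Groth.Statements.S16284
import Groth.Agent.Lib.CompAcyclic20.Basic
import Groth.Agent.Lib.RelExtTwist20.Basic
import Groth.Agent.Lib.RelVanish.Uniform
import Groth.Agent.Lib.HilbStrat10.ProjSpace
import Groth.Agent.Lib.NormAmple.Descent
import Groth.Agent.Lib.RegSheaf.Eventually
import Groth.Agent.S16280
import Groth.Agent.Lib.SheafCoh.ModGroth
import Groth.Agent.Lib.SheafHom19.Flasque
import Groth.Agent.Lib.Cohom.PushDerived
import Groth.Agent.Lib.Chow.Prod

set_option autoImplicit false
set_option maxHeartbeats 1000000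
set_option linter.style.haveILetI false
set_option backward.isDefEq.respectTransparency.types false
universe u
open CategoryTheory CategoryTheory.Limits AlgebraicGeometry
open Coherent

namespace Groth.Agent.S16284

/-- Let Z be a Noetherian scheme, g : Y → Z a morphism factoring through a closed immersion e' : Y →
P^m_Z followed by the projection, O_Y(l) = e'^*O(l), f : X → Y a morphism factoring through a closed
immersion X → P^n_Y followed by the projection, h = g ∘ f, and F, G coherent O_X-modules. For a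
morphism u out of X write Ext^p_u(F, -) for the p-th right derived functor of the left exact functor
G ↦ u_* Hom_{O_X}(F, G). Then for every p ≥ 0 there is l₀ such that for all l ≥ l₀ the O_Z-module
g_* Ext^p_f(F, G ⊗ f^*O_Y(l)) is isomorphic to Ext^p_h(F, G ⊗ f^*O_Y(l)). (Existence of an
isomorphism of O_Z-modules only. The internal Hom functor of F, injective resolutions and additivity
of the composite functors are the stated instance hypotheses, all true.) -/
theorem result (Z : Scheme.{u}) [IsNoetherian Z] (m : ℕ)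
    (Y : Scheme.{u}) (g : Y ⟶ Z) (e' : Y ⟶ CohB1.ProjSpaceOver m Z) [IsClosedImmersion e']
    (he' : e' ≫ CohB1.ProjSpaceOver.toBase m Z = g)
    (n : ℕ) (X : Scheme.{u}) (f : X ⟶ Y) (e : X ⟶ CohB1.ProjSpaceOver n Y) [IsClosedImmersion e]
    (he : e ≫ CohB1.ProjSpaceOver.toBase n Y = f)
    (F G : X.Modules) (hF : Coh.IsCoh F) (hG : Coh.IsCoh G) (p : ℕ)
    [ModSite.HasSheafHom (O := X.sheaf) F] [HasInjectiveResolutions (ModSite.Mod X.sheaf)]
    [(ModSite.sheafHom (O := X.sheaf) F ⋙ Scheme.Modules.pushforward f).Additive]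
    [(ModSite.sheafHom (O := X.sheaf) F ⋙ Scheme.Modules.pushforward (f ≫ g)).Additive] :
    ∃ l₀ : ℕ, ∀ l : ℕ, l₀ ≤ l →
      Nonempty ((Scheme.Modules.pushforward g).obj (((ModSite.sheafHom (O := X.sheaf) F ⋙ Scheme.Modules.pushforward f).rightDerived p).obj
          (CohB1.tensorMod G ((Scheme.Modules.pullback f).obj
            ((Scheme.Modules.pullback e').obj (Twist.twistOver m Z (l : ℤ)))))) ≅
        ((ModSite.sheafHom (O := X.sheaf) F ⋙ Scheme.Modules.pushforward (f ≫ g)).rightDerived p).obj
          (CohB1.tensorMod G ((Scheme.Modules.pullback f).obj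
            ((Scheme.Modules.pullback e').obj (Twist.twistOver m Z (l : ℤ)))))) := by
  haveI : IsProper g := by
    haveI := GrothLib.Chow.isProper_toBase m Z
    rw [← he']; infer_instance
  haveI : IsLocallyNoetherian Y := LocallyOfFiniteType.isLocallyNoetherian g
  haveI : CompactSpace ↥Y := QuasiCompact.compactSpace_of_compactSpace g
  haveI : IsNoetherian Y := {}
  haveI : HasInjectiveResolutions Y.Modules := by
    haveI : IsGrothendieckAbelian.{u} Y.Modules :=
      GrothLib.SheafCoh.isGrothendieckAbelian_sheafOfModules (R := Y.ringCatSheaf)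
    infer_instance
  haveI : EnoughInjectives Y.Modules := GrothLib.GrothSS.enoughInjectives_of_resolutions _
  have hO : PicF.IsInvertible (Twist.twistOver m Z 1) := GrothLib.RegSheaf.isInvertible_twistOver 1
  let O1 : Y.Modules := (Scheme.Modules.pullback e').obj (Twist.twistOver m Z 1)
  have hO1 : PicF.IsInvertible O1 := GrothLib.Ample.isInvertible_pullback e' hO
  have hamp : RelAmple.IsRelAmple g O1 := by
    have h := GrothLib.NormAmple.isRelAmple_pullback (g := e') (CohB1.ProjSpaceOver.toBase m Z)
      (GrothLib.HilbStrat10.isRelAmple_one (n := m) (S := Z))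
    rwa [he'] at h
  have hW : ∀ W : Z.Opens, IsAffineOpen W → CohB1.IsAmple (O1.restrict (g ⁻¹ᵁ W).ι) :=
    fun W hW => hamp.2 ⟨W, hW⟩
  let B : X.Modules ⥤ Y.Modules := ModSite.sheafHom (O := X.sheaf) F ⋙ Scheme.Modules.pushforward f
  haveI : B.Additive := ‹_›
  have hB : ∀ b, Coh.IsCoh ((B.rightDerived b).obj G) := fun b =>
    Groth.Agent.S16280.result X Y f n e he F G hF hG b
  choose b₀ hb₀ using fun b => GrothLib.RelVanish.exists_isZero_Rpush g hO1 hW (hB b)
  refine ⟨(Finset.range (p + 1)).sup b₀, fun l hl => ?_⟩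
  obtain ⟨el⟩ := GrothLib.RegSheaf.nonempty_tensorPow (n := m) (Y := Z) l
  obtain ⟨ep⟩ := GrothLib.Ample.nonempty_pullback_tensorPow e' hO l
  let Ol : Y.Modules := (Scheme.Modules.pullback e').obj (Twist.twistOver m Z (l : ℤ))
  let eO : Ol ≅ CohB1.tensorPow O1 l := (Scheme.Modules.pullback e').mapIso el.symm ≪≫ ep
  have hOl : FlatMod.IsFinLocFree Ol :=
    GrothLib.OX.isFinLocFree_pullback e'
      (GrothLib.Euler.isFinLocFree_of_isInvertible (GrothLib.RegSheaf.isInvertible_twistOver (l : ℤ)))
  let T : ModSite.Mod X.sheaf ⥤ Y.Modules := ModSite.sheafHom (O := X.sheaf) F ⋙ Scheme.Modules.pushforward f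
  let eT : T ⋙ Scheme.Modules.pushforward g ≅
      ModSite.sheafHom (O := X.sheaf) F ⋙ Scheme.Modules.pushforward (f ≫ g) :=
    Functor.associator _ _ _ ≪≫ Functor.isoWhiskerLeft _ (Scheme.Modules.pushforwardComp f g)
  haveI : (T ⋙ Scheme.Modules.pushforward g).Additive := Functor.additive_of_iso eT.symm
  have hT : ∀ Q : ModSite.Mod X.sheaf, Injective Q →
      GrothLib.GrothSS.IsAcyclicObj (Scheme.Modules.pushforward g) (T.obj Q) := by
    intro Q hQ q
    let H := (ModSite.sheafHom (O := X.sheaf) F).obj Q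
    have : TopCat.Sheaf.IsFlasque (ModSite.toAb H) :=
      ⟨fun i => (AddCommGrpCat.epi_iff_surjective _).2
        (GrothLib.SheafHom19.sheafHom_map_surjective X.sheaf F Q i.unop)⟩
    refine GrothLib.Cohom.isZero_Rpush_of_acyclicOn g (T.obj Q) (fun W _ n => ?_) q
    have : TopCat.Sheaf.IsFlasque ((GrothLib.Cohom.pushFun f.base).obj (ModSite.toAb H)) :=
      TopCat.Presheaf.IsFlasque.pushforward_isFlasque (ModSite.toAb H).obj f.base
    exact GrothLib.SheafCoh.flasque_HU_subsingleton
      ((GrothLib.Cohom.pushFun f.base).obj (ModSite.toAb H)) n ((TopologicalSpace.Opens.map g.base).obj W)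
  let G' : X.Modules := CohB1.tensorMod G ((Scheme.Modules.pullback f).obj Ol)
  have hH : ∀ b, b ≤ p → GrothLib.GrothSS.IsAcyclicObj (Scheme.Modules.pushforward g)
      ((T.rightDerived b).obj G') := by
    intro b hb
    haveI := GrothLib.RelExtTwist20.hasSheafHom (X := X) (Coh.structureModule X)
    haveI := GrothLib.RelExtTwist20.hasSheafHom (X := X) (CohB1.tensorMod F (Coh.structureModule X))
    let S' : X.Modules ⥤ Y.Modules :=
      ModSite.sheafHom (O := X.sheaf) (CohB1.tensorMod F (Coh.structureModule X)) ⋙ Scheme.Modules.pushforward f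
    let c : S' ≅ B := Functor.isoWhiskerRight
      (GrothLib.LocFreeDual20.homCongrIso
        (show CohB1.tensorMod F (Coh.structureModule X) ≅ F from GrothLib.LocFreeDual20.unitR F)) (Scheme.Modules.pushforward f)
    haveI hS' : S'.Additive := Functor.additive_of_iso c.symm
    haveI : (ModSite.sheafHom (O := X.sheaf) (CohB1.tensorMod F (Coh.structureModule X)) ⋙
        Scheme.Modules.pushforward f).Additive := hS'
    obtain ⟨φ⟩ := GrothLib.RelExtTwist20.nonempty_relExt_twist f F G (Coh.structureModule X) Ol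
      (GrothLib.OX.isFinLocFree_structureModule X) hOl b
    obtain ⟨d⟩ := GrothLib.LocFreeHom.nonempty_iHom_unit_iso (X := X) (Coh.structureModule X)
    let eG : CohB1.tensorMod G ((ModSite.sheafHom (O := X.sheaf) (Coh.structureModule X)).obj
        (Coh.structureModule X)) ≅ G :=
      GrothLib.Ample.LineData.tensorModMapIso (Iso.refl G)
        ((GrothLib.LocFreeDual20.siteHomIso _).app _ ≪≫ d) ≪≫ GrothLib.LocFreeDual20.unitR G
    have e1 : (T.rightDerived b).obj G' ≅ CohB1.tensorMod ((B.rightDerived b).obj G) (CohB1.tensorPow O1 l) :=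
      ((GrothLib.SheafCoh.rightDerivedCongr c b).app G').symm ≪≫ φ ≪≫
        GrothLib.Ample.LineData.tensorModMapIso ((B.rightDerived b).mapIso eG) eO
    intro q
    exact (hb₀ b l ((Finset.le_sup (f := b₀) (Finset.mem_range.2 (by omega))).trans hl) (q + 1)
      (Nat.succ_pos q)).of_iso ((Coh.Rpush g (q + 1)).mapIso e1)
  obtain ⟨φ⟩ := GrothLib.CompAcyclic20.nonempty_rightDerived_comp_iso (Scheme.Modules.pushforward g) T hT G' p hH
  exact ⟨φ.symm ≪≫ (GrothLib.SheafCoh.rightDerivedCongr eT p).app G'⟩

end Groth.Agent.S16284
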