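import Groth.Statements.S16287
import Groth.Agent.Lib.LocZ.MV
-- import your own Groth.Agent.* helpers here

set_option autoImplicit false
universe u
open CategoryTheory CategoryTheory.Limits TopologicalSpace
open LocCohZ

namespace Groth.Agent.S16287

/-- Let X be a topological space, F an abelian sheaf on X, and U, U' open subsets with closed
complements Z = X ∖ U and Z' = X ∖ U' (so Z ∩ Z' = X ∖ (U ∪ U') and Z ∪ Z' = X ∖ (U ∩ U')). With
H^i_{X∖W}(X, F) = Ext^i(Z_X/Z_W, F) and the enlargement-of-support maps r : H^i_{Z∩Z'} → H^i_Z, r' :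
H^i_{Z∩Z'} → H^i_{Z'}, s : H^i_Z → H^i_{Z∪Z'}, s' : H^i_{Z'} → H^i_{Z∪Z'}: the map H^0_{Z∩Z'} →
H^0_Z ⊕ H^0_{Z'}, x ↦ (r x, r' x), is injective, and there are connecting homomorphisms δ_i :
H^i_{Z∪Z'}(X, F) → H^{i+1}_{Z∩Z'}(X, F) such that for every i the sequence H^i_{Z∩Z'} → H^i_Z ⊕
H^i_{Z'} → H^i_{Z∪Z'} → H^{i+1}_{Z∩Z'} → H^{i+1}_Z ⊕ H^{i+1}_{Z'} is exact, the middle map being (y,
y') ↦ s y − s' y'. -/
theorem result {X : TopCat.{u}} (F : CohTop.Ab X) (U U' : Opens X) :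
    Function.Injective (fun x : LocCohZ.HZc F 0 (U ⊔ U') =>
      (LocCohZ.resZ F 0 (le_top : U ⊔ U' ≤ ⊤) (le_top : U ≤ ⊤) le_sup_left le_rfl x,
       LocCohZ.resZ F 0 (le_top : U ⊔ U' ≤ ⊤) (le_top : U' ≤ ⊤) le_sup_right le_rfl x)) ∧
    ∃ δ : ∀ i : ℕ, LocCohZ.HZc F i (U ⊓ U') →+ LocCohZ.HZc F (i + 1) (U ⊔ U'),
      ∀ i : ℕ,
        (∀ y : LocCohZ.HZc F i U × LocCohZ.HZc F i U',
          LocCohZ.resZ F i (le_top : U ≤ ⊤) (le_top : U ⊓ U' ≤ ⊤) inf_le_left le_rfl y.1 -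
              LocCohZ.resZ F i (le_top : U' ≤ ⊤) (le_top : U ⊓ U' ≤ ⊤) inf_le_right le_rfl y.2 = 0 ↔
            ∃ x : LocCohZ.HZc F i (U ⊔ U'),
              LocCohZ.resZ F i (le_top : U ⊔ U' ≤ ⊤) (le_top : U ≤ ⊤) le_sup_left le_rfl x = y.1 ∧
              LocCohZ.resZ F i (le_top : U ⊔ U' ≤ ⊤) (le_top : U' ≤ ⊤) le_sup_right le_rfl x = y.2) ∧
        (∀ w : LocCohZ.HZc F i (U ⊓ U'),
          δ i w = 0 ↔ ∃ y : LocCohZ.HZc F i U × LocCohZ.HZc F i U',
            LocCohZ.resZ F i (le_top : U ≤ ⊤) (le_top : U ⊓ U' ≤ ⊤) inf_le_left le_rfl y.1 -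
              LocCohZ.resZ F i (le_top : U' ≤ ⊤) (le_top : U ⊓ U' ≤ ⊤) inf_le_right le_rfl y.2 = w) ∧
        (∀ x : LocCohZ.HZc F (i + 1) (U ⊔ U'),
          (LocCohZ.resZ F (i + 1) (le_top : U ⊔ U' ≤ ⊤) (le_top : U ≤ ⊤) le_sup_left le_rfl x = 0 ∧
            LocCohZ.resZ F (i + 1) (le_top : U ⊔ U' ≤ ⊤) (le_top : U' ≤ ⊤) le_sup_right le_rfl x = 0) ↔
            ∃ w : LocCohZ.HZc F i (U ⊓ U'), δ i w = x) := by
  let hS := GrothLib.LocZ.mvSeq_shortExact U U'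
  let a := GrothLib.LocZ.zqTop (le_sup_left : U ≤ U ⊔ U')
  let a' := GrothLib.LocZ.zqTop (le_sup_right : U' ≤ U ⊔ U')
  let b := GrothLib.LocZ.zqTop (inf_le_left : U ⊓ U' ≤ U)
  let b' := GrothLib.LocZ.zqTop (inf_le_right : U ⊓ U' ≤ U')
  let g : LocCohZ.zq (le_top : U ≤ ⊤) ⊞ LocCohZ.zq (le_top : U' ≤ ⊤) ⟶ LocCohZ.zq (le_top : U ⊔ U' ≤ ⊤) :=
    biprod.desc a a'
  let f : LocCohZ.zq (le_top : U ⊓ U' ≤ ⊤) ⟶ LocCohZ.zq (le_top : U ≤ ⊤) ⊞ LocCohZ.zq (le_top : U' ≤ ⊤) :=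
    biprod.lift b (-b')
  have hga : ∀ (i : ℕ) (x : LocCohZ.HZc F i (U ⊔ U')),
      (Abelian.Ext.mk₀ biprod.inl).comp ((Abelian.Ext.mk₀ g).comp x (zero_add i)) (zero_add i) =
        (Abelian.Ext.mk₀ a).comp x (zero_add i) ∧
      (Abelian.Ext.mk₀ biprod.inr).comp ((Abelian.Ext.mk₀ g).comp x (zero_add i)) (zero_add i) =
        (Abelian.Ext.mk₀ a').comp x (zero_add i) := fun i x => by
    constructor <;> rw [Abelian.Ext.mk₀_comp_mk₀_assoc] <;> simp [g]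
  have hf : ∀ (i : ℕ) (y : Abelian.Ext (LocCohZ.zq (le_top : U ≤ ⊤) ⊞ LocCohZ.zq (le_top : U' ≤ ⊤)) F i),
      (Abelian.Ext.mk₀ f).comp y (zero_add i) =
        (Abelian.Ext.mk₀ b).comp ((Abelian.Ext.mk₀ biprod.inl).comp y (zero_add i)) (zero_add i) -
          (Abelian.Ext.mk₀ b').comp ((Abelian.Ext.mk₀ biprod.inr).comp y (zero_add i)) (zero_add i) := fun i y => by
    rw [Abelian.Ext.mk₀_comp_mk₀_assoc, Abelian.Ext.mk₀_comp_mk₀_assoc]
    have : f = b ≫ biprod.inl - b' ≫ biprod.inr := by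
      simp [f, biprod.lift_eq, sub_eq_add_neg]
    rw [this, sub_eq_add_neg (b ≫ biprod.inl), Abelian.Ext.mk₀_add, Abelian.Ext.add_comp,
      sub_eq_add_neg]
    congr 1
    rw [← neg_eq_iff_eq_neg, ← Abelian.Ext.neg_comp]
    congr 1
    exact (map_neg (Abelian.Ext.addEquiv₀.symm) _).symm.trans (congrArg _ (neg_neg _))
  have split : ∀ (i : ℕ) (y₁ : LocCohZ.HZc F i U) (y₂ : LocCohZ.HZc F i U'),
      ∃ y : Abelian.Ext (LocCohZ.zq (le_top : U ≤ ⊤) ⊞ LocCohZ.zq (le_top : U' ≤ ⊤)) F i,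
        (Abelian.Ext.mk₀ biprod.inl).comp y (zero_add i) = y₁ ∧
        (Abelian.Ext.mk₀ biprod.inr).comp y (zero_add i) = y₂ := fun i y₁ y₂ => by
    refine ⟨(Abelian.Ext.mk₀ biprod.fst).comp y₁ (zero_add i) +
      (Abelian.Ext.mk₀ biprod.snd).comp y₂ (zero_add i), ?_, ?_⟩ <;>
    simp [Abelian.Ext.comp_add, Abelian.Ext.mk₀_comp_mk₀_assoc]
  refine ⟨?_, fun i => hS.extClass.precomp F (by omega), fun i => ⟨?_, ?_, ?_⟩⟩
  · intro x y hxy
    simp only [Prod.mk.injEq] at hxy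
    have hepi : Epi g := hS.epi_g
    apply Abelian.Ext.addEquiv₀.injective
    apply (cancel_epi g).1
    apply Abelian.Ext.addEquiv₀.symm.injective
    change Abelian.Ext.mk₀ _ = Abelian.Ext.mk₀ _
    rw [← Abelian.Ext.mk₀_comp_mk₀, ← Abelian.Ext.mk₀_comp_mk₀, Abelian.Ext.mk₀_addEquiv₀_apply,
      Abelian.Ext.mk₀_addEquiv₀_apply]
    apply Abelian.Ext.biprod_ext
    · exact (hga 0 x).1.trans (hxy.1.trans (hga 0 y).1.symm)
    · exact (hga 0 x).2.trans (hxy.2.trans (hga 0 y).2.symm)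
  · intro y
    constructor
    · intro h
      obtain ⟨z, h1, h2⟩ := split i y.1 y.2
      obtain ⟨x, hx⟩ := Abelian.Ext.contravariant_sequence_exact₂ hS F z
        (show (Abelian.Ext.mk₀ f).comp z (zero_add i) = 0 by rw [hf, h1, h2]; exact h)
      exact ⟨x, (hga i x).1.symm.trans ((congrArg (fun e => (Abelian.Ext.mk₀ biprod.inl).comp e (zero_add i)) hx).trans h1),
        (hga i x).2.symm.trans ((congrArg (fun e => (Abelian.Ext.mk₀ biprod.inr).comp e (zero_add i)) hx).trans h2)⟩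
    · rintro ⟨x, h1, h2⟩
      rw [← h1, ← h2]
      change (Abelian.Ext.mk₀ b).comp ((Abelian.Ext.mk₀ a).comp x (zero_add i)) (zero_add i) -
        (Abelian.Ext.mk₀ b').comp ((Abelian.Ext.mk₀ a').comp x (zero_add i)) (zero_add i) = 0
      rw [← (hga i x).1, ← (hga i x).2, ← hf, Abelian.Ext.mk₀_comp_mk₀_assoc]
      exact (congrArg (fun k => (Abelian.Ext.mk₀ k).comp x (zero_add i)) (GrothLib.LocZ.mvSeq U U').zero).trans
        ((congrArg (fun k => Abelian.Ext.comp k x (zero_add i)) (Abelian.Ext.mk₀_zero _ _)).trans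
          (Abelian.Ext.zero_comp _ _ _ _ _))
  · intro w
    constructor
    · intro h
      obtain ⟨z, hz⟩ := Abelian.Ext.contravariant_sequence_exact₁ hS F w (by omega) h
      exact ⟨((Abelian.Ext.mk₀ biprod.inl).comp z (zero_add i), (Abelian.Ext.mk₀ biprod.inr).comp z (zero_add i)),
        (hf i z).symm.trans hz⟩
    · rintro ⟨y, rfl⟩
      obtain ⟨z, h1, h2⟩ := split i y.1 y.2
      have e : (Abelian.Ext.mk₀ f).comp z (zero_add i) =
          (Abelian.Ext.mk₀ b).comp y.1 (zero_add i) - (Abelian.Ext.mk₀ b').comp y.2 (zero_add i) := by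
        rw [hf, h1, h2]
      exact (congrArg (hS.extClass.precomp F (by omega)) e.symm).trans
        (hS.extClass_comp_assoc z (h := by omega))
  · intro x
    constructor
    · rintro ⟨h1, h2⟩
      refine Abelian.Ext.contravariant_sequence_exact₃ hS F x ?_ (by omega)
      apply Abelian.Ext.biprod_ext
      · exact ((hga (i + 1) x).1.trans h1).trans (Abelian.Ext.comp_zero _ _ _ _ _).symm
      · exact ((hga (i + 1) x).2.trans h2).trans (Abelian.Ext.comp_zero _ _ _ _ _).symm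
    · rintro ⟨w, rfl⟩
      have e : (Abelian.Ext.mk₀ g).comp (hS.extClass.comp w (show 1 + i = i + 1 by omega)) (zero_add (i + 1)) = 0 :=
        hS.comp_extClass_assoc w (h := by omega)
      constructor
      · refine (hga (i + 1) _).1.symm.trans ?_
        exact (congrArg (fun k => (Abelian.Ext.mk₀ biprod.inl).comp k (zero_add (i + 1))) e).trans
          (Abelian.Ext.comp_zero _ _ _ _ _)
      · refine (hga (i + 1) _).2.symm.trans ?_
        exact (congrArg (fun k => (Abelian.Ext.mk₀ biprod.inr).comp k (zero_add (i + 1))) e).trans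
          (Abelian.Ext.comp_zero _ _ _ _ _)

end Groth.Agent.S16287
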