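import Groth.Statements.S16289
import Groth.Agent.Lib.HomSES20.Hom
import Groth.Agent.Lib.HomSES20.LES

set_option autoImplicit false
set_option maxHeartbeats 400000
set_option linter.style.haveILetI false
set_option backward.isDefEq.respectTransparency.types false
universe u
open CategoryTheory CategoryTheory.Limits AlgebraicGeometry
open Coherent

namespace Groth.Agent.S16289

/-- For relative Ext sheaves in the first variable; let f : X → Y be a morphism of schemes, 0 → F' → F →
F'' → 0 a short exact sequence of O_X-modules (S below, with S.X₁ = F', S.X₂ = F, S.X₃ = F'') and G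
an O_X-module. For an O_X-module M write Ext^p_f(M, -) for the p-th right derived functor of the
left exact functor G ↦ f_* Hom_{O_X}(M, G), and for u : M' → M write u^* : Ext^p_f(M, G) →
Ext^p_f(M', G) for the map induced (right derived natural transformation) by Hom(M, -) → Hom(M', -).
Then Ext^0_f(F'', G) → Ext^0_f(F, G) is a monomorphism, for every p the pair Ext^p_f(F'', G) →
Ext^p_f(F, G) → Ext^p_f(F', G) composes to zero and is exact, and there are connecting morphisms δ_p
: Ext^p_f(F', G) → Ext^{p+1}_f(F'', G) making Ext^p_f(F, G) → Ext^p_f(F', G) → Ext^{p+1}_f(F'', G)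
and Ext^p_f(F', G) → Ext^{p+1}_f(F'', G) → Ext^{p+1}_f(F, G) compose to zero and exact. (Stated for
schemes, the published statement being for ringed spaces; the connecting maps are asserted to exist
only. The internal Hom functors, injective resolutions and additivity of the composite functors are
the stated instance hypotheses, all true.) -/
theorem result (X Y : Scheme.{u}) (f : X ⟶ Y) (S : ShortComplex X.Modules) (hS : S.ShortExact)
    (G : X.Modules)
    [ModSite.HasSheafHom (O := X.sheaf) S.X₁] [ModSite.HasSheafHom (O := X.sheaf) S.X₂] [ModSite.HasSheafHom (O := X.sheaf) S.X₃]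
    [HasInjectiveResolutions (ModSite.Mod X.sheaf)]
    [(ModSite.sheafHom (O := X.sheaf) S.X₁ ⋙ Scheme.Modules.pushforward f).Additive]
    [(ModSite.sheafHom (O := X.sheaf) S.X₂ ⋙ Scheme.Modules.pushforward f).Additive]
    [(ModSite.sheafHom (O := X.sheaf) S.X₃ ⋙ Scheme.Modules.pushforward f).Additive] :
    Mono ((NatTrans.rightDerived (Functor.whiskerRight (ExtSupp.sheafHomMap (O := X.sheaf) S.g) (Scheme.Modules.pushforward f)) 0).app G) ∧
    (∀ p : ℕ, ∃ w : (NatTrans.rightDerived (Functor.whiskerRight (ExtSupp.sheafHomMap (O := X.sheaf) S.g) (Scheme.Modules.pushforward f)) p).app G ≫ (NatTrans.rightDerived (Functor.whiskerRight (ExtSupp.sheafHomMap (O := X.sheaf) S.f) (Scheme.Modules.pushforward f)) p).app G = 0,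
      (ShortComplex.mk _ _ w).Exact) ∧
    ∃ δ : ∀ p : ℕ, ((ModSite.sheafHom (O := X.sheaf) S.X₁ ⋙ Scheme.Modules.pushforward f).rightDerived p).obj G ⟶ ((ModSite.sheafHom (O := X.sheaf) S.X₃ ⋙ Scheme.Modules.pushforward f).rightDerived (p + 1)).obj G,
      ∀ p : ℕ,
        (∃ w : (NatTrans.rightDerived (Functor.whiskerRight (ExtSupp.sheafHomMap (O := X.sheaf) S.f) (Scheme.Modules.pushforward f)) p).app G ≫ δ p = 0, (ShortComplex.mk _ _ w).Exact) ∧
        (∃ w : δ p ≫ (NatTrans.rightDerived (Functor.whiskerRight (ExtSupp.sheafHomMap (O := X.sheaf) S.g) (Scheme.Modules.pushforward f)) (p + 1)).app G = 0, (ShortComplex.mk _ _ w).Exact) := by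
  have : PreservesLimitsOfSize.{0, 0} (Scheme.Modules.pushforward f) :=
    (Scheme.Modules.pullbackPushforwardAdjunction f).rightAdjoint_preservesLimits
  have : (Scheme.Modules.pushforward f).Additive := Functor.additive_of_preserves_binary_products _
  let ι := Functor.whiskerRight (ExtSupp.sheafHomMap (O := X.sheaf) S.g) (Scheme.Modules.pushforward f)
  let π := Functor.whiskerRight (ExtSupp.sheafHomMap (O := X.sheaf) S.f) (Scheme.Modules.pushforward f)
  have w : ι ≫ π = 0 := by
    ext N : 2
    exact ((Scheme.Modules.pushforward f).map_comp _ _).symm.trans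
      ((congrArg (Scheme.Modules.pushforward f).map (GrothLib.HomSES20.homMap_comp_zero S N)).trans
        ((Scheme.Modules.pushforward f).map_zero _ _))
  have hse : ∀ I : ModSite.Mod X.sheaf, Injective I → (GrothLib.FunSES25.seqAt ι π w I).ShortExact :=
    fun I hI => GrothLib.HomSES20.push_homSeq_shortExact S hS I f hI
  exact ⟨GrothLib.HomSES20.mono_zero ι π w hse G,
    fun p => ⟨_, GrothLib.HomSES20.exact₂ ι π w hse G p⟩,
    fun p => (GrothLib.FunSES25.δ ι π w hse p).app G,
    fun p => ⟨⟨_, GrothLib.FunSES25.exact₃ ι π w hse G p⟩, ⟨_, GrothLib.HomSES20.exact₁ ι π w hse G p⟩⟩⟩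

end Groth.Agent.S16289
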