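import Groth.Statements.S1629
import Groth.Agent.Lib.GRModel5.Basic

set_option autoImplicit false
universe u
open CategoryTheory CategoryTheory.Limits AlgebraicGeometry
open Variety

namespace Groth.Agent.S1629

/-- Let X be a k-scheme locally of finite type, having only finitely many irreducible components. There
is then a finite purely inseparable extension k' of k for which the reduction of X_{k'} (the closed
subscheme defined by the nilradical) is geometrically reduced over k'. -/
theorem result (k : Type u) [Field k] (X : Scheme.{u}) [X.Over (Spec (CommRingCat.of k))] [LocallyOfFiniteType (X ↘ (Spec (CommRingCat.of k)))]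
    (hirr : (irreducibleComponents (X : Type u)).Finite) :
    ∃ (k' : Type u) (_ : Field k') (_ : Algebra k k'), FiniteDimensional k k' ∧ IsPurelyInseparable k k' ∧
      GeometricallyReduced ((Curv2.bc k X k').nilradical.subschemeι ≫ Curv2.bcSnd k X k') := by
  exact GrothLib.GRModel5.exists_model k X hirr

end Groth.Agent.S1629
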