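import Groth.Statements.S16294
import Groth.Agent.Lib.FMAdj25.PointedApps
-- import your own Groth.Agent.* helpers here

set_option autoImplicit false
set_option maxHeartbeats 1000000
set_option linter.style.haveILetI false
set_option backward.isDefEq.respectTransparency false
universe u
open CategoryTheory CategoryTheory.Limits AlgebraicGeometry
attribute [local instance] HasDerivedCategory.standard
open Curves

namespace Groth.Agent.S16294

/-- Let k be an algebraically closed field and (X, D) a semi-stable n-pointed curve over k, taken in the
form: X is proper and connected over k, of dimension 1, with at-worst-nodal singularities; D ⊆ X is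
a finite closed set of points each having an open neighbourhood smooth over k; ω_X is the dualizing
module of X (degree -1 cohomology sheaf of f^! O for the structure morphism f, for any choice of the
data Rf_* on D_QCoh with its right adjoint); L_D is an invertible module with L_D ⊗ I_D ≅ O_X for
the ideal sheaf I_D of D with its reduced structure. Let (V, E, ends) be the dual graph of X over k
(vertices = irreducible components C_v, edges = singular points, each edge joining the components
through its node). Then (X, D) is stable, i.e. ω_X ⊗ L_D is ample, if and only if for every vertex v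
one has 2 p_a(C_v) - 2 + e_v + d_v > 0, where p_a(C_v) = dim_k H^1(C_v, O) for the reduced component
C_v, e_v is the number of nodes of X lying on C_v and on another component (non-loop edges at v) and
d_v is the number of marked points on C_v. (The published criterion is stated per component C̃_v of
the normalisation as 2 g(C̃_v) - 2 + n(C̃_v) > 0, n(C̃_v) counting its points over D and over the
nodes of X; since p_a(C_v) = g(C̃_v) + (number of nodes of X lying on C_v alone) and each such node
has two preimages in C̃_v, the two counts agree.) -/
theorem result (k : Type u) [Field k] [IsAlgClosed k] (X : Scheme.{u}) [X.Over (Spec (CommRingCat.of k))]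
    [IsProper (X ↘ (Spec (CommRingCat.of k)))] [ConnectedSpace X] (hdim : topologicalKrullDim X = 1) (hX : Curv2.AtWorstNodal k X)
    [DCoh.HasRpush (X ↘ (Spec (CommRingCat.of k)))] (h : DCoh.RpushPreservesQCoh (X ↘ (Spec (CommRingCat.of k)))) [DCoh.HasShriek (X ↘ (Spec (CommRingCat.of k))) h]
    (OY : DCoh.DQCoh (Spec (CommRingCat.of k))) (hOY : Nonempty (OY.obj ≅ DCoh.inD (Spec (CommRingCat.of k)) (Coh.structureModule (Spec (CommRingCat.of k)))))
    (D : Set X) (hDfin : D.Finite) (hDcl : IsClosed D) (hDsm : ∀ x ∈ D, ∃ U : X.Opens, x ∈ U ∧ Smooth (U.ι ≫ (X ↘ (Spec (CommRingCat.of k)))))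
    (LD : X.Modules) (hLD : PicF.IsInvertible LD)
    (hinv : ClSub.IsInverseOf LD (ClSub.idealMod (Scheme.IdealSheafData.vanishingIdeal (⟨D, hDcl⟩ : TopologicalSpace.Closeds X))))
    (V E : Type u) [Finite E] (cv : V → Set X) (ce : E → X) (ends : E → V × V)
    (hΓ : DualGr.IsDualGraph (X ↘ (Spec (CommRingCat.of k))) cv ce ends) :
    CohB1.IsAmple (CohB1.tensorMod (DCoh.dualizingMod (X ↘ (Spec (CommRingCat.of k))) h OY 1) LD) ↔
      ∀ v : V, 0 < 2 * (@Curv2.genus k _ (Scheme.IdealSheafData.vanishingIdeal (⟨cv v, isClosed_of_mem_irreducibleComponents (cv v) (hΓ.comp_mem v)⟩ : TopologicalSpace.Closeds X)).subscheme ⟨(Scheme.IdealSheafData.vanishingIdeal (⟨cv v, isClosed_of_mem_irreducibleComponents (cv v) (hΓ.comp_mem v)⟩ : TopologicalSpace.Closeds X)).subschemeι ≫ (X ↘ (Spec (CommRingCat.of k)))⟩ : ℤ) - 2 +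
        (Nat.card {e : E // (ends e).1 ≠ (ends e).2 ∧ ((ends e).1 = v ∨ (ends e).2 = v)} : ℤ) +
        (Nat.card ↥(D ∩ cv v) : ℤ) := by
  exact GrothLib.FMAdj25.isAmple_twist_iff_dualGraph h OY hOY hdim hX D hDfin hDcl LD hLD hinv V E cv ce ends hΓ

end Groth.Agent.S16294
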