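import Groth.Statements.S16297
import Groth.Agent.Lib.CurveMult.VeryAmpleGenusZero

set_option autoImplicit false
universe u
open CategoryTheory CategoryTheory.Limits AlgebraicGeometry
open Curves

namespace Groth.Agent.S16297

/-- Let k be a field and X a proper scheme over k of dimension one (not assumed reduced or irreducible)
with H^1(X, O_X) = 0, and let L be an ample invertible O_X-module. Then L is very ample: for some n
there is a closed immersion i : X → P^n_k over k with i^*O(1) isomorphic to L (existence of an
isomorphism only). -/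
theorem result (k : Type u) [Field k] (X : Scheme.{u}) [X.Over (Spec (CommRingCat.of k))]
    [IsProper (X ↘ (Spec (CommRingCat.of k)))] (hdim : topologicalKrullDim X = 1)
    (h1 : Subsingleton (Coh.HH X (Coh.structureModule X) 1))
    (L : X.Modules) (hA : CohB1.IsAmple L) :
    ∃ (n : ℕ) (i : X ⟶ CohB1.ProjSpace n k), IsClosedImmersion i ∧
      i ≫ CohB1.ProjSpace.toSpec n k = X ↘ (Spec (CommRingCat.of k)) ∧
      Nonempty ((Scheme.Modules.pullback i).obj (Twist.twistProjSpace n k 1) ≅ L) := by
  haveI : Nonempty X := by
    by_contra h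
    rw [not_nonempty_iff] at h
    haveI : IsEmpty (TopologicalSpace.IrreducibleCloseds X) := ⟨fun Z => h.false Z.2.1.some⟩
    rw [topologicalKrullDim, Order.krullDim_eq_bot] at hdim
    exact WithBot.bot_ne_coe (hdim : (⊥ : WithBot ℕ∞) = ((1 : ℕ∞) : WithBot ℕ∞))
  exact GrothLib.CurveMult.exists_closedImmersion_of_isAmple k hdim.le h1 hA

end Groth.Agent.S16297
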