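import Groth.Statements.S16298
import Groth.Agent.Lib.DeltaBC4.GeomReg
import Groth.Agent.Lib.NormFib.Birational
import Groth.Agent.Lib.CurveMult.GenusFinite
import Groth.Agent.Lib.Cohom.Compare


set_option autoImplicit false
set_option linter.all false
set_option backward.isDefEq.respectTransparency false
universe u
open CategoryTheory CategoryTheory.Limits AlgebraicGeometry
open Curves

namespace Groth.Agent.S16298

/-- Let k be a field and X a genus-zero curve over k, that is, an integral scheme proper over k of
dimension one with H^1(X, O_X) = 0. Then the normalization Y of X again satisfies H^1(Y, O_Y) = 0,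
so Y is again a genus-zero curve. (The two instance binders on the morphism from the generic point
always hold; they are only needed to form the normalization.) -/
theorem result (k : Type u) [Field k] (X : Scheme.{u}) [X.Over (Spec (CommRingCat.of k))]
    [IsIntegral X] [IsProper (X ↘ (Spec (CommRingCat.of k)))] (hdim : topologicalKrullDim X = 1)
    (h1 : Subsingleton (Coh.HH X (Coh.structureModule X) 1))
    [QuasiCompact (X.fromSpecStalk (genericPoint X))] [QuasiSeparated (X.fromSpecStalk (genericPoint X))] :
    Subsingleton (Coh.HH (Curv2.normalization X) (Coh.structureModule (Curv2.normalization X)) 1) := by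
  haveI := GrothLib.Euler.isNoetherian_of_proper (X := X) k
  haveI := GrothLib.DeltaBC4.isFinite_normalizationι k X
  haveI : IsAffineHom (Curv2.normalizationι X) := inferInstance
  obtain ⟨V, hne, hiso⟩ := GrothLib.NormFib.exists_isIso_of_finite ‹IsFinite (Curv2.normalizationι X)›
  haveI := hiso
  obtain ⟨hfin, hcl⟩ := GrothLib.CurveMult.GenusFinite.finite_compl_of_dense hdim.le (U := V)
    (IsOpen.dense V.isOpen hne)
  let η := ClSub.unitToPush (Curv2.normalizationι X)
  have hbij : ∀ x ∉ (V : Set X)ᶜ, Function.Bijective (GrothLib.QCoh.stalkLin η x) := by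
    intro x hx
    refine GrothLib.Euler.stalkLin_bijective_of_app_bijective η (O := V) (Set.notMem_compl_iff.1 hx) fun T hT => ?_
    show Function.Bijective ((Curv2.normalizationι X).app T)
    haveI : IsIso ((Curv2.normalizationι X ∣_ V).app (V.ι ⁻¹ᵁ T)) := inferInstance
    have hTT : V.ι ''ᵁ (V.ι ⁻¹ᵁ T) = T := by
      rw [Scheme.Hom.image_preimage_eq_opensRange_inf, Scheme.Opens.opensRange_ι]
      exact inf_eq_right.2 hT
    haveI : IsIso ((Curv2.normalizationι X).app (V.ι ''ᵁ (V.ι ⁻¹ᵁ T))) := by
      have h := morphismRestrict_app (Curv2.normalizationι X) V (V.ι ⁻¹ᵁ T)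
      have h2 : IsIso ((Curv2.normalizationι X).app (V.ι ''ᵁ (V.ι ⁻¹ᵁ T)) ≫
          (Curv2.normalization X).presheaf.map (eqToHom (image_morphismRestrict_preimage
            (Curv2.normalizationι X) V (V.ι ⁻¹ᵁ T))).op) := h ▸ inferInstance
      exact IsIso.of_isIso_comp_right _ ((Curv2.normalization X).presheaf.map (eqToHom (image_morphismRestrict_preimage
            (Curv2.normalizationι X) V (V.ι ⁻¹ᵁ T))).op)
    rw [← hTT]
    exact ConcreteCategory.bijective_of_isIso _
  have hsurj := GrothLib.Euler.surjective_hhMap_one k η hfin hcl hbij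
  haveI : (Coh.structureModule (Curv2.normalization X)).IsQuasicoherent :=
    GrothLib.InvExt.isQuasicoherent_of_isInvertible GrothLib.Euler.isInvertible_structure
  obtain ⟨e⟩ := GrothLib.Cohom.nonempty_HH_equiv_pushforward (Curv2.normalizationι X)
    (Coh.structureModule (Curv2.normalization X)) 1
  haveI := h1
  haveI : Subsingleton (Coh.HH X ((Scheme.Modules.pushforward (Curv2.normalizationι X)).obj
      (Coh.structureModule (Curv2.normalization X))) 1) := hsurj.subsingleton
  exact e.toEquiv.subsingleton

end Groth.Agent.S16298
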