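import Groth.Statements.S1630
import Groth.Agent.Lib.BaseChange.Irred

set_option autoImplicit false
universe u
open CategoryTheory CategoryTheory.Limits AlgebraicGeometry
open Variety

namespace Groth.Agent.S1630

/-- Let X be a scheme over k. If X has a cover by a nonempty family of open subschemes, each
geometrically irreducible over k and any two of which meet, then X is geometrically irreducible over
k. -/
theorem result (k : Type u) [Field k] (X : Scheme.{u}) [X.Over (Spec (CommRingCat.of k))]
    (ι : Type u) (U : ι → X.Opens) (hne : Nonempty ι) (hcov : (⨆ i, U i) = ⊤)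
    (hmeet : ∀ i j, ((U i : Set X) ∩ (U j : Set X)).Nonempty)
    (hU : ∀ i, GeometricallyIrreducible ((U i).ι ≫ (X ↘ (Spec (CommRingCat.of k))))) : GeometricallyIrreducible (X ↘ (Spec (CommRingCat.of k))) := by
    open GrothLib.BaseChange in
    rw [geometricallyIrreducible_iff_forall]
    intro K _ _
    let p := Curv2.bcFst k X K
    let b := Spec.map (CommRingCat.ofHom (algebraMap k K))
    have hV : ∀ i, IsIrreducible (p ⁻¹' (U i : Set X)) := by
      intro i
      let m := pullback.map ((U i).ι ≫ (X ↘ Spec (CommRingCat.of k))) b (X ↘ Spec (CommRingCat.of k)) b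
        (U i).ι (𝟙 _) (𝟙 _) (by simp) (by simp)
      have : IrreducibleSpace (pullback ((U i).ι ≫ (X ↘ Spec (CommRingCat.of k))) b : Scheme.{u}) :=
        pullback_of_geometrically (hU i).geometrically_irreducibleSpace K b
      have h := (IrreducibleSpace.isIrreducible_univ
        (pullback ((U i).ι ≫ (X ↘ Spec (CommRingCat.of k))) b : Scheme.{u})).image m m.continuous.continuousOn
      rw [Set.image_univ, Scheme.Pullback.range_map] at h
      convert! h using 1
      simp [p, b]
    obtain ⟨i₀⟩ := hne
    obtain ⟨g₀, hg₀⟩ := QuasiSober.sober (hV i₀).closure isClosed_closure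
    have hsp : ∀ z, g₀ ⤳ z := by
      intro z
      obtain ⟨i, hi⟩ : ∃ i, p z ∈ U i :=
        TopologicalSpace.Opens.mem_iSup.mp (hcov ▸ (trivial : p z ∈ (⊤ : X.Opens)))
      obtain ⟨g, hg⟩ := QuasiSober.sober (hV i).closure isClosed_closure
      obtain ⟨y, hy⟩ := hmeet i i₀
      obtain ⟨w, hw⟩ := p.surjective y
      have hwi : w ∈ closure (p ⁻¹' (U i : Set X)) := subset_closure (by simpa [hw] using hy.1)
      have hwi₀ : w ∈ p ⁻¹' (U i₀ : Set X) := by simpa [hw] using hy.2
      have hgi₀ : g ∈ p ⁻¹' (U i₀ : Set X) :=
        (hg.specializes hwi).mem_open ((U i₀).2.preimage p.continuous) hwi₀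
      exact (hg₀.specializes (subset_closure hgi₀)).trans (hg.specializes (subset_closure hi))
    rw [irreducibleSpace_def, Set.top_eq_univ, ← Set.eq_univ_of_forall fun z => (hsp z).mem_closure]
    exact isIrreducible_singleton.closure

end Groth.Agent.S1630
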