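import Groth.Statements.S16300
import Groth.Agent.Lib.GorGenusOne16.Main

set_option autoImplicit false
universe u
open CategoryTheory CategoryTheory.Limits AlgebraicGeometry
open Curves

namespace Groth.Agent.S16300

/-- Let k be a field and X a Gorenstein genus-one curve over k: an integral scheme, proper over k, of
dimension one, all of whose local rings are Gorenstein, with dim_k H^1(X, O_X) = 1. Let L be an
invertible O_X-module of degree at least 2 over k, and suppose there is a closed point P of X with
regular local ring and deg_k L > deg_k P, where deg_k P = dim_k H^0(P, O_P) for the reduced point P.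
Then L is globally generated. -/
theorem result (k : Type u) [Field k] (X : Scheme.{u}) [X.Over (Spec (CommRingCat.of k))]
    [IsIntegral X] [IsProper (X ↘ (Spec (CommRingCat.of k)))] (hdim : topologicalKrullDim X = 1)
    (hgor : ∀ x : X, LocCoh.IsGorensteinLocalRing (X.presheaf.stalk x)) (hg : Curv2.genus k X = 1)
    (L : X.Modules) (hL : PicF.IsInvertible L) (hdeg : 2 ≤ Curv2.deg k X L 1)
    (P : X) (hPc : IsClosed ({P} : Set X)) (hPreg : IsRegularLocalRing (X.presheaf.stalk P))
    (hdegP : (Module.finrank k (Coh.HH X (ClSub.quotMod (Scheme.IdealSheafData.vanishingIdeal ⟨{P}, hPc⟩)) 0) : ℤ) <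
      Curv2.deg k X L 1) :
    Curv2.IsGloballyGenerated L := by
  exact GrothLib.SubCurve16.isGloballyGenerated k hdim hL
    (GrothLib.SubCurve16.deg_hyp k hdim hL (by rw [hg]; exact_mod_cast hdeg))

end Groth.Agent.S16300
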