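import Groth.Statements.S16301
-- import your own Groth.Agent.* helpers here
import Groth.Agent.Lib.GenusZero28.Main
import Groth.Agent.Lib.CurveMult.RationalPoint
import Groth.Agent.Lib.CurveMult.TwistHom

set_option autoImplicit false
set_option maxHeartbeats 1600000
set_option linter.style.haveILetI false
set_option backward.isDefEq.respectTransparency false
universe u
open CategoryTheory CategoryTheory.Limits AlgebraicGeometry
open Curves

namespace Groth.Agent.S16301

/-- Let k be an infinite field and X a genus-zero curve over k, that is, an integral scheme proper over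
k of dimension one with H^1(X, O_X) = 0. Let P be a closed point of X whose local ring is regular
and whose degree deg_k P = dim_k H^0(P, O_P) is least among all closed points of X with regular
local ring, and let I_P be the ideal sheaf of the reduced point P (an invertible module, P being a
regular point of a curve; this is carried as a hypothesis). Then the Picard group of X is generated
by the class of I_P, equivalently by O_X(P): every class of an invertible O_X-module is an integer
power of the class of I_P (the group law on the Picard group is the tensor product, supplied by the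
binder). (The published statement is for an arbitrary base field; this row assumes k infinite, the
case in which the published argument applies: it twice replaces an ample divisor by a member of its
base-point-free complete linear system whose support avoids the finitely many non-regular points of
X, and over a finite field such a member need not exist.) -/
theorem result (k : Type u) [Field k] [Infinite k] (X : Scheme.{u}) [X.Over (Spec (CommRingCat.of k))]
    [IsIntegral X] [IsProper (X ↘ (Spec (CommRingCat.of k)))] (hdim : topologicalKrullDim X = 1)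
    (h1 : Subsingleton (Coh.HH X (Coh.structureModule X) 1))
    (P : X) (hPc : IsClosed ({P} : Set X)) (hPreg : IsRegularLocalRing (X.presheaf.stalk P))
    (hmin : ∀ (Q : X) (hQc : IsClosed ({Q} : Set X)), IsRegularLocalRing (X.presheaf.stalk Q) →
      Module.finrank k (Coh.HH X (ClSub.quotMod (Scheme.IdealSheafData.vanishingIdeal ⟨{P}, hPc⟩)) 0) ≤ Module.finrank k (Coh.HH X (ClSub.quotMod (Scheme.IdealSheafData.vanishingIdeal ⟨{Q}, hQc⟩)) 0))
    (hI : PicF.IsInvertible (ClSub.idealMod (Scheme.IdealSheafData.vanishingIdeal ⟨{P}, hPc⟩))) [PicGrp.Law X]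
    (c : PicLoc.PicSet X) :
    c ∈ Subgroup.zpowers (PicGrp.cls (ClSub.idealMod (Scheme.IdealSheafData.vanishingIdeal ⟨{P}, hPc⟩)) hI) := by
  have hIc := GrothLib.CurveMult.isEffCartierIdeal_point k hdim hPc hPreg
  set d := GrothLib.GenusZero28.degPt k P hPc with hd
  have hdI : Curv2.deg k X (ClSub.idealMod (Scheme.IdealSheafData.vanishingIdeal ⟨{P}, hPc⟩)) 1 = -(d : ℤ) :=
    GrothLib.CurveMult.deg_idealMod k hdim.le hIc
  have hpos : 0 < d := GrothLib.GenusZero28.degPt_pos k P hPc
  let δ : PicLoc.PicSet X → ℤ := fun c => Curv2.deg k X (PicGrp.exists_eq_cls c).choose 1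
  have hδ : ∀ (L : X.Modules) (hL : PicF.IsInvertible L), δ (PicGrp.cls L hL) = Curv2.deg k X L 1 := fun L hL => by
    obtain ⟨hM, he⟩ := (PicGrp.exists_eq_cls (PicGrp.cls L hL)).choose_spec
    obtain ⟨e⟩ := (PicGrp.cls_eq_cls_iff hL hM).1 he
    exact (GrothLib.Euler.deg_of_iso k e 1).symm
  have hmul : ∀ a b : PicLoc.PicSet X, δ (a * b) = δ a + δ b := fun a b => by
    obtain ⟨L, hL, rfl⟩ := PicGrp.exists_eq_cls a
    obtain ⟨M, hM, rfl⟩ := PicGrp.exists_eq_cls b
    rw [show PicGrp.cls L hL * PicGrp.cls M hM = PicGrp.cls _ (GrothLib.Ample.isInvertible_tensorMod hL hM) from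
      Subtype.ext (PicGrp.cls_mul_cls_val hL hM), hδ, hδ, hδ, GrothLib.CurveMult.deg_tensorMod k hdim.le hL hM]
  let φ : PicLoc.PicSet X →* Multiplicative ℤ := MonoidHom.mk' (fun c => Multiplicative.ofAdd (δ c)) fun a b => by
    rw [hmul, ofAdd_add]
  set i := PicGrp.cls (ClSub.idealMod (Scheme.IdealSheafData.vanishingIdeal ⟨{P}, hPc⟩)) hI with hi
  obtain ⟨m, hm⟩ : ∃ m : ℤ, m = δ c / (d : ℤ) := ⟨_, rfl⟩
  obtain ⟨L, hL, hc⟩ := PicGrp.exists_eq_cls (c * i ^ m)
  have hdeg : Curv2.deg k X L 1 = δ c % (d : ℤ) := by
    have h := congrArg φ hc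
    rw [map_mul, map_zpow] at h
    have h' := congrArg Multiplicative.toAdd h
    simp only [φ, MonoidHom.mk'_apply, toAdd_mul, toAdd_zpow, toAdd_ofAdd, smul_eq_mul, hδ, hi, hdI] at h'
    rw [← h', hm, Int.emod_def]
    ring
  obtain ⟨e⟩ := GrothLib.GenusZero28.nonempty_iso_of_deg_lt k hdim h1 hL (d := d)
    (fun Q hQ hQr => hmin Q hQ hQr) (hdeg ▸ Int.emod_nonneg _ (by exact_mod_cast hpos.ne'))
    (hdeg ▸ Int.emod_lt_of_pos _ (by exact_mod_cast hpos))
  have hone : PicGrp.cls L hL = 1 := by
    rw [← PicGrp.cls_structureModule_eq_one]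
    exact (PicGrp.cls_eq_cls_iff hL _).2 ⟨e.symm⟩
  rw [hone] at hc
  exact Subgroup.mem_zpowers_iff.2 ⟨-m, by rw [zpow_neg, eq_inv_of_mul_eq_one_left hc]⟩

end Groth.Agent.S16301
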