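import Groth.Statements.S16302
-- import your own Groth.Agent.* helpers here
import Groth.Agent.Lib.GenusZero28.Main
import Groth.Agent.Lib.CurveMult.RationalPoint
import Groth.Agent.Lib.CurveMult.TwistHom

set_option autoImplicit false
set_option maxHeartbeats 1600000
set_option linter.style.haveILetI false
set_option backward.isDefEq.respectTransparency false
universe u
open CategoryTheory CategoryTheory.Limits AlgebraicGeometry
open Curves

namespace Groth.Agent.S16302

/-- Let k be an infinite field and X a genus-zero curve over k, that is, an integral scheme proper over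
k of dimension one with H^1(X, O_X) = 0. Then the set of closed points P of X whose local ring is
regular and whose degree deg_k P = dim_k H^0(P, O_P) is least among all closed points with regular
local ring is infinite. -/
theorem result (k : Type u) [Field k] (X : Scheme.{u}) [X.Over (Spec (CommRingCat.of k))] [Infinite k]
    [IsIntegral X] [IsProper (X ↘ (Spec (CommRingCat.of k)))] (hdim : topologicalKrullDim X = 1)
    (h1 : Subsingleton (Coh.HH X (Coh.structureModule X) 1)) :
    {P : X | ∃ hPc : IsClosed ({P} : Set X), IsRegularLocalRing (X.presheaf.stalk P) ∧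
      ∀ (Q : X) (hQc : IsClosed ({Q} : Set X)), IsRegularLocalRing (X.presheaf.stalk Q) →
        Module.finrank k (Coh.HH X (ClSub.quotMod (Scheme.IdealSheafData.vanishingIdeal ⟨{P}, hPc⟩)) 0) ≤ Module.finrank k (Coh.HH X (ClSub.quotMod (Scheme.IdealSheafData.vanishingIdeal ⟨{Q}, hQc⟩)) 0)}.Infinite := by
  classical
  haveI := GrothLib.Euler.isNoetherian_of_proper (X := X) k
  haveI : LocallyOfFiniteType (X ↘ Spec (CommRingCat.of k)) := inferInstance
  haveI : JacobsonSpace X := LocallyOfFiniteType.jacobsonSpace (X ↘ Spec (CommRingCat.of k))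
  have hRη : IsRegularLocalRing (X.presheaf.stalk (genericPoint X)) := GrothLib.PrimeAlg2.isRegular_of_generic _ (by
    rw [irreducibleComponents_eq_singleton, Set.mem_singleton_iff]
    exact genericPoint_spec X)
  obtain ⟨x, hxR, hxc⟩ := nonempty_inter_closedPoints (Z := {x : X | IsRegularLocalRing (X.presheaf.stalk x)})
    ⟨_, hRη⟩ (GrothLib.PrimeAlg2.isOpen_regular (X ↘ Spec (CommRingCat.of k))).isLocallyClosed
  have hex : ∃ n : ℕ, ∃ (P : X) (hP : IsClosed ({P} : Set X)), IsRegularLocalRing (X.presheaf.stalk P) ∧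
      GrothLib.GenusZero28.degPt k P hP = n := ⟨_, x, mem_closedPoints_iff.1 hxc, hxR, rfl⟩
  obtain ⟨P, hP, hPreg, hPd⟩ := Nat.find_spec hex
  have hmin : ∀ (Q : X) (hQ : IsClosed ({Q} : Set X)), IsRegularLocalRing (X.presheaf.stalk Q) →
      GrothLib.GenusZero28.degPt k P hP ≤ GrothLib.GenusZero28.degPt k Q hQ := fun Q hQ hQr =>
    hPd ▸ Nat.find_min' hex ⟨Q, hQ, hQr, rfl⟩
  intro hfin
  have hI := GrothLib.CurveMult.isEffCartierIdeal_point k hdim hP hPreg
  obtain ⟨L, hL, hdeg, -, -⟩ := GrothLib.CurveMult.exists_inverse k hdim.le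
    (GrothLib.IdealModSec.isInvertible_of_isEffCartier hI)
  rw [GrothLib.CurveMult.deg_idealMod k hdim.le hI, neg_neg] at hdeg
  obtain ⟨σ, hσ0, -, hσ⟩ := GrothLib.GenusZero28.exists_section_avoiding k hdim h1 hL (hdeg ▸ Int.natCast_nonneg _) hfin
  obtain ⟨D, hD, hsupp, hd⟩ := GrothLib.GenusZero28.exists_divisor k hdim hL hσ0
  obtain ⟨y, hy⟩ : ∃ y : X, y ∉ CohB1.genLocus L σ := by
    by_contra hall
    push Not at hall
    have hpos := GrothLib.GenusZero28.degPt_pos k P hP
    have h0 : Module.finrank k (Coh.HH X (ClSub.quotMod D) 0) = 0 := by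
      haveI : Subsingleton Γ(ClSub.quotMod D, ⊤) :=
        subsingleton_of_forall_eq 0 fun t => GrothLib.QCoh.section_eq_zero_of_germ _ t fun z _ =>
          @Subsingleton.elim _ (GrothLib.QCoh.stalk_subsingleton_of_notMem fun hz => by
            have hzD : z ∈ (D.support : Set X) := by
              rw [← D.range_subschemeι]
              exact GrothLib.QCoh.support_pushforward_subset_range D.subschemeι _ hz
            rw [hsupp] at hzD
            exact hzD (hall z)) _ _
      haveI : Subsingleton (Coh.HH X (ClSub.quotMod D) 0) := (GrothLib.ProjCoh.H0top _).toEquiv.subsingleton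
      exact Module.finrank_zero_of_subsingleton
    rw [h0] at hd
    change Curv2.deg k X L 1 = ((GrothLib.GenusZero28.degPt k P hP : ℕ) : ℤ) at hdeg
    omega
  obtain ⟨hnot, hyreg, hyc, hle⟩ := hσ y hy
  refine hnot ⟨hyc, hyreg, fun Q hQ hQr => le_trans ?_ (hmin Q hQ hQr)⟩
  have : (GrothLib.GenusZero28.degPt k y hyc : ℤ) ≤ (GrothLib.GenusZero28.degPt k P hP : ℕ) := hle.trans hdeg.le
  exact_mod_cast this

end Groth.Agent.S16302
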