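import Groth.Statements.S16303
import Groth.Agent.Lib.RatTree12.RatIff
-- import your own Groth.Agent.* helpers here

set_option autoImplicit false
set_option backward.isDefEq.respectTransparency false
set_option maxHeartbeats 1000000
set_option linter.all false
universe u
open CategoryTheory CategoryTheory.Limits AlgebraicGeometry
open Resolve

namespace Groth.Agent.S16303

/-- Let k be a field and X a normal surface over k (an integral normal scheme, separated and of finite
type over k, of dimension two) whose only non-regular point is the closed point P. Let f : Y → X be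
a resolution: a proper morphism from an integral scheme Y of dimension two with all local rings
regular, restricting to an isomorphism over the complement of P. Then R^1 f_* O_Y = 0 (first higher
direct image of abelian sheaves), that is, P is a rational singularity, if and only if H^1(W, O_W) =
0 for every nonzero effective Cartier divisor W on Y (quasi-coherent ideal sheaf that is an
invertible module, with nonempty support) which is f-exceptional, that is, supported in the fibre of
f over P. (The published statement also has a third equivalent condition, the vanishing of H^1 of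
the structure sheaf of the fundamental cycle of f, not restated here.) -/
theorem result (k : Type u) [Field k] (X : Scheme.{u}) [X.Over (Spec (CommRingCat.of k))]
    [IsIntegral X] [IsSeparated (X ↘ (Spec (CommRingCat.of k)))] [LocallyOfFiniteType (X ↘ (Spec (CommRingCat.of k)))]
    [CompactSpace X] (hdim : topologicalKrullDim X = 2) (hnorm : Pi1.IsNormalScheme X)
    (P : X) (hPc : IsClosed ({P} : Set X)) (hP : ¬ IsRegularLocalRing (X.presheaf.stalk P))
    (hreg : ∀ x : X, x ≠ P → IsRegularLocalRing (X.presheaf.stalk x))
    (Y : Scheme.{u}) (f : Y ⟶ X) [IsIntegral Y] (hdimY : topologicalKrullDim Y = 2)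
    (hregY : ∀ y : Y, IsRegularLocalRing (Y.presheaf.stalk y)) [IsProper f]
    (hiso : IsIso (f ∣_ ⟨({P} : Set X)ᶜ, hPc.isOpen_compl⟩)) :
    IsZero ((Coh.RpushAb f 1).obj (Coh.toAb (Coh.structureModule Y))) ↔
      ∀ W : Y.IdealSheafData, PicF.IsInvertible (ClSub.idealMod W) → (W.support : Set Y).Nonempty →
        (W.support : Set Y) ⊆ f.base ⁻¹' {P} → Subsingleton (Coh.HH Y (ClSub.quotMod W) 1) := by
  haveI : IsLocallyNoetherian X := LocallyOfFiniteType.isLocallyNoetherian (X ↘ (Spec (CommRingCat.of k)))
  haveI : IsNoetherian X := {}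
  haveI : JacobsonSpace X := LocallyOfFiniteType.jacobsonSpace (X ↘ (Spec (CommRingCat.of k)))
  haveI : IsLocallyNoetherian Y := LocallyOfFiniteType.isLocallyNoetherian f
  haveI : CompactSpace Y := QuasiCompact.compactSpace_of_compactSpace f
  haveI : IsNoetherian Y := {}
  let U : X.Opens := ⟨({P} : Set X)ᶜ, hPc.isOpen_compl⟩
  haveI : IsIso (f ∣_ U) := hiso
  have hU : ((U : Set X)ᶜ).Finite := by
    show ((({P} : Set X)ᶜ)ᶜ).Finite
    rw [compl_compl]; exact Set.finite_singleton P
  obtain ⟨hne, hZ⟩ := GrothLib.ExcDim29.main f hnorm hdim hdimY hregY U hU hiso P hP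
  have hss : ∀ s : X, s ≠ P → (f.base ⁻¹' ({s} : Set X)).Subsingleton := by
    intro s hs a ha b hb
    have haU : a ∈ f ⁻¹ᵁ U := show f.base a ∈ U from (Set.mem_singleton_iff.1 ha).symm ▸ hs
    have hbU : b ∈ f ⁻¹ᵁ U := show f.base b ∈ U from (Set.mem_singleton_iff.1 hb).symm ▸ hs
    let a' : (f ⁻¹ᵁ U).toScheme := ⟨a, haU⟩
    let b' : (f ⁻¹ᵁ U).toScheme := ⟨b, hbU⟩
    have h1 : ((f ∣_ U) a').1 = f.base a :=
      congrArg (fun g : (f ⁻¹ᵁ U).toScheme ⟶ X => g.base a') (morphismRestrict_ι f U)
    have h2 : ((f ∣_ U) b').1 = f.base b :=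
      congrArg (fun g : (f ⁻¹ᵁ U).toScheme ⟶ X => g.base b') (morphismRestrict_ι f U)
    have h : a' = b' := (f ∣_ U).isOpenEmbedding.injective (Subtype.ext (by
      rw [h1, h2, Set.mem_singleton_iff.1 ha, Set.mem_singleton_iff.1 hb]))
    exact congrArg (fun z : (f ⁻¹ᵁ U).toScheme => z.1) h
  have hgen : genericPoint Y ∉ f.base ⁻¹' ({P} : Set X) := by
    intro h
    have hall : ∀ z : Y, f.base z = P := fun z =>
      (((genericPoint_spec Y).specializes trivial).mem_closed (hPc.preimage f.continuous) h)
    obtain ⟨u, hu⟩ : (U : Set X).Nonempty := by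
      by_contra h
      rw [Set.not_nonempty_iff_eq_empty] at h
      rw [h, Set.compl_empty] at hU
      haveI : Finite X := Set.finite_univ_iff.1 hU
      haveI : DiscreteTopology X := JacobsonSpace.discreteTopology (Set.toFinite _)
      have h0 : topologicalKrullDim X ≤ 0 := topologicalKrullDim_zero_of_discreteTopology X
      rw [hdim] at h0
      exact absurd h0 (by decide)
    obtain ⟨p, -⟩ := (f ∣_ U).homeomorph.surjective ⟨u, hu⟩
    exact p.2 (hall p.1)
  have hd : ∀ s : X, topologicalKrullDim ↥(f.base ⁻¹' ({s} : Set X)) ≤ 1 := by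
    intro s
    by_cases hs : s = P
    · subst hs
      exact GrothLib.EssDim.Conic.topologicalKrullDim_add_one_le (Subtype.val : ↥(f.base ⁻¹' ({s} : Set X)) → Y)
        (hPc.preimage f.continuous).isClosedEmbedding_subtypeVal
        (fun h => hgen (by
          obtain ⟨z, hz⟩ := h.ge (Set.mem_univ (genericPoint Y))
          exact hz ▸ z.2)) (n := 1) hdimY.le
    · haveI : Subsingleton ↥(f.base ⁻¹' ({s} : Set X)) := Set.subsingleton_coe _ |>.2 (hss s hs)
      haveI : Subsingleton (TopologicalSpace.IrreducibleCloseds ↥(f.base ⁻¹' ({s} : Set X))) := ⟨fun A B =>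
        SetLike.coe_injective ((Subsingleton.eq_univ_of_nonempty A.isIrreducible.nonempty).trans
          (Subsingleton.eq_univ_of_nonempty B.isIrreducible.nonempty).symm)⟩
      exact (Order.krullDim_nonpos_of_subsingleton).trans (by norm_num)
  constructor
  · intro hR W _ _ hW
    obtain ⟨V, hV, hPV, -⟩ := exists_isAffineOpen_mem_and_subset (show P ∈ (⊤ : X.Opens) from trivial)
    haveI := GrothLib.RatTree12.subsingleton_H1_sub f hd hR hV W fun z hz => by
      show f.base z ∈ V
      rw [Set.mem_singleton_iff.1 (hW hz)]; exact hPV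
    haveI := GrothLib.Cohom.isQuasicoherent_structureModule W.subscheme
    obtain ⟨e⟩ := GrothLib.Cohom.nonempty_HH_equiv_pushforward W.subschemeι (Coh.structureModule W.subscheme) 1
    exact e.symm.toEquiv.subsingleton
  · intro h
    obtain ⟨D, hD, hDs⟩ := GrothLib.RatTree12.exists_divisor hdimY hregY (f.base ⁻¹' ({P} : Set X))
      (hPc.preimage f.continuous) hZ
    refine GrothLib.RatTree12.isZero_R1_of_divisor f P hd hss D hDs fun m => ?_
    haveI := GrothLib.Cohom.isQuasicoherent_structureModule (D ^ m).subscheme
    obtain ⟨e⟩ := GrothLib.Cohom.nonempty_HH_equiv_pushforward (D ^ m).subschemeι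
      (Coh.structureModule (D ^ m).subscheme) 1
    suffices hq : Subsingleton (Coh.HH Y (ClSub.quotMod (D ^ m)) 1) from
      (@Equiv.subsingleton _ _ e.toEquiv hq)
    rcases m with _ | m
    · have hsupp : CohB1.support (ClSub.quotMod (D ^ 0)) ⊆ ∅ := fun x hx => by
        have := GrothLib.QCoh.support_pushforward_subset_range (D ^ 0).subschemeι _ hx
        rw [(D ^ 0).range_subschemeι, pow_zero, Scheme.IdealSheafData.one_eq_top,
          Scheme.IdealSheafData.support_top] at this
        exact this
      exact GrothLib.Euler.subsingleton_HH_of_finite_support _ (Set.finite_empty.subset hsupp)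
        (fun x hx => absurd (hsupp hx) (Set.notMem_empty x)) 1 le_rfl
    · refine h _ (GrothLib.IdealModSec.isInvertible_of_isEffCartier
        (GrothLib.RatTree12.isEffCartierIdeal_pow hD (m + 1))) ?_
        (hDs ▸ GrothLib.RatTree12.support_pow_subset D (m + 1))
      obtain ⟨z, hz⟩ := hne
      refine ⟨z, ?_⟩
      rw [pow_succ, Scheme.IdealSheafData.support_mul]
      exact Or.inr (hDs.symm.subset hz)

end Groth.Agent.S16303
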