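import Groth.Statements.S16305
import Groth.Agent.Lib.ZeroSub9.Main

set_option autoImplicit false
universe u
open CategoryTheory CategoryTheory.Limits AlgebraicGeometry
open ProjSp

namespace Groth.Agent.S16305

/-- Let k be a field and Z a zero-dimensional closed subscheme of projective N-space P^N_k, with closed
immersion i : Z → P^N_k. For an integer n write ρ_n : H^0(P^N_k, O(n)) → H^0(P^N_k, i_* i^* O(n)) =
H^0(Z, O(n)|_Z) for the map induced on global sections by the unit O(n) → i_* i^* O(n) (restriction
of sections to Z). If the image of ρ_1 has codimension at most one in H^0(Z, O(1)|_Z), in the sense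
that for some v every element is of the form ρ_1(s) + c v with c in k, then ρ_2 is surjective. -/
theorem result (k : Type u) [Field k] (N : ℕ)
    (Z : (CohB1.ProjSpace N k).IdealSheafData)
    (hZ : topologicalKrullDim (Z.support : Set (CohB1.ProjSpace N k)) ≤ 0) :
    letI : (CohB1.ProjSpace N k).Over (Spec (CommRingCat.of k)) := ⟨CohB1.ProjSpace.toSpec N k⟩
    (∃ v : (Coh.HH (CohB1.ProjSpace N k) ((Scheme.Modules.pushforward Z.subschemeι).obj
        ((Scheme.Modules.pullback Z.subschemeι).obj (Twist.twistProjSpace N k 1))) 0),
      ∀ t : (Coh.HH (CohB1.ProjSpace N k) ((Scheme.Modules.pushforward Z.subschemeι).obj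
        ((Scheme.Modules.pullback Z.subschemeι).obj (Twist.twistProjSpace N k 1))) 0),
        ∃ (s : Coh.HH (CohB1.ProjSpace N k) (Twist.twistProjSpace N k 1) 0) (c : k),
        t = @id (Coh.HH (CohB1.ProjSpace N k) ((Scheme.Modules.pushforward Z.subschemeι).obj
        ((Scheme.Modules.pullback Z.subschemeι).obj (Twist.twistProjSpace N k 1))) 0)
          (Sheaf.H.map ((SheafOfModules.toSheaf (CohB1.ProjSpace N k).ringCatSheaf).map
            ((Scheme.Modules.pullbackPushforwardAdjunction Z.subschemeι).unit.app (Twist.twistProjSpace N k 1))) 0 s) + c • v) →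
    Function.Surjective (fun s : Coh.HH (CohB1.ProjSpace N k) (Twist.twistProjSpace N k 2) 0 =>
      @id (Coh.HH (CohB1.ProjSpace N k) ((Scheme.Modules.pushforward Z.subschemeι).obj
        ((Scheme.Modules.pullback Z.subschemeι).obj (Twist.twistProjSpace N k 2))) 0)
          (Sheaf.H.map ((SheafOfModules.toSheaf (CohB1.ProjSpace N k).ringCatSheaf).map
            ((Scheme.Modules.pullbackPushforwardAdjunction Z.subschemeι).unit.app (Twist.twistProjSpace N k 2))) 0 s)) := by
  intro h
  exact GrothLib.ZeroSub9.restrict_surjective Z hZ h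

end Groth.Agent.S16305
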