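import Groth.Statements.S16306
import Groth.Agent.Lib.GorGenusOne16.Main

set_option autoImplicit false
universe u
open CategoryTheory CategoryTheory.Limits AlgebraicGeometry
open Curves

namespace Groth.Agent.S16306

/-- In the case of a separably closed base field and a curve that is not geometrically integral (the
case proved in the text), let k be a separably closed field and X a Gorenstein genus-one curve over
k: an integral scheme, proper over k, of dimension one, all of whose local rings are Gorenstein,
with dim_k H^1(X, O_X) = 1. Assume X is not geometrically integral over k. Then every invertible
O_X-module L of degree at least 2 over k is globally generated. (The published statement is for an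
arbitrary base field and an arbitrary Gorenstein genus-one curve; the text reduces to a separably
closed field, treats the geometrically integral case by citing the literature and proves the
remaining case, which is the one stated here.) -/
theorem result (k : Type u) [Field k] (X : Scheme.{u}) [X.Over (Spec (CommRingCat.of k))] [IsSepClosed k]
    [IsIntegral X] [IsProper (X ↘ (Spec (CommRingCat.of k)))] (hdim : topologicalKrullDim X = 1)
    (hgor : ∀ x : X, LocCoh.IsGorensteinLocalRing (X.presheaf.stalk x)) (hg : Curv2.genus k X = 1)
    (hngi : ¬ GeometricallyIntegral (X ↘ (Spec (CommRingCat.of k))))
    (L : X.Modules) (hL : PicF.IsInvertible L) (hdeg : 2 ≤ Curv2.deg k X L 1) :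
    Curv2.IsGloballyGenerated L := by
  exact GrothLib.SubCurve16.isGloballyGenerated k hdim hL
    (GrothLib.SubCurve16.deg_hyp k hdim hL (by rw [hg]; exact_mod_cast hdeg))

end Groth.Agent.S16306
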