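import Groth.Statements.S16307
import Groth.Agent.Lib.NormGenOne9.Main
import Groth.Agent.Lib.NormGenOne9.Transfer

set_option autoImplicit false
universe u
open CategoryTheory CategoryTheory.Limits AlgebraicGeometry
open Curves

namespace Groth.Agent.S16307

/-- In the case of a separably closed base field and a curve that is not geometrically integral (the
case proved in the text), let k be a separably closed field and X a Gorenstein genus-one curve over
k: an integral scheme, proper over k, of dimension one, all of whose local rings are Gorenstein,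
with dim_k H^1(X, O_X) = 1 (so H^0(X, O_X) = k). Assume that X is not geometrically integral over k.
Let L be an invertible O_X-module of degree at least 3 over k. Then the section ring ⊕_{m ≥ 0}
H^0(X, L^{⊗ m}) is generated in degree one: for every m, the global sections of L^{⊗ m} ⊗ L = L^{⊗
(m+1)} are spanned over H^0(X, O_X) by the sections a ⊗ b with a a global section of L^{⊗ m} and b a
global section of L; and L is very ample: for some n there is a closed immersion i : X → P^n_k over
k with i^*O(1) isomorphic to L (existence of an isomorphism only). (The published statement is for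
an arbitrary base field and any Gorenstein genus-one curve; the text reduces to a separably closed
field, cites the literature for the geometrically integral case, and proves the remaining case,
which is the one stated here.) -/
theorem result (k : Type u) [Field k] (X : Scheme.{u}) [X.Over (Spec (CommRingCat.of k))] [IsSepClosed k]
    [IsIntegral X] [IsProper (X ↘ (Spec (CommRingCat.of k)))] (hdim : topologicalKrullDim X = 1)
    (hgor : ∀ x : X, LocCoh.IsGorensteinLocalRing (X.presheaf.stalk x)) (hg : Curv2.genus k X = 1)
    (hngi : ¬ GeometricallyIntegral (X ↘ (Spec (CommRingCat.of k))))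
    (L : X.Modules) (hL : PicF.IsInvertible L) (hdeg : 3 ≤ Curv2.deg k X L 1) :
    (∀ m : ℕ, Submodule.span (X.ringCatSheaf.obj.obj (Opposite.op ⊤))
        (Set.range (fun p : (CohB1.tensorPow L m).val.obj (Opposite.op ⊤) × L.val.obj (Opposite.op ⊤) =>
          SecTwist.tmul (CohB1.tensorPow L m) L ⊤ p.1 p.2)) = ⊤) ∧
    ∃ (n : ℕ) (i : X ⟶ CohB1.ProjSpace n k), IsClosedImmersion i ∧
      i ≫ CohB1.ProjSpace.toSpec n k = X ↘ (Spec (CommRingCat.of k)) ∧
      Nonempty ((Scheme.Modules.pullback i).obj (Twist.twistProjSpace n k 1) ≅ L) := by
  haveI : Infinite k := (finite_or_infinite k).elim (fun h => IsAlgClosed.instInfinite) id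
  obtain ⟨c, ⟨e⟩⟩ := GrothLib.Ample.exists_cocycle hL
  have hd := hdim.le
  have hdeg' : 3 ≤ Curv2.deg k X (c.twist 1) 1 := by rw [← GrothLib.Euler.deg_of_iso k e]; exact hdeg
  have hA : CohB1.IsAmple L := (GrothLib.Euler.isAmple_iff_deg_pos k hdim hL).2 (by omega)
  have hc := ((c.isAmple_iff e).1 hA).2
  have h2g : 2 * (Curv2.genus k X : ℤ) ≤ Curv2.deg k X L 1 := by rw [hg]; push_cast; linarith
  have hhyp := GrothLib.SubCurve16.deg_hyp k hdim hL h2g
  have hgg : Curv2.IsGloballyGenerated L := GrothLib.SubCurve16.isGloballyGenerated k hdim hL hhyp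
  have hm1 : Subsingleton (Coh.HH X (CohB1.tensorPow L 1) 1) :=
    GrothLib.CMReg.subsingleton_of_iso (GrothLib.OX.tensorUnitLeftIso L).symm
      (GrothLib.NormGenOne9.subsingleton_H1 k hdim hL h2g)
  have hspan : ∀ m : ℕ, Submodule.span (X.ringCatSheaf.obj.obj (Opposite.op ⊤))
      (Set.range (fun p : (CohB1.tensorPow L m).val.obj (Opposite.op ⊤) × L.val.obj (Opposite.op ⊤) =>
        SecTwist.tmul (CohB1.tensorPow L m) L ⊤ p.1 p.2)) = ⊤ := by
    intro m
    match m with
    | 0 => exact GrothLib.CurveMult.span_tmul_structure L
    | 1 => exact GrothLib.NormGenOne9.span_one c e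
            fun z => GrothLib.NormGenOne9.square_generated k c hdim hg hdeg' hc z
    | m + 2 => exact GrothLib.CurveMult.span_tmul_tensorPow k hd hL hgg hm1 (by omega)
  refine ⟨hspan, GrothLib.NormGen9.exists_closedImmersion_of_pn k
    (GrothLib.NormGen9.isRelVeryAmplePn_of_gen (R := k) _ c e hc fun n t =>
      GrothLib.NormGen9.sect_generated c e n (fun _ => GrothLib.NormGen9.closure_eq_top _ _ (hspan n)) t)⟩

end Groth.Agent.S16307
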