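import Groth.Statements.S1631
import Groth.Agent.Lib.NodeAlg11.Basic
import Groth.Agent.Lib.CoeffField.Basic
import Mathlib.RingTheory.Etale.Field

set_option autoImplicit false
universe u
open Curves

namespace Groth.Agent.S1631

set_option backward.isDefEq.respectTransparency false


/-- For a Noetherian local k-algebra (A, m, κ), these two conditions are equivalent: (i) κ is separable
over k, A is reduced, m/m^2 has dimension two, and there are x, y spanning m modulo m^2 and a, b, c
∈ A whose residues form a nondegenerate quadratic form with a x^2 + b xy + c y^2 ∈ m^3; (ii) κ is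
separable over k and the m-adic completion of A is isomorphic, compatibly with the maps from k, to
κ[[u, v]]/(a' u^2 + b' uv + c' v^2) for a nondegenerate quadratic form over κ. -/
theorem result (k : Type u) [Field k] (A : Type u) [CommRing A] [IsLocalRing A] [IsNoetherianRing A]
    [Algebra k A] :
    (Algebra.IsSeparable k (IsLocalRing.ResidueField A) ∧ IsReduced A ∧
      Module.finrank (IsLocalRing.ResidueField A) (IsLocalRing.CotangentSpace A) = 2 ∧
      ∃ x y a b c : A, x ∈ IsLocalRing.maximalIdeal A ∧ y ∈ IsLocalRing.maximalIdeal A ∧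
        Ideal.span {x, y} ⊔ IsLocalRing.maximalIdeal A ^ 2 = IsLocalRing.maximalIdeal A ∧
        IsLocalRing.residue A (4 * a * c - b ^ 2) ≠ 0 ∧
        a * x ^ 2 + b * x * y + c * y ^ 2 ∈ IsLocalRing.maximalIdeal A ^ 3) ↔
    (Algebra.IsSeparable k (IsLocalRing.ResidueField A) ∧
      ∃ a b c : IsLocalRing.ResidueField A, 4 * a * c - b ^ 2 ≠ 0 ∧
        ∃ e : AdicCompletion (IsLocalRing.maximalIdeal A) A ≃+*
            (MvPowerSeries (Fin 2) (IsLocalRing.ResidueField A) ⧸ Ideal.span
              {(MvPowerSeries.C a * MvPowerSeries.X 0 ^ 2 + MvPowerSeries.C b * MvPowerSeries.X 0 * MvPowerSeries.X 1 +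
                MvPowerSeries.C c * MvPowerSeries.X 1 ^ 2 : MvPowerSeries (Fin 2) (IsLocalRing.ResidueField A))}),
          ∀ t : k, e (algebraMap A _ (algebraMap k A t)) =
            Ideal.Quotient.mk _ (MvPowerSeries.C (algebraMap A (IsLocalRing.ResidueField A) (algebraMap k A t)))) := by
  set κ := IsLocalRing.ResidueField A
  set S := AdicCompletion (IsLocalRing.maximalIdeal A) A
  constructor
  · rintro ⟨hsep, hred, hrk, x, y, a, b, c, hx, hy, hgen, hres, hq⟩
    refine ⟨hsep, ?_⟩
    have hm : IsLocalRing.maximalIdeal A = Ideal.span {x, y} :=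
      le_antisymm (Submodule.le_of_le_smul_of_le_jacobson_bot (IsNoetherian.noetherian _)
        (IsLocalRing.maximalIdeal_le_jacobson _) (by rw [smul_eq_mul, ← pow_two]; exact hgen.ge))
        (Ideal.span_le.2 (by rintro z (rfl | rfl); exacts [hx, hy]))
    have hd : IsUnit (b ^ 2 - 4 * a * c) := by
      rw [← IsLocalRing.residue_ne_zero_iff_isUnit, ← neg_sub, map_neg, neg_ne_zero]
      exact hres
    have hnp : ¬ (IsLocalRing.maximalIdeal A).IsPrincipal := fun h => by
      have := IsLocalRing.finrank_cotangentSpace_le_one_iff.2 h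
      omega
    have hA : GrothLib.NodeEt.NodeForm A := GrothLib.NodeAlg11.nodeForm_of_isReduced hnp hm hd (by rwa [← mul_assoc])
    have hS : GrothLib.NodeEt.NodeForm S := (GrothLib.NodeEt.nodeForm_completion_iff A).2 hA
    haveI : IsAdicComplete (IsLocalRing.maximalIdeal S) S := by
      rw [AdicCompletion.maximalIdeal_eq_map]
      exact AdicCompletion.isAdicComplete_self _ (IsLocalRing.maximalIdeal A).fg_of_isNoetherianRing
    let e0 : κ ≃ₐ[k] IsLocalRing.ResidueField S :=
      AlgEquiv.ofRingEquiv (f := RingEquiv.ofBijective _ (AdicCompletion.residueField_map_bijective A)) fun t => rfl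
    haveI : Algebra.FormallyEtale k κ := Algebra.FormallyEtale.of_isSeparable k κ
    haveI : Algebra.FormallySmooth k (IsLocalRing.ResidueField S) := Algebra.FormallySmooth.of_equiv e0
    obtain ⟨s, hs⟩ := GrothLib.CoeffField.exists_section k S
    let σ : κ →+* S := (s.comp e0.toAlgHom).toRingHom
    have hσ : Function.Surjective ((IsLocalRing.residue S).comp σ) := fun z =>
      ⟨e0.symm z, (hs _).trans (e0.apply_symm_apply z)⟩
    obtain ⟨a', b', c', hd', e, he⟩ := GrothLib.NodeEt.exists_standard σ hσ hS
    refine ⟨a', b', c', fun h => hd' (by linear_combination -h), e.symm.trans (Ideal.quotEquivOfEq (by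
      simp only [GrothLib.NodeEt.quadSeries, ← mul_assoc]; rfl)), fun t => ?_⟩
    have hσt : σ (algebraMap k κ t) = algebraMap A S (algebraMap k A t) :=
      (s.comp e0.toAlgHom).commutes t
    rw [RingEquiv.trans_apply, ← hσt, ← he, RingEquiv.symm_apply_apply, Ideal.quotEquivOfEq_mk]
    rfl
  · rintro ⟨hsep, a, b, c, hd, e, he⟩
    have hd' : b ^ 2 - 4 * a * c ≠ 0 := fun h => hd (by linear_combination -h)
    let e' : S ≃+* (MvPowerSeries (Fin 2) κ ⧸ Ideal.span {GrothLib.NodeEt.quadSeries κ a b c}) :=
      e.trans (Ideal.quotEquivOfEq (by simp only [GrothLib.NodeEt.quadSeries, ← mul_assoc]; rfl))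
    have hA : GrothLib.NodeEt.NodeForm A := (GrothLib.NodeEt.nodeForm_completion_iff A).1
      ((GrothLib.NodeEt.nodeForm_standard a b c hd').of_ringEquiv e'.symm)
    refine ⟨hsep, GrothLib.NodeAlg11.isReduced_of_nodeForm_completion hd' e',
      GrothLib.NodeAlg11.finrank_cotangentSpace_of_nodeForm hA, ?_⟩
    obtain ⟨u, v, a₁, b₁, c₁, hm, hdu, hq⟩ := hA.2
    refine ⟨u, v, a₁, b₁, c₁, hm ▸ Ideal.subset_span (by simp), hm ▸ Ideal.subset_span (by simp),
      by rw [← hm, sup_eq_left, pow_two]; exact Ideal.mul_le_left, ?_, by rwa [mul_assoc b₁]⟩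
    rw [← neg_sub, map_neg, neg_ne_zero, IsLocalRing.residue_ne_zero_iff_isUnit]
    exact hdu

end Groth.Agent.S1631
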