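import Groth.Statements.S16310
import Groth.Agent.Lib.Cvg7.Constants

set_option autoImplicit false
universe u
open W4c3irrattreebun

namespace Groth.Agent.S16310

/-- For a field extension K/k with field of constants k' (the relative algebraic closure of k in K), the
covering gonality of K over k equals the covering gonality of K over k'. (The published statement
takes K to be an algebraic function field over k; this row allows any field extension K/k.) -/
theorem result (k K : Type u) [Field k] [Field K] [Algebra k K] :
    W4c3irrattreebun.cvg k K = W4c3irrattreebun.cvg (algebraicClosure k K) K := by
  exact GrothLib.Cvg7.cvg_eq k K

end Groth.Agent.S16310
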