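import Groth.Statements.S16312
import Mathlib

set_option autoImplicit false
universe u
open W4c3irrattreebun

namespace Groth.Agent.S16312

/-- Let N be a closed cone in real n-space, f a function continuous on N, positive at the nonzero points
of N and homogeneous of degree one under scaling by nonnegative reals, and Λ a discrete additive
subgroup. Then for every real c the set of points H of Λ lying in N with f(H) ≤ c is finite. (The
published statement takes Λ to be a lattice; this row allows any discrete additive subgroup.) -/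
theorem result (n : ℕ)
    (N : Set (EuclideanSpace ℝ (Fin n))) (hN : IsClosed N)
    (hcone : ∀ x ∈ N, ∀ r : ℝ, 0 ≤ r → r • x ∈ N)
    (f : EuclideanSpace ℝ (Fin n) → ℝ) (hf : ContinuousOn f N)
    (hpos : ∀ x ∈ N, x ≠ 0 → 0 < f x)
    (hhom : ∀ x ∈ N, ∀ r : ℝ, 0 ≤ r → f (r • x) = r * f x)
    (Λ : Submodule ℤ (EuclideanSpace ℝ (Fin n))) [DiscreteTopology Λ] (c : ℝ) :
    ({x : EuclideanSpace ℝ (Fin n) | x ∈ N ∧ f x ≤ c} ∩ (Λ : Set (EuclideanSpace ℝ (Fin n)))).Finite := by
  let K : Set (EuclideanSpace ℝ (Fin n)) := N ∩ Metric.sphere 0 1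
  have hK : IsCompact K := (isCompact_sphere _ _).inter_left hN
  have hbd : Bornology.IsBounded {x : EuclideanSpace ℝ (Fin n) | x ∈ N ∧ f x ≤ c} := by
    rcases K.eq_empty_or_nonempty with hE | hne
    · refine (Metric.isBounded_closedBall (x := (0 : EuclideanSpace ℝ (Fin n))) (r := 0)).subset fun x hx => ?_
      by_cases h0 : x = 0
      · simp [h0]
      · have : ‖x‖⁻¹ • x ∈ K := ⟨hcone x hx.1 _ (by positivity), by simp [norm_smul, h0]⟩
        simp [hE] at this
    · obtain ⟨z, hz, hzmin⟩ := hK.exists_isMinOn hne (hf.mono Set.inter_subset_left)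
      have hz0 : z ≠ 0 := by intro h; have := hz.2; simp [h] at this
      have hzpos := hpos z hz.1 hz0
      refine (Metric.isBounded_closedBall (x := (0 : EuclideanSpace ℝ (Fin n))) (r := max 0 (c / f z))).subset fun x hx => ?_
      rw [Metric.mem_closedBall, dist_zero_right]
      by_cases h0 : x = 0
      · simp [h0]
      · have hnx : 0 < ‖x‖ := norm_pos_iff.2 h0
        have hu : ‖x‖⁻¹ • x ∈ K := ⟨hcone x hx.1 _ (by positivity), by simp [norm_smul, h0]⟩
        have h1 : f z ≤ f (‖x‖⁻¹ • x) := hzmin hu
        rw [hhom x hx.1 _ (by positivity)] at h1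
        refine le_max_of_le_right ?_
        rw [le_div_iff₀ hzpos]
        rw [inv_mul_eq_div, le_div_iff₀ hnx] at h1
        linarith [hx.2]
  haveI : DiscreteTopology Λ.toAddSubgroup := inferInstanceAs (DiscreteTopology Λ)
  refine Metric.finite_isBounded_inter_isClosed DiscreteTopology.isDiscrete hbd ?_
  exact AddSubgroup.isClosed_of_discrete (H := Λ.toAddSubgroup)

end Groth.Agent.S16312
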