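import Groth.Statements.S16313
import Groth.Agent.Lib.CvgBC4.Trans

set_option autoImplicit false
set_option linter.all false
universe u
open scoped TensorProduct
open W4c3irrattreebun

namespace Groth.Agent.S16313

/-- Let K/k be a finitely generated field extension whose field of constants is k (k is algebraically
closed in K), let L/k be any field extension, and let K' be a field which is the fraction field of K
⊗_k L, the L-algebra structure of K' being the one through the tensor product. Then the covering
gonality of K' over L equals the covering gonality of K over k. (The extension of K to L is taken to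
be the fraction field of the tensor product; when the tensor product has nonzero nilpotents there is
no such field and nothing is asserted.) -/
theorem result (k K L K' : Type u) [Field k] [Field K] [Field L]
    [Field K'] [Algebra k K] [Algebra k L]
    (hfg : (⊤ : IntermediateField k K).FG) (hconst : algebraicClosure k K = ⊥)
    [Algebra (K ⊗[k] L) K'] [IsFractionRing (K ⊗[k] L) K'] [Algebra L K']
    (hL : ∀ x : L, algebraMap L K' x = algebraMap (K ⊗[k] L) K' ((1 : K) ⊗ₜ[k] x)) :
    W4c3irrattreebun.cvg L K' = W4c3irrattreebun.cvg k K := by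
  letI : Algebra K K' := ((algebraMap (K ⊗[k] L) K').comp
    (Algebra.TensorProduct.includeLeftRingHom : K →+* K ⊗[k] L)).toAlgebra
  letI : Algebra k K' := ((algebraMap K K').comp (algebraMap k K)).toAlgebra
  haveI : IsScalarTower k K K' := IsScalarTower.of_algebraMap_eq fun _ => rfl
  haveI : IsScalarTower k L K' := IsScalarTower.of_algebraMap_eq fun x => by
    rw [hL]
    show algebraMap (K ⊗[k] L) K' (algebraMap k K x ⊗ₜ[k] (1 : L)) = _
    rw [Algebra.algebraMap_eq_smul_one (A := K) x, TensorProduct.smul_tmul,
      ← Algebra.algebraMap_eq_smul_one (A := L) x]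
  have hgen : ∀ S : Subfield K', (∀ x, algebraMap K K' x ∈ S) → (∀ y, algebraMap L K' y ∈ S) →
      ∀ z, z ∈ S := by
    intro S hK hL' z
    have h : ∀ a : K ⊗[k] L, algebraMap (K ⊗[k] L) K' a ∈ S := by
      intro a
      induction a with
      | zero => rw [map_zero]; exact zero_mem S
      | tmul x y =>
        rw [show x ⊗ₜ[k] y = (x ⊗ₜ[k] (1 : L)) * ((1 : K) ⊗ₜ[k] y) by simp, map_mul, ← hL]
        exact mul_mem (hK x) (hL' y)
      | add p q hp hq => rw [map_add]; exact add_mem hp hq
    obtain ⟨a, b, -, rfl⟩ := IsFractionRing.div_surjective (A := K ⊗[k] L) z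
    exact div_mem (h a) (h b)
  have hprod : ∀ z : K ⊗[k] L, Algebra.TensorProduct.productMap (IsScalarTower.toAlgHom k K K')
      (IsScalarTower.toAlgHom k L K') z = algebraMap (K ⊗[k] L) K' z := fun z => by
    induction z with
    | zero => simp
    | tmul x y =>
      rw [show x ⊗ₜ[k] y = (x ⊗ₜ[k] (1 : L)) * ((1 : K) ⊗ₜ[k] y) by simp, map_mul, map_mul,
        ← hL]
      simp only [Algebra.TensorProduct.productMap_apply_tmul, map_one, mul_one, one_mul]
      rfl
    | add p q hp hq => rw [map_add, map_add, hp, hq]
  have hinj : Function.Injective (algebraMap (K ⊗[k] L) K') := IsFractionRing.injective _ _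
  obtain ⟨G, hG⟩ := id hfg
  have halgG : ∀ z : K, IsAlgebraic (Algebra.adjoin k (G : Set K)) z := fun z =>
    IntermediateField.isAlgebraic_adjoin_iff.1 (by
      have hz : z ∈ IntermediateField.adjoin k (G : Set K) := by rw [hG]; trivial
      exact isAlgebraic_algebraMap (⟨z, hz⟩ : IntermediateField.adjoin k (G : Set K)))
  haveI : Algebra.IsAlgebraic (Algebra.adjoin k (G : Set K)) K := ⟨halgG⟩
  obtain ⟨T, hTG, hT⟩ := exists_isTranscendenceBasis_subset (R := k) (G : Set K)
  haveI : Fintype T := (G.finite_toSet.subset hTG).fintype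
  let eT := (Fintype.equivFin T).symm
  have hx : IsTranscendenceBasis k ((Subtype.val : T → K) ∘ eT) := hT.comp_equiv eT
  obtain ⟨Y, hY⟩ := exists_isTranscendenceBasis k L
  have hxL : AlgebraicIndependent L (algebraMap K K' ∘ ((Subtype.val : T → K) ∘ eT)) := by
    refine (GrothLib.CvgBC4.algebraicIndependent_of_tensor (A := L) (IsScalarTower.toAlgHom k K K')
      (fun z hz => ?_) hT.1).comp eT eT.injective
    have h : Algebra.TensorProduct.productMap (IsScalarTower.toAlgHom k L K') (IsScalarTower.toAlgHom k K K') z =
        algebraMap (K ⊗[k] L) K' (Algebra.TensorProduct.comm k L K z) := by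
      rw [← hprod]
      clear hz
      induction z with
      | zero => simp
      | tmul a b => simp [mul_comm]
      | add p q hp hq => simp only [map_add, hp, hq]
    rw [h] at hz
    exact (Algebra.TensorProduct.comm k L K).injective ((hinj (hz.trans (map_zero _).symm)).trans (map_zero _).symm)
  have hyK : AlgebraicIndependent K (algebraMap L K' ∘ (Subtype.val : Y → L)) :=
    GrothLib.CvgBC4.algebraicIndependent_of_tensor (A := K) (IsScalarTower.toAlgHom k L K')
      (fun z hz => hinj ((hprod z).symm.trans (hz.trans (map_zero _).symm))) hY.1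
  refine le_antisymm ?_ ?_
  · rcases Set.eq_empty_or_nonempty {e : ℕ | Nonempty (CovDiag.{u} k K e)} with h | h
    · have h' : {e : ℕ | Nonempty (CovDiag.{u} L K' e)} = ∅ := by
        refine Set.eq_empty_iff_forall_notMem.2 fun e ⟨D⟩ => ?_
        obtain ⟨e', -, D'⟩ := GrothLib.CvgBC4.descend_trans hgen hfg hx hxL hY hyK D
        exact Set.eq_empty_iff_forall_notMem.1 h e' D'
      simp [cvg, h, h']
    · obtain ⟨D⟩ := Nat.sInf_mem h
      obtain ⟨e', hle, D'⟩ := GrothLib.CvgBC4.ascend_trans hgen hx hxL D
      exact le_trans (Nat.sInf_le D') hle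
  · rcases Set.eq_empty_or_nonempty {e : ℕ | Nonempty (CovDiag.{u} L K' e)} with h | h
    · have h' : {e : ℕ | Nonempty (CovDiag.{u} k K e)} = ∅ := by
        refine Set.eq_empty_iff_forall_notMem.2 fun e ⟨D⟩ => ?_
        obtain ⟨e', -, D'⟩ := GrothLib.CvgBC4.ascend_trans hgen hx hxL D
        exact Set.eq_empty_iff_forall_notMem.1 h e' D'
      simp [cvg, h, h']
    · obtain ⟨D⟩ := Nat.sInf_mem h
      obtain ⟨e', hle, D'⟩ := GrothLib.CvgBC4.descend_trans hgen hfg hx hxL hY hyK D
      exact le_trans (Nat.sInf_le D') hle

end Groth.Agent.S16313
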