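import Groth.Statements.S16314
import Groth.Agent.Lib.CvgBC4.Main

set_option autoImplicit false
set_option linter.all false
universe u
open scoped TensorProduct
open W4c3irrattreebun

namespace Groth.Agent.S16314

/-- Let K/k be a finitely generated field extension whose field of constants is k, let L/k be an
algebraic separable extension, and let K' be a field which is the fraction field of K ⊗_k L, the
L-algebra structure of K' being the one through the tensor product. Then the separable covering
gonality of K' over L equals that of K over k. (The published statement allows any separable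
extension L/k, algebraic or not; this row assumes L/k algebraic and separable.) -/
theorem result (k K L K' : Type u) [Field k] [Field K] [Field L]
    [Field K'] [Algebra k K] [Algebra k L] [Algebra.IsSeparable k L]
    (hfg : (⊤ : IntermediateField k K).FG) (hconst : algebraicClosure k K = ⊥)
    [Algebra (K ⊗[k] L) K'] [IsFractionRing (K ⊗[k] L) K'] [Algebra L K']
    (hL : ∀ x : L, algebraMap L K' x = algebraMap (K ⊗[k] L) K' ((1 : K) ⊗ₜ[k] x)) :
    W4c3irrattreebun.scvg L K' = W4c3irrattreebun.scvg k K := by
  letI : Algebra K K' := ((algebraMap (K ⊗[k] L) K').comp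
    (Algebra.TensorProduct.includeLeftRingHom : K →+* K ⊗[k] L)).toAlgebra
  letI : Algebra k K' := ((algebraMap K K').comp (algebraMap k K)).toAlgebra
  haveI : IsScalarTower k K K' := IsScalarTower.of_algebraMap_eq fun _ => rfl
  haveI : IsScalarTower k L K' := IsScalarTower.of_algebraMap_eq fun x => by
    rw [hL]
    show algebraMap (K ⊗[k] L) K' (algebraMap k K x ⊗ₜ[k] (1 : L)) = _
    rw [Algebra.algebraMap_eq_smul_one (A := K) x, TensorProduct.smul_tmul,
      ← Algebra.algebraMap_eq_smul_one (A := L) x]
  have hgen : ∀ S : Subfield K', (∀ x, algebraMap K K' x ∈ S) → (∀ y, algebraMap L K' y ∈ S) →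
      ∀ z, z ∈ S := by
    intro S hK hL' z
    have h : ∀ a : K ⊗[k] L, algebraMap (K ⊗[k] L) K' a ∈ S := by
      intro a
      induction a with
      | zero => rw [map_zero]; exact zero_mem S
      | tmul x y =>
        rw [show x ⊗ₜ[k] y = (x ⊗ₜ[k] (1 : L)) * ((1 : K) ⊗ₜ[k] y) by simp, map_mul, ← hL]
        exact mul_mem (hK x) (hL' y)
      | add p q hp hq => rw [map_add]; exact add_mem hp hq
    obtain ⟨a, b, -, rfl⟩ := IsFractionRing.div_surjective (A := K ⊗[k] L) z
    exact div_mem (h a) (h b)
  haveI : Algebra.IsSeparable K K' := by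
    refine ⟨fun z => ?_⟩
    let S : IntermediateField K K' := separableClosure K K'
    have hz : z ∈ S.toSubfield := hgen S.toSubfield (fun x => S.algebraMap_mem x) (fun y => by
      refine mem_separableClosure_iff.2 ?_
      exact ((Algebra.IsSeparable.isSeparable k y).map (IsScalarTower.toAlgHom k L K')
        (algebraMap L K').injective).tower_top K) z
    exact mem_separableClosure_iff.1 hz
  refine le_antisymm ?_ ?_
  · rcases Set.eq_empty_or_nonempty {e : ℕ | ∃ D : CovDiag.{u} k K e, Algebra.IsSeparable K D.KC} with h | h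
    · have h' : {e : ℕ | ∃ D : CovDiag.{u} L K' e, Algebra.IsSeparable K' D.KC} = ∅ := by
        refine Set.eq_empty_iff_forall_notMem.2 fun e ⟨D, hD⟩ => ?_
        obtain ⟨e', -, D', hD'⟩ := GrothLib.CvgBC4.descend (K := K) hfg D
        exact Set.eq_empty_iff_forall_notMem.1 h e' ⟨D', hD' inferInstance hD⟩
      simp [scvg, h, h']
    · obtain ⟨D, hD⟩ := Nat.sInf_mem h
      obtain ⟨e', hle, D', hD'⟩ := GrothLib.CvgBC4.ascend hgen D
      exact le_trans (Nat.sInf_le ⟨D', hD' hD⟩) hle
  · rcases Set.eq_empty_or_nonempty {e : ℕ | ∃ D : CovDiag.{u} L K' e, Algebra.IsSeparable K' D.KC} with h | h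
    · have h' : {e : ℕ | ∃ D : CovDiag.{u} k K e, Algebra.IsSeparable K D.KC} = ∅ := by
        refine Set.eq_empty_iff_forall_notMem.2 fun e ⟨D, hD⟩ => ?_
        obtain ⟨e', -, D', hD'⟩ := GrothLib.CvgBC4.ascend hgen D
        exact Set.eq_empty_iff_forall_notMem.1 h e' ⟨D', hD' hD⟩
      simp [scvg, h, h']
    · obtain ⟨D, hD⟩ := Nat.sInf_mem h
      obtain ⟨e', hle, D', hD'⟩ := GrothLib.CvgBC4.descend (K := K) hfg D
      exact le_trans (Nat.sInf_le ⟨D', hD' inferInstance hD⟩) hle

end Groth.Agent.S16314
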