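import Groth.Statements.S16316
import Groth.Agent.Lib.CurveMult.CliffApp

set_option autoImplicit false
open CategoryTheory CategoryTheory.Limits AlgebraicGeometry
universe u
open Curves

namespace Groth.Agent.S16316

/-- Let k be an algebraically closed field of characteristic zero and X a smooth proper integral curve
over k (integral, proper and smooth over k, of dimension one) of genus 9 whose Clifford index is 1:
some invertible module M with h^0(M) ≥ 2 and h^1(M) ≥ 2 has deg M − 2(h^0(M) − 1) = 1, and every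
invertible module M with h^0(M) ≥ 2 and h^1(M) ≥ 2 has deg M − 2(h^0(M) − 1) ≥ 1 (degrees are χ(M) −
χ(O_X); in particular X is not hyperelliptic). Then X is trigonal: it carries a g^1_3, an invertible
module of degree 3 together with two k-linearly independent global sections. -/
theorem result
    (k : Type u) [Field k] [IsAlgClosed k] [CharZero k]
    (X : Scheme.{u}) [X.Over (Spec (CommRingCat.of k))] [IsIntegral X]
    [IsProper (X ↘ Spec (CommRingCat.of k))] [Smooth (X ↘ Spec (CommRingCat.of k))]
    (hdim : topologicalKrullDim X = 1) (hg : Curv2.genus k X = 9)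
    (hex : ∃ M : X.Modules, PicF.IsInvertible M ∧ 2 ≤ Module.finrank k (Coh.HH X M 0) ∧
      2 ≤ Module.finrank k (Coh.HH X M 1) ∧ Curv2.deg k X M 1 = 2 * (Module.finrank k (Coh.HH X M 0) : ℤ) - 1)
    (hmin : ∀ M : X.Modules, PicF.IsInvertible M → 2 ≤ Module.finrank k (Coh.HH X M 0) →
      2 ≤ Module.finrank k (Coh.HH X M 1) → 2 * (Module.finrank k (Coh.HH X M 0) : ℤ) - 1 ≤ Curv2.deg k X M 1) :
    ∃ (L : X.Modules) (s : Fin (1 + 1) → LinSer.Sect X L), LinSer.IsLinSer k X L 3 1 s := by
  haveI := GrothLib.CurveRR.regCurve_of_smooth (X ↘ (Spec (CommRingCat.of k))) hdim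
  have h0 := GrothLib.CurveRR.finrank_H0_structure_eq_one k (X := X)
  have hK := GrothLib.CurveRR.isFunctionField k h0
  have hgen := GrothLib.CurveRR.genus_eq k h0
  obtain ⟨C, hC⟩ := GrothLib.FunFld.exists_isCanonical hK
  obtain ⟨hlC, hdC⟩ := GrothLib.FunFld.ell_canonical hK hC
  have hb := GrothLib.CurveMult.CliffApp.bound k hC (c := 1) (fun M a b c => by
    have := hmin M a b c
    omega)
  have hD := GrothLib.CurveMult.CliffApp.exists_computing k hC (c := 1) (by
    obtain ⟨M, a, b, d, e⟩ := hex
    exact ⟨M, a, b, d, by omega⟩)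
  obtain ⟨E, hdE, hlE⟩ := GrothLib.FunFld.CliffIdx.exists_pencil_genus_nine hK hC (by omega) (by norm_num) (by norm_num) hb hD
  obtain ⟨s, hs⟩ := GrothLib.CurveMult.OmegaApp.exists_linSer k (D := E) (d := 3) (r := 1) (by rw [hdE]; rfl) hlE
  exact ⟨_, s, hs⟩

end Groth.Agent.S16316
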