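import Groth.Statements.S16319
import Groth.Agent.Lib.CurveMult.CliffApp

set_option autoImplicit false
open CategoryTheory CategoryTheory.Limits AlgebraicGeometry
universe u
open Curves

namespace Groth.Agent.S16319

/-- Let k be an algebraically closed field of characteristic zero and X a smooth proper integral curve
over k (integral, proper and smooth over k, of dimension one) of genus 9 whose Clifford index is 3:
some invertible module M with h^0(M) ≥ 2 and h^1(M) ≥ 2 has deg M − 2(h^0(M) − 1) = 3, and every
invertible module M with h^0(M) ≥ 2 and h^1(M) ≥ 2 has deg M − 2(h^0(M) − 1) ≥ 3 (degrees are χ(M) −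
χ(O_X); in particular X is not hyperelliptic); let H be an invertible module of degree 7 with h^0(H)
= 3 (a g^2_7) and D a globally generated invertible module of degree 5 with h^0(D) = 2 (a
base-point-free complete g^1_5). Then every module N with D ⊗ N ≅ H has h^0(N) = 1: the difference
of the two series is the class of an effective divisor of degree 2 with a one-dimensional space of
sections, so the pencil is cut out by the lines through a double point of the plane model of degree
7. -/
theorem result
    (k : Type u) [Field k] [IsAlgClosed k] [CharZero k]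
    (X : Scheme.{u}) [X.Over (Spec (CommRingCat.of k))] [IsIntegral X]
    [IsProper (X ↘ Spec (CommRingCat.of k))] [Smooth (X ↘ Spec (CommRingCat.of k))]
    (hdim : topologicalKrullDim X = 1) (hg : Curv2.genus k X = 9)
    (hex : ∃ M : X.Modules, PicF.IsInvertible M ∧ 2 ≤ Module.finrank k (Coh.HH X M 0) ∧
      2 ≤ Module.finrank k (Coh.HH X M 1) ∧ Curv2.deg k X M 1 = 2 * (Module.finrank k (Coh.HH X M 0) : ℤ) + 1)
    (hmin : ∀ M : X.Modules, PicF.IsInvertible M → 2 ≤ Module.finrank k (Coh.HH X M 0) →
      2 ≤ Module.finrank k (Coh.HH X M 1) → 2 * (Module.finrank k (Coh.HH X M 0) : ℤ) + 1 ≤ Curv2.deg k X M 1)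
    (H : X.Modules) (hH : PicF.IsInvertible H) (hdH : Curv2.deg k X H 1 = 7)
    (h0H : Module.finrank k (Coh.HH X H 0) = 3)
    (D : X.Modules) (hD : PicF.IsInvertible D) (hgD : Curv2.IsGloballyGenerated D)
    (hdD : Curv2.deg k X D 1 = 5) (h0D : Module.finrank k (Coh.HH X D 0) = 2)
    (N : X.Modules) (e : CohB1.tensorMod D N ≅ H) :
    Module.finrank k (Coh.HH X N 0) = 1 := by
  haveI := GrothLib.CurveRR.regCurve_of_smooth (X ↘ (Spec (CommRingCat.of k))) hdim
  have h0 := GrothLib.CurveRR.finrank_H0_structure_eq_one k (X := X)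
  have hK := GrothLib.CurveRR.isFunctionField k h0
  have hgen := GrothLib.CurveRR.genus_eq k h0
  obtain ⟨C, hC⟩ := GrothLib.FunFld.exists_isCanonical hK
  obtain ⟨hlC, hdC⟩ := GrothLib.FunFld.ell_canonical hK hC
  have hb := GrothLib.CurveMult.CliffApp.bound k hC (c := 3) (fun M a b c => by
    have := hmin M a b c
    omega)
  obtain ⟨A, ⟨eA⟩⟩ := GrothLib.CurveRR.exists_iso_oD k hD
  rw [GrothLib.CurveMult.OmegaApp.deg_of_iso k eA] at hdD
  rw [GrothLib.CurveMult.OmegaApp.finrank_H0_of_iso k eA] at h0D
  obtain ⟨B, ⟨eB⟩⟩ := GrothLib.CurveRR.exists_iso_oD k hH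
  rw [GrothLib.CurveMult.OmegaApp.deg_of_iso k eB] at hdH
  rw [GrothLib.CurveMult.OmegaApp.finrank_H0_of_iso k eB] at h0H
  obtain ⟨eN⟩ := GrothLib.CurveMult.CliffApp.exists_divisor_left k eA eB e
  rw [GrothLib.CurveMult.OmegaApp.finrank_H0_of_iso k eN]
  have hbpf : ∀ P, FunFld.ell (A - Finsupp.single P 1) < FunFld.ell A := fun P => by
    have := (GrothLib.CurveMult.isGloballyGenerated_iff_ell k hD eA).1 hgD P
    omega
  have htrick := GrothLib.CurveMult.CliffApp.two_mul_ell_le_of_pencil k (H := B) (D := A) h0D.ge hbpf h0D.le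
  have h1 := GrothLib.FunFld.riemann_roch' hK hC (B - A)
  have h2 := GrothLib.FunFld.riemann_roch' hK hC (B + A)
  rw [GrothLib.FunFld.deg_sub] at h1
  rw [GrothLib.FunFld.deg_add] at h2
  have hup : FunFld.ell (B - A) ≤ 1 := by
    by_contra hlt
    have := hb (B - A) (by omega) (by omega)
    rw [GrothLib.FunFld.deg_sub] at this
    omega
  by_contra hne
  have := hb (B + A) (by omega) (by omega)
  rw [GrothLib.FunFld.deg_add] at this
  omega

end Groth.Agent.S16319
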