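import Groth.Statements.S1632
import Groth.Agent.Lib.CplNormal29.Alteration
-- import your own Groth.Agent.* helpers here

set_option autoImplicit false
universe u
open CategoryTheory CategoryTheory.Limits AlgebraicGeometry
open Resolve

namespace Groth.Agent.S1632

/-- Let (A, m) be a Noetherian local domain such that Spec A admits an alteration X → Spec A with X
regular, and let B be the integral closure of A in its fraction field. Then the m-adic completion of
B is a normal ring. -/
theorem result (A : Type u) [CommRing A] [IsDomain A] [IsLocalRing A] [IsNoetherianRing A]
    (X : Scheme.{u}) (f : X ⟶ Spec (CommRingCat.of A)) (hf : Curv2.IsAlteration f)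
    (hreg : ∀ x : X, IsRegularLocalRing (X.presheaf.stalk x)) :
    EGA4.IsNormalRing (AdicCompletion ((IsLocalRing.maximalIdeal A).map
      (algebraMap A (integralClosure A (FractionRing A)))) (integralClosure A (FractionRing A))) := by
  exact GrothLib.CplNormal29.isNormalRing_completion f hf hreg

end Groth.Agent.S1632
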