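import Groth.Statements.S16320
import Groth.Agent.Lib.CurveMult.CliffApp

set_option autoImplicit false
open CategoryTheory CategoryTheory.Limits AlgebraicGeometry
universe u
open Curves

namespace Groth.Agent.S16320

/-- Let k be an algebraically closed field of characteristic zero and X a smooth proper integral curve
over k (integral, proper and smooth over k, of dimension one) of genus 9 whose Clifford index is 3:
some invertible module M with h^0(M) ≥ 2 and h^1(M) ≥ 2 has deg M − 2(h^0(M) − 1) = 3, and every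
invertible module M with h^0(M) ≥ 2 and h^1(M) ≥ 2 has deg M − 2(h^0(M) − 1) ≥ 3 (degrees are χ(M) −
χ(O_X); in particular X is not hyperelliptic), and let D be a globally generated invertible module
of degree 5 with h^0(D) = 2 (a base-point-free complete g^1_5). Then h^0(D^{⊗2}) is 3 or 4,
h^0(D^{⊗3}) is 7 or 8, and h^0(D^{⊗3}) = 7 whenever h^0(D^{⊗2}) = 3. (The published statement says,
equivalently by Riemann–Roch applied to the numbers h^0(K − iD) − h^0(K − (i+1)D) for a canonical
module K, that the rational normal fourfold scroll formed by the linear spans of the pencil's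
divisors in the canonical embedding has type S(2,1,1,1), S(2,2,1,0) or S(3,1,1,0); the scroll itself
is not restated here.) -/
theorem result
    (k : Type u) [Field k] [IsAlgClosed k] [CharZero k]
    (X : Scheme.{u}) [X.Over (Spec (CommRingCat.of k))] [IsIntegral X]
    [IsProper (X ↘ Spec (CommRingCat.of k))] [Smooth (X ↘ Spec (CommRingCat.of k))]
    (hdim : topologicalKrullDim X = 1) (hg : Curv2.genus k X = 9)
    (hex : ∃ M : X.Modules, PicF.IsInvertible M ∧ 2 ≤ Module.finrank k (Coh.HH X M 0) ∧
      2 ≤ Module.finrank k (Coh.HH X M 1) ∧ Curv2.deg k X M 1 = 2 * (Module.finrank k (Coh.HH X M 0) : ℤ) + 1)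
    (hmin : ∀ M : X.Modules, PicF.IsInvertible M → 2 ≤ Module.finrank k (Coh.HH X M 0) →
      2 ≤ Module.finrank k (Coh.HH X M 1) → 2 * (Module.finrank k (Coh.HH X M 0) : ℤ) + 1 ≤ Curv2.deg k X M 1)
    (D : X.Modules) (hD : PicF.IsInvertible D) (hgD : Curv2.IsGloballyGenerated D)
    (hdD : Curv2.deg k X D 1 = 5) (h0D : Module.finrank k (Coh.HH X D 0) = 2) :
    (Module.finrank k (Coh.HH X (CohB1.tensorPow D 2) 0) = 3 ∨
        Module.finrank k (Coh.HH X (CohB1.tensorPow D 2) 0) = 4) ∧
      (Module.finrank k (Coh.HH X (CohB1.tensorPow D 3) 0) = 7 ∨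
        Module.finrank k (Coh.HH X (CohB1.tensorPow D 3) 0) = 8) ∧
      (Module.finrank k (Coh.HH X (CohB1.tensorPow D 2) 0) = 3 →
        Module.finrank k (Coh.HH X (CohB1.tensorPow D 3) 0) = 7) := by
  haveI := GrothLib.CurveRR.regCurve_of_smooth (X ↘ (Spec (CommRingCat.of k))) hdim
  have h0 := GrothLib.CurveRR.finrank_H0_structure_eq_one k (X := X)
  have hK := GrothLib.CurveRR.isFunctionField k h0
  have hgen := GrothLib.CurveRR.genus_eq k h0
  obtain ⟨C, hC⟩ := GrothLib.FunFld.exists_isCanonical hK
  obtain ⟨hlC, hdC⟩ := GrothLib.FunFld.ell_canonical hK hC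
  have hb := GrothLib.CurveMult.CliffApp.bound k hC (c := 3) (fun M a b c => by
    have := hmin M a b c
    omega)
  obtain ⟨A, ⟨eA⟩⟩ := GrothLib.CurveRR.exists_iso_oD k hD
  rw [GrothLib.CurveMult.OmegaApp.deg_of_iso k eA] at hdD
  rw [GrothLib.CurveMult.OmegaApp.finrank_H0_of_iso k eA] at h0D
  obtain ⟨e2⟩ := GrothLib.CurveRR.nonempty_tensorPow_iso k eA 2
  obtain ⟨e3⟩ := GrothLib.CurveRR.nonempty_tensorPow_iso k eA 3
  rw [GrothLib.CurveMult.OmegaApp.finrank_H0_of_iso k e2, GrothLib.CurveMult.OmegaApp.finrank_H0_of_iso k e3,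
    two_nsmul, show 3 • A = A + A + A by abel]
  have hbpf : ∀ P, FunFld.ell (A - Finsupp.single P 1) < FunFld.ell A := fun P => by
    have := (GrothLib.CurveMult.isGloballyGenerated_iff_ell k hD eA).1 hgD P
    omega
  have htrick := GrothLib.CurveMult.CliffApp.two_mul_ell_le_of_pencil k (H := A) (D := A) h0D.ge hbpf h0D.le
  rw [sub_self, GrothLib.FunFld.ell_zero hK] at htrick
  have h2 := GrothLib.FunFld.riemann_roch' hK hC (A + A)
  have h3 := GrothLib.FunFld.riemann_roch' hK hC (A + A + A)
  rw [GrothLib.FunFld.deg_add] at h2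
  rw [GrothLib.FunFld.deg_add, GrothLib.FunFld.deg_add] at h3
  have hup2 : FunFld.ell (A + A) ≤ 4 := by
    by_contra hlt
    have := hb (A + A) (by omega) (by omega)
    rw [GrothLib.FunFld.deg_add] at this
    omega
  have hup3 : FunFld.ell (C - (A + A + A)) ≤ 1 := by
    by_contra hlt
    have := hb (C - (A + A + A)) (by omega) (by rw [sub_sub_cancel]; omega)
    rw [GrothLib.FunFld.deg_sub, GrothLib.FunFld.deg_add, GrothLib.FunFld.deg_add] at this
    omega
  refine ⟨by omega, by omega, fun h => ?_⟩
  by_contra hne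
  have hs := GrothLib.CurveRR.FF.ell_add_ell_le hK (D := C - (A + A + A)) (E := A) (by omega) (by omega)
  rw [show C - (A + A + A) + A = C - (A + A) by abel] at hs
  omega

end Groth.Agent.S16320
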