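import Groth.Statements.S16321
import Groth.Agent.Lib.GrSyz.Unique

set_option autoImplicit false
universe u
open GrSyz

namespace Groth.Agent.S16321

/-- Let k be an algebraically closed field of characteristic zero, S = k[x_0, …, x_n] graded by degree,
𝔪 = (x_0, …, x_n) its irrelevant ideal and M a finitely generated ℤ-graded S-module. Then any two
minimal graded free resolutions F, F′ of M (by free modules of finite rank with homogeneous bases,
every matrix entry of every differential lying in 𝔪) have the same graded Betti numbers: for all i
and j, the number of basis vectors of F_i of degree j equals the number of basis vectors of F′_i of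
degree j. (The published statement says that any two minimal resolutions are isomorphic as complexes
over the identity of M; this row states only the resulting equality of graded Betti numbers, which
is the consequence the text itself draws.) -/
theorem result (k : Type u) [Field k] [IsAlgClosed k] [CharZero k] (n : ℕ)
    (M : Type u) [AddCommGroup M] [Module k M] [Module (MvPolynomial (Fin (n + 1)) k) M]
    [IsScalarTower k (MvPolynomial (Fin (n + 1)) k) M] [Module.Finite (MvPolynomial (Fin (n + 1)) k) M]
    (ℳ : ℤ → Submodule k M) [DirectSum.Decomposition ℳ] [SetLike.GradedSMul (GrSyz.stdGr k (Fin (n + 1))) ℳ]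
    (F F' : GrSyz.FreeRes (GrSyz.stdGr k (Fin (n + 1))) ℳ)
    (hF : F.IsMinimal (GrSyz.irrel (GrSyz.stdGr k (Fin (n + 1)))).toIdeal)
    (hF' : F'.IsMinimal (GrSyz.irrel (GrSyz.stdGr k (Fin (n + 1)))).toIdeal) (i : ℕ) (j : ℤ) :
    F.betti i j = F'.betti i j := by
  exact GrothLib.GrSyz.betti_eq F F' hF hF' i j

end Groth.Agent.S16321
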