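import Groth.Statements.S16322
import Groth.Agent.Lib.CurveMult.CliffApp

set_option autoImplicit false
open CategoryTheory CategoryTheory.Limits AlgebraicGeometry
universe u
open Curves

namespace Groth.Agent.S16322

/-- Let k be a characteristic-zero algebraically closed field and X a smooth proper integral curve over
k (integral, proper and smooth over k, of dimension one) of genus 9 whose Clifford index is 3: some
invertible module M with h^0(M) ≥ 2 and h^1(M) ≥ 2 has deg M − 2(h^0(M) − 1) = 3, and every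
invertible module M with h^0(M) ≥ 2 and h^1(M) ≥ 2 has deg M − 2(h^0(M) − 1) ≥ 3 (degrees are χ(M) −
χ(O_X); in particular X is not hyperelliptic), and let D₁, D₂ be two non-isomorphic globally
generated invertible modules of degree 5 with h^0(D₁) = h^0(D₂) = 2 (two different base-point-free
complete pencils of degree 5). Then h^0(D₁ ⊗ D₂) = 4. (In the published statement the two pencils
are the ones cut out by the two rulings on a model of the curve in a blow-up of P^1 × P^1; the
printed argument for this equality uses only that they are different base-point-free pencils of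
degree 5 on a genus-9 curve of Clifford index 3, which is what is stated here; the further printed
assertion on a third pencil is not restated.) -/
theorem result
    (k : Type u) [Field k] [IsAlgClosed k] [CharZero k]
    (X : Scheme.{u}) [X.Over (Spec (CommRingCat.of k))] [IsIntegral X]
    [IsProper (X ↘ Spec (CommRingCat.of k))] [Smooth (X ↘ Spec (CommRingCat.of k))]
    (hdim : topologicalKrullDim X = 1) (hg : Curv2.genus k X = 9)
    (hex : ∃ M : X.Modules, PicF.IsInvertible M ∧ 2 ≤ Module.finrank k (Coh.HH X M 0) ∧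
      2 ≤ Module.finrank k (Coh.HH X M 1) ∧ Curv2.deg k X M 1 = 2 * (Module.finrank k (Coh.HH X M 0) : ℤ) + 1)
    (hmin : ∀ M : X.Modules, PicF.IsInvertible M → 2 ≤ Module.finrank k (Coh.HH X M 0) →
      2 ≤ Module.finrank k (Coh.HH X M 1) → 2 * (Module.finrank k (Coh.HH X M 0) : ℤ) + 1 ≤ Curv2.deg k X M 1)
    (D₁ D₂ : X.Modules) (h₁ : PicF.IsInvertible D₁) (h₂ : PicF.IsInvertible D₂)
    (hg₁ : Curv2.IsGloballyGenerated D₁) (hg₂ : Curv2.IsGloballyGenerated D₂)
    (hd₁ : Curv2.deg k X D₁ 1 = 5) (hd₂ : Curv2.deg k X D₂ 1 = 5)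
    (h0₁ : Module.finrank k (Coh.HH X D₁ 0) = 2) (h0₂ : Module.finrank k (Coh.HH X D₂ 0) = 2)
    (hne : IsEmpty (D₁ ≅ D₂)) :
    Module.finrank k (Coh.HH X (CohB1.tensorMod D₁ D₂) 0) = 4 := by
  haveI := GrothLib.CurveRR.regCurve_of_smooth (X ↘ (Spec (CommRingCat.of k))) hdim
  have h0 := GrothLib.CurveRR.finrank_H0_structure_eq_one k (X := X)
  have hK := GrothLib.CurveRR.isFunctionField k h0
  have hgen := GrothLib.CurveRR.genus_eq k h0
  obtain ⟨C, hC⟩ := GrothLib.FunFld.exists_isCanonical hK
  obtain ⟨hlC, hdC⟩ := GrothLib.FunFld.ell_canonical hK hC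
  have hb := GrothLib.CurveMult.CliffApp.bound k hC (c := 3) (fun M a b c => by
    have := hmin M a b c
    omega)
  obtain ⟨A, ⟨eA⟩⟩ := GrothLib.CurveRR.exists_iso_oD k h₁
  rw [GrothLib.CurveMult.OmegaApp.deg_of_iso k eA] at hd₁
  rw [GrothLib.CurveMult.OmegaApp.finrank_H0_of_iso k eA] at h0₁
  obtain ⟨B, ⟨eB⟩⟩ := GrothLib.CurveRR.exists_iso_oD k h₂
  rw [GrothLib.CurveMult.OmegaApp.deg_of_iso k eB] at hd₂
  rw [GrothLib.CurveMult.OmegaApp.finrank_H0_of_iso k eB] at h0₂
  obtain ⟨e⟩ := GrothLib.CurveRR.nonempty_tensor_iso k eA eB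
  rw [GrothLib.CurveMult.OmegaApp.finrank_H0_of_iso k e]
  have hbpf : ∀ P, FunFld.ell (B - Finsupp.single P 1) < FunFld.ell B := fun P => by
    have := (GrothLib.CurveMult.isGloballyGenerated_iff_ell k h₂ eB).1 hg₂ P
    omega
  have htrick := GrothLib.CurveMult.CliffApp.two_mul_ell_le_of_pencil k (H := A) (D := B) h0₂.ge hbpf h0₂.le
  have hz : FunFld.ell (A - B) = 0 := by
    by_contra hne0
    obtain ⟨x, hx0, -, hx⟩ := GrothLib.FunFld.IsFG.exists_of_ell_pos hK.1 (Nat.pos_of_ne_zero hne0)
    have hx' : A - B + FunFld.div k x = 0 := by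
      by_contra hnz
      obtain ⟨P, hP⟩ := GrothLib.FunFld.exists_single_le hx hnz
      have h3 := GrothLib.FunFld.deg_mono hP
      rw [GrothLib.FunFld.deg_single, GrothLib.FunFld.deg_add, GrothLib.FunFld.IsFG.deg_div hK.1,
        GrothLib.FunFld.deg_sub, GrothLib.CurveMult.deg_place_eq_one k P] at h3
      push_cast at h3
      omega
    obtain ⟨e'⟩ := GrothLib.CurveMult.DivIso.nonempty_iso_of_sub_mem k (D := A) (E := B) (by
      rw [eq_neg_of_add_eq_zero_left hx']
      exact AddSubgroup.neg_mem _ ((GrothLib.FunFld.mem_prinDivs_iff hK.1 _).2 ⟨x, hx0, rfl⟩))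
    exact hne.false (eA ≪≫ e' ≪≫ eB.symm)
  have h2 := GrothLib.FunFld.riemann_roch' hK hC (A + B)
  rw [GrothLib.FunFld.deg_add] at h2
  have hup : FunFld.ell (A + B) ≤ 4 := by
    by_contra hlt
    have := hb (A + B) (by omega) (by omega)
    rw [GrothLib.FunFld.deg_add] at this
    omega
  omega

end Groth.Agent.S16322
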