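import Groth.Statements.S16324
import Groth.Agent.Lib.GrAB27.RegTop
-- import your own Groth.Agent.* helpers here

set_option autoImplicit false
universe u
open GrSyz

namespace Groth.Agent.S16324

/-- Let k be an algebraically closed field of characteristic zero, S = k[x_0, …, x_n] graded by degree,
𝔪 = (x_0, …, x_n), and M a finitely generated ℤ-graded S-module which is Cohen–Macaulay: the Krull
dimension of its support equals its 𝔪-depth. Let F be a minimal graded free resolution of M of
length exactly ℓ (F_ℓ ≠ 0, F_i = 0 for i > ℓ; so ℓ = pd M) and let ρ be its regularity: every basis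
vector of F_i has degree at most ρ + i, with equality for some i and some basis vector (so ρ = reg
M). Let P be the Hilbert polynomial of M, i.e. a polynomial over ℚ with dim_k M_d = P(d) for all
sufficiently large d. Then dim_k M_d ≠ P(d) for d = ρ + ℓ − n − 1: the bound d ≥ reg M + pd M − n
beyond which the Hilbert function agrees with the Hilbert polynomial is sharp for Cohen–Macaulay
modules. (Part (1) of the published statement, the agreement for d ≥ reg M + pd M − n, follows from
the agreement for d at least the largest generator degree minus n and is not restated.) -/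
theorem result (k : Type u) [Field k] [IsAlgClosed k] [CharZero k] (n : ℕ)
    (M : Type u) [AddCommGroup M] [Module k M] [Module (MvPolynomial (Fin (n + 1)) k) M]
    [IsScalarTower k (MvPolynomial (Fin (n + 1)) k) M] [Module.Finite (MvPolynomial (Fin (n + 1)) k) M]
    (ℳ : ℤ → Submodule k M) [DirectSum.Decomposition ℳ] [SetLike.GradedSMul (GrSyz.stdGr k (Fin (n + 1))) ℳ]
    (hCM : Module.supportDim (MvPolynomial (Fin (n + 1)) k) M = ((LocCoh.idealDepth (GrSyz.irrel (GrSyz.stdGr k (Fin (n + 1)))).toIdeal M : ℕ∞) : WithBot ℕ∞))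
    (F : GrSyz.FreeRes (GrSyz.stdGr k (Fin (n + 1))) ℳ) (hF : F.IsMinimal (GrSyz.irrel (GrSyz.stdGr k (Fin (n + 1)))).toIdeal)
    (ℓ : ℕ) (hℓ : F.HasLengthLE ℓ) (hℓ' : F.rk ℓ ≠ 0)
    (ρ : ℤ) (hρ : F.IsGenLE ρ) (hρ' : ∃ (i : ℕ) (b : Fin (F.rk i)), F.deg i b = ρ + i)
    (P : Polynomial ℚ) (hP : ∃ d₁ : ℤ, ∀ d : ℤ, d₁ ≤ d → ((Module.finrank k ↥(ℳ d) : ℤ) : ℚ) = P.eval (d : ℚ)) :
    ((Module.finrank k ↥(ℳ (ρ + ℓ - n - 1)) : ℤ) : ℚ) ≠ P.eval ((ρ + ℓ - n - 1 : ℤ) : ℚ) := by
  have hAB := GrothLib.GrAB27.idealDepth_add_length F hF ℓ hℓ hℓ'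
  haveI : Nontrivial M := by
    by_contra h
    rw [not_nontrivial_iff_subsingleton] at h
    rw [Module.supportDim_eq_bot_of_subsingleton] at hCM
    exact WithBot.bot_ne_coe hCM
  obtain ⟨e, he⟩ := ENat.ne_top_iff_exists.1 (show LocCoh.idealDepth (GrSyz.irrel (GrSyz.stdGr k (Fin (n + 1)))).toIdeal M ≠ ⊤ from fun h => by rw [h, add_top] at hAB; exact ENat.natCast_ne_top _ hAB.symm)
  have hExt := GrothLib.GrAB27.subsingleton_ext_of_dim_le (k := k) (n := n + 1) (M := M) ℓ (by
    rw [hCM, ← WithBot.coe_add, add_comm, hAB])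
  exact GrothLib.GrAB27.hilbert_ne F hℓ ρ hρ (GrothLib.GrAB27.exists_top_deg F hF hExt hℓ ρ hρ hρ') P hP

end Groth.Agent.S16324
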