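import Groth.Statements.S16329
import Mathlib

set_option autoImplicit false
universe v
open CategoryTheory
open W4c3biextchow

namespace Groth.Agent.S16329

theorem free_of_addEquiv {M N : Type*} [AddCommGroup M] [AddCommGroup N] {mM mM' : Module ℤ M}
    {mN : Module ℤ N} (h : @Module.Free ℤ M _ _ mM) (e : letI := mM'; letI := mN; M ≃ₗ[ℤ] N) :
    @Module.Free ℤ N _ _ mN := by
  obtain rfl : mM = mM' := Subsingleton.elim _ _
  exact h.of_equiv' e

open CategoryTheory CategoryTheory.Limits HomologicalComplex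
open scoped ZeroObject

/-- A short exact sequence of ℕ-indexed chain complexes, degreewise split, with acyclic projective
cokernel, splits as complexes. -/
theorem exists_retraction_of_shortExact {C : Type*} [Category C] [Abelian C]
    (S : ShortComplex (ChainComplex C ℕ)) (hS : S.ShortExact)
    (hacyc : S.X₃.Acyclic) (hproj : ∀ q, Projective (S.X₃.X q)) :
    ∃ g : S.X₂ ⟶ S.X₁, S.f ≫ g = 𝟙 S.X₁ := by
  have hSq : ∀ q, (S.map (eval C _ q)).ShortExact := fun q =>
    hS.map_of_exact (eval C _ q)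
  let σ : ∀ q, (S.map (eval C _ q)).Splitting := fun q =>
    haveI : Projective (S.map (eval C _ q)).X₃ := hproj q
    (hSq q).splittingOfProjective
  let r : ∀ q, S.X₂.X q ⟶ S.X₁.X q := fun q => (σ q).r
  let s : ∀ q, S.X₃.X q ⟶ S.X₂.X q := fun q => (σ q).s
  have hfr : ∀ q, S.f.f q ≫ r q = 𝟙 _ := fun q => (σ q).f_r
  have hid : ∀ q, r q ≫ S.f.f q + S.g.f q ≫ s q = 𝟙 _ := fun q => (σ q).id
  let P : ProjectiveResolution (0 : C) :=
    { complex := S.X₃
      projective := hproj
      π := 0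
      quasiIso := by
        rw [quasiIso_iff]
        intro i
        refine (quasiIsoAt_iff_exactAt _ i (hacyc i)).mpr ?_
        exact ShortComplex.exact_of_isZero_X₂ _ ((HomologicalComplex.eval C _ i).map_isZero
          ((ChainComplex.single₀ C).map_isZero (Limits.isZero_zero C))) }
  let H : Homotopy (𝟙 S.X₃) 0 :=
    ProjectiveResolution.liftHomotopyZero (P := P) (Q := P) (𝟙 S.X₃) (by simp [P])
  let δ : ∀ q, S.X₂.X (q + 1) ⟶ S.X₁.X q := fun q =>
    r (q + 1) ≫ S.X₁.d (q + 1) q - S.X₂.d (q + 1) q ≫ r q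
  have hfδ : ∀ q, S.f.f (q + 1) ≫ δ q = 0 := fun q => by
    simp only [δ, Preadditive.comp_sub]
    rw [← Category.assoc, hfr, Category.id_comp, ← Category.assoc, S.f.comm, Category.assoc, hfr,
      Category.comp_id, sub_self]
  let φ : ∀ q, S.X₃.X (q + 1) ⟶ S.X₁.X q := fun q => s (q + 1) ≫ δ q
  have hδ : ∀ q, δ q = S.g.f (q + 1) ≫ φ q := fun q => by
    conv_lhs => rw [← Category.id_comp (δ q), ← hid (q + 1)]
    simp [φ, hfδ]
  clear_value φ
  have hdd : ∀ q, φ (q + 1) ≫ S.X₁.d (q + 1) q = -(S.X₃.d (q + 1 + 1) (q + 1) ≫ φ q) := fun q => by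
    haveI : Epi (S.g.f (q + 1 + 1)) := (hSq (q + 1 + 1)).epi_g
    rw [← cancel_epi (S.g.f (q + 1 + 1))]
    calc S.g.f (q + 1 + 1) ≫ φ (q + 1) ≫ S.X₁.d (q + 1) q
        = δ (q + 1) ≫ S.X₁.d (q + 1) q := by rw [hδ (q + 1), Category.assoc]
      _ = -(S.X₂.d (q + 1 + 1) (q + 1) ≫ δ q) := by simp [δ]
      _ = S.g.f (q + 1 + 1) ≫ (-(S.X₃.d (q + 1 + 1) (q + 1) ≫ φ q)) := by
          rw [hδ q, Preadditive.comp_neg, ← Category.assoc (S.g.f (q + 1 + 1)), S.g.comm, Category.assoc]
  let g : ∀ q, S.X₂.X q ⟶ S.X₁.X q := fun q => r q + S.g.f q ≫ H.hom q (q + 1) ≫ φ q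
  refine ⟨{ f := g, comm' := ?_ }, ?_⟩
  · rintro i q (rfl : q + 1 = i)
    have hH : 𝟙 (S.X₃.X (q + 1)) =
        S.X₃.d (q + 1) q ≫ H.hom q (q + 1) + H.hom (q + 1) (q + 1 + 1) ≫ S.X₃.d (q + 1 + 1) (q + 1) := by
      have := H.comm (q + 1)
      rw [dNext_eq _ (show (ComplexShape.down ℕ).Rel (q + 1) q from rfl),
        prevD_eq _ (show (ComplexShape.down ℕ).Rel (q + 1 + 1) (q + 1) from rfl)] at this
      simpa using this
    simp only [g, Preadditive.add_comp, Preadditive.comp_add, Category.assoc, hdd,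
      Preadditive.comp_neg]
    rw [← S.g.comm_assoc, ← sub_eq_zero]
    have e : r (q + 1) ≫ S.X₁.d (q + 1) q
          + -(S.g.f (q + 1) ≫ H.hom (q + 1) (q + 1 + 1) ≫ S.X₃.d (q + 1 + 1) (q + 1) ≫ φ q)
          - (S.X₂.d (q + 1) q ≫ r q + S.g.f (q + 1) ≫ S.X₃.d (q + 1) q ≫ H.hom q (q + 1) ≫ φ q)
        = δ q - S.g.f (q + 1) ≫ (S.X₃.d (q + 1) q ≫ H.hom q (q + 1) +
            H.hom (q + 1) (q + 1 + 1) ≫ S.X₃.d (q + 1 + 1) (q + 1)) ≫ φ q := by
      simp only [δ, Preadditive.comp_add, Preadditive.add_comp, Category.assoc]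
      abel
    rw [e, ← hH, Category.id_comp, ← hδ, sub_self]
  · ext q : 1
    have : S.f.f q ≫ S.g.f q = 0 := by rw [← comp_f, S.zero]; rfl
    simp [g, hfr, reassoc_of% this]

/-- Let f : A' ⟶ A be a chain map of ℕ-indexed chain complexes of free abelian groups which is injective
in every degree, whose degreewise quotients A_q / f(A'_q) are free abelian groups, and which is a
quasi-isomorphism. Then there is a chain map g : A ⟶ A' with f ≫ g the identity of A' (a chain-level
inverse of f that restricts to the identity on the subcomplex A'). (The source allows complexes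
indexed by all integers; stated here for complexes in non-negative degrees.) -/
theorem result
    (A' A : ChainComplex (ModuleCat.{v} ℤ) ℕ) (f : A' ⟶ A)
    [∀ q, Module.Free ℤ (A'.X q)] [∀ q, Module.Free ℤ (A.X q)]
    (hf : ∀ q, Function.Injective (f.f q).hom)
    (hq : ∀ q, Module.Free ℤ ((A.X q) ⧸ LinearMap.range (f.f q).hom)) [QuasiIso f] :
    ∃ g : A ⟶ A', f ≫ g = 𝟙 A' := by
  haveI : Mono f := by
    apply HomologicalComplex.mono_of_mono_f _ (fun q => (ModuleCat.mono_iff_injective _).mpr (hf q))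
  let S := ShortComplex.mk f (cokernel.π f) (cokernel.condition f)
  have hS : S.ShortExact :=
    { exact := ShortComplex.exact_cokernel f }
  refine exists_retraction_of_shortExact S hS (hS.acyclic_X₃ ‹_›) (fun q => ?_)
  have hSq := hS.map_of_exact (HomologicalComplex.eval (ModuleCat.{v} ℤ) _ q)
  have hker : LinearMap.range (f.f q).hom = LinearMap.ker ((cokernel.π f).f q).hom :=
    hSq.exact.moduleCat_range_eq_ker
  have e := (Submodule.quotEquivOfEq _ _ hker).trans
    (LinearMap.quotKerEquivOfSurjective _ ((ModuleCat.epi_iff_surjective _).mp hSq.epi_g))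
  haveI : Module.Free ℤ (S.X₃.X q) := free_of_addEquiv (hq q) e
  exact ModuleCat.projective_of_free (Module.Free.chooseBasis ℤ (S.X₃.X q))

end Groth.Agent.S16329
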