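import Groth.Statements.S16328
import Groth.Agent.S16329

set_option autoImplicit false
universe v
open CategoryTheory
open W4c3biextchow

namespace Groth.Agent.S16328

/-- Let f : A' ⟶ A and p : A ⟶ A'' be chain maps of ℕ-indexed chain complexes of free abelian groups
forming a short exact sequence in every degree (f injective, p surjective, image of f equal to the
kernel of p), and assume f is a quasi-isomorphism. Then there is a chain map h : A'' ⟶ A such that
in every degree q the map (a'', a') ↦ h(a'') + f(a') is a bijection from A''_q × A'_q onto A_q, so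
that A is the direct sum of the subcomplexes f(A') and h(A''). (The source allows complexes indexed
by all integers; stated here for complexes in non-negative degrees.) -/
theorem result
    (A' A A'' : ChainComplex (ModuleCat.{v} ℤ) ℕ) (f : A' ⟶ A) (p : A ⟶ A'')
    [∀ q, Module.Free ℤ (A'.X q)] [∀ q, Module.Free ℤ (A.X q)] [∀ q, Module.Free ℤ (A''.X q)]
    (hf : ∀ q, Function.Injective (f.f q).hom) (hp : ∀ q, Function.Surjective (p.f q).hom)
    (hfp : ∀ q, Function.Exact (f.f q).hom (p.f q).hom) [QuasiIso f] :
    ∃ h : A'' ⟶ A, ∀ q : ℕ,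
      Function.Bijective (fun x : A''.X q × A'.X q => (h.f q).hom x.1 + (f.f q).hom x.2) := by
  classical
  have hzero : ∀ q, f.f q ≫ p.f q = 0 := fun q => by
    ext x
    exact (hfp q).apply_apply_eq_zero x
  let S := ShortComplex.mk f p (by ext q : 1; simpa using hzero q)
  have hS : S.ShortExact := HomologicalComplex.shortExact_of_degreewise_shortExact S (fun q => by
    haveI : Mono (f.f q) := (ModuleCat.mono_iff_injective _).mpr (hf q)
    haveI : Epi (p.f q) := (ModuleCat.epi_iff_surjective _).mpr (hp q)
    exact
      { exact := (ShortComplex.moduleCat_exact_iff_range_eq_ker _).mpr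
          (LinearMap.exact_iff.mp (hfp q)).symm
        mono_f := ‹Mono (f.f q)›
        epi_g := ‹Epi (p.f q)› })
  obtain ⟨g, hg⟩ := Groth.Agent.S16329.exists_retraction_of_shortExact S hS (hS.acyclic_X₃ ‹_›)
    (fun q => ModuleCat.projective_of_free (Module.Free.chooseBasis ℤ (A''.X q)))
  haveI := hS.epi_g
  obtain ⟨h, hh⟩ := hS.exact.desc' (𝟙 A - g ≫ f) (by
    rw [Preadditive.comp_sub, Category.comp_id, ← Category.assoc, hg]
    exact sub_eq_zero.mpr (Category.id_comp f).symm)
  refine ⟨h, fun q => ?_⟩
  have e1 : ∀ x : A.X q, (h.f q).hom ((p.f q).hom x) = x - (f.f q).hom ((g.f q).hom x) := by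
    intro x
    have := congrArg (fun φ : A ⟶ A => (φ.f q).hom x) hh
    simpa [S] using this
  have e2 : ∀ x : A'.X q, (g.f q).hom ((f.f q).hom x) = x := by
    intro x
    have := congrArg (fun φ : A' ⟶ A' => (φ.f q).hom x) hg
    simpa [S] using this
  have e3 : ∀ x : A''.X q, (g.f q).hom ((h.f q).hom x) = 0 ∧ (p.f q).hom ((h.f q).hom x) = x := by
    intro x
    obtain ⟨y, rfl⟩ := hp q x
    rw [e1]
    constructor
    · rw [map_sub, e2, sub_self]
    · rw [map_sub, (hfp q).apply_apply_eq_zero, sub_zero]
  constructor
  · intro x y hxy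
    have h1 := congrArg (p.f q).hom hxy
    simp only [map_add, (e3 _).2, (hfp q).apply_apply_eq_zero, add_zero] at h1
    have h2 := congrArg (g.f q).hom hxy
    simp only [map_add, (e3 _).1, e2, zero_add] at h2
    exact Prod.ext h1 h2
  · intro z
    exact ⟨((p.f q).hom z, (g.f q).hom z), by simp [e1]⟩

end Groth.Agent.S16328
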