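import Groth.Statements.S16330
import Groth.Agent.S16329

set_option autoImplicit false
universe v
open CategoryTheory
open scoped ZeroObject
open W4c3biextchow

namespace Groth.Agent.S16330

/-- Let f : A' ⟶ A be a chain map of ℕ-indexed chain complexes of free abelian groups which is injective
in every degree, whose degreewise quotients A_q / f(A'_q) are free abelian groups, and which is a
quasi-isomorphism. Then any two chain maps g₁, g₂ : A ⟶ A' with f ≫ g₁ = f ≫ g₂ = 𝟙 differ by a
null-homotopic map: there is a chain homotopy between g₁ and g₂ all of whose components vanish on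
the image of f (so g₁ - g₂ factors through the quotient complex A / A', and the homotopy does too).
(The source allows complexes indexed by all integers; stated here for complexes in non-negative
degrees.) -/
theorem result
    (A' A : ChainComplex (ModuleCat.{v} ℤ) ℕ) (f : A' ⟶ A)
    [∀ q, Module.Free ℤ (A'.X q)] [∀ q, Module.Free ℤ (A.X q)]
    (hf : ∀ q, Function.Injective (f.f q).hom)
    (hq : ∀ q, Module.Free ℤ ((A.X q) ⧸ LinearMap.range (f.f q).hom)) [QuasiIso f]
    (g₁ g₂ : A ⟶ A') (h₁ : f ≫ g₁ = 𝟙 A') (h₂ : f ≫ g₂ = 𝟙 A') :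
    ∃ H : Homotopy g₁ g₂, ∀ i j : ℕ, f.f i ≫ H.hom i j = 0 := by
  classical
  haveI : Mono f := HomologicalComplex.mono_of_mono_f _
    (fun q => (ModuleCat.mono_iff_injective _).mpr (hf q))
  let S := ShortComplex.mk f (Limits.cokernel.π f) (Limits.cokernel.condition f)
  have hS : S.ShortExact := { exact := ShortComplex.exact_cokernel f }
  have hproj : ∀ q, Projective (S.X₃.X q) := fun q => by
    have hSq := hS.map_of_exact (HomologicalComplex.eval (ModuleCat.{v} ℤ) _ q)
    have e := (Submodule.quotEquivOfEq _ _ hSq.exact.moduleCat_range_eq_ker).trans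
      (LinearMap.quotKerEquivOfSurjective _ ((ModuleCat.epi_iff_surjective _).mp hSq.epi_g))
    haveI : Module.Free ℤ (S.X₃.X q) := Groth.Agent.S16329.free_of_addEquiv (hq q) e
    exact ModuleCat.projective_of_free (Module.Free.chooseBasis ℤ (S.X₃.X q))
  have hacyc : S.X₃.Acyclic := hS.acyclic_X₃ ‹_›
  let P : ProjectiveResolution (0 : ModuleCat.{v} ℤ) :=
    { complex := S.X₃
      projective := hproj
      π := 0
      quasiIso := by
        rw [quasiIso_iff]
        intro i
        refine (quasiIsoAt_iff_exactAt _ i (hacyc i)).mpr ?_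
        exact ShortComplex.exact_of_isZero_X₂ _ ((HomologicalComplex.eval _ _ i).map_isZero
          ((ChainComplex.single₀ _).map_isZero (Limits.isZero_zero _))) }
  let Hc : Homotopy (𝟙 S.X₃) 0 :=
    ProjectiveResolution.liftHomotopyZero (P := P) (Q := P) (𝟙 S.X₃) (by simp [P])
  let D : Limits.cokernel f ⟶ A' := Limits.cokernel.desc f (g₁ - g₂)
    (by rw [Preadditive.comp_sub, h₁, h₂, sub_self])
  let K : Homotopy (g₁ - g₂) 0 :=
    ((Homotopy.ofEq (show g₁ - g₂ = Limits.cokernel.π f ≫ (𝟙 S.X₃ ≫ D) by simp [D, S])).trans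
      ((Hc.compRight D).compLeft (Limits.cokernel.π f))).trans (Homotopy.ofEq (by simp))
  refine ⟨Homotopy.equivSubZero.symm K, fun i j => ?_⟩
  have h : f.f i ≫ (Limits.cokernel.π f).f i = 0 := by
    rw [← HomologicalComplex.comp_f, Limits.cokernel.condition]; rfl
  simp [Homotopy.equivSubZero, K, Homotopy.ofEq, Homotopy.trans, Homotopy.compLeft, Homotopy.compRight,
    reassoc_of% h]

end Groth.Agent.S16330
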