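import Groth.Statements.S16331
import Groth.Agent.S16330
-- import your own Groth.Agent.* helpers here

set_option autoImplicit false
universe v
open CategoryTheory
open W4c3biextchow

namespace Groth.Agent.S16331

theorem hom_comm {A' A B : ChainComplex (ModuleCat.{v} ℤ) ℕ} {g₁ g₂ : A ⟶ A'} (h' : A' ⟶ B)
    (H : Homotopy g₁ g₂) (x : A.X 1) :
    ∃ w : B.X 2, (B.d 2 1).hom w =
      (h'.f 1).hom ((g₁.f 1).hom x) - (h'.f 1).hom ((g₂.f 1).hom x) -
        (h'.f 1).hom ((H.hom 0 1).hom ((A.d 1 0).hom x)) := by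
  refine ⟨(h'.f 2).hom ((H.hom 1 2).hom x), ?_⟩
  have hb : (B.d 2 1).hom ((h'.f 2).hom ((H.hom 1 2).hom x)) =
      (h'.f 1).hom ((A'.d 2 1).hom ((H.hom 1 2).hom x)) :=
    congrArg (fun φ => φ.hom ((H.hom 1 2).hom x)) (h'.comm 2 1)
  have hc := H.comm 1
  rw [dNext_eq _ (show (ComplexShape.down ℕ).Rel 1 0 from rfl),
    prevD_eq _ (show (ComplexShape.down ℕ).Rel 2 1 from rfl)] at hc
  have hx := congrArg (fun φ => φ.hom x) hc
  simp only [ModuleCat.hom_add, ModuleCat.hom_comp, LinearMap.add_apply, LinearMap.comp_apply] at hx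
  rw [hb, hx, map_add, map_add]
  abel

theorem hom_comm_zero {A' A : ChainComplex (ModuleCat.{v} ℤ) ℕ} {g₁ g₂ : A ⟶ A'}
    (H : Homotopy g₁ g₂) (x : A.X 0) :
    (g₁.f 0).hom x = (A'.d 1 0).hom ((H.hom 0 1).hom x) + (g₂.f 0).hom x := by
  have hc := H.comm 0
  rw [Homotopy.dNext_zero_chainComplex, prevD_eq _ (show (ComplexShape.down ℕ).Rel 1 0 from rfl), zero_add] at hc
  have hx := congrArg (fun φ => φ.hom x) hc
  simp only [ModuleCat.hom_add, ModuleCat.hom_comp, LinearMap.add_apply, LinearMap.comp_apply] at hx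
  exact hx


/-- Let f : A' ⟶ A be a chain map of ℕ-indexed chain complexes of free abelian groups which is injective
in every degree, with free degreewise quotients A_q / f(A'_q), and a quasi-isomorphism; let h' : A'
⟶ B be a chain map to another complex of free abelian groups and g₁, g₂ : A ⟶ A' two chain maps with
f ≫ g₁ = f ≫ g₂ = 𝟙. Consider the functors induced by g₁ ≫ h' and g₂ ≫ h' between the groupoids
attached to A and B (objects: degree-0 elements; morphisms a ⟶ b: degree-1 elements with boundary b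
- a, modulo boundaries of degree-2 elements). Then there is a natural isomorphism between these two
functors whose component at every object of the form f(a'), a' a degree-0 element of A', is the zero
class, i.e. the identity morphism of h'(a'). -/
theorem result
    (A' A B : ChainComplex (ModuleCat.{v} ℤ) ℕ) (f : A' ⟶ A) (h' : A' ⟶ B)
    [∀ q, Module.Free ℤ (A'.X q)] [∀ q, Module.Free ℤ (A.X q)] [∀ q, Module.Free ℤ (B.X q)]
    (hf : ∀ q, Function.Injective (f.f q).hom)
    (hq : ∀ q, Module.Free ℤ ((A.X q) ⧸ LinearMap.range (f.f q).hom)) [QuasiIso f]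
    (g₁ g₂ : A ⟶ A') (h₁ : f ≫ g₁ = 𝟙 A') (h₂ : f ≫ g₂ = 𝟙 A') :
    ∃ N : W4c3biextchow.cxFunctor (g₁ ≫ h') ≅ W4c3biextchow.cxFunctor (g₂ ≫ h'),
      ∀ a : W4c3biextchow.Obj A',
        (N.hom.app ((W4c3biextchow.cxFunctor f).obj a) : W4c3biextchow.Hom B _ _).cl = 0 := by
  obtain ⟨H, hH⟩ := Groth.Agent.S16330.result A' A f hf hq g₁ g₂ h₁ h₂
  let c : W4c3biextchow.Obj A → W4c3biextchow.Q1 B := fun a =>
    -Submodule.Quotient.mk ((h'.f 1).hom ((H.hom 0 1).hom a.pt))
  have hc : ∀ a, W4c3biextchow.delta B (c a) =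
      ((W4c3biextchow.cxFunctor (g₂ ≫ h')).obj a).pt - ((W4c3biextchow.cxFunctor (g₁ ≫ h')).obj a).pt := by
    intro a
    have hb : (B.d 1 0).hom ((h'.f 1).hom ((H.hom 0 1).hom a.pt)) =
        (h'.f 0).hom ((A'.d 1 0).hom ((H.hom 0 1).hom a.pt)) :=
      congrArg (fun φ => φ.hom ((H.hom 0 1).hom a.pt)) (h'.comm 1 0)
    change W4c3biextchow.delta B (-_) = (h'.f 0).hom ((g₂.f 0).hom a.pt) - (h'.f 0).hom ((g₁.f 0).hom a.pt)
    rw [map_neg, W4c3biextchow.delta_mk, hb, hom_comm_zero H a.pt, map_add]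
    abel
  refine ⟨NatIso.ofComponents (fun a =>
    { hom := (⟨c a, hc a⟩ : W4c3biextchow.Hom B _ _)
      inv := (⟨-c a, by rw [map_neg, hc a, neg_sub]⟩ : W4c3biextchow.Hom B _ _)
      hom_inv_id := W4c3biextchow.Hom.ext (add_neg_cancel _)
      inv_hom_id := W4c3biextchow.Hom.ext (neg_add_cancel _) }) (fun {a b} φ => ?_), fun a => ?_⟩
  · obtain ⟨x, hx⟩ := Submodule.Quotient.mk_surjective _ (φ : W4c3biextchow.Hom A a b).cl
    have hd := (φ : W4c3biextchow.Hom A a b).delta_cl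
    rw [← hx, W4c3biextchow.delta_mk] at hd
    apply W4c3biextchow.Hom.ext
    change W4c3biextchow.q1Map (g₁ ≫ h') (φ : W4c3biextchow.Hom A a b).cl + c b =
      c a + W4c3biextchow.q1Map (g₂ ≫ h') (φ : W4c3biextchow.Hom A a b).cl
    rw [← hx, W4c3biextchow.q1Map_mk, W4c3biextchow.q1Map_mk]
    dsimp only [c]
    rw [← Submodule.Quotient.mk_neg, ← Submodule.Quotient.mk_neg, ← Submodule.Quotient.mk_add,
      ← Submodule.Quotient.mk_add, Submodule.Quotient.eq]
    obtain ⟨w, hw⟩ := hom_comm h' H x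
    refine ⟨w, hw.trans ?_⟩
    rw [hd, map_sub, map_sub]
    simp only [HomologicalComplex.comp_f, ModuleCat.hom_comp, LinearMap.comp_apply]
    abel
  · change c ((W4c3biextchow.cxFunctor f).obj a) = 0
    have h0 : (H.hom 0 1).hom ((f.f 0).hom a.pt) = 0 := congrArg (fun φ => φ.hom a.pt) (hH 0 1)
    change -Submodule.Quotient.mk ((h'.f 1).hom ((H.hom 0 1).hom ((f.f 0).hom a.pt))) = 0
    rw [h0, map_zero, Submodule.Quotient.mk_zero, neg_zero]

end Groth.Agent.S16331
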