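import Groth.Statements.S16332
import Groth.Agent.Lib.TotTensor25.Basic
import Groth.Agent.Lib.CxGrpd25.Basic
import Mathlib.RingTheory.Flat.Basic
-- import your own Groth.Agent.* helpers here

set_option autoImplicit false
set_option backward.isDefEq.respectTransparency false
set_option backward.isDefEq.respectTransparency.types false
universe v
open CategoryTheory MonoidalCategory
open W4c3biextchow

namespace Groth.Agent.S16332

/-- Let R be a commutative ring, C an ℕ-indexed chain complex of R-modules whose degree-0 term C_0 is a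
free R-module, G an R-module, and π : P ⟶ G[0] a quasi-isomorphism from an ℕ-indexed chain complex P
of free R-modules onto G placed in degree 0 (a free resolution of G), so that the tensor product of
complexes C ⊗ P represents the derived tensor product of C and G. Then the map induced by π on first
homology, H_1(C ⊗ P) → H_1(C ⊗ G[0]), is an isomorphism: in degree 1 the derived and the plain
tensor product with G have the same homology. (The published statement is over the integers, for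
complexes vanishing in negative degrees with C_0 free abelian; this row allows any commutative ring
R and R-modules in the same universe as R.) -/
theorem result
    (R : Type v) [CommRing R] (C P : ChainComplex (ModuleCat.{v} R) ℕ) (G : ModuleCat.{v} R)
    [Module.Free R (C.X 0)] [∀ q, Module.Free R (P.X q)]
    (π : P ⟶ (ChainComplex.single₀ (ModuleCat.{v} R)).obj G) [QuasiIso π] :
    IsIso (HomologicalComplex.homologyMap (C ◁ π) 1) := by
  have h1 : Limits.IsZero (((ChainComplex.single₀ (ModuleCat.{v} R)).obj G).X 1) :=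
    HomologicalComplex.isZero_single_obj_X _ _ _ _ (by simp)
  have h2 : Limits.IsZero (((ChainComplex.single₀ (ModuleCat.{v} R)).obj G).X 2) :=
    HomologicalComplex.isZero_single_obj_X _ _ _ _ (by simp)
  have m0 := (GrothLib.CxGrpd25.mono_iff π 0 0 GrothLib.CxGrpd25.next_zero).1 inferInstance
  have e0 := (GrothLib.CxGrpd25.epi_iff π 0 0 GrothLib.CxGrpd25.next_zero).1 inferInstance
  have m1 := (GrothLib.CxGrpd25.mono_iff π 1 0 GrothLib.CxGrpd25.next_one).1 inferInstance
  have hsurj : Function.Surjective (π.f 0).hom := fun y => by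
    obtain ⟨x, -, w, hw⟩ := e0 y (GrothLib.CxGrpd25.d_zero_zero _ y)
    refine ⟨x, ?_⟩
    rw [h1.eq_of_src ((((ChainComplex.single₀ (ModuleCat.{v} R)).obj G).d 1 0)) 0] at hw
    exact (sub_eq_zero.1 hw.symm).symm
  have hex0 : Function.Exact (P.d 1 0).hom (π.f 0).hom := fun x => ⟨fun hx => by
      obtain ⟨w, hw⟩ := m0 x (GrothLib.CxGrpd25.d_zero_zero _ x) ⟨0, (map_zero _).trans hx.symm⟩
      exact ⟨w, hw⟩, by
      rintro ⟨w, rfl⟩
      have := congrArg (fun φ => φ.hom w) (π.comm 1 0)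
      simp only [ModuleCat.hom_comp, LinearMap.comp_apply] at this
      refine this.symm.trans ?_
      rw [h1.eq_of_src ((((ChainComplex.single₀ (ModuleCat.{v} R)).obj G).d 1 0)) 0]
      rfl⟩
  have hex1 : Function.Exact (P.d 2 1).hom (P.d 1 0).hom := fun x => ⟨fun hx => by
      have : Subsingleton (((ChainComplex.single₀ (ModuleCat.{v} R)).obj G).X 1) :=
        ModuleCat.subsingleton_of_isZero h1
      obtain ⟨w, hw⟩ := m1 x hx ⟨0, Subsingleton.elim _ _⟩
      exact ⟨w, hw⟩, by
      rintro ⟨w, rfl⟩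
      exact congrArg (fun φ => φ.hom w) (P.d_comp_d 2 1 0)⟩
  have zer : ∀ (p : ℕ) {Z : ModuleCat.{v} R}, Limits.IsZero Z → ∀ z : (C.X p ⊗ Z : ModuleCat.{v} R), z = 0 :=
    fun p Z hZ z =>
      (ModuleCat.subsingleton_of_isZero ((MonoidalCategory.tensorLeft (C.X p)).map_isZero hZ)).elim z 0
  have : Mono (HomologicalComplex.homologyMap (C ◁ π) 1) := by
    rw [GrothLib.CxGrpd25.mono_iff (C ◁ π) 1 0 GrothLib.CxGrpd25.next_one]
    rintro x hx ⟨w, hw⟩
    obtain ⟨a, b, rfl⟩ := GrothLib.TotTensor25.exists_decomp_one x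
    obtain ⟨a₂, b₂, c₂, rfl⟩ := GrothLib.TotTensor25.exists_decomp_two w
    rw [zer 1 h1 b₂, zer 0 h2 c₂] at hw
    simp only [map_zero, add_zero] at hw
    rw [GrothLib.TotTensor25.d_succ_zero, map_add, GrothLib.TotTensor25.whiskerLeft_inc,
      GrothLib.TotTensor25.whiskerLeft_inc, zer 0 h1 ((C.X 0 ◁ π.f 1) b)] at hw
    simp only [map_zero, add_zero] at hw
    have hw' := GrothLib.TotTensor25.inc_injective 1 0 1 rfl hw
    obtain ⟨c, rfl⟩ := LinearMap.lTensor_surjective (C.X 2) hsurj a₂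
    have hsw : (C.d 2 1 ▷ ((ChainComplex.single₀ (ModuleCat.{v} R)).obj G).X 0) ((C.X 2 ◁ π.f 0) c) =
        (C.X 1 ◁ π.f 0) ((C.d 2 1 ▷ P.X 0) c) :=
      ConcreteCategory.congr_hom (MonoidalCategory.whisker_exchange (C.d 2 1) (π.f 0)) c
    replace hw' := hsw.symm.trans hw'
    have ha : (C.X 1 ◁ π.f 0).hom (a - (C.d 2 1 ▷ P.X 0) c) = 0 := by
      rw [map_sub, sub_eq_zero]; exact hw'.symm
    obtain ⟨e, he⟩ := (lTensor_exact (C.X 1) hex0 hsurj _).1 ha
    replace he : (C.X 1 ◁ P.d 1 0) e = a - (C.d 2 1 ▷ P.X 0) c := he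
    obtain ⟨u, hu⟩ := GrothLib.TotTensor25.d_one_one (C := C) (P := P)
    let w₀ := GrothLib.TotTensor25.inc C P 2 0 2 rfl c + (u : ℤ) • GrothLib.TotTensor25.inc C P 1 1 2 rfl e
    let b' := b - (u : ℤ) • (C.d 1 0 ▷ P.X 1) e
    have hu2 : (u : ℤ) * (u : ℤ) = 1 := by rw [← Units.val_mul, Int.units_mul_self, Units.val_one]
    have hd : GrothLib.TotTensor25.inc C P 1 0 1 rfl a + GrothLib.TotTensor25.inc C P 0 1 1 rfl b =
        (C ⊗ P).d 2 1 w₀ + GrothLib.TotTensor25.inc C P 0 1 1 rfl b' := by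
      rw [map_add, map_zsmul, GrothLib.TotTensor25.d_succ_zero, hu, smul_add, ← map_zsmul, smul_smul,
        hu2, one_smul, he, map_sub, map_sub, map_zsmul]
      abel
    rw [hd] at hx ⊢
    have hb : (C.X 0 ◁ P.d 1 0).hom b' = 0 := by
      rw [map_add] at hx
      rw [show (C ⊗ P).d 1 0 ((C ⊗ P).d 2 1 w₀) = 0 from
          ConcreteCategory.congr_hom ((C ⊗ P).d_comp_d 2 1 0) w₀, zero_add,
        GrothLib.TotTensor25.d_zero_succ] at hx
      exact GrothLib.TotTensor25.inc_injective 0 0 0 rfl (hx.trans (map_zero _).symm)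
    obtain ⟨g, hg⟩ := (Module.Flat.lTensor_exact (C.X 0) hex1 _).1 hb
    refine ⟨w₀ + GrothLib.TotTensor25.inc C P 0 2 2 rfl g, ?_⟩
    rw [map_add, GrothLib.TotTensor25.d_zero_succ]
    exact congrArg _ (congrArg _ hg)
  have : Epi (HomologicalComplex.homologyMap (C ◁ π) 1) := by
    rw [GrothLib.CxGrpd25.epi_iff (C ◁ π) 1 0 GrothLib.CxGrpd25.next_one]
    intro y hy
    obtain ⟨a, b, rfl⟩ := GrothLib.TotTensor25.exists_decomp_one y
    rw [zer 0 h1 b] at hy ⊢
    simp only [map_zero, add_zero] at hy ⊢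
    rw [GrothLib.TotTensor25.d_succ_zero] at hy
    replace hy := GrothLib.TotTensor25.inc_injective 0 0 0 rfl (hy.trans (map_zero _).symm)
    obtain ⟨c, rfl⟩ := LinearMap.lTensor_surjective (C.X 1) hsurj a
    have hsw : (C.d 1 0 ▷ ((ChainComplex.single₀ (ModuleCat.{v} R)).obj G).X 0) ((C.X 1 ◁ π.f 0) c) =
        (C.X 0 ◁ π.f 0) ((C.d 1 0 ▷ P.X 0) c) :=
      ConcreteCategory.congr_hom (MonoidalCategory.whisker_exchange (C.d 1 0) (π.f 0)) c
    obtain ⟨e, he⟩ := (lTensor_exact (C.X 0) hex0 hsurj _).1 (hsw.symm.trans hy)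
    refine ⟨GrothLib.TotTensor25.inc C P 1 0 1 rfl c - GrothLib.TotTensor25.inc C P 0 1 1 rfl e, ?_, 0, ?_⟩
    · rw [map_sub, GrothLib.TotTensor25.d_succ_zero, GrothLib.TotTensor25.d_zero_succ, sub_eq_zero]
      exact congrArg _ he.symm
    · rw [map_zero, map_sub, GrothLib.TotTensor25.whiskerLeft_inc, GrothLib.TotTensor25.whiskerLeft_inc,
        zer 0 h1 ((C.X 0 ◁ π.f 1) e), map_zero, sub_zero]
      exact (sub_self _).symm
  exact isIso_of_mono_of_epi _

end Groth.Agent.S16332
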