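import Groth.Statements.S16333
import Mathlib
import Groth.Agent.S0212

set_option autoImplicit false
universe u
open GalCoh

namespace Groth.Agent.S16333

open Module IntermediateField

universe v

set_option maxHeartbeats 1000000

/-- The subgroup generated by `w / g w`. -/
abbrev S (K L : Type v) [Field K] [Field L] [Algebra K L] : Subgroup Lˣ :=
  Subgroup.closure {v : Lˣ | ∃ (w : Lˣ) (g : L ≃ₐ[K] L), (v : L) = (w : L) / g (w : L)}

theorem norm_one_of_mem {K L : Type v} [Field K] [Field L] [Algebra K L] [FiniteDimensional K L] {u : Lˣ}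
    (hu : u ∈ S K L) : Algebra.norm K (u : L) = 1 := by
  induction hu using Subgroup.closure_induction with
  | mem v hv =>
    obtain ⟨w, g, hv⟩ := hv
    have h0 : (w : L) / g w * g w = w := div_mul_cancel₀ _ (by simp)
    have h1 := congrArg (Algebra.norm K) h0
    rw [map_mul, Algebra.norm_eq_of_algEquiv, ← hv] at h1
    exact (mul_eq_right₀ (Algebra.norm_ne_zero_iff.2 w.ne_zero)).1 h1
  | one => simp
  | mul x y _ _ hx hy => rw [Units.val_mul, map_mul, hx, hy, mul_one]
  | inv x _ hx => rw [Units.val_inv_eq_inv_val, Algebra.norm_inv, hx, inv_one]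

/-- Tsen: norms from finite extensions are surjective. -/
theorem norm_surjective {K L : Type v} [Field K] [Field L] [Algebra K L] [FiniteDimensional K L]
    (hC : Curves.IsCi K 1) : Function.Surjective (Algebra.norm K : L → K) := by
  classical
  intro c
  let b := Module.finBasis K L
  let n := Module.finrank K L
  let P : Matrix (Fin n) (Fin n) (MvPolynomial (Fin (n + 1)) K) :=
    Matrix.of fun a a' => ∑ i : Fin n, MvPolynomial.C (Algebra.leftMulMatrix b (b i) a a') * MvPolynomial.X i.castSucc
  let f : MvPolynomial (Fin (n + 1)) K := P.det - MvPolynomial.C c * MvPolynomial.X (Fin.last n) ^ n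
  have hn : 0 < n := Module.finrank_pos
  have hhom : f.IsHomogeneous n := by
    refine MvPolynomial.IsHomogeneous.sub ?_ ?_
    · rw [Matrix.det_apply]
      refine MvPolynomial.IsHomogeneous.sum _ _ _ fun σ _ => ?_
      rw [Units.smul_def, zsmul_eq_mul]
      have h1 : (∏ i : Fin n, P (σ i) i).IsHomogeneous n := by
        have := MvPolynomial.IsHomogeneous.prod Finset.univ (fun i : Fin n => P (σ i) i) (fun _ => 1) (fun i _ =>
          (MvPolynomial.IsHomogeneous.sum Finset.univ (fun l : Fin n => MvPolynomial.C (Algebra.leftMulMatrix b (b l) (σ i) i) * MvPolynomial.X l.castSucc) 1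
            fun l _ => (MvPolynomial.isHomogeneous_X K l.castSucc).C_mul _ :))
        simpa using this
      rw [← map_intCast (MvPolynomial.C : K →+* MvPolynomial (Fin (n + 1)) K)]
      exact h1.C_mul _
    · have := (MvPolynomial.isHomogeneous_X K (Fin.last n)).pow n
      rw [one_mul] at this
      exact this.C_mul _
  obtain ⟨a, ha, hfa⟩ := hC 1 (n + 1) (fun _ => f) (fun _ => n) (fun _ => hhom) (fun _ => hn) (by simp)
  let z : L := ∑ i : Fin n, a i.castSucc • b i
  have hdet : MvPolynomial.eval a P.det = Algebra.norm K z := by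
    rw [Algebra.norm_eq_matrix_det b, RingHom.map_det]
    congr 1
    ext i j
    simp [P, z, map_sum, Matrix.sum_apply, mul_comm]
  have h := hfa 0
  simp only [f, map_sub, map_mul, map_pow, MvPolynomial.eval_C, MvPolynomial.eval_X, hdet, sub_eq_zero] at h
  by_cases hlast : a (Fin.last n) = 0
  · rw [hlast, zero_pow hn.ne', mul_zero] at h
    have hz : z = 0 := Algebra.norm_eq_zero_iff.1 h
    refine absurd (funext fun i => ?_) ha
    refine Fin.lastCases hlast (fun i => ?_) i
    exact Fintype.linearIndependent_iff.1 b.linearIndependent (fun i => a i.castSucc) hz i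
  · refine ⟨algebraMap K L (a (Fin.last n))⁻¹ * z, ?_⟩
    rw [map_mul, Algebra.norm_algebraMap, h, inv_pow]
    field_simp
    exact mul_comm _ _

/-- Hilbert's theorem 90 in any universe. -/
theorem hilbert90 {K L : Type v} [Field K] [Field L] [Algebra K L] [FiniteDimensional K L] [IsGalois K L]
    {σ : L ≃ₐ[K] L} (hσ : ∀ g, g ∈ Subgroup.zpowers σ) {x : L} (hx : Algebra.norm K x = 1) :
    ∃ y : Lˣ, (y : L) / σ y = x := by
  classical
  set N := Nat.card (L ≃ₐ[K] L) with hN
  have hord : orderOf σ = N := orderOf_eq_card_of_forall_mem_zpowers hσ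
  have hbij : Function.Bijective (fun i : Fin N => σ ^ (i : ℕ)) := by
    rw [Fintype.bijective_iff_injective_and_card, Fintype.card_fin]
    exact ⟨fun i j h => Fin.ext (pow_injOn_Iio_orderOf (show (i : ℕ) < orderOf σ from hord.symm ▸ i.2) (show (j : ℕ) < orderOf σ from hord.symm ▸ j.2) h), Nat.card_eq_fintype_card⟩
  let c : ℕ → L := fun i => ∏ j ∈ Finset.range i, (σ ^ j) x
  have hc0 : c 0 = 1 := Finset.prod_range_zero _
  have hcN : c N = 1 := by
    show ∏ j ∈ Finset.range N, (σ ^ j) x = 1
    rw [Finset.prod_range, hbij.prod_comp (fun g : L ≃ₐ[K] L => g x), ← Algebra.norm_eq_prod_automorphisms, hx, map_one]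
  have hx0 : x ≠ 0 := fun h => by simp [h] at hx
  have hstep : ∀ i, x * σ (c i) = c (i + 1) := fun i => by
    show x * σ (∏ j ∈ Finset.range i, (σ ^ j) x) = ∏ j ∈ Finset.range (i + 1), (σ ^ j) x
    rw [Finset.prod_range_succ', map_prod, mul_comm]
    refine congrArg₂ (· * ·) (Finset.prod_congr rfl fun j _ => ?_) (by simp)
    rw [pow_succ', AlgEquiv.mul_apply]
  let β : L → L := fun z => ∑ i ∈ Finset.range N, c i * (σ ^ i) z
  obtain ⟨z, hz⟩ : ∃ z, β z ≠ 0 := by
    by_contra! hcon
    have hli : LinearIndependent L (fun g : L ≃ₐ[K] L => (g : L → L)) :=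
      LinearIndependent.comp (linearIndependent_monoidHom L L) (fun g : L ≃ₐ[K] L => (g : L →* L))
        fun g g' e => AlgEquiv.ext fun w => DFunLike.congr_fun e w
    have hNpos : 0 < N := Nat.card_pos
    have h := Fintype.linearIndependent_iff.1 (hli.comp _ hbij.1) (fun i => c i) (funext fun w => by
      have := hcon w
      simp only [β, Finset.sum_range] at this
      simpa [Finset.sum_apply] using this) ⟨0, hNpos⟩
    simp [hc0] at h
  have hβ : x * σ (β z) = β z := by
    simp only [β, map_sum, map_mul, Finset.mul_sum, ← mul_assoc, hstep, ← AlgEquiv.mul_apply, ← pow_succ']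
    have h1 := Finset.sum_range_succ' (fun i => c i * (σ ^ i) z) N
    have h2 := Finset.sum_range_succ (fun i => c i * (σ ^ i) z) N
    rw [h2, hcN, hc0, ← hord, pow_orderOf_eq_one, pow_zero, hord] at h1
    exact (add_right_cancel h1).symm
  refine ⟨Units.mk0 (β z) hz, ?_⟩
  rw [Units.val_mk0, div_eq_iff (by simpa using hz), hβ]

variable {k : Type v} [Field k] [IsAlgClosed k]

theorem trdeg_intermediate {K L : Type v} [Field K] [Field L] [Algebra k K] [Algebra K L] [FiniteDimensional K L]
    (M : IntermediateField K L) [Algebra k M] [IsScalarTower k K M] (h : Algebra.trdeg k K = 1) : Algebra.trdeg k M = 1 := by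
  haveI : FaithfulSMul k K := (faithfulSMul_iff_algebraMap_injective k K).2 (algebraMap k K).injective
  rw [← trdeg_add_eq k K (A := M), h, trdeg_eq_zero (R := K) (A := M), add_zero]

theorem S_le {K L : Type v} [Field K] [Field L] [Algebra K L] (M : IntermediateField K L) : S M L ≤ S K L :=
  (Subgroup.closure_le _).2 fun _ ⟨w, g, hv⟩ => Subgroup.subset_closure ⟨w, g.restrictScalars K, hv⟩

/-- Galois extensions of prime power degree. -/
theorem mem_of_pGroup (p : ℕ) [hp : Fact p.Prime] : ∀ (n : ℕ) (K L : Type v) [Field K] [Field L] [Algebra k K] [Algebra K L]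
    [FiniteDimensional K L] [IsGalois K L], Algebra.trdeg k K = 1 → Module.finrank K L = n → IsPGroup p (L ≃ₐ[K] L) →
    ∀ u : Lˣ, Algebra.norm K (u : L) = 1 → u ∈ S K L := by
  intro n
  induction n using Nat.strong_induction_on with
  | _ n ih =>
  intro K L _ _ _ _ _ _ htr hn hpg u hu
  obtain ⟨m, hm⟩ := (IsPGroup.iff_card.1 hpg)
  rcases Nat.eq_zero_or_pos m with rfl | hm0
  · have h1 : Module.finrank K L = 1 := by rw [← IsGalois.card_aut_eq_finrank, hm, pow_zero]
    obtain ⟨c, hc⟩ := (finrank_eq_one_iff_of_nonzero' (1 : L) one_ne_zero).1 h1 u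
    rw [Algebra.smul_def, mul_one] at hc
    rw [← hc, Algebra.norm_algebraMap, h1, pow_one] at hu
    rw [hu, map_one] at hc
    rw [show u = 1 from Units.ext hc.symm]
    exact one_mem _
  obtain ⟨H, hH⟩ := Sylow.exists_subgroup_card_pow_prime (G := L ≃ₐ[K] L) p (n := m - 1) (by rw [hm]; exact pow_dvd_pow p (by omega))
  have hidx : H.index = p := by
    have h := H.card_mul_index
    rw [hH, hm] at h
    exact Nat.eq_of_mul_eq_mul_left (pow_pos hp.out.pos _) (h.trans (by rw [← pow_succ]; congr 1; omega))
  haveI : H.Normal := Subgroup.normal_of_index_eq_minFac_card (by rw [hidx, hm, hp.out.pow_minFac hm0.ne'])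
  let M := fixedField H
  letI : Algebra k M := ((algebraMap K M).comp (algebraMap k K)).toAlgebra
  haveI : IsScalarTower k K M := IsScalarTower.of_algebraMap_eq fun _ => rfl
  have htrM := trdeg_intermediate (k := k) M htr
  have hLM : Module.finrank M L = p ^ (m - 1) := by rw [finrank_fixedField_eq_card, hH]
  have hKM : Module.finrank K M = p := by
    have h := Module.finrank_mul_finrank K M L
    rw [hLM, ← IsGalois.card_aut_eq_finrank K L, hm] at h
    exact Nat.eq_of_mul_eq_mul_right (pow_pos hp.out.pos _) (h.trans (by rw [← pow_succ']; congr 1; omega))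
  haveI : Fact (Nat.card (M ≃ₐ[K] M)).Prime := ⟨by rw [IsGalois.card_aut_eq_finrank, hKM]; exact hp.out⟩
  haveI : IsCyclic (M ≃ₐ[K] M) := isCyclic_of_prime_card (p := Nat.card (M ≃ₐ[K] M)) rfl
  obtain ⟨σ, hσ⟩ := IsCyclic.exists_generator (α := M ≃ₐ[K] M)
  have hNw : Algebra.norm K (Algebra.norm M (u : L)) = 1 := by rw [Algebra.norm_norm, hu]
  obtain ⟨w, hw⟩ := hilbert90 hσ hNw
  obtain ⟨z, hz⟩ := norm_surjective (L := L) (Groth.Agent.S0212.result k M 1 htrM) (w : M)
  have hz0 : z ≠ 0 := fun h => w.ne_zero (by rw [← hz, h, Algebra.norm_zero])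
  let g : L ≃ₐ[K] L := σ.liftNormal L
  have hgz : Algebra.norm M (g z) = σ (Algebra.norm M z) := by
    have h := Algebra.norm_eq_of_equiv_equiv (σ : M ≃+* M) (g : L ≃+* L)
      (RingHom.ext fun x => (σ.liftNormal_commutes L x).symm) z
    rw [h]
    exact (RingEquiv.apply_symm_apply (σ : M ≃+* M) _).symm
  let z' : Lˣ := Units.mk0 z hz0 / Units.mk0 (g z) (by simpa using hz0)
  have hz' : z' ∈ S K L := Subgroup.subset_closure ⟨Units.mk0 z hz0, g, by simp [z']⟩
  have hN : Algebra.norm M ((u * z'⁻¹ : Lˣ) : L) = 1 := by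
    have h0 : Algebra.norm M (u : L) ≠ 0 := Algebra.norm_ne_zero_iff.2 u.ne_zero
    simp only [z', Units.val_mul, Units.val_inv_eq_inv_val, Units.val_div_eq_div_val, Units.val_mk0, map_mul, Algebra.norm_inv,
      div_eq_mul_inv, hgz, hz]
    rw [← div_eq_mul_inv, ← div_eq_mul_inv, hw, div_self h0]
  have hpgM : IsPGroup p (L ≃ₐ[M] L) := IsPGroup.iff_card.2 ⟨m - 1, by rw [IsGalois.card_aut_eq_finrank, hLM]⟩
  have hlt : p ^ (m - 1) < n := by
    rw [← hn, ← IsGalois.card_aut_eq_finrank, hm]
    exact pow_lt_pow_right₀ hp.out.one_lt (by omega)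
  have h := S_le M (ih _ hlt M L htrM hLM hpgM (u * z'⁻¹) hN)
  simpa using mul_mem h hz'

/-- All Galois extensions, by restriction to Sylow subgroups. -/
theorem mem_of_norm_eq_one {K L : Type v} [Field K] [Field L] [Algebra k K] [Algebra K L]
    [FiniteDimensional K L] [IsGalois K L] (htr : Algebra.trdeg k K = 1) (u : Lˣ) (hu : Algebra.norm K (u : L) = 1) :
    u ∈ S K L := by
  classical
  let π : Lˣ →* Lˣ ⧸ S K L := QuotientGroup.mk' (S K L)
  have hinv : ∀ g : L ≃ₐ[K] L, π (Units.map (g : L →* L) u) = π u := fun g => by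
    rw [eq_comm, ← div_eq_one, show π u / π (Units.map (g : L →* L) u) = π (u / Units.map (g : L →* L) u) from (map_div π _ _).symm,
      QuotientGroup.mk'_apply, QuotientGroup.eq_one_iff]
    exact Subgroup.subset_closure ⟨u, g, by simp⟩
  have key : ∀ (p : ℕ) [Fact p.Prime], ∃ m, ¬ p ∣ m ∧ π u ^ m = 1 := by
    intro p hp
    obtain ⟨P⟩ : Nonempty (Sylow p (L ≃ₐ[K] L)) := inferInstance
    let H : Subgroup (L ≃ₐ[K] L) := P
    refine ⟨H.index, P.not_dvd_index, ?_⟩
    let M := fixedField H
    letI : Algebra k M := ((algebraMap K M).comp (algebraMap k K)).toAlgebra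
    haveI : IsScalarTower k K M := IsScalarTower.of_algebraMap_eq fun _ => rfl
    haveI : Fintype ((L ≃ₐ[K] L) ⧸ H) := Fintype.ofFinite _
    haveI : Fintype H := Fintype.ofFinite _
    let v : Lˣ := ∏ q : (L ≃ₐ[K] L) ⧸ H, Units.map (((q.out)⁻¹ : L ≃ₐ[K] L) : L →* L) u
    have hv : π v = π u ^ H.index := by
      rw [map_prod, Finset.prod_congr rfl (fun q _ => hinv _), Finset.prod_const, Finset.card_univ,
        Subgroup.index_eq_card, Nat.card_eq_fintype_card]
    have hNv : Algebra.norm M (v : L) = 1 := by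
      apply (algebraMap M L).injective
      rw [Algebra.norm_eq_prod_automorphisms, map_one, ← (subgroupEquivAlgEquiv H).toEquiv.prod_comp]
      calc ∏ h : H, (subgroupEquivAlgEquiv H).toEquiv h (v : L)
          = ∏ h : H, ∏ q : (L ≃ₐ[K] L) ⧸ H, ((h : L ≃ₐ[K] L) * (q.out)⁻¹) (u : L) := by
            refine Finset.prod_congr rfl fun h _ => ?_
            show (h : L ≃ₐ[K] L) (v : L) = _
            simp only [v, Units.coe_prod, map_prod, Units.coe_map, AlgEquiv.mul_apply]
            rfl
        _ = ∏ x : H × ((L ≃ₐ[K] L) ⧸ H), ((x.1 : L ≃ₐ[K] L) * (x.2.out)⁻¹) (u : L) := by rw [Fintype.prod_prod_type]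
        _ = ∏ g : L ≃ₐ[K] L, g (u : L) := by
            refine Fintype.prod_equiv (Equiv.ofBijective (fun x : H × ((L ≃ₐ[K] L) ⧸ H) =>
              (x.1 : L ≃ₐ[K] L) * (x.2.out)⁻¹) ⟨?_, ?_⟩) _ _ fun _ => rfl
            · rintro ⟨h, q⟩ ⟨h', q'⟩ e
              have e' := congrArg (·⁻¹) e
              simp only [mul_inv_rev, inv_inv] at e'
              have hq : q = q' := by
                rw [← q.out_eq', ← q'.out_eq', QuotientGroup.eq]
                have : (q.out)⁻¹ * q'.out = ((h : L ≃ₐ[K] L))⁻¹ * (h' : L ≃ₐ[K] L) := by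
                  rw [inv_mul_eq_iff_eq_mul, ← mul_assoc, e', inv_mul_cancel_right]
                rw [this]
                exact mul_mem (inv_mem h.2) h'.2
              subst hq
              exact Prod.ext (Subtype.ext (inv_injective (mul_left_cancel e'))) rfl
            · intro g
              let q : (L ≃ₐ[K] L) ⧸ H := QuotientGroup.mk g⁻¹
              obtain ⟨h, hh⟩ := QuotientGroup.mk_out_eq_mul H g⁻¹
              exact ⟨(⟨(h : L ≃ₐ[K] L), h.2⟩, q), by simp only [q, hh]; group⟩
        _ = 1 := by rw [← Algebra.norm_eq_prod_automorphisms, hu, map_one]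
    have hpgM : IsPGroup p (L ≃ₐ[M] L) := P.isPGroup'.of_equiv (subgroupEquivAlgEquiv H)
    have h := S_le M (mem_of_pGroup p _ M L (trdeg_intermediate (k := k) M htr) rfl hpgM v hNv)
    rw [← hv]
    exact (QuotientGroup.eq_one_iff v).2 h
  have ho : orderOf (π u) = 1 := by
    by_contra ho
    obtain ⟨p, hp, hpo⟩ := Nat.exists_prime_and_dvd ho
    haveI := Fact.mk hp
    obtain ⟨m, hm, hpow⟩ := key p
    exact hm (hpo.trans (orderOf_dvd_of_pow_eq_one hpow))
  exact (QuotientGroup.eq_one_iff u).1 (orderOf_eq_one_iff.1 ho)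


/-- Let k be an algebraically closed field, K an extension field of k which is finitely generated of
transcendence degree 1 (the function field of an irreducible curve over k), and L a finite Galois
extension of K. Then (1) the norm map from L to K is surjective, and (2) a nonzero element of L has
norm 1 if and only if it lies in the subgroup of units generated by the elements w / g(w), w a unit
of L and g an automorphism of L over K. (The published statement is for the function fields of an
irreducible curve and of a component of its preimage under a finite abelian étale cover of the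
ambient variety; this row takes any finite Galois extension of a function field of transcendence
degree 1 over an algebraically closed field.) -/
theorem result
    (k : Type u) [Field k] [IsAlgClosed k] (K L : Type u) [Field K] [Field L]
    [Algebra k K] [Algebra K L] [FiniteDimensional K L] [IsGalois K L]
    (hfg : (⊤ : IntermediateField k K).FG) (htr : Algebra.trdeg k K = 1) :
    Function.Surjective (Algebra.norm K : L → K) ∧
      ∀ u : Lˣ, Algebra.norm K (u : L) = 1 ↔
        u ∈ Subgroup.closure {v : Lˣ | ∃ (w : Lˣ) (g : L ≃ₐ[K] L), (v : L) = (w : L) / g (w : L)} := by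
  exact ⟨norm_surjective (Groth.Agent.S0212.result k K 1 htr),
    fun u => ⟨mem_of_norm_eq_one htr u, norm_one_of_mem⟩⟩


end Groth.Agent.S16333
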