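import Groth.Statements.S16336
import Mathlib

set_option autoImplicit false
universe u v w w'
open InvTh

namespace Groth.Agent.S16336

/-- Let `A` be a commutative ring and `Γ` a finite group whose order is invertible in `A`; let `M`, `N`
be `A`-modules with `A`-linear actions of `Γ` and `f : M → N` an `A`-linear surjective map commuting
with the actions. Then `f` maps the `Γ`-fixed elements of `M` onto the `Γ`-fixed elements of `N`:
the functor of invariants is exact for such tame actions. (The published lemma concerns push-forward
from a separated tame Deligne–Mumford stack to its coarse moduli scheme: it preserves quasi-coherent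
and coherent sheaves and is exact; this row is the module statement its proof establishes for the
exactness. The coherence assertion is not part of this row.) -/
theorem result
    (A : Type u) [CommRing A] (Γ : Type v) [Group Γ] [Finite Γ] (hΓ : IsUnit (Nat.card Γ : A))
    (M : Type w) [AddCommGroup M] [Module A M] [DistribMulAction Γ M] [SMulCommClass Γ A M]
    (N : Type w') [AddCommGroup N] [Module A N] [DistribMulAction Γ N] [SMulCommClass Γ A N]
    (f : M →ₗ[A] N) (hf : ∀ (γ : Γ) (m : M), f (γ • m) = γ • f m)
    (hsurj : Function.Surjective f) (n : N) (hn : ∀ γ : Γ, γ • n = n) :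
    ∃ m : M, (∀ γ : Γ, γ • m = m) ∧ f m = n := by
  classical
  cases nonempty_fintype Γ
  obtain ⟨u, hu⟩ := hΓ.exists_left_inv
  obtain ⟨m, rfl⟩ := hsurj n
  refine ⟨u • ∑ γ : Γ, γ • m, fun δ => ?_, ?_⟩
  · rw [smul_comm, Finset.smul_sum]
    congr 1
    simp_rw [smul_smul]
    exact Fintype.sum_equiv (Equiv.mulLeft δ) _ _ fun γ => rfl
  · rw [map_smul, map_sum]
    simp only [hf, hn, Finset.sum_const, Finset.card_univ, ← Nat.card_eq_fintype_card]
    rw [← Nat.cast_smul_eq_nsmul A, smul_smul, hu, one_smul]

end Groth.Agent.S16336
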