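import Groth.Statements.S16337
import Mathlib

set_option autoImplicit false
universe u v w
open InvTh

namespace Groth.Agent.S16337

/-- Let `A` be a commutative ring, `Γ` a finite group whose order is invertible in `A`, `M` an
`A`-module with an `A`-linear action of `Γ`, and `I` an ideal of `A`. Then reduction modulo `I`
induces a bijection `M^Γ / I·M^Γ ≅ (M / IM)^Γ`: (a) an element of `M` fixed by `Γ` modulo `IM` is
congruent modulo `IM` to a `Γ`-fixed element, and (b) a `Γ`-fixed element lying in `IM` lies in
`I·M^Γ`, where `M^Γ` is the submodule of `Γ`-fixed elements. (The published lemma says that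
push-forward to the coarse space of a tame stack over a complete local base commutes with reduction
modulo powers of the maximal ideal; this row is the module statement its proof establishes, for an
arbitrary ideal.) -/
theorem result
    (A : Type u) [CommRing A] (Γ : Type v) [Group Γ] [Finite Γ] (hΓ : IsUnit (Nat.card Γ : A))
    (M : Type w) [AddCommGroup M] [Module A M] [DistribMulAction Γ M] [SMulCommClass Γ A M]
    (I : Ideal A) :
    (∀ x : M, (∀ γ : Γ, γ • x - x ∈ I • (⊤ : Submodule A M)) →
        ∃ y : M, (∀ γ : Γ, γ • y = y) ∧ x - y ∈ I • (⊤ : Submodule A M)) ∧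
      ∀ y : M, (∀ γ : Γ, γ • y = y) → y ∈ I • (⊤ : Submodule A M) →
        y ∈ I • Submodule.span A {m : M | ∀ γ : Γ, γ • m = m} := by
  classical
  cases nonempty_fintype Γ
  obtain ⟨u, hu⟩ := hΓ.exists_left_inv
  let avg : M →ₗ[A] M :=
    { toFun := fun m => u • ∑ γ : Γ, γ • m
      map_add' := fun a b => by simp only [smul_add, Finset.sum_add_distrib]
      map_smul' := fun a b => by
        simp only [RingHom.id_apply]
        rw [Finset.sum_congr rfl fun γ _ => smul_comm γ a b, ← Finset.smul_sum, smul_comm] }
  have hfix : ∀ m, ∀ δ : Γ, δ • avg m = avg m := fun m δ => by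
    show δ • u • (∑ γ : Γ, γ • m) = u • ∑ γ : Γ, γ • m
    rw [smul_comm, Finset.smul_sum]
    congr 1
    simp_rw [smul_smul]
    exact Fintype.sum_equiv (Equiv.mulLeft δ) _ _ fun γ => rfl
  have hid : ∀ m : M, (∀ γ : Γ, γ • m = m) → avg m = m := fun m hm => by
    show u • ∑ γ : Γ, γ • m = m
    simp only [hm, Finset.sum_const, Finset.card_univ, ← Nat.card_eq_fintype_card]
    rw [← Nat.cast_smul_eq_nsmul A, smul_smul, hu, one_smul]
  refine ⟨fun x hx => ⟨avg x, hfix x, ?_⟩, fun y hy hy' => ?_⟩
  · have h1 : avg x - x = u • ∑ γ : Γ, (γ • x - x) := by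
      show u • ∑ γ : Γ, γ • x - x = _
      rw [Finset.sum_sub_distrib, smul_sub, Finset.sum_const, Finset.card_univ,
        ← Nat.card_eq_fintype_card, ← Nat.cast_smul_eq_nsmul A, smul_smul, hu, one_smul]
    rw [← neg_sub, h1]
    exact neg_mem (Submodule.smul_mem _ _ (Submodule.sum_mem _ fun γ _ => hx γ))
  · rw [← hid y hy]
    have h1 : avg y ∈ Submodule.map avg (I • (⊤ : Submodule A M)) := ⟨y, hy', rfl⟩
    rw [Submodule.map_smul''] at h1
    refine Submodule.smul_mono le_rfl ?_ h1
    rintro z ⟨m, -, rfl⟩
    exact Submodule.subset_span (hfix m)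

end Groth.Agent.S16337
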