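import Groth.Statements.S16338
import Groth.Agent.Lib.AlgSt.AutDense.Basic
import Groth.Agent.Lib.AlgSt.Topology
import Groth.Agent.Lib.AlgSt.Mono
import Groth.Agent.Lib.AlgSt.DiagLFT
import Groth.Agent.Lib.AlgSt.OpenSub
import Groth.Agent.Lib.FibCat.FibSet


set_option autoImplicit false
set_option backward.isDefEq.respectTransparency false
set_option backward.isDefEq.respectTransparency.types false
universe u
open CategoryTheory
open AlgSt

namespace Groth.Agent.S16338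

set_option backward.isDefEq.respectTransparency false
set_option backward.isDefEq.respectTransparency.types false
open CategoryTheory AlgebraicGeometry

/-- Let `S` be a scheme, `𝒳` and `𝒴` Deligne–Mumford stacks over `(Sch/S)` (fppf topology) such that the
diagonal of `𝒴` is representable by algebraic spaces and separated (the isomorphism spaces of `𝒴`
are separated), and `F : 𝒳 → 𝒴` a functor over `(Sch/S)` representable by algebraic spaces. Suppose
`i : 𝒰 → 𝒳` and `j : 𝒱 → 𝒴` are open immersions with `𝒰`, `𝒱` representable by algebraic spaces, the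
image of `|𝒰|` is dense in `|𝒳|`, and `F` maps `𝒰` into `𝒱`: there is `G : 𝒰 → 𝒱` with a
2-isomorphism `G ⋙ j ≅ i ⋙ F` over `(Sch/S)`. Then every 2-endomorphism `α : F ⇒ F` over `(Sch/S)`
(all of which are invertible, the fibres being groupoids) equals the identity. Density is taken in
the topological space of points of `𝒳` (topological, not scheme-theoretic, density). (The published
statement works over a Noetherian base with Deligne–Mumford stacks whose isomorphism spaces are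
separated and of finite type; this row keeps only the separatedness of the isomorphism spaces of
`𝒴`, which its proof uses.) -/
theorem result
    (S : AlgebraicGeometry.Scheme.{u}) (𝒳 𝒴 𝒰 𝒱 : AlgSt.Cat S)
    (h𝒳 : AlgSt.IsDM AlgebraicGeometry.Scheme.fppfPrecoverage 𝒳)
    (h𝒴 : AlgSt.IsDM AlgebraicGeometry.Scheme.fppfPrecoverage 𝒴)
    (hΔ : AlgSt.RepByAlgSpWith AlgSp.IsSeparatedMor (FibCat.diag (FibCat.toSelf 𝒴)))
    (F : 𝒳 ⥤ᵇ 𝒴) (hF : AlgSt.RepByAlgSp1 F)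
    (i : 𝒰 ⥤ᵇ 𝒳) (hi : AlgSt.IsOpenImm i) (h𝒰 : AlgSt.RepByAlgSp 𝒰)
    (hdense : Dense (Set.range (AlgSt.Points.map i)))
    (j : 𝒱 ⥤ᵇ 𝒴) (hj : AlgSt.IsOpenImm j) (h𝒱 : AlgSt.RepByAlgSp 𝒱)
    (G : 𝒰 ⥤ᵇ 𝒱) (e : BasedFunctor.comp G j ≅ BasedFunctor.comp i F)
    (α : F ⟶ F) : α = 𝟙 F := by
  have hX := h𝒳.1
  have hfX := hX.isStack.1
  have hfY := h𝒴.1.isStack.1
  have hmono := GrothLib.AlgSt.isMono_of_isImm (f := j) (GrothLib.AlgSt.repByAlgSpWith_mono (fun _ _ _ _ _ h =>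
    GrothLib.AlgSp.repWith_mono h fun _ _ g (hg : IsOpenImmersion g) => show IsImmersion g from inferInstance) hj)
  have hVs := GrothLib.AlgSt.isFibSetoid_of_repByAlgSp h𝒱
  obtain ⟨hjf, hjff⟩ := GrothLib.AlgSt.full_faithful_of_isMono hVs.1 hfY j hmono
  have hl : ∀ x : 𝒳.obj, 𝒴.p.IsHomLift (𝟙 (𝒳.p.obj x)) (α.toNatTrans.app x) := fun x => α.isHomLift' x
  have hmapα : ∀ x : 𝒳.obj, 𝒴.p.map (α.toNatTrans.app x) = 𝟙 _ := fun x => by
    have := hl x
    have h2 : 𝒴.p.IsHomLift (𝟙 (𝒴.p.obj (F.obj x))) (α.toNatTrans.app x) :=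
      GrothLib.FibCat.isHomLift_id_of_eq 𝒴.p (R := 𝒳.p.obj x) _ (Or.inl rfl)
    simpa using IsHomLift.fac' 𝒴.p (𝟙 (𝒴.p.obj (F.obj x))) (α.toNatTrans.app x)
  have h1 : ∀ v : 𝒰.obj, α.toNatTrans.app (i.obj v) = 𝟙 _ := fun v => by
    let θ : j.obj (G.obj v) ≅ F.obj (i.obj v) := ((CategoryTheory.BasedNatTrans.forgetful _ _).mapIso e).app v
    obtain ⟨χ, hχ⟩ := j.toFunctor.map_surjective (X := G.obj v) (Y := G.obj v) (θ.hom ≫ α.toNatTrans.app (i.obj v) ≫ θ.inv)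
    have hθ : 𝒴.p.map (θ.hom ≫ α.toNatTrans.app (i.obj v) ≫ θ.inv) = 𝟙 _ := by
      rw [Functor.map_comp, Functor.map_comp, show 𝒴.p.map (α.toNatTrans.app (i.obj v)) = 𝟙 _ from hmapα _,
        Category.id_comp]
      exact (𝒴.p.mapIso θ).hom_inv_id
    rw [← hχ] at hθ
    have h3 : 𝒱.p.IsHomLift (𝟙 (𝒱.p.obj (G.obj v))) χ := by
      refine (j.isHomLift_iff _ χ).1 ?_
      refine IsHomLift.of_fac _ _ _ (j.w_obj _) (j.w_obj _) ?_
      simp [hθ]
    have h4 : χ = 𝟙 _ := GrothLib.FibCat.IsFibSetoid.hom_ext hVs (by simpa using IsHomLift.fac' 𝒱.p (𝟙 (𝒱.p.obj (G.obj v))) χ)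
    rw [h4, j.toFunctor.map_id] at hχ
    rw [← cancel_epi θ.hom, ← cancel_mono θ.inv, Category.assoc]
    exact hχ.symm.trans (by simp)
  have h2 : ∀ {z : 𝒳.obj} {v : 𝒰.obj}, (z ⟶ i.obj v) → α.toNatTrans.app z = 𝟙 _ := fun {z v} m => by
    have n := α.toNatTrans.naturality m
    rw [h1 v] at n
    refine GrothLib.FibCat.IsFibGrpd.hom_ext' hfY (F.map m) ((hmapα z).trans (𝒴.p.map_id _).symm) ?_
    exact n.symm.trans ((Category.comp_id _).trans (Category.id_comp _).symm)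
  have h3 : ∀ {z x : 𝒳.obj} (m : z ⟶ x), α.toNatTrans.app z = 𝟙 _ →
      F.map m ≫ α.toNatTrans.app x = F.map m ≫ 𝟙 _ := fun m hz => by
    rw [α.toNatTrans.naturality m, hz, Category.id_comp, Category.comp_id]
  obtain ⟨W, w, hwe, hws⟩ := h𝒳.2
  have hw : AlgSt.RepByAlgSpWith (AlgSp.LocP @Smooth) w := GrothLib.AlgSt.repByAlgSpWith_mono
    (fun _ _ _ hA hB h => GrothLib.AlgSt.locP_smooth_of_isEtaleMor hA hB h) hwe
  have hu := GrothLib.AlgSt.repByAlgSpWith_unramified_diag_toSelf h𝒴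
  have hid : ∀ x : 𝒳.obj, 𝒴.p.IsHomLift (𝟙 (𝒳.p.obj x)) (𝟙 (F.obj x)) := fun x => IsHomLift.id (F.w_obj x)
  let y0 := w.obj (GrothLib.FibCat.Yon.idObj W)
  have h0 : α.toNatTrans.app y0 = 𝟙 _ := by
    have hy0 : 𝒳.p.obj y0 = W := w.w_obj _
    refine GrothLib.AlgSt.aut_eq_of_agree_dense' hΔ hu hfY (R := W) ((F.w_obj y0).trans hy0) _ _
      (by have := hl y0; exact GrothLib.FibCat.isHomLift_id_of_eq 𝒴.p (R := 𝒳.p.obj y0) _ (Or.inl ((F.w_obj y0).trans hy0)))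
      (IsHomLift.id ((F.w_obj y0).trans hy0)) ?_
    refine (hdense.preimage (GrothLib.AlgSt.isOpenMap_ofChart hfX hw)).mono ?_
    rintro t ⟨q, hq⟩
    obtain ⟨q, rfl⟩ := AlgSt.Points.mk_surjective q
    obtain ⟨r, a, b, -⟩ := GrothLib.AlgSt.rel_of_mk_eq hfX hq
    let ot : (FibCat.overCat W).obj := Over.mk (Over.homMk (W.left.fromSpecResidueField t) rfl :
      Over.mk (W.left.fromSpecResidueField t ≫ W.hom) ⟶ W)
    have ha : 𝒳.p.IsHomLift (GrothLib.AlgSt.fptBase b) b := GrothLib.AlgSt.isHomLift_fptBase b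
    have := GrothLib.FibCat.Yon.toId_lift ot
    have hwl : 𝒳.p.IsHomLift ot.hom (w.map (GrothLib.FibCat.Yon.toId ot)) := inferInstance
    let κ : r.obj ⟶ y0 := b ≫ w.map (GrothLib.FibCat.Yon.toId ot)
    have hκ : 𝒳.p.IsHomLift (GrothLib.AlgSt.fptBase b ≫ ot.hom) κ := inferInstance
    refine ⟨_, GrothLib.AlgSt.fptBase b ≫ ot.hom, _, F.map κ, inferInstance, ⟨IsLocalRing.closedPoint r.K, ?_⟩,
      h3 κ (h2 a)⟩
    change (W.left.fromSpecResidueField t) ((GrothLib.AlgSt.fptBase b).left _) = t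
    exact Scheme.fromSpecResidueField_apply _ _
  apply GrothLib.FibCat.natTrans_ext
  intro x
  change α.toNatTrans.app x = 𝟙 (F.obj x)
  refine GrothLib.AlgSt.aut_eq_of_agree_dense' hΔ hu hfY (R := 𝒳.p.obj x) (F.w_obj x) _ _ (hl x) (hid x) ?_
  obtain ⟨y, ey, hey⟩ := GrothLib.FibCat.Yon.exists_functor hfX x rfl
  obtain ⟨V, c, l, -, hcs, ⟨k⟩⟩ := GrothLib.AlgSt.exists_lift_chart y w hw hws
  have hsur : Surjective c.left := hcs
  convert dense_univ
  refine Set.eq_univ_iff_forall.2 fun t => ?_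
  obtain ⟨v, hv⟩ := c.left.surjective t
  let oc : (FibCat.overCat (𝒳.p.obj x)).obj := Over.mk c
  have := GrothLib.FibCat.Yon.toId_lift oc
  have hyc : 𝒳.p.IsHomLift c (y.map (GrothLib.FibCat.Yon.toId oc)) := inferInstanceAs (𝒳.p.IsHomLift oc.hom _)
  let m : y.obj oc ⟶ x := y.map (GrothLib.FibCat.Yon.toId oc) ≫ ey.hom
  have hm : 𝒳.p.IsHomLift c m := IsHomLift.comp_lift_id_right' 𝒳.p c _ (𝒳.p.obj x) _
  refine ⟨V, c, _, F.map m, inferInstance, ⟨v, hv⟩, h3 m ?_⟩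
  have kk := k.hom.toNatTrans.app (GrothLib.FibCat.Yon.idObj V)
  let kv : y.obj ((GrothLib.FibCat.overMap c).obj (GrothLib.FibCat.Yon.idObj V)) ⟶
    w.obj ((GrothLib.FibCat.overMap l).obj (GrothLib.FibCat.Yon.idObj V)) := kk
  let g : oc ⟶ (GrothLib.FibCat.overMap c).obj (GrothLib.FibCat.Yon.idObj V) := Over.homMk (𝟙 V) (by
    change 𝟙 V ≫ 𝟙 V ≫ c = c; simp)
  let M : y.obj oc ⟶ y0 := y.map g ≫ kv ≫ w.map (GrothLib.FibCat.Yon.toId _)
  have n := α.toNatTrans.naturality M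
  rw [h0] at n
  refine GrothLib.FibCat.IsFibGrpd.hom_ext' hfY (F.map M) ((hmapα _).trans (𝒴.p.map_id _).symm) ?_
  exact n.symm.trans ((Category.comp_id _).trans (Category.id_comp _).symm)

end Groth.Agent.S16338
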