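import Groth.Statements.S16343
import Mathlib

set_option autoImplicit false
open KatoHom

namespace Groth.Agent.S16343

/-- Let P be a set of primes and π : A → T a surjection of abelian groups whose kernel is ℓ-divisible
for every ℓ ∈ P, with T a torsion group; let T(P) be the subgroup of elements of T killed by a
positive integer all of whose prime factors lie in P, and T' the subgroup of elements killed by a
positive integer none of whose prime factors lies in P. Then the preimage π⁻¹(T') is ℓ-divisible for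
every ℓ ∈ P, and π has a section s over T(P) for which (d, t) ↦ d + s(t) is a bijection from π⁻¹(T')
× T(P) onto A, so that A is the direct sum of π⁻¹(T') and a copy of T(P). (The decomposition is
expressed through a section of π over T(P).) -/
theorem result
    {A T : Type*} [AddCommGroup A] [AddCommGroup T] (P : Set ℕ) (hP : ∀ p ∈ P, p.Prime)
    (π : A →+ T) (hπ : Function.Surjective π) (hT : ∀ t : T, ∃ n : ℕ, 0 < n ∧ n • t = 0)
    (hD : ∀ ℓ ∈ P, ∀ x ∈ π.ker, ∃ y ∈ π.ker, ℓ • y = x)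
    (TP T' : AddSubgroup T)
    (hTP : ∀ t, t ∈ TP ↔ ∃ n : ℕ, 0 < n ∧ (∀ p : ℕ, p.Prime → p ∣ n → p ∈ P) ∧ n • t = 0)
    (hT' : ∀ t, t ∈ T' ↔ ∃ n : ℕ, 0 < n ∧ (∀ p : ℕ, p.Prime → p ∣ n → p ∉ P) ∧ n • t = 0) :
    (∀ ℓ ∈ P, ∀ x ∈ T'.comap π, ∃ y ∈ T'.comap π, ℓ • y = x) ∧
    ∃ s : TP →+ A, (∀ t : TP, π (s t) = (t : T)) ∧
      Function.Bijective (fun q : (T'.comap π) × TP => (q.1 : A) + s q.2) := by
  have hnotP : ∀ (ℓ n : ℕ), ℓ ∈ P → (∀ p : ℕ, p.Prime → p ∣ n → p ∉ P) → Nat.Coprime ℓ n := by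
    intro ℓ n hℓ hn
    exact (hP ℓ hℓ).coprime_iff_not_dvd.2 fun h => hn ℓ (hP ℓ hℓ) h hℓ
  refine ⟨fun ℓ hℓ x hx => ?_, ?_⟩
  · obtain ⟨n, hn0, hn, hnx⟩ := (hT' _).1 (AddSubgroup.mem_comap.1 hx)
    obtain ⟨u, v, huv⟩ : ∃ u v : ℤ, u * (ℓ : ℤ) + v * (n : ℤ) = 1 :=
      (Int.isCoprime_iff_gcd_eq_one.2 (by simpa [Int.gcd_natCast_natCast] using hnotP ℓ n hℓ hn))
    obtain ⟨y₀, hy₀⟩ := hπ (u • π x)
    have h1 : (ℓ : ℤ) • π y₀ = π x := by
      calc (ℓ : ℤ) • π y₀ = (u * (ℓ : ℤ) + v * (n : ℤ)) • π x := by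
            rw [hy₀, smul_smul, add_smul, mul_smul v (n : ℤ) (π x), natCast_zsmul (π x) n, hnx,
              smul_zero, add_zero, mul_comm]
        _ = π x := by rw [huv, one_smul]
    have hk : x - ℓ • y₀ ∈ π.ker := by
      rw [AddMonoidHom.mem_ker, map_sub, map_nsmul, ← natCast_zsmul, h1, sub_self]
    obtain ⟨k, hk', hk2⟩ := hD ℓ hℓ _ hk
    refine ⟨y₀ + k, ?_, by rw [nsmul_add, hk2, add_sub_cancel]⟩
    rw [AddSubgroup.mem_comap, map_add, AddMonoidHom.mem_ker.1 hk', add_zero, hy₀]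
    exact T'.zsmul_mem (AddSubgroup.mem_comap.1 hx) u
  · -- divisibility of the kernel by every integer with prime factors in P
    have hDn : ∀ n : ℕ, (∀ p : ℕ, p.Prime → p ∣ n → p ∈ P) → 0 < n →
        ∀ x ∈ π.ker, ∃ y ∈ π.ker, n • y = x := by
      intro n
      induction n using Nat.strong_induction_on with
      | _ n ih =>
        intro hn h0 x hx
        by_cases h1 : n = 1
        · exact ⟨x, hx, by rw [h1, one_nsmul]⟩
        · have hp := Nat.minFac_prime h1
          obtain ⟨m, hm⟩ := Nat.minFac_dvd n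
          obtain ⟨y, hy, hy2⟩ := hD _ (hn _ hp (Nat.minFac_dvd n)) x hx
          have hm0 : 0 < m := Nat.pos_of_mul_pos_left (hm ▸ h0)
          have hlt : m < n := by rw [hm]; exact lt_mul_left hm0 hp.one_lt
          obtain ⟨z, hz, hz2⟩ := ih m hlt (fun p hpp hd => hn p hpp (hm ▸ hd.mul_left _)) hm0 y hy
          exact ⟨z, hz, by rw [hm, ← smul_smul, hz2, hy2]⟩
    -- Zorn over partial sections
    let S : Set (TP →ₗ.[ℤ] A) := {f | ∀ x : f.domain, π (f x) = ((x : TP) : T)}
    obtain ⟨f, hfmax⟩ : ∃ f, Maximal (· ∈ S) f := by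
      refine zorn_le₀ S fun c hc hchain => ?_
      rcases c.eq_empty_or_nonempty with rfl | hne
      · refine ⟨⊥, fun x => ?_, fun z hz => absurd hz (Set.notMem_empty z)⟩
        have hx : (x : TP) = 0 := (Submodule.mem_bot ℤ).1 x.2
        have hx' : x = 0 := Subtype.ext hx
        rw [hx', LinearPMap.map_zero, map_zero]
        simp
      · refine ⟨LinearPMap.sSup c hchain.directedOn, fun x => ?_,
          fun z hz => LinearPMap.le_sSup _ hz⟩
        have hx := x.2
        simp only [LinearPMap.domain_sSup] at hx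
        obtain ⟨D, ⟨g, hg, rfl⟩, hxg⟩ := (Submodule.mem_sSup_of_directed (hne.image _)
          (directedOn_image.2 (hchain.directedOn.mono fun {_ _} h => h.1))).1 hx
        have := (LinearPMap.le_sSup hchain.directedOn hg).2 (x := ⟨(x : TP), hxg⟩) (y := x) rfl
        rw [← this]
        exact hc hg ⟨(x : TP), hxg⟩
    have htop : f.domain = ⊤ := by
      refine Submodule.eq_top_iff'.2 fun t => by_contra fun ht => ?_
      obtain ⟨n, hn0, hn, hnt⟩ := (hTP t).1 t.2
      have hex : ∃ k : ℕ, 0 < k ∧ k • t ∈ f.domain :=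
        ⟨n, hn0, by
          rw [show n • t = 0 from Subtype.ext hnt]
          exact zero_mem _⟩
      classical
      set k := Nat.find hex with hkdef
      obtain ⟨hk0, hkt⟩ := Nat.find_spec hex
      rw [← hkdef] at hk0 hkt
      have hdiv : ∀ c : ℤ, c • t ∈ f.domain → (k : ℤ) ∣ c := by
        intro c hc
        rw [Int.dvd_iff_emod_eq_zero]
        by_contra hne
        have h1 : (c % k) • t ∈ f.domain := by
          rw [Int.emod_def, sub_smul, mul_comm, mul_smul, natCast_zsmul]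
          exact sub_mem hc (f.domain.smul_mem _ hkt)
        have h2 := Int.emod_nonneg c (show (k : ℤ) ≠ 0 by omega)
        have h3 := Int.emod_lt_of_pos c (show (0 : ℤ) < k by omega)
        have := Nat.find_min' hex (m := (c % k).toNat) ⟨by omega, by
          rw [← natCast_zsmul, Int.toNat_of_nonneg h2]; exact h1⟩
        omega
      have hkn : k ∣ n := Int.natCast_dvd_natCast.1 (hdiv n (by
        rw [natCast_zsmul, show n • t = 0 from Subtype.ext hnt]
        exact zero_mem _))
      obtain ⟨a, ha⟩ := hπ (t : T)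
      have hker : k • a - f ⟨k • t, hkt⟩ ∈ π.ker := by
        rw [AddMonoidHom.mem_ker, map_sub, map_nsmul, ha, hfmax.prop ⟨k • t, hkt⟩]
        simp
      obtain ⟨d, hd, hd2⟩ := hDn k (fun p hp hpk => hn p hp (hpk.trans hkn)) hk0 _ hker
      have hkad : k • (a - d) = f ⟨k • t, hkt⟩ := by rw [nsmul_sub, hd2, sub_sub_cancel]
      have H : ∀ c : ℤ, c • t = 0 → c • (a - d) = 0 := by
        intro c hc
        obtain ⟨e, rfl⟩ := hdiv c (by rw [hc]; exact zero_mem _)
        have h0 : e • (⟨k • t, hkt⟩ : f.domain) = 0 := Subtype.ext (by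
          change e • (k • t) = 0
          rw [← hc, ← natCast_zsmul, smul_smul, mul_comm])
        rw [mul_comm, mul_smul, natCast_zsmul, hkad, ← f.map_smul, h0, f.map_zero]
      let g : TP →ₗ.[ℤ] A := LinearPMap.mkSpanSingleton' t (a - d) H
      have hcompat : ∀ (x : f.domain) (y : g.domain), (x : TP) = y → f x = g y := by
        intro x y hxy
        obtain ⟨c, hc⟩ := Submodule.mem_span_singleton.1 y.2
        obtain ⟨e, rfl⟩ := hdiv c (by rw [hc, ← hxy]; exact x.2)
        have hy : g y = ((k : ℤ) * e) • (a - d) := by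
          have := LinearPMap.mkSpanSingleton'_apply t (a - d) H ((k : ℤ) * e) (by rw [hc]; exact y.2)
          refine (congrArg _ (Subtype.ext hc.symm)).trans this
        have hx : x = e • (⟨k • t, hkt⟩ : f.domain) := Subtype.ext (by
          change (x : TP) = e • (k • t)
          rw [hxy, ← hc, ← natCast_zsmul, smul_smul, mul_comm])
        rw [hy, hx, f.map_smul, mul_comm, mul_smul, natCast_zsmul, hkad]
      have hmem : f.sup g hcompat ∈ S := by
        intro z
        obtain ⟨x, hx, y, hy, hz⟩ := Submodule.mem_sup.1 z.2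
        rw [LinearPMap.sup_apply hcompat ⟨x, hx⟩ ⟨y, hy⟩ z hz, map_add, hfmax.prop ⟨x, hx⟩, ← hz]
        obtain ⟨c, hc⟩ := Submodule.mem_span_singleton.1 hy
        subst hc
        rw [LinearPMap.mkSpanSingleton'_apply, map_zsmul, map_sub, ha, AddMonoidHom.mem_ker.1 hd,
          sub_zero]
        simp
      have hle := hfmax.le_of_ge hmem (LinearPMap.left_le_sup _ _ hcompat)
      exact ht (hle.1 (Submodule.mem_sup_right (Submodule.mem_span_singleton_self t)))
    let s : TP →+ A :=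
      { toFun := fun t => f ⟨t, htop ▸ Submodule.mem_top⟩
        map_zero' := f.map_zero
        map_add' := fun x y => f.map_add ⟨x, htop ▸ Submodule.mem_top⟩ ⟨y, htop ▸ Submodule.mem_top⟩ }
    have hs : ∀ t : TP, π (s t) = (t : T) := fun t => hfmax.prop ⟨t, htop ▸ Submodule.mem_top⟩
    have hinter : ∀ t : T, t ∈ TP → t ∈ T' → t = 0 := by
      intro t h1 h2
      obtain ⟨n, hn0, hn, hnt⟩ := (hTP t).1 h1
      obtain ⟨m, hm0, hm, hmt⟩ := (hT' t).1 h2
      have hco : Nat.Coprime n m :=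
        Nat.coprime_of_dvd fun p hp hpn hpm => hm p hp hpm (hn p hp hpn)
      obtain ⟨u, v, huv⟩ : ∃ u v : ℤ, u * (n : ℤ) + v * (m : ℤ) = 1 :=
        (Int.isCoprime_iff_gcd_eq_one.2 (by simpa [Int.gcd_natCast_natCast] using hco))
      rw [← one_smul ℤ t, ← huv, add_smul, mul_smul, mul_smul, natCast_zsmul, natCast_zsmul, hnt, hmt]
      simp
    refine ⟨s, hs, ?_, ?_⟩
    · rintro ⟨⟨q1, hq1⟩, t1⟩ ⟨⟨q2, hq2⟩, t2⟩ h
      simp only at h
      have hπeq := congrArg π h
      rw [map_add, map_add, hs, hs] at hπeq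
      have h12 : (t1 : T) - t2 = π q2 - π q1 :=
        sub_eq_sub_iff_add_eq_add.2 (by rw [add_comm, hπeq, add_comm])
      have h0 : (t1 : T) - t2 = 0 := hinter _ (TP.sub_mem t1.2 t2.2)
        (h12 ▸ T'.sub_mem (AddSubgroup.mem_comap.1 hq2) (AddSubgroup.mem_comap.1 hq1))
      obtain rfl : t1 = t2 := Subtype.ext (sub_eq_zero.1 h0)
      exact Prod.ext (Subtype.ext (add_right_cancel h)) rfl
    · intro a
      -- split π a
      obtain ⟨n, hn0, hna⟩ := hT (π a)
      classical
      obtain ⟨n1, n2, hn12, h1, h2⟩ : ∃ n1 n2 : ℕ, n = n1 * n2 ∧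
          (∀ p : ℕ, p.Prime → p ∣ n1 → p ∈ P) ∧ (∀ p : ℕ, p.Prime → p ∣ n2 → p ∉ P) := by
        clear hna
        induction n using Nat.strong_induction_on with
        | _ n ih =>
          by_cases h1 : n = 1
          · exact ⟨1, 1, by rw [h1, mul_one], fun p hp h => absurd (Nat.dvd_one.1 h) hp.ne_one,
              fun p hp h => absurd (Nat.dvd_one.1 h) hp.ne_one⟩
          · have hp := Nat.minFac_prime h1
            obtain ⟨m, hm⟩ := Nat.minFac_dvd n
            have hm0 : 0 < m := Nat.pos_of_mul_pos_left (hm ▸ hn0)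
            have hlt : m < n := by rw [hm]; exact lt_mul_left hm0 hp.one_lt
            obtain ⟨a1, a2, ha, b1, b2⟩ := ih m hlt hm0
            by_cases hq : n.minFac ∈ P
            · exact ⟨n.minFac * a1, a2, hm.trans (by rw [ha, mul_assoc]), fun p hpp h => by
                rcases hpp.dvd_mul.1 h with h | h
                · rwa [(Nat.prime_dvd_prime_iff_eq hpp hp).1 h]
                · exact b1 p hpp h, b2⟩
            · exact ⟨a1, n.minFac * a2, hm.trans (by rw [ha]; ring), b1, fun p hpp h => by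
                rcases hpp.dvd_mul.1 h with h | h
                · rwa [(Nat.prime_dvd_prime_iff_eq hpp hp).1 h]
                · exact b2 p hpp h⟩
      have hn1 : 0 < n1 := Nat.pos_of_mul_pos_right (hn12 ▸ hn0)
      have hn2 : 0 < n2 := Nat.pos_of_mul_pos_left (hn12 ▸ hn0)
      have hco : Nat.Coprime n1 n2 :=
        Nat.coprime_of_dvd fun p hp hp1 hp2 => h2 p hp hp2 (h1 p hp hp1)
      obtain ⟨u, v, huv⟩ : ∃ u v : ℤ, u * (n1 : ℤ) + v * (n2 : ℤ) = 1 :=
        (Int.isCoprime_iff_gcd_eq_one.2 (by simpa [Int.gcd_natCast_natCast] using hco))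
      have e1 : (v * (n2 : ℤ)) • π a ∈ TP := (hTP _).2 ⟨n1, hn1, h1, by
        rw [← natCast_zsmul, smul_smul, show (n1 : ℤ) * (v * (n2 : ℤ)) = v * (n : ℤ) by
          rw [hn12]; push_cast; ring, mul_smul, natCast_zsmul, hna, smul_zero]⟩
      refine ⟨(⟨a - s ⟨_, e1⟩, ?_⟩, ⟨_, e1⟩), sub_add_cancel _ _⟩
      rw [AddSubgroup.mem_comap, map_sub, hs]
      refine (hT' _).2 ⟨n2, hn2, h2, ?_⟩
      change n2 • (π a - (v * (n2 : ℤ)) • π a) = 0
      rw [show π a - (v * (n2 : ℤ)) • π a = (u * (n1 : ℤ)) • π a from by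
        conv_lhs => arg 1; rw [← one_smul ℤ (π a), ← huv, add_smul]
        rw [add_sub_cancel_right], ← natCast_zsmul, smul_smul,
        show (n2 : ℤ) * (u * (n1 : ℤ)) = u * (n : ℤ) by rw [hn12]; push_cast; ring,
        mul_smul, natCast_zsmul, hna, smul_zero]

end Groth.Agent.S16343
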