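import Groth.Statements.S16344
import Mathlib.Topology.Compactness.Compact
import Mathlib.Topology.Algebra.Group.Basic
import Mathlib.Topology.Separation.Hausdorff
-- import your own Groth.Agent.* helpers here

set_option autoImplicit false
universe u v
open IdeleMod

namespace Groth.Agent.S16344

/-- Let (G_i) be an inverse system, indexed by a directed preorder, of compact Hausdorff topological
abelian groups with continuous surjective transition maps, let G be its limit (the group of
compatible families) and let m be a natural number. Then the canonical map G/mG → lim G_i/mG_i is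
bijective: a compatible family that lies in mG_i at every index is m times a compatible family
(injectivity), and every family that is compatible modulo m agrees modulo m, index by index, with a
compatible family (surjectivity). -/
theorem result
    {ι : Type u} [Preorder ι] [IsDirected ι (· ≤ ·)]
    (G : ι → Type v) [∀ i, AddCommGroup (G i)] [∀ i, TopologicalSpace (G i)]
    [∀ i, IsTopologicalAddGroup (G i)] [∀ i, CompactSpace (G i)] [∀ i, T2Space (G i)]
    (f : ∀ ⦃i j : ι⦄, i ≤ j → (G j →+ G i)) (hf : ∀ i j (h : i ≤ j), Continuous (f h))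
    (hid : ∀ i (x : G i), f (le_refl i) x = x)
    (hcomp : ∀ i j k (hij : i ≤ j) (hjk : j ≤ k) (x : G k), f hij (f hjk x) = f (hij.trans hjk) x)
    (hsurj : ∀ i j (h : i ≤ j), Function.Surjective (f h)) (m : ℕ) :
    (∀ x : ∀ i, G i, (∀ i j (h : i ≤ j), f h (x j) = x i) → (∀ i, ∃ y : G i, m • y = x i) →
        ∃ z : ∀ i, G i, (∀ i j (h : i ≤ j), f h (z j) = z i) ∧ ∀ i, m • z i = x i) ∧
    (∀ y : ∀ i, G i, (∀ i j (h : i ≤ j), ∃ w : G i, f h (y j) - y i = m • w) →
        ∃ x : ∀ i, G i, (∀ i j (h : i ≤ j), f h (x j) = x i) ∧ ∀ i, ∃ w : G i, x i - y i = m • w) := by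
  classical
  have key : ∀ (S : ∀ i, Set (G i)), (∀ i, IsClosed (S i)) → (∀ i, (S i).Nonempty) →
      (∀ i j (h : i ≤ j) z, z ∈ S j → f h z ∈ S i) →
      ∃ z : ∀ i, G i, (∀ i j (h : i ≤ j), f h (z j) = z i) ∧ ∀ i, z i ∈ S i := by
    intro S hSc hSn hSf
    cases isEmpty_or_nonempty ι
    · exact ⟨fun i => isEmptyElim i, fun i => isEmptyElim i, fun i => isEmptyElim i⟩
    let C : ι → Set (∀ i, G i) := fun j => {z | (∀ i (h : i ≤ j), f h (z j) = z i) ∧ z j ∈ S j}
    have hC : (⋂ j, C j).Nonempty := by
      refine IsCompact.nonempty_iInter_of_directed_nonempty_isCompact_isClosed C ?_ ?_ ?_ ?_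
      · intro a b
        obtain ⟨c, hac, hbc⟩ := exists_ge_ge a b
        have hmono : ∀ a, a ≤ c → C c ⊆ C a := fun a hac z hz =>
          ⟨fun i hi => by rw [← hz.1 a hac, hcomp, hz.1 i], hz.1 a hac ▸ hSf a c hac _ hz.2⟩
        exact ⟨c, hmono a hac, hmono b hbc⟩
      · intro j
        obtain ⟨y, hy⟩ := hSn j
        refine ⟨fun i => if h : i ≤ j then f h y else 0, fun i hi => ?_, ?_⟩
        · simp only [le_refl, dite_true, dif_pos hi, hid]
        · simpa [hid] using hy
      · intro j
        refine IsClosed.isCompact ?_
        exact IsClosed.inter (show IsClosed {z : ∀ i, G i | ∀ i (h : i ≤ j), f h (z j) = z i} by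
          simp only [Set.ofPred_forall]
          exact isClosed_iInter fun i => isClosed_iInter fun hi =>
            isClosed_eq ((hf i j hi).comp (continuous_apply j)) (continuous_apply i)) ((hSc j).preimage (continuous_apply j))
      · intro j
        exact IsClosed.inter (show IsClosed {z : ∀ i, G i | ∀ i (h : i ≤ j), f h (z j) = z i} by
          simp only [Set.ofPred_forall]
          exact isClosed_iInter fun i => isClosed_iInter fun hi =>
            isClosed_eq ((hf i j hi).comp (continuous_apply j)) (continuous_apply i)) ((hSc j).preimage (continuous_apply j))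
    obtain ⟨z, hz⟩ := hC
    rw [Set.mem_iInter] at hz
    exact ⟨z, fun i j h => (hz j).1 i h, fun i => (hz i).2⟩
  refine ⟨fun x hx hxm => ?_, fun y hy => ?_⟩
  · exact key (fun i => {y | m • y = x i}) (fun i => isClosed_eq (continuous_const_smul m) continuous_const) hxm
      fun i j h z hz => by show m • f h z = x i; rw [← map_nsmul, (hz : m • z = x j), hx i j h]
  · obtain ⟨z, hz, hzS⟩ := key (fun i => {z | ∃ w, z - y i = m • w})
      (fun i => by
        have : {z : G i | ∃ w, z - y i = m • w} = (fun z => z - y i) ⁻¹' Set.range (fun w : G i => m • w) := by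
          ext z; simp [eq_comm]
        rw [this]
        exact (isCompact_range (continuous_const_smul m)).isClosed.preimage (continuous_id.sub continuous_const))
      (fun i => ⟨y i, 0, by simp⟩)
      (fun i j h z ⟨w, hw⟩ => by
        obtain ⟨w', hw'⟩ := hy i j h
        refine ⟨f h w + w', ?_⟩
        rw [smul_add, ← map_nsmul, ← hw, ← hw', map_sub]
        abel)
    exact ⟨z, hz, hzS⟩

end Groth.Agent.S16344
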