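import Groth.Statements.S16345
import Groth.Agent.Lib.AffCompl12.Connected
import Groth.Agent.Lib.CotTangent.Components
import Groth.Agent.Lib.Transversal10.Dims
import Groth.Agent.S2280

set_option autoImplicit false
universe u
open KatoHom

namespace Groth.Agent.S16345

open AlgebraicGeometry CategoryTheory in
/-- Let X be a connected scheme, proper and smooth of relative dimension d ≥ 2 over a field L, and let D
⊆ X be a closed subscheme, smooth of relative dimension d − 1 over L (a smooth divisor), whose
complement in X is an affine open subset. Then D is connected (in particular non-empty). -/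
theorem result
    {L : Type u} [Field L] {X D : Scheme.{u}} (f : X ⟶ Spec (CommRingCat.of L)) (i : D ⟶ X)
    [IsProper f] (d : ℕ) (hd : 1 < d) [SmoothOfRelativeDimension d f]
    [IsClosedImmersion i] [SmoothOfRelativeDimension (d - 1) (i ≫ f)]
    [ConnectedSpace X] (U : X.Opens) (hU : IsAffineOpen U)
    (hDU : Set.range i.base = (U : Set X)ᶜ) : ConnectedSpace D := by
  haveI : Smooth f := SmoothOfRelativeDimension.smooth d f
  haveI : IsLocallyNoetherian X := LocallyOfFiniteType.isLocallyNoetherian f
  have hdom : ∀ x : X, IsDomain (X.presheaf.stalk x) := fun x => by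
    haveI := Groth.Agent.Lib.AlgMisc.GeomRegAt.isRegularLocalRing_stalk_of_mem_smoothLocus f (x := x)
      (by rw [f.smoothLocus_eq_top]; trivial)
    exact GrothLib.CMFree.isDomain_of_isRegularLocalRing (X.presheaf.stalk x)
  haveI : IsIntegral X := (Groth.Agent.S2280.result X).2.2 ⟨inferInstance, hdom⟩
  have hdim := GrothLib.CotTangent.topologicalKrullDim_integral_of_smoothOfRelativeDimension f d
  have hne : (U : Set X).Nonempty := by
    rw [Set.nonempty_iff_ne_empty]
    intro h
    haveI : Surjective i := ⟨Set.range_eq_univ.1 (hDU.trans (by rw [h, Set.compl_empty]))⟩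
    haveI : IsIso i := isIso_of_isClosedImmersion_of_surjective i
    haveI : SmoothOfRelativeDimension d (i ≫ f) :=
      (MorphismProperty.cancel_left_of_respectsIso (@SmoothOfRelativeDimension d) i f).2 inferInstance
    obtain ⟨x⟩ : Nonempty X := inferInstance
    have := GrothLib.Transversal.relDim_unique (i ≫ f) d (d - 1) ((inv i).base x)
    omega
  have h := GrothLib.AffCompl12.isConnected_compl_of_isIntegral L f
    (by rw [hdim]; exact_mod_cast hd) hU hne
  rw [← hDU] at h
  haveI : ConnectedSpace (Set.range i.base) := isConnected_iff_connectedSpace.1 h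
  exact (i.isClosedEmbedding.isEmbedding.toHomeomorph).symm.surjective.connectedSpace
    (i.isClosedEmbedding.isEmbedding.toHomeomorph).symm.continuous

end Groth.Agent.S16345
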