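import Mathlib
import Groth.Statements.S16346


set_option autoImplicit false
universe u v
open KatoHom

namespace Groth.Agent.S16346

/-- Let P be a set of primes and I_P the set of positive integers all of whose prime factors lie in P.
Let A be an abelian group, (B_n)_{n ∈ I_P} an inverse system of abelian groups with transition maps
B_n → B_m for m ∣ n, and φ_n : A → B_n homomorphisms vanishing on nA and compatible with the
transition maps, so that they induce φ̂ : Â → B̂ on the limits Â = lim A/nA and B̂ = lim B_n (limits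
taken as compatible families). Suppose some N ∈ I_P kills the torsion subgroup of B̂ and kills the
kernel of φ̂ (the latter meaning: a compatible family of residues (a_n) with φ_n(a_n) = 0 for all n
has N a_n ∈ nA for all n). Then the subgroup ⋂_{n ∈ I_P} nA is ℓ-divisible for every ℓ ∈ P, and it
contains every subgroup of A that is ℓ-divisible for all ℓ ∈ P; that is, it is the largest
P-divisible subgroup of A. -/
theorem result
    {A : Type u} [AddCommGroup A] (P : Set ℕ) (hP : ∀ p ∈ P, p.Prime)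
    (IP : Set ℕ) (hIP : ∀ n, n ∈ IP ↔ 0 < n ∧ ∀ p : ℕ, p.Prime → p ∣ n → p ∈ P)
    (B : IP → Type v) [∀ n, AddCommGroup (B n)]
    (g : ∀ ⦃m n : IP⦄, (m : ℕ) ∣ (n : ℕ) → (B n →+ B m))
    (hgid : ∀ (n : IP) (b : B n), g (dvd_refl (n : ℕ)) b = b)
    (hgcomp : ∀ (k m n : IP) (hkm : (k : ℕ) ∣ (m : ℕ)) (hmn : (m : ℕ) ∣ (n : ℕ)) (b : B n),
      g hkm (g hmn b) = g (hkm.trans hmn) b)
    (φ : ∀ n : IP, A →+ B n) (hφ : ∀ (n : IP) (a : A), φ n ((n : ℕ) • a) = 0)
    (hφg : ∀ (m n : IP) (h : (m : ℕ) ∣ (n : ℕ)) (a : A), g h (φ n a) = φ m a)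
    (N : ℕ) (hN : N ∈ IP)
    (htor : ∀ b : ∀ n : IP, B n, (∀ (m n : IP) (h : (m : ℕ) ∣ (n : ℕ)), g h (b n) = b m) →
      (∃ k : ℕ, 0 < k ∧ ∀ n, k • b n = 0) → ∀ n, N • b n = 0)
    (hker : ∀ a : IP → A, (∀ m n : IP, (m : ℕ) ∣ (n : ℕ) → ∃ c : A, a n - a m = (m : ℕ) • c) →
      (∀ n, φ n (a n) = 0) → ∀ n : IP, ∃ c : A, N • a n = (n : ℕ) • c) :
    (∀ ℓ ∈ P, ∀ x : A, (∀ n ∈ IP, ∃ y : A, x = n • y) →
        ∃ y : A, (∀ n ∈ IP, ∃ z : A, y = n • z) ∧ ℓ • y = x) ∧
    (∀ H : AddSubgroup A, (∀ ℓ ∈ P, ∀ x ∈ H, ∃ y ∈ H, ℓ • y = x) →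
        ∀ x ∈ H, ∀ n ∈ IP, ∃ y : A, x = n • y) := by
  have hmul : ∀ a b : ℕ, a ∈ IP → b ∈ IP → a * b ∈ IP := by
    intro a b ha hb
    rw [hIP] at ha hb ⊢
    refine ⟨Nat.mul_pos ha.1 hb.1, fun p hp hd => ?_⟩
    rcases hp.dvd_mul.1 hd with h | h
    · exact ha.2 p hp h
    · exact hb.2 p hp h
  refine ⟨fun ℓ hℓ x hx => ?_, fun H hH x hxH n hn => ?_⟩
  · have hℓI : ℓ ∈ IP := by
      rw [hIP]
      refine ⟨(hP ℓ hℓ).pos, fun p hp hd => ?_⟩
      rwa [(Nat.prime_dvd_prime_iff_eq hp (hP ℓ hℓ)).1 hd]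
    have hbase : ℓ * (N * N) ∈ IP := hmul _ _ hℓI (hmul _ _ hN hN)
    obtain ⟨w, hw⟩ := hx _ hbase
    refine ⟨(N * N) • w, fun n hn => ?_, by simp only [smul_smul]; rw [hw]⟩
    obtain ⟨u, hu⟩ := hx _ (hmul _ _ hbase hn)
    set e : A := w - n • u with he
    have hek : (ℓ * (N * N)) • e = 0 := by
      rw [he, smul_sub, ← hw, smul_smul, ← hu, sub_self]
    have hpos : 0 < ℓ * (N * N) := ((hIP _).1 hbase).1
    have hb : ∀ m : IP, N • φ m e = 0 := fun m =>
      htor (fun m => φ m e) (fun m n h => hφg m n h e)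
        ⟨_, hpos, fun m => by rw [← map_nsmul, hek, map_zero]⟩ m
    obtain ⟨c, hc⟩ := hker (fun _ => N • e) (fun m n _ => ⟨0, by simp⟩)
      (fun m => by rw [map_nsmul]; exact hb m) ⟨n, hn⟩
    refine ⟨(N * N) • u + c, ?_⟩
    have hwe : w = n • u + e := by rw [he, add_sub_cancel]
    rw [hwe, smul_add, smul_add, ← smul_smul N N e, hc, smul_smul, smul_smul, mul_comm (N * N) n]
  · induction n using Nat.strong_induction_on generalizing x with
    | _ n ih =>
      obtain ⟨hpos, hfac⟩ := (hIP n).1 hn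
      by_cases h1 : n = 1
      · exact ⟨x, by rw [h1, one_nsmul]⟩
      · have hp := Nat.minFac_prime h1
        obtain ⟨m, hm⟩ := Nat.minFac_dvd n
        obtain ⟨y, hyH, hy⟩ := hH n.minFac (hfac _ hp (Nat.minFac_dvd n)) x hxH
        have hm0 : 0 < m := by
          rcases Nat.eq_zero_or_pos m with rfl | h
          · simp at hm; omega
          · exact h
        have hmI : m ∈ IP := (hIP m).2 ⟨hm0, fun p hpp hd => hfac p hpp (hm ▸ hd.mul_left _)⟩
        have hlt : m < n := by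
          calc m < n.minFac * m := lt_mul_left hm0 hp.one_lt
            _ = n := hm.symm
        obtain ⟨z, hz⟩ := ih m hlt y hyH hmI
        refine ⟨z, ?_⟩
        rw [← hy, hz, smul_smul, ← hm]

end Groth.Agent.S16346
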