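import Groth.Statements.S1635
import Groth.Agent.Lib.Euler.Section

set_option autoImplicit false
universe u
open CategoryTheory CategoryTheory.Limits AlgebraicGeometry
open Curves

namespace Groth.Agent.S1635

/-- Let X be a proper curve over k with global functions k and genus 0, and L an invertible module of
degree d > 0. Then H^0(X, L) has dimension d + 1 and H^1(X, L) = 0. -/
theorem result (k : Type u) [Field k] (X : Scheme.{u}) [X.Over (Spec (CommRingCat.of k))]
    [IsIntegral X] [IsProper (X ↘ (Spec (CommRingCat.of k)))] (hdim : topologicalKrullDim X = 1)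
    (h0 : Module.finrank k (Coh.HH X (Coh.structureModule X) 0) = 1) (hg : Curv2.genus k X = 0)
    (L : X.Modules) (hL : PicF.IsInvertible L) (d : ℕ) (hd : 0 < d) (hdeg : Curv2.deg k X L 1 = d) :
    Module.finrank k (Coh.HH X L 0) = d + 1 ∧ Subsingleton (Coh.HH X L 1) := by
  have hc := GrothLib.Euler.isCoh_of_isInvertible hL
  haveI := hc.1
  haveI := GrothLib.Euler.finiteDimensional_HH k hc 1
  have e0 := GrothLib.Euler.euler_structure k (X := X) hdim.le
  rw [h0, hg] at e0
  have e1 := GrothLib.Euler.euler_eq_sub k hdim.le L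
  have e2 : Curv2.euler k X L = (d : ℤ) + 1 := by
    rw [Curv2.deg, e0] at hdeg
    omega
  have := (GrothLib.Euler.section_data k hdim.le hL
    (GrothLib.Euler.nontrivial_H0_of_euler_pos k hdim.le hc (by omega))).2.1
  rw [h0, hdeg] at this
  have h1 : Module.finrank k (Coh.HH X L 1) = 0 := by omega
  exact ⟨by omega, Module.finrank_zero_iff.1 h1⟩

end Groth.Agent.S1635
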