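import Groth.Statements.S16351
import Mathlib

set_option autoImplicit false
set_option linter.all false
universe u
open Cubic

namespace Groth.Agent.S16351

/-- Let K be a field of characteristic zero and S = V(F) ⊂ P^3_K a cone over a plane cubic curve C,
normalised so that the vertex is [1 : 0 : 0 : 0], i.e. F is a homogeneous cubic in K[x_0, …, x_3]
not involving x_0 and C = V(F) in the plane P^2 of the coordinates x_1, x_2, x_3. If C has five
K-rational points no three of which are collinear, then S has five K-rational points in general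
position (no four coplanar: any four representing vectors linearly independent). -/
theorem result (K : Type u) [Field K] [CharZero K]
    (G : MvPolynomial (Fin 3) K) (hG : G.IsHomogeneous 3) (F : MvPolynomial (Fin 4) K)
    (hF : F = MvPolynomial.rename Fin.succ G)
    (b : Fin 5 → (Fin 3 → K)) (hb : ∀ j : Fin 5, MvPolynomial.eval (b j) G = 0)
    (h3 : ∀ i j l : Fin 5, i ≠ j → j ≠ l → i ≠ l → LinearIndependent K ![b i, b j, b l]) :
    ∃ p : Fin 5 → (Fin 4 → K), (∀ j : Fin 5, MvPolynomial.eval (p j) F = 0) ∧
      ∀ j : Fin 5, LinearIndependent K (fun i : Fin 4 => p (j.succAbove i)) := by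
  classical
  have htri : ∀ (m : Fin 5) (d : Fin 4 → K), ∑ i, d i • b (m.succAbove i) = 0 → ∀ i, d i = 0 → d = 0 := by
    intro m d hd i hi
    rw [Fin.sum_univ_succAbove _ i, hi, zero_smul, zero_add] at hd
    have hne : ∀ a a' : Fin 3, a ≠ a' → m.succAbove (i.succAbove a) ≠ m.succAbove (i.succAbove a') :=
      fun a a' h h' => h (Fin.succAbove_right_injective (Fin.succAbove_right_injective h'))
    have hl := Fintype.linearIndependent_iff.mp
      (h3 _ _ _ (hne 0 1 (by decide)) (hne 1 2 (by decide)) (hne 0 2 (by decide))) (fun a => d (i.succAbove a))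
      (by rw [Fin.sum_univ_three] at hd ⊢; simpa using hd)
    funext j
    rcases Fin.eq_self_or_eq_succAbove i j with rfl | ⟨a, rfl⟩
    · exact hi
    · exact hl a
  have hrel : ∀ m : Fin 5, ∃ c : Fin 4 → K, ∑ i, c i • b (m.succAbove i) = 0 ∧ ∀ i, c i ≠ 0 := by
    intro m
    have hdep : ¬ LinearIndependent K (fun i : Fin 4 => b (m.succAbove i)) := fun h => by
      have := h.fintype_card_le_finrank
      simp at this
    obtain ⟨c, hc, i, hi⟩ := Fintype.not_linearIndependent_iff.mp hdep
    exact ⟨c, hc, fun j hj => hi (congrFun (htri m c hc j hj) i)⟩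
  choose c hc hc0 using hrel
  obtain ⟨s, hs⟩ := Finset.exists_notMem (insert (0 : K) (Finset.univ.image fun m : Fin 5 => -(c m 0) / c m 1))
  simp only [Finset.mem_insert, Finset.mem_image, Finset.mem_univ, true_and, not_or, not_exists] at hs
  let t : Fin 5 → K := ![1, s, 0, 0, 0]
  have ht : ∀ m, ∑ i, c m i * t (m.succAbove i) ≠ 0 := by
    intro m
    fin_cases m <;> simp [t, Fin.sum_univ_four, Fin.succAbove, Fin.succ, Fin.castSucc] <;>
      first
        | exact ⟨hc0 _ _, hs.1⟩
        | exact hc0 _ _
        | (intro h0; apply hs.2; rw [div_eq_iff (hc0 _ _)]; linear_combination -h0)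
  refine ⟨fun j => Fin.cons (t j) (b j), fun j => ?_, fun m => Fintype.linearIndependent_iff.mpr fun d hd => ?_⟩
  · rw [hF, MvPolynomial.eval_rename]
    exact hb j
  · have h0 : ∑ i, d i * t (m.succAbove i) = 0 := by simpa using congrFun hd 0
    have h1 : ∑ i, d i • b (m.succAbove i) = 0 := funext fun l => by simpa using congrFun hd l.succ
    set l := d 0 / c m 0
    have hz : d - l • c m = 0 := htri m _ (by
      simp only [Pi.sub_apply, Pi.smul_apply, smul_eq_mul, sub_smul, mul_smul, Finset.sum_sub_distrib, ← Finset.smul_sum, hc, h1, smul_zero, sub_zero]) 0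
      (by simp [l, hc0 m 0])
    have hd' : d = l • c m := sub_eq_zero.mp hz
    rw [hd'] at h0
    simp only [Pi.smul_apply, smul_eq_mul, mul_assoc, ← Finset.mul_sum] at h0
    have hl : l = 0 := (mul_eq_zero.mp h0).resolve_right (ht m)
    intro i
    rw [hd', hl, zero_smul, Pi.zero_apply]

end Groth.Agent.S16351
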