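import Groth.Statements.S16352
import Groth.Agent.Lib.CubicTangent.Basic

set_option autoImplicit false
set_option linter.all false
universe u
open Cubic

namespace Groth.Agent.S16352

/-- Let K be an algebraically closed field of characteristic zero and S = V(F) ⊂ P^3_K a cubic surface
which is irreducible and not a cone (no nonzero vector v has Σ_i v_i ∂F/∂x_i = 0). Let a be a smooth
point of S which is not a T-point: with ℓ = Σ_i ∂F/∂x_i(a) · x_i the (nonzero) linear form of the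
tangent plane T_a S, F is not congruent modulo ℓ to a product of three linear forms (i.e. T_a S ∩ S
is not set-theoretically a union of lines). Let P = Σ_i a_i ∂F/∂x_i be the first polar of a. Then
V(P) ∩ T_a S is a union of at most two lines through a, and every line through a lying on S lies in
V(P) ∩ T_a S; lines are 2-dimensional subspaces of K^4 and T_a S is the 3-dimensional subspace where
ℓ vanishes. -/
theorem result (K : Type u) [Field K] [IsAlgClosed K] [CharZero K]
    (F : MvPolynomial (Fin 4) K) (hF : F.IsHomogeneous 3) (hirr : Irreducible F)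
    (hcone : ¬ ∃ v : Fin 4 → K, v ≠ 0 ∧ ∑ i : Fin 4, v i • MvPolynomial.pderiv i F = 0)
    (a : Fin 4 → K) (ha : a ≠ 0) (hFa : MvPolynomial.eval a F = 0)
    (hsm : ∃ i : Fin 4, MvPolynomial.eval a (MvPolynomial.pderiv i F) ≠ 0)
    (ℓ : MvPolynomial (Fin 4) K)
    (hℓ : ℓ = ∑ i : Fin 4, MvPolynomial.C (MvPolynomial.eval a (MvPolynomial.pderiv i F)) * MvPolynomial.X i)
    (hT : ¬ ∃ L₁ L₂ L₃ : MvPolynomial (Fin 4) K, L₁.IsHomogeneous 1 ∧ L₂.IsHomogeneous 1 ∧ L₃.IsHomogeneous 1 ∧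
      F - L₁ * L₂ * L₃ ∈ Ideal.span {ℓ})
    (P : MvPolynomial (Fin 4) K) (hP : P = ∑ i : Fin 4, a i • MvPolynomial.pderiv i F)
    (H : Submodule K (Fin 4 → K)) (hH : ∀ x : Fin 4 → K, x ∈ H ↔ MvPolynomial.eval x ℓ = 0) :
    (∃ U₁ U₂ : Submodule K (Fin 4 → K), Module.finrank K ↥U₁ = 2 ∧ Module.finrank K ↥U₂ = 2 ∧ a ∈ U₁ ∧ a ∈ U₂ ∧
        U₁ ≤ H ∧ U₂ ≤ H ∧ {x : Fin 4 → K | x ∈ H ∧ MvPolynomial.eval x P = 0} = (U₁ : Set (Fin 4 → K)) ∪ (U₂ : Set (Fin 4 → K))) ∧
      ∀ U : Submodule K (Fin 4 → K), a ∈ U → Module.finrank K ↥U = 2 → (∀ u ∈ U, MvPolynomial.eval u F = 0) →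
        U ≤ H ∧ ∀ u ∈ U, MvPolynomial.eval u P = 0 := by
  classical
  obtain ⟨i₀, hi₀⟩ := hsm
  set T := GrothLib.CubicForm.ofPoly F with hTdef
  have hgrad : ∀ x, T a a x = 2 * MvPolynomial.eval x ℓ := fun x => by
    rw [hTdef, GrothLib.CubicForm.ofPoly_grad hF, hℓ]; simp [mul_comm]
  have hTP : ∀ x, T x x a = 2 * MvPolynomial.eval x P := fun x => by
    rw [hTdef, GrothLib.CubicForm.ofPoly_grad hF, hP]; simp
  have hH' : ∀ x, x ∈ H ↔ T a a x = 0 := fun x => by rw [hH, hgrad]; simp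
  have hP' : ∀ x, MvPolynomial.eval x P = 0 ↔ T x x a = 0 := fun x => by rw [hTP]; simp
  have hcube : ∀ x, T.cube x = 6 * MvPolynomial.eval x F := GrothLib.CubicForm.ofPoly_cube hF
  have haaa : T a a a = 0 := by
    have := hcube a
    rw [hFa, mul_zero] at this
    exact this
  have hg : T.lin a a ≠ 0 := fun h => hi₀ (by
    have h' := LinearMap.congr_fun h (Pi.single i₀ 1)
    rw [GrothLib.CubicForm.Tri.lin_apply, hgrad, hℓ] at h'
    simpa [Pi.single_apply] using h')
  obtain ⟨w, hw0, hw1, hw2, hw3⟩ := GrothLib.CubicTangent.exists_basis (T.lin a a) hg ha haaa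
  rw [GrothLib.CubicForm.Tri.lin_apply] at hw1 hw2 hw3
  set b := w 1 with hb
  set c := w 2 with hc
  have hrep : ∀ x, x = w.repr x 0 • a + w.repr x 1 • b + w.repr x 2 • c + w.repr x 3 • w 3 := fun x => by
    conv_lhs => rw [← w.sum_repr x]
    rw [Fin.sum_univ_four, hw0]
  have hr3 : ∀ x, x ∈ H → w.repr x 3 = 0 := fun x hx => by
    rw [hH'] at hx
    have h := congrArg (T.lin a a) (hrep x)
    simp only [map_add, map_smul, GrothLib.CubicForm.Tri.lin_apply, haaa, hw1, hw2, hw3, smul_eq_mul,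
      mul_zero, zero_add, mul_one] at h
    rw [← h, hx]
  have hdec : ∀ x, x ∈ H → x = w.repr x 0 • a + w.repr x 1 • b + w.repr x 2 • c := fun x hx => by
    have h := hrep x
    rwa [hr3 x hx, zero_smul, add_zero] at h
  have memH : ∀ s t u : K, s • a + t • b + u • c ∈ H := fun s t u => by
    rw [hH']; simp [haaa, hw1, hw2]
  have hq : ∀ s t u : K, T (s • a + t • b + u • c) (s • a + t • b + u • c) a =
      T a b b * t ^ 2 + (2 * T a b c) * (t * u) + T a c c * u ^ 2 := by
    intro s t u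
    have e1 : T a b a = 0 := by rw [T.symm₂]; exact hw1
    have e2 : T b a a = 0 := by rw [T.symm₁]; exact e1
    have e3 : T a c a = 0 := by rw [T.symm₂]; exact hw2
    have e4 : T c a a = 0 := by rw [T.symm₁]; exact e3
    have e5 : T b b a = T a b b := by rw [T.symm₁₃]
    have e6 : T c c a = T a c c := by rw [T.symm₁₃]
    have e7 : T b c a = T a b c := (T.rot a b c).symm
    have e8 : T c b a = T a b c := T.symm₁₃ c b a
    simp [haaa, e1, e2, e3, e4, e5, e6, e7, e8]
    ring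
  obtain ⟨p, q, r, s', hf⟩ := GrothLib.CubicTangent.exists_quad_factor (T a b b) (2 * T a b c) (T a c c)
  have hnz : (p ≠ 0 ∨ q ≠ 0) ∧ (r ≠ 0 ∨ s' ≠ 0) := by
    by_contra hcon
    have hzero : ∀ t u : K, T a b b * t ^ 2 + (2 * T a b c) * (t * u) + T a c c * u ^ 2 = 0 := by
      intro t u
      rw [hf]
      rcases not_and_or.1 hcon with h | h <;> push Not at h <;> simp [h.1, h.2]
    have hB : T a b b = 0 := by simpa using hzero 1 0
    have hD : T a c c = 0 := by simpa using hzero 0 1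
    have hC : T a b c = 0 := by simpa [hB, hD] using hzero 1 1
    obtain ⟨A₁, A₂, A₃, A₄, A₅, A₆, hA⟩ :=
      GrothLib.CubicTangent.exists_cubic_factor (T.cube b) (3 * T b b c) (3 * T b c c) (T.cube c)
    let lf : ((Fin 4 → K) →ₗ[K] K) → MvPolynomial (Fin 4) K :=
      fun φ => ∑ i, MvPolynomial.C (φ (Pi.single i 1)) * MvPolynomial.X i
    have hlf : ∀ φ x, MvPolynomial.eval x (lf φ) = φ x := fun φ x => by
      conv_rhs => rw [pi_eq_sum_univ' x]
      simp [lf, mul_comm]
    have hlfh : ∀ φ, (lf φ).IsHomogeneous 1 := fun φ =>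
      MvPolynomial.IsHomogeneous.sum _ _ _ fun i _ => MvPolynomial.isHomogeneous_C_mul_X _ _
    let φ₁ := (6 : K)⁻¹ • (A₁ • w.coord 1 + A₂ • w.coord 2)
    let φ₂ := A₃ • w.coord 1 + A₄ • w.coord 2
    let φ₃ := A₅ • w.coord 1 + A₆ • w.coord 2
    refine hT ⟨lf φ₁, lf φ₂, lf φ₃, hlfh _, hlfh _, hlfh _, ?_⟩
    rw [hℓ]
    refine GrothLib.CubicTangent.mem_span_of_eval_eq_zero
      (fun i => MvPolynomial.eval a (MvPolynomial.pderiv i F)) hi₀ _ fun x hx => ?_
    have hxH : x ∈ H := by rw [hH, hℓ]; exact hx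
    have hd := hdec x hxH
    have hcx : T.cube x = (A₁ * w.repr x 1 + A₂ * w.repr x 2) * (A₃ * w.repr x 1 + A₄ * w.repr x 2) *
        (A₅ * w.repr x 1 + A₆ * w.repr x 2) := by
      rw [← hA]
      set t := w.repr x 1
      set u := w.repr x 2
      have hy1 : T a a (t • b + u • c) = 0 := by simp [hw1, hw2]
      have hy2 : T a (t • b + u • c) (t • b + u • c) = 0 := by
        have e : T a c b = T a b c := T.symm₂ a c b
        simp [hB, hC, hD, e]
      rw [hd, add_assoc, add_comm, T.cube_add_smul, T.cube_comb]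
      have e1 : T (t • b + u • c) (t • b + u • c) a = 0 := (T.symm₁₃ _ _ _).trans hy2
      have e2 : T (t • b + u • c) a a = 0 := (T.symm₁₃ _ _ _).trans hy1
      rw [e1, e2, show T.cube a = 0 from haaa]
      ring
    have h6 : (6 : K) ≠ 0 := by norm_num
    have hF6 := hcube x
    rw [hcx] at hF6
    simp only [map_sub, map_mul, hlf, φ₁, φ₂, φ₃, LinearMap.smul_apply, LinearMap.add_apply,
      Module.Basis.coord_apply, smul_eq_mul]
    field_simp
    linear_combination -hF6
  have hker : ∀ p q : K, (p ≠ 0 ∨ q ≠ 0) →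
      Module.finrank K ↥(Submodule.span K ({a, q • b - p • c} : Set (Fin 4 → K))) = 2 ∧
      Submodule.span K ({a, q • b - p • c} : Set (Fin 4 → K)) ≤ H ∧
      ∀ x ∈ H, (p * w.repr x 1 + q * w.repr x 2 = 0 ↔
        x ∈ Submodule.span K ({a, q • b - p • c} : Set (Fin 4 → K))) := by
    intro p q hpq
    refine ⟨GrothLib.CubicForm.finrank_span_pair ha fun hmem => ?_, Submodule.span_le.2 ?_, fun x hx => ⟨fun h => ?_, fun h => ?_⟩⟩
    · obtain ⟨l, hl⟩ := Submodule.mem_span_singleton.1 hmem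
      have e1 := congrArg (fun v => w.repr v 1) hl
      have e2 := congrArg (fun v => w.repr v 2) hl
      simp [← hw0, hb, hc, Finsupp.single_apply] at e1 e2
      rcases hpq with h | h
      · exact h e2
      · exact h e1.symm
    · rintro v (rfl | rfl)
      · exact (hH' _).2 haaa
      · rw [SetLike.mem_coe, hH']; simp [hw1, hw2]
    · obtain ⟨l, h1, h2⟩ := GrothLib.CubicTangent.exists_smul_of_eq_zero hpq h
      refine Submodule.mem_span_pair.2 ⟨w.repr x 0, l, ?_⟩
      conv_rhs => rw [hdec x hx, h1, h2]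
      module
    · obtain ⟨m, l, rfl⟩ := Submodule.mem_span_pair.1 h
      simp [← hw0, hb, hc, Finsupp.single_apply]
      ring
  obtain ⟨hU₁, hle₁, hm₁⟩ := hker p q hnz.1
  obtain ⟨hU₂, hle₂, hm₂⟩ := hker r s' hnz.2
  refine ⟨⟨_, _, hU₁, hU₂, Submodule.subset_span (by simp), Submodule.subset_span (by simp), hle₁, hle₂, ?_⟩, ?_⟩
  · ext x
    simp only [Set.mem_setOf_eq, Set.mem_union, SetLike.mem_coe]
    constructor
    · rintro ⟨hx, h0⟩
      rw [hP', hdec x hx, hq, hf, mul_eq_zero] at h0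
      exact h0.imp (hm₁ x hx).1 (hm₂ x hx).1
    · intro h
      have hx : x ∈ H := h.elim (fun h => hle₁ h) (fun h => hle₂ h)
      refine ⟨hx, ?_⟩
      rw [hP', hdec x hx, hq, hf, mul_eq_zero]
      exact h.imp (hm₁ x hx).2 (hm₂ x hx).2
  · intro U haU hU hFU
    have h0 : ∀ u ∈ U, T.cube u = 0 := (GrothLib.CubicForm.ofPoly_line_iff hF U).2 hFU
    exact ⟨fun u hu => (hH' u).2 (T.eq_zero_of_cube_eq_zero U h0 haU haU hu),
      fun u hu => (hP' u).2 (T.eq_zero_of_cube_eq_zero U h0 hu hu haU)⟩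

end Groth.Agent.S16352
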