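import Groth.Statements.S16356
import Mathlib

set_option autoImplicit false
universe u
open OrdAV

namespace Groth.Agent.S16356

/-- For an odd prime p and a perfect field k of characteristic p, a root of unity in the ring of Witt
vectors W(k) whose residue in k is 1 is itself 1: if x ^ n = 1 with n ≥ 1 and the zeroth Witt
component of x is 1, then x = 1. (For p = 2 this fails: -1 in W(F_2).) -/
theorem result (p : ℕ) [Fact p.Prime] (hp : p ≠ 2)
    (k : Type u) [Field k] [CharP k p] [PerfectRing k p]
    (x : WittVector p k) (n : ℕ) (hn : 0 < n) (hx : x ^ n = 1) (h0 : x.coeff 0 = 1) : x = 1 := by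
  induction n using Nat.strong_induction_on generalizing x with
  | _ n ih =>
  rcases Nat.lt_or_ge n 2 with hn2 | hn2
  · rwa [show n = 1 by omega, pow_one] at hx
  obtain ⟨q, hq, m, rfl⟩ := Nat.exists_prime_and_dvd (show n ≠ 1 by omega)
  have hm : 0 < m := Nat.pos_of_mul_pos_left hn
  have hpp : (p : WittVector p k) ≠ 0 := WittVector.p_nonzero p k
  have key : ∀ z : WittVector p k, z ^ q = 1 → z.coeff 0 = 1 → z = 1 := by
    intro z hz hz0
    obtain ⟨y, hy⟩ : (p : WittVector p k) ∣ z - 1 := by
      rw [← Ideal.mem_span_singleton, WittVector.mem_span_p_iff_coeff_zero_eq_zero]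
      show WittVector.constantCoeff (z - 1) = 0
      rw [map_sub, map_one]
      exact sub_eq_zero.2 hz0
    have hzy : z = 1 + (p : WittVector p k) * y := by rw [← hy]; ring
    have hg := geom_sum_mul z q
    rw [hz, sub_self] at hg
    rcases mul_eq_zero.1 hg with hs | hs
    · exfalso
      by_cases hqp : q = p
      · have hodd : Odd p := (Fact.out : p.Prime).odd_of_ne_two hp
        have h2 := odd_sq_dvd_geom_sum₂_sub (1 : WittVector p k) y hodd
        subst q
        simp only [one_pow, mul_one, ← hzy] at h2
        simp only [hs, zero_sub, dvd_neg, sq] at h2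
        obtain ⟨w, hw⟩ := h2
        have hw' : (p : WittVector p k) * 1 = (p : WittVector p k) * ((p : WittVector p k) * w) := by
          rw [mul_one, ← mul_assoc]; exact hw
        have h1 := congrArg WittVector.constantCoeff (mul_left_cancel₀ hpp hw')
        rw [map_one, map_mul, map_natCast, CharP.cast_eq_zero k p, zero_mul] at h1
        exact one_ne_zero h1
      · have := congrArg WittVector.constantCoeff hs
        rw [map_sum, map_zero] at this
        simp only [map_pow, show WittVector.constantCoeff z = 1 from hz0, one_pow, Finset.sum_const,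
          Finset.card_range, nsmul_one] at this
        exact hqp ((Nat.prime_dvd_prime_iff_eq Fact.out hq).1
          ((CharP.cast_eq_zero_iff k p q).1 this)).symm
    · exact sub_eq_zero.1 hs
  have hxm : x ^ m = 1 := key (x ^ m) (by rw [← pow_mul, mul_comm]; exact hx) (by
    show WittVector.constantCoeff (x ^ m) = 1
    rw [map_pow, show WittVector.constantCoeff x = 1 from h0, one_pow])
  exact ih m (lt_mul_of_one_lt_left hm hq.one_lt) x hm hxm h0

end Groth.Agent.S16356
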