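import Groth.Statements.S16357
import Mathlib

set_option autoImplicit false
universe u
open OrdAV

namespace Groth.Agent.S16357

/-- Over a field L of characteristic zero, a monic polynomial h whose square has rational coefficients
has rational coefficients itself. -/
theorem result (L : Type u) [Field L] [CharZero L]
    (h : Polynomial L) (hm : h.Monic) (f : Polynomial ℚ)
    (hf : h ^ 2 = Polynomial.map (algebraMap ℚ L) f) :
    ∃ g : Polynomial ℚ, Polynomial.map (algebraMap ℚ L) g = h := by
  classical
  set d := h.natDegree with hd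
  have hdeg : (h ^ 2).natDegree = 2 * d := by rw [Polynomial.natDegree_pow]
  suffices H : ∀ m, m ≤ d → h.coeff (d - m) ∈ (algebraMap ℚ L).range by
    have hmem : ∀ i, h.coeff i ∈ (algebraMap ℚ L).range := by
      intro i
      rcases le_or_gt i d with hi | hi
      · have := H (d - i) (Nat.sub_le _ _)
        rwa [show d - (d - i) = i by omega] at this
      · exact ⟨0, by rw [map_zero, Polynomial.coeff_eq_zero_of_natDegree_lt hi]⟩
    obtain ⟨g, hg⟩ := (Polynomial.mem_map_range (algebraMap ℚ L)).2 hmem
    exact ⟨g, hg⟩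
  intro m
  induction m using Nat.strong_induction_on with
  | _ m ih =>
  intro hm
  rcases Nat.eq_zero_or_pos m with rfl | hpos
  · refine ⟨1, ?_⟩
    rw [map_one, Nat.sub_zero, hd]
    exact (Polynomial.Monic.coeff_natDegree ‹h.Monic›).symm
  have hc : (h ^ 2).coeff (2 * d - m) ∈ (algebraMap ℚ L).range :=
    ⟨f.coeff (2 * d - m), by rw [hf, Polynomial.coeff_map]⟩
  rw [sq, Polynomial.coeff_mul] at hc
  have hsplit : ∑ x ∈ Finset.HasAntidiagonal.antidiagonal (2 * d - m), h.coeff x.1 * h.coeff x.2 =
      2 * h.coeff (d - m) + ∑ x ∈ ((Finset.HasAntidiagonal.antidiagonal (2 * d - m)).erase (d - m, d)).erase (d, d - m),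
        h.coeff x.1 * h.coeff x.2 := by
    rw [← Finset.add_sum_erase _ _ (show ((d - m, d) : ℕ × ℕ) ∈ Finset.HasAntidiagonal.antidiagonal (2 * d - m) by
      rw [Finset.HasAntidiagonal.mem_antidiagonal]; omega), ← Finset.add_sum_erase _ _ (show ((d, d - m) : ℕ × ℕ) ∈
        (Finset.HasAntidiagonal.antidiagonal (2 * d - m)).erase (d - m, d) by
      rw [Finset.mem_erase, Finset.HasAntidiagonal.mem_antidiagonal, Ne, Prod.mk.injEq]; omega)]
    simp only [hd, Polynomial.Monic.coeff_natDegree ‹h.Monic›]
    ring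
  rw [hsplit] at hc
  have hrest : ∑ x ∈ ((Finset.HasAntidiagonal.antidiagonal (2 * d - m)).erase (d - m, d)).erase (d, d - m),
      h.coeff x.1 * h.coeff x.2 ∈ (algebraMap ℚ L).range := by
    refine Subring.sum_mem _ fun x hx => ?_
    simp only [Finset.mem_erase, Finset.HasAntidiagonal.mem_antidiagonal, Ne, Prod.ext_iff] at hx
    rcases le_or_gt x.1 d with h1 | h1
    · rcases le_or_gt x.2 d with h2 | h2
      · refine Subring.mul_mem _ ?_ ?_
        · have := ih (d - x.1) (by omega) (Nat.sub_le _ _)
          rwa [show d - (d - x.1) = x.1 by omega] at this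
        · have := ih (d - x.2) (by omega) (Nat.sub_le _ _)
          rwa [show d - (d - x.2) = x.2 by omega] at this
      · rw [Polynomial.coeff_eq_zero_of_natDegree_lt (n := x.2) h2, mul_zero]; exact Subring.zero_mem _
    · rw [Polynomial.coeff_eq_zero_of_natDegree_lt (n := x.1) h1, zero_mul]; exact Subring.zero_mem _
  have h2c := Subring.sub_mem _ hc hrest
  rw [add_sub_cancel_right] at h2c
  obtain ⟨q, hq⟩ := h2c
  exact ⟨q / 2, by rw [map_div₀, hq, map_ofNat, mul_div_cancel_left₀ _ two_ne_zero]⟩

end Groth.Agent.S16357
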