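import Groth.Statements.S16358
import Mathlib

set_option autoImplicit false
universe u v w
open OrdAV

namespace Groth.Agent.S16358

/-- Let k be a perfect field of characteristic p > 0 and W = W(k); let M be a finitely generated free
W-module on which a finite group G acts W-linearly, with invariant submodule M^G. Then the map
(W/pW) ⊗ M^G → (W/pW) ⊗ M induced by the inclusion is injective. Since M^G is free, this implies
rank_W M^G ≤ dim_k (M/pM)^G; the published statement is that inequality, and this row states the
stronger injectivity. -/
theorem result (p : ℕ) [Fact p.Prime]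
    (k : Type u) [Field k] [CharP k p] [PerfectRing k p]
    (M : Type v) [AddCommGroup M] [Module (WittVector p k) M]
    [Module.Free (WittVector p k) M] [Module.Finite (WittVector p k) M]
    (G : Type w) [Group G] [Finite G] (ρ : Representation (WittVector p k) G M) :
    Function.Injective
      (LinearMap.lTensor (WittVector p k ⧸ Ideal.span {(p : WittVector p k)}) ρ.invariants.subtype) := by
  set W := WittVector p k
  set I := Ideal.span {(p : W)}
  have hp0 : (p : W) ≠ 0 := WittVector.p_nonzero p k
  rw [injective_iff_map_eq_zero]
  intro t ht
  obtain ⟨v, rfl⟩ := TensorProduct.mk_surjective W ρ.invariants (W ⧸ I) Ideal.Quotient.mk_surjective t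
  have h1 := congrArg (TensorProduct.quotTensorEquivQuotSMul M I) ht
  rw [map_zero, TensorProduct.mk_apply, LinearMap.lTensor_tmul] at h1
  rw [show ((1 : W ⧸ I)) = Ideal.Quotient.mk I 1 from (map_one _).symm,
    TensorProduct.quotTensorEquivQuotSMul_mk_tmul, one_smul, Submodule.Quotient.mk_eq_zero,
    Submodule.ideal_span_singleton_smul] at h1
  obtain ⟨m, -, hm⟩ := h1
  have hminv : m ∈ ρ.invariants := fun g => by
    have h2 := v.2 g
    rw [show (v : M) = (p : W) • m from hm.symm, map_smul] at h2
    exact smul_right_injective M hp0 h2
  rw [show v = (p : W) • (⟨m, hminv⟩ : ρ.invariants) from Subtype.ext hm.symm, TensorProduct.mk_apply,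
    TensorProduct.tmul_smul, TensorProduct.smul_tmul', show (p : W) • (1 : W ⧸ I) = 0 from ?_,
    TensorProduct.zero_tmul]
  rw [← map_one (Ideal.Quotient.mk I), Algebra.smul_def, Ideal.Quotient.algebraMap_eq, ← map_mul, mul_one,
    Ideal.Quotient.eq_zero_iff_mem]
  exact Ideal.subset_span rfl

end Groth.Agent.S16358
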