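import Groth.Statements.S16359
import Groth.Agent.Lib.CharRing.Mult
import Mathlib

set_option autoImplicit false
universe u
open TensorProduct
open HopfRep

namespace Groth.Agent.S16359


section

open TensorProduct GrothLib.CharRing

theorem coeff_eq_zero {R P N : Type u} [CommRing R] [AddCommGroup P] [Module R P] [AddCommGroup N]
    [Module R N] [Module.Flat R N] {ι : Type*} [Fintype ι] [DecidableEq ι] {w : ι → P}
    (hw : LinearIndependent R w) {n : ι → N} (h : ∑ i, w i ⊗ₜ[R] n i = 0) : n = 0 := by
  have hinj := Module.Flat.rTensor_preserves_injective_linearMap (M := N) (Fintype.linearCombination R w)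
    (linearIndependent_iff_injective_fintypeLinearCombination.1 hw)
  have hz : ∑ i, (Pi.single i (1 : R) : ι → R) ⊗ₜ[R] n i = 0 := by
    apply hinj
    simp [map_sum, h]
  funext j
  have := congrArg (fun t => TensorProduct.lid R N (LinearMap.rTensor N (LinearMap.proj j) t)) hz
  simpa [map_sum, Pi.single_apply] using this

theorem coeff_ext {R P N : Type u} [CommRing R] [AddCommGroup P] [Module R P] [AddCommGroup N]
    [Module R N] [Module.Flat R N] {ι : Type*} [Fintype ι] [DecidableEq ι] {w : ι → P}
    (hw : LinearIndependent R w) {n n' : ι → N} (h : ∑ i, w i ⊗ₜ[R] n i = ∑ i, w i ⊗ₜ[R] n' i) :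
    n = n' := by
  rw [← sub_eq_zero]
  refine coeff_eq_zero hw ?_
  simp only [Pi.sub_apply, tmul_sub, Finset.sum_sub_distrib, h, sub_self]

variable {R : Type u} [CommRing R]

theorem exists_fg_subcomodule [IsNoetherianRing R] (A : Type u) [CommRing A] [HopfAlgebra R A]
    [Module.Flat R A] (S : Finset A) :
    ∃ W : Submodule R A, W.FG ∧ (S : Set A) ⊆ W ∧
      ∀ y ∈ W, CoalgebraStruct.comul (R := R) y ∈ LinearMap.range (W.subtype.rTensor A) := by
  obtain ⟨M', hM', hsub⟩ := TensorProduct.exists_finite_submodule_left_of_setFinite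
    ((CoalgebraStruct.comul (R := R)) '' (S : Set A)) (S.finite_toSet.image _)
  let φ : A →ₗ[R] (A ⧸ M') ⊗[R] A := M'.mkQ.rTensor A ∘ₗ CoalgebraStruct.comul
  have hker : ∀ y, y ∈ LinearMap.ker φ ↔
      CoalgebraStruct.comul (R := R) y ∈ LinearMap.range (M'.subtype.rTensor A) := fun y => by
    have hex := Module.Flat.rTensor_exact (R := R) A (LinearMap.exact_subtype_mkQ M')
    rw [LinearMap.mem_ker, LinearMap.mem_range]
    exact hex _
  have hle : LinearMap.ker φ ≤ M' := by
    intro y hy
    obtain ⟨t, ht⟩ := (hker y).1 hy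
    have := congrArg (fun z => TensorProduct.rid R A (LinearMap.lTensor A CoalgebraStruct.counit z)) ht
    simp only [Coalgebra.lTensor_counit_comul, rid_tmul, one_smul] at this
    rw [← this]
    clear ht this
    induction t using TensorProduct.induction_on with
    | zero => simp
    | tmul a b => simp [M'.smul_mem]
    | add p q hp hq => simpa [map_add] using M'.add_mem hp hq
  refine ⟨LinearMap.ker φ, ?_, fun y hy => (hker y).2 (hsub ⟨y, hy, rfl⟩), fun y hy => ?_⟩
  · haveI : Module.Finite R M' := hM'
    haveI := isNoetherian_of_isNoetherianRing_of_finite R M'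
    exact isNoetherian_submodule.1 inferInstance _ hle
  · have hex := Module.Flat.rTensor_exact (R := R) A φ.exact_subtype_ker_map
    refine (hex _).1 ?_
    have hy' : M'.mkQ.rTensor A (CoalgebraStruct.comul (R := R) y) = 0 := hy
    have hass := Coalgebra.coassoc_apply (R := R) y
    have e : ∀ z : A ⊗[R] A, φ.rTensor A z =
        (TensorProduct.assoc R (A ⧸ M') A A).symm (M'.mkQ.rTensor (A ⊗[R] A)
          ((TensorProduct.assoc R A A A) (CoalgebraStruct.comul.rTensor A z))) := fun z => by
      induction z using TensorProduct.induction_on with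
      | zero => simp
      | add p q hp hq => simp only [map_add, hp, hq]
      | tmul a b =>
        simp only [LinearMap.rTensor_tmul, φ, LinearMap.comp_apply]
        generalize CoalgebraStruct.comul (R := R) a = d
        induction d using TensorProduct.induction_on with
        | zero => simp
        | add p q hp hq => simp only [map_add, add_tmul, hp, hq]
        | tmul c c' => simp
    rw [e, hass]
    have e' : ∀ z : A ⊗[R] A, M'.mkQ.rTensor (A ⊗[R] A) (CoalgebraStruct.comul.lTensor A z) =
        CoalgebraStruct.comul.lTensor (A ⧸ M') (M'.mkQ.rTensor A z) := fun z => by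
      rw [← LinearMap.comp_apply, ← LinearMap.comp_apply, LinearMap.rTensor_comp_lTensor,
        LinearMap.lTensor_comp_rTensor]
    rw [e', hy', map_zero, map_zero]

variable {A : Type u} [CommRing A] [HopfAlgebra R A]

theorem mult_mul_antipode {ι : Type*} [Fintype ι] [DecidableEq ι] {a : Matrix ι ι A}
    (h : IsMult (k := R) a) : a * a.map (HopfAlgebra.antipode R) = 1 := by
  ext i j
  have := HopfAlgebra.mul_antipode_lTensor_comul_apply (R := R) (a i j)
  rw [h.comul_apply, h.counit_apply] at this
  simpa [Matrix.mul_apply, map_sum, Matrix.one_apply, apply_ite (algebraMap R A)] using this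

theorem isMult_fromBlocks {ι κ : Type*} [Fintype ι] [DecidableEq ι] [Fintype κ] [DecidableEq κ]
    {a : Matrix ι ι A} {b : Matrix κ κ A} (ha : IsMult (k := R) a) (hb : IsMult (k := R) b) :
    IsMult (k := R) (Matrix.fromBlocks a 0 0 b) := by
  constructor
  · rw [Matrix.fromBlocks_map, Matrix.fromBlocks_map, Matrix.fromBlocks_map, Matrix.fromBlocks_multiply,
      ha.1, hb.1]
    simp
  · rw [Matrix.fromBlocks_map, ha.2, hb.2]
    simp

theorem exists_basis_adapted [IsDomain R] [IsPrincipalIdealRing R] {P Q : Type u} [AddCommGroup P]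
    [Module R P] [AddCommGroup Q] [Module R Q] [Module.IsTorsionFree R P] [Module.IsTorsionFree R Q]
    (f : P →ₗ[R] Q) (W : Submodule R P) (hW : W.FG) :
    ∃ (r m : ℕ) (w : Fin (r + m) → P), LinearIndependent R w ∧
      Submodule.span R (Set.range w) = W ∧ (∀ l, f (w (Fin.castAdd m l)) = 0) ∧
      LinearIndependent R (fun l => f (w (Fin.natAdd r l))) := by
  haveI : Module.Finite R W := Module.Finite.iff_fg.2 hW
  let g : W →ₗ[R] LinearMap.range (f ∘ₗ W.subtype) := (f ∘ₗ W.subtype).rangeRestrict
  haveI : Module.Free R (LinearMap.range (f ∘ₗ W.subtype)) := Module.free_of_finite_type_torsion_free'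
  haveI : Module.Free R (LinearMap.ker g) := Module.free_of_finite_type_torsion_free'
  obtain ⟨sec, hsec⟩ := Module.projective_lifting_property g LinearMap.id (LinearMap.surjective_rangeRestrict _)
  have hsec' : ∀ q, g (sec q) = q := fun q => LinearMap.congr_fun hsec q
  let L := (LinearMap.ker g).subtype.coprod sec
  have hL : Function.Bijective L := by
    constructor
    · rw [← LinearMap.ker_eq_bot, LinearMap.ker_eq_bot']
      rintro ⟨⟨x, hx⟩, q⟩ h
      rw [LinearMap.mem_ker] at hx
      have h' : x + sec q = 0 := h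
      have hq : q = 0 := by
        have := congrArg g h'
        simpa [hx, hsec'] using this
      subst hq
      have hx0 : x = 0 := by simpa using h'
      simp [hx0]
    · intro x
      exact ⟨(⟨x - sec (g x), by simp [hsec']⟩, g x), by simp [L]⟩
  let bK := Module.finBasis R (LinearMap.ker g)
  let bQ := Module.finBasis R (LinearMap.range (f ∘ₗ W.subtype))
  let b := ((bK.prod bQ).map (LinearEquiv.ofBijective L hL)).reindex finSumFinEquiv
  refine ⟨_, _, fun i => (b i : P), b.linearIndependent.map' W.subtype W.ker_subtype, ?_, fun l => ?_, ?_⟩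
  · have := congrArg (Submodule.map W.subtype) b.span_eq
    rw [Submodule.map_span, Submodule.map_subtype_top, ← Set.range_comp] at this
    exact this
  · have : b (Fin.castAdd _ l) = (bK l : W) := by
      simp [b, L, finSumFinEquiv_symm_apply_castAdd]
    simp only [this]
    exact congrArg Subtype.val (bK l).2
  · have : (fun l => f (b (Fin.natAdd (Module.finrank R (LinearMap.ker g)) l) : P)) =
        fun l => (bQ l : Q) := by
      funext l
      have : b (Fin.natAdd _ l) = sec (bQ l) := by
        simp [b, L, finSumFinEquiv_symm_apply_natAdd]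
      rw [this]
      exact congrArg Subtype.val (hsec' (bQ l))
    rw [this]
    exact bQ.linearIndependent.map' _ (Submodule.ker_subtype _)

open Set.powersetCard in
theorem span_offDiag_compound {r m : ℕ} (a : Matrix (Fin (r + m)) (Fin (r + m)) A)
    (a' : Matrix (Fin (r + m)) (Fin (r + m)) A) (ha : a' * a = 1) :
    Ideal.span {x | ∃ s : Set.powersetCard (Fin (r + m)) r, s ≠ ofFinEmbEquiv (Fin.castAddOrderEmb m) ∧
        x = compound r a s (ofFinEmbEquiv (Fin.castAddOrderEmb m))} =
      Ideal.span (Set.range fun p : Fin m × Fin r => a (Fin.natAdd r p.1) (Fin.castAdd m p.2)) := by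
  classical
  set s0 : Set.powersetCard (Fin (r + m)) r := ofFinEmbEquiv (Fin.castAddOrderEmb m) with hs0
  set J := Ideal.span (Set.range fun p : Fin m × Fin r => a (Fin.natAdd r p.1) (Fin.castAdd m p.2))
  set K := Ideal.span {x | ∃ s : Set.powersetCard (Fin (r + m)) r, s ≠ s0 ∧ x = compound r a s s0}
  have hmem0 : ∀ l : Fin r, Fin.castAdd m l ∈ (s0 : Finset (Fin (r + m))) := fun l => by
    rw [← Set.powersetCard.mem_coe_iff.symm, ← mem_range_ofFinEmbEquiv_symm_iff_mem]
    exact ⟨l, by simp [hs0, Fin.castAddOrderEmb]⟩
  have hcomp : ∀ s, compound r a s s0 =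
      (a.submatrix (ofFinEmbEquiv.symm s) (Fin.castAdd m)).det := fun s => by
    simp [compound, hs0, Fin.castAddOrderEmb]
  apply le_antisymm
  · rw [Ideal.span_le]
    rintro x ⟨s, hs, rfl⟩
    obtain ⟨l, hl⟩ : ∃ l, r ≤ (ofFinEmbEquiv.symm s l : ℕ) := by
      by_contra hne
      simp only [not_exists, not_le] at hne
      refine hs (Subtype.ext (Finset.eq_of_subset_of_card_le (fun x hx => ?_) ?_))
      · obtain ⟨l, rfl⟩ := (mem_range_ofFinEmbEquiv_symm_iff_mem s x).2 hx
        have : ofFinEmbEquiv.symm s l = Fin.castAdd m ⟨_, hne l⟩ := Fin.ext rfl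
        rw [this]
        exact hmem0 _
      · exact le_of_eq (s0.2.trans s.2.symm)
    rw [SetLike.mem_coe, hcomp, ← Ideal.Quotient.eq_zero_iff_mem, RingHom.map_det]
    apply Matrix.det_eq_zero_of_row_eq_zero l
    intro j
    rw [RingHom.mapMatrix_apply, Matrix.map_apply, Matrix.submatrix_apply, Ideal.Quotient.eq_zero_iff_mem]
    refine Ideal.subset_span ⟨(⟨(ofFinEmbEquiv.symm s l : ℕ) - r, by omega⟩, j), ?_⟩
    simp only
    congr 1
    apply Fin.ext
    simp
    omega
  · rw [Ideal.span_le]
    rintro _ ⟨⟨i, j⟩, rfl⟩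
    let q := Ideal.Quotient.mk K
    let T := a.submatrix (Fin.castAdd m) (Fin.castAdd m)
    have hz : ∀ s, s ≠ s0 → q (compound r a s s0) = 0 := fun s hs =>
      Ideal.Quotient.eq_zero_iff_mem.2 (Ideal.subset_span ⟨s, hs, rfl⟩)
    have hD : IsUnit (q T.det) := by
      have h1 : (compound r a' * compound r a) s0 s0 = 1 := by
        rw [← compound_mul, ha, compound_one, Matrix.one_apply_eq]
      have h2 := congrArg q h1
      rw [Matrix.mul_apply, map_sum, Finset.sum_eq_single s0 (fun s _ hs => by rw [map_mul, hz s hs, mul_zero])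
        (fun h => absurd (Finset.mem_univ _) h), map_mul, map_one] at h2
      have h3 : compound r a s0 s0 = T.det := by
        rw [hcomp]
        simp [T, hs0, Fin.castAddOrderEmb]
      rw [h3] at h2
      exact isUnit_iff_exists_inv'.2 ⟨_, h2⟩
    have hu : ∀ l, q ((T.updateRow l (fun j => a (Fin.natAdd r i) (Fin.castAdd m j))).det) = 0 := by
      intro l
      let f : Fin r → Fin (r + m) := Function.update (Fin.castAdd m) l (Fin.natAdd r i)
      have hne : ∀ x : Fin r, Fin.castAdd m x ≠ Fin.natAdd r i := fun x h => by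
        have := congrArg Fin.val h
        simp at this
        omega
      have hfi : Function.Injective f := by
        intro x y hxy
        simp only [f, Function.update_apply] at hxy
        split_ifs at hxy with hx hy hy
        · exact hx.trans hy.symm
        · exact absurd hxy.symm (hne y)
        · exact absurd hxy (hne x)
        · exact Fin.castAdd_injective _ _ hxy
      let s : Set.powersetCard (Fin (r + m)) r :=
        ⟨Finset.univ.map ⟨f, hfi⟩, by simp⟩
      have hs : s ≠ s0 := fun h => by
        have hmem : Fin.natAdd r i ∈ (s : Finset (Fin (r + m))) :=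
          Finset.mem_map.2 ⟨l, Finset.mem_univ _, by simp [f]⟩
        rw [h] at hmem
        rw [← Set.powersetCard.mem_coe_iff.symm, ← mem_range_ofFinEmbEquiv_symm_iff_mem] at hmem
        obtain ⟨x, hx⟩ := hmem
        exact hne x (by simpa [hs0, Fin.castAddOrderEmb] using hx)
      have hr : ∀ x, ∃ y, ofFinEmbEquiv.symm s y = f x := fun x =>
        (mem_range_ofFinEmbEquiv_symm_iff_mem s (f x)).2
          (Finset.mem_map.2 ⟨x, Finset.mem_univ _, rfl⟩)
      choose σ hσ using hr
      have hσb : Function.Bijective σ := Finite.injective_iff_bijective.1 fun x y h =>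
        hfi (by rw [← hσ, ← hσ, h])
      have e : T.updateRow l (fun j => a (Fin.natAdd r i) (Fin.castAdd m j)) =
          (a.submatrix (ofFinEmbEquiv.symm s) (Fin.castAdd m)).submatrix (Equiv.ofBijective σ hσb) id := by
        ext x y
        simp only [Matrix.submatrix_apply, id_eq, Equiv.ofBijective_apply, hσ, Matrix.updateRow_apply, f,
          Function.update_apply, T]
        split_ifs <;> rfl
      rw [e, Matrix.det_permute, ← hcomp, map_mul, hz s hs, mul_zero]
    let v : Fin r → A := fun j => a (Fin.natAdd r i) (Fin.castAdd m j)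
    have hc := congrFun (Matrix.mulVec_cramer T.transpose v) j
    have hc' := congrArg q hc
    simp only [Matrix.mulVec, dotProduct, map_sum, map_mul, Matrix.det_transpose, Pi.smul_apply,
      smul_eq_mul, Matrix.cramer_transpose_apply, v, hu, mul_zero, Finset.sum_const_zero] at hc'
    rw [SetLike.mem_coe, ← Ideal.Quotient.eq_zero_iff_mem]
    exact (hD.mul_right_eq_zero).1 hc'.symm

end


/-- Let k be a field and V = k⟦t⟧. Let G = Spec A be a flat affine group scheme of finite type over V (A
a commutative Hopf algebra over V, flat and of finite type) and let Q = Spec B ⊂ G be a flat closed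
subgroup scheme distinct from G (B a flat Hopf algebra and π : A → B a surjective, non-injective
bialgebra map). Then there are a free V-module Λ = V^d with a basis e_0, …, e_{d-1} and a
representation ρ : G → GL(Λ), given by a d × d matrix corepresentation (a_ij) in A (Δ(a_ij) = Σ_l
a_il ⊗ a_lj, ε(a_ij) = δ_ij; a point g acts by e_j ↦ Σ_i a_ij(g) e_i), such that (a) ρ is a closed
immersion: the entries a_ij together with the inverse of det(a_ij) generate A as a V-algebra, and
(b) Q is the closed subgroup scheme of G stabilising the line V e_0: the ideal of Q in A, i.e. the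
kernel of π, is the ideal generated by the entries a_i0 with i ≠ 0. (The published statement has an
arbitrary rank-one direct summand Λ' of Λ as the stabilised line; here the basis of Λ is chosen with
Λ' = V e_0, which loses nothing since V is local.) -/
theorem result (k : Type u) [Field k]
    (A : Type u) [CommRing A] [HopfAlgebra (PowerSeries k) A]
    [Module.Flat (PowerSeries k) A] [Algebra.FiniteType (PowerSeries k) A]
    (B : Type u) [CommRing B] [HopfAlgebra (PowerSeries k) B] [Module.Flat (PowerSeries k) B]
    (π : A →ₐc[PowerSeries k] B) (hπ : Function.Surjective π) (hQ : ¬ Function.Injective π) :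
    ∃ (d : ℕ) (hd : 0 < d) (a : Matrix (Fin d) (Fin d) A),
      (∀ i j, CoalgebraStruct.comul (R := PowerSeries k) (a i j) = ∑ l, a i l ⊗ₜ[PowerSeries k] a l j) ∧
      (∀ i j, CoalgebraStruct.counit (R := PowerSeries k) (a i j) = if i = j then 1 else 0) ∧
      (∃ u : A, u * a.det = 1 ∧
        Algebra.adjoin (PowerSeries k) (Set.range (fun p : Fin d × Fin d => a p.1 p.2) ∪ {u}) = ⊤) ∧
      RingHom.ker π = Ideal.span (Set.range (fun i : {i : Fin d // i ≠ ⟨0, hd⟩} => a i.1 ⟨0, hd⟩)) := by
  classical
  haveI : IsNoetherianRing A := Algebra.FiniteType.isNoetherianRing (PowerSeries k) A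
  obtain ⟨gA, hgA⟩ := Algebra.FiniteType.out (R := PowerSeries k) (A := A)
  obtain ⟨gI, hgI⟩ := IsNoetherian.noetherian (RingHom.ker π)
  obtain ⟨W, hWfg, hWsub, hWc⟩ := exists_fg_subcomodule (R := PowerSeries k) A (gA ∪ gI)
  let pl : A →ₗ[PowerSeries k] B := π.toCoalgHom.toLinearMap
  have hpl : ∀ x, pl x = π x := fun _ => rfl
  obtain ⟨r, m, w, hw, hspan, hcast, hnat⟩ := exists_basis_adapted pl W hWfg
  have hcoef : ∀ j, ∃ c : Fin (r + m) → A,
      CoalgebraStruct.comul (R := PowerSeries k) (w j) = ∑ i, w i ⊗ₜ[PowerSeries k] c i := by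
    intro j
    obtain ⟨t, ht⟩ := hWc (w j) (hspan ▸ Submodule.subset_span ⟨j, rfl⟩)
    rw [← ht]
    clear ht
    induction t using TensorProduct.induction_on with
    | zero => exact ⟨0, by simp⟩
    | add p q hp hq =>
      obtain ⟨c, hc⟩ := hp
      obtain ⟨d, hd⟩ := hq
      exact ⟨c + d, by simp [map_add, hc, hd, TensorProduct.tmul_add, Finset.sum_add_distrib]⟩
    | tmul x y =>
      obtain ⟨c, hc⟩ := (Submodule.mem_span_range_iff_exists_fun _).1 (show (x : A) ∈ Submodule.span (PowerSeries k) (Set.range w) by rw [hspan]; exact x.2)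
      refine ⟨fun i => c i • y, ?_⟩
      rw [LinearMap.rTensor_tmul, Submodule.subtype_apply, ← hc, TensorProduct.sum_tmul]
      simp [TensorProduct.smul_tmul]
  choose c hc using hcoef
  let a : Matrix (Fin (r + m)) (Fin (r + m)) A := fun i j => c j i
  have ha : GrothLib.CharRing.IsMult (k := PowerSeries k) a := by
    refine GrothLib.CharRing.isMult_of_apply (fun i j => ?_) (fun i j => ?_)
    · revert i
      refine congrFun (coeff_ext (n := fun i => CoalgebraStruct.comul (R := PowerSeries k) (a i j))
        (n' := fun i => ∑ l, a i l ⊗ₜ[PowerSeries k] a l j) hw ?_)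
      have h := Coalgebra.coassoc_apply (R := PowerSeries k) (w j)
      simp only [hc j, map_sum, LinearMap.rTensor_tmul, LinearMap.lTensor_tmul] at h
      simp only [hc, TensorProduct.sum_tmul, map_sum, TensorProduct.assoc_tmul] at h
      show ∑ i, w i ⊗ₜ CoalgebraStruct.comul (c j i) = _
      rw [← h, Finset.sum_comm]
      simp only [TensorProduct.tmul_sum, a]
    · have h := congrArg (TensorProduct.rid (PowerSeries k) A)
        (Coalgebra.lTensor_counit_comul (R := PowerSeries k) (w j))
      simp only [hc j, map_sum, LinearMap.lTensor_tmul, TensorProduct.rid_tmul, one_smul] at h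
      have h' : ∑ i, CoalgebraStruct.counit (R := PowerSeries k) (c j i) • w i =
          ∑ i, (if i = j then (1 : PowerSeries k) else 0) • w i := by
        rw [h]
        simp
      exact congrFun (linearIndependent_iff_injective_fintypeLinearCombination.1 hw (by simpa [Fintype.linearCombination_apply] using h' : Fintype.linearCombination (PowerSeries k) w (fun i => CoalgebraStruct.counit (R := PowerSeries k) (c j i)) = Fintype.linearCombination (PowerSeries k) w (fun i => if i = j then 1 else 0))) i
  have hwa : ∀ j, w j = ∑ i, CoalgebraStruct.counit (R := PowerSeries k) (w i) • a i j := fun j => by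
    have h := congrArg (TensorProduct.lid (PowerSeries k) A)
      (Coalgebra.rTensor_counit_comul (R := PowerSeries k) (w j))
    simp only [hc j, map_sum, LinearMap.rTensor_tmul, TensorProduct.lid_tmul, one_smul] at h
    exact h.symm
  have hoff : ∀ l i, π (a (Fin.natAdd r i) (Fin.castAdd m l)) = 0 := by
    intro l
    refine congrFun (coeff_eq_zero (n := fun i => pl (a (Fin.natAdd r i) (Fin.castAdd m l))) hnat ?_)
    have h := CoalgHomClass.map_comp_comul_apply π (w (Fin.castAdd m l))
    rw [← hpl, hcast, map_zero] at h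
    rw [hc, map_sum, Fin.sum_univ_add] at h
    simpa [← hpl, hcast, a] using h
  have hker : RingHom.ker π = Ideal.span (Set.range fun p : Fin m × Fin r =>
      a (Fin.natAdd r p.1) (Fin.castAdd m p.2)) := by
    apply le_antisymm
    · rw [← hgI, Ideal.span_le]
      intro x hx
      have hxW : x ∈ W := hWsub (Finset.mem_union_right _ hx)
      have hx0 : π x = 0 := RingHom.mem_ker.1 (hgI ▸ Submodule.subset_span hx)
      rw [← hspan, Submodule.mem_span_range_iff_exists_fun] at hxW
      obtain ⟨e, rfl⟩ := hxW
      have he : ∀ i, e (Fin.natAdd r i) = 0 := by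
        have : ∑ i, e (Fin.natAdd r i) • pl (w (Fin.natAdd r i)) = 0 := by
          rw [← hpl, map_sum, Fin.sum_univ_add] at hx0
          simpa [map_smul, hcast] using hx0
        exact Fintype.linearIndependent_iff.1 hnat _ this
      rw [Fin.sum_univ_add]
      simp only [he, zero_smul, Finset.sum_const_zero, add_zero]
      refine Submodule.sum_mem _ fun l _ => Submodule.smul_of_tower_mem _ _ ?_
      rw [hwa, Fin.sum_univ_add]
      have hz : ∀ i, CoalgebraStruct.counit (R := PowerSeries k) (w (Fin.castAdd m i)) = 0 := fun i => by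
        rw [← CoalgHomClass.counit_comp_apply π, ← hpl, hcast, map_zero]
      simp only [hz, zero_smul, Finset.sum_const_zero, zero_add]
      exact Submodule.sum_mem _ fun i _ => Submodule.smul_of_tower_mem _ _ (Ideal.subset_span ⟨(i, l), rfl⟩)
    · rw [Ideal.span_le]
      rintro _ ⟨⟨i, l⟩, rfl⟩
      exact hoff l i
  have hinv : a.map (HopfAlgebra.antipode (PowerSeries k)) * a = 1 :=
    mul_eq_one_comm.1 (mult_mul_antipode ha)
  let s0 : Set.powersetCard (Fin (r + m)) r := Set.powersetCard.ofFinEmbEquiv (Fin.castAddOrderEmb m)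
  let N := Set.powersetCard (Fin (r + m)) r ⊕ Fin (r + m)
  have hd : 0 < Fintype.card N := Fintype.card_pos_iff.2 ⟨Sum.inl s0⟩
  let e : Fin (Fintype.card N) ≃ N :=
    (Equiv.swap ⟨0, hd⟩ (Fintype.equivFin N (Sum.inl s0))).trans (Fintype.equivFin N).symm
  have he0 : e ⟨0, hd⟩ = Sum.inl s0 := by simp [e]
  let b : Matrix N N A := Matrix.fromBlocks (GrothLib.CharRing.compound r a) 0 0 a
  have hb : GrothLib.CharRing.IsMult (k := PowerSeries k) (b.submatrix e e) :=
    (isMult_fromBlocks (ha.compound r) ha).submatrix e
  refine ⟨Fintype.card N, hd, b.submatrix e e, fun i j => hb.comul_apply i j,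
    fun i j => hb.counit_apply i j, ?_, ?_⟩
  · obtain ⟨u, hu⟩ := (Matrix.isUnit_det_of_right_inverse (mult_mul_antipode hb)).exists_left_inv
    refine ⟨u, hu, eq_top_iff.2 ?_⟩
    rw [← hgA]
    refine Algebra.adjoin_le fun x hx => ?_
    have hxW : x ∈ W := hWsub (Finset.mem_union_left _ hx)
    rw [← hspan, Submodule.mem_span_range_iff_exists_fun] at hxW
    obtain ⟨f, rfl⟩ := hxW
    refine Subalgebra.sum_mem _ fun j _ => Subalgebra.smul_mem _ ?_ _
    rw [hwa]
    refine Subalgebra.sum_mem _ fun i _ => Subalgebra.smul_mem _ ?_ _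
    exact Algebra.subset_adjoin (Or.inl ⟨(e.symm (Sum.inr i), e.symm (Sum.inr j)), by simp [b]⟩)
  · rw [hker, ← span_offDiag_compound a _ hinv]
    refine le_antisymm (Ideal.span_le.2 ?_) (Ideal.span_le.2 ?_)
    · rintro x ⟨s, hs, rfl⟩
      refine Ideal.subset_span ⟨⟨e.symm (Sum.inl s), fun h => hs ?_⟩, by simp [b, he0, s0]⟩
      have := congrArg e h
      rw [e.apply_symm_apply, he0] at this
      exact Sum.inl_injective this
    · rintro x ⟨⟨i, hi⟩, rfl⟩
      rcases hei : e i with s | j
      · refine Ideal.subset_span ⟨s, fun h => hi (e.injective ?_), by simp [b, hei, he0, s0]⟩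
        rw [hei, he0, h]
      · simp [b, hei, he0]


end Groth.Agent.S16359
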