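import Groth.Statements.S16360
import Groth.Agent.Lib.GonfPerfect10.Basic
import Mathlib.FieldTheory.PurelyInseparable.PerfectClosure
import Mathlib.FieldTheory.IsAlgClosed.AlgebraicClosure

set_option autoImplicit false
universe u
open Hensel

namespace Groth.Agent.S16360

/-- Let R be a discrete valuation ring that is Henselian and excellent, write k for its residue field
and p for the characteristic exponent of k. There is a Henselian discrete valuation ring R' and an
injective ring map R → R' such that the maximal ideal of R generates that of R' (so a uniformizer of
R is a uniformizer of R'), R' is the directed union of R-subalgebras that are finite free R-modules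
of rank a power of p, and the residue field k' of R' is a perfect closure of k: every element of k'
is a p-th power in k', and some p-power-th power of it lies in the image of k. (The published
statement also asserts that R' is excellent; that is not asserted here.) -/
theorem result (R : Type u) [CommRing R] [IsDomain R]
    [IsDiscreteValuationRing R] [HenselianLocalRing R] (hR : EGA4.IsExcellent R) :
    ∃ (R' : Type u) (_ : CommRing R') (_ : IsDomain R') (_ : IsDiscreteValuationRing R')
      (_ : HenselianLocalRing R') (_ : Algebra R R'),
      Function.Injective (algebraMap R R') ∧
      Ideal.map (algebraMap R R') (IsLocalRing.maximalIdeal R) = IsLocalRing.maximalIdeal R' ∧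
      (∀ s : Finset R', ∃ S : Subalgebra R R', (↑s : Set R') ⊆ ↑S ∧ Module.Finite R S ∧ Module.Free R S ∧
        ∃ m : ℕ, Module.finrank R S = ringExpChar (IsLocalRing.ResidueField R) ^ m) ∧
      (∀ y : R', ∃ z : R', z ^ ringExpChar (IsLocalRing.ResidueField R) - y ∈ IsLocalRing.maximalIdeal R') ∧
      (∀ y : R', ∃ (m : ℕ) (z : R),
        algebraMap R R' z - y ^ (ringExpChar (IsLocalRing.ResidueField R) ^ m) ∈ IsLocalRing.maximalIdeal R') := by
  let k := IsLocalRing.ResidueField R
  let q := ringExpChar k
  haveI : ExpChar k q := inferInstance
  let Ω := AlgebraicClosure k
  haveI : ExpChar Ω q := expChar_of_injective_ringHom (algebraMap k Ω).injective q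
  haveI : PerfectRing Ω q := inferInstance
  let K := perfectClosure k Ω
  haveI : ExpChar K q := expChar_of_injective_ringHom (algebraMap k K).injective q
  haveI : PerfectRing K q := inferInstance
  letI : Algebra R K := ((algebraMap k K).comp (IsLocalRing.residue R)).toAlgebra
  haveI : IsScalarTower R k K := IsScalarTower.of_algebraMap_eq fun r => rfl
  exact GrothLib.GonfPerfect10.exists_dvr_purelyInseparable K q fun a => by
    obtain ⟨c, hc⟩ := surjective_frobenius K q a
    exact ⟨c, hc⟩

end Groth.Agent.S16360
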