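import Groth.Statements.S16361
import Groth.Agent.Lib.FibCat.Tower


set_option autoImplicit false
set_option backward.isDefEq.respectTransparency false
set_option backward.isDefEq.respectTransparency.types false
universe v u
open CategoryTheory CategoryTheory.Limits
open FibCat

namespace Groth.Agent.S16361

open CategoryTheory.Functor CategoryTheory.Limits GrothLib.FibCat

/-- Let S be a category, π_X : X ⥤ S and π_Y : Y ⥤ S be fibred in groupoids, and F : Y ⥤ X a functor
with F ⋙ π_X = π_Y. Consider the category of triples (y, x, φ) with φ : F y ≅ x an arbitrary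
isomorphism of X and morphisms the compatible pairs of morphisms (the categorical pullback of F and
the identity of X; the isomorphism φ is not required to lie over an identity of S). Its projection
to X is fibred in groupoids over X, and the composite of that projection with π_X is fibred in
groupoids over S. (The published statement also asserts that y ↦ (y, F y, id) and (y, x, φ) ↦ y form
an equivalence over S; that is not asserted here.) -/
theorem result {S : Type u} [Category.{v} S] {X : Type u} [Category.{v} X]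
    {Y : Type u} [Category.{v} Y] (πX : X ⥤ S) (πY : Y ⥤ S) (hX : FibCat.IsFibGrpd πX) (hY : FibCat.IsFibGrpd πY)
    (F : Y ⥤ X) (hF : F ⋙ πX = πY) :
    FibCat.IsFibGrpd (CategoricalPullback.π₂ F (𝟭 X)) ∧
      FibCat.IsFibGrpd (CategoricalPullback.π₂ F (𝟭 X) ⋙ πX) := by
    have h : FibCat.IsFibGrpd (CategoricalPullback.π₂ F (𝟭 X)) := by
      subst hF
      refine ⟨fun {a W} f => ?_, fun {b a} φ => ?_⟩
      · let t : W ⟶ F.obj a.fst := f ≫ a.iso.inv
        let g : πX.obj W ⟶ πX.obj (F.obj a.fst) := πX.map t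
        obtain ⟨y', ψ, hψ⟩ := hY.exists_lift (x := a.fst) g
        have hd : πX.obj (F.obj y') = πX.obj W := IsHomLift.domain_eq (F ⋙ πX) g ψ
        have : πX.IsHomLift g t := IsHomLift.map πX t
        have : πX.IsHomLift g (F.map ψ) := Tower.isHomLift_of_comp (F := F) (G := πX) g ψ
        obtain ⟨e, he, hfac⟩ := IsFibGrpd.exists_iso_of_lifts hX g t (F.map ψ)
        let b : CategoricalPullback F (𝟭 X) := ⟨y', W, e⟩
        let Φ : b ⟶ a := ⟨ψ, f, by
          change F.map ψ ≫ a.iso.hom = e.hom ≫ f
          rw [← hfac]; simp [t]⟩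
        exact ⟨b, Φ, IsHomLift.map (CategoricalPullback.π₂ F (𝟭 X)) Φ⟩
      · refine { universal_property' := fun {c} g ψ hψ => ?_ }
        let g₀ : c.snd ⟶ b.snd := g
        have he : g₀ ≫ φ.snd = ψ.snd := IsHomLift.eq_of_isHomLift (CategoricalPullback.π₂ F (𝟭 X))
          (g ≫ (CategoricalPullback.π₂ F (𝟭 X)).map φ) ψ
        let t : F.obj c.fst ⟶ F.obj b.fst := c.iso.hom ≫ g₀ ≫ b.iso.inv
        have ht : t ≫ F.map φ.fst = F.map ψ.fst := by
          have h1 : F.map φ.fst ≫ a.iso.hom = b.iso.hom ≫ φ.snd := φ.w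
          have h2 : F.map ψ.fst ≫ a.iso.hom = c.iso.hom ≫ ψ.snd := ψ.w
          rw [← cancel_mono a.iso.hom, h2, ← he]
          simp only [t, Category.assoc, h1]
          erw [Iso.inv_hom_id_assoc]
        obtain ⟨χ, ⟨hχ₁, hχ₂⟩, hu⟩ := IsFibGrpd.existsUnique_fac hY φ.fst ψ.fst (πX.map t)
          (by change πX.map t ≫ πX.map (F.map φ.fst) = πX.map (F.map ψ.fst); rw [← Functor.map_comp, ht])
        have hFχ : F.map χ = t := IsFibGrpd.hom_ext' hX (F.map φ.fst) hχ₁ (by rw [← F.map_comp, hχ₂, ht])
        let Χ : c ⟶ b := ⟨χ, g₀, by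
          change F.map χ ≫ b.iso.hom = c.iso.hom ≫ g₀
          rw [hFχ]; simp [t]⟩
        refine ⟨Χ, ⟨IsHomLift.map (CategoricalPullback.π₂ F (𝟭 X)) Χ, CategoricalPullback.hom_ext hχ₂ he⟩, fun m hm => ?_⟩
        have := hm.1
        have hm₁ : g₀ = m.snd := IsHomLift.eq_of_isHomLift (CategoricalPullback.π₂ F (𝟭 X)) g m
        refine CategoricalPullback.hom_ext (hu _ ⟨?_, congrArg CategoricalPullback.Hom.fst hm.2⟩) hm₁.symm
        have hw : F.map m.fst ≫ b.iso.hom = c.iso.hom ≫ m.snd := m.w
        rw [← hm₁, ← Iso.eq_comp_inv, Category.assoc] at hw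
        rw [Functor.comp_map, hw]
    exact ⟨h, Tower.isFibGrpd_comp h hX⟩

end Groth.Agent.S16361
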