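import Groth.Statements.S16362
-- import your own Groth.Agent.* helpers here
import Mathlib.Tactic.FieldSimp
import Mathlib.Tactic.Ring
import Mathlib.RingTheory.IntegralClosure.IsIntegral.Basic
import Mathlib.Algebra.Polynomial.Degree.Lemmas

set_option autoImplicit false
universe u
open MovLem

namespace Groth.Agent.S16362

/-- Let A be a commutative ring, p a prime ideal of A, and ζ, u elements of A with u not in p. Then the
quotient of the classes of ζ and u in the fraction field of the domain A ⧸ p is integral over A ⧸ p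
if and only if there exist a natural number N and elements a_1, …, a_N of A such that ζ^N + a_1
ζ^(N-1) u + ⋯ + a_N u^N lies in p; equivalently, some binary form of degree N with coefficients in
A, monic in the first variable, evaluated at (ζ, u), lies in p. -/
theorem result
    {A : Type u} [CommRing A] (p : Ideal A) [p.IsPrime] (ζ u : A) (hu : u ∉ p) :
    IsIntegral (A ⧸ p)
        (algebraMap (A ⧸ p) (FractionRing (A ⧸ p)) (Ideal.Quotient.mk p ζ) /
          algebraMap (A ⧸ p) (FractionRing (A ⧸ p)) (Ideal.Quotient.mk p u)) ↔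
      ∃ (N : ℕ) (a : ℕ → A),
        ζ ^ N + ∑ i ∈ Finset.Icc 1 N, a i * ζ ^ (N - i) * u ^ i ∈ p := by
  classical
  set π := Ideal.Quotient.mk p
  set φ := algebraMap (A ⧸ p) (FractionRing (A ⧸ p))
  have hu0 : φ (π u) ≠ 0 := fun h => hu (Ideal.Quotient.eq_zero_iff_mem.mp
    ((IsFractionRing.injective (A ⧸ p) (FractionRing (A ⧸ p))) (h.trans (map_zero φ).symm)))
  have hzero : ∀ z, φ (π z) = 0 ↔ z ∈ p := fun z => by
    rw [map_eq_zero_iff φ (IsFractionRing.injective (A ⧸ p) (FractionRing (A ⧸ p))), Ideal.Quotient.eq_zero_iff_mem]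
  have hexp : ∀ (N : ℕ) (a : ℕ → A), φ (π (ζ ^ N + ∑ i ∈ Finset.Icc 1 N, a i * ζ ^ (N - i) * u ^ i)) =
      φ (π u) ^ N * ((φ (π ζ) / φ (π u)) ^ N + ∑ i ∈ Finset.Icc 1 N, φ (π (a i)) * (φ (π ζ) / φ (π u)) ^ (N - i)) := by
    intro N a
    simp only [map_add, map_sum, map_mul, map_pow, mul_add, Finset.mul_sum, div_pow]
    congr 1
    · field_simp
    · refine Finset.sum_congr rfl fun i hi => ?_
      rw [← pow_sub_mul_pow (φ (π u)) (Finset.mem_Icc.mp hi).2]
      field_simp
  constructor
  · rintro ⟨P, hP, hPx⟩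
    choose a ha using fun i => Ideal.Quotient.mk_surjective (P.coeff (P.natDegree - i))
    refine ⟨P.natDegree, a, (hzero _).mp ?_⟩
    rw [hexp]
    refine mul_eq_zero_of_right _ ?_
    rw [Polynomial.eval₂_eq_sum_range, Finset.sum_range_succ, hP.coeff_natDegree, map_one, one_mul, add_comm] at hPx
    refine Eq.trans ?_ hPx
    congr 1
    refine Finset.sum_bij (fun i _ => P.natDegree - i) (fun i hi => ?_) (fun i hi j hj h => ?_) (fun i hi => ?_) (fun i hi => ?_)
    · simp only [Finset.mem_Icc] at hi; simp only [Finset.mem_range]; omega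
    · simp only [Finset.mem_Icc] at hi hj; omega
    · simp only [Finset.mem_range] at hi
      exact ⟨P.natDegree - i, Finset.mem_Icc.mpr ⟨by omega, by omega⟩, by omega⟩
    · show φ (π (a i)) * _ = _
      rw [show π (a i) = P.coeff (P.natDegree - i) from ha i]
  · rintro ⟨N, a, hmem⟩
    have h := (hzero _).mpr hmem
    rw [hexp] at h
    rcases mul_eq_zero.mp h with h | h
    · exact absurd h (pow_ne_zero _ hu0)
    refine ⟨Polynomial.X ^ N + ∑ i ∈ Finset.Icc 1 N, Polynomial.C (π (a i)) * Polynomial.X ^ (N - i),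
      Polynomial.monic_X_pow_add ?_, ?_⟩
    · rcases Nat.eq_zero_or_pos N with rfl | hN
      · simp
      · refine lt_of_le_of_lt (Polynomial.degree_sum_le _ _) ((Finset.sup_lt_iff (WithBot.bot_lt_coe _)).mpr fun i hi => ?_)
        simp only [Finset.mem_Icc] at hi
        exact lt_of_le_of_lt (Polynomial.degree_C_mul_X_pow_le _ _) (by exact_mod_cast (show N - i < N by omega))
    · simpa [Polynomial.eval₂_finsetSum] using h

end Groth.Agent.S16362
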