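import Groth.Statements.S16363
-- import your own Groth.Agent.* helpers here
import Groth.Agent.Lib.SepAct.Homog
import Groth.Agent.Lib.Japanese.IntegralSpec
import Groth.Agent.Lib.AffDom.PointDim

set_option autoImplicit false
universe u
open CategoryTheory Limits
open MovLem

namespace GrothAux.S16363

open CategoryTheory AlgebraicGeometry

theorem mem_range_of_isIntegral {k kb L : Type u} [Field k] [Field kb] [IsAlgClosed kb] [Field L] [Algebra k kb]
    [Algebra k L] [Algebra kb L] [IsScalarTower k kb L] {c : L} (hc : IsIntegral k c) : c ∈ (algebraMap kb L).range := by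
  have h := hc.tower_top (A := kb)
  exact minpoly.degree_eq_one_iff.1 (IsAlgClosed.degree_eq_one_of_irreducible kb (minpoly.irreducible h))

theorem exists_factor {k kb L C : Type u} [Field k] [Field kb] [IsAlgClosed kb] [Field L] [Field C] [Algebra k kb]
    [Algebra k L] [Algebra kb L] [IsScalarTower k kb L] [Algebra k C] [Algebra.IsAlgebraic k C] (e : C →ₐ[k] L) :
    ∃ θ : kb →+* L, θ = algebraMap kb L ∧ ∃ φ : C →ₐ[k] kb, e = (IsScalarTower.toAlgHom k kb L).comp φ := by
  refine ⟨_, rfl, ?_⟩
  let ι := IsScalarTower.toAlgHom k kb L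
  have hmem : ∀ c : C, e c ∈ ι.range := fun c => by
    obtain ⟨b, hb⟩ := mem_range_of_isIntegral (kb := kb) ((Algebra.IsIntegral.isIntegral (R := k) c).map e)
    exact ⟨b, hb⟩
  let eq := AlgEquiv.ofInjective ι (algebraMap kb L).injective
  refine ⟨eq.symm.toAlgHom.comp (e.codRestrict ι.range hmem), AlgHom.ext fun c => ?_⟩
  exact (congrArg Subtype.val (eq.apply_symm_apply ⟨e c, hmem c⟩)).symm

end GrothAux.S16363

namespace Groth.Agent.S16363

open AlgebraicGeometry in
/-- Let k be a field, X a k-scheme of finite type, K an extension field of k and U' ⊆ X_K = X ×_k Spec K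
a dense open subset. There exists a dense open U ⊆ X with the following property: for every
algebraic closure k̄ of k, every field Ω that is simultaneously a k̄-algebra and a K-algebra
compatibly with k, and every k-morphism x : Spec k̄ → X whose image point lies in U, every
K-morphism y : Spec Ω → X_K whose composite with the projection X_K → X is the composite Spec Ω →
Spec k̄ → X has image point in U'. (In words: the k̄-points of U, viewed as Ω-points of X_K, lie in
U'.) -/
theorem result
    {k K : Type u} [Field k] [Field K] [Algebra k K]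
    (X : Scheme.{u}) (f : X ⟶ Spec (CommRingCat.of k)) [LocallyOfFiniteType f] [QuasiCompact f]
    (U' : (pullback f (Spec.map (CommRingCat.ofHom (algebraMap k K)))).Opens)
    (hU' : Dense (U' : Set ↥(pullback f (Spec.map (CommRingCat.ofHom (algebraMap k K)))))) :
    ∃ U : X.Opens, Dense (U : Set ↥X) ∧
      ∀ (kb Ω : Type u) [Field kb] [Algebra k kb] [IsAlgClosure k kb]
        [Field Ω] [Algebra k Ω] [Algebra kb Ω] [Algebra K Ω] [IsScalarTower k kb Ω] [IsScalarTower k K Ω]
        (x : Spec (CommRingCat.of kb) ⟶ X),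
        x ≫ f = Spec.map (CommRingCat.ofHom (algebraMap k kb)) →
        (∀ t : ↥(Spec (CommRingCat.of kb)), x.base t ∈ U) →
        ∀ (y : Spec (CommRingCat.of Ω) ⟶ pullback f (Spec.map (CommRingCat.ofHom (algebraMap k K)))),
          y ≫ pullback.fst f (Spec.map (CommRingCat.ofHom (algebraMap k K))) =
              Spec.map (CommRingCat.ofHom (algebraMap kb Ω)) ≫ x →
          y ≫ pullback.snd f (Spec.map (CommRingCat.ofHom (algebraMap k K))) =
              Spec.map (CommRingCat.ofHom (algebraMap K Ω)) →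
          ∀ t : ↥(Spec (CommRingCat.of Ω)), y.base t ∈ U' := by
  open GrothLib Limits in
  classical
  let kb0 := AlgebraicClosure k
  let M := AlgebraicClosure K
  let j : kb0 →ₐ[k] M := IsAlgClosed.lift
  letI : Algebra kb0 M := j.toRingHom.toAlgebra
  let sK := Spec.map (CommRingCat.ofHom (algebraMap k K))
  let sB := Spec.map (CommRingCat.ofHom (algebraMap k kb0))
  let sj := Spec.map (CommRingCat.ofHom (algebraMap kb0 M))
  let sKM := Spec.map (CommRingCat.ofHom (algebraMap K M))
  haveI : IsIntegralHom sB := by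
    rw [IsIntegralHom.SpecMap_iff]
    exact algebraMap_isIntegral_iff.2 inferInstance
  haveI : Flat sKM := by
    rw [HasRingHomProperty.Spec_iff (P := @Flat)]
    exact RingHom.flat_algebraMap_iff.2 inferInstance
  haveI : Surjective sj := ⟨fun z => ⟨default, Subsingleton.elim (α := PrimeSpectrum kb0) _ _⟩⟩
  haveI : UniversallyOpen sj := inferInstance
  let π := pullback.fst f sB
  let b := pullback.fst (pullback.snd f sB) sj
  let c := pullback.snd (pullback.snd f sB) sj
  haveI : IsNoetherianRing (CommRingCat.of k : Type u) := inferInstanceAs (IsNoetherianRing k)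
  haveI : IsNoetherianRing (CommRingCat.of K : Type u) := inferInstanceAs (IsNoetherianRing K)
  haveI : IsLocallyNoetherian X := LocallyOfFiniteType.isLocallyNoetherian f
  haveI : IsLocallyNoetherian (pullback f sK) := LocallyOfFiniteType.isLocallyNoetherian (pullback.snd f sK)
  have hjs : sj ≫ sB = sKM ≫ sK := by
    show Spec.map _ ≫ Spec.map _ = Spec.map _ ≫ Spec.map _
    rw [← Spec.map_comp, ← Spec.map_comp]
    congr 1
    ext z
    exact (j.commutes z).trans (IsScalarTower.algebraMap_apply k K M z)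
  let a : pullback (pullback.snd f sB) sj ⟶ pullback f sK :=
    pullback.lift (b ≫ π) (c ≫ sKM) (by rw [Category.assoc, pullback.condition, ← Category.assoc, pullback.condition,
      Category.assoc, hjs, Category.assoc])
  have ha1 : a ≫ pullback.fst f sK = b ≫ π := pullback.lift_fst _ _ _
  have ha : IsPullback a c (pullback.snd f sK) sKM := by
    refine IsPullback.of_right ?_ (pullback.lift_snd _ _ _) (IsPullback.of_hasPullback f sK)
    rw [ha1, ← hjs]
    exact (IsPullback.of_hasPullback (pullback.snd f sB) sj).paste_horiz (IsPullback.of_hasPullback f sB)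
  haveI : Flat a := MorphismProperty.of_isPullback ha.flip ‹Flat sKM›
  haveI : IsIntegralHom π := inferInstance
  let Z : Set ↥(pullback (pullback.snd f sB) sj) := a ⁻¹' (U' : Set ↥(pullback f sK))
  let F : Set ↥(pullback f sB) := (b '' Z)ᶜ
  have hF : IsClosed F := (b.isOpenMap _ (U'.2.preimage a.continuous)).isClosed_compl
  let U : X.Opens := ⟨(π '' F)ᶜ, (π.isClosedMap _ hF).isOpen_compl⟩
  refine ⟨U, ?_, ?_⟩
  · refine dense_iff_inter_open.2 fun O hO ⟨o, ho⟩ => ?_
    obtain ⟨η, hη, hmax⟩ := GrothLib.AffDom.exists_maximal_point o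
    refine ⟨η, hη.mem_open hO ho, fun ⟨z, hz, hzη⟩ => hz ?_⟩
    obtain ⟨m, hm⟩ := b.surjective z
    obtain ⟨ξ, hξ, hξmax⟩ := GrothLib.AffDom.exists_maximal_point (a m)
    have hξU : ξ ∈ U' := GrothLib.SepAct.mem_of_dense_of_maximal U'.2 hU' fun w hw => by rw [hξmax w hw]
    obtain ⟨m', hm', hm'a⟩ := Flat.generalizingMap a hξ
    refine ⟨m', show a m' ∈ (U' : Set _) by rw [hm'a]; exact hξU, ?_⟩
    have h1 : b m' ⤳ z := hm ▸ hm'.map b.continuous
    have h2 : π (b m') = π z := (hmax _ (hzη ▸ h1.map π.continuous)).trans hzη.symm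
    exact GrothLib.Japanese.eq_of_specializes_of_isIntegralHom π h1 h2
  intro kb Ω _ _ _ _ _ _ _ _ _ x hx hxU y hy1 hy2 t
  haveI : IsAlgClosed kb := IsAlgClosure.isAlgClosed k
  haveI : IsScalarTower k kb (AlgebraicClosure Ω) := IsScalarTower.of_algebraMap_eq fun z => by
    rw [IsScalarTower.algebraMap_apply k Ω (AlgebraicClosure Ω), IsScalarTower.algebraMap_apply k kb Ω,
      ← IsScalarTower.algebraMap_apply kb Ω (AlgebraicClosure Ω)]
  let ψ : M →ₐ[K] AlgebraicClosure Ω := IsAlgClosed.lift
  obtain ⟨-, -, φ, hφ⟩ := GrothAux.S16363.exists_factor (kb := kb) ((ψ.restrictScalars k).comp j)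
  let sφ := Spec.map (CommRingCat.ofHom φ.toRingHom)
  let sθ := Spec.map (CommRingCat.ofHom (algebraMap kb (AlgebraicClosure Ω)))
  let sΩ := Spec.map (CommRingCat.ofHom (algebraMap Ω (AlgebraicClosure Ω)))
  let sψ := Spec.map (CommRingCat.ofHom ψ.toRingHom)
  haveI : Algebra.IsAlgebraic k kb0 := inferInstance
  have hφbij : Function.Bijective φ :=
    IsAlgClosed.ringHom_bijective_of_isIntegral φ.toRingHom (RingHom.IsIntegral.tower_top (algebraMap k kb0) φ.toRingHom
      (by
        rw [AlgHom.toRingHom_eq_coe, φ.comp_algebraMap]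
        haveI : Algebra.IsAlgebraic k kb := IsAlgClosure.isAlgebraic
        exact algebraMap_isIntegral_iff.2 inferInstance))
  haveI : IsIso (CommRingCat.ofHom φ.toRingHom) := (ConcreteCategory.isIso_iff_bijective _).2 hφbij
  haveI : IsIso sφ := inferInstance
  have hsφ : sφ ≫ sB = Spec.map (CommRingCat.ofHom (algebraMap k kb)) := by
    show Spec.map _ ≫ Spec.map _ = _
    rw [← Spec.map_comp]
    congr 1
    ext z
    exact φ.commutes z
  let x' : Spec (CommRingCat.of kb0) ⟶ pullback f sB := pullback.lift (inv sφ ≫ x) (𝟙 _) (by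
    rw [Category.assoc, hx, ← hsφ, IsIso.inv_hom_id_assoc, Category.id_comp])
  have hx'2 : x' ≫ pullback.snd f sB = 𝟙 _ := pullback.lift_snd _ _ _
  let s : Spec (CommRingCat.of M) ⟶ pullback (pullback.snd f sB) sj := pullback.lift (sj ≫ x') (𝟙 _) (by
    rw [Category.assoc, hx'2, Category.comp_id, Category.id_comp])
  have hs : IsPullback s sj b x' := by
    refine (IsPullback.of_right ?_ (pullback.lift_fst _ _ _) (IsPullback.of_hasPullback (pullback.snd f sB) sj).flip)
    rw [show s ≫ c = 𝟙 _ from pullback.lift_snd _ _ _, hx'2]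
    exact IsPullback.of_horiz_isIso ⟨by simp⟩
  have he : sΩ ≫ y = sψ ≫ s ≫ a := by
    have h1 : sψ ≫ sj = sθ ≫ sφ := by
      show Spec.map _ ≫ Spec.map _ = Spec.map _ ≫ Spec.map _
      rw [← Spec.map_comp, ← Spec.map_comp]
      congr 1
      ext z
      exact AlgHom.congr_fun hφ z
    have h3 : sΩ ≫ Spec.map (CommRingCat.ofHom (algebraMap kb Ω)) = sθ := by
      show Spec.map _ ≫ Spec.map _ = Spec.map _
      rw [← Spec.map_comp]
      congr 1
    have h4 : sψ ≫ sKM = sΩ ≫ Spec.map (CommRingCat.ofHom (algebraMap K Ω)) := by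
      show Spec.map _ ≫ Spec.map _ = Spec.map _ ≫ Spec.map _
      rw [← Spec.map_comp, ← Spec.map_comp]
      congr 1
      ext z
      exact (ψ.commutes z).trans (IsScalarTower.algebraMap_apply K Ω (AlgebraicClosure Ω) z)
    apply pullback.hom_ext
    · rw [Category.assoc, hy1, ← Category.assoc, h3, Category.assoc, Category.assoc, ha1, ← Category.assoc s,
        show s ≫ b = sj ≫ x' from pullback.lift_fst _ _ _, Category.assoc,
        show x' ≫ π = inv sφ ≫ x from pullback.lift_fst _ _ _, ← Category.assoc sψ, h1, Category.assoc,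
        IsIso.hom_inv_id_assoc]
    · rw [Category.assoc, hy2, ← h4, Category.assoc, Category.assoc, show a ≫ pullback.snd f sK = c ≫ sKM from pullback.lift_snd _ _ _,
        ← Category.assoc s, show s ≫ c = 𝟙 _ from pullback.lift_snd _ _ _, Category.id_comp]
  let t' : ↥(Spec (CommRingCat.of (AlgebraicClosure Ω))) := default
  have hty : y t = a (s (sψ t')) := by
    rw [show t = sΩ t' from Subsingleton.elim (α := PrimeSpectrum Ω) _ _, ← Scheme.Hom.comp_apply, he]
    rfl
  let z' := x' (sj (sψ t'))
  obtain ⟨m, hmU, hmb⟩ : z' ∈ b '' Z := by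
    by_contra hz
    refine hxU (inv sφ (sj (sψ t'))) ⟨z', hz, ?_⟩
    show π (x' _) = _
    rw [← Scheme.Hom.comp_apply, show x' ≫ π = inv sφ ≫ x from pullback.lift_fst _ _ _]
    rfl
  obtain ⟨m0, hm0, -⟩ := Scheme.exists_preimage_of_isPullback hs m (sj (sψ t')) hmb
  show y t ∈ (U' : Set _)
  rw [hty, show sψ t' = m0 from Subsingleton.elim (α := PrimeSpectrum M) _ _, hm0]
  exact hmU


end Groth.Agent.S16363
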