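import Groth.Statements.S16365
import Groth.Agent.Lib.UnitSmooth6.Alg
-- import your own Groth.Agent.* helpers here

set_option autoImplicit false
set_option linter.all false
set_option backward.isDefEq.respectTransparency false
universe u
open CategoryTheory Limits
open MovLem

namespace Groth.Agent.S16365

section Helpers
open AlgebraicGeometry TensorProduct
open GrothLib.UnitSmooth6 (Φ)

theorem mem_smoothLocus_spec {R A : Type u} [CommRing R] [CommRing A] [Algebra R A]
    [LocallyOfFinitePresentation (Spec.map (CommRingCat.ofHom (algebraMap R A)))] (p : PrimeSpectrum A) :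
    p ∈ (Spec.map (CommRingCat.ofHom (algebraMap R A))).smoothLocus ↔ Algebra.IsSmoothAt R p.asIdeal := by
  haveI : p.asIdeal.LiesOver (p.asIdeal.comap (algebraMap R A)) := ⟨rfl⟩
  let := Localization.AtPrime.algebraOfLiesOver (p.asIdeal.comap (algebraMap R A)) p.asIdeal
  rw [Scheme.Hom.mem_smoothLocus]
  haveI : Algebra.FormallyEtale R (Localization.AtPrime (p.asIdeal.comap (algebraMap R A))) :=
    .of_isLocalization (p.asIdeal.comap (algebraMap R A)).primeCompl
  refine Iff.trans ?_ (Algebra.FormallySmooth.iff_restrictScalars (R := R)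
    (A := Localization.AtPrime (p.asIdeal.comap (algebraMap R A)))
    (B := Localization.AtPrime p.asIdeal)).symm
  rw [← RingHom.formallySmooth_algebraMap]
  exact RingHom.FormallySmooth.respectsIso.arrow_mk_iso_iff
    (Scheme.arrowStalkMapSpecIso (CommRingCat.ofHom (algebraMap R A)) p)

/-- A non-vanishing differential gives smoothness over the affine line. -/
theorem isSmoothAt_aeval {k A : Type u} [Field k] [CommRing A] [Algebra k A] [Algebra.FiniteType k A]
    [Algebra (Polynomial k) A] [IsScalarTower k (Polynomial k) A]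
    (q : PrimeSpectrum A) [Algebra.IsSmoothAt k q.asIdeal] (g : A) (hg : algebraMap (Polynomial k) A Polynomial.X = g)
    (h : Φ (k := k) q g ≠ 0) : Algebra.IsSmoothAt (Polynomial k) q.asIdeal := by
  let L := Localization.AtPrime q.asIdeal
  haveI : Algebra.EssFiniteType k L := Algebra.EssFiniteType.comp k A L
  haveI : Algebra.FormallyEtale A L := Algebra.FormallyEtale.of_isLocalization q.asIdeal.primeCompl
  haveI : IsScalarTower k (Polynomial k) L := IsScalarTower.to₁₂₄ _ _ A _
  refine GrothLib.EtCoord10.formallySmooth_polynomial (k := k) (L := L) fun hmem => h ?_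
  rw [IsScalarTower.algebraMap_apply (Polynomial k) A L, hg] at hmem
  let G : L ⊗[A] Ω[A⁄k] →ₗ[L] q.asIdeal.ResidueField ⊗[A] Ω[A⁄k] :=
    TensorProduct.AlgebraTensorModule.map (Algebra.linearMap L q.asIdeal.ResidueField) LinearMap.id
  let e := KaehlerDifferential.tensorKaehlerEquivOfFormallyEtale k A L
  have key : ∀ y ∈ IsLocalRing.maximalIdeal L • (⊤ : Submodule L Ω[L⁄k]), G (e.symm y) = 0 := by
    intro y hy
    refine Submodule.smul_induction_on hy (fun a ha z _ => ?_) (fun u v hu hv => by rw [map_add, map_add, hu, hv, add_zero])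
    rw [map_smul, map_smul, ← algebraMap_smul q.asIdeal.ResidueField a,
      show algebraMap L q.asIdeal.ResidueField a = 0 from (IsLocalRing.residue_eq_zero_iff a).2 ha, zero_smul]
  have h1 := key _ hmem
  rw [KaehlerDifferential.tensorKaehlerEquivOfFormallyEtale_symm_D_algebraMap] at h1
  simpa [G, Φ, TensorProduct.AlgebraTensorModule.map_tmul] using h1

/-- The generic points of the closure of a locally closed set near a point. -/
theorem notMem_closure {A : Type u} [CommRing A] [IsNoetherianRing A] (O M : TopologicalSpace.Opens (PrimeSpectrum A))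
    (p : PrimeSpectrum A) (h : ∀ q ∈ O, q ≤ p → q ∈ M) : p ∉ closure ((O : Set (PrimeSpectrum A)) \ M) := by
  classical
  intro hp
  set Z := (O : Set (PrimeSpectrum A)) \ M
  rw [← PrimeSpectrum.zeroLocus_vanishingIdeal_eq_closure, PrimeSpectrum.mem_zeroLocus] at hp
  obtain ⟨η, hη, hηp⟩ := Ideal.exists_minimalPrimes_le (show PrimeSpectrum.vanishingIdeal Z ≤ p.asIdeal from hp)
  let η' : PrimeSpectrum A := ⟨η, hη.1.1⟩
  have hηM : η' ∉ M := by
    have h1 : η' ∈ closure Z := by
      rw [← PrimeSpectrum.zeroLocus_vanishingIdeal_eq_closure, PrimeSpectrum.mem_zeroLocus]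
      exact hη.1.2
    exact closure_minimal (fun z hz => hz.2) M.2.isClosed_compl h1
  obtain ⟨q, hqZ, hηq⟩ : ∃ q ∈ Z, η' ≤ q := by
    by_contra hcon
    simp only [not_exists, not_and] at hcon
    let S := (Ideal.finite_minimalPrimes_of_isNoetherianRing A (PrimeSpectrum.vanishingIdeal Z)).toFinset.erase η
    have hsep : ∀ P ∈ S, ∃ a ∈ P, a ∉ η := fun P hP => SetLike.not_le_iff_exists.1 fun hle => by
      have hP' := (Set.Finite.mem_toFinset _).1 (Finset.mem_of_mem_erase hP)
      exact Finset.ne_of_mem_erase hP (le_antisymm hle (hη.2 hP'.1 hle))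
    choose a ha ha' using hsep
    let b := ∏ P ∈ S.attach, a P.1 P.2
    have hb : b ∈ PrimeSpectrum.vanishingIdeal Z := by
      rw [PrimeSpectrum.mem_vanishingIdeal]
      intro q hq
      obtain ⟨P, hP, hPq⟩ := Ideal.exists_minimalPrimes_le
        (PrimeSpectrum.subset_zeroLocus_vanishingIdeal Z hq : PrimeSpectrum.vanishingIdeal Z ≤ q.asIdeal)
      have hPη : P ≠ η := fun e => hcon q hq (show η ≤ q.asIdeal from e ▸ hPq)
      have hPS : P ∈ S := Finset.mem_erase.2 ⟨hPη, (Set.Finite.mem_toFinset _).2 hP⟩
      exact hPq (P.prod_mem (Finset.mem_attach S ⟨P, hPS⟩) (ha P hPS))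
    obtain ⟨P, -, hP⟩ := hη.1.1.prod_mem_iff.1 (hη.1.2 hb)
    exact ha' P.1 P.2 hP
  exact hηM (h η' (((PrimeSpectrum.le_iff_specializes _ _).1 hηq).mem_open O.2 hqZ.1) hηp)

end Helpers

open AlgebraicGeometry in
/-- Let k be an infinite field, X a scheme of finite type over k, U an open subscheme of X which is
smooth over k, and x a point of X. Assume that if x lies in U then x is not an isolated point of X.
Then there exist an open neighbourhood V of x in X and a k-morphism v from V to the multiplicative
group Spec k[T, T⁻¹] whose restriction to V ∩ U is a smooth morphism. (The published statement has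
no hypothesis on x; when x is an isolated point of X lying in U the conclusion fails, since a
zero-dimensional scheme admits no smooth morphism to a curve, and in every other case an isolated
point can be discarded, so that case is excluded here.) -/
theorem result
    {k : Type u} [Field k] [Infinite k]
    (X : Scheme.{u}) (f : X ⟶ Spec (CommRingCat.of k)) [LocallyOfFiniteType f] [QuasiCompact f]
    (U : X.Opens) [Smooth (U.ι ≫ f)] (x : ↥X) (hx : x ∈ U → ¬ IsOpen ({x} : Set ↥X)) :
    ∃ (V : X.Opens) (v : (↑V : Scheme.{u}) ⟶ Spec (CommRingCat.of (LaurentPolynomial k))),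
      x ∈ V ∧
      v ≫ Spec.map (CommRingCat.ofHom (algebraMap k (LaurentPolynomial k))) = V.ι ≫ f ∧
      Smooth (X.homOfLE (inf_le_left : V ⊓ U ≤ V) ≫ v) := by
  classical
  obtain ⟨A, j, hj0, hxj⟩ : ∃ (A : CommRingCat.{u}) (j : Spec A ⟶ X) (_ : IsOpenImmersion j), ∃ p, j p = x :=
    ⟨_, X.affineOpenCover.f (X.affineOpenCover.idx x), inferInstance, X.affineOpenCover.covers x⟩
  obtain ⟨p, rfl⟩ := hxj
  let φ := Spec.preimage (j ≫ f)
  algebraize [φ.hom]
  have hj : j ≫ f = Spec.map (CommRingCat.ofHom (algebraMap k A)) := (Spec.map_preimage _).symm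
  haveI : LocallyOfFinitePresentation (Spec.map (CommRingCat.ofHom (algebraMap k A))) := by
    rw [← hj]; infer_instance
  haveI : Algebra.FinitePresentation k A :=
    RingHom.finitePresentation_algebraMap.mp
      ((HasRingHomProperty.Spec_iff (P := @LocallyOfFinitePresentation)).mp inferInstance)
  haveI : IsNoetherianRing A := Algebra.FiniteType.isNoetherianRing k A
  let O : TopologicalSpace.Opens (PrimeSpectrum A) := j ⁻¹ᵁ U
  have hUs : U ≤ f.smoothLocus := fun y hy => by
    have h2 := Scheme.Hom.preimage_smoothLocus_eq U.ι f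
    rw [Scheme.Hom.smoothLocus_eq_top (U.ι ≫ f)] at h2
    exact h2.ge (x := (⟨y, hy⟩ : U)) trivial
  have hO : ∀ q ∈ O, Algebra.IsSmoothAt k q.asIdeal := fun q hq => by
    have h1 : q ∈ j ⁻¹ᵁ f.smoothLocus := hUs hq
    rw [Scheme.Hom.preimage_smoothLocus_eq] at h1
    simp only [hj] at h1
    exact (mem_smoothLocus_spec (R := k) (A := A) q).1 h1
  obtain ⟨g, hgp, hg⟩ := GrothLib.UnitSmooth6.exists_good_element O hO p (fun hpO hmax => by
    by_contra hcon
    simp only [not_exists, and_true] at hcon
    apply hx hpO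
    have hmin : ∀ q : PrimeSpectrum A, q ≤ p → q = p := fun q hq => by
      rcases hq.eq_or_lt with h | h
      · exact h
      · exact absurd h (hcon q)
    have hopen : IsOpen ({p} : Set (PrimeSpectrum A)) := by
      let S := (minimalPrimes.finite_of_isNoetherianRing A).toFinset.erase p.asIdeal
      have e : ({p} : Set (PrimeSpectrum A)) = (⋃ P ∈ S, PrimeSpectrum.zeroLocus (P : Set A))ᶜ := by
        ext q
        simp only [Set.mem_singleton_iff, Set.mem_compl_iff, Set.mem_iUnion, PrimeSpectrum.mem_zeroLocus,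
          SetLike.coe_subset_coe, exists_prop, not_exists, not_and]
        constructor
        · rintro rfl P hP hle
          have hP' := (Set.Finite.mem_toFinset _).1 (Finset.mem_of_mem_erase hP)
          exact Finset.ne_of_mem_erase hP (congrArg PrimeSpectrum.asIdeal (hmin ⟨P, hP'.1.1⟩ hle))
        · intro hq
          obtain ⟨P, hP, hPq⟩ := Ideal.exists_minimalPrimes_le (bot_le : ⊥ ≤ q.asIdeal)
          by_cases hPp : P = p.asIdeal
          · subst hPp
            exact PrimeSpectrum.ext (hmax.eq_of_le q.isPrime.ne_top hPq).symm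
          · exact absurd hPq (hq P (Finset.mem_erase.2 ⟨hPp, (Set.Finite.mem_toFinset _).2 hP⟩))
      rw [e, isOpen_compl_iff]
      exact S.finite_toSet.isClosed_biUnion fun P _ => PrimeSpectrum.isClosed_zeroLocus _
    have h9 := j.isOpenEmbedding.isOpenMap _ hopen
    rwa [Set.image_singleton] at h9)
  letI : Algebra (Polynomial k) A := (Polynomial.aeval g : Polynomial k →ₐ[k] A).toRingHom.toAlgebra
  haveI : IsScalarTower k (Polynomial k) A := IsScalarTower.of_algebraMap_eq' (Polynomial.aeval g : Polynomial k →ₐ[k] A).comp_algebraMap.symm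
  haveI : Algebra.FinitePresentation (Polynomial k) A :=
    Algebra.FinitePresentation.of_restrict_scalars_finitePresentation k (Polynomial k) A
  let F := Spec.map (CommRingCat.ofHom (algebraMap (Polynomial k) A))
  haveI : LocallyOfFinitePresentation F :=
    (HasRingHomProperty.Spec_iff (P := @LocallyOfFinitePresentation)).mpr (RingHom.finitePresentation_algebraMap.mpr inferInstance)
  let M : TopologicalSpace.Opens (PrimeSpectrum A) := F.smoothLocus
  have hM : ∀ q ∈ O, q ≤ p → q ∈ M := fun q hq hqp => by
    haveI := hO q hq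
    exact (mem_smoothLocus_spec (R := Polynomial k) (A := A) q).2
      (isSmoothAt_aeval q g (Polynomial.aeval_X g) (hg q hq hqp))
  let Vs : (Spec A).Opens := PrimeSpectrum.basicOpen g ⊓ ⟨(closure ((O : Set (PrimeSpectrum A)) \ (M : Set (PrimeSpectrum A))))ᶜ, isClosed_closure.isOpen_compl⟩
  have hpV : p ∈ Vs := ⟨hgp, notMem_closure O M p hM⟩
  let J := Spec.map (CommRingCat.ofHom (algebraMap (Polynomial k) (LaurentPolynomial k)))
  haveI : IsOpenImmersion J := IsOpenImmersion.of_isLocalization (Polynomial.X : Polynomial k)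
  have hrange : Set.range (Vs.ι ≫ F) ⊆ Set.range J := by
    rintro _ ⟨y, rfl⟩
    refine (PrimeSpectrum.localization_away_comap_range (LaurentPolynomial k) (Polynomial.X : Polynomial k)).ge ?_
    show Polynomial.X ∉ Ideal.comap (algebraMap (Polynomial k) A) (PrimeSpectrum.asIdeal (y.1 : PrimeSpectrum A))
    rw [Ideal.mem_comap, show algebraMap (Polynomial k) A Polynomial.X = g from Polynomial.aeval_X g]
    exact y.2.1
  let w := IsOpenImmersion.lift J (Vs.ι ≫ F) hrange
  have hw : w ≫ J = Vs.ι ≫ F := IsOpenImmersion.lift_fac _ _ _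
  refine ⟨j ''ᵁ Vs, (j.isoImage Vs).inv ≫ w, ⟨p, hpV, rfl⟩, ?_, ?_⟩
  · have e1 : Spec.map (CommRingCat.ofHom (algebraMap k (LaurentPolynomial k))) =
        J ≫ Spec.map (CommRingCat.ofHom (algebraMap k (Polynomial k))) := by
      rw [← Spec.map_comp]; congr 1; ext r
      simp [LaurentPolynomial.algebraMap_eq_toLaurent]
    have e2 : F ≫ Spec.map (CommRingCat.ofHom (algebraMap k (Polynomial k))) = j ≫ f := by
      rw [hj, ← Spec.map_comp]; congr 1; ext r
      exact (RingHom.congr_fun (IsScalarTower.algebraMap_eq k (Polynomial k) A) r).symm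
    rw [e1, Category.assoc, reassoc_of% hw, e2, Scheme.Hom.isoImage_inv_ι_assoc]
  · let V := j ''ᵁ Vs
    let h := X.homOfLE (inf_le_left : V ⊓ U ≤ V) ≫ (j.isoImage Vs).inv ≫ Vs.ι
    haveI : Smooth (h ≫ F) := by
      rw [← Scheme.Hom.smoothLocus_eq_top_iff, ← Scheme.Hom.preimage_smoothLocus_eq, eq_top_iff]
      intro y _
      show h y ∈ M
      have hjy : j (h y) = y.1 := by
        have e : h ≫ j = (V ⊓ U).ι := by
          simp only [h, Category.assoc, Scheme.Hom.isoImage_inv_ι, Scheme.homOfLE_ι]
          exact Scheme.homOfLE_ι _ _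
        rw [← Scheme.Hom.comp_apply, e]; rfl
      have h1 : h y ∈ O := by show j (h y) ∈ U; rw [hjy]; exact y.2.2
      have h2 : h y ∈ Vs := ((j.isoImage Vs).inv (X.homOfLE inf_le_left y)).2
      by_contra hn
      exact h2.2 (subset_closure ⟨h1, hn⟩)
    let v' := X.homOfLE (inf_le_left : V ⊓ U ≤ V) ≫ (j.isoImage Vs).inv ≫ w
    have hv' : v' ≫ J = h ≫ F := by simp only [v', h, Category.assoc, hw]
    have sq : IsPullback v' (𝟙 _) J (h ≫ F) :=
      IsPullback.of_isLimit' ⟨by rw [hv', Category.id_comp]⟩
        (PullbackCone.IsLimit.mk _ (fun s => s.snd)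
          (fun s => (cancel_mono J).1 ((Category.assoc _ _ _).trans ((congrArg (s.snd ≫ ·) hv').trans s.condition.symm)))
          (fun s => Category.comp_id _)
          (fun s m _ h2 => by rw [← h2, Category.comp_id]))
    exact MorphismProperty.of_isPullback sq.flip (inferInstanceAs (Smooth (h ≫ F)))

end Groth.Agent.S16365
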