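import Groth.Statements.S16366
import Groth.Agent.Lib.EtCoord10.Line

set_option autoImplicit false
universe u
open CategoryTheory Limits Opposite
open MovLem

namespace Groth.Agent.S16366

open AlgebraicGeometry in
/-- Let k be an infinite field, X a scheme of finite type over k and u a global function on X such that
the open subscheme X_u where u is invertible is smooth over k. Let x be a point of X at which u is
not invertible, and let x'_1, …, x'_n be finitely many points of X_u, each of which specializes to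
x. Then there exist an open neighbourhood X' of x, a unit e among the functions on X', and the
k-morphism g : X' → A^1_k = Spec k[T] whose pulled-back coordinate T is e·u restricted to X', such
that g is smooth on some open neighbourhood of each x'_i. (Equivalently: after shrinking X around x,
the equation u of the principal divisor D = (u) is replaced by another equation e·u of the same
divisor that is smooth at the chosen points. The published statement takes D an effective Cartier
divisor, i.e. u a non-zero-divisor; that is not assumed here, and the argument does not need it.) -/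
theorem result
    {k : Type u} [Field k] [Infinite k]
    (X : Scheme.{u}) (f : X ⟶ Spec (CommRingCat.of k)) [LocallyOfFiniteType f] [QuasiCompact f]
    (u : Γ(X, ⊤)) [Smooth ((X.basicOpen u).ι ≫ f)]
    (x : ↥X) (hx : x ∉ X.basicOpen u)
    {ι : Type} [Finite ι] (x' : ι → ↥X) (hx' : ∀ i, x' i ∈ X.basicOpen u) (hgen : ∀ i, x' i ⤳ x) :
    ∃ (X' : X.Opens) (e : Γ(X, X')) (g : (↑X' : Scheme.{u}) ⟶ Spec (CommRingCat.of (Polynomial k))),
      x ∈ X' ∧ IsUnit e ∧
      g ≫ Spec.map (CommRingCat.ofHom (Polynomial.C : k →+* Polynomial k)) = X'.ι ≫ f ∧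
      X'.topIso.hom (g.appTop ((Scheme.ΓSpecIso (CommRingCat.of (Polynomial k))).inv Polynomial.X)) =
        e * X.presheaf.map (homOfLE le_top).op u ∧
      ∀ i, ∃ (W : X.Opens) (hW : W ≤ X'), x' i ∈ W ∧ Smooth (X.homOfLE hW ≫ g) := by
  classical
  obtain ⟨V, hV, hxV, -⟩ := exists_isAffineOpen_mem_and_subset (X := X) (x := x) (U := ⊤) trivial
  have hxi : ∀ i, x' i ∈ V := fun i => (hgen i).mem_open V.2 hxV
  let uV : Γ(X, V) := X.presheaf.map (homOfLE le_top).op u
  let R₀ := CommRingCat.of k
  let α : R₀ ⟶ Γ(X, V) := (Scheme.ΓSpecIso R₀).inv ≫ f.appLE ⊤ V le_top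
  algebraize [α.hom]
  haveI : Algebra.FiniteType k Γ(X, V) := by
    have h1 := HasRingHomProperty.appLE @LocallyOfFiniteType f inferInstance
      ⟨⊤, isAffineOpen_top _⟩ ⟨V, hV⟩ le_top
    exact RingHom.finiteType_algebraMap.mp
      (RingHom.finiteType_respectsIso.2 _ (Scheme.ΓSpecIso R₀).symm.commRingCatIsoToRingEquiv h1)
  haveI : Algebra.FinitePresentation k Γ(X, V) := Algebra.FinitePresentation.of_finiteType.mp inferInstance
  let q : ι → PrimeSpectrum Γ(X, V) := fun i => hV.primeIdealOf ⟨x' i, hxi i⟩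
  have hmem : ∀ (z : X) (hz : z ∈ V) (a : Γ(X, V)), a ∉ (hV.primeIdealOf ⟨z, hz⟩).asIdeal ↔ z ∈ X.basicOpen a := by
    intro z hz a
    have h1 : hV.primeIdealOf ⟨z, hz⟩ ∈ hV.fromSpec ⁻¹ᵁ X.basicOpen a ↔ a ∉ (hV.primeIdealOf ⟨z, hz⟩).asIdeal := by
      rw [hV.fromSpec_preimage_basicOpen]; rfl
    rw [← h1]
    show hV.fromSpec _ ∈ X.basicOpen a ↔ _
    rw [hV.fromSpec_primeIdealOf]
  have hub : X.basicOpen uV = V ⊓ X.basicOpen u := Scheme.basicOpen_res _ _ _
  have hu : ∀ i, uV ∉ (q i).asIdeal := fun i => (hmem _ (hxi i) uV).mpr (hub ▸ ⟨hxi i, hx' i⟩)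
  let p := (hV.primeIdealOf ⟨x, hxV⟩).asIdeal
  have hsm : ∀ i, Algebra.IsSmoothAt k (q i).asIdeal := fun i => by
    haveI : LocallyOfFinitePresentation f := inferInstance
    have h1 : x' i ∈ f.smoothLocus := by
      have h2 := Scheme.Hom.preimage_smoothLocus_eq (X.basicOpen u).ι f
      rw [Scheme.Hom.smoothLocus_eq_top ((X.basicOpen u).ι ≫ f)] at h2
      exact h2.ge (x := ⟨x' i, hx' i⟩) trivial
    letI := (f.appLE ⊤ V le_top).hom.toAlgebra
    letI : Algebra k Γ(Spec R₀, ⊤) := (Scheme.ΓSpecIso R₀).inv.hom.toAlgebra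
    haveI : IsScalarTower k Γ(Spec R₀, ⊤) Γ(X, V) := IsScalarTower.of_algebraMap_eq fun _ => rfl
    haveI : Algebra.FormallySmooth k Γ(Spec R₀, ⊤) :=
      RingHom.formallySmooth_algebraMap.mp
        (RingHom.FormallySmooth.of_bijective (Scheme.ΓSpecIso R₀).symm.commRingCatIsoToRingEquiv.bijective)
    haveI : Algebra.IsSmoothAt Γ(Spec R₀, ⊤) (q i).asIdeal :=
      (formallySmooth_stalkMap_iff ⊤ (isAffineOpen_top _) V hV le_top (hxi i)).mp h1
    exact Algebra.FormallySmooth.comp k Γ(Spec R₀, ⊤) _
  let M : ι → Submodule k Γ(X, V) := fun i =>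
    Submodule.comap (((KaehlerDifferential.D k (Localization.AtPrime (q i).asIdeal)).toLinearMap ∘ₗ
      (IsScalarTower.toAlgHom k Γ(X, V) (Localization.AtPrime (q i).asIdeal)).toLinearMap) ∘ₗ LinearMap.mulRight k uV)
      ((IsLocalRing.maximalIdeal (Localization.AtPrime (q i).asIdeal) •
        (⊤ : Submodule (Localization.AtPrime (q i).asIdeal) _)).restrictScalars k)
  let s : Finset (Submodule k Γ(X, V)) := {p.restrictScalars k} ∪ (Set.finite_range M).toFinset
  have hs : ⊤ ∉ s := by
    simp only [s, Finset.mem_union, Finset.mem_singleton, Set.Finite.mem_toFinset, Set.mem_range, not_or, not_exists]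
    refine ⟨fun h => ?_, fun i hi => ?_⟩
    · exact (hV.primeIdealOf ⟨x, hxV⟩).isPrime.ne_top ((Ideal.eq_top_iff_one p).mpr (show (1 : Γ(X, V)) ∈ p.restrictScalars k by rw [← h]; trivial))
    · have hall : ∀ a, KaehlerDifferential.D k (Localization.AtPrime (q i).asIdeal) (algebraMap Γ(X, V) _ (a * uV)) ∈
          IsLocalRing.maximalIdeal (Localization.AtPrime (q i).asIdeal) • (⊤ : Submodule (Localization.AtPrime (q i).asIdeal) _) :=
        fun a => (show a ∈ M i by rw [hi]; trivial)
      have hmax := GrothLib.EtCoord10.isMaximal_of_top (k := k) (q i).asIdeal fun a => by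
        have h1 := hall a
        have h2 := hall 1
        rw [one_mul] at h2
        rw [map_mul, Derivation.leibniz] at h1
        have h3 := (Submodule.add_mem_iff_right _ (Submodule.smul_mem _ _ h2)).mp h1
        exact (Submodule.smul_mem_iff_of_isUnit _ (IsLocalization.map_units (Localization.AtPrime (q i).asIdeal)
          (⟨uV, hu i⟩ : (q i).asIdeal.primeCompl))).mp h3
      have hsp0 : (⟨x' i, hxi i⟩ : (V : Scheme.{u})) ⤳ ⟨x, hxV⟩ :=
        V.ι.isOpenEmbedding.isInducing.specializes_iff.mp (hgen i)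
      have hsp : q i ⤳ hV.primeIdealOf ⟨x, hxV⟩ := by
        exact hsp0.map (f := hV.isoSpec.hom) (Scheme.Hom.continuous hV.isoSpec.hom)
      have he : q i = hV.primeIdealOf ⟨x, hxV⟩ :=
        PrimeSpectrum.ext (hmax.eq_of_le (hV.primeIdealOf ⟨x, hxV⟩).isPrime.ne_top
          ((PrimeSpectrum.le_iff_specializes _ _).mpr hsp))
      refine hx ?_
      have h4 := hu i
      rw [he, hmem x hxV, hub] at h4
      exact h4.2
  obtain ⟨e, he⟩ := (Set.ne_univ_iff_exists_notMem _).mp (Subspace.biUnion_ne_univ_of_top_notMem hs)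
  simp only [Set.mem_iUnion, not_exists] at he
  have hep : e ∉ p := he (p.restrictScalars k) (by simp [s])
  have heM : ∀ i, e ∉ M i := fun i => he (M i) (by simp [s])
  let φ : Polynomial k →ₐ[k] Γ(X, V) := Polynomial.aeval (e * uV)
  let X' := X.basicOpen e
  let res : Γ(X, V) ⟶ Γ(X, X') := X.presheaf.map (homOfLE (X.basicOpen_le e)).op
  let ψ : CommRingCat.of (Polynomial k) ⟶ Γ(X, V) := CommRingCat.ofHom φ.toRingHom
  refine ⟨X', res e, X.homOfLE (X.basicOpen_le e) ≫ V.toSpecΓ ≫ Spec.map ψ, (hmem x hxV e).mp hep,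
    RingedSpace.isUnit_res_basicOpen _ e, ?_, ?_, fun i => ?_⟩
  · have h1 : CommRingCat.ofHom (Polynomial.C : k →+* Polynomial k) ≫ ψ = α := by
      ext r
      exact φ.commutes r
    rw [Category.assoc, Category.assoc, ← Spec.map_comp, h1, Spec.map_comp, ← hV.isoSpec_hom]
    have h2 : hV.isoSpec.hom ≫ Spec.map (f.appLE ⊤ V le_top) ≫ Spec.map (Scheme.ΓSpecIso R₀).inv = V.ι ≫ f := by
      have h3 := IsAffineOpen.SpecMap_appLE_fromSpec f (isAffineOpen_top _) hV (le_top : V ≤ f ⁻¹ᵁ ⊤)
      rw [IsAffineOpen.fromSpec_top, Scheme.isoSpec_Spec_inv] at h3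
      rw [h3, hV.isoSpec_hom_fromSpec_assoc]
    rw [h2]
    simp [X']
  · rw [Scheme.Hom.comp_appTop, Scheme.Hom.comp_appTop]
    show X'.topIso.hom ((X.homOfLE (X.basicOpen_le e)).appTop (V.toSpecΓ.appTop ((Spec.map ψ).appTop ((Scheme.ΓSpecIso _).inv Polynomial.X)))) = _
    rw [← CommRingCat.comp_apply _ (Spec.map ψ).appTop, ← Scheme.ΓSpecIso_inv_naturality, CommRingCat.comp_apply,
      Scheme.Opens.toSpecΓ_appTop, CommRingCat.comp_apply, (Scheme.ΓSpecIso Γ(X, V)).inv_hom_id_apply]
    show X'.topIso.hom ((X.homOfLE (X.basicOpen_le e)).appTop (V.topIso.inv (φ Polynomial.X))) = _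
    rw [show φ Polynomial.X = e * uV from Polynomial.aeval_X _, Scheme.homOfLE_appTop]
    simp only [Scheme.Opens.topIso_inv, Scheme.Opens.topIso_hom]
    repeat rw [← CommRingCat.comp_apply]
    erw [← Functor.map_comp, ← Functor.map_comp]
    rw [map_mul]
    congr 1
    show _ = X.presheaf.map _ u
    rw [show uV = X.presheaf.map (homOfLE le_top).op u from rfl, ← CommRingCat.comp_apply, ← Functor.map_comp]
    rfl
  · haveI := hsm i
    letI := φ.toRingHom.toAlgebra
    haveI : IsScalarTower k (Polynomial k) Γ(X, V) := IsScalarTower.of_algebraMap_eq' φ.comp_algebraMap.symm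
    haveI : IsScalarTower k (Polynomial k) (Localization.AtPrime (q i).asIdeal) := IsScalarTower.to₁₂₄ _ _ Γ(X, V) _
    haveI : Algebra.EssFiniteType Γ(X, V) (Localization.AtPrime (q i).asIdeal) :=
      Algebra.EssFiniteType.of_isLocalization _ (q i).asIdeal.primeCompl
    haveI : Algebra.EssFiniteType k (Localization.AtPrime (q i).asIdeal) := Algebra.EssFiniteType.comp k Γ(X, V) _
    haveI : Algebra.IsSmoothAt (Polynomial k) (q i).asIdeal :=
      GrothLib.EtCoord10.formallySmooth_polynomial (k := k) (L := Localization.AtPrime (q i).asIdeal) (by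
        have h5 : algebraMap (Polynomial k) (Localization.AtPrime (q i).asIdeal) Polynomial.X =
            algebraMap Γ(X, V) _ (e * uV) := by
          rw [IsScalarTower.algebraMap_apply (Polynomial k) Γ(X, V) (Localization.AtPrime (q i).asIdeal)]
          exact congrArg _ (Polynomial.aeval_X (e * uV))
        rw [h5]
        exact heM i)
    haveI : Algebra.FinitePresentation (Polynomial k) Γ(X, V) :=
      Algebra.FinitePresentation.of_restrict_scalars_finitePresentation k (Polynomial k) Γ(X, V)
    obtain ⟨t, ht, htsm⟩ := Algebra.IsSmoothAt.exists_notMem_smooth (Polynomial k) (q i).asIdeal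
    let W := X.basicOpen (e * t)
    have hWle : W ≤ X' := by
      show X.basicOpen (e * t) ≤ _
      rw [Scheme.basicOpen_mul]
      exact inf_le_left
    have hxW : x' i ∈ W := by
      show x' i ∈ X.basicOpen (e * t)
      rw [Scheme.basicOpen_mul]
      exact ⟨(hgen i).mem_open (X.basicOpen e).2 ((hmem x hxV e).mp hep), (hmem _ (hxi i) t).mp ht⟩
    refine ⟨W, hWle, hxW, ?_⟩
    have hW : IsAffineOpen W := hV.basicOpen _
    have heq : X.homOfLE hWle ≫ X.homOfLE (X.basicOpen_le e) ≫ V.toSpecΓ ≫ Spec.map ψ =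
        W.toSpecΓ ≫ Spec.map (ψ ≫ X.presheaf.map (homOfLE (X.basicOpen_le (e * t))).op) := by
      rw [Spec.map_comp, Scheme.Opens.toSpecΓ_SpecMap_presheaf_map_assoc, ← Category.assoc, Scheme.homOfLE_homOfLE]
    rw [heq]
    haveI : IsIso W.toSpecΓ := by rw [← hW.isoSpec_hom]; infer_instance
    haveI : Algebra.FormallySmooth (Polynomial k) (Localization.Away (e * t)) := by
      rw [← Algebra.basicOpen_subset_smoothLocus_iff]
      refine (SetLike.coe_subset_coe.mpr (PrimeSpectrum.basicOpen_mul_le_right e t)).trans ?_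
      exact Algebra.basicOpen_subset_smoothLocus_iff.mpr htsm.formallySmooth
    haveI : Algebra.FinitePresentation (Polynomial k) (Localization.Away (e * t)) :=
      Algebra.FinitePresentation.trans (Polynomial k) Γ(X, V) _
    haveI : Algebra.Smooth (Polynomial k) (Localization.Away (e * t)) := ⟨inferInstance, inferInstance⟩
    haveI := hV.isLocalization_basicOpen (e * t)
    let L : Localization.Away (e * t) ≃ₐ[Γ(X, V)] Γ(X, W) := IsLocalization.algEquiv (.powers (e * t)) _ _
    haveI : Smooth (Spec.map (ψ ≫ X.presheaf.map (homOfLE (X.basicOpen_le (e * t))).op)) := by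
      rw [HasRingHomProperty.Spec_iff (P := @Smooth)]
      have h6 : (ψ ≫ X.presheaf.map (homOfLE (X.basicOpen_le (e * t))).op).hom =
          L.toRingEquiv.toRingHom.comp (algebraMap (Polynomial k) (Localization.Away (e * t))) := by
        refine RingHom.ext fun r => ?_
        show _ = L (algebraMap Γ(X, V) _ (φ r))
        rw [L.commutes]
        rfl
      rw [h6]
      exact RingHom.Smooth.propertyIsLocal.respectsIso.1 _ L.toRingEquiv (RingHom.smooth_algebraMap.mpr inferInstance)
    infer_instance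

end Groth.Agent.S16366
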