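import Groth.Statements.S16367
-- import your own Groth.Agent.* helpers here
import Mathlib.RingTheory.Ideal.Quotient.Operations
import Mathlib.LinearAlgebra.Finsupp.LinearCombination
import Mathlib.RingTheory.Ideal.Span
import Mathlib.Tactic.Ring

set_option autoImplicit false
universe u
open MovLem

namespace Groth.Agent.S16367

/-- The chart computation of its proof: let k be a commutative ring, P = k[x_1, …, x_d, w_1, …, w_n] a
polynomial ring in two groups of variables, u a polynomial in the x-variables alone, v a vector in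
k^d, J a set of indices among the w-variables with ζ = ∏_{j ∈ J} w_j, and N ≤ s natural numbers. Let
(f_λ) be a finite family of elements of P, each of total degree at most N in the x-variables, and
assume that ζ^N + c_1 ζ^(N-1) u + ⋯ + c_N u^N lies in the ideal generated by the f_λ for some c_1,
…, c_N ∈ P. For each λ let φ_λ ∈ P[τ] be the polynomial τ^N · f_λ(x + u^s v/τ, w), written out
monomial by monomial: a monomial a·x^m·w^m' of x-degree e = |m| contributes a · τ^(N-e) · ∏_i (τ x_i
+ u^s v_i)^(m_i) · w^m'. Then there are c'_1, …, c'_N ∈ P[τ] with (τζ)^N + c'_1 (τζ)^(N-1) u + ⋯ +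
c'_N u^N in the ideal of P[τ] generated by the φ_λ. (This identity is what shows that translating a
cycle by t·u^s·v preserves the modulus condition on the chart whose coordinates are the z_i and the
1/z_j, with τ = 1/t; integrality of ζ/u, resp. τζ/u, is expressed by such monic binary forms.) -/
theorem result
    {k : Type u} [CommRing k] (d n : ℕ) (u : MvPolynomial (Fin d) k) (v : Fin d → k)
    (J : Finset (Fin n)) (N s : ℕ) (hs : N ≤ s)
    {Λ : Type u} [Fintype Λ] (f : Λ → MvPolynomial (Fin d ⊕ Fin n) k)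
    (hdeg : ∀ l, ∀ m ∈ (f l).support, ∑ i : Fin d, m (Sum.inl i) ≤ N)
    (c : ℕ → MvPolynomial (Fin d ⊕ Fin n) k)
    (hE : (∏ j ∈ J, MvPolynomial.X (Sum.inr j)) ^ N +
        ∑ i ∈ Finset.Icc 1 N, c i * (∏ j ∈ J, MvPolynomial.X (Sum.inr j)) ^ (N - i) *
          MvPolynomial.rename Sum.inl u ^ i ∈ Ideal.span (Set.range f)) :
    ∃ c' : ℕ → Polynomial (MvPolynomial (Fin d ⊕ Fin n) k),
      (Polynomial.X * Polynomial.C (∏ j ∈ J, MvPolynomial.X (Sum.inr j))) ^ N +
        ∑ i ∈ Finset.Icc 1 N, c' i *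
          (Polynomial.X * Polynomial.C (∏ j ∈ J, MvPolynomial.X (Sum.inr j))) ^ (N - i) *
            Polynomial.C (MvPolynomial.rename Sum.inl u) ^ i ∈
      Ideal.span (Set.range fun l : Λ =>
        ∑ m ∈ (f l).support,
          Polynomial.C (MvPolynomial.C (MvPolynomial.coeff m (f l))) *
            Polynomial.X ^ (N - ∑ i : Fin d, m (Sum.inl i)) *
            (∏ i : Fin d, (Polynomial.X * Polynomial.C (MvPolynomial.X (Sum.inl i)) +
                Polynomial.C (MvPolynomial.rename Sum.inl u ^ s * MvPolynomial.C (v i))) ^ m (Sum.inl i)) *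
            ∏ j : Fin n, Polynomial.C (MvPolynomial.X (Sum.inr j)) ^ m (Sum.inr j)) := by
  classical
  set U : MvPolynomial (Fin d ⊕ Fin n) k := MvPolynomial.rename Sum.inl u
  set ζ : MvPolynomial (Fin d ⊕ Fin n) k := ∏ j ∈ J, MvPolynomial.X (Sum.inr j)
  let deg : ((Fin d ⊕ Fin n) →₀ ℕ) → ℕ := fun m => ∑ i : Fin d, m (Sum.inl i)
  set F : Λ → Polynomial (MvPolynomial (Fin d ⊕ Fin n) k) := fun l => ∑ m ∈ (f l).support,
          Polynomial.C (MvPolynomial.C (MvPolynomial.coeff m (f l))) *
            Polynomial.X ^ (N - ∑ i : Fin d, m (Sum.inl i)) *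
            (∏ i : Fin d, (Polynomial.X * Polynomial.C (MvPolynomial.X (Sum.inl i)) +
                Polynomial.C (U ^ s * MvPolynomial.C (v i))) ^ m (Sum.inl i)) *
            ∏ j : Fin n, Polynomial.C (MvPolynomial.X (Sum.inr j)) ^ m (Sum.inr j)
  have hbase : ∀ l, Polynomial.X ^ N * Polynomial.C (f l) = ∑ m ∈ (f l).support,
      Polynomial.C (MvPolynomial.C (MvPolynomial.coeff m (f l))) * Polynomial.X ^ (N - deg m) *
        (∏ i : Fin d, (Polynomial.X * Polynomial.C (MvPolynomial.X (Sum.inl i) : MvPolynomial (Fin d ⊕ Fin n) k)) ^ m (Sum.inl i)) *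
        ∏ j : Fin n, Polynomial.C (MvPolynomial.X (Sum.inr j)) ^ m (Sum.inr j) := fun l => by
    conv_lhs => rw [MvPolynomial.as_sum (f l), map_sum, Finset.mul_sum]
    refine Finset.sum_congr rfl fun m hm => ?_
    rw [MvPolynomial.monomial_eq, Finsupp.prod_fintype _ _ (fun _ => pow_zero _), Fintype.prod_sum_type, map_mul, map_mul]
    simp only [map_prod, map_pow, mul_pow, Finset.prod_mul_distrib, Finset.prod_pow_eq_pow_sum]
    have hd : deg m ≤ N := hdeg l m hm
    conv_lhs => rw [show N = N - deg m + deg m by omega, pow_add]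
    simp only [deg]
    ring
  -- `u ^ s` divides the difference
  have hR : ∀ l, ∃ R : Polynomial (MvPolynomial (Fin d ⊕ Fin n) k), F l = Polynomial.X ^ N * Polynomial.C (f l) + Polynomial.C (U ^ s) * R ∧
      (N = 0 → R = 0) := by
    intro l
    rcases Nat.eq_zero_or_pos N with hN | hN
    · refine ⟨0, ?_, fun _ => rfl⟩
      rw [mul_zero, add_zero, hbase]
      refine Finset.sum_congr rfl fun m hm => ?_
      have h0 : ∀ i : Fin d, m (Sum.inl i) = 0 := fun i => by
        have := hdeg l m hm
        rw [hN, Nat.le_zero, Finset.sum_eq_zero_iff] at this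
        exact this i (Finset.mem_univ i)
      simp [h0, deg]
    · have hmem : F l - Polynomial.X ^ N * Polynomial.C (f l) ∈ Ideal.span {Polynomial.C (U ^ s)} := by
        rw [← Ideal.Quotient.eq_zero_iff_mem, map_sub, sub_eq_zero, hbase, map_sum, map_sum]
        refine Finset.sum_congr rfl fun m _ => ?_
        have h0 : ∀ b, Ideal.Quotient.mk (Ideal.span {Polynomial.C (U ^ s)}) (Polynomial.C (U ^ s * b)) = 0 := fun b =>
          Ideal.Quotient.eq_zero_iff_mem.mpr (Ideal.mem_span_singleton.mpr (map_dvd Polynomial.C (Dvd.intro b rfl)))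
        generalize Ideal.Quotient.mk (Ideal.span {Polynomial.C (U ^ s)}) = q at h0 ⊢
        rw [map_mul, map_mul, map_mul _ _ (∏ j : Fin n, _), map_mul _ _ (∏ i : Fin d, _)]
        simp only [map_prod]
        refine congrArg (· * _) (congrArg (_ * ·) (Finset.prod_congr rfl fun x _ => ?_))
        rw [map_pow q, map_pow q, map_add q, h0, add_zero]
      obtain ⟨R, hR⟩ := Ideal.mem_span_singleton'.mp hmem
      exact ⟨R, by rw [← sub_eq_iff_eq_add', ← hR, mul_comm], fun h => absurd h hN.ne'⟩
  choose R hR hR0 using hR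
  obtain ⟨g, hg⟩ := Ideal.mem_span_range_iff_exists_fun.mp hE
  refine ⟨fun i => Polynomial.X ^ i * Polynomial.C (c i) +
    if i = N then Polynomial.C U ^ (s - N) * ∑ l, Polynomial.C (g l) * R l else 0, ?_⟩
  refine Ideal.mem_span_range_iff_exists_fun.mpr ⟨fun l => Polynomial.C (g l), ?_⟩
  show ∑ l, Polynomial.C (g l) * F l = _
  simp only [hR, mul_add, Finset.sum_add_distrib, add_mul]
  have h1 : ∑ l, Polynomial.C (g l) * (Polynomial.X ^ N * Polynomial.C (f l)) =
      Polynomial.X ^ N * Polynomial.C (ζ ^ N + ∑ i ∈ Finset.Icc 1 N, c i * ζ ^ (N - i) * U ^ i) := by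
    rw [← hg, map_sum, Finset.mul_sum]
    refine Finset.sum_congr rfl fun l _ => ?_
    rw [map_mul]; ring
  have h2 : Polynomial.X ^ N * Polynomial.C (ζ ^ N + ∑ i ∈ Finset.Icc 1 N, c i * ζ ^ (N - i) * U ^ i) =
      (Polynomial.X * Polynomial.C ζ) ^ N + ∑ i ∈ Finset.Icc 1 N, Polynomial.X ^ i * Polynomial.C (c i) *
        (Polynomial.X * Polynomial.C ζ) ^ (N - i) * Polynomial.C U ^ i := by
    rw [map_add, map_sum, mul_add, Finset.mul_sum, map_pow, mul_pow, add_right_inj]
    refine Finset.sum_congr rfl fun i hi => ?_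
    conv_lhs => rw [show N = i + (N - i) by have := (Finset.mem_Icc.mp hi).2; omega]
    rw [Nat.add_sub_cancel_left, map_mul, map_mul, map_pow, map_pow, pow_add, mul_pow]
    ring
  rw [h1, h2, add_assoc]
  congr 2
  rcases Nat.eq_zero_or_pos N with hN | hN
  · simp [hR0 _ hN, hN]
  · rw [Finset.sum_eq_single_of_mem N (Finset.mem_Icc.mpr ⟨hN, le_rfl⟩) (fun i _ hi => by rw [if_neg hi]; simp),
      if_pos rfl, Nat.sub_self, pow_zero, mul_one, mul_right_comm, ← pow_add, Nat.sub_add_cancel hs, Finset.mul_sum]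
    simp only [map_pow]
    exact Finset.sum_congr rfl fun l _ => by ring

end Groth.Agent.S16367
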