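import Groth.Prelude.Def_Coh
import Groth.Agent.Lib.Euler.Basic
import Groth.Agent.Lib.Euler.Coh
import Mathlib.FieldTheory.Perfect

set_option autoImplicit false
universe u
open CategoryTheory AlgebraicGeometry Opposite

namespace Groth.Agent.S16369

/-- (i) ⇒ (ii): let k be a perfect field of characteristic p and X a scheme proper over k. Let φ be the
p-th power map on the sheaf of additive groups underlying O_X and B its cokernel in abelian sheaves
(for X smooth over k this is the sheaf B¹ of locally exact one-forms, pushed down along Frobenius).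
If X is Frobenius split — φ admits a retraction s, an additive endomorphism of O_X with s(t^p) = t
and s(a^p·b) = a·s(b) on every open — then H^i(X, B) = 0 for every i. (The source states this for X
normal; normality is not used for this implication, and a split X is reduced anyway.) -/
theorem result
    (p : ℕ) [Fact p.Prime] (k : Type u) [Field k] [CharP k p] [PerfectField k]
    (X : Scheme.{u}) [X.Over (Spec (CommRingCat.of k))] [IsProper (X ↘ Spec (CommRingCat.of k))]
    (φ : Coh.toAb (Coh.structureModule X) ⟶ Coh.toAb (Coh.structureModule X))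
    (hφ : ∀ (U : X.Opens) (t : Γ(X, U)), φ.hom.app (op U) t = t ^ p)
    (s : Coh.toAb (Coh.structureModule X) ⟶ Coh.toAb (Coh.structureModule X))
    (hs : φ ≫ s = 𝟙 _)
    (hlin : ∀ (U : X.Opens) (a b : Γ(X, U)),
      s.hom.app (op U) (a ^ p * b) = a * @id Γ(X, U) (s.hom.app (op U) b))
    (i : ℕ) : Subsingleton (Sheaf.H (Limits.cokernel φ) i) := by
  classical
  let O := Coh.structureModule X
  let V := Coh.HH X O i
  haveI : FiniteDimensional k V := GrothLib.Euler.finiteDimensional_HH k
    (GrothLib.Euler.isCoh_of_isInvertible GrothLib.Euler.isInvertible_structure) i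
  let Φ : V →+ V := Sheaf.H.map φ i
  have hinj : Function.Injective Φ := fun x y h => by
    have h1 := congrArg (Sheaf.H.map s i) h
    rwa [← Sheaf.H.map_comp_apply, ← Sheaf.H.map_comp_apply, hs, Sheaf.H.map_id_apply, Sheaf.H.map_id_apply] at h1
  have hsl : ∀ (c : k) (x : V), Φ (c • x) = c ^ p • Φ x := by
    intro c x
    let r := Coh.toGlobal (X ↘ Spec (CommRingCat.of k)) c
    show Sheaf.H.map φ i (Sheaf.H.map (Coh.smulAb O r) i x) =
      Sheaf.H.map (Coh.smulAb O (Coh.toGlobal (X ↘ Spec (CommRingCat.of k)) (c ^ p))) i (Sheaf.H.map φ i x)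
    rw [← Sheaf.H.map_comp_apply, ← Sheaf.H.map_comp_apply]
    congr 2
    ext U m
    show φ.hom.app U ((Coh.smulAb O r).hom.app U m) =
      (Coh.smulAb O (Coh.toGlobal (X ↘ Spec (CommRingCat.of k)) (c ^ p))).hom.app U (φ.hom.app U m)
    rw [Coh.smulAb_app, Coh.smulAb_app]
    obtain ⟨U⟩ := U
    show φ.hom.app (op U) ((show Γ(X, U) from Coh.resTop X (op U) r) * (show Γ(X, U) from m)) =
      (show Γ(X, U) from Coh.resTop X (op U) (Coh.toGlobal (X ↘ Spec (CommRingCat.of k)) (c ^ p))) *
        (show Γ(X, U) from φ.hom.app (op U) m)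
    rw [map_pow, map_pow]
    exact (hφ U _).trans ((mul_pow _ _ _).trans
      (congrArg ((show Γ(X, U) from Coh.resTop X (op U) r) ^ p * ·) (hφ U m).symm))
  -- an injective semilinear endomorphism of a finite dimensional space is surjective
  haveI : ExpChar k p := ExpChar.prime Fact.out
  haveI : PerfectRing k p := PerfectField.toPerfectRing p
  have hsurj : Function.Surjective Φ := by
    let B := Module.finBasis k V
    have hli : LinearIndependent k fun l => Φ (B l) := by
      rw [Fintype.linearIndependent_iff]
      intro g hg l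
      have h1 : Φ (∑ l, (frobeniusEquiv k p).symm (g l) • B l) = 0 := by
        rw [map_sum, ← hg]
        refine Finset.sum_congr rfl fun j _ => ?_
        rw [hsl, frobeniusEquiv_symm_pow_p]
      have h2 : (∑ l, (frobeniusEquiv k p).symm (g l) • B l) = 0 := hinj (h1.trans (map_zero _).symm)
      have h3 := Fintype.linearIndependent_iff.1 B.linearIndependent _ h2 l
      rwa [map_eq_zero_iff _ (frobeniusEquiv k p).symm.injective] at h3
    intro y
    have hspan := hli.span_eq_top_of_card_eq_finrank' (by rw [Fintype.card_fin])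
    have hy : y ∈ Submodule.span k (Set.range fun l => Φ (B l)) := by rw [hspan]; trivial
    induction hy using Submodule.span_induction with
    | mem z hz => obtain ⟨l, rfl⟩ := hz; exact ⟨_, rfl⟩
    | zero => exact ⟨0, map_zero _⟩
    | add a b _ _ ha hb =>
      obtain ⟨a', rfl⟩ := ha
      obtain ⟨b', rfl⟩ := hb
      exact ⟨a' + b', map_add _ _ _⟩
    | smul c a _ ha =>
      obtain ⟨a', rfl⟩ := ha
      exact ⟨(frobeniusEquiv k p).symm c • a', by rw [hsl, frobeniusEquiv_symm_pow_p]⟩
  -- the cokernel is a direct summand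
  let σ : Limits.cokernel φ ⟶ Coh.toAb O := Limits.cokernel.desc φ (𝟙 _ - s ≫ φ) (by
    rw [Preadditive.comp_sub, Category.comp_id, ← Category.assoc, hs, Category.id_comp, sub_self])
  have hσ : σ ≫ Limits.cokernel.π φ = 𝟙 _ := by
    rw [← cancel_epi (Limits.cokernel.π φ), ← Category.assoc, Limits.cokernel.π_desc, Preadditive.sub_comp,
      Category.id_comp, Category.assoc, Limits.cokernel.condition, Limits.comp_zero, sub_zero, Category.comp_id]
  refine subsingleton_of_forall_eq 0 fun y => ?_
  obtain ⟨w, hw⟩ := hsurj (Sheaf.H.map σ i y)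
  have h1 := congrArg (Sheaf.H.map (Limits.cokernel.π φ) i) hw
  rw [← Sheaf.H.map_comp_apply σ, hσ, Sheaf.H.map_id_apply] at h1
  rw [← h1]
  show Sheaf.H.map (Limits.cokernel.π φ) i (Sheaf.H.map φ i w) = 0
  rw [← Sheaf.H.map_comp_apply, Limits.cokernel.condition]
  show ((Sheaf.functorH _ i).map (0 : Coh.toAb O ⟶ Limits.cokernel φ)).hom w = 0
  rw [Functor.map_zero]
  rfl

end Groth.Agent.S16369
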