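import Groth.Statements.S16370


set_option autoImplicit false
universe u
open CategoryTheory AlgebraicGeometry Opposite
open FrobSch

namespace Groth.Agent.S16370

/-- (ii) ⇒ (iii): let X be a reduced scheme of prime characteristic p, φ the p-th power map on the sheaf
of additive groups underlying O_X (a monomorphism, X being reduced) and B its cokernel in abelian
sheaves. If H^i(X, B) = 0 for all i ≥ 0, then the endomorphism of H^i(X, O_X) induced by φ — the
Hasse–Witt operation — is bijective for all i. (The source has X normal and proper over a perfect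
field; only reducedness enters this implication.) -/
theorem result
    (p : ℕ) [Fact p.Prime] (X : Scheme.{u}) [IsReduced X] (hp : (p : Γ(X, ⊤)) = 0)
    (φ : Coh.toAb (Coh.structureModule X) ⟶ Coh.toAb (Coh.structureModule X))
    (hφ : ∀ (U : X.Opens) (t : Γ(X, U)), φ.hom.app (op U) t = t ^ p)
    (hB : ∀ i : ℕ, Subsingleton (Sheaf.H (Limits.cokernel φ) i))
    (i : ℕ) : Function.Bijective (Sheaf.H.map φ i) := by
  haveI hmono : Mono φ := by
    haveI : ∀ U, Mono (φ.hom.app U) := fun U => by
      rw [AddCommGrpCat.mono_iff_injective]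
      refine (injective_iff_map_eq_zero _).mpr fun (t : Γ(X, U.unop)) ht => ?_
      haveI : _root_.IsReduced Γ(X, U.unop) := IsReduced.component_reduced U.unop
      exact @IsNilpotent.eq_zero Γ(X, U.unop) t _ _ _ ⟨p, ((hφ U.unop t).symm.trans ht)⟩
    haveI : Mono φ.hom := NatTrans.mono_of_mono_app _
    exact (sheafToPresheaf _ _).mono_of_mono_map this
  let S : ShortComplex _ := ShortComplex.mk φ (Limits.cokernel.π φ) (Limits.cokernel.condition φ)
  haveI : Mono S.f := hmono
  have hS : S.ShortExact := { exact := ShortComplex.exact_of_g_is_cokernel _ (Limits.cokernelIsCokernel φ) }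
  refine ⟨(injective_iff_map_eq_zero _).mpr fun x hx => ?_, fun x => ?_⟩
  · cases i with
    | zero =>
      refine (CategoryTheory.Abelian.Ext.addEquiv₀).injective ?_
      refine (cancel_mono φ).mp ?_
      rw [← Sheaf.H.addEquiv₀_map, hx, map_zero, Limits.zero_comp]
    | succ n =>
      obtain ⟨y, hy⟩ := CategoryTheory.Abelian.Ext.covariant_sequence_exact₁ _ hS x hx rfl
      haveI := hB n
      rw [← hy, Subsingleton.elim y 0, CategoryTheory.Abelian.Ext.zero_comp]
  · haveI := hB i
    exact CategoryTheory.Abelian.Ext.covariant_sequence_exact₂ _ hS x (Subsingleton.elim _ _)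

end Groth.Agent.S16370
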