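import Groth.Statements.S16371
import Mathlib

set_option autoImplicit false
universe u v w
open FrobAlg

namespace Groth.Agent.S16371

/-- Let p be a prime, A a commutative ring and B, C commutative A-algebras with p² = 0 in B. If two
A-algebra maps g₁, g₂ : C → B agree modulo p, then they agree on every element of C which is
congruent modulo p to an element of the A-subalgebra generated by the p-th powers. (The source
states this for liftings over a flat ℤ/p²-thickening of two smooth schemes and the subsheaf of
functions whose reduction lies in the image of the relative Frobenius; the smoothness and lifting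
hypotheses are not needed for the identity.) -/
theorem result
    (p : ℕ) [Fact p.Prime] (A : Type u) [CommRing A] (B : Type v) [CommRing B] [Algebra A B]
    (C : Type w) [CommRing C] [Algebra A C] (hp : (p : B) ^ 2 = 0)
    (g₁ g₂ : C →ₐ[A] B) (hg : ∀ x : C, g₁ x - g₂ x ∈ Ideal.span ({(p : B)} : Set B))
    (x y : C) (hy : y ∈ Algebra.adjoin A (Set.range fun c : C => c ^ p))
    (hxy : x - y ∈ Ideal.span ({(p : C)} : Set C)) :
    g₁ x = g₂ x := by
  classical
  have hp' : p.Prime := Fact.out
  have hadj : ∀ z ∈ Algebra.adjoin A (Set.range fun c : C => c ^ p), g₁ z = g₂ z := by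
    intro z hz
    induction hz using Algebra.adjoin_induction with
    | mem z hz =>
      obtain ⟨c, rfl⟩ := hz
      obtain ⟨e, he⟩ := Ideal.mem_span_singleton.1 (hg c)
      obtain ⟨r, hr⟩ := exists_add_pow_prime_eq hp' (g₂ c) ((p : B) * e)
      rw [map_pow, map_pow, eq_add_of_sub_eq' he, hr, mul_pow, pow_eq_zero_of_le hp'.two_le hp]
      linear_combination (g₂ c * e * r) * hp
    | algebraMap a => rw [AlgHom.commutes, AlgHom.commutes]
    | add a b _ _ ha hb => rw [map_add, map_add, ha, hb]
    | mul a b _ _ ha hb => rw [map_mul, map_mul, ha, hb]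
  obtain ⟨c, hc⟩ := Ideal.mem_span_singleton.1 hxy
  obtain ⟨e, he⟩ := Ideal.mem_span_singleton.1 (hg c)
  rw [eq_add_of_sub_eq' hc, map_add, map_add, map_mul, map_mul, map_natCast, map_natCast, hadj y hy]
  linear_combination (p : B) * he + e * hp

end Groth.Agent.S16371
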