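import Groth.Statements.S16373
import Mathlib.RingTheory.WittVector.Identities
import Mathlib.RingTheory.WittVector.Teichmuller
import Mathlib.RingTheory.WittVector.Domain
-- import your own Groth.Agent.* helpers here

set_option autoImplicit false
universe u
open FrobAlg

namespace Groth.Agent.S16373

/-- Let p be a prime, m ≥ 1, R a commutative ring with p = 0 in R and σ : W_m(R) → R a quasi-F-splitting
of level m (additive, σ(1) = 1, σ(F(x)·y) = x₀·σ(y) with F the componentwise p-th power). Let I ⊆
W_{m+1}(R) be the ideal generated by the shifts V(x) of the x with σ(x) = 0, and Q = W_{m+1}(R)/I.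
Then Q is a flat lifting of R modulo p²: an element of Q lies in pQ exactly when the first Witt
component of a representative vanishes (so Q/pQ is R through the first component), and an element of
Q is killed by p exactly when it lies in pQ. (Stated for a ring; the source has a scheme over the
prime field. For m = 1 this is the lifting attached to a Frobenius splitting.) -/
theorem result
    (p : ℕ) [Fact p.Prime] (m : ℕ) (hm : 0 < m) (R : Type u) [CommRing R] (hp : (p : R) = 0)
    (σ : TruncatedWittVector p m R →+ R) (h1 : σ 1 = 1)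
    (hF : ∀ x y : TruncatedWittVector p m R, σ (WittGrp.frob p m hp x * y) = x.coeff ⟨0, hm⟩ * σ y)
    (I : Ideal (TruncatedWittVector p (m + 1) R))
    (hI : I = Ideal.span (WittGrp.shift p (Nat.le_succ m) '' {x : TruncatedWittVector p m R | σ x = 0})) :
    (∀ w : TruncatedWittVector p (m + 1) R,
        Ideal.Quotient.mk I w ∈ Ideal.span ({(p : TruncatedWittVector p (m + 1) R ⧸ I)} : Set _) ↔
          w.coeff 0 = 0) ∧
    (∀ q : TruncatedWittVector p (m + 1) R ⧸ I,
        (p : TruncatedWittVector p (m + 1) R ⧸ I) * q = 0 ↔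
          q ∈ Ideal.span ({(p : TruncatedWittVector p (m + 1) R ⧸ I)} : Set _)) := by
  classical
  let V := WittGrp.shift p (Nat.le_succ m) (R := R)
  have hsub : m + 1 - m = 1 := by omega
  rcases subsingleton_or_nontrivial R with hR | hR
  · haveI : Subsingleton (TruncatedWittVector p (m + 1) R) :=
      ⟨fun a b => TruncatedWittVector.ext fun i => Subsingleton.elim _ _⟩
    refine ⟨fun w => ⟨fun _ => Subsingleton.elim _ _, fun _ => ?_⟩, fun q => ⟨fun _ => ?_, fun _ => Subsingleton.elim _ _⟩⟩
    · rw [Subsingleton.elim w 0, map_zero]; exact zero_mem _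
    · rw [Subsingleton.elim q 0]; exact zero_mem _
  haveI : CharP R p := (CharP.charP_iff_prime_eq_zero Fact.out).mpr hp
  have hVinj : Function.Injective V := fun a b h => TruncatedWittVector.ext fun i => by
    have := congrArg (TruncatedWittVector.coeff (⟨i + 1, by omega⟩ : Fin (m + 1))) h
    simp only [V, WittGrp.coeff_shift, hsub] at this
    simpa using this
  have hVmem : ∀ w, w ∈ I ↔ ∃ x, σ x = 0 ∧ V x = w := fun w => by
    rw [hI]
    refine ⟨fun hw => ?_, fun ⟨x, hx, e⟩ => Ideal.subset_span ⟨x, hx, e⟩⟩
    induction hw using Submodule.span_induction with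
    | mem z hz => obtain ⟨x, hx, rfl⟩ := hz; exact ⟨x, hx, rfl⟩
    | zero => exact ⟨0, map_zero σ, map_zero V⟩
    | add a b _ _ ha hb =>
      obtain ⟨x, hx, rfl⟩ := ha
      obtain ⟨y, hy, rfl⟩ := hb
      exact ⟨x + y, by rw [map_add, hx, hy, add_zero], map_add V x y⟩
    | smul c a _ ha =>
      obtain ⟨x, hx, rfl⟩ := ha
      obtain ⟨X, rfl⟩ := WittVector.truncate_surjective p m R x
      obtain ⟨C, rfl⟩ := WittVector.truncate_surjective p (m + 1) R c
      refine ⟨WittGrp.frob p m hp (WittVector.truncate m C) * WittVector.truncate m X, by rw [hF, hx, mul_zero], ?_⟩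
      rw [WittGrp.frob_truncate, ← map_mul, WittGrp.shift_truncate, smul_eq_mul, WittGrp.shift_truncate, ← map_mul,
        hsub, Function.iterate_one, mul_comm (WittVector.frobenius C) X, WittVector.verschiebung_mul_frobenius,
        mul_comm C]
  have hpmul : ∀ W : WittVector p R, (p : TruncatedWittVector p (m + 1) R) * WittVector.truncate (m + 1) W =
      V (WittGrp.frob p m hp (WittVector.truncate m W)) := fun W => by
    rw [WittGrp.frob_truncate, WittGrp.shift_truncate, hsub, Function.iterate_one, WittVector.verschiebung_frobenius,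
      map_mul, map_natCast, mul_comm]
  have hFσ : ∀ W : WittVector p R, σ (WittGrp.frob p m hp (WittVector.truncate m W)) = W.coeff 0 := fun W => by
    rw [← mul_one (WittGrp.frob p m hp _), hF, h1, mul_one, WittVector.coeff_truncate]
  have hV0 : ∀ x, (V x).coeff 0 = 0 := fun x => by simp [V, WittGrp.coeff_shift, hsub]
  have hcoeff0 : ∀ a b : TruncatedWittVector p (m + 1) R, (a + b).coeff 0 = a.coeff 0 + b.coeff 0 := fun a b => by
    obtain ⟨A, rfl⟩ := WittVector.truncate_surjective p (m + 1) R a
    obtain ⟨B, rfl⟩ := WittVector.truncate_surjective p (m + 1) R b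
    rw [← map_add, WittVector.coeff_truncate, WittVector.coeff_truncate, WittVector.coeff_truncate]
    exact WittVector.add_coeff_zero A B
  have first : ∀ w : TruncatedWittVector p (m + 1) R,
      Ideal.Quotient.mk I w ∈ Ideal.span ({(p : TruncatedWittVector p (m + 1) R ⧸ I)} : Set _) ↔ w.coeff 0 = 0 := by
    intro w
    rw [Ideal.mem_span_singleton]
    constructor
    · rintro ⟨z, hz⟩
      obtain ⟨z, rfl⟩ := Ideal.Quotient.mk_surjective z
      rw [← map_natCast (Ideal.Quotient.mk I), ← map_mul, Ideal.Quotient.eq, hVmem] at hz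
      obtain ⟨x, -, hx⟩ := hz
      obtain ⟨Z, rfl⟩ := WittVector.truncate_surjective p (m + 1) R z
      rw [hpmul, eq_sub_iff_add_eq] at hx
      rw [← hx, hcoeff0, hV0, hV0, add_zero]
    · intro hw
      obtain ⟨W, rfl⟩ := WittVector.truncate_surjective p (m + 1) R w
      rw [WittVector.coeff_truncate] at hw
      have hW : W = WittVector.verschiebung (WittVector.shift W 1) := by
        simpa [show W.shift 0 = W from WittVector.ext fun i => by simp [WittVector.shift]] using (WittVector.verschiebung_shift W 0 (fun i hi => by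
          obtain rfl : i = 0 := by omega
          exact hw)).symm
      let x := WittVector.truncate m (WittVector.shift W 1)
      have hx : WittVector.truncate (m + 1) W = V x := by
        rw [WittGrp.shift_truncate, hsub, Function.iterate_one, ← hW]
      let Z := WittVector.teichmuller p (σ x)
      refine ⟨Ideal.Quotient.mk I (WittVector.truncate (m + 1) Z), ?_⟩
      rw [← map_natCast (Ideal.Quotient.mk I), ← map_mul, Ideal.Quotient.eq, hVmem, hpmul, hx]
      exact ⟨x - WittGrp.frob p m hp (WittVector.truncate m Z), by
        rw [map_sub, hFσ, WittVector.teichmuller_coeff_zero, sub_self], map_sub V _ _⟩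
  refine ⟨first, fun q => ?_⟩
  obtain ⟨w, rfl⟩ := Ideal.Quotient.mk_surjective q
  rw [first, ← map_natCast (Ideal.Quotient.mk I), ← map_mul, Ideal.Quotient.eq_zero_iff_mem, hVmem]
  obtain ⟨W, rfl⟩ := WittVector.truncate_surjective p (m + 1) R w
  rw [hpmul, WittVector.coeff_truncate]
  constructor
  · rintro ⟨x, hx, e⟩
    rw [hVinj e, hFσ] at hx
    exact hx
  · intro h
    exact ⟨_, by rw [hFσ]; exact h, rfl⟩

end Groth.Agent.S16373
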