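import Groth.Statements.S16374
import Mathlib

set_option autoImplicit false
universe u v w
open FrobAlg

namespace Groth.Agent.S16374

/-- Let p be a prime, A a commutative ring, B and C commutative A-algebras with p² = 0 in B, and g : C →
B an A-algebra map such that every g(c) is congruent modulo p to an element of the A-subalgebra of B
generated by the p-th powers (g lifts a relative Frobenius). Then d(g(x)) = 0 in the module of
Kähler differentials of B over A for every x ∈ C that is congruent modulo p to an element of the
A-subalgebra of C generated by the p-th powers. (The source works with a lifting of the relative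
Frobenius of a smooth scheme over a ℤ/p²-thickening and the subsheaf of functions whose reduction
comes from the Frobenius twist; smoothness is not needed for this vanishing.) -/
theorem result
    (p : ℕ) [Fact p.Prime] (A : Type u) [CommRing A] (B : Type v) [CommRing B] [Algebra A B]
    (C : Type w) [CommRing C] [Algebra A C] (hp : (p : B) ^ 2 = 0)
    (g : C →ₐ[A] B)
    (hg : ∀ c : C, ∃ u ∈ Algebra.adjoin A (Set.range fun b : B => b ^ p),
      g c - u ∈ Ideal.span ({(p : B)} : Set B))
    (x y : C) (hy : y ∈ Algebra.adjoin A (Set.range fun c : C => c ^ p))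
    (hxy : x - y ∈ Ideal.span ({(p : C)} : Set C)) :
    KaehlerDifferential.D A B (g x) = 0 := by
  classical
  have hp' : p.Prime := Fact.out
  have hu : ∀ u ∈ Algebra.adjoin A (Set.range fun b : B => b ^ p),
      ∃ w, KaehlerDifferential.D A B u = (p : B) • w := by
    intro u hu
    induction hu using Algebra.adjoin_induction with
    | mem u hu =>
      obtain ⟨b, rfl⟩ := hu
      exact ⟨b ^ (p - 1) • KaehlerDifferential.D A B b, by rw [Derivation.leibniz_pow, Nat.cast_smul_eq_nsmul]⟩
    | algebraMap a => exact ⟨0, by rw [Derivation.map_algebraMap, smul_zero]⟩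
    | add a b _ _ ha hb =>
      obtain ⟨v, hv⟩ := ha; obtain ⟨w, hw⟩ := hb
      exact ⟨v + w, by rw [map_add, hv, hw, smul_add]⟩
    | mul a b _ _ ha hb =>
      obtain ⟨v, hv⟩ := ha; obtain ⟨w, hw⟩ := hb
      exact ⟨a • w + b • v, by rw [Derivation.leibniz, hv, hw, smul_add, smul_comm a, smul_comm b]⟩
  have hpp : ∀ w : KaehlerDifferential A B, (p : B) • (p : B) • w = 0 := fun w => by
    rw [smul_smul, ← sq, hp, zero_smul]
  have hDp : ∀ e : B, KaehlerDifferential.D A B ((p : B) * e) = (p : B) • KaehlerDifferential.D A B e := fun e => by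
    rw [← nsmul_eq_mul, map_nsmul, Nat.cast_smul_eq_nsmul]
  have hgc : ∀ c, (p : B) • KaehlerDifferential.D A B (g c) = 0 := fun c => by
    obtain ⟨u, hu', he⟩ := hg c
    obtain ⟨e, he⟩ := Ideal.mem_span_singleton.1 he
    obtain ⟨w, hw⟩ := hu u hu'
    rw [eq_add_of_sub_eq' he, map_add, hw, hDp, smul_add, hpp, hpp, add_zero]
  have hy' : ∀ z ∈ Algebra.adjoin A (Set.range fun c : C => c ^ p), KaehlerDifferential.D A B (g z) = 0 := by
    intro z hz
    induction hz using Algebra.adjoin_induction with
    | mem z hz =>
      obtain ⟨c, rfl⟩ := hz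
      rw [map_pow, Derivation.leibniz_pow, ← Nat.cast_smul_eq_nsmul B, smul_comm, hgc, smul_zero]
    | algebraMap a => rw [AlgHom.commutes, Derivation.map_algebraMap]
    | add a b _ _ ha hb => rw [map_add, map_add, ha, hb, add_zero]
    | mul a b _ _ ha hb => rw [map_mul, Derivation.leibniz, ha, hb, smul_zero, smul_zero, add_zero]
  obtain ⟨c, hc⟩ := Ideal.mem_span_singleton.1 hxy
  rw [eq_add_of_sub_eq' hc, map_add, map_add, hy' y hy, map_mul, map_natCast, hDp, hgc, add_zero]

end Groth.Agent.S16374
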