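import Groth.Statements.S16377
import Groth.Agent.Lib.FMK22.SuppVanish
import Groth.Agent.S16375
import Groth.Agent.Lib.BlowK17.Perf
import Groth.Agent.Lib.FMInv15.Inversion

set_option autoImplicit false
universe u
open CategoryTheory CategoryTheory.Limits AlgebraicGeometry
attribute [local instance] HasDerivedCategory.standard
open FMK

namespace Groth.Agent.S16377

/-- Let k be an algebraically closed field, X a scheme over k and Y a quasi-compact scheme locally of
finite type over k (structure morphisms a and b) of dimension at most g, and P a cochain complex of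
modules on X ×_k Y. Write Φ_P = Rpr_{Y,*}(Lpr_X^*(−) ⊗^L P) : D(O_X) → D(O_Y), Ψ_P =
Rpr_{X,*}(Lpr_Y^*(−) ⊗^L P) : D(O_Y) → D(O_X) and R^iΦ_P(F) = H^i(Φ_P(F)), the derived functors
involved being assumed to exist. Let k' ≥ 0 and let F be a cochain complex of O_X-modules defining a
perfect object which is a GV_{k'}-object with respect to P: R^iΦ_P(F) = 0 for i < 0, and for i ≥ 0
the support of R^iΦ_P(F) has codimension at least i − k' in Y (the local ring of Y at each point of
the support has Krull dimension ≥ i − k'). Let N be a finite locally free O_Y-module. Then H^i(X,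
Ψ_P(N) ⊗^L F) = 0 for every i < 0 and every i > g + k'. (The published statement carries an extra
shift N[h] by an integer h and asserts vanishing of H^i(X, F ⊗ Ψ_P(N[h])) for i outside [0, dim Y −
h + k']; since that group is H^{i+h}(X, F ⊗ Ψ_P N), the correct range is i outside [−h, dim Y + k' −
h], which for h = 0 is the statement here, and for h > 0 the published range is wrong: X = Y = Spec
k, P = k, F = N = k, k' = 0, h = 1 gives H^{−1}(F ⊗ N[1]) = k ≠ 0.) -/
theorem result (k : Type u) [Field k] [IsAlgClosed k]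
    (X Y : Scheme.{u}) (a : X ⟶ Spec (CommRingCat.of k)) (b : Y ⟶ Spec (CommRingCat.of k))
    [LocallyOfFiniteType b] [QuasiCompact b] (g : ℕ) (hg : topologicalKrullDim ↥Y ≤ (g : WithBot ℕ∞))
    (P : CochainComplex (pullback a b).Modules ℤ)
    [DCoh.HasLpull (pullback.fst a b)] [DCoh.HasLpull (pullback.snd a b)] [DCoh.HasLTensorCx P]
    [DCoh.HasRpush (pullback.fst a b)] [DCoh.HasRpush (pullback.snd a b)] [DCoh.HasRΓ X]
    (k' : ℕ) (F : CochainComplex X.Modules ℤ) (hF : DCoh.IsPerfect (DCoh.toD X F)) [DCoh.HasLTensorCx F]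
    (hneg : ∀ i : ℤ, i < 0 → IsZero (DCoh.HD ((FMK.phi a b P).obj (DCoh.toD X F)) i))
    (hcodim : ∀ (i : ℕ) (y : ↥Y), y ∈ CohB1.support (DCoh.HD ((FMK.phi a b P).obj (DCoh.toD X F)) (i : ℤ)) →
      ((i - k' : ℕ) : WithBot ℕ∞) ≤ ringKrullDim ↑(Y.presheaf.stalk y))
    (N : Y.Modules) (hN : FlatMod.IsFinLocFree N) (i : ℤ) (hi : i < 0 ∨ (g : ℤ) + k' < i) :
    IsZero ((DerivedCategory.homologyFunctor AddCommGrpCat.{u} i).obj ((DCoh.RΓ X).obj
      ((DCoh.LTensorCx F).obj ((DCoh.Lpull (pullback.snd a b) ⋙ DCoh.LTensorCx P ⋙ DCoh.Rpush (pullback.fst a b)).obj (DCoh.inD Y N))))) := by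
  haveI : DCoh.HasRΓ Y := GrothLib.KInj.hasRightDerivedFunctor _
  haveI : IsLocallyNoetherian Y := LocallyOfFiniteType.isLocallyNoetherian b
  haveI : CompactSpace Y := QuasiCompact.compactSpace_of_compactSpace b
  haveI : IsNoetherian Y := {}
  let N₀ := (HomologicalComplex.single Y.Modules (ComplexShape.up ℤ) 0).obj N
  haveI := GrothLib.OX.hasLTensorCx N₀
  obtain ⟨h₁, h₂⟩ := GrothLib.FMK22.exact_tF_finLocFree hN
  haveI := h₁
  haveI := h₂
  have hN0 : DCoh.IsPerfect (DCoh.toD Y N₀) :=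
    GrothLib.OX.isPerfect_of_iso (GrothLib.BlowK17.isPerfect_inD_vb hN) (GrothLib.FMInv15.singleQIso N).symm
  obtain ⟨e⟩ := Groth.Agent.S16375.result k X Y a b P F hF N₀ hN0
  obtain ⟨s⟩ := GrothLib.FMK22.nonempty_ltensorCx_single_finLocFree (N := N)
  let T := GrothLib.Euler.tF N
  let Φ := (FMK.phi a b P).obj (DCoh.toD X F)
  let E : DCoh.D Y := T.mapDerivedCategory.obj Φ
  let w := (DCoh.RΓ X).mapIso ((DCoh.LTensorCx F).mapIso
      ((DCoh.Lpull (pullback.snd a b) ⋙ DCoh.LTensorCx P ⋙ DCoh.Rpush (pullback.fst a b)).mapIso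
        (GrothLib.FMInv15.singleQIso N).symm)) ≪≫ e ≪≫ (DCoh.RΓ Y).mapIso (s.app Φ)
  refine IsZero.of_iso ?_ ((DerivedCategory.homologyFunctor _ i).mapIso w)
  rw [GrothLib.FMK22.isZero_rGamma_iff_hom]
  have hlarge : ∀ j : ℤ, (g : ℤ) + k' < j → IsZero (DCoh.HD Φ j) := fun j hj => by
    refine GrothLib.OX.isZero_of_subsingleton_stalks _ fun y => ?_
    by_contra hy
    obtain ⟨n, rfl⟩ := Int.eq_ofNat_of_zero_le (show (0 : ℤ) ≤ j by omega)
    have h := le_trans (hcodim n y hy) (le_trans (GrothLib.FMK22.ringKrullDim_stalk_le y) hg)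
    have h' : n - k' ≤ g := by exact_mod_cast h
    omega
  let hh : ∀ j, DCoh.HD E j ≅ T.obj (DCoh.HD Φ j) := fun j =>
    (GrothLib.DerTrunc.nonempty_homology_mapDerivedCategory T Φ j).some
  haveI : E.IsGE 0 := (DerivedCategory.isGE_iff _ _).2 fun j hj => (T.map_isZero (hneg j hj)).of_iso (hh j)
  haveI : E.IsLE (0 + ((g + k' : ℕ) : ℤ)) := (DerivedCategory.isLE_iff _ _).2 fun j hj =>
    (T.map_isZero (hlarge j (by push_cast at hj; omega))).of_iso (hh j)
  refine GrothLib.FMK22.hom_eq_zero_of_cohomology _ (g + k') E 0 fun j ψ => ?_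
  refine GrothLib.FMK22.hom_single_eq_zero _ i j (fun p hp => ?_) ψ
  by_cases hj : j < 0
  · exact GrothLib.Cohom.subsingleton_HH_of_isZero (DerivedCategory.isZero_of_isGE E 0 j hj) p
  · obtain ⟨n, rfl⟩ := Int.eq_ofNat_of_zero_le (show (0 : ℤ) ≤ j by omega)
    refine GrothLib.FMK22.subsingleton_HH_of_codim g hg _ (n - k') (fun y hy => hcodim n y ?_) p (by omega)
    exact GrothLib.FMK22.support_tF_subset_finLocFree hN (GrothLib.FMK22.mem_support_of_iso (hh n) hy)

end Groth.Agent.S16377
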