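import Groth.Statements.S16379
import Groth.Agent.Lib.FMK22.Amplitude
import Groth.Agent.Lib.FMK22.PhiShift

set_option autoImplicit false
universe u
open CategoryTheory CategoryTheory.Limits AlgebraicGeometry
attribute [local instance] HasDerivedCategory.standard
open FMK

namespace Groth.Agent.S16379

/-- Let k be an algebraically closed field, X and Y proper schemes over k with structure morphisms a and
b, all of whose local rings are Cohen–Macaulay, X equidimensional of dimension d (every irreducible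
component has dimension d). Let Ra_* on D_QCoh have the right adjoint a^× (given as data with its
adjunction), O an object of D_QCoh(Spec k) isomorphic to the structure sheaf in degree 0, and ω_X =
H^{−d}(a^×O) the dualizing module of X; write RΔ(F) = RHom(F, ω_X). Let P be a cochain complex of
modules on X ×_k Y defining a perfect object, and P' a cochain complex representing its derived dual
RHom(P, O_{X×Y}). For a kernel K write Φ_K = Rpr_{Y,*}(Lpr_X^*(−) ⊗^L K) : D(O_X) → D(O_Y) and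
R^iΦ_K = H^i ∘ Φ_K; the derived functors and internal RHom involved are assumed to exist. Let k' ≥ 0
and let F be a cochain complex of O_X-modules defining a perfect object which satisfies WIT_[d−k',d]
with respect to P: R^iΦ_P(F) = 0 for every i outside [d − k', d]. Then RΔ(F) is a GV_{k'}-object
with respect to P': R^iΦ_{P'}(RΔ F) = 0 for i < 0, and for i ≥ 0 the support of R^iΦ_{P'}(RΔ F) has
codimension at least i − k' (the local ring of Y at each of its points has Krull dimension ≥ i −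
k'). -/
theorem result (k : Type u) [Field k] [IsAlgClosed k]
    (X Y : Scheme.{u}) (a : X ⟶ Spec (CommRingCat.of k)) (b : Y ⟶ Spec (CommRingCat.of k)) [IsProper a] [IsProper b]
    (hXcm : ∀ x : ↥X, LocCoh.IsCohenMacaulayLocalRing ↑(X.presheaf.stalk x))
    (hYcm : ∀ y : ↥Y, LocCoh.IsCohenMacaulayLocalRing ↑(Y.presheaf.stalk y))
    (d : ℕ) (hd : topologicalKrullDim ↥X = (d : WithBot ℕ∞))
    (hXeq : ∀ Z ∈ irreducibleComponents ↥X, topologicalKrullDim ↥Z = (d : WithBot ℕ∞))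
    [DCoh.HasRpush a] (ha : DCoh.RpushPreservesQCoh a)
    (adx : DCoh.DQCoh (Spec (CommRingCat.of k)) ⥤ DCoh.DQCoh X) (adj : DCoh.RpushQ a ha ⊣ adx)
    (O : DCoh.DQCoh (Spec (CommRingCat.of k)))
    (hO : Nonempty (O.obj ≅ DCoh.inD (Spec (CommRingCat.of k)) (Coh.structureModule (Spec (CommRingCat.of k)))))
    (P : CochainComplex (pullback a b).Modules ℤ) (hP : DCoh.IsPerfect (DCoh.toD (pullback a b) P))
    [DCoh.HasLpull (pullback.fst a b)] [DCoh.HasLTensorCx P] [DCoh.HasRSheafHom P] [DCoh.HasRpush (pullback.snd a b)]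
    (P' : CochainComplex (pullback a b).Modules ℤ) [DCoh.HasLTensorCx P']
    (hP' : Nonempty (DCoh.toD (pullback a b) P' ≅
      (DCoh.RSheafHom P).obj (DCoh.inD (pullback a b) (Coh.structureModule (pullback a b)))))
    (k' : ℕ) (F : CochainComplex X.Modules ℤ) (hF : DCoh.IsPerfect (DCoh.toD X F)) [DCoh.HasLTensorCx F] [DCoh.HasRSheafHom F]
    (hWIT : ∀ i : ℤ, i < (d : ℤ) - k' ∨ (d : ℤ) < i → IsZero (DCoh.HD ((FMK.phi a b P).obj (DCoh.toD X F)) i)) :
    (∀ i : ℤ, i < 0 → IsZero (DCoh.HD ((FMK.phi a b P').obj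
      ((DCoh.RSheafHom F).obj (DCoh.inD X (DCoh.HD (adx.obj O).obj (-(d : ℤ)))))) i)) ∧
    (∀ (i : ℕ) (y : ↥Y), y ∈ CohB1.support (DCoh.HD ((FMK.phi a b P').obj
      ((DCoh.RSheafHom F).obj (DCoh.inD X (DCoh.HD (adx.obj O).obj (-(d : ℤ)))))) (i : ℤ)) →
      ((i - k' : ℕ) : WithBot ℕ∞) ≤ ringKrullDim ↑(Y.presheaf.stalk y)) := by
  haveI : IsNoetherian (Spec (CommRingCat.of k)) := inferInstance
  haveI : IsNoetherian Y := GrothLib.RightAdj22.isNoetherian_of_proper b
  let Φ' := FMK.phi a b P'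
  let G := (DCoh.RSheafHom F).obj (DCoh.inD X (DCoh.HD (adx.obj O).obj (-(d : ℤ))))
  obtain ⟨K, -, ⟨eK⟩⟩ := GrothLib.OX.exists_kflat_rep ((FMK.phi a b P).obj (DCoh.toD X F))
  haveI := GrothLib.OX.hasLTensorCx K
  haveI := GrothLib.OX.hasRSheafHom K
  obtain ⟨hKp, ⟨e⟩⟩ := GrothLib.FMK22.nonempty_dual_phi a b hXcm d hXeq ha adj O hO P hP P' hP' F hF K ⟨eK⟩
  obtain ⟨s⟩ := GrothLib.FMK22.nonempty_phi_shift a b P' G (d : ℤ)
  have hz : ∀ i : ℤ, Nonempty (DCoh.HD (Φ'.obj G) i ≅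
      DCoh.HD ((DCoh.RSheafHom K).obj (DCoh.inD Y (Coh.structureModule Y))) (i - d)) := fun i =>
    ⟨(((DerivedCategory.homologyFunctor Y.Modules 0).shiftIso (d : ℤ) (i - d) i (by omega)).app (Φ'.obj G)).symm ≪≫
      (DerivedCategory.homologyFunctor Y.Modules (i - d)).mapIso (e ≪≫ s).symm⟩
  have hK : ∀ l : ℤ, l < (d : ℤ) - k' ∨ (d : ℤ) < l → IsZero (DCoh.HD (DCoh.toD Y K) l) := fun l hl =>
    (hWIT l hl).of_iso ((DerivedCategory.homologyFunctor _ l).mapIso eK)
  refine ⟨fun i hi => ?_, fun i y hy => ?_⟩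
  · obtain ⟨z⟩ := hz i
    refine IsZero.of_iso ?_ z
    haveI : (DCoh.inD Y (Coh.structureModule Y)).IsGE 0 := inferInstance
    exact GrothLib.OX.isZero_HD_RSheafHom_of_lt K (c := (d : ℤ))
      (fun l hl => (hK l (Or.inr hl)).of_iso ((DerivedCategory.homologyFunctorFactors Y.Modules l).app K).symm)
      _ 0 (i - d) (by omega)
  · obtain ⟨z⟩ := hz (i : ℤ)
    by_contra hcon
    obtain ⟨δ, hδ⟩ : ∃ δ : ℕ, ringKrullDim ↑(Y.presheaf.stalk y) = δ := by
      obtain ⟨x, hx⟩ := WithBot.ne_bot_iff_exists.1 (ringKrullDim_ne_bot (R := ↑(Y.presheaf.stalk y)))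
      obtain ⟨δ, hδ⟩ := ENat.ne_top_iff_exists.1 (show x ≠ ⊤ from fun h => by
        refine hcon ?_
        rw [← hx, h]
        exact WithBot.coe_le_coe.2 le_top)
      exact ⟨δ, by rw [← hx, ← hδ]; rfl⟩
    rw [hδ, Nat.cast_le, not_le] at hcon
    have hsupp : ∀ l : ℤ, l < (d : ℤ) - k' → y ∉ CohB1.support (DCoh.HD (DCoh.toD Y K) l) := fun l hl hs =>
      hs (AddCommGrpCat.subsingleton_of_isZero ((Scheme.Modules.toPresheaf _ ⋙
        TopCat.Presheaf.stalkFunctor AddCommGrpCat.{u} (X := Y.toTopCat) y).map_isZero (hK l (Or.inl hl))))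
    obtain ⟨U, j, _, ⟨u, rfl⟩, R, c, hf, hb, ⟨eR⟩⟩ := GrothLib.FMK22.exists_free_ge_of_dim _ hKp y _ δ hδ.le 0
      (Nat.zero_le _) hsupp (fun _ _ _ _ _ _ _ _ d' _ => Nat.zero_le d')
    refine GrothLib.FMK22.notMem_support_dual K j u R hf _ c hb eR ((i : ℤ) - d) (by omega) ?_
    exact GrothLib.FMK22.mem_support_of_iso z hy

end Groth.Agent.S16379
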