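import Groth.Statements.S1638
import Mathlib.LinearAlgebra.TensorProduct.Basis
import Mathlib.LinearAlgebra.Basis.VectorSpace
import Mathlib.RingTheory.Flat.Basic
import Mathlib.RingTheory.TensorProduct.Maps

set_option autoImplicit false
universe u
open Brauer

namespace Groth.Agent.S1638

open scoped TensorProduct in
theorem mem_range_rTensor {k : Type*} [Field k] {V W : Type*} [AddCommGroup V] [Module k V]
    [AddCommGroup W] [Module k W] (C : Submodule k V) {ι : Type*} (f : ι → V →ₗ[k] V)
    (hC : ∀ v, (∀ j, f j v = 0) → v ∈ C) (x : V ⊗[k] W) (hx : ∀ j, (f j).rTensor W x = 0) :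
    x ∈ LinearMap.range (C.subtype.rTensor W) := by
  let b := Module.Free.chooseBasis k W
  obtain ⟨c, rfl⟩ := (TensorProduct.equivFinsuppOfBasisRight b).symm.surjective x
  have hsum : (TensorProduct.equivFinsuppOfBasisRight b).symm c = c.sum fun i v => v ⊗ₜ[k] b i := by
    rw [← LinearEquiv.coe_coe, TensorProduct.equivFinsuppOfBasisRight_symm]
    simp only [Finsupp.lsum_apply]
    exact Finsupp.sum_congr fun i _ => rfl
  rw [hsum]
  refine sum_mem fun i _ => ⟨(⟨c i, hC _ fun j => ?_⟩ : C) ⊗ₜ b i, rfl⟩
  have h := DFunLike.congr_fun (congrArg (TensorProduct.equivFinsuppOfBasisRight b) (hx j)) i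
  rw [map_zero, Finsupp.zero_apply, hsum, Finsupp.sum, map_sum, map_sum, Finsupp.finset_sum_apply] at h
  simp only [LinearMap.rTensor_tmul, TensorProduct.equivFinsuppOfBasisRight_apply_tmul_apply,
    Module.Basis.repr_self] at h
  by_cases hi : i ∈ c.support
  · rwa [Finset.sum_eq_single i (fun l _ hl => by rw [Finsupp.single_eq_of_ne (Ne.symm hl), zero_smul])
      (fun h' => absurd hi h'), Finsupp.single_eq_same, one_smul] at h
  · rw [Finsupp.notMem_support_iff.1 hi, map_zero]

/-- Let A and A' be algebras over a field k with subalgebras B ⊆ A and B' ⊆ A' having centralizers C and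
C'. Then the centralizer of the image of B ⊗ B' in A ⊗_k A' is the image of C ⊗_k C'. -/
theorem result (k : Type u) [Field k] (A A' : Type u) [Ring A] [Ring A'] [Algebra k A] [Algebra k A']
    (B : Subalgebra k A) (B' : Subalgebra k A') :
    Subalgebra.centralizer k ((Algebra.TensorProduct.map B.val B'.val).range : Set (TensorProduct k A A')) =
      (Algebra.TensorProduct.map (Subalgebra.centralizer k (B : Set A)).val (Subalgebra.centralizer k (B' : Set A')).val).range := by
  open scoped TensorProduct in
  apply le_antisymm
  · intro x hx
    rw [Subalgebra.mem_centralizer_iff k] at hx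
    set C := Subalgebra.centralizer k (B : Set A)
    set C' := Subalgebra.centralizer k (B' : Set A')
    have h1 : x ∈ LinearMap.range (C.toSubmodule.subtype.rTensor A') := by
      refine mem_range_rTensor C.toSubmodule (fun b : B => LinearMap.mulLeft k (b : A) - LinearMap.mulRight k (b : A))
        (fun v hv => (Subalgebra.mem_centralizer_iff k).2 fun b hb => ?_) x fun b => ?_
      · simpa [sub_eq_zero] using hv ⟨b, hb⟩
      · have hb := hx _ ⟨(b : B) ⊗ₜ[k] (1 : B'), rfl⟩
        rw [LinearMap.rTensor_sub, LinearMap.sub_apply, sub_eq_zero]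
        clear hx
        have hl : ∀ t : A ⊗[k] A', (LinearMap.mulLeft k (b : A)).rTensor A' t = ((b : A) ⊗ₜ (1 : A')) * t := by
          intro t
          induction t using TensorProduct.induction_on <;> simp_all [mul_add]
        have hr : ∀ t : A ⊗[k] A', (LinearMap.mulRight k (b : A)).rTensor A' t = t * ((b : A) ⊗ₜ (1 : A')) := by
          intro t
          induction t using TensorProduct.induction_on <;> simp_all [add_mul]
        rw [hl, hr]
        simpa using hb
    obtain ⟨y, rfl⟩ := h1
    have h2 : TensorProduct.comm k C.toSubmodule A' y ∈ LinearMap.range (C'.toSubmodule.subtype.rTensor C.toSubmodule) := by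
      refine mem_range_rTensor C'.toSubmodule (fun b : B' => LinearMap.mulLeft k (b : A') - LinearMap.mulRight k (b : A'))
        (fun v hv => (Subalgebra.mem_centralizer_iff k).2 fun b hb => ?_) _ fun b => ?_
      · simpa [sub_eq_zero] using hv ⟨b, hb⟩
      · have hb := hx _ ⟨(1 : B) ⊗ₜ[k] (b : B'), rfl⟩
        set d := LinearMap.mulLeft k (b : A') - LinearMap.mulRight k (b : A')
        apply (TensorProduct.comm k A' C.toSubmodule).injective
        rw [map_zero]
        apply Module.Flat.rTensor_preserves_injective_linearMap (M := A') C.toSubmodule.subtype (Submodule.injective_subtype _)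
        rw [map_zero]
        have hd : ∀ t : C.toSubmodule ⊗[k] A', C.toSubmodule.subtype.rTensor A'
            (TensorProduct.comm k A' C.toSubmodule (d.rTensor C.toSubmodule (TensorProduct.comm k C.toSubmodule A' t))) =
            ((1 : A) ⊗ₜ (b : A')) * C.toSubmodule.subtype.rTensor A' t - C.toSubmodule.subtype.rTensor A' t * ((1 : A) ⊗ₜ (b : A')) := by
          intro t
          induction t using TensorProduct.induction_on with
          | zero => simp
          | tmul c a => simp [d, TensorProduct.tmul_sub]
          | add p q hp hq => simp only [map_add, hp, hq, mul_add, add_mul]; abel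
        rw [hd, sub_eq_zero]
        simpa using hb
    obtain ⟨z, hz⟩ := h2
    refine ⟨TensorProduct.comm k C'.toSubmodule C.toSubmodule z, ?_⟩
    have hy : y = (TensorProduct.comm k C.toSubmodule A').symm (C'.toSubmodule.subtype.rTensor C.toSubmodule z) := by
      rw [hz, LinearEquiv.symm_apply_apply]
    subst hy
    clear hz hx
    induction z using TensorProduct.induction_on with
    | zero => simp
    | tmul c' c => rfl
    | add p q hp hq => simp only [map_add, hp, hq]
  · rintro _ ⟨t, rfl⟩
    rw [Subalgebra.mem_centralizer_iff]
    rintro _ ⟨s, rfl⟩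
    show (Algebra.TensorProduct.map B.val B'.val) s * _ = _ * (Algebra.TensorProduct.map B.val B'.val) s
    induction s using TensorProduct.induction_on with
    | zero => simp
    | add p q hp hq => rw [map_add, add_mul, mul_add, hp, hq]
    | tmul b b' =>
      induction t using TensorProduct.induction_on with
      | zero => simp
      | add p q hp hq => rw [map_add, add_mul, mul_add, hp, hq]
      | tmul c c' =>
        simp [(Subalgebra.mem_centralizer_iff k).1 c.2 b b.2, (Subalgebra.mem_centralizer_iff k).1 c'.2 b' b'.2]

end Groth.Agent.S1638
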