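import Groth.Statements.S16380
import Groth.Agent.Lib.FMK22.Amplitude
import Groth.Agent.Lib.FMK22.HyperQCoh
import Groth.Agent.Lib.FMK22.SerreDual
import Groth.Agent.Lib.OX.CohRHom
import Groth.Agent.Lib.HomSh.Coherent
import Groth.Agent.Lib.OX.CompactBdd
import Groth.Agent.Lib.RightAdj22.Adjoint

set_option autoImplicit false
set_option linter.style.haveILetI false
universe u
open CategoryTheory CategoryTheory.Limits AlgebraicGeometry
attribute [local instance] HasDerivedCategory.standard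
open FMK

namespace Groth.Agent.S16380

/-- Let k be an algebraically closed field, X and Y proper schemes over k with structure morphisms a and
b, all of whose local rings are Cohen–Macaulay, X equidimensional of dimension d and Y
equidimensional of dimension g. Let Rb_* on D_QCoh have the right adjoint b^× (given as data with
its adjunction), O an object of D_QCoh(Spec k) isomorphic to the structure sheaf in degree 0, and
ω_Y = H^{−g}(b^×O) the dualizing module of Y. Let L be an ample invertible O_Y-module with an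
inverse L' (L ⊗ L' ≅ O_Y), and P a cochain complex of modules on X ×_k Y defining a perfect object.
Write Φ_P = Rpr_{Y,*}(Lpr_X^*(−) ⊗^L P), Ψ_P = Rpr_{X,*}(Lpr_Y^*(−) ⊗^L P) and R^iΦ_P = H^i ∘ Φ_P,
the derived functors involved being assumed to exist. Let k' ≥ 0 and F a cochain complex of
O_X-modules defining a perfect object. Suppose that for every sufficiently large n (all n ≥ some n₀)
the hypercohomology H^j(X, Ψ_P(L'^{⊗ n} ⊗ ω_Y) ⊗^L F) vanishes for every integer j outside [g, g +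
k']. Then F is a GV_{k'}-object with respect to P: R^iΦ_P(F) = 0 for i < 0, and for i ≥ 0 the
support of R^iΦ_P(F) has codimension at least i − k' in Y (the local ring of Y at each of its points
has Krull dimension ≥ i − k'). (The published hypothesis is H^i(F ⊗ Ψ_{P[g]}(A^{−1} ⊗ ω_Y)) = 0 for
i outside [0, k'] and A any sufficiently positive ample line bundle; the kernel shift [g] is
absorbed into the degree, and A^{−1} is rendered as the powers of the inverse of a fixed ample L.) -/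
theorem result (k : Type u) [Field k] [IsAlgClosed k]
    (X Y : Scheme.{u}) (a : X ⟶ Spec (CommRingCat.of k)) (b : Y ⟶ Spec (CommRingCat.of k)) [IsProper a] [IsProper b]
    (hXcm : ∀ x : ↥X, LocCoh.IsCohenMacaulayLocalRing ↑(X.presheaf.stalk x))
    (hYcm : ∀ y : ↥Y, LocCoh.IsCohenMacaulayLocalRing ↑(Y.presheaf.stalk y))
    (d : ℕ) (hd : topologicalKrullDim ↥X = (d : WithBot ℕ∞))
    (hXeq : ∀ Z ∈ irreducibleComponents ↥X, topologicalKrullDim ↥Z = (d : WithBot ℕ∞))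
    (g : ℕ) (hg : topologicalKrullDim ↥Y = (g : WithBot ℕ∞))
    (hYeq : ∀ Z ∈ irreducibleComponents ↥Y, topologicalKrullDim ↥Z = (g : WithBot ℕ∞))
    [DCoh.HasRpush b] (hb : DCoh.RpushPreservesQCoh b)
    (bdx : DCoh.DQCoh (Spec (CommRingCat.of k)) ⥤ DCoh.DQCoh Y) (adj : DCoh.RpushQ b hb ⊣ bdx)
    (O : DCoh.DQCoh (Spec (CommRingCat.of k)))
    (hO : Nonempty (O.obj ≅ DCoh.inD (Spec (CommRingCat.of k)) (Coh.structureModule (Spec (CommRingCat.of k)))))
    (L L' : Y.Modules) (hL : CohB1.IsAmple L) (hLL' : Nonempty (CohB1.tensorMod L L' ≅ Coh.structureModule Y))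
    (P : CochainComplex (pullback a b).Modules ℤ) (hP : DCoh.IsPerfect (DCoh.toD (pullback a b) P))
    [DCoh.HasLpull (pullback.fst a b)] [DCoh.HasLpull (pullback.snd a b)] [DCoh.HasLTensorCx P]
    [DCoh.HasRpush (pullback.fst a b)] [DCoh.HasRpush (pullback.snd a b)] [DCoh.HasRΓ X]
    (k' : ℕ) (F : CochainComplex X.Modules ℤ) (hF : DCoh.IsPerfect (DCoh.toD X F)) [DCoh.HasLTensorCx F]
    (hvan : ∃ n₀ : ℕ, ∀ n : ℕ, n₀ ≤ n → ∀ j : ℤ, j < (g : ℤ) ∨ (g : ℤ) + k' < j →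
      IsZero ((DerivedCategory.homologyFunctor AddCommGrpCat.{u} j).obj ((DCoh.RΓ X).obj
        ((DCoh.LTensorCx F).obj ((DCoh.Lpull (pullback.snd a b) ⋙ DCoh.LTensorCx P ⋙ DCoh.Rpush (pullback.fst a b)).obj
          (DCoh.inD Y (CohB1.tensorMod (CohB1.tensorPow L' n) (DCoh.HD (bdx.obj O).obj (-(g : ℤ))))))))))
    :
    (∀ i : ℤ, i < 0 → IsZero (DCoh.HD ((FMK.phi a b P).obj (DCoh.toD X F)) i)) ∧
    (∀ (i : ℕ) (y : ↥Y), y ∈ CohB1.support (DCoh.HD ((FMK.phi a b P).obj (DCoh.toD X F)) (i : ℤ)) →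
      ((i - k' : ℕ) : WithBot ℕ∞) ≤ ringKrullDim ↑(Y.presheaf.stalk y)) := by
  haveI : IsNoetherian (Spec (CommRingCat.of k)) := inferInstance
  haveI : IsNoetherian Y := GrothLib.RightAdj22.isNoetherian_of_proper b
  haveI : DCoh.HasRΓ Y := GrothLib.KInj.hasRightDerivedFunctor _
  let OY := DCoh.inD Y (Coh.structureModule Y)
  let ω := DCoh.inD Y (DCoh.HD (bdx.obj O).obj (-(g : ℤ)))
  have hωq : DCoh.IsQCohD ω := GrothLib.FMInv15.isQCohD_inD_shift _ ((bdx.obj O).property _) 0 |> fun h =>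
    GrothLib.KSix19.BettiExact.isQCohD_of_iso' ((shiftFunctorZero (DCoh.D Y) ℤ).app _) h
  let M₀ := (DCoh.LTensorCx P).obj ((DCoh.Lpull (pullback.fst a b)).obj (DCoh.toD X F))
  have hM₀ : DCoh.IsPerfect M₀ := GrothLib.FMK22.isPerfect_kernel (pullback.fst a b) P hP hF
  obtain ⟨l₀, hl₀⟩ := GrothLib.KSix19.ProjPush.exists_isGE_of_isPerfect hM₀
  have hΦ : DCoh.IsPerfect ((FMK.phi a b P).obj (DCoh.toD X F)) :=
    @GrothLib.KSix19.RelNoeth.isPerfect_Rpush _ _ _ (pullback.snd a b) _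
      (GrothLib.ShriekPerf22.isPerfectMor_of_flat (pullback.snd a b)) _ M₀ l₀ hl₀ hM₀
  obtain ⟨K, hKf, ⟨eK⟩⟩ := GrothLib.OX.exists_kflat_rep ((FMK.phi a b P).obj (DCoh.toD X F))
  haveI := GrothLib.OX.hasLTensorCx K
  haveI := GrothLib.OX.hasRSheafHom K
  have hKp : DCoh.IsPerfect (DCoh.toD Y K) := GrothLib.OX.isPerfect_of_iso hΦ eK.symm
  let C := (DCoh.RSheafHom K).obj OY
  have hCp : DCoh.IsPerfect C :=
    GrothLib.OX.isPerfect_RSheafHom_of_perfect K hKp (GrothLib.OX.isPerfect_unit Y)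
  obtain ⟨hKc, -, hb', -, hhb⟩ := GrothLib.FMK22.exists_phi_bounds k a b P hP (DCoh.toD X F) hF
  haveI : (DerivedCategory.Q.obj K).IsLE hb' :=
    @CategoryTheory.Triangulated.TStructure.isLE_of_iso _ _ _ _ _ _ _ DerivedCategory.TStructure.t _ _ eK.symm hb' hhb
  haveI : OY.IsGE 0 := inferInstanceAs ((DCoh.inD Y (Coh.structureModule Y)).IsGE 0)
  have hOc : DCoh.IsCohD OY := fun l => by
    by_cases hl : l = 0
    · subst hl
      exact GrothLib.QCoh.isCoh_of_iso ((DerivedCategory.singleFunctorCompHomologyFunctorIso Y.Modules 0).app _).symm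
        (GrothLib.HomSh.isCoh_structureModule Y)
    · haveI : OY.IsLE 0 := inferInstanceAs ((DCoh.inD Y (Coh.structureModule Y)).IsLE 0)
      rcases lt_or_gt_of_ne hl with h | h
      · exact GrothLib.Euler.isCoh_of_isZero (DerivedCategory.isZero_of_isGE OY 0 l h)
      · exact GrothLib.Euler.isCoh_of_isZero (DerivedCategory.isZero_of_isLE OY 0 l h)
  have hCc : DCoh.IsCohD C := GrothLib.OX.isCohD_RSheafHom K hb'
    (fun l => GrothLib.QCoh.isCoh_of_iso ((DerivedCategory.homologyFunctor _ l).mapIso eK.symm) (hKc l)) 0 hOc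
  obtain ⟨lo, hlo⟩ := GrothLib.KSix19.ProjPush.exists_isGE_of_isPerfect hCp
  obtain ⟨hi', hhi⟩ := GrothLib.OX.exists_isLE_of_isPerfect hCp
  haveI := hlo
  haveI := hhi
  obtain ⟨n₁, hn₁⟩ := GrothLib.FMK22.exists_forall_isZero_twist_iff (CommRingCat.of k) b hL C hCc lo hi'
  obtain ⟨n₀, hn₀⟩ := hvan
  let n := n₀ + n₁
  obtain ⟨hN', ⟨eNN⟩⟩ := GrothLib.FMK22.nonempty_tensorPow_inverse hL.1 hLL' n
  have hN : PicF.IsInvertible (CohB1.tensorPow L n) := GrothLib.Ample.isInvertible_tensorPow hL.1 n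
  obtain ⟨f₁, f₂⟩ := GrothLib.FinSupp15.exact_tF hN
  haveI := f₁
  haveI := f₂
  obtain ⟨f₁', f₂'⟩ := GrothLib.FinSupp15.exact_tF hN'
  haveI := f₁'
  haveI := f₂'
  have hC : ∀ i : ℤ, i < -(k' : ℤ) ∨ 0 < i → IsZero (DCoh.HD C i) := by
    intro i hi
    refine (hn₁ n (Nat.le_add_left _ _) i).1 ?_
    obtain ⟨W, hW, ⟨eW⟩⟩ := GrothLib.OX.exists_kflat_rep (DCoh.inD Y (CohB1.tensorPow L' n))
    haveI := GrothLib.OX.hasLTensorCx W
    haveI := GrothLib.OX.hasRSheafHom W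
    obtain ⟨G, hG, ⟨eG⟩⟩ := GrothLib.OX.exists_kflat_rep
      (DCoh.inD Y (CohB1.tensorMod (CohB1.tensorPow L' n) (DCoh.HD (bdx.obj O).obj (-(g : ℤ)))))
    haveI := GrothLib.OX.hasLTensorCx G
    haveI := GrothLib.OX.hasLTensorCx ((HomologicalComplex.single Y.Modules (ComplexShape.up ℤ) 0).obj (CohB1.tensorPow L' n))
    obtain ⟨t'⟩ := GrothLib.FMInv15.nonempty_ltensorCx_single hN'
    obtain ⟨cW⟩ := GrothLib.OX.nonempty_ltensorCx_congr_of_iso (eW ≪≫ (GrothLib.FMInv15.singleQIso _).symm :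
      DerivedCategory.Q.obj W ≅ DerivedCategory.Q.obj
        ((HomologicalComplex.single Y.Modules (ComplexShape.up ℤ) 0).obj (CohB1.tensorPow L' n)))
    let eGω : DCoh.toD Y G ≅ (DCoh.LTensorCx W).obj ω := eG ≪≫
      (DerivedCategory.singleFunctor Y.Modules 0).mapIso
        (((GrothLib.OX.tensorBraiding (X := Y)).app (CohB1.tensorPow L' n)).app _).symm ≪≫
      (((GrothLib.Euler.tF (CohB1.tensorPow L' n)).mapDerivedCategorySingleFunctor 0).app _).symm ≪≫
      (cW ≪≫ t').symm.app ω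
    have hWp : DCoh.IsPerfect (DCoh.toD Y W) := (GrothLib.FMK22.locUnit_inD hN').isPerfect |> fun h =>
      GrothLib.OX.isPerfect_of_iso h eW.symm
    have hGq : DCoh.IsQCohD (DCoh.toD Y G) := GrothLib.KSix19.BettiExact.isQCohD_of_iso' eGω.symm
      (GrothLib.RightAdj22.isQCohD_ltensor W (GrothLib.OX.isQCohD_of_isPerfect hWp) hωq)
    obtain ⟨e₁⟩ := GrothLib.FMK22.nonempty_rGamma_psi_qcoh a b P hP F hF G hG hGq
    let T := ((DCoh.tensorCx (X := Y)).obj W).obj K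
    have hT : DCoh.IsKFlat T := GrothLib.OX.isKFlat_tensor hW hKf
    haveI := GrothLib.OX.hasLTensorCx T
    haveI := GrothLib.OX.hasRSheafHom T
    obtain ⟨vT⟩ := GrothLib.OX.ltensorCx_value K W hW
    have hTp : DCoh.IsPerfect (DCoh.toD Y T) :=
      GrothLib.OX.isPerfect_of_iso (GrothLib.OX.isPerfect_ltensor K hKf hKp hWp) vT
    obtain ⟨A, hA, _, _, hAp, ⟨iT⟩, ⟨iA⟩⟩ := GrothLib.RightAdj20.exists_dual_pair T hT hTp
    obtain ⟨sK⟩ := GrothLib.KSix19.nonempty_ltensor_symm (K₁ := G) (K₂ := K) (Iso.refl (DCoh.toD Y G))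
      (Iso.refl (DCoh.toD Y K))
    have hj : IsZero ((DerivedCategory.homologyFunctor AddCommGrpCat.{u} ((g : ℤ) - i)).obj
        ((DCoh.RΓ Y).obj ((DCoh.LTensorCx T).obj ω))) := by
      refine (hn₀ n (Nat.le_add_right _ _) ((g : ℤ) - i) (by omega)).of_iso
        ((DerivedCategory.homologyFunctor _ _).mapIso ?_)
      exact (DCoh.RΓ Y).mapIso (((GrothLib.OX.ltensorCompIso W K hKf).app ω).symm ≪≫
          (DCoh.LTensorCx K).mapIso eGω.symm ≪≫ sK ≪≫ (DCoh.LTensorCx G).mapIso eK) ≪≫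
        e₁.symm ≪≫ (DCoh.RΓ X).mapIso ((DCoh.LTensorCx F).mapIso
          ((DCoh.Lpull (pullback.snd a b) ⋙ DCoh.LTensorCx P ⋙ DCoh.Rpush (pullback.fst a b)).mapIso eG))
    have hA0 := GrothLib.FMK22.isZero_rGamma_of_dual b hYcm g hYeq hb adj O hO A T hA hAp iT i ((g : ℤ) - i)
      (by omega) hj
    obtain ⟨cT⟩ := GrothLib.FMK22.nonempty_RSheafHom_tensor W K hKf
    obtain ⟨D', hD', _, _, -, -, ⟨iW⟩⟩ := GrothLib.RightAdj20.exists_dual_pair W hW hWp
    obtain ⟨dW⟩ := GrothLib.FMK22.nonempty_dual_invertible hN hN' eNN W hW eW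
    obtain ⟨tD⟩ := GrothLib.OX.nonempty_tensor_dual_iso W D' hW hWp iW C
    haveI := GrothLib.OX.hasLTensorCx ((HomologicalComplex.single Y.Modules (ComplexShape.up ℤ) 0).obj (CohB1.tensorPow L n))
    obtain ⟨t⟩ := GrothLib.FMInv15.nonempty_ltensorCx_single hN
    obtain ⟨cD⟩ := GrothLib.OX.nonempty_ltensorCx_congr_of_iso (iW ≪≫ dW ≪≫ (GrothLib.FMInv15.singleQIso _).symm :
      DerivedCategory.Q.obj D' ≅ DerivedCategory.Q.obj
        ((HomologicalComplex.single Y.Modules (ComplexShape.up ℤ) 0).obj (CohB1.tensorPow L n)))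
    exact hA0.of_iso ((DerivedCategory.homologyFunctor _ i).mapIso ((DCoh.RΓ Y).mapIso
      ((cD ≪≫ t).symm.app C ≪≫ tD ≪≫ cT.symm.app OY ≪≫ iA.symm)))
  obtain ⟨D, -, _, _, hDp, ⟨iK⟩, ⟨iD⟩⟩ := GrothLib.RightAdj20.exists_dual_pair K hKf hKp
  have hD : ∀ l : ℤ, l < -(k' : ℤ) ∨ 0 < l → IsZero (DCoh.HD (DCoh.toD Y D) l) := fun l hl =>
    (hC l hl).of_iso ((DerivedCategory.homologyFunctor _ l).mapIso iD)
  refine ⟨fun i hi => ?_, fun i y hy => ?_⟩
  · haveI : OY.IsGE 0 := inferInstanceAs ((DCoh.inD Y (Coh.structureModule Y)).IsGE 0)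
    exact (GrothLib.OX.isZero_HD_RSheafHom_of_lt D (c := 0)
      (fun l hl => (hD l (Or.inr hl)).of_iso ((DerivedCategory.homologyFunctorFactors Y.Modules l).app D).symm)
      OY 0 i (by omega)).of_iso ((DerivedCategory.homologyFunctor _ i).mapIso (eK.symm ≪≫ iK))
  · by_contra hcon
    obtain ⟨δ, hδ⟩ : ∃ δ : ℕ, ringKrullDim ↑(Y.presheaf.stalk y) = δ := by
      obtain ⟨x, hx⟩ := WithBot.ne_bot_iff_exists.1 (ringKrullDim_ne_bot (R := ↑(Y.presheaf.stalk y)))
      obtain ⟨δ, hδ⟩ := ENat.ne_top_iff_exists.1 (show x ≠ ⊤ from fun h => by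
        refine hcon ?_
        rw [← hx, h]
        exact WithBot.coe_le_coe.2 le_top)
      exact ⟨δ, by rw [← hx, ← hδ]; rfl⟩
    rw [hδ, Nat.cast_le, not_le] at hcon
    have hsupp : ∀ l : ℤ, l < -(k' : ℤ) → y ∉ CohB1.support (DCoh.HD (DCoh.toD Y D) l) := fun l hl hs =>
      hs (AddCommGrpCat.subsingleton_of_isZero ((Scheme.Modules.toPresheaf _ ⋙
        TopCat.Presheaf.stalkFunctor AddCommGrpCat.{u} (X := Y.toTopCat) y).map_isZero (hD l (Or.inl hl))))
    obtain ⟨U, j, _, ⟨u, rfl⟩, R, c, hf, hbd, ⟨eR⟩⟩ := GrothLib.FMK22.exists_free_ge_of_dim _ hDp y _ δ hδ.le 0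
      (Nat.zero_le _) hsupp (fun _ _ _ _ _ _ _ _ d' _ => Nat.zero_le d')
    refine GrothLib.FMK22.notMem_support_dual D j u R hf _ c hbd eR (i : ℤ) (by omega) ?_
    exact GrothLib.FMK22.mem_support_of_iso ((DerivedCategory.homologyFunctor _ (i : ℤ)).mapIso (eK.symm ≪≫ iK)) hy

end Groth.Agent.S16380
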