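import Groth.Statements.S16382
import Groth.Agent.Lib.FMK22.Fibre
import Groth.Agent.Lib.DiagGrp.TrivOver

set_option autoImplicit false
universe u
open CategoryTheory CategoryTheory.Limits AlgebraicGeometry
attribute [local instance] HasDerivedCategory.standard
open FMK

namespace Groth.Agent.S16382

/-- Let k be an algebraically closed field, X a proper scheme over k and Y a scheme locally of finite
type over k (structure morphisms a and b), P a cochain complex of modules on X ×_k Y defining a
perfect object and F a cochain complex of O_X-modules defining a perfect object. Write Φ_P(F) =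
Rpr_{Y,*}(Lpr_X^*F ⊗^L P), R^iΦ_P(F) = H^i(Φ_P(F)), and for a point y of Y with residue field κ(y)
let X_y = (X ×_k Y) ×_Y Spec κ(y) with first projection j_y : X_y → X ×_k Y, P restricted to the
fibre being Lj_y^*; the i-th cohomological support locus of F is V^i = {y ∈ Y : H^i(X_y,
Lj_y^*(Lpr_X^*F ⊗^L P)) ≠ 0} (hypercohomology on X_y); the derived functors involved are assumed to
exist. Let k' ≥ 0. Then the following are equivalent: (1') for every i ≥ 0 the support of R^iΦ_P(F)
has codimension ≥ i − k' (the local ring of Y at each of its points has Krull dimension ≥ i − k');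
(2) for every i ≥ 0 the locus V^i has codimension ≥ i − k' in the same pointwise sense. (The
published statement has the GV_{k'} condition in (1), which also asks R^iΦ_P(F) = 0 for i < 0; that
extra clause is not implied by (2) for complexes — over X = Y = Spec k with P = k and F = k[1]
condition (2) holds while R^{−1} ≠ 0 — and the published proof only treats the codimension clauses,
which are equivalent as stated here; for F and P sheaves the extra clause is automatic.) -/
theorem result (k : Type u) [Field k] [IsAlgClosed k]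
    (X Y : Scheme.{u}) (a : X ⟶ Spec (CommRingCat.of k)) (b : Y ⟶ Spec (CommRingCat.of k)) [IsProper a] [LocallyOfFiniteType b]
    (P : CochainComplex (pullback a b).Modules ℤ) (hP : DCoh.IsPerfect (DCoh.toD (pullback a b) P))
    [DCoh.HasLpull (pullback.fst a b)] [DCoh.HasLTensorCx P] [DCoh.HasRpush (pullback.snd a b)]
    [∀ y : ↥Y, DCoh.HasLpull (pullback.fst (pullback.snd a b) (Y.fromSpecResidueField y))]
    [∀ y : ↥Y, DCoh.HasRΓ (pullback (pullback.snd a b) (Y.fromSpecResidueField y))]
    (F : CochainComplex X.Modules ℤ) (hF : DCoh.IsPerfect (DCoh.toD X F)) (k' : ℕ) :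
    (∀ (i : ℕ) (y : ↥Y), y ∈ CohB1.support (DCoh.HD ((FMK.phi a b P).obj (DCoh.toD X F)) (i : ℤ)) →
      ((i - k' : ℕ) : WithBot ℕ∞) ≤ ringKrullDim ↑(Y.presheaf.stalk y)) ↔
    (∀ (i : ℕ) (y : ↥Y), ¬ IsZero ((DerivedCategory.homologyFunctor AddCommGrpCat.{u} (i : ℤ)).obj
        ((DCoh.RΓ (pullback (pullback.snd a b) (Y.fromSpecResidueField y))).obj ((DCoh.Lpull (pullback.fst (pullback.snd a b) (Y.fromSpecResidueField y))).obj
          ((DCoh.LTensorCx P).obj ((DCoh.Lpull (pullback.fst a b)).obj (DCoh.toD X F)))))) →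
      ((i - k' : ℕ) : WithBot ℕ∞) ≤ ringKrullDim ↑(Y.presheaf.stalk y)) := by
  haveI : IsLocallyNoetherian Y := LocallyOfFiniteType.isLocallyNoetherian b
  haveI : Flat a := GrothLib.DiagGrp.flat_of_field a
  haveI : Flat (pullback.snd a b) := MorphismProperty.pullback_snd (P := @Flat) a b inferInstance
  let q := pullback.snd a b
  let M := (DCoh.LTensorCx P).obj ((DCoh.Lpull (pullback.fst a b)).obj (DCoh.toD X F))
  have hM : DCoh.IsPerfect M := GrothLib.FMK22.isPerfect_kernel (pullback.fst a b) P hP hF
  obtain ⟨hc, hb⟩ := GrothLib.FMK22.exists_local_bound q hM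
  let K := (DCoh.Rpush q).obj M
  haveI : ∀ y : ↥Y, DCoh.HasLpull (Y.fromSpecResidueField y) := fun y => GrothLib.OX.hasLpull _
  have hiff : ∀ (i : ℕ) (y : ↥Y), IsZero ((DerivedCategory.homologyFunctor AddCommGrpCat.{u} (i : ℤ)).obj
      ((DCoh.RΓ (pullback q (Y.fromSpecResidueField y))).obj
        ((DCoh.Lpull (pullback.fst q (Y.fromSpecResidueField y))).obj M))) ↔
      IsZero (DCoh.HD ((DCoh.Lpull (Y.fromSpecResidueField y)).obj K) (i : ℤ)) := fun i y =>
    GrothLib.FMK22.isZero_fibre_rGamma_iff q y M (GrothLib.OX.isQCohD_of_isPerfect hM) (i : ℤ)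
  constructor
  · intro h i y hy
    by_contra hlt
    obtain ⟨V, t, hyV, ht⟩ := hb y
    haveI := ht
    have hsupp : ∀ l : ℤ, (i : ℤ) - 1 < l → y ∉ CohB1.support (DCoh.HD K l) := fun l hl hs => by
      obtain ⟨n, rfl⟩ := Int.eq_ofNat_of_zero_le (show (0 : ℤ) ≤ l by omega)
      refine hlt (le_trans ?_ (h n y hs))
      exact_mod_cast Nat.sub_le_sub_right (show i ≤ n by omega) k'
    obtain ⟨W, hyW, hW⟩ := GrothLib.FMK22.exists_nbhd_isLE K hc y V hyV t ((i : ℤ) - 1) hsupp
    haveI := hW
    exact hy ((hiff i y).2 ((GrothLib.FMK22.isZero_HD_fibre_of_isLE K hc y W hyW ((i : ℤ) - 1)).1 i (by omega)))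
  · intro h i y hy
    obtain ⟨V, t, hyV, ht⟩ := hb y
    haveI := ht
    classical
    let m := Nat.findGreatest (fun j => y ∈ CohB1.support (DCoh.HD K (j : ℤ))) (max t i).toNat
    have hile : i ≤ (max t i).toNat := by
      have := le_max_right t (i : ℤ); omega
    have hm : y ∈ CohB1.support (DCoh.HD K (m : ℤ)) :=
      Nat.findGreatest_spec (P := fun j => y ∈ CohB1.support (DCoh.HD K (j : ℤ))) hile hy
    have him : i ≤ m := Nat.le_findGreatest hile hy
    have hmax : ∀ l : ℤ, (m : ℤ) < l → y ∉ CohB1.support (DCoh.HD K l) := fun l hl hs => by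
      obtain ⟨n, rfl⟩ := Int.eq_ofNat_of_zero_le (show (0 : ℤ) ≤ l by omega)
      by_cases hn : n ≤ (max t i).toNat
      · exact Nat.findGreatest_is_greatest (P := fun j => y ∈ CohB1.support (DCoh.HD K (j : ℤ)))
          (show m < n by omega) hn hs
      · exact GrothLib.FMK22.not_mem_support_of_isLE K V hyV t n (by
          have := le_max_left t (i : ℤ); omega) hs
    obtain ⟨W, hyW, hW⟩ := GrothLib.FMK22.exists_nbhd_isLE K hc y V hyV t (m : ℤ) hmax
    haveI := hW
    have hne := (GrothLib.FMK22.isZero_HD_fibre_of_isLE K hc y W hyW (m : ℤ)).2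
    refine le_trans ?_ (h m y fun hz => hne ((hiff m y).1 hz) hm)
    exact_mod_cast Nat.sub_le_sub_right him k'

end Groth.Agent.S16382
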