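import Groth.Statements.S16383
import Groth.Agent.Lib.FMK22.GorDual
import Groth.Agent.Lib.FMK22.Fibre
import Groth.Agent.Lib.FMK22.Phi
import Groth.Agent.Lib.AlgSp.FieldBase

set_option autoImplicit false
universe u
open CategoryTheory CategoryTheory.Limits AlgebraicGeometry
attribute [local instance] HasDerivedCategory.standard
open FMK

namespace Groth.Agent.S16383

/-- Let k be an algebraically closed field, X a proper scheme over k all of whose local rings are
Cohen–Macaulay, equidimensional of dimension d, and Y a proper scheme over k all of whose local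
rings are Gorenstein (structure morphisms a and b). Let P be a finite locally free module on X ×_k
Y, viewed as a kernel in degree 0, and F a coherent O_X-module which is perfect as an object of
D(O_X). Write Φ_P(F) = Rpr_{Y,*}(Lpr_X^*F ⊗^L P), R^iΦ_P(F) = H^i(Φ_P(F)), and for a point y of Y
let X_y = (X ×_k Y) ×_Y Spec κ(y) with first projection j_y, and V^i = {y ∈ Y : H^i(X_y,
Lj_y^*(Lpr_X^*F ⊗^L P)) ≠ 0} the i-th cohomological support locus (hypercohomology on X_y; the
derived functors involved are assumed to exist). Let k' ≥ 0 and suppose F is a GV_{k'}-sheaf with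
respect to P: for every i ≥ 0 the support of R^iΦ_P(F) has codimension ≥ i − k' (the local ring of Y
at each of its points has Krull dimension ≥ i − k'). Then V^{i+1} ⊆ V^i for every i ≥ k', so that
V^d ⊆ ⋯ ⊆ V^{k'+1} ⊆ V^{k'}. -/
theorem result (k : Type u) [Field k] [IsAlgClosed k]
    (X Y : Scheme.{u}) (a : X ⟶ Spec (CommRingCat.of k)) (b : Y ⟶ Spec (CommRingCat.of k)) [IsProper a] [IsProper b]
    (hXcm : ∀ x : ↥X, LocCoh.IsCohenMacaulayLocalRing ↑(X.presheaf.stalk x))
    (hYgor : ∀ y : ↥Y, LocCoh.IsGorensteinLocalRing ↑(Y.presheaf.stalk y))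
    (d : ℕ) (hd : topologicalKrullDim ↥X = (d : WithBot ℕ∞))
    (hXeq : ∀ Z ∈ irreducibleComponents ↥X, topologicalKrullDim ↥Z = (d : WithBot ℕ∞))
    (P₀ : (pullback a b).Modules) (hP₀ : FlatMod.IsFinLocFree P₀)
    [DCoh.HasLpull (pullback.fst a b)]
    [DCoh.HasLTensorCx ((HomologicalComplex.single (pullback a b).Modules (ComplexShape.up ℤ) 0).obj P₀)]
    [DCoh.HasRpush (pullback.snd a b)]
    [∀ y : ↥Y, DCoh.HasLpull (pullback.fst (pullback.snd a b) (Y.fromSpecResidueField y))]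
    [∀ y : ↥Y, DCoh.HasRΓ (pullback (pullback.snd a b) (Y.fromSpecResidueField y))]
    (F : X.Modules) (hFc : Coh.IsCoh F) (hF : DCoh.IsPerfect (DCoh.inD X F)) (k' : ℕ)
    (hGV : ∀ (i : ℕ) (y : ↥Y), y ∈ CohB1.support (DCoh.HD ((FMK.phi a b
        ((HomologicalComplex.single (pullback a b).Modules (ComplexShape.up ℤ) 0).obj P₀)).obj (DCoh.inD X F)) (i : ℤ)) →
      ((i - k' : ℕ) : WithBot ℕ∞) ≤ ringKrullDim ↑(Y.presheaf.stalk y))
    (i : ℕ) (hi : k' ≤ i) (y : ↥Y)
    (hy : ¬ IsZero ((DerivedCategory.homologyFunctor AddCommGrpCat.{u} ((i : ℤ) + 1)).obj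
        ((DCoh.RΓ (pullback (pullback.snd a b) (Y.fromSpecResidueField y))).obj ((DCoh.Lpull (pullback.fst (pullback.snd a b) (Y.fromSpecResidueField y))).obj
          ((DCoh.LTensorCx ((HomologicalComplex.single (pullback a b).Modules (ComplexShape.up ℤ) 0).obj P₀)).obj
            ((DCoh.Lpull (pullback.fst a b)).obj (DCoh.inD X F))))))) :
    ¬ IsZero ((DerivedCategory.homologyFunctor AddCommGrpCat.{u} (i : ℤ)).obj
        ((DCoh.RΓ (pullback (pullback.snd a b) (Y.fromSpecResidueField y))).obj ((DCoh.Lpull (pullback.fst (pullback.snd a b) (Y.fromSpecResidueField y))).obj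
          ((DCoh.LTensorCx ((HomologicalComplex.single (pullback a b).Modules (ComplexShape.up ℤ) 0).obj P₀)).obj
            ((DCoh.Lpull (pullback.fst a b)).obj (DCoh.inD X F)))))) := by
  haveI : IsNoetherian (Spec (CommRingCat.of k)) := inferInstance
  haveI : IsNoetherian Y := GrothLib.RightAdj22.isNoetherian_of_proper b
  haveI : Flat a := GrothLib.AlgSp.flat_to_field a
  haveI : Flat (pullback.snd a b) := inferInstance
  let q := pullback.snd a b
  let S := (HomologicalComplex.single (pullback a b).Modules (ComplexShape.up ℤ) 0).obj P₀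
  have hSp : DCoh.IsPerfect (DCoh.toD (pullback a b) S) := GrothLib.OX.isPerfect_single_of_finLocFree hP₀
  obtain ⟨hKc, -⟩ := GrothLib.FMK22.exists_phi_bounds k a b S hSp (DCoh.inD X F) hF
  let M := (DCoh.LTensorCx S).obj ((DCoh.Lpull (pullback.fst a b)).obj (DCoh.inD X F))
  have hM : DCoh.IsPerfect M := GrothLib.FMK22.isPerfect_kernel (pullback.fst a b) S hSp hF
  obtain ⟨l₀, hl₀⟩ := GrothLib.KSix19.ProjPush.exists_isGE_of_isPerfect hM
  have hΦ : DCoh.IsPerfect ((FMK.phi a b S).obj (DCoh.inD X F)) :=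
    @GrothLib.KSix19.RelNoeth.isPerfect_Rpush _ _ _ q _ (GrothLib.ShriekPerf22.isPerfectMor_of_flat q) _ M l₀ hl₀ hM
  obtain ⟨K, hK, ⟨eK⟩⟩ := GrothLib.OX.exists_kflat_rep ((FMK.phi a b S).obj (DCoh.inD X F))
  haveI := GrothLib.OX.hasLTensorCx K
  haveI := GrothLib.OX.hasRSheafHom K
  have hKp : DCoh.IsPerfect (DCoh.toD Y K) := GrothLib.OX.isPerfect_of_iso hΦ eK.symm
  have hKc' : DCoh.IsCohD (DCoh.toD Y K) := fun l =>
    GrothLib.QCoh.isCoh_of_iso ((DerivedCategory.homologyFunctor _ l).mapIso eK.symm) (hKc l)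
  obtain ⟨D, hD, _, _, hDp, ⟨iK⟩, ⟨iD⟩⟩ := GrothLib.RightAdj20.exists_dual_pair K hK hKp
  let f := Y.fromSpecResidueField y
  haveI := GrothLib.OX.hasLpull f
  haveI : DCoh.HasRpush f := GrothLib.KInj.hasRightDerivedFunctor _
  let K' := (GrothLib.OX.pullCxF f).obj K
  have hK' : DCoh.IsKFlat K' := GrothLib.OX.isKFlat_pullback f hK
  have hK'p : DCoh.IsPerfect (DerivedCategory.Q.obj K') := GrothLib.RightAdj22.isPerfect_pull f hK hKp
  haveI := GrothLib.OX.hasLTensorCx K'
  haveI := GrothLib.OX.hasRSheafHom K'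
  obtain ⟨D', hD', _, _, hD'p, ⟨i'⟩, ⟨iD'⟩⟩ := GrothLib.RightAdj20.exists_dual_pair K' hK' hK'p
  obtain ⟨dd⟩ := GrothLib.RightAdj20.nonempty_lpull_dual f hD hDp hK hKp iK hD' hD'p i'
  obtain ⟨vK⟩ := GrothLib.OX.lpull_value f K hK
  have hiff : ∀ n : ℤ, IsZero ((DerivedCategory.homologyFunctor AddCommGrpCat.{u} n).obj
      ((DCoh.RΓ (pullback q f)).obj ((DCoh.Lpull (pullback.fst q f)).obj M))) ↔
      IsZero (DCoh.HD (DerivedCategory.Q.obj K') n) := fun n =>
    (GrothLib.FMK22.isZero_fibre_rGamma_iff q y M (GrothLib.OX.isQCohD_of_isPerfect hM) n).trans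
      (Iso.isZero_iff ((DerivedCategory.homologyFunctor _ n).mapIso ((DCoh.Lpull f).mapIso eK.symm ≪≫ vK)))
  intro hz
  refine hy ((hiff _).2 ?_)
  have h1 : IsZero (DCoh.HD (DerivedCategory.Q.obj D') (-(i : ℤ))) :=
    (GrothLib.FMK22.isZero_HD_dual_spec_field (k := Y.residueField y) K' hK'p (i : ℤ) (-(i : ℤ)) (by omega)
      ((hiff _).1 hz)).of_iso ((DerivedCategory.homologyFunctor _ _).mapIso iD')
  have hD0 := GrothLib.FMK22.isZero_HD_dual_lt_gorenstein (GrothLib.FMK22.isDualizingSch_structure b hYgor) K hKp hKc' k'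
    (fun l x hx => hGV l x (GrothLib.FMK22.mem_support_of_iso ((DerivedCategory.homologyFunctor _ (l : ℤ)).mapIso eK) hx))
  have h2 := GrothLib.FMK22.isZero_fibre_of_lt (DCoh.toD Y D) hDp y (-(i : ℤ))
    (fun l hl hs => hs (AddCommGrpCat.subsingleton_of_isZero
      ((Scheme.Modules.toPresheaf _ ⋙ TopCat.Presheaf.stalkFunctor AddCommGrpCat.{u} (X := Y.toTopCat) y).map_isZero
        ((hD0 l (by omega)).of_iso ((DerivedCategory.homologyFunctor _ l).mapIso iD)))))
    (h1.of_iso ((DerivedCategory.homologyFunctor _ _).mapIso dd)) (-((i : ℤ) + 1)) (by omega)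
  exact (GrothLib.FMK22.isZero_HD_dual_spec_field (k := Y.residueField y) D' hD'p (-((i : ℤ) + 1)) ((i : ℤ) + 1) (by omega)
    (h2.of_iso ((DerivedCategory.homologyFunctor _ _).mapIso dd.symm))).of_iso
      ((DerivedCategory.homologyFunctor _ _).mapIso i')

end Groth.Agent.S16383
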