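import Groth.Statements.S16384
import Groth.Agent.Lib.FMK22.TwistDual
import Groth.Agent.Lib.OX.HomAmplitude

set_option autoImplicit false
universe u
open CategoryTheory CategoryTheory.Limits AlgebraicGeometry
attribute [local instance] HasDerivedCategory.standard
open FMK

namespace Groth.Agent.S16384

/-- For a sheaf F and a locally free kernel P, let k be an algebraically closed field, X and Y proper
schemes over k with structure morphisms a and b, all of whose local rings are Cohen–Macaulay, X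
equidimensional of dimension d and Y equidimensional of dimension g. Let Ra_* and Rb_* on D_QCoh
have right adjoints a^× and b^× (given as data with their adjunctions), O an object of D_QCoh(Spec
k) isomorphic to the structure sheaf in degree 0, and ω_X = H^{−d}(a^×O), ω_Y = H^{−g}(b^×O) the
dualizing modules; write RΔ(F) = RHom(F, ω_X). Let P be a finite locally free module on X ×_k Y, P^∨
= Hom(P, O) its dual (the sheaf Hom as right adjoint of P ⊗ −) and Q = P^∨ ⊗ pr_Y^*ω_Y, both used as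
kernels in degree 0; for a kernel K write Φ_K = Rpr_{Y,*}(Lpr_X^*(−) ⊗^L K) and R^iΦ_K = H^i ∘ Φ_K,
the derived functors involved being assumed to exist. Let k' ≥ 0 and F a coherent O_X-module,
perfect as an object of D(O_X), which is a GV_{k'}-sheaf with respect to P: for every i ≥ 0 the
support of R^iΦ_P(F) has codimension ≥ i − k' (the local ring of Y at each of its points has Krull
dimension ≥ i − k'). Then RΔ(F) satisfies WIT_[d−k',d] with respect to Q: R^iΦ_Q(RΔ F) = 0 for every
integer i outside [d − k', d]. (The published statement is for an arbitrary object F of D(X) and an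
arbitrary kernel P; in that generality the vanishing above degree d fails — for F = O_X[1] on an
abelian variety of dimension d ≥ 1 with the Poincaré kernel, F is GV_0 while Φ_Q(RΔF) is a
skyscraper in degree d + 1 — so the row keeps F a sheaf and P locally free, the case of the
applications.) -/
theorem result (k : Type u) [Field k] [IsAlgClosed k]
    (X Y : Scheme.{u}) (a : X ⟶ Spec (CommRingCat.of k)) (b : Y ⟶ Spec (CommRingCat.of k)) [IsProper a] [IsProper b]
    (hXcm : ∀ x : ↥X, LocCoh.IsCohenMacaulayLocalRing ↑(X.presheaf.stalk x))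
    (hYcm : ∀ y : ↥Y, LocCoh.IsCohenMacaulayLocalRing ↑(Y.presheaf.stalk y))
    (d : ℕ) (hd : topologicalKrullDim ↥X = (d : WithBot ℕ∞))
    (hXeq : ∀ Z ∈ irreducibleComponents ↥X, topologicalKrullDim ↥Z = (d : WithBot ℕ∞))
    (g : ℕ) (hg : topologicalKrullDim ↥Y = (g : WithBot ℕ∞))
    (hYeq : ∀ Z ∈ irreducibleComponents ↥Y, topologicalKrullDim ↥Z = (g : WithBot ℕ∞))
    [DCoh.HasRpush a] (ha : DCoh.RpushPreservesQCoh a)
    (adx : DCoh.DQCoh (Spec (CommRingCat.of k)) ⥤ DCoh.DQCoh X) (adja : DCoh.RpushQ a ha ⊣ adx)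
    [DCoh.HasRpush b] (hb : DCoh.RpushPreservesQCoh b)
    (bdx : DCoh.DQCoh (Spec (CommRingCat.of k)) ⥤ DCoh.DQCoh Y) (adjb : DCoh.RpushQ b hb ⊣ bdx)
    (O : DCoh.DQCoh (Spec (CommRingCat.of k)))
    (hO : Nonempty (O.obj ≅ DCoh.inD (Spec (CommRingCat.of k)) (Coh.structureModule (Spec (CommRingCat.of k)))))
    (P₀ : (pullback a b).Modules) (hP₀ : FlatMod.IsFinLocFree P₀) [DCoh.HasSheafHom P₀]
    [DCoh.HasLpull (pullback.fst a b)] [DCoh.HasRpush (pullback.snd a b)]
    [DCoh.HasLTensorCx ((HomologicalComplex.single (pullback a b).Modules (ComplexShape.up ℤ) 0).obj P₀)]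
    [DCoh.HasLTensorCx ((HomologicalComplex.single (pullback a b).Modules (ComplexShape.up ℤ) 0).obj (CohB1.tensorMod ((DCoh.sheafHom P₀).obj (Coh.structureModule (pullback a b))) ((Scheme.Modules.pullback (pullback.snd a b)).obj (DCoh.HD (bdx.obj O).obj (-(g : ℤ))))))]
    (F : X.Modules) (hFc : Coh.IsCoh F) (hF : DCoh.IsPerfect (DCoh.inD X F))
    [DCoh.HasLTensorCx ((HomologicalComplex.single X.Modules (ComplexShape.up ℤ) 0).obj F)] [DCoh.HasRSheafHom ((HomologicalComplex.single X.Modules (ComplexShape.up ℤ) 0).obj F)]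
    (k' : ℕ)
    (hGV : ∀ (i : ℕ) (y : ↥Y), y ∈ CohB1.support (DCoh.HD ((FMK.phi a b ((HomologicalComplex.single (pullback a b).Modules (ComplexShape.up ℤ) 0).obj P₀)).obj (DCoh.inD X F)) (i : ℤ)) →
      ((i - k' : ℕ) : WithBot ℕ∞) ≤ ringKrullDim ↑(Y.presheaf.stalk y))
    (i : ℤ) (hi : i < (d : ℤ) - k' ∨ (d : ℤ) < i) :
    IsZero (DCoh.HD ((FMK.phi a b ((HomologicalComplex.single (pullback a b).Modules (ComplexShape.up ℤ) 0).obj (CohB1.tensorMod ((DCoh.sheafHom P₀).obj (Coh.structureModule (pullback a b))) ((Scheme.Modules.pullback (pullback.snd a b)).obj (DCoh.HD (bdx.obj O).obj (-(g : ℤ))))))).obj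
      ((DCoh.RSheafHom ((HomologicalComplex.single X.Modules (ComplexShape.up ℤ) 0).obj F)).obj (DCoh.inD X (DCoh.HD (adx.obj O).obj (-(d : ℤ)))))) i) := by
  haveI : IsNoetherian (Spec (CommRingCat.of k)) := inferInstance
  haveI : IsNoetherian Y := GrothLib.RightAdj22.isNoetherian_of_proper b
  let S := (HomologicalComplex.single (pullback a b).Modules (ComplexShape.up ℤ) 0).obj P₀
  have hSp : DCoh.IsPerfect (DCoh.toD (pullback a b) S) := GrothLib.OX.isPerfect_single_of_finLocFree hP₀
  obtain ⟨hKc, -, hb', -, hhb⟩ := GrothLib.FMK22.exists_phi_bounds k a b S hSp (DCoh.inD X F) hF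
  obtain ⟨K, hK, ⟨eK⟩⟩ := GrothLib.OX.exists_kflat_rep ((FMK.phi a b S).obj (DCoh.inD X F))
  haveI := GrothLib.OX.hasLTensorCx K
  haveI := GrothLib.OX.hasRSheafHom K
  let M₀ := (DCoh.LTensorCx S).obj ((DCoh.Lpull (pullback.fst a b)).obj (DCoh.inD X F))
  have hM₀ : DCoh.IsPerfect M₀ := GrothLib.FMK22.isPerfect_kernel (pullback.fst a b) S hSp hF
  obtain ⟨l₀, hl₀⟩ := GrothLib.KSix19.ProjPush.exists_isGE_of_isPerfect hM₀
  haveI : Flat a := GrothLib.AlgSp.flat_to_field a
  haveI : Flat (pullback.snd a b) := inferInstance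
  have hΦ : DCoh.IsPerfect ((FMK.phi a b S).obj (DCoh.inD X F)) :=
    @GrothLib.KSix19.RelNoeth.isPerfect_Rpush _ _ _ (pullback.snd a b) _
      (GrothLib.ShriekPerf22.isPerfectMor_of_flat (pullback.snd a b)) _ M₀ l₀ hl₀ hM₀
  have hKp : DCoh.IsPerfect (DCoh.toD Y K) := GrothLib.OX.isPerfect_of_iso hΦ eK.symm
  have hKc' : DCoh.IsCohD (DCoh.toD Y K) := fun l =>
    GrothLib.QCoh.isCoh_of_iso ((DerivedCategory.homologyFunctor _ l).mapIso eK.symm) (hKc l)
  let N := DCoh.HD (bdx.obj O).obj (-(g : ℤ))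
  obtain ⟨W, hW, ⟨eW⟩⟩ := GrothLib.OX.exists_kflat_rep (DCoh.inD Y N)
  haveI := GrothLib.OX.hasLTensorCx W
  obtain ⟨⟨c₁⟩, ⟨c₂⟩⟩ := GrothLib.FMK22.nonempty_phi_twisted_dual a b hXcm d hXeq ha adja O hO P₀ hP₀ N
    ((bdx.obj O).property _) F hF K hK eK W hW eW
  refine IsZero.of_iso ?_ ((((DerivedCategory.homologyFunctor Y.Modules 0).shiftIso (d : ℤ) (i - d) i
    (by omega)).app _).symm ≪≫ (DerivedCategory.homologyFunctor _ (i - d)).mapIso c₂.symm)
  rcases hi with hi | hi
  · exact GrothLib.FMK22.isZero_HD_dual_lt b hYcm g hg hYeq hb adjb O hO K hK hKp hKc' k'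
      (fun l y hy => hGV l y (GrothLib.FMK22.mem_support_of_iso ((DerivedCategory.homologyFunctor _ (l : ℤ)).mapIso eK) hy))
      (i - d) (by omega)
  · let C := (DCoh.RSheafHom K).obj (DCoh.inD Y (Coh.structureModule Y))
    haveI : C.IsLE 0 := (DerivedCategory.isLE_iff _ _).2 fun l hl =>
      GrothLib.OX.isZero_of_subsingleton_stalks _ fun y => by
        by_contra hy
        haveI := GrothLib.OX.hasLpull (Y.fromSpecResidueField y)
        obtain ⟨U, j, _, ⟨u, rfl⟩, P, c, hf, hb, ⟨e⟩⟩ := GrothLib.FMK22.exists_free_ge_zero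
          (DCoh.toD Y K) hKp y (fun n hn =>
            (GrothLib.FMK22.isZero_fibre_phi_lt a b P₀ hP₀ F hF y n hn).of_iso
              ((DerivedCategory.homologyFunctor _ n).mapIso ((DCoh.Lpull (Y.fromSpecResidueField y)).mapIso eK)))
        exact GrothLib.FMK22.notMem_support_dual K j u P hf 0 c hb e l (by omega) hy
    haveI : (DCoh.inD Y N).IsLE 0 := inferInstanceAs (((DerivedCategory.singleFunctor Y.Modules 0).obj N).IsLE 0)
    haveI := GrothLib.OX.isLE_ltensorCx W (c := 0) (fun l hl =>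
      (DerivedCategory.isZero_of_isLE (DCoh.inD Y N) 0 l hl).of_iso
        (((DerivedCategory.homologyFunctorFactors Y.Modules l).app W).symm ≪≫
          (DerivedCategory.homologyFunctor _ l).mapIso eW)) C 0
    exact (DerivedCategory.isZero_of_isLE ((DCoh.LTensorCx W).obj C) (0 + 0) (i - d) (by omega)).of_iso
      ((DerivedCategory.homologyFunctor _ (i - d)).mapIso c₁)

end Groth.Agent.S16384
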