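import Groth.Statements.S16386
-- import your own Groth.Agent.* helpers here
import Groth.Agent.Lib.AVCat.Basic

set_option autoImplicit false
universe u
open CategoryTheory MonoidalCategory CartesianMonoidalCategory MonObj GrpObj AlgebraicGeometry
open AbVar

namespace Groth.Agent.S16386

/-- (c₁) ⇒ (a₁): let k be a finite field with q elements and fix a polynomial P with integer
coefficients. Work with abelian varieties over k (proper, geometrically integral commutative group
schemes over k) together with their q-Frobenius endomorphism π (the identity on points and the q-th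
power map on sections; a homomorphism) such that P(π) = 0 in the endomorphism ring; for P the
product of the minimal polynomials of a finite set w of Weil q-numbers these are exactly the abelian
varieties with Weil support in w. Let A be such an abelian variety and suppose that every such Z
admits finitely many homomorphisms ψ_1, …, ψ_n : Z → A which are jointly monomorphic (two T-valued
points of Z over k with the same image under every ψ_i are equal; equivalently (ψ_i) : Z → A^n is an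
injective homomorphism). Then the functor X ↦ Hom(X, A), with values in left End(A)-modules (End(A)
acting by postcomposition), is fully faithful on these abelian varieties: for such X and Y, two
homomorphisms f, g : X → Y inducing the same map Hom(Y, A) → Hom(X, A) are equal, and every additive
End(A)-linear map Hom(Y, A) → Hom(X, A) is precomposition with some homomorphism X → Y. -/
theorem result (k : Type u) [Field k] [Finite k]
    (P : Polynomial ℤ) (A : Over (Spec (CommRingCat.of k))) [GrpObj A] [IsCommMonObj A] [IsProper A.hom] [GeometricallyIntegral A.hom]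
    (πA : A ⟶ A) [IsMonHom πA] (hπAb : πA.left.base = 𝟙 _)
    (hπAle : ∀ U : A.left.Opens, U ≤ πA.left ⁻¹ᵁ U)
    (hπAapp : ∀ (U : A.left.Opens) (s : Γ(A.left, U)), (πA.left.appLE U U (hπAle U)).hom s = s ^ Nat.card k)
    (hPA : Polynomial.eval₂ (Int.castRingHom (EndAV.End A)) (EndAV.End.of πA) P = 0)
    (hcog : ∀ (Z : Over (Spec (CommRingCat.of k))) [GrpObj Z] [IsCommMonObj Z] [IsProper Z.hom] [GeometricallyIntegral Z.hom]
      (πZ : Z ⟶ Z) [IsMonHom πZ] (hπZb : πZ.left.base = 𝟙 _) (hπZle : ∀ U : Z.left.Opens, U ≤ πZ.left ⁻¹ᵁ U)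
      (hπZapp : ∀ (U : Z.left.Opens) (s : Γ(Z.left, U)), (πZ.left.appLE U U (hπZle U)).hom s = s ^ Nat.card k)
      (hPZ : Polynomial.eval₂ (Int.castRingHom (EndAV.End Z)) (EndAV.End.of πZ) P = 0),
      ∃ (n : ℕ) (ψ : Fin n → EndAV.Hom Z A), ∀ (T : Over (Spec (CommRingCat.of k))) (x y : T ⟶ Z),
        (∀ i, x ≫ (ψ i).toHom = y ≫ (ψ i).toHom) → x = y)
    (X Y : Over (Spec (CommRingCat.of k))) [GrpObj X] [IsCommMonObj X] [IsProper X.hom] [GeometricallyIntegral X.hom]
    [GrpObj Y] [IsCommMonObj Y] [IsProper Y.hom] [GeometricallyIntegral Y.hom]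
    (πX : X ⟶ X) [IsMonHom πX] (hπXb : πX.left.base = 𝟙 _)
    (hπXle : ∀ U : X.left.Opens, U ≤ πX.left ⁻¹ᵁ U)
    (hπXapp : ∀ (U : X.left.Opens) (s : Γ(X.left, U)), (πX.left.appLE U U (hπXle U)).hom s = s ^ Nat.card k)
    (hPX : Polynomial.eval₂ (Int.castRingHom (EndAV.End X)) (EndAV.End.of πX) P = 0)
    (πY : Y ⟶ Y) [IsMonHom πY] (hπYb : πY.left.base = 𝟙 _)
    (hπYle : ∀ U : Y.left.Opens, U ≤ πY.left ⁻¹ᵁ U)
    (hπYapp : ∀ (U : Y.left.Opens) (s : Γ(Y.left, U)), (πY.left.appLE U U (hπYle U)).hom s = s ^ Nat.card k)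
    (hPY : Polynomial.eval₂ (Int.castRingHom (EndAV.End Y)) (EndAV.End.of πY) P = 0) :
    (∀ f g : EndAV.Hom X Y, (∀ φ : EndAV.Hom Y A, f ≫ φ = g ≫ φ) → f = g) ∧
      (∀ g : EndAV.Hom Y A →+ EndAV.Hom X A,
        (∀ (φ : EndAV.Hom Y A) (s : EndAV.Hom A A), g (φ ≫ s) = g φ ≫ s) →
          ∃ f : EndAV.Hom X Y, ∀ φ : EndAV.Hom Y A, g φ = f ≫ φ) := by
  obtain ⟨n, ψ, hψ⟩ := hcog Y πY hπYb hπYle hπYapp hPY
  obtain ⟨W, _, _, _, _, pr, inc, h1, h2, h3, h4⟩ := GrothLib.AVCat.exists_power A n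
  let Ψ : EndAV.Hom Y W := ∑ t, ψ t ≫ inc t
  have hΨ : ∀ t, Ψ ≫ pr t = ψ t := fun t => by
    rw [Preadditive.sum_comp, Finset.sum_eq_single t (fun s _ hs => by rw [Category.assoc, h2 s t hs, Limits.comp_zero])
      (fun h => absurd (Finset.mem_univ t) h), Category.assoc, h1, Category.comp_id]
  haveI : IsClosedImmersion Ψ.toHom.left := GrothLib.AVCat.closedImmersion_of_points _ fun T x y hxy =>
    hψ T x y fun t => by
      rw [← hΨ t, EndAV.Hom.toHom_comp, ← Category.assoc, hxy, Category.assoc]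
  obtain ⟨N, r, hN, hr⟩ := GrothLib.AVCat.exists_retraction Ψ
  have hdec : ∀ φ : EndAV.Hom Y A, N • φ = ∑ t, ψ t ≫ (inc t ≫ r ≫ φ) := fun φ => by
    calc N • φ = (Ψ ≫ r) ≫ φ := by rw [hr, Preadditive.nsmul_comp, Category.id_comp]
      _ = _ := by simp only [Ψ, Preadditive.sum_comp, Category.assoc]
  have faith : ∀ f g : EndAV.Hom X Y, (∀ φ : EndAV.Hom Y A, f ≫ φ = g ≫ φ) → f = g := fun f g h =>
    EndAV.Hom.ext (hψ X f.toHom g.toHom fun t => congrArg EndAV.Hom.toHom (h (ψ t)))
  refine ⟨faith, fun g hg => ?_⟩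
  let fN : EndAV.Hom X Y := ∑ t, g (ψ t) ≫ (inc t ≫ r)
  have hfN : ∀ φ : EndAV.Hom Y A, fN ≫ φ = N • g φ := fun φ => by
    rw [← map_nsmul, hdec φ, map_sum]
    simp only [fN, Preadditive.sum_comp, Category.assoc]
    exact Finset.sum_congr rfl fun t _ => (hg (ψ t) (inc t ≫ r ≫ φ)).symm
  obtain ⟨f, hf⟩ := GrothLib.AVCat.exists_div N hN.ne' fN fun T x hx => by
    refine hψ T _ _ fun t => ?_
    rw [Category.assoc, ← EndAV.Hom.toHom_comp, hfN, EndAV.Hom.toHom_nsmul, MonObj.comp_pow, MonObj.one_comp,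
      ← MonObj.pow_comp, hx, MonObj.one_comp]
  refine ⟨f, fun φ => sub_eq_zero.1 (GrothLib.AVCat.eq_zero_of_nsmul hN.ne' ?_)⟩
  rw [smul_sub, ← Preadditive.nsmul_comp, hf, hfN, sub_self]

end Groth.Agent.S16386
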