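import Groth.Statements.S16387
-- import your own Groth.Agent.* helpers here
import Groth.Agent.Lib.AbTors.FiniteKer

set_option autoImplicit false
universe u
open CategoryTheory MonoidalCategory CartesianMonoidalCategory MonObj GrpObj AlgebraicGeometry
open AbVar

namespace Groth.Agent.S16387

/-- Let k be a finite field with algebraic closure Ω, l a prime number invertible in k, and A, B abelian
varieties over k (proper, geometrically integral commutative group schemes over k). If the
homomorphism i : A → B is injective (a closed immersion), then the induced ℤ_l-linear map between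
the l-adic Tate modules of Ω-points T_l(i) : T_l A → T_l B is injective with torsion-free, hence
free, cokernel: the quotient of T_l B by the image of T_l A is a free ℤ_l-module. -/
theorem result (k Ω : Type u) [Field k] [Finite k]
    [Field Ω] [Algebra k Ω] [IsAlgClosure k Ω] (l : ℕ) [Fact l.Prime] (hl : (l : k) ≠ 0)
    (A B : Over (Spec (CommRingCat.of k))) [GrpObj A] [IsCommMonObj A] [IsProper A.hom] [GeometricallyIntegral A.hom]
    [GrpObj B] [IsCommMonObj B] [IsProper B.hom] [GeometricallyIntegral B.hom]
    (i : A ⟶ B) [IsMonHom i] [IsClosedImmersion i.left] :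
    Function.Injective (AbDual.tateMapₗ (l := l) (T := SGA7.pt Ω) i) ∧
      Module.Free ℤ_[l] (AbDual.TateMod B l (SGA7.pt Ω) ⧸
        LinearMap.range (AbDual.tateMapₗ (l := l) (T := SGA7.pt Ω) i)) := by
  haveI : IsAlgClosed Ω := IsAlgClosure.isAlgClosed k
  haveI : Mono i := by
    haveI : Mono ((Over.forget _).map i) := inferInstanceAs (Mono i.left)
    exact (Over.forget _).mono_of_mono_map inferInstance
  exact ⟨GrothLib.AbTors.injective_tateMap_of_isFinite (Spec.map (CommRingCat.ofHom (algebraMap k Ω))) l i,
    GrothLib.AbTors.free_coker_tateMap (Spec.map (CommRingCat.ofHom (algebraMap k Ω))) l hl i⟩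

end Groth.Agent.S16387
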