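import Groth.Statements.S16388
-- import your own Groth.Agent.* helpers here
import Groth.Agent.Lib.TateThm.IsogPrime

set_option autoImplicit false
universe u
open CategoryTheory MonoidalCategory CartesianMonoidalCategory MonObj GrpObj AlgebraicGeometry
open AbVar

namespace Groth.Agent.S16388

/-- For a single prime l different from the characteristic; let k be a finite field with algebraic
closure Ω, l a prime number invertible in k, and A, B abelian varieties over k (proper,
geometrically integral commutative group schemes over k). For each k-automorphism τ of Ω let ρ_A(τ),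
ρ_B(τ) be the ℤ_l-linear endomorphisms of the l-adic Tate modules of Ω-points T_l A, T_l B which act
on every component by the Galois action of τ (this pins them). Then T_l A and T_l B are isomorphic
as Galois modules — there is a ℤ_l-linear isomorphism e with e ∘ ρ_A(τ) = ρ_B(τ) ∘ e for all τ — if
and only if there is an isogeny A → B of degree prime to l, expressed here as: homomorphisms f : A →
B and g : B → A and an integer N ≥ 1 not divisible by l such that g ∘ f is multiplication by N on A
and f ∘ g is multiplication by N on B. -/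
theorem result (k Ω : Type u)
    [Field k] [Finite k] [Field Ω] [Algebra k Ω] [IsAlgClosure k Ω] (l : ℕ) [Fact l.Prime] (hl : (l : k) ≠ 0)
    (A B : Over (Spec (CommRingCat.of k))) [GrpObj A] [IsCommMonObj A] [IsProper A.hom] [GeometricallyIntegral A.hom]
    [GrpObj B] [IsCommMonObj B] [IsProper B.hom] [GeometricallyIntegral B.hom]
    (ρA : (Ω ≃ₐ[k] Ω) → Module.End ℤ_[l] (AbDual.TateMod A l (SGA7.pt Ω)))
    (hρA : ∀ (τ : Ω ≃ₐ[k] Ω) (z : AbDual.TateMod A l (SGA7.pt Ω)) (m : ℕ),
      (AbDual.TateMod.component A l (SGA7.pt Ω) m (ρA τ z)).toMul =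
        SGA7.galAct τ (AbDual.TateMod.component A l (SGA7.pt Ω) m z).toMul)
    (ρB : (Ω ≃ₐ[k] Ω) → Module.End ℤ_[l] (AbDual.TateMod B l (SGA7.pt Ω)))
    (hρB : ∀ (τ : Ω ≃ₐ[k] Ω) (z : AbDual.TateMod B l (SGA7.pt Ω)) (m : ℕ),
      (AbDual.TateMod.component B l (SGA7.pt Ω) m (ρB τ z)).toMul =
        SGA7.galAct τ (AbDual.TateMod.component B l (SGA7.pt Ω) m z).toMul) :
    (∃ e : AbDual.TateMod A l (SGA7.pt Ω) ≃ₗ[ℤ_[l]] AbDual.TateMod B l (SGA7.pt Ω),
        ∀ τ : Ω ≃ₐ[k] Ω, e.toLinearMap ∘ₗ ρA τ = ρB τ ∘ₗ e.toLinearMap) ↔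
      ∃ (f : A ⟶ B) (_ : IsMonHom f) (g : B ⟶ A) (_ : IsMonHom g) (N : ℕ), 0 < N ∧ ¬ l ∣ N ∧
        f ≫ g = (𝟙 A) ^ N ∧ g ≫ f = (𝟙 B) ^ N := by
  haveI : IsAlgClosed Ω := IsAlgClosure.isAlgClosed k
  have eA : ∀ τ, ρA τ = GrothLib.TateThm.galT A l τ := fun τ => LinearMap.ext fun z =>
    AbDual.TateMod.ext fun m => Additive.toMul.injective
      ((hρA τ z m).trans (GrothLib.TateThm.component_galT τ z m).symm)
  have eB : ∀ τ, ρB τ = GrothLib.TateThm.galT B l τ := fun τ => LinearMap.ext fun z =>
    AbDual.TateMod.ext fun m => Additive.toMul.injective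
      ((hρB τ z m).trans (GrothLib.TateThm.component_galT τ z m).symm)
  simp only [eA, eB]
  constructor
  · rintro ⟨e, he⟩
    obtain ⟨φ, hφ⟩ := GrothLib.TateThm.exists_bijective_tateMap hl e (GrothLib.TateThm.mem_span_tateMap hl _ he)
    obtain ⟨ψ, hψ⟩ := GrothLib.TateThm.exists_bijective_tateMap hl e.symm
      (GrothLib.TateThm.mem_span_tateMap hl _ fun τ => LinearMap.ext fun y => e.injective (by
        have h := LinearMap.congr_fun (he τ) (e.symm y)
        simp only [LinearMap.comp_apply, LinearEquiv.coe_coe, LinearEquiv.apply_symm_apply] at h ⊢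
        exact h.symm))
    exact GrothLib.TateThm.exists_isogeny_not_dvd Ω l hl φ ψ hφ hψ
  · rintro ⟨f, hf, g, hg, N, -, hN, h1, h2⟩
    exact ⟨LinearEquiv.ofBijective _ (GrothLib.TateThm.bijective_tateMapₗ_of_isogeny f g hN h1 h2),
      GrothLib.TateThm.galT_tateMapₗ f⟩

end Groth.Agent.S16388
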