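import Groth.Prelude
import Groth.Agent.Lib.NormAmple.Pushdown
import Groth.Agent.Lib.NormAmple.Integral
import Groth.Agent.Lib.Euler.AmpleComponents

set_option autoImplicit false
universe u
open CategoryTheory CategoryTheory.Limits AlgebraicGeometry
namespace Divisors
end Divisors
open Divisors

namespace Groth.Agent.S1639

/-- Let π : X → Y be finite and surjective, with Y integral and normal. If X has an ample invertible
module then so does Y. -/
theorem result {X Y : Scheme.{u}} (π : X ⟶ Y) [IsFinite π] [Surjective π]
    [IsIntegral Y] (hY : Pi1.IsNormalScheme Y) (L : X.Modules) (hL : CohB1.IsAmple L) :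
    ∃ M : Y.Modules, CohB1.IsAmple M := by
  obtain ⟨ξ, hξ⟩ := (inferInstance : Surjective π).surj (genericPoint Y)
  let T : TopologicalSpace.Closeds X := ⟨closure {ξ}, isClosed_closure⟩
  let j := (Scheme.IdealSheafData.vanishingIdeal T).subschemeι
  haveI := GrothLib.Euler.isIntegral_vanishingIdeal T isIrreducible_singleton.closure
  have hrange : Set.range j = closure {ξ} := by
    rw [Scheme.IdealSheafData.range_subschemeι, Scheme.IdealSheafData.coe_support_vanishingIdeal]
    rfl
  haveI : Surjective (j ≫ π) := by
    refine ⟨fun y => ?_⟩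
    have hc : IsClosed (Set.range (j ≫ π)) := (j ≫ π).isClosedMap.isClosed_range
    have hη : genericPoint Y ∈ Set.range (j ≫ π) := by
      obtain ⟨z, hz⟩ : ξ ∈ Set.range j := by rw [hrange]; exact subset_closure rfl
      exact ⟨z, by rw [Scheme.Hom.comp_apply, hz, hξ]⟩
    have h := hc.closure_subset_iff.2 (Set.singleton_subset_iff.2 hη)
    rw [genericPoint_closure] at h
    exact h (Set.mem_univ y)
  obtain ⟨d, ⟨ν⟩⟩ := GrothLib.NormAmple.hasNorm_of_normal (j ≫ π) hY
  exact GrothLib.NormAmple.exists_ample_of_norm ν (GrothLib.Ample.isAmple_pullback_of_isAffineHom j hL)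

end Groth.Agent.S1639
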