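import Groth.Statements.S16390
-- import your own Groth.Agent.* helpers here
import Mathlib

set_option autoImplicit false
open AbVar

namespace Groth.Agent.S16390

/-- Let p be a prime number, r > 2 and q = p^r. The polynomial x² − p x + q is irreducible over ℚ, each
of its complex roots has absolute value √q (so its roots are Weil q-numbers), and it has two
distinct roots in ℚ_p, of p-adic valuations 1 and r − 1. The published lemma also computes the index
of the endomorphism algebra of the simple abelian variety attached to a root; this row does not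
state that part. -/
theorem result (p r : ℕ) [Fact p.Prime] (hr : 2 < r) :
    Irreducible (Polynomial.X ^ 2 - Polynomial.C (p : ℚ) * Polynomial.X + Polynomial.C ((p : ℚ) ^ r)) ∧
      (∀ π : ℂ, π ^ 2 - (p : ℂ) * π + (p : ℂ) ^ r = 0 → ‖π‖ = Real.sqrt ((p : ℝ) ^ r)) ∧
      ∃ a b : ℚ_[p], a ≠ b ∧ a ^ 2 - (p : ℚ_[p]) * a + (p : ℚ_[p]) ^ r = 0 ∧
        b ^ 2 - (p : ℚ_[p]) * b + (p : ℚ_[p]) ^ r = 0 ∧ a.valuation = 1 ∧ b.valuation = (r : ℤ) - 1 := by
  classical
  have hp := (Fact.out : p.Prime)
  have hpR : (0:ℝ) < p := by exact_mod_cast hp.pos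
  have hdisc : (p:ℝ) ^ 2 < 4 * (p:ℝ) ^ r := by
    have : (p:ℝ) ^ 2 ≤ (p:ℝ) ^ r := pow_le_pow_right₀ (by exact_mod_cast hp.one_le) hr.le
    have : 0 < (p:ℝ) ^ r := by positivity
    linarith
  have hnoR : ∀ x : ℝ, x ^ 2 - p * x + (p:ℝ) ^ r ≠ 0 := fun x h => by nlinarith [sq_nonneg (2 * x - p)]
  refine ⟨?_, ?_, ?_⟩
  · have hm : (Polynomial.X ^ 2 - Polynomial.C (p : ℚ) * Polynomial.X + Polynomial.C ((p : ℚ) ^ r)).Monic := by monicity!
    rw [Polynomial.Monic.irreducible_iff_roots_eq_zero_of_degree_le_three hm ?_ ?_]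
    rotate_left
    · have : (Polynomial.X ^ 2 - Polynomial.C (p : ℚ) * Polynomial.X + Polynomial.C ((p : ℚ) ^ r)).natDegree = 2 := by compute_degree!
      omega
    · have : (Polynomial.X ^ 2 - Polynomial.C (p : ℚ) * Polynomial.X + Polynomial.C ((p : ℚ) ^ r)).natDegree = 2 := by compute_degree!
      omega
    refine Multiset.eq_zero_of_forall_notMem fun x hx => ?_
    have h := (Polynomial.mem_roots hm.ne_zero).mp hx
    simp at h
    exact hnoR x (by exact_mod_cast h)
  · intro π h
    have hre : ((p:ℂ) ^ r).re = (p:ℝ) ^ r := by rw [← Complex.ofReal_natCast, ← Complex.ofReal_pow, Complex.ofReal_re]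
    have him' : ((p:ℂ) ^ r).im = 0 := by rw [← Complex.ofReal_natCast, ← Complex.ofReal_pow, Complex.ofReal_im]
    have him : π.im ≠ 0 := by
      intro h0
      refine hnoR π.re ?_
      have := congrArg Complex.re h
      simp [pow_two, h0, hre] at this ⊢
      linarith
    have h1 := congrArg Complex.re h
    have h2 := congrArg Complex.im h
    simp [pow_two, hre, him'] at h1 h2
    have h3 : 2 * π.re = p := mul_right_cancel₀ him (by linarith)
    rw [← Real.sqrt_sq (norm_nonneg π), ← Complex.normSq_eq_norm_sq, Complex.normSq_apply]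
    congr 1
    rw [← h3] at h1 ⊢
    linarith
  · let F : Polynomial ℤ_[p] := Polynomial.X ^ 2 - Polynomial.X + Polynomial.C ((p:ℤ_[p]) ^ (r - 2))
    have hd : (F.derivative).aeval (1 : ℤ_[p]) = 1 := by simp [F, Polynomial.derivative_pow]; norm_num
    have hv : F.aeval (1 : ℤ_[p]) = (p:ℤ_[p]) ^ (r-2) := by simp [F]
    have hlt : ‖(p:ℤ_[p]) ^ (r-2)‖ < 1 := by
      rw [norm_pow]
      exact pow_lt_one₀ (norm_nonneg _) (by rw [PadicInt.norm_p]; exact inv_lt_one_of_one_lt₀ (by exact_mod_cast hp.one_lt)) (by omega)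
    obtain ⟨y, hy, hy1, -⟩ := hensels_lemma (F := F) (a := (1 : ℤ_[p])) (by rw [hd, hv]; simpa using hlt)
    rw [hd, norm_one] at hy1
    have hyu : ‖y‖ = 1 := by
      have := IsUltrametricDist.norm_add_eq_max_of_norm_ne_norm (x := y - 1) (y := (1:ℤ_[p])) (by rw [norm_one]; exact hy1.ne)
      rw [sub_add_cancel, norm_one, max_eq_right hy1.le] at this
      exact this
    have hy' : (y:ℚ_[p]) ^ 2 - y + (p:ℚ_[p]) ^ (r-2) = 0 := by
      simp [F] at hy
      exact_mod_cast congrArg (fun z : ℤ_[p] => (z : ℚ_[p])) hy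
    have hy0 : (y:ℚ_[p]) ≠ 0 := by
      intro h; rw [PadicInt.norm_def, h, norm_zero] at hyu; exact zero_ne_one hyu
    have hyv : (y:ℚ_[p]).valuation = 0 := by
      have := Padic.norm_eq_zpow_neg_valuation hy0
      rw [PadicInt.norm_def] at hyu
      rw [hyu] at this
      have h2 := (zpow_right_injective₀ (by exact_mod_cast hp.pos) (by exact_mod_cast hp.one_lt.ne')) (this.symm.trans (zpow_zero (p:ℝ)).symm)
      linarith
    have hp0 : (p:ℚ_[p]) ≠ 0 := by exact_mod_cast hp.ne_zero
    let a : ℚ_[p] := p * y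
    let b : ℚ_[p] := p - a
    have hpr : (p:ℚ_[p]) ^ r = p ^ 2 * p ^ (r - 2) := by rw [← pow_add]; congr 1; omega
    have hab : a * b = (p:ℚ_[p]) ^ r := by
      simp only [a, b]; rw [hpr]; linear_combination -(p:ℚ_[p]) ^ 2 * hy'
    have ha0 : a ≠ 0 := mul_ne_zero hp0 hy0
    have hb0 : b ≠ 0 := fun h => by rw [h, mul_zero] at hab; exact pow_ne_zero _ hp0 hab.symm
    have hva : a.valuation = 1 := by simp [a, Padic.valuation_mul hp0 hy0, hyv]
    have hvb : b.valuation = (r:ℤ) - 1 := by
      have := congrArg Padic.valuation hab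
      rw [Padic.valuation_mul ha0 hb0, hva, Padic.valuation_pow, Padic.valuation_p] at this
      simp at this ⊢; linarith
    refine ⟨a, b, fun h => ?_, ?_, ?_, hva, hvb⟩
    · rw [h] at hva; omega
    · linear_combination -hab
    · linear_combination -hab

end Groth.Agent.S16390
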