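import Groth.Statements.S16391
-- import your own Groth.Agent.* helpers here
import Groth.Agent.Lib.AVCat.Basic

set_option autoImplicit false
universe u
open CategoryTheory MonoidalCategory CartesianMonoidalCategory MonObj GrpObj AlgebraicGeometry
open AbVar

namespace Groth.Agent.S16391

/-- (c) ⇒ (a₂): let k be a finite field with q elements and fix a polynomial P with integer
coefficients. Work with abelian varieties over k (proper, geometrically integral commutative group
schemes over k) together with their q-Frobenius endomorphism π (the identity on points, the q-th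
power map on sections; a homomorphism) such that P(π) = 0 in the endomorphism ring (for suitable P:
the abelian varieties with Weil support in a given finite set of Weil q-numbers); let A be one of
them and S = End(A) (product = composition). Assume that A is an injective cogenerator: (c₁) every
such Z admits finitely many homomorphisms Z → A which are jointly monomorphic on T-valued points
over k, and (c₂) for such X, Y and every homomorphism X → Y which is a closed immersion, the
restriction map Hom(Y, A) → Hom(X, A) is surjective. Then the functor X ↦ Hom(X, A) is essentially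
surjective onto left S-modules that are free of finite rank over ℤ: for every such module M there
are such an abelian variety X (with its Frobenius and P(π_X) = 0) and an additive bijection M ≅
Hom(X, A) carrying the action of s ∈ S to postcomposition with s. -/
theorem result
    (k : Type u) [Field k] [Finite k]
    (P : Polynomial ℤ) (A : Over (Spec (CommRingCat.of k))) [GrpObj A] [IsCommMonObj A] [IsProper A.hom] [GeometricallyIntegral A.hom]
    (πA : A ⟶ A) [IsMonHom πA] (hπAb : πA.left.base = 𝟙 _)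
    (hπAle : ∀ U : A.left.Opens, U ≤ πA.left ⁻¹ᵁ U)
    (hπAapp : ∀ (U : A.left.Opens) (s : Γ(A.left, U)), (πA.left.appLE U U (hπAle U)).hom s = s ^ Nat.card k)
    (hPA : Polynomial.eval₂ (Int.castRingHom (EndAV.End A)) (EndAV.End.of πA) P = 0)
    (hcog : ∀ (Z : Over (Spec (CommRingCat.of k))) [GrpObj Z] [IsCommMonObj Z] [IsProper Z.hom] [GeometricallyIntegral Z.hom]
      (πZ : Z ⟶ Z) [IsMonHom πZ] (hπZb : πZ.left.base = 𝟙 _) (hπZle : ∀ U : Z.left.Opens, U ≤ πZ.left ⁻¹ᵁ U)
      (hπZapp : ∀ (U : Z.left.Opens) (s : Γ(Z.left, U)), (πZ.left.appLE U U (hπZle U)).hom s = s ^ Nat.card k)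
      (hPZ : Polynomial.eval₂ (Int.castRingHom (EndAV.End Z)) (EndAV.End.of πZ) P = 0),
      ∃ (n : ℕ) (ψ : Fin n → EndAV.Hom Z A), ∀ (T : Over (Spec (CommRingCat.of k))) (x y : T ⟶ Z),
        (∀ i, x ≫ (ψ i).toHom = y ≫ (ψ i).toHom) → x = y)
    (hext : ∀ (X Y : Over (Spec (CommRingCat.of k))) [GrpObj X] [IsCommMonObj X] [IsProper X.hom] [GeometricallyIntegral X.hom]
      [GrpObj Y] [IsCommMonObj Y] [IsProper Y.hom] [GeometricallyIntegral Y.hom]
      (πX : X ⟶ X) [IsMonHom πX] (hπXb : πX.left.base = 𝟙 _) (hπXle : ∀ U : X.left.Opens, U ≤ πX.left ⁻¹ᵁ U)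
      (hπXapp : ∀ (U : X.left.Opens) (s : Γ(X.left, U)), (πX.left.appLE U U (hπXle U)).hom s = s ^ Nat.card k)
      (hPX : Polynomial.eval₂ (Int.castRingHom (EndAV.End X)) (EndAV.End.of πX) P = 0)
      (πY : Y ⟶ Y) [IsMonHom πY] (hπYb : πY.left.base = 𝟙 _) (hπYle : ∀ U : Y.left.Opens, U ≤ πY.left ⁻¹ᵁ U)
      (hπYapp : ∀ (U : Y.left.Opens) (s : Γ(Y.left, U)), (πY.left.appLE U U (hπYle U)).hom s = s ^ Nat.card k)
      (hPY : Polynomial.eval₂ (Int.castRingHom (EndAV.End Y)) (EndAV.End.of πY) P = 0)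
      (φ : EndAV.Hom X Y) [IsClosedImmersion φ.toHom.left] (f : EndAV.Hom X A), ∃ g : EndAV.Hom Y A, φ ≫ g = f)
    (M : Type u) [AddCommGroup M] [Module (EndAV.End A) M] [Module.Finite ℤ M] [Module.Free ℤ M] :
    ∃ (X : Over (Spec (CommRingCat.of k))) (_ : GrpObj X) (_ : IsCommMonObj X) (_ : IsProper X.hom)
      (_ : GeometricallyIntegral X.hom) (πX : X ⟶ X) (_ : IsMonHom πX) (_ : πX.left.base = 𝟙 _)
      (hπXle : ∀ U : X.left.Opens, U ≤ πX.left ⁻¹ᵁ U)
      (_ : ∀ (U : X.left.Opens) (s : Γ(X.left, U)), (πX.left.appLE U U (hπXle U)).hom s = s ^ Nat.card k)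
      (_ : Polynomial.eval₂ (Int.castRingHom (EndAV.End X)) (EndAV.End.of πX) P = 0)
      (e : M ≃+ EndAV.Hom X A), ∀ (s : EndAV.End A) (m : M), (e (s • m)).toHom = (e m).toHom ≫ s.toHom := by
  classical
  obtain ⟨m, e, he⟩ := Module.Finite.exists_fin (R := ℤ) (M := M)
  haveI : Module.Finite ℤ (EndAV.End A) := GrothLib.HomFG.finite_hom (A := A) (B := A)
  haveI : _root_.IsNoetherian ℤ (Fin m → EndAV.End A) := isNoetherian_of_isNoetherianRing_of_finite ℤ _
  let π : (Fin m → EndAV.End A) →ₗ[EndAV.End A] M := Fintype.linearCombination (EndAV.End A) e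
  have hπ : Function.Surjective π := by
    intro x
    have hx : x ∈ Submodule.span ℤ (Set.range e) := he ▸ Submodule.mem_top
    obtain ⟨a, rfl⟩ := (Submodule.mem_span_range_iff_exists_fun ℤ).1 hx
    refine ⟨fun t => (a t : EndAV.End A), ?_⟩
    simp only [π, Fintype.linearCombination_apply, Int.cast_smul_eq_zsmul]
  obtain ⟨n, r, hr⟩ := Submodule.fg_iff_exists_fin_generating_family.1
    (IsNoetherian.noetherian ((LinearMap.ker π).restrictScalars ℤ))
  obtain ⟨W, _, _, _, _, pr, inc, h1, h2, h3, h4⟩ := GrothLib.AVCat.exists_power A m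
  obtain ⟨V, _, _, _, _, prV, incV, k1, k2, k3, k4⟩ := GrothLib.AVCat.exists_power A n
  let ρ : (Fin m → EndAV.End A) →+ EndAV.Hom W A :=
    AddMonoidHom.mk' (fun s => ∑ t, pr t ≫ (s t : EndAV.Hom A A)) fun a b => by
      rw [← Finset.sum_add_distrib]
      exact Finset.sum_congr rfl fun t _ => Preadditive.comp_add _ _ _ _ _ _
  have hρs : ∀ (s : EndAV.End A) (a : Fin m → EndAV.End A), ρ (s • a) = ρ a ≫ (s : EndAV.Hom A A) := fun s a => by
    show ∑ t, pr t ≫ ((s • a) t : EndAV.Hom A A) = (∑ t, pr t ≫ (a t : EndAV.Hom A A)) ≫ (s : EndAV.Hom A A)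
    rw [Preadditive.sum_comp]
    exact Finset.sum_congr rfl fun t _ => (Category.assoc _ _ _).symm
  have hρi : ∀ (a : Fin m → EndAV.End A) t, inc t ≫ ρ a = a t := fun a t => by
    show inc t ≫ ∑ t, pr t ≫ (a t : EndAV.Hom A A) = a t
    rw [Preadditive.comp_sum, Finset.sum_eq_single t (fun s _ hs => by
      rw [← Category.assoc, h2 t s (Ne.symm hs), Limits.zero_comp]) (fun h => absurd (Finset.mem_univ t) h),
      ← Category.assoc, h1, Category.id_comp]
  have hρsurj : ∀ g : EndAV.Hom W A, ρ (fun t => inc t ≫ g) = g := fun g => by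
    show ∑ t, pr t ≫ inc t ≫ g = g
    simp only [← Category.assoc]
    rw [← Preadditive.sum_comp, h3, Category.id_comp]
  let F : EndAV.Hom W V := ∑ j, ρ (r j) ≫ incV j
  have hF : ∀ j, F ≫ prV j = ρ (r j) := fun j => by
    rw [Preadditive.sum_comp, Finset.sum_eq_single j (fun s _ hs => by rw [Category.assoc, k2 s j hs, Limits.comp_zero])
      (fun h => absurd (Finset.mem_univ j) h), Category.assoc, k1, Category.comp_id]
  obtain ⟨N, G, hN, hG⟩ := GrothLib.AVCat.exists_regular F
  obtain ⟨X, _, _, _, _, q, i, hq, hi, hqi⟩ :=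
    GrothLib.AVCat.exists_fac (N • 𝟙 (CommGrp.mk W) - F ≫ G : EndAV.Hom W W)
  haveI := hq
  haveI := hi
  have hiF : i ≫ F = 0 := GrothLib.AVCat.eq_zero_of_surjective_comp q _ (by
    rw [← Category.assoc, hqi, Preadditive.sub_comp, Category.assoc, hG, Preadditive.nsmul_comp, Category.id_comp,
      sub_self])
  let Φ : (Fin m → EndAV.End A) →+ EndAV.Hom X A := (Preadditive.leftComp (CommGrp.mk A) i).comp ρ
  have hker : π.toAddMonoidHom.ker = Φ.ker := by
    ext a
    rw [AddMonoidHom.mem_ker, AddMonoidHom.mem_ker]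
    constructor
    · intro ha
      have ha' : a ∈ (LinearMap.ker π).restrictScalars ℤ := ha
      rw [← hr] at ha'
      obtain ⟨c, rfl⟩ := (Submodule.mem_span_range_iff_exists_fun ℤ).1 ha'
      rw [map_sum]
      refine Finset.sum_eq_zero fun j _ => ?_
      rw [map_zsmul]
      show c j • (i ≫ ρ (r j)) = 0
      rw [← hF, ← Category.assoc, hiF, Limits.zero_comp, smul_zero]
    · intro ha
      have h0 : (N • 𝟙 (CommGrp.mk W) - F ≫ G : EndAV.Hom W W) ≫ ρ a = 0 := by
        rw [← hqi, Category.assoc, show i ≫ ρ a = 0 from ha, Limits.comp_zero]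
      rw [Preadditive.sub_comp, sub_eq_zero, Preadditive.nsmul_comp, Category.id_comp, Category.assoc] at h0
      let s : Fin n → EndAV.End A := fun j => incV j ≫ G ≫ ρ a
      have h5 : N • a = ∑ j, s j • r j := by
        have h6 : ρ (N • a) = ρ (∑ j, s j • r j) := by
          rw [map_nsmul, h0, map_sum]
          simp only [hρs, s]
          simp only [F, Preadditive.sum_comp, Category.assoc]
        funext t
        rw [← hρi (N • a) t, h6, hρi]
      have h7 : N • π a = 0 := by
        rw [← map_nsmul, h5, map_sum]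
        refine Finset.sum_eq_zero fun j _ => ?_
        rw [map_smul, show π (r j) = 0 from (show r j ∈ (LinearMap.ker π).restrictScalars ℤ from
          hr ▸ Submodule.subset_span ⟨j, rfl⟩), smul_zero]
      rw [← natCast_zsmul] at h7
      exact (smul_eq_zero.1 h7).resolve_left (Int.natCast_ne_zero.2 hN.ne')
  obtain ⟨πA', _, hAb', hAle', hAapp', hPA'⟩ : GrothLib.AVCat.HasP P A :=
    ⟨πA, inferInstance, hπAb, hπAle, hπAapp, hPA⟩
  have hPW : GrothLib.AVCat.HasP P W := GrothLib.AVCat.HasP.of_jointly pr ⟨πA, inferInstance, hπAb, hπAle, hπAapp, hPA⟩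
    fun u hu => by
      rw [← Category.comp_id u, ← h3, Preadditive.comp_sum]
      exact Finset.sum_eq_zero fun t _ => by rw [← Category.assoc, hu t, Limits.zero_comp]
  haveI : Mono i.toHom := GrothLib.AVCat.mono_of_closedImmersion i.toHom
  obtain ⟨πX, _, hXb, hXle, hXapp, hPX⟩ := GrothLib.AVCat.HasP.of_jointly (fun _ : Fin 1 => i) hPW fun u hu => by
    refine EndAV.Hom.ext ((cancel_mono i.toHom).1 ?_)
    rw [← EndAV.Hom.toHom_comp, hu 0]
    exact (MonObj.one_comp _).symm
  obtain ⟨πW, _, hWb, hWle, hWapp, hPW'⟩ := hPW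
  have hΦ : Function.Surjective Φ := fun f => by
    obtain ⟨g, hg⟩ := hext X W πX hXb hXle hXapp hPX πW hWb hWle hWapp hPW' i f
    exact ⟨fun t => inc t ≫ g, by show i ≫ ρ _ = f; rw [hρsurj, hg]⟩
  let E : M ≃+ EndAV.Hom X A := (QuotientAddGroup.quotientKerEquivOfSurjective π.toAddMonoidHom hπ).symm.trans
    ((QuotientAddGroup.quotientAddEquivOfEq hker).trans (QuotientAddGroup.quotientKerEquivOfSurjective Φ hΦ))
  have hE : ∀ a, E (π a) = Φ a := fun a => by
    have h8 : (QuotientAddGroup.quotientKerEquivOfSurjective π.toAddMonoidHom hπ).symm (π a) =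
        QuotientAddGroup.mk a := (AddEquiv.symm_apply_eq _).2 rfl
    show (QuotientAddGroup.quotientKerEquivOfSurjective Φ hΦ) ((QuotientAddGroup.quotientAddEquivOfEq hker)
      ((QuotientAddGroup.quotientKerEquivOfSurjective π.toAddMonoidHom hπ).symm (π a))) = Φ a
    rw [h8]
    rfl
  refine ⟨X, inferInstance, inferInstance, inferInstance, inferInstance, πX, inferInstance, hXb, hXle, hXapp, hPX, E,
    fun s x => ?_⟩
  obtain ⟨a, rfl⟩ := hπ x
  rw [← map_smul, hE, hE]
  show EndAV.Hom.toHom (i ≫ ρ (s • a)) = EndAV.Hom.toHom (i ≫ ρ a) ≫ EndAV.End.toHom s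
  rw [hρs, ← Category.assoc]
  rfl

end Groth.Agent.S16391
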