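import Groth.Statements.S16393
-- import your own Groth.Agent.* helpers here
import Groth.Agent.Lib.AVCat.Basic

set_option autoImplicit false
universe u
open CategoryTheory MonoidalCategory CartesianMonoidalCategory MonObj GrpObj AlgebraicGeometry
open AbVar

namespace Groth.Agent.S16393

/-- (a₁) ⇒ (b₁): let k be a finite field with q elements and fix a polynomial P with integer
coefficients. Work with abelian varieties over k (proper, geometrically integral commutative group
schemes over k) with their q-Frobenius endomorphism π (identity on points, q-th power on sections; a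
homomorphism) such that P(π) = 0 in the endomorphism ring (for suitable P: the abelian varieties
with Weil support in a given finite set of Weil q-numbers); let A be one of them. Assume (a₁): the
functor X ↦ Hom(X, A), with values in left End(A)-modules (End(A) acting by postcomposition), is
fully faithful on these abelian varieties — for such X, Y, two homomorphisms X → Y agreeing after
composition with every homomorphism Y → A are equal, and every additive End(A)-linear map Hom(Y, A)
→ Hom(X, A) is precomposition with a homomorphism X → Y. Then (b₁): for such X and every finite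
closed subgroup scheme H ⊆ X, H equals the common kernel of the homomorphisms X → A vanishing on H;
on points: a T-valued point of X over k which is sent to the unit by every homomorphism X → A
killing H factors through H. -/
theorem result
    (k : Type u) [Field k] [Finite k]
    (P : Polynomial ℤ) (A : Over (Spec (CommRingCat.of k))) [GrpObj A] [IsCommMonObj A] [IsProper A.hom] [GeometricallyIntegral A.hom]
    (πA : A ⟶ A) [IsMonHom πA] (hπAb : πA.left.base = 𝟙 _) (hπAle : ∀ U : A.left.Opens, U ≤ πA.left ⁻¹ᵁ U)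
      (hπAapp : ∀ (U : A.left.Opens) (s : Γ(A.left, U)), (πA.left.appLE U U (hπAle U)).hom s = s ^ Nat.card k)
    (hPA : Polynomial.eval₂ (Int.castRingHom (EndAV.End A)) (EndAV.End.of πA) P = 0)
    (hff : ∀ (X Y : Over (Spec (CommRingCat.of k))) [GrpObj X] [IsCommMonObj X] [IsProper X.hom] [GeometricallyIntegral X.hom]
      [GrpObj Y] [IsCommMonObj Y] [IsProper Y.hom] [GeometricallyIntegral Y.hom]
      (πX : X ⟶ X) [IsMonHom πX] (hπXb : πX.left.base = 𝟙 _) (hπXle : ∀ U : X.left.Opens, U ≤ πX.left ⁻¹ᵁ U)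
      (hπXapp : ∀ (U : X.left.Opens) (s : Γ(X.left, U)), (πX.left.appLE U U (hπXle U)).hom s = s ^ Nat.card k)
      (hPX : Polynomial.eval₂ (Int.castRingHom (EndAV.End X)) (EndAV.End.of πX) P = 0)
      (πY : Y ⟶ Y) [IsMonHom πY] (hπYb : πY.left.base = 𝟙 _) (hπYle : ∀ U : Y.left.Opens, U ≤ πY.left ⁻¹ᵁ U)
      (hπYapp : ∀ (U : Y.left.Opens) (s : Γ(Y.left, U)), (πY.left.appLE U U (hπYle U)).hom s = s ^ Nat.card k)
      (hPY : Polynomial.eval₂ (Int.castRingHom (EndAV.End Y)) (EndAV.End.of πY) P = 0),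
      (∀ f g : EndAV.Hom X Y, (∀ φ : EndAV.Hom Y A, f ≫ φ = g ≫ φ) → f = g) ∧
        (∀ g : EndAV.Hom Y A →+ EndAV.Hom X A,
          (∀ (φ : EndAV.Hom Y A) (s : EndAV.Hom A A), g (φ ≫ s) = g φ ≫ s) →
            ∃ f : EndAV.Hom X Y, ∀ φ : EndAV.Hom Y A, g φ = f ≫ φ))
    (X : Over (Spec (CommRingCat.of k))) [GrpObj X] [IsCommMonObj X] [IsProper X.hom] [GeometricallyIntegral X.hom]
    (πX : X ⟶ X) [IsMonHom πX] (hπXb : πX.left.base = 𝟙 _) (hπXle : ∀ U : X.left.Opens, U ≤ πX.left ⁻¹ᵁ U)
      (hπXapp : ∀ (U : X.left.Opens) (s : Γ(X.left, U)), (πX.left.appLE U U (hπXle U)).hom s = s ^ Nat.card k)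
    (hPX : Polynomial.eval₂ (Int.castRingHom (EndAV.End X)) (EndAV.End.of πX) P = 0)
    (H : Over (Spec (CommRingCat.of k))) [GrpObj H] [IsFinite H.hom] (i : H ⟶ X) [IsMonHom i] [IsClosedImmersion i.left]
    (T : Over (Spec (CommRingCat.of k))) (x : T ⟶ X)
    (hx : ∀ f : EndAV.Hom X A, i ≫ f.toHom = 1 → x ≫ f.toHom = 1) :
    ∃ y : T ⟶ H, y ≫ i = x := by
  haveI : Mono i := by
    haveI : Mono ((Over.forget _).map i) := inferInstanceAs (Mono i.left)
    exact (Over.forget _).mono_of_mono_map inferInstance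
  obtain ⟨Z, _, _, q, _, _, _, _, _, _, hker⟩ := GrothLib.TateThm.exists_quotient X i
  let Q : EndAV.Hom X Z := EndAV.Hom.of q
  haveI : Surjective Q.toHom.left := ‹Surjective q.left›
  have hepi : ∀ {W : Over (Spec (CommRingCat.of k))} [GrpObj W] [IsCommMonObj W] [IsProper W.hom]
      [GeometricallyIntegral W.hom] (u : EndAV.Hom Z W), Q ≫ u = 0 → u = 0 := fun u h =>
    GrothLib.AVCat.eq_zero_of_surjective_comp Q u h
  have hPXA : GrothLib.AVCat.HasP P X := ⟨πX, inferInstance, hπXb, hπXle, hπXapp, hPX⟩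
  obtain ⟨πZ, _, hπZb, hπZle, hπZapp, hPZ⟩ := GrothLib.AVCat.HasP.of_epi Q hPXA fun u h => hepi u h
  have hPZA : GrothLib.AVCat.HasP P Z := ⟨πZ, inferInstance, hπZb, hπZle, hπZapp, hPZ⟩
  obtain ⟨n, e, he⟩ := GrothLib.HomFG.exists_generators (A := Z) (B := A)
  obtain ⟨W, _, _, _, _, pr, inc, h1, h2, h3, h4⟩ := GrothLib.AVCat.exists_power A n
  let F : EndAV.Hom Z W := ∑ t, e t ≫ inc t
  have hF : ∀ t, F ≫ pr t = e t := fun t => by
    rw [Preadditive.sum_comp, Finset.sum_eq_single t (fun s _ hs => by rw [Category.assoc, h2 s t hs, Limits.comp_zero])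
      (fun h => absurd (Finset.mem_univ t) h), Category.assoc, h1, Category.comp_id]
  haveI : IsFinite F.toHom.left := GrothLib.AVCat.isFinite_of_faithful F fun C _ _ _ _ c hc hcF => by
    obtain ⟨πC, _, hCb, hCle, hCapp, hPC⟩ := GrothLib.AVCat.HasP.of_jointly (fun _ : Fin 1 => c) hPZA fun u hu => by
      haveI := hc
      refine EndAV.Hom.ext ((cancel_mono c.toHom).1 ?_)
      rw [← EndAV.Hom.toHom_comp, hu 0]
      exact (MonObj.one_comp _).symm
    refine (hff C Z πC hCb hCle hCapp hPC πZ hπZb hπZle hπZapp hPZ).1 c 0 fun φ => ?_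
    obtain ⟨a, ha⟩ := he φ
    rw [Limits.zero_comp, ha, Preadditive.comp_sum]
    exact Finset.sum_eq_zero fun t _ => by
      rw [Preadditive.comp_zsmul, ← hF t, ← Category.assoc, hcF, Limits.zero_comp, smul_zero]
  -- the common kernel
  let N := Limits.pullback F.toHom η[W]
  let ι' : N ⟶ Z := Limits.pullback.fst F.toHom η[W]
  have hN : AlgGrp.IsKernel ι' F.toHom := by
    have := IsPullback.of_hasPullback F.toHom η[W]
    rwa [toUnit_unique (Limits.pullback.snd _ _) (toUnit _)] at this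
  haveI : IsFinite N.hom := by
    have h5 : (toUnit N).left = N.hom := by
      have := Over.w (toUnit N)
      exact (Category.comp_id _).symm.trans this
    rw [← h5]
    exact MorphismProperty.of_isPullback (P := @IsFinite) (hN.map (Over.forget _)) ‹IsFinite F.toHom.left›
  haveI : Mono ι' := GrothLib.GrpDeligne.mono_of_isKernel hN
  obtain ⟨_, _⟩ := GrothLib.GrpDeligne.exists_grpObj_kernel F.toHom ι' hN
  obtain ⟨Z', _, _, g', _, _, _, _, _, _, hker'⟩ := GrothLib.TateThm.exists_quotient Z ι'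
  let G : EndAV.Hom Z Z' := EndAV.Hom.of g'
  haveI : Surjective G.toHom.left := ‹Surjective g'.left›
  obtain ⟨πZ', _, hZ'b, hZ'le, hZ'app, hPZ'⟩ := GrothLib.AVCat.HasP.of_epi G hPZA fun u h =>
    GrothLib.AVCat.eq_zero_of_surjective_comp G u h
  have hkill : ∀ (U : Over (Spec (CommRingCat.of k))) (z : U ⟶ Z), z ≫ F.toHom = 1 →
      ∀ φ : EndAV.Hom Z A, z ≫ φ.toHom = 1 := fun U z hz φ => by
    obtain ⟨a, ha⟩ := he φ
    refine GrothLib.AVCat.comp_eq_one_of_span e a ha z fun t => ?_
    rw [← hF t, EndAV.Hom.toHom_comp, ← Category.assoc, hz, MonObj.one_comp]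
  have hfac : ∀ φ : EndAV.Hom Z A, ∃ φ' : EndAV.Hom Z' A, G ≫ φ' = φ := fun φ =>
    GrothLib.AVCat.exists_factor G φ fun U z hz => by
      obtain ⟨b, rfl⟩ := GrothLib.GrpDeligne.exists_lift_ker hker' z hz
      exact hkill U _ (by rw [Category.assoc, GrothLib.GrpDeligne.ker_comp_eq_one hN, MonObj.comp_one]) φ
  choose D hD using hfac
  have huniq : ∀ (a b : EndAV.Hom Z' A), G ≫ a = G ≫ b → a = b := fun a b h => sub_eq_zero.1
    (GrothLib.AVCat.eq_zero_of_surjective_comp G (a - b) (by rw [Preadditive.comp_sub, h, sub_self]))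
  obtain ⟨h, hh⟩ := (hff Z' Z πZ' hZ'b hZ'le hZ'app hPZ' πZ hπZb hπZle hπZapp hPZ).2
    (AddMonoidHom.mk' D fun a b => huniq _ _ (by rw [hD, Preadditive.comp_add, hD, hD]))
    (fun φ s => huniq _ _ (by
      show G ≫ D (φ ≫ s) = G ≫ (D φ ≫ s)
      rw [hD, ← Category.assoc, hD]))
  have hGh : G ≫ h = 𝟙 _ := (hff Z Z πZ hπZb hπZle hπZapp hPZ πZ hπZb hπZle hπZapp hPZ).1 _ _ fun φ => by
    rw [Category.assoc, ← hh φ, Category.id_comp]
    exact hD φ
  -- the point lands in the kernel
  have hz : ∀ t, (x ≫ q) ≫ (e t).toHom = 1 := fun t => by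
    rw [Category.assoc]
    refine hx (Q ≫ e t) ?_
    rw [EndAV.Hom.toHom_comp, ← Category.assoc, show i ≫ Q.toHom = 1 from GrothLib.GrpDeligne.ker_comp_eq_one hker,
      MonObj.one_comp]
  have hzF : (x ≫ q) ≫ F.toHom = 1 := h4 T _ _ fun t => by
    rw [Category.assoc, ← EndAV.Hom.toHom_comp, hF, MonObj.one_comp]
    exact hz t
  obtain ⟨b, hb⟩ := GrothLib.GrpDeligne.exists_lift_ker hN _ hzF
  have hxq : x ≫ q = 1 := by
    have h5 : (x ≫ q) ≫ G.toHom = 1 := by
      rw [← hb, Category.assoc, show ι' ≫ G.toHom = 1 from GrothLib.GrpDeligne.ker_comp_eq_one hker', MonObj.comp_one]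
    calc x ≫ q = (x ≫ q) ≫ EndAV.Hom.toHom (G ≫ h) := by rw [hGh, EndAV.Hom.toHom_id, Category.comp_id]
      _ = 1 := by rw [EndAV.Hom.toHom_comp, ← Category.assoc, h5, MonObj.one_comp]
  exact GrothLib.GrpDeligne.exists_lift_ker hker x hxq

end Groth.Agent.S16393
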