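import Groth.Statements.S16394
-- import your own Groth.Agent.* helpers here
import Groth.Agent.Lib.HomFG.Finite

set_option autoImplicit false
universe u
open CategoryTheory MonoidalCategory CartesianMonoidalCategory MonObj GrpObj AlgebraicGeometry
open AbVar

namespace Groth.Agent.S16394

/-- (b₁) ⇒ (c₁): let k be a finite field and X, A abelian varieties over k (proper, geometrically
integral commutative group schemes over k). Suppose the common kernel of all homomorphisms X → A is
trivial: every T-valued point of X over k that is sent to the unit by every homomorphism X → A is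
the unit point (this is condition (b₁) for the trivial subgroup). Then there are finitely many
homomorphisms ψ_1, …, ψ_n : X → A which are jointly monomorphic on T-valued points — two T-valued
points of X with the same image under every ψ_i are equal — so that (ψ_i) is an injective
homomorphism X → A^n. The published statement restricts X and A to abelian varieties whose Frobenius
is killed by a fixed polynomial; this row has no such restriction. -/
theorem result
    (k : Type u) [Field k] [Finite k] (X A : Over (Spec (CommRingCat.of k))) [GrpObj X] [IsCommMonObj X] [IsProper X.hom] [GeometricallyIntegral X.hom]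
    [GrpObj A] [IsCommMonObj A] [IsProper A.hom] [GeometricallyIntegral A.hom]
    (hsep : ∀ (T : Over (Spec (CommRingCat.of k))) (x : T ⟶ X), (∀ f : EndAV.Hom X A, x ≫ f.toHom = 1) → x = 1) :
    ∃ (n : ℕ) (ψ : Fin n → EndAV.Hom X A), ∀ (T : Over (Spec (CommRingCat.of k))) (x y : T ⟶ X),
      (∀ i, x ≫ (ψ i).toHom = y ≫ (ψ i).toHom) → x = y := by
  obtain ⟨n, e, he⟩ := GrothLib.HomFG.exists_generators (A := X) (B := A)
  refine ⟨n, e, fun T x y h => ?_⟩
  refine mul_inv_eq_one.1 (hsep T (x * y⁻¹) fun f => ?_)
  obtain ⟨a, ha⟩ := he f
  rw [MonObj.mul_comp, GrpObj.inv_comp, mul_inv_eq_one, ha, GrothLib.HomFG.toHom_sum_zsmul]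
  exact (map_prod (MonoidHom.mk' (fun g : X ⟶ A => x ≫ g) fun a b => MonObj.comp_mul x a b) _ _).trans
    ((Finset.prod_congr rfl fun i _ => by
      show x ≫ (e i).toHom ^ a i = y ≫ (e i).toHom ^ a i
      rw [GrpObj.comp_zpow, GrpObj.comp_zpow, h i]).trans
      (map_prod (MonoidHom.mk' (fun g : X ⟶ A => y ≫ g) fun a b => MonObj.comp_mul y a b) _ _).symm)

end Groth.Agent.S16394
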