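import Groth.Statements.S16395
-- import your own Groth.Agent.* helpers here
import Groth.Agent.Lib.AVCat.Basic

set_option autoImplicit false
universe u
open CategoryTheory MonoidalCategory CartesianMonoidalCategory MonObj GrpObj AlgebraicGeometry
open AbVar

namespace Groth.Agent.S16395

/-- (a) ⇒ (b₂): let k be a finite field with q elements and fix a polynomial P with integer
coefficients. Work with abelian varieties over k (proper, geometrically integral commutative group
schemes over k) with their q-Frobenius endomorphism π (identity on points, q-th power on sections; a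
homomorphism) such that P(π) = 0 in the endomorphism ring (for suitable P: the abelian varieties
with Weil support in a given finite set of Weil q-numbers); let A be one of them and S = End(A)
(product = composition), acting on each Hom(X, A) by postcomposition. Assume (a): the functor X ↦
Hom(X, A) is an anti-equivalence from these abelian varieties onto left S-modules free of finite
rank over ℤ — (a₁) for such X, Y, homomorphisms X → Y agreeing after composition with every
homomorphism Y → A are equal and every additive S-linear map Hom(Y, A) → Hom(X, A) is precomposition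
with a homomorphism X → Y; (a₂) every left S-module whose additive group is free of finite rank over
ℤ is additively and S-linearly isomorphic to Hom(Y, A) for some such Y. Then (b₂): for every such X
and every additive subgroup M ⊆ Hom(X, A) of finite index stable under postcomposition with
endomorphisms of A, a homomorphism f : X → A lies in M as soon as it kills the common kernel of M,
i.e. every T-valued point of X over k sent to the unit by all members of M is sent to the unit by f. -/
theorem result
    (k : Type u) [Field k] [Finite k]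
    (P : Polynomial ℤ) (A : Over (Spec (CommRingCat.of k))) [GrpObj A] [IsCommMonObj A] [IsProper A.hom] [GeometricallyIntegral A.hom]
    (πA : A ⟶ A) [IsMonHom πA] (hπAb : πA.left.base = 𝟙 _) (hπAle : ∀ U : A.left.Opens, U ≤ πA.left ⁻¹ᵁ U)
      (hπAapp : ∀ (U : A.left.Opens) (s : Γ(A.left, U)), (πA.left.appLE U U (hπAle U)).hom s = s ^ Nat.card k)
    (hPA : Polynomial.eval₂ (Int.castRingHom (EndAV.End A)) (EndAV.End.of πA) P = 0)
    (hff : ∀ (X Y : Over (Spec (CommRingCat.of k))) [GrpObj X] [IsCommMonObj X] [IsProper X.hom] [GeometricallyIntegral X.hom]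
      [GrpObj Y] [IsCommMonObj Y] [IsProper Y.hom] [GeometricallyIntegral Y.hom]
      (πX : X ⟶ X) [IsMonHom πX] (hπXb : πX.left.base = 𝟙 _) (hπXle : ∀ U : X.left.Opens, U ≤ πX.left ⁻¹ᵁ U)
      (hπXapp : ∀ (U : X.left.Opens) (s : Γ(X.left, U)), (πX.left.appLE U U (hπXle U)).hom s = s ^ Nat.card k)
      (hPX : Polynomial.eval₂ (Int.castRingHom (EndAV.End X)) (EndAV.End.of πX) P = 0)
      (πY : Y ⟶ Y) [IsMonHom πY] (hπYb : πY.left.base = 𝟙 _) (hπYle : ∀ U : Y.left.Opens, U ≤ πY.left ⁻¹ᵁ U)
      (hπYapp : ∀ (U : Y.left.Opens) (s : Γ(Y.left, U)), (πY.left.appLE U U (hπYle U)).hom s = s ^ Nat.card k)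
      (hPY : Polynomial.eval₂ (Int.castRingHom (EndAV.End Y)) (EndAV.End.of πY) P = 0),
      (∀ f g : EndAV.Hom X Y, (∀ φ : EndAV.Hom Y A, f ≫ φ = g ≫ φ) → f = g) ∧
        (∀ g : EndAV.Hom Y A →+ EndAV.Hom X A,
          (∀ (φ : EndAV.Hom Y A) (s : EndAV.Hom A A), g (φ ≫ s) = g φ ≫ s) →
            ∃ f : EndAV.Hom X Y, ∀ φ : EndAV.Hom Y A, g φ = f ≫ φ))
    (hes : ∀ (M : Type u) [AddCommGroup M] [Module (EndAV.End A) M] [Module.Finite ℤ M] [Module.Free ℤ M],
      ∃ (Y : Over (Spec (CommRingCat.of k))) (_ : GrpObj Y) (_ : IsCommMonObj Y) (_ : IsProper Y.hom)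
        (_ : GeometricallyIntegral Y.hom) (πY : Y ⟶ Y) (_ : IsMonHom πY) (_ : πY.left.base = 𝟙 _)
        (hπYle : ∀ U : Y.left.Opens, U ≤ πY.left ⁻¹ᵁ U)
        (_ : ∀ (U : Y.left.Opens) (s : Γ(Y.left, U)), (πY.left.appLE U U (hπYle U)).hom s = s ^ Nat.card k)
        (_ : Polynomial.eval₂ (Int.castRingHom (EndAV.End Y)) (EndAV.End.of πY) P = 0)
        (e : M ≃+ EndAV.Hom Y A), ∀ (s : EndAV.End A) (m : M), (e (s • m)).toHom = (e m).toHom ≫ s.toHom)
    (X : Over (Spec (CommRingCat.of k))) [GrpObj X] [IsCommMonObj X] [IsProper X.hom] [GeometricallyIntegral X.hom]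
    (πX : X ⟶ X) [IsMonHom πX] (hπXb : πX.left.base = 𝟙 _) (hπXle : ∀ U : X.left.Opens, U ≤ πX.left ⁻¹ᵁ U)
      (hπXapp : ∀ (U : X.left.Opens) (s : Γ(X.left, U)), (πX.left.appLE U U (hπXle U)).hom s = s ^ Nat.card k)
    (hPX : Polynomial.eval₂ (Int.castRingHom (EndAV.End X)) (EndAV.End.of πX) P = 0)
    (M : AddSubgroup (EndAV.Hom X A)) (hM : M.FiniteIndex) (hMS : ∀ r ∈ M, ∀ s : EndAV.Hom A A, r ≫ s ∈ M)
    (f : EndAV.Hom X A)
    (hf : ∀ (T : Over (Spec (CommRingCat.of k))) (x : T ⟶ X), (∀ r ∈ M, x ≫ EndAV.Hom.toHom r = 1) → x ≫ f.toHom = 1) :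
    f ∈ M := by
  haveI := GrothLib.HomFG.finite_hom (A := X) (B := A)
  haveI := GrothLib.HomFG.free_hom (A := X) (B := A)
  letI modX : Module (EndAV.End A) M :=
    { smul := fun s m => ⟨(m : EndAV.Hom X A) ≫ (s : EndAV.Hom A A), hMS _ m.2 s⟩
      one_smul := fun m => Subtype.ext (Category.comp_id _)
      mul_smul := fun s t m => Subtype.ext (Category.assoc _ _ _).symm
      smul_zero := fun s => Subtype.ext Limits.zero_comp
      smul_add := fun s a b => Subtype.ext (Preadditive.add_comp _ _ _ _ _ _)
      add_smul := fun s t m => Subtype.ext (Preadditive.comp_add _ _ _ _ _ _)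
      zero_smul := fun m => Subtype.ext Limits.comp_zero }
  haveI : Module.Finite ℤ M := Module.Finite.of_injective M.subtype.toIntLinearMap Subtype.val_injective
  haveI : Module.Free ℤ M := by
    haveI : Module.IsTorsionFree ℤ M := Subtype.val_injective.moduleIsTorsionFree _ fun _ _ => rfl
    exact Module.free_of_finite_type_torsion_free'
  obtain ⟨Y, _, _, _, _, πY, _, hYb, hYle, hYapp, hPY, e, he⟩ := hes M
  have he' : ∀ (s : EndAV.End A) (m : M), e (s • m) = e m ≫ (s : EndAV.Hom A A) := fun s m => EndAV.Hom.ext (he s m)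
  obtain ⟨h, hh⟩ := (hff X Y πX hπXb hπXle hπXapp hPX πY hYb hYle hYapp hPY).2
    (M.subtype.comp e.symm.toAddMonoidHom) fun φ s => by
      let s' : EndAV.End A := s
      have h1 : e.symm (φ ≫ s) = s' • e.symm φ := e.injective (by
        rw [he', e.apply_symm_apply, e.apply_symm_apply])
      exact congrArg Subtype.val h1
  have hh' : ∀ φ : EndAV.Hom Y A, h ≫ φ = (e.symm φ : EndAV.Hom X A) := fun φ => (hh φ).symm
  haveI : Surjective h.toHom.left := GrothLib.AVCat.surjective_of_comp_eq_zero h fun u hu =>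
    (hff Y Y πY hYb hYle hYapp hPY πY hYb hYle hYapp hPY).1 u 0 fun φ => by
      rw [Limits.zero_comp]
      refine e.symm.injective (Subtype.ext ?_)
      rw [← hh', ← Category.assoc, hu, Limits.zero_comp, map_zero]
      rfl
  obtain ⟨φ, hφ⟩ := GrothLib.AVCat.exists_factor h f fun T x hx => by
    refine hf T x fun r hr => ?_
    rw [show r = h ≫ e ⟨r, hr⟩ by rw [hh', e.symm_apply_apply], EndAV.Hom.toHom_comp, ← Category.assoc, hx,
      MonObj.one_comp]
  rw [← hφ, hh']
  exact (e.symm φ).2

end Groth.Agent.S16395
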