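import Groth.Statements.S16396
import Mathlib.Algebra.Polynomial.Derivative
import Mathlib.Algebra.Algebra.Rat
import Mathlib.Algebra.Polynomial.Inductions

set_option autoImplicit false
universe u
open CAlg

namespace Groth.Agent.S16396

open Polynomial

open Polynomial in
/-- For a commutative ℚ-algebra A, a ℚ-subalgebra B of the polynomial algebra A[X] that contains X and
is closed under d/dX consists exactly of the polynomials each of whose coefficients is the value at
0 of some element of B; in other words B = ev(B)[X], with ev the evaluation at 0. -/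
theorem result
    (A : Type u) [CommRing A] [Algebra ℚ A] (B : Subalgebra ℚ A[X])
    (hX : (X : A[X]) ∈ B) (hD : ∀ P ∈ B, Polynomial.derivative P ∈ B) (P : A[X]) :
    P ∈ B ↔ ∀ i : ℕ, ∃ Q ∈ B, Polynomial.eval 0 Q = P.coeff i := by
  have smul_mem : ∀ (q : ℚ) (Q : A[X]), Q ∈ B → q • Q ∈ B := fun q Q hQ => B.smul_mem hQ q
  have key : ∀ (N : ℕ) (Q : A[X]), Q ∈ B → Q.natDegree ≤ N → ∀ i, C (Q.coeff i) ∈ B := by
    intro N
    induction N with
    | zero =>
      intro Q hQ hdeg i
      rcases i with - | i
      · rwa [← Polynomial.eq_C_of_natDegree_le_zero hdeg]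
      · rw [Polynomial.coeff_eq_zero_of_natDegree_lt (by omega), map_zero]
        exact zero_mem B
    | succ N ih =>
      intro Q hQ hdeg
      have hsucc : ∀ i, C (Q.coeff (i + 1)) ∈ B := by
        intro i
        have h1 := ih _ (hD Q hQ) ((Polynomial.natDegree_derivative_le Q).trans (by omega)) i
        rw [Polynomial.coeff_derivative] at h1
        have h2 := smul_mem ((i : ℚ) + 1)⁻¹ _ h1
        rw [Polynomial.smul_C] at h2
        have hne : ((i : ℚ) + 1) ≠ 0 := by positivity
        have h3 : ((i : ℚ) + 1)⁻¹ • (Q.coeff (i + 1) * ((i : A) + 1)) = Q.coeff (i + 1) := by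
          rw [show ((i : A) + 1) = algebraMap ℚ A ((i : ℚ) + 1) by simp, mul_comm,
            ← Algebra.smul_def, inv_smul_smul₀ hne]
        rwa [h3] at h2
      intro i
      rcases i with - | i
      · have h0 : C (Q.coeff 0) = Q - Q.divX * X := by
          have := Polynomial.divX_mul_X_add Q
          exact eq_sub_of_add_eq' this
        rw [h0]
        refine sub_mem hQ (mul_mem ?_ hX)
        rw [Polynomial.as_sum_range' Q.divX (Q.divX.natDegree + 1) (by omega)]
        refine sum_mem fun j _ => ?_
        rw [← Polynomial.C_mul_X_pow_eq_monomial, Polynomial.coeff_divX]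
        exact mul_mem (hsucc j) (pow_mem hX j)
      · exact hsucc i
  constructor
  · intro hP i
    exact ⟨C (P.coeff i), key _ P hP le_rfl i, Polynomial.eval_C⟩
  · intro h
    rw [Polynomial.as_sum_range' P (P.natDegree + 1) (by omega)]
    refine sum_mem fun i _ => ?_
    obtain ⟨Q, hQ, hQi⟩ := h i
    rw [← Polynomial.C_mul_X_pow_eq_monomial, ← hQi, ← Polynomial.coeff_zero_eq_eval_zero]
    exact mul_mem (key _ Q hQ le_rfl 0) (pow_mem hX i)

end Groth.Agent.S16396
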