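import Groth.Statements.S1640
import Groth.Agent.Lib.SemiLoc.Radical

set_option autoImplicit false
universe u
open Variety

namespace Groth.Agent.S1640

/-- Let K be a field, A ⊆ K a subring with fraction field K, and B_1, …, B_r ⊆ K Noetherian
one-dimensional subrings with finitely many maximal ideals and fraction field K, such that for each
i the subring generated by A and B_i is all of K. Then some nonzero x ∈ A has x⁻¹ lying in B_i and
in the Jacobson radical of B_i for every i. -/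
theorem result (K : Type u) [Field K] (A : Subring K) [IsFractionRing A K]
    (r : ℕ) (B : Fin r → Subring K) [∀ i, IsNoetherianRing (B i)] [∀ i, IsFractionRing (B i) K]
    (hdim : ∀ i, ringKrullDim (B i) = 1) (hsl : ∀ i, Finite (MaximalSpectrum (B i)))
    (hgen : ∀ i, A ⊔ B i = ⊤) :
    ∃ x : K, x ∈ A ∧ x ≠ 0 ∧ ∀ i, ∃ hx : x⁻¹ ∈ B i, (⟨x⁻¹, hx⟩ : B i) ∈ (⊥ : Ideal (B i)).jacobson := by
  have hB := fun i => GrothLib.SemiLoc.isOneDim_of_ringKrullDim_eq_one (B i) (hdim i)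
  rcases isEmpty_or_nonempty (Fin r) with h | h
  · exact ⟨1, A.one_mem, one_ne_zero, fun i => isEmptyElim i⟩
  classical
  choose ys hys hdet using fun i =>
    GrothLib.SemiLoc.exists_finset_detect' (A := A) (hB i) (hsl i) (hgen i) 1 one_ne_zero
  obtain ⟨y, -, hyV⟩ := GrothLib.SemiLoc.exists_combine B hB (⊤ : Ideal A) (Finset.univ.biUnion ys)
    (fun z _ => Submodule.mem_top)
  have key : ∀ i, ∀ V : ValuationSubring K, B i ≤ V.toSubring → V ≠ ⊤ → ((y : K)⁻¹)⁻¹ ∉ V := by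
    intro i V hV hne
    obtain ⟨z, hz, hzV⟩ := hdet i V hV hne
    rw [inv_inv]
    exact hyV i V hV ⟨z, Finset.mem_biUnion.mpr ⟨i, Finset.mem_univ _, hz⟩, hzV⟩
  choose n hn b hb hbw using fun i => (hB i).exists_pow_mem_jacobson (key i)
  refine ⟨(y : K) ^ (∏ i, n i), pow_mem y.2 _, ?_, fun i => ?_⟩
  · refine pow_ne_zero _ fun hy0 => ?_
    obtain ⟨i⟩ := h
    obtain ⟨V, hV, hne⟩ : ∃ V : ValuationSubring K, B i ≤ V.toSubring ∧ V ≠ ⊤ := by
      obtain ⟨M, hM⟩ := Ideal.exists_maximal (B i)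
      obtain ⟨V, hV, hMV⟩ := Ideal.image_subset_nonunits_valuationSubring (A := B i) M hM.ne_top
      refine ⟨V, hV, ?_⟩
      rintro rfl
      obtain ⟨z, hz, hz0⟩ := Submodule.exists_mem_ne_zero_of_ne_bot
        (Ring.ne_bot_of_isMaximal_of_not_isField hM (hB i).notField)
      obtain ⟨_, hm⟩ := ValuationSubring.mem_nonunits_iff_exists_mem_maximalIdeal.mp (hMV ⟨z, hz, rfl⟩)
      exact (IsLocalRing.mem_maximalIdeal _).mp hm (isUnit_iff_exists_inv.mpr
        ⟨⟨(z : K)⁻¹, trivial⟩, Subtype.ext (mul_inv_cancel₀ (fun h0 => hz0 (Subtype.ext h0)))⟩)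
    refine key i V hV hne ?_
    rw [inv_inv, hy0]
    exact V.zero_mem
  · have hdvd : n i ∣ ∏ j, n j := Finset.dvd_prod_of_mem n (Finset.mem_univ i)
    have he : ((b i ^ ((∏ j, n j) / n i) : B i) : K) = ((y : K) ^ ∏ j, n j)⁻¹ := by
      rw [SubmonoidClass.coe_pow, hbw, ← pow_mul, Nat.mul_div_cancel' hdvd, inv_pow]
    refine ⟨he ▸ (b i ^ ((∏ j, n j) / n i)).2, ?_⟩
    rw [show (⟨_, _⟩ : B i) = b i ^ ((∏ j, n j) / n i) from Subtype.ext he.symm]
    exact Ideal.pow_mem_of_mem _ (hb i) _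
      (Nat.div_pos (Nat.le_of_dvd (Finset.prod_pos fun j _ => hn j) hdvd) (hn i))

end Groth.Agent.S1640
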