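import Groth.Statements.S16400
import Mathlib

set_option autoImplicit false
universe u v
open CAlgX

namespace Groth.Agent.S16400

/-- Some rows of an injective matrix form a bijective one. -/
theorem exists_rows {K : Type*} [Field K] {N C : Type*} [Fintype N] [DecidableEq N] [Fintype C]
    (M : Matrix N C K) (hM : Function.Injective M.mulVecLin) :
    ∃ S : Finset N, Function.Bijective (M.submatrix (Subtype.val : ↥S → N) id).mulVecLin := by
  classical
  obtain ⟨b, hb, hspan, hli⟩ := exists_linearIndependent K (Set.range M.row)
  choose p hp using fun v : b => hb v.2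
  haveI : Fintype b := ((Set.finite_range M.row).subset hb).fintype
  have htop : Submodule.span K (Set.range M.row) = ⊤ := by
    by_contra hne
    obtain ⟨φ, hφ0, hφ⟩ := Submodule.exists_dual_map_eq_bot_of_lt_top (lt_top_iff_ne_top.2 hne) inferInstance
    let x : C → K := fun c => φ (Pi.single c 1)
    have hx : ∀ v, φ v = ∑ c, v c * x c := fun v => by
      conv_lhs => rw [pi_eq_sum_univ' v, map_sum]
      exact Finset.sum_congr rfl fun c _ => by rw [map_smul, smul_eq_mul]
    have : x = 0 := hM (by
      rw [map_zero]
      funext i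
      show ∑ c, M i c * x c = 0
      rw [← hx]
      exact (Submodule.mem_bot K).1 (hφ ▸ Submodule.mem_map_of_mem (Submodule.subset_span ⟨i, rfl⟩)))
    exact hφ0 (LinearMap.ext fun v => by simp [hx, this])
  let S : Finset N := Finset.univ.image p
  refine ⟨S, ?_⟩
  have hinj : Function.Injective (M.submatrix (Subtype.val : ↥S → N) id).mulVecLin := by
    rw [injective_iff_map_eq_zero]
    intro x hx
    refine hM (Eq.trans (funext fun i => ?_) (map_zero _).symm)
    show M.row i ⬝ᵥ x = 0
    have hi : M.row i ∈ Submodule.span K b := hspan.ge (Submodule.subset_span ⟨i, rfl⟩)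
    generalize M.row i = w at hi ⊢
    induction hi using Submodule.span_induction with
    | mem v hv =>
      rw [show v = M.row (p ⟨v, hv⟩) from (hp ⟨v, hv⟩).symm]
      exact congrFun hx ⟨p ⟨v, hv⟩, Finset.mem_image_of_mem _ (Finset.mem_univ _)⟩
    | zero => exact zero_dotProduct _
    | add a c _ _ ha hc => rw [add_dotProduct, ha, hc, add_zero]
    | smul r a _ ha => rw [smul_dotProduct, ha, smul_zero]
  refine ⟨hinj, ?_⟩
  refine (LinearMap.injective_iff_surjective_of_finrank_eq_finrank ?_).1 hinj
  have hpinj : Function.Injective p := fun v w h => Subtype.ext (by rw [← hp v, ← hp w, h])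
  rw [Module.finrank_fintype_fun_eq_card, Module.finrank_fintype_fun_eq_card, Fintype.card_coe,
    Finset.card_image_of_injective _ hpinj, Finset.card_univ,
    ← Module.finrank_fintype_fun_eq_card (R := K) (η := C), ← finrank_top, ← htop, ← hspan,
    finrank_span_set_eq_card hli, Set.toFinset_card]



/-- Let K be a field, N a finite index set and A a square matrix over K indexed by N whose linear map on
column vectors has kernel equal to its range (so A composed with A is zero and the three-term
sequence it defines is exact in the middle). Then there are subsets N₁₂, N₂₁, N₃₁ of N such that the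
block of A with rows in N₃₁ and columns in N₂₁, and the block of A with rows outside N₂₁ and columns
in N₁₂, both act bijectively on column vectors. (In the original setting K is the prime field and
middle exactness is supplied by the Cartier isomorphism; here exactness is the hypothesis and K is
any field.) -/
theorem result
    {K : Type u} [Field K] {N : Type v} [Fintype N] [DecidableEq N]
    (A : Matrix N N K)
    (hA : LinearMap.ker A.mulVecLin = LinearMap.range A.mulVecLin) :
    ∃ N₁₂ N₂₁ N₃₁ : Finset N,
      Function.Bijective (A.submatrix (Subtype.val : ↥N₃₁ → N) (Subtype.val : ↥N₂₁ → N)).mulVecLin ∧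
      Function.Bijective
        (A.submatrix (Subtype.val : {x : N // x ∉ N₂₁} → N) (Subtype.val : ↥N₁₂ → N)).mulVecLin := by
  classical
  obtain ⟨b, hb, hspan, hli⟩ := exists_linearIndependent K (Set.range A.col)
  choose p hp using fun v : b => hb v.2
  haveI : Fintype b := ((Set.finite_range A.col).subset hb).fintype
  let J : Finset N := Finset.univ.image p
  have hJinj : Function.Injective (A.submatrix id (Subtype.val : ↥J → N)).mulVecLin := by
    refine (Matrix.mulVec_injective_iff (M := A.submatrix id (Subtype.val : ↥J → N))).2 ?_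
    have : ∀ j : ↥J, A.col j.1 ∈ b := fun j => by
      obtain ⟨v, -, hv⟩ := Finset.mem_image.1 j.2
      rw [← hv, hp]; exact v.2
    have h2 := hli.comp (fun j : ↥J => (⟨A.col j.1, this j⟩ : b)) (fun i j hij => by
      obtain ⟨v, -, hv⟩ := Finset.mem_image.1 i.2
      obtain ⟨w, -, hw⟩ := Finset.mem_image.1 j.2
      have : A.col i.1 = A.col j.1 := congrArg Subtype.val hij
      rw [← hv, ← hw, hp, hp] at this
      exact Subtype.ext (by rw [← hv, ← hw, Subtype.ext this]))
    exact h2
  have hrange : ∀ y ∈ LinearMap.range A.mulVecLin,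
      ∃ c, (A.submatrix id (Subtype.val : ↥J → N)).mulVecLin c = y := by
    intro y hy
    rw [Matrix.range_mulVecLin, ← hspan] at hy
    suffices Submodule.span K b ≤ LinearMap.range (A.submatrix id (Subtype.val : ↥J → N)).mulVecLin from
      this hy
    refine Submodule.span_le.2 fun v hv => ?_
    refine ⟨Pi.single ⟨p ⟨v, hv⟩, Finset.mem_image_of_mem _ (Finset.mem_univ _)⟩ 1, ?_⟩
    rw [Matrix.mulVecLin_apply, Matrix.mulVec_single_one]
    exact hp ⟨v, hv⟩
  obtain ⟨R2, hR2⟩ := exists_rows (A.submatrix id (Subtype.val : ↥J → N)) hJinj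
  have hcol : Function.Injective (A.submatrix id (Subtype.val : ↥(R2ᶜ : Finset N) → N)).mulVecLin := by
    rw [injective_iff_map_eq_zero]
    intro x hx
    let z : N → K := fun i => if h : i ∈ R2ᶜ then x ⟨i, h⟩ else 0
    have hz : z ∈ LinearMap.ker A.mulVecLin := by
      rw [LinearMap.mem_ker, Matrix.mulVecLin_apply]
      funext i
      show ∑ j, A i j * z j = 0
      rw [← Finset.sum_subset (Finset.subset_univ R2ᶜ) (fun j _ hj => by simp only [z, dif_neg hj, mul_zero]),
        ← Finset.sum_coe_sort]
      refine Eq.trans (Finset.sum_congr rfl fun j _ => ?_) (congrFun hx i)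
      simp only [z, dif_pos j.2]
      rfl
    obtain ⟨c, hc⟩ := hrange z (hA ▸ hz)
    have h0 : c = 0 := hR2.1 (by
      rw [map_zero]
      funext i
      show (A.submatrix id (Subtype.val : ↥J → N)).mulVecLin c i.1 = 0
      rw [hc]
      exact dif_neg (by simp [i.2]))
    funext j
    have := congrFun hc j.1
    rw [h0, map_zero, Pi.zero_apply] at this
    simp only [z, dif_pos j.2] at this
    exact this.symm
  obtain ⟨R3, hR3⟩ := exists_rows (A.submatrix id (Subtype.val : ↥(R2ᶜ : Finset N) → N)) hcol
  refine ⟨J, R2ᶜ, R3, hR3, fun x y h => hR2.1 (funext fun i => ?_), fun y => ?_⟩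
  · exact congrFun h ⟨i.1, by simp [i.2]⟩
  · obtain ⟨x, hx⟩ := hR2.2 fun i => y ⟨i.1, by simp [i.2]⟩
    exact ⟨x, funext fun i => congrFun hx ⟨i.1, by simpa using i.2⟩⟩

end Groth.Agent.S16400
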