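import Groth.Statements.S16401
import Mathlib


set_option autoImplicit false
universe u v
open CAlgX

namespace Groth.Agent.S16401

lemma det_mem {R : Type u} [CommRing R] {ι : Type v} [AddCommGroup ι]
    (E : ι → AddSubgroup R) (h0 : E 0 = ⊤)
    (hmul : ∀ a b : ι, ∀ x ∈ E a, ∀ y ∈ E b, x * y ∈ E (a + b))
    {r : ℕ} (M : Matrix (Fin r) (Fin r) R) (a b : Fin r → ι) (hM : ∀ i j, M i j ∈ E (b i - a j)) :
    M.det ∈ E (∑ i, b i - ∑ j, a j) := by
  rw [Matrix.det_apply]
  refine AddSubgroup.sum_mem _ fun σ _ => ?_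
  rw [Units.smul_def]
  refine zsmul_mem ?_ _
  rw [← Equiv.sum_comp σ b, ← Finset.sum_sub_distrib]
  induction (Finset.univ : Finset (Fin r)) using Finset.induction with
  | empty => simp [h0]
  | insert k s hk ih =>
    rw [Finset.prod_insert hk, Finset.sum_insert hk]
    exact hmul _ _ _ (hM (σ k) k) _ ih


/-- Let R be a commutative ring and (E_a), a ∈ ι, a family of additive subgroups of R indexed by an
additive commutative group ι, with E_0 = R and E_a · E_b ⊆ E_{a+b}. Let β, γ : Fin r → ι be weight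
vectors with Σ_j β_j = Σ_i γ_i, and let ϑ be an r × r matrix over R with ϑ_{ij} ∈ E_{γ_i − β_j} for
all i, j and with unit determinant. Then a column vector u satisfies u_j ∈ E_{β_j} for every j if
and only if (ϑ u)_i ∈ E_{γ_i} for every i; since ϑ is invertible this says that ϑ maps the box Π_j
E_{β_j} bijectively onto the box Π_i E_{γ_i}. -/
theorem result
    {R : Type u} [CommRing R] {ι : Type v} [AddCommGroup ι]
    (E : ι → AddSubgroup R) (h0 : E 0 = ⊤)
    (hmul : ∀ a b : ι, ∀ x ∈ E a, ∀ y ∈ E b, x * y ∈ E (a + b))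
    {r : ℕ} (wβ wγ : Fin r → ι) (hsum : ∑ j, wβ j = ∑ i, wγ i)
    (ϑ : Matrix (Fin r) (Fin r) R) (hϑ : ∀ i j, ϑ i j ∈ E (wγ i - wβ j))
    (hdet : IsUnit ϑ.det) (u : Fin r → R) :
    (∀ j, u j ∈ E (wβ j)) ↔ ∀ i, ϑ.mulVec u i ∈ E (wγ i) := by
  have fwd : ∀ (A : Matrix (Fin r) (Fin r) R) (a b : Fin r → ι), (∀ i j, A i j ∈ E (b i - a j)) →
      ∀ v : Fin r → R, (∀ j, v j ∈ E (a j)) → ∀ i, A.mulVec v i ∈ E (b i) := by
    intro A a b hA v hv i
    show ∑ j, A i j * v j ∈ E (b i)
    refine AddSubgroup.sum_mem _ fun j _ => ?_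
    have := hmul _ _ _ (hA i j) _ (hv j)
    rwa [sub_add_cancel] at this
  refine ⟨fwd ϑ wβ wγ hϑ u, fun h => ?_⟩
  have hinv : ∀ j i, (ϑ⁻¹ : Matrix (Fin r) (Fin r) R) j i ∈ E (wβ j - wγ i) := by
    intro j i
    have h1 : Ring.inverse ϑ.det ∈ E 0 := h0 ▸ AddSubgroup.mem_top _
    have h2 : ϑ.adjugate j i ∈ E (wβ j - wγ i) := by
      rw [Matrix.adjugate_apply]
      have := det_mem E h0 hmul (ϑ.updateRow i (Pi.single j (1 : R))) wβ
        (Function.update wγ i (wβ j)) (fun k l => ?_)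
      · rwa [Finset.sum_update_of_mem (Finset.mem_univ i), hsum,
          show wβ j + ∑ k ∈ Finset.univ \ {i}, wγ k - ∑ k, wγ k = wβ j - wγ i from ?_] at this
        rw [Finset.sdiff_singleton_eq_erase, ← Finset.add_sum_erase _ wγ (Finset.mem_univ i)]
        abel
      · by_cases hk : k = i
        · subst hk
          rw [Matrix.updateRow_self, Function.update_self]
          by_cases hl : l = j
          · subst hl
            rw [sub_self, h0]; exact AddSubgroup.mem_top (1 : R) |> fun h => by simpa using h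
          · rw [Pi.single_eq_of_ne hl]; exact zero_mem _
        · rw [Matrix.updateRow_ne hk, Function.update_of_ne hk]
          exact hϑ k l
    have := hmul _ _ _ h1 _ h2
    rw [zero_add] at this
    rwa [Matrix.inv_def, Matrix.smul_apply, smul_eq_mul]
  have := fwd ϑ⁻¹ wγ wβ hinv _ h
  rwa [Matrix.mulVec_mulVec, Matrix.nonsing_inv_mul _ hdet, Matrix.one_mulVec] at this

end Groth.Agent.S16401
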