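import Groth.Statements.S16402
import Groth.Agent.Lib.SymBasis7.Basic

set_option autoImplicit false
open SymBasis

namespace Groth.Agent.S16402

/-- For n ≥ 2, the polynomial ring ℤ[t_1, …, t_n] is a free module of rank n! over ℤ[c_1, …, c_n] acting
through c_i ↦ e_i(t), the i-th elementary symmetric polynomial in the t_j, and the monomials
t_1^{d_1} ⋯ t_n^{d_n} with 0 ≤ d_i ≤ n − i form a basis: every polynomial is in exactly one way a
sum Σ_d f(p_d) · t^d with p_d ∈ ℤ[c_1, …, c_n], f the substitution c_i ↦ e_i(t). The published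
statement is phrased for the Chow ring of the classifying stack of the diagonal torus as a module
over that of the classifying stack of GL_n, identified with ℤ[t_1, …, t_n] ⊇ ℤ[c_1, …, c_n] in this
way. -/
theorem result (n : ℕ) (hn : 2 ≤ n) :
    Function.Bijective (fun p : (Π i : Fin n, Fin (n - (i : ℕ))) → MvPolynomial (Fin n) ℤ =>
      ∑ d : (Π i : Fin n, Fin (n - (i : ℕ))),
        (MvPolynomial.aeval (fun i : Fin n => MvPolynomial.esymm (Fin n) ℤ ((i : ℕ) + 1))) (p d) *
          ∏ i : Fin n, MvPolynomial.X i ^ ((d i : ℕ))) := by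
  exact GrothLib.SymBasis7.basis_over_esymm (R := ℤ) n

end Groth.Agent.S16402
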