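import Groth.Statements.S16405
import Mathlib

set_option autoImplicit false
universe u v
open InvQ

namespace Groth.Agent.S16405

/-- In weight form. Let b : L → ℤ^r be an injective homomorphism of abelian groups (the case in view: L
the character group of a maximal torus T of a semisimple group over ℂ and b the map dual to the
surjection of the rank-r split torus T' onto T that sends the i-th coordinate cocharacter to the
primitive generator of the i-th ray of the Weyl chamber; only the injectivity of b is used, and ℂ is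
replaced by any commutative ring k). Grade the monoid algebra k[L × ℕ^r] (the coordinate ring of T ×
𝔸^r) by ℤ^r, the monomial (w, n) having weight b(w) + n (the weights of the T'-action u·(t, v) =
(b^∨(u) t, u v)), and grade k[ℕ^r] by ℤ^r/b(L), the monomial n having weight the class of n (the
weights of the action on 𝔸^r of the diagonalizable kernel Z of T' → T, a finite group in the case in
view). For a diagonalizable group acting on an affine scheme the ring of invariants is the
weight-zero part, so the two weight-zero parts are the coordinate rings of the quotients (T ×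
𝔸^r)//T' and 𝔸^r//Z. The statement: the algebra map k[L × ℕ^r] → k[ℕ^r] induced by the projection L
× ℕ^r → ℕ^r (restriction to the slice 1 × 𝔸^r) maps the weight-zero part of k[L × ℕ^r] bijectively
onto the weight-zero part of k[ℕ^r]; hence it induces an isomorphism of k-algebras between them. -/
theorem result
    (k : Type u) [CommRing k] (r : ℕ) (L : Type v) [AddCommGroup L]
    (b : L →+ (Fin r → ℤ)) (hb : Function.Injective b) :
    Set.BijOn
      (AddMonoidAlgebra.mapDomainAlgHom k k (AddMonoidHom.snd L (Fin r → ℕ)))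
      (AddMonoidAlgebra.gradeBy k
        (b.comp (AddMonoidHom.fst L (Fin r → ℕ)) +
          (AddMonoidHom.compLeft (Nat.castAddMonoidHom ℤ) (Fin r)).comp (AddMonoidHom.snd L (Fin r → ℕ))) 0 :
        Set (AddMonoidAlgebra k (L × (Fin r → ℕ))))
      (AddMonoidAlgebra.gradeBy k
        ((QuotientAddGroup.mk' b.range).comp (AddMonoidHom.compLeft (Nat.castAddMonoidHom ℤ) (Fin r))) 0 :
        Set (AddMonoidAlgebra k (Fin r → ℕ))) := by
  classical
  set φ : (Fin r → ℕ) →+ (Fin r → ℤ) := AddMonoidHom.compLeft (Nat.castAddMonoidHom ℤ) (Fin r) with hφ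
  set deg : L × (Fin r → ℕ) → (Fin r → ℤ) := fun m => b m.1 + φ m.2 with hdeg
  have hmem1 : ∀ x : AddMonoidAlgebra k (L × (Fin r → ℕ)),
      x ∈ (AddMonoidAlgebra.gradeBy k
        (b.comp (AddMonoidHom.fst L (Fin r → ℕ)) + φ.comp (AddMonoidHom.snd L (Fin r → ℕ))) 0) ↔
      ∀ m ∈ x.coeff.support, deg m = 0 := fun x => Iff.rfl
  have hmem2 : ∀ y : AddMonoidAlgebra k (Fin r → ℕ),
      y ∈ (AddMonoidAlgebra.gradeBy k ((QuotientAddGroup.mk' b.range).comp φ) 0) ↔
      ∀ n ∈ y.coeff.support, φ n ∈ b.range := fun y =>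
    ⟨fun h n hn => (QuotientAddGroup.eq_zero_iff _).1 (h n hn), fun h n hn => (QuotientAddGroup.eq_zero_iff _).2 (h n hn)⟩
  have hsnd : Set.InjOn (Prod.snd : L × (Fin r → ℕ) → _) {m | deg m = 0} := by
    rintro ⟨a, n⟩ (h : b a + φ n = 0) ⟨a', n'⟩ (h' : b a' + φ n' = 0) (rfl : n = n')
    rw [hb (add_right_cancel (h.trans h'.symm))]
  have hmap : ∀ x : AddMonoidAlgebra k (L × (Fin r → ℕ)),
      (AddMonoidAlgebra.mapDomainAlgHom k k (AddMonoidHom.snd L (Fin r → ℕ)) x).coeff =
        Finsupp.mapDomain Prod.snd x.coeff := fun x => rfl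
  refine ⟨fun x hx => ?_, fun x hx y hy hxy => ?_, fun y hy => ?_⟩
  · refine (hmem2 _).2 fun n hn => ?_
    rw [hmap] at hn
    obtain ⟨m, hm, rfl⟩ := Finset.mem_image.1 (Finsupp.mapDomain_support hn)
    exact ⟨-m.1, by rw [map_neg, neg_eq_iff_add_eq_zero]; exact (hmem1 x).1 hx m hm⟩
  · refine AddMonoidAlgebra.coeff_inj.1 ?_
    have := congrArg AddMonoidAlgebra.coeff hxy
    rw [hmap, hmap] at this
    exact Finsupp.mapDomain_injOn _ hsnd ((hmem1 x).1 hx) ((hmem1 y).1 hy) this
  · have hy' := (hmem2 y).1 hy
    let w : (Fin r → ℕ) → L × (Fin r → ℕ) := fun n =>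
      (if h : φ n ∈ b.range then -(Classical.choose h) else 0, n)
    refine ⟨AddMonoidAlgebra.ofCoeff (Finsupp.mapDomain w y.coeff), (hmem1 _).2 fun m hm => ?_, ?_⟩
    · obtain ⟨n, hn, rfl⟩ := Finset.mem_image.1 (Finsupp.mapDomain_support hm)
      simp only [hdeg, w, dif_pos (hy' n hn), map_neg, Classical.choose_spec (hy' n hn)]
      exact neg_add_cancel _
    · refine AddMonoidAlgebra.coeff_inj.1 ?_
      rw [hmap]
      change Finsupp.mapDomain Prod.snd (Finsupp.mapDomain w y.coeff) = _
      rw [← Finsupp.mapDomain_comp]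
      exact Finsupp.mapDomain_id

end Groth.Agent.S16405
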