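import Groth.Statements.S16407
import Groth.Agent.Lib.TriCat.MVSquare

set_option autoImplicit false
universe v u
open CategoryTheory CategoryTheory.Limits CategoryTheory.Pretriangulated
open W4c3perfectstacks W4c3perfectstacks.MVSq

namespace Groth.Agent.S16407

/-- The Mayer–Vietoris triangle. In a Mayer–Vietoris square of triangulated categories (single-square
form: triangulated pullbacks with right adjoints, fully faithful j_*-type pushforwards, invertible
base-change and exchange maps, and the pullback along X' → X restricting to an equivalence between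
the kernels of the two open restrictions), for every object N of the category attached to X there is
exactly one morphism d making N ⟶ j_* j^* N ⊞ f_* f^* N ⟶ f_* f^* j_* j^* N ⟶ N⟦1⟧ distinguished,
where the first map has the two units as components and the second is (unit of f at j_* j^* N, minus
f_* f^* of the unit of j). (The four categories are taken in common universes.) -/
theorem result
    (S S' R R' : Type u) [Category.{v} S] [Category.{v} S'] [Category.{v} R] [Category.{v} R']
    [Preadditive S] [Preadditive S'] [Preadditive R] [Preadditive R']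
    [HasZeroObject S] [HasZeroObject S'] [HasZeroObject R] [HasZeroObject R']
    [HasShift S ℤ] [HasShift S' ℤ] [HasShift R ℤ] [HasShift R' ℤ]
    [∀ n : ℤ, (shiftFunctor S n).Additive] [∀ n : ℤ, (shiftFunctor S' n).Additive]
    [∀ n : ℤ, (shiftFunctor R n).Additive] [∀ n : ℤ, (shiftFunctor R' n).Additive]
    [Pretriangulated S] [Pretriangulated S'] [Pretriangulated R] [Pretriangulated R']
    [IsTriangulated S] [IsTriangulated S'] [IsTriangulated R] [IsTriangulated R']
    (q : W4c3perfectstacks.MVSq S S' R R')
    [q.jst.CommShift ℤ] [q.fst.CommShift ℤ] [q.jpst.CommShift ℤ] [q.gst.CommShift ℤ]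
    [q.jst.IsTriangulated] [q.fst.IsTriangulated] [q.jpst.IsTriangulated] [q.gst.IsTriangulated]
    (hq : q.IsMV) (N : S) :
    ∃! d : q.fls.obj (q.fst.obj (q.jls.obj (q.jst.obj N))) ⟶ N⟦(1 : ℤ)⟧,
      Triangle.mk (biprod.lift (q.adjJ.unit.app N) (q.adjF.unit.app N))
        (biprod.desc (q.adjF.unit.app (q.jls.obj (q.jst.obj N)))
          (-(q.fls.map (q.fst.map (q.adjJ.unit.app N))))) d ∈ distTriang S := by
  obtain ⟨d, hd⟩ := GrothLib.MV.exists_triangle q hq N
  refine ⟨d, hd, fun d' hd' => ?_⟩
  have h := GrothLib.MV.naturality q hq (𝟙 N) hd' hd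
  simpa using h

end Groth.Agent.S16407
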