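import Groth.Statements.S1641
import Groth.Agent.Lib.Snapper.Degree

set_option autoImplicit false
universe u
open CategoryTheory CategoryTheory.Limits AlgebraicGeometry
open Variety

namespace Groth.Agent.S1641

/-- Let X be proper of dimension at most one over k and E finite locally free of rank n. Then deg E is
the sum, over the irreducible components C of X of dimension one with their reduced induced
structure, of m_C · deg(E|_C), where m_C is the length of the local ring of X at the generic point
of C. -/
theorem result (k : Type u) [Field k] (X : Scheme.{u}) [X.Over (Spec (CommRingCat.of k))] [IsProper (X ↘ (Spec (CommRingCat.of k)))] [IsNoetherian X] (hdim : topologicalKrullDim X ≤ 1)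
    (n : ℕ) (E : X.Modules) (hE : FlatMod.IsFinLocFreeOfRank n E) :
    Curv2.deg k X E n = ∑ᶠ Z : irreducibleComponents (X : Type u),
      (if topologicalKrullDim (Z.1 : Set X) = 1 then
        ((Module.length (X.presheaf.stalk Z.2.1.genericPoint) (X.presheaf.stalk Z.2.1.genericPoint)).toNat : ℤ) *
          @Curv2.deg k _ (X.irreducibleComponentIdeal Z.1 Z.2).radical.subscheme ⟨(X.irreducibleComponentIdeal Z.1 Z.2).radical.subschemeι ≫ (X ↘ (Spec (CommRingCat.of k)))⟩ ((Scheme.Modules.pullback (X.irreducibleComponentIdeal Z.1 Z.2).radical.subschemeι).obj E) n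
      else 0) := by
  classical
  have hu : GrothLib.Snapper.DimLT (Set.univ : Set X) (1 + 1) := GrothLib.Snapper.dimLT_of_dim_le
    ((IsHomeomorph.topologicalKrullDim_eq _ (Homeomorph.Set.univ X).isHomeomorph).le.trans (by exact_mod_cast hdim))
  have hlf := GrothLib.FinCov.isFinLocFree_of_rank hE
  rw [GrothLib.Snapper.deg_eq_finsum k hdim hE]
  let f : X → ℤ := GrothLib.Snapper.topTerm (GrothLib.Snapper.degFun k E n) 1 (Coh.structureModule X)
  have hf : ∀ x : X, x ∉ genericPoints (X : Type u) → f x = 0 := by
    intro x hx
    simp only [f, GrothLib.Snapper.topTerm]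
    rw [if_neg fun ht => hx ?_]
    obtain ⟨η, hη, hηx⟩ : ∃ η ∈ genericPoints (X : Type u), η ⤳ x :=
      ⟨_, (genericPoints.ofComponent ⟨_, irreducibleComponent_mem_irreducibleComponents x⟩).2,
        (genericPoints.isGenericPoint_ofComponent _).specializes mem_irreducibleComponent⟩
    exact ht.eq_of_specializes hηx (hu.mono (Set.subset_univ _)) ▸ hη
  show ∑ᶠ x : X, f x = _
  calc ∑ᶠ x : X, f x = ∑ᶠ x ∈ genericPoints (X : Type u), f x := by
        refine finsum_congr fun x => ?_
        by_cases hx : x ∈ genericPoints (X : Type u)
        · rw [finsum_eq_if, if_pos hx]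
        · rw [finsum_eq_if, if_neg hx, hf x hx]
    _ = ∑ᶠ x : genericPoints (X : Type u), f x.1 := (finsum_set_coe_eq_finsum_mem _).symm
    _ = ∑ᶠ Z : irreducibleComponents (X : Type u), f (genericPoints.ofComponent Z).1 :=
        (finsum_comp_equiv (genericPoints.equiv (α := (X : Type u))).symm).symm
    _ = _ := by
        refine finsum_congr fun Z => ?_
        obtain ⟨C, hC⟩ := Z
        have hcl : closure ({(genericPoints.ofComponent (⟨C, hC⟩ : irreducibleComponents (X : Type u))).1} : Set X) = C :=
          (genericPoints.isGenericPoint_ofComponent (⟨C, hC⟩ : irreducibleComponents (X : Type u))).def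
        have hI : Scheme.IdealSheafData.vanishingIdeal
              (⟨closure ({(genericPoints.ofComponent (⟨C, hC⟩ : irreducibleComponents (X : Type u))).1} : Set X),
                isClosed_closure⟩ : TopologicalSpace.Closeds X) =
            (X.irreducibleComponentIdeal C hC).radical := by
          rw [show (X.irreducibleComponentIdeal C hC).radical = Scheme.IdealSheafData.vanishingIdeal
              ⟨C, isClosed_of_mem_irreducibleComponents C hC⟩ from by
            rw [← Scheme.IdealSheafData.vanishingIdeal_support]; rfl]
          exact congrArg _ (TopologicalSpace.Closeds.ext hcl)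
        simp only [f, GrothLib.Snapper.topTerm, GrothLib.Snapper.IsTop]
        by_cases h1 : topologicalKrullDim C = 1
        · rw [if_pos (by rw [hcl]; exact_mod_cast h1), if_pos h1, nsmul_eq_mul, GrothLib.Snapper.mult_structure,
            GrothLib.Snapper.degFun_quotMod k hlf, hI]
          rfl
        · rw [if_neg (by rw [hcl]; exact_mod_cast h1), if_neg h1]

end Groth.Agent.S1641
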