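import Groth.Statements.S16412
import Mathlib.CategoryTheory.Shift.Adjunction

set_option autoImplicit false
universe v u
open CategoryTheory CategoryTheory.Limits CategoryTheory.Pretriangulated
open W4c3perfectstacks W4c3perfectstacks.MVSq

namespace Groth.Agent.S16412

/-- Descent of generation with supports along a morphism with a conservative twisted inverse image, for
one square of triangulated categories attached to X' → X and V → X with V' = X' ×_X V (triangulated
pullbacks with right adjoints and a commutation isomorphism). Assume the base-change map j^* f_* ⟶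
g_* j'^* is invertible, and that f_* has a right adjoint f^× which sends objects killed by j^* to
objects killed by j'^* and reflects zero objects. If a family B' of objects over X' killed by j'^*
generates the kernel of j'^* (an object of that kernel receiving only zero maps from all shifts of
all members is zero), then each f_* B'_b is killed by j^* and the family f_* B' generates the kernel
of j^* in the same sense. (The published statement also asserts that the f_* B'_b are compact; there
this is a standing hypothesis that f_* preserves compact objects, so it is not restated here. The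
four categories are taken in common universes.) -/
theorem result
    (S S' R R' : Type u) [Category.{v} S] [Category.{v} S'] [Category.{v} R] [Category.{v} R']
    [Preadditive S] [Preadditive S'] [Preadditive R] [Preadditive R']
    [HasZeroObject S] [HasZeroObject S'] [HasZeroObject R] [HasZeroObject R']
    [HasShift S ℤ] [HasShift S' ℤ] [HasShift R ℤ] [HasShift R' ℤ]
    [∀ n : ℤ, (shiftFunctor S n).Additive] [∀ n : ℤ, (shiftFunctor S' n).Additive]
    [∀ n : ℤ, (shiftFunctor R n).Additive] [∀ n : ℤ, (shiftFunctor R' n).Additive]
    [Pretriangulated S] [Pretriangulated S'] [Pretriangulated R] [Pretriangulated R']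
    [IsTriangulated S] [IsTriangulated S'] [IsTriangulated R] [IsTriangulated R']
    (q : W4c3perfectstacks.MVSq S S' R R')
    [q.jst.CommShift ℤ] [q.fst.CommShift ℤ] [q.jpst.CommShift ℤ] [q.gst.CommShift ℤ]
    [q.jst.IsTriangulated] [q.fst.IsTriangulated] [q.jpst.IsTriangulated] [q.gst.IsTriangulated]
    (hbc : ∀ M : S', IsIso (q.bcApp M))
    (fuc : S ⥤ S') (adjX : q.fls ⊣ fuc)
    (hX : ∀ N : S, IsZero (q.jst.obj N) → IsZero (q.jpst.obj (fuc.obj N)))
    (hcons : ∀ N : S, IsZero (fuc.obj N) → IsZero N)
    {ι : Type v} (B' : ι → S') (hB'ker : ∀ b, IsZero (q.jpst.obj (B' b)))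
    (hB'gen : ∀ M : S', IsZero (q.jpst.obj M) →
      (∀ (b : ι) (n : ℤ) (g : (B' b)⟦n⟧ ⟶ M), g = 0) → IsZero M) :
    (∀ b, IsZero (q.jst.obj (q.fls.obj (B' b)))) ∧
      ∀ N : S, IsZero (q.jst.obj N) →
        (∀ (b : ι) (n : ℤ) (g : (q.fls.obj (B' b))⟦n⟧ ⟶ N), g = 0) → IsZero N := by
  refine ⟨fun b => ?_, fun N hN h => ?_⟩
  · haveI := hbc (B' b)
    refine IsZero.of_iso ?_ (asIso (q.bcApp (B' b)))
    haveI : q.gls.IsRightAdjoint := ⟨_, ⟨q.adjG⟩⟩
    refine IsZero.of_iso (isZero_zero R) (IsTerminal.uniqueUpToIso
      (IsTerminal.isTerminalObj q.gls _ (hB'ker b).isTerminal) HasZeroObject.zeroIsTerminal)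
  · refine hcons N (hB'gen _ (hX N hN) fun b n g => ?_)
    letI : q.fls.CommShift ℤ := q.adjF.rightAdjointCommShift ℤ
    have h0 := h b n (((q.fls.commShiftIso n).app (B' b)).inv ≫ (adjX.homEquiv _ _).symm g)
    have h1 : (adjX.homEquiv _ _).symm g = 0 := by
      rw [← cancel_epi ((q.fls.commShiftIso n).app (B' b)).inv, h0, comp_zero]
    haveI : fuc.IsRightAdjoint := ⟨_, ⟨adjX⟩⟩
    have : g = adjX.homEquiv _ _ 0 := ((adjX.homEquiv _ _).apply_symm_apply g).symm.trans (congrArg _ h1)
    rw [this, adjX.homEquiv_unit, Functor.map_zero, comp_zero]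

end Groth.Agent.S16412
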