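import Groth.Statements.S16414
import Mathlib.Tactic.Linarith
import Mathlib.Tactic.Positivity


set_option autoImplicit false
open Dieud

namespace Groth.Agent.S16414

/-- Let μ be a rational number with 0 < μ ≤ 1 and i an integer, and put f(i,j) = max(−i−j, −j, 0) for
integers j. Then min over all integers j of f(i,j) + jμ exists and equals max(−iμ, 0). -/
theorem result (μ : ℚ) (hμ0 : 0 < μ) (hμ1 : μ ≤ 1) (i : ℤ) :
    IsLeast (Set.range fun j : ℤ => ((max (max (-i - j) (-j)) 0 : ℤ) : ℚ) + (j : ℚ) * μ)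
      (max (-(i : ℚ) * μ) 0) := by
  have key : ∀ j : ℤ, max (-(i : ℚ) * μ) 0 ≤ ((max (max (-i - j) (-j)) 0 : ℤ) : ℚ) + (j : ℚ) * μ := by
    intro j
    have h1 : (-i - j : ℤ) ≤ max (max (-i - j) (-j)) 0 := le_trans (le_max_left _ _) (le_max_left _ _)
    have h2 : (-j : ℤ) ≤ max (max (-i - j) (-j)) 0 := le_trans (le_max_right _ _) (le_max_left _ _)
    have h3 : (0 : ℤ) ≤ max (max (-i - j) (-j)) 0 := le_max_right _ _
    have h1' : ((-i - j : ℤ) : ℚ) ≤ ((max (max (-i - j) (-j)) 0 : ℤ) : ℚ) := Int.cast_le.2 h1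
    have h2' : ((-j : ℤ) : ℚ) ≤ ((max (max (-i - j) (-j)) 0 : ℤ) : ℚ) := Int.cast_le.2 h2
    have h3' : ((0 : ℤ) : ℚ) ≤ ((max (max (-i - j) (-j)) 0 : ℤ) : ℚ) := Int.cast_le.2 h3
    generalize ((max (max (-i - j) (-j)) 0 : ℤ) : ℚ) = M at h1' h2' h3' ⊢
    push_cast at h1' h2' h3'
    refine max_le ?_ ?_ <;> nlinarith
  refine ⟨⟨max (-i) 0, ?_⟩, ?_⟩
  · simp only
    rw [show max (max (-i - max (-i) 0) (-max (-i) 0)) 0 = (0 : ℤ) by omega]
    push_cast
    rw [zero_add, max_mul_of_nonneg _ _ hμ0.le, zero_mul]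
  · rintro _ ⟨j, rfl⟩
    exact key j

end Groth.Agent.S16414
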