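import Groth.Statements.S16415


set_option autoImplicit false
open Dieud

namespace Groth.Agent.S16415

/-- Let μ be a rational number with 0 < μ ≤ 1, N a natural number and i an integer. The minimum of m +
jμ over all pairs of integers (m, j) with m ≥ max(−i−j, −j, 0) and 2m + i + 2j ≥ N exists and equals
μ · max(⌈(N−i)/2⌉, −i, 0). (The published statement prints the value as max(⌈(N−i)/2⌉, −iμ, 0),
without the factor μ on the first term; the printed argument computes μ · max(⌈(N−i)/2⌉, −i, 0),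
attained at m = 0, and for N = 2, i = 0, μ = 1/2 the pair (m, j) = (0, 1) gives 1/2 < 1, so the
value with the factor μ is stated here.) -/
theorem result (μ : ℚ) (hμ0 : 0 < μ) (hμ1 : μ ≤ 1)
    (N : ℕ) (i : ℤ) :
    IsLeast {x : ℚ | ∃ m j : ℤ, max (max (-i - j) (-j)) 0 ≤ m ∧ (N : ℤ) ≤ 2 * m + i + 2 * j ∧
        x = (m : ℚ) + (j : ℚ) * μ}
      (((max (max ⌈((N : ℚ) - i) / 2⌉ (-i)) 0 : ℤ) : ℚ) * μ) := by
  set c : ℤ := ⌈((N : ℚ) - i) / 2⌉ with hcdef
  set j₀ : ℤ := max (max c (-i)) 0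
  have hc1 : (N : ℤ) - i ≤ 2 * c := by
    have h := Int.le_ceil (((N : ℚ) - i) / 2)
    rw [← hcdef] at h
    have : (((N : ℤ) - i : ℤ) : ℚ) ≤ ((2 * c : ℤ) : ℚ) := by push_cast; linarith
    exact_mod_cast this
  have hc2 : 2 * c ≤ (N : ℤ) - i + 1 := by
    have h := Int.ceil_lt_add_one (((N : ℚ) - i) / 2)
    rw [← hcdef] at h
    have : ((2 * c : ℤ) : ℚ) < (((N : ℤ) - i + 2 : ℤ) : ℚ) := by push_cast; linarith
    have : 2 * c < (N : ℤ) - i + 2 := by exact_mod_cast this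
    omega
  refine ⟨⟨0, j₀, by omega, by omega, by simp⟩, ?_⟩
  rintro x ⟨m, j, h1, h2, rfl⟩
  have h3 : j₀ ≤ m + j := by omega
  have h4 : 0 ≤ m := by omega
  have h3' : (j₀ : ℚ) ≤ m + j := by exact_mod_cast h3
  have h4' : (0 : ℚ) ≤ m := by exact_mod_cast h4
  nlinarith

end Groth.Agent.S16415
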