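import Groth.Statements.S16416
import Mathlib.RingTheory.WittVector.Identities

set_option autoImplicit false
universe u v w
open Dieud

namespace Groth.Agent.S16416

/-- For a prime p and a perfect field k of characteristic p, write W = W(k) for the ring of Witt vectors
and σ for its Frobenius; let M and N be free W-modules of finite rank, each with additive maps F
(σ-semilinear) and V (with V(σ(a)m) = aV(m)) satisfying FV = VF = p, and H = Hom_W(M, N). On H the
operator F acts through h ↦ F ∘ h ∘ V, and V acts partially: V·h is the W-linear map h' with h'(V m)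
= V(h(m)) for all m, when it exists. Let H₁ be the largest W-submodule of H stable under both (it
contains every submodule stable under both). Then H₁ ∩ V·H = V·H₁: if y ∈ H and V·y exists and lies
in H₁, then y ∈ H₁, so that H₁/VH₁ → H/(H ∩ VH) is injective. (The published statement is for the
Cartier modules of two p-divisible formal groups over k, every slope of the first below every slope
of the second; only the structure just listed is used, so connectedness and the slope condition are
not assumed.) -/
theorem result
    (p : ℕ) [Fact p.Prime] (k : Type u) [Field k] [CharP k p] [PerfectRing k p]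
    (M : Type v) [AddCommGroup M] [Module (WittVector p k) M]
    [Module.Free (WittVector p k) M] [Module.Finite (WittVector p k) M]
    (N : Type w) [AddCommGroup N] [Module (WittVector p k) N]
    [Module.Free (WittVector p k) N] [Module.Finite (WittVector p k) N]
    (FM VM : M →+ M) (FN VN : N →+ N)
    (hFM : ∀ (a : WittVector p k) (m : M), FM (a • m) = WittVector.frobenius a • FM m)
    (hVM : ∀ (a : WittVector p k) (m : M), VM (WittVector.frobenius a • m) = a • VM m)
    (hFVM : ∀ m : M, FM (VM m) = (p : WittVector p k) • m)
    (hVFM : ∀ m : M, VM (FM m) = (p : WittVector p k) • m)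
    (hFN : ∀ (a : WittVector p k) (n : N), FN (a • n) = WittVector.frobenius a • FN n)
    (hVN : ∀ (a : WittVector p k) (n : N), VN (WittVector.frobenius a • n) = a • VN n)
    (hFVN : ∀ n : N, FN (VN n) = (p : WittVector p k) • n)
    (hVFN : ∀ n : N, VN (FN n) = (p : WittVector p k) • n)
    (H₁ : Submodule (WittVector p k) (M →ₗ[WittVector p k] N))
    (hF : ∀ h ∈ H₁, ∃ h' ∈ H₁, ∀ m : M, h' m = FN (h (VM m)))
    (hV : ∀ h ∈ H₁, ∃ h' ∈ H₁, ∀ m : M, h' (VM m) = VN (h m))
    (hmax : ∀ S : Submodule (WittVector p k) (M →ₗ[WittVector p k] N),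
      (∀ h ∈ S, ∃ h' ∈ S, ∀ m : M, h' m = FN (h (VM m))) →
      (∀ h ∈ S, ∃ h' ∈ S, ∀ m : M, h' (VM m) = VN (h m)) → S ≤ H₁)
    (y : M →ₗ[WittVector p k] N) (x : M →ₗ[WittVector p k] N) (hx : x ∈ H₁)
    (hxy : ∀ m : M, x (VM m) = VN (y m)) :
    y ∈ H₁ := by
  classical
  obtain ⟨σi, hσi⟩ : ∃ σi : WittVector p k → WittVector p k, ∀ a, WittVector.frobenius (σi a) = a :=
    ⟨_, Function.surjInv_eq (WittVector.frobenius_bijective p k).2⟩
  have hVM' : ∀ (a : WittVector p k) (m : M), VM (a • m) = σi a • VM m := fun a m => by
    conv_lhs => rw [← hσi a]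
    rw [hVM]
  let Fop : (M →ₗ[WittVector p k] N) → (M →ₗ[WittVector p k] N) := fun h =>
    { toFun := fun m => FN (h (VM m))
      map_add' := fun a b => by simp only [map_add]
      map_smul' := fun a m => by rw [hVM', h.map_smul, hFN, hσi, RingHom.id_apply] }
  let G : Set (M →ₗ[WittVector p k] N) := Set.range fun n => Fop^[n] y
  let S : Submodule (WittVector p k) (M →ₗ[WittVector p k] N) := H₁ ⊔ Submodule.span (WittVector p k) G
  have hmem : ∀ n, Fop^[n] y ∈ S := fun n => Submodule.mem_sup_right (Submodule.subset_span ⟨n, rfl⟩)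
  have hS : S ≤ H₁ := by
    refine hmax S ?_ ?_
    · intro h hh
      refine ⟨Fop h, ?_, fun m => rfl⟩
      obtain ⟨h₀, hh₀, g, hg, rfl⟩ := Submodule.mem_sup.1 hh
      have hadd : ∀ u w, Fop (u + w) = Fop u + Fop w := fun u w => LinearMap.ext fun m => by simp [Fop]
      rw [hadd]
      obtain ⟨h', hh', he⟩ := hF h₀ hh₀
      refine Submodule.add_mem _ (Submodule.mem_sup_left ?_) ?_
      · rwa [show Fop h₀ = h' from LinearMap.ext fun m => (he m).symm]
      clear hh
      induction hg using Submodule.span_induction with
      | mem g hg =>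
        obtain ⟨n, rfl⟩ := hg
        have := hmem (n + 1)
        rwa [Function.iterate_succ_apply'] at this
      | zero =>
        rw [show Fop 0 = 0 from LinearMap.ext fun m => by simp [Fop]]
        exact Submodule.zero_mem _
      | add u w hu hw iu iw =>
        rw [hadd]
        exact Submodule.add_mem _ iu iw
      | smul a u hu iu =>
        rw [show Fop (a • u) = WittVector.frobenius a • Fop u from
          LinearMap.ext fun m => by simp [Fop, hFN]]
        exact Submodule.smul_mem _ _ iu
    · intro h hh
      obtain ⟨h₀, hh₀, g, hg, rfl⟩ := Submodule.mem_sup.1 hh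
      obtain ⟨h', hh', he⟩ := hV h₀ hh₀
      suffices hg' : ∃ g' ∈ S, ∀ m, g' (VM m) = VN (g m) by
        obtain ⟨g', hg'S, hg'⟩ := hg'
        exact ⟨h' + g', Submodule.add_mem _ (Submodule.mem_sup_left hh') hg'S, fun m => by
          simp [he, hg']⟩
      clear hh
      induction hg using Submodule.span_induction with
      | mem g hg =>
        obtain ⟨n, rfl⟩ := hg
        cases n with
        | zero => exact ⟨x, Submodule.mem_sup_left hx, fun m => hxy m⟩
        | succ n =>
          refine ⟨(p : WittVector p k) • Fop^[n] y, Submodule.smul_mem _ _ (hmem n), fun m => ?_⟩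
          show _ = VN ((Fop^[n + 1] y) m)
          rw [show Fop^[n + 1] y = Fop (Fop^[n] y) from Function.iterate_succ_apply' _ _ _]
          simp [Fop, hVFN]
      | zero => exact ⟨0, Submodule.zero_mem _, fun m => by simp⟩
      | add u w hu hw iu iw =>
        obtain ⟨u', hu', hu''⟩ := iu
        obtain ⟨w', hw', hw''⟩ := iw
        exact ⟨u' + w', Submodule.add_mem _ hu' hw', fun m => by simp [hu'', hw'']⟩
      | smul a u hu iu =>
        obtain ⟨u', hu', hu''⟩ := iu
        refine ⟨σi a • u', Submodule.smul_mem _ _ hu', fun m => ?_⟩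
        rw [LinearMap.smul_apply, LinearMap.smul_apply, hu'']
        conv_rhs => rw [← hσi a, hVN]
  exact hS (hmem 0)


end Groth.Agent.S16416
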