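import Groth.Statements.S16417
import Mathlib.RingTheory.WittVector.DiscreteValuationRing
import Mathlib.LinearAlgebra.FreeModule.PID
import Mathlib.RingTheory.Length
import Mathlib.RingTheory.SimpleModule.Basic
import Mathlib.RingTheory.PrincipalIdealDomain

set_option autoImplicit false
universe u v w
open Dieud

namespace Groth.Agent.S16417

/-- For a prime p and a perfect field k of characteristic p, write W = W(k) for the ring of Witt vectors
and σ for its Frobenius; let M and N be free W-modules of finite rank, each with additive maps F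
(σ-semilinear) and V (with V(σ(a)m) = aV(m)) satisfying FV = VF = p, and H = Hom_W(M, N); write VM ⊆
M and VN ⊆ N for the images of V. (a) A W-linear h : M → N maps VM into VN if and only if h(V m) =
V(h'(m)) for all m for some W-linear h' : M → N (so the maps with this property form H ∩ V·H). (b)
The natural map from H to the W-linear maps VM → N/VN has image exactly the maps vanishing on pM =
V(FM): every such map is induced by some h ∈ H. (c) The W-length of H/(H ∩ V·H) is r₂ s₁, where r₂
is the length of N/VN and s₁ = rank M − length(M/VM) is the length of VM/pM. (The published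
statement is for the Cartier modules of two p-divisible formal groups over k, every slope of the
first below every slope of the second, and phrases (b), (c) as an isomorphism of H/(H ∩ VH) with
Hom_k(VM/pM, N/VN); only the structure listed is used, so connectedness and the slope condition are
not assumed.) -/
theorem result
    (p : ℕ) [Fact p.Prime] (k : Type u) [Field k] [CharP k p] [PerfectRing k p]
    (M : Type v) [AddCommGroup M] [Module (WittVector p k) M]
    [Module.Free (WittVector p k) M] [Module.Finite (WittVector p k) M]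
    (N : Type w) [AddCommGroup N] [Module (WittVector p k) N]
    [Module.Free (WittVector p k) N] [Module.Finite (WittVector p k) N]
    (FM VM : M →+ M) (FN VN : N →+ N)
    (hFM : ∀ (a : WittVector p k) (m : M), FM (a • m) = WittVector.frobenius a • FM m)
    (hVM : ∀ (a : WittVector p k) (m : M), VM (WittVector.frobenius a • m) = a • VM m)
    (hFVM : ∀ m : M, FM (VM m) = (p : WittVector p k) • m)
    (hVFM : ∀ m : M, VM (FM m) = (p : WittVector p k) • m)
    (hFN : ∀ (a : WittVector p k) (n : N), FN (a • n) = WittVector.frobenius a • FN n)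
    (hVN : ∀ (a : WittVector p k) (n : N), VN (WittVector.frobenius a • n) = a • VN n)
    (hFVN : ∀ n : N, FN (VN n) = (p : WittVector p k) • n)
    (hVFN : ∀ n : N, VN (FN n) = (p : WittVector p k) • n)
    (r₂ s₁ : ℕ)
    (hr₂ : Module.length (WittVector p k) (N ⧸ Submodule.span (WittVector p k) (Set.range VN)) = r₂)
    (hs₁ : (Module.finrank (WittVector p k) M : ℕ∞) =
      Module.length (WittVector p k) (M ⧸ Submodule.span (WittVector p k) (Set.range VM)) + s₁) :
    (∀ h : M →ₗ[WittVector p k] N,
      (∀ m : M, h (VM m) ∈ Submodule.span (WittVector p k) (Set.range VN)) ↔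
        ∃ h' : M →ₗ[WittVector p k] N, ∀ m : M, h (VM m) = VN (h' m)) ∧
    (∀ g : Submodule.span (WittVector p k) (Set.range VM) →ₗ[WittVector p k]
        N ⧸ Submodule.span (WittVector p k) (Set.range VN),
      (∀ m : M, g ⟨VM (FM m), Submodule.subset_span ⟨FM m, rfl⟩⟩ = 0) →
      ∃ h : M →ₗ[WittVector p k] N, ∀ x : Submodule.span (WittVector p k) (Set.range VM),
        (Submodule.span (WittVector p k) (Set.range VN)).mkQ (h x) = g x) ∧
    Module.length (WittVector p k) ((M →ₗ[WittVector p k] N) ⧸
      ⨅ m : M, (Submodule.span (WittVector p k) (Set.range VN)).comap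
        (LinearMap.applyₗ (VM m) : (M →ₗ[WittVector p k] N) →ₗ[WittVector p k] N)) = (r₂ * s₁ : ℕ) := by
  classical
  let W := WittVector p k
  have hσ : Function.Bijective (WittVector.frobenius : W →+* W) := WittVector.frobenius_bijective p k
  have hp : Irreducible (p : W) := WittVector.irreducible p
  have hpN : ∀ n : N, (p : W) • n = 0 → n = 0 := fun n hn => (smul_eq_zero_iff_right hp.ne_zero).1 hn
  have hVNinj : Function.Injective VN := fun x y h => by
    have h' : (p : W) • (x - y) = 0 := by rw [← hFVN, map_sub, h, sub_self, map_zero]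
    exact sub_eq_zero.1 (hpN _ h')
  let SM := Submodule.span W (Set.range VM)
  let SN := Submodule.span W (Set.range VN)
  have hSM : ∀ x, x ∈ SM ↔ ∃ m, VM m = x := fun x => by
    refine ⟨fun hx => ?_, fun ⟨m, hm⟩ => hm ▸ Submodule.subset_span ⟨m, rfl⟩⟩
    induction hx using Submodule.span_induction with
    | mem y hy => exact hy
    | zero => exact ⟨0, map_zero _⟩
    | add a b _ _ ha hb => obtain ⟨m, rfl⟩ := ha; obtain ⟨m', rfl⟩ := hb; exact ⟨m + m', map_add _ _ _⟩
    | smul c a _ ha => obtain ⟨m, rfl⟩ := ha; exact ⟨_, hVM c m⟩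
  have hSN : ∀ x, x ∈ SN ↔ ∃ m, VN m = x := fun x => by
    refine ⟨fun hx => ?_, fun ⟨m, hm⟩ => hm ▸ Submodule.subset_span ⟨m, rfl⟩⟩
    induction hx using Submodule.span_induction with
    | mem y hy => exact hy
    | zero => exact ⟨0, map_zero _⟩
    | add a b _ _ ha hb => obtain ⟨m, rfl⟩ := ha; obtain ⟨m', rfl⟩ := hb; exact ⟨m + m', map_add _ _ _⟩
    | smul c a _ ha => obtain ⟨m, rfl⟩ := ha; exact ⟨_, hVN c m⟩
  have hpM : ∀ m : M, (p : W) • m ∈ SM := fun m => (hSM _).2 ⟨FM m, hVFM m⟩
  have hrank : Module.finrank W SM = Module.finrank W M := by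
    refine le_antisymm (Submodule.finrank_le SM) ?_
    refine LinearMap.finrank_le_finrank_of_injective (f := ((LinearMap.lsmul W M (p : W))).codRestrict SM hpM) ?_
    intro x y h
    exact smul_right_injective M hp.ne_zero (congrArg Subtype.val h)
  obtain ⟨e, a, f, hf⟩ := Submodule.exists_smith_normal_form_of_rank_eq (Module.Free.chooseBasis W M) hrank
  have ha : ∀ i, IsUnit (a i) ∨ Associated (a i) (p : W) := by
    intro i
    have h1 := congrArg (fun z : SM => e.repr (z : M) i) (f.sum_repr ⟨(p : W) • e i, hpM _⟩)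
    simp only [Submodule.coe_sum, Submodule.coe_smul, hf, map_sum, map_smul, Finsupp.coe_finsetSum, Finset.sum_apply,
      Finsupp.smul_apply, Module.Basis.repr_self, Finsupp.single_apply, smul_eq_mul] at h1
    rw [Finset.sum_eq_single i (fun j _ hj => by rw [if_neg hj, mul_zero, mul_zero]) (by simp)] at h1
    simp only [if_true, mul_one] at h1
    obtain ⟨u, hu⟩ : a i ∣ (p : W) := Dvd.intro_left _ h1
    rcases hp.isUnit_or_isUnit hu with h | h
    · exact Or.inl h
    · exact Or.inr ⟨h.unit, hu.symm⟩
  let U := {i // IsUnit (a i)}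
  let b : {i // ¬ IsUnit (a i)} → M →ₗ[W] W := fun i => e.coord i.1
  let I : Ideal W := Ideal.span {(p : W)}
  -- part (c): the length of the quotient of `M`
  have hMlen : Module.length W (M ⧸ SM) = Fintype.card {i // ¬ IsUnit (a i)} := by
    let g : M →ₗ[W] ({i // ¬ IsUnit (a i)} → W ⧸ I) := LinearMap.pi fun i => I.mkQ ∘ₗ b i
    have hgs : Function.Surjective g := fun z => by
      choose c hc using fun i => Submodule.Quotient.mk_surjective I (z i)
      refine ⟨∑ i, c i • e i.1, funext fun i => ?_⟩
      rw [← hc i]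
      change I.mkQ (e.coord i.1 (∑ j, c j • e j.1)) = _
      rw [map_sum, Finset.sum_eq_single i (fun j _ hj => by
        simp [Finsupp.single_apply, Subtype.val_injective.ne hj]) (by simp)]
      simp
    have hgk : LinearMap.ker g = SM := by
      refine le_antisymm (fun x hx => ?_) (fun x hx => ?_)
      · rw [← e.sum_repr x]
        refine sum_mem fun i _ => ?_
        by_cases hi : IsUnit (a i)
        · have : e.repr x i • e i = (e.repr x i * hi.unit⁻¹) • (f i : M) := by
            rw [hf, smul_smul, mul_assoc, IsUnit.val_inv_mul, mul_one]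
          rw [this]; exact Submodule.smul_mem _ _ (f i).2
        · have hx' := congrFun (LinearMap.mem_ker.1 hx) ⟨i, hi⟩
          obtain ⟨c, hc⟩ := Ideal.mem_span_singleton.1 ((Submodule.Quotient.mk_eq_zero I).1 hx')
          rw [show e.repr x i = (p : W) * c from hc, mul_smul]
          exact hpM _
      · refine LinearMap.mem_ker.2 (funext fun i => (Submodule.Quotient.mk_eq_zero I).2 ?_)
        have h2 := congrArg (fun z : SM => (z : M)) (f.sum_repr ⟨x, hx⟩)
        simp only [Submodule.coe_sum, Submodule.coe_smul, hf] at h2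
        rw [← h2]
        change e.coord i.1 (∑ j, f.repr ⟨x, hx⟩ j • a j • e j) ∈ I
        rw [map_sum]
        refine sum_mem fun j _ => ?_
        simp only [map_smul, Module.Basis.coord_apply, Module.Basis.repr_self, smul_eq_mul, Finsupp.single_apply]
        by_cases hj : j = i.1
        · subst hj
          obtain ⟨u, hu⟩ := (ha i.1).resolve_left i.2
          rw [if_pos rfl, mul_one, Ideal.mem_span_singleton, ← hu]
          exact Dvd.intro_left (f.repr ⟨x, hx⟩ i.1 * (↑u⁻¹ : W)) (by rw [mul_assoc, mul_left_comm (↑u⁻¹ : W), Units.inv_mul, mul_one])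
        · rw [if_neg hj, mul_zero, mul_zero]; exact zero_mem _
    rw [← hgk, (g.quotKerEquivOfSurjective hgs).length_eq, Module.length_pi]
    haveI : IsSimpleModule W (W ⧸ I) := isSimpleModule_iff_isCoatom.2
      (PrincipalIdealRing.isMaximal_of_irreducible hp).1
    rw [Module.length_eq_one, mul_one, ENat.card_eq_coe_fintype_card]
  have hcard : Fintype.card U = s₁ := by
    rw [hMlen, Module.finrank_eq_card_basis e] at hs₁
    have h3 : Fintype.card (Module.Free.ChooseBasisIndex W M) = Fintype.card {i // ¬ IsUnit (a i)} + s₁ := by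
      exact_mod_cast hs₁
    have h4 := Fintype.card_subtype_compl (fun i => IsUnit (a i))
    have h5 := Fintype.card_subtype_le (fun i => IsUnit (a i))
    change Fintype.card {i // IsUnit (a i)} = s₁
    omega
  refine ⟨fun h => ⟨fun hh => ?_, fun ⟨h', hh'⟩ m => ?_⟩, fun g hg => ?_, ?_⟩
  · choose h' hh' using fun m => (hSN _).1 (hh m)
    refine ⟨{ toFun := h', map_add' := fun x y => hVNinj ?_, map_smul' := fun c m => hVNinj ?_ }, fun m => (hh' m).symm⟩
    · rw [hh', map_add, map_add, map_add, hh', hh']
    · obtain ⟨c, rfl⟩ := hσ.2 c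
      rw [hh', hVM, map_smul, RingHom.id_apply, hVN, hh']
  · rw [hh' m]; exact (hSN _).2 ⟨_, rfl⟩
  · have hg' : ∀ (x : SM) (m : M), (x : M) = (p : W) • m → g x = 0 := fun x m hx => by
      rw [← hg m]; exact congrArg g (Subtype.ext (hx.trans (hVFM m).symm))
    choose n hn using fun i : Module.Free.ChooseBasisIndex W M =>
      Submodule.Quotient.mk_surjective SN (if hi : IsUnit (a i) then ((hi.unit⁻¹ : Wˣ) : W) • g (f i) else 0)
    refine ⟨e.constr W n, fun x => ?_⟩
    suffices h : SN.mkQ ∘ₗ e.constr W n ∘ₗ SM.subtype = g from LinearMap.congr_fun h x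
    refine f.ext fun i => ?_
    change SN.mkQ (e.constr W n (f i : M)) = g (f i)
    rw [hf, map_smul, Module.Basis.constr_basis, map_smul, Submodule.mkQ_apply, hn]
    by_cases hi : IsUnit (a i)
    · rw [dif_pos hi, smul_smul, IsUnit.mul_val_inv, one_smul]
    · rw [dif_neg hi, smul_zero]
      obtain ⟨u, hu⟩ := (ha i).resolve_left hi
      exact (hg' _ ((↑u⁻¹ : W) • e i) (by
        rw [hf, ← hu, smul_smul, mul_assoc, Units.mul_inv, mul_one])).symm
  · let Φ : (M →ₗ[W] N) →ₗ[W] (U → N ⧸ SN) := LinearMap.pi fun i => SN.mkQ ∘ₗ LinearMap.applyₗ (e i.1)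
    have hs : Function.Surjective Φ := fun z => by
      choose n hn using fun i => Submodule.Quotient.mk_surjective SN (z i)
      refine ⟨e.constr W fun i => if hi : IsUnit (a i) then n ⟨i, hi⟩ else 0, funext fun i => ?_⟩
      change SN.mkQ (e.constr W _ (e i.1)) = _
      rw [Module.Basis.constr_basis, dif_pos i.2, ← hn]
      rfl
    have hk : (⨅ m : M, SN.comap (LinearMap.applyₗ (VM m) : (M →ₗ[W] N) →ₗ[W] N)) = LinearMap.ker Φ := by
      ext h
      rw [Submodule.mem_iInf, LinearMap.mem_ker]
      refine ⟨fun hh => funext fun i => (Submodule.Quotient.mk_eq_zero SN).2 ?_, fun hh m => ?_⟩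
      · obtain ⟨m, hm⟩ := (hSM _).1 (f i.1).2
        have h1 : h (f i.1 : M) ∈ SN := hm ▸ hh m
        rw [hf, map_smul] at h1
        exact (Submodule.smul_mem_iff_of_isUnit SN i.2).1 h1
      · change h (VM m) ∈ SN
        have h2 := congrArg (fun z : SM => (z : M)) (f.sum_repr ⟨VM m, (hSM _).2 ⟨m, rfl⟩⟩)
        simp only [Submodule.coe_sum, Submodule.coe_smul, hf] at h2
        rw [← h2, map_sum]
        refine sum_mem fun i _ => ?_
        rw [map_smul, map_smul]
        refine Submodule.smul_mem _ _ ?_
        by_cases hi : IsUnit (a i)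
        · exact Submodule.smul_mem _ _ ((Submodule.Quotient.mk_eq_zero SN).1 (congrFun hh ⟨i, hi⟩))
        · obtain ⟨u, hu⟩ := (ha i).resolve_left hi
          rw [show a i = (↑u⁻¹ : W) * (p : W) from by rw [← hu, mul_left_comm, Units.inv_mul, mul_one], mul_smul]
          exact Submodule.smul_mem _ _ ((hSN _).2 ⟨_, hVFN _⟩)
    rw [hk, (Φ.quotKerEquivOfSurjective hs).length_eq, Module.length_pi, ENat.card_eq_coe_fintype_card, hcard, hr₂]
    push_cast
    ring


end Groth.Agent.S16417
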