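import Groth.Statements.S16418
import Mathlib.RingTheory.WittVector.Identities
import Mathlib.RingTheory.WittVector.DiscreteValuationRing
import Mathlib.RingTheory.Finiteness.Basic

set_option autoImplicit false
universe u v
open Dieud

namespace Groth.Agent.S16418

/-- Step of the proof: for a prime p and a perfect field k of characteristic p, write W = W(k) and σ for
its Frobenius; let M be a W-module with additive maps F (σ-semilinear) and V (with V(σ(a)m) = aV(m))
such that FV = VF = p, V is injective, ⋂_n V^n M = 0 and M/VM is finitely generated over W. Put M₁ =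
{x ∈ M : for every n there is m with V^m x ∈ F^n M} and M₂ = {x ∈ M : F^n x = 0 for some n}. Then M₂
is killed by a single power of F, and F is injective on M₁. (The published text makes these
assertions inside a proof, for the V-reduced Cartier module of a connected smooth formal group of
finite dimension over k; only the listed structure is used, and V-adic completeness is not needed.) -/
theorem result
    (p : ℕ) [Fact p.Prime] (k : Type u) [Field k] [CharP k p] [PerfectRing k p]
    (M : Type v) [AddCommGroup M] [Module (WittVector p k) M]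
    (F V : M →+ M)
    (hF : ∀ (a : WittVector p k) (m : M), F (a • m) = WittVector.frobenius a • F m)
    (hV : ∀ (a : WittVector p k) (m : M), V (WittVector.frobenius a • m) = a • V m)
    (hFV : ∀ m : M, F (V m) = (p : WittVector p k) • m)
    (hVF : ∀ m : M, V (F m) = (p : WittVector p k) • m)
    (hVinj : Function.Injective V)
    (hsep : ∀ x : M, (∀ n : ℕ, ∃ y : M, x = (⇑V)^[n] y) → x = 0)
    (hfin : Module.Finite (WittVector p k) (M ⧸ Submodule.span (WittVector p k) (Set.range V))) :
    (∃ c : ℕ, ∀ x : M, (∃ n : ℕ, (⇑F)^[n] x = 0) → (⇑F)^[c] x = 0) ∧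
    (∀ x : M, (∀ n : ℕ, ∃ (m : ℕ) (y : M), (⇑V)^[m] x = (⇑F)^[n] y) → F x = 0 → x = 0) := by
  obtain ⟨σi, hσi⟩ : ∃ σi : WittVector p k → WittVector p k, ∀ a, WittVector.frobenius (σi a) = a :=
    ⟨_, Function.surjInv_eq (WittVector.frobenius_bijective p k).2⟩
  let Vs : Submodule (WittVector p k) M :=
    { carrier := Set.range V
      zero_mem' := ⟨0, map_zero V⟩
      add_mem' := by rintro _ _ ⟨a, rfl⟩ ⟨b, rfl⟩; exact ⟨a + b, map_add V a b⟩
      smul_mem' := by rintro a _ ⟨m, rfl⟩; exact ⟨WittVector.frobenius a • m, hV a m⟩ }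
  have hspan : Submodule.span (WittVector p k) (Set.range V) = Vs := Submodule.span_eq Vs
  have hFsucc : ∀ n x, (⇑F)^[n + 1] x = F ((⇑F)^[n] x) := fun n x => Function.iterate_succ_apply' _ _ _
  have hFV' : ∀ n x, (⇑F)^[n] (V x) = V ((⇑F)^[n] x) := by
    intro n x
    induction n generalizing x with
    | zero => rfl
    | succ n ih =>
      rw [Function.iterate_succ_apply, Function.iterate_succ_apply, hFV, ← hVF, ih]
  let K : ℕ → Submodule (WittVector p k) M := fun n =>
    { carrier := {x | (⇑F)^[n] x = 0}
      zero_mem' := iterate_map_zero F n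
      add_mem' := fun {a b} (ha : (⇑F)^[n] a = 0) (hb : (⇑F)^[n] b = 0) => by
        show (⇑F)^[n] (a + b) = 0
        rw [iterate_map_add, ha, hb, add_zero]
      smul_mem' := fun a x (hx : (⇑F)^[n] x = 0) => by
        show (⇑F)^[n] (a • x) = 0
        have : ∀ n, ∃ b : WittVector p k, (⇑F)^[n] (a • x) = b • (⇑F)^[n] x := by
          intro n
          induction n with
          | zero => exact ⟨a, rfl⟩
          | succ n ih =>
            obtain ⟨b, hb⟩ := ih
            exact ⟨WittVector.frobenius b, by rw [hFsucc, hFsucc, hb, hF]⟩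
        obtain ⟨b, hb⟩ := this n
        rw [hb, hx, smul_zero] }
  have hKmem : ∀ n x, x ∈ K n ↔ (⇑F)^[n] x = 0 := fun _ _ => Iff.rfl
  have hmono : Monotone K := monotone_nat_of_le_succ fun n x (hx : (⇑F)^[n] x = 0) => by
    show (⇑F)^[n + 1] x = 0
    rw [hFsucc, hx, map_zero]
  haveI := hfin
  haveI : IsNoetherian (WittVector p k) (M ⧸ Submodule.span (WittVector p k) (Set.range V)) :=
    isNoetherian_of_isNoetherianRing_of_finite _ _
  let q := (Submodule.span (WittVector p k) (Set.range V)).mkQ
  obtain ⟨c, hc⟩ := monotone_stabilizes_iff_noetherian.2 inferInstance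
    (⟨fun n => (K n).map q, fun a b h => Submodule.map_mono (hmono h)⟩ :
      ℕ →o Submodule (WittVector p k) (M ⧸ Submodule.span (WittVector p k) (Set.range V)))
  have hdec : ∀ n, c ≤ n → ∀ (j : ℕ), ∀ x ∈ K (n + 1), ∃ w z,
      w ∈ K n ∧ z ∈ K (n + 1) ∧ x = w + (⇑V)^[j] z := by
    intro n hn j
    induction j with
    | zero => exact fun x hx => ⟨0, x, Submodule.zero_mem _, hx, by simp⟩
    | succ j ih =>
      intro x hx
      obtain ⟨w, z, hw, hz, rfl⟩ := ih x hx
      have hm : q z ∈ (K n).map q := by
        have h1 : (K n).map q = (K (n + 1)).map q := (hc n hn).symm.trans (hc (n + 1) (by omega))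
        rw [h1]
        exact Submodule.mem_map_of_mem hz
      obtain ⟨z', hz', hzz⟩ := hm
      have hmem : z - z' ∈ Vs := hspan ▸ (Submodule.Quotient.eq _).1 hzz.symm
      obtain ⟨t, ht⟩ := hmem
      have htK : t ∈ K (n + 1) := by
        refine hVinj ?_
        rw [map_zero, ← hFV', ht]
        exact Submodule.sub_mem (K (n + 1)) hz (hmono (Nat.le_succ n) hz')
      have hVK : ∀ (m : ℕ) (u : M), u ∈ K n → (⇑V)^[m] u ∈ K n := by
        intro m u hu
        induction m with
        | zero => exact hu
        | succ m ihm =>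
          show (⇑F)^[n] ((⇑V)^[m + 1] u) = 0
          rw [Function.iterate_succ_apply', hFV', (hKmem n _).1 ihm, map_zero]
      refine ⟨w + (⇑V)^[j] z', t, Submodule.add_mem _ hw (hVK j z' hz'), htK, ?_⟩
      rw [Function.iterate_succ_apply, ht, iterate_map_sub]
      abel
  have hstep : ∀ n, c ≤ n → ∀ x ∈ K (n + 1), x ∈ K n := by
    intro n hn x hx
    refine hsep _ fun j => ?_
    obtain ⟨w, z, hw, hz, rfl⟩ := hdec n hn j x hx
    refine ⟨(⇑F)^[n] z, ?_⟩
    rw [iterate_map_add, (hKmem n w).1 hw, zero_add]
    clear hdec hw hz hx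
    induction j generalizing z with
    | zero => rfl
    | succ j ih =>
      rw [Function.iterate_succ_apply', hFV', ih, ← Function.iterate_succ_apply' (⇑V)]
  have hall : ∀ x n, (⇑F)^[n] x = 0 → (⇑F)^[c] x = 0 := by
    intro x n
    induction n with
    | zero => intro h; rw [show x = 0 from h, iterate_map_zero]
    | succ n ih =>
      intro h
      rcases Nat.lt_or_ge n c with hn | hn
      · exact hmono (Nat.succ_le_of_lt hn) h
      · exact ih (hstep n hn x h)
  refine ⟨⟨c, fun x ⟨n, hn⟩ => hall x n hn⟩, fun x hx hFx => ?_⟩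
  obtain ⟨m, y, hy⟩ := hx c
  have hFVm : ∀ m, F ((⇑V)^[m] x) = 0 := by
    intro m
    induction m with
    | zero => exact hFx
    | succ m ih =>
      rw [Function.iterate_succ_apply', show F (V ((⇑V)^[m] x)) = V (F ((⇑V)^[m] x)) from (hFV _).trans (hVF _).symm,
        ih, map_zero]
  have h1 : (⇑F)^[c + 1] y = 0 := by rw [hFsucc, ← hy, hFVm]
  have h2 : (⇑F)^[c] y = 0 := hall y (c + 1) h1
  rw [h2] at hy
  exact (hVinj.iterate m) (by rw [hy, iterate_map_zero])


end Groth.Agent.S16418
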