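import Groth.Statements.S16419
import Groth.Agent.Lib.SummandLift.Basic
-- import your own Groth.Agent.* helpers here

set_option autoImplicit false
universe u v
open CAlg

namespace Groth.Agent.S16419

open TensorProduct in
/-- For a commutative local Artinian ring R and an exact sequence 0 → H₁ → H → H₂ → 0 of finite free
R-modules, let F₁ ⊆ H₁ and F₂ ⊆ H₂ be submodules with H₁/F₁ and H₂/F₂ free; let 𝔫 be an ideal of R
of square zero, R̄ = R/𝔫, and F̄ an R̄-submodule of H̄ = R̄ ⊗ H with free quotient such that F̄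
meets the image of R̄ ⊗ H₁ in the image of R̄ ⊗ F₁ and the image of F̄ in R̄ ⊗ H₂ is the image of R̄
⊗ F₂. Then there is a direct summand F of H with F ∩ H₁ = F₁, whose image in H̄ is F̄ and whose
image in H₂ is F₂. -/
theorem result
    (R : Type u) [CommRing R] [IsArtinianRing R] [IsLocalRing R]
    (H₁ : Type v) (H : Type v) (H₂ : Type v)
    [AddCommGroup H₁] [Module R H₁] [AddCommGroup H] [Module R H] [AddCommGroup H₂] [Module R H₂]
    [Module.Free R H₁] [Module.Finite R H₁] [Module.Free R H] [Module.Finite R H]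
    [Module.Free R H₂] [Module.Finite R H₂]
    (f : H₁ →ₗ[R] H) (g : H →ₗ[R] H₂) (hf : Function.Injective f) (hg : Function.Surjective g)
    (hfg : Function.Exact f g)
    (F₁ : Submodule R H₁) (F₂ : Submodule R H₂) [Module.Free R (H₁ ⧸ F₁)] [Module.Free R (H₂ ⧸ F₂)]
    (𝔫 : Ideal R) (hn : 𝔫 * 𝔫 = ⊥)
    (Fb : Submodule (R ⧸ 𝔫) ((R ⧸ 𝔫) ⊗[R] H))
    [Module.Free (R ⧸ 𝔫) (((R ⧸ 𝔫) ⊗[R] H) ⧸ Fb)]
    (h1 : Fb ⊓ LinearMap.range (f.baseChange (R ⧸ 𝔫)) =
      Submodule.map (f.baseChange (R ⧸ 𝔫)) (F₁.baseChange (R ⧸ 𝔫)))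
    (h2 : Submodule.map (g.baseChange (R ⧸ 𝔫)) Fb = F₂.baseChange (R ⧸ 𝔫)) :
    ∃ F : Submodule R H, (∃ C : Submodule R H, IsCompl F C) ∧
      F ⊓ LinearMap.range f = Submodule.map f F₁ ∧
      F.baseChange (R ⧸ 𝔫) = Fb ∧ Submodule.map g F = F₂ := by
  obtain ⟨F, hc, hi, hs, hm⟩ := GrothLib.SummandLift.exists_lift
    (GrothLib.SummandLift.setup_of 𝔫 f g hf hg hfg F₁ F₂ Fb h1 h2)
  exact ⟨F, hc, hi, (GrothLib.SummandLift.baseChange_eq_iff 𝔫 F Fb).2 hs, hm⟩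

end Groth.Agent.S16419
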