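import Groth.Statements.S16422
import Groth.Agent.Lib.RLpsi8.GrComplete

set_option autoImplicit false
universe u
open GrMod

namespace Groth.Agent.S16422

/-- Let S be a commutative ring graded by ℤ with pieces 𝒜 n, and V a decreasing sequence of homogeneous
ideals for which S is graded-complete, i.e. for each degree n the map from 𝒜 n to the inverse limit
of the quotients 𝒜 n / (𝒜 n ∩ V m) is bijective (stated as: a degree-n element in every V m
vanishes, and every sequence in 𝒜 n whose consecutive differences lie in the V m has a limit in 𝒜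
n). Then every graded S-module M which is finitely generated and projective as an S-module is
graded-complete in the same sense for the submodules V m · M: for each n the map from ℳ n to the
inverse limit of ℳ n / (ℳ n ∩ V m · M) is bijective. -/
theorem result
    (S : Type u) [CommRing S] (𝒜 : ℤ → AddSubgroup S) [GradedRing 𝒜]
    (V : ℕ → HomogeneousIdeal 𝒜) (hV : ∀ m, (V (m + 1)).toIdeal ≤ (V m).toIdeal)
    (hsep : ∀ (n : ℤ) (s : S), s ∈ 𝒜 n → (∀ m, s ∈ (V m).toIdeal) → s = 0)
    (hcpl : ∀ (n : ℤ) (f : ℕ → S), (∀ m, f m ∈ 𝒜 n) →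
      (∀ m, f (m + 1) - f m ∈ (V m).toIdeal) → ∃ s ∈ 𝒜 n, ∀ m, s - f m ∈ (V m).toIdeal)
    (M : Type u) [AddCommGroup M] [Module S M] (ℳ : ℤ → AddSubgroup M)
    [DirectSum.Decomposition ℳ] [SetLike.GradedSMul 𝒜 ℳ]
    [Module.Finite S M] [Module.Projective S M] :
    (∀ (n : ℤ) (x : M), x ∈ ℳ n → (∀ m, x ∈ (V m).toIdeal • (⊤ : Submodule S M)) → x = 0) ∧
    (∀ (n : ℤ) (g : ℕ → M), (∀ m, g m ∈ ℳ n) →
      (∀ m, g (m + 1) - g m ∈ (V m).toIdeal • (⊤ : Submodule S M)) →
      ∃ x ∈ ℳ n, ∀ m, x - g m ∈ (V m).toIdeal • (⊤ : Submodule S M)) := by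
  exact RLpsi8.GrComplete.main 𝒜 ℳ V hsep hcpl

end Groth.Agent.S16422
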