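import Groth.Statements.S16423
import Groth.Agent.Lib.RhoShBig.Basic

set_option autoImplicit false
set_option linter.all false
universe u
open CategoryTheory CategoryTheory.Limits AlgebraicGeometry TopologicalSpace
open RhoSh

namespace Groth.Agent.S16423

/-- Let X be a smooth, proper, geometrically irreducible scheme over a field k admitting an ample
invertible sheaf, let S be a k-scheme and let x be a point of X ×_k S lying over s ∈ S. If the local
ring at x of the fibre (X ×_k S)_s has Krull dimension at least 2 (this holds at every point outside
a big open subset, i.e. one whose complement has codimension at least 2 in every fibre), then the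
local ring of X ×_k S at x has depth at least 2. -/
theorem result
    (k : Type u) [Field k] (X S : Scheme.{u})
    (a : X ⟶ Spec (CommRingCat.of k)) (b : S ⟶ Spec (CommRingCat.of k))
    [Smooth a] [IsProper a] [GeometricallyIrreducible a]
    (hproj : ∃ H : X.Modules, CohB1.IsAmple H)
    (x : ↥(pullback a b))
    (hx : (2 : WithBot ℕ∞) ≤ ringKrullDim ↑(CInt.fiberStalk (pullback.snd a b) x)) :
    (2 : ℕ∞) ≤ LocCoh.depth ↑((pullback a b).presheaf.stalk x) ↑((pullback a b).presheaf.stalk x) := by
  haveI : Smooth (pullback.snd a b) := inferInstance
  obtain ⟨r, r', hr, hr', h⟩ := GrothLib.RhoShBig.exists_pair (pullback.snd a b) x hx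
  refine (GrothLib.Depth.le_idealDepth_iff_exists _ ?_ 2).2 ⟨[r, r'], rfl, ?_, h⟩
  · rw [Ideal.smul_eq_mul, Ideal.mul_top]
    exact (IsLocalRing.maximalIdeal.isMaximal _).ne_top
  · intro t ht
    simp only [List.mem_cons, List.not_mem_nil, or_false] at ht
    rcases ht with rfl | rfl <;> assumption

end Groth.Agent.S16423
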