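import Groth.Statements.S16430
import Mathlib.RingTheory.Etale.StandardEtale
import Mathlib.RingTheory.AdjoinRoot
import Mathlib.FieldTheory.PrimitiveElement
import Mathlib.RingTheory.Polynomial.Basic
import Groth.Agent.Lib.Hensel.Basic
-- import your own Groth.Agent.* helpers here

set_option autoImplicit false
universe u
open Hensel

namespace Groth.Agent.S16430

/-- For a Noetherian local ring A with residue field k and a finite separable field extension l of k,
there is a local ring E, finite and etale over A with local structure map, whose residue field is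
k-isomorphic to l. -/
theorem result (A : Type u)
    [CommRing A] [IsLocalRing A] [IsNoetherianRing A] (l : Type u) [Field l]
    [Algebra (IsLocalRing.ResidueField A) l] [FiniteDimensional (IsLocalRing.ResidueField A) l]
    [Algebra.IsSeparable (IsLocalRing.ResidueField A) l] :
    ∃ (E : Type u) (_ : CommRing E) (_ : IsLocalRing E) (_ : Algebra A E)
      (_ : IsLocalHom (algebraMap A E)),
      Module.Finite A E ∧ Algebra.Etale A E ∧
        Nonempty (IsLocalRing.ResidueField E ≃ₐ[IsLocalRing.ResidueField A] l) := by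
  classical
  let k := IsLocalRing.ResidueField A
  let pb := Field.powerBasisOfFiniteOfSeparable k l
  obtain ⟨f, hf, -, hfm⟩ := Polynomial.lifts_and_degree_eq_and_monic
    ((Polynomial.mem_lifts _).mpr (Polynomial.map_surjective _ IsLocalRing.residue_surjective
      (minpoly k pb.gen))) (minpoly.monic (Algebra.IsIntegral.isIntegral pb.gen))
  let _ : Algebra A l := ((algebraMap k l).comp (IsLocalRing.residue A)).toAlgebra
  have : IsScalarTower A k l := .of_algebraMap_eq' rfl
  have key : ∀ r : Polynomial A,
      Polynomial.aeval pb.gen r = Polynomial.aeval pb.gen (r.map (IsLocalRing.residue A)) := fun r ↦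
    (Polynomial.aeval_map_algebraMap k pb.gen r).symm
  have := hfm.finite_adjoinRoot
  let E := AdjoinRoot f
  let g : E →ₐ[A] l := AdjoinRoot.liftAlgHom f (Algebra.ofId A l) pb.gen (by
    show Polynomial.aeval pb.gen f = 0
    rw [key, hf, minpoly.aeval])
  have hg : ∀ r : Polynomial A, g (AdjoinRoot.mk f r) = Polynomial.aeval pb.gen r := fun r ↦ by
    rw [← AdjoinRoot.aeval_eq, ← Polynomial.aeval_algHom_apply, AdjoinRoot.liftAlgHom_root]
  have hgsurj : Function.Surjective g := fun z ↦ by
    obtain ⟨q, hq⟩ := pb.exists_eq_aeval' z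
    obtain ⟨r, rfl⟩ := Polynomial.map_surjective _ IsLocalRing.residue_surjective q
    exact ⟨AdjoinRoot.mk f r, by rw [hg, key, hq]⟩
  let mE := (IsLocalRing.maximalIdeal A).map (algebraMap A E)
  have hker : RingHom.ker g = mE := by
    refine le_antisymm (fun z hz ↦ ?_) (Ideal.map_le_iff_le_comap.mpr fun a ha ↦ ?_)
    · obtain ⟨r, rfl⟩ := AdjoinRoot.mk_surjective z
      rw [RingHom.mem_ker, hg, key] at hz
      obtain ⟨c, hc⟩ := minpoly.dvd k pb.gen hz
      obtain ⟨c, rfl⟩ := Polynomial.map_surjective _ IsLocalRing.residue_surjective c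
      have h : r - f * c ∈ (IsLocalRing.maximalIdeal A).map Polynomial.C := by
        rw [Ideal.mem_map_C_iff]
        intro n
        rw [← IsLocalRing.residue_eq_zero_iff, ← Polynomial.coeff_map, Polynomial.map_sub,
          Polynomial.map_mul, hf, hc, sub_self, Polynomial.coeff_zero]
      have h2 := Ideal.mem_map_of_mem (AdjoinRoot.mk f) h
      rw [Ideal.map_map, map_sub, map_mul, AdjoinRoot.mk_self, zero_mul, sub_zero] at h2
      exact h2
    · show g (algebraMap A E a) = 0
      rw [AlgHom.commutes, IsScalarTower.algebraMap_apply A k l, IsLocalRing.ResidueField.algebraMap_eq,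
        (IsLocalRing.residue_eq_zero_iff a).mpr ha, map_zero]
  have hmE : mE.IsMaximal := hker ▸ RingHom.ker_isMaximal_of_surjective g hgsurj
  have hle : mE ≤ Ideal.jacobson ⊥ := GrothLib.Hensel.map_le_jacobson_of_isIntegral
    (IsLocalRing.maximalIdeal_le_jacobson ⊥)
  have huniq : ∀ M : Ideal E, M.IsMaximal → M = mE := fun M hM ↦
    (hmE.eq_of_le hM.ne_top (fun x hx ↦
      Ideal.mem_sInf.mp (hle hx) ⟨bot_le, hM⟩)).symm
  have : IsLocalRing E := IsLocalRing.of_unique_max_ideal ⟨mE, hmE, huniq⟩
  have hmax : IsLocalRing.maximalIdeal E = mE := huniq _ (IsLocalRing.maximalIdeal.isMaximal E)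
  have hlh : IsLocalHom (algebraMap A E) :=
    ((IsLocalRing.local_hom_TFAE (algebraMap A E)).out 0 2 rfl rfl).mpr hmax.ge
  have hu : IsUnit (AdjoinRoot.mk f (Polynomial.derivative f)) := by
    rw [← IsLocalRing.notMem_maximalIdeal, hmax, ← hker, RingHom.mem_ker, hg, key,
      ← Polynomial.derivative_map, hf]
    exact (Algebra.IsSeparable.isSeparable k pb.gen).aeval_derivative_ne_zero (minpoly.aeval _ _)
  obtain ⟨w, hw⟩ := isUnit_iff_exists_inv.mp hu
  obtain ⟨a, rfl⟩ := AdjoinRoot.mk_surjective w
  rw [← map_mul, ← map_one (AdjoinRoot.mk f), AdjoinRoot.mk_eq_mk] at hw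
  obtain ⟨b, hb⟩ := hw
  let P : StandardEtalePair A :=
    { f := f, monic_f := hfm, g := 1,
      cond := ⟨a, -b, 1, by rw [one_pow]; linear_combination hb⟩ }
  have : Algebra.Etale A E := Algebra.Etale.of_equiv (P.equivAwayAdjoinRoot.trans
    ((IsLocalization.atUnits E (Submonoid.powers (AdjoinRoot.mk f P.g))
      (S := Localization.Away (AdjoinRoot.mk f P.g)) (by
        rintro _ ⟨n, rfl⟩
        simp [P, IsUnit.mem_submonoid_iff])).symm.restrictScalars A))
  refine ⟨E, inferInstance, inferInstance, inferInstance, hlh, hfm.finite_adjoinRoot, this, ⟨?_⟩⟩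
  let e : IsLocalRing.ResidueField E ≃ₐ[A] l :=
    (Ideal.quotientEquivAlgOfEq A (hmax.trans hker.symm)).trans
      (Ideal.quotientKerAlgEquivOfSurjective hgsurj)
  have hc : ∀ c : k, e (algebraMap k _ c) = algebraMap k l c := by
    intro c
    obtain ⟨c, rfl⟩ := IsLocalRing.residue_surjective c
    exact e.commutes c
  exact { e with commutes' := hc }

end Groth.Agent.S16430
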