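import Groth.Statements.S16432
import Groth.Agent.Lib.EssEtLoc.NormalInter
-- import your own Groth.Agent.* helpers here

set_option autoImplicit false
universe u
open EGA4loc

namespace Groth.Agent.S16432

/-- Let A be an excellent normal local domain and S a strict henselization of A; let D be an
A-subalgebra of S which is a local ring dominated by S (the inclusion is a local homomorphism), an
integrally closed domain, and whose fraction field is generated as a field over the image of A by
finitely many elements of D. Then D is an essentially etale local A-algebra: A-isomorphic to the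
localization of an etale A-algebra at a prime ideal over the maximal ideal of A. -/
theorem result
    (A S : Type u) [CommRing A] [IsLocalRing A] [IsDomain A] [IsIntegrallyClosed A]
    (hA : EGA4.IsExcellent A) [CommRing S] [IsLocalRing S] [Algebra A S] [IsLocalHom (algebraMap A S)]
    [Hensel.IsStrictHenselization A S] (D : Subalgebra A S) [IsLocalRing D]
    [IsLocalHom (algebraMap D S)] [IsDomain D] [IsIntegrallyClosed D]
    (hfg : ∃ s : Finset D, Subfield.closure (Set.range (algebraMap A (FractionRing D)) ∪
        (algebraMap D (FractionRing D)) '' (s : Set D)) = ⊤) :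
    EGA4loc.IsEssentiallyEtale A D := by
  classical
  haveI : IsNoetherianRing A := hA.1
  haveI : IsDomain S :=
    ((GrothLib.Hensel.IsStrictHenselization.isNormalDomain_iff (R := A) (S := S)).mp
      ⟨inferInstance, inferInstance⟩).1
  obtain ⟨s, hs⟩ := hfg
  obtain ⟨D₁, -, hmem, ⟨hloc, -, hE⟩, hle⟩ :=
    GrothLib.EssEtLoc.exists_normal_inter (A := A) (s.image (fun d : D => (d : S)))
  have heq : D₁ = D := by
    refine le_antisymm (hle D ‹_› ‹_› fun x hx => ?_) fun x hx => hmem x ?_
    · obtain ⟨d, -, rfl⟩ := Finset.mem_image.mp hx
      exact d.2
    · have hi : Function.Injective ((algebraMap S (FractionRing S)).comp D.val.toRingHom) :=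
        (IsFractionRing.injective S (FractionRing S)).comp Subtype.val_injective
      let j : FractionRing D →+* FractionRing S := IsFractionRing.lift hi
      have hj : ∀ d : D, j (algebraMap D _ d) = algebraMap S (FractionRing S) (d : S) :=
        fun d => IsFractionRing.lift_algebraMap hi d
      have hmap : algebraMap S (FractionRing S) x ∈ (Subfield.closure
          (Set.range (algebraMap A (FractionRing D)) ∪
            (algebraMap D (FractionRing D)) '' (s : Set D))).map j :=
        ⟨algebraMap D (FractionRing D) ⟨x, hx⟩, by rw [hs]; trivial, hj _⟩
      rw [RingHom.map_field_closure] at hmap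
      refine Subfield.closure_mono ?_ hmap
      rintro _ ⟨v, ⟨a, rfl⟩ | ⟨d, hd, rfl⟩, rfl⟩
      · left
        refine ⟨a, ?_⟩
        rw [IsScalarTower.algebraMap_apply A D (FractionRing D), hj,
          IsScalarTower.algebraMap_apply A S (FractionRing S)]
        rfl
      · right
        exact ⟨d, Finset.mem_coe.mpr (Finset.mem_image_of_mem _ hd), (hj d).symm⟩
  subst heq
  exact hE

end Groth.Agent.S16432
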