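import Groth.Statements.S16434
import Groth.Agent.Lib.EssEtLoc.GaloisApps
-- import your own Groth.Agent.* helpers here

set_option autoImplicit false
universe u
open EGA4loc

namespace Groth.Agent.S16434

/-- Let A be an excellent henselian local domain such that a strict henselization S of A is again a
domain, let K be the fraction field of S, and let L be the subfield of K generated over the image of
A by a finite subset t of K (so L is an intermediate field between the fraction fields of A and of
S, finitely generated over the former). Then the intersection of L with S is (the underlying set of)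
an A-subalgebra D of S which is a local ring with local inclusion into S and which is an essentially
etale local A-algebra: A-isomorphic to the localization of an etale A-algebra at a prime over the
maximal ideal. -/
theorem result
    (A S : Type u) [CommRing A] [HenselianLocalRing A] [IsDomain A] (hA : EGA4.IsExcellent A)
    [CommRing S] [IsLocalRing S] [Algebra A S] [IsLocalHom (algebraMap A S)]
    [Hensel.IsStrictHenselization A S] [IsDomain S] (t : Finset (FractionRing S)) :
    ∃ D : Subalgebra A S, (D : Set S) = (algebraMap S (FractionRing S)) ⁻¹'
        (Subfield.closure (Set.range (algebraMap A (FractionRing S)) ∪ (t : Set (FractionRing S))) :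
          Set (FractionRing S)) ∧
      ∃ _ : IsLocalRing D, IsLocalHom (algebraMap D S) ∧ EGA4loc.IsEssentiallyEtale A D := by
  classical
  haveI : IsNoetherianRing A := hA.1
  haveI : HenselianLocalRing S := (‹Hensel.IsStrictHenselization A S›).henselian
  obtain ⟨C, _, _, _, φ, _, _, _, -, -, _, hm, -, hmem, hfrac, G, _, σ, hcard, hinj⟩ :=
    GrothLib.EssEtLoc.exists_cover_data A S (K := FractionRing S) (AlgHom.id A S)
      Function.surjective_id ∅ t
  obtain ⟨D, hD, hfin, -, ⟨hloc, hmD, hunit⟩, -⟩ := GrothLib.EssEtLoc.inter_subfield φ
    (Subfield.closure (Set.range (algebraMap A (FractionRing S)) ∪ (t : Set (FractionRing S))))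
    (fun a => Subfield.subset_closure (Or.inl ⟨a, rfl⟩)) hmem hfrac hm σ hcard hinj
  haveI := hloc
  haveI hl : IsLocalHom (algebraMap D S) := ⟨hunit⟩
  exact ⟨D, hD, hloc, hl, GrothLib.EssEtLoc.isEssentiallyEtale_of_map_maximalIdeal D hmD⟩

end Groth.Agent.S16434
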