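import Groth.Statements.S16435
import Groth.Agent.Lib.EssEtLoc.NoetherianIntermediate
import Groth.Agent.Lib.EssEtLoc.ResidueFinite
import Groth.Agent.Lib.EssEtLoc.StrictGenerators
import Groth.Agent.S2654

set_option autoImplicit false
universe u
open Hensel IsLocalRing TensorProduct GrothLib.EssEtLoc

namespace Groth.Agent.S16435

set_option maxHeartbeats 4000000 in
set_option synthInstance.maxHeartbeats 200000 in
-- normalizations of subalgebras of total fraction rings have slow instance search
/-- Let A be an excellent henselian reduced local ring, S a strict henselization of A and D any
A-subalgebra of S (an intermediate ring between A and S). Write D' for the integral closure of D in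
its total ring of fractions. Then D is Noetherian if and only if, for every maximal ideal M of D'
with residue field l, writing k_0 for the subfield of l generated by the image of D (it is the image
itself, a copy of the residue field of the local ring D), the separable closure of k_0 in l has
finite degree over k_0. -/
theorem result
    (A S : Type u) [CommRing A] [HenselianLocalRing A] [IsReduced A] (hA : EGA4.IsExcellent A)
    [CommRing S] [IsLocalRing S] [Algebra A S] [IsLocalHom (algebraMap A S)]
    [Hensel.IsStrictHenselization A S] (D : Subalgebra A S) :
    IsNoetherianRing D ↔
      ∀ (M : Ideal (integralClosure D (FractionRing D))) [M.IsMaximal],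
        FiniteDimensional (Subfield.closure (Set.range ((algebraMap (integralClosure D (FractionRing D)) M.ResidueField).comp (algebraMap D (integralClosure D (FractionRing D)))))) (separableClosure (Subfield.closure (Set.range ((algebraMap (integralClosure D (FractionRing D)) M.ResidueField).comp (algebraMap D (integralClosure D (FractionRing D)))))) M.ResidueField) := by
  classical
  haveI : IsNoetherianRing A := hA.1
  have hN : CAlg.IsNagata A := Groth.Agent.S2654.result A ⟨hA.1, hA.2.2.1, hA.2.2.2⟩
  have hA' : ∀ x : FractionRing S, x ∈ baseNorm A S ↔ (IsIntegral A x ∧ ∃ a ∈ nonZeroDivisors A, ∃ b : A,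
      algebraMap A (FractionRing S) a * x = algebraMap A (FractionRing S) b) := fun _ => Iff.rfl
  obtain ⟨hDl, -⟩ := isLocalRing_intermediate D
  haveI := hDl
  haveI : Algebra.IsIntegral D (integralClosure D (FractionRing D)) := inferInstance
  obtain ⟨j, hjval⟩ : ∃ j : integralClosure D (FractionRing D) →+* integralClosure S (FractionRing S),
      ∀ v, (j v : FractionRing S) = fracToStrict D (v : FractionRing D) :=
    ⟨((fracToStrict D).toRingHom.comp (integralClosure D (FractionRing D)).val.toRingHom).codRestrict _
      fun v => ((v.2).map (fracToStrict D)).tower_top, fun _ => rfl⟩
  have hjinj : Function.Injective j := fun x y h =>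
    Subtype.ext (fracToStrict_injective D (by rw [← hjval, ← hjval, h]))
  have hjA : ∀ a, j (algebraMap D (integralClosure D (FractionRing D)) (algebraMap A D a)) =
      algebraMap A (integralClosure S (FractionRing S)) a := fun a => Subtype.ext (by
    rw [hjval]
    exact ((fracToStrict D).commutes _).trans (IsScalarTower.algebraMap_apply A D (FractionRing S) a).symm)
  haveI : Algebra.IsIntegral A S := ⟨isIntegral_strictHenselization⟩
  haveI : Algebra.IsIntegral A (integralClosure S (FractionRing S)) := Algebra.IsIntegral.trans S
  have hjint : j.IsIntegral := fun w => by
    obtain ⟨q, hq, hqw⟩ := Algebra.IsIntegral.isIntegral (R := A) w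
    refine ⟨q.map ((algebraMap D _).comp (algebraMap A D)), hq.map _, ?_⟩
    rw [Polynomial.eval₂_map, show j.comp ((algebraMap D _).comp (algebraMap A D)) =
      algebraMap A (integralClosure S (FractionRing S)) from RingHom.ext hjA]
    exact hqw
  constructor
  · intro hD M _
    haveI := hD
    haveI := finite_quotient_of_isNoetherianRing hN D M
    haveI : FiniteDimensional (baseField (D := D) M) M.ResidueField := finiteDimensional_of_finite_quotient M
    exact IntermediateField.finiteDimensional_left _
  · intro h
    refine isNoetherianRing_of_finite_quotient hN D (fun M hM => ?_) ?_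
    · haveI := hM
      haveI := h M
      obtain ⟨G, hG⟩ := exists_generators_strictNorm (A := A) (S := S) hN
      haveI := finiteDimensional_baseField M j hjint hjinj hjA G hG
      exact finite_quotient_of_finiteDimensional M
    · refine ((finite_maximal_strictNorm hA' hN).image fun M' => M'.comap j).subset fun M hM => ?_
      haveI : M.IsMaximal := hM
      letI := j.toAlgebra
      haveI : Algebra.IsIntegral (integralClosure D (FractionRing D)) (integralClosure S (FractionRing S)) :=
        ⟨hjint⟩
      obtain ⟨M', hM', hMM'⟩ := Ideal.exists_ideal_over_maximal_of_isIntegral
        (S := integralClosure S (FractionRing S)) M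
        (le_of_eq_of_le ((RingHom.injective_iff_ker_eq_bot _).mp hjinj) bot_le)
      exact ⟨M', hM', hMM'⟩

end Groth.Agent.S16435
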