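import Groth.Statements.S16436
import Groth.Agent.Lib.EssEtLoc.BranchCriterion
-- import your own Groth.Agent.* helpers here

set_option autoImplicit false
universe u
open Hensel

namespace Groth.Agent.S16436

/-- Let A be an excellent henselian reduced local ring, S a strict henselization of A and D an
A-subalgebra of S which is finitely generated as an A-module. Write D' for the integral closure of D
in its total ring of fractions. Then D is etale over A and every minimal prime ideal of S is
generated by its contraction to D, if and only if, for every maximal ideal M of D' with residue
field l, writing k_0 for the subfield of l generated by the image of D (the image itself, a copy of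
the residue field of D), k_0 is separably closed in l: every element of l separable over k_0 lies in
k_0. -/
theorem result
    (A S : Type u) [CommRing A] [HenselianLocalRing A] [IsReduced A] (hA : EGA4.IsExcellent A)
    [CommRing S] [IsLocalRing S] [Algebra A S] [IsLocalHom (algebraMap A S)]
    [Hensel.IsStrictHenselization A S] (D : Subalgebra A S) [Module.Finite A D] :
    (Algebra.Etale A D ∧
        ∀ Q ∈ minimalPrimes S, Q = Ideal.map (algebraMap D S) (Q.comap (algebraMap D S))) ↔
      ∀ (M : Ideal (integralClosure D (FractionRing D))) [M.IsMaximal],
        separableClosure (Subfield.closure (Set.range ((algebraMap (integralClosure D (FractionRing D)) M.ResidueField).comp (algebraMap D (integralClosure D (FractionRing D)))))) M.ResidueField = ⊥ := by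
  haveI : IsNoetherianRing A := hA.1
  haveI : IsReduced S :=
    (GrothLib.Hensel.IsStrictHenselization.isReduced_iff (R := A) (S := S)).mp inferInstance
  haveI : IsReduced D := isReduced_of_injective D.val Subtype.val_injective
  haveI : IsNoetherianRing D := IsNoetherianRing.of_finite A D
  obtain ⟨hDH, hDS, hAD⟩ := GrothLib.EssEtLoc.finite_subalgebra_henselian D
  haveI := hDH
  haveI := hDS
  haveI := hAD
  refine (GrothLib.EssEtLoc.etale_and_extended_iff D).trans ⟨fun h M _ => ?_, fun h M hM => ?_⟩
  · exact (GrothLib.EssEtLoc.separableClosure_eq_bot_iff M).mpr (h M inferInstance)
  · haveI := hM
    exact (GrothLib.EssEtLoc.separableClosure_eq_bot_iff M).mp (h M)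

end Groth.Agent.S16436
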