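import Groth.Statements.S16437
import Groth.Agent.Lib.EssEtLoc.EtaleLocalBranches
import Groth.Agent.Lib.RedTotal.Basic
import Groth.Agent.S2654
-- import your own Groth.Agent.* helpers here

set_option autoImplicit false
universe u
open Hensel

namespace Groth.Agent.S16437

open IsLocalRing in
/-- Let A be an excellent henselian local domain with residue field k, whose integral closure A' in its
fraction field is a local ring (as it is, A being henselian) with local inclusion A → A' and residue
field k'; let k^s be the separable closure of k in k', S a strict henselization of A, and E a local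
ring which is an essentially etale local A-algebra with local structure map, together with an
A-algebra map E → S. Then every minimal prime ideal of S is generated by its contraction to E if and
only if the number of k-algebra maps from k^s to the residue field of E equals the degree [k^s : k];
equivalently, the minimal polynomial of a primitive element of k^s over k splits into linear factors
over the residue field of E. -/
theorem result
    (A S E : Type u) [CommRing A] [HenselianLocalRing A] [IsDomain A] (hA : EGA4.IsExcellent A)
    [IsLocalRing (integralClosure A (FractionRing A))] [IsLocalHom (algebraMap A (integralClosure A (FractionRing A)))]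
    [CommRing S] [IsLocalRing S] [Algebra A S] [IsLocalHom (algebraMap A S)]
    [Hensel.IsStrictHenselization A S]
    [CommRing E] [IsLocalRing E] [Algebra A E] [IsLocalHom (algebraMap A E)]
    (hE : EGA4loc.IsEssentiallyEtale A E) [Algebra E S] [IsScalarTower A E S] :
    (∀ Q ∈ minimalPrimes S, Q = Ideal.map (algebraMap E S) (Q.comap (algebraMap E S))) ↔
      Nat.card (separableClosure (ResidueField A) (ResidueField (integralClosure A (FractionRing A))) →ₐ[ResidueField A]
          ResidueField E) =
        Module.finrank (ResidueField A)
          (separableClosure (ResidueField A) (ResidueField (integralClosure A (FractionRing A)))) := by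
  haveI : IsNoetherianRing A := hA.1
  haveI : Module.Finite A (integralClosure A (FractionRing A)) :=
    GrothLib.RedTotal.finite_integralClosure (Groth.Agent.S2654.result A ⟨hA.1, hA.2.2.1, hA.2.2.2⟩)
  haveI : FiniteDimensional (IsLocalRing.ResidueField A)
      (IsLocalRing.ResidueField (integralClosure A (FractionRing A))) := by
    haveI : Module.Finite A (IsLocalRing.ResidueField (integralClosure A (FractionRing A))) :=
      Module.Finite.of_surjective (IsScalarTower.toAlgHom A (integralClosure A (FractionRing A))
        (IsLocalRing.ResidueField (integralClosure A (FractionRing A)))).toLinearMap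
        IsLocalRing.residue_surjective
    exact Module.Finite.of_restrictScalars_finite A _ _
  haveI : IsLocalHom (algebraMap A A) := ⟨fun _ h => h⟩
  obtain ⟨B, _, _, _, hBfin, hBet, ⟨e⟩⟩ := GrothLib.EssEtLoc.exists_finite_etale_algEquiv A A E
    ⟨RingHom.injective _, fun x => ⟨x, by obtain ⟨a, rfl⟩ := IsLocalRing.residue_surjective x; rfl⟩⟩ hE
  let e' : E ≃ₐ[A] B := e.trans (Algebra.TensorProduct.lid A B)
  haveI : Module.Finite A E := Module.Finite.equiv e'.symm.toLinearEquiv
  haveI : Algebra.Etale A E := Algebra.Etale.of_equiv e'.symm
  have hm := GrothLib.EssEtLoc.map_maximalIdeal hE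
  haveI : HenselianLocalRing E := by
    have h := GrothLib.Hensel.henselianRing_of_isIntegral (IsLocalRing.maximalIdeal A) E
    rw [hm] at h
    exact GrothLib.Hensel.henselianLocalRing_of_henselianRing h
  haveI : IsNoetherianRing E := IsNoetherianRing.of_finite A E
  haveI : IsLocalHom (algebraMap E S) := by
    refine ((IsLocalRing.local_hom_TFAE _).out 0 2 rfl rfl).mpr ?_
    rw [← hm, Ideal.map_map, ← IsScalarTower.algebraMap_eq]
    exact ((IsLocalRing.local_hom_TFAE _).out 0 2 rfl rfl).mp ‹IsLocalHom (algebraMap A S)›
  haveI := GrothLib.EssEtLoc.isStrictHenselization_of_essEt (A := A) (E := E) (S := S) hE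
  rw [← GrothLib.EssEtLoc.card_minimalPrimes_eq_iff_card_algHom A S E,
    ← GrothLib.EssEtLoc.minimalPrimes_extended_iff]

end Groth.Agent.S16437
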