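import Groth.Statements.S16439
import Groth.Agent.Lib.EssEtLoc.NoetherianDescent
import Groth.Agent.Lib.EssEtLoc.FracApps
-- import your own Groth.Agent.* helpers here

set_option autoImplicit false
universe u
open EGA4loc

namespace Groth.Agent.S16439

open IsLocalRing in
/-- Let A be an excellent reduced local ring with maximal ideal m, S a strict henselization of A, and D
an A-subalgebra of S which is a Noetherian local ring dominated by S (the inclusion is local), whose
total ring of fractions K_D is finitely generated over that of A — there is a finite subset t of K_D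
such that every element of K_D, after multiplication by (the image of) a non-zero-divisor of A, is a
polynomial expression in t with coefficients from A — and such that m D is the maximal ideal of D.
Then D is an essentially etale local A-algebra: A-isomorphic to the localization of an etale
A-algebra at a prime over m. -/
theorem result
    (A S : Type u) [CommRing A] [IsLocalRing A] [IsReduced A] (hA : EGA4.IsExcellent A)
    [CommRing S] [IsLocalRing S] [Algebra A S] [IsLocalHom (algebraMap A S)]
    [Hensel.IsStrictHenselization A S] (D : Subalgebra A S) [IsLocalRing D]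
    [IsLocalHom (algebraMap D S)] [IsNoetherianRing D]
    (hfg : ∃ t : Finset (FractionRing D), ∀ x : FractionRing D, ∃ a ∈ nonZeroDivisors A,
      algebraMap A (FractionRing D) a * x ∈ Algebra.adjoin A (t : Set (FractionRing D)))
    (hm : Ideal.map (algebraMap A D) (maximalIdeal A) = maximalIdeal D) :
    EGA4loc.IsEssentiallyEtale A D := by
  classical
  haveI : IsNoetherianRing A := hA.1
  have hmin := minimalPrimes.finite_of_isNoetherianRing A
  have hK : ∀ x : FractionRing D, ∃ d : D, ∃ a ∈ nonZeroDivisors A,
      algebraMap A (FractionRing D) a * x = algebraMap D (FractionRing D) d := by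
    intro x
    obtain ⟨⟨d, s, hs⟩, h⟩ := IsLocalization.surj (nonZeroDivisors D) x
    obtain ⟨r, a, ha, hr⟩ := GrothLib.EssEtLoc.exists_mul_eq_nonZeroDivisor hmin D s hs
    refine ⟨d * r, a, ha, ?_⟩
    rw [IsScalarTower.algebraMap_apply A D (FractionRing D), ← hr, map_mul, map_mul,
      ← show x * algebraMap D (FractionRing D) s = algebraMap D (FractionRing D) d from h]
    ring
  obtain ⟨E, hle, hEloc, hE⟩ := (GrothLib.EssEtLoc.fractionRing_fg_iff hmin D).mp hfg
  obtain ⟨t, ht⟩ := hfg
  choose num a ha hnum using hK
  let V : Subalgebra A (FractionRing D) := (Algebra.adjoin A ((t.image num : Finset D) : Set D)).map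
    (IsScalarTower.toAlgHom A D (FractionRing D))
  have hV : ∀ z ∈ Algebra.adjoin A (t : Set (FractionRing D)),
      ∃ b ∈ nonZeroDivisors A, algebraMap A (FractionRing D) b * z ∈ V := by
    intro z hz
    refine Algebra.adjoin_induction (fun y hy => ?_) (fun r => ⟨1, one_mem _, ?_⟩)
      (fun y z _ _ hy hz => ?_) (fun y z _ _ hy hz => ?_) hz
    · refine ⟨a y, ha y, ?_⟩
      rw [hnum y]
      exact ⟨num y, Algebra.subset_adjoin (Finset.mem_image_of_mem _ hy), rfl⟩
    · rw [map_one, one_mul]
      exact V.algebraMap_mem r
    · obtain ⟨b, hb, hy⟩ := hy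
      obtain ⟨c, hc, hz⟩ := hz
      refine ⟨b * c, mul_mem hb hc, ?_⟩
      rw [show algebraMap A (FractionRing D) (b * c) * (y + z) =
        algebraMap A (FractionRing D) c * (algebraMap A (FractionRing D) b * y) +
        algebraMap A (FractionRing D) b * (algebraMap A (FractionRing D) c * z) by rw [map_mul]; ring]
      exact add_mem (mul_mem (V.algebraMap_mem c) hy) (mul_mem (V.algebraMap_mem b) hz)
    · obtain ⟨b, hb, hy⟩ := hy
      obtain ⟨c, hc, hz⟩ := hz
      exact ⟨b * c, mul_mem hb hc, by rw [map_mul, mul_mul_mul_comm]; exact mul_mem hy hz⟩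
  have hG : ∀ d : D, ∃ c ∈ nonZeroDivisors A,
      algebraMap A D c * d ∈ Algebra.adjoin A ((t.image num : Finset D) : Set D) := by
    intro d
    obtain ⟨b, hb, hbd⟩ := ht (algebraMap D (FractionRing D) d)
    obtain ⟨c, hc, w, hw, hwe⟩ := hV _ hbd
    refine ⟨c * b, mul_mem hc hb, ?_⟩
    have heq : w = algebraMap A D (c * b) * d := IsFractionRing.injective D (FractionRing D) (by
      rw [map_mul, ← IsScalarTower.algebraMap_apply, map_mul, mul_assoc]
      exact hwe)
    exact heq ▸ hw
  haveI := hEloc
  haveI := GrothLib.EssEtLoc.flat hE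
  haveI : Module.Flat A S := GrothLib.Hensel.IsStrictHenselization.flat (R := A) (S := S)
  letI : Algebra D E := (Subalgebra.inclusion hle).toRingHom.toAlgebra
  haveI : IsScalarTower A D E := IsScalarTower.of_algebraMap_eq fun _ => rfl
  haveI : IsLocalHom (algebraMap D E) := ⟨fun d hd => by
    have h1 : IsUnit (algebraMap D S d) := hd.map E.val
    exact IsLocalHom.map_nonunit d h1⟩
  haveI : Algebra.EssFiniteType A D := by
    refine GrothLib.EssEtLoc.essFiniteType_of_le_essentiallyEtale hE hm (fun c hc y z hyz => ?_) _ hG
    have hreg : IsSMulRegular A c := fun u v h => by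
      simp only [smul_eq_mul] at h
      exact (mul_cancel_left_mem_nonZeroDivisors hc).mp h
    refine Subtype.ext ((hreg.of_flat (S := S)) ?_)
    have h2 := congrArg Subtype.val hyz
    simp only [Algebra.smul_def, Subalgebra.coe_mul] at h2
    exact h2
  exact GrothLib.EssEtLoc.isEssentiallyEtale_of_map_maximalIdeal D hm

end Groth.Agent.S16439
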