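import Groth.Statements.S16441
import Groth.Agent.Lib.EssEtLoc.FracApps
-- import your own Groth.Agent.* helpers here

set_option autoImplicit false
universe u
open EGA4loc

namespace Groth.Agent.S16441

/-- Let A be a reduced local ring with finitely many minimal prime ideals, S a strict henselization of
A, and D an A-subalgebra of S which is a local ring dominated by S (local inclusion). Then the total
ring of fractions K_D of D is finitely generated over that of A — there is a finite subset t of K_D
such that every element of K_D, multiplied by (the image of) some non-zero-divisor of A, is a
polynomial expression in t with coefficients from A — if and only if D is contained in some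
A-subalgebra E of S which is a local ring and an essentially etale local A-algebra (a localization
of an etale A-algebra at a prime over the maximal ideal). -/
theorem result
    (A S : Type u) [CommRing A] [IsLocalRing A] [IsReduced A] (hmin : (minimalPrimes A).Finite)
    [CommRing S] [IsLocalRing S] [Algebra A S] [IsLocalHom (algebraMap A S)]
    [Hensel.IsStrictHenselization A S] (D : Subalgebra A S) [IsLocalRing D]
    [IsLocalHom (algebraMap D S)] :
    (∃ t : Finset (FractionRing D), ∀ x : FractionRing D, ∃ a ∈ nonZeroDivisors A,
        algebraMap A (FractionRing D) a * x ∈ Algebra.adjoin A (t : Set (FractionRing D))) ↔
      ∃ E : Subalgebra A S, D ≤ E ∧ ∃ _ : IsLocalRing E, EGA4loc.IsEssentiallyEtale A E := by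
  exact GrothLib.EssEtLoc.fractionRing_fg_iff hmin D

end Groth.Agent.S16441
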