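import Groth.Statements.S16444
import Groth.Agent.Lib.EssEtLoc.LiftResidue
-- import your own Groth.Agent.* helpers here

set_option autoImplicit false
universe u
open scoped TensorProduct
open Hensel

namespace Groth.Agent.S16444

open IsLocalRing in
/-- Let A be a complete Noetherian local ring and R → A a local homomorphism from a henselian Noetherian
local ring R inducing a bijection on residue fields. Then every local ring E which is an essentially
etale local A-algebra with local structure map is A-isomorphic to A ⊗_R S for some local ring S
which is a finite etale R-algebra (its residue field is then that of E). (The published statement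
takes R to be a coefficient ring of A, that is a field or an image of a complete p-ring with the
same residue field; its proof uses only that R is henselian with the same residue field as A, which
is the hypothesis made here.) -/
theorem result
    (R A E : Type u) [CommRing R] [HenselianLocalRing R] [IsNoetherianRing R]
    [CommRing A] [IsLocalRing A] [IsNoetherianRing A] [IsAdicComplete (maximalIdeal A) A]
    [Algebra R A] [IsLocalHom (algebraMap R A)]
    (hres : Function.Bijective (ResidueField.map (algebraMap R A)))
    [CommRing E] [IsLocalRing E] [Algebra A E] [IsLocalHom (algebraMap A E)]
    (hE : EGA4loc.IsEssentiallyEtale A E) :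
    ∃ (S : Type u) (_ : CommRing S) (_ : IsLocalRing S) (_ : Algebra R S),
      Module.Finite R S ∧ Algebra.Etale R S ∧ Nonempty (E ≃ₐ[A] A ⊗[R] S) := by
  haveI : HenselianLocalRing A :=
    GrothLib.Hensel.henselianLocalRing_of_henselianRing (R := A) inferInstance
  exact GrothLib.EssEtLoc.exists_finite_etale_algEquiv R A E hres hE

end Groth.Agent.S16444
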