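import Groth.Statements.S16446
import Groth.Agent.Lib.EssEtLoc.GaloisApps
-- import your own Groth.Agent.* helpers here

set_option autoImplicit false
universe u
open Hensel

namespace Groth.Agent.S16446

/-- Let A be an excellent henselian reduced local ring, S a strict henselization of A and Q a minimal
prime ideal of S with contraction q to A; let K be the fraction field of S/Q and L the subfield of K
generated over the image of A by a finite subset t of K. Then there is an A-subalgebra E of S, a
local ring and an essentially etale local A-algebra, such that (i) every minimal prime ideal of S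
over the ideal qS is generated by its contraction to E, and (ii) every element of S/Q whose image in
K lies in L is the class of an element of E — so that the intersection of L with S/Q equals its
intersection with the image of E. -/
theorem result
    (A S : Type u) [CommRing A] [HenselianLocalRing A] [IsReduced A] (hA : EGA4.IsExcellent A)
    [CommRing S] [IsLocalRing S] [Algebra A S] [IsLocalHom (algebraMap A S)]
    [Hensel.IsStrictHenselization A S] (Q : Ideal S) (hQ : Q ∈ minimalPrimes S) [Q.IsPrime]
    (t : Finset (FractionRing (S ⧸ Q))) :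
    ∃ E : Subalgebra A S, ∃ _ : IsLocalRing E, EGA4loc.IsEssentiallyEtale A E ∧
      (∀ Q' ∈ ((Q.comap (algebraMap A S)).map (algebraMap A S)).minimalPrimes,
        Q' = Ideal.map (algebraMap E S) (Q'.comap (algebraMap E S))) ∧
      ∀ x : S, algebraMap (S ⧸ Q) (FractionRing (S ⧸ Q)) (Ideal.Quotient.mk Q x) ∈
          Subfield.closure (Set.range (algebraMap A (FractionRing (S ⧸ Q))) ∪
            (t : Set (FractionRing (S ⧸ Q)))) →
        ∃ e ∈ E, Ideal.Quotient.mk Q e = Ideal.Quotient.mk Q x := by
  classical
  haveI : IsNoetherianRing A := hA.1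
  haveI : IsNoetherianRing S :=
    (GrothLib.Hensel.IsStrictHenselization.isNoetherianRing_iff (R := A) (S := S)).mp ‹_›
  have hfinJ : ((Q.comap (algebraMap A S)).map (algebraMap A S)).minimalPrimes.Finite :=
    Ideal.finite_minimalPrimes_of_isNoetherianRing _ _
  obtain ⟨C, _, _, _, φ, _, _, _, hφ, hloc, _, hm, hJ, hmem, -, -⟩ :=
    GrothLib.EssEtLoc.exists_cover_data A S (K := FractionRing (S ⧸ Q)) (Ideal.Quotient.mkₐ A Q)
      (Ideal.Quotient.mkₐ_surjective A Q) hfinJ.toFinset t
  obtain ⟨hl, -, hE⟩ := GrothLib.EssEtLoc.range_of_finite_etale φ hφ hloc hm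
  refine ⟨φ.range, hl, hE, fun Q' hQ' => le_antisymm ?_ Ideal.map_comap_le, fun x hx => ?_⟩
  · conv_lhs => rw [← hJ Q' (hfinJ.mem_toFinset.mpr hQ')]
    rw [Ideal.map_le_iff_le_comap]
    exact fun c hc => Ideal.mem_map_of_mem (algebraMap φ.range S) (x := ⟨φ c, c, rfl⟩) hc
  · obtain ⟨c, hc⟩ := hmem (Ideal.Quotient.mk Q x) hx
    exact ⟨φ c, ⟨c, rfl⟩, hc⟩

end Groth.Agent.S16446
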