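import Groth.Statements.S16447
import Groth.Agent.Lib.EssEtLoc.Semilocal
import Groth.Agent.Lib.EssEtLoc.Frac
-- import your own Groth.Agent.* helpers here

set_option autoImplicit false
universe u
open EGA4loc

namespace Groth.Agent.S16447

/-- Let A be a Noetherian reduced local ring, E a local ring which is an essentially etale local
A-algebra with local structure map, K_E the total ring of fractions of E, E' the integral closure of
E in K_E (viewed as an A-subalgebra of K_E), and L an A-subalgebra of K_E containing an inverse of
the image of every non-zero-divisor of A. Let C be the A-subalgebra L ⊓ E' of K_E. Then C is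
integrally closed in L, C has only finitely many maximal ideals, the maximal ideals of C are exactly
the contractions of the maximal ideals of E', and every element of L is an element of C times the
inverse of the image of a non-zero-divisor of A. (The published statement assumes only that A is
reduced; its proof uses that the integral closure of E in K_E has finitely many maximal ideals,
which holds when A is Noetherian and can fail otherwise, so A is taken Noetherian here.) -/
theorem result
    (A E : Type u) [CommRing A] [IsLocalRing A] [IsReduced A] [IsNoetherianRing A]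
    [CommRing E] [IsLocalRing E] [Algebra A E] [IsLocalHom (algebraMap A E)]
    (hE : EGA4loc.IsEssentiallyEtale A E) (L : Subalgebra A (FractionRing E))
    (hL : ∀ s ∈ nonZeroDivisors A, ∃ y ∈ L, algebraMap A (FractionRing E) s * y = 1)
    (C : Subalgebra A (FractionRing E))
    (hC : C = L ⊓ (integralClosure E (FractionRing E)).restrictScalars A) :
    (∀ x ∈ L, IsIntegral C x → x ∈ C) ∧
      {N : Ideal C | N.IsMaximal}.Finite ∧
      (∀ N : Ideal C, N.IsMaximal ↔ ∃ M : Ideal ((integralClosure E (FractionRing E)).restrictScalars A),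
          M.IsMaximal ∧ N = M.comap (Subalgebra.inclusion (hC.trans_le inf_le_right))) ∧
      ∀ l ∈ L, ∃ c ∈ C, ∃ s ∈ nonZeroDivisors A, ∃ y ∈ L,
        algebraMap A (FractionRing E) s * y = 1 ∧ l = c * y := by
  classical
  subst hC
  have hmin := minimalPrimes.finite_of_isNoetherianRing A
  haveI := GrothLib.EssEtLoc.essFiniteType hE
  haveI := GrothLib.EssEtLoc.isReduced_of_isEssentiallyEtale hE
  haveI : IsNoetherianRing E := Algebra.EssFiniteType.isNoetherianRing A E
  have hfin := GrothLib.EssEtLoc.finite_maximalSpectrum_integralClosure E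
  let E' := integralClosure E (FractionRing E)
  let C := L ⊓ E'.restrictScalars A
  let j : C →ₐ[A] E'.restrictScalars A := Subalgebra.inclusion inf_le_right
  -- every element of `L` invertible in `E'` is invertible in `C`
  have hunit : ∀ c : C, IsUnit (j c) → IsUnit c := by
    intro c hc
    obtain ⟨v, hv⟩ := hc.exists_right_inv
    have hv' : (c : FractionRing E) * (v : FractionRing E) = 1 := congrArg Subtype.val hv
    obtain ⟨z, hz, a, ha, hza⟩ := GrothLib.EssEtLoc.exists_mul_eq hmin hE L (s := (c : FractionRing E))
      c.2.1 (fun z _ h => by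
        calc z = ((c : FractionRing E) * (v : FractionRing E)) * z := by rw [hv', one_mul]
          _ = (v : FractionRing E) * ((c : FractionRing E) * z) := by ring
          _ = 0 := by rw [h, mul_zero])
    obtain ⟨y, hy, hay⟩ := hL a ha
    have hvL : (v : FractionRing E) = z * y := by
      calc (v : FractionRing E) = (v : FractionRing E) * (algebraMap A (FractionRing E) a * y) := by
            rw [hay, mul_one]
        _ = ((c : FractionRing E) * (v : FractionRing E)) * (z * y) := by rw [← hza]; ring
        _ = z * y := by rw [hv', one_mul]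
    exact IsUnit.of_mul_eq_one ⟨v, hvL ▸ mul_mem hz hy, v.2⟩ (Subtype.ext hv')
  -- contractions of maximal ideals are maximal
  haveI : Algebra.IsIntegral E E' := inferInstance
  have hmax : ∀ M : Ideal (E'.restrictScalars A), M.IsMaximal → (M.comap j).IsMaximal := by
    intro M hM
    haveI := hM.isPrime.comap j
    let F := (E'.restrictScalars A) ⧸ M
    letI : Field F := Ideal.Quotient.field M
    let k := IsLocalRing.ResidueField A
    have hmA : ∀ a ∈ IsLocalRing.maximalIdeal A, algebraMap A (E'.restrictScalars A) a ∈ M := by
      intro a ha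
      let M' : Ideal E' := M
      haveI : M'.IsMaximal := hM
      have h1 := IsLocalRing.eq_maximalIdeal
        (Ideal.isMaximal_comap_of_isIntegral_of_isMaximal (R := E) M')
      have h2 : algebraMap A E a ∈ IsLocalRing.maximalIdeal E :=
        ((IsLocalRing.local_hom_TFAE (algebraMap A E)).out 0 2 rfl rfl).mp
          (GrothLib.EssEtLoc.isLocalHom_algebraMap hE) (Ideal.mem_map_of_mem _ ha)
      rw [← h1] at h2
      have h3 : algebraMap A (E'.restrictScalars A) a = algebraMap E E' (algebraMap A E a) :=
        Subtype.ext (IsScalarTower.algebraMap_apply A E (FractionRing E) a)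
      rw [h3]
      exact h2
    let φ : k →+* F := Ideal.Quotient.lift _
      ((Ideal.Quotient.mk M).comp (algebraMap A (E'.restrictScalars A)))
      fun a ha => Ideal.Quotient.eq_zero_iff_mem.mpr (hmA a ha)
    letI : Algebra k F := φ.toAlgebra
    haveI : Algebra.IsAlgebraic k F := by
      let kE := IsLocalRing.ResidueField E
      let M' : Ideal E' := M
      haveI : M'.IsMaximal := hM
      haveI := GrothLib.EssEtLoc.isLocalHom_algebraMap hE
      haveI := GrothLib.EssEtLoc.formallyEtale hE
      let ψ : kE →+* F := Ideal.Quotient.lift _ ((Ideal.Quotient.mk M).comp (algebraMap E E'))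
        fun x hx => by
          rw [← IsLocalRing.eq_maximalIdeal
            (Ideal.isMaximal_comap_of_isIntegral_of_isMaximal (R := E) M')] at hx
          exact Ideal.Quotient.eq_zero_iff_mem.mpr hx
      letI : Algebra kE F := ψ.toAlgebra
      haveI : IsScalarTower k kE F := IsScalarTower.of_algebraMap_eq fun x => by
        obtain ⟨a, rfl⟩ := IsLocalRing.residue_surjective x
        show Ideal.Quotient.mk M (algebraMap A (E'.restrictScalars A) a) =
          Ideal.Quotient.mk M (algebraMap E E' (algebraMap A E a))
        exact congrArg _ (Subtype.ext (IsScalarTower.algebraMap_apply A E (FractionRing E) a))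
      haveI : Algebra.IsAlgebraic kE F := ⟨fun x => by
        obtain ⟨b, rfl⟩ := Ideal.Quotient.mk_surjective x
        obtain ⟨p, hp, hpb⟩ := Algebra.IsIntegral.isIntegral (R := E) (show E' from b)
        refine IsIntegral.isAlgebraic ⟨p.map (IsLocalRing.residue E), hp.map _, ?_⟩
        rw [Polynomial.eval₂_map]
        show Polynomial.eval₂ ((Ideal.Quotient.mk M).comp (algebraMap E E')) (Ideal.Quotient.mk M b) p = 0
        exact (Polynomial.hom_eval₂ p (algebraMap E E') (Ideal.Quotient.mk M) b).symm.trans
          ((congrArg (Ideal.Quotient.mk M) hpb).trans (map_zero _))⟩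
      haveI : Module.Finite k kE := inferInstance
      haveI : Algebra.IsAlgebraic k kE := Algebra.IsAlgebraic.of_finite k kE
      exact Algebra.IsAlgebraic.trans k kE F
    let π : C →+* F := (Ideal.Quotient.mk M).comp j.toRingHom
    have hφC : ∀ x : k, φ x ∈ π.range := fun x => by
      obtain ⟨a, rfl⟩ := IsLocalRing.residue_surjective x
      exact ⟨algebraMap A C a, rfl⟩
    let S₀ : Subalgebra k F := { π.range.toSubsemiring with algebraMap_mem' := hφC }
    have hone : (1 : C) ∉ M.comap j := fun h => hM.ne_top ((Ideal.eq_top_iff_one M).mpr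
      (by simpa using h))
    refine Ideal.isMaximal_iff.mpr ⟨hone, fun J x hle hx hxJ => ?_⟩
    have hx0 : π x ≠ 0 := fun h => hx ((Ideal.Quotient.eq_zero_iff_mem (I := M)).mp h)
    obtain ⟨c, hc⟩ : (π x)⁻¹ ∈ S₀ :=
      S₀.inv_mem_of_algebraic (x := ⟨π x, x, rfl⟩) (Algebra.IsAlgebraic.isAlgebraic (R := k) (π x))
    have h1 : π (x * c - 1) = 0 := by
      rw [map_sub, map_mul, map_one, hc, mul_inv_cancel₀ hx0, sub_self]
    have h2 : x * c - 1 ∈ M.comap j := (Ideal.Quotient.eq_zero_iff_mem (I := M)).mp h1
    simpa using J.sub_mem (J.mul_mem_right c hxJ) (hle h2)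
  have hhit : ∀ N : Ideal C, N.IsMaximal →
      ∃ M : Ideal (E'.restrictScalars A), M.IsMaximal ∧ N = M.comap j := by
    intro N hN
    haveI : Finite (MaximalSpectrum (E'.restrictScalars A)) := hfin
    cases nonempty_fintype (MaximalSpectrum (E'.restrictScalars A))
    have hsub : (N : Set C) ⊆ ⋃ i ∈ (↑(Finset.univ : Finset (MaximalSpectrum (E'.restrictScalars A))) :
        Set (MaximalSpectrum (E'.restrictScalars A))), (i.asIdeal.comap j : Set C) := by
      intro c hc
      have hnu : ¬ IsUnit (j c) := fun h => hN.ne_top (Ideal.eq_top_of_isUnit_mem _ hc (hunit c h))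
      obtain ⟨M, hM, hcM⟩ := exists_max_ideal_of_mem_nonunits (a := j c) hnu
      simp only [Set.mem_iUnion]
      exact ⟨⟨M, hM⟩, by simp, hcM⟩
    obtain ⟨i₀⟩ : Nonempty (MaximalSpectrum (E'.restrictScalars A)) := by
      by_contra h
      have := hsub (show (0 : C) ∈ N from N.zero_mem)
      simp only [Set.mem_iUnion] at this
      obtain ⟨i, -⟩ := this
      exact h ⟨i⟩
    obtain ⟨i, -, hle⟩ := (Ideal.subset_union_prime i₀ i₀
      (fun i _ _ _ => i.isMaximal.isPrime.comap j)).mp hsub
    exact ⟨i.asIdeal, i.isMaximal,
      hN.eq_of_le (Ideal.IsPrime.ne_top (i.isMaximal.isPrime.comap j)) hle⟩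
  refine ⟨fun x hx hint => ⟨hx, ?_⟩, ?_, fun N => ⟨hhit N, ?_⟩, fun l hl => ?_⟩
  · obtain ⟨p, hp, hpx⟩ := hint
    show IsIntegral E x
    have hco : ∀ c : C, IsIntegral E (c : FractionRing E) := fun c => c.2.2
    let g : C →+* E' :=
      { toFun := fun c => ⟨c, hco c⟩
        map_one' := rfl
        map_mul' := fun _ _ => rfl
        map_zero' := rfl
        map_add' := fun _ _ => rfl }
    refine isIntegral_trans (R := E) (A := E') x ⟨p.map g, hp.map g, ?_⟩
    rw [Polynomial.eval₂_map]
    exact hpx
  · haveI : Finite (MaximalSpectrum (E'.restrictScalars A)) := hfin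
    refine (Set.finite_range
      (fun M : MaximalSpectrum (E'.restrictScalars A) => M.asIdeal.comap j)).subset ?_
    intro N hN
    obtain ⟨M, hM, rfl⟩ := hhit N hN
    exact ⟨⟨M, hM⟩, rfl⟩
  · rintro ⟨M, hM, rfl⟩
    exact hmax M hM
  · obtain ⟨hloc, -⟩ := GrothLib.EssEtLoc.fractionRing_structure hmin hE
    obtain ⟨⟨e, m⟩, hem⟩ :=
      IsLocalization.surj ((nonZeroDivisors A).map (algebraMap A E)) l
    obtain ⟨a, ha, hm⟩ := m.2
    obtain ⟨y, hy, hay⟩ := hL a ha
    have hem' : l * algebraMap A (FractionRing E) a = algebraMap E (FractionRing E) e := by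
      rw [IsScalarTower.algebraMap_apply A E (FractionRing E), hm]
      exact hem
    refine ⟨algebraMap E (FractionRing E) e, ⟨?_, ?_⟩, a, ha, y, hy, hay, ?_⟩
    · rw [← hem']
      exact mul_mem hl (L.algebraMap_mem a)
    · exact isIntegral_algebraMap
    · rw [← hem', mul_assoc, hay, mul_one]

end Groth.Agent.S16447
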