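import Groth.Statements.S16449
import Groth.Agent.Lib.EssEtLoc.SemilocalEFT
import Groth.Agent.Lib.EssEtLoc.Semilocal
import Groth.Agent.S2654
-- import your own Groth.Agent.* helpers here

set_option autoImplicit false
universe u
open EGA4loc

namespace Groth.Agent.S16449

/-- Let A be an excellent reduced local ring, E a local ring which is an essentially etale local
A-algebra with local structure map, and D an A-subalgebra of E which is a local ring dominated by E
(local inclusion). Inside the total ring of fractions K_E of E, let D' be the normalization of D —
the elements of K_E integral over D which are carried into D by the image of some non-zero-divisor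
of A (these are the elements of the total ring of fractions of D) — and let E' be the integral
closure of E. Suppose that D' has finitely many maximal ideals and that the inclusion D' → E' is a
semilocal morphism: maximal ideals of E' contract to maximal ideals of D', and every maximal ideal
of D' arises this way. Then D is essentially of finite type over A. -/
theorem result
    (A E : Type u) [CommRing A] [IsLocalRing A] [IsReduced A] (hA : EGA4.IsExcellent A)
    [CommRing E] [IsLocalRing E] [Algebra A E] [IsLocalHom (algebraMap A E)]
    (hE : EGA4loc.IsEssentiallyEtale A E)
    (D : Subalgebra A E) [IsLocalRing D] [IsLocalHom (algebraMap D E)]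
    (D' : Subalgebra A (FractionRing E))
    (hD' : ∀ x : (FractionRing E), x ∈ D' ↔ (IsIntegral D x ∧
      ∃ a ∈ nonZeroDivisors A, ∃ d ∈ D, algebraMap A (FractionRing E) a * x = algebraMap E (FractionRing E) d))
    (hle : D' ≤ ((integralClosure E (FractionRing E)).restrictScalars A))
    (hfin : {N : Ideal D' | N.IsMaximal}.Finite)
    (hmax : ∀ M : Ideal ((integralClosure E (FractionRing E)).restrictScalars A), M.IsMaximal → (M.comap (Subalgebra.inclusion hle)).IsMaximal)
    (hsurj : ∀ N : Ideal D', N.IsMaximal →
      ∃ M : Ideal ((integralClosure E (FractionRing E)).restrictScalars A), M.IsMaximal ∧ M.comap (Subalgebra.inclusion hle) = N) :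
    Algebra.EssFiniteType A D := by
  haveI : IsNoetherianRing A := hA.1
  haveI := GrothLib.EssEtLoc.isReduced_of_isEssentiallyEtale hE
  exact GrothLib.EssEtLoc.essFiniteType_of_normalization_semilocal
    (Groth.Agent.S2654.result A ⟨hA.1, hA.2.2.1, hA.2.2.2⟩) hE D D' hD' hle hfin hsurj

end Groth.Agent.S16449
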