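import Groth.Statements.S16450
import Groth.Agent.Lib.EssEtLoc.IffSemilocal
import Groth.Agent.S2654
-- import your own Groth.Agent.* helpers here

set_option autoImplicit false
universe u
open scoped TensorProduct
open EGA4loc

namespace Groth.Agent.S16450

open IsLocalRing in
/-- Let A be an excellent reduced local ring with maximal ideal m and residue field k, S a strict
henselization of A with total ring of fractions K, and D an A-subalgebra of S which is a local ring
dominated by S (local inclusion) and whose total ring of fractions is finitely generated over that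
of A. Inside K, let A' and D' be the normalizations of A and of D: the elements of K integral over A
(resp. over D) which are carried into A (resp. into D) by the image of some non-zero-divisor of A;
so A' ⊆ D', and let ι : D → D' be the inclusion. Then D is an essentially etale local A-algebra if
and only if D' has finitely many maximal ideals and the canonical map A' ⊗_A D → D'/Rad(D') is
surjective with kernel the ideal generated by Rad(A') ⊗ D and A' ⊗ m_D — in other words the residual
field products satisfy (A'/Rad A') ⊗_k (D/m_D) ≅ D'/Rad(D') via the canonical maps. -/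
theorem result
    (A S : Type u) [CommRing A] [IsLocalRing A] [IsReduced A] (hA : EGA4.IsExcellent A)
    [CommRing S] [IsLocalRing S] [Algebra A S] [IsLocalHom (algebraMap A S)]
    [Hensel.IsStrictHenselization A S] (D : Subalgebra A S) [IsLocalRing D]
    [IsLocalHom (algebraMap D S)]
    (hfg : ∃ t : Finset (FractionRing D), ∀ x : FractionRing D, ∃ a ∈ nonZeroDivisors A,
      algebraMap A (FractionRing D) a * x ∈ Algebra.adjoin A (t : Set (FractionRing D)))
    (A' D' : Subalgebra A (FractionRing S))
    (hA' : ∀ x : (FractionRing S), x ∈ A' ↔ (IsIntegral A x ∧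
      ∃ a ∈ nonZeroDivisors A, ∃ b : A, algebraMap A (FractionRing S) a * x = algebraMap A (FractionRing S) b))
    (hD' : ∀ x : (FractionRing S), x ∈ D' ↔ (IsIntegral D x ∧
      ∃ a ∈ nonZeroDivisors A, ∃ d ∈ D, algebraMap A (FractionRing S) a * x = algebraMap S (FractionRing S) d))
    (hle : A' ≤ D') (ι : D →ₐ[A] D') (hι : ∀ d : D, (ι d : (FractionRing S)) = algebraMap S (FractionRing S) d) :
    EGA4loc.IsEssentiallyEtale A D ↔
      ({N : Ideal D' | N.IsMaximal}.Finite ∧
        Function.Surjective ((Ideal.Quotient.mkₐ A (Ideal.jacobson (⊥ : Ideal D'))).comp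
          (Algebra.TensorProduct.productMap (Subalgebra.inclusion hle) ι)) ∧
        RingHom.ker ((Ideal.Quotient.mkₐ A (Ideal.jacobson (⊥ : Ideal D'))).comp
          (Algebra.TensorProduct.productMap (Subalgebra.inclusion hle) ι)) =
          (Ideal.jacobson (⊥ : Ideal A')).map
              (Algebra.TensorProduct.includeLeft : A' →ₐ[A] A' ⊗[A] D) ⊔
            (maximalIdeal D).map
              (Algebra.TensorProduct.includeRight : D →ₐ[A] A' ⊗[A] D)) := by
  haveI : IsNoetherianRing A := hA.1
  have hN : CAlg.IsNagata A := Groth.Agent.S2654.result A ⟨hA.1, hA.2.2.1, hA.2.2.2⟩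
  refine ⟨fun hE => GrothLib.EssEtLoc.conditions_of_isEssentiallyEtale D hle ι hA' hD' hι hN hE,
    fun h => ?_⟩
  obtain ⟨E, hDE, hloc, hE⟩ :=
    (GrothLib.EssEtLoc.fractionRing_fg_iff (minimalPrimes.finite_of_isNoetherianRing A) D).mp hfg
  haveI := hloc
  exact GrothLib.EssEtLoc.isEssentiallyEtale_of_conditions D hle ι hA' hD' hι hN E hDE hE h.1 h.2.1

end Groth.Agent.S16450
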