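import Groth.Statements.S16452
import Mathlib
import Groth.Agent.Lib.EtaleThick.Basic

set_option autoImplicit false
universe u
open CAlg

namespace Groth.Agent.S16452

/-- Let R → S be formally étale and J an ideal of S such that the composite R → S → S/J is surjective;
let I ⊆ R be its kernel, the preimage of J in R. Then the homomorphism of associated graded rings ⊕ₙ
Iⁿ/Iⁿ⁺¹ → ⊕ₙ Jⁿ/Jⁿ⁺¹ induced by R → S (which carries I into J) is bijective. -/
theorem result (R : Type u) [CommRing R] (S : Type u)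
    [CommRing S] [Algebra R S] [Algebra.FormallyEtale R S] (J : Ideal S)
    (hJ : Function.Surjective (algebraMap R (S ⧸ J))) :
    Function.Bijective (AssocGr.map (AssocGr.IsFiltHom.adic
      (Ideal.map_comap_le : (J.comap (algebraMap R S)).map (algebraMap R S) ≤ J))) := by
  have hmem := GrothLib.EtaleThick.mem_pow_iff hJ
  refine ⟨?_, fun x => ?_⟩
  · rw [injective_iff_map_eq_zero]
    intro x hx
    obtain ⟨f, rfl⟩ := AssocGr.mkG_surjective _ x
    rw [AssocGr.map_mkG, AssocGr.mkG_eq_zero_iff] at hx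
    rw [AssocGr.mkG_eq_zero_iff]
    intro n
    have h1 := hx n
    rw [AssocGr.coe_reesMap, Polynomial.coeff_map] at h1
    exact (hmem (n + 1) _).2 h1
  · obtain ⟨g, rfl⟩ := AssocGr.mkG_surjective _ x
    suffices AssocGr.mkG _ g ∈ (AssocGr.map (AssocGr.IsFiltHom.adic
        (Ideal.map_comap_le : (J.comap (algebraMap R S)).map (algebraMap R S) ≤ J))).range from this
    rw [← AssocGr.sum_term _ g, map_sum]
    refine sum_mem fun n _ => ?_
    rw [AssocGr.mkG_term]
    generalize hy : (⟨_, _⟩ : ↥((FiltBl.IdealFiltration.adic J).F n)) = y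
    clear hy
    obtain ⟨r', hr'⟩ := (GrothLib.EtaleThick.thickMap_bijective hJ (n + 1)).2
      (Ideal.Quotient.mk _ (y : S))
    obtain ⟨r, rfl⟩ := Ideal.Quotient.mk_surjective r'
    have hr : algebraMap R S r - (y : S) ∈ J ^ (n + 1) := Ideal.Quotient.eq.1 hr'
    have hrn : algebraMap R S r ∈ J ^ n := by
      have := add_mem (Ideal.pow_le_pow_right n.le_succ hr) (show (y : S) ∈ J ^ n from y.2)
      rwa [sub_add_cancel] at this
    refine ⟨(AssocGr.inDeg (FiltBl.IdealFiltration.adic (J.comap (algebraMap R S))) n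
      ⟨r, (hmem n r).2 hrn⟩ : AssocGr.GrRing _), ?_⟩
    rw [AssocGr.map_inDeg, ← sub_eq_zero, ← AddSubgroupClass.coe_sub, ← map_sub,
      ZeroMemClass.coe_eq_zero, AssocGr.inDeg_eq_zero_iff]
    exact hr

end Groth.Agent.S16452
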