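import Groth.Statements.S16453
-- import your own Groth.Agent.* helpers here

set_option autoImplicit false
universe u
open AdicGr

namespace Groth.Agent.S16453

/-- Let A be a commutative ring, I an ideal and Â the I-adic completion, filtered by the kernels Âₙ of
the projections Â → A/Iⁿ. Then the homomorphism of associated graded rings ⊕ₙ Iⁿ/Iⁿ⁺¹ → ⊕ₙ Âₙ/Âₙ₊₁
induced by the canonical map A → Â is bijective. No hypothesis on A or I is needed. (The published
statement is for an arbitrary filtered ring and also asserts the analogous isomorphism for a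
compatibly filtered module; this row is the ring assertion for the filtration by the powers of one
ideal.) -/
theorem result (A : Type u) [CommRing A] (I : Ideal A) :
    Function.Bijective (AssocGr.map (AssocGr.isFiltHom_kerFilt I)) := by
  constructor
  · rw [injective_iff_map_eq_zero]
    intro x hx
    obtain ⟨f, rfl⟩ := AssocGr.mkG_surjective _ x
    rw [AssocGr.map_mkG, AssocGr.mkG_eq_zero_iff] at hx
    rw [AssocGr.mkG_eq_zero_iff]
    intro n
    have h1 := hx n
    rw [AssocGr.coe_reesMap, Polynomial.coeff_map, AssocGr.mem_kerFilt_iff_val,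
      AdicCompletion.algebraMap_apply, Algebra.algebraMap_self, RingHom.id_apply,
      AdicCompletion.of_apply, Submodule.mkQ_apply, Submodule.Quotient.mk_eq_zero] at h1
    change _ ∈ I ^ (n + 1)
    rwa [← AssocGr.pow_smul_top I (n + 1)]
  · intro x
    obtain ⟨g, rfl⟩ := AssocGr.mkG_surjective _ x
    suffices AssocGr.mkG _ g ∈ (AssocGr.map (AssocGr.isFiltHom_kerFilt I)).range from this
    rw [← AssocGr.sum_term _ g, map_sum]
    refine sum_mem fun n _ => ?_
    rw [AssocGr.mkG_term]
    generalize hx : (⟨_, _⟩ : ↥((AssocGr.kerFilt I).F n)) = y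
    clear hx
    obtain ⟨a, ha⟩ := Ideal.Quotient.mk_surjective ((y : AdicCompletion I A).val (n + 1))
    have hy := (AssocGr.mem_kerFilt_iff_val I n _).1 y.2
    have ha' : a ∈ I ^ n := by
      have h1 := AdicCompletion.transitionMap_comp_eval_apply I A (Nat.le_succ n) (y : AdicCompletion I A)
      rw [← ha, hy] at h1
      change Ideal.Quotient.mk (I ^ n • ⊤ : Ideal A) a = 0 at h1
      rwa [Ideal.Quotient.eq_zero_iff_mem, AssocGr.pow_smul_top] at h1
    refine ⟨(AssocGr.inDeg (FiltBl.IdealFiltration.adic I) n ⟨a, ha'⟩ : AssocGr.GrRing _), ?_⟩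
    rw [AssocGr.map_inDeg, ← sub_eq_zero, ← AddSubgroupClass.coe_sub, ← map_sub,
      ZeroMemClass.coe_eq_zero, AssocGr.inDeg_eq_zero_iff, AssocGr.mem_kerFilt_iff_val]
    simp only [AddSubgroupClass.coe_sub]
    change (algebraMap A (AdicCompletion I A) a).val (n + 1) - (y : AdicCompletion I A).val (n + 1) = 0
    rw [sub_eq_zero, AdicCompletion.algebraMap_apply, ← ha]
    rfl

end Groth.Agent.S16453
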