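import Groth.Statements.S16454
import Groth.Agent.Lib.Flatness.Criterion
import Mathlib.LinearAlgebra.TensorProduct.RightExactness
import Mathlib.LinearAlgebra.TensorProduct.Quotient

set_option autoImplicit false
universe u
open TensorProduct
open EGA43

namespace Groth.Agent.S16454

open AssocGr TensorProduct

/-- `a ⊗ x ↦ a • x` -/
noncomputable def mulMap {A : Type u} [CommRing A] (J : Ideal A) (M : Type u) [AddCommGroup M] [Module A M] :
    ↥J ⊗[A] M →ₗ[A] M := TensorProduct.lift ((LinearMap.lsmul A M).comp J.subtype)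

lemma mulMap_tmul {A : Type u} [CommRing A] (J : Ideal A) (M : Type u) [AddCommGroup M] [Module A M] (a : J) (x : M) :
    mulMap J M (a ⊗ₜ[A] x) = (a : A) • x := rfl

lemma exact_inDeg {A : Type u} [CommRing A] (𝓕 : FiltBl.IdealFiltration A) (n : ℕ) :
    Function.Exact (Submodule.inclusion (𝓕.antitone (Nat.le_succ n)) : ↥(𝓕.F (n + 1)) →ₗ[A] ↥(𝓕.F n)) (inDeg 𝓕 n) := by
  intro a
  rw [inDeg_eq_zero_iff]
  constructor
  · intro h; exact ⟨⟨a, h⟩, rfl⟩
  · rintro ⟨b, rfl⟩; exact b.2



/-- Let A be a commutative ring, I a nilpotent ideal of A and M an A-module, and form the associated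
graded ring G = ⊕ₙ Iⁿ/Iⁿ⁺¹ and the associated graded G-module gr_I(M) = ⊕ₙ IⁿM/Iⁿ⁺¹M. Assume that
M/IM is flat over A/I and that the canonical homomorphism (M/IM) ⊗ G → gr_I(M), [x] ⊗ [a] ↦ [a·x],
is injective: degree by degree, whenever elements a_i ∈ Iⁿ and x_i ∈ M satisfy Σ_i [a_i]·[x_i] = 0
in gr_I(M) (that is Σ a_i x_i ∈ Iⁿ⁺¹M), the element Σ_i [a_i] ⊗ [x_i] of (Iⁿ/Iⁿ⁺¹) ⊗ (M/IM) is zero.
Then M is a flat A-module. (The published lemma is stated for any finite decreasing multiplicative
filtration A = J₀ ⊇ J₁ ⊇ … ⊇ J_N₊₁ = 0 of A with M filtered by the submodules JₙM; this row is its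
case Jₙ = Iⁿ.) -/
theorem result (A : Type u) [CommRing A] (I : Ideal A)
    (hI : IsNilpotent I) (M : Type u) [AddCommGroup M] [Module A M]
    (hflat : Module.Flat (A ⧸ I) (M ⧸ (I • (⊤ : Submodule A M))))
    (hinj : ∀ (n k : ℕ) (a : Fin k → ↥((FiltBl.IdealFiltration.adic I).F n))
      (x : Fin k → ↥((Rees.powFilt I M).N 0)),
      (∑ i, (AssocGr.inDeg (FiltBl.IdealFiltration.adic I) n (a i) :
          AssocGr.GrRing (FiltBl.IdealFiltration.adic I)) •
        (AssocGr.inDegM (Rees.powFilt I M) 0 (x i) : AssocGr.GrMod (Rees.powFilt I M))) = 0 →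
      (∑ i, (AssocGr.inDeg (FiltBl.IdealFiltration.adic I) n (a i)) ⊗ₜ[A]
          (Submodule.Quotient.mk (x i : M)) :
        ↥(AssocGr.gr (FiltBl.IdealFiltration.adic I) n) ⊗[A] (M ⧸ (I • (⊤ : Submodule A M)))) = 0) :
    Module.Flat A M := by
  classical
  let 𝓕 := FiltBl.IdealFiltration.adic I
  let F := Rees.powFilt I M
  have hpow : ∀ n : ℕ, F.N n = I ^ n • ⊤ := fun n => rfl
  -- vanishing in the graded module
  have hgr : ∀ (n k : ℕ) (a : Fin k → ↥(𝓕.F n)) (x : Fin k → ↥(F.N 0)),
      (∑ i, (a i : A) • (x i : M)) ∈ I ^ (n + 1) • (⊤ : Submodule A M) →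
      (∑ i, (inDeg 𝓕 n (a i) : GrRing 𝓕) • (inDegM F 0 (x i) : GrMod F)) = 0 := by
    intro n k a x h
    have he : ∀ i, (inDeg 𝓕 n (a i) : GrRing 𝓕) • (inDegM F 0 (x i) : GrMod F) =
        mkGM F ((monom 𝓕 n (a i) : 𝓕.rees) • monomM F 0 (x i)) := fun i => rfl
    simp only [he, ← map_sum]
    rw [mkGM_eq_zero_iff, mem_succMod_iff]
    intro m
    rw [← ReesM.coeffHom_apply, map_sum]
    have hc : ∀ i, ReesM.coeffHom F m ((monom 𝓕 n (a i) : 𝓕.rees) • monomM F 0 (x i)) =
        if m = n then (a i : A) • (x i : M) else 0 := by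
      intro i
      rw [ReesM.coeffHom_apply, ReesM.coeff_smul, Finset.sum_eq_single (m, 0)]
      · rw [ReesM.coeff_monomM, if_pos rfl, coe_coe_monom, Polynomial.coeff_monomial]
        rcases eq_or_ne m n with rfl | hmn
        · simp
        · rw [if_neg (Ne.symm hmn), if_neg hmn, zero_smul]
      · rintro ⟨p, q⟩ hp hne
        rw [Finset.mem_antidiagonal] at hp
        rw [ReesM.coeff_monomM, if_neg, smul_zero]
        rintro rfl
        exact hne (by simp only [add_zero] at hp; rw [hp])
      · intro hn; simp at hn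
    simp only [hc]
    rcases eq_or_ne m n with rfl | hmn
    · simpa [hpow] using h
    · simp [hmn]
  have hexq : Function.Exact (I • (⊤ : Submodule A M)).subtype (I • (⊤ : Submodule A M)).mkQ :=
    LinearMap.exact_subtype_mkQ _
  -- injectivity, by descending induction
  obtain ⟨N, hN⟩ := hI
  have hmain : ∀ j n : ℕ, N ≤ n + j → ∀ z : ↥(𝓕.F n) ⊗[A] M, mulMap (𝓕.F n) M z = 0 → z = 0 := by
    intro j
    induction j with
    | zero =>
      intro n hn z _
      have : Subsingleton ↥(𝓕.F n) := by
        refine ⟨fun a b => Subtype.ext ?_⟩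
        have h0 : ∀ c : ↥(𝓕.F n), (c : A) = 0 := fun c => by
          have := Ideal.pow_le_pow_right (I := I) (show N ≤ n by omega) c.2
          rw [hN] at this
          exact this
        rw [h0 a, h0 b]
      exact Subsingleton.elim _ _
    | succ j ih =>
      intro n hn z hz
      let ι : ↥(𝓕.F (n + 1)) →ₗ[A] ↥(𝓕.F n) := Submodule.inclusion (𝓕.antitone (Nat.le_succ n))
      let q := TensorProduct.map (inDeg 𝓕 n) (I • (⊤ : Submodule A M)).mkQ
      have hq : q z = 0 := by
        obtain ⟨t, ht⟩ := TensorProduct.exists_finset z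
        have hz' : z = ∑ i : Fin t.card, (t.equivFin.symm i).1.1 ⊗ₜ[A] (t.equivFin.symm i).1.2 := by
          rw [ht, ← Finset.sum_coe_sort]
          exact (Equiv.sum_comp t.equivFin.symm fun p : t => p.1.1 ⊗ₜ[A] p.1.2).symm
        let x : Fin t.card → ↥(F.N 0) := fun i => ⟨(t.equivFin.symm i).1.2, by
          rw [hpow, pow_zero, Ideal.one_eq_top, Submodule.top_smul]; trivial⟩
        have h := hinj n t.card (fun i => (t.equivFin.symm i).1.1) x (hgr n t.card _ x ?_)
        · rw [hz', map_sum]; exact h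
        · rw [hz', map_sum] at hz
          simp only [mulMap_tmul] at hz
          change (∑ i, ((t.equivFin.symm i).1.1 : A) • ((t.equivFin.symm i).1.2 : M)) ∈ _
          rw [hz]; exact zero_mem _
      have hle : LinearMap.range (LinearMap.lTensor ↥(𝓕.F n) (I • (⊤ : Submodule A M)).subtype) ≤
          LinearMap.range (LinearMap.rTensor M ι) := by
        rintro _ ⟨w, rfl⟩
        induction w using TensorProduct.induction_on with
        | zero => simp
        | tmul a y =>
          obtain ⟨y, hy⟩ := y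
          rw [LinearMap.lTensor_tmul, Submodule.subtype_apply]
          refine Submodule.smul_induction_on (p := fun y => a ⊗ₜ[A] y ∈ LinearMap.range (LinearMap.rTensor M ι)) hy ?_ ?_
          · intro b hb m _
            refine ⟨⟨b * (a : A), ?_⟩ ⊗ₜ[A] m, ?_⟩
            · change b * (a : A) ∈ I ^ (n + 1)
              rw [pow_succ']
              exact Ideal.mul_mem_mul hb a.2
            · rw [LinearMap.rTensor_tmul, ← TensorProduct.smul_tmul]
              rfl
          · intro y₁ y₂ h₁ h₂
            rw [TensorProduct.tmul_add]; exact add_mem h₁ h₂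
        | add a b ha hb => rw [map_add]; exact add_mem ha hb
      have hker : z ∈ LinearMap.range (LinearMap.rTensor M ι) := by
        have hz0 : z ∈ LinearMap.ker q := hq
        rw [TensorProduct.map_ker (exact_inDeg 𝓕 n) (inDeg_surjective 𝓕 n) hexq (Submodule.mkQ_surjective _)] at hz0
        exact (sup_le hle le_rfl) hz0
      obtain ⟨z', rfl⟩ := hker
      have hcomp : mulMap (𝓕.F n) M (LinearMap.rTensor M ι z') = mulMap (𝓕.F (n + 1)) M z' := by
        clear hz hq
        induction z' using TensorProduct.induction_on with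
        | zero => simp
        | tmul a m => rfl
        | add a b ha hb => simp only [map_add, ha, hb]
      rw [ih (n + 1) (by omega) z' (hcomp.symm.trans hz), map_zero]
  have hI1 : ∀ z : ↥I ⊗[A] M, mulMap I M z = 0 → z = 0 := by
    have h := hmain N 1 (by omega)
    have h1 : 𝓕.F 1 = I := pow_one I
    rw [h1] at h
    exact h
  refine GrothLib.Flatness.flat_of_isNilpotent I ⟨N, hN⟩ ?_ ?_
  · rw [injective_iff_map_eq_zero]
    intro z hz
    obtain ⟨z', rfl⟩ := (_root_.TensorProduct.comm A ↥I M).surjective z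
    have hc : ∀ w : ↥I ⊗[A] M, TensorProduct.rid A M ((I.subtype.lTensor M) (_root_.TensorProduct.comm A ↥I M w)) =
        mulMap I M w := by
      intro w
      induction w using TensorProduct.induction_on with
      | zero => simp
      | tmul a m => simp [mulMap_tmul]
      | add a b ha hb => simp only [map_add, ha, hb]
    rw [hI1 z' (by rw [← hc, hz, map_zero]), map_zero]
  · haveI := hflat
    exact Module.Flat.of_linearEquiv
      ((TensorProduct.quotTensorEquivQuotSMul M I).extendScalarsOfSurjective Ideal.Quotient.mk_surjective)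


end Groth.Agent.S16454
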