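import Groth.Statements.S16455
import Mathlib.Algebra.Algebra.Tower
import Mathlib.LinearAlgebra.Isomorphisms
import Mathlib.LinearAlgebra.DirectSum.Finsupp

set_option autoImplicit false
universe u
open EGA4

namespace Groth.Agent.S16455

open scoped DirectSum

/-- For a commutative ring A, an ideal I of A and an A-module M, the following are equivalent: every
quotient IⁿM/Iⁿ⁺¹M (n ≥ 0) is a flat A/I-module; the associated graded module gr_I(M) = ⊕ₙ
IⁿM/Iⁿ⁺¹M, as one module over A/I, is flat. Either condition says that M is normally flat along I.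
(The source defines normal flatness for a coherent module on a locally Noetherian scheme through the
second condition and notes it amounts to the first; the equivalence holds for every ring and
module.) -/
theorem result (A : Type u) [CommRing A] (I : Ideal A) (M : Type u)
    [AddCommGroup M] [Module A M] :
    EGA4.IsNormallyFlat I M ↔ Module.Flat (A ⧸ I) (AssocGr.GrMod (Rees.powFilt I M)) := by
  classical
  let F := Rees.powFilt I M
  let Q : ℕ → Type u := fun n =>
    ↥(I ^ n • (⊤ : Submodule A M)) ⧸ (I • (⊤ : Submodule A ↥(I ^ n • (⊤ : Submodule A M))))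
  have hmem : ∀ (n : ℕ) (x : ↥(I ^ n • (⊤ : Submodule A M))),
      x ∈ I • (⊤ : Submodule A ↥(I ^ n • (⊤ : Submodule A M))) ↔ (x : M) ∈ F.N (n + 1) := by
    intro n x
    have h : x ∈ I • (⊤ : Submodule A ↥(I ^ n • (⊤ : Submodule A M))) ↔
        (x : M) ∈ (I • (⊤ : Submodule A ↥(I ^ n • (⊤ : Submodule A M)))).map (I ^ n • (⊤ : Submodule A M)).subtype := by
      conv_lhs => rw [← Submodule.comap_map_eq_of_injective
        (I ^ n • (⊤ : Submodule A M)).injective_subtype (I • (⊤ : Submodule A ↥(I ^ n • (⊤ : Submodule A M))))]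
      exact Submodule.mem_comap
    rw [h, Submodule.map_smul'', Submodule.map_subtype_top, ← Submodule.mul_smul, ← pow_succ']
    rfl
  let toQ : ∀ n, AssocGr.ReesM F →ₗ[A] Q n := fun n =>
    { toFun := fun y => Submodule.Quotient.mk ⟨AssocGr.ReesM.coeff F y n, AssocGr.ReesM.coeff_mem F y n⟩
      map_add' := fun y y' => by
        rw [← Submodule.Quotient.mk_add]
        exact congrArg Submodule.Quotient.mk (Subtype.ext (AssocGr.ReesM.coeff_add F y y' n))
      map_smul' := fun a y => by
        rw [RingHom.id_apply, ← Submodule.Quotient.mk_smul]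
        exact congrArg Submodule.Quotient.mk (Subtype.ext (AssocGr.ReesM.coeff_smul_base F a y n)) }
  have hker : ∀ n, LinearMap.ker (AssocGr.mkGM F) ≤ LinearMap.ker (toQ n) := fun n y hy =>
    LinearMap.mem_ker.2 ((Submodule.Quotient.mk_eq_zero _).2 ((hmem n _).2
      ((AssocGr.mem_succMod_iff F y).1 ((AssocGr.mkGM_eq_zero_iff F y).1 (LinearMap.mem_ker.1 hy)) n)))
  let π : ∀ n, AssocGr.GrMod F →ₗ[A] Q n := fun n =>
    (LinearMap.ker (AssocGr.mkGM F)).liftQ (toQ n) (hker n) ∘ₗ
      (LinearMap.quotKerEquivOfSurjective (AssocGr.mkGM F) (AssocGr.mkGM_surjective F)).symm.toLinearMap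
  have hπ : ∀ n y, π n (AssocGr.mkGM F y) = toQ n y := fun n y => by
    change (LinearMap.ker (AssocGr.mkGM F)).liftQ (toQ n) (hker n)
      ((LinearMap.quotKerEquivOfSurjective (AssocGr.mkGM F) (AssocGr.mkGM_surjective F)).symm _) = _
    rw [show (LinearMap.quotKerEquivOfSurjective (AssocGr.mkGM F) (AssocGr.mkGM_surjective F)).symm
      (AssocGr.mkGM F y) = Submodule.Quotient.mk y from (LinearEquiv.symm_apply_eq _).2 rfl]
    rfl
  let ι : ∀ n, Q n →ₗ[A] AssocGr.GrMod F := fun n =>
    Submodule.liftQ _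
      { toFun := fun x => (AssocGr.inDegM F n x : AssocGr.GrMod F)
        map_add' := fun x y => congrArg Subtype.val (map_add (AssocGr.inDegM F n) x y)
        map_smul' := fun a x => AssocGr.coe_inDegM_smul F n a x }
      (fun x hx => LinearMap.mem_ker.2 (ZeroMemClass.coe_eq_zero.2
        ((AssocGr.inDegM_eq_zero_iff F n x).2 ((hmem n x).1 hx))))
  have hιπ : ∀ m n (q : Q m), π n (ι m q) = DirectSum.component A ℕ Q n (DirectSum.lof A ℕ Q m q) := by
    intro m n q
    obtain ⟨x, rfl⟩ := Submodule.Quotient.mk_surjective _ q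
    change π n (AssocGr.mkGM F (AssocGr.monomM F m x)) = _
    rw [hπ]
    by_cases h : m = n
    · subst h
      rw [DirectSum.component.lof_self]
      exact congrArg Submodule.Quotient.mk (Subtype.ext ((AssocGr.ReesM.coeff_monomM F m x m).trans (if_pos rfl)))
    · rw [DirectSum.component.of, dif_neg h]
      refine (Submodule.Quotient.mk_eq_zero _).2 ((hmem n _).2 ?_)
      change AssocGr.ReesM.coeff F (AssocGr.monomM F m x) n ∈ F.N (n + 1)
      rw [AssocGr.ReesM.coeff_monomM, if_neg h]
      exact Submodule.zero_mem _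
  let ψ : (⨁ n, Q n) →ₗ[A] AssocGr.GrMod F := DirectSum.toModule A ℕ _ ι
  have hψπ : ∀ n, (π n) ∘ₗ ψ = DirectSum.component A ℕ Q n := fun n =>
    DirectSum.linearMap_ext A fun m => LinearMap.ext fun q => by
      rw [LinearMap.comp_apply, LinearMap.comp_apply, DirectSum.toModule_lof, hιπ]; rfl
  have hinj : Function.Injective ψ := fun s t hst => DirectSum.ext_component A fun n =>
    ((LinearMap.congr_fun (hψπ n) s).symm.trans (congrArg (π n) hst)).trans (LinearMap.congr_fun (hψπ n) t)
  have hsurj : Function.Surjective ψ := fun g => by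
    obtain ⟨y, rfl⟩ := AssocGr.mkGM_surjective F g
    refine LinearMap.mem_range.1 ?_
    rw [← AssocGr.sum_termM F y, map_sum]
    refine Submodule.sum_mem _ fun n _ => ⟨DirectSum.lof A ℕ Q n
      (Submodule.Quotient.mk ⟨AssocGr.ReesM.coeff F y n, AssocGr.ReesM.coeff_mem F y n⟩), ?_⟩
    rw [DirectSum.toModule_lof]
    rfl
  have hAI : Function.Surjective (algebraMap A (A ⧸ I)) := Ideal.Quotient.mk_surjective
  let e : (⨁ n, Q n) ≃ₗ[A ⧸ I] AssocGr.GrMod F :=
    LinearEquiv.ofBijective (ψ.extendScalarsOfSurjective hAI) ⟨hinj, hsurj⟩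
  exact ⟨fun h => haveI : ∀ n, Module.Flat (A ⧸ I) (Q n) := h
    Module.Flat.of_linearEquiv e.symm,
    fun h => Module.Flat.directSum_iff.1 (Module.Flat.of_linearEquiv e)⟩

end Groth.Agent.S16455
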