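import Groth.Statements.S16456
import Groth.Agent.Lib.AdicLim.Basic
-- import your own Groth.Agent.* helpers here

set_option autoImplicit false
universe u
open AdicGr

namespace Groth.Agent.S16456

/-- Let φ : A → B be a ring homomorphism, I ⊆ A and J ⊆ B ideals with φ(I)B ⊆ J, so that φ is a
homomorphism of filtered rings for the I-adic and J-adic filtrations. Assume that A is I-adically
complete in the sense that every I-adically Cauchy sequence has a limit, that B is J-adically
separated, and that the induced homomorphism of associated graded rings ⊕ₙ Iⁿ/Iⁿ⁺¹ → ⊕ₙ Jⁿ/Jⁿ⁺¹ is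
surjective. Then φ is surjective, φ is strict (Jⁿ = φ(Iⁿ)B for all n, that is J = φ(I)B), and B is
J-adically separated and complete. (The published statement is for a homomorphism of filtered
modules over a filtered ring, with arbitrary compatible filtrations; this row is its case of a ring
homomorphism with adic filtrations.) -/
theorem result (A : Type u) [CommRing A] (B : Type u)
    [CommRing B] (φ : A →+* B) (I : Ideal A) (J : Ideal B) (hIJ : I.map φ ≤ J)
    [IsPrecomplete I A] [IsHausdorff J B]
    (h : Function.Surjective (AssocGr.map (AssocGr.IsFiltHom.adic hIJ))) :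
    Function.Surjective φ ∧ I.map φ = J ∧ IsAdicComplete J B := by
  have step : ∀ n (b : B), b ∈ J ^ n → ∃ a ∈ I ^ n, b - φ a ∈ J ^ (n + 1) := by
    intro n b hb
    obtain ⟨g, hg⟩ := h (AssocGr.inDeg (FiltBl.IdealFiltration.adic J) n ⟨b, hb⟩ : AssocGr.GrRing _)
    obtain ⟨f, rfl⟩ := AssocGr.mkG_surjective _ g
    rw [AssocGr.map_mkG, AssocGr.coe_inDeg, eq_comm, ← sub_eq_zero, ← map_sub,
      AssocGr.mkG_eq_zero_iff] at hg
    have h1 := hg n
    rw [Subalgebra.coe_sub, Polynomial.coeff_sub, AssocGr.coe_reesMap, Polynomial.coeff_map,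
      AssocGr.coe_coe_monom, Polynomial.coeff_monomial, if_pos rfl] at h1
    exact ⟨(f : Polynomial A).coeff n, f.2 n, h1⟩
  let _ := φ.toAlgebra
  have hpow : ∀ n, I ^ n • (⊤ : Submodule A B) ≤ (J ^ n).restrictScalars A := by
    intro n
    rw [Submodule.smul_le]
    intro r hr b _
    rw [Submodule.restrictScalars_mem, Algebra.smul_def]
    refine Ideal.mul_mem_right _ _ (Ideal.pow_right_mono hIJ n ?_)
    rw [← Ideal.map_pow]
    exact Ideal.mem_map_of_mem φ hr
  have hsep : ⨅ n, (J ^ n).restrictScalars A = ⊥ := by
    refine le_bot_iff.1 fun b hb => ?_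
    refine (Submodule.mem_bot A).2 (IsHausdorff.haus (inferInstance : IsHausdorff J B) b fun n => ?_)
    rw [SModEq.zero, Ideal.smul_eq_mul, Ideal.mul_top]
    exact (Submodule.mem_iInf _).1 hb n
  have lift : ∀ m (b : B), b ∈ J ^ m → ∃ a ∈ I ^ m, φ a = b := by
    intro m b hb
    obtain ⟨c, hc, hc'⟩ := GrothLib.AdicLim.exists_coeff_of_step (I := I) (ι := Unit) (fun _ => (1 : B)) m
      (fun n y => y ∈ J ^ (n + m)) (fun n => (J ^ n).restrictScalars A)
      (fun n y hy => Ideal.pow_le_pow_right (Nat.le_add_right n m) hy) hpow hsep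
      (fun n y hy => by
        obtain ⟨a, ha, ha'⟩ := step _ y hy
        refine ⟨fun _ => a, fun _ => ha, ?_⟩
        have e : n + 1 + m = n + m + 1 := by omega
        simpa [Algebra.smul_def, RingHom.algebraMap_toAlgebra, e] using ha')
      (x := b) (by simpa using hb)
    refine ⟨c (), hc (), ?_⟩
    rw [hc']; simp [Algebra.smul_def, RingHom.algebraMap_toAlgebra]
  have hsurj : Function.Surjective φ := fun b => by
    obtain ⟨a, -, ha⟩ := lift 0 b (by simp)
    exact ⟨a, ha⟩
  have hprec : IsPrecomplete J B := by
    constructor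
    intro f hf
    have hf' : ∀ n, f (n + 1) - f n ∈ J ^ n := fun n => by
      have := hf (Nat.le_succ n)
      rw [SModEq.sub_mem, Ideal.smul_eq_mul, Ideal.mul_top] at this
      simpa using neg_mem this
    choose c hc hc' using fun n => lift n _ (hf' n)
    obtain ⟨a0, ha0⟩ := hsurj (f 0)
    let s : ℕ → A := fun n => a0 + ∑ j ∈ Finset.range n, c j
    have hs : ∀ n, φ (s n) = f n := by
      intro n
      induction n with
      | zero => simpa [s] using ha0
      | succ n ih =>
        have : s (n + 1) = s n + c n := by simp [s, Finset.sum_range_succ, add_assoc]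
        rw [this, map_add, ih, hc' n]; abel
    obtain ⟨L, hL⟩ := IsPrecomplete.prec (inferInstance : IsPrecomplete I A) (f := s)
      (fun {m n} hmn => by
        rw [SModEq.sub_mem, Ideal.smul_eq_mul, Ideal.mul_top]
        induction hmn with
        | refl => simp
        | @step n hmn ih =>
          have e : s m - s (n + 1) = (s m - s n) - c n := by
            simp [s, Finset.sum_range_succ]; ring
          rw [e]
          exact sub_mem ih (Ideal.pow_le_pow_right hmn (hc n)))
    refine ⟨φ L, fun n => ?_⟩
    have h1 := hL n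
    rw [SModEq.sub_mem, Ideal.smul_eq_mul, Ideal.mul_top] at h1 ⊢
    rw [← hs n, ← map_sub]
    refine Ideal.pow_right_mono hIJ n ?_
    rw [← Ideal.map_pow]
    exact Ideal.mem_map_of_mem φ h1
  refine ⟨hsurj, le_antisymm hIJ fun b hb => ?_, { toIsHausdorff := inferInstance, toIsPrecomplete := hprec }⟩
  obtain ⟨a, ha, rfl⟩ := lift 1 b (by simpa using hb)
  exact Ideal.mem_map_of_mem φ (by simpa using ha)

end Groth.Agent.S16456
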