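import Groth.Statements.S16459
import Groth.Agent.Lib.AdicLim.Gr
-- import your own Groth.Agent.* helpers here

set_option autoImplicit false
universe u
open AdicGr

namespace Groth.Agent.S16459

/-- Let A be a commutative ring and I an ideal such that every I-adically Cauchy sequence in A has a
limit, and let M be an A-module with an I-filtration M = N₀ ⊇ N₁ ⊇ … (I·Nₙ ⊆ Nₙ₊₁) which is
separated, ⋂ₙ Nₙ = 0. If the associated graded module gr(M) = ⊕ₙ Nₙ/Nₙ₊₁ is a Noetherian module over
the associated graded ring ⊕ₙ Iⁿ/Iⁿ⁺¹, then M is a Noetherian A-module and every submodule M' of M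
is closed for the topology defined by the filtration, that is ⋂ₙ (M' + Nₙ) = M'. (The published
statement allows any complete filtered ring; this row takes the I-adic filtration on A.) -/
theorem result (A : Type u) [CommRing A]
    (I : Ideal A) [IsPrecomplete I A] (M : Type u) [AddCommGroup M] [Module A M] (F : I.Filtration M)
    (h0 : F.N 0 = ⊤) (hsep : ⨅ n, F.N n = ⊥)
    [IsNoetherian (AssocGr.GrRing (FiltBl.IdealFiltration.adic I)) (AssocGr.GrMod F)] :
    IsNoetherian A M ∧ ∀ M' : Submodule A M, ⨅ n, M' ⊔ F.N n = M' := by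
  have key : ∀ N : Submodule A M, ∀ N' : Submodule A M, N' ≤ N →
      (∀ n (y : F.N n), (y : M) ∈ N → ∃ z : F.N n, (z : M) ∈ N' ∧
        (AssocGr.inDegM F n z : AssocGr.GrMod F) = (AssocGr.inDegM F n y : AssocGr.GrMod F)) →
      ∃ t : Set M, t.Finite ∧ t ⊆ N' ∧ N ≤ Submodule.span A t := by
    intro N N' hle hrep
    obtain ⟨k, d, x, hx, hgen⟩ := GrothLib.AdicLim.exists_finite_family F N' (IsNoetherian.noetherian _)
    refine ⟨Set.range fun i => (x i : M), Set.finite_range _, by rintro _ ⟨i, rfl⟩; exact hx i, ?_⟩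
    refine GrothLib.AdicLim.le_span_of_inDegM_mem_span F h0 hsep d x N (fun i => hle (hx i))
      fun n y hy => ?_
    obtain ⟨z, hz, hzy⟩ := hrep n y hy
    rw [← hzy]
    exact hgen n z hz
  refine ⟨⟨fun N => ?_⟩, fun M' => ?_⟩
  · obtain ⟨t, ht, htN, hle⟩ := key N N le_rfl fun n y hy => ⟨y, hy, rfl⟩
    rw [le_antisymm hle (Submodule.span_le.2 htN)]
    exact Submodule.fg_span ht
  · refine le_antisymm ?_ (le_iInf fun n => le_sup_left)
    have hrep : ∀ n (y : F.N n), (y : M) ∈ (⨅ n, M' ⊔ F.N n) → ∃ z : F.N n, (z : M) ∈ M' ∧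
        (AssocGr.inDegM F n z : AssocGr.GrMod F) = (AssocGr.inDegM F n y : AssocGr.GrMod F) := by
      intro n y hy
      obtain ⟨m, hm, r, hr, hmr⟩ := Submodule.mem_sup.1 (Submodule.mem_iInf _ |>.1 hy (n + 1))
      have hr' : r ∈ F.N n := F.antitone (Nat.le_succ n) hr
      refine ⟨⟨m, ?_⟩, hm, ?_⟩
      · have := sub_mem y.2 hr'
        rwa [← hmr, add_sub_cancel_right] at this
      · rw [← sub_eq_zero, ← AddSubgroupClass.coe_sub, ← map_sub, ZeroMemClass.coe_eq_zero,
          AssocGr.inDegM_eq_zero_iff]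
        simp only [AddSubgroupClass.coe_sub, ← hmr, sub_add_cancel_left]
        exact neg_mem hr
    obtain ⟨t, -, htN, hle⟩ := key _ _ (le_iInf fun n => le_sup_left) hrep
    exact hle.trans (Submodule.span_le.2 htN)

end Groth.Agent.S16459
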