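import Groth.Statements.S16460
-- import your own Groth.Agent.* helpers here

set_option autoImplicit false
universe u
open AdicGr

namespace Groth.Agent.S16460

/-- Let A be a commutative ring with a decreasing filtration by ideals A = F₀ ⊇ F₁ ⊇ F₂ ⊇ … satisfying
F_m·F_n ⊆ F_{m+n}, and assume the filtration is separated, ⋂ₙ Fₙ = 0. If the associated graded ring
⊕ₙ Fₙ/Fₙ₊₁ is an integral domain, then A is an integral domain. -/
theorem result (A : Type u) [CommRing A]
    (𝓕 : FiltBl.IdealFiltration A) (hsep : ⨅ n, 𝓕.F n = ⊥) [IsDomain (AssocGr.GrRing 𝓕)] :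
    IsDomain A := by
  have : Nontrivial A := by
    by_contra hA
    rw [not_nontrivial_iff_subsingleton] at hA
    have h := congrArg (algebraMap A (AssocGr.GrRing 𝓕)) (Subsingleton.elim (1 : A) 0)
    rw [map_one, map_zero] at h
    exact one_ne_zero h
  have lead : ∀ a : A, a ≠ 0 → ∃ n, ∃ h : a ∈ 𝓕.F n, a ∉ 𝓕.F (n + 1) := by
    intro a ha
    by_contra hc
    push Not at hc
    have hall : ∀ n, a ∈ 𝓕.F n := by
      intro n
      induction n with
      | zero => rw [𝓕.zero_eq]; trivial
      | succ n ih => exact hc n ih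
    exact ha (by simpa [hsep] using (Submodule.mem_iInf _).2 hall)
  have : NoZeroDivisors A := ⟨fun {a b} hab => by
    by_contra h
    rw [not_or] at h
    obtain ⟨m, hm, hm'⟩ := lead a h.1
    obtain ⟨n, hn, hn'⟩ := lead b h.2
    have h1 : (AssocGr.inDeg 𝓕 m ⟨a, hm⟩ : AssocGr.GrRing 𝓕) * AssocGr.inDeg 𝓕 n ⟨b, hn⟩ = 0 := by
      rw [AssocGr.coe_inDeg_mul]
      simp only [hab]
      exact congrArg Subtype.val (map_zero (AssocGr.inDeg 𝓕 (m + n)))
    rcases mul_eq_zero.1 h1 with h2 | h2 <;>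
      rw [ZeroMemClass.coe_eq_zero, AssocGr.inDeg_eq_zero_iff] at h2
    · exact hm' h2
    · exact hn' h2⟩
  exact NoZeroDivisors.to_isDomain A

end Groth.Agent.S16460
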