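import Groth.Statements.S16463
import Groth.Agent.Lib.RDerLES.LES

set_option autoImplicit false
universe v u v' u'
open CategoryTheory CategoryTheory.Limits
open RDer

namespace Groth.Agent.S16463

/-- Let F be an additive functor from an abelian category C with enough injectives to an abelian
category D. Then the right derived functors RⁿF carry connecting morphisms RⁿF(X₃) → Rⁿ⁺¹F(X₁) for
every short exact sequence 0 → X₁ → X₂ → X₃ → 0 of C, computed on any injective resolution of the
sequence by the connecting morphism of the short exact sequence of complexes obtained by applying F,
natural in morphisms of short exact sequences, and with exact long sequence. -/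
theorem result {C : Type u} [Category.{v} C] [Abelian C] [EnoughInjectives C]
    {D : Type u'} [Category.{v'} D] [Abelian D] (F : C ⥤ D) [F.Additive] :
    Nonempty (RDer.DerivedLES F) := by
  exact GrothLib.RDerLES.nonempty_derivedLES F

end Groth.Agent.S16463
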