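import Groth.Statements.S16464
import Groth.Agent.Lib.RDerLES.Indep

set_option autoImplicit false
universe v u v' u'
open CategoryTheory CategoryTheory.Limits
open RDer

namespace Groth.Agent.S16464

/-- Let F be an additive functor from an abelian category C with injective resolutions to an abelian
category D, and let T, T' be two injective resolutions of the same short complex X₁ → X₂ → X₃ of C
(resolutions of the three objects with compatible cochain maps forming a short exact sequence of
complexes). Then for n₀ + 1 = n₁ the connecting morphisms Rⁿ⁰F(X₃) → Rⁿ¹F(X₁) computed from T and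
from T' are equal. -/
theorem result {C : Type u} [Category.{v} C] [Abelian C] [HasInjectiveResolutions C]
    {D : Type u'} [Category.{v'} D] [Abelian D] (F : C ⥤ D) [F.Additive] {S : ShortComplex C}
    (T T' : RDer.SESRes S) (n₀ n₁ : ℕ) (h : n₀ + 1 = n₁) :
    T.delta F n₀ n₁ h = T'.delta F n₀ n₁ h := by
  exact GrothLib.RDerLES.delta_eq F T T' n₀ n₁ h

end Groth.Agent.S16464
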