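import Groth.Statements.S16466
import Groth.Agent.Lib.BCCrit.StratumPush
import Groth.Agent.Lib.Seesaw26.Scheme

set_option backward.isDefEq.respectTransparency false
set_option maxHeartbeats 2000000

set_option autoImplicit false
universe u
open PicF

namespace Groth.Agent.S16466

open AlgebraicGeometry CategoryTheory CategoryTheory.Limits Opposite TopologicalSpace GrothLib GrothLib.BCCrit GrothLib.BCCoh in
theorem pt_square_iff {X S : Scheme.{u}} {f : X ⟶ S} {F : X.Modules} [IsProper f] [LocallyOfFinitePresentation f] [Coh.IsQCoh F]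
    (hfp : CohB1.IsFP F) (hfl : FlatMod.IsFlatOver f F) (r : ℕ) {V : S.Opens} {hV : IsAffineOpen V}
    (m : BCCoh.Model (affBase f hV) (F.restrict (f ⁻¹ᵁ V).ι))
    {T XT : Scheme.{u}} {u : T ⟶ S} {f' : XT ⟶ T} {g' : XT ⟶ X} (hsq : IsPullback g' f' f u)
    {W : T.Opens} (hW : IsAffineOpen W) (e : W ≤ u ⁻¹ᵁ V) {t : T} (ht : t ∈ W) :
    (GoodAll f' ((Scheme.Modules.pullback g').obj F) ((0 : ℕ) : ℤ) t ∧
      CohIII.fiberRank f' ((Scheme.Modules.pullback g').obj F) 0 t = r) ↔
      Stratum (CohIII.bcCx (u.appLE V W e).hom m.L) r (hW.primeIdealOf ⟨t, ht⟩) := by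
  haveI : F.IsQuasicoherent := ‹Coh.IsQCoh F›
  let G := (Scheme.Modules.pullback g').obj F
  haveI : Coh.IsQCoh G := FittSheaf.isQuasicoherent_pullback _ F
  haveI : G.IsQuasicoherent := FittSheaf.isQuasicoherent_pullback _ F
  haveI : IsProper f' := MorphismProperty.of_isPullback (P := @IsProper) hsq inferInstance
  haveI : LocallyOfFinitePresentation f' := MorphismProperty.of_isPullback (P := @LocallyOfFinitePresentation) hsq inferInstance
  have hp : CohB1.IsFP G := FittSheaf.isFP_pullback _ F hfp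
  have hl : FlatMod.IsFlatOver f' G := FlatDesc.isFlatOver_baseChange hsq F hfl
  have e' : f' ⁻¹ᵁ W ≤ g' ⁻¹ᵁ (f ⁻¹ᵁ V) := (f'.preimage_mono e).trans (CohCmp.sqLE f u f' g' hsq.w V)
  have H := isPullback_affBase hsq hV hW e e'
  obtain ⟨m₁, hm₁⟩ := Model.exists_baseChange (u.appLE V W e).hom (affBase f' hW)
    (g'.resLE (f ⁻¹ᵁ V) (f' ⁻¹ᵁ W) e') H inferInstance m
  haveI : ((Scheme.Modules.pullback (g'.resLE (f ⁻¹ᵁ V) (f' ⁻¹ᵁ W) e')).obj (F.restrict (f ⁻¹ᵁ V).ι)).IsQuasicoherent :=
    FittSheaf.isQuasicoherent_pullback _ _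
  obtain ⟨m₂, hm₂⟩ := Model.exists_ofIso (CohPull.pullOnIso g' (f ⁻¹ᵁ V) (f' ⁻¹ᵁ W) e' F) m₁
  rw [← hm₁, ← hm₂]
  refine and_congr ⟨fun h => h W hW ht m₂, fun h => ?_⟩ ?_
  · exact (goodAll_iff_epi0 hp hl t).2 ((epi_bc0_fiber_iff m₂ ht).2 h)
  · rw [m₂.fiberRank_affine f' hW G 0 t ht]

open CategoryTheory AlgebraicGeometry AlgebraicGeometry.Scheme.Modules in
/-- Suppose f : X → S is a proper, flat morphism between Noetherian schemes, and L is an invertible
O_X-module. Then there is a locally closed subscheme Z of S (an immersion i : Z → S) with the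
following universal property: a morphism t : T → S factors through i if and only if, for a cartesian
square X_T = X ×_S T with projections f_T and g_T, the direct image (f_T)_*(g_T^* L) is an
invertible O_T-module whose formation commutes with every further base change T' → T (the
degree-zero base change morphism is an isomorphism for every cartesian square over T' → T). In
particular Z is unique and (f_Z)_*(L_Z) is invertible of formation compatible with base change.
(Characterising the factorisation by invertibility of the direct image alone is not correct: for a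
genus-two curve C over a field, p a point of C and S the spectrum of the local ring of C at the
hyperelliptic conjugate of p, the family C × S → S with L = O(p + q), q the tautological point, has
direct image free of rank one while the closed fibre has a two-dimensional space of sections, so S →
S does not factor through Z.) -/
theorem result {X S : Scheme.{u}} (f : X ⟶ S) [IsProper f] [Flat f]
    [IsNoetherian S] [IsNoetherian X] (L : X.Modules) (hL : PicF.IsInvertible L) :
    ∃ (Z : Scheme.{u}) (i : Z ⟶ S), IsImmersion i ∧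
      ∀ (T : Scheme.{u}) (t : T ⟶ S) (XT : Scheme.{u}) (fT : XT ⟶ T) (gT : XT ⟶ X)
        (hT : IsPullback gT fT f t),
        (∃ z : T ⟶ Z, z ≫ i = t) ↔
          (PicF.IsInvertible ((pushforward fT).obj ((pullback gT).obj L)) ∧
            ∀ (T' : Scheme.{u}) (u : T' ⟶ T) (XT' : Scheme.{u}) (fT' : XT' ⟶ T') (u' : XT' ⟶ XT)
              (hT' : IsPullback u' fT' fT u),
              IsIso (CohBC.bc0 fT u fT' u' hT'.w ((pullback gT).obj L))) := by
  haveI : LocallyOfFinitePresentation f := inferInstance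
  haveI : L.IsQuasicoherent := GrothLib.InvExt.isQuasicoherent_of_isInvertible hL
  haveI : Coh.IsQCoh L := ‹L.IsQuasicoherent›
  have hfp : CohB1.IsFP L := GrothLib.LocFree8.isFP_of_isFinLocFree _ (GrothLib.Euler.isFinLocFree_of_isInvertible hL)
  have hfl : FlatMod.IsFlatOver f L := GrothLib.Seesaw26.isFlatOver_of_isInvertible f hL
  obtain ⟨Z, i, hi, -, -, huniv, -⟩ := GrothLib.BCCrit.exists_stratum 1 hfp hfl
  refine ⟨Z, i, hi, fun T t XT fT gT hT => ?_⟩
  haveI : IsProper fT := MorphismProperty.of_isPullback (P := @IsProper) hT inferInstance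
  haveI : LocallyOfFinitePresentation fT := MorphismProperty.of_isPullback (P := @LocallyOfFinitePresentation) hT inferInstance
  haveI : Coh.IsQCoh ((pullback gT).obj L) := GrothLib.FittSheaf.isQuasicoherent_pullback gT L
  have hp : CohB1.IsFP ((pullback gT).obj L) := GrothLib.FittSheaf.isFP_pullback _ L hfp
  have hl : FlatMod.IsFlatOver fT ((pullback gT).obj L) := GrothLib.FlatDesc.isFlatOver_baseChange hT L hfl
  rw [huniv T t]
  have key : ∀ z : T, (GrothLib.BCCrit.GoodAll (Limits.pullback.snd f t) ((pullback (Limits.pullback.fst f t)).obj L) ((0 : ℕ) : ℤ) z ∧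
      CohIII.fiberRank (Limits.pullback.snd f t) ((pullback (Limits.pullback.fst f t)).obj L) 0 z = 1) ↔
      (GrothLib.BCCrit.GoodAll fT ((pullback gT).obj L) ((0 : ℕ) : ℤ) z ∧
        CohIII.fiberRank fT ((pullback gT).obj L) 0 z = 1) := fun z => by
    obtain ⟨V, hV, hs, ⟨m⟩⟩ := GrothLib.BCCrit.exists_model hfp hfl (t z)
    obtain ⟨W, hW, hzW, e⟩ := exists_isAffineOpen_mem_and_subset (show z ∈ t ⁻¹ᵁ V from hs)
    exact (pt_square_iff hfp hfl 1 m (IsPullback.of_hasPullback f t) hW e hzW).trans
      (pt_square_iff hfp hfl 1 m hT hW e hzW).symm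
  constructor
  · intro h
    refine ⟨(GrothLib.Seesaw26.isInvertible_iff_rank_one _).1 fun z => ?_, fun T' u XT' fT' u' hT' =>
      GrothLib.BCCrit.isIso_bc0_of_goodAll hp hl ⊤ (fun z _ => ((key z).1 (h z)).1) hT' fun _ => trivial⟩
    obtain ⟨U, n, hzU, hφ, hn⟩ := GrothLib.BCCrit.exists_free_near0 hp hl z ((key z).1 (h z)).1
    obtain rfl : n = 1 := (hn z hzU).symm.trans ((key z).1 (h z)).2
    exact ⟨U, hzU, hφ⟩
  · rintro ⟨hfree, hbc⟩ z
    refine (key z).2 ?_
    have hsq := IsPullback.of_hasPullback fT (T.fromSpecResidueField z)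
    haveI := hbc _ (T.fromSpecResidueField z) _ (fT.fiberToSpecResidueField z) (fT.fiberι z) hsq
    have hG := (GrothLib.BCCrit.goodAll_iff_epi0 hp hl z).2 (by
      show Epi (CohBC.bc0 fT (T.fromSpecResidueField z) (fT.fiberToSpecResidueField z) (fT.fiberι z) _ _)
      infer_instance)
    obtain ⟨U, n, hzU, ⟨φ⟩, hn⟩ := GrothLib.BCCrit.exists_free_near0 hp hl z hG
    obtain ⟨U', hzU', ⟨φ'⟩⟩ := (GrothLib.Seesaw26.isInvertible_iff_rank_one _).2 hfree z
    exact ⟨hG, (hn z hzU).trans (GrothLib.BCCrit.rank_unique hzU hzU' φ φ')⟩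

end Groth.Agent.S16466
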