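import Groth.Statements.S16469
import Groth.Agent.Lib.Euler.Slope3

set_option autoImplicit false
universe u
open CategoryTheory CategoryTheory.Limits AlgebraicGeometry
open VBCurve

namespace Groth.Agent.S16469

/-- Let X be a smooth proper integral curve (integral, smooth and proper of dimension one) over an
algebraically closed field k, and let E, F be finite locally free O_X-modules of ranks r ≥ 1, s ≥ 1,
both slope-semistable (deg G · rank ≤ deg · rank G on finite locally free submodules G of positive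
rank; degree = χ − rank·χ(O_X)) and of the same slope μ: deg E · s = deg F · r. Then for every
homomorphism f : E → F the kernel and the cokernel of f, taken in the abelian category of
O_X-modules, are finite locally free of some ranks r₀ and s₀, have slope μ when nonzero (deg(ker f)
· r = deg E · r₀ and deg(coker f) · s = deg F · s₀) and are slope-semistable: deg G · r₀ ≤ deg(ker
f) · n for every finite locally free submodule G ⊂ ker f of rank n ≥ 1, and likewise for coker f
with s₀. In other words the semistable bundles of slope μ form an abelian subcategory, and the image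
of f is a sub-bundle of F. -/
theorem result (k : Type u) [Field k] [IsAlgClosed k] (X : Scheme.{u}) [X.Over (Spec (CommRingCat.of k))]
    [IsIntegral X] [IsProper (X ↘ Spec (CommRingCat.of k))] [Smooth (X ↘ Spec (CommRingCat.of k))]
    (hdim : topologicalKrullDim X = 1)
    (r s : ℕ) (hr : 0 < r) (hs : 0 < s) (E F : X.Modules)
    (hE : FlatMod.IsFinLocFreeOfRank r E) (hF : FlatMod.IsFinLocFreeOfRank s F)
    (hEss : ModFun.IsSlopeSemistable k X E r) (hFss : ModFun.IsSlopeSemistable k X F s)
    (hμ : Curv2.deg k X E r * (s : ℤ) = Curv2.deg k X F s * (r : ℤ)) (f : E ⟶ F) :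
    (∃ r₀ : ℕ, FlatMod.IsFinLocFreeOfRank r₀ (kernel f) ∧
        Curv2.deg k X (kernel f) r₀ * (r : ℤ) = Curv2.deg k X E r * (r₀ : ℤ) ∧
        ∀ (G : X.Modules) (n : ℕ) (j : G ⟶ kernel f), Mono j → 0 < n → FlatMod.IsFinLocFreeOfRank n G →
          Curv2.deg k X G n * (r₀ : ℤ) ≤ Curv2.deg k X (kernel f) r₀ * (n : ℤ)) ∧
      (∃ s₀ : ℕ, FlatMod.IsFinLocFreeOfRank s₀ (cokernel f) ∧
        Curv2.deg k X (cokernel f) s₀ * (s : ℤ) = Curv2.deg k X F s * (s₀ : ℤ) ∧
        ∀ (G : X.Modules) (n : ℕ) (j : G ⟶ cokernel f), Mono j → 0 < n → FlatMod.IsFinLocFreeOfRank n G →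
          Curv2.deg k X G n * (s₀ : ℤ) ≤ Curv2.deg k X (cokernel f) s₀ * (n : ℤ)) := by
  have hpid := GrothLib.Euler.isPrincipalIdealRing_stalk_of_smooth (X ↘ Spec (CommRingCat.of k)) hdim.le
  obtain ⟨⟨r₀, h1, h2, h3⟩, ⟨s₀, h4, h5, h6⟩⟩ :=
    GrothLib.Euler.kernel_cokernel_same_slope k hdim.le hpid hr hs hE hF hEss hFss hμ f
  exact ⟨⟨r₀, h1, h2, h3⟩, ⟨s₀, h4, h5, h6⟩⟩

end Groth.Agent.S16469
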