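import Groth.Statements.S16473
import Groth.Agent.Lib.AlphaExt6.One
import Groth.Agent.Lib.AlphaExt6.Seq
import Groth.Agent.Lib.PullH25.Ext
-- import your own Groth.Agent.* helpers here

set_option autoImplicit false
set_option backward.isDefEq.respectTransparency false
set_option backward.isDefEq.respectTransparency.types false
set_option linter.style.haveILetI false
set_option maxHeartbeats 1000000
set_option synthInstance.maxHeartbeats 200000
universe u
open GaDual

namespace Groth.Agent.S16473

open CategoryTheory AlgebraicGeometry in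
/-- Suppose R is a commutative ring of prime characteristic p on which the Frobenius map r ↦ r^p is
surjective, and fix a natural number n. Consider α_{p^n}, the R-group scheme Spec R[x]/(x^(p^n))
with x primitive, i.e. the kernel of the n-th power of Frobenius acting on the additive group. Then
Ext^1 of α_{p^n} by the multiplicative group is trivial, where the Ext is formed among
abelian-group-valued sheaves over the big fppf site of Spec R. -/
theorem result (p : ℕ) [Fact p.Prime] (R : Type u)
    [CommRing R] [CharP R p] (hF : Function.Surjective (frobenius R p)) (n : ℕ) :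
    Subsingleton (CGrpSh.ExtS Scheme.fppfPrecoverage
      ((Spec (CommRingCat.of (AlphaPn.A p n R))).asOver (Spec (CommRingCat.of R)))
      (Red.Gm (Spec (CommRingCat.of R))) 1) := by
  induction n with
  | zero =>
    refine subsingleton_of_forall_eq 0 fun ξ => ?_
    have h1 : Limits.IsZero (CGrpSh.pts Scheme.fppfPrecoverage (GrothLib.AlphaExt6.Gn p 0 R)) := by
      refine (Limits.IsZero.iff_id_eq_zero _).2 (Sheaf.hom_ext (NatTrans.ext (funext fun T => AddCommGrpCat.ext fun z => ?_)))
      refine ULift.ext _ _ (congrArg Additive.ofMul (GrothLib.AlphaExt6.fn_injective ?_))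
      have h2 : ∀ x : T.unop ⟶ GrothLib.AlphaExt6.Gn p 0 R, GrothLib.AlphaExt6.fn x = 0 := fun x => by
        simpa using GrothLib.AlphaExt6.fn_pow x
      exact (h2 _).trans (h2 _).symm
    refine (Abelian.Ext.mk₀_id_comp ξ).symm.trans ?_
    have e : Abelian.Ext.mk₀ (𝟙 (CGrpSh.pts Scheme.fppfPrecoverage (GrothLib.AlphaExt6.Gn p 0 R))) = 0 := by
      rw [h1.eq_of_src (𝟙 _) 0]
      exact Abelian.Ext.mk₀_zero _ _
    exact (congrArg (fun m => Abelian.Ext.comp m ξ (zero_add 1)) e).trans (Abelian.Ext.zero_comp _ _ _ _ _)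
  | succ n ih =>
    refine subsingleton_of_forall_eq 0 fun ξ => ?_
    have h1 : Subsingleton (CGrpSh.ExtS Scheme.fppfPrecoverage (GrothLib.AlphaExt6.Gn p 1 R)
        (Red.Gm (Spec (CommRingCat.of R))) 1) := by
      refine subsingleton_of_forall_eq 0 fun η => ?_
      obtain ⟨y, rfl⟩ := GrothLib.PullH25.exists_comp_extClass (n := 0) η
      obtain ⟨φ, rfl⟩ := (Abelian.Ext.mk₀_bijective _ _).2 y
      have hC := GrothLib.PullH25.injSES_shortExact (GrothLib.GaDualQ13.GmSh (Spec (CommRingCat.of R)))
      obtain ⟨ψ, rfl⟩ := GrothLib.AlphaExt6.exists_factor p R hF _ _ _ hC φ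
      rw [← Abelian.Ext.mk₀_comp_mk₀, Abelian.Ext.comp_assoc_of_second_deg_zero]
      erw [hC.comp_extClass]
      rw [Abelian.Ext.comp_zero]
    obtain ⟨y, hy⟩ := Abelian.Ext.contravariant_sequence_exact₂ (GrothLib.AlphaExt6.seq_shortExact p R n)
      (CGrpSh.pts Scheme.fppfPrecoverage (Red.Gm (Spec (CommRingCat.of R)))) ξ (@Subsingleton.elim _ h1 _ _)
    rw [← hy, @Subsingleton.elim _ ih y 0]
    exact Abelian.Ext.comp_zero _ _ _ _ _

end Groth.Agent.S16473
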