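import Groth.Statements.S16474
import Groth.Agent.Lib.GLTens.Basic
import Groth.Agent.Lib.SLInt.GL
import Mathlib.LinearAlgebra.Matrix.Determinant.Basic
import Mathlib.LinearAlgebra.PiTensorProduct.Finite

set_option autoImplicit false
open LaurentPolynomial
open ComodTens

namespace Groth.Agent.S16474

open scoped TensorProduct

/-- Let r ≥ 1 and let V be a finite-dimensional rational representation of the general linear group GL_r
over the complex numbers (a finite-dimensional comodule over its coordinate Hopf algebra) which is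
homogeneous of some integer degree h, i.e. restricted to the scalar one-parameter subgroup t ↦ t·1
every vector of V has weight h. Then there are natural numbers a, b, c with c > 0 such that V is a
direct summand, as a representation, of ((ℂ^r)^(⊗a))^(⊕b) ⊗ det^(-c): there are equivariant linear
maps i : V → E and p : E → V with p ∘ i the identity, where E is the direct sum of b copies of the
a-th tensor power of the standard representation on ℂ^r, twisted by the (−c)-th power of the
determinant character. -/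
theorem result (r : ℕ) (hr : 0 < r)
    (V : Type) [AddCommGroup V] [Module ℂ V] [Module.Finite ℂ V] (ρ : HopfRep.Comod ℂ (CoordGrp.GLn r ℂ) V)
    (h : ℤ)
    (hh : @HopfRep.eigenspace ℂ ℂ[T;T⁻¹] _ _ _ V _ _
      (GLin.comodAlong (CoordGrp.GLn.diag r ℂ (fun _ => 1)) ρ) (T h) = ⊤) :
    ∃ (a b c : ℕ), 0 < c ∧
      ∃ (i : V →ₗ[ℂ] (Fin b → TensorPower ℂ a (Fin r → ℂ)))
        (p : (Fin b → TensorPower ℂ a (Fin r → ℂ)) →ₗ[ℂ] V),
        p ∘ₗ i = LinearMap.id ∧
        @Hoch.IsComodHom ℂ _ (CoordGrp.GLn r ℂ) _ _ _ V _ _ ρ (Fin b → TensorPower ℂ a (Fin r → ℂ)) _ _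
          (ComodTens.Comod.twist
            (ComodTens.Comod.pi fun _ : Fin b =>
              ComodTens.Comod.tpow (GLin.comodAlong (CoordGrp.Mat.toGLn r ℂ) (ComodTens.stdVec r ℂ)) a)
            (CoordGrp.GLn.Dinv ^ c) (IsGroupLikeElem.pow ⟨CoordGrp.GLn.counit_Dinv, CoordGrp.GLn.comul_Dinv⟩)) i ∧
        @Hoch.IsComodHom ℂ _ (CoordGrp.GLn r ℂ) _ _ _ (Fin b → TensorPower ℂ a (Fin r → ℂ)) _ _
          (ComodTens.Comod.twist
            (ComodTens.Comod.pi fun _ : Fin b =>
              ComodTens.Comod.tpow (GLin.comodAlong (CoordGrp.Mat.toGLn r ℂ) (ComodTens.stdVec r ℂ)) a)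
            (CoordGrp.GLn.Dinv ^ c) (IsGroupLikeElem.pow ⟨CoordGrp.GLn.counit_Dinv, CoordGrp.GLn.comul_Dinv⟩)) V _ _ ρ p := by
  classical
  let A := CoordGrp.GLn r ℂ
  let st : HopfRep.Comod ℂ (CoordGrp.GLn r ℂ) (Fin r → ℂ) := GrothLib.GLTens.stdc r ℂ
  let P := Algebra.adjoin ℂ (GrothLib.Comodule.coeffOf st : Set (CoordGrp.GLn r ℂ))
  have hX : ∀ i j, (CoordGrp.GLn.X i j : CoordGrp.GLn r ℂ) ∈ P := fun i j => by
    refine Algebra.subset_adjoin ?_
    have h : (CoordGrp.GLn.X i j : CoordGrp.GLn r ℂ) =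
        GrothLib.Comodule.cfOf st (LinearMap.proj i) (Pi.single j 1) := by
      rw [GrothLib.Comodule.cfOf_apply]
      simp only [st, GLin.comodAlong_coact, ComodTens.stdVec_coact_single, map_sum,
        TensorProduct.map_tmul, LinearMap.id_apply, LinearMap.rTensor_tmul, TensorProduct.lid_tmul, LinearMap.proj_apply]
      rw [Finset.sum_eq_single i]
      · simp
      · intro l _ hl; simp [Pi.single_eq_of_ne (Ne.symm hl)]
      · simp
    rw [h]
    exact GrothLib.Comodule.cfOf_mem _ _ _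
  have hdet : (CoordGrp.GLn.det : CoordGrp.GLn r ℂ) ∈ P := by
    rw [CoordGrp.GLn.det_eq, Matrix.det_apply]
    refine Subalgebra.sum_mem _ fun σ _ => ?_
    rw [Units.smul_def]
    exact Subalgebra.zsmul_mem _ (Subalgebra.prod_mem _ fun i _ => hX (σ i) i) _
  have hclear : ∀ a : CoordGrp.GLn r ℂ, ∃ c : ℕ, ∀ e, c ≤ e → a * CoordGrp.GLn.det ^ e ∈ P := by
    intro a
    obtain ⟨p, rfl⟩ := Ideal.Quotient.mkₐ_surjective ℂ (CoordGrp.GLb.relIdeal r ℂ) a
    let mkP : MvPolynomial (CoordGrp.GLPoly.Idx r) ℂ →ₐ[ℂ] CoordGrp.GLn r ℂ := CoordGrp.GLn.mk r ℂ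
    change ∃ c : ℕ, ∀ e, c ≤ e → mkP p * CoordGrp.GLn.det ^ e ∈ P
    induction (show MvPolynomial (CoordGrp.GLPoly.Idx r) ℂ from p) using MvPolynomial.induction_on with
    | C x =>
      refine ⟨0, fun e _ => Subalgebra.mul_mem _ ?_ (Subalgebra.pow_mem _ hdet e)⟩
      rw [← MvPolynomial.algebraMap_eq, AlgHom.commutes]
      exact P.algebraMap_mem x
    | add s t hs ht =>
      obtain ⟨c1, h1⟩ := hs
      obtain ⟨c2, h2⟩ := ht
      refine ⟨max c1 c2, fun e he => ?_⟩
      rw [map_add, add_mul]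
      exact Subalgebra.add_mem _ (h1 e (le_of_max_le_left he)) (h2 e (le_of_max_le_right he))
    | mul_X s i hs =>
      obtain ⟨c1, h1⟩ := hs
      rcases i with ⟨i, j⟩ | ⟨⟩
      · refine ⟨c1, fun e he => ?_⟩
        rw [map_mul, mul_right_comm]
        exact Subalgebra.mul_mem _ (h1 e he) (hX i j)
      · refine ⟨c1 + 1, fun e he => ?_⟩
        obtain ⟨e', rfl⟩ : ∃ e', e = e' + 1 := ⟨e - 1, by omega⟩
        rw [map_mul, show mkP (MvPolynomial.X (Sum.inr ())) = (CoordGrp.GLn.Dinv : CoordGrp.GLn r ℂ) from rfl, pow_succ',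
          mul_assoc, ← mul_assoc CoordGrp.GLn.Dinv, CoordGrp.GLn.Dinv_mul_det, one_mul]
        exact h1 e' (by omega)
  -- the coefficients of `V`
  let _ := ρ
  let w := Module.finBasis ℂ V
  let nV := Module.finrank ℂ V
  let gen : Fin nV × Fin nV → CoordGrp.GLn r ℂ := fun p => GrothLib.Comodule.cfMap (w.coord p.1) (w p.2)
  choose cg hcg using fun p => hclear (gen p)
  let c : ℕ := Finset.univ.sup cg + 1
  have hc : ∀ (i : Fin nV) (v : V), GrothLib.Comodule.cfMap (C := CoordGrp.GLn r ℂ) (w.coord i) v * CoordGrp.GLn.det ^ c ∈ P := by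
    intro i v
    rw [← w.sum_repr v, map_sum, Finset.sum_mul]
    refine Subalgebra.sum_mem _ fun j _ => ?_
    rw [map_smul, smul_mul_assoc]
    exact P.smul_mem (hcg (i, j) c ((Finset.le_sup (Finset.mem_univ (i, j))).trans (Nat.le_succ _))) _
  have hg : IsGroupLikeElem ℂ ((CoordGrp.GLn.Dinv : CoordGrp.GLn r ℂ) ^ c) :=
    IsGroupLikeElem.pow ⟨CoordGrp.GLn.counit_Dinv, CoordGrp.GLn.comul_Dinv⟩
  let TD : ∀ m : ℕ, HopfRep.Comod ℂ (CoordGrp.GLn r ℂ) (TensorPower ℂ m (Fin r → ℂ)) := fun m =>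
    ComodTens.Comod.twist (ComodTens.Comod.tpow st m) ((CoordGrp.GLn.Dinv : CoordGrp.GLn r ℂ) ^ c) hg
  let a : ℕ := (h + (c : ℤ) * (r : ℤ)).toNat
  -- projection onto a weight
  let sc := (GrothLib.GLTens.scal r ℂ : CoordGrp.GLn r ℂ →ₗ[ℂ] LaurentPolynomial ℂ)
  let ev : LaurentPolynomial ℂ →ₗ[ℂ] ℂ :=
    { toFun := fun p => p.coeff h, map_add' := fun p q => by simp, map_smul' := fun x p => by simp }
  let π : CoordGrp.GLn r ℂ →ₗ[ℂ] CoordGrp.GLn r ℂ :=
    (TensorProduct.rid ℂ _).toLinearMap ∘ₗ (ev ∘ₗ sc).lTensor _ ∘ₗ CoalgebraStruct.comul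
  have hπ : ∀ {M : Type} [AddCommGroup M] [Module ℂ M] (d : HopfRep.Comod ℂ (CoordGrp.GLn r ℂ) M) (X : LaurentPolynomial ℂ),
      GrothLib.GLTens.HasWeight (GrothLib.GLTens.scal r ℂ) d X → ∀ (φ : Module.Dual ℂ M) (x : M),
      π (GrothLib.Comodule.cfOf d φ x) = ev X • GrothLib.Comodule.cfOf d φ x := by
    intro M _ _ d X hw φ x
    let _ := d
    change TensorProduct.rid ℂ _ ((ev ∘ₗ sc).lTensor _
      (Coalgebra.comul (R := ℂ) (GrothLib.Comodule.cfMap φ x))) = ev X • GrothLib.Comodule.cfMap φ x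
    have h1 := GrothLib.Comodule.IsComodHom.apply (GrothLib.Comodule.isComodHom_cfMap (C := CoordGrp.GLn r ℂ) φ) x
    change Coalgebra.comul (R := ℂ) _ = _ at h1
    rw [h1, GrothLib.GLTens.lr_comm, LinearMap.lTensor_comp, LinearMap.comp_apply, hw x, LinearMap.lTensor_tmul,
      LinearMap.rTensor_tmul, TensorProduct.rid_tmul]
  have hTDw : ∀ m : ℕ, GrothLib.GLTens.HasWeight (GrothLib.GLTens.scal r ℂ) (TD m)
      (LaurentPolynomial.T ((m : ℤ) - c * r)) := by
    intro m x
    have h0 := GrothLib.GLTens.tpow_weight (k := ℂ) (n := r) m x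
    have hD : sc ((CoordGrp.GLn.Dinv : CoordGrp.GLn r ℂ) ^ c) = LaurentPolynomial.T (-((c : ℤ) * r)) := by
      change GrothLib.GLTens.scal r ℂ _ = _
      rw [map_pow, CoordGrp.GLn.diag_Dinv, LaurentPolynomial.T_pow]
      congr 1
      simp
    have hmul : ∀ z : TensorPower ℂ m (Fin r → ℂ) ⊗[ℂ] CoordGrp.GLn r ℂ,
        sc.lTensor _ ((LinearMap.mulRight ℂ ((CoordGrp.GLn.Dinv : CoordGrp.GLn r ℂ) ^ c)).lTensor _ z) =
          (LinearMap.mulRight ℂ (sc ((CoordGrp.GLn.Dinv : CoordGrp.GLn r ℂ) ^ c))).lTensor _ (sc.lTensor _ z) := fun z => by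
      induction z using TensorProduct.induction_on with
      | zero => simp
      | add s t hs ht => simp only [map_add, hs, ht]
      | tmul s t =>
        simp only [LinearMap.lTensor_tmul, LinearMap.mulRight_apply]
        exact congrArg _ (map_mul (GrothLib.GLTens.scal r ℂ) t _)
    change sc.lTensor _ ((LinearMap.mulRight ℂ _).lTensor _ ((ComodTens.Comod.tpow st m).coact x)) = _
    rw [hmul, h0, LinearMap.lTensor_tmul, LinearMap.mulRight_apply, hD, ← LaurentPolynomial.T_add]
    rfl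
  have hVw : GrothLib.GLTens.HasWeight (GrothLib.GLTens.scal r ℂ) ρ (LaurentPolynomial.T h) := fun v => by
    have hv : v ∈ (⊤ : Submodule ℂ V) := Submodule.mem_top
    rw [← hh] at hv
    exact hv
  -- the coefficients lie in those of the twisted tensor power
  have hU : ∀ (i : Fin nV) (v : V), GrothLib.Comodule.cfMap (w.coord i) v ∈ GrothLib.Comodule.coeffOf (TD a) := by
    intro i v
    have hfix : π (GrothLib.Comodule.cfMap (w.coord i) v) = GrothLib.Comodule.cfMap (w.coord i) v := by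
      refine (hπ ρ _ hVw (w.coord i) v).trans ?_
      rw [show ev (LaurentPolynomial.T h) = 1 by simp [ev], one_smul]
      rfl
    rw [← hfix]
    have hu : GrothLib.Comodule.cfMap (C := CoordGrp.GLn r ℂ) (w.coord i) v ∈
        (⨆ m : ℕ, GrothLib.Comodule.coeffOf (TD m)) := by
      have h1 : GrothLib.Comodule.cfMap (C := CoordGrp.GLn r ℂ) (w.coord i) v * CoordGrp.GLn.det ^ c ∈
          (⨆ m : ℕ, GrothLib.Comodule.coeffOf (ComodTens.Comod.tpow st m)) :=
        GrothLib.Comodule.adjoin_le_iSup_tpow st (hc i v)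
      have h2 : Submodule.map (LinearMap.mulRight ℂ ((CoordGrp.GLn.Dinv : CoordGrp.GLn r ℂ) ^ c))
          (⨆ m : ℕ, GrothLib.Comodule.coeffOf (ComodTens.Comod.tpow st m)) ≤
            ⨆ m : ℕ, GrothLib.Comodule.coeffOf (TD m) := by
        rw [Submodule.map_iSup]
        refine iSup_mono fun m => ?_
        rw [Submodule.map_le_iff_le_comap]
        refine iSup_le fun φ => ?_
        rintro _ ⟨x, rfl⟩
        rw [Submodule.mem_comap, LinearMap.mulRight_apply]
        change GrothLib.Comodule.cfOf (ComodTens.Comod.tpow st m) φ x * _ ∈ _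
        have he : GrothLib.Comodule.cfOf (ComodTens.Comod.tpow st m) φ x * (CoordGrp.GLn.Dinv : CoordGrp.GLn r ℂ) ^ c =
            GrothLib.Comodule.cfOf (TD m) φ x := by
          rw [GrothLib.Comodule.cfOf_apply, GrothLib.Comodule.cfOf_apply, ComodTens.twist_coact]
          induction (ComodTens.Comod.tpow st m).coact x using TensorProduct.induction_on with
          | zero => simp
          | tmul s t => simp
          | add s t hs ht => simp only [map_add, add_mul, hs, ht]
        rw [he]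
        exact GrothLib.Comodule.cfOf_mem _ _ _
      have := h2 ⟨_, h1, rfl⟩
      rwa [LinearMap.mulRight_apply, mul_assoc, ← mul_pow, CoordGrp.GLn.det_mul_Dinv, one_pow, mul_one] at this
    have hle : Submodule.map π (⨆ m : ℕ, GrothLib.Comodule.coeffOf (TD m)) ≤ GrothLib.Comodule.coeffOf (TD a) := by
      rw [Submodule.map_iSup]
      refine iSup_le fun m => ?_
      rw [Submodule.map_le_iff_le_comap]
      refine iSup_le fun φ => ?_
      rintro _ ⟨x, rfl⟩
      rw [Submodule.mem_comap]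
      change π (GrothLib.Comodule.cfOf (TD m) φ x) ∈ _
      rw [hπ (TD m) _ (hTDw m) φ x]
      by_cases hm : (m : ℤ) - c * r = h
      · have : m = a := by
          simp only [a, ← hm, sub_add_cancel, Int.toNat_natCast]
        subst this
        exact Submodule.smul_mem _ _ (GrothLib.Comodule.cfOf_mem _ _ _)
      · rw [show ev (LaurentPolynomial.T ((m : ℤ) - c * r)) = 0 by simp [ev, hm], zero_smul]
        exact zero_mem _
    exact hle ⟨_, hu, rfl⟩
  -- assemble
  let T := TensorPower ℂ a (Fin r → ℂ)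
  let tb := Module.finBasis ℂ T
  let idx := Fin nV × Fin (Module.finrank ℂ T)
  let e := Fintype.equivFin idx
  let cE : HopfRep.Comod ℂ (CoordGrp.GLn r ℂ) (Fin (Fintype.card idx) → T) := ComodTens.Comod.twist
    (ComodTens.Comod.pi fun _ : Fin (Fintype.card idx) => ComodTens.Comod.tpow st a)
    ((CoordGrp.GLn.Dinv : CoordGrp.GLn r ℂ) ^ c) hg
  let _ := cE
  let Θ : (Fin (Fintype.card idx) → T) →ₗ[ℂ] Hoch.Ind ℂ (CoordGrp.GLn r ℂ) V :=
    ∑ b, GrothLib.Comodule.indIncl (CoordGrp.GLn r ℂ) (w (e.symm b).1) ∘ₗ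
      GrothLib.Comodule.cfOf (TD a) (tb.coord (e.symm b).2) ∘ₗ LinearMap.proj b
  have hΘs : ∀ b (x : T), Θ (Pi.single b x) = GrothLib.Comodule.indIncl (CoordGrp.GLn r ℂ) (w (e.symm b).1)
        (GrothLib.Comodule.cfOf (TD a) (tb.coord (e.symm b).2) x) := fun b x => by
    simp only [Θ, LinearMap.sum_apply, LinearMap.comp_apply, LinearMap.proj_apply]
    rw [Finset.sum_eq_single b]
    · rw [Pi.single_eq_same]
    · intro d _ hd; rw [Pi.single_eq_of_ne hd, map_zero, map_zero]
    · simp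
  have hcE : ∀ b (x : T), cE.coact (Pi.single b x) =
      (LinearMap.single ℂ (fun _ : Fin (Fintype.card idx) => T) b).rTensor _ ((TD a).coact x) := by
    intro b x
    change (LinearMap.mulRight ℂ _).lTensor _ _ = _
    rw [ComodTens.pi_coact_single, GrothLib.GLTens.lr_comm]
    rfl
  have hΘ : Hoch.IsComodHom (CoordGrp.GLn r ℂ) Θ := by
    refine LinearMap.pi_ext fun b x => ?_
    have hs := GrothLib.Comodule.isComodHom_indIncl (k := ℂ) (C := CoordGrp.GLn r ℂ) (V := V) (w (e.symm b).1)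
    have hc' := @GrothLib.Comodule.isComodHom_cfMap ℂ _ (CoordGrp.GLn r ℂ) _ _ _ _ _ _ (TD a) (tb.coord (e.symm b).2)
    simp only [LinearMap.comp_apply]
    rw [hΘs, GrothLib.Comodule.IsComodHom.apply hs,
      show (HopfRep.Comod.coact (k := ℂ) (A := CoordGrp.GLn r ℂ) (V := CoordGrp.GLn r ℂ))
        (GrothLib.Comodule.cfOf (TD a) (tb.coord (e.symm b).2) x) = _ from
        @GrothLib.Comodule.IsComodHom.apply ℂ _ (CoordGrp.GLn r ℂ) _ _ _ _ _ _ (TD a) _ _ _ _ _ hc' x,
      show (HopfRep.Comod.coact (k := ℂ) (A := CoordGrp.GLn r ℂ) (V := Fin (Fintype.card idx) → T)) (Pi.single b x) = _ from hcE b x]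
    rw [← LinearMap.comp_apply, ← LinearMap.rTensor_comp, ← LinearMap.comp_apply (Θ.rTensor _),
      ← LinearMap.rTensor_comp]
    rw [show Θ ∘ₗ LinearMap.single ℂ _ b = GrothLib.Comodule.indIncl (CoordGrp.GLn r ℂ) (w (e.symm b).1) ∘ₗ
      GrothLib.Comodule.cfOf (TD a) (tb.coord (e.symm b).2) from LinearMap.ext (hΘs b)]
    rfl
  obtain ⟨α, hα, hα1⟩ := GrothLib.SLInt.exists_integral_GL (k := ℂ) hr
  let p : (Fin (Fintype.card idx) → T) →ₗ[ℂ] V := GrothLib.Comodule.average α ∘ₗ Θ
  have hp : Hoch.IsComodHom (CoordGrp.GLn r ℂ) p :=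
    GrothLib.Comodule.IsComodHom.comp (GrothLib.Comodule.isComodHom_average α hα) hΘ
  have hsurj : Function.Surjective p := by
    intro v
    have hv : Hoch.toInd ℂ (CoordGrp.GLn r ℂ) V v ∈ LinearMap.range Θ := by
      have hexp : Hoch.toInd ℂ (CoordGrp.GLn r ℂ) V v = ∑ i, GrothLib.Comodule.indIncl (CoordGrp.GLn r ℂ) (w i)
          (GrothLib.Comodule.cfMap (w.coord i) v) := by
        change Hoch.Ind.equiv ℂ (CoordGrp.GLn r ℂ) V (HopfRep.Comod.coact (k := ℂ) (A := CoordGrp.GLn r ℂ) v) = _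
        simp only [GrothLib.Comodule.cfMap_apply, GrothLib.Comodule.indIncl, LinearMap.comp_apply,
          LinearEquiv.coe_coe, ← map_sum, TensorProduct.mk_apply]
        congr 1
        induction HopfRep.Comod.coact (k := ℂ) (A := CoordGrp.GLn r ℂ) v using TensorProduct.induction_on with
        | zero => simp
        | tmul p q =>
          conv_lhs => rw [← w.sum_repr p, TensorProduct.sum_tmul]
          simp [TensorProduct.smul_tmul]
        | add x y hx hy =>
          simp only [map_add, TensorProduct.tmul_add, Finset.sum_add_distrib, ← hx, ← hy]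
      rw [hexp]
      refine Submodule.sum_mem _ fun i _ => ?_
      have hle : GrothLib.Comodule.coeffOf (TD a) ≤
          (LinearMap.range Θ).comap (GrothLib.Comodule.indIncl (CoordGrp.GLn r ℂ) (w i)) := by
        refine iSup_le fun φ => ?_
        rintro _ ⟨x, rfl⟩
        change GrothLib.Comodule.indIncl _ (w i) (GrothLib.Comodule.cfOf (TD a) φ x) ∈ LinearMap.range Θ
        have hφ : GrothLib.Comodule.cfOf (TD a) φ x = ∑ j, φ (tb j) • GrothLib.Comodule.cfOf (TD a) (tb.coord j) x := by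
          simp only [GrothLib.Comodule.cfOf_apply]
          induction (TD a).coact x using TensorProduct.induction_on with
          | zero => simp
          | tmul s t =>
            simp only [LinearMap.rTensor_tmul, TensorProduct.lid_tmul, smul_smul, ← Finset.sum_smul]
            congr 1
            conv_lhs => rw [← tb.sum_repr s, map_sum]
            simp [mul_comm]
          | add s t hs ht => simp only [map_add, smul_add, Finset.sum_add_distrib, hs, ht]
        rw [hφ, map_sum]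
        refine Submodule.sum_mem _ fun j _ => ?_
        rw [map_smul]
        refine Submodule.smul_mem _ _ ⟨Pi.single (e (i, j)) x, ?_⟩
        rw [hΘs, e.symm_apply_apply]
      exact hle (hU i v)
    obtain ⟨x, hx⟩ := hv
    exact ⟨x, (congrArg _ hx).trans (GrothLib.Comodule.average_coact α hα1 v)⟩
  obtain ⟨i, hi, hpi⟩ := GrothLib.GLTens.exists_section α hα hα1 p hp hsurj
  exact ⟨a, Fintype.card idx, c, Nat.succ_pos _, i, p, hpi, hi, hp⟩

end Groth.Agent.S16474
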