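import Groth.Statements.S16478
import Mathlib

set_option autoImplicit false
universe u
open GaDual

namespace Groth.Agent.S16478

open scoped TensorProduct

/-- Let A be a commutative ring of prime characteristic p and n ≥ 1, and let φ be the comorphism of the
closed immersion α_{p^n} → G_a over A: the bialgebra map from the Hopf algebra of the additive group
(generator t primitive) to A[x]/(x^(p^n)) (x primitive) sending t to x. Then the restriction map on
characters, from those of the additive group over A to those of α_{p^n} over A, is surjective: every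
group-like element of A[x]/(x^(p^n)) is the image under φ of a group-like element of the Hopf
algebra of the additive group. -/
theorem result (p : ℕ) [Fact p.Prime] (A : Type u) [CommRing A] [CharP A p]
    (n : ℕ) (hn : 1 ≤ n) (φ : SekSuwa.A A 0 →ₐc[A] AlphaPn.A p n A) (hφ : φ SekSuwa.A.t = AlphaPn.x p n A)
    (u : AlphaPn.A p n A) (hu : IsGroupLikeElem A u) :
    ∃ g : SekSuwa.A A 0, IsGroupLikeElem A g ∧ φ g = u := by
  classical
  haveI : Nontrivial A := CharP.nontrivial_of_char_ne_one (R := A) (Fact.out : p.Prime).ne_one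
  set P := p ^ n
  let b := AlphaPn.basis p n A
  let c : Fin P → A := fun i => b.repr u i
  let g : SekSuwa.A A 0 := ∑ i : Fin P, c i • SekSuwa.A.t ^ (i : ℕ)
  have hg : φ g = u := by
    simp only [g, map_sum, map_smul, map_pow, hφ]
    conv_rhs => rw [← b.sum_repr u]
    exact Finset.sum_congr rfl fun i _ => by rw [AlphaPn.basis_apply]
  let v : Fin P × Fin P → SekSuwa.A A 0 ⊗[A] SekSuwa.A A 0 := fun ij =>
    (SekSuwa.A.t ^ (ij.1 : ℕ)) ⊗ₜ[A] (SekSuwa.A.t ^ (ij.2 : ℕ))
  have hinj : ∀ z ∈ Submodule.span A (Set.range v),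
      TensorProduct.map φ.toLinearMap φ.toLinearMap z = 0 → z = 0 := by
    intro z hz h0
    obtain ⟨a, rfl⟩ := (Submodule.mem_span_range_iff_exists_fun A).1 hz
    have hv : ∀ ij, TensorProduct.map φ.toLinearMap φ.toLinearMap (v ij) = (b.tensorProduct b) ij := fun ij => by
      rw [Module.Basis.tensorProduct_apply', AlphaPn.basis_apply, AlphaPn.basis_apply, TensorProduct.map_tmul]
      show φ (SekSuwa.A.t ^ (ij.1 : ℕ)) ⊗ₜ[A] φ (SekSuwa.A.t ^ (ij.2 : ℕ)) = _
      rw [map_pow, map_pow, hφ]
    simp only [map_sum, map_smul, hv] at h0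
    have ha := Fintype.linearIndependent_iff.1 (b.tensorProduct b).linearIndependent a h0
    simp [ha]
  have hcomul : CoalgebraStruct.comul (R := A) g ∈ Submodule.span A (Set.range v) := by
    simp only [g, map_sum, map_smul]
    refine Submodule.sum_mem _ fun i _ => Submodule.smul_mem _ _ ?_
    show Bialgebra.comulAlgHom A (SekSuwa.A A 0) (SekSuwa.A.t ^ (i : ℕ)) ∈ _
    rw [map_pow, Bialgebra.comulAlgHom_apply, SekSuwa.A.comul_t, zero_smul, add_zero, (Commute.all _ _).add_pow]
    refine Submodule.sum_mem _ fun m hm => ?_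
    rw [Finset.mem_range, Nat.lt_succ_iff] at hm
    rw [Algebra.TensorProduct.tmul_pow, Algebra.TensorProduct.tmul_pow, one_pow, one_pow,
      Algebra.TensorProduct.tmul_mul_tmul, one_mul, mul_one, ← Nat.cast_comm, ← nsmul_eq_mul]
    refine nsmul_mem (Submodule.subset_span ?_) _
    exact ⟨((⟨m, by omega⟩ : Fin P), (⟨i - m, by omega⟩ : Fin P)), rfl⟩
  have hgg : g ⊗ₜ[A] g ∈ Submodule.span A (Set.range v) := by
    simp only [g, TensorProduct.sum_tmul, TensorProduct.tmul_sum, TensorProduct.smul_tmul', TensorProduct.tmul_smul]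
    refine Submodule.sum_mem _ fun i _ => Submodule.smul_mem _ _ (Submodule.sum_mem _ fun j _ => ?_)
    rw [← TensorProduct.smul_tmul']
    exact Submodule.smul_mem _ _ (Submodule.subset_span ⟨(j, i), rfl⟩)
  refine ⟨g, ⟨?_, ?_⟩, hg⟩
  · rw [← hu.counit_eq_one, ← hg, CoalgHomClass.counit_comp_apply]
  · refine sub_eq_zero.1 (hinj _ (Submodule.sub_mem _ hcomul hgg) ?_)
    rw [map_sub, TensorProduct.map_tmul, sub_eq_zero]
    refine (CoalgHomClass.map_comp_comul_apply φ g).trans ?_
    show CoalgebraStruct.comul (R := A) (φ g) = φ g ⊗ₜ φ g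
    rw [hg, hu.comul_eq_tmul_self]

end Groth.Agent.S16478
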