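import Groth.Statements.S16482
import Mathlib

set_option autoImplicit false
open CategoryTheory CategoryTheory.Limits AlgebraicGeometry
universe u
open FrobSch

namespace Groth.Agent.S16482

/-- Let p be a prime and S a reduced scheme on which p = 0 whose absolute Frobenius is flat; let Y be a
reduced S-scheme with structure map a, Z an S-scheme with structure map b, and g₁, g₂ : Y ⟶ Z two
S-morphisms. For i = 1, 2 let h_i : Y ⟶ Z^(p) be the relative Frobenius F_{Y/S} : Y ⟶ Y^(p) followed
by the base change Y^(p) ⟶ Z^(p) of g_i along the absolute Frobenius of S. If h₁ = h₂, then g₁ = g₂.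
(The published statement works over the reduced special fibre of a flat formal scheme of finite type
over the Witt vectors of a perfect field; only reducedness of S and flatness of its absolute
Frobenius are kept here.) -/
theorem result (p : ℕ) [Fact p.Prime]
    {Y Z S : Scheme.{u}} [FrobSch.IsCharP S p] [IsReduced S] [Flat (FrobSch.frob S p)]
    [IsReduced Y] (a : Y ⟶ S) (b : Z ⟶ S) (g₁ g₂ : Y ⟶ Z) (hg₁ : g₁ ≫ b = a) (hg₂ : g₂ ≫ b = a)
    (h : FrobSch.relFrob a p ≫ pullback.map a (FrobSch.frob S p) b (FrobSch.frob S p) g₁ (𝟙 S) (𝟙 S)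
        ((Category.comp_id a).trans hg₁.symm) ((Category.comp_id _).trans (Category.id_comp _).symm) =
      FrobSch.relFrob a p ≫ pullback.map a (FrobSch.frob S p) b (FrobSch.frob S p) g₂ (𝟙 S) (𝟙 S)
        ((Category.comp_id a).trans hg₂.symm) ((Category.comp_id _).trans (Category.id_comp _).symm)) :
    g₁ = g₂ := by
  haveI : FrobSch.IsCharP Y p := FrobSch.IsCharP.of_hom a p
  have e : FrobSch.frob Y p ≫ g₁ = FrobSch.frob Y p ≫ g₂ := by
    have h' := congrArg (fun q => q ≫ pullback.fst b (FrobSch.frob S p)) h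
    simp only [Category.assoc, pullback.lift_fst] at h'
    rwa [FrobSch.relFrob_fst_assoc, FrobSch.relFrob_fst_assoc] at h'
  have hbase : g₁.base = g₂.base := by
    have := congrArg (fun q : Y ⟶ Z => q.base) e
    simpa only [Scheme.Hom.comp_base, FrobSch.frob_base, Category.id_comp] using this
  refine Scheme.Hom.ext hbase fun U => ?_
  ext s
  have h1 := Scheme.Hom.congr_app e U
  have h2 := congrArg (fun q => q s) h1
  simp only [Scheme.Hom.comp_app, CommRingCat.comp_apply] at h2
  change Y.presheaf.map _ (g₁.app U s) = g₂.app U s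
  have hle : g₂ ⁻¹ᵁ U = g₁ ⁻¹ᵁ U :=
    congrArg (fun b => (TopologicalSpace.Opens.map b).obj U) hbase.symm
  have h3 : Y.presheaf.map (eqToHom hle).op ((g₁.app U s) ^ p) = (g₂.app U s) ^ p := by
    refine Eq.trans ?_ ((congrArg (Y.presheaf.map (eqToHom hle).op) h2).trans ?_)
    · rfl
    · change Y.presheaf.map _ (Y.presheaf.map _ ((g₂.app U s) ^ p)) = _
      erw [← ConcreteCategory.comp_apply, ← Functor.map_comp]
      refine (congrArg (fun q => Y.presheaf.map q ((g₂.app U s) ^ p)) (Subsingleton.elim _ (𝟙 _))).trans ?_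
      rw [CategoryTheory.Functor.map_id]
      rfl
  rw [map_pow] at h3
  haveI : _root_.IsReduced Γ(Y, g₂ ⁻¹ᵁ U) := IsReduced.component_reduced _
  refine sub_eq_zero.mp (IsNilpotent.eq_zero ⟨p, ?_⟩)
  haveI := (FrobSch.natCast_eq_zero_app Y p (g₂ ⁻¹ᵁ U))
  change (FrobSch.powHom p Γ(Y, g₂ ⁻¹ᵁ U) this) (_ - _) = 0
  rw [map_sub, FrobSch.powHom_apply, FrobSch.powHom_apply, sub_eq_zero]
  exact h3

end Groth.Agent.S16482
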