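import Groth.Statements.S16483
import Mathlib.AlgebraicGeometry.Morphisms.ClosedImmersion
import Mathlib.AlgebraicGeometry.IdealSheaf.Functorial
set_option linter.all false

set_option autoImplicit false
open CategoryTheory CategoryTheory.Limits AlgebraicGeometry
universe u
open FrobSch

namespace Groth.Agent.S16483

/-- Let p be a prime, k a perfect field of characteristic p, T a k-scheme and X a k-scheme with
Frobenius twist X^(p) = X ×_{Spec k, F} Spec k and relative Frobenius F_{X/k} : X ⟶ X^(p). For m ≥ 0
write T^(m) for the closed subscheme of T cut out by the sections whose p^m-th power vanishes (the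
scheme-theoretic image of the m-fold absolute Frobenius F_T^m), and T_0 for the reduced closed
subscheme of T; the inclusions T_0 ⟶ T^(n+1) and T_0 ⟶ T^(n) over T are the given morphisms i and j.
Then for every k-morphism w : T^(n+1) ⟶ X there is a k-morphism v : T^(n) ⟶ X^(p) whose restriction
to T_0 is F_{X/k} composed with the restriction of w to T_0. (The published statement takes T to be
the special fibre of a flat p-adic formal scheme of finite type over the Witt vectors of k, is
phrased for categories of such objects, and takes X locally of finite type over k; none of this is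
used, so T and X are arbitrary k-schemes here.) -/
theorem result (p : ℕ) [Fact p.Prime]
    (k : Type u) [Field k] [CharP k p] [PerfectField k] (n : ℕ)
    {T X : Scheme.{u}} [FrobSch.IsCharP T p] (t : T ⟶ Spec (CommRingCat.of k))
    (x : X ⟶ Spec (CommRingCat.of k))
    (i : T.nilradical.subscheme ⟶ (FrobSch.frobIter T p (n + 1)).ker.subscheme)
    (hi : i ≫ (FrobSch.frobIter T p (n + 1)).ker.subschemeι = T.nilradical.subschemeι)
    (j : T.nilradical.subscheme ⟶ (FrobSch.frobIter T p n).ker.subscheme)
    (hj : j ≫ (FrobSch.frobIter T p n).ker.subschemeι = T.nilradical.subschemeι)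
    (w : (FrobSch.frobIter T p (n + 1)).ker.subscheme ⟶ X)
    (hw : w ≫ x = (FrobSch.frobIter T p (n + 1)).ker.subschemeι ≫ t) :
    ∃ v : (FrobSch.frobIter T p n).ker.subscheme ⟶ FrobSch.frobTwist x p,
      v ≫ pullback.snd x (FrobSch.frob (Spec (CommRingCat.of k)) p) =
          (FrobSch.frobIter T p n).ker.subschemeι ≫ t ∧
        j ≫ v = i ≫ w ≫ FrobSch.relFrob x p := by
  have hF : ∀ m, (frobIter T p m).base = 𝟙 _ := by
    intro m
    induction m with
    | zero => rfl
    | succ m ih => rw [frobIter_succ, Scheme.Hom.comp_base, ih, frob_base, Category.id_comp]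
  haveI : ∀ m, QuasiCompact (frobIter T p m) := by
    intro m
    induction m with
    | zero => rw [frobIter_zero]; infer_instance
    | succ m ih =>
      haveI : QuasiCompact (frob T p) := ⟨fun U hU h => by simpa using h⟩
      rw [frobIter_succ]; infer_instance
  have hcomm : ∀ m, frobIter T p (m + 1) = frobIter T p m ≫ frob T p := by
    intro m
    rw [frobIter_succ]; exact frob_comp p (frobIter T p m)
  let ιn := (frobIter T p n).ker.subschemeι
  let ιm := (frobIter T p (n + 1)).ker.subschemeι
  haveI : IsCharP (frobIter T p n).ker.subscheme p := IsCharP.of_hom ιn p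
  haveI : IsCharP (frobIter T p (n + 1)).ker.subscheme p := IsCharP.of_hom ιm p
  haveI : IsCharP T.nilradical.subscheme p := IsCharP.of_hom T.nilradical.subschemeι p
  haveI : IsCharP X p := IsCharP.of_hom x p
  have hle : ιm.ker ≤ (frob (frobIter T p n).ker.subscheme p ≫ ιn).ker := by
    haveI : QuasiCompact (frob (frobIter T p n).ker.subscheme p ≫ ιn) := by
      rw [frob_comp p ιn]
      haveI : QuasiCompact (frob T p) := ⟨fun U hU h => by simpa using h⟩
      infer_instance
    rw [show ιm.ker = (frobIter T p (n + 1)).ker from Scheme.IdealSheafData.ker_subschemeι _]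
    intro U s hs
    rw [Scheme.Hom.ker_apply] at hs ⊢
    rw [RingHom.mem_ker] at hs ⊢
    have h1 : s ^ p ∈ (frobIter T p n).ker.ideal U := by
      rw [Scheme.Hom.ker_apply, RingHom.mem_ker]
      have h3 : ∀ (f g : T ⟶ T) (e : f = g) (z : Γ(T, (U : T.Opens))),
          f.app (U : T.Opens) z = 0 → g.app (U : T.Opens) z = 0 := by
        intro f g e z hz; subst e; exact hz
      have h4 := h3 _ _ (hcomm n) s hs
      rw [Scheme.Hom.comp_app] at h4
      exact h4
    have h5 : ιn.app (U : T.Opens) (s ^ p) = 0 := by
      rw [← (frobIter T p n).ker.ker_subschemeι, Scheme.Hom.ker_apply, RingHom.mem_ker] at h1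
      exact h1
    rw [Scheme.Hom.comp_app]
    change (ιn.app (U : T.Opens) s) ^ p = 0
    rw [← map_pow]; exact h5
  let φ := IsClosedImmersion.lift ιm (frob (frobIter T p n).ker.subscheme p ≫ ιn) hle
  have hφ : φ ≫ ιm = frob (frobIter T p n).ker.subscheme p ≫ ιn := IsClosedImmersion.lift_fac _ _ _
  have hc : (φ ≫ w) ≫ x = (ιn ≫ t) ≫ frob (Spec (CommRingCat.of k)) p := by
    rw [Category.assoc, hw, ← Category.assoc, hφ, Category.assoc, frob_comp p (ιn ≫ t)]
  refine ⟨pullback.lift (φ ≫ w) (ιn ≫ t) hc, pullback.lift_snd _ _ _, ?_⟩
  apply pullback.hom_ext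
  · simp only [Category.assoc, pullback.lift_fst, relFrob_fst]
    rw [← frob_comp p w, ← Category.assoc i, ← frob_comp p i, Category.assoc, ← Category.assoc j]
    have : j ≫ φ = frob T.nilradical.subscheme p ≫ i := by
      rw [← cancel_mono ιm, Category.assoc, hφ, Category.assoc, ← Category.assoc j, ← frob_comp p j,
        Category.assoc, hj, hi]
    rw [this, Category.assoc]
  · simp only [Category.assoc, pullback.lift_snd, relFrob_snd]
    rw [hw, ← Category.assoc i, hi, ← Category.assoc, hj]

end Groth.Agent.S16483
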