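import Groth.Statements.S16484
import Groth.Agent.Lib.HomSh.Eval

set_option autoImplicit false
universe u
open CategoryTheory AlgebraicGeometry
open RefHull

namespace Groth.Agent.S16484

/-- Consider a scheme X together with O_X-modules F and G, where F is assumed to be of finite type, and
fix a point x ∈ X. The natural O_{X,x}-linear map 𝓗om_{O_X}(F, G)_x → Hom_{O_{X,x}}(F_x, G_x),
taking the germ at x of a section of the sheaf Hom to the map on stalks at x that it induces, is
injective. (In the source the claim is made for modules over any ringed space; here it is formulated
only for schemes, since that is where the sheaf Hom used in the statement is available.) -/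
theorem result (X : Scheme.{u}) (F G : X.Modules) (hF : CohB1.IsFT F) (x : X) :
    Function.Injective (RefHull.evalStalk F G x) := by
  exact GrothLib.HomSh.evalStalk_injective F G hF x

end Groth.Agent.S16484
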