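import Groth.Statements.S16486
import Groth.Agent.Lib.RefHull14.Basic

set_option autoImplicit false
universe u
open CategoryTheory AlgebraicGeometry
open SGA3

namespace Groth.Agent.S16486

/-- Let S be a Noetherian normal scheme, A a flat quasi-coherent O_S-module, F ⊆ A a sub-O_S-module of
finite type, and U ⊆ S the set of points s at which the stalk F_s is a flat O_{S,s}-module (the
flatness locus of F, which is open); write j : U → S for the inclusion of the corresponding open
subscheme. Then the bidual F^** = 𝓗om(𝓗om(F, O_S), O_S) is identified with j_* j^* F: there is an
isomorphism F^** ≅ j_*(F|_U) whose composite with the canonical map F → F^** is the unit F → j_* j^*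
F of the adjunction between restriction to U and direct image (such an isomorphism is unique). The
openness of U is taken as part of the hypothesis that U is an open with this underlying set. -/
theorem result (S : Scheme.{u}) [IsNoetherian S]
    (hS : Pi1.IsNormalScheme S) (A F : S.Modules) (hA : Coh.IsQCoh A) (hAfl : FlatMod.IsFlat A)
    (ι : F ⟶ A) [Mono ι] (hF : CohB1.IsFT F) (U : S.Opens) (hU : (U : Set S) = {s : S | FlatMod.IsFlatAt F s}) :
    ∃ e : RefHull.ddual F ≅ (Scheme.Modules.pushforward U.ι).obj (F.restrict U.ι),
      RefHull.bidualMap F ≫ e.hom = (Scheme.Modules.restrictAdjunction U.ι).unit.app F := by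
  haveI : A.IsQuasicoherent := hA
  exact GrothLib.RefHull14.exists_ddual_iso hS hAfl ι hF U hU

end Groth.Agent.S16486
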