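import Groth.Statements.S5971
import Mathlib
import Groth.Agent.Lib.PPGen.Finite
import Groth.Agent.Lib.FittSheaf.Pullback
import Groth.Agent.Lib.FittSheaf.PullbackFP
import Groth.Agent.S1178
-- import your own Groth.Agent.* helpers here

set_option autoImplicit false
universe u
open CategoryTheory CategoryTheory.Limits AlgebraicGeometry TopologicalSpace Opposite
open Nrm16

namespace Groth.Agent.S5971

/-- Let f : X ⟶ S be a morphism locally of finite presentation, n a natural number and F a
quasi-coherent O_X-module of finite presentation. Then the sheaf of principal parts P^n_{X/S}(F),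
with its left O_X-module structure, is of finite presentation. (The published statement asserts this
for either of the two O_X-module structures of P^n_{X/S}(F); this row states it for the left
structure, the one the sheaf of principal parts carries here.) -/
theorem result {X S : Scheme.{u}} (f : X ⟶ S) [LocallyOfFinitePresentation f] (n : ℕ)
    (F : X.Modules) (hF : CohB1.IsFP F) :
    CohB1.IsFP (PrinPart.PMod f n F) := by
  haveI := GrothLib.PPGen.isFinite_pr1 f n
  haveI := GrothLib.PPGen.lfp_pr1 f n
  haveI : F.IsQuasicoherent := (haveI := hF; inferInstance)
  haveI : ((Scheme.Modules.pullback (PrinPart.pr2 f n)).obj F).IsQuasicoherent :=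
    GrothLib.FittSheaf.isQuasicoherent_pullback (PrinPart.pr2 f n) F
  exact (Groth.Agent.S1178.result (PrinPart.pr1 f n) _).1
    (GrothLib.FittSheaf.isFP_pullback (PrinPart.pr2 f n) F hF)

end Groth.Agent.S5971
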