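import Groth.Statements.S16489
import Groth.Agent.Lib.Ref1.Frame
import Groth.Agent.Lib.Ref1.Extend

set_option autoImplicit false
universe u
open CategoryTheory CategoryTheory.Limits AlgebraicGeometry TopologicalSpace
open VBPn

namespace Groth.Agent.S16489

/-- Let X be an integral locally Noetherian scheme all of whose local rings are regular, and F a
coherent O_X-module. Call F normal when for all open subsets V ⊆ U of X such that every point of U
not in V has local ring O_{X,x} of dimension at least 2, the restriction map F(U) → F(V) is
bijective. Then F is reflexive (the canonical map F → F^** is an isomorphism) if and only if F is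
torsion-free (each stalk F_x is a torsion-free O_{X,x}-module) and normal. The published statement
is for coherent analytic sheaves on a complex manifold, a sheaf being called normal when for every
open U and every analytic subset A ⊆ U of codimension at least 2 the restriction F(U) → F(U ∖ A) is
bijective; this row is its statement for coherent sheaves on a regular integral locally Noetherian
scheme, with normality phrased through open subsets V ⊆ U whose complement in U consists of points
with local ring of dimension at least 2, where the same argument applies. -/
theorem result (X : Scheme.{u}) [IsIntegral X] [IsLocallyNoetherian X]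
    (hreg : ∀ x : X, IsRegularLocalRing (X.presheaf.stalk x)) (F : X.Modules) (hF : Coh.IsCoh F) :
    RefHull.IsReflexive F ↔
      TorSh.IsTorsionFree F ∧
      (∀ (U V : X.Opens) (hVU : V ≤ U), (∀ x : X, x ∈ U → x ∉ V → (2 : WithBot ℕ∞) ≤ ringKrullDim (X.presheaf.stalk x)) →
        Function.Bijective (F.presheaf.map (homOfLE hVU).op)) := by
  have hrel := GrothLib.HomSh.hasRel_of_isCoh hF
  have := hF.1
  have hX : Pi1.IsNormalScheme X := fun x => by
    have := hreg x
    exact ⟨GrothLib.CMFree.isDomain_of_isRegularLocalRing _,
      GrothLib.RegLoc.isIntegrallyClosed_of_isRegularLocalRing _⟩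
  rw [GrothLib.HomSh.isReflexive_iff hrel]
  constructor
  · intro hR
    refine ⟨fun x => ?_, fun U V hVU hcodim =>
      GrothLib.Ref1.bijective_res_of_isReflexiveAt hX hrel hVU (fun y _ => hR y) fun y hy hyV => hcodim y hy hyV⟩
    have : IsDomain (X.presheaf.stalk x) := (hX x).1
    have : Module.IsReflexive (X.presheaf.stalk x) (F.presheaf.stalk x) := hR x
    exact GrothLib.Ref1.isTorsionFree_of_isReflexive _ _
  · rintro ⟨htf, hnorm⟩ x
    have hU : ∀ y : X, ringKrullDim (X.presheaf.stalk y) ≤ 1 → Module.Free (X.presheaf.stalk y) (F.presheaf.stalk y) :=
      fun y hd => by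
        have := htf y
        exact GrothLib.Ref1.free_of_dim_le_one hX hrel hd
    refine GrothLib.Ref1.isReflexiveAt_of_extend hF (U := ⟨_, GrothLib.Ref1.isOpen_free hrel⟩) htf
      (fun y hy => GrothLib.Ref1.two_le_of_not_le_one fun hd => hy (hU y hd)) (fun y hy => ?_) (fun W => ?_) x
    · have : Module.Free (X.presheaf.stalk y) (F.presheaf.stalk y) := hy
      have := hrel.span_stalk y
      change Module.IsReflexive (X.presheaf.stalk y) (F.presheaf.stalk y)
      infer_instance
    · exact (hnorm W _ inf_le_left fun y hyW hy =>
        GrothLib.Ref1.two_le_of_not_le_one fun hd => hy ⟨hyW, hU y hd⟩).2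

end Groth.Agent.S16489
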