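import Groth.Statements.S1649
import Groth.Agent.Lib.RatSing29.EssExt

set_option autoImplicit false
universe u
open CategoryTheory CategoryTheory.Limits AlgebraicGeometry
open Resolve

namespace Groth.Agent.S1649

/-- Let A be a local normal Nagata domain of dimension two defining a rational singularity, and B a
normal two-dimensional local domain containing A, with A → B local, essentially of finite type and
inducing an equality of fraction fields. Then B defines a rational singularity. -/
theorem result (A B : Type u) [CommRing A] [CommRing B] [IsDomain A] [IsDomain B]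
    [IsLocalRing A] [IsLocalRing B] [IsNoetherianRing A] [IsIntegrallyClosed A] (hN : CAlg.IsNagata A) (hdimA : ringKrullDim A = 2)
    (hA : Curv2.IsRationalSing A) [Algebra A B] [IsLocalHom (algebraMap A B)] (hinj : Function.Injective (algebraMap A B))
    [Algebra.EssFiniteType A B] (hfrac : ∀ b : B, ∃ a a' : A, a' ≠ 0 ∧ algebraMap A B a' * b = algebraMap A B a)
    [IsIntegrallyClosed B] (hdimB : ringKrullDim B = 2) : Curv2.IsRationalSing B := by
  obtain ⟨X, f, hf, hX, hXn, hb, z, ⟨e⟩⟩ := GrothLib.RatSing29.exists_modification_stalk (A := A) (B := B) hN hinj hfrac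
  exact GrothLib.RatSing29.isRationalSing_of_ringEquiv e (GrothLib.RatSing29.isRationalSing_stalk hN hdimA hA f hXn hb z)

end Groth.Agent.S1649
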