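import Groth.Statements.S16491
import Groth.Agent.Lib.FacDiv.Invertible
import Groth.Agent.Lib.RegUFD.Basic

set_option autoImplicit false
set_option linter.all false
universe u
open CategoryTheory CategoryTheory.Limits AlgebraicGeometry TopologicalSpace
open VBPn

namespace Groth.Agent.S16491

/-- Let X be an integral locally Noetherian scheme all of whose local rings are regular, and F a
coherent O_X-module which is reflexive (the canonical map F → F^** is an isomorphism) and of rank 1
(F restricts to an invertible module on some dense open subset of X). Then F is invertible: every
point has an open neighbourhood on which F is isomorphic to the structure sheaf. The published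
statement is for reflexive coherent analytic sheaves of rank 1 on a complex manifold; this row is
its statement on a regular integral locally Noetherian scheme, whose local rings are factorial as
the argument requires. -/
theorem result (X : Scheme.{u}) [IsIntegral X] [IsLocallyNoetherian X]
    (hreg : ∀ x : X, IsRegularLocalRing (X.presheaf.stalk x)) (F : X.Modules) (hF : Coh.IsCoh F)
    (hrefl : RefHull.IsReflexive F) (hrk : RefHull.GenInvertible F) :
    PicF.IsInvertible F := by
  have hX : Pi1.IsNormalScheme X := fun x => by
    haveI := hreg x
    haveI : UniqueFactorizationMonoid (X.presheaf.stalk x) := GrothLib.RegUFD.ufd_of_isRegularLocalRing _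
    exact ⟨inferInstance, inferInstance⟩
  exact GrothLib.FacDiv.isInvertible_of_ufd hX ⟨hF, hrefl, hrk⟩ fun x =>
    haveI := hreg x
    GrothLib.RegUFD.ufd_of_isRegularLocalRing _

end Groth.Agent.S16491
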