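import Groth.Statements.S16492
import Groth.Agent.Lib.DualTensor11.Basic
import Groth.Agent.Lib.ASBun21.IndecInv

set_option autoImplicit false
universe u
open CategoryTheory CategoryTheory.Limits AlgebraicGeometry
open VBCurve

namespace Groth.Agent.S16492

set_option backward.isDefEq.respectTransparency false


/-- Let X be a smooth proper integral curve (integral, smooth and proper of dimension one) over an
algebraically closed field k, and E a finite locally free O_X-module of rank r. Say that a module M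
is finite in the sense of Weil when there are distinct polynomials P ≠ Q with natural-number
coefficients and an isomorphism P(M) ≅ Q(M), where P(M) is the direct sum over i of P_i copies of
the i-th tensor power of M (the 0-th power being O_X). Then E is finite in this sense if and only if
its dual E^* = 𝓗om_{O_X}(E, O_X) is. -/
theorem result (k : Type u) [Field k] [IsAlgClosed k] (X : Scheme.{u}) [X.Over (Spec (CommRingCat.of k))]
    [IsIntegral X] [IsProper (X ↘ Spec (CommRingCat.of k))] [Smooth (X ↘ Spec (CommRingCat.of k))]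
    (hdim : topologicalKrullDim X = 1)
    (r : ℕ) (E : X.Modules) (hE : FlatMod.IsFinLocFreeOfRank r E) :
    (∃ P Q : Polynomial ℕ, P ≠ Q ∧ Nonempty ((∐ fun i : Fin (P.natDegree + 1) => ∐ fun _ : Fin (P.coeff ↑i) => CohB1.tensorPow E ↑i) ≅
        (∐ fun i : Fin (Q.natDegree + 1) => ∐ fun _ : Fin (Q.coeff ↑i) => CohB1.tensorPow E ↑i))) ↔
      (∃ P Q : Polynomial ℕ, P ≠ Q ∧ Nonempty ((∐ fun i : Fin (P.natDegree + 1) => ∐ fun _ : Fin (P.coeff ↑i) => CohB1.tensorPow (RefHull.dual E) ↑i) ≅
        (∐ fun i : Fin (Q.natDegree + 1) => ∐ fun _ : Fin (Q.coeff ↑i) => CohB1.tensorPow (RefHull.dual E) ↑i))) := by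
  haveI : IsLocallyNoetherian X := GrothLib.WeilFin11.isLocallyNoetherian k (X := X)
  have hEf : FlatMod.IsFinLocFree E := GrothLib.OX.isFinLocFree_of_rank' hE
  have key : ∀ (F : X.Modules), FlatMod.IsFinLocFree F → ∀ (P Q : Polynomial ℕ),
      Nonempty (GrothLib.WeilFin11.polyObj P F ≅ GrothLib.WeilFin11.polyObj Q F) →
      Nonempty (GrothLib.WeilFin11.polyObj P (RefHull.dual F) ≅ GrothLib.WeilFin11.polyObj Q (RefHull.dual F)) := by
    intro F hF P Q he
    obtain ⟨e⟩ := he
    obtain ⟨a⟩ := GrothLib.DualTensor11.nonempty_dual_polyObj hF P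
    obtain ⟨b⟩ := GrothLib.DualTensor11.nonempty_dual_polyObj hF Q
    refine ⟨a.symm ≪≫ ⟨GrothLib.LM28.precomp e.inv _, GrothLib.LM28.precomp e.hom _, ?_, ?_⟩ ≪≫ b⟩
    · rw [← GrothLib.LM28.precomp_comp, Iso.hom_inv_id, GrothLib.LM28.precomp_id]
    · rw [← GrothLib.LM28.precomp_comp, Iso.inv_hom_id, GrothLib.LM28.precomp_id]
  constructor
  · rintro ⟨P, Q, hPQ, h⟩
    exact ⟨P, Q, hPQ, key E hEf P Q h⟩
  · rintro ⟨P, Q, hPQ, h⟩
    obtain ⟨d⟩ := GrothLib.DualTensor11.nonempty_ddual hEf
    have hpow : ∀ (R : Polynomial ℕ), Nonempty (GrothLib.WeilFin11.polyObj R (RefHull.dual (RefHull.dual E)) ≅ GrothLib.WeilFin11.polyObj R E) := by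
      intro R
      have : ∀ n, Nonempty (CohB1.tensorPow (RefHull.dual (RefHull.dual E)) n ≅ CohB1.tensorPow E n) := by
        intro n
        induction n with
        | zero => exact ⟨Iso.refl _⟩
        | succ n ih => exact ⟨GrothLib.WeilFin11.congrIso ih.some d.symm⟩
      exact ⟨Sigma.mapIso fun i => Sigma.mapIso fun _ => (this _).some⟩
    obtain ⟨e⟩ := key _ (GrothLib.DualTensor11.isFinLocFree_dual hEf) P Q h
    exact ⟨P, Q, hPQ, ⟨(hpow P).some.symm ≪≫ e ≪≫ (hpow Q).some⟩⟩

end Groth.Agent.S16492
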