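import Groth.Statements.S19958
import Groth.Agent.Lib.CurveSerre11.InjDim

set_option autoImplicit false
universe u
open CategoryTheory CategoryTheory.Limits AlgebraicGeometry
attribute [local instance] HasDerivedCategory.standard
open TFCurv

namespace Groth.Agent.S19958

set_option backward.isDefEq.respectTransparency false
set_option maxHeartbeats 1000000


/-- Let X be an integral proper curve (integral, proper, of dimension one) over an algebraically closed
field k, ω_X its dualizing module (the cohomology sheaf in degree -1 of f^! O for f : X → Spec k,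
assuming the derived direct image Rf_* on D_QCoh and its right adjoint exist, which is how the
prelude presents f^!), and F a coherent torsion-free O_X-module. Write G* = 𝓗om_{O_X}(G, ω_X) for
the ω-dual of a module G. Then the canonical map η : F → F** = 𝓗om(𝓗om(F, ω_X), ω_X), sending a
local section m to evaluation at m, is an isomorphism. The map is pinned by its stalks: for every
point x, every v ∈ F_x and every germ θ of F* at x, the stalk map η_x sends v to the stalk
homomorphism whose value on θ is θ_x(v); since F* is of finite type such an η is unique, and the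
statement asserts that it exists and is an isomorphism. -/
theorem result (k : Type u) [Field k] [IsAlgClosed k] (X : Scheme.{u}) [X.Over (Spec (CommRingCat.of k))]
    [IsIntegral X] [IsProper (X ↘ (Spec (CommRingCat.of k)))] (hdim : topologicalKrullDim X = 1)
    [DCoh.HasRpush (X ↘ (Spec (CommRingCat.of k)))] (h : DCoh.RpushPreservesQCoh (X ↘ (Spec (CommRingCat.of k)))) [DCoh.HasShriek (X ↘ (Spec (CommRingCat.of k))) h]
    (OY : DCoh.DQCoh (Spec (CommRingCat.of k))) (hOY : Nonempty (OY.obj ≅ DCoh.inD (Spec (CommRingCat.of k)) (Coh.structureModule (Spec (CommRingCat.of k)))))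
    (F : X.Modules) (hFc : Coh.IsCoh F) (hFt : TorSh.IsTorsionFree F) :
    ∃ η : F ⟶ RefHull.homSh (RefHull.homSh F (DCoh.dualizingMod (X ↘ (Spec (CommRingCat.of k))) h OY 1)) (DCoh.dualizingMod (X ↘ (Spec (CommRingCat.of k))) h OY 1),
      (∀ (x : X) (v : F.presheaf.stalk x) (θ : (RefHull.homSh F (DCoh.dualizingMod (X ↘ (Spec (CommRingCat.of k))) h OY 1)).presheaf.stalk x),
        RefHull.evalStalk (RefHull.homSh F (DCoh.dualizingMod (X ↘ (Spec (CommRingCat.of k))) h OY 1)) (DCoh.dualizingMod (X ↘ (Spec (CommRingCat.of k))) h OY 1) x (RefHull.stalkMapₗ η x v) θ =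
          RefHull.evalStalk F (DCoh.dualizingMod (X ↘ (Spec (CommRingCat.of k))) h OY 1) x θ v) ∧
      IsIso η := by
  haveI := GrothLib.Euler.isNoetherian_of_proper (X := X) k
  have hω := GrothLib.CurveSerre11.isCoh_omega h OY hOY
  refine ⟨GrothLib.CurveSerre11.bidualW F _, fun x v θ => GrothLib.CurveSerre11.bidualW_spec F _ x v θ, ?_⟩
  refine GrothLib.CurveSerre11.isIso_bidualW hFc hω fun U hU => ?_
  by_cases hne : Nonempty U
  swap
  · have hs : ∀ M : X.Modules, Subsingleton Γ(M, U) := fun M =>
      ⟨fun a b => GrothLib.LM28.ext_germ M fun y hy => (hne ⟨⟨y, hy⟩⟩).elim⟩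
    haveI := hs F
    haveI := hs (DCoh.dualizingMod (X ↘ (Spec (CommRingCat.of k))) h OY 1)
    exact ⟨fun a b _ => Subsingleton.elim a b, fun Φ => ⟨0, LinearMap.ext fun _ => Subsingleton.elim _ _⟩⟩
  haveI := hne
  haveI := hFc.1
  haveI := hω.1
  haveI : IsNoetherianRing Γ(X, U) := IsLocallyNoetherian.component_noetherian ⟨U, hU⟩
  haveI : Module.Finite Γ(X, U) Γ(F, U) := GrothLib.QCoh.moduleFinite_of_isFiniteType F hFc.2 hU
  haveI : Module.Finite Γ(X, U) Γ(DCoh.dualizingMod (X ↘ (Spec (CommRingCat.of k))) h OY 1, U) :=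
    GrothLib.QCoh.moduleFinite_of_isFiniteType _ hω.2 hU
  obtain ⟨hW0, hinj, hW⟩ := GrothLib.CurveSerre11.affine_data h OY hOY hdim hU
  haveI : NoZeroSMulDivisors Γ(X, U) Γ(DCoh.dualizingMod (X ↘ (Spec (CommRingCat.of k))) h OY 1, U) :=
    ⟨fun {c x} hcx => hW c x hcx⟩
  haveI : NoZeroSMulDivisors Γ(X, U) Γ(F, U) := ⟨fun {c x} hcx => or_iff_not_imp_left.2 fun hc =>
    GrothLib.LM28.ext_germ F fun y hy => by
      rw [map_zero]
      haveI := hFt y
      have hy0 : X.presheaf.germ U y hy c ≠ 0 := fun h0c =>
        hc (germ_injective_of_isIntegral X y hy (h0c.trans (map_zero _).symm))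
      refine (isRegular_iff_ne_zero.2 hy0).isSMulRegular (M := F.presheaf.stalk y) ?_
      show _ • F.presheaf.germ U y hy x = _ • (0 : F.presheaf.stalk y)
      rw [smul_zero, ← Mero.germ_smul, hcx, map_zero]⟩
  exact Groth.Agent.Lib.TFDual16.ev_bijective _ (GrothLib.CurveSerre11.end_affine h OY hOY hdim.le hU).1 hW0 hinj Γ(F, U)

end Groth.Agent.S19958
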