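import Groth.Statements.S16493
import Groth.Agent.S19958
import Groth.Agent.Lib.CurveSerre11.InjDim
import Groth.Agent.Lib.FormalFun.HomComplete

set_option autoImplicit false
universe u
open CategoryTheory CategoryTheory.Limits AlgebraicGeometry
attribute [local instance] HasDerivedCategory.standard
open TFCurv

namespace Groth.Agent.S16493

set_option backward.isDefEq.respectTransparency false
set_option maxHeartbeats 1000000

theorem finrank_H0_homSh {k : Type u} [Field k] {X : Scheme.{u}} [X.Over (Spec (CommRingCat.of k))]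
    [IsProper (X ↘ (Spec (CommRingCat.of k)))]
    [DCoh.HasRpush (X ↘ (Spec (CommRingCat.of k)))] (h : DCoh.RpushPreservesQCoh (X ↘ (Spec (CommRingCat.of k)))) [DCoh.HasShriek (X ↘ (Spec (CommRingCat.of k))) h]
    (OY : DCoh.DQCoh (Spec (CommRingCat.of k))) (hOY : Nonempty (OY.obj ≅ DCoh.inD (Spec (CommRingCat.of k)) (Coh.structureModule (Spec (CommRingCat.of k)))))
    (hdim : topologicalKrullDim X ≤ 1) (F : X.Modules) (hF : Coh.IsCoh F) :
    Module.finrank k (Coh.HH X (RefHull.homSh F (DCoh.dualizingMod (X ↘ (Spec (CommRingCat.of k))) h OY 1)) 0) =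
      Module.finrank k (Coh.HH X F 1) := by
  obtain ⟨t, ht⟩ := GrothLib.CurveSerre11.exists_trace h OY hOY hdim
  haveI := GrothLib.Euler.finiteDimensional_HH k hF 1
  generalize hW : DCoh.dualizingMod (X ↘ (Spec (CommRingCat.of k))) h OY 1 = W at *
  subst hW
  let W := DCoh.dualizingMod (X ↘ (Spec (CommRingCat.of k))) h OY 1
  let e := GrothLib.ProjCoh.H0top (RefHull.homSh F W)
  have hlin : ∀ (φ : F ⟶ W) (c : k),
      RefHull.ofHom (φ ≫ GrothLib.Euler.smulMod W (Coh.toGlobal (X ↘ (Spec (CommRingCat.of k))) c)) ⊤ =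
        (show Γ(X, ⊤) from Coh.toGlobal (X ↘ (Spec (CommRingCat.of k))) c) • RefHull.ofHom φ ⊤ := fun φ c =>
    Subtype.ext (funext fun y => LinearMap.ext fun v => by
      obtain ⟨V, hV, m, rfl⟩ := TopCat.Presheaf.exists_germ_eq F.presheaf v
      show RefHull.stalkMapₗ (φ ≫ GrothLib.Euler.smulMod W _) y.1 _ = X.presheaf.germ ⊤ y.1 y.2 _ • RefHull.stalkMapₗ φ y.1 _
      rw [RefHull.stalkMapₗ_germ, RefHull.stalkMapₗ_germ]
      refine (congrArg (W.presheaf.germ V y.1 hV) (GrothLib.Euler.smulMod_app W _ V (φ.app V m))).trans ?_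
      rw [Mero.germ_smul, TopCat.Presheaf.germ_res_apply])
  have hadd : ∀ φ φ' : F ⟶ W, RefHull.ofHom (φ + φ') ⊤ = RefHull.ofHom φ ⊤ + RefHull.ofHom φ' ⊤ := fun φ φ' =>
    Subtype.ext (funext fun y => LinearMap.ext fun v => by
      obtain ⟨V, hV, m, rfl⟩ := TopCat.Presheaf.exists_germ_eq F.presheaf v
      show RefHull.stalkMapₗ (φ + φ') y.1 _ = RefHull.stalkMapₗ φ y.1 _ + RefHull.stalkMapₗ φ' y.1 _
      rw [RefHull.stalkMapₗ_germ, RefHull.stalkMapₗ_germ, RefHull.stalkMapₗ_germ, ← map_add]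
      rfl)
  let L : Module.Dual k (Coh.HH X F 1) →ₗ[k] Coh.HH X (RefHull.homSh F W) 0 :=
    { toFun := fun ψ => e.symm (RefHull.ofHom (GrothLib.CurveSerre11.homOf ht hF.1 ψ) ⊤)
      map_add' := fun ψ ψ' => by
        rw [GrothLib.CurveSerre11.homOf_add, hadd, map_add]
      map_smul' := fun c ψ => by
        apply e.injective
        rw [RingHom.id_apply, GrothLib.ProjCoh.H0top_smul, AddEquiv.apply_symm_apply, AddEquiv.apply_symm_apply,
          GrothLib.CurveSerre11.homOf_smul, hlin] }
  have hL : Function.Bijective L := by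
    refine ⟨fun ψ ψ' he => LinearMap.ext fun x => ?_, fun y => ?_⟩
    · have he' := e.symm.injective he
      rw [GrothLib.CurveSerre11.homOf_spec ht hF.1 ψ x, GrothLib.CurveSerre11.homOf_spec ht hF.1 ψ' x]
      congr 2
      refine congrArg (fun φ => GrothLib.Cohom.hhMap k φ 1) ?_
      refine Scheme.Modules.hom_ext _ _ fun V => AddCommGrpCat.ext fun m => GrothLib.LM28.ext_germ W fun y hy => ?_
      rw [← RefHull.stalkMapₗ_germ, ← RefHull.stalkMapₗ_germ]
      exact LinearMap.congr_fun (congrArg (fun g : Γ(RefHull.homSh F W, ⊤) => g.1 ⟨y, trivial⟩) he') _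
    · obtain ⟨φ, hφ⟩ := GrothLib.FormalFun.exists_hom_of_section (e y)
      refine ⟨t ∘ₗ GrothLib.Cohom.hhMap k φ 1, ?_⟩
      show e.symm (RefHull.ofHom (GrothLib.CurveSerre11.homOf ht hF.1 _) ⊤) = y
      rw [GrothLib.CurveSerre11.homOf_eq ht hF.1 _ (φ := φ) (fun x => rfl), AddEquiv.symm_apply_eq]
      refine Subtype.ext (funext fun z => LinearMap.ext fun v => ?_)
      refine Eq.trans ?_ (hφ z.1 v)
      obtain ⟨V, hV, m, rfl⟩ := TopCat.Presheaf.exists_germ_eq F.presheaf v
      show RefHull.stalkMapₗ φ z.1 _ = _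
      rw [RefHull.stalkMapₗ_germ, GrothLib.QCoh.stalkLin_germ]
  rw [← (LinearEquiv.ofBijective L hL).finrank_eq, Subspace.dual_finrank_eq]


/-- Let X be an integral proper curve (integral, proper, of dimension one) over an algebraically closed
field k, ω_X its dualizing module (the cohomology sheaf in degree -1 of f^! O for f : X → Spec k,
assuming the derived direct image Rf_* on D_QCoh and its right adjoint exist, which is how the
prelude presents f^!), and F a coherent torsion-free O_X-module of rank n (its stalk at the generic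
point has dimension n over the function field). Define the degree of a module G of rank n by the
formula deg G = χ(G) − n·χ(O_X), and the arithmetic genus by g = 1 − χ(O_X). Then the ω-dual F* =
𝓗om_{O_X}(F, ω_X) has degree deg F* = n(2g − 2) − deg F. -/
theorem result (k : Type u) [Field k] [IsAlgClosed k] (X : Scheme.{u}) [X.Over (Spec (CommRingCat.of k))]
    [IsIntegral X] [IsProper (X ↘ (Spec (CommRingCat.of k)))] (hdim : topologicalKrullDim X = 1)
    [DCoh.HasRpush (X ↘ (Spec (CommRingCat.of k)))] (h : DCoh.RpushPreservesQCoh (X ↘ (Spec (CommRingCat.of k)))) [DCoh.HasShriek (X ↘ (Spec (CommRingCat.of k))) h]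
    (OY : DCoh.DQCoh (Spec (CommRingCat.of k))) (hOY : Nonempty (OY.obj ≅ DCoh.inD (Spec (CommRingCat.of k)) (Coh.structureModule (Spec (CommRingCat.of k)))))
    (F : X.Modules) (hFc : Coh.IsCoh F) (hFt : TorSh.IsTorsionFree F) (n : ℕ)
    (hn : Module.finrank (X.presheaf.stalk (genericPoint X)) (F.presheaf.stalk (genericPoint X)) = n) :
    Curv2.deg k X (RefHull.homSh F (DCoh.dualizingMod (X ↘ (Spec (CommRingCat.of k))) h OY 1)) n =
      (n : ℤ) * (2 * (1 - Curv2.euler k X (Coh.structureModule X)) - 2) - Curv2.deg k X F n := by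
  haveI := GrothLib.Euler.isNoetherian_of_proper (X := X) k
  have hω := GrothLib.CurveSerre11.isCoh_omega h OY hOY
  have hG := GrothLib.HomSh.isCoh_homSh (GrothLib.HomSh.hasRel_of_isCoh hFc) hω
  have hGG := GrothLib.HomSh.isCoh_homSh (GrothLib.HomSh.hasRel_of_isCoh hG) hω
  obtain ⟨η, -, hη⟩ := Groth.Agent.S19958.result k X hdim h OY hOY F hFc hFt
  haveI := hη
  have e1 := finrank_H0_homSh h OY hOY hdim.le F hFc
  have e2 := (finrank_H0_homSh h OY hOY hdim.le _ hG).symm.trans (GrothLib.Euler.hhEquiv (A := k) (asIso η) 0).finrank_eq.symm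
  haveI := hFc.1
  haveI := hG.1
  show Curv2.euler k X _ - _ * Curv2.euler k X (Coh.structureModule X) = _ - (Curv2.euler k X F - _ * Curv2.euler k X (Coh.structureModule X))
  rw [GrothLib.Euler.euler_eq_sub k hdim.le F, GrothLib.Euler.euler_eq_sub k hdim.le
    (RefHull.homSh F (DCoh.dualizingMod (X ↘ (Spec (CommRingCat.of k))) h OY 1)), e1, e2]
  ring

end Groth.Agent.S16493
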