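import Groth.Statements.S1650
import Groth.Agent.Lib.RatSing29.BlowUpNormal

set_option autoImplicit false
universe u
open CategoryTheory CategoryTheory.Limits AlgebraicGeometry
open Resolve

namespace Groth.Agent.S1650

/-- Let A be a local normal Nagata domain of dimension two defining a rational singularity and b : X →
Spec A a blowing up in the maximal ideal. Then X is a normal scheme. -/
theorem result (A : Type u) [CommRing A] [IsDomain A] [IsLocalRing A] [IsNoetherianRing A]
    [IsIntegrallyClosed A] (hN : CAlg.IsNagata A) (hdim : ringKrullDim A = 2) (hA : Curv2.IsRationalSing A)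
    (X : Scheme.{u}) (b : X ⟶ Spec (CommRingCat.of A)) (hb : BlowUp.IsBlowUp b (Curv2.idealSheaf A (IsLocalRing.maximalIdeal A))) :
    Pi1.IsNormalScheme X := by
  let m := IsLocalRing.maximalIdeal A
  have hne : m ≠ ⊥ := fun h => by
    have hf : IsField A := IsLocalRing.isField_iff_maximalIdeal_eq.2 h
    rw [ringKrullDim_eq_zero_of_isField hf] at hdim
    norm_num at hdim
  obtain ⟨Y, f, hf, hY, hYn, hYb, hE⟩ := GrothLib.RatSing29.exists_normal_modification hN hne
  obtain ⟨e, he⟩ := GrothLib.BlowUp.exists_iso_of_isBlowUp hb (GrothLib.BlowUp.isBlowUp_proj m)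
  intro x
  obtain ⟨⟨a, ha⟩, q, hq⟩ := (GrothLib.BlowUp.reesCharts m).covers (e.hom x)
  let R := BlowUp.affineAlgebra A m a
  have ha0 : a ≠ 0 := by
    rintro rfl
    haveI : Subsingleton (Localization.Away (0 : A)) :=
      IsLocalization.subsingleton (M := Submonoid.powers (0 : A)) ⟨1, pow_one 0⟩
    haveI : Subsingleton R := ⟨fun a b => Subtype.ext (Subsingleton.elim _ _)⟩
    exact q.isPrime.ne_top (Subsingleton.elim _ _)
  haveI hR : IsIntegrallyClosed R := GrothLib.RatSing29.isIntegrallyClosed_affineAlgebra ha ha0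
    fun c hc h => GrothLib.RatSing29.mem_pow_of_integral hN hdim hA Y f hYn hYb hE c hc h
  haveI : IsDomain (Localization.Away a) :=
    IsLocalization.isDomain_localization (Submonoid.powers_le.2 (mem_nonZeroDivisors_of_ne_zero ha0))
  haveI : IsDomain (Localization.AtPrime q.asIdeal) :=
    IsLocalization.isDomain_localization q.asIdeal.primeCompl_le_nonZeroDivisors
  haveI : IsIntegrallyClosed (Localization.AtPrime q.asIdeal) :=
    isIntegrallyClosed_of_isLocalization _ q.asIdeal.primeCompl q.asIdeal.primeCompl_le_nonZeroDivisors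
  let j := (GrothLib.BlowUp.reesCharts m).j ⟨a, ha⟩ ≫ e.inv
  have hjq : j q = x := by
    rw [Scheme.Hom.comp_apply, hq, ← Scheme.Hom.comp_apply, e.hom_inv_id]
    rfl
  rw [← hjq]
  let E := (asIso (j.stalkMap q)).commRingCatIsoToRingEquiv.trans
    (AlgebraicGeometry.Spec.stalkIso (CommRingCat.of R) q).commRingCatIsoToRingEquiv
  exact ⟨E.injective.isDomain E.toRingHom, IsIntegrallyClosed.of_equiv E.symm⟩

end Groth.Agent.S1650
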