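import Groth.Statements.S16501
import Groth.Agent.Lib.AdicLim.Finite
import Groth.Agent.Lib.DescExt4.Newton

set_option autoImplicit false
universe u
open Hensel

namespace Groth.Agent.S16501

theorem finrank_le_of_quotient_equiv (A B C : Type u) [CommRing A] [IsDomain A] [IsLocalRing A]
    [CommRing B] [CommRing C] [Algebra A B] [Algebra A C] [Module.Finite A B] [Module.Free A B]
    [Module.Finite A C] (t : A) (ht : t ∈ IsLocalRing.maximalIdeal A)
    (e : (B ⧸ Ideal.span {algebraMap A B t}) ≃ₐ[A] (C ⧸ Ideal.span {algebraMap A C t})) :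
    Module.finrank A C ≤ Module.finrank A B := by
  let b := Module.Free.chooseBasis A B
  choose v hv using fun i => Ideal.Quotient.mk_surjective
    (e (Ideal.Quotient.mk (Ideal.span {algebraMap A B t}) (b i)))
  have htop : ⊤ ≤ Submodule.span A (Set.range v) := by
    refine Submodule.le_of_le_smul_of_le_jacobson_bot (Module.Finite.fg_top)
      (I := IsLocalRing.maximalIdeal A)
      (IsLocalRing.jacobson_eq_maximalIdeal ⊥ bot_ne_top).ge fun x _ => ?_
    obtain ⟨y, hy⟩ := Ideal.Quotient.mk_surjective (e.symm (Ideal.Quotient.mk _ x))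
    have h1 : x - ∑ i, b.repr y i • v i ∈ Ideal.span {algebraMap A C t} := by
      rw [← Ideal.Quotient.eq]
      rw [← e.apply_symm_apply (Ideal.Quotient.mk _ x), ← hy]
      conv_lhs => rw [← b.sum_repr y]
      rw [← Ideal.Quotient.mkₐ_eq_mk A, ← Ideal.Quotient.mkₐ_eq_mk A, map_sum, map_sum, map_sum]
      refine Finset.sum_congr rfl fun i _ => ?_
      rw [map_smul, map_smul, map_smul, Ideal.Quotient.mkₐ_eq_mk, Ideal.Quotient.mkₐ_eq_mk, hv]
    obtain ⟨c, hc⟩ := Ideal.mem_span_singleton'.mp h1
    refine Submodule.mem_sup.mpr ⟨∑ i, b.repr y i • v i,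
      Submodule.sum_mem _ fun i _ => Submodule.smul_mem _ _ (Submodule.subset_span ⟨i, rfl⟩),
      t • c, Submodule.smul_mem_smul ht trivial, ?_⟩
    rw [Algebra.smul_def, mul_comm, hc]
    ring
  refine (finrank_le_of_span_eq_top (top_le_iff.mp htop)).trans ?_
  rw [Module.finrank_eq_card_chooseBasisIndex]


/-- Let A be a complete discrete valuation ring with uniformizer ϖ and fraction field K, let L be a
finite separable extension of K and B the integral closure of A in L. There is a positive integer m₀
such that for every discrete valuation ring C that is a module-finite A-algebra, B ≅ C as A-algebras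
if and only if B/ϖ^m B ≅ C/ϖ^m C as A-algebras for some m > m₀. (Finiteness of L over K is implicit
in the source, which takes a primitive element.) -/
theorem result
    (A : Type u) [CommRing A] [IsDomain A] [IsDiscreteValuationRing A]
    [IsAdicComplete (IsLocalRing.maximalIdeal A) A] (ϖ : A) (hϖ : Irreducible ϖ)
    (K : Type u) [Field K] [Algebra A K] [IsFractionRing A K]
    (L : Type u) [Field L] [Algebra K L] [Algebra A L] [IsScalarTower A K L]
    [FiniteDimensional K L] [Algebra.IsSeparable K L]
    (B : Type u) [CommRing B] [Algebra A B] [Algebra B L] [IsScalarTower A B L]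
    [IsIntegralClosure B A L] :
    ∃ m₀ : ℕ, 0 < m₀ ∧ ∀ (C : Type u) [CommRing C] [IsDomain C] [IsDiscreteValuationRing C]
      [Algebra A C] [Module.Finite A C],
      Nonempty (B ≃ₐ[A] C) ↔ ∃ m : ℕ, m₀ < m ∧
        Nonempty ((B ⧸ Ideal.span {algebraMap A B (ϖ ^ m)}) ≃ₐ[A]
          (C ⧸ Ideal.span {algebraMap A C (ϖ ^ m)})) := by
  classical
  obtain ⟨α₀, hα₀⟩ := Field.exists_primitive_element K L
  obtain ⟨⟨t, ht⟩, hint₀⟩ :=
    IsIntegral.exists_multiple_integral_of_isLocalization (nonZeroDivisors A) (Rₘ := K) α₀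
      (Algebra.IsIntegral.isIntegral α₀)
  set α := t • α₀ with hα
  have hint : IsIntegral A α := hint₀
  have hadj : IntermediateField.adjoin K {α} = ⊤ := by
    refine eq_top_iff.mpr (hα₀.symm.le.trans (IntermediateField.adjoin_simple_le_iff.mpr ?_))
    have ht0 : algebraMap A K t ≠ 0 := IsFractionRing.to_map_ne_zero_of_mem_nonZeroDivisors ht
    have h1 : α ∈ IntermediateField.adjoin K {α} := IntermediateField.mem_adjoin_simple_self _ _
    have h2 := IntermediateField.smul_mem _ h1 (x := (algebraMap A K t)⁻¹)
    rw [hα, ← IsScalarTower.algebraMap_smul K t α₀] at h2 ⊢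
    rwa [smul_smul, inv_mul_cancel₀ ht0, one_smul] at h2
  obtain ⟨αB, hαB⟩ := (IsIntegralClosure.isIntegral_iff (A := B) (B := L)).mp hint
  replace hαB : algebraMap B L αB = α := hαB
  haveI : Module.IsTorsionFree A L := Module.IsTorsionFree.trans_faithfulSMul A K L
  haveI : Module.Finite A B := IsIntegralClosure.finite A K L B
  haveI : Module.Free A B := IsIntegralClosure.module_free A K L B
  haveI : Algebra.IsIntegral A B := IsIntegralClosure.isIntegral_algebra A L
  haveI : IsDomain B := (IsIntegralClosure.algebraMap_injective B A L).isDomain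
  set P := minpoly A α with hP
  have hmap : P.map (algebraMap A K) = minpoly K α :=
    (minpoly.isIntegrallyClosed_eq_field_fractions K L hint).symm
  have hPαB : Polynomial.aeval αB P = 0 := IsIntegralClosure.algebraMap_injective B A L (by
    rw [← Polynomial.aeval_algebraMap_apply, hαB, map_zero]
    exact minpoly.aeval A α)
  set d := Polynomial.aeval αB (Polynomial.derivative P) with hd
  have hd0 : d ≠ 0 := by
    intro h0
    refine (Algebra.IsSeparable.isSeparable K α).aeval_derivative_ne_zero (x := α) (minpoly.aeval K α) ?_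
    rw [← hmap, Polynomial.derivative_map, Polynomial.aeval_map_algebraMap, ← hαB,
      Polynomial.aeval_algebraMap_apply]
    rw [show Polynomial.aeval αB (Polynomial.derivative P) = 0 from h0, map_zero]
  obtain ⟨r, hr, hdr⟩ := (Algebra.IsAlgebraic.isAlgebraic (R := A) d).exists_nonzero_dvd
    (mem_nonZeroDivisors_of_ne_zero hd0)
  obtain ⟨k, u, rfl⟩ := IsDiscreteValuationRing.eq_unit_mul_pow_irreducible hr hϖ
  refine ⟨2 * k + 1, by omega, fun C _ _ _ _ _ => ⟨fun ⟨e⟩ => ⟨2 * k + 2, by omega, ⟨?_⟩⟩, ?_⟩⟩
  · refine Ideal.quotientEquivAlg _ _ e ?_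
    rw [Ideal.map_span, Set.image_singleton]
    exact congrArg (fun x => Ideal.span {x}) (e.commutes _).symm
  rintro ⟨m, hm, ⟨ψ⟩⟩
  have htmem : ϖ ^ m ∈ IsLocalRing.maximalIdeal A := by
    rw [hϖ.maximalIdeal_eq]
    exact Ideal.mem_span_singleton.mpr (dvd_pow_self ϖ (by omega))
  -- the structure map of `C` is injective
  have hinjC : Function.Injective (algebraMap A C) := by
    rw [injective_iff_map_eq_zero]
    intro x hx
    by_contra hx0
    obtain ⟨j, v, rfl⟩ := IsDiscreteValuationRing.eq_unit_mul_pow_irreducible hx0 hϖ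
    rw [map_mul, map_pow, mul_eq_zero, or_iff_right (v.isUnit.map (algebraMap A C)).ne_zero] at hx
    have hϖ0 : algebraMap A C ϖ = 0 := eq_zero_of_pow_eq_zero hx
    have : IsField C := by
      let F := A ⧸ IsLocalRing.maximalIdeal A
      letI : Field F := Ideal.Quotient.field _
      letI : Algebra F C := (Ideal.Quotient.lift _ (algebraMap A C) fun y hy => by
        rw [hϖ.maximalIdeal_eq, Ideal.mem_span_singleton'] at hy
        obtain ⟨z, rfl⟩ := hy
        rw [map_mul, hϖ0, mul_zero]).toAlgebra
      haveI : IsScalarTower A F C := IsScalarTower.of_algebraMap_eq fun _ => rfl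
      haveI : Module.Finite F C := Module.Finite.of_restrictScalars_finite A F C
      exact isField_of_isIntegral_of_isField' (R := F) (S := C) (Field.toIsField F)
    exact IsDiscreteValuationRing.not_isField C this
  haveI : FaithfulSMul A C := (faithfulSMul_iff_algebraMap_injective A C).mpr hinjC
  haveI : Module.Free A C := Module.free_of_finite_type_torsion_free'
  have hrank : Module.finrank A C = Module.finrank A B :=
    le_antisymm (finrank_le_of_quotient_equiv A B C _ htmem ψ)
      (finrank_le_of_quotient_equiv A C B _ htmem ψ.symm)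
  -- a root of `P` in `C`
  haveI : IsAdicComplete (IsLocalRing.maximalIdeal A) C :=
    GrothLib.AdicLim.isAdicComplete_of_finite (IsLocalRing.maximalIdeal A) C
  set J := (IsLocalRing.maximalIdeal A).map (algebraMap A C) with hJ
  haveI : IsAdicComplete J C := (IsAdicComplete.map_algebraMap_iff _ _).2 ‹_›
  have hJpow : ∀ j, J ^ j = Ideal.span {algebraMap A C (ϖ ^ j)} := fun j => by
    rw [hJ, hϖ.maximalIdeal_eq, ← Ideal.map_pow, Ideal.span_singleton_pow, Ideal.map_span,
      Set.image_singleton]
  obtain ⟨γ, hγ⟩ := Ideal.Quotient.mk_surjective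
    (ψ (Ideal.Quotient.mk (Ideal.span {algebraMap A B (ϖ ^ m)}) αB))
  let π : C →ₐ[A] C ⧸ Ideal.span {algebraMap A C (ϖ ^ m)} := Ideal.Quotient.mkₐ A _
  let χ : B →ₐ[A] C ⧸ Ideal.span {algebraMap A C (ϖ ^ m)} :=
    ψ.toAlgHom.comp (Ideal.Quotient.mkₐ A _)
  have hγ' : ∀ Q : Polynomial A, π (Polynomial.aeval γ Q) = χ (Polynomial.aeval αB Q) := fun Q => by
    rw [← Polynomial.aeval_algHom_apply, ← Polynomial.aeval_algHom_apply]
    exact congrArg (fun x => Polynomial.aeval x Q) hγ
  have hPγ : Polynomial.aeval γ P ∈ J ^ m := by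
    rw [hJpow, ← Ideal.Quotient.eq_zero_iff_mem]
    exact (hγ' P).trans (by rw [hPαB, map_zero])
  have hkspan : J ^ k ≤ Ideal.span {Polynomial.aeval γ (Polynomial.derivative P)} := by
    obtain ⟨b, hb⟩ := hdr
    obtain ⟨b', hb'⟩ := Ideal.Quotient.mk_surjective (χ b)
    have h1 : algebraMap A C (↑u * ϖ ^ k) - Polynomial.aeval γ (Polynomial.derivative P) * b' ∈
        Ideal.span {algebraMap A C (ϖ ^ m)} := by
      rw [← Ideal.Quotient.eq]
      show π _ = π _
      rw [AlgHom.commutes, ← χ.commutes, hb, map_mul, map_mul, hγ', show π b' = χ b from hb']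
    obtain ⟨c, hc⟩ := Ideal.mem_span_singleton'.mp h1
    have hunit : IsUnit (algebraMap A C ↑u - c * algebraMap A C (ϖ ^ (m - k))) := by
      obtain ⟨v, hv⟩ := (u.isUnit.map (algebraMap A C))
      rw [← hv, show (v : C) - c * algebraMap A C (ϖ ^ (m - k)) =
        (v : C) * (-((↑v⁻¹ : C) * c) * algebraMap A C (ϖ ^ (m - k)) + 1) by
          rw [mul_add, mul_one]; linear_combination (c * algebraMap A C (ϖ ^ (m - k))) * v.mul_inv]
      refine v.isUnit.mul ?_
      have hmem : algebraMap A C (ϖ ^ (m - k)) ∈ J :=
        Ideal.mem_map_of_mem _ (by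
          rw [hϖ.maximalIdeal_eq]
          exact Ideal.mem_span_singleton.mpr (dvd_pow_self ϖ (by omega)))
      have h := Ideal.mem_jacobson_bot.mp (IsAdicComplete.le_jacobson_bot J hmem)
        (-((↑v⁻¹ : C) * c))
      rwa [mul_comm] at h
    rw [hJpow, Ideal.span_le, Set.singleton_subset_iff, SetLike.mem_coe, Ideal.mem_span_singleton]
    refine (hunit.dvd_mul_left).mp ⟨b', ?_⟩
    rw [sub_mul, mul_assoc, ← map_mul, ← map_mul, ← pow_add,
      show m - k + k = m by omega, hc]
    ring
  obtain ⟨β, hβ, -⟩ := Groth.Agent.Lib.DescExt4.exists_root_close J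
    (P.map (algebraMap A C) - Polynomial.C (Polynomial.aeval γ P))
    (Polynomial.C (Polynomial.aeval γ P)) γ
    (by simp [Polynomial.eval_map, Polynomial.aeval_def]) k 0
    (by simpa [Polynomial.derivative_map, Polynomial.eval_map, Polynomial.aeval_def] using hkspan)
    (fun i => by
      rw [Polynomial.coeff_C]
      split_ifs
      · exact Ideal.pow_le_pow_right (by omega) hPγ
      · exact zero_mem _)
  rw [sub_add_cancel, Polynomial.eval_map, ← Polynomial.aeval_def] at hβ
  -- compare the fraction fields
  letI : Algebra K (FractionRing C) :=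
    (IsFractionRing.lift (g := (algebraMap C (FractionRing C)).comp (algebraMap A C))
      ((IsFractionRing.injective C (FractionRing C)).comp hinjC)).toAlgebra
  haveI : IsScalarTower A K (FractionRing C) := IsScalarTower.of_algebraMap_eq fun x => by
    rw [RingHom.algebraMap_toAlgebra, IsFractionRing.lift_algebraMap]
    rfl
  have hαint : IsIntegral K α := Algebra.IsIntegral.isIntegral α
  let pb : PowerBasis K L := (IntermediateField.adjoin.powerBasis hαint).map
    ((IntermediateField.equivOfEq hadj).trans IntermediateField.topEquiv)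
  have hgen : pb.gen = α := rfl
  let Φ : L →ₐ[K] FractionRing C := pb.lift (algebraMap C (FractionRing C) β) (by
    rw [hgen, ← hmap, Polynomial.aeval_map_algebraMap, Polynomial.aeval_algebraMap_apply, hβ,
      map_zero])
  have hfr : Module.finrank K (FractionRing C) = Module.finrank K L := by
    rw [IsFractionRing.finrank_eq A K C (FractionRing C), hrank, IsIntegralClosure.rank A K L B]
  haveI : FiniteDimensional K (FractionRing C) :=
    FiniteDimensional.of_finrank_pos (hfr ▸ Module.finrank_pos)
  have hbij : Function.Bijective Φ :=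
    ⟨Φ.toRingHom.injective,
      (LinearMap.injective_iff_surjective_of_finrank_eq_finrank (f := Φ.toLinearMap) hfr.symm).mp
        Φ.toRingHom.injective⟩
  let Θ : FractionRing C ≃ₐ[A] L := (AlgEquiv.ofBijective Φ hbij).symm.restrictScalars A
  letI : Algebra C L := (Θ.toAlgHom.comp (IsScalarTower.toAlgHom A C (FractionRing C))).toRingHom.toAlgebra
  haveI : IsScalarTower A C L := IsScalarTower.of_algebraMap_eq fun x =>
    ((Θ.toAlgHom.comp (IsScalarTower.toAlgHom A C (FractionRing C))).commutes x).symm
  haveI : IsIntegralClosure C A L :=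
    { algebraMap_injective := Θ.injective.comp (IsFractionRing.injective C (FractionRing C))
      isIntegral_iff := fun {x} => by
        constructor
        · intro hx
          have h1 : IsIntegral A (Θ.symm x) := hx.map Θ.symm.toAlgHom
          obtain ⟨c, hc⟩ := IsIntegrallyClosed.isIntegral_iff.mp (h1.tower_top (A := C))
          exact ⟨c, show Θ (algebraMap C (FractionRing C) c) = x by rw [hc, AlgEquiv.apply_symm_apply]⟩
        · rintro ⟨c, rfl⟩
          exact (Algebra.IsIntegral.isIntegral (R := A) c).algebraMap }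
  exact ⟨IsIntegralClosure.equiv A B L C⟩

end Groth.Agent.S16501
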