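import Groth.Statements.S16506
import Groth.Agent.Lib.Sect28.Main
import Groth.Agent.Lib.Chow.Prod
import Groth.Agent.Lib.CurveMult.HyperAff
import Groth.Agent.Lib.HodgeIndex.NegCurves

set_option autoImplicit false
universe u
open CategoryTheory AlgebraicGeometry
open Curves

namespace Groth.Agent.S16506

/-- Over an algebraically closed field k, let X be a projective surface, B a smooth proper curve and π :
X → B a surjective k-morphism whose generic fibre is geometrically integral of arithmetic genus 0.
Then π has a section. -/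
theorem result
    (k : Type u) [Field k] [IsAlgClosed k]
    (X : Scheme.{u}) [X.Over (Spec (CommRingCat.of k))] [IsIntegral X] (hX2 : topologicalKrullDim X = 2)
    (hX : ∃ (N : ℕ) (ι : X ⟶ CohB1.ProjSpace N k), IsClosedImmersion ι ∧
      ι ≫ CohB1.ProjSpace.toSpec N k = X ↘ Spec (CommRingCat.of k))
    (B : Scheme.{u}) [B.Over (Spec (CommRingCat.of k))] [IsIntegral B]
    (hB : Curve.IsSmoothProperCurve k B (B ↘ Spec (CommRingCat.of k)))
    (π : X ⟶ B) (hπ : π ≫ (B ↘ Spec (CommRingCat.of k)) = X ↘ Spec (CommRingCat.of k))
    (hsurj : Function.Surjective π.base)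
    [GeometricallyIntegral (π.fiberToSpecResidueField (genericPoint B))]
    (hgen : letI : (π.fiber (genericPoint B)).Over (Spec (B.residueField (genericPoint B))) :=
        ⟨π.fiberToSpecResidueField (genericPoint B)⟩
      Curv2.genus (B.residueField (genericPoint B)) (π.fiber (genericPoint B)) = 0) :
    ∃ σ : B ⟶ X, σ ≫ π = 𝟙 B := by
  obtain ⟨N, ι, hι, hιf⟩ := hX
  haveI := hι
  haveI : IsProper (CohB1.ProjSpace.toSpec N k) := GrothLib.Chow.isProper_toSpec N k
  haveI : IsProper (X ↘ Spec (CommRingCat.of k)) := by rw [← hιf]; infer_instance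
  obtain ⟨hBp, hBs, -, hB1⟩ := hB
  haveI := hBp
  haveI := hBs
  haveI := GrothLib.Euler.isNoetherian_of_proper (X := B) k
  haveI : IsProper π := by
    haveI : IsProper (π ≫ B ↘ Spec (CommRingCat.of k)) := by rw [hπ]; infer_instance
    exact IsProper.of_comp π (B ↘ Spec (CommRingCat.of k))
  let η := genericPoint B
  letI : (π.fiber η).Over (Spec (CommRingCat.of (B.residueField η))) := ⟨π.fiberToSpecResidueField η⟩
  haveI : IsProper ((π.fiber η) ↘ Spec (CommRingCat.of (B.residueField η))) :=
    inferInstanceAs (IsProper (Limits.pullback.snd π (B.fromSpecResidueField η)))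
  haveI hgi : GeometricallyIntegral ((π.fiber η) ↘ Spec (CommRingCat.of (B.residueField η))) :=
    inferInstanceAs (GeometricallyIntegral (π.fiberToSpecResidueField (genericPoint B)))
  have hdF := GrothLib.Sect28.dim_genericFibre k π hsurj hX2 hB1
  haveI : Smooth ((π.fiber η) ↘ Spec (CommRingCat.of (B.residueField η))) :=
    GrothLib.Sect28.smooth_of_genus_zero (B.residueField η) (X := π.fiber η) hdF hgen
  haveI : IsIntegral (π.fiber η) :=
    GeometricallyIntegral.isIntegral_of_subsingleton ((π.fiber η) ↘ Spec (CommRingCat.of (B.residueField η)))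
  haveI := GrothLib.CurveRR.regCurve_of_smooth ((π.fiber η) ↘ Spec (CommRingCat.of (B.residueField η))) hdF
  haveI : GeometricallyConnected ((π.fiber η) ↘ Spec (CommRingCat.of (B.residueField η))) :=
    ⟨fun K _ y Z fst snd h => by
      haveI : IrreducibleSpace Z := GeometricallyIrreducible.geometrically_irreducibleSpace
        (f := (π.fiber η) ↘ Spec (CommRingCat.of (B.residueField η))) y fst snd h
      show ConnectedSpace Z
      infer_instance⟩
  exact GrothLib.Sect28.exists_section_of_genus_zero k hX2 hB1
    (fun y => GrothLib.HodgeIndex.regular_of_smooth k (X := B) y) π hπ hsurj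
    (GrothLib.CurveMult.finrank_H0_eq_one_of_geometricallyConnected (B.residueField η) (C := π.fiber η)) hgen

end Groth.Agent.S16506
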