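import Groth.Statements.S1651
import Groth.Agent.Lib.DeltaBC4.Le

set_option autoImplicit false
universe u
open CategoryTheory CategoryTheory.Limits AlgebraicGeometry
open Variety

namespace Groth.Agent.S1651

/-- Let X be locally of finite type over k, K a field extension, y a point of X_K with image x. Assume X
is geometrically reduced at x and the local rings at x and at y both have dimension one. Then the
δ-invariant of X at x is at most the δ-invariant of X_K at y. -/
theorem result (k : Type u) [Field k] (X : Scheme.{u}) [X.Over (Spec (CommRingCat.of k))] [LocallyOfFiniteType (X ↘ (Spec (CommRingCat.of k)))] (K : Type u) [Field K] [Algebra k K]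
    (y : Curv2.bc k X K) (hx : Curv2.IsGeomReducedAt k X (Curv2.bcFst k X K y))
    (hdx : ringKrullDim (X.presheaf.stalk (Curv2.bcFst k X K y)) = 1)
    (hdy : ringKrullDim ((Curv2.bc k X K).presheaf.stalk y) = 1) :
    Curv2.deltaInv (X.presheaf.stalk (Curv2.bcFst k X K y)) ≤ Curv2.deltaInv ((Curv2.bc k X K).presheaf.stalk y) := by
  haveI : Flat (Curv2.bcFst k X K) := MorphismProperty.pullback_fst _ _ inferInstance
  algebraize [((Curv2.bcFst k X K).stalkMap y).hom]
  haveI : Module.Flat _ _ := Flat.stalkMap (Curv2.bcFst k X K) y
  haveI : IsLocalHom (algebraMap (X.presheaf.stalk (Curv2.bcFst k X K y))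
      ((Curv2.bc k X K).presheaf.stalk y)) :=
    inferInstanceAs (IsLocalHom ((Curv2.bcFst k X K).stalkMap y).hom)
  exact GrothLib.DeltaBC4.deltaInv_le_of_flat (X.presheaf.stalk (Curv2.bcFst k X K y))
    ((Curv2.bc k X K).presheaf.stalk y)

end Groth.Agent.S1651
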