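import Groth.Statements.S16515
import Groth.Agent.Lib.BinForm.Basic

set_option autoImplicit false
universe u
open RatCurv

namespace Groth.Agent.S16515

/-- If C ⊂ P^n is a rational normal curve and P ⊂ P^n a linear r-plane with (r + 2) k ≥ (r + 1)(n + 1),
then P is contained in a k-secant (k − 1)-plane of C, i.e. in the span of some effective divisor of
degree k on C. Stated through the identification of the linear forms on P^n with the binary forms of
degree n on C ≅ P^1: the r-plane P is recorded by the space U of degree-n binary forms vanishing on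
it (of codimension r + 1), an effective divisor of degree k on C by a nonzero binary form g of
degree k, and P ⊂ span(div g) says that every degree-n form divisible by g lies in U. Here k ≤ n,
and the ground field is arbitrary (the source works over the complex numbers). -/
theorem result (K : Type u) [Field K] (n r k : ℕ)
    (hkn : k ≤ n) (hineq : (r + 1) * (n + 1) ≤ (r + 2) * k)
    (U : Submodule K (MvPolynomial (Fin 2) K))
    (hU : U ≤ MvPolynomial.homogeneousSubmodule (Fin 2) K n)
    (hcodim : Module.finrank K ↥U + (r + 1) = n + 1) :
    ∃ g ∈ MvPolynomial.homogeneousSubmodule (Fin 2) K k, g ≠ 0 ∧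
      ∀ h ∈ MvPolynomial.homogeneousSubmodule (Fin 2) K (n - k), g * h ∈ U := by
  classical
  let Sn := MvPolynomial.homogeneousSubmodule (Fin 2) K n
  let U' : Submodule K Sn := U.comap Sn.subtype
  have hU' : Module.finrank K U' = Module.finrank K U :=
    (Submodule.comapSubtypeEquivOfLe hU).finrank_eq
  have hQ : Module.finrank K (Sn ⧸ U') = r + 1 := by
    have := U'.finrank_quotient_add_finrank
    have hSn : Module.finrank K Sn = n + 1 := GrothLib.BinForm.finrank_forms K n
    omega
  let Φ := (LinearMap.llcomp K _ _ _ U'.mkQ).comp (GrothLib.BinForm.mulForms K k (n - k) n (by omega))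
  have hlt : Module.finrank K (MvPolynomial.homogeneousSubmodule (Fin 2) K (n - k) →ₗ[K] Sn ⧸ U') <
      Module.finrank K (MvPolynomial.homogeneousSubmodule (Fin 2) K k) := by
    rw [Module.finrank_linearMap, hQ, GrothLib.BinForm.finrank_forms, GrothLib.BinForm.finrank_forms]
    obtain ⟨c, rfl⟩ := Nat.exists_eq_add_of_le hkn
    rw [Nat.add_sub_cancel_left]
    nlinarith
  obtain ⟨g, hg, hg0⟩ : ∃ g, Φ g = 0 ∧ g ≠ 0 := by
    by_contra h
    push Not at h
    exact hlt.not_ge (LinearMap.finrank_le_finrank_of_injective (f := Φ)
      ((injective_iff_map_eq_zero Φ).mpr h))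
  refine ⟨g.1, g.2, fun h => hg0 (Subtype.ext h), fun h hh => ?_⟩
  have := congr($hg ⟨h, hh⟩)
  simp [Φ, U', Submodule.Quotient.mk_eq_zero] at this
  rwa [GrothLib.BinForm.mulForms_apply] at this

end Groth.Agent.S16515
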