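import Groth.Statements.S16516
import Groth.Agent.Lib.BinForm.Basic

set_option autoImplicit false
universe u
open RatCurv

namespace Groth.Agent.S16516

/-- A smooth nondegenerate rational quintic curve C ⊂ P^4 has exactly one 3-secant line. Stated for C
given as the image of P^1 under a 5-dimensional linear series V of binary quintic forms which
separates every length-2 subscheme of P^1 (for every nonzero quadratic form e the forms of V
together with the multiples of e span all quintic forms), so that P^1 → P(V^*) = P^4 is a closed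
embedding with nondegenerate image; the linear forms on P^4 are the elements of V, a line L ⊂ P^4 is
recorded by the 3-dimensional space of linear forms vanishing on it, and L ∩ C has length at least 3
exactly when that space consists of the multiples g · K[s,t]_2 of a cubic form g. The conclusion: a
nonzero cubic g with g · K[s,t]_2 ⊆ V exists and is unique up to a scalar. (That such a line meets C
in length exactly 3, i.e. is not 4-secant, is immediate in this description and is not restated; the
ground field is algebraically closed of characteristic zero in place of the complex numbers.) -/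
theorem result (K : Type u) [Field K] [IsAlgClosed K]
    [CharZero K] (V : Submodule K (MvPolynomial (Fin 2) K))
    (hV : V ≤ MvPolynomial.homogeneousSubmodule (Fin 2) K 5) (hdim : Module.finrank K ↥V = 5)
    (hsep : ∀ e ∈ MvPolynomial.homogeneousSubmodule (Fin 2) K 2, e ≠ 0 →
      ∀ F ∈ MvPolynomial.homogeneousSubmodule (Fin 2) K 5, ∃ v ∈ V,
        ∃ h ∈ MvPolynomial.homogeneousSubmodule (Fin 2) K 3, F = v + e * h) :
    ∃ g ∈ MvPolynomial.homogeneousSubmodule (Fin 2) K 3, g ≠ 0 ∧
      (∀ h ∈ MvPolynomial.homogeneousSubmodule (Fin 2) K 2, g * h ∈ V) ∧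
      ∀ g' ∈ MvPolynomial.homogeneousSubmodule (Fin 2) K 3,
        (∀ h ∈ MvPolynomial.homogeneousSubmodule (Fin 2) K 2, g' * h ∈ V) → ∃ c : K, g' = c • g := by
  classical
  let V' : Submodule K (MvPolynomial.homogeneousSubmodule (Fin 2) K 5) := V.comap (MvPolynomial.homogeneousSubmodule (Fin 2) K 5).subtype
  have hV' : Module.finrank K V' = 5 := (Submodule.comapSubtypeEquivOfLe hV).finrank_eq.trans hdim
  have hQ : Module.finrank K ((MvPolynomial.homogeneousSubmodule (Fin 2) K 5) ⧸ V') = 1 := by
    have := V'.finrank_quotient_add_finrank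
    have hSn : Module.finrank K (MvPolynomial.homogeneousSubmodule (Fin 2) K 5) = 6 := GrothLib.BinForm.finrank_forms K 5
    omega
  let q : ((MvPolynomial.homogeneousSubmodule (Fin 2) K 5) ⧸ V') ≃ₗ[K] K := LinearEquiv.ofFinrankEq _ _ (hQ.trans (Module.finrank_self K).symm)
  let ℓ : (MvPolynomial.homogeneousSubmodule (Fin 2) K 5) →ₗ[K] K := q.toLinearMap ∘ₗ V'.mkQ
  let Ψ : (MvPolynomial.homogeneousSubmodule (Fin 2) K 3) →ₗ[K] Module.Dual K (MvPolynomial.homogeneousSubmodule (Fin 2) K 2) :=
    (LinearMap.llcomp K _ _ _ ℓ).comp (GrothLib.BinForm.mulForms K 3 2 5 rfl)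
  have hΨ : ∀ (g : (MvPolynomial.homogeneousSubmodule (Fin 2) K 3)) (h : (MvPolynomial.homogeneousSubmodule (Fin 2) K 2)), Ψ g h = 0 ↔ g.1 * h.1 ∈ V := by
    intro g h
    change q (V'.mkQ (GrothLib.BinForm.mulForms K 3 2 5 rfl g h)) = 0 ↔ _
    rw [LinearEquiv.map_eq_zero_iff, Submodule.mkQ_apply, Submodule.Quotient.mk_eq_zero]
    rfl
  have hflip : ∀ e : (MvPolynomial.homogeneousSubmodule (Fin 2) K 2), (∀ g, Ψ g e = 0) → e = 0 := by
    intro e he
    by_contra he0
    have hle : MvPolynomial.homogeneousSubmodule (Fin 2) K 5 ≤ V := by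
      intro F hF
      obtain ⟨v, hv, h, hh, rfl⟩ := hsep e.1 e.2 (fun h => he0 (Subtype.ext h)) F hF
      refine V.add_mem hv ?_
      rw [mul_comm]
      exact (hΨ ⟨h, hh⟩ e).mp (he ⟨h, hh⟩)
    have := le_antisymm hV hle
    rw [this, GrothLib.BinForm.finrank_forms] at hdim
    omega
  have hsurj : Function.Surjective Ψ := by
    rw [← LinearMap.dualMap_injective_iff, injective_iff_map_eq_zero]
    intro ψ hψ
    obtain ⟨e, rfl⟩ := (Module.evalEquiv K (MvPolynomial.homogeneousSubmodule (Fin 2) K 2)).surjective ψ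
    rw [hflip e (fun g => by simpa using congr($hψ g)), map_zero]
  have hker : Module.finrank K (LinearMap.ker Ψ) = 1 := by
    have := LinearMap.finrank_range_add_finrank_ker Ψ
    rw [LinearMap.range_eq_top.mpr hsurj, finrank_top, Subspace.dual_finrank_eq] at this
    have h3 : Module.finrank K (MvPolynomial.homogeneousSubmodule (Fin 2) K 3) = 4 := GrothLib.BinForm.finrank_forms K 3
    have h2 : Module.finrank K (MvPolynomial.homogeneousSubmodule (Fin 2) K 2) = 3 := GrothLib.BinForm.finrank_forms K 2
    omega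
  obtain ⟨g, hg, hg0⟩ : ∃ g ∈ LinearMap.ker Ψ, g ≠ 0 := by
    refine (LinearMap.ker Ψ).exists_mem_ne_zero_of_ne_bot fun h => ?_
    rw [h, finrank_bot] at hker
    omega
  have hspan : Submodule.span K {g} = LinearMap.ker Ψ :=
    Submodule.eq_of_le_of_finrank_eq (Submodule.span_le.mpr (Set.singleton_subset_iff.mpr hg))
      (by rw [finrank_span_singleton hg0, hker])
  refine ⟨g.1, g.2, fun h => hg0 (Subtype.ext h), fun h hh => ?_, ?_⟩
  · exact (hΨ g ⟨h, hh⟩).mp (by rw [LinearMap.mem_ker.mp hg]; rfl)
  · intro g' hg'3 hg'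
    have hmem : (⟨g', hg'3⟩ : MvPolynomial.homogeneousSubmodule (Fin 2) K 3) ∈ LinearMap.ker Ψ :=
      LinearMap.mem_ker.mpr (LinearMap.ext fun h => (hΨ ⟨g', hg'3⟩ h).mpr (hg' h.1 h.2))
    rw [← hspan] at hmem
    obtain ⟨c, hc⟩ := Submodule.mem_span_singleton.mp hmem
    exact ⟨c, congr(($hc).1).symm⟩

end Groth.Agent.S16516
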