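import Groth.Statements.S16517
import Groth.Agent.Lib.Liaison.Linkage
import Groth.Agent.Lib.Liaison.Regular
import Mathlib.RingTheory.Regular.Flat
-- import your own Groth.Agent.* helpers here

set_option autoImplicit false
universe u
open CAlg

namespace Groth.Agent.S16517

/-- Let R be a regular local ring, A a Gorenstein local ring which is a flat R-algebra through a local
homomorphism, I ⊂ A an ideal of codimension zero (the Krull dimension of A/I equals that of A) with
A/I Cohen–Macaulay, and J = (0 : I) the annihilator of I in A (the ideal of the residual subscheme).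
Then A/I and A/J are flat over R. -/
theorem result (R A : Type u)
    [CommRing R] [IsRegularLocalRing R] [CommRing A] [Algebra R A] [LocCoh.IsGorensteinLocalRing A]
    [IsLocalHom (algebraMap R A)] [Module.Flat R A] (I : Ideal A)
    (hI : ringKrullDim (A ⧸ I) = ringKrullDim A) [LocCoh.IsCohenMacaulayLocalRing (A ⧸ I)] :
    Module.Flat R (A ⧸ I) ∧ Module.Flat R (A ⧸ (Submodule.annihilator I)) := by
  obtain ⟨d, hd, hdep, -⟩ := GrothLib.Gor.exists_dim A
  haveI : Nontrivial (A ⧸ I) := (inferInstance : IsLocalRing (A ⧸ I)).toNontrivial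
  have hI' : GrothLib.Liaison.IsMCMQuot I d := by
    refine ⟨Ideal.Quotient.nontrivial_iff.1 inferInstance, hd, ?_⟩
    rw [GrothLib.Liaison.depth_quotient]
    have h := LocCoh.IsCohenMacaulayLocalRing.supportDim_eq_depth (R := A ⧸ I)
    rw [Module.supportDim_self_eq_ringKrullDim, hI, hd] at h
    exact le_of_eq (WithBot.coe_inj.1 h)
  obtain ⟨ts, hts, hm, hk⟩ := GrothLib.Liaison.exists_regular_system R
  have hmem : ∀ r ∈ ts.map (algebraMap R A), r ∈ IsLocalRing.maximalIdeal A := by
    intro r hr
    obtain ⟨a, ha, rfl⟩ := List.mem_map.1 hr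
    exact map_nonunit (algebraMap R A) a (hm a ha)
  have hreg : RingTheory.Sequence.IsWeaklyRegular A (ts.map (algebraMap R A)) :=
    RingTheory.Sequence.IsWeaklyRegular.of_flat hts
  obtain ⟨h1, h2, -, -⟩ := GrothLib.Liaison.linked_of_regular _ A I d hI' _ rfl hmem hreg
  exact ⟨GrothLib.Liaison.flat_quotient I ts hts hk hm h1, GrothLib.Liaison.flat_quotient _ ts hts hk hm h2⟩

end Groth.Agent.S16517
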