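import Groth.Statements.S16518
import Groth.Agent.Lib.Liaison.Linkage
import Groth.Agent.Lib.Liaison.Regular
import Mathlib.RingTheory.Regular.Flat
-- import your own Groth.Agent.* helpers here

set_option autoImplicit false
universe u
open CAlg

namespace Groth.Agent.S16518

/-- Let R be a Noetherian local ring, A a Gorenstein local ring which is a flat R-algebra through a
local homomorphism, I ⊂ A an ideal of codimension zero (the Krull dimension of A/I equals that of A)
with A/I Cohen–Macaulay, and J = (0 : I) its annihilator. For every R-regular sequence r_1, …, r_n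
generating an ideal 𝔯 of R, the module J/𝔯J is the annihilator of the image of I in A/𝔯A: the
natural map J/𝔯J → A/𝔯A is injective (J ∩ 𝔯A = 𝔯J) with image the ideal quotient (𝔯A : I) modulo 𝔯A
(J + 𝔯A = (𝔯A : I)). -/
theorem result (R A : Type u)
    [CommRing R] [IsNoetherianRing R] [IsLocalRing R] [CommRing A] [Algebra R A]
    [LocCoh.IsGorensteinLocalRing A] [IsLocalHom (algebraMap R A)] [Module.Flat R A] (I : Ideal A)
    (hI : ringKrullDim (A ⧸ I) = ringKrullDim A) [LocCoh.IsCohenMacaulayLocalRing (A ⧸ I)]
    (rs : List R) (hrs : RingTheory.Sequence.IsRegular R rs) :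
    Submodule.annihilator I ⊔ (Ideal.ofList rs).map (algebraMap R A) =
        Submodule.colon ((Ideal.ofList rs).map (algebraMap R A)) (I : Set A) ∧
      Submodule.annihilator I ⊓ (Ideal.ofList rs).map (algebraMap R A) =
        (Ideal.ofList rs).map (algebraMap R A) * Submodule.annihilator I := by
  obtain ⟨d, hd, hdep, -⟩ := GrothLib.Gor.exists_dim A
  haveI : Nontrivial (A ⧸ I) := (inferInstance : IsLocalRing (A ⧸ I)).toNontrivial
  have hI' : GrothLib.Liaison.IsMCMQuot I d := by
    refine ⟨Ideal.Quotient.nontrivial_iff.1 inferInstance, hd, ?_⟩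
    rw [GrothLib.Liaison.depth_quotient]
    have h := LocCoh.IsCohenMacaulayLocalRing.supportDim_eq_depth (R := A ⧸ I)
    rw [Module.supportDim_self_eq_ringKrullDim, hI, hd] at h
    exact le_of_eq (WithBot.coe_inj.1 h)
  have hmem : ∀ r ∈ rs.map (algebraMap R A), r ∈ IsLocalRing.maximalIdeal A := by
    intro r hr
    obtain ⟨a, ha, rfl⟩ := List.mem_map.1 hr
    refine map_nonunit (algebraMap R A) a (IsLocalRing.le_maximalIdeal (fun htop => ?_) (show a ∈ Ideal.ofList rs from Ideal.subset_span ha))
    exact hrs.top_ne_smul (by rw [htop, Submodule.top_smul])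
  have hreg : RingTheory.Sequence.IsWeaklyRegular A (rs.map (algebraMap R A)) :=
    RingTheory.Sequence.IsWeaklyRegular.of_flat hrs.toIsWeaklyRegular
  obtain ⟨-, -, h1, h2⟩ := GrothLib.Liaison.linked_of_regular _ A I d hI' _ rfl hmem hreg
  rw [Ideal.map_ofList]
  exact ⟨h1, h2⟩

end Groth.Agent.S16518
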