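import Groth.Statements.S16519
-- import your own Groth.Agent.* helpers here
import Mathlib.Tactic.IntervalCases
import Mathlib.Algebra.Order.Chebyshev
import Mathlib.Data.Fintype.Pi
import Mathlib.Tactic.FieldSimp
import Mathlib.Data.Set.Card
import Mathlib.Tactic.Linarith

set_option autoImplicit false
open CubicSurf

namespace Groth.Agent.S16519

/-- On a smooth cubic surface there are exactly 72 divisor classes L with L² = 1 and L · K = −3. Stated
in the lattice ℤ^{1,6} with basis l, e_1, …, e_6 (l² = 1, e_i² = −1, K = −3l + Σ e_i): the integer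
vectors (a, b) ∈ ℤ × ℤ^6, standing for a·l − Σ b_i e_i, with 3a − Σ b_i = 3 and a² − Σ b_i² = 1 form
a set of exactly 72 elements. -/
theorem result :
    {p : ℤ × (Fin 6 → ℤ) | 3 * p.1 - (Finset.univ.sum fun i => p.2 i) = 3 ∧
        p.1 ^ 2 - (Finset.univ.sum fun i => p.2 i ^ 2) = 1}.ncard = 72 := by
  let T : Finset (Fin 6 → Fin 3) := Finset.univ
  let U : Finset (ℕ × (Fin 6 → Fin 3)) := ((Finset.Icc 1 5) ×ˢ T).filter fun q =>
    (3 * q.1 = 3 + Finset.univ.sum fun i => (q.2 i : ℕ)) ∧ (q.1 ^ 2 = 1 + Finset.univ.sum fun i => (q.2 i : ℕ) ^ 2)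
  let e : ℕ × (Fin 6 → Fin 3) → ℤ × (Fin 6 → ℤ) := fun q => ((q.1 : ℤ), fun i => ((q.2 i : ℕ) : ℤ))
  have he : Function.Injective e := fun q q' h => by
    simp only [e, Prod.mk.injEq, Nat.cast_inj, funext_iff] at h
    exact Prod.ext h.1 (funext fun i => Fin.ext (h.2 i))
  have hset : {p : ℤ × (Fin 6 → ℤ) | 3 * p.1 - (Finset.univ.sum fun i => p.2 i) = 3 ∧
      p.1 ^ 2 - (Finset.univ.sum fun i => p.2 i ^ 2) = 1} = e '' (U : Set (ℕ × (Fin 6 → Fin 3))) := by
    ext ⟨a, b⟩
    constructor
    · rintro ⟨h1, h2⟩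
      simp only at h1 h2
      have hcs : (Finset.univ.sum fun i => b i) ^ 2 ≤ 6 * Finset.univ.sum fun i => b i ^ 2 := by
        simpa using sq_sum_le_card_mul_sum_sq (s := (Finset.univ : Finset (Fin 6))) (f := b)
      have ha1 : 1 ≤ a := by nlinarith
      have ha5 : a ≤ 5 := by nlinarith
      have hb : ∀ i, 0 ≤ b i ∧ b i ≤ 2 := fun i => by
        have h5 : (∑ j ∈ Finset.univ.erase i, b j) ^ 2 ≤ 5 * ∑ j ∈ Finset.univ.erase i, b j ^ 2 := by
          simpa using sq_sum_le_card_mul_sum_sq (s := (Finset.univ : Finset (Fin 6)).erase i) (f := b)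
        have e1 := Finset.add_sum_erase Finset.univ b (Finset.mem_univ i)
        have e2 := Finset.add_sum_erase Finset.univ (fun j => b j ^ 2) (Finset.mem_univ i)
        have hs : ∑ j ∈ Finset.univ.erase i, b j = 3 * a - 3 - b i := by linarith
        have hq : ∑ j ∈ Finset.univ.erase i, b j ^ 2 = a ^ 2 - 1 - b i ^ 2 := by linarith
        rw [hs, hq] at h5
        interval_cases a <;> exact ⟨by nlinarith, by nlinarith⟩
      refine ⟨(a.toNat, fun i => ⟨(b i).toNat, by have := (hb i).2; omega⟩), ?_, ?_⟩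
      · have hsum : ((Finset.univ.sum fun i => (b i).toNat : ℕ) : ℤ) = Finset.univ.sum fun i => b i := by
          push_cast
          exact Finset.sum_congr rfl fun i _ => Int.toNat_of_nonneg (hb i).1
        have hsum2 : ((Finset.univ.sum fun i => (b i).toNat ^ 2 : ℕ) : ℤ) = Finset.univ.sum fun i => b i ^ 2 := by
          push_cast
          exact Finset.sum_congr rfl fun i _ => by rw [Int.toNat_of_nonneg (hb i).1]
        simp only [U, T, Finset.coe_filter, Set.mem_ofPred_eq, Finset.mem_product, Finset.mem_Icc, Finset.mem_univ,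
          and_true]
        refine ⟨by omega, by omega, ?_⟩
        have hcast : ((a.toNat ^ 2 : ℕ) : ℤ) = a ^ 2 := by push_cast; rw [Int.toNat_of_nonneg (by omega)]
        omega
      · simp only [e, Prod.mk.injEq]
        exact ⟨by omega, funext fun i => by have := (hb i).1; omega⟩
    · rintro ⟨q, hq, he'⟩
      rw [← he']
      simp only [U, Finset.coe_filter, Set.mem_ofPred_eq] at hq
      obtain ⟨-, h1, h2⟩ := hq
      have h1' := congrArg (fun n : ℕ => (n : ℤ)) h1
      have h2' := congrArg (fun n : ℕ => (n : ℤ)) h2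
      push_cast at h1' h2'
      exact ⟨by simp only [e]; linarith, by simp only [e]; linarith⟩
  rw [hset, Set.ncard_image_of_injective _ he, Set.ncard_coe_finset]
  decide +kernel

end Groth.Agent.S16519
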