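import Groth.Statements.S1652
import Groth.Agent.Lib.Euler.InvHom
import Groth.Agent.Lib.OX.LocFreeTensor

set_option autoImplicit false
universe u
open CategoryTheory CategoryTheory.Limits AlgebraicGeometry
open Variety

namespace Groth.Agent.S1652

/-- On a proper curve over a field, if L and M are invertible modules with L ⊗ M ≅ O_X and both L and M
have a nonzero global section, then L is isomorphic to the structure sheaf. -/
theorem result (k : Type u) [Field k] (X : Scheme.{u}) [X.Over (Spec (CommRingCat.of k))]
    [IsIntegral X] [IsProper (X ↘ (Spec (CommRingCat.of k)))] (hdim : topologicalKrullDim X = 1)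
    (L M : X.Modules) (hL : PicF.IsInvertible L) (hM : PicF.IsInvertible M) (hLM : ClSub.IsInverseOf L M)
    (s : Coh.structureModule X ⟶ L) (hs : s ≠ 0) (t : Coh.structureModule X ⟶ M) (ht : t ≠ 0) :
    Nonempty (L ≅ Coh.structureModule X) := by
  obtain ⟨e⟩ := hLM
  let T := (DCoh.tensorBi (X := X)).obj L
  let r : L ≅ T.obj (Coh.structureModule X) := (GrothLib.OX.tensorUnitLeftIso L).symm ≪≫
    ((GrothLib.OX.tensorBraiding (X := X)).app L).app (Coh.structureModule X)
  let ψ : L ⟶ Coh.structureModule X := r.hom ≫ T.map t ≫ (show T.obj M ≅ Coh.structureModule X from e).hom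
  have hbt := GrothLib.Euler.stalkLin_genericPoint_bijective GrothLib.Euler.isInvertible_structure hM ht
  have hbs := GrothLib.Euler.stalkLin_genericPoint_bijective GrothLib.Euler.isInvertible_structure hL hs
  have hψ : ψ ≠ 0 := by
    intro h0
    have h1 : IsIso ((GrothLib.OX.stalk (genericPoint X)).map t) := (ConcreteCategory.isIso_iff_bijective _).2 hbt
    have h2 : IsIso ((T ⋙ GrothLib.OX.stalk (genericPoint X)).map t) :=
      (NatIso.isIso_map_iff (GrothLib.OX.tensorLeftStalkIso (genericPoint X) L) t).2
        (inferInstanceAs (IsIso (((MonoidalCategory.tensorLeft _).map ((GrothLib.OX.stalk (genericPoint X)).map t)))))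
    have h3 : IsIso ((GrothLib.OX.stalk (genericPoint X)).map ψ) := by
      have : IsIso ((GrothLib.OX.stalk (genericPoint X)).map (T.map t)) := h2
      simp only [ψ, Functor.map_comp]
      infer_instance
    rw [h0, Functor.map_zero] at h3
    have h4 := (IsZero.iff_id_eq_zero _).2 ((@IsIso.hom_inv_id _ _ _ _ _ h3).symm.trans zero_comp)
    have h5 : Subsingleton (L.presheaf.stalk (genericPoint X)) := ModuleCat.isZero_iff_subsingleton.1 h4
    obtain ⟨o⟩ := GrothLib.AssPts.exists_stalk_unit_equiv (genericPoint X)
    have h6 : Subsingleton ((Coh.structureModule X).presheaf.stalk (genericPoint X)) := hbs.1.subsingleton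
    have h7 : Subsingleton (X.presheaf.stalk (genericPoint X)) := o.toEquiv.subsingleton
    exact not_subsingleton (X.presheaf.stalk (genericPoint X)) h7
  obtain ⟨q, hq, -⟩ := GrothLib.Euler.deg_le_of_ne_zero k hdim.le hL GrothLib.Euler.isInvertible_structure hψ
  rw [GrothLib.Euler.deg_structure] at hq
  obtain ⟨-, hiso⟩ := GrothLib.Euler.deg_of_section k hdim.le hL hs
  have := hiso (by omega)
  exact ⟨(asIso s).symm⟩

end Groth.Agent.S1652
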