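import Groth.Statements.S16520
-- import your own Groth.Agent.* helpers here
import Groth.Agent.Lib.DblSplit28.Main
import Groth.Agent.Lib.CurveRR.Setup

set_option autoImplicit false
set_option maxHeartbeats 1600000
set_option linter.style.haveILetI false
set_option backward.isDefEq.respectTransparency false
universe u
open CategoryTheory CategoryTheory.Limits AlgebraicGeometry
open Curves

namespace Groth.Agent.S16520

/-- Let E be an elliptic curve over an algebraically closed field k of characteristic zero (in place of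
the complex numbers): smooth, proper and geometrically connected over k, of dimension one and genus
dim_k H^1(E, O_E) = 1; let π : E → P^1_k be a k-morphism which is finite and flat of constant rank
2, and L an invertible O_E-module of degree d = χ(L) − χ(O_E). If d = 2e + 1 then π_*L ≅ O(e) ⊕ O(e
− 1); if d = 2e and L ≅ π^*O(e) then π_*L ≅ O(e) ⊕ O(e − 2); if d = 2e and L is not isomorphic to
π^*O(e) then π_*L ≅ O(e − 1) ⊕ O(e − 1). (Existence of isomorphisms of O-modules on P^1_k; the
source states the isomorphisms abstractly.) -/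
theorem result (k : Type u) [Field k]
    [IsAlgClosed k] [CharZero k] (E : Scheme.{u}) [E.Over (Spec (CommRingCat.of k))] [IsProper (E ↘ Spec (CommRingCat.of k))]
    [Smooth (E ↘ Spec (CommRingCat.of k))] [GeometricallyConnected (E ↘ Spec (CommRingCat.of k))]
    (hE : topologicalKrullDim E = 1) (hg : Curv2.genus k E = 1)
    (π : E ⟶ CohB1.ProjSpace 1 k) (hπ : π ≫ CohB1.ProjSpace.toSpec 1 k = E ↘ Spec (CommRingCat.of k))
    [IsFinite π] [Flat π] (hrk : ∀ y : ↥(CohB1.ProjSpace 1 k), Scheme.Hom.finrank π y = 2)
    (L : E.Modules) (hL : PicF.IsInvertible L) (d : ℤ) (hd : Curv2.deg k E L 1 = d) :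
    (∀ e : ℤ, d = 2 * e + 1 → Nonempty ((Scheme.Modules.pushforward π).obj L ≅
        ∐ fun j : Fin 2 => Twist.twistProjSpace 1 k (![e, e - 1] j))) ∧
    (∀ e : ℤ, d = 2 * e → Nonempty (L ≅ (Scheme.Modules.pullback π).obj (Twist.twistProjSpace 1 k e)) →
        Nonempty ((Scheme.Modules.pushforward π).obj L ≅
          ∐ fun j : Fin 2 => Twist.twistProjSpace 1 k (![e, e - 2] j))) ∧
    (∀ e : ℤ, d = 2 * e → IsEmpty (L ≅ (Scheme.Modules.pullback π).obj (Twist.twistProjSpace 1 k e)) →
        Nonempty ((Scheme.Modules.pushforward π).obj L ≅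
          ∐ fun j : Fin 2 => Twist.twistProjSpace 1 k (![e - 1, e - 1] j))) := by
  haveI : ConnectedSpace E := GeometricallyConnected.connectedSpace_of_subsingleton (E ↘ Spec (CommRingCat.of k))
  haveI := GrothLib.Euler.isIntegral_of_smooth_connected k (E ↘ Spec (CommRingCat.of k))
  haveI := GrothLib.CurveRR.regCurve_of_smooth (E ↘ Spec (CommRingCat.of k)) hE
  have h0 := GrothLib.CurveMult.finrank_H0_eq_one_of_geometricallyConnected k (C := E)
  obtain ⟨c, ⟨es⟩, hle, hsum, hodd, htriv, hnon⟩ :=
    GrothLib.DblSplit28.exists_split k π hπ hrk h0 hg hL d hd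
  have key : ∀ v : Fin 2 → ℤ, c 0 = v 0 → c 1 = v 1 → Nonempty ((Scheme.Modules.pushforward π).obj L ≅
      ∐ fun j : Fin 2 => Twist.twistProjSpace 1 k (v j)) := fun v e0 e1 => by
    have hcv : c = v := funext (Fin.forall_fin_two.2 ⟨e0, e1⟩)
    subst hcv
    exact ⟨es⟩
  refine ⟨fun e he => ?_, fun e he hLe => ?_, fun e he hLe => ?_⟩
  · have := hodd e he
    exact key _ (by simp; omega) (by simp; omega)
  · have := htriv e he hLe
    exact key _ (by simp; omega) (by simp; omega)
  · have := hnon e he (not_nonempty_iff.2 hLe)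
    exact key _ (by simp; omega) (by simp; omega)

end Groth.Agent.S16520
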