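import Groth.Statements.S16532
import Groth.Agent.Lib.CITwist12.Basic
import Groth.Agent.Lib.IdealMV12.Basic
import Groth.Agent.Lib.CI20.Results

set_option autoImplicit false
set_option maxHeartbeats 1600000
set_option backward.isDefEq.respectTransparency false
set_option linter.all false
universe u
open CategoryTheory CategoryTheory.Limits AlgebraicGeometry
open Fano

namespace Groth.Agent.S16532

/-- Over an algebraically closed field k of characteristic zero (in place of the complex numbers), let Σ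
⊂ P^4 be the union of a 2-plane Σ₁ and a smooth quadric surface Σ₂ meeting along a line; then
H^i(P^4, I_Σ(2)) = 0 for all i > 0. Here Σ₁ = V_+(l₁, l₂) and Σ₂ = V_+(m, q) for linearly
independent linear forms l₁, l₂, m and a quadratic form q in the ideal (l₁, l₂, m) (so Σ₁ ∩ Σ₂ is
the line V_+(l₁, l₂, m)), with V_+(m, q) smooth of dimension 2 over k; I_Σ is the intersection of
the ideal sheaves of Σ₁ and Σ₂, and the conclusion says that the i-th cohomology of I_Σ ⊗ O(2) on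
P^4_k vanishes for every i ≥ 1. -/
theorem result (k : Type u) [Field k]
    [IsAlgClosed k] [CharZero k] (l₁ l₂ m : LefPen.Form 4 k 1) (hlin : LinearIndependent k ![l₁, l₂, m])
    (q : LefPen.Form 4 k 2) (a b c : LefPen.Form 4 k 1) (hq : q.1 = a.1 * l₁.1 + b.1 * l₂.1 + c.1 * m.1)
    [Smooth ((LefPen.hypIdeal m ⊔ LefPen.hypIdeal q).subschemeι ≫ CohB1.ProjSpace.toSpec 4 k)]
    (hdim : topologicalKrullDim ↥(LefPen.hypIdeal m ⊔ LefPen.hypIdeal q).subscheme = 2)
    (i : ℕ) (hi : 1 ≤ i) :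
    Subsingleton (Coh.HH (CohB1.ProjSpace 4 k)
      (CohB1.tensorMod (ClSub.idealMod ((LefPen.hypIdeal l₁ ⊔ LefPen.hypIdeal l₂) ⊓
        (LefPen.hypIdeal m ⊔ LefPen.hypIdeal q))) (Twist.twistProjSpace 4 k 2)) i) := by
  classical
  obtain ⟨j₀, rfl⟩ : ∃ j₀, i = j₀ + 1 := ⟨i - 1, by omega⟩
  let P4 := CohB1.ProjSpace 4 k
  let a3 : Fin 3 → ℕ := fun _ => 1
  let G3 : ∀ l, LefPen.Form 4 k (a3 l) := ![l₁, l₂, m]
  have hreg3 : GrothLib.CI20.RegForms G3 :=
    GrothLib.CITwist12.regForms_linear (a := a3) G3 (fun _ => rfl)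
      (hlin.map' (CohB1.polyGrading 4 k 1).subtype (Submodule.ker_subtype _))
  let G1 : ∀ l : Fin 2, LefPen.Form 4 k (a3 l.castSucc) := fun l => G3 l.castSucc
  let a2 : Fin 2 → ℕ := ![1, 2]
  let G2 : ∀ l, LefPen.Form 4 k (a2 l) := Fin.cons m (Fin.cons q finZeroElim)
  let I := LefPen.hypIdeal l₁ ⊔ LefPen.hypIdeal l₂
  let H := LefPen.hypIdeal m
  let J := LefPen.hypIdeal m ⊔ LefPen.hypIdeal q
  have hI1 : LefPen.ciIdeal G1 = I := by
    refine le_antisymm (iSup_le fun l => ?_) (sup_le (le_iSup (fun l => LefPen.hypIdeal (G1 l)) 0)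
      (le_iSup (fun l => LefPen.hypIdeal (G1 l)) 1))
    fin_cases l
    exacts [le_sup_left, le_sup_right]
  have hJ2 : LefPen.ciIdeal G2 = J := by
    refine le_antisymm (iSup_le fun l => ?_) (sup_le (le_iSup (fun l => LefPen.hypIdeal (G2 l)) 0)
      (le_iSup (fun l => LefPen.hypIdeal (G2 l)) 1))
    fin_cases l
    exacts [le_sup_left, le_sup_right]
  have ha2 : ∀ l, 1 ≤ a2 l := by intro l; fin_cases l <;> simp [a2]
  have hreg2 : GrothLib.CI20.RegForms G2 := GrothLib.CI20.regForms G2 (by norm_num) ha2 (by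
    rw [hJ2, hdim]; norm_num)
  let ch : Fin (4 + 1) → P4.affineOpens := fun j =>
    ⟨LefPen.chart 4 k j, GrothLib.HypSurf.isAffineOpen_chart j⟩
  have htop : ⨆ j, (ch j).1 = ⊤ := GrothLib.Ample.ProjMap.iSup_basicOpen_X 4 k
  have hd : ∀ (e : ℕ) (F : LefPen.Form 4 k e) (j : Fin (4 + 1)),
      (LefPen.hypIdeal F).ideal (ch j) = Ideal.span {LefPen.dehom F j} := fun e F j => by
    rw [GrothLib.HypSurf.hypIdeal_ideal_eq F (ch j) j le_rfl, GrothLib.Ample.res_self]
  -- the quadric contains the line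
  have hJIH : J ≤ I ⊔ H := by
    refine sup_le le_sup_right (sup_eq_left.1 ?_)
    refine Scheme.IdealSheafData.ext_of_iSup_eq_top ch htop fun j => ?_
    show ((I ⊔ H) ⊔ LefPen.hypIdeal q).ideal (ch j) = (I ⊔ H).ideal (ch j)
    simp only [I, H, Scheme.IdealSheafData.ideal_sup, Pi.sup_apply, hd, sup_eq_left, Ideal.span_singleton_le_iff_mem]
    have hdeh : LefPen.dehom q j = LefPen.dehom a j * LefPen.dehom l₁ j + LefPen.dehom b j * LefPen.dehom l₂ j +
        LefPen.dehom c j * LefPen.dehom m j := by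
      simp only [← GrothLib.CurveMult.PnMap.χ_form, hq, map_add, map_mul]
    rw [hdeh]
    exact add_mem (add_mem (Ideal.mem_sup_left (Ideal.mem_sup_left (Ideal.mul_mem_left _ _ (Ideal.mem_span_singleton_self _))))
      (Ideal.mem_sup_left (Ideal.mem_sup_right (Ideal.mul_mem_left _ _ (Ideal.mem_span_singleton_self _)))))
      (Ideal.mem_sup_right (Ideal.mul_mem_left _ _ (Ideal.mem_span_singleton_self _)))
  -- the hyperplane is regular on the plane
  have hmul : I * H = I ⊓ H := by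
    refine Scheme.IdealSheafData.ext_of_iSup_eq_top ch htop fun j => ?_
    show (I * H).ideal (ch j) = (I ⊓ H).ideal (ch j)
    rw [Scheme.IdealSheafData.ideal_mul, Scheme.IdealSheafData.ideal_inf, Pi.mul_apply, Pi.inf_apply, hd _ m j]
    refine le_antisymm Ideal.mul_le_inf ?_
    rintro x ⟨hx, hxm⟩
    obtain ⟨y, rfl⟩ := Ideal.mem_span_singleton'.1 hxm
    refine Ideal.mul_mem_mul ?_ (Ideal.mem_span_singleton_self _)
    have h := GrothLib.CI20.mem_chart hreg3 j (b := y) (by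
      change y * LefPen.dehom m j ∈ (LefPen.ciIdeal G1).ideal (ch j)
      rw [hI1]; exact hx)
    change y ∈ (LefPen.ciIdeal G1).ideal (ch j) at h
    rwa [hI1] at h
  have hP : I * H = (I ⊓ J) ⊓ H := by
    rw [hmul, inf_assoc, inf_eq_right.2 (le_sup_left : H ≤ J)]
  have hS : J = (I ⊓ J) ⊔ H := by
    refine le_antisymm (fun U => ?_) (sup_le inf_le_right le_sup_left)
    have h1 : J.ideal U ≤ (I ⊔ H).ideal U := hJIH U
    have h2 : H.ideal U ≤ J.ideal U := (le_sup_left : H ≤ J) U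
    rw [show (I ⊔ H).ideal U = I.ideal U ⊔ H.ideal U from congrFun (Scheme.IdealSheafData.ideal_sup (I := I) (J := H)) U] at h1
    show J.ideal U ≤ ((I ⊓ J) ⊔ H).ideal U
    rw [show ((I ⊓ J) ⊔ H).ideal U = (I.ideal U ⊓ J.ideal U) ⊔ H.ideal U from
      (congrFun (Scheme.IdealSheafData.ideal_sup (I := I ⊓ J) (J := H)) U).trans
        (congrArg (· ⊔ H.ideal U) (congrFun (Scheme.IdealSheafData.ideal_inf (I := I) (J := J)) U))]
    intro x hx
    obtain ⟨y, hy, z, hz, rfl⟩ := Submodule.mem_sup.1 (h1 hx)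
    exact Submodule.add_mem_sup ⟨hy, by simpa using sub_mem hx (h2 hz)⟩ hz
  obtain ⟨f, g, w, hmv⟩ := GrothLib.IdealMV12.exists_mv (I ⊓ J) H (I * H) J hP hS
  -- vanishing of the ends
  have hm0 : m ≠ 0 := hlin.ne_zero 2
  obtain ⟨eH⟩ := GrothLib.CI20.nonempty_idealMod_hyp m hm0
  have hHinv : PicF.IsInvertible (ClSub.idealMod H) :=
    GrothLib.RelProjK.isInvertible_of_iso eH (GrothLib.CMReg.isInvertible_twist _)
  obtain ⟨eP⟩ := GrothLib.IdealMV12.nonempty_idealMod_mul_invertible (I := I) hHinv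
  obtain ⟨e2⟩ := GrothLib.CMReg.nonempty_Ft_Ft (ClSub.idealMod I) (-((1 : ℕ) : ℤ)) 2 1 (by norm_num)
  haveI : Subsingleton (Coh.HH P4 (GrothLib.CMReg.Ft (ClSub.idealMod I) 1) (j₀ + 1)) := by
    rw [← hI1]
    exact GrothLib.CITwist12.subsingleton_idealMod_twist G1 (fun _ => le_rfl) hreg3.castSucc
      (by norm_num [a3]) (by norm_num) (Nat.succ_pos _)
  have h1 : Subsingleton (Coh.HH P4 (GrothLib.CMReg.Ft (ClSub.idealMod (I * H)) 2) (j₀ + 1)) :=
    (GrothLib.Euler.hhEquiv (A := k) ((GrothLib.CMReg.ftFun 2).mapIso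
      (eP.symm ≪≫ GrothLib.Ample.LineData.tensorModMapIso (Iso.refl _) eH) ≪≫ e2) (j₀ + 1)).toEquiv.subsingleton
  have h3 : Subsingleton (Coh.HH P4 (GrothLib.CMReg.Ft (ClSub.idealMod J) 2) (j₀ + 1)) := by
    rw [← hJ2]
    exact GrothLib.CITwist12.subsingleton_idealMod_twist G2 ha2 hreg2
      (by simp [a2, Fin.sum_univ_two]) (by norm_num) (Nat.succ_pos _)
  have h2 := GrothLib.CMReg.sub_X₂ hmv (t := 2) h1 h3
  let A := ClSub.idealMod (I ⊓ J)
  let Φ := GrothLib.CMReg.ftFun (k := k) (n := 4) 2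
  refine ⟨fun x y => ?_⟩
  have key : ∀ z : Coh.HH P4 (GrothLib.CMReg.Ft A 2) (j₀ + 1),
      GrothLib.Cohom.hhMap k (Φ.map (biprod.fst : A ⊞ ClSub.idealMod H ⟶ A)) (j₀ + 1)
        (GrothLib.Cohom.hhMap k (Φ.map (biprod.inl : A ⟶ A ⊞ ClSub.idealMod H)) (j₀ + 1) z) = z := fun z => by
    rw [← GrothLib.Euler.hhMap_comp, ← Functor.map_comp, biprod.inl_fst, CategoryTheory.Functor.map_id]
    exact GrothLib.Euler.hhMap_id _ _ z
  exact (key x).symm.trans (((congrArg _ (@Subsingleton.elim _ h2 _ _))).trans (key y))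

end Groth.Agent.S16532
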