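import Groth.Statements.S16534
-- import your own Groth.Agent.* helpers here
import Groth.Agent.Lib.CurveMult.CoordFn28
import Groth.Agent.Lib.CurveMult.SpaceCurve
import Groth.Agent.Lib.LinesPt28.Pencil
import Groth.Agent.Lib.ProjCohom.Corollaries

set_option autoImplicit false
set_option maxHeartbeats 1600000
set_option linter.style.haveILetI false
set_option backward.isDefEq.respectTransparency false
universe u
open CategoryTheory CategoryTheory.Limits AlgebraicGeometry
open Curves

namespace Groth.Agent.S16534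
open MvPolynomial in
theorem exists_quad {k K : Type u} [Field k] [Field K] [Algebra k K] (c : Fin (4 + 1) → k) (hc : c ≠ 0)
    (h : Fin (4 + 1) → K) (V : Submodule k K) [FiniteDimensional k V] (hV : Module.finrank k V < 10)
    (hmem : ∀ G : MvPolynomial (Fin (4 + 1)) k, G.IsHomogeneous 2 → aeval h G ∈ V) :
    ∃ q : LefPen.Form 4 k 2, q.1 ∉ Ideal.span {GrothLib.Tango28.form c} ∧ aeval h q.1 = 0 := by
  classical
  obtain ⟨j, hj⟩ := Function.ne_iff.1 hc
  let ι : Fin (3 + 1) → Fin (4 + 1) := j.succAbove
  let ρ : MvPolynomial (Fin (4 + 1)) k →ₐ[k] MvPolynomial (Fin (3 + 1)) k :=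
    aeval (Fin.insertNth j (-(c j)⁻¹ • ∑ m, c (ι m) • (X m : MvPolynomial (Fin (3 + 1)) k)) X)
  have hρl : ρ (GrothLib.Tango28.form c) = 0 := by
    rw [GrothLib.Tango28.form_apply, map_sum, Fin.sum_univ_succAbove _ j]
    simp only [map_smul, ρ, aeval_X, Fin.insertNth_apply_same, Fin.insertNth_apply_succAbove, ι]
    rw [smul_smul, mul_neg, mul_inv_cancel₀ hj, neg_one_smul, neg_add_cancel]
  have hρι : ∀ G, ρ (rename ι G) = G := fun G => by
    rw [show ρ (rename ι G) = aeval (fun m => (X m : MvPolynomial (Fin (3 + 1)) k)) G from by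
      simp only [ρ, aeval_rename]
      exact congrArg (fun f => aeval f G) (funext fun m => Fin.insertNth_apply_succAbove _ _ _ _)]
    exact aeval_X_left_apply G
  let W := homogeneousSubmodule (Fin (3 + 1)) k 2
  let T : W →ₗ[k] V := LinearMap.codRestrict V
    (((aeval h).comp (rename ι)).toLinearMap.comp W.subtype) fun G =>
      hmem _ (((mem_homogeneousSubmodule 2 _).1 G.2).rename_isHomogeneous)
  have hW : Module.finrank k W = 10 := by
    rw [GrothLib.ProjCohom.finrank_forms]; rfl
  haveI : FiniteDimensional k W := Module.finite_of_finrank_pos (by rw [hW]; norm_num)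
  have hninj : ¬ Function.Injective T := fun hT => by
    have := LinearMap.finrank_le_finrank_of_injective hT
    omega
  rw [injective_iff_map_eq_zero] at hninj
  push Not at hninj
  obtain ⟨G, hG, hG0⟩ := hninj
  refine ⟨⟨rename ι G.1, (mem_homogeneousSubmodule 2 _).2 (((mem_homogeneousSubmodule 2 _).1 G.2).rename_isHomogeneous)⟩,
    fun hq => hG0 (Subtype.ext ?_), congrArg Subtype.val hG⟩
  obtain ⟨a, ha⟩ := Ideal.mem_span_singleton'.1 hq
  have := congrArg ρ ha
  rw [map_mul, hρl, mul_zero, hρι] at this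
  exact this.symm

/-- Over an algebraically closed field k of characteristic zero (in place of the complex numbers), a
smooth connected quintic curve of genus 2 in P^4 lies in a hyperplane and on a quadric surface in
that hyperplane. Here C is smooth, proper and integral of dimension one over k with dim_k H^1(C,
O_C) = 2, i : C → P^4_k is a closed immersion over k with deg i^*O(1) = χ(i^*O(1)) − χ(O_C) = 5, and
the conclusion provides a nonzero linear form l and a quadratic form q not divisible by l such that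
i factors through V_+(l) ∩ V_+(q). -/
theorem result (k : Type u) [Field k] [IsAlgClosed k]
    [CharZero k] (C : Scheme.{u}) [C.Over (Spec (CommRingCat.of k))] [Smooth (C ↘ Spec (CommRingCat.of k))] [IsProper (C ↘ Spec (CommRingCat.of k))]
    [IsIntegral C] (hC : topologicalKrullDim C = 1) (hg : Curv2.genus k C = 2)
    (i : C ⟶ CohB1.ProjSpace 4 k) [IsClosedImmersion i] (hi : i ≫ CohB1.ProjSpace.toSpec 4 k = C ↘ Spec (CommRingCat.of k))
    (hdeg : Curv2.deg k C ((Scheme.Modules.pullback i).obj (Twist.twistProjSpace 4 k 1)) 1 = 5) :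
    ∃ (l : LefPen.Form 4 k 1) (q : LefPen.Form 4 k 2), l ≠ 0 ∧ q.1 ∉ Ideal.span {l.1} ∧
      ∃ j : C ⟶ (LefPen.hypIdeal l ⊔ LefPen.hypIdeal q).subscheme,
        j ≫ (LefPen.hypIdeal l ⊔ LefPen.hypIdeal q).subschemeι = i := by
  classical
  haveI := GrothLib.CurveRR.regCurve_of_smooth (C ↘ Spec (CommRingCat.of k)) hC
  have h0 := GrothLib.CurveRR.finrank_H0_structure_eq_one k (X := C)
  have hK := GrothLib.CurveRR.isFunctionField k h0
  have hgK : _root_.FunFld.genus k C.functionField = 2 := (GrothLib.CurveRR.genus_eq k h0).symm.trans hg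
  obtain ⟨D, h, ⟨eD⟩, hh, hcoord⟩ := GrothLib.CurveMult.CoordFn28.exists_coords k i hi
  have hd : D.deg = 5 := by rw [← GrothLib.CurveMult.OmegaApp.deg_of_iso k eD]; exact hdeg
  have hl1 : _root_.FunFld.ell D = 4 := by
    have := GrothLib.FunFld.ell_eq_of_deg_ge hK (D := D) (by rw [hd, hgK]; norm_num)
    rw [hd, hgK] at this
    norm_num at this
    omega
  have hl2 : _root_.FunFld.ell (2 • D) = 9 := by
    have hd2 : (2 • D).deg = 10 := by rw [two_nsmul, GrothLib.FunFld.deg_add, hd]; norm_num
    have := GrothLib.FunFld.ell_eq_of_deg_ge hK (D := 2 • D) (by rw [hd2, hgK]; norm_num)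
    rw [hd2, hgK] at this
    norm_num at this
    omega
  have hfg := GrothLib.CurveRR.isFG k (X := C)
  haveI := GrothLib.FunFld.IsFG.finite_L hfg D
  haveI := GrothLib.FunFld.IsFG.finite_L hfg (2 • D)
  let T : (Fin (4 + 1) → k) →ₗ[k] C.functionField := Fintype.linearCombination k h
  have hT : ∀ c, MvPolynomial.aeval h (GrothLib.Tango28.form c) = T c := fun c => by
    simp [GrothLib.Tango28.form_apply, T, Fintype.linearCombination_apply]
  let T' : (Fin (4 + 1) → k) →ₗ[k] _root_.FunFld.L D := LinearMap.codRestrict _ T fun c => by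
    rw [show T c = ∑ l, c l • h l from Fintype.linearCombination_apply k h c]
    exact Submodule.sum_mem _ fun l _ => Submodule.smul_mem _ _ (hh l)
  have hninj : ¬ Function.Injective T' := fun hT' => by
    have h5 := LinearMap.finrank_le_finrank_of_injective hT'
    rw [Module.finrank_fin_fun] at h5
    change 4 + 1 ≤ _root_.FunFld.ell D at h5
    omega
  rw [injective_iff_map_eq_zero] at hninj
  push Not at hninj
  obtain ⟨c, hc, hc0⟩ := hninj
  obtain ⟨q, hq, hq0⟩ := exists_quad c hc0 h (_root_.FunFld.L (2 • D))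
    (by change _root_.FunFld.ell (2 • D) < 10; omega)
    fun G hG => GrothLib.CurveMult.CoordFn28.aeval_mem_L k hh hG
  have hl0 : MvPolynomial.aeval h (GrothLib.LinesPt28.frm c).1 = 0 := (hT c).trans (congrArg Subtype.val hc)
  have hle : LefPen.hypIdeal (GrothLib.LinesPt28.frm c) ⊔ LefPen.hypIdeal q ≤ i.ker :=
    sup_le (GrothLib.CurveMult.CoordFn28.hypIdeal_le_ker k i hi h hcoord _ hl0)
      (GrothLib.CurveMult.CoordFn28.hypIdeal_le_ker k i hi h hcoord _ hq0)
  exact ⟨GrothLib.LinesPt28.frm c, q, GrothLib.LinesPt28.frm_ne_zero hc0, hq,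
    IsClosedImmersion.lift (LefPen.hypIdeal (GrothLib.LinesPt28.frm c) ⊔ LefPen.hypIdeal q).subschemeι i
      (by rwa [Scheme.IdealSheafData.ker_subschemeι]),
    IsClosedImmersion.lift_fac _ _ _⟩

end Groth.Agent.S16534
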