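import Groth.Statements.S16541
import Groth.Agent.Lib.DispRigid.WittDescent

set_option autoImplicit false
universe u v
open CAlg

namespace Groth.Agent.S16541

/-- Let p be a prime, S → R a faithfully flat homomorphism of commutative rings and M a flat
W(S)-module; write ι₁, ι₂ : R → R ⊗_S R for the two coprojections, M_R = W(R) ⊗_{W(S)} M and M_{R ⊗
R} = W(R ⊗_S R) ⊗_{W(S)} M for the scalar extensions along W(S) → W(R) and W(S) → W(R ⊗_S R). Then 0
→ M → M_R ⇉ M_{R ⊗ R} is exact: the map x ↦ 1 ⊗ x from M to M_R is injective, and an element of M_R
has the same image under the two maps w ⊗ x ↦ W(ι₁)(w) ⊗ x and w ⊗ x ↦ W(ι₂)(w) ⊗ x exactly when it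
is of the form 1 ⊗ x. The hypothesis e records that the two composite ring maps W(S) → W(R) → W(R
⊗_S R) agree (both coprojections are S-algebra maps); it serves to identify the two targets. -/
theorem result (p : ℕ) [Fact p.Prime]
    (S R : Type u) [CommRing S] [CommRing R] [Algebra S R] [Module.FaithfullyFlat S R]
    (M : Type v) [AddCommGroup M] [Module (WittVector p S) M] [Module.Flat (WittVector p S) M]
    (e : (WittVector.map (Algebra.TensorProduct.includeLeftRingHom : R →+* TensorProduct S R R) : WittVector p R →+* WittVector p (TensorProduct S R R)).comp (WittVector.map (algebraMap S R) : WittVector p S →+* WittVector p R) = (WittVector.map ((Algebra.TensorProduct.includeRight : R →ₐ[S] TensorProduct S R R) : R →+* TensorProduct S R R) : WittVector p R →+* WittVector p (TensorProduct S R R)).comp (WittVector.map (algebraMap S R) : WittVector p S →+* WittVector p R)) :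
    Function.Injective (Dieu.BC.ι (WittVector.map (algebraMap S R) : WittVector p S →+* WittVector p R) M) ∧
      ∀ z : Dieu.BC (WittVector.map (algebraMap S R) : WittVector p S →+* WittVector p R) M,
        (Dieu.BC.castHom e (Dieu.BC.push (WittVector.map (algebraMap S R) : WittVector p S →+* WittVector p R) (WittVector.map (Algebra.TensorProduct.includeLeftRingHom : R →+* TensorProduct S R R) : WittVector p R →+* WittVector p (TensorProduct S R R)) z) = Dieu.BC.push (WittVector.map (algebraMap S R) : WittVector p S →+* WittVector p R) (WittVector.map ((Algebra.TensorProduct.includeRight : R →ₐ[S] TensorProduct S R R) : R →+* TensorProduct S R R) : WittVector p R →+* WittVector p (TensorProduct S R R)) z ↔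
          z ∈ Set.range (Dieu.BC.ι (WittVector.map (algebraMap S R) : WittVector p S →+* WittVector p R) M)) := by
  exact GrothLib.DispRigid.descent_exact M e

end Groth.Agent.S16541
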