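import Groth.Statements.S16543
import Groth.Agent.Lib.DispRigid.Step
import Groth.Agent.Lib.DispRigid.BCKer
import Mathlib

set_option autoImplicit false
universe u v
open Disp

namespace Groth.Agent.S16543

/-- Let p be a prime, S a commutative ring in which p is nilpotent, f : S → R a surjective homomorphism
of commutative rings whose kernel is a nilpotent ideal, and (P, Q, F, V⁻¹), (P', Q', F', V'⁻¹) two
displays over S, i.e. 3n-displays whose operators V# satisfy the nilpotence condition. Let (P_R,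
Q_R, F_R, V_R⁻¹) and (P'_R, Q'_R, F'_R, V'_R⁻¹) be their base changes along f, the 3n-display
structures on W(R) ⊗_{W(S)} P and W(R) ⊗_{W(S)} P' characterised by Q_R = ker(P_R → R ⊗_S P/Q),
F_R(w ⊗ x) = σ(w) ⊗ F x, V_R⁻¹(w ⊗ y) = σ(w) ⊗ V⁻¹ y for y ∈ Q and V_R⁻¹(V(w) ⊗ x) = w ⊗ F x (and
likewise for P'). Then the natural map ψ ↦ id ⊗ ψ from homomorphisms of 3n-displays P → P' to
homomorphisms P_R → P'_R is injective, and its cokernel is a p-torsion group: for every homomorphism
χ of the base-changed 3n-displays there are n and a homomorphism ψ over S with id ⊗ ψ = p^n·χ. -/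
theorem result (p : ℕ) [Fact p.Prime]
    (S R : Type u) [CommRing S] [CommRing R] (hp : IsNilpotent (p : S))
    (f : S →+* R) (hf : Function.Surjective f) (hker : IsNilpotent (RingHom.ker f))
    (P P' : Type v) [AddCommGroup P] [Module (WittVector p S) P] [AddCommGroup P'] [Module (WittVector p S) P']
    (D : W4c1extbt610.Display3n p S P) (D' : W4c1extbt610.Display3n p S P')
    (hD : Dieu.IsDisplay D) (hD' : Dieu.IsDisplay D')
    (DR : W4c1extbt610.Display3n p R (Dieu.BC (WittVector.map f : WittVector p S →+* WittVector p R) P)) (hDR : Dieu.IsDispBaseChange f D DR)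
    (DR' : W4c1extbt610.Display3n p R (Dieu.BC (WittVector.map f : WittVector p S →+* WittVector p R) P')) (hDR' : Dieu.IsDispBaseChange f D' DR') :
    (∀ ψ χ : P →ₗ[WittVector p S] P', W4c1extbt610.IsHom D D' ψ → W4c1extbt610.IsHom D D' χ →
        Dieu.BC.map (WittVector.map f : WittVector p S →+* WittVector p R) ψ = Dieu.BC.map (WittVector.map f : WittVector p S →+* WittVector p R) χ → ψ = χ) ∧
      ∀ χ : Dieu.BC (WittVector.map f : WittVector p S →+* WittVector p R) P →ₗ[WittVector p R] Dieu.BC (WittVector.map f : WittVector p S →+* WittVector p R) P', W4c1extbt610.IsHom DR DR' χ →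
        ∃ (n : ℕ) (ψ : P →ₗ[WittVector p S] P'), W4c1extbt610.IsHom D D' ψ ∧
          Dieu.BC.map (WittVector.map f : WittVector p S →+* WittVector p R) ψ = ((p : WittVector p R) ^ n) • χ := by
  let g : WittVector p S →+* WittVector p R := WittVector.map f
  have hg : Function.Surjective g := WittVector.map_surjective f hf
  let K := RingHom.ker f
  have hkerg : RingHom.ker g ≤ GrothLib.DispRigid.WK p K := fun x hx => GrothLib.DispRigid.mem_WK.2 fun n => by
    have h := congrArg (fun y : WittVector p R => y.coeff n) (RingHom.mem_ker.1 hx)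
    simpa [g, K, RingHom.mem_ker, WittVector.map_coeff] using h
  haveI := hD.choose_spec.1
  haveI := D.projective
  refine ⟨fun ψ χ hψ hχ he => ?_, fun χ hχ => ?_⟩
  · have hsub : W4c1extbt610.IsHom D D' (ψ - χ) := by
      have hm : ∀ q ∈ D.Q, (ψ - χ) q ∈ D'.Q := fun q hq => D'.Q.sub_mem (hψ.mapsTo q hq) (hχ.mapsTo q hq)
      refine ⟨hm, fun x => ?_, fun q => ?_⟩
      · rw [LinearMap.sub_apply, LinearMap.sub_apply, hψ.comm_F, hχ.comm_F, map_sub]
      · rw [LinearMap.sub_apply, hψ.comm_Vinv, hχ.comm_Vinv, ← map_sub]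
        exact congrArg D'.Vinv (Subtype.ext rfl)
    refine sub_eq_zero.1 (GrothLib.DispRigid.hom_eq_zero hp hker D hD D' _ hsub fun x => ?_)
    refine Submodule.smul_mono_left hkerg (GrothLib.DispRigid.mem_of_one_tmul_eq_zero g hg ?_)
    have h := LinearMap.congr_fun he (Dieu.BC.tmul g 1 x)
    rw [Dieu.BC.map_tmul, Dieu.BC.map_tmul] at h
    rw [LinearMap.sub_apply, sub_eq_add_neg, Dieu.BC.tmul_add, Dieu.BC.tmul_neg, h, add_neg_cancel]
  · obtain ⟨ψ₀, rfl⟩ := GrothLib.DispRigid.exists_lift g hg χ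
    obtain ⟨N, hN⟩ := GrothLib.DispRigid.exists_seq_eq_bot (p := p) hp hker
    have hkill : ∀ z ∈ GrothLib.DispRigid.WK p K • (⊤ : Submodule (WittVector p S) P'), (p : WittVector p S) ^ N • z = 0 := fun z hz => by
      refine Submodule.smul_induction_on hz (fun r hr x _ => ?_) fun a b ha hb => by rw [smul_add, ha, hb, add_zero]
      rw [smul_smul, GrothLib.DispRigid.pow_mul_eq_zero hN hr, zero_smul]
    have h1z : ∀ z ∈ GrothLib.DispRigid.WK p K • (⊤ : Submodule (WittVector p S) P'), Dieu.BC.tmul g 1 z = 0 := fun z hz => by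
      refine Submodule.smul_induction_on hz (fun r hr x _ => ?_) fun a b ha hb => by rw [Dieu.BC.tmul_add, ha, hb, add_zero]
      rw [← Dieu.BC.tmul_apply_eq]
      have hr0 : g r = 0 := WittVector.ext fun n => by
        have h := GrothLib.DispRigid.mem_WK.1 hr n
        simpa [g, K, RingHom.mem_ker, WittVector.map_coeff] using h
      rw [hr0, Dieu.BC.zero_tmul]
    -- elements over `Q_R`
    have hq : ∀ y : P', Dieu.BC.tmul g 1 y ∈ DR'.Q → ∃ q ∈ D'.Q, y - q ∈ GrothLib.DispRigid.WK p K • (⊤ : Submodule (WittVector p S) P') := by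
      intro y hy
      rw [hDR'.Q_eq, LinearMap.mem_ker, Dieu.bcQuotMap_tmul, map_one] at hy
      have hh : Function.Surjective ((WittVector.constantCoeff : WittVector p R →+* R).comp g) := fun r => by
        obtain ⟨a, ha⟩ := WittVector.constantCoeff_surjective (p := p) r
        obtain ⟨b, rfl⟩ := hg a
        exact ⟨b, ha⟩
      have h := GrothLib.DispRigid.mem_of_one_tmul_eq_zero _ hh hy
      rw [← LinearMap.range_eq_top.2 D'.Q.mkQ_surjective, LinearMap.range_eq_map, ← Submodule.map_smul''] at h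
      obtain ⟨z, hz, hzy⟩ := h
      have hz' : z ∈ D'.Q ⊔ GrothLib.DispRigid.WK p K • (⊤ : Submodule (WittVector p S) P') := by
        refine Submodule.smul_induction_on hz (fun c hc x _ => ?_) fun a b ha hb => add_mem ha hb
        rw [GrothLib.DispRigid.eq_teich_add c, add_smul, add_comm]
        refine Submodule.add_mem_sup (D'.IV_smul_le (Submodule.smul_mem_smul (W4c1extbt610.verschiebung_mem_IV p S _) Submodule.mem_top))
          (Submodule.smul_mem_smul (GrothLib.DispRigid.mem_WK.2 fun n => ?_) Submodule.mem_top)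
        cases n with
        | zero =>
          rw [WittVector.teichmuller_coeff_zero]
          simpa [g, K, RingHom.mem_ker, WittVector.map_coeff, WittVector.constantCoeff] using hc
        | succ n => rw [WittVector.teichmuller_coeff_pos _ _ _ n.succ_pos]; exact K.zero_mem
      obtain ⟨a, ha, b, hb, rfl⟩ := Submodule.mem_sup.1 hz'
      refine ⟨y - b, ?_, by rw [sub_sub_cancel]; exact hb⟩
      have h2 : y - (a + b) ∈ D'.Q := (Submodule.Quotient.eq _).1 hzy.symm
      have h3 := D'.Q.add_mem h2 ha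
      rwa [show y - (a + b) + a = y - b by abel] at h3
    have hQ1 : ∀ y : D.Q, Dieu.BC.tmul g 1 (y : P) ∈ DR.Q := fun y => by
      rw [hDR.Q_eq, LinearMap.mem_ker, Dieu.bcQuotMap_tmul, Submodule.mkQ_apply, (Submodule.Quotient.mk_eq_zero _).2 y.2, Dieu.BC.tmul_zero]
    let ψ : P →ₗ[WittVector p S] P' := (p : WittVector p S) ^ N • ψ₀
    have main : ∀ y : D.Q, ∃ q : D'.Q, ψ (y : P) = (p : WittVector p S) ^ N • (q : P') ∧
        ψ (D.Vinv y) = (p : WittVector p S) ^ N • D'.Vinv q := by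
      intro y
      have hmem := hχ.mapsTo _ (hQ1 y)
      have hχy : Dieu.BC.map g ψ₀ (Dieu.BC.tmul g 1 (y : P)) = Dieu.BC.tmul g 1 (ψ₀ y) := by rw [Dieu.BC.map_tmul]
      rw [hχy] at hmem
      obtain ⟨q, hq', hz⟩ := hq _ hmem
      have he1 : ∀ a b : P', Dieu.BC.tmul g 1 (a - b) = Dieu.BC.tmul g 1 a - Dieu.BC.tmul g 1 b := fun a b => by
        rw [sub_eq_add_neg, Dieu.BC.tmul_add, Dieu.BC.tmul_neg, ← sub_eq_add_neg]
      have hyq : Dieu.BC.tmul g 1 (ψ₀ y) = Dieu.BC.tmul g 1 q := by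
        rw [← sub_eq_zero, ← he1]
        exact h1z _ hz
      have hV := hχ.comm_Vinv ⟨_, hQ1 y⟩
      rw [hDR.Vinv_tmul 1 y (hQ1 y), map_one, Dieu.BC.map_tmul] at hV
      have hqR : Dieu.BC.tmul g 1 ((⟨q, hq'⟩ : D'.Q) : P') ∈ DR'.Q := hyq ▸ hmem
      have hV2 : Dieu.BC.tmul g 1 (ψ₀ (D.Vinv y)) = Dieu.BC.tmul g 1 (D'.Vinv ⟨q, hq'⟩) := by
        rw [hV]
        refine (congrArg DR'.Vinv (Subtype.ext ?_)).trans ((hDR'.Vinv_tmul 1 ⟨q, hq'⟩ hqR).trans (by rw [map_one]))
        show Dieu.BC.map g ψ₀ (Dieu.BC.tmul g 1 (y : P)) = _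
        rw [Dieu.BC.map_tmul, hyq]
      refine ⟨⟨q, hq'⟩, ?_, ?_⟩
      · show (p : WittVector p S) ^ N • ψ₀ y = _
        rw [← sub_eq_zero, ← smul_sub]
        exact hkill _ hz
      · show (p : WittVector p S) ^ N • ψ₀ (D.Vinv y) = _
        rw [← sub_eq_zero, ← smul_sub]
        refine hkill _ (Submodule.smul_mono_left hkerg (GrothLib.DispRigid.mem_of_one_tmul_eq_zero g hg ?_))
        rw [he1, hV2, sub_self]
    have hmaps : ∀ y ∈ D.Q, ψ y ∈ D'.Q := fun y hy => by
      obtain ⟨q, hq, -⟩ := main ⟨y, hy⟩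
      rw [show ψ y = _ from hq]
      exact D'.Q.smul_mem _ q.2
    have hcV : ∀ y : D.Q, ψ (D.Vinv y) = D'.Vinv ⟨ψ y, hmaps y y.2⟩ := fun y => by
      obtain ⟨q, hq, hqV⟩ := main y
      rw [hqV, show (⟨ψ y, hmaps y y.2⟩ : D'.Q) = (p : WittVector p S) ^ N • q from Subtype.ext hq, map_smulₛₗ, map_pow, map_natCast]
    refine ⟨N, ψ, ⟨hmaps, fun x => ?_, hcV⟩, ?_⟩
    · have h := D.Vinv_verschiebung_smul 1 x
      rw [one_smul] at h
      rw [← h, hcV]
      have h' := D'.Vinv_verschiebung_smul 1 (ψ x)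
      rw [one_smul] at h'
      rw [← h']
      exact congrArg D'.Vinv (Subtype.ext (map_smul ψ _ _))
    · refine Dieu.BC.ext g fun x => ?_
      rw [LinearMap.smul_apply, Dieu.BC.map_tmul, Dieu.BC.map_tmul, Dieu.BC.smul_tmul]
      show Dieu.BC.tmul g 1 ((p : WittVector p S) ^ N • ψ₀ x) = _
      rw [← Dieu.BC.tmul_mul_apply, map_pow, map_natCast, mul_comm]

end Groth.Agent.S16543
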