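import Groth.Statements.S16544
import Groth.Agent.Lib.DispRigid.Step
import Mathlib

set_option autoImplicit false
universe u v
open Disp

namespace Groth.Agent.S16544

/-- Let p be a prime and S a commutative ring in which p is nilpotent and whose nilradical (the ideal of
nilpotent elements) is a nilpotent ideal; let (P, Q, F, V⁻¹) and (P', Q', F', V'⁻¹) be displays over
S, i.e. 3n-displays whose operators V# satisfy the nilpotence condition. Then the group of
homomorphisms of displays from P to P' has no p-torsion: a W(S)-linear ψ : P → P' which is a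
homomorphism of 3n-displays and satisfies p·ψ = 0 is zero. (The published statement says
torsion-free; primes other than p are units in S, and the published proof treats the prime p.) -/
theorem result (p : ℕ) [Fact p.Prime]
    (S : Type u) [CommRing S] (hp : IsNilpotent (p : S)) (hn : IsNilpotent (nilradical S))
    (P P' : Type v) [AddCommGroup P] [Module (WittVector p S) P] [AddCommGroup P'] [Module (WittVector p S) P']
    (D : W4c1extbt610.Display3n p S P) (D' : W4c1extbt610.Display3n p S P')
    (hD : Dieu.IsDisplay D) (hD' : Dieu.IsDisplay D')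
    (ψ : P →ₗ[WittVector p S] P') (hψ : W4c1extbt610.IsHom D D' ψ)
    (h : (p : WittVector p S) • ψ = 0) : ψ = 0 := by
  haveI := D'.projective
  refine GrothLib.DispRigid.hom_eq_zero hp hn D hD D' ψ hψ fun x => ?_
  obtain ⟨sec, hsec⟩ := Module.projective_def.1 (inferInstance : Module.Projective (WittVector p S) P')
  have h0 : (Ideal.Quotient.mk (nilradical S)) (p : S) = 0 :=
    Ideal.Quotient.eq_zero_iff_mem.2 (mem_nilradical.2 hp)
  have hcoef : ∀ c : WittVector p S, (p : WittVector p S) * c = 0 → c ∈ GrothLib.DispRigid.WK p (nilradical S) := by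
    intro c hc
    rcases subsingleton_or_nontrivial (S ⧸ nilradical S) with hs | hs
    · exact GrothLib.DispRigid.mem_WK.2 fun n => Ideal.Quotient.eq_zero_iff_mem.1 (Subsingleton.elim _ _)
    haveI : CharP (S ⧸ nilradical S) p := (CharP.charP_iff_prime_eq_zero (Fact.out : p.Prime)).2 (by rw [← map_natCast (Ideal.Quotient.mk (nilradical S))]; exact h0)
    haveI : IsReduced (S ⧸ nilradical S) := (Ideal.isRadical_iff_quotient_reduced _).1 (Ideal.radical_isRadical _)
    have h1 := congrArg (WittVector.map (p := p) (Ideal.Quotient.mk (nilradical S))) hc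
    rw [map_mul, map_natCast, map_zero, mul_comm, ← WittVector.verschiebung_frobenius] at h1
    refine GrothLib.DispRigid.mem_WK.2 fun n => ?_
    have h2 := congrArg (fun y => y.coeff (n + 1)) h1
    simp only [WittVector.verschiebung_coeff_succ, WittVector.zero_coeff] at h2
    rw [WittVector.coeff_frobenius_charP, WittVector.map_coeff] at h2
    exact Ideal.Quotient.eq_zero_iff_mem.1 (eq_zero_of_pow_eq_zero h2)
  rw [← hsec (ψ x), Finsupp.linearCombination_apply]
  refine Submodule.sum_mem _ fun i _ => Submodule.smul_mem_smul (hcoef _ ?_) Submodule.mem_top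
  have hx : (p : WittVector p S) • ψ x = 0 := LinearMap.congr_fun h x
  have h3 := congrArg (fun y => sec y i) hx
  simpa using h3

end Groth.Agent.S16544
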