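import Groth.Statements.S16547
import Groth.Agent.Lib.InvariantDiv.Basic
import Groth.Agent.Lib.EakinNagata.Basic
import Groth.Agent.Lib.RegLoc.Basic
-- import your own Groth.Agent.* helpers here

set_option autoImplicit false
universe u
open CAlg

namespace Groth.Agent.S16547

/-- Let A be a Noetherian factorial local domain and G a finite group acting faithfully on A by ring
automorphisms; let B be a ring with an injective ring map to A whose image is exactly the ring of
invariants of G, and assume A is a finite B-module. Let q be a prime ideal of B of height one and p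
a prime ideal of A lying over q such that the extension of residue fields of the local rings B_q and
A_p is trivial (every element of A is congruent modulo p to some c⁻¹b with b, c in B, c outside q).
Then q is a principal ideal; and if moreover B/q is a regular local ring, then B is a regular local
ring. -/
theorem result
    {A B G : Type u} [CommRing A] [IsDomain A] [IsNoetherianRing A] [IsLocalRing A]
    [UniqueFactorizationMonoid A]
    [CommRing B] [Algebra B A] [FaithfulSMul B A] [Module.Finite B A]
    [Group G] [Finite G] [MulSemiringAction G A] [FaithfulSMul G A] [SMulCommClass G B A]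
    [Algebra.IsInvariant B A G]
    (q : Ideal B) [q.IsPrime] (hq : q.height = 1) (p : Ideal A) [p.IsPrime] [p.LiesOver q]
    (hres : ∀ a : A, ∃ b c : B, c ∉ q ∧ algebraMap B A c * a - algebraMap B A b ∈ p) :
    Submodule.IsPrincipal q ∧ (IsRegularLocalRing (B ⧸ q) → IsRegularLocalRing B) := by
  classical
  haveI : Fintype G := Fintype.ofFinite G
  have hinj := FaithfulSMul.algebraMap_injective B A
  haveI : IsDomain B := hinj.isDomain _
  haveI : IsNoetherianRing B := GrothLib.EakinNagata.isNoetherianRing_of_finite B A hinj
  haveI : Algebra.IsIntegral B A := inferInstance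
  have hq0 : q ≠ ⊥ := fun h => by rw [h, Ideal.height_bot] at hq; exact zero_ne_one hq
  have hpq : p.comap (algebraMap B A) = q := (p.over_def q).symm
  obtain ⟨x, hxp, hx⟩ := Ideal.IsPrime.exists_mem_prime_of_ne_bot (inferInstance : p.IsPrime) fun h => hq0 (by
    rw [← hpq, h, Ideal.comap_bot_of_injective _ hinj])
  haveI hxprime : (Ideal.span {x}).IsPrime := (Ideal.span_singleton_prime hx.ne_zero).2 hx
  have hp : p = Ideal.span {x} := by
    by_contra hne
    have hlt : Ideal.span {x} < p := lt_of_le_of_ne ((Ideal.span_singleton_le_iff_mem _).2 hxp) (Ne.symm hne)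
    have h0 : (Ideal.span {x}).comap (algebraMap B A) ≠ ⊥ :=
      Ideal.comap_ne_bot_of_algebraic_mem hx.ne_zero (Ideal.mem_span_singleton_self x) (Algebra.IsIntegral.isIntegral x).isAlgebraic
    have hle : (Ideal.span {x}).comap (algebraMap B A) < q := hpq ▸
      Ideal.IsIntegral.comap_lt_comap hlt
    haveI : ((Ideal.span {x}).comap (algebraMap B A)).IsPrime := Ideal.comap_isPrime _ _
    have h2 := Ideal.height_strict_mono_of_isPrime hle
    rw [hq, Order.lt_one_iff, Ideal.height_eq_zero_iff_eq_bot] at h2
    exact h0 h2
  let m : G → Associates A := fun g => Associates.mk (g • x)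
  let D : Finset G := Finset.univ.filter fun g => m g = m 1
  have hmg : ∀ g, Prime (g • x) := fun g =>
    (MulEquiv.prime_iff (MulSemiringAction.toRingEquiv G A g).toMulEquiv).2 hx
  have hact : ∀ g h, m g = m h ↔ m (h⁻¹ * g) = m 1 := fun g h => by
    simp only [m, Associates.mk_eq_mk_iff_associated, one_smul]
    constructor
    · intro ha
      have := ha.map (MulSemiringAction.toRingHom G A h⁻¹)
      simpa [MulSemiringAction.toRingHom_apply, smul_smul] using this
    · intro ha
      have := ha.map (MulSemiringAction.toRingHom G A h)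
      simpa [MulSemiringAction.toRingHom_apply, smul_smul] using this
  have hcard : ∀ h : G, (Finset.univ.filter fun g => m g = m h).card = D.card := fun h => by
    refine Finset.card_bij' (fun g _ => h⁻¹ * g) (fun g _ => h * g) ?_ ?_ (fun g _ => by group) (fun g _ => by group)
    · intro g hg
      simpa [D] using (hact g h).1 (by simpa using hg)
    · intro g hg
      simpa using (hact (h * g) h).2 (by simpa [D, mul_assoc] using hg)
  have hkey : ∀ b ∈ q, x ^ D.card ∣ algebraMap B A b := fun b hb =>
    GrothLib.InvariantDiv.pow_card_dvd hx hp hpq inferInstance hres D (fun g hg => by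
      have h1 : m g = m 1 := by simpa [D] using hg
      simp only [m, Associates.mk_eq_mk_iff_associated, one_smul] at h1
      exact h1.symm.dvd) b hb
  let N : A := ∏ g : G, g • x
  obtain ⟨n, hn⟩ := Algebra.IsInvariant.isInvariant (A := B) (G := G) N fun g => by
    show g • ∏ h : G, h • x = ∏ h : G, h • x
    rw [Finset.smul_prod']
    simp only [smul_smul]
    exact Fintype.prod_equiv (Equiv.mulLeft g) _ _ fun h => rfl
  have hnq : n ∈ q := by
    rw [← hpq, Ideal.mem_comap, hn, hp, Ideal.mem_span_singleton]
    simpa using Finset.dvd_prod_of_mem (fun g : G => g • x) (Finset.mem_univ 1)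
  have hN0 : N ≠ 0 := Finset.prod_ne_zero_iff.2 fun g _ => (hmg g).ne_zero
  have hspan : q = Ideal.span {n} := by
    refine le_antisymm (fun b hb => ?_) ((Ideal.span_singleton_le_iff_mem _).2 hnq)
    have hdvd : N ∣ algebraMap B A b := by
      rw [← Associates.mk_le_mk_iff_dvd, ← Associates.finsetProd_mk, Finset.prod_comp (fun a => a) m]
      refine GrothLib.InvariantDiv.prod_pow_dvd _ ?_ _ _ ?_
      · intro a ha
        obtain ⟨g, -, rfl⟩ := Finset.mem_image.1 ha
        exact Associates.prime_mk.2 (hmg g)
      · intro a ha
        obtain ⟨g, -, rfl⟩ := Finset.mem_image.1 ha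
        rw [hcard g, ← Associates.mk_pow]
        refine Associates.mk_le_mk_iff_dvd.2 ?_
        obtain ⟨w, hw⟩ := hkey b hb
        refine ⟨g • w, ?_⟩
        rw [← smul_pow', ← smul_mul', ← hw, GrothLib.InvariantDiv.smul_algebraMap']
    obtain ⟨a, ha⟩ := hdvd
    obtain ⟨b', hb'⟩ := Algebra.IsInvariant.isInvariant (A := B) (G := G) a fun g => by
      have h1 := congrArg (g • ·) ha
      simp only [smul_mul', GrothLib.InvariantDiv.smul_algebraMap', ← hn] at h1
      exact mul_left_cancel₀ hN0 (by rw [← hn, ← h1, ha, ← hn])
    exact Ideal.mem_span_singleton.2 ⟨b', hinj (by rw [map_mul, hn, hb', ← ha])⟩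
  refine ⟨⟨⟨n, hspan⟩⟩, fun hreg => ?_⟩
  haveI : IsLocalRing B := IsLocalRing.of_unique_max_ideal
    ⟨(IsLocalRing.maximalIdeal A).comap (algebraMap B A),
      Ideal.isMaximal_comap_of_isIntegral_of_isMaximal _, fun M hM => by
        obtain ⟨Q, hQ, hQM⟩ := Ideal.exists_ideal_over_maximal_of_isIntegral (S := A) M (by
          rw [(RingHom.injective_iff_ker_eq_bot _).1 hinj]; exact bot_le)
        rw [← hQM, IsLocalRing.eq_maximalIdeal hQ]⟩
  haveI : IsRegularLocalRing (B ⧸ Ideal.span {n}) := IsRegularLocalRing.of_ringEquiv (Ideal.quotEquivOfEq hspan)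
  exact GrothLib.RegLoc.isRegularLocalRing_of_quotient
    ((IsLocalRing.le_maximalIdeal (Ideal.IsPrime.ne_top (inferInstance : q.IsPrime))) hnq)
    (mem_nonZeroDivisors_of_ne_zero fun h => hN0 (by rw [← hn, h, map_zero]))

end Groth.Agent.S16547
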