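import Groth.Statements.S16551
import Groth.Agent.Lib.FinNormalGD.Basic

set_option autoImplicit false
universe u
open CategoryTheory CategoryTheory.Limits AlgebraicGeometry
open Models

namespace Groth.Agent.S16551

/-- Let R be a discrete valuation ring, W and Z integral normal schemes which are flat, of finite type
and of dimension 2 over Spec R, and ψ : W -> Z a finite surjective R-morphism. Let z be a closed
point of Z lying in the special fibre, w a point of W with ψ(w) = z, and Δ an irreducible component
of the special fibre of Z with z ∈ Δ. Then some irreducible component Γ of the special fibre of W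
contains w and satisfies ψ(Γ) = Δ. (The published statement asks W and Z only to be normal; they are
taken integral as well here.) -/
theorem result
    (R : Type u) [CommRing R] [IsDomain R] [IsDiscreteValuationRing R]
    (W Z : Over (Spec (CommRingCat.of R))) [IsIntegral W.left] [IsIntegral Z.left]
    (hWn : Pi1.IsNormalScheme W.left) (hZn : Pi1.IsNormalScheme Z.left)
    [Flat W.hom] [LocallyOfFiniteType W.hom] [QuasiCompact W.hom]
    [Flat Z.hom] [LocallyOfFiniteType Z.hom] [QuasiCompact Z.hom]
    (hdW : topologicalKrullDim W.left = 2) (hdZ : topologicalKrullDim Z.left = 2)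
    (ψ : W ⟶ Z) [IsFinite ψ.left] [Surjective ψ.left]
    (z : Z.left) (hzc : IsClosed ({z} : Set Z.left)) (hz : z ∈ Models.specialFibreSet R Z)
    (w : W.left) (hw : ψ.left.base w = z)
    (Δ : Set Z.left) (hΔ : Δ ∈ Models.fibreComponents R Z) (hzΔ : z ∈ Δ) :
    ∃ Γ ∈ Models.fibreComponents R W, w ∈ Γ ∧ ψ.left.base '' Γ = Δ := by
  obtain ⟨⟨hΔi, hΔs⟩, hmax⟩ := hΔ
  have hmem : ∀ x, x ∈ Models.specialFibreSet R W ↔ ψ.left x ∈ Models.specialFibreSet R Z := by
    intro x
    show W.hom.base x ∈ ({IsLocalRing.closedPoint R} : Set _) ↔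
      Z.hom.base (ψ.left x) ∈ ({IsLocalRing.closedPoint R} : Set _)
    rw [show W.hom.base x = Z.hom.base (ψ.left x) by
      rw [← Over.w ψ]; rfl]
  have hcl : IsClosed Δ := by
    have hc : closure Δ ⊆ Models.specialFibreSet R Z :=
      (Models.isClosed_specialFibreSet R Z).closure_subset_iff.2 hΔs
    exact closure_subset_iff_isClosed.1 (hmax ⟨hΔi.closure, hc⟩ subset_closure)
  obtain ⟨η, hη⟩ := QuasiSober.sober hΔi hcl
  have hzη : η ⤳ ψ.left w := by
    rw [show ψ.left w = z from hw]
    exact hη.specializes hzΔ
  obtain ⟨γ, hγw, hγ⟩ :=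
    GrothLib.FinNormalGD.generalizingMap ψ.left (fun y => (hZn y).2) hzη
  have hγs : γ ∈ Models.specialFibreSet R W := by
    rw [hmem, hγ]; exact hΔs hη.mem
  have himg : ψ.left.base '' closure {γ} = Δ := by
    have h1 : IsClosed (ψ.left.base '' closure {γ}) := ψ.left.isClosedMap _ isClosed_closure
    refine subset_antisymm ?_ ?_
    · refine (image_closure_subset_closure_image ψ.left.continuous).trans ?_
      rw [Set.image_singleton, ← hη.def]
      exact closure_mono (Set.singleton_subset_iff.2 hγ)
    · rw [← hη.def]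
      exact h1.closure_subset_iff.2 (Set.singleton_subset_iff.2 ⟨γ, subset_closure rfl, hγ⟩)
  refine ⟨closure {γ}, ⟨⟨isIrreducible_singleton.closure,
    (Models.isClosed_specialFibreSet R W).closure_subset_iff.2 (Set.singleton_subset_iff.2 hγs)⟩,
    fun S hS hle => ?_⟩, hγw.mem_closure, himg⟩
  intro s hs
  obtain ⟨γ', hγ'⟩ := QuasiSober.sober hS.1.closure isClosed_closure
  have h1 : γ' ⤳ γ := hγ'.specializes (subset_closure (hle (subset_closure rfl)))
  have hγ's : γ' ∈ Models.specialFibreSet R W :=
    (Models.isClosed_specialFibreSet R W).closure_subset_iff.2 hS.2 hγ'.mem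
  have hsp : ψ.left γ' ⤳ η := hγ ▸ h1.map ψ.left.continuous
  have hmem' : ψ.left γ' ∈ Δ := by
    refine hmax ⟨(isIrreducible_singleton (x := ψ.left γ')).closure,
      (Models.isClosed_specialFibreSet R Z).closure_subset_iff.2
        (Set.singleton_subset_iff.2 ((hmem γ').1 hγ's))⟩ ?_ (subset_closure rfl)
    rw [← hη.def]
    exact specializes_iff_closure_subset.1 hsp
  have heq : γ' = γ := GrothLib.FinNormalGD.eq_of_specializes ψ.left h1
    ((hsp.antisymm (hη.specializes hmem')).eq.trans hγ.symm)
  rw [← heq]
  exact (hγ'.specializes (subset_closure hs)).mem_closure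

end Groth.Agent.S16551
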