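import Groth.Statements.S16554
import Groth.Agent.Lib.Canon12.FinrankMult

set_option backward.isDefEq.respectTransparency false

set_option autoImplicit false
universe u
open CategoryTheory CategoryTheory.Limits AlgebraicGeometry
attribute [local instance] Curv2.resAlgebra
open Models

namespace Groth.Agent.S16554

/-- Let R be a Henselian discrete valuation ring with algebraically closed residue field and fraction
field K, C a smooth proper curve over K with H^0(C, O_C) = K, and XR a regular model of C over R: an
integral scheme all of whose local rings are regular, proper and flat over Spec R, with generic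
fibre identified with C through iX. Let x be a closed point of the special fibre of XR and Γ_1, ...,
Γ_n vertical prime divisors with pairwise distinct supports which are exactly the irreducible
components of the special fibre containing x, with multiplicities r_1, ..., r_n. If P is a closed
point of C whose closure in XR meets the special fibre only in x, then the degree [κ(P) : K] equals
c_1 r_1 + ... + c_n r_n for some positive integers c_i. -/
theorem result
    (R : Type u) [CommRing R] [IsDomain R] [IsDiscreteValuationRing R] [HenselianLocalRing R]
    (hk : IsAlgClosed (IsLocalRing.ResidueField R))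
    (C : Scheme.{u}) [C.Over (Spec (CommRingCat.of (FractionRing R)))]
    (hC : Curve.IsSmoothProperCurve (FractionRing R) C (C ↘ Spec (CommRingCat.of (FractionRing R))))
    (hC0 : IsIso (C ↘ Spec (CommRingCat.of (FractionRing R))).appTop)
    (XR : Over (Spec (CommRingCat.of R))) [IsIntegral XR.left]
    (hreg : ∀ y : XR.left, IsRegularLocalRing (XR.left.presheaf.stalk y))
    [IsProper XR.hom] [Flat XR.hom]
    (iX : C ⟶ XR.left)
    (hiX : IsPullback iX (C ↘ Spec (CommRingCat.of (FractionRing R))) XR.hom (Spec.map (CommRingCat.ofHom (algebraMap R (FractionRing R)))))
    (x : XR.left) (hx : IsClosed ({x} : Set XR.left)) (hxs : x ∈ Models.specialFibreSet R XR)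
    {n : ℕ} (Γ : Fin n → ArSurf.VertComp R XR)
    (hinj : Function.Injective fun i => Set.range ((Γ i).ι.base : (Γ i).curve.left → XR.left))
    (hΓ : ∀ Z ∈ Models.fibreComponents R XR,
      x ∈ Z ↔ ∃ i, Set.range ((Γ i).ι.base : (Γ i).curve.left → XR.left) = Z)
    (P : C) (hP : IsClosed ({P} : Set C))
    (hPx : closure ({iX.base P} : Set XR.left) ∩ Models.specialFibreSet R XR = {x}) :
    ∃ c : Fin n → ℕ, (∀ i, 1 ≤ c i) ∧
      Module.finrank (FractionRing R) (C.residueField P) = ∑ i, c i * Models.mult R XR (Γ i) := by
  exact GrothLib.Canon12.finrank_residueField_eq_sum hk C hreg iX hiX x hx hxs Γ hinj hΓ P hP hPx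

end Groth.Agent.S16554
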