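import Groth.Statements.S16555
import Groth.Agent.Lib.RatTree12.FibreComp
-- import your own Groth.Agent.* helpers here

set_option autoImplicit false
set_option backward.isDefEq.respectTransparency false
set_option maxHeartbeats 1000000
set_option linter.all false
universe u
open CategoryTheory CategoryTheory.Limits AlgebraicGeometry
open Models

namespace Groth.Agent.S16555

/-- Let R be a discrete valuation ring with algebraically closed residue field k, YR an integral normal
scheme of dimension 2, proper and flat over Spec R, ZR an integral normal scheme with a proper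
R-morphism π : ZR -> YR which is an isomorphism over some nonempty open subset of YR, and y a closed
point of YR in the special fibre such that the local ring O_{YR,y} is a rational singularity and the
fibre π⁻¹(y) has dimension one. Then each irreducible component of π⁻¹(y) is, with its reduced
structure, a projective line over k: there is a closed immersion of P^1_k into ZR, compatible with
the maps to Spec R, whose image is that component. The published statement takes YR to be a
projective normal model of a smooth geometrically connected curve; this row only asks YR integral,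
normal, two-dimensional, proper and flat over R, which is all the local argument uses. (The
published statement also adds that the dual graph of π⁻¹(y) is a tree when ZR is regular; not
restated.) -/
theorem result
    (R : Type u) [CommRing R] [IsDomain R] [IsDiscreteValuationRing R]
    (hk : IsAlgClosed (IsLocalRing.ResidueField R))
    (YR ZR : Over (Spec (CommRingCat.of R))) [IsIntegral YR.left] [IsIntegral ZR.left]
    (hYn : Pi1.IsNormalScheme YR.left) (hZn : Pi1.IsNormalScheme ZR.left)
    [IsProper YR.hom] [Flat YR.hom] (hdY : topologicalKrullDim YR.left = 2)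
    (π : ZR ⟶ YR) [IsProper π.left]
    (hbir : ∃ U : YR.left.Opens, (U : Set YR.left).Nonempty ∧ IsIso (π.left ∣_ U))
    (y : YR.left) (hyc : IsClosed ({y} : Set YR.left)) (hys : y ∈ Models.specialFibreSet R YR)
    (hrat : Curv2.IsRationalSing (YR.left.presheaf.stalk y))
    (hdim : topologicalKrullDim (π.left.base ⁻¹' ({y} : Set YR.left)) = 1)
    (E : Set ZR.left)
    (hE : Maximal (fun S : Set ZR.left => IsIrreducible S ∧ S ⊆ π.left.base ⁻¹' ({y} : Set YR.left)) E) :
    ∃ e : CohB1.ProjSpace 1 (IsLocalRing.ResidueField R) ⟶ ZR.left, IsClosedImmersion e ∧ Set.range e.base = E ∧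
      e ≫ ZR.hom = CohB1.ProjSpace.toSpec 1 (IsLocalRing.ResidueField R) ≫
        Spec.map (CommRingCat.ofHom (algebraMap R (IsLocalRing.ResidueField R))) := by
  haveI := hk
  let Y := YR.left
  let Z := ZR.left
  let ρ : Z ⟶ Y := π.left
  haveI : IsProper ρ := ‹IsProper π.left›
  haveI : IsLocallyNoetherian Y := LocallyOfFiniteType.isLocallyNoetherian YR.hom
  haveI : CompactSpace Y := QuasiCompact.compactSpace_of_compactSpace YR.hom
  haveI : IsNoetherian Y := {}
  haveI : IsLocallyNoetherian Z := LocallyOfFiniteType.isLocallyNoetherian ρ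
  haveI : CompactSpace Z := QuasiCompact.compactSpace_of_compactSpace ρ
  haveI : IsNoetherian Z := {}
  have hgenY : ¬ IsClosed ({genericPoint Y} : Set Y) := by
    intro hc
    have hall : ∀ a : Y, a = genericPoint Y := fun a =>
      Set.mem_singleton_iff.1 ((genericPoint_specializes a).mem_closed hc rfl)
    haveI : Subsingleton Y := ⟨fun a b => (hall a).trans (hall b).symm⟩
    haveI : DiscreteTopology Y := inferInstance
    have h0 : topologicalKrullDim Y ≤ 0 := topologicalKrullDim_zero_of_discreteTopology Y
    rw [show topologicalKrullDim Y = 2 from hdY] at h0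
    exact absurd h0 (by decide)
  obtain ⟨U, ⟨u, hu⟩, hiso⟩ := hbir
  haveI : IsIso (ρ ∣_ U) := hiso
  obtain ⟨p, -⟩ := (ρ ∣_ U).homeomorph.surjective ⟨u, hu⟩
  have hη' : genericPoint Z ∈ ρ ⁻¹ᵁ U :=
    ((genericPoint_spec Z).mem_open_set_iff (ρ ⁻¹ᵁ U).isOpen).2 ⟨p.1, Set.mem_univ _, p.2⟩
  have hgU : genericPoint Y ∈ U := ((genericPoint_spec Y).mem_open_set_iff U.isOpen).2 ⟨u, Set.mem_univ _, hu⟩
  have hξ : ρ.base (genericPoint Z) = genericPoint Y := by
    obtain ⟨q, hq⟩ := (ρ ∣_ U).homeomorph.surjective ⟨genericPoint Y, hgU⟩
    have hq' : ρ q.1 = genericPoint Y := by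
      have h2 := congrArg Subtype.val hq
      rw [← morphismRestrict_base_coe ρ U q]
      exact h2
    refine (Specializes.antisymm ?_ (genericPoint_specializes _)).eq
    rw [← hq']
    exact (genericPoint_specializes q.1).map ρ.continuous
  have hbir' : IsIso (ρ.stalkMap (genericPoint Z)) :=
    (ConcreteCategory.isIso_iff_bijective _).2 (GrothLib.ExcDim29.bijective_stalkMap ρ hiso hη')
  let G : Set Z := ρ.base ⁻¹' ({y} : Set Y)
  have hGc : IsClosed G := hyc.preimage ρ.continuous
  haveI : ConnectedSpace ↥G := by
    haveI := (hYn y).1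
    haveI := (hYn y).2
    haveI := GrothLib.Stein.connectedSpace_fiber_of_birational ρ hξ hbir' y
      GrothLib.Stein.isLocalRing_integralClosure_of_isIntegrallyClosed
    exact (ρ.fiberHomeo y).surjective.connectedSpace (ρ.fiberHomeo y).continuous
  haveI : QuasiSober ↥G := hGc.isClosedEmbedding_subtypeVal.quasiSober
  obtain ⟨⟨hEi, hEG⟩, hEmax⟩ := hE
  have hEc : IsClosed E := by
    have h : closure E ⊆ E := hEmax ⟨hEi.closure, closure_minimal hEG hGc⟩ subset_closure
    exact isClosed_of_closure_subset h
  obtain ⟨η, hη⟩ := QuasiSober.sober hEi hEc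
  have hηG : η ∈ G := hEG hη.mem
  let C : Set ↥G := irreducibleComponent ⟨η, hηG⟩
  have hCE : Subtype.val '' C = E := by
    have hCcl : IsClosed (Subtype.val '' C) :=
      hGc.isClosedEmbedding_subtypeVal.isClosedMap _ isClosed_irreducibleComponent
    have h1 : E ⊆ Subtype.val '' C := by
      rw [← hη.def]
      exact closure_minimal (Set.singleton_subset_iff.2 ⟨_, mem_irreducibleComponent, rfl⟩) hCcl
    refine Set.Subset.antisymm (hEmax ⟨isIrreducible_irreducibleComponent.image _
      continuous_subtype_val.continuousOn, ?_⟩ h1) h1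
    rintro _ ⟨z, -, rfl⟩
    exact z.2
  have hCd := GrothLib.RatTree12.dim_component (T := ↥G) hdim (irreducibleComponent_mem_irreducibleComponents ⟨η, hηG⟩)
  let D := GrothLib.HodgeIndex.curveIdeal η
  have hDs : (D.support : Set Z) = E :=
    (Scheme.IdealSheafData.coe_support_vanishingIdeal _).trans hη.def
  haveI : IsIntegral D.subscheme := GrothLib.Snapper.isIntegral_pt η
  have hDd : topologicalKrullDim D.subscheme = 1 := by
    rw [D.subschemeι.isClosedEmbedding.isEmbedding.toHomeomorph.isHomeomorph.topologicalKrullDim_eq,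
      D.range_subschemeι, hDs, ← hCE]
    exact ((IsHomeomorph.topologicalKrullDim_eq _
      (Topology.IsEmbedding.subtypeVal.homeomorphImage C).isHomeomorph).symm.trans hCd)
  haveI hH1 := GrothLib.RatTree12.subsingleton_H1_of_fibre ρ hZn ⟨U, ⟨u, hu⟩, hiso⟩ hdY.le hgenY y hyc hrat D
    fun z hz => Set.mem_singleton_iff.1 (hEG (hDs.subset hz))
  haveI : IsClosedImmersion (Spec.map (CommRingCat.ofHom (IsLocalRing.residue R))) :=
    IsClosedImmersion.spec_of_surjective _ IsLocalRing.residue_surjective
  obtain ⟨s, hs⟩ := GrothLib.RatTree12.exists_lift_of_range_subset (D.subschemeι ≫ ZR.hom)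
    (Spec.map (CommRingCat.ofHom (IsLocalRing.residue R))) (by
      rintro _ ⟨z, rfl⟩
      refine ⟨IsLocalRing.closedPoint _, ?_⟩
      have hz : ρ.base (D.subschemeι z) = y :=
        Set.mem_singleton_iff.1 (hEG (hDs.subset (D.range_subschemeι.subset ⟨z, rfl⟩)))
      have h1 : ZR.hom (D.subschemeι z) = IsLocalRing.closedPoint R := by
        rw [← Over.w π]
        show YR.hom (ρ (D.subschemeι z)) = _
        rw [show ρ (D.subschemeι z) = y from hz]
        exact hys
      rw [Scheme.Hom.comp_apply, h1]
      exact IsLocalRing.comap_closedPoint (IsLocalRing.residue R))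
  haveI : IsProper ZR.hom := by rw [← Over.w π]; infer_instance
  letI : D.subscheme.Over (Spec (CommRingCat.of (IsLocalRing.ResidueField R))) := ⟨s⟩
  haveI : IsProper (D.subscheme ↘ Spec (CommRingCat.of (IsLocalRing.ResidueField R))) := by
    haveI : IsProper (s ≫ Spec.map (CommRingCat.ofHom (IsLocalRing.residue R))) := by rw [hs]; infer_instance
    exact IsProper.of_comp s (Spec.map (CommRingCat.ofHom (IsLocalRing.residue R)))
  haveI := GrothLib.Euler.isNoetherian_of_proper (X := D.subscheme) (IsLocalRing.ResidueField R)
  obtain ⟨x, hxη, hreg⟩ := GrothLib.CurveMult.exists_regular_point (IsLocalRing.ResidueField R) hDd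
  obtain ⟨L, hL, hdeg, -⟩ := GrothLib.CurveMult.exists_point_bundle (IsLocalRing.ResidueField R) hDd.le hxη hreg
  obtain ⟨e, he⟩ := GrothLib.CurveMult.exists_iso_P1 (IsLocalRing.ResidueField R) hDd hH1 hL hdeg
  refine ⟨e.inv ≫ D.subschemeι, inferInstance, ?_, ?_⟩
  · refine Eq.trans ?_ (D.range_subschemeι.trans hDs)
    show Set.range (e.inv ≫ D.subschemeι) = Set.range D.subschemeι
    rw [Scheme.Hom.comp_base, TopCat.coe_comp, Set.range_comp, (show Function.Surjective (e.inv : _ → _) from e.inv.homeomorph.surjective).range_eq, Set.image_univ]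
  · rw [Category.assoc, ← hs, ← Category.assoc]
    congr 1
    rw [show s = e.hom ≫ CohB1.ProjSpace.toSpec 1 (IsLocalRing.ResidueField R) from he.symm, Iso.inv_hom_id_assoc]

end Groth.Agent.S16555
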