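import Groth.Statements.S16557
import Groth.Agent.Lib.SurfRR28.Effective

set_option autoImplicit false
universe u
open CategoryTheory CategoryTheory.Limits AlgebraicGeometry TopologicalSpace
open Surf

namespace Groth.Agent.S16557

/-- Let X be a smooth proper integral surface over an algebraically closed field k, W = Λ²Ω_{X/k} a
canonical module, and suppose H⁰(X, W) = 0 (the source states this for smooth rational surfaces and
uses exactly the vanishing of H⁰(X, K_X)). If L is an invertible O_X-module with H⁰(X, L) ≠ 0, then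
H²(X, L) = 0. -/
theorem result (k : Type u) [Field k] [IsAlgClosed k]
    (X : Scheme.{u}) [X.Over (Spec (CommRingCat.of k))] [IsIntegral X] [IsProper (X ↘ (Spec (CommRingCat.of k)))] [Smooth (X ↘ (Spec (CommRingCat.of k)))]
    (hdim : topologicalKrullDim X = 2)
    (W : X.Modules) (hW : ExtPow.IsExtPow 2 (Omega.sheaf (X ↘ (Spec (CommRingCat.of k)))) W)
    (hpg : Subsingleton (Coh.HH X W 0))
    (L : X.Modules) (hL : PicF.IsInvertible L) (h0 : Nontrivial (Coh.HH X L 0)) :
    Subsingleton (Coh.HH X L 2) := by
  obtain ⟨hs2, n, ι, hι, hιc⟩ := GrothLib.SurfRR28.exists_embedding k X hdim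
  haveI := hs2
  haveI := hι
  have hWi := GrothLib.SurfRR28.isInvertible_canonical k ι hιc W hW
  let M := GrothLib.HodgeIndex.rep (GrothLib.Cube.clsMod hWi * (GrothLib.Cube.clsMod hL)⁻¹)
  have hM : PicF.IsInvertible M := GrothLib.HodgeIndex.isInv_rep _
  haveI := GrothLib.Euler.isNoetherian_of_proper (X := X) k
  haveI := GrothLib.Euler.finiteDimensional_HH k (GrothLib.Euler.isCoh_of_isInvertible hL) 2
  by_contra hne
  rw [not_subsingleton_iff_nontrivial] at hne
  have e := GrothLib.SurfRR28.hh_serre k ι hιc W hW hWi hL hM (by rw [GrothLib.HodgeIndex.cls_rep]) (p := 2) le_rfl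
  have h2 : 0 < Module.finrank k (Coh.HH X L 2) := Module.finrank_pos
  haveI : Nontrivial (Coh.HH X M 0) := Module.nontrivial_of_finrank_pos (R := k) (by rwa [← e])
  have h := (GrothLib.SurfRR28.pLe_one_of_nontrivial hL h0).mul
    (GrothLib.SurfRR28.pLe_one_of_nontrivial hM inferInstance)
  rw [GrothLib.HodgeIndex.cls_rep, one_mul, mul_comm (GrothLib.Cube.clsMod hWi), mul_inv_cancel_left] at h
  haveI := GrothLib.SurfRR28.nontrivial_of_pLe_one k hWi h
  exact not_subsingleton _ hpg

end Groth.Agent.S16557
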