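import Groth.Statements.S1656
import Groth.Agent.Lib.CurveSerre11.Numbers

set_option autoImplicit false
universe u
open CategoryTheory CategoryTheory.Limits AlgebraicGeometry
attribute [local instance] HasDerivedCategory.standard
open Curves

namespace Groth.Agent.S1656

set_option backward.isDefEq.respectTransparency false


/-- Let X be proper over k, Cohen–Macaulay and equidimensional of dimension one, and let ω_X be its
dualizing module, i.e. the cohomology sheaf in degree -1 of f^! O for f : X → Spec k (assuming the
derived direct image Rf_* on D_QCoh and its right adjoint exist, which is how the shared prelude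
presents f^!). Then χ(X, O_X) = -χ(X, ω_X). -/
theorem result (k : Type u) [Field k] (X : Scheme.{u}) [X.Over (Spec (CommRingCat.of k))] [IsProper (X ↘ (Spec (CommRingCat.of k)))]
    (hCM : ∀ x : X, LocCoh.IsCohenMacaulayLocalRing (X.presheaf.stalk x))
    (hequi : ∀ Z ∈ irreducibleComponents (X : Type u), topologicalKrullDim Z = 1)
    [DCoh.HasRpush (X ↘ (Spec (CommRingCat.of k)))] (h : DCoh.RpushPreservesQCoh (X ↘ (Spec (CommRingCat.of k)))) [DCoh.HasShriek (X ↘ (Spec (CommRingCat.of k))) h]
    (OY : DCoh.DQCoh (Spec (CommRingCat.of k))) (hOY : Nonempty (OY.obj ≅ DCoh.inD (Spec (CommRingCat.of k)) (Coh.structureModule (Spec (CommRingCat.of k))))) :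
    Curv2.euler k X (Coh.structureModule X) = - Curv2.euler k X (DCoh.dualizingMod (X ↘ (Spec (CommRingCat.of k))) h OY 1) := by
  haveI := GrothLib.Euler.isNoetherian_of_proper (X := X) k
  have hdim : topologicalKrullDim X ≤ 1 := GrothLib.FibPd.topologicalKrullDim_le_of_components fun Z hZ => (hequi Z hZ).le
  have hbad := GrothLib.CurveSerre11.badSet_eq_empty h OY hOY hCM hequi
  haveI := GrothLib.CurveSerre11.isQCoh_omega h OY hOY
  haveI : (Coh.structureModule X).IsQuasicoherent := (GrothLib.HomSh.isCoh_structureModule X).1
  rw [GrothLib.Euler.euler_eq_sub k hdim, GrothLib.Euler.euler_eq_sub k hdim,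
    GrothLib.CurveSerre11.finrank_HH_zero_omega h OY hOY hdim,
    GrothLib.CurveSerre11.finrank_HH_one_omega h OY hOY hdim hbad]
  ring

end Groth.Agent.S1656
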