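import Groth.Statements.S16561
import Groth.Agent.Lib.PlaneBlow28.H2
import Groth.Agent.Lib.SurfRR28.Curve

set_option autoImplicit false
universe u
open CategoryTheory CategoryTheory.Limits AlgebraicGeometry TopologicalSpace
open Surf

namespace Groth.Agent.S16561

/-- Let k be an algebraically closed field, p_1, …, p_r distinct closed points of the projective plane
P²_k and σ : X → P²_k the blow-up of P²_k in the ideal of the reduced finite set {p_1, …, p_r}
(universal property), X being regarded over k through σ; X is then an integral smooth proper surface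
(carried as hypotheses). Write H = σ^*O(1), (L·M) = χ(O_X) − χ(L) − χ(M) + χ(L ⊗ M) for the
intersection number of invertible modules L, M, and for a closed subscheme C ⊆ X with ideal I_C
write (L·C) = χ(O_C ⊗ L) − χ(O_C) and C² = (I_C·I_C). A (−1)-curve is an integral closed
one-dimensional subscheme E ⊆ X with H¹(E, O_E) = 0 and E² = −1. Let L be an invertible O_X-module,
d = (L·H), χ⁻ = max(−χ(L), 0), and E a (−1)-curve with (H·E) ≤ d + 2. If dim_k H¹(X, L) = χ⁻, then
(L·E) ≥ −1 − χ⁻. (The source takes the points in general position; that assumption plays no role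
here.) -/
theorem result (k : Type u) [Field k] [IsAlgClosed k]
    (r : ℕ) (P : Fin r → ↥(CohB1.ProjSpace 2 k)) (hP : Function.Injective P)
    (hPc : ∀ i, IsClosed ({P i} : Set ↥(CohB1.ProjSpace 2 k))) (hZ : IsClosed (Set.range P))
    (X : Scheme.{u}) [X.Over (Spec (CommRingCat.of k))] (σ : X ⟶ CohB1.ProjSpace 2 k)
    (hσk : σ ≫ CohB1.ProjSpace.toSpec 2 k = X ↘ (Spec (CommRingCat.of k)))
    (hσ : BlowUp.IsBlowUp σ (Scheme.IdealSheafData.vanishingIdeal ⟨Set.range P, hZ⟩))
    [IsIntegral X] [IsProper (X ↘ (Spec (CommRingCat.of k)))] [Smooth (X ↘ (Spec (CommRingCat.of k)))] (hdim : topologicalKrullDim X = 2)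
    (L : X.Modules) (hL : PicF.IsInvertible L)
    (E : X.IdealSheafData) (hEi : IsIntegral E.subscheme) (hE1 : topologicalKrullDim (E.support : Set X) = 1)
    (hEg : Subsingleton (Coh.HH E.subscheme (Coh.structureModule E.subscheme) 1))
    (hEE : FGA.intNum k X 2 ![ClSub.idealMod E, ClSub.idealMod E] (Coh.structureModule X) = -1)
    (hEH : (Curv2.euler k X (CohB1.tensorMod (ClSub.quotMod E) ((Scheme.Modules.pullback σ).obj (Twist.twistProjSpace 2 k 1))) - Curv2.euler k X (ClSub.quotMod E)) ≤ FGA.intNum k X 2 ![L, ((Scheme.Modules.pullback σ).obj (Twist.twistProjSpace 2 k 1))] (Coh.structureModule X) + 2)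
    (h1 : (Module.finrank k (Coh.HH X L 1) : ℤ) = max (-Curv2.euler k X L) 0) :
    -1 - max (-Curv2.euler k X L) 0 ≤ (Curv2.euler k X (CohB1.tensorMod (ClSub.quotMod E) L) - Curv2.euler k X (ClSub.quotMod E)) := by
  letI : E.subscheme.Over (Spec (CommRingCat.of k)) := ⟨E.subschemeι ≫ X ↘ Spec (CommRingCat.of k)⟩
  rw [GrothLib.PlaneBlow28.intNum_H k σ hdim hL, GrothLib.PlaneBlow28.deg_H k σ hdim hEi hE1] at hEH
  rw [GrothLib.PlaneBlow28.intNum_self k hdim hEi hE1] at hEE
  rw [GrothLib.PlaneBlow28.deg_curve k hdim hEi hE1 hL]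
  rw [GrothLib.PlaneBlow28.finrank_eq_h k hL 1, GrothLib.HodgeIndex.euler_eq_chi k hL] at h1
  rw [GrothLib.HodgeIndex.euler_eq_chi k hL]
  obtain ⟨z, hz⟩ : ∃ z, z = GrothLib.Cube.clsMod hL := ⟨_, rfl⟩
  rw [← hz] at hEH h1 ⊢
  have hg : GrothLib.HodgeIndex.chi k (1 : GrothLib.Cube.Pic E.subscheme) = 1 := by
    have h9 := (GrothLib.PlaneBlow28.curve_seq k hdim hEi hE1 (1 : GrothLib.Cube.Pic X)).2.2.2.2.2.2.2.2.2
    rw [h9, GrothLib.SurfRR28.euler_quotMod_curve k E hEi hE1,
      show Curv2.genus k E.subscheme = 0 from Module.finrank_zero_of_subsingleton, Nat.cast_zero, sub_zero]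
  by_contra hlt
  have hHE := GrothLib.PlaneBlow28.H_curve_nonneg k σ hσk hdim hEi hE1
  have h0e := GrothLib.PlaneBlow28.h0_sub_curve k hdim hEi hE1 z 1 (fun j hj => by
    rw [GrothLib.PlaneBlow28.isect_sub_curve k hdim hEi hE1, hEE]
    omega)
  rw [pow_one] at h0e
  have hd : GrothLib.HodgeIndex.isect k (GrothLib.PlaneBlow28.Hσ k σ) (z * (GrothLib.HodgeIndex.cCl E)⁻¹) =
      GrothLib.HodgeIndex.isect k (GrothLib.PlaneBlow28.Hσ k σ) z -
        GrothLib.HodgeIndex.isect k (GrothLib.PlaneBlow28.Hσ k σ) (GrothLib.HodgeIndex.cCl E) := by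
    rw [GrothLib.HodgeIndex.isect_mul_right k hdim.le, GrothLib.HodgeIndex.isect_inv_right k hdim.le]
    ring
  have a := GrothLib.PlaneBlow28.h2_eq_zero k P hZ hσk hσ hdim (z := z) (by omega)
  have b := GrothLib.PlaneBlow28.h2_eq_zero k P hZ hσk hσ hdim (z := z * (GrothLib.HodgeIndex.cCl E)⁻¹) (by omega)
  have e1 := GrothLib.PlaneBlow28.chi_eq_h k hdim z
  have e2 := GrothLib.PlaneBlow28.chi_eq_h k hdim (z * (GrothLib.HodgeIndex.cCl E)⁻¹)
  obtain ⟨-, -, -, -, e3, e4, -, -, -, -⟩ := GrothLib.PlaneBlow28.curve_seq k hdim hEi hE1 z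
  omega

end Groth.Agent.S16561
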