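import Groth.Statements.S16563
import Groth.Agent.Lib.PlaneBlow28.Nef
import Groth.Agent.Lib.ArSurf29.Inter

set_option autoImplicit false
universe u
open CategoryTheory CategoryTheory.Limits AlgebraicGeometry TopologicalSpace
open Surf

namespace Groth.Agent.S16563

/-- Let k be an algebraically closed field, p_1, …, p_r distinct closed points of the projective plane
P²_k and σ : X → P²_k the blow-up of P²_k in the ideal of the reduced finite set {p_1, …, p_r}
(universal property), X being regarded over k through σ; X is then an integral smooth proper surface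
(carried as hypotheses). Write H = σ^*O(1), (L·M) = χ(O_X) − χ(L) − χ(M) + χ(L ⊗ M) for the
intersection number of invertible modules L, M, and for a closed subscheme C ⊆ X with ideal I_C
write (L·C) = χ(O_C ⊗ L) − χ(O_C) and C² = (I_C·I_C). A (−1)-curve is an integral closed
one-dimensional subscheme E ⊆ X with H¹(E, O_E) = 0 and E² = −1. Let L be an invertible O_X-module
and E a (−1)-curve with ideal I_E such that (L·E) = −s with s > 1. Then dim_k H⁰(X, L ⊗ I_E^s) =
dim_k H⁰(X, L); equivalently the injection H⁰(X, L ⊗ I_E^s) → H⁰(X, L) induced by I_E^s ⊆ O_X is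
bijective. (The source takes the points in general position; that assumption plays no role here.) -/
theorem result (k : Type u) [Field k] [IsAlgClosed k]
    (r : ℕ) (P : Fin r → ↥(CohB1.ProjSpace 2 k)) (hP : Function.Injective P)
    (hPc : ∀ i, IsClosed ({P i} : Set ↥(CohB1.ProjSpace 2 k))) (hZ : IsClosed (Set.range P))
    (X : Scheme.{u}) [X.Over (Spec (CommRingCat.of k))] (σ : X ⟶ CohB1.ProjSpace 2 k)
    (hσk : σ ≫ CohB1.ProjSpace.toSpec 2 k = X ↘ (Spec (CommRingCat.of k)))
    (hσ : BlowUp.IsBlowUp σ (Scheme.IdealSheafData.vanishingIdeal ⟨Set.range P, hZ⟩))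
    [IsIntegral X] [IsProper (X ↘ (Spec (CommRingCat.of k)))] [Smooth (X ↘ (Spec (CommRingCat.of k)))] (hdim : topologicalKrullDim X = 2)
    (L : X.Modules) (hL : PicF.IsInvertible L)
    (E : X.IdealSheafData) (hEi : IsIntegral E.subscheme) (hE1 : topologicalKrullDim (E.support : Set X) = 1)
    (hEg : Subsingleton (Coh.HH E.subscheme (Coh.structureModule E.subscheme) 1))
    (hEE : FGA.intNum k X 2 ![ClSub.idealMod E, ClSub.idealMod E] (Coh.structureModule X) = -1)
    (s : ℕ) (hs : 1 < s) (hLE : (Curv2.euler k X (CohB1.tensorMod (ClSub.quotMod E) L) - Curv2.euler k X (ClSub.quotMod E)) = -(s : ℤ)) :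
    Module.finrank k (Coh.HH X (CohB1.tensorMod L (ClSub.idealMod (E ^ s))) 0) = Module.finrank k (Coh.HH X L 0) := by
  have hIE := GrothLib.HodgeIndex.inv_curve k hdim hEi hE1
  obtain ⟨hp, ep⟩ := GrothLib.ArSurf29.cls_idealMod_pow (GrothLib.IdealModSec.isEffCartier_of_isInvertible hIE) s
  rw [GrothLib.PlaneBlow28.finrank_eq_h k (GrothLib.Ample.isInvertible_tensorMod hL hp) 0,
    GrothLib.PlaneBlow28.finrank_eq_h k hL 0, GrothLib.Cube.clsMod_tensorMod hL hp, ep]
  have e : GrothLib.Cube.clsMod (GrothLib.IdealModSec.isInvertible_of_isEffCartier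
      (GrothLib.IdealModSec.isEffCartier_of_isInvertible hIE)) = (GrothLib.HodgeIndex.cCl E)⁻¹ :=
    GrothLib.PlaneBlow28.cls_ideal k hdim hEi hE1
  rw [GrothLib.PlaneBlow28.deg_curve k hdim hEi hE1 hL] at hLE
  rw [GrothLib.PlaneBlow28.intNum_self k hdim hEi hE1] at hEE
  rw [e]
  refine GrothLib.PlaneBlow28.h0_sub_curve k hdim hEi hE1 _ s fun j hj => ?_
  rw [GrothLib.PlaneBlow28.isect_sub_curve k hdim hEi hE1, hLE, hEE]
  omega

end Groth.Agent.S16563
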