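import Groth.Statements.S16564
import Groth.Agent.Lib.PlaneBlow28.H2
import Groth.Agent.Lib.SurfRR28.Curve

set_option autoImplicit false
universe u
open CategoryTheory CategoryTheory.Limits AlgebraicGeometry TopologicalSpace
open Surf

namespace Groth.Agent.S16564

/-- Let k be an algebraically closed field, p_1, …, p_r distinct closed points of the projective plane
P²_k and σ : X → P²_k the blow-up of P²_k in the ideal of the reduced finite set {p_1, …, p_r}
(universal property), X being regarded over k through σ; X is then an integral smooth proper surface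
(carried as hypotheses). Write H = σ^*O(1), (L·M) = χ(O_X) − χ(L) − χ(M) + χ(L ⊗ M) for the
intersection number of invertible modules L, M, and for a closed subscheme C ⊆ X with ideal I_C
write (L·C) = χ(O_C ⊗ L) − χ(O_C) and C² = (I_C·I_C). A (−1)-curve is an integral closed
one-dimensional subscheme E ⊆ X with H¹(E, O_E) = 0 and E² = −1. Call an invertible module M
non-special when at most one of H⁰(X, M), H¹(X, M), H²(X, M) is nonzero. Suppose every invertible M
with (M·E) ≥ −1 for every (−1)-curve E is non-special (the non-speciality hypothesis for X). Then no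
integral closed one-dimensional subscheme C ⊆ X has C² ≤ −2. (The source concludes that the curves
of negative self-intersection are exactly the (−1)-curves; its argument treats C² ≤ −2, which is
what is stated here.) (The source takes the points in general position; that assumption plays no
role here.) -/
theorem result (k : Type u) [Field k] [IsAlgClosed k]
    (r : ℕ) (P : Fin r → ↥(CohB1.ProjSpace 2 k)) (hP : Function.Injective P)
    (hPc : ∀ i, IsClosed ({P i} : Set ↥(CohB1.ProjSpace 2 k))) (hZ : IsClosed (Set.range P))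
    (X : Scheme.{u}) [X.Over (Spec (CommRingCat.of k))] (σ : X ⟶ CohB1.ProjSpace 2 k)
    (hσk : σ ≫ CohB1.ProjSpace.toSpec 2 k = X ↘ (Spec (CommRingCat.of k)))
    (hσ : BlowUp.IsBlowUp σ (Scheme.IdealSheafData.vanishingIdeal ⟨Set.range P, hZ⟩))
    [IsIntegral X] [IsProper (X ↘ (Spec (CommRingCat.of k)))] [Smooth (X ↘ (Spec (CommRingCat.of k)))] (hdim : topologicalKrullDim X = 2)
    (hconj : ∀ (M : X.Modules), PicF.IsInvertible M →
      (∀ (E : X.IdealSheafData), IsIntegral E.subscheme → topologicalKrullDim (E.support : Set X) = 1 →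
        Subsingleton (Coh.HH E.subscheme (Coh.structureModule E.subscheme) 1) →
        FGA.intNum k X 2 ![ClSub.idealMod E, ClSub.idealMod E] (Coh.structureModule X) = -1 →
        -1 ≤ (Curv2.euler k X (CohB1.tensorMod (ClSub.quotMod E) M) - Curv2.euler k X (ClSub.quotMod E))) →
      ((Subsingleton (Coh.HH X M 0) ∧ Subsingleton (Coh.HH X M 1)) ∨ (Subsingleton (Coh.HH X M 0) ∧ Subsingleton (Coh.HH X M 2)) ∨
        (Subsingleton (Coh.HH X M 1) ∧ Subsingleton (Coh.HH X M 2))))
    (C : X.IdealSheafData) (hCi : IsIntegral C.subscheme) (hC1 : topologicalKrullDim (C.support : Set X) = 1) :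
    -1 ≤ FGA.intNum k X 2 ![ClSub.idealMod C, ClSub.idealMod C] (Coh.structureModule X) := by
  letI : C.subscheme.Over (Spec (CommRingCat.of k)) := ⟨C.subschemeι ≫ X ↘ Spec (CommRingCat.of k)⟩
  rw [GrothLib.PlaneBlow28.intNum_self k hdim hCi hC1]
  obtain ⟨c, hc⟩ : ∃ c, c = GrothLib.HodgeIndex.cCl C := ⟨_, rfl⟩
  rw [← hc]
  by_contra hlt
  have hM := GrothLib.HodgeIndex.isInv_rep c
  have hdeg : ∀ (E : X.IdealSheafData), IsIntegral E.subscheme → topologicalKrullDim (E.support : Set X) = 1 →
      Subsingleton (Coh.HH E.subscheme (Coh.structureModule E.subscheme) 1) →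
      FGA.intNum k X 2 ![ClSub.idealMod E, ClSub.idealMod E] (Coh.structureModule X) = -1 →
      -1 ≤ (Curv2.euler k X (CohB1.tensorMod (ClSub.quotMod E) (GrothLib.HodgeIndex.rep c)) -
        Curv2.euler k X (ClSub.quotMod E)) := fun E hEi hE1 _ hEE => by
    rw [GrothLib.PlaneBlow28.deg_curve k hdim hEi hE1 hM, GrothLib.HodgeIndex.cls_rep, hc]
    rw [GrothLib.PlaneBlow28.intNum_self k hdim hEi hE1] at hEE
    by_cases he : C = E
    · subst he
      rw [hc] at hlt
      omega
    · linarith [GrothLib.HodgeIndex.isect_curves_nonneg k hdim hCi hC1 hEi hE1 he]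
  obtain ⟨a1, -, -, -, -, e4, e5, e6, e9, e10⟩ := GrothLib.PlaneBlow28.curve_seq k hdim hCi hC1 c
  rw [← hc, mul_inv_cancel] at a1 e9
  have h2 : GrothLib.PlaneBlow28.h k 2 (1 : GrothLib.Cube.Pic X) = 0 :=
    GrothLib.PlaneBlow28.h2_eq_zero k P hZ hσk hσ hdim (by
      rw [GrothLib.HodgeIndex.isect_comm, GrothLib.HodgeIndex.isect_one_left k hdim.le]
      norm_num)
  have h00 : 0 < GrothLib.PlaneBlow28.h k 0 (1 : GrothLib.Cube.Pic X) := by
    haveI := GrothLib.Euler.isNoetherian_of_proper (X := X) k
    haveI := GrothLib.Euler.finiteDimensional_HH k (GrothLib.Kleiman.isCoh_O (X := X) k) 0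
    haveI : Nontrivial (Coh.HH X (Coh.structureModule X) 0) :=
      (GrothLib.ProjCoh.H0top (Coh.structureModule X)).toEquiv.nontrivial (β := Γ(X, ⊤))
    rw [← GrothLib.SurfRR28.clsMod_structure, ← GrothLib.PlaneBlow28.finrank_eq_h k]
    exact Module.finrank_pos
  have hsub : ∀ i, Subsingleton (Coh.HH X (GrothLib.HodgeIndex.rep c) i) → GrothLib.PlaneBlow28.h k i c = 0 := fun i hs => by
    haveI := hs
    exact Module.finrank_zero_of_subsingleton
  have h1 : GrothLib.PlaneBlow28.h k 1 c = 0 := by
    rcases hconj _ hM hdeg with ⟨p, -⟩ | ⟨p, -⟩ | ⟨p, -⟩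
    · have := hsub 0 p; omega
    · have := hsub 0 p; omega
    · exact hsub 1 p
  rw [GrothLib.SurfRR28.euler_quotMod_curve k C hCi hC1] at e10
  rw [← hc] at e4 e6
  have h3 := e6 (by omega)
  omega

end Groth.Agent.S16564
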