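import Groth.Statements.S16565
import Groth.Agent.Lib.PlaneBlow28.Leray

set_option autoImplicit false
universe u
open CategoryTheory CategoryTheory.Limits AlgebraicGeometry TopologicalSpace
open Surf

namespace Groth.Agent.S16565

/-- Let X be a smooth proper integral surface over an algebraically closed field k, π : X → P¹_k a
surjective k-morphism, L an invertible O_X-module with R¹π_*L = 0, q a closed point of P¹_k and F =
π⁻¹(q) its fibre, with ideal I_F. Assume the restriction map H⁰(X, L) → H⁰(F, L|_F) is surjective,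
stated as dim_k H⁰(X, L) = dim_k H⁰(X, L ⊗ I_F) + dim_k H⁰(X, L ⊗ O_F) (the sequence 0 → L ⊗ I_F → L
→ L ⊗ O_F → 0 being exact). Then H¹(X, L) = 0 = H¹(X, L ⊗ I_F), and H¹(P¹_k, π_*L ⊗ O(−1)) = 0, i.e.
the line bundle summands of π_*L all have degree ≥ 0. (The source states this for the blow-up of
P²_k at points in general position fibred over P¹_k by projection from one of the points; its
argument uses only a smooth projective surface mapping onto P¹_k.) -/
theorem result (k : Type u) [Field k] [IsAlgClosed k]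
    (X : Scheme.{u}) [X.Over (Spec (CommRingCat.of k))] [IsIntegral X] [IsProper (X ↘ (Spec (CommRingCat.of k)))] [Smooth (X ↘ (Spec (CommRingCat.of k)))]
    (hdim : topologicalKrullDim X = 2) [HasInjectiveResolutions X.Modules]
    (π : X ⟶ CohB1.ProjSpace 1 k) (hπk : π ≫ CohB1.ProjSpace.toSpec 1 k = X ↘ (Spec (CommRingCat.of k))) (hπs : Function.Surjective π)
    (L : X.Modules) (hL : PicF.IsInvertible L) (hR1 : IsZero ((Coh.Rpush π 1).obj L))
    (q : ↥(CohB1.ProjSpace 1 k)) (hq : IsClosed ({q} : Set ↥(CohB1.ProjSpace 1 k)))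
    (hres : Module.finrank k (Coh.HH X L 0) =
      Module.finrank k (Coh.HH X (CohB1.tensorMod L (ClSub.idealMod ((Scheme.IdealSheafData.vanishingIdeal ⟨{q}, hq⟩).comap π))) 0) +
        Module.finrank k (Coh.HH X (CohB1.tensorMod (ClSub.quotMod ((Scheme.IdealSheafData.vanishingIdeal ⟨{q}, hq⟩).comap π)) L) 0)) :
    Subsingleton (Coh.HH X L 1) ∧ Subsingleton (Coh.HH X (CohB1.tensorMod L (ClSub.idealMod ((Scheme.IdealSheafData.vanishingIdeal ⟨{q}, hq⟩).comap π))) 1) ∧
      Subsingleton (Coh.HH (CohB1.ProjSpace 1 k) (CohB1.tensorMod ((Coh.push π).obj L) (Twist.twistProjSpace 1 k (-1))) 1) := by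
  exact GrothLib.PlaneBlow28.vanish_of_restrict_surjective k hdim.le π hπk hπs hL hR1 q hq hres

end Groth.Agent.S16565
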