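import Groth.Statements.S16572
import Mathlib
-- import your own Groth.Agent.* helpers here

set_option autoImplicit false
universe u
open CAlg

namespace Groth.Agent.S16572

/-- Let A be a commutative ring and T the quotient of the polynomial ring over A in indeterminates X_P,
one for each monic polynomial P over A of positive degree, by the ideal generated by the elements
P(X_P). Then the map on prime spectra Spec T → Spec A is surjective, and for every prime ideal Q of
T, with p its contraction to A, the residue field of Q is algebraically closed and integral over the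
residue field of p under the induced map of residue fields (so it is an algebraic closure of it). -/
theorem result (A : Type u) [CommRing A] :
    Function.Surjective (PrimeSpectrum.comap (algebraMap A (MvPolynomial {P : Polynomial A // P.Monic ∧ 0 < P.natDegree} A ⧸
      Ideal.span (Set.range fun P : {P : Polynomial A // P.Monic ∧ 0 < P.natDegree} =>
        Polynomial.aeval (MvPolynomial.X (R := A) P) P.1)))) ∧
    ∀ (Q : Ideal (MvPolynomial {P : Polynomial A // P.Monic ∧ 0 < P.natDegree} A ⧸
      Ideal.span (Set.range fun P : {P : Polynomial A // P.Monic ∧ 0 < P.natDegree} =>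
        Polynomial.aeval (MvPolynomial.X (R := A) P) P.1))) [Q.IsPrime],
      IsAlgClosed Q.ResidueField ∧
      (Ideal.ResidueField.map (Q.comap (algebraMap A (MvPolynomial {P : Polynomial A // P.Monic ∧ 0 < P.natDegree} A ⧸
      Ideal.span (Set.range fun P : {P : Polynomial A // P.Monic ∧ 0 < P.natDegree} =>
        Polynomial.aeval (MvPolynomial.X (R := A) P) P.1)))) Q (algebraMap A (MvPolynomial {P : Polynomial A // P.Monic ∧ 0 < P.natDegree} A ⧸
      Ideal.span (Set.range fun P : {P : Polynomial A // P.Monic ∧ 0 < P.natDegree} =>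
        Polynomial.aeval (MvPolynomial.X (R := A) P) P.1))) rfl).IsIntegral := by
  classical
  suffices main : ∀ (T : Type u) [CommRing T] [Algebra A T] [Algebra.IsIntegral A T],
      (∀ P : Polynomial A, P.Monic → 0 < P.natDegree → ∃ x : T, Polynomial.aeval x P = 0) →
      ∀ (Q : Ideal T) [Q.IsPrime], IsAlgClosed Q.ResidueField ∧
        (Ideal.ResidueField.map (Q.comap (algebraMap A T)) Q (algebraMap A T) rfl).IsIntegral by
    let I : Ideal (MvPolynomial {P : Polynomial A // P.Monic ∧ 0 < P.natDegree} A) :=
      Ideal.span (Set.range fun P : {P : Polynomial A // P.Monic ∧ 0 < P.natDegree} =>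
        Polynomial.aeval (MvPolynomial.X (R := A) P) P.1)
    have hroot : ∀ P : {P : Polynomial A // P.Monic ∧ 0 < P.natDegree},
        Polynomial.aeval (Ideal.Quotient.mkₐ A I (MvPolynomial.X P)) P.1 = 0 := fun P => by
      rw [Polynomial.aeval_algHom_apply, Ideal.Quotient.mkₐ_eq_mk, Ideal.Quotient.eq_zero_iff_mem]
      exact Ideal.subset_span ⟨P, rfl⟩
    haveI : Algebra.IsIntegral A (MvPolynomial {P : Polynomial A // P.Monic ∧ 0 < P.natDegree} A ⧸ I) := by
      refine ⟨fun x => ?_⟩
      obtain ⟨p, rfl⟩ := Ideal.Quotient.mkₐ_surjective A I x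
      induction p using MvPolynomial.induction_on with
      | C a =>
        rw [← MvPolynomial.algebraMap_eq, AlgHom.commutes]
        exact isIntegral_algebraMap
      | add p q hp hq => rw [map_add]; exact hp.add hq
      | mul_X p P hp =>
        rw [map_mul]
        exact hp.mul ⟨P.1, P.2.1, by rw [← Polynomial.aeval_def]; exact hroot P⟩
    refine ⟨fun p => ?_, fun Q hQ => main _ (fun P h1 h2 => ⟨_, hroot ⟨P, h1, h2⟩⟩) Q⟩
    let K := AlgebraicClosure p.asIdeal.ResidueField
    haveI : Nontrivial A := (algebraMap A K).domain_nontrivial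
    have hr : ∀ P : {P : Polynomial A // P.Monic ∧ 0 < P.natDegree},
        ∃ r : K, Polynomial.aeval r P.1 = 0 := fun P => by
      obtain ⟨r, hr⟩ := IsAlgClosed.exists_root (P.1.map (algebraMap A K)) (by
        rw [P.2.1.degree_map, Polynomial.degree_eq_natDegree P.2.1.ne_zero]
        exact_mod_cast P.2.2.ne')
      exact ⟨r, by rw [Polynomial.aeval_def, ← Polynomial.eval_map]; exact hr⟩
    choose r hr using hr
    let φ₀ : MvPolynomial {P : Polynomial A // P.Monic ∧ 0 < P.natDegree} A →ₐ[A] K :=
      MvPolynomial.aeval r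
    have hker : I ≤ RingHom.ker φ₀ := by
      rw [Ideal.span_le]
      rintro _ ⟨P, rfl⟩
      rw [SetLike.mem_coe, RingHom.mem_ker, ← Polynomial.aeval_algHom_apply]
      simpa [φ₀] using hr P
    let φ := Ideal.Quotient.liftₐ I φ₀ fun x hx => RingHom.mem_ker.mp (hker hx)
    refine ⟨⟨RingHom.ker φ, RingHom.ker_isPrime _⟩, PrimeSpectrum.ext ?_⟩
    ext a
    change φ (algebraMap A _ a) = 0 ↔ _
    rw [AlgHom.commutes, IsScalarTower.algebraMap_apply A p.asIdeal.ResidueField K,
      map_eq_zero_iff _ (FaithfulSMul.algebraMap_injective p.asIdeal.ResidueField K),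
      Ideal.algebraMap_residueField_eq_zero]
  intro T _ _ _ hroot Q hQ
  set p := Q.comap (algebraMap A T) with hp
  set j := Ideal.ResidueField.map p Q (algebraMap A T) rfl with hj
  letI : Algebra p.ResidueField Q.ResidueField := j.toAlgebra
  haveI : IsScalarTower A p.ResidueField Q.ResidueField := IsScalarTower.of_algebraMap_eq fun a => by
    change _ = j _
    rw [hj, Ideal.ResidueField.map_algebraMap, ← IsScalarTower.algebraMap_apply]
  have himg : ∀ t : T, IsIntegral p.ResidueField (algebraMap T Q.ResidueField t) := fun t =>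
    ((Algebra.IsIntegral.isIntegral (R := A) t).map (IsScalarTower.toAlgHom A T Q.ResidueField)).tower_top
  have hint : Algebra.IsIntegral p.ResidueField Q.ResidueField := by
    refine ⟨fun e => ?_⟩
    obtain ⟨a, b, -, rfl⟩ := IsFractionRing.div_surjective (T ⧸ Q) e
    obtain ⟨a, rfl⟩ := Ideal.Quotient.mk_surjective a
    obtain ⟨b, rfl⟩ := Ideal.Quotient.mk_surjective b
    rw [div_eq_mul_inv]
    exact (himg a).mul (himg b).inv
  refine ⟨?_, fun e => hint.isIntegral e⟩
  haveI : IsAlgClosure p.ResidueField Q.ResidueField := IsAlgClosure.of_exists_root fun g hg hgi => by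
    haveI : Algebra.IsAlgebraic p.ResidueField Q.ResidueField := Algebra.IsIntegral.isAlgebraic
    obtain ⟨b, hb⟩ := IsLocalization.exist_integer_multiples_of_finset
      (nonZeroDivisors (A ⧸ p)) (g.support.image g.coeff)
    set c : p.ResidueField := algebraMap (A ⧸ p) p.ResidueField b.1 with hc
    have hc0 : c ≠ 0 := by
      rw [hc]
      exact (map_ne_zero_iff _ (IsFractionRing.injective (A ⧸ p) p.ResidueField)).mpr
        (nonZeroDivisors.ne_zero b.2)
    have hmem : g.scaleRoots c ∈ Polynomial.lifts (algebraMap A p.ResidueField) := by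
      rw [Polynomial.lifts_iff_coeff_lifts]
      intro i
      rw [Polynomial.coeff_scaleRoots]
      have hq : ∀ z ∈ Set.range (algebraMap (A ⧸ p) p.ResidueField),
          z ∈ Set.range (algebraMap A p.ResidueField) := by
        rintro _ ⟨z, rfl⟩
        obtain ⟨z, rfl⟩ := Ideal.Quotient.mk_surjective z
        exact ⟨z, rfl⟩
      by_cases hi : g.coeff i = 0
      · exact ⟨0, by simp [hi]⟩
      rcases lt_or_ge i g.natDegree with h | h
      · obtain ⟨z, hz⟩ := hb (g.coeff i) (Finset.mem_image.mpr
          ⟨i, Polynomial.mem_support_iff.mpr hi, rfl⟩)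
        apply hq
        refine ⟨z * b.1 ^ (g.natDegree - i - 1), ?_⟩
        rw [map_mul, map_pow, ← hc, show algebraMap (A ⧸ p) p.ResidueField z = c * g.coeff i by
          rw [hz, Algebra.smul_def], mul_comm c, mul_assoc, ← pow_succ',
          show g.natDegree - i - 1 + 1 = g.natDegree - i by omega]
      · have : i = g.natDegree := le_antisymm (Polynomial.le_natDegree_of_ne_zero hi) h
        subst this
        exact ⟨1, by simp [hg]⟩
    haveI : Nontrivial A := (algebraMap A p.ResidueField).domain_nontrivial
    obtain ⟨P, hP, hPd, hPm⟩ := Polynomial.lifts_and_natDegree_eq_and_monic hmem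
      ((Polynomial.monic_scaleRoots_iff c).mpr hg)
    obtain ⟨x, hx⟩ := hroot P hPm (by
      rw [hPd, Polynomial.natDegree_scaleRoots]
      exact hgi.natDegree_pos)
    set y := algebraMap T Q.ResidueField x with hy
    refine ⟨(algebraMap p.ResidueField Q.ResidueField c)⁻¹ * y, ?_⟩
    have h1 : Polynomial.aeval y (g.scaleRoots c) = 0 := by
      rw [← hP, Polynomial.aeval_map_algebraMap, hy, Polynomial.aeval_algebraMap_apply, hx, map_zero]
    have h2 := Polynomial.scaleRoots_eval₂_mul (p := g) (algebraMap p.ResidueField Q.ResidueField)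
      ((algebraMap p.ResidueField Q.ResidueField c)⁻¹ * y) c
    rw [mul_inv_cancel_left₀ ((map_ne_zero _).mpr hc0), ← Polynomial.aeval_def, h1,
      ← Polynomial.aeval_def] at h2
    exact (mul_eq_zero.mp h2.symm).resolve_left (pow_ne_zero _ ((map_ne_zero _).mpr hc0))
  exact IsAlgClosure.isAlgClosed p.ResidueField

end Groth.Agent.S16572
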