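import Groth.Statements.S16573
import Groth.Agent.Lib.AicAff18.Basic
-- import your own Groth.Agent.* helpers here

set_option autoImplicit false
universe u
open CategoryTheory AlgebraicGeometry
open EtCore

namespace Groth.Agent.S16573

/-- For a quasi-compact quasi-separated scheme X there are an affine scheme X' and a quasi-compact
surjective morphism f : X' → X such that for every point x' of X' the residue field of x' is
algebraically closed and integral over the residue field of f(x') under the induced map of residue
fields, that is, an algebraic closure of it. -/
theorem result
    (X : Scheme.{u}) [CompactSpace X] [QuasiSeparatedSpace X] :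
    ∃ (X' : Scheme.{u}) (f : X' ⟶ X), IsAffine X' ∧ QuasiCompact f ∧ Surjective f ∧
      ∀ x' : X', IsAlgClosed (X'.residueField x') ∧ (f.residueFieldMap x').hom.IsIntegral := GrothLib.AicAff18.exists_affine_cover X

end Groth.Agent.S16573
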