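import Groth.Statements.S16574
import Groth.Agent.Lib.FiniteExt9.Basic

set_option autoImplicit false
universe u
open CategoryTheory AlgebraicGeometry
open AffSch

namespace Groth.Agent.S16574

/-- Let A be a commutative ring, U a quasi-compact open subscheme of Spec A and U' → U a finite
morphism. Then there exist a finite A-algebra B and a morphism U' → Spec B such that the square
formed by U' → U, U' → Spec B, Spec B → Spec A and the inclusion of U is cartesian; in particular U'
→ Spec B is the open immersion of the preimage of U. (If U contains the complement of the closed set
of an ideal I then this preimage contains the complement of the closed set of IB; that clause is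
automatic and omitted.) -/
theorem result
    (A : Type u) [CommRing A] (U : (Spec (CommRingCat.of A)).Opens) (hU : IsCompact (U : Set (Spec (CommRingCat.of A))))
    (U' : Scheme.{u}) (g : U' ⟶ (U : Scheme.{u})) [IsFinite g] :
    ∃ (B : Type u) (_ : CommRing B) (_ : Algebra A B) (i : U' ⟶ Spec (CommRingCat.of B)),
      Module.Finite A B ∧ IsPullback i g (Spec.map (CommRingCat.ofHom (algebraMap A B))) U.ι := by
  exact GrothLib.FiniteExt9.exists_finite_ext A U hU U' g

end Groth.Agent.S16574
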