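import Groth.Statements.S16575
import Groth.Agent.Lib.Hensel.CompletionHens
import Groth.Agent.Lib.MinPrimesHens1.Basic
import Groth.Agent.Lib.Dim.Ring
import Groth.Agent.Lib.EssEtLoc.IntermediateTools
import Mathlib
-- import your own Groth.Agent.* helpers here

set_option autoImplicit false
universe u
open CAlg

namespace Groth.Agent.S16575

open IsLocalRing TensorProduct GrothLib.Hensel

theorem two_le_iff {X : Type u} [CommRing X] [IsLocalRing X] (r : Ideal X) [hr : r.IsPrime] :
    (2 : WithBot ℕ∞) ≤ ringKrullDim (X ⧸ r) ↔ ∃ P : Ideal X, P.IsPrime ∧ r < P ∧ P < maximalIdeal X := by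
  rw [ringKrullDim_quotient, show (2 : WithBot ℕ∞) = ((2 : ℕ) : WithBot ℕ∞) from rfl, Order.le_krullDim_iff]
  constructor
  · rintro ⟨l, hl⟩
    obtain ⟨n, f, hf⟩ := l
    subst hl
    have h01 : (f 0).1.asIdeal < (f 1).1.asIdeal := hf 0
    have h12 : (f 1).1.asIdeal < (f 2).1.asIdeal := hf 1
    exact ⟨(f 1).1.asIdeal, (f 1).1.2, lt_of_le_of_lt (f 0).2 h01,
      lt_of_lt_of_le h12 (le_maximalIdeal (f 2).1.2.ne_top)⟩
  · rintro ⟨P, hP, h1, h2⟩
    refine ⟨LTSeries.mk 2 ![⟨⟨r, hr⟩, le_refl (r : Set X)⟩, ⟨⟨P, hP⟩, h1.le⟩,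
      ⟨closedPoint X, (h1.trans h2).le⟩] (Fin.strictMono_iff_lt_succ.2 fun i => ?_), rfl⟩
    fin_cases i
    · exact h1
    · exact h2

theorem ringKrullDim_quotient_comap {X Y : Type u} [CommRing X] [CommRing Y] [Algebra X Y]
    [Algebra.IsIntegral X Y] (r : Ideal Y) [r.IsPrime] :
    ringKrullDim (Y ⧸ r) = ringKrullDim (X ⧸ r.comap (algebraMap X Y)) := by
  have : r.LiesOver (r.comap (algebraMap X Y)) := ⟨rfl⟩
  exact GrothLib.Dim.ringKrullDim_eq_of_isIntegral (R := X ⧸ r.comap (algebraMap X Y))
    (FaithfulSMul.algebraMap_injective _ _)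

/-- If the primes above `r` are exactly the primes below `n` then `dim X/r = ht n`. -/
theorem ringKrullDim_quotient_eq_height {X : Type u} [CommRing X] (r n : Ideal X) [hn : n.IsPrime]
    (h : ∀ P : Ideal X, P.IsPrime → (r ≤ P ↔ P ≤ n)) : ringKrullDim (X ⧸ r) = n.height := by
  rw [ringKrullDim_quotient]
  have : (n.height : WithBot ℕ∞) = Order.krullDim (Set.Iic (⟨n, hn⟩ : PrimeSpectrum X)) := by
    rw [← Order.height_eq_krullDim_Iic]
    exact congrArg _ (PrimeSpectrum.height_eq_orderHeight (⟨n, hn⟩ : PrimeSpectrum X))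
  rw [this]
  rw [show PrimeSpectrum.zeroLocus (r : Set X) = Set.Iic (⟨n, hn⟩ : PrimeSpectrum X) from
    Set.ext fun P => h P.asIdeal P.2]

section Tensor

variable {A : Type u} [CommRing A] {R' : Type u} [CommRing R'] [Algebra A R'] {S : Type u} [CommRing S]
  [Algebra A S] [Module.Flat A S]

theorem comap_includeLeft (n : Ideal (S ⊗[A] R')) :
    (n.comap (Algebra.TensorProduct.comm A R' S).toRingEquiv.toRingHom).comap (algebraMap R' (R' ⊗[A] S)) =
      n.comap (Algebra.TensorProduct.includeRight : R' →ₐ[A] S ⊗[A] R') := by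
  ext x
  simp

theorem eq_of_le_of_comap_eq (hS : EtaleStages A S) (P Q : Ideal (S ⊗[A] R')) [P.IsPrime] [Q.IsPrime]
    (hle : P ≤ Q) (h : P.comap (Algebra.TensorProduct.includeRight : R' →ₐ[A] S ⊗[A] R') =
      Q.comap (Algebra.TensorProduct.includeRight : R' →ₐ[A] S ⊗[A] R')) : P = Q := by
  refine le_antisymm hle fun z hz => ?_
  obtain ⟨N, _, _, _, φ, w, rfl⟩ := hS.exists_tensor z
  obtain ⟨g, hg⟩ : ∃ g : R' ⊗[A] N →ₐ[A] S ⊗[A] R',
      g = (Algebra.TensorProduct.map φ (AlgHom.id A R')).comp (Algebra.TensorProduct.comm A R' N).toAlgHom := ⟨_, rfl⟩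
  have hgw : g (Algebra.TensorProduct.comm A N R' w) = Algebra.TensorProduct.map φ (AlgHom.id A R') w := by
    have e : (Algebra.TensorProduct.comm A R' N) (Algebra.TensorProduct.comm A N R' w) = w := by
      rw [← Algebra.TensorProduct.comm_symm, AlgEquiv.symm_apply_apply]
    rw [hg]
    exact congrArg _ e
  have hu : ∀ I : Ideal (S ⊗[A] R'), (I.comap g.toRingHom).comap (algebraMap R' (R' ⊗[A] N)) =
      I.comap (Algebra.TensorProduct.includeRight : R' →ₐ[A] S ⊗[A] R') := fun I => by
    ext x
    simp [hg]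
  have heq : P.comap g.toRingHom = Q.comap g.toRingHom :=
    Algebra.QuasiFinite.eq_of_le_of_under_eq (R := R') _ _ (Ideal.comap_mono hle)
      ((hu P).trans (h.trans (hu Q).symm))
  rw [← hgw]
  show Algebra.TensorProduct.comm A N R' w ∈ P.comap g.toRingHom
  rw [heq]
  show g _ ∈ Q
  rw [hgw]
  exact hz

theorem height_comap_eq (hS : EtaleStages A S) (n : Ideal (S ⊗[A] R')) [hn : n.IsPrime] :
    (n.comap (Algebra.TensorProduct.includeRight : R' →ₐ[A] S ⊗[A] R')).height = n.height := by
  refine le_antisymm ?_ ?_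
  · rw [← RingEquiv.height_comap (Algebra.TensorProduct.comm A R' S).toRingEquiv n, ← comap_includeLeft]
    rw [PrimeSpectrum.height_eq_orderHeight ⟨(n.comap (Algebra.TensorProduct.comm A R' S).toRingEquiv.toRingHom).comap
        (algebraMap R' (R' ⊗[A] S)), inferInstance⟩]
    rw [show n.comap (Algebra.TensorProduct.comm A R' S).toRingEquiv =
      n.comap (Algebra.TensorProduct.comm A R' S).toRingEquiv.toRingHom from rfl,
      PrimeSpectrum.height_eq_orderHeight ⟨n.comap (Algebra.TensorProduct.comm A R' S).toRingEquiv.toRingHom, inferInstance⟩]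
    refine Order.height_le fun l hl => ?_
    have : (n.comap (Algebra.TensorProduct.comm A R' S).toRingEquiv.toRingHom).LiesOver l.last.asIdeal := ⟨by rw [hl]⟩
    obtain ⟨L, hL, hLl, -⟩ := Ideal.exists_ltSeries_of_hasGoingDown l
      (n.comap (Algebra.TensorProduct.comm A R' S).toRingEquiv.toRingHom)
    rw [← hL]
    exact Order.length_le_height hLl.le
  · rw [PrimeSpectrum.height_eq_orderHeight ⟨n, hn⟩,
      PrimeSpectrum.height_eq_orderHeight ⟨n.comap (Algebra.TensorProduct.includeRight : R' →ₐ[A] S ⊗[A] R'), hn.comap _⟩]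
    refine Order.height_le_height_apply_of_strictMono
      (PrimeSpectrum.comap (Algebra.TensorProduct.includeRight : R' →ₐ[A] S ⊗[A] R').toRingHom) (fun P Q hPQ => ?_) ⟨n, hn⟩
    refine lt_of_le_of_ne (Ideal.comap_mono hPQ.le) fun h => hPQ.ne (PrimeSpectrum.ext ?_)
    exact eq_of_le_of_comap_eq hS _ _ hPQ.le (congrArg PrimeSpectrum.asIdeal h)

variable {K : Type u} [CommRing K] [Algebra A K] [Algebra.IsIntegral A R'] [HenselianLocalRing S]

theorem dim_eq_height (hS : EtaleStages A S) (hK : AbsFlat K) (iv : R' →ₐ[A] K) (hiv : Function.Injective iv)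
    (hmem : ∀ k : K, IsIntegral A k → ∃ r, iv r = k)
    (q : Ideal (S ⊗[A] K)) [hq : q.IsPrime] (n : Ideal (S ⊗[A] R')) [hn : n.IsMaximal]
    (hle : q.comap (Algebra.TensorProduct.map (AlgHom.id A S) iv) ≤ n) :
    ringKrullDim (S ⧸ q.comap (algebraMap S (S ⊗[A] K))) =
      ((n.comap (Algebra.TensorProduct.includeRight : R' →ₐ[A] S ⊗[A] R')).height : WithBot ℕ∞) := by
  have : (q.comap (Algebra.TensorProduct.map (AlgHom.id A S) iv)).IsPrime := hq.comap _
  rw [height_comap_eq hS n, ← GrothLib.MinPrimesHens1.comap_comap_trace iv q, ← ringKrullDim_quotient_comap]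
  refine ringKrullDim_quotient_eq_height _ n fun P hP => ⟨fun h => ?_, fun h => ?_⟩
  · obtain ⟨m, hm, hu⟩ := GrothLib.MinPrimesHens1.existsUnique_maximal_le
      (q.comap (Algebra.TensorProduct.map (AlgHom.id A S) iv))
    obtain ⟨m', hm', hPm'⟩ := Ideal.exists_le_maximal P hP.ne_top
    rwa [hu n ⟨hn, hle⟩, ← hu m' ⟨hm', h.trans hPm'⟩]
  · obtain ⟨r, hr, hrP⟩ := Ideal.exists_minimalPrimes_le (bot_le : ⊥ ≤ P)
    obtain ⟨r', -, hu⟩ := GrothLib.MinPrimesHens1.existsUnique_minimalPrime_le hS hK iv hiv hmem n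
    rwa [hu _ ⟨GrothLib.MinPrimesHens1.trace_mem_minimalPrimes hS hK iv hiv hmem q, hle⟩, ← hu r ⟨hr, hrP.trans h⟩]

end Tensor

variable {A : Type u} [CommRing A] [IsNoetherianRing A] [IsLocalRing A]
  {S : Type u} [CommRing S] [IsLocalRing S] [Algebra A S] [IsLocalHom (algebraMap A S)]
  [hSH : Hensel.IsHenselization A S]

theorem one_iff_two :
    (∀ m' : MaximalSpectrum (CAlg2.normRed A), (2 : WithBot ℕ∞) ≤ ringKrullDim (Localization.AtPrime m'.asIdeal)) ↔
      ∀ p ∈ minimalPrimes S, (2 : WithBot ℕ∞) ≤ ringKrullDim (S ⧸ p) := by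
  have := hSH.henselian
  have := IsHenselization.faithfullyFlat (R := A) (S := S)
  have := isReduced_red A
  have hK := absFlat_fractionRing _ (finite_minimalPrimes_red A (minimalPrimes.finite_of_isNoetherianRing A))
  have hS : EtaleStages A S := IsHenselization.etaleStages
  constructor
  · intro h p hp
    obtain ⟨q, hq, rfl⟩ := GrothLib.MinPrimesHens1.exists_of_minimalPrimes_base (K := FractionRing (CAlg2.red A))
      (algebraMap_eq_zero_red A) hp
    obtain ⟨n, hn, hle⟩ := Ideal.exists_le_maximal
      (q.comap (Algebra.TensorProduct.map (AlgHom.id A S) (normVal A))) (hq.comap _).ne_top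
    have hm : (n.comap (Algebra.TensorProduct.includeRight : CAlg2.normRed A →ₐ[A] S ⊗[A] CAlg2.normRed A)).IsMaximal := by
      have hnS : n.comap (algebraMap S (S ⊗[A] CAlg2.normRed A)) = maximalIdeal S :=
        eq_maximalIdeal (Ideal.isMaximal_comap_of_isIntegral_of_isMaximal (R := S) n)
      refine Ideal.isMaximal_of_isIntegral_of_isMaximal_comap (R := A) _ ?_
      convert maximalIdeal.isMaximal A using 1
      ext a
      show Algebra.TensorProduct.includeRight (algebraMap A (CAlg2.normRed A) a) ∈ n ↔ _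
      rw [AlgHom.commutes, IsScalarTower.algebraMap_apply A S (S ⊗[A] CAlg2.normRed A), ← Ideal.mem_comap, hnS,
        mem_maximalIdeal, mem_maximalIdeal, map_mem_nonunits_iff]
    have h1 := (h ⟨_, hm⟩).trans_eq
      (IsLocalization.AtPrime.ringKrullDim_eq_height
        (n.comap (Algebra.TensorProduct.includeRight : CAlg2.normRed A →ₐ[A] S ⊗[A] CAlg2.normRed A))
        (Localization.AtPrime (n.comap (Algebra.TensorProduct.includeRight : CAlg2.normRed A →ₐ[A] S ⊗[A] CAlg2.normRed A))))
    rwa [dim_eq_height hS hK (normVal A) (normVal_injective A) (exists_normVal_eq A) q n hle]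
  · intro h m'
    have := m'.isMaximal
    obtain ⟨⟨Q, hQ⟩, hQm⟩ := PrimeSpectrum.comap_surjective_of_faithfullyFlat
      (A := CAlg2.normRed A) (B := CAlg2.normRed A ⊗[A] S) ⟨m'.asIdeal, m'.isMaximal.isPrime⟩
    obtain ⟨n, hn, hQn⟩ := Ideal.exists_le_maximal
      (Q.comap (Algebra.TensorProduct.comm A (CAlg2.normRed A) S).symm.toRingEquiv.toRingHom) (hQ.comap _).ne_top
    have hnm : n.comap (Algebra.TensorProduct.includeRight : CAlg2.normRed A →ₐ[A] S ⊗[A] CAlg2.normRed A) = m'.asIdeal := by
      refine (m'.isMaximal.eq_of_le (hn.isPrime.comap _).ne_top ?_).symm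
      intro x hx
      refine hQn ?_
      have e : m'.asIdeal = Q.comap (algebraMap _ (CAlg2.normRed A ⊗[A] S)) := (congrArg PrimeSpectrum.asIdeal hQm).symm
      rw [e] at hx
      simpa using hx
    obtain ⟨r, hr, hrn⟩ := Ideal.exists_minimalPrimes_le (bot_le : ⊥ ≤ n)
    obtain ⟨q, hq, rfl⟩ := GrothLib.MinPrimesHens1.exists_trace (normVal A) (normVal_injective A) hr
    have h1 := h _ (GrothLib.MinPrimesHens1.base_mem_minimalPrimes hS hK (algebraMap_eq_zero_red A)
      (exists_unit_mul_eq_red A) q)
    rw [dim_eq_height hS hK (normVal A) (normVal_injective A) (exists_normVal_eq A) q n hrn, hnm] at h1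
    exact h1.trans_eq (IsLocalization.AtPrime.ringKrullDim_eq_height m'.asIdeal (Localization.AtPrime m'.asIdeal)).symm

theorem two_iff_three :
    (∀ p ∈ minimalPrimes S, (2 : WithBot ℕ∞) ≤ ringKrullDim (S ⧸ p)) ↔
      ∀ q ∈ minimalPrimes (AdicCompletion (maximalIdeal A) A),
        (2 : WithBot ℕ∞) ≤ ringKrullDim (AdicCompletion (maximalIdeal A) A ⧸ q) := by
  obtain ⟨ψ, hψ⟩ := exists_completion_hom (A := A) (S := S)
  let _ := ψ.toAlgebra
  have := hSH.henselian
  have : IsNoetherianRing S := (IsHenselization.isNoetherianRing_iff (R := A) (S := S)).1 inferInstance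
  have : IsNoetherianRing (AdicCompletion (maximalIdeal A) A) :=
    isNoetherianRing_adicCompletion (maximalIdeal A) (maximalIdeal A).fg_of_isNoetherianRing
  have : Module.FaithfullyFlat S (AdicCompletion (maximalIdeal A) A) := faithfullyFlat_completion ψ hψ
  have hmap : (maximalIdeal S).map (algebraMap S (AdicCompletion (maximalIdeal A) A)) = maximalIdeal _ :=
    map_maximalIdeal_completion ψ hψ
  have hres : ∀ b : AdicCompletion (maximalIdeal A) A, ∃ s, b - algebraMap S _ s ∈ maximalIdeal _ :=
    completion_exists_sub_mem' ψ hψ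
  constructor
  · intro h q hq
    have hqp := hq.1.1
    have hp := mapsTo_minimalPrimes (R := S) hq
    rw [two_le_iff]
    by_contra hno
    push Not at hno
    have hqm : q ≠ maximalIdeal _ := fun hqm => by
      have h2 := h _ hp
      have := hp.1.1
      obtain ⟨P, -, hP1, hP2⟩ := (two_le_iff _).1 h2
      rw [hqm, comap_closedPoint hmap] at hP1
      exact (hP1.trans hP2).false
    have hcl : ∀ P : Ideal (AdicCompletion (maximalIdeal A) A), P.IsPrime → q ≤ P → P = q ∨ P = maximalIdeal _ :=
      fun P hP hle => or_iff_not_imp_left.2 fun hne =>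
        eq_of_le_of_not_lt (le_maximalIdeal hP.ne_top) (hno P hP (lt_of_le_of_ne hle (Ne.symm hne)))
    have hrad := radical_map_comap_eq hmap hres hq hqm hcl
    have := hp.1.1
    obtain ⟨P, hP, hP1, hP2⟩ := (two_le_iff _).1 (h _ hp)
    obtain ⟨⟨P', hP'⟩, hPP'⟩ := PrimeSpectrum.comap_surjective_of_faithfullyFlat
      (A := S) (B := AdicCompletion (maximalIdeal A) A) ⟨P, hP⟩
    have hP'P : P'.comap (algebraMap S _) = P := congrArg PrimeSpectrum.asIdeal hPP'
    have hqP' : q ≤ P' := by
      rw [← hrad, hP'.radical_le_iff, Ideal.map_le_iff_le_comap, hP'P]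
      exact hP1.le
    rcases hcl P' hP' hqP' with rfl | rfl
    · exact hP1.ne hP'P
    · exact hP2.ne (hP'P.symm.trans (comap_closedPoint hmap))
  · intro h p hp
    have hpp := hp.1.1
    rw [two_le_iff]
    by_contra hno
    push Not at hno
    obtain ⟨q, hq, hqp⟩ := surjOn_minimalPrimes (B := AdicCompletion (maximalIdeal A) A) hp
    have := hq.1.1
    obtain ⟨P, hP, hP1, hP2⟩ := (two_le_iff _).1 (h q hq)
    have hpm : p ≠ maximalIdeal S := fun hpm => (hP1.trans hP2).ne
      (le_antisymm (hP1.trans hP2).le (by rw [← hmap, Ideal.map_le_iff_le_comap, hqp, hpm]))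
    have : Nontrivial (AdicCompletion (maximalIdeal A) A ⧸ q) := Ideal.Quotient.nontrivial_iff.2 hq.1.1.ne_top
    have : IsLocalRing (AdicCompletion (maximalIdeal A) A ⧸ q) :=
      IsLocalRing.of_surjective' _ Ideal.Quotient.mk_surjective
    obtain ⟨x, hxm, hxp⟩ := SetLike.exists_of_lt (lt_of_le_of_ne (le_maximalIdeal hpp.ne_top) hpm)
    have hmin : maximalIdeal (AdicCompletion (maximalIdeal A) A ⧸ q) ∈
        (Ideal.span {Ideal.Quotient.mk q (algebraMap S _ x)}).minimalPrimes := by
      refine ⟨⟨inferInstance, ?_⟩, fun Q ⟨hQ, hxQ⟩ hQle => ?_⟩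
      · rw [Ideal.span_singleton_le_iff_mem]
        refine mem_maximalIdeal _ |>.2 fun hu => ?_
        obtain ⟨z, hz⟩ := hu.exists_right_inv
        obtain ⟨z, rfl⟩ := Ideal.Quotient.mk_surjective z
        rw [← map_mul, ← map_one (Ideal.Quotient.mk q), Ideal.Quotient.eq] at hz
        have hm1 := sub_mem (Ideal.mul_mem_right z _ (hmap.le (Ideal.mem_map_of_mem (algebraMap S _) hxm)))
          (le_maximalIdeal hq.1.1.ne_top hz)
        rw [sub_sub_cancel] at hm1
        exact (maximalIdeal.isMaximal _).ne_top ((Ideal.eq_top_iff_one _).2 hm1)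
      · have hQ' := hQ.comap (Ideal.Quotient.mk q)
        have hqQ : q ≤ Q.comap (Ideal.Quotient.mk q) := fun y hy => by
          simp [Ideal.mem_comap, Ideal.Quotient.eq_zero_iff_mem.2 hy]
        have hm : Q.comap (Ideal.Quotient.mk q) = maximalIdeal _ := by
          by_contra hne
          have hlt : p < (Q.comap (Ideal.Quotient.mk q)).comap (algebraMap S _) :=
            lt_of_le_of_ne (hqp ▸ Ideal.comap_mono hqQ) fun he => hxp (by
              rw [he]; exact hxQ (Ideal.mem_span_singleton_self _))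
          exact hno _ (hQ'.comap _) hlt
            (lt_of_le_of_ne (le_maximalIdeal (hQ'.comap _).ne_top) (comap_ne_maximalIdeal hmap hQ' hne))
        intro y hy
        obtain ⟨y, rfl⟩ := Ideal.Quotient.mk_surjective y
        show y ∈ Q.comap (Ideal.Quotient.mk q)
        rw [hm]
        exact fun hu => hy (hu.map _)
    have hle1 := Ideal.height_le_one_of_isPrincipal_of_mem_minimalPrimes _ _ hmin
    have h2 := h q hq
    rw [← IsLocalRing.maximalIdeal_height_eq_ringKrullDim] at h2
    have h3 := WithBot.coe_le_coe.1 (show ((2 : ℕ∞) : WithBot ℕ∞) ≤ ((1 : ℕ∞) : WithBot ℕ∞) from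
      h2.trans (WithBot.coe_le_coe.2 hle1))
    norm_num at h3

theorem two_iff_twoBis {S' : Type u} [CommRing S'] [IsLocalRing S'] [Algebra A S'] [IsLocalHom (algebraMap A S')]
    [Hensel.IsStrictHenselization A S'] :
    (∀ p ∈ minimalPrimes S, (2 : WithBot ℕ∞) ≤ ringKrullDim (S ⧸ p)) ↔
      ∀ p ∈ minimalPrimes S', (2 : WithBot ℕ∞) ≤ ringKrullDim (S' ⧸ p) := by
  have := hSH.henselian
  have hT : _root_.Hensel.IsStrictHenselization S (StrictHens S) := inferInstance
  let _ : Algebra A (StrictHens S) := ((algebraMap S (StrictHens S)).comp (algebraMap A S)).toAlgebra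
  have : IsScalarTower A S (StrictHens S) := IsScalarTower.of_algebraMap_eq fun _ => rfl
  have : IsLocalHom (algebraMap A (StrictHens S)) := by
    rw [IsScalarTower.algebraMap_eq A S (StrictHens S)]
    infer_instance
  have hbij := IsHenselization.residueField_map_bijective (R := A) (S := S)
  have hAT : _root_.Hensel.IsStrictHenselization A (StrictHens S) := by
    refine ⟨hT.henselian, ?_, fun T _ _ f hf τ hτ => ?_⟩
    · have := hT.isSepClosure
      have : IsSepClosed (ResidueField (StrictHens S)) := IsSepClosure.sep_closed (ResidueField S)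
      let e : ResidueField A ≃+* ResidueField S := RingEquiv.ofBijective _ hbij
      refine ⟨inferInstance, ⟨fun x => ?_⟩⟩
      have hx : IsSeparable (ResidueField S) x := Algebra.IsSeparable.isSeparable _ x
      exact hx.of_equiv_equiv (B₂ := ResidueField (StrictHens S)) e.symm (RingEquiv.refl _) (by
        refine RingHom.ext fun y => ?_
        obtain ⟨a, rfl⟩ := e.surjective y
        obtain ⟨a, rfl⟩ := residue_surjective a
        rw [RingHom.comp_apply, RingHom.comp_apply, RingEquiv.coe_toRingHom, RingEquiv.coe_toRingHom,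
          RingEquiv.symm_apply_apply, RingEquiv.refl_apply]
        rfl)
    · obtain ⟨f', hf', hf'u⟩ := hSH.universal T f hf
      have : IsLocalHom f' := ⟨fun s hs => by
        obtain ⟨a, ha⟩ := IsHenselization.exists_sub_mem (R := A) s
        by_contra hsu
        have hs' : algebraMap A S a ∈ maximalIdeal S := by
          simpa using sub_mem ((mem_maximalIdeal s).2 hsu) ha
        have ham : a ∈ maximalIdeal A := fun hu => hs' (hu.map _)
        obtain ⟨g, hg⟩ := hT.universal (StrictHens S) (algebraMap S (StrictHens S)) (RingHom.id _) (RingHom.id_comp _)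
        have hsm : s ∈ (maximalIdeal A).map (algebraMap A S) := by
          rw [IsHenselization.map_maximalIdeal]; exact hsu
        exact (mem_maximalIdeal (f' s)).1 (by
          refine (show (maximalIdeal A).map f ≤ maximalIdeal T from map_le_maximalIdeal_of_isLocalHom hf) ?_
          rw [← hf', ← Ideal.map_map]
          exact Ideal.mem_map_of_mem _ hsm) hs⟩
      have hτ' : τ.comp (ResidueField.map (algebraMap S (StrictHens S))) = ResidueField.map f' := by
        refine RingHom.ext fun y => ?_
        obtain ⟨a, rfl⟩ := hbij.2 y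
        obtain ⟨a, rfl⟩ := residue_surjective a
        have := RingHom.congr_fun hτ (residue A a)
        simp only [RingHom.comp_apply, ResidueField.map_residue] at this ⊢
        rw [IsScalarTower.algebraMap_apply A S (StrictHens S)] at this
        rw [this, ← hf']
        rfl
      obtain ⟨g, ⟨hg1, hg2⟩, hgu⟩ := hT.universal T f' τ hτ'
      refine ⟨g, ⟨?_, hg2⟩, fun g' ⟨h1, h2⟩ => hgu g' ⟨?_, h2⟩⟩
      · rw [IsScalarTower.algebraMap_eq A S (StrictHens S), ← RingHom.comp_assoc, hg1, hf']
      · refine hf'u _ ?_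
        show (g'.comp (algebraMap S (StrictHens S))).comp (algebraMap A S) = f
        rw [RingHom.comp_assoc, ← IsScalarTower.algebraMap_eq]
        exact h1
  obtain ⟨e⟩ := IsStrictHenselization.nonempty_algEquiv (R := A) (S := StrictHens S) (S' := S')
  have := IsStrictHenselization.faithfullyFlat (R := S) (S := StrictHens S)
  have : Algebra.IsIntegral S (StrictHens S) := ⟨GrothLib.EssEtLoc.isIntegral_strictHenselization⟩
  have key : ∀ P ∈ minimalPrimes (StrictHens S), ringKrullDim (StrictHens S ⧸ P) =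
      ringKrullDim (S ⧸ P.comap (algebraMap S (StrictHens S))) := fun P hP => by
    have := hP.1.1
    exact ringKrullDim_quotient_comap P
  have hiso : ∀ P : Ideal S', ringKrullDim (StrictHens S ⧸ P.comap e.toRingEquiv.toRingHom) = ringKrullDim (S' ⧸ P) :=
    fun P => ringKrullDim_eq_of_ringEquiv (Ideal.quotientEquiv _ _ e.toRingEquiv
      (Ideal.map_comap_of_surjective e.toRingEquiv.toRingHom e.surjective P).symm)
  constructor
  · intro h P hP
    rw [← hiso P, key _ (GrothLib.MinPrimesHens1.mem_minimalPrimes_comap e.toRingEquiv hP)]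
    exact h _ (mapsTo_minimalPrimes (GrothLib.MinPrimesHens1.mem_minimalPrimes_comap e.toRingEquiv hP))
  · intro h p hp
    obtain ⟨P, hP, rfl⟩ := surjOn_minimalPrimes (B := StrictHens S) hp
    rw [← key P hP]
    have hP' := GrothLib.MinPrimesHens1.mem_minimalPrimes_comap e.symm.toRingEquiv hP
    have := h _ hP'
    rwa [← hiso, Ideal.comap_comap,
      show (e.symm.toRingEquiv.toRingHom).comp e.toRingEquiv.toRingHom = RingHom.id _ from
        RingHom.ext fun x => e.symm_apply_apply x, Ideal.comap_id] at this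

/-- Let A be a Noetherian local ring, S a henselization of A, S' a strict henselization of A, A' the
integral closure of the reduction of A in its total ring of fractions, and Â the completion of A at
its maximal ideal. The following are equivalent: (i) for every maximal ideal m' of A' the local ring
of A' at m' has Krull dimension at least 2; (ii) every irreducible component of Spec S has dimension
at least 2; (ii bis) every irreducible component of Spec S' has dimension at least 2; (iii) every
irreducible component of Spec Â has dimension at least 2. (A closed subscheme Z of a Noetherian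
scheme X is called c_2 when these hold at the local ring of every point of Z; condition (i) at all
points of Z says that the preimage of Z in the normalization has codimension at least 2.) -/
theorem result
    (A : Type u) [CommRing A] [IsNoetherianRing A] [IsLocalRing A]
    (S : Type u) [CommRing S] [IsLocalRing S] [Algebra A S] [IsLocalHom (algebraMap A S)]
    [Hensel.IsHenselization A S]
    (S' : Type u) [CommRing S'] [IsLocalRing S'] [Algebra A S'] [IsLocalHom (algebraMap A S')]
    [Hensel.IsStrictHenselization A S'] :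
    List.TFAE [
      ∀ m' : MaximalSpectrum (CAlg2.normRed A), (2 : WithBot ℕ∞) ≤ ringKrullDim (Localization.AtPrime m'.asIdeal),
      ∀ p ∈ minimalPrimes S, (2 : WithBot ℕ∞) ≤ ringKrullDim (S ⧸ p),
      ∀ p ∈ minimalPrimes S', (2 : WithBot ℕ∞) ≤ ringKrullDim (S' ⧸ p),
      ∀ q ∈ minimalPrimes (AdicCompletion (IsLocalRing.maximalIdeal A) A), (2 : WithBot ℕ∞) ≤ ringKrullDim (AdicCompletion (IsLocalRing.maximalIdeal A) A ⧸ q)] := by
  tfae_have 1 ↔ 2 := one_iff_two
  tfae_have 2 ↔ 3 := two_iff_twoBis (A := A) (S := S) (S' := S')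
  tfae_have 2 ↔ 4 := two_iff_three
  tfae_finish

end Groth.Agent.S16575
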