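import Groth.Statements.S16576
import Mathlib
import Groth.Agent.Lib.CTwo1.Basic
import Groth.Agent.Lib.AdicExtra.Local
import Groth.Agent.Lib.GeomReg.FiniteGRing
import Groth.Agent.Lib.FibProp5.Completion
-- import your own Groth.Agent.* helpers here

set_option autoImplicit false
universe u
open CAlg

namespace Groth.Agent.S16576

/-- Let A → B be a flat local homomorphism of Noetherian local rings and let Â, B̂ be their completions
at the maximal ideals. If every irreducible component of Spec Â has dimension at least 2, then every
irreducible component of Spec B̂ has dimension at least 2. (This is the c_2 condition in its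
completed form; globally: the preimage of a c_2 closed subset under a flat morphism of Noetherian
schemes is c_2, in particular the condition is invariant under Zariski and étale localization.) -/
theorem result
    (A B : Type u) [CommRing A] [CommRing B] [IsNoetherianRing A] [IsNoetherianRing B]
    [IsLocalRing A] [IsLocalRing B] (f : A →+* B) [IsLocalHom f] (hf : f.Flat)
    (hA : ∀ q ∈ minimalPrimes (AdicCompletion (IsLocalRing.maximalIdeal A) A), (2 : WithBot ℕ∞) ≤ ringKrullDim (AdicCompletion (IsLocalRing.maximalIdeal A) A ⧸ q)) :
    ∀ q ∈ minimalPrimes (AdicCompletion (IsLocalRing.maximalIdeal B) B), (2 : WithBot ℕ∞) ≤ ringKrullDim (AdicCompletion (IsLocalRing.maximalIdeal B) B ⧸ q) := by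
  letI := f.toAlgebra
  haveI : Module.Flat A B := hf
  haveI : IsLocalHom (algebraMap A B) := ‹IsLocalHom f›
  obtain ⟨ψ, hψ⟩ := GrothLib.GeomReg.exists_completion_map A B
  have hflat : ψ.Flat := (GrothLib.AdicExtra.flat_completion_iff ψ hψ).2 hf
  haveI := GrothLib.AdicExtra.isLocalHom_completion ψ hψ
  letI := ψ.toAlgebra
  haveI : Module.Flat (AdicCompletion (IsLocalRing.maximalIdeal A) A)
      (AdicCompletion (IsLocalRing.maximalIdeal B) B) := hflat
  haveI : IsLocalHom (algebraMap (AdicCompletion (IsLocalRing.maximalIdeal A) A)
      (AdicCompletion (IsLocalRing.maximalIdeal B) B)) := ‹IsLocalHom ψ›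
  exact fun q hq => GrothLib.CTwo1.two_le_ringKrullDim_quotient hA q hq

end Groth.Agent.S16576
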