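import Groth.Statements.S16579
import Groth.Agent.Lib.HensRigid4.Completion
-- import your own Groth.Agent.* helpers here

set_option autoImplicit false
universe u
open CategoryTheory AlgebraicGeometry
open Hensel

namespace Groth.Agent.S16579

/-- The case of the constant sheaf on a two-element set. Let (A, I) be a henselian pair with I finitely
generated (A not necessarily Noetherian), Â the I-adic completion of A, π : Spec Â → Spec A the
completion morphism, U a quasi-compact open subscheme of Spec A containing the complement of V(I),
and Û = π⁻¹(U). Then V ↦ (π|Û)⁻¹(V) is a bijection from the clopen subsets of U onto the clopen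
subsets of Û; equivalently, for every finite set F the locally constant F-valued functions on U and
on Û correspond under composition with π. -/
theorem result
    (A : Type u) [CommRing A] (I : Ideal A) (hI : I.FG) [HenselianRing A I]
    (U : (Spec (CommRingCat.of A)).Opens) (hU : IsCompact (U : Set (Spec (CommRingCat.of A))))
    (hUI : ∀ x : Spec (CommRingCat.of A), x ∉ U → I ≤ x.asIdeal) :
    Function.Bijective (fun V : {V : Set ↥U // IsClopen V} =>
      (⟨((Spec.map (CommRingCat.ofHom (algebraMap A (AdicCompletion I A)))) ∣_ U).base.hom ⁻¹' V.1, V.2.preimage ((Spec.map (CommRingCat.ofHom (algebraMap A (AdicCompletion I A)))) ∣_ U).base.hom.continuous⟩ :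
        {V' : Set ↥((Spec.map (CommRingCat.ofHom (algebraMap A (AdicCompletion I A)))) ⁻¹ᵁ U) // IsClopen V'})) := by
  obtain ⟨h1, h2⟩ := GrothLib.HensRigid4.clopen_bijective (A := A) (I := I) hI
    (U := U) hU hUI (Û := (((Spec.map (CommRingCat.ofHom (algebraMap A (AdicCompletion I A)))) ⁻¹ᵁ U) : Set ↥(Spec (CommRingCat.of (AdicCompletion I A))))) rfl
    ((Spec.map (CommRingCat.ofHom (algebraMap A (AdicCompletion I A)))) ∣_ U).base.hom
    (fun x => morphismRestrict_base_coe (Spec.map (CommRingCat.ofHom (algebraMap A (AdicCompletion I A)))) U x)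
  refine ⟨fun V₁ V₂ h => Subtype.ext (h1 _ _ V₁.2 V₂.2 (congrArg Subtype.val h)), fun S => ?_⟩
  obtain ⟨V, hV, e⟩ := h2 S.1 S.2
  exact ⟨⟨V, hV⟩, Subtype.ext e⟩

end Groth.Agent.S16579
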