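import Groth.Agent.Lib.LG26.Basic
import Groth.Statements.S16597
-- import your own Groth.Agent.* helpers here

set_option autoImplicit false
universe u v
open LGRing

namespace Groth.Agent.S16597

/-- Let R be an LG-ring and M a finite locally free (finitely generated projective) R-module of constant
rank. Then M is free. In particular invertible R-modules are trivial: Pic(R) = 0. -/
theorem result {R : Type u} [CommRing R] (hR : LGRing.IsLGRing R)
    (M : Type v) [AddCommGroup M] [Module R M] [Module.Finite R M] [Module.Projective R M] (d : ℕ)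
    (hd : ∀ p : PrimeSpectrum R, Module.rankAtStalk M p = d) : Module.Free R M := by
  classical
  rcases subsingleton_or_nontrivial R with hR0 | hR0
  · haveI : Subsingleton M := Module.subsingleton R M
    exact Module.Free.of_subsingleton R M
  obtain ⟨e⟩ : Nonempty (M ≃ₗ[R] (ULift.{v} (Fin d) → R)) := by
    haveI : Module.Free R (ULift.{v} (Fin d) → R) := inferInstance
    obtain ⟨n, q, s, hqs⟩ := GrothLib.LG.exists_presentation (R := R) (M := M)
    let L := LinearMap.range ((LinearMap.id : (Fin d → R) →ₗ[R] (Fin d → R)))
    obtain ⟨e⟩ := GrothLib.LG.nonempty_equiv_of_rank (M := ULift.{u} M) (N := ULift.{v} (Fin d → R)) hR (fun p _ => by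
      rw [Module.rankAtStalk_eq_of_equiv (ULift.moduleEquiv : ULift.{u} M ≃ₗ[R] M), hd,
        Module.rankAtStalk_eq_of_equiv (ULift.moduleEquiv : ULift.{v} (Fin d → R) ≃ₗ[R] (Fin d → R))]
      simp)
    exact ⟨((ULift.moduleEquiv : ULift.{u} M ≃ₗ[R] M).symm.trans e).trans (ULift.moduleEquiv.trans
      (LinearEquiv.funCongrLeft R R Equiv.ulift))⟩
  exact Module.Free.of_equiv e.symm

end Groth.Agent.S16597
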