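import Groth.Agent.Lib.LG26.Basic
import Mathlib.AlgebraicGeometry.Scheme
import Groth.Statements.S16599
-- import your own Groth.Agent.* helpers here

set_option autoImplicit false
open AlgebraicGeometry
universe u
open LGRing

namespace Groth.Agent.S16599

/-- Let R be an LG-ring, n ≥ 0, and U an open quasi-compact subscheme of affine n-space Spec R[X₁, …,
Xₙ]. If U has an (R ⧸ m)-valued point over R for every maximal ideal m of R, then U has an R-valued
point: some n-tuple x over R defines a section Spec R ⟶ Spec R[X₁, …, Xₙ] with image inside U. -/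
theorem result {R : Type u} [CommRing R] (hR : LGRing.IsLGRing R)
    (n : ℕ) (U : (Spec (CommRingCat.of (MvPolynomial (Fin n) R))).Opens)
    (hU : IsCompact (U : Set ↥(Spec (CommRingCat.of (MvPolynomial (Fin n) R)))))
    (h : ∀ (m : Ideal R) [m.IsMaximal], ∃ x : Fin n → R ⧸ m,
      Set.range (Spec.map (CommRingCat.ofHom (MvPolynomial.eval₂Hom (Ideal.Quotient.mk m) x))).base ⊆
        (U : Set ↥(Spec (CommRingCat.of (MvPolynomial (Fin n) R))))) :
    ∃ x : Fin n → R, Set.range (Spec.map (CommRingCat.ofHom (MvPolynomial.eval x))).base ⊆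
      (U : Set ↥(Spec (CommRingCat.of (MvPolynomial (Fin n) R)))) := by
  classical
  obtain ⟨t, ht⟩ := PrimeSpectrum.isCompact_isOpen_iff.1 ⟨hU, U.2⟩
  obtain ⟨x, hx⟩ := GrothLib.LG.exists_span_eq_top hR (fun j : Fin t.card => ((t.equivFin.symm j).1)) (fun m hm => by
    obtain ⟨x, hx⟩ := h m
    choose xl hxl using fun i => Ideal.Quotient.mk_surjective (x i)
    refine ⟨xl, ?_⟩
    have h1 : Set.range (PrimeSpectrum.comap (MvPolynomial.eval₂Hom (Ideal.Quotient.mk m) x)) ⊆ (PrimeSpectrum.zeroLocus ↑t)ᶜ :=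
      fun y hy => ht.ge (hx hy)
    rw [GrothLib.LG.range_comap_subset_iff] at h1
    by_contra! hall
    have hle : Ideal.span (MvPolynomial.eval₂Hom (Ideal.Quotient.mk m) x '' (t : Set (MvPolynomial (Fin n) R))) ≤ ⊥ := by
      rw [Ideal.span_le]
      rintro _ ⟨g, hg, rfl⟩
      have := Ideal.Quotient.eq_zero_iff_mem.2 (hall (t.equivFin ⟨g, hg⟩))
      rw [Equiv.symm_apply_apply, GrothLib.LG.mk_aeval] at this
      simp only [hxl] at this
      exact Ideal.mem_bot.2 this
    rw [h1] at hle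
    haveI := Ideal.Quotient.nontrivial_iff.2 hm.ne_top
    exact bot_ne_top (le_bot_iff.1 hle).symm)
  refine ⟨x, fun y hy => ht.le ?_⟩
  refine (GrothLib.LG.range_comap_subset_iff (MvPolynomial.eval x) ↑t).2 (top_unique (hx ▸ Ideal.span_mono ?_)) hy
  rintro _ ⟨j, rfl⟩
  exact ⟨_, (t.equivFin.symm j).2, rfl⟩

end Groth.Agent.S16599
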