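import Groth.Agent.Lib.LG26.Bundle
import Mathlib.AlgebraicGeometry.Scheme
import Groth.Statements.S16600
-- import your own Groth.Agent.* helpers here

set_option autoImplicit false
open AlgebraicGeometry
universe u
open LGRing

namespace Groth.Agent.S16600

/-- Let R be an LG-ring, M a finite locally free R-module, W(M) = Spec Sym(M^∨) the vector bundle of M
(its points with values in an R-algebra R' are the R-algebra maps Sym(M^∨) → R', i.e. the R-linear
maps M^∨ → R'), and U ⊆ W(M) an open quasi-compact subscheme. Then U(R) is non-empty if and only if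
U(R ⧸ m) is non-empty for every maximal ideal m of R. -/
theorem result {R : Type u} [CommRing R]
    (hR : LGRing.IsLGRing R) (M : Type u) [AddCommGroup M] [Module R M] [Module.Finite R M] [Module.Projective R M]
    (U : (Spec (CommRingCat.of (SymmetricAlgebra R (Module.Dual R M)))).Opens)
    (hU : IsCompact (U : Set ↥(Spec (CommRingCat.of (SymmetricAlgebra R (Module.Dual R M)))))) :
    (∃ φ : Module.Dual R M →ₗ[R] R,
      Set.range (Spec.map (CommRingCat.ofHom (SymmetricAlgebra.lift φ).toRingHom)).base ⊆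
        (U : Set ↥(Spec (CommRingCat.of (SymmetricAlgebra R (Module.Dual R M)))))) ↔
    ∀ (m : Ideal R) [m.IsMaximal], ∃ φ : Module.Dual R M →ₗ[R] (R ⧸ m),
      Set.range (Spec.map (CommRingCat.ofHom (SymmetricAlgebra.lift φ).toRingHom)).base ⊆
        (U : Set ↥(Spec (CommRingCat.of (SymmetricAlgebra R (Module.Dual R M))))) := by
  classical
  obtain ⟨t, ht⟩ := PrimeSpectrum.isCompact_isOpen_iff.1 ⟨hU, U.2⟩
  constructor
  · rintro ⟨φ, hφ⟩ m hm
    refine ⟨(Ideal.Quotient.mkₐ R m).toLinearMap ∘ₗ φ, ?_⟩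
    have e : SymmetricAlgebra.lift ((Ideal.Quotient.mkₐ R m).toLinearMap ∘ₗ φ) =
        (Ideal.Quotient.mkₐ R m).comp (SymmetricAlgebra.lift φ) :=
      SymmetricAlgebra.algHom_ext (LinearMap.ext fun ξ => by simp)
    rintro _ ⟨y, rfl⟩
    refine hφ ⟨PrimeSpectrum.comap (Ideal.Quotient.mk m) y, ?_⟩
    rw [e]
    rfl
  · intro h
    obtain ⟨y, hy⟩ := GrothLib.LG.exists_point_bundle hR t (fun m hm => by
      obtain ⟨φ, hφ⟩ := h m
      obtain ⟨y, hy⟩ := GrothLib.LG.exists_lift_point m φ
      refine ⟨y, ?_⟩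
      by_contra! hall
      have h1 : Set.range (PrimeSpectrum.comap (SymmetricAlgebra.lift φ).toRingHom) ⊆ (PrimeSpectrum.zeroLocus ↑t)ᶜ :=
        fun z hz => ht.ge (hφ hz)
      rw [GrothLib.LG.range_comap_subset_iff] at h1
      haveI := Ideal.Quotient.nontrivial_iff.2 hm.ne_top
      suffices hle : Ideal.span ((SymmetricAlgebra.lift φ).toRingHom '' (t : Set _)) ≤ ⊥ from
        bot_ne_top (α := Ideal (R ⧸ m)) ((le_bot_iff.1 hle).symm.trans h1)
      rw [Ideal.span_le]
      rintro _ ⟨g, hg, rfl⟩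
      exact Ideal.mem_bot.2 ((hy g).trans (Ideal.Quotient.eq_zero_iff_mem.2 (hall g hg))))
    refine ⟨Module.Dual.eval R M y, fun z hz => ht.le ?_⟩
    exact (GrothLib.LG.range_comap_subset_iff (SymmetricAlgebra.lift (Module.Dual.eval R M y)).toRingHom ↑t).2 hy hz

end Groth.Agent.S16600
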