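import Groth.Agent.Lib.LG26.Bundle
import Mathlib.AlgebraicGeometry.Scheme
import Groth.Statements.S16601
-- import your own Groth.Agent.* helpers here

set_option autoImplicit false
open AlgebraicGeometry
universe u
open LGRing

namespace Groth.Agent.S16601

/-- Let R be an LG-ring whose residue fields at maximal ideals are all infinite (R satisfies the
primitive criterion), M a finite locally free R-module with vector bundle W(M) = Spec Sym(M^∨), and
U ⊆ W(M) an open quasi-compact subscheme which is fibrewise dense over the closed points of Spec R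
(for every maximal ideal m, the trace of U on the closed fibre Spec (Sym(M^∨) ⧸ m Sym(M^∨)) is
dense). Then U has an R-valued point. (The source asks U to be R-dense in W(M); only density of the
closed fibres is used, which is what is assumed here.) -/
theorem result {R : Type u} [CommRing R]
    (hR : LGRing.IsLGRing R) (hinf : ∀ (m : Ideal R) [m.IsMaximal], Infinite (R ⧸ m))
    (M : Type u) [AddCommGroup M] [Module R M] [Module.Finite R M] [Module.Projective R M]
    (U : (Spec (CommRingCat.of (SymmetricAlgebra R (Module.Dual R M)))).Opens)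
    (hU : IsCompact (U : Set ↥(Spec (CommRingCat.of (SymmetricAlgebra R (Module.Dual R M))))))
    (hdense : ∀ (m : Ideal R) [m.IsMaximal],
      Dense ((Spec.map (CommRingCat.ofHom (Ideal.Quotient.mk
        (Ideal.map (algebraMap R (SymmetricAlgebra R (Module.Dual R M))) m)))).base ⁻¹'
          (U : Set ↥(Spec (CommRingCat.of (SymmetricAlgebra R (Module.Dual R M))))))) :
    ∃ φ : Module.Dual R M →ₗ[R] R,
      Set.range (Spec.map (CommRingCat.ofHom (SymmetricAlgebra.lift φ).toRingHom)).base ⊆
        (U : Set ↥(Spec (CommRingCat.of (SymmetricAlgebra R (Module.Dual R M))))) := by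
  classical
  obtain ⟨t, ht⟩ := PrimeSpectrum.isCompact_isOpen_iff.1 ⟨hU, U.2⟩
  obtain ⟨y, hy⟩ := GrothLib.LG.exists_point_bundle hR t (fun m hm => by
    haveI := hinf m
    by_contra! hall
    have hle : ∀ g ∈ t, g ∈ m.map (algebraMap R (SymmetricAlgebra R (Module.Dual R M))) := fun g hg => by
      by_contra hg'
      obtain ⟨y, hy⟩ := GrothLib.LG.exists_notMem_of_infinite m g hg'
      exact hy (hall y g hg)
    let π := SymmetricAlgebra.lift (R := R) (A := R ⧸ m) (0 : Module.Dual R M →ₗ[R] R ⧸ m)
    have hm0 : m.map (algebraMap R (SymmetricAlgebra R (Module.Dual R M))) ≤ RingHom.ker π.toRingHom := by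
      rw [Ideal.map_le_iff_le_comap]
      intro r hr
      rw [Ideal.mem_comap, RingHom.mem_ker, AlgHom.toRingHom_eq_coe, RingHom.coe_coe, AlgHom.commutes]
      exact Ideal.Quotient.eq_zero_iff_mem.2 hr
    haveI : Nontrivial (SymmetricAlgebra R (Module.Dual R M) ⧸ m.map (algebraMap R (SymmetricAlgebra R (Module.Dual R M)))) :=
      Ideal.Quotient.nontrivial_iff.2 fun htop => by
        haveI := Ideal.Quotient.nontrivial_iff.2 hm.ne_top
        exact one_ne_zero (α := R ⧸ m) ((map_one π).symm.trans (hm0 (htop.symm ▸ Submodule.mem_top : (1 : SymmetricAlgebra R (Module.Dual R M)) ∈ _)))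
    obtain ⟨z, hz⟩ := (hdense m).nonempty
    have hz' : PrimeSpectrum.comap (Ideal.Quotient.mk _) z ∈ (PrimeSpectrum.zeroLocus ↑t)ᶜ := ht.ge hz
    exact hz' fun g hg => by
      show Ideal.Quotient.mk _ g ∈ z.asIdeal
      rw [Ideal.Quotient.eq_zero_iff_mem.2 (hle g hg)]
      exact zero_mem _)
  refine ⟨Module.Dual.eval R M y, fun z hz => ht.le ?_⟩
  exact (GrothLib.LG.range_comap_subset_iff (SymmetricAlgebra.lift (Module.Dual.eval R M y)).toRingHom ↑t).2 hy hz

end Groth.Agent.S16601
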