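import Groth.Statements.S16602
import Groth.Agent.Lib.AzMod.LG

set_option autoImplicit false
universe u v w
open Brauer

namespace Groth.Agent.S16602

open GrothLib in
theorem aux {R : Type u} [CommRing R]
    (hR : LGRing.IsLGRing R) {A : Type v} [Ring A] [Algebra R A] [IsAzumaya R A]
    (P Q : Type w) [AddCommGroup P] [Module A P] [Module R P] [IsScalarTower R A P] [Module.Finite A P]
    [Module.Projective A P] [Nontrivial P]
    [AddCommGroup Q] [Module A Q] [Module R Q] [IsScalarTower R A Q] [Module.Finite A Q]
    [Module.Projective A Q]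
    (hQ : ∀ e : Module.End A Q, IsIdempotentElem e → e = 0 ∨ e = 1)
    (h : ∀ p : PrimeSpectrum R, Module.rankAtStalk P p ≤ Module.rankAtStalk Q p) :
    Nonempty (P ≃ₗ[A] Q) := by
  obtain ⟨f, hf⟩ := AzMod.exists_surjective (A := A) hR Q P h
  obtain ⟨g, hg⟩ := Module.projective_lifting_property f LinearMap.id hf
  have hgf : ∀ x, f (g x) = x := LinearMap.congr_fun hg
  rcases hQ (g ∘ₗ f) (LinearMap.ext fun x => by simp [Module.End.mul_apply, hgf]) with h0 | h1
  · exfalso
    obtain ⟨x, y, hxy⟩ := exists_pair_ne P
    have hz : ∀ z : P, z = 0 := fun z => by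
      obtain ⟨q, rfl⟩ := hf z
      rw [← hgf (f q), show g (f q) = (g ∘ₗ f) q from rfl, h0, LinearMap.zero_apply, map_zero]
    exact hxy ((hz x).trans (hz y).symm)
  · exact ⟨(LinearEquiv.ofLinearMap f g hg h1).symm⟩

/-- Let R be an LG-ring with Spec R connected and A an Azumaya R-algebra. Then any two indecomposable
finitely generated projective left A-modules are isomorphic (a module is indecomposable when it is
non-zero and the only idempotents of its endomorphism ring are 0 and 1). (This extends the semilocal
case.) -/
theorem result {R : Type u} [CommRing R]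
    (hR : LGRing.IsLGRing R) [ConnectedSpace (PrimeSpectrum R)] {A : Type v} [Ring A] [Algebra R A] [IsAzumaya R A]
    (P Q : Type w) [AddCommGroup P] [Module A P] [Module.Finite A P] [Module.Projective A P] [Nontrivial P]
    [AddCommGroup Q] [Module A Q] [Module.Finite A Q] [Module.Projective A Q] [Nontrivial Q]
    (hP : ∀ e : Module.End A P, IsIdempotentElem e → e = 0 ∨ e = 1)
    (hQ : ∀ e : Module.End A Q, IsIdempotentElem e → e = 0 ∨ e = 1) : Nonempty (P ≃ₗ[A] Q) := by
  open GrothLib in
  let : Module R P := Module.compHom P (algebraMap R A)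
  let : Module R Q := Module.compHom Q (algebraMap R A)
  have : IsScalarTower R A P := ⟨fun r a x => by
    show (r • a) • x = algebraMap R A r • a • x
    rw [Algebra.smul_def, mul_smul]⟩
  have : IsScalarTower R A Q := ⟨fun r a x => by
    show (r • a) • x = algebraMap R A r • a • x
    rw [Algebra.smul_def, mul_smul]⟩
  have := AzMod.finite_of_tower (R := R) A P
  have := AzMod.projective_of_tower (R := R) A P
  have := AzMod.finite_of_tower (R := R) A Q
  have := AzMod.projective_of_tower (R := R) A Q
  have := Module.finitePresentation_of_projective R P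
  have := Module.finitePresentation_of_projective R Q
  obtain ⟨p₀⟩ : Nonempty (PrimeSpectrum R) := inferInstance
  have hP' := fun p => (Module.isLocallyConstant_rankAtStalk (R := R) (M := P)).apply_eq_of_preconnectedSpace p p₀
  have hQ' := fun p => (Module.isLocallyConstant_rankAtStalk (R := R) (M := Q)).apply_eq_of_preconnectedSpace p p₀
  rcases le_total (Module.rankAtStalk P p₀) (Module.rankAtStalk Q p₀) with h | h
  · exact aux hR P Q hQ fun p => by rw [hP' p, hQ' p]; exact h
  · exact (aux hR Q P hP fun p => by rw [hP' p, hQ' p]; exact h).map LinearEquiv.symm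

end Groth.Agent.S16602
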