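import Groth.Agent.Lib.LG26.Basic
import Groth.Statements.S16606
-- import your own Groth.Agent.* helpers here

set_option autoImplicit false
open scoped TensorProduct
universe u v
open LGRing

namespace Groth.Agent.S16606

/-- Let R be an LG-ring, M₁, M₂ finite projective R-modules and N a faithfully projective R-module
(finite projective and faithful). If M₁ ⊗_R N ≅ M₂ ⊗_R N then M₁ ≅ M₂. -/
theorem result {R : Type u} [CommRing R]
    (hR : LGRing.IsLGRing R) (M₁ M₂ N : Type v) [AddCommGroup M₁] [Module R M₁] [Module.Finite R M₁]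
    [Module.Projective R M₁] [AddCommGroup M₂] [Module R M₂] [Module.Finite R M₂] [Module.Projective R M₂]
    [AddCommGroup N] [Module R N] [Module.Finite R N] [Module.Projective R N] [FaithfulSMul R N]
    (e : M₁ ⊗[R] N ≃ₗ[R] M₂ ⊗[R] N) : Nonempty (M₁ ≃ₗ[R] M₂) := by
  refine GrothLib.LG.nonempty_equiv_of_rank hR fun p hp => ?_
  have h := congrFun (Module.rankAtStalk_eq_of_equiv e) p
  simp only [Module.rankAtStalk_tensorProduct, Pi.mul_apply] at h
  obtain ⟨m, f, hmf⟩ := GrothLib.LG.exists_unimodular (M := N) hR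
  refine Nat.eq_of_mul_eq_mul_right ?_ h
  rw [Module.rankAtStalk_eq]
  have : (1 : p.asIdeal.ResidueField) ⊗ₜ[R] m ≠ 0 := fun h0 => by
    have := congrArg (TensorProduct.rid R p.asIdeal.ResidueField ∘ f.lTensor p.asIdeal.ResidueField) h0
    simp [hmf] at this
  haveI : Nontrivial (p.asIdeal.Fiber N) := nontrivial_of_ne _ _ this
  exact Module.finrank_pos

end Groth.Agent.S16606
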