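import Groth.Statements.S16607
import Groth.Agent.Lib.AzMod.Cancel
import Mathlib.RingTheory.MatrixAlgebra

set_option autoImplicit false
universe u v
open Brauer

namespace Groth.Agent.S16607

open scoped TensorProduct
open GrothLib

/-- Let R be an LG-ring, A and B Azumaya R-algebras and n ≥ 1. If Mₙ(A) ≅ Mₙ(B) as R-algebras then A ≅ B
as R-algebras (cancellation of Azumaya algebras). -/
theorem result {R : Type u} [CommRing R]
    (hR : LGRing.IsLGRing R) (A B : Type v) [Ring A] [Algebra R A] [IsAzumaya R A] [Ring B] [Algebra R B]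
    [IsAzumaya R B] (n : ℕ) (hn : 0 < n)
    (e : Matrix (Fin n) (Fin n) A ≃ₐ[R] Matrix (Fin n) (Fin n) B) : Nonempty (A ≃ₐ[R] B) := by
  have : Nonempty (Fin n) := ⟨⟨0, hn⟩⟩
  have : FaithfulSMul R (Fin n → R) := ⟨fun {r s} h => by
    simpa using congr_fun (h (fun _ => 1)) ⟨0, hn⟩⟩
  let η : Matrix (Fin n) (Fin n) R ≃ₐ[R] Module.End R (Fin n → R) := Matrix.toLinAlgEquiv'
  let α : ∀ (C : Type v) [Ring C] [Algebra R C],
      C ⊗[R] Module.End R (Fin n → R) ≃ₐ[R] Matrix (Fin n) (Fin n) C := fun C _ _ =>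
    (Algebra.TensorProduct.congr AlgEquiv.refl η.symm).trans (matrixEquivTensor (Fin n) R C).symm
  refine AzMod.nonempty_algEquiv_of_tensor_end hR A B (fun p => ?_) (Fin n → R) (Fin n → R)
    ((α A).trans (e.trans (α B).symm))
  obtain ⟨_, _⟩ := Azu.finite_projective_end R (Fin n → R)
  have h1 := congr_fun (Module.rankAtStalk_eq_of_equiv ((α A).trans (e.trans (α B).symm)).toLinearEquiv) p
  rw [Module.rankAtStalk_tensorProduct, Module.rankAtStalk_tensorProduct, Pi.mul_apply, Pi.mul_apply] at h1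
  refine Nat.eq_of_mul_eq_mul_right ?_ h1
  rw [AzMod.rankAtStalk_end]
  exact pow_pos (AzMod.rankAtStalk_pos _ p) 2

end Groth.Agent.S16607
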