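import Groth.Statements.S1661
import Groth.Agent.Lib.RegSeqLoc.Scheme
import Mathlib.AlgebraicGeometry.Morphisms.ClosedImmersion
import Mathlib.RingTheory.Regular.Flat
import Mathlib.AlgebraicGeometry.Morphisms.Flat

set_option autoImplicit false
universe u
open CategoryTheory CategoryTheory.Limits AlgebraicGeometry
open Divisors

namespace Groth.Agent.S1661

open CategoryTheory AlgebraicGeometry RingTheory.Sequence

/-- A regular generating sequence restricts to smaller affine opens meeting the subscheme. -/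
theorem restrict_regular {Z X : Scheme.{u}} (i : Z ⟶ X) [IsClosedImmersion i] {U : X.Opens} (hU : IsAffineOpen U)
    (W : X.Opens) (hW : IsAffineOpen W) (hWU : W ≤ U) (z : Z) (hz : i z ∈ W)
    {rs : List Γ(X, U)} (hreg : IsWeaklyRegular Γ(X, U) rs) (hI : i.ker.ideal ⟨U, hU⟩ = Ideal.ofList rs) :
    ∃ rs' : List Γ(X, W), IsRegular Γ(X, W) rs' ∧ i.ker.ideal ⟨W, hW⟩ = Ideal.ofList rs' := by
  let ρ := (X.presheaf.map (homOfLE hWU).op).hom
  have hflat : ρ.Flat := by
    have h := Scheme.Hom.flat_appLE (𝟙 X) hU hW (show W ≤ 𝟙 X ⁻¹ᵁ U from hWU)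
    rw [Scheme.Hom.appLE, Scheme.Hom.id_app] at h
    exact h
  letI : Algebra Γ(X, U) Γ(X, W) := ρ.toAlgebra
  haveI : Module.Flat Γ(X, U) Γ(X, W) := hflat
  have hI' : i.ker.ideal ⟨W, hW⟩ = Ideal.ofList (rs.map ρ) := by
    rw [← i.ker.map_ideal (U := ⟨_, hW⟩) (V := ⟨U, hU⟩) hWU, hI]
    exact Ideal.map_ofList _ _
  refine ⟨rs.map ρ, ⟨IsWeaklyRegular.of_flat hreg, fun htop => ?_⟩, hI'⟩
  rw [smul_eq_mul, Ideal.mul_top, ← hI', Scheme.Hom.ker_apply] at htop
  haveI : Nonempty (i ⁻¹ᵁ W : Z.Opens) := ⟨⟨z, hz⟩⟩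
  haveI : Nontrivial Γ(Z, i ⁻¹ᵁ W) := inferInstance
  exact RingHom.ker_ne_top _ htop.symm

theorem append_regular {A B : Type u} [CommRing A] [CommRing B] (φ : A →+* B) (hφ : Function.Surjective φ)
    {as bs : List A} (has : IsWeaklyRegular A as) (hker : RingHom.ker φ = Ideal.ofList as)
    (hbs : IsWeaklyRegular B (bs.map φ)) : IsWeaklyRegular A (as ++ bs) := by
  letI := φ.toAlgebra
  rw [isWeaklyRegular_append_iff]
  refine ⟨has, ?_⟩
  let L : A →ₗ[A] B := Algebra.linearMap A B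
  have e : (A ⧸ (Ideal.ofList as • ⊤ : Submodule A A)) ≃ₗ[A] B :=
    (Submodule.quotEquivOfEq _ _ (by
      rw [smul_eq_mul, Ideal.mul_top, ← hker]
      rfl)).trans (L.quotKerEquivOfSurjective hφ)
  exact (e.isWeaklyRegular_congr bs).mpr ((isWeaklyRegular_map_algebraMap_iff B B bs).mp hbs)

/-- If i : Z → Y and j : Y → X are regular closed immersions then so is their composite Z → X. This is
the closed-immersion case of the published statement. -/
theorem result {Z Y X : Scheme.{u}} (i : Z ⟶ Y) (j : Y ⟶ X)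
    (hi : Mor2.IsRegularClosedImmersion i) (hj : Mor2.IsRegularClosedImmersion j) : Mor2.IsRegularClosedImmersion (i ≫ j) := by
  obtain ⟨hic, hi⟩ := hi
  obtain ⟨hjc, hj⟩ := hj
  refine ⟨inferInstance, fun z => ?_⟩
  obtain ⟨V, hV, hyV, bs, hbs, hIb⟩ := hi z
  obtain ⟨U, hU, hxU, as, has, hIa⟩ := hj (i z)
  obtain ⟨O, hO, hOV⟩ := j.isClosedEmbedding.isInducing.isOpen_iff.1 V.isOpen
  have hyO : j (i z) ∈ O := by
    have h : i z ∈ j.base ⁻¹' O := hOV.symm ▸ hyV
    exact h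
  obtain ⟨g, hgO, hxg⟩ := hU.exists_basicOpen_le (V := ⟨O, hO⟩) ⟨j (i z), hyO⟩ hxU
  let W := X.basicOpen g
  have hW : IsAffineOpen W := hU.basicOpen g
  have hWV : j ⁻¹ᵁ W ≤ V := fun y hy => by
    have h : y ∈ j.base ⁻¹' O := hgO hy
    rwa [hOV] at h
  obtain ⟨as', has', hIa'⟩ := restrict_regular j hU W hW (X.basicOpen_le g) (i z) hxg has.toIsWeaklyRegular hIa
  obtain ⟨bs', hbs', hIb'⟩ := restrict_regular i hV (j ⁻¹ᵁ W) (hW.preimage j) hWV z hxg hbs.toIsWeaklyRegular hIb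
  have hsurj : Function.Surjective (j.app W).hom := j.app_surjective W hW
  choose lift hlift using hsurj
  let cs := bs'.map lift
  have hcs : cs.map (j.app W).hom = bs' := by
    simp only [cs, List.map_map]
    exact List.map_congr_left (fun a _ => hlift a) |>.trans (List.map_id bs')
  rw [Scheme.Hom.ker_apply] at hIa' hIb'
  have hker : (i ≫ j).ker.ideal ⟨W, hW⟩ = Ideal.ofList (as' ++ cs) := by
    rw [Scheme.Hom.ker_apply]
    change RingHom.ker ((i.app (j ⁻¹ᵁ W)).hom.comp (j.app W).hom) = _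
    rw [← RingHom.comap_ker, hIb', ← hcs,
      ← Ideal.map_ofList, Ideal.comap_map_of_surjective' _ (j.app_surjective W hW), hIa', Ideal.ofList_append,
      sup_comm]
  refine ⟨W, hW, hxg, as' ++ cs, ⟨append_regular _ (j.app_surjective W hW) has'.toIsWeaklyRegular hIa'
    (hcs.symm ▸ hbs'.toIsWeaklyRegular), fun htop => ?_⟩, hker⟩
  rw [smul_eq_mul, Ideal.mul_top, ← hker, Scheme.Hom.ker_apply] at htop
  haveI : Nonempty ((i ≫ j) ⁻¹ᵁ W : Z.Opens) := ⟨⟨z, hxg⟩⟩
  haveI : Nontrivial Γ(Z, (i ≫ j) ⁻¹ᵁ W) := inferInstance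
  exact RingHom.ker_ne_top _ htop.symm

end Groth.Agent.S1661
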