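import Groth.Statements.S16611
import Groth.Agent.Lib.DiagGrp.CharProps
import Groth.Agent.Lib.DiagGrp.Torus

set_option autoImplicit false
open CategoryTheory MonoidalCategory CartesianMonoidalCategory MonObj GrpObj AlgebraicGeometry
universe u
open SGA3x

namespace Groth.Agent.S16611

open CategoryTheory.Limits GrothLib.DiagGrp

/-- A monomorphism of split tori of the same rank over a field is an isomorphism. -/
theorem isIso_of_mono_split {S : Scheme.{u}} {T T' : Over S} [GrpObj T] [GrpObj T'] (f : T ⟶ T') [IsMonHom f]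
    [Mono f] {L : Type u} [Field L] (m : Spec (CommRingCat.of L) ⟶ S) (r : ℕ)
    (e : Grp.mk (Red.bc m T) ≅ Grp.mk (Red.DS (Spec (CommRingCat.of L)) (Fin r → ℤ)))
    (e' : Grp.mk (Red.bc m T') ≅ Grp.mk (Red.DS (Spec (CommRingCat.of L)) (Fin r → ℤ))) :
    IsIso ((Over.pullback m).map f).left := by
  let a : Red.bc m T ≅ Red.DS _ (Fin r → ℤ) := (Grp.forget (Over _)).mapIso e
  let b : Red.bc m T' ≅ Red.DS _ (Fin r → ℤ) := (Grp.forget (Over _)).mapIso e'
  have : IsMonHom a.inv := e.inv.hom.isMonHom_hom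
  have : IsMonHom b.hom := e'.hom.hom.isMonHom_hom
  set v := a.inv ≫ (Over.pullback m).map f ≫ b.hom
  obtain ⟨φ, hφ⟩ := exists_char v (𝟙 _)
  have hc := hasChartsFpqc_DS (M := Fin r → ℤ) (Spec (CommRingCat.of L)) fgM (fg_int_pi r)
  have := isMonHom_mul_inv (mul_comm_of_charts hc) v (Red.DSmap _ φ)
  have hv : v = Red.DSmap _ φ := by
    have h2 : v * (Red.DSmap _ φ)⁻¹ = 1 := by
      have h3 := hφ (Red.DS _ (Fin r → ℤ)) (Red.DS _ (Fin r → ℤ)).hom (Category.comp_id _) (𝟙 _)
      rwa [Category.id_comp] at h3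
    exact mul_inv_eq_one.mp h2
  have : Mono ((Over.pullback m).map f) := by
    haveI : (Over.pullback m).IsRightAdjoint := (Over.mapPullbackAdj m).isRightAdjoint
    exact inferInstance
  have : Mono v := inferInstance
  have hmono : Mono (Red.DSmap (Spec (CommRingCat.of L)) φ).left := by
    rw [← hv]
    infer_instance
  have hsurj := char_of_mono φ hmono
  have hinj : Function.Injective φ := OrzechProperty.injective_of_surjective_endomorphism φ.toIntLinearMap hsurj
  have hiso : IsIso v.left := by
    rw [hv]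
    exact charCond_iso.dsmap φ ⟨hinj, hsurj⟩ _
  have : IsIso ((Over.forget _).map v) := hiso
  have : IsIso v := isIso_of_reflects_iso v (Over.forget _)
  have h4 : (Over.pullback m).map f = a.hom ≫ v ≫ b.inv := by simp [v]
  rw [h4]
  exact inferInstanceAs (IsIso ((Over.forget _).map (a.hom ≫ v ≫ b.inv)))

/-- Over an arbitrary scheme S, a monomorphism f : T ⟶ T' of S-tori with the same rank function (at
every point of S the geometric fibres of T and T' are split tori of the same rank) is an
isomorphism. -/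
theorem result {S : Scheme.{u}} {T T' : Over S} [GrpObj T] [GrpObj T']
    (hT : Red.IsTorus T) (hT' : Red.IsTorus T') (f : T ⟶ T') [IsMonHom f] [Mono f]
    (hrk : ∀ s : ↥S, ∃ r : ℕ, Red.IsSplitTorusWith (Fin r → ℤ) (Red.geomFibre s T) ∧
      Red.IsSplitTorusWith (Fin r → ℤ) (Red.geomFibre s T')) : IsIso f := by
  obtain ⟨U, -, hU, hUiso⟩ := exists_clopen_locus (P := MorphismProperty.isomorphisms Scheme.{u}) charCond_iso f
    (hasChartsFpqc_of_isTorus_any hT) (hasChartsFpqc_of_isTorus hT')
  have hall : ∀ s : S, s ∈ U := by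
    intro s
    refine (hU s).mpr ?_
    obtain ⟨r, ⟨e⟩, ⟨e'⟩⟩ := hrk s
    set L := AlgebraicClosure (S.residueField s)
    have h1 := (pAt_field_iff (MorphismProperty.isomorphisms Scheme.{u}) f (L := L) (Red.geomPt s))
    have hs : (Red.geomPt s).base (IsLocalRing.closedPoint L) = s := by
      rw [Scheme.Hom.comp_apply, Scheme.fromSpecResidueField_apply]
    rw [hs] at h1
    exact h1.mp (isIso_of_mono_split (L := L) f (Red.geomPt s) r e e')
  have hUeq : IsIso U.ι := by
    have : Surjective U.ι := ⟨fun x => ⟨⟨x, hall x⟩, rfl⟩⟩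
    exact (isIso_iff_isOpenImmersion_and_surjective _).mpr ⟨inferInstance, inferInstance⟩
  have h2 : IsIso f.left := by
    have h3 := pAt_of (MorphismProperty.isomorphisms Scheme.{u}) f U.ι (inv U.ι) (𝟙 S) (IsIso.inv_hom_id U.ι).symm hUiso
    exact MorphismProperty.of_isPullback_of_descendsAlong (P := MorphismProperty.isomorphisms Scheme.{u})
      (Q := @Surjective ⊓ @Flat ⊓ @QuasiCompact) (isPullback_overMap f (𝟙 S))
      ⟨⟨inferInstance, inferInstance⟩, inferInstance⟩ h3
  have : IsIso ((Over.forget S).map f) := h2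
  exact isIso_of_reflects_iso f (Over.forget S)

end Groth.Agent.S16611
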