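import Groth.Statements.S16614
import Groth.Agent.Lib.SubTorus14.Split

set_option autoImplicit false
open CategoryTheory MonoidalCategory CartesianMonoidalCategory MonObj GrpObj AlgebraicGeometry
universe u
open SGA3x

namespace Groth.Agent.S16614

/-- Over an arbitrary scheme S, an S-group G of finite multiplicative type admits a maximal split
subtorus: a monomorphism T ⟶ G from a split torus T ≅ D_S(ℤ^r) which is maximal among split subtori
(if T factors through a split subtorus T' ⟶ G then the factoring morphism is an isomorphism). -/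
theorem result {S : Scheme.{u}} {G : Over S} [GrpObj G]
    (hG : SGA3x.IsMultTypeFT G) :
    ∃ (T : Over S) (_ : GrpObj T) (j : T ⟶ G) (r : ℕ), IsMonHom j ∧ Mono j ∧ Red.IsSplitTorusWith (Fin r → ℤ) T ∧
      ∀ (T' : Over S) [GrpObj T'] (j' : T' ⟶ G) [IsMonHom j'] [Mono j'] (r' : ℕ) (g : T ⟶ T'),
        Red.IsSplitTorusWith (Fin r' → ℤ) T' → g ≫ j' = j → IsIso g := by
  exact GrothLib.SubTorus14.exists_maximal_split hG

end Groth.Agent.S16614
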