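import Groth.Statements.S16615
import Groth.Agent.Lib.QuotTorus14.Global

set_option autoImplicit false
open CategoryTheory MonoidalCategory CartesianMonoidalCategory MonObj GrpObj AlgebraicGeometry
universe u
open SGA3x

namespace Groth.Agent.S16615

/-- Over an arbitrary scheme S, the quotient Q = T/H of an S-torus T by a subgroup scheme H of (finite)
multiplicative type, when represented by an S-group Q with a homomorphism q : T ⟶ Q which is an fppf
covering identifying T ×_S H with T ×_Q T, is again a torus. -/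
theorem result {S : Scheme.{u}} {T H Q : Over S} [GrpObj T] [GrpObj H]
    [GrpObj Q] (hT : Red.IsTorus T) (i : H ⟶ T) [IsMonHom i] [Mono i] (hH : SGA3x.IsMultTypeFT H)
    (q : T ⟶ Q) [IsMonHom q] (hq : RedSub.IsQuotient i q) : Red.IsTorus Q := by
  have hcl := GrothLib.QuotTorus14.isClosedImmersion_to_torus (GrothLib.DiagGrp.hasChartsFpqc_of_isTorus hT) hH i
  have hr := GrothLib.QuotTorus14.rel_of_isQuotient i q hq
  obtain ⟨S', π, h1, h2, h3, h4⟩ := hT
  refine ⟨S', π, h1, h2, h3, fun s' => ?_⟩
  obtain ⟨U, hU, r, e⟩ := h4 s'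
  obtain ⟨V, hV, r', -, e'⟩ := GrothLib.QuotTorus14.exists_split_near π i hcl hH q hq.2.1 hq.1 hq.2.2.1 hr U s' hU r e
  exact ⟨V, hV, r', e'⟩

end Groth.Agent.S16615
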