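import Groth.Statements.S16616
import Groth.Agent.Lib.QuotTorus14.Global

set_option autoImplicit false
open CategoryTheory MonoidalCategory CartesianMonoidalCategory MonObj GrpObj AlgebraicGeometry
universe u
open SGA3x

namespace Groth.Agent.S16616

/-- Over an arbitrary scheme S, let T be a locally split S-torus (Zariski-locally on S isomorphic to
split tori), H a subgroup scheme of T of (finite) multiplicative type and q : T ⟶ Q a homomorphism
presenting Q as the fppf quotient T/H. Then Q is a locally split torus. -/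
theorem result {S : Scheme.{u}} {T H Q : Over S} [GrpObj T]
    [GrpObj H] [GrpObj Q] (hT : (∀ s : ↥S, ∃ U : S.Opens, s ∈ U ∧ ∃ r : ℕ, Red.IsSplitTorusWith (Fin r → ℤ) (Red.bc U.ι T)))
    (i : H ⟶ T) [IsMonHom i] [Mono i] (hH : SGA3x.IsMultTypeFT H) (q : T ⟶ Q) [IsMonHom q]
    (hq : RedSub.IsQuotient i q) :
    (∀ s : ↥S, ∃ U : S.Opens, s ∈ U ∧ ∃ r : ℕ, Red.IsSplitTorusWith (Fin r → ℤ) (Red.bc U.ι Q)) := by
  have hcl := GrothLib.QuotTorus14.isClosedImmersion_to_torus
    (GrothLib.QuotTorus14.hasChartsFpqc_of_locallySplit hT) hH i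
  have hr := GrothLib.QuotTorus14.rel_of_isQuotient i q hq
  intro s
  obtain ⟨U, hU, r, e⟩ := hT s
  have key : ∀ (g : (U : Scheme.{u}) ⟶ S), g = U.ι → Red.IsSplitTorusWith (Fin r → ℤ) (Red.bc g T) := fun g hg => hg ▸ e
  obtain ⟨V, hV, r', -, e'⟩ := GrothLib.QuotTorus14.exists_split_near (𝟙 S) i hcl hH q hq.2.1 hq.1 hq.2.2.1 hr U s hU r
    (key _ (Category.comp_id _))
  refine ⟨V, hV, r', ?_⟩
  have key' : ∀ (g : (V : Scheme.{u}) ⟶ S), g = V.ι → Red.IsSplitTorusWith (Fin r' → ℤ) (Red.bc g Q) →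
      Red.IsSplitTorusWith (Fin r' → ℤ) (Red.bc V.ι Q) := fun g hg h => hg ▸ h
  exact key' _ (Category.comp_id _) e' 

end Groth.Agent.S16616
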