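import Groth.Statements.S16619
import Groth.Agent.Lib.AzMod.Centralizer

set_option autoImplicit false
open scoped TensorProduct
universe u
open Brauer

namespace Groth.Agent.S16619

open scoped TensorProduct
open GrothLib MulOpposite

variable {R : Type u} [CommRing R] {A : Type u} [Ring A] [Algebra R A] [IsAzumaya R A]

theorem summand (e : A) (he : IsIdempotentElem e) :
    Module.Finite R (LinearMap.range (LinearMap.mulRight R e)) ∧
      Module.Projective R (LinearMap.range (LinearMap.mulRight R e)) := by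
  let π := (LinearMap.mulRight R e).rangeRestrict
  have hπ : π ∘ₗ (LinearMap.range (LinearMap.mulRight R e)).subtype = LinearMap.id := by
    refine LinearMap.ext fun x => ?_
    obtain ⟨x, a, rfl⟩ := x
    exact Subtype.ext (show a * e * e = a * e by rw [mul_assoc, he.eq])
  exact ⟨Module.Finite.of_surjective π (LinearMap.surjective_rangeRestrict _),
    Module.Projective.of_split _ π hπ⟩

theorem pos [ConnectedSpace (PrimeSpectrum R)] (e : A) (he : IsIdempotentElem e) (h0 : e ≠ 0)
    (p : PrimeSpectrum R) : 0 < Module.rankAtStalk (LinearMap.range (LinearMap.mulRight R e)) p := by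
  obtain ⟨_, _⟩ := summand (R := R) e he
  have := Module.finitePresentation_of_projective R (LinearMap.range (LinearMap.mulRight R e))
  refine Nat.pos_of_ne_zero fun h => h0 ?_
  have := Module.rankAtStalk_eq_zero_iff_subsingleton.1 (funext fun q =>
    (Module.isLocallyConstant_rankAtStalk.apply_eq_of_preconnectedSpace q p).trans h)
  have h1 := congrArg Subtype.val (Subsingleton.elim (⟨e, e, he.eq⟩ : LinearMap.range (LinearMap.mulRight R e)) 0)
  exact h1

theorem faithful [ConnectedSpace (PrimeSpectrum R)] (e : A) (he : IsIdempotentElem e) (h0 : e ≠ 0) :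
    FaithfulSMul R (LinearMap.range (LinearMap.mulRight R e)) := by
  set Q := LinearMap.range (LinearMap.mulRight R e)
  obtain ⟨_, _⟩ := summand (R := R) e he
  let T := LinearMap.range (contractLeft R Q)
  have hT : T = ⊤ := by
    by_contra hne
    obtain ⟨m, hm, hle⟩ := Ideal.exists_le_maximal T hne
    have hQ : (⊤ : Submodule R Q) ≤ m • (⊤ : Submodule R Q) := by
      intro x _
      obtain ⟨n, y, g, hy⟩ := AzMod.exists_dualBasis (R := R) Q
      rw [← hy x]
      exact sum_mem fun i _ => Submodule.smul_mem_smul (hle ⟨g i ⊗ₜ x, rfl⟩) Submodule.mem_top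
    obtain ⟨r, hr, hr0⟩ :=
      Submodule.exists_sub_one_mem_and_smul_eq_zero_of_fg_of_le_smul m ⊤ Module.Finite.fg_top hQ
    obtain ⟨y, hy⟩ := Module.mem_support_iff_exists_annihilator.1
      ((Module.rankAtStalk_pos_iff_mem_support _).1 (pos e he h0 ⟨m, hm.isPrime⟩))
    have hrm : r ∈ m := hy ((Submodule.mem_annihilator_span_singleton _ _).2 (hr0 y Submodule.mem_top))
    exact hm.ne_top ((Ideal.eq_top_iff_one _).2 (by simpa using m.sub_mem hrm hr))
  obtain ⟨t, ht⟩ : (1 : R) ∈ T := hT ▸ Submodule.mem_top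
  refine ⟨fun {r s} h => ?_⟩
  have h2 : ∀ t, r * contractLeft R Q t = s * contractLeft R Q t := by
    intro t
    induction t using TensorProduct.induction_on with
    | zero => simp
    | tmul g y => simpa using congrArg g (h y)
    | add p q hp hq => rw [map_add, mul_add, mul_add, hp, hq]
  simpa [ht] using h2 t

/-- Left multiplication on `A e`. -/
noncomputable def lrep (e : A) : A →ₐ[R] Module.End R (LinearMap.range (LinearMap.mulRight R e)) :=
  AlgHom.ofLinearMap
    { toFun := fun a => (LinearMap.mulLeft R a).restrict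
        (fun x hx => by obtain ⟨b, rfl⟩ := hx; exact ⟨a * b, mul_assoc a b e⟩)
      map_add' := fun a b => LinearMap.ext fun x => Subtype.ext (add_mul a b (x : A))
      map_smul' := fun c a => LinearMap.ext fun x => Subtype.ext (smul_mul_assoc c a (x : A)) }
    (LinearMap.ext fun x => Subtype.ext (one_mul (x : A)))
    (fun a b => LinearMap.ext fun x => Subtype.ext (mul_assoc a b (x : A)))

theorem lrep_apply (e a : A) (x : LinearMap.range (LinearMap.mulRight R e)) :
    (lrep e a x : A) = a * x := rfl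

theorem package {T : Type u} [Ring T] [Algebra R T] [IsAzumaya R T] (F : A →ₐ[R] T)
    (hF : ∀ c : T, IsIdempotentElem c → (∀ a, F a * c = c * F a) → c = 0 ∨ c = 1) :
    ∃ (B : Type u) (_ : Ring B) (_ : Algebra R B) (_ : IsAzumaya R B) (P : Type u) (_ : AddCommGroup P)
      (_ : Module R P), (∀ b : B, IsIdempotentElem b → b = 0 ∨ b = 1) ∧ Module.Finite R P ∧
      Module.Projective R P ∧ FaithfulSMul R P ∧ Nonempty (A ⊗[R] Module.End R P ≃ₐ[R] B ⊗[R] T) := by
  obtain ⟨hbij, hC⟩ := AzMod.centralizer_isAzumaya (R := R) F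
  let C := Subalgebra.centralizer R (Set.range F)
  have := AzMod.isAzumaya_op (R := R) C
  let μ : C ⊗[R] Cᵐᵒᵖ ≃ₐ[R] Module.End R C :=
    AlgEquiv.ofBijective (AlgHom.mulLeftRight R C) IsAzumaya.bij
  refine ⟨Cᵐᵒᵖ, inferInstance, inferInstance, inferInstance, C, inferInstance, inferInstance, ?_,
    inferInstance, inferInstance, inferInstance,
    ⟨(Algebra.TensorProduct.congr AlgEquiv.refl μ.symm).trans
      ((Algebra.TensorProduct.assoc R R R A C Cᵐᵒᵖ).symm.trans
        ((Algebra.TensorProduct.congr (AlgEquiv.ofBijective _ hbij) AlgEquiv.refl).trans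
          (Algebra.TensorProduct.comm R T Cᵐᵒᵖ)))⟩⟩
  intro b hb
  obtain ⟨c, rfl⟩ : ∃ c, op c = b := ⟨unop b, op_unop b⟩
  have hc : IsIdempotentElem c := MulOpposite.op_injective hb
  rcases hF c (congrArg Subtype.val hc) fun a => (Subalgebra.mem_centralizer_iff R).1 c.2 _ ⟨a, rfl⟩ with h | h
  · exact Or.inl (congrArg op (Subtype.ext h))
  · exact Or.inr (congrArg op (Subtype.ext h))

/-- Let R be a connected commutative ring. Then every class of the Brauer group of R is represented by
an Azumaya algebra B with idemp(B) = {0, 1}: for every Azumaya R-algebra A there are such a B and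
faithfully projective R-modules P, Q with A ⊗_R End_R(P) ≅ B ⊗_R End_R(Q) as R-algebras. -/
theorem result {R : Type u} [CommRing R]
    [ConnectedSpace (PrimeSpectrum R)] (A : Type u) [Ring A] [Algebra R A] [IsAzumaya R A] :
    ∃ (B : Type u) (_ : Ring B) (_ : Algebra R B) (_ : IsAzumaya R B) (P Q : Type u) (_ : AddCommGroup P)
      (_ : Module R P) (_ : AddCommGroup Q) (_ : Module R Q),
      (∀ b : B, IsIdempotentElem b → b = 0 ∨ b = 1) ∧ Module.Finite R P ∧ Module.Projective R P ∧
      FaithfulSMul R P ∧ Module.Finite R Q ∧ Module.Projective R Q ∧ FaithfulSMul R Q ∧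
      Nonempty (A ⊗[R] Module.End R P ≃ₐ[R] B ⊗[R] Module.End R Q) := by
  classical
  obtain ⟨p₀⟩ : Nonempty (PrimeSpectrum R) := inferInstance
  have : Nontrivial R := p₀.nontrivial
  have : Nontrivial A := (AzMod.algebraMap_injective (R := R) (A := A)).nontrivial
  have hex : ∃ N, ∃ e : A, IsIdempotentElem e ∧ e ≠ 0 ∧
      Module.rankAtStalk (LinearMap.range (LinearMap.mulRight R e)) p₀ = N :=
    ⟨_, 1, IsIdempotentElem.one, one_ne_zero, rfl⟩
  obtain ⟨e, he, he0, hN⟩ := Nat.find_spec hex
  set Q := LinearMap.range (LinearMap.mulRight R e) with hQdef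
  obtain ⟨_, _⟩ := summand (R := R) e he
  have := faithful (R := R) e he he0
  have := Azu.isAzumaya_end R Q
  have hN' : Module.rankAtStalk Q p₀ = Nat.find hex := hN
  suffices hF : ∀ c : Module.End R Q, IsIdempotentElem c →
      (∀ a, lrep (R := R) e a * c = c * lrep (R := R) e a) → c = 0 ∨ c = 1 by
    obtain ⟨B, i₁, i₂, i₃, P, i₄, i₅, hB, i₆, i₇, i₈, hiso⟩ := package (T := Module.End R Q) (lrep (R := R) e) hF
    exact ⟨B, i₁, i₂, i₃, P, Q, i₄, i₅, inferInstance, inferInstance, hB, i₆, i₇, i₈, inferInstance,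
      inferInstance, inferInstance, hiso⟩
  intro c hc hcc
  let f : A := (c ⟨e, e, he.eq⟩ : A)
  have hcomm : ∀ (a : A) (x : Q), (c (lrep e a x) : A) = a * (c x : A) := by
    intro a x
    have h := LinearMap.congr_fun (hcc a) x
    exact (congrArg Subtype.val h).symm
  have hcx : ∀ x : Q, (c x : A) = (x : A) * f := by
    intro x
    have hx : x = lrep e (x : A) ⟨e, e, he.eq⟩ := Subtype.ext (by
      obtain ⟨x, a, rfl⟩ := x
      show a * e = a * e * e
      rw [mul_assoc, he.eq])
    conv_lhs => rw [hx]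
    exact hcomm _ _
  have hfe : f * e = f := by
    obtain ⟨a, ha⟩ := (c ⟨e, e, he.eq⟩).2
    show f * e = f
    rw [show f = a * e from ha.symm, mul_assoc, he.eq]
  have hef : e * f = f := (hcx ⟨e, e, he.eq⟩).symm
  have hff : f * f = f := by
    rw [← hcx (c ⟨e, e, he.eq⟩), ← Module.End.mul_apply, hc.eq]
  by_cases hf0 : f = 0
  · left
    refine LinearMap.ext fun x => Subtype.ext ?_
    rw [hcx, hf0, mul_zero]; rfl
  by_cases hf1 : f = e
  · right
    refine LinearMap.ext fun x => Subtype.ext ?_
    rw [hcx, hf1]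
    obtain ⟨x, a, rfl⟩ := x
    show a * e * e = a * e
    rw [mul_assoc, he.eq]
  exfalso
  have hg : IsIdempotentElem (e - f) := by
    show (e - f) * (e - f) = e - f
    rw [sub_mul, mul_sub, mul_sub, he.eq, hef, hfe, hff, sub_self, sub_zero]
  have hg0 : e - f ≠ 0 := fun h => hf1 (sub_eq_zero.1 h).symm
  set Q₁ := LinearMap.range (LinearMap.mulRight R f)
  set Q₂ := LinearMap.range (LinearMap.mulRight R (e - f))
  obtain ⟨_, _⟩ := summand (R := R) f hff
  obtain ⟨_, _⟩ := summand (R := R) (e - f) hg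
  let d : Q ≃ₗ[R] Q₁ × Q₂ := LinearEquiv.ofLinearMap
    (((LinearMap.mulRight R f).rangeRestrict ∘ₗ Q.subtype).prod
      ((LinearMap.mulRight R (e - f)).rangeRestrict ∘ₗ Q.subtype))
    (LinearMap.codRestrict Q (Q₁.subtype.coprod Q₂.subtype) fun x => by
      obtain ⟨⟨x, a, rfl⟩, ⟨y, b, rfl⟩⟩ := x
      refine ⟨a * f + b * (e - f), ?_⟩
      show (a * f + b * (e - f)) * e = a * f + b * (e - f)
      rw [add_mul, mul_assoc, mul_assoc, hfe, sub_mul, he.eq, hfe])
    (LinearMap.ext fun x => by
      obtain ⟨⟨x, a, rfl⟩, ⟨y, b, rfl⟩⟩ := x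
      refine Prod.ext (Subtype.ext ?_) (Subtype.ext ?_)
      · show (a * f + b * (e - f)) * f = a * f
        rw [add_mul, mul_assoc, mul_assoc, hff, sub_mul, hef, hff, sub_self, mul_zero, add_zero]
      · show (a * f + b * (e - f)) * (e - f) = b * (e - f)
        rw [add_mul, mul_assoc, mul_assoc, hg.eq, mul_sub, hfe, hff, sub_self, mul_zero, zero_add])
    (LinearMap.ext fun x => by
      obtain ⟨x, a, rfl⟩ := x
      refine Subtype.ext ?_
      show a * e * f + a * e * (e - f) = a * e
      rw [← mul_add, add_sub_cancel, mul_assoc, he.eq])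
  have h1 := congr_fun (Module.rankAtStalk_eq_of_equiv d) p₀
  rw [Module.rankAtStalk_prod Q₁ Q₂, Pi.add_apply] at h1
  have h2 : Nat.find hex ≤ Module.rankAtStalk Q₁ p₀ := Nat.find_min' hex ⟨f, hff, hf0, rfl⟩
  have h3 : 0 < Module.rankAtStalk (R := R) Q₂ p₀ := pos (R := R) (e - f) hg hg0 p₀
  rw [hN'] at h1
  exact absurd h1 (ne_of_lt (lt_of_le_of_lt h2 (Nat.lt_add_of_pos_right h3)))

end Groth.Agent.S16619
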