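import Groth.Statements.S16625
import Groth.Agent.Lib.RegSheaf.PushK
import Groth.Agent.Lib.RegSheaf.ProjK
import Groth.Agent.Lib.EulerConst10.Main
import Groth.Agent.Lib.BCCrit.Points
import Groth.Agent.Lib.OX.OneDegLocus
import Groth.Agent.Lib.FunMor20.CohInd

set_option autoImplicit false
universe u
open FGA

namespace Groth.Agent.S16625

set_option backward.isDefEq.respectTransparency false

open AlgebraicGeometry CategoryTheory CategoryTheory.Limits in
/-- Let S be a Noetherian scheme with projective n-space π : P^n_S → S, Q a coherent module on P^n_S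
which is flat over S, and m > 0 an integer such that for every point s of S the restriction Q_s of Q
to the fibre P^n_S ×_S Spec κ(s) is m-regular: H^i of the restriction of Q(m - i) = Q ⊗ O(m - i) to
that fibre vanishes for every i ≥ 1. Then for every integer d ≥ m: (1) π_*(Q(d)) is a finite locally
free O_S-module; (2) R^i π_*(Q(d)) = 0 for every i ≥ 1 (higher direct images of the underlying
abelian sheaf); (3) the counit π^*π_*(Q(d)) → Q(d) is an epimorphism. (The source's (1) also says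
that the formation of π_*(Q(d)) commutes with arbitrary base change T → S; that clause is not
recorded here.) -/
theorem result (S : Scheme.{u}) [IsNoetherian S] (n : ℕ)
    (Q : (CohB1.ProjSpaceOver n S).Modules) (hQ : Coh.IsCoh Q)
    (hflat : FlatMod.IsFlatOver (CohB1.ProjSpaceOver.toBase n S) Q) (m : ℤ) (hm : 0 < m)
    (hreg : ∀ (s : S) (i : ℕ), 1 ≤ i →
      Subsingleton (Coh.HH (pullback (CohB1.ProjSpaceOver.toBase n S) (S.fromSpecResidueField s))
        ((Scheme.Modules.pullback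
            (pullback.fst (CohB1.ProjSpaceOver.toBase n S) (S.fromSpecResidueField s))).obj
          (CohB1.tensorMod Q (Twist.twistOver n S (m - i)))) i))
    (d : ℤ) (hd : m ≤ d) :
    FlatMod.IsFinLocFree ((Coh.push (CohB1.ProjSpaceOver.toBase n S)).obj
        (CohB1.tensorMod Q (Twist.twistOver n S d))) ∧
      (∀ i : ℕ, 1 ≤ i → IsZero ((Coh.RpushAb (CohB1.ProjSpaceOver.toBase n S) i).obj
        (Coh.toAb (CohB1.tensorMod Q (Twist.twistOver n S d))))) ∧
      Epi ((Scheme.Modules.pullbackPushforwardAdjunction (CohB1.ProjSpaceOver.toBase n S)).counit.app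
        (CohB1.tensorMod Q (Twist.twistOver n S d))) := by
  haveI : EnoughInjectives (KRR.PY n S).Modules :=
    GrothLib.SheafCoh.enoughInjectives_sheafOfModules (KRR.PY n S).ringCatSheaf
  haveI : IsProper (KRR.pr n S) := GrothLib.RegSheaf.isProper_pr
  haveI := LocallyOfFiniteType.isLocallyNoetherian (KRR.pr n S)
  haveI : CompactSpace (KRR.PY n S) := QuasiCompact.compactSpace_of_compactSpace (KRR.pr n S)
  haveI : IsNoetherian (KRR.PY n S) := ⟨⟩
  have hinv := fun e : ℤ => GrothLib.RegSheaf.isInvertible_twistOver (n := n) (Y := S) e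
  have hcoh : ∀ e : ℤ, Coh.IsCoh (CohB1.tensorMod Q (Twist.twistOver n S e)) := fun e =>
    GrothLib.CMReg.isCoh_tensorMod hQ (hinv e)
  have hfp : ∀ e : ℤ, CohB1.IsFP (CohB1.tensorMod Q (Twist.twistOver n S e)) := fun e =>
    GrothLib.FunMor20.isFP_of_isCoh (hcoh e)
  have hfl : ∀ e : ℤ, FlatMod.IsFlatOver (KRR.pr n S) (CohB1.tensorMod Q (Twist.twistOver n S e)) :=
    fun e => GrothLib.EulerConst10.isFlatOver_tF (KRR.pr n S) (hinv e) hflat
  have comm : ∀ e : ℤ, CohB1.tensorMod Q (Twist.twistOver n S e) ≅ KRR.twF n S e Q := fun e =>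
    GrothLib.GrTilde.tensorModComm Q (Twist.twistOver n S e)
  have hzero : ∀ i : ℕ, 1 ≤ i → GrothLib.RegSheaf.Van (KRR.pr n S)
      (CohB1.tensorMod Q (Twist.twistOver n S (m - i))) i := by
    intro i hi
    haveI : (CohB1.tensorMod Q (Twist.twistOver n S (m - i))).IsQuasicoherent := (hcoh _).1
    refine GrothLib.RegSheaf.van_of_isZero_Rpush _ _ i (GrothLib.OX.isZero_of_local fun s => ?_)
    obtain ⟨U, hsU, ⟨e⟩, -⟩ := GrothLib.BCCrit.exists_zero_near (hfp _) (hfl _) i s
      ((GrothLib.BCCrit.subsingleton_fiberH_iff (hfp _) (hfl _) i s).1 (hreg s i hi))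
    exact ⟨↑U, U.ι, inferInstance, ⟨⟨s, hsU⟩, rfl⟩, (GrothLib.BCCrit.isZero_freeMod_zero _).of_iso e⟩
  have hR : KRR.IsRegSheaf n S (KRR.twF n S m Q) := by
    intro i hi
    obtain ⟨e⟩ := GrothLib.RegSheaf.nonempty_twF_twF (n := n) (T := S) (a := -(i : ℤ)) (b := m)
      (c := m - i) (by omega) Q
    exact GrothLib.RegSheaf.van_of_iso (KRR.pr n S) (comm (m - i) ≪≫ e.symm) (hzero i hi)
  obtain ⟨k, hk⟩ : ∃ k : ℕ, d = (k : ℤ) + m := ⟨(d - m).toNat, by omega⟩
  obtain ⟨e⟩ := GrothLib.RegSheaf.nonempty_twF_twF (n := n) (T := S) (a := (k : ℤ)) (b := m)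
    (c := d) hk.symm Q
  have hD : KRR.IsRegSheaf n S (CohB1.tensorMod Q (Twist.twistOver n S d)) :=
    GrothLib.RegSheaf.isRegSheaf_of_iso (e ≪≫ (comm d).symm) (GrothLib.RegSheaf.isRegSheaf_twF_nat hR k)
  have hvan : ∀ i : ℕ, 1 ≤ i → GrothLib.RegSheaf.Van (KRR.pr n S)
      (CohB1.tensorMod Q (Twist.twistOver n S d)) i := fun i hi =>
    GrothLib.RegSheaf.van_zero_twist hD hi
  haveI : (CohB1.tensorMod Q (Twist.twistOver n S d)).IsQuasicoherent := (hcoh d).1
  refine ⟨fun y => ?_, hvan, GrothLib.RegSheaf.epi_counit hD⟩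
  obtain ⟨U, r, hyU, hφ, -⟩ := GrothLib.BCCrit.exists_free_near0 (hfp d) (hfl d) y
    (GrothLib.RegSheaf.goodAll_of_van (fun q hq => hvan q hq) y)
  exact ⟨U, r, hyU, hφ⟩

end Groth.Agent.S16625
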