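import Groth.Statements.S16629
-- import your own Groth.Agent.* helpers here
import Groth.Agent.Lib.GrassSch26.Pluecker

set_option autoImplicit false
universe u
open Grass

set_option backward.isDefEq.respectTransparency false
set_option linter.style.haveILetI false

noncomputable section

open GrothLib

open CategoryTheory CategoryTheory.Limits AlgebraicGeometry

namespace GrothAux.S16629

open GrothLib.GrassSch26 GrothLib.RepLocal
open GrothLib.ExtPowX (wedge)
open GrothLib.QCoh (stalkLin stalkLin_comp)
open GrothLib.QuotTan26 (sK sK_imageSubobject eq_of_sK_eq)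

variable {S : Scheme.{u}} {V : S.Modules} {r : ℕ}

/-- The trivial base change of a scheme over the base. -/
abbrev XO (T : Over S) : Over S := Over.mk (pullback.fst (𝟙 S) T.hom)

/-- Projection from the trivial base change. -/
def psi (T : Over S) : XO T ⟶ T :=
  Over.homMk (pullback.snd (𝟙 S) T.hom) (pullback.condition.symm.trans (Category.comp_id _))

/-- Section of the trivial base change. -/
def sig (T : Over S) : T ⟶ XO T :=
  Over.homMk (pullback.lift T.hom (𝟙 _) (by simp)) (pullback.lift_fst _ _ _)

theorem psi_sig (T : Over S) : psi T ≫ sig T = 𝟙 _ := by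
  refine Over.OverMorphism.ext (pullback.hom_ext ?_ ?_)
  · show (pullback.snd (𝟙 S) T.hom ≫ pullback.lift T.hom (𝟙 _) _) ≫ pullback.fst _ _ = 𝟙 _ ≫ pullback.fst _ _
    rw [Category.assoc, pullback.lift_fst, Category.id_comp, ← pullback.condition, Category.comp_id]
  · show (pullback.snd (𝟙 S) T.hom ≫ pullback.lift T.hom (𝟙 _) _) ≫ pullback.snd _ _ = 𝟙 _ ≫ pullback.snd _ _
    rw [Category.assoc, pullback.lift_snd, Category.id_comp, Category.comp_id]

theorem sig_psi (T : Over S) : sig T ≫ psi T = 𝟙 _ :=
  Over.OverMorphism.ext (pullback.lift_snd _ _ _)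

/-- Base change of a morphism. -/
def xg {T T' : Over S} (g : T' ⟶ T) : XO T' ⟶ XO T :=
  Over.homMk (PicF.XTmap (𝟙 S) g) (FGA.XTmap_fst (𝟙 S) g)

theorem xg_psi {T T' : Over S} (g : T' ⟶ T) : xg g ≫ psi T = psi T' ≫ g :=
  Over.OverMorphism.ext (pullback.lift_snd _ _ _)

theorem quotPull_eq {T T' : Over S} (g : T' ⟶ T) (x : Obj V r (XO T)) :
    FGA.quotPull (𝟙 S) V g x.1 = (omap (xg g) x).1 := by
  let F := Scheme.Modules.pullback (PicF.XTmap (𝟙 S) g)
  have hFw : F.map x.1.arrow ≫ F.map (cokernel.π x.1.arrow) = 0 := by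
    rw [← F.map_comp, cokernel.condition, F.map_zero]
  have hex : (ShortComplex.mk _ _ hFw).Exact := by
    refine ShortComplex.exact_of_g_is_cokernel _ ?_
    exact CokernelCofork.mapIsColimit _ (cokernelIsCokernel x.1.arrow) F
  let e := FGA.ETiso (𝟙 S) V g
  have hbc : bc (xg g) (cokernel.π x.1.arrow) = e.inv ≫ F.map (cokernel.π x.1.arrow) := by
    simp [e, FGA.ETiso, bc, Grass.quotBC, F]
    rfl
  refine eq_of_sK_eq fun z => Submodule.ext fun v => ?_
  refine Iff.trans ?_ (mem_sK_ker_iff (bc (xg g) (cokernel.π x.1.arrow)) z v).symm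
  rw [FGA.quotPull, sK_imageSubobject, hbc]
  constructor
  · rintro ⟨w, rfl⟩
    rw [stalkLin_comp, stalkLin_comp]
    refine (congrArg _ (stalkLin_iso_symm e z _)).trans ?_
    rw [← stalkLin_comp, hFw]
    exact LinearMap.congr_fun (congrArg ModuleCat.Hom.hom ((OX.stalk z).map_zero _ _)) w
  · intro hv
    rw [stalkLin_comp] at hv
    obtain ⟨w, hw⟩ := (ShortComplex.moduleCat_exact_iff _).1 (hex.map (OX.stalk z)) _ hv
    refine ⟨w, ?_⟩
    rw [stalkLin_comp]
    exact (congrArg (stalkLin e.hom z) hw).trans (stalkLin_iso_symm e.symm z v)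

theorem quotBC_precomp {T G : Scheme.{u}} {π : G ⟶ S} {Q : G.Modules} {h : T ⟶ G} {g : T ⟶ S} (hg : h ≫ π = g)
    {E E' : S.Modules} (w : E' ⟶ E) (q : (Scheme.Modules.pullback π).obj E ⟶ Q) :
    Grass.quotBC hg ((Scheme.Modules.pullback π).map w ≫ q) =
      (Scheme.Modules.pullback g).map w ≫ Grass.quotBC hg q := by
  simp only [Grass.quotBC, Functor.map_comp]
  rw [(Scheme.Modules.pullbackCongr hg).inv.naturality_assoc w]
  erw [(Scheme.Modules.pullbackComp h π).inv.naturality_assoc w]
  rfl

theorem isGrass_of_iso {E E' : S.Modules} (i : E' ≅ E) {P : Scheme.{u}} {π : P ⟶ S} {Q : P.Modules}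
    {q : (Scheme.Modules.pullback π).obj E ⟶ Q} (h : Grass.IsGrass π E r Q q) :
    Grass.IsGrass π E' r Q ((Scheme.Modules.pullback π).map i.hom ≫ q) where
  rank := h.rank
  epi := by
    haveI := h.epi
    exact epi_comp' inferInstance inferInstance
  univ T g L hL s hs := by
    haveI := hs
    obtain ⟨b, ⟨hb, e, he⟩, hu⟩ := h.univ T g L hL ((Scheme.Modules.pullback g).map i.inv ≫ s)
      (epi_comp' inferInstance inferInstance)
    refine ⟨b, ⟨hb, e, ?_⟩, fun b' ⟨hb', e', he'⟩ => hu b' ⟨hb', e', ?_⟩⟩
    · rw [quotBC_precomp, Category.assoc, he, ← Category.assoc, ← Functor.map_comp, i.hom_inv_id,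
        CategoryTheory.Functor.map_id, Category.id_comp]
    · rw [← he', quotBC_precomp]
      simp only [Category.assoc]
      rw [← Functor.map_comp_assoc (Scheme.Modules.pullback g) i.inv i.hom, i.inv_hom_id, CategoryTheory.Functor.map_id,
        Category.id_comp]

end GrothAux.S16629

namespace Groth.Agent.S16629

open AlgebraicGeometry CategoryTheory CategoryTheory.Limits in
/-- Let S be a Noetherian scheme, V a finite locally free O_S-module of rank n, and 0 < q < n. The
Grassmannian functor Gr(q, V) — sending an S-scheme T to the set of submodules K of V_T (the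
pullback of V to S ×_S T) whose quotient V_T/K is finite locally free of rank q, with pullback of
submodules as transition maps — is represented by an S-scheme G carrying a universal such submodule;
and for every O_S-module L that is a q-th exterior power of V and every projective bundle π : P → S
of L (an invertible quotient O_P(1) of π^*L with the universal property for invertible quotients of
pullbacks of L), there is a closed immersion G → P over S. (In the source the closed immersion is
the Plücker morphism sending a quotient to its top exterior power; here it is only asserted to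
exist.) -/
theorem result (S : Scheme.{u}) [IsNoetherian S]
    (n q : ℕ) (hq : 0 < q) (hqn : q < n) (V : S.Modules) (hV : FlatMod.IsFinLocFreeOfRank n V) :
    ∃ (G : Over S) (K : Subobject (FGA.ET (𝟙 S) V G)),
      FlatMod.IsFinLocFreeOfRank q (cokernel K.arrow) ∧
      (∀ (T : Over S) (K' : Subobject (FGA.ET (𝟙 S) V T)),
        FlatMod.IsFinLocFreeOfRank q (cokernel K'.arrow) → ∃! g : T ⟶ G, FGA.quotPull (𝟙 S) V g K = K') ∧
      (∀ (L : S.Modules), ExtPow.IsExtPow q V L →
        ∀ (P : Scheme.{u}) (π : P ⟶ S) (O1 : P.Modules) (u : (Scheme.Modules.pullback π).obj L ⟶ O1),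
          KRR.IsProjBundle π L O1 u →
            ∃ c : G.left ⟶ P, IsClosedImmersion c ∧ c ≫ π = G.hom) := by
  have hV' : FlatMod.IsFinLocFree V := FinCov.isFinLocFree_of_rank hV
  haveI : V.IsQuasicoherent := (Euler.isCoh_of_isFinLocFree hV').1
  haveI : (ExtPowX.wedge V q).IsQuasicoherent :=
    (Euler.isCoh_of_isFinLocFree (ExtPowX.isFinLocFree_wedge hV' q)).1
  obtain ⟨G, π, Q, s, hG⟩ := GrassSch26.exists_isGrass V q
  let M : Over S := Over.mk π
  let m : GrassSch26.Obj V q M := GrassSch26.mkQ (T := M) s hG.epi hG.rank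
  have hm : ∀ (T : Over S) (x : GrassSch26.Obj V q T), ∃! a : T ⟶ M, GrassSch26.omap a m = x :=
    GrassSch26.rep_of_isGrass hG
  let K := GrassSch26.omap (GrothAux.S16629.psi M) m
  refine ⟨M, K.1, K.2, fun T K' hK' => ?_, fun L hL P p O1 u hu => ?_⟩
  · let x : GrassSch26.Obj V q (GrothAux.S16629.XO T) := ⟨K', hK'⟩
    obtain ⟨a, ha, hau⟩ := hm T (GrassSch26.omap (GrothAux.S16629.sig T) x)
    refine ⟨a, ?_, fun b hb => hau b ?_⟩
    · show FGA.quotPull (𝟙 S) V a K.1 = K'
      rw [GrothAux.S16629.quotPull_eq, ← GrassSch26.omap_comp, GrothAux.S16629.xg_psi, GrassSch26.omap_comp, ha,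
        ← GrassSch26.omap_comp, GrothAux.S16629.psi_sig, GrassSch26.omap_id]
    · have hb' : GrassSch26.omap (GrothAux.S16629.xg b) K = x :=
        Subtype.ext ((GrothAux.S16629.quotPull_eq b K).symm.trans hb)
      show GrassSch26.omap b m = _
      simp only [K] at hb'
      rw [← hb', ← GrassSch26.omap_comp (GrothAux.S16629.psi M), GrothAux.S16629.xg_psi,
        ← GrassSch26.omap_comp, ← Category.assoc, GrothAux.S16629.sig_psi, Category.id_comp]
  · obtain ⟨i⟩ := ExtPowX.nonempty_iso (ExtPowX.isExtPow_wedge hV' q) hL (Iso.refl V)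
    obtain ⟨c, hc⟩ := GrassSch26.exists_closedImmersion hm
      (GrassSch26.rep_of_isGrass (GrothAux.S16629.isGrass_of_iso i (Grass.IsGrass.of_isProjBundle hu)))
    exact ⟨c.left, hc, Over.w c⟩

end Groth.Agent.S16629
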