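import Groth.Statements.S1663
import Groth.Agent.Lib.AffCompl.Local
import Groth.Agent.Lib.RelVanish.Basic
-- import your own Groth.Agent.* helpers here

set_option autoImplicit false
universe u
open CategoryTheory CategoryTheory.Limits AlgebraicGeometry
open Variety

namespace Groth.Agent.S1663

/-- An open with finitely generated complement ideal is principal near a prime of height at most one. -/
theorem exists_eq_basicOpen_near {A : Type u} [CommRing A] (p : PrimeSpectrum A) (I : Ideal A) (hI : I.FG)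
    (B : Type u) [CommRing B] [Algebra A B] [IsLocalization.AtPrime B p.asIdeal] [IsLocalRing B]
    [IsNoetherianRing B] (hB : ringKrullDim B ≤ 1) :
    ∃ h a : A, h ∉ p.asIdeal ∧ ∀ q : PrimeSpectrum A, h ∉ q.asIdeal →
      (¬ I ≤ q.asIdeal ↔ a ∉ q.asIdeal) := by
  classical
  let J : Ideal B := I.map (algebraMap A B)
  obtain ⟨t, ht⟩ := GrothLib.AffCompl.exists_eq_basicOpen (CommRingCat.of B) hB
    (⟨(PrimeSpectrum.zeroLocus (J : Set B))ᶜ, (PrimeSpectrum.isClosed_zeroLocus _).isOpen_compl⟩ :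
      (Spec (CommRingCat.of B)).Opens)
  have hrad : J.radical = (Ideal.span {t}).radical := by
    rw [← PrimeSpectrum.zeroLocus_eq_iff, PrimeSpectrum.zeroLocus_span]
    have h : (PrimeSpectrum.zeroLocus (J : Set B))ᶜ = (PrimeSpectrum.zeroLocus ({t} : Set B))ᶜ := by
      rw [← PrimeSpectrum.basicOpen_eq_zeroLocus_compl]; exact ht
    exact compl_inj_iff.mp h
  obtain ⟨a, s, rfl⟩ := IsLocalization.exists_mk'_eq p.asIdeal.primeCompl t
  have hu : IsUnit (algebraMap A B s) := IsLocalization.map_units B s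
  have hspan : Ideal.span {IsLocalization.mk' B a s} = (Ideal.span {a}).map (algebraMap A B) := by
    rw [Ideal.map_span, Set.image_singleton, ← IsLocalization.mk'_spec B a s, Ideal.span_singleton_mul_right_unit hu]
  rw [hspan] at hrad
  have key : ∀ (K L : Ideal A), K.FG → (K.map (algebraMap A B)) ≤ (L.map (algebraMap A B)).radical →
      ∃ h : A, h ∉ p.asIdeal ∧ ∀ q : PrimeSpectrum A, h ∉ q.asIdeal → L ≤ q.asIdeal → K ≤ q.asIdeal := by
    rintro K L ⟨S, rfl⟩ hle
    have hb : ∀ x : A, x ∈ S → ∃ n : ℕ, ∃ h : A, h ∉ p.asIdeal ∧ h * x ^ n ∈ L := by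
      intro x hx
      obtain ⟨n, hn⟩ := hle (Ideal.mem_map_of_mem _ (Ideal.subset_span hx))
      rw [← map_pow] at hn
      obtain ⟨h, hh, hmem⟩ := (IsLocalization.algebraMap_mem_map_algebraMap_iff p.asIdeal.primeCompl B L _).mp hn
      exact ⟨n, h, hh, hmem⟩
    choose! n h hh hmem using hb
    refine ⟨∏ x ∈ S, h x, fun hc => ?_, fun q hq hL => Ideal.span_le.mpr fun x hx => ?_⟩
    · obtain ⟨x, hx, hxp⟩ := (Ideal.IsPrime.prod_mem_iff (hp := p.isPrime)).mp hc
      exact hh x hx hxp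
    · rcases q.isPrime.mem_or_mem (hL (hmem x hx)) with h1 | h1
      · exact absurd (Ideal.mem_of_dvd q.asIdeal (Finset.dvd_prod_of_mem h hx) h1) hq
      · exact q.isPrime.mem_of_pow_mem _ h1
  obtain ⟨h1, hh1, H1⟩ := key I (Ideal.span {a}) hI (hrad ▸ Ideal.le_radical)
  obtain ⟨h2, hh2, H2⟩ := key (Ideal.span {a}) I (Submodule.fg_span_singleton a) (hrad ▸ Ideal.le_radical)
  refine ⟨h1 * h2, a, fun hc => (p.isPrime.mem_or_mem hc).elim hh1 hh2, fun q hq => not_congr ⟨fun hI' => ?_, fun ha => ?_⟩⟩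
  · exact H2 q (fun hc => hq (q.asIdeal.mul_mem_left _ hc)) hI' (Ideal.mem_span_singleton_self a)
  · exact H1 q (fun hc => hq (q.asIdeal.mul_mem_right _ hc)) ((Ideal.span_singleton_le_iff_mem _).mpr ha)

/-- The inclusion of a retrocompact open of a scheme of dimension at most one is affine. -/
theorem isAffineHom_ι (X : Scheme.{u})
    (hX : ∀ x : X, IsNoetherianRing (X.presheaf.stalk x) ∧ ringKrullDim (X.presheaf.stalk x) ≤ 1)
    (U : X.Opens) [QuasiCompact U.ι] : IsAffineHom U.ι := by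
  refine isAffineHom_of_forall_exists_isAffineOpen _ fun x => ?_
  obtain ⟨_, ⟨V, hV : IsAffineOpen V, rfl⟩, hxV, -⟩ :=
    X.isBasis_affineOpens.exists_subset_of_mem_open (Set.mem_univ x) isOpen_univ
  have hc : IsCompact (((U ⊓ V : X.Opens)) : Set X) := by
    have h := QuasiCompact.isCompact_preimage (f := U.ι) (V : Set X) V.2 hV.isCompact
    have h' := h.image U.ι.continuous
    rwa [Set.image_preimage_eq_range_inter, Scheme.Opens.range_ι] at h'
  obtain ⟨I, hI, hIU⟩ : ∃ I : Ideal Γ(X, V), I.FG ∧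
      (PrimeSpectrum.zeroLocus (I : Set Γ(X, V)))ᶜ = hV.fromSpec ⁻¹' (U : Set X) := by
    refine PrimeSpectrum.isCompact_isOpen_iff_ideal.mp ⟨?_, U.2.preimage hV.fromSpec.continuous⟩
    refine hV.fromSpec.isOpenEmbedding.isInducing.isCompact_iff.mpr ?_
    rw [Set.image_preimage_eq_inter_range, hV.range_fromSpec]
    exact hc
  letI : Algebra Γ(X, V) (X.presheaf.stalk x) := (X.presheaf.germ V x hxV).hom.toAlgebra
  haveI : IsLocalization.AtPrime (X.presheaf.stalk x) (hV.primeIdealOf ⟨x, hxV⟩).asIdeal :=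
    hV.isLocalization_stalk ⟨x, hxV⟩
  haveI := (hX x).1
  obtain ⟨h, a, hh, H⟩ := exists_eq_basicOpen_near (hV.primeIdealOf ⟨x, hxV⟩) I hI (X.presheaf.stalk x) (hX x).2
  have hxh : x ∈ X.basicOpen h := by
    have h' : hV.primeIdealOf ⟨x, hxV⟩ ∈ hV.fromSpec ⁻¹ᵁ X.basicOpen h := by
      rw [hV.fromSpec_preimage_basicOpen]; exact hh
    rw [show x = hV.fromSpec (hV.primeIdealOf ⟨x, hxV⟩) from (hV.fromSpec_primeIdealOf ⟨x, hxV⟩).symm]
    exact h'
  refine ⟨X.basicOpen h, hxh, hV.basicOpen h, ?_⟩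
  have e : U ⊓ X.basicOpen h = X.basicOpen (a * h) := by
    rw [X.basicOpen_mul]
    ext y
    simp only [TopologicalSpace.Opens.coe_inf, Set.mem_inter_iff, SetLike.mem_coe]
    refine and_congr_left fun hy => ?_
    obtain ⟨q, rfl⟩ : y ∈ Set.range hV.fromSpec := hV.range_fromSpec ▸ X.basicOpen_le h hy
    have hb : ∀ b : Γ(X, V), hV.fromSpec q ∈ X.basicOpen b ↔ b ∉ q.asIdeal := fun b => by
      change q ∈ hV.fromSpec ⁻¹ᵁ X.basicOpen b ↔ _
      rw [hV.fromSpec_preimage_basicOpen]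
      rfl
    rw [hb, ← H q ((hb h).mp hy)]
    exact (Set.ext_iff.mp hIU q).symm
  rw [← U.ι.isAffineOpen_iff_of_isOpenImmersion, Scheme.Hom.image_preimage_eq_opensRange_inf,
    Scheme.Opens.opensRange_ι, e]
  exact hV.basicOpen _

/-- Let X be a scheme whose local rings are Noetherian of Krull dimension at most one, j : U → X the
inclusion of a retrocompact open (j quasi-compact) and F a quasi-coherent O_U-module. Then R^p j_* F
vanishes for all p > 0. -/
theorem result (X : Scheme.{u})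
    (hX : ∀ x : X, IsNoetherianRing (X.presheaf.stalk x) ∧ ringKrullDim (X.presheaf.stalk x) ≤ 1)
    (U : X.Opens) [QuasiCompact U.ι] [HasInjectiveResolutions (U : Scheme.{u}).Modules]
    (F : (U : Scheme.{u}).Modules) (hF : Coh.IsQCoh F) (p : ℕ) (hp : 0 < p) :
    IsZero ((Coh.Rpush U.ι p).obj F) := by
  haveI := hF
  haveI := isAffineHom_ι X hX U
  obtain ⟨n, rfl⟩ := Nat.exists_eq_succ_of_ne_zero hp.ne'
  exact GrothLib.RelVanish.isZero_Rpush_of_cover U.ι F (n + 1) (fun V : X.affineOpens => V.1) (fun V => V.2)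
    (fun x => by
      obtain ⟨_, ⟨V, hV, rfl⟩, hxV, -⟩ :=
        X.isBasis_affineOpens.exists_subset_of_mem_open (Set.mem_univ x) isOpen_univ
      exact ⟨⟨V, hV⟩, hxV⟩)
    fun V => GrothLib.Cohom.subsingleton_ext_freeFun_of_isAffineOpen (V.2.preimage U.ι) F n

end Groth.Agent.S1663
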