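import Groth.Statements.S1664
import Groth.Agent.Lib.Semiample.Criterion
import Groth.Agent.Lib.Ample.Product

set_option autoImplicit false
universe u
open CategoryTheory CategoryTheory.Limits AlgebraicGeometry
open Variety

namespace Groth.Agent.S1664

open GrothLib.Ample (Cocycle) in
theorem exists_cocycle_of_finset {X : Scheme.{u}} {ι : Type*} (cf : ι → Cocycle X) (a : ∀ i, (cf i).sect 1 ⊤)
    (hgen : ∀ i, ∀ p : X, ∃ b : (cf i).sect 1 ⊤, p ∈ (cf i).locus b) (haff : ∀ i, IsAffineOpen ((cf i).locus (a i)))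
    (t : Finset ι) : ∃ c : Cocycle X, (∀ p : X, ∃ b : c.sect 1 ⊤, p ∈ c.locus b) ∧
      ∀ i ∈ t, ∀ p ∈ (cf i).locus (a i), ∃ b : c.sect 1 ⊤, p ∈ c.locus b ∧ IsAffineOpen (c.locus b) := by
  classical
  induction t using Finset.induction with
  | empty =>
    refine ⟨Cocycle.triv X, fun p => ?_, fun i hi => absurd hi (Finset.notMem_empty i)⟩
    let o : (Cocycle.triv X).sect 1 (⊤ : X.Opens) := ⟨fun _ => 1, fun i j W hi hj => by
      simp [Cocycle.G, show ∀ p q, (Cocycle.triv X).g p q = 1 from fun _ _ => rfl]⟩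
    exact ⟨o, by rw [(Cocycle.triv X).locus_eq_top_of_isUnit o fun _ => isUnit_one]; trivial⟩
  | insert i t _ ih =>
    obtain ⟨c, hc, hca⟩ := ih
    refine ⟨c.prod (cf i), fun p => ?_, fun j hj p hp => ?_⟩
    · obtain ⟨b, hb⟩ := hc p
      obtain ⟨b', hb'⟩ := hgen i p
      exact ⟨c.mulProd (cf i) b b', by rw [Cocycle.locus_mulProd]; exact ⟨hb, hb'⟩⟩
    · rcases Finset.mem_insert.1 hj with rfl | hj
      · obtain ⟨b, hb⟩ := hc p
        exact ⟨c.mulProd (cf j) b (a j), by rw [Cocycle.locus_mulProd]; exact ⟨hb, hp⟩,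
          by rw [Cocycle.locus_mulProd]; exact c.isAffineOpen_locus_inf b (haff j)⟩
      · obtain ⟨b, hb, hba⟩ := hca j hj p hp
        obtain ⟨b', hb'⟩ := hgen i p
        exact ⟨c.mulProd (cf i) b b', by rw [Cocycle.locus_mulProd]; exact ⟨hb, hb'⟩,
          by rw [Cocycle.locus_mulProd, inf_comm]; exact (cf i).isAffineOpen_locus_inf b' hba⟩

/-- Let X be quasi-compact. Suppose every point of X lies in the locus where some global section s of
some globally generated invertible module L generates L, with that locus affine. Then X has an ample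
invertible module. -/
theorem result (X : Scheme.{u}) [CompactSpace X]
    (h : ∀ x : X, ∃ (L : X.Modules) (s : Coh.structureModule X ⟶ L), PicF.IsInvertible L ∧ Curv2.IsGloballyGenerated L ∧
      x ∈ CohB1.genLocus L s ∧ IsAffineOpen (CohB1.genLocus L s)) :
    ∃ M : X.Modules, CohB1.IsAmple M := by
  choose L s hL hgg hmem haff using h
  choose cf e using fun x => GrothLib.Ample.exists_cocycle (hL x)
  choose a ha using fun x => (cf x).exists_sect_of_section (e x).some (s x)
  have hgen : ∀ x, ∀ p : X, ∃ b : (cf x).sect 1 ⊤, p ∈ (cf x).locus b := fun x p => by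
    obtain ⟨ι, t, ht⟩ := GrothLib.Semiample.exists_generatedBy
      (GrothLib.Ample.isGloballyGenerated_of_iso (e x).some (hgg x))
    obtain ⟨i, hi⟩ := TopologicalSpace.Opens.mem_iSup.1 (((cf x).iSup_locus_of_generatedBy (Iso.refl _) t ht).ge (TopologicalSpace.Opens.mem_top p))
    exact ⟨_, hi⟩
  obtain ⟨T, hT⟩ := isCompact_univ.elim_finite_subcover (fun x => ((cf x).locus (a x) : Set X))
    (fun x => ((cf x).locus _).isOpen) (fun x _ => Set.mem_iUnion.2 ⟨x, by
      show x ∈ (cf x).locus (a x)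
      rw [ha x]
      exact hmem x⟩)
  obtain ⟨c, -, hc⟩ := exists_cocycle_of_finset cf a hgen (fun x => (ha x).symm ▸ haff x) T
  refine ⟨c.twist 1, (c.isAmple_iff (Iso.refl _)).2 ⟨inferInstance, fun p => ?_⟩⟩
  obtain ⟨x, hx, hpx⟩ := Set.mem_iUnion₂.1 (hT (Set.mem_univ p))
  exact ⟨0, hc x hx p hpx⟩

end Groth.Agent.S1664
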