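import Groth.Statements.S16644
import Mathlib

set_option autoImplicit false
open QuadZ

namespace Groth.Agent.S16644

/-- For odd n, the discriminant of the universal quadratic form Σ_{i ≤ j} A_{ij} x_i x_j in n variables
(variables A_{ij} indexed by unordered pairs), i.e. the determinant of the symmetric matrix with
diagonal entries 2 A_{ii} and off-diagonal entries A_{ij}, is divisible by 2 in the integral
polynomial ring ℤ[A_{ij}] (so the half-discriminant is an integral polynomial). -/
theorem result (n : ℕ) (hn : Odd n) :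
    (2 : MvPolynomial (Sym2 (Fin n)) ℤ) ∣
      (Matrix.of fun i j : Fin n =>
        if i = j then 2 * MvPolynomial.X (R := ℤ) (σ := Sym2 (Fin n)) (Sym2.mk i j)
        else MvPolynomial.X (R := ℤ) (σ := Sym2 (Fin n)) (Sym2.mk i j)).det := by
  classical
  rw [show (2 : MvPolynomial (Sym2 (Fin n)) ℤ) = MvPolynomial.C ((2 : ℕ) : ℤ) by norm_num,
    MvPolynomial.C_dvd_iff_map_hom_eq_zero (Int.castRingHom (ZMod 2)) _
      (fun r => (ZMod.intCast_zmod_eq_zero_iff_dvd r 2)), RingHom.map_det]
  set M := (MvPolynomial.map (Int.castRingHom (ZMod 2))).mapMatrix (Matrix.of fun i j : Fin n =>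
    if i = j then 2 * MvPolynomial.X (R := ℤ) (σ := Sym2 (Fin n)) (Sym2.mk i j)
    else MvPolynomial.X (R := ℤ) (σ := Sym2 (Fin n)) (Sym2.mk i j)) with hM
  have h2 : (2 : MvPolynomial (Sym2 (Fin n)) (ZMod 2)) = 0 := by
    rw [← map_ofNat (MvPolynomial.C (R := ZMod 2)) 2, show (2 : ZMod 2) = 0 from by decide, map_zero]
  have hdiag : ∀ i, M i i = 0 := fun i => by simp [hM, h2]
  have hsymm : ∀ i j, M i j = M j i := fun i j => by
    by_cases h : i = j
    · rw [h]
    · simp [hM, h, Ne.symm h, Sym2.eq_swap]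
  rw [Matrix.det_apply']
  have hsign : ∀ σ : Equiv.Perm (Fin n),
      ((Equiv.Perm.sign σ : ℤ) : MvPolynomial (Sym2 (Fin n)) (ZMod 2)) = 1 := by
    intro σ
    rcases Int.units_eq_one_or (Equiv.Perm.sign σ) with h | h <;> rw [h]
    · simp
    · rw [eq_comm, ← sub_eq_zero]
      simpa [one_add_one_eq_two] using h2
  simp only [hsign, one_mul]
  refine Finset.sum_involution (fun σ _ => σ⁻¹) (fun σ _ => ?_) (fun σ _ hne he => hne ?_)
    (fun σ _ => Finset.mem_univ _) (fun σ _ => inv_inv σ)
  · have : ∏ i, M (σ⁻¹ i) i = ∏ i, M (σ i) i := by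
      rw [← Equiv.prod_comp σ fun i => M (σ⁻¹ i) i]
      exact Finset.prod_congr rfl fun i _ => by rw [Equiv.Perm.inv_def, Equiv.symm_apply_apply, hsymm]
    show ∏ i, M (σ i) i + ∏ i, M (σ⁻¹ i) i = 0
    rw [this, ← two_mul, h2, zero_mul]
  · obtain ⟨i, hi⟩ : ∃ i, σ i = i := by
      by_contra hn'
      push Not at hn'
      have h1 : σ.support = Finset.univ := Finset.eq_univ_of_forall fun i => Equiv.Perm.mem_support.2 (hn' i)
      have hsq : σ ^ 2 = 1 := by
        rw [pow_two]; nth_rewrite 1 [← he]; exact inv_mul_cancel σ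
      have h3 := σ.sum_cycleType
      rw [h1, Finset.card_univ, Fintype.card_fin] at h3
      refine (Nat.not_even_iff_odd.2 hn) ?_
      rw [← h3, even_iff_two_dvd]
      refine Multiset.dvd_sum fun a ha => ?_
      have h4 : a ∣ 2 := (Equiv.Perm.dvd_of_mem_cycleType ha).trans (orderOf_dvd_of_pow_eq_one hsq)
      have h5 := Equiv.Perm.two_le_of_mem_cycleType ha
      have := Nat.le_of_dvd two_pos h4
      omega
    exact Finset.prod_eq_zero (Finset.mem_univ i) (by rw [hi]; exact hdiag i)

end Groth.Agent.S16644
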