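import Groth.Statements.S16647
import Groth.Agent.Lib.FpqcDesc.ClosedImmersion
import Groth.Agent.Lib.GrpSchField.Shear
-- import your own Groth.Agent.* helpers here

set_option autoImplicit false
open CategoryTheory MonoidalCategory CartesianMonoidalCategory MonObj GrpObj AlgebraicGeometry
universe u
open GrpSch

namespace Groth.Agent.S16647

/-- In a commutative diagram of short exact sequences of S-group schemes that are flat, separated and of
finite presentation over a scheme S (in each row the first homomorphism is the kernel of the second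
and the second is a flat surjection), if the two outer vertical homomorphisms are closed immersions
then so is the middle one. -/
theorem result {S : Scheme.{u}}
    {H₁' H₁ H₁'' H₂' H₂ H₂'' : Over S} [GrpObj H₁'] [GrpObj H₁] [GrpObj H₁''] [GrpObj H₂'] [GrpObj H₂] [GrpObj H₂'']
    [Flat H₁'.hom] [Flat H₁.hom] [Flat H₁''.hom] [Flat H₂'.hom] [Flat H₂.hom] [Flat H₂''.hom]
    [IsSeparated H₁'.hom] [IsSeparated H₁.hom] [IsSeparated H₁''.hom]
    [IsSeparated H₂'.hom] [IsSeparated H₂.hom] [IsSeparated H₂''.hom]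
    [QuasiCompact H₁'.hom] [QuasiCompact H₁.hom] [QuasiCompact H₁''.hom]
    [QuasiCompact H₂'.hom] [QuasiCompact H₂.hom] [QuasiCompact H₂''.hom]
    [LocallyOfFinitePresentation H₁'.hom] [LocallyOfFinitePresentation H₁.hom] [LocallyOfFinitePresentation H₁''.hom]
    [LocallyOfFinitePresentation H₂'.hom] [LocallyOfFinitePresentation H₂.hom] [LocallyOfFinitePresentation H₂''.hom]
    (a₁ : H₁' ⟶ H₁) (b₁ : H₁ ⟶ H₁'') (a₂ : H₂' ⟶ H₂) (b₂ : H₂ ⟶ H₂'')
    [IsMonHom a₁] [IsMonHom b₁] [IsMonHom a₂] [IsMonHom b₂]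
    (h₁ : AlgGrp.IsKernel a₁ b₁) (hb₁ : Flat b₁.left ∧ Surjective b₁.left)
    (h₂ : AlgGrp.IsKernel a₂ b₂) (hb₂ : Flat b₂.left ∧ Surjective b₂.left)
    (j' : H₁' ⟶ H₂') (j : H₁ ⟶ H₂) (j'' : H₁'' ⟶ H₂'') [IsMonHom j'] [IsMonHom j] [IsMonHom j'']
    (sq₁ : a₁ ≫ j = j' ≫ a₂) (sq₂ : b₁ ≫ j'' = j ≫ b₂)
    (hj' : IsClosedImmersion j'.left) (hj'' : IsClosedImmersion j''.left) :
    IsClosedImmersion j.left := by
  obtain ⟨hf₁, hs₁⟩ := hb₁
  let P := Limits.pullback b₂ j''
  let pv : P ⟶ H₂ := Limits.pullback.fst b₂ j''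
  let pw : P ⟶ H₁'' := Limits.pullback.snd b₂ j''
  have hPsq : IsPullback pv pw b₂ j'' := IsPullback.of_hasPullback _ _
  have hkill₂ : a₂ ≫ b₂ = 1 := by
    rw [h₂.w, Hom.one_def]
  have hkill₁ : a₁ ≫ b₁ = 1 := by
    rw [h₁.w, Hom.one_def]
  let u : H₁ ⟶ P := Limits.pullback.lift j b₁ sq₂.symm
  have hu1 : u ≫ pv = j := Limits.pullback.lift_fst _ _ _
  have hu2 : u ≫ pw = b₁ := Limits.pullback.lift_snd _ _ _
  have hv : ((fst H₁ H₂' ≫ j) * (snd H₁ H₂' ≫ a₂)) ≫ b₂ = (fst H₁ H₂' ≫ b₁) ≫ j'' := by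
    rw [MonObj.mul_comp, Category.assoc, Category.assoc, hkill₂, MonObj.comp_one, _root_.mul_one,
      Category.assoc, sq₂]
  let ψ : H₁ ⊗ H₂' ⟶ P := Limits.pullback.lift _ _ hv
  have hψ1 : ψ ≫ pv = (fst H₁ H₂' ≫ j) * (snd H₁ H₂' ≫ a₂) := Limits.pullback.lift_fst _ _ _
  have hψ2 : ψ ≫ pw = fst H₁ H₂' ≫ b₁ := Limits.pullback.lift_snd _ _ _
  let φ : H₁ ⊗ H₁' ⟶ H₁ := fst H₁ H₁' * (snd H₁ H₁' ≫ a₁)
  have hφ : (H₁ ◁ j') ≫ ψ = φ ≫ u := by
    apply hPsq.hom_ext
    · rw [Category.assoc, hψ1, Category.assoc, hu1, MonObj.comp_mul, whiskerLeft_fst_assoc,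
        whiskerLeft_snd_assoc, MonObj.mul_comp, Category.assoc, sq₁]
    · rw [Category.assoc, hψ2, Category.assoc, hu2, whiskerLeft_fst_assoc, MonObj.mul_comp,
        Category.assoc, hkill₁, MonObj.comp_one, _root_.mul_one]
  have hT : IsPullback ψ (fst H₁ H₂') pw b₁ := by
    have key : ∀ {T : Over S} (p : T ⟶ P) (x : T ⟶ H₁), p ≫ pw = x ≫ b₁ →
        ((x ≫ j)⁻¹ * (p ≫ pv)) ≫ b₂ = toUnit T ≫ η[H₂''] := fun p x h => by
      rw [MonObj.mul_comp, GrpObj.inv_comp, Category.assoc, Category.assoc, hPsq.w, ← sq₂,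
        ← Category.assoc p, h, Category.assoc, inv_mul_cancel, Hom.one_def]
    refine ⟨⟨hψ2⟩, ⟨Limits.PullbackCone.IsLimit.mk _
      (fun s => lift s.snd (h₂.lift _ _ (key s.fst s.snd s.condition))) (fun s => ?_)
      (fun s => lift_fst _ _) fun s m hm1 hm2 => ?_⟩⟩
    · apply hPsq.hom_ext
      · rw [Category.assoc, hψ1, MonObj.comp_mul, lift_fst_assoc, lift_snd_assoc, h₂.lift_fst,
          mul_inv_cancel_left]
      · rw [Category.assoc, hψ2, lift_fst_assoc, s.condition]
    · apply CartesianMonoidalCategory.hom_ext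
      · rw [lift_fst, hm2]
      · rw [lift_snd]
        refine h₂.hom_ext ?_ (toUnit_unique _ _)
        rw [h₂.lift_fst, ← hm1, ← hm2]
        simp only [Category.assoc, hψ1, MonObj.comp_mul, inv_mul_cancel_left]
  have hQ : IsPullback (H₁ ◁ j') φ ψ u := by
    have key : ∀ {T : Over S} (q : T ⟶ H₁ ⊗ H₂') (x : T ⟶ H₁), q ≫ ψ = x ≫ u →
        ((q ≫ fst H₁ H₂')⁻¹ * x) ≫ b₁ = toUnit T ≫ η[H₁''] := fun q x h => by
      have h' := congrArg (· ≫ pw) h
      simp only [Category.assoc, hψ2, hu2] at h'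
      rw [MonObj.mul_comp, GrpObj.inv_comp, Category.assoc, h', inv_mul_cancel, Hom.one_def]
    refine ⟨⟨hφ⟩, ⟨Limits.PullbackCone.IsLimit.mk _
      (fun s => lift (s.fst ≫ fst H₁ H₂') (h₁.lift _ _ (key s.fst s.snd s.condition))) (fun s => ?_)
      (fun s => ?_) fun s m hm1 hm2 => ?_⟩⟩
    · apply CartesianMonoidalCategory.hom_ext
      · simp
      · rw [lift_whiskerLeft, lift_snd]
        have hm : Mono a₂ :=
          have : Mono η[H₂''] := mono_of_mono_fac (show η[H₂''] ≫ toUnit H₂'' = 𝟙 _ from toUnit_unique _ _)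
          Limits.PullbackCone.mono_fst_of_is_pullback_of_mono h₂.isLimit
        rw [← cancel_mono a₂, Category.assoc, ← sq₁, ← Category.assoc, h₁.lift_fst, MonObj.mul_comp,
          GrpObj.inv_comp]
        have h' := congrArg (· ≫ pv) s.condition
        simp only [Category.assoc, hψ1, hu1, MonObj.comp_mul] at h'
        rw [← h']
        simp only [Category.assoc, inv_mul_cancel_left]
    · rw [MonObj.comp_mul, lift_fst, lift_snd_assoc, h₁.lift_fst, mul_inv_cancel_left]
    · apply CartesianMonoidalCategory.hom_ext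
      · rw [lift_fst, ← hm1, Category.assoc, whiskerLeft_fst]
      · rw [lift_snd]
        refine h₁.hom_ext ?_ (toUnit_unique _ _)
        rw [h₁.lift_fst, ← hm1, ← hm2]
        simp only [φ, MonObj.comp_mul, Category.assoc, whiskerLeft_fst, inv_mul_cancel_left]
  have hqc : QuasiCompact b₁.left := by
    have : QuasiCompact (b₁.left ≫ H₁''.hom) := by rw [Over.w b₁]; infer_instance
    exact QuasiCompact.of_comp b₁.left H₁''.hom
  have sT := (hT.map (Over.forget S)).flip
  have hψl : (@Surjective ⊓ @Flat ⊓ @QuasiCompact : MorphismProperty Scheme.{u}) ψ.left :=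
    ⟨⟨MorphismProperty.of_isPullback sT hs₁, MorphismProperty.of_isPullback sT hf₁⟩,
      MorphismProperty.of_isPullback sT hqc⟩
  have hcl : IsClosedImmersion (H₁ ◁ j').left := by
    have sq : IsPullback (H₁ ◁ j') (snd H₁ H₁') (snd H₁ H₂') j' :=
      ⟨⟨whiskerLeft_snd H₁ j'⟩, ⟨Limits.PullbackCone.IsLimit.mk _
        (fun s => lift (s.fst ≫ fst H₁ H₂') s.snd)
        (fun s => by
          apply CartesianMonoidalCategory.hom_ext
          · simp
          · rw [lift_whiskerLeft, lift_snd]; exact s.condition.symm)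
        (fun s => lift_snd _ _) fun s m hm1 hm2 => by
          apply CartesianMonoidalCategory.hom_ext
          · rw [lift_fst, ← hm1, Category.assoc, whiskerLeft_fst]
          · rw [lift_snd, hm2]⟩⟩
    exact MorphismProperty.of_isPullback (sq.map (Over.forget S)).flip hj'
  have hu : IsClosedImmersion u.left :=
    MorphismProperty.of_isPullback_of_descendsAlong (P := @IsClosedImmersion)
      (Q := @Surjective ⊓ @Flat ⊓ @QuasiCompact) (hQ.map (Over.forget S)) hψl hcl
  have hpv : IsClosedImmersion pv.left :=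
    MorphismProperty.of_isPullback (hPsq.map (Over.forget S)).flip hj''
  rw [← hu1, Over.comp_left]
  exact MorphismProperty.comp_mem @IsClosedImmersion u.left pv.left hu hpv

end Groth.Agent.S16647
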