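import Groth.Statements.S1665
import Groth.Agent.Lib.NormFib.KrullAkizuki
import Groth.Agent.Lib.SemiLoc.Bound
import Mathlib.RingTheory.DedekindDomain.Basic
import Mathlib.RingTheory.IntegralClosure.IntegrallyClosed
import Mathlib.RingTheory.Localization.Integral
import Mathlib.RingTheory.KrullDimension.Field

set_option autoImplicit false
universe u
open Variety

namespace Groth.Agent.S1665

/-- Let B be a Noetherian domain of dimension one with finitely many maximal ideals and B' its integral
closure in its fraction field. Then B' is a Dedekind domain with finitely many maximal ideals, and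
for every nonzero x in the Jacobson radical of B' and every y ∈ B' some power x^n satisfies x^n y ∈
B. -/
theorem result (B : Type u) [CommRing B] [IsDomain B] [IsNoetherianRing B]
    (hdim : ringKrullDim B = 1) (hsl : Finite (MaximalSpectrum B)) :
    IsDedekindDomain (integralClosure B (FractionRing B)) ∧ Finite (MaximalSpectrum (integralClosure B (FractionRing B))) ∧
      ∀ x : integralClosure B (FractionRing B), x ≠ 0 → x ∈ (⊥ : Ideal (integralClosure B (FractionRing B))).jacobson →
        ∀ y : integralClosure B (FractionRing B), ∃ n : ℕ, (x ^ n * y).1 ∈ (algebraMap B (FractionRing B)).range := by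
  classical
  have : Ring.KrullDimLE 1 B := Ring.krullDimLE_iff.mpr (by rw [hdim]; simp)
  have : Ring.DimensionLEOne B :=
    ⟨fun {p} hp hp' => (Ring.krullDimLE_one_iff_of_noZeroDivisors.mp this) p hp hp'⟩
  have hnf : ¬ IsField B := fun hf => by
    rw [ringKrullDim_eq_zero_of_isField hf] at hdim
    exact zero_ne_one hdim
  let K := FractionRing B
  let B' := integralClosure B K
  have hinj : Function.Injective (algebraMap B' K) := Subtype.val_injective
  have hnoeth : IsNoetherianRing B' :=
    GrothLib.NormFib.isNoetherianRing_of_injective (R := B) (K := K) hinj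
  have : IsFractionRing B' K := integralClosure.isFractionRing_of_finite_extension K K
  have : IsIntegrallyClosed B' := integralClosure.isIntegrallyClosedOfFiniteExtension K
  have hdimB' : Ring.DimensionLEOne B' := inferInstance
  have hded : IsDedekindDomain B' := (isDedekindDomain_iff B' K).mpr
    ⟨inferInstance, hnoeth, hdimB', fun {z} hz => (isIntegrallyClosed_iff K).mp ‹_› hz⟩
  refine ⟨hded, ?_, fun x hx0 hxJ y => ?_⟩
  · have hmax : ∀ M : MaximalSpectrum B', (M.asIdeal.comap (algebraMap B B')).IsMaximal := fun M =>
      Ideal.isMaximal_comap_of_isIntegral_of_isMaximal M.asIdeal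
    have hfin : ∀ m : MaximalSpectrum B,
        Finite {M : MaximalSpectrum B' // M.asIdeal.comap (algebraMap B B') = m.asIdeal} := fun m => by
      have hm : m.asIdeal ≠ ⊥ := Ring.ne_bot_of_isMaximal_of_not_isField m.isMaximal hnf
      have h := (GrothLib.NormFib.finite_primes_over (R := B) (K := K) hinj m.asIdeal hm).1
      have := h.to_subtype
      exact Finite.of_injective
        (fun M => (⟨M.1.asIdeal, M.1.isMaximal.isPrime, M.2.ge⟩ :
          {P : Ideal B' | P.IsPrime ∧ m.asIdeal ≤ P.comap (algebraMap B B')}))
        fun a b h => Subtype.ext (MaximalSpectrum.ext (congrArg Subtype.val h))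
    exact Finite.of_injective
      (fun M => (⟨⟨_, hmax M⟩, ⟨M, rfl⟩⟩ :
        Σ m : MaximalSpectrum B, {M : MaximalSpectrum B' // M.asIdeal.comap (algebraMap B B') = m.asIdeal}))
      fun a b h => congrArg (fun z => z.2.1) h
  · let C : Subalgebra B K := Algebra.adjoin B {x.1, y.1}
    have hfg : (Subalgebra.toSubmodule C).FG := fg_adjoin_of_finite (Set.toFinite _) (by
      rintro z (rfl | rfl)
      · exact x.2
      · exact y.2)
    have : Module.Finite B C := Module.Finite.iff_fg.mpr hfg
    have : IsNoetherianRing C := IsNoetherianRing.of_finite B C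
    have hCle : C ≤ B' := Algebra.adjoin_le (by
      rintro z (rfl | rfl)
      · exact x.2
      · exact y.2)
    obtain ⟨G, hG⟩ := hfg
    obtain ⟨⟨b, hb⟩, hbG⟩ := IsLocalization.exist_integer_multiples (nonZeroDivisors B) G (fun z : K => z)
    have hbC : ∀ z ∈ C, algebraMap B K b * z ∈ (algebraMap B K).range := by
      intro z hz
      have hz' : z ∈ Submodule.span B (G : Set K) := hG.symm ▸ hz
      clear hz
      induction hz' using Submodule.span_induction with
      | mem w hw => exact (Algebra.smul_def b w) ▸ (hbG w hw)
      | zero => exact ⟨0, by simp⟩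
      | add u v _ _ hu hv => rw [mul_add]; exact add_mem hu hv
      | smul r u _ hu =>
        rw [Algebra.smul_def, mul_left_comm]
        exact Subring.mul_mem _ ⟨r, rfl⟩ hu
    have : Algebra.IsIntegral B C := Algebra.IsIntegral.of_finite B C
    have : Ring.DimensionLEOne C := ⟨fun {p} hp0 hp => by
      have : (p.comap (algebraMap B C)).IsPrime := Ideal.IsPrime.comap _
      exact Ideal.isMaximal_of_isIntegral_of_isMaximal_comap p
        (Ring.DimensionLEOne.maximalOfPrime (Ideal.IsIntegral.comap_ne_bot _ hp0) this)⟩
    let ι : C →+* B' := (Subalgebra.inclusion hCle).toRingHom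
    have hι : ι.IsIntegral := RingHom.IsIntegral.tower_top (algebraMap B C) ι (by
      rw [show ι.comp (algebraMap B C) = algebraMap B B' from RingHom.ext fun r => rfl]
      exact Algebra.IsIntegral.isIntegral)
    have := hι.isLocalHom (Subalgebra.inclusion_injective hCle)
    let x' : C := ⟨x.1, Algebra.subset_adjoin (Set.mem_insert _ _)⟩
    let y' : C := ⟨y.1, Algebra.subset_adjoin (Set.mem_insert_of_mem _ rfl)⟩
    have hx' : x' ∈ Ideal.jacobson (⊥ : Ideal C) := Ideal.mem_jacobson_bot.mpr fun z =>
      IsUnit.of_map ι _ (by
        rw [map_add, map_mul, map_one]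
        exact Ideal.mem_jacobson_bot.mp hxJ (ι z))
    have hc : algebraMap B C b ≠ 0 := fun h => nonZeroDivisors.ne_zero hb
      (IsFractionRing.injective B K ((congrArg Subtype.val h).trans (map_zero _).symm))
    obtain ⟨N, hN⟩ := GrothLib.SemiLoc.exists_jacobson_pow_le hc
    obtain ⟨w, hw⟩ := Ideal.mem_span_singleton.mp (hN (Ideal.pow_mem_pow hx' N))
    refine ⟨N, ?_⟩
    have h : (x ^ N * y).1 = algebraMap B K b * (w * y').1 := by
      have := congrArg (fun z : C => (z * y').1) hw
      simpa [x', y', mul_assoc] using this
    rw [h]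
    exact hbC _ (w * y').2

end Groth.Agent.S1665
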