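import Groth.Statements.S16650
import Groth.Agent.Lib.Flag27.ParabolicS

set_option autoImplicit false
open CategoryTheory MonoidalCategory CartesianMonoidalCategory MonObj GrpObj AlgebraicGeometry
universe u
open RedSub

namespace Groth.Agent.S16650

/-- The centre of a reductive group scheme G over a scheme S is contained in every parabolic subgroup of
G. -/
theorem result {S : Scheme.{u}} {G Z P : Over S} [GrpObj G] [GrpObj Z] [GrpObj P]
    (hG : Red.IsReductive G) (z : Z ⟶ G) (hZ : Red.IsCentre z) (p : P ⟶ G) (hP : Red.IsParabolic p) :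
    ∃ f : Z ⟶ P, f ≫ p = z := by
  obtain ⟨hGa, hGs, hGr⟩ := hG
  obtain ⟨hm, hmono, hiff⟩ := hZ
  haveI := hm
  refine ((GrothLib.Flag27.isNormalizerOf_parabolic_base hGs hGa (fun s => (hGr s).2.2.1) hP).2.2 Z z).2 fun X' x h => ?_
  have e := (hiff Z z).1 ⟨𝟙 Z, Category.id_comp z⟩ X' x (h ≫ p)
  rw [Category.comp_id] at e
  exact ⟨⟨h, by rw [e, mul_inv_cancel_right]⟩, ⟨h, by rw [_root_.mul_assoc, ← e, inv_mul_cancel_left]⟩⟩

end Groth.Agent.S16650
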