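import Groth.Statements.S16651
import Groth.Agent.Lib.Cliff28.Structure

set_option autoImplicit false
universe u v
open scoped TensorProduct
open QuadZ

namespace Groth.Agent.S16651

/-- For a free module over an affine base, let Q be a non-degenerate quadratic form (polar form a
perfect pairing) on a free module V of even rank 2m ≥ 2 over a commutative ring A. Then fppf-locally
on A the Clifford algebra C(V,Q) is a matrix algebra of size 2^m and its even part a product of two
matrix algebras of size 2^(m-1) (there is a faithfully flat finitely presented A-algebra A'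
realising both), the centre of C(V,Q) is A, the map V → C(V,Q) is injective onto a direct summand,
and the even part is the centralizer in C(V,Q) of its own centre. -/
theorem result (A : Type u) [CommRing A] (V : Type u)
    [AddCommGroup V] [Module A V] [Module.Free A V] [Module.Finite A V] (m : ℕ) (hm : 1 ≤ m)
    (hV : Module.finrank A V = 2 * m) (Q : QuadraticForm A V) (hQ : Function.Bijective (QuadraticMap.polarBilin Q)) :
    (∃ (A' : Type u) (_ : CommRing A') (_ : Algebra A A'), Module.FaithfullyFlat A A' ∧ Algebra.FinitePresentation A A' ∧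
        Nonempty ((A' ⊗[A] CliffordAlgebra Q) ≃ₐ[A'] Matrix (Fin (2 ^ m)) (Fin (2 ^ m)) A') ∧
        Nonempty ((A' ⊗[A] ↥(CliffordAlgebra.even Q)) ≃ₐ[A']
          (Matrix (Fin (2 ^ (m - 1))) (Fin (2 ^ (m - 1))) A' × Matrix (Fin (2 ^ (m - 1))) (Fin (2 ^ (m - 1))) A'))) ∧
    Subalgebra.center A (CliffordAlgebra Q) = ⊥ ∧
    (Function.Injective (CliffordAlgebra.ι Q) ∧
      ∃ W : Submodule A (CliffordAlgebra Q), IsCompl (LinearMap.range (CliffordAlgebra.ι Q)) W) ∧
    Subalgebra.centralizer A
        ((CliffordAlgebra.even Q).val '' (Subalgebra.center A ↥(CliffordAlgebra.even Q) : Set ↥(CliffordAlgebra.even Q))) =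
      CliffordAlgebra.even Q := by
  haveI : Nontrivial A := by
    by_contra h
    haveI := not_nontrivial_iff_subsingleton.mp h
    rw [Module.finrank_subsingleton] at hV
    omega
  let b := Module.finBasisOfFinrankEq A V hV
  exact ⟨GrothLib.Cliff28.exists_fppf_matrix_even b hm hQ, GrothLib.Cliff28.center_eq_bot hQ hV,
    ⟨GrothLib.Cliff28.ι_injective Q, GrothLib.Cliff28.exists_ι_compl Q⟩,
    GrothLib.Cliff28.centralizer_center_even hQ hV⟩

end Groth.Agent.S16651
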