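import Groth.Statements.S1666
import Groth.Agent.Lib.Snapper.PushTop
import Groth.Agent.Lib.Snapper.Degree
import Groth.Agent.Lib.HomSh.Criterion
import Groth.Agent.Lib.Ample.RelAmple

set_option autoImplicit false
set_option backward.isDefEq.respectTransparency false
universe u
open CategoryTheory CategoryTheory.Limits AlgebraicGeometry
open Variety

namespace Groth.Agent.S1666

section PullSum
open GrothLib
open GrothLib.Euler (tF)
open GrothLib.Snapper (euler_eq_finsum_Rpush euler_eq_zero_of_isZero)

/-- `χ` of a pullback is the alternating sum of `χ` of twists of the higher direct images. -/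
theorem exists_euler_pullback_eq_sum' {k : Type u} [Field k] {X Z : Scheme.{u}} [X.Over (Spec (CommRingCat.of k))]
    [Z.Over (Spec (CommRingCat.of k))] [IsProper (X ↘ Spec (CommRingCat.of k))]
    [IsProper (Z ↘ Spec (CommRingCat.of k))] {g : Z ⟶ X}
    (hg : g ≫ X ↘ Spec (CommRingCat.of k) = Z ↘ Spec (CommRingCat.of k)) [EnoughInjectives Z.Modules] :
    ∃ M₀ : ℕ, ∀ N : X.Modules, FlatMod.IsFinLocFree N →
      Curv2.euler k Z ((Scheme.Modules.pullback g).obj N) = ∑ i ∈ Finset.range (M₀ + 1),
        (-1 : ℤ) ^ i * Curv2.euler k X ((tF N).obj ((Coh.Rpush g i).obj (Coh.structureModule Z))) := by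
  haveI := Euler.isNoetherian_of_proper (X := X) k
  haveI := Euler.isNoetherian_of_proper (X := Z) k
  haveI : IsProper (g ≫ X ↘ Spec (CommRingCat.of k)) := by rw [hg]; infer_instance
  haveI : IsProper g := IsProper.of_comp g (X ↘ Spec (CommRingCat.of k))
  haveI : (QCoh.toAbFun X).Faithful := inferInstanceAs (SheafOfModules.toSheaf _).Faithful
  let O := Coh.structureModule Z
  have hO : Coh.IsCoh O := Euler.isCoh_of_isInvertible Euler.isInvertible_structure
  let R := fun i => (Coh.Rpush g i).obj O
  obtain ⟨M₀, hM₀⟩ := Groth.Agent.S0031.result g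
  have hRz : ∀ i, M₀ ≤ i → IsZero (R i) := fun i hi => by
    obtain ⟨e⟩ := Groth.Agent.S11319.result g O i
    have h : IsZero ((QCoh.toAbFun X).obj (R i)) := (hM₀ O hO.1 i hi).of_iso e
    rw [IsZero.iff_id_eq_zero] at h ⊢
    apply (QCoh.toAbFun X).map_injective
    rw [CategoryTheory.Functor.map_id, Functor.map_zero]
    exact h
  refine ⟨M₀, fun N hN => ?_⟩
  let G := CohB1.tensorMod ((Scheme.Modules.pullback g).obj N) O
  have eG : G ≅ (Scheme.Modules.pullback g).obj N := Euler.tFUnitIso _
  have hG : Coh.IsCoh G := QCoh.isCoh_of_iso eG.symm (Euler.isCoh_of_isFinLocFree (OX.isFinLocFree_pullback g hN))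
  have hi : ∀ i, Curv2.euler k X ((Coh.Rpush g i).obj G) = Curv2.euler k X ((tF N).obj (R i)) := fun i => by
    obtain ⟨e⟩ := Groth.Agent.S0927.result g O N hN i
    exact Euler.euler_of_iso k ((((OX.tensorBraiding (X := X)).app N).app (R i) ≪≫ e).symm)
  rw [← Euler.euler_of_iso k eG, euler_eq_finsum_Rpush k hg G hG,
    finsum_eq_sum_of_support_subset _ (s := Finset.range (M₀ + 1)) (fun i hi' => ?_)]
  · exact Finset.sum_congr rfl fun i _ => by rw [hi i]
  · rw [Finset.coe_range, Set.mem_Iio]
    by_contra hle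
    exact hi' (show (-1 : ℤ) ^ i * Curv2.euler k X ((Coh.Rpush g i).obj G) = 0 by
      rw [hi i, euler_eq_zero_of_isZero k ((tF N).map_isZero (hRz i (by omega))), mul_zero])

end PullSum

/-- Let f : X' → X be a k-morphism of proper schemes of dimension at most one over k which is an
isomorphism over a dense open of X whose preimage is dense in X'. Then for every finite locally free
module E of rank n on X, deg(f^* E) = deg(E). -/
theorem result (k : Type u) [Field k] (X X' : Scheme.{u}) [X.Over (Spec (CommRingCat.of k))] [X'.Over (Spec (CommRingCat.of k))]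
    [IsProper (X ↘ (Spec (CommRingCat.of k)))] [IsProper (X' ↘ (Spec (CommRingCat.of k)))] (hdim : topologicalKrullDim X ≤ 1) (hdim' : topologicalKrullDim X' ≤ 1)
    (f : X' ⟶ X) (hf : f ≫ (X ↘ (Spec (CommRingCat.of k))) = X' ↘ (Spec (CommRingCat.of k)))
    (U : X.Opens) (hU : Dense (U : Set X)) (hU' : Dense ((f ⁻¹ᵁ U : X'.Opens) : Set X')) (hfU : IsIso (f ∣_ U))
    (n : ℕ) (E : X.Modules) (hE : FlatMod.IsFinLocFreeOfRank n E) :
    Curv2.deg k X' ((Scheme.Modules.pullback f).obj E) n = Curv2.deg k X E n := by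
  classical
  haveI := GrothLib.Euler.isNoetherian_of_proper (X := X) k
  haveI := GrothLib.Euler.isNoetherian_of_proper (X := X') k
  haveI : EnoughInjectives X'.Modules := GrothLib.SheafCoh.enoughInjectives_sheafOfModules X'.ringCatSheaf
  haveI : IsProper (f ≫ X ↘ Spec (CommRingCat.of k)) := by rw [hf]; infer_instance
  haveI : IsProper f := IsProper.of_comp f (X ↘ Spec (CommRingCat.of k))
  have hlf := GrothLib.FinCov.isFinLocFree_of_rank hE
  let O' := Coh.structureModule X'
  have hO' : Coh.IsCoh O' := GrothLib.Euler.isCoh_of_isInvertible GrothLib.Euler.isInvertible_structure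
  let R := fun i => (Coh.Rpush f i).obj O'
  have hR : ∀ i, Coh.IsCoh (R i) := fun i => GrothLib.Cohom.isCoh_Rpush f O' hO' i
  obtain ⟨M₀, hM⟩ := exists_euler_pullback_eq_sum' (k := k) (g := f) hf
  have h1 : Curv2.deg k X' ((Scheme.Modules.pullback f).obj E) n =
      ∑ i ∈ Finset.range (M₀ + 1), (-1 : ℤ) ^ i * GrothLib.Snapper.degFun k E n (R i) := by
    have eO := hM (Coh.structureModule X) (GrothLib.Euler.isFinLocFree_of_isInvertible GrothLib.Euler.isInvertible_structure)
    rw [GrothLib.Euler.euler_of_iso k (GrothLib.Ample.nonempty_pullback_structureModule f).some] at eO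
    rw [Curv2.deg, hM E hlf, eO, Finset.mul_sum, ← Finset.sum_sub_distrib]
    refine Finset.sum_congr rfl fun i _ => ?_
    rw [GrothLib.Snapper.degFun, GrothLib.Euler.euler_of_iso k (GrothLib.Euler.tFUnitIso (R i))]
    ring
  have hu : GrothLib.Snapper.DimLT (Set.univ : Set X) (1 + 1) := GrothLib.Snapper.dimLT_of_dim_le
    ((IsHomeomorph.topologicalKrullDim_eq _ (Homeomorph.Set.univ X).isHomeomorph).le.trans (by exact_mod_cast hdim))
  have hxU : ∀ x : X, GrothLib.Snapper.IsTop 1 x → x ∈ U := by
    intro x hx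
    have hgen : ∀ y : X, y ⤳ x → y = x := fun y hy => (hx.eq_of_specializes hy (hu.mono (Set.subset_univ _)))
    let C : Set X := ⋃ η ∈ (genericPoints (X : Type u) \ {x}), closure ({η} : Set X)
    have hC : IsClosed C := ((genericPoints.finite TopologicalSpace.NoetherianSpace.finite_irreducibleComponents).subset
      Set.diff_subset).isClosed_biUnion fun _ _ => isClosed_closure
    have hxC : x ∉ C := fun hmem => by
      obtain ⟨η, ⟨-, hne⟩, h⟩ := Set.mem_iUnion₂.mp hmem
      exact hne (hgen η (specializes_iff_mem_closure.2 h))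
    obtain ⟨y, hyC, hyU⟩ := hU.inter_open_nonempty _ hC.isOpen_compl ⟨x, hxC⟩
    obtain ⟨η, hη, hηy⟩ : ∃ η ∈ genericPoints (X : Type u), η ⤳ y :=
      ⟨_, (genericPoints.ofComponent ⟨_, irreducibleComponent_mem_irreducibleComponents y⟩).2,
        (genericPoints.isGenericPoint_ofComponent _).specializes mem_irreducibleComponent⟩
    have hηx : η = x := by
      by_contra hne
      exact hyC (Set.mem_iUnion₂.2 ⟨η, ⟨hη, hne⟩, specializes_iff_mem_closure.1 hηy⟩)
    exact hηx ▸ hηy.mem_open U.2 hyU
  have hfib : ∀ x ∈ U, ∃ y : X', f y = x ∧ f.base ⁻¹' {x} ⊆ {y} ∧ Function.Bijective (f.stalkMap y).hom := by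
    intro x hx
    haveI := hfU
    obtain ⟨y, hy⟩ := (f ∣_ U).surjective ⟨x, hx⟩
    refine ⟨y.1, ?_, fun z hz => ?_, ?_⟩
    · rw [← morphismRestrict_base_coe f U y, hy]
    · have hzU : z ∈ f ⁻¹ᵁ U := by
        show f z ∈ U
        rw [show f z = x from hz]
        exact hx
      have : (f ∣_ U) (⟨z, hzU⟩ : f ⁻¹ᵁ U) = (f ∣_ U) y := Subtype.ext (by
        rw [morphismRestrict_base_coe, hy]
        exact hz)
      exact congrArg Subtype.val ((f ∣_ U).homeomorph.injective this)
    · have := (IsOpenImmersion.iff_isIso_stalkMap (f := f ∣_ U)).1 inferInstance |>.2 y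
      haveI : IsIso (f.stalkMap y.1) := ((MorphismProperty.isomorphisms CommRingCat).arrow_mk_iso_iff
        (morphismRestrictStalkMap f U y)).1 this
      exact ConcreteCategory.bijective_of_isIso (f.stalkMap y.1)
  have hm : ∀ i x, GrothLib.Snapper.IsTop 1 x → GrothLib.Snapper.mult (R i) x =
      if i = 0 then GrothLib.Snapper.mult (Coh.structureModule X) x else 0 := by
    intro i x hx
    obtain ⟨y, rfl, hyf, hyb⟩ := hfib x (hxU x hx)
    by_cases hi : i = 0
    · subst hi
      rw [if_pos rfl, GrothLib.Snapper.mult_structure]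
      haveI : PreservesFiniteLimits (Scheme.Modules.pushforward f) :=
        haveI : PreservesLimitsOfSize.{0, 0} (Scheme.Modules.pushforward f) :=
          (Scheme.Modules.pullbackPushforwardAdjunction f).rightAdjoint_preservesLimits
        PreservesLimitsOfSize.preservesFiniteLimits.{0, 0} _
      let h0 : R 0 ≅ (Scheme.Modules.pushforward f).obj O' :=
        (Functor.rightDerivedZeroIsoSelf (Scheme.Modules.pushforward f)).app O'
      have hb := GrothLib.Snapper.pushStalkHom_bijective_of_fibre f f.isClosedMap y hyf O'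
      letI : Module (X.presheaf.stalk (f y)) (X'.presheaf.stalk y) := Module.compHom _ (f.stalkMap y).hom
      let u := (GrothLib.HomSh.unitStalk (X := X') y).symm
      let e₁ : ((Scheme.Modules.pushforward f).obj O').presheaf.stalk (f y) ≃ₗ[X.presheaf.stalk (f y)]
          X'.presheaf.stalk y :=
        (LinearEquiv.ofBijective _ hb).trans
          { u.toAddEquiv with map_smul' := fun r m => u.map_smul ((f.stalkMap y).hom r) m }
      let e₂ : X.presheaf.stalk (f y) ≃ₗ[X.presheaf.stalk (f y)] X'.presheaf.stalk y :=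
        LinearEquiv.ofBijective
          { toFun := (f.stalkMap y).hom
            map_add' := map_add _
            map_smul' := fun r m => map_mul (f.stalkMap y).hom r m } hyb
      unfold GrothLib.Snapper.mult
      exact congrArg ENat.toNat ((((GrothLib.OX.stalk (f y)).mapIso h0).toLinearEquiv.trans (e₁.trans e₂.symm)).length_eq)
    · rw [if_neg hi]
      refine GrothLib.Snapper.mult_of_notMem fun hmem => ?_
      obtain ⟨e⟩ := Groth.Agent.S11319.result f O' i
      exact hmem (AddCommGrpCat.subsingleton_of_isZero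
        ((Groth.Agent.S0037.result f (f y) ((Set.finite_singleton _).subset hyf) O' hO' i (Nat.pos_of_ne_zero hi)).of_iso
          ((TopCat.Presheaf.stalkFunctor AddCommGrpCat.{u} (f y)).mapIso ((sheafToPresheaf _ _).mapIso e))))
  rw [h1]
  have h2 : ∀ i, GrothLib.Snapper.degFun k E n (R i) = if i = 0 then Curv2.deg k X E n else 0 := by
    intro i
    rw [GrothLib.Snapper.degFun_eq_finsum k hdim hE (hR i), GrothLib.Snapper.deg_eq_finsum k hdim hE]
    by_cases hi : i = 0
    · rw [if_pos hi]
      refine finsum_congr fun x => ?_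
      by_cases hx : GrothLib.Snapper.IsTop 1 x
      · rw [GrothLib.Snapper.topTerm_of _ hx, GrothLib.Snapper.topTerm_of _ hx, hm i x hx, if_pos hi]
      · rw [GrothLib.Snapper.topTerm, if_neg hx, GrothLib.Snapper.topTerm, if_neg hx]
    · rw [if_neg hi]
      refine finsum_eq_zero_of_forall_eq_zero fun x => ?_
      by_cases hx : GrothLib.Snapper.IsTop 1 x
      · rw [GrothLib.Snapper.topTerm_of _ hx, hm i x hx, if_neg hi, zero_smul]
      · rw [GrothLib.Snapper.topTerm, if_neg hx]
  simp only [h2, mul_ite, mul_zero]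
  rw [Finset.sum_ite_eq', if_pos (Finset.mem_range.2 (Nat.succ_pos _)), pow_zero, one_mul]

end Groth.Agent.S1666
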