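import Groth.Statements.S16663
import Groth.Agent.Lib.HopfAG.ConnCoord
import Mathlib.LinearAlgebra.Pi
import Mathlib.RingTheory.TensorProduct.Free

set_option autoImplicit false
universe v u
open TensorProduct
open Conn

namespace Groth.Agent.S16663

/-- Let B be an A-algebra with a receptacle of differentials (Ω, δ), Ω a finite free B-module (the local
form of a weakly smooth scheme), and let M be a finitely ℤ-graded B-module presented as a finite
family of finite free B-modules M_i with integer degrees deg i (the local form of a graded vector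
bundle), with total module Π_i M_i. Let ∇ be a connection on Π_i M_i preserving the grading, in the
sense that (pr_j ⊗ 1)(∇(ι_i m)) = 0 for m ∈ M_i whenever deg i ≠ deg j, and let ∇_E be the induced
connection on the B-linear endomorphisms, the one with (ev_m ⊗ 1)(∇_E φ) = ∇(φ m) − (φ ⊗ 1)(∇ m).
Give B the connection b ↦ 1 ⊗ δ b. Then the supertrace, φ ↦ tr(ε ∘ φ) with ε = Σ_i (−1)^{deg i} ι_i
∘ pr_i the grading involution, is a horizontal map End_B(Π_i M_i) → B. -/
theorem result {A : Type v} {B Ω ι : Type u}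
    [CommRing A] [CommRing B] [Algebra A B]
    [AddCommGroup Ω] [Module B Ω] [Module A Ω] [IsScalarTower A B Ω] [Module.Finite B Ω] [Module.Free B Ω]
    [Fintype ι] [DecidableEq ι] (deg : ι → ℤ) (M : ι → Type u)
    [∀ i, AddCommGroup (M i)] [∀ i, Module B (M i)] [∀ i, Module A (M i)] [∀ i, IsScalarTower A B (M i)]
    [∀ i, Module.Free B (M i)] [∀ i, Module.Finite B (M i)]
    (δ : Derivation A B Ω) (nabla : (Π k, M k) →ₗ[A] (Π k, M k) ⊗[B] Ω) (hc : Conn.IsConn δ nabla)
    (hgr : ∀ i j : ι, deg i ≠ deg j → ∀ m : M i,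
      TensorProduct.map (LinearMap.proj j : (Π k, M k) →ₗ[B] M j) LinearMap.id (nabla (LinearMap.single B M i m)) = 0)
    (nablaE : ((Π k, M k) →ₗ[B] (Π k, M k)) →ₗ[A] ((Π k, M k) →ₗ[B] (Π k, M k)) ⊗[B] Ω)
    (hE : Conn.IsHomConn nabla nabla nablaE) :
    Conn.IsHorizontal nablaE (Conn.triv δ)
      (LinearMap.trace B (Π k, M k) ∘ₗ LinearMap.llcomp B (Π k, M k) (Π k, M k) (Π k, M k)
        (∑ i : ι, (LinearMap.single B M i) ∘ₗ (((-1 : B) ^ (deg i).natAbs) • (LinearMap.proj i : (Π k, M k) →ₗ[B] M i)))) := by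
  classical
  set ε : (Π k, M k) →ₗ[B] (Π k, M k) :=
    ∑ i : ι, (LinearMap.single B M i) ∘ₗ (((-1 : B) ^ (deg i).natAbs) • (LinearMap.proj i : (Π k, M k) →ₗ[B] M i))
  have hεapply : ∀ x j, ε x j = (-1 : B) ^ (deg j).natAbs • x j := by
    intro x j
    simp only [ε, LinearMap.sum_apply, Finset.sum_apply, LinearMap.comp_apply, LinearMap.smul_apply,
      LinearMap.proj_apply, LinearMap.single_apply, Pi.single_apply]
    rw [Finset.sum_eq_single j]
    · simp
    · intro i _ hij; rw [Pi.single_eq_of_ne (Ne.symm hij)]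
    · simp
  refine GrothLib.ConnCoord.isHorizontal_of_along _ fun θ φ => ?_
  rw [GrothLib.ConnCoord.along_triv]
  show θ (δ (LinearMap.trace B _ (ε ∘ₗ φ))) = LinearMap.trace B _ (ε ∘ₗ Conn.along nablaE θ φ)
  rw [← GrothLib.ConnCoord.along_trace hc hE θ]
  congr 1
  rw [GrothLib.ConnCoord.along_comp hE hE hE]
  suffices h : Conn.along nablaE θ ε = 0 by rw [h, LinearMap.zero_comp, zero_add]
  refine LinearMap.ext fun x => ?_
  rw [LinearMap.zero_apply, GrothLib.ConnCoord.along_hom hE, sub_eq_zero]
  have hx : x = ∑ i, LinearMap.single B M i (x i) := by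
    ext j
    simp [Pi.single_apply]
  rw [hx]
  simp only [map_sum]
  refine Finset.sum_congr rfl fun i _ => ?_
  have hs : ε (LinearMap.single B M i (x i)) = ((-1 : B) ^ (deg i).natAbs) • LinearMap.single B M i (x i) := by
    ext j
    rw [hεapply, Pi.smul_apply]
    by_cases hj : j = i
    · subst hj; rfl
    · simp [Pi.single_eq_of_ne hj]
  have hd : δ ((-1 : B) ^ (deg i).natAbs) = 0 := by
    rcases neg_one_pow_eq_or B (deg i).natAbs with h | h <;> rw [h] <;> simp
  rw [hs, GrothLib.ConnCoord.along_smul hc, hd, map_zero, zero_smul, add_zero]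
  ext j
  rw [hεapply, Pi.smul_apply]
  by_cases hj : deg i = deg j
  · rw [hj]
  · have h0 : Conn.along nabla θ (LinearMap.single B M i (x i)) j = 0 := by
      rw [Conn.along_apply]
      have h := GrothLib.ConnCoord.contract_map θ (LinearMap.proj j : (Π k, M k) →ₗ[B] M j)
        (nabla (LinearMap.single B M i (x i)))
      rw [hgr i j hj, map_zero, map_zero] at h
      exact h.symm
    rw [h0, smul_zero, smul_zero]

end Groth.Agent.S16663
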