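import Groth.Statements.S16667
import Groth.Agent.Lib.DepthKer.DepthTwo
import Mathlib.RingTheory.Ideal.Height
import Mathlib.Tactic.LinearCombination
-- import your own Groth.Agent.* helpers here

set_option autoImplicit false
universe u
open CAlg

namespace Groth.Agent.S16667

/-- Let A be a Noetherian integral domain satisfying Serre's condition (S_2), with fraction field K. An
element of K which lies in the localization A_p for every prime p of A with depth(A_p) = 1 lies in
A. -/
theorem result {A : Type u} [CommRing A] [IsDomain A]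
    [IsNoetherianRing A] (hS2 : LocCoh.HasSk 2 A A) (x : FractionRing A)
    (hx : ∀ (p : Ideal A) [p.IsPrime],
      LocCoh.depth (Localization.AtPrime p) (Localization.AtPrime p) = 1 →
        x ∈ Set.range (algebraMap (Localization.AtPrime p) (FractionRing A))) :
    x ∈ Set.range (algebraMap A (FractionRing A)) := by
  classical
  let K := FractionRing A
  let N : Submodule A K := LinearMap.range (Algebra.linearMap A K) ⊔ Submodule.span A {x}
  let φ : A →ₗ[A] N := (Algebra.linearMap A K).codRestrict N fun a => Submodule.mem_sup_left ⟨a, rfl⟩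
  suffices h : Function.Bijective φ by
    obtain ⟨a, ha⟩ := h.2 ⟨x, Submodule.mem_sup_right (Submodule.mem_span_singleton_self x)⟩
    exact ⟨a, congrArg Subtype.val ha⟩
  refine GrothLib.DepthKer.bijective_of_depth_two φ fun p _ => ?_
  haveI : IsNoetherianRing (Localization.AtPrime p) :=
    IsLocalization.isNoetherianRing p.primeCompl _ inferInstance
  have hbij : x ∈ Set.range (algebraMap (Localization.AtPrime p) K) → Function.Bijective (LocalizedModule.map p.primeCompl φ) := by
    rintro ⟨z, hz⟩
    refine ⟨LocalizedModule.map_injective _ φ fun a b h => IsFractionRing.injective A K (congrArg Subtype.val h), ?_⟩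
    intro w
    induction w with
    | h y s =>
      obtain ⟨⟨a, t⟩, hat⟩ := IsLocalization.surj p.primeCompl z
      obtain ⟨u, hu, v, hv, huv⟩ := Submodule.mem_sup.1 y.2
      obtain ⟨b, rfl⟩ := hu
      obtain ⟨c, rfl⟩ := Submodule.mem_span_singleton.1 hv
      refine ⟨LocalizedModule.mk ((t : A) * b + c * a) (t * s), ?_⟩
      rw [LocalizedModule.map_mk, LocalizedModule.mk_eq]
      refine ⟨1, Subtype.ext ?_⟩
      have h1 : x * algebraMap A K t = algebraMap A K a := by
        have h0 := congrArg (algebraMap (Localization.AtPrime p) K) hat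
        rw [map_mul, hz, ← IsScalarTower.algebraMap_apply, ← IsScalarTower.algebraMap_apply] at h0
        exact h0
      simp only [one_smul, Submonoid.smul_def, Submonoid.coe_mul, SetLike.val_smul, φ,
        Submodule.coe_add, LinearMap.codRestrict_apply, Algebra.linearMap_apply, ← huv, Algebra.smul_def, map_add, map_mul]
      linear_combination (-(algebraMap A K c * algebraMap A K s)) * h1
  by_cases hp : p = ⊥
  · refine Or.inl (hbij ?_)
    obtain ⟨a, b, hb, rfl⟩ := IsFractionRing.div_surjective A x
    refine ⟨IsLocalization.mk' _ a (⟨b, fun h => nonZeroDivisors.ne_zero hb ((Submodule.mem_bot A).1 (hp.le h))⟩ : p.primeCompl), ?_⟩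
    rw [eq_div_iff (IsFractionRing.to_map_ne_zero_of_mem_nonZeroDivisors hb),
      IsScalarTower.algebraMap_apply A (Localization.AtPrime p) K, ← map_mul, IsLocalization.mk'_spec _ a (⟨b, _⟩ : p.primeCompl)]
    · exact (IsScalarTower.algebraMap_apply A (Localization.AtPrime p) K a).symm
  let e : LocalizedModule p.primeCompl A ≃ₗ[Localization.AtPrime p] Localization.AtPrime p :=
    (LocalizedModule.equivTensorProduct p.primeCompl A).trans
      (TensorProduct.AlgebraTensorModule.rid A (Localization.AtPrime p) (Localization.AtPrime p))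
  have hS := hS2 p
  rw [Module.supportDim_eq_of_equiv e, Module.supportDim_self_eq_ringKrullDim,
    IsLocalization.AtPrime.ringKrullDim_eq_height p, GrothLib.Depth.depth_localization_self] at hS
  have hd : ¬ 2 ≤ LocCoh.depth (Localization.AtPrime p) (Localization.AtPrime p) →
      LocCoh.depth (Localization.AtPrime p) (Localization.AtPrime p) = 1 := by
    intro h2
    have h1 : 1 ≤ p.height := Order.one_le_iff_ne_zero.2 fun h0 => hp (Ideal.height_eq_zero_iff_eq_bot.1 h0)
    have hS' : min (2 : ℕ∞) p.height ≤ LocCoh.depth (Localization.AtPrime p) (Localization.AtPrime p) := by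
      rw [← WithBot.coe_le_coe, WithBot.coe_min]
      exact le_of_eq_of_le (by norm_num) hS
    generalize LocCoh.depth (Localization.AtPrime p) (Localization.AtPrime p) = d at h2 hS' ⊢
    refine le_antisymm ?_ (le_trans (le_min (by norm_num) h1) hS')
    exact Order.le_of_lt_succ (lt_of_lt_of_eq (not_le.1 h2) rfl)
  by_cases h2 : 2 ≤ LocCoh.depth (Localization.AtPrime p) (Localization.AtPrime p)
  · refine Or.inr ⟨by rw [GrothLib.Depth.depth_localization_self]; exact h2, fun hass => hp ?_⟩
    obtain ⟨hpp, f, hf⟩ := (isAssociatedPrime_iff_exists_injective_linearMap _ _).1 ((AssociatedPrimes.mem_iff).1 hass)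
    rw [eq_bot_iff]
    intro r hr
    by_contra hr0
    have h1 : r • f (Ideal.Quotient.mk p 1) = 0 := by
      rw [← map_smul, Algebra.smul_def, Ideal.Quotient.algebraMap_eq, ← map_mul, mul_one,
        Ideal.Quotient.eq_zero_iff_mem.2 hr, map_zero]
    have h2 : f (Ideal.Quotient.mk p 1) = 0 := by
      have h3 := congrArg Subtype.val h1
      simp only [SetLike.val_smul, ZeroMemClass.coe_zero, Algebra.smul_def, mul_eq_zero] at h3
      exact Subtype.ext (h3.resolve_left ((map_ne_zero_iff _ (IsFractionRing.injective A K)).2 hr0))
    rw [map_eq_zero_iff f hf, Ideal.Quotient.eq_zero_iff_mem] at h2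
    exact hpp.ne_top ((Ideal.eq_top_iff_one p).2 h2)
  · exact Or.inl (hbij (hx p (hd h2)))

end Groth.Agent.S16667
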