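import Groth.Statements.S16668
import Groth.Agent.Lib.PowRestrict7.Main

set_option autoImplicit false
universe u
open CategoryTheory AlgebraicGeometry
open Lef

namespace Groth.Agent.S16668

/-- Let A be an excellent normal domain, J the radical ideal of A whose zero set is the set of
non-regular points of Spec A, and p a prime ideal of A generated by an A-regular sequence, such that
A/p is normal and ht(p) + ht(J) ≤ ht(p + J). Let U be an open subset of Spec A which contains every
regular point of V(p) and whose complement consists of points of height at least 2. Then for every m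
≥ 1 the restriction map from Γ(Spec(A/p^m), O) to the sections of O over the inverse image of U in
Spec(A/p^m) is bijective. (The published lemma asserts the corresponding bijection after p-adic
completion, for every finitely generated reflexive A-module in place of A; stated here, for A
itself, is the bijection at each finite level m which its proof establishes.) -/
theorem result
    (A : Type u) [CommRing A] [IsDomain A] [IsIntegrallyClosed A] (hA : EGA4.IsExcellent A)
    (J : Ideal A) (hJrad : J.IsRadical)
    (hJ : ∀ x : PrimeSpectrum A, J ≤ x.asIdeal ↔ x ∉ EGA4.regLocus A)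
    (p : Ideal A) [p.IsPrime] (rs : List A) (hrs : RingTheory.Sequence.IsRegular A rs)
    (hp : Ideal.ofList rs = p) (hnorm : IsIntegrallyClosed (A ⧸ p))
    (hht : p.height + J.height ≤ (p ⊔ J).height)
    (U : (Spec (CommRingCat.of A)).Opens)
    (hUreg : ∀ x : PrimeSpectrum A, p ≤ x.asIdeal → x ∈ EGA4.regLocus A → x ∈ U.1)
    (hUcodim : ∀ x : PrimeSpectrum A, x ∉ U.1 → (2 : ℕ∞) ≤ x.asIdeal.height)
    (m : ℕ) (hm : 1 ≤ m) :
    Function.Bijective ((Spec (CommRingCat.of (A ⧸ p ^ m))).presheaf.map
      (homOfLE (le_top : Spec.map (CommRingCat.ofHom (Ideal.Quotient.mk (p ^ m))) ⁻¹ᵁ U ≤ ⊤)).op).hom := by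
  haveI : IsNoetherianRing A := hA.1
  have hg := GrothLib.PowRestrict7.bijective_restrict J hJ p rs hrs hp hnorm hht U hUreg m hm
  set V : (Spec (CommRingCat.of (A ⧸ p ^ m))).Opens :=
    Spec.map (CommRingCat.ofHom (Ideal.Quotient.mk (p ^ m))) ⁻¹ᵁ U
  have htop : Function.Bijective (GrothLib.ColimSec7.t (A := A ⧸ p ^ m) (A ⧸ p ^ m) ⊤) :=
    (ConcreteCategory.isIso_iff_bijective _).1
      (AlgebraicGeometry.tilde.isIso_toOpen_top (R := CommRingCat.of (A ⧸ p ^ m))
        (M := ModuleCat.of (CommRingCat.of (A ⧸ p ^ m)) (A ⧸ p ^ m)))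
  have hr : Function.Bijective (GrothLib.ColimSec7.r (A := A ⧸ p ^ m) (A ⧸ p ^ m) (le_top : V ≤ ⊤)) := by
    refine (htop.of_comp_iff _).1 ?_
    unfold GrothLib.PowRestrict7.Good at hg
    convert hg using 1
    funext b
    exact GrothLib.ColimSec7.r_t (le_top : V ≤ ⊤) b
  exact hr

end Groth.Agent.S16668
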