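import Groth.Statements.S16675
-- import your own Groth.Agent.* helpers here
import Mathlib
import Groth.Agent.Lib.Rigidity.KernelPair

set_option autoImplicit false
universe u
open CategoryTheory CategoryTheory.Limits MonoidalCategory CartesianMonoidalCategory MonObj GrpObj AlgebraicGeometry
open AbVar

namespace Groth.Agent.S16675

/-- The equivalence of its second and third conditions. Let X and Y be abelian varieties over a field k
(proper, geometrically integral k-group schemes), f : X → Y a homomorphism which is finite, flat and
surjective (an isogeny), and i : N → X the kernel of f (the square formed by i, f, the unit section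
of Y and the structure map of N is cartesian). Then f is étale if and only if the structure morphism
N → Spec k is étale. (The published item also includes the equivalent condition that the function
field of X is separable over that of Y; that clause is not part of this statement.) -/
theorem result (k : Type u) [Field k]
    (X Y : Over (Spec (CommRingCat.of k)))
    [GrpObj X] [IsProper X.hom] [GeometricallyIntegral X.hom]
    [GrpObj Y] [IsProper Y.hom] [GeometricallyIntegral Y.hom]
    (f : X ⟶ Y) [IsMonHom f] [IsFinite f.left] [Flat f.left] [Surjective f.left]
    (N : Over (Spec (CommRingCat.of k))) (i : N ⟶ X) (hN : AlgGrp.IsKernel i f) :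
    Etale f.left ↔ Etale N.hom := by
  have hsq : IsPullback i.left N.hom f.left η[Y].left := hN.map (Over.forget _)
  have hP : IsPullback ((fst N X ≫ i) * snd N X).left (snd N X).left f.left f.left :=
    (GrothLib.Rigidity.isPullback_kernelPair f i hN).map (Over.forget _)
  refine ⟨fun h => MorphismProperty.of_isPullback hsq h, fun h => ?_⟩
  have h1 : Etale (snd N X).left := inferInstanceAs (Etale (pullback.snd N.hom X.hom))
  exact MorphismProperty.of_isPullback_of_descendsAlong (P := @Etale)
    (Q := @Surjective ⊓ @Flat ⊓ @QuasiCompact) hP.flip ⟨⟨inferInstance, inferInstance⟩, inferInstance⟩ h1

end Groth.Agent.S16675
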