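import Groth.Statements.S16678
import Groth.Agent.Lib.CompScheme5.Main
-- import your own Groth.Agent.* helpers here

set_option autoImplicit false
universe u
open CategoryTheory CategoryTheory.Limits AlgebraicGeometry
open Variety

namespace Groth.Agent.S16678

/-- For a field k and a k-scheme X locally of finite type there are an étale k-scheme P and a k-morphism
q : X → P such that every k-morphism h : X → Y to an étale k-scheme Y equals t ∘ q for exactly one
k-morphism t : P → Y; moreover q is flat and surjective, and for each point x of X the fibre
q⁻¹(q(x)), as a subset of X, is the connected component of x. (Étale means locally of finite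
presentation with étale ring maps on affine pieces; no quasi-compactness is asked, so P may have
infinitely many points.) -/
theorem result (k : Type u) [Field k]
    (X : Scheme.{u}) (f : X ⟶ Spec (CommRingCat.of k)) [LocallyOfFiniteType f] :
    ∃ (P : Scheme.{u}) (g : P ⟶ Spec (CommRingCat.of k)) (q : X ⟶ P), Etale g ∧ q ≫ g = f ∧
      (∀ (Y : Scheme.{u}) (gY : Y ⟶ Spec (CommRingCat.of k)) (h : X ⟶ Y), Etale gY → h ≫ gY = f →
        ∃! t : P ⟶ Y, t ≫ gY = g ∧ q ≫ t = h) ∧
      Flat q ∧ Surjective q ∧
      ∀ x : ↥X, (fun x' : ↥X => q x') ⁻¹' {q x} = connectedComponent x := by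
  exact GrothLib.CompScheme5.exists_componentsScheme X f

end Groth.Agent.S16678
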