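import Groth.Statements.S16682
-- import your own Groth.Agent.* helpers here
import Groth.Agent.Lib.Seesaw26.Main
import Groth.Agent.Lib.Seesaw26.FieldFunctions
import Groth.Agent.Lib.Cube.SeesawPic
import Groth.Agent.Lib.Rigidity.Relative.Hom

set_option autoImplicit false
universe u
open CategoryTheory CategoryTheory.Limits MonoidalCategory CartesianMonoidalCategory AlgebraicGeometry
open AbVar

namespace Groth.Agent.S16682

/-- Let k be a field, X a proper geometrically integral k-scheme (a complete variety), Y a variety over
k (separated, of finite type, geometrically integral), and L, M two invertible modules on X ×_k Y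
(the product in the category of k-schemes). If for every closed point y of Y the restrictions of L
and M to the fibre X ×_k Spec k(y) are isomorphic, then there is an invertible O_Y-module N with L
isomorphic to M ⊗ p^*N, where p : X ×_k Y → Y is the second projection (existence of an isomorphism;
N is determined only up to isomorphism). -/
theorem result (k : Type u) [Field k]
    (X Y : Over (Spec (CommRingCat.of k)))
    [IsProper X.hom] [GeometricallyIntegral X.hom]
    [IsSeparated Y.hom] [QuasiCompact Y.hom] [LocallyOfFiniteType Y.hom] [GeometricallyIntegral Y.hom]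
    (L M : (X ⊗ Y).left.Modules) (hL : PicF.IsInvertible L) (hM : PicF.IsInvertible M)
    (h : ∀ y : ↥Y.left, IsClosed ({y} : Set ↥Y.left) →
      Nonempty ((Scheme.Modules.pullback (pullback.fst (snd X Y).left (Y.left.fromSpecResidueField y))).obj L ≅
        (Scheme.Modules.pullback (pullback.fst (snd X Y).left (Y.left.fromSpecResidueField y))).obj M)) :
    ∃ N : Y.left.Modules, PicF.IsInvertible N ∧
      Nonempty (L ≅ CohB1.tensorMod M ((Scheme.Modules.pullback (snd X Y).left).obj N)) := by
  haveI : IsIntegral Y.left := GeometricallyIntegral.isIntegral_of_subsingleton Y.hom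
  haveI : IsLocallyNoetherian Y.left := LocallyOfFiniteType.isLocallyNoetherian Y.hom
  haveI : JacobsonSpace Y.left := LocallyOfFiniteType.jacobsonSpace Y.hom
  haveI hp : IsProper (snd X Y).left := GrothLib.Cube.isProper_snd_left X Y
  haveI hf : Flat (snd X Y).left := GrothLib.Cube.flat_snd_left X Y
  haveI : GeometricallyIntegral (snd X Y).left :=
    inferInstanceAs (GeometricallyIntegral (pullback.snd X.hom Y.hom))
  haveI : GeometricallyConnected (snd X Y).left :=
    GrothLib.Rigidity.geometricallyConnected_of_geometricallyIrreducible _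
  refine GrothLib.Seesaw26.exists_iso_tensor_pullback (snd X Y).left
    (GrothLib.Seesaw26.finrank_fiber_functions_eq_one _) L M hL hM fun y => ?_
  obtain ⟨c, ⟨e⟩⟩ := GrothLib.Ample.exists_cocycle hL
  obtain ⟨d, ⟨e'⟩⟩ := GrothLib.Ample.exists_cocycle hM
  have hq : ∀ y : Y.left, GrothLib.Cube.Triv (((GrothLib.Cube.inv d).prod c).comap ((snd X Y).left.fiberι y)) ↔
      Nonempty ((Scheme.Modules.pullback ((snd X Y).left.fiberι y)).obj L ≅
        (Scheme.Modules.pullback ((snd X Y).left.fiberι y)).obj M) := by
    intro y
    rw [← GrothLib.Cube.cls_eq_one_iff, ← GrothLib.Cube.pull_cls, GrothLib.Cube.cls_prod, map_mul,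
      ← GrothLib.Cube.clsMod_eq_iff (GrothLib.Ample.isInvertible_pullback _ hL) (GrothLib.Ample.isInvertible_pullback _ hM),
      GrothLib.Cube.clsMod_pullback _ hL, GrothLib.Cube.clsMod_pullback _ hM, GrothLib.Cube.clsMod_eq hL e,
      GrothLib.Cube.clsMod_eq hM e']
    have h1 : GrothLib.Cube.pull ((snd X Y).left.fiberι y) (GrothLib.Cube.cls (GrothLib.Cube.inv d)) *
        GrothLib.Cube.pull ((snd X Y).left.fiberι y) (GrothLib.Cube.cls d) = 1 := by
      rw [← map_mul, ← GrothLib.Cube.cls_prod]
      exact (congrArg _ (Quotient.sound (GrothLib.Cube.eqv_prod_inv d))).trans (map_one _)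
    constructor
    · intro h2
      calc _ = (GrothLib.Cube.pull ((snd X Y).left.fiberι y) (GrothLib.Cube.cls (GrothLib.Cube.inv d)) *
          GrothLib.Cube.pull ((snd X Y).left.fiberι y) (GrothLib.Cube.cls d)) *
          GrothLib.Cube.pull ((snd X Y).left.fiberι y) (GrothLib.Cube.cls c) := by rw [h1, _root_.one_mul]
        _ = GrothLib.Cube.pull ((snd X Y).left.fiberι y) (GrothLib.Cube.cls d) *
          (GrothLib.Cube.pull ((snd X Y).left.fiberι y) (GrothLib.Cube.cls (GrothLib.Cube.inv d)) *
          GrothLib.Cube.pull ((snd X Y).left.fiberι y) (GrothLib.Cube.cls c)) := by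
            rw [mul_comm (GrothLib.Cube.pull _ (GrothLib.Cube.cls (GrothLib.Cube.inv d))) (GrothLib.Cube.pull _ (GrothLib.Cube.cls d)), _root_.mul_assoc]
        _ = _ := by rw [h2, _root_.mul_one]
    · intro h2; rw [h2, h1]
  rw [← hq]
  refine GrothLib.Cube.triv_fibre_of_dense' _ _ (fun F _ g => ?_) (D := closedPoints Y.left) ?_
    (fun z hz => (hq z).2 (h z hz)) y
  · haveI := GeometricallyIntegral.isIntegral_of_subsingleton (pullback.snd (snd X Y).left g)
    infer_instance
  · exact dense_iff_closure_eq.2 closure_closedPoints

end Groth.Agent.S16682
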