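import Groth.Statements.S16687
-- import your own Groth.Agent.* helpers here
import Groth.Agent.Lib.Poincare.KLTorsion

set_option autoImplicit false
universe u
open CategoryTheory CategoryTheory.Limits MonoidalCategory CartesianMonoidalCategory MonObj GrpObj AlgebraicGeometry
open AbVar

namespace Groth.Agent.S16687

/-- Let X be an abelian variety over a field k (a proper, geometrically integral k-group scheme) with
group law m : X ×_k X → X and projections p₁, p₂, let L be an invertible O_X-module, and let n ≥ 2
be an integer such that n^*L ≅ L^{⊗ n}, where n : X → X is multiplication by n (the n-th power of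
the identity in the group of endomorphisms). Then the class of L lies in Pic⁰_{X/k}, i.e. the
Mumford module of L is trivial: m^*L ≅ p₁^*L ⊗ p₂^*L (existence of an isomorphism of modules on X
×_k X). (The published statement allows any integer n other than 0 and 1, negative n included; this
row takes n a natural number with n ≥ 2. The converse implication also holds; this row is the
direction from one such n.) -/
theorem result (k : Type u) [Field k]
    (X : Over (Spec (CommRingCat.of k))) [GrpObj X] [IsProper X.hom] [GeometricallyIntegral X.hom]
    (L : X.left.Modules) (hL : PicF.IsInvertible L) (n : ℕ) (hn : 2 ≤ n)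
    (h : Nonempty ((Scheme.Modules.pullback (𝟙 X ^ n).left).obj L ≅ CohB1.tensorPow L n)) :
    Nonempty ((Scheme.Modules.pullback μ[X].left).obj L ≅
      CohB1.tensorMod ((Scheme.Modules.pullback (fst X X).left).obj L)
        ((Scheme.Modules.pullback (snd X X).left).obj L)) := by
  have hx := GrothLib.Cube.hasCls_clsMod hL
  have hn' := (hx.pullback (𝟙 X ^ n).left).eq (hx.tensorPow n) h
  refine (hx.pullback _).iso ((hx.pullback _).tensor (hx.pullback _)) ?_
  have h1 := GrothLib.KL.mc_eq_one_of_pull_pow _ hn hn'
  rw [GrothLib.KL.mc_eq, mul_inv_eq_one, Category.comp_id] at h1
  have hm : μ[X] = fst X X * snd X X := by rw [Hom.mul_def, lift_fst_snd, Category.id_comp]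
  rw [hm]
  exact h1

end Groth.Agent.S16687
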