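import Groth.Statements.S16688
import Groth.Agent.Lib.Hopf.Antipode

set_option autoImplicit false
universe u v w
open ComodSub

namespace Groth.Agent.S16688

open TensorProduct


/-- Let `k` be a commutative ring, `A` a commutative Hopf algebra over `k` with antipode `S`, and `M` a
`k`-module with a left `A`-comodule structure `m ↦ Σ m₋₁ ⊗ m₀`. Then the map `M → M ⊗ A`, `m ↦ Σ m₀
⊗ S(m₋₁)`, is coassociative and counital: it is the coaction of a right `A`-comodule structure on
`M` (a right structure is determined by its coaction, so this structure is unique). -/
theorem result (k : Type u) [CommRing k]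
    (A : Type v) [CommRing A] [HopfAlgebra k A]
    (M : Type w) [AddCommGroup M] [Module k M] (l : ComodSub.LComod k A M) :
    ∃ c : HopfRep.Comod k A M, c.coact = ComodSub.rcoactOfLeft l := by
  refine ⟨{ coact := ComodSub.rcoactOfLeft l, coassoc := ?_, counit_comp := ?_ }, rfl⟩
  · let S := HopfAlgebraStruct.antipode (R := k) (A := A)
    let Φ : A ⊗[k] (A ⊗[k] M) →ₗ[k] M ⊗[k] (A ⊗[k] A) :=
      (TensorProduct.map S S ∘ₗ (TensorProduct.comm k A A).toLinearMap).lTensor M ∘ₗ
        (TensorProduct.comm k (A ⊗[k] A) M).toLinearMap ∘ₗ (TensorProduct.assoc k A A M).symm.toLinearMap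
    refine LinearMap.ext fun v => ?_
    have hl := LinearMap.congr_fun l.coassoc v
    simp only [LinearMap.coe_comp, Function.comp_apply, LinearEquiv.coe_coe] at hl
    have hL : ∀ x : A ⊗[k] M,
        TensorProduct.assoc k M A A ((rcoactOfLeft l).rTensor A
          (TensorProduct.comm k A M (S.rTensor M x))) = Φ (l.coact.lTensor A x) := by
      intro x
      induction x using TensorProduct.induction_on with
      | zero => simp
      | add a b ha hb => simp only [map_add, ha, hb]
      | tmul a u =>
        simp only [LinearMap.rTensor_tmul, TensorProduct.comm_tmul, LinearMap.lTensor_tmul,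
          rcoactOfLeft_apply]
        induction l.coact u using TensorProduct.induction_on with
        | zero => simp
        | add c d hc hd => simp only [map_add, TensorProduct.tmul_add, TensorProduct.add_tmul, hc, hd]
        | tmul b w => simp [Φ, S]
    have hR : ∀ x : A ⊗[k] M,
        (CoalgebraStruct.comul (R := k) (A := A)).lTensor M
          (TensorProduct.comm k A M (S.rTensor M x)) =
        Φ (TensorProduct.assoc k A A M ((CoalgebraStruct.comul (R := k) (A := A)).rTensor M x)) := by
      intro x
      induction x using TensorProduct.induction_on with
      | zero => simp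
      | add a b ha hb => simp only [map_add, ha, hb]
      | tmul a u =>
        simp only [LinearMap.rTensor_tmul, TensorProduct.comm_tmul, LinearMap.lTensor_tmul, S,
          GrothLib.Hopf.comul_antipode, Φ, LinearMap.coe_comp, Function.comp_apply,
          LinearEquiv.coe_coe, LinearEquiv.symm_apply_apply]
    simp only [LinearMap.coe_comp, Function.comp_apply, LinearEquiv.coe_coe, rcoactOfLeft_apply]
    rw [hL, hR, hl]
  · refine LinearMap.ext fun v => ?_
    have hl := LinearMap.congr_fun l.counit_comp v
    simp only [LinearMap.coe_comp, Function.comp_apply, TensorProduct.mk_apply] at hl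
    simp only [LinearMap.coe_comp, Function.comp_apply, rcoactOfLeft_apply, LinearEquiv.coe_coe,
      LinearMap.flip_apply, TensorProduct.mk_apply]
    rw [← TensorProduct.comm_tmul k k M 1 v, ← hl]
    induction l.coact v using TensorProduct.induction_on with
    | zero => simp
    | add c d hc hd => simp only [map_add, hc, hd]
    | tmul b w => simp

end Groth.Agent.S16688
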