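import Groth.Statements.S16689
import Groth.Agent.Lib.Hopf.Antipode

set_option autoImplicit false
universe u v w
open ComodSub

namespace Groth.Agent.S16689

open TensorProduct


/-- Let `k` be a commutative ring, `A` a commutative Hopf algebra over `k` with antipode `S`, and `M` a
`k`-module with a right `A`-comodule structure `m ↦ Σ m₀ ⊗ m₁`. Then the map `M → A ⊗ M`, `m ↦ Σ
S(m₁) ⊗ m₀`, is coassociative and counital: it is the coaction of a left `A`-comodule structure on
`M` (a left structure is determined by its coaction, so this structure is unique). -/
theorem result (k : Type u) [CommRing k]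
    (A : Type v) [CommRing A] [HopfAlgebra k A]
    (M : Type w) [AddCommGroup M] [Module k M] (c : HopfRep.Comod k A M) :
    ∃ l : ComodSub.LComod k A M, l.coact = ComodSub.lcoactOfRight c := by
  refine ⟨{ coact := ComodSub.lcoactOfRight c, coassoc := ?_, counit_comp := ?_ }, rfl⟩
  · let S := HopfAlgebraStruct.antipode (R := k) (A := A)
    let Φ : (M ⊗[k] A) ⊗[k] A →ₗ[k] A ⊗[k] (A ⊗[k] M) :=
      (TensorProduct.assoc k A A M).toLinearMap ∘ₗ
        (TensorProduct.map S S ∘ₗ (TensorProduct.comm k A A).toLinearMap).rTensor M ∘ₗ
        (TensorProduct.comm k M (A ⊗[k] A)).toLinearMap ∘ₗ (TensorProduct.assoc k M A A).toLinearMap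
    refine LinearMap.ext fun v => ?_
    have hc := LinearMap.congr_fun c.coassoc v
    simp only [LinearMap.coe_comp, Function.comp_apply, LinearEquiv.coe_coe,
      ← LinearEquiv.eq_symm_apply] at hc
    have hL : ∀ x : M ⊗[k] A,
        (lcoactOfRight c).lTensor A (TensorProduct.comm k M A (S.lTensor M x)) =
          Φ (c.coact.rTensor A x) := by
      intro x
      induction x using TensorProduct.induction_on with
      | zero => simp
      | add a b ha hb => simp only [map_add, ha, hb]
      | tmul u a =>
        simp only [LinearMap.rTensor_tmul, TensorProduct.comm_tmul, LinearMap.lTensor_tmul,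
          lcoactOfRight_apply]
        induction c.coact u using TensorProduct.induction_on with
        | zero => simp
        | add e d he hd => simp only [map_add, TensorProduct.tmul_add, TensorProduct.add_tmul, he, hd]
        | tmul w b => simp [Φ, S]
    have hR : ∀ x : M ⊗[k] A,
        TensorProduct.assoc k A A M ((CoalgebraStruct.comul (R := k) (A := A)).rTensor M
          (TensorProduct.comm k M A (S.lTensor M x))) =
        Φ ((TensorProduct.assoc k M A A).symm
          ((CoalgebraStruct.comul (R := k) (A := A)).lTensor M x)) := by
      intro x
      induction x using TensorProduct.induction_on with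
      | zero => simp
      | add a b ha hb => simp only [map_add, ha, hb]
      | tmul u a =>
        simp only [LinearMap.rTensor_tmul, TensorProduct.comm_tmul, LinearMap.lTensor_tmul, S,
          GrothLib.Hopf.comul_antipode, Φ, LinearMap.coe_comp, Function.comp_apply,
          LinearEquiv.coe_coe, LinearEquiv.apply_symm_apply]
    simp only [LinearMap.coe_comp, Function.comp_apply, LinearEquiv.coe_coe, lcoactOfRight_apply]
    rw [hL, hR, hc]
  · refine LinearMap.ext fun v => ?_
    have hc := LinearMap.congr_fun c.counit_comp v
    simp only [LinearMap.coe_comp, Function.comp_apply, LinearMap.flip_apply, TensorProduct.mk_apply] at hc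
    simp only [LinearMap.coe_comp, Function.comp_apply, lcoactOfRight_apply, LinearEquiv.coe_coe,
      TensorProduct.mk_apply]
    rw [← TensorProduct.comm_tmul k M k v 1, ← hc]
    induction c.coact v using TensorProduct.induction_on with
    | zero => simp
    | add e d he hd => simp only [map_add, he, hd]
    | tmul b w => simp

end Groth.Agent.S16689
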