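import Groth.Statements.S16690
import Groth.Agent.Lib.HopfAG.DualHom

set_option autoImplicit false
universe u v w
open ComodSub

namespace Groth.Agent.S16690

open TensorProduct


/-- Let `k` be a commutative ring, `A` a `k`-coalgebra that is flat over `k`, and `M` a finitely
presented `k`-module with a right `A`-comodule structure `m ↦ Σ m₀ ⊗ m₁`. Then the dual module `M^*
= Hom(M, k)` carries a left `A`-comodule structure whose coaction sends a form `g` to the element of
`A ⊗ M^*` that reads, through `a ⊗ φ ↦ (m ↦ φ(m) a)`, as the map `m ↦ Σ g(m₀) m₁` (the left dual of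
the given structure). (The published statement takes coalgebras to be commutative algebras whose
comultiplication and counit are algebra maps; the construction uses no multiplication on `A`, so
here `A` is any flat coalgebra.) -/
theorem result (k : Type u) [CommRing k]
    (A : Type v) [AddCommGroup A] [Module k A] [Coalgebra k A] [Module.Flat k A]
    (M : Type w) [AddCommGroup M] [Module k M] [Module.FinitePresentation k M]
    (c : HopfRep.Comod k A M) :
    ∃ l : ComodSub.LComod k A (Module.Dual k M), ComodSub.LComod.IsLDual c l := by
  have hb := GrothLib.HopfAG.bijective_dualTensorHom_of_finitePresentation (k := k) M A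
  let θ := LinearEquiv.ofBijective (dualTensorHom k M A) hb
  let L : Module.Dual k M →ₗ[k] A ⊗[k] Module.Dual k M :=
    (TensorProduct.comm k (Module.Dual k M) A).toLinearMap ∘ₗ θ.symm.toLinearMap ∘ₗ
      { toFun := fun g => ldualFun c g
        map_add' := fun g h => by
          simp only [ldualFun, LinearMap.rTensor_add, LinearMap.add_comp, LinearMap.comp_add]
        map_smul' := fun r g => by
          simp only [ldualFun, LinearMap.rTensor_smul, LinearMap.smul_comp, LinearMap.comp_smul,
            RingHom.id_apply] }
  let Θ : A ⊗[k] Module.Dual k M →ₗ[k] M →ₗ[k] A :=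
    dualTensorHom k M A ∘ₗ (TensorProduct.comm k A (Module.Dual k M)).toLinearMap
  have hL : ∀ g, Θ (L g) = ldualFun c g := by
    intro g
    simp only [Θ, L, LinearMap.coe_comp, Function.comp_apply, LinearEquiv.coe_coe,
      TensorProduct.comm_comm]
    exact θ.apply_symm_apply (ldualFun c g)
  let Ψ : A ⊗[k] (A ⊗[k] Module.Dual k M) →ₗ[k] M →ₗ[k] A ⊗[k] A :=
    dualTensorHom k M (A ⊗[k] A) ∘ₗ (TensorProduct.comm k (A ⊗[k] A) (Module.Dual k M)).toLinearMap ∘ₗ
      (TensorProduct.assoc k A A (Module.Dual k M)).symm.toLinearMap
  have hΨ : Function.Injective Ψ :=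
    (GrothLib.HopfAG.bijective_dualTensorHom_of_finitePresentation (k := k) M (A ⊗[k] A)).1.comp
      ((TensorProduct.comm k (A ⊗[k] A) (Module.Dual k M)).injective.comp
        (TensorProduct.assoc k A A (Module.Dual k M)).symm.injective)
  have h1 : ∀ x : A ⊗[k] Module.Dual k M,
      Ψ (L.lTensor A x) = (Θ x).rTensor A ∘ₗ c.coact := by
    intro x
    induction x using TensorProduct.induction_on with
    | zero => simp
    | add a b ha hb => simp only [map_add, ha, hb, LinearMap.rTensor_add, LinearMap.add_comp]
    | tmul a φ =>
      have h : Ψ (L.lTensor A (a ⊗ₜ φ)) = TensorProduct.mk k A A a ∘ₗ Θ (L φ) := by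
        rw [LinearMap.lTensor_tmul]
        induction L φ using TensorProduct.induction_on with
        | zero => simp
        | add e d he hd => simp only [map_add, TensorProduct.tmul_add, he, hd, LinearMap.comp_add]
        | tmul b χ => ext m; simp [Ψ, Θ, TensorProduct.smul_tmul']
      rw [h, hL]
      ext m
      simp only [LinearMap.coe_comp, Function.comp_apply, TensorProduct.mk_apply, ldualFun_apply]
      induction c.coact m using TensorProduct.induction_on with
      | zero => simp
      | add e d he hd => simp only [map_add, TensorProduct.tmul_add, he, hd]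
      | tmul u b => simp [Θ, TensorProduct.smul_tmul]
  have h2 : ∀ x : A ⊗[k] Module.Dual k M,
      Ψ (TensorProduct.assoc k A A _ ((CoalgebraStruct.comul (R := k) (A := A)).rTensor _ x)) =
        CoalgebraStruct.comul ∘ₗ Θ x := by
    intro x
    induction x using TensorProduct.induction_on with
    | zero => simp
    | add a b ha hb => simp only [map_add, ha, hb, LinearMap.comp_add]
    | tmul a φ => ext m; simp [Ψ, Θ]
  refine ⟨{ coact := L, coassoc := ?_, counit_comp := ?_ }, hL⟩
  · refine LinearMap.ext fun g => hΨ ?_
    simp only [LinearMap.coe_comp, Function.comp_apply, LinearEquiv.coe_coe]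
    rw [h1, h2, hL]
    ext m
    have hc := LinearMap.congr_fun c.coassoc m
    simp only [LinearMap.coe_comp, Function.comp_apply, LinearEquiv.coe_coe] at hc
    simp only [LinearMap.coe_comp, Function.comp_apply, ldualFun_apply]
    have hR : ∀ y : M ⊗[k] A,
        CoalgebraStruct.comul (R := k) (TensorProduct.lid k A (g.rTensor A y)) =
        TensorProduct.lid k (A ⊗[k] A) (g.rTensor (A ⊗[k] A)
          ((CoalgebraStruct.comul (R := k) (A := A)).lTensor M y)) := by
      intro y
      induction y using TensorProduct.induction_on with
      | zero => simp
      | add e d he hd => simp only [map_add, he, hd]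
      | tmul u b => simp
    rw [hR, ← hc, ← LinearMap.comp_apply (LinearMap.rTensor A (ldualFun c g)) c.coact]
    simp only [ldualFun, LinearMap.rTensor_comp, LinearMap.coe_comp, Function.comp_apply]
    induction c.coact.rTensor A (c.coact m) using TensorProduct.induction_on with
    | zero => simp
    | add e d he hd => simp only [map_add, he, hd]
    | tmul y b =>
      induction y using TensorProduct.induction_on with
      | zero => simp
      | add e d he hd => simp only [map_add, TensorProduct.add_tmul, he, hd]
      | tmul u a => simp [TensorProduct.smul_tmul']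
  · refine LinearMap.ext fun g => ?_
    simp only [LinearMap.coe_comp, Function.comp_apply, TensorProduct.mk_apply]
    apply (TensorProduct.lid k (Module.Dual k M)).injective
    rw [TensorProduct.lid_tmul, one_smul]
    have h3 : ∀ x : A ⊗[k] Module.Dual k M,
        TensorProduct.lid k _ ((CoalgebraStruct.counit (R := k) (A := A)).rTensor _ x) =
          CoalgebraStruct.counit ∘ₗ Θ x := by
      intro x
      induction x using TensorProduct.induction_on with
      | zero => simp
      | add a b ha hb => simp only [map_add, ha, hb, LinearMap.comp_add]
      | tmul a φ => ext m; simp [Θ, mul_comm]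
    rw [h3, hL]
    ext m
    have hc := LinearMap.congr_fun c.counit_comp m
    simp only [LinearMap.coe_comp, Function.comp_apply, LinearMap.flip_apply, TensorProduct.mk_apply] at hc
    simp only [LinearMap.coe_comp, Function.comp_apply, ldualFun_apply]
    have h4 : ∀ y : M ⊗[k] A,
        CoalgebraStruct.counit (R := k) (TensorProduct.lid k A (g.rTensor A y)) =
          g (TensorProduct.rid k M ((CoalgebraStruct.counit (R := k) (A := A)).lTensor M y)) := by
      intro y
      induction y using TensorProduct.induction_on with
      | zero => simp
      | add e d he hd => simp only [map_add, he, hd]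
      | tmul u b => simp [mul_comm]
    rw [h4, hc, TensorProduct.rid_tmul, one_smul]

end Groth.Agent.S16690
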