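import Groth.Statements.S16691
import Groth.Agent.Lib.HopfAG.DualHom
import Mathlib

set_option autoImplicit false
universe u v w w'
open scoped TensorProduct
open ComodTens

namespace Groth.Agent.S16691

open TensorProduct

/-- Let `k` be a commutative ring, `A` a commutative Hopf algebra over `k`, flat over `k`, `B` a flat
`k`-module with a right `A`-comodule structure, and `M` a finitely presented `k`-module with a right
`A`-comodule structure; let `M^*` carry the contragredient structure `d` (for each form `f`, `d f`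
read as a map `M → A` is `m ↦ Σ f(m₀) S(m₁)`) and `B ⊗ M^*` the tensor-product coaction `b ⊗ φ ↦ Σ
(b₀ ⊗ φ₀) ⊗ b₁ φ₁`. Then `b ⊗ φ ↦ (m ↦ φ(m) b)` restricts to a bijection from the invariants `(B ⊗
M^*)^A` (elements with coaction `x ⊗ 1`) onto the `A`-comodule maps `M → B`. (The published
statement assumes `B` only finitely presented over `k`; for `k = ℤ`, `A = ℤ` the Hopf algebra of the
trivial group and `B = M = ℤ/2` with trivial coactions, `M^* = 0` so the invariants vanish while the
identity of `ℤ/2` is a comodule map, and the published proof uses that `B ⊗ M^* → Hom(M, B)` is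
bijective, which holds for `B` flat; so `B` is taken flat here.) -/
theorem result (k : Type u) [CommRing k]
    (A : Type v) [CommRing A] [HopfAlgebra k A] [Module.Flat k A]
    (B : Type w) [AddCommGroup B] [Module k B] [Module.Flat k B] (cB : HopfRep.Comod k A B)
    (M : Type w') [AddCommGroup M] [Module k M] [Module.FinitePresentation k M]
    (cM : HopfRep.Comod k A M)
    (d : HopfRep.Comod k A (Module.Dual k M)) (hd : ComodTens.Comod.IsDual cM d) :
    Set.BijOn
      (fun x : B ⊗[k] Module.Dual k M => dualTensorHom k M B (TensorProduct.comm k B (Module.Dual k M) x))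
      ((@HopfRep.fixedPts k A _ _ _ (B ⊗[k] Module.Dual k M) _ _ (ComodTens.Comod.tensor cB d)) :
        Set (B ⊗[k] Module.Dual k M))
      {h : M →ₗ[k] B | @Hoch.IsComodHom k _ A _ _ _ M _ _ cM B _ _ cB h} := by
  let S : A →ₗ[k] A := HopfAlgebraStruct.antipode (R := k) (A := A)
  let Δ : A →ₗ[k] A ⊗[k] A := CoalgebraStruct.comul (R := k) (A := A)
  let μ : (B ⊗[k] A) ⊗[k] A →ₗ[k] B ⊗[k] A :=
    (LinearMap.mul' k A).lTensor B ∘ₗ (TensorProduct.assoc k B A A).toLinearMap
  let C : (M →ₗ[k] B ⊗[k] A) → (A →ₗ[k] A) → (M →ₗ[k] B ⊗[k] A) := fun f g => μ ∘ₗ TensorProduct.map f g ∘ₗ cM.coact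
  have hμ : ∀ (s : B ⊗[k] A) (a b : A), μ (μ (s ⊗ₜ[k] a) ⊗ₜ[k] b) = μ (s ⊗ₜ[k] (a * b)) := fun s a b => by
    induction s using TensorProduct.induction_on with
    | zero => simp
    | add p q hp hq => simp only [TensorProduct.add_tmul, map_add, hp, hq]
    | tmul p q => simp [μ, mul_assoc]
  have hassoc : ∀ f g₁ g₂, C (C f g₁) g₂ = C f (LinearMap.mul' k A ∘ₗ TensorProduct.map g₁ g₂ ∘ₗ Δ) := fun f g₁ g₂ => by
    refine LinearMap.ext fun m => ?_
    have e1 : ∀ t : M ⊗[k] A, μ (TensorProduct.map (μ ∘ₗ TensorProduct.map f g₁ ∘ₗ cM.coact) g₂ t) =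
        μ (TensorProduct.map (μ ∘ₗ TensorProduct.map f g₁) g₂ (cM.coact.rTensor A t)) := fun t => by
      induction t using TensorProduct.induction_on with
      | zero => simp
      | add p q hp hq => simp only [map_add, hp, hq]
      | tmul p q => simp
    have e2 : ∀ t : M ⊗[k] A, μ (TensorProduct.map (μ ∘ₗ TensorProduct.map f g₁) g₂
        ((TensorProduct.assoc k M A A).symm (Δ.lTensor M t))) =
        μ (TensorProduct.map f (LinearMap.mul' k A ∘ₗ TensorProduct.map g₁ g₂ ∘ₗ Δ) t) := fun t => by
      induction t using TensorProduct.induction_on with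
      | zero => simp
      | add p q hp hq => simp only [map_add, hp, hq]
      | tmul p q =>
        simp only [LinearMap.lTensor_tmul, TensorProduct.map_tmul, LinearMap.comp_apply]
        induction Δ q using TensorProduct.induction_on with
        | zero => simp
        | add a b ha hb => simp only [TensorProduct.tmul_add, map_add, ha, hb]
        | tmul a b => simp [hμ]
    show μ (TensorProduct.map (C f g₁) g₂ (cM.coact m)) = μ (TensorProduct.map f _ (cM.coact m))
    rw [← e2, show C f g₁ = μ ∘ₗ TensorProduct.map f g₁ ∘ₗ cM.coact from rfl, e1]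
    congr 2
    rw [LinearEquiv.eq_symm_apply]
    exact LinearMap.congr_fun cM.coassoc m
  have hunit : ∀ f, C f (Algebra.linearMap k A ∘ₗ CoalgebraStruct.counit (R := k) (A := A)) = f := fun f => by
    refine LinearMap.ext fun m => ?_
    have hc : (CoalgebraStruct.counit (R := k) (A := A)).lTensor M (cM.coact m) = m ⊗ₜ[k] (1 : k) :=
      LinearMap.congr_fun cM.counit_comp m
    have e : ∀ t : M ⊗[k] A, μ (TensorProduct.map f (Algebra.linearMap k A ∘ₗ CoalgebraStruct.counit (R := k) (A := A)) t) =
        TensorProduct.rid k _ (f.rTensor k ((CoalgebraStruct.counit (R := k) (A := A)).lTensor M t)) := fun t => by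
      induction t using TensorProduct.induction_on with
      | zero => simp
      | add p q hp hq => simp only [map_add, hp, hq]
      | tmul p q =>
        simp only [TensorProduct.map_tmul, LinearMap.lTensor_tmul, LinearMap.rTensor_tmul, TensorProduct.rid_tmul, LinearMap.comp_apply]
        induction f p using TensorProduct.induction_on with
        | zero => simp
        | add a b ha hb => simp only [TensorProduct.add_tmul, map_add, smul_add, ha, hb]
        | tmul a b => simp [μ, ← Algebra.commutes, ← Algebra.smul_def, TensorProduct.tmul_smul]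
    show μ (TensorProduct.map f _ (cM.coact m)) = f m
    rw [e, hc, LinearMap.rTensor_tmul, TensorProduct.rid_tmul, one_smul]
  let j : (M →ₗ[k] B) → (M →ₗ[k] B ⊗[k] A) := fun h => (TensorProduct.mk k B A).flip 1 ∘ₗ h
  have hjid : ∀ h, C (j h) LinearMap.id = h.rTensor A ∘ₗ cM.coact := fun h => by
    refine LinearMap.ext fun m => ?_
    show μ (TensorProduct.map (j h) LinearMap.id (cM.coact m)) = h.rTensor A (cM.coact m)
    induction cM.coact m using TensorProduct.induction_on with
    | zero => simp
    | add p q hp hq => simp only [map_add, hp, hq]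
    | tmul p q => simp [μ, j]
  have hSid : LinearMap.mul' k A ∘ₗ TensorProduct.map S LinearMap.id ∘ₗ Δ = Algebra.linearMap k A ∘ₗ CoalgebraStruct.counit (R := k) (A := A) :=
    HopfAlgebra.mul_antipode_rTensor_comul
  have hidS : LinearMap.mul' k A ∘ₗ TensorProduct.map LinearMap.id S ∘ₗ Δ = Algebra.linearMap k A ∘ₗ CoalgebraStruct.counit (R := k) (A := A) :=
    HopfAlgebra.mul_antipode_lTensor_comul
  have hhom : ∀ h : M →ₗ[k] B, @Hoch.IsComodHom k _ A _ _ _ M _ _ cM B _ _ cB h ↔ C (cB.coact ∘ₗ h) S = j h := fun h => by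
    constructor
    · intro hh
      rw [show cB.coact ∘ₗ h = C (j h) LinearMap.id from hh.trans (hjid h).symm, hassoc, hidS, hunit]
    · intro hh
      show cB.coact ∘ₗ h = h.rTensor A ∘ₗ cM.coact
      rw [← hjid, ← hh, hassoc, hSid, hunit]
  -- the tensor side
  haveI : Module.Flat k (B ⊗[k] A) := inferInstance
  let θ : B ⊗[k] Module.Dual k M →ₗ[k] M →ₗ[k] B := dualTensorHom k M B ∘ₗ (TensorProduct.comm k B (Module.Dual k M)).toLinearMap
  have hθ : Function.Bijective θ :=
    (GrothLib.HopfAG.bijective_dualTensorHom_of_finitePresentation M B).comp (LinearEquiv.bijective _)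
  let e : (B ⊗[k] Module.Dual k M) ⊗[k] A ≃ₗ[k] Module.Dual k M ⊗[k] (B ⊗[k] A) :=
    (TensorProduct.comm k B (Module.Dual k M)).rTensor A ≪≫ₗ TensorProduct.assoc k _ _ _
  let Ψ : (B ⊗[k] Module.Dual k M) ⊗[k] A →ₗ[k] M →ₗ[k] B ⊗[k] A := dualTensorHom k M (B ⊗[k] A) ∘ₗ e.toLinearMap
  have hΨ : Function.Injective Ψ :=
    (GrothLib.HopfAG.bijective_dualTensorHom_of_finitePresentation M (B ⊗[k] A)).1.comp e.injective
  have hΨ1 : ∀ x, Ψ (x ⊗ₜ[k] (1 : A)) = j (θ x) := fun x => by
    induction x using TensorProduct.induction_on with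
    | zero => simp [j]
    | add p q hp hq => simp only [TensorProduct.add_tmul, map_add, hp, hq]; simp [j, LinearMap.comp_add]
    | tmul p q => ext m; simp [Ψ, θ, j, e, TensorProduct.smul_tmul']
  have hΨρ : ∀ x, Ψ ((ComodTens.Comod.tensor cB d).coact x) = C (cB.coact ∘ₗ θ x) S := fun x => by
    induction x using TensorProduct.induction_on with
    | zero => simp [C]
    | add p q hp hq =>
      rw [map_add, map_add, hp, hq]
      simp [C, LinearMap.comp_add, TensorProduct.map_add_left, LinearMap.add_comp]
    | tmul b φ =>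
      have e1 : ∀ (s : B ⊗[k] A) (t : Module.Dual k M ⊗[k] A) (m : M),
          Ψ (TensorProduct.map LinearMap.id (LinearMap.mul' k A)
            (AlgebraTensorModule.tensorTensorTensorComm k k k k B A (Module.Dual k M) A (s ⊗ₜ[k] t))) m =
          μ (s ⊗ₜ[k] dualTensorHom k M A t m) := fun s t m => by
        induction s using TensorProduct.induction_on with
        | zero => simp
        | add p q hp hq => simp only [TensorProduct.add_tmul, map_add, LinearMap.add_apply, hp, hq]
        | tmul p q =>
          induction t using TensorProduct.induction_on with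
          | zero => simp
          | add u v hu hv => simp only [TensorProduct.tmul_add, map_add, LinearMap.add_apply, hu, hv]
          | tmul u v => simp [Ψ, e, μ, TensorProduct.smul_tmul', TensorProduct.tmul_smul]
      refine LinearMap.ext fun m => ?_
      rw [ComodTens.tensor_coact_tmul, e1, hd φ, ComodTens.dualCoactFun_apply]
      show _ = μ (TensorProduct.map (cB.coact ∘ₗ θ (b ⊗ₜ[k] φ)) S (cM.coact m))
      induction cM.coact m using TensorProduct.induction_on with
      | zero => simp
      | add p q hp hq => simp only [TensorProduct.tmul_add, map_add, hp, hq]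
      | tmul p q => simp [θ, S, TensorProduct.tmul_smul, TensorProduct.smul_tmul']
  have key : ∀ x, x ∈ (@HopfRep.fixedPts k A _ _ _ (B ⊗[k] Module.Dual k M) _ _ (ComodTens.Comod.tensor cB d)) ↔
      @Hoch.IsComodHom k _ A _ _ _ M _ _ cM B _ _ cB (θ x) := fun x => by
    rw [hhom, ← hΨρ, ← hΨ1, hΨ.eq_iff]
    rfl
  refine ⟨fun x hx => (key x).1 hx, fun x _ y _ h => hθ.1 h, fun h hh => ?_⟩
  obtain ⟨x, rfl⟩ := hθ.2 h
  exact ⟨x, (key x).2 hh, rfl⟩

end Groth.Agent.S16691
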