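import Groth.Statements.S16697
import Groth.Agent.Lib.AlgSt.WellNighSep


set_option autoImplicit false
set_option backward.isDefEq.respectTransparency false
set_option backward.isDefEq.respectTransparency.types false
universe u
open AlgSt AlgSt.IsWellNighAffine

namespace Groth.Agent.S16697

open CategoryTheory AlgebraicGeometry in
/-- A well-nigh affine algebraic stack is quasi-compact, quasi-DM over `S` and separated over `S` (for
`S = Spec ℤ` these are the absolute notions of the published statement). The characterisation by
presentations `[U/R]` with `U`, `R` affine and `s`, `t` finite locally free is not stated. -/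
theorem result (S : Scheme.{u}) (𝒳 : AlgSt.Cat S)
    (h𝒳 : AlgSt.IsAlgStack Scheme.fppfPrecoverage 𝒳) (hw : AlgSt.IsWellNighAffine 𝒳) :
    AlgSt.IsQuasiCompact 𝒳 ∧ AlgSt.IsQuasiDMOver 𝒳 ∧ AlgSt.IsSeparatedOver 𝒳 := by
  exact GrothLib.AlgSt.WellNigh.isQuasiCompact_isQuasiDMOver_isSeparatedOver h𝒳 hw

end Groth.Agent.S16697
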