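import Groth.Statements.S16698
import Groth.Agent.Lib.AlgSt.WellNigh


set_option autoImplicit false
set_option backward.isDefEq.respectTransparency false
set_option backward.isDefEq.respectTransparency.types false
universe u
open AlgSt AlgSt.IsWellNighAffine

namespace Groth.Agent.S16698

open CategoryTheory AlgebraicGeometry in
/-- A well-nigh affine algebraic stack which is an algebraic space is an affine scheme. -/
theorem result (S : Scheme.{u}) (𝒳 : AlgSt.Cat S)
    (h𝒳 : AlgSt.IsAlgStack Scheme.fppfPrecoverage 𝒳) (hw : AlgSt.IsWellNighAffine 𝒳)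
    (hsp : AlgSt.RepByAlgSp 𝒳) :
    ∃ (U : Over S) (e : AlgSt.ofSch U ⥤ᵇ 𝒳), IsAffine U.left ∧ FibCat.IsEquivOver e := by
  exact GrothLib.AlgSt.WellNigh.exists_affine_equivOver hw hsp

end Groth.Agent.S16698
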