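import Groth.Statements.S1670
import Groth.Agent.Lib.BaseChange.Irred
import Mathlib.AlgebraicGeometry.Noetherian
import Mathlib.AlgebraicGeometry.Morphisms.FiniteType
import Mathlib.AlgebraicGeometry.Morphisms.Affine

set_option autoImplicit false
universe u
open CategoryTheory CategoryTheory.Limits AlgebraicGeometry
open Variety

namespace Groth.Agent.S1670

/-- Let X be locally of finite type over k, K a separable closure of k, and T an irreducible component
of X. Then the inverse image of T in X_K is the union of the finitely many irreducible components of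
X_K mapping into T, and these form a single orbit under the action of the k-automorphisms of K on
X_K. -/
theorem result (k : Type u) [Field k] (X : Scheme.{u}) [X.Over (Spec (CommRingCat.of k))] [LocallyOfFiniteType (X ↘ (Spec (CommRingCat.of k)))]
    (T : Set X) (hT : T ∈ irreducibleComponents (X : Type u)) :
    {T' : Set (Curv2.bc k X (SeparableClosure k)) | T' ∈ irreducibleComponents (Curv2.bc k X (SeparableClosure k) : Type u) ∧
        (Curv2.bcFst k X (SeparableClosure k)).base '' T' ⊆ T}.Finite ∧
      (Curv2.bcFst k X (SeparableClosure k)).base ⁻¹' T = ⋃₀ {T' : Set (Curv2.bc k X (SeparableClosure k)) | T' ∈ irreducibleComponents (Curv2.bc k X (SeparableClosure k) : Type u) ∧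
        (Curv2.bcFst k X (SeparableClosure k)).base '' T' ⊆ T} ∧
      ∀ T' T'' : Set (Curv2.bc k X (SeparableClosure k)), T' ∈ irreducibleComponents (Curv2.bc k X (SeparableClosure k) : Type u) →
        T'' ∈ irreducibleComponents (Curv2.bc k X (SeparableClosure k) : Type u) →
        (Curv2.bcFst k X (SeparableClosure k)).base '' T' ⊆ T → (Curv2.bcFst k X (SeparableClosure k)).base '' T'' ⊆ T →
        ∃ σ : (SeparableClosure k) ≃ₐ[k] (SeparableClosure k), (Curv2.galAct k X (SeparableClosure k) σ).base '' T' = T'' := by
    open GrothLib.BaseChange in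
    let L := SeparableClosure k
    let p := Curv2.bcFst k X L
    obtain ⟨η, hη⟩ := exists_generic hT
    have himg : ∀ T' ∈ irreducibleComponents (Curv2.bc k X L : Type u), p '' T' ⊆ T →
        ∃ t', IsGenericPoint t' T' ∧ p t' = η := by
      intro T' hT' hsub
      obtain ⟨t', ht'⟩ := exists_generic hT'
      have h := image_irreducibleComponent k X L hT' ht'
      have e : closure {p t'} = T :=
        h.2.eq_of_le hT.1 (h.1 ▸ hsub)
      exact ⟨t', ht', IsGenericPoint.eq (S := T) e hη⟩
    refine ⟨?_, Set.Subset.antisymm (fun z hz => ?_)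
      (Set.sUnion_subset fun T' hT' z hz => hT'.2 ⟨z, hz, rfl⟩), fun T' T'' hT' hT'' h' h'' => ?_⟩
    · obtain ⟨_, ⟨U, hU, rfl⟩, hηU, -⟩ := X.isBasis_affineOpens.exists_subset_of_mem_open
        (a := η) (Set.mem_univ _) isOpen_univ
      let V := p ⁻¹ᵁ U
      have hV : IsAffineOpen V := hU.preimage p
      have : LocallyOfFiniteType (Curv2.bcSnd k X L) := MorphismProperty.pullback_snd _ _ inferInstance
      have : IsLocallyNoetherian (Curv2.bc k X L) :=
        LocallyOfFiniteType.isLocallyNoetherian (Curv2.bcSnd k X L)
      have : IsNoetherianRing Γ(Curv2.bc k X L, V) := IsLocallyNoetherian.component_noetherian ⟨V, hV⟩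
      have : IsAffine V.toScheme := hV
      have : CompactSpace V.toScheme := isCompact_iff_compactSpace.mp hV.isCompact
      have : IsNoetherian V.toScheme := {}
      refine ((TopologicalSpace.NoetherianSpace.finite_irreducibleComponents (α := V.toScheme)).image
        fun D => closure (V.ι '' D)).subset ?_
      rintro T' ⟨hT', hsub⟩
      obtain ⟨t', ht', hpt'⟩ := himg T' hT' hsub
      obtain ⟨v, rfl⟩ : t' ∈ Set.range V.ι := by
        rw [Scheme.Opens.range_ι]
        show p t' ∈ U
        rw [hpt']
        exact hηU
      refine ⟨closure {v}, closure_singleton_mem_irreducibleComponents fun v' hv' => ?_, ?_⟩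
      · exact V.ι.isEmbedding.injective (eq_of_specializes_generic hT' ht' (hv'.map V.ι.continuous))
      · show closure (V.ι '' closure {v}) = T'
        rw [closure_image_closure V.ι.continuous, Set.image_singleton, ht'.def]
    · obtain ⟨T', hT', hzT', e⟩ := exists_component_over k X L hT z hz
      exact ⟨T', ⟨hT', e.le⟩, hzT'⟩
    · obtain ⟨t', ht', hpt'⟩ := himg T' hT' h'
      obtain ⟨t'', ht'', hpt''⟩ := himg T'' hT'' h''
      obtain ⟨σ, hσ⟩ := exists_galAct_eq k X L t' t'' (hpt'.trans hpt''.symm)
      refine ⟨σ, ?_⟩
      rw [← ht'.def, ← ht''.def, ← hσ]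
      exact ((galHomeo k X L σ).image_closure {t'}).trans (by rw [Set.image_singleton]; rfl)

end Groth.Agent.S1670
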