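import Groth.Statements.S16704
import Groth.Agent.Lib.AlgSt.CatModuliLocal


set_option autoImplicit false
set_option backward.isDefEq.respectTransparency false
set_option backward.isDefEq.respectTransparency.types false
universe u
open AlgSt

namespace Groth.Agent.S16704

set_option backward.isDefEq.respectTransparency false
set_option backward.isDefEq.respectTransparency.types false
open CategoryTheory CategoryTheory.Limits

open CategoryTheory AlgebraicGeometry in
/-- Let `𝒳` be an algebraic stack, `Y` an algebraic space and `f : 𝒳 → Y` a morphism. If every base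
change of `f` to an affine scheme flat over `Y` is a categorical moduli space, the morphism `f`
itself is a uniform categorical moduli space. -/
theorem result (S : Scheme.{u}) (𝒳 : AlgSt.Cat S)
    (h𝒳 : AlgSt.IsAlgStack Scheme.fppfPrecoverage 𝒳) (Y : AlgSp.Sp S) (hY : AlgSp.IsAlgSpace Y)
    (f : 𝒳 ⥤ᵇ AlgSt.ofSp Y)
    (hf : ∀ (Y' : Over S), IsAffine Y'.left → ∀ (g : (AlgSp.yon S).obj Y' ⟶ Y), AlgSp.LocP @Flat g →
      AlgSt.IsCatModuli (FibCat.fpFst (AlgSt.ofSpMap g) f)) :
    AlgSt.IsUnifCatModuli f := by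
  have hfl : ∀ {F G : AlgSp.Sp S} {a : F ⟶ G}, AlgSp.IsAlgSpace G → AlgSp.RepWith @Etale a → AlgSp.LocP @Flat a :=
    fun {F G a} hG h => GrothLib.AlgSp.EtLocal.flat.locP_of_repWith hG
      (GrothLib.AlgSp.repWith_mono h fun _ _ t (ht : Etale t) => (inferInstance : Flat t))
  refine ⟨GrothLib.AlgSt.CatLocal.isCatModuli_of_etale_affine h𝒳.isStack.1 hY f fun Y' hY' g hg => hf Y' hY' g (hfl hY hg),
    fun M' hM' g hg => ?_⟩
  refine GrothLib.AlgSt.CatLocal.isCatModuli_of_etale_affine (GrothLib.FibCat.Fp.isFibGrpd (F := AlgSt.ofSpMap g) (G := f)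
    (GrothLib.AlgSt.isFibGrpd_ofSp M') h𝒳.isStack.1 (GrothLib.AlgSt.isFibGrpd_ofSp Y)) hM' _ fun Y' hY' h hh => ?_
  have h1 := hf Y' hY' (h ≫ g) (GrothLib.AlgSp.EtLocal.locP_comp GrothLib.AlgSp.EtLocal.flat (AlgSp.IsAlgSpace.yon_obj Y') hM' hY
    (hfl hM' hh) hg)
  rw [← GrothLib.SpQuot.comp_ofSpMap] at h1
  exact GrothLib.AlgSt.CatLocal.isCatModuli_of_equiv (GrothLib.FibCat.Fp.paste f (AlgSt.ofSpMap g) (AlgSt.ofSpMap h))
    (GrothLib.FibCat.Fp.isEquivOver_paste f (AlgSt.ofSpMap g) (AlgSt.ofSpMap h)) rfl h1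

end Groth.Agent.S16704
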