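import Groth.Statements.S16705
import Groth.Agent.Lib.SpQuot.CatModuli


set_option autoImplicit false
set_option backward.isDefEq.respectTransparency false
set_option backward.isDefEq.respectTransparency.types false
universe u
open AlgSt

namespace Groth.Agent.S16705

open CategoryTheory AlgebraicGeometry in
/-- Categorical case, schemes as test category: for the quotient stack `[X/G]` of an action of a group
scheme `G` affine, flat and locally of finite presentation over `S`, the morphism `π : [X/G] → Y`
induced by a morphism of schemes `f : X → Y` is a categorical moduli space in schemes if and only if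
`f` is a categorical quotient in schemes. (The uniform variants and other test categories are not
stated.) -/
theorem result (S : Scheme.{u}) (G : Over S) [GrpObj G]
    [IsAffineHom G.hom] [Flat G.hom] [LocallyOfFinitePresentation G.hom]
    (X Y : Over S) (aX : AlgGrp.Action G X) (f : X ⟶ Y)
    (π : AlgSt.QuotSt Scheme.fppfPrecoverage G aX ⥤ᵇ AlgSt.ofSch Y)
    (hπ : Nonempty (BasedFunctor.comp (AlgSt.quotMap Scheme.fppfPrecoverage G aX) π ≅
      AlgSt.ofSpMap ((AlgSp.yon S).map f))) :
    AlgSt.IsCatModuliSch π ↔ GIT.IsCatQuot aX f := by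
  obtain ⟨i⟩ := hπ
  have hπ' := GrothLib.SpQuot.eq_of_iso_ofSp i
  rw [AlgSt.IsCatModuliSch, GrothLib.SpQuot.isCatModuliIn_iff aX _ _ π hπ']
  have hinv : CategoryTheory.CategoryStruct.comp aX.act f = CategoryTheory.CategoryStruct.comp (CategoryTheory.SemiCartesianMonoidalCategory.snd G X) f :=
    (AlgSp.yon S).map_injective (by
      rw [CategoryTheory.Functor.map_comp, CategoryTheory.Functor.map_comp]
      exact GrothLib.SpQuot.invariant_of_functor aX _ π hπ')
  refine ⟨fun h => ⟨hinv, fun Z ψ hψ => ?_⟩, fun h => ⟨⟨⟨Y, ⟨{ homEquiv := Equiv.ulift.symm, homEquiv_comp := fun _ _ => rfl }⟩⟩⟩, fun N hN k hk => ?_⟩⟩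
  · obtain ⟨g, hg, hu⟩ := h.2 ((AlgSp.yon S).obj Z) ⟨⟨Z, ⟨{ homEquiv := Equiv.ulift.symm, homEquiv_comp := fun _ _ => rfl }⟩⟩⟩ ((AlgSp.yon S).map ψ)
      (by rw [← CategoryTheory.Functor.map_comp, ← CategoryTheory.Functor.map_comp]; exact congrArg _ hψ)
    obtain ⟨χ, rfl⟩ := (AlgSp.yon S).map_surjective g
    refine ⟨χ, (AlgSp.yon S).map_injective (by rw [CategoryTheory.Functor.map_comp]; exact hg), fun χ' hχ' => ?_⟩
    exact (AlgSp.yon S).map_injective (hu _ (by subst hχ'; rw [CategoryTheory.Functor.map_comp]))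
  · obtain ⟨Z, ⟨e⟩⟩ := GrothLib.SpQuot.exists_iso_yon_of_isRepresentable hN
    obtain ⟨ψ, hψ⟩ := (AlgSp.yon S).map_surjective (CategoryTheory.CategoryStruct.comp k e.inv)
    obtain ⟨χ, hχ, hu⟩ := h.2 Z ψ ((AlgSp.yon S).map_injective (by
      rw [CategoryTheory.Functor.map_comp, CategoryTheory.Functor.map_comp, hψ, ← CategoryTheory.Category.assoc, hk, CategoryTheory.Category.assoc]))
    refine ⟨CategoryTheory.CategoryStruct.comp ((AlgSp.yon S).map χ) e.hom, ?_, fun g hg => ?_⟩
    · change CategoryTheory.CategoryStruct.comp ((AlgSp.yon S).map f) _ = k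
      rw [← CategoryTheory.Category.assoc, ← CategoryTheory.Functor.map_comp, hχ, hψ, CategoryTheory.Category.assoc, e.inv_hom_id, CategoryTheory.Category.comp_id]
    · obtain ⟨χ', hχ'⟩ := (AlgSp.yon S).map_surjective (CategoryTheory.CategoryStruct.comp g e.inv)
      have he : χ' = χ := hu χ' ((AlgSp.yon S).map_injective (by
        rw [CategoryTheory.Functor.map_comp, hχ', ← CategoryTheory.Category.assoc, hg, hψ]))
      rw [← he, hχ', CategoryTheory.Category.assoc, e.inv_hom_id, CategoryTheory.Category.comp_id]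

end Groth.Agent.S16705
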