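import Groth.Statements.S16707
import Mathlib.RingTheory.Flat.EquationalCriterion
import Mathlib.LinearAlgebra.TensorProduct.Quotient
import Mathlib.RingTheory.TensorProduct.Maps

set_option autoImplicit false
universe u v
open CAlg

namespace Groth.Agent.S16707

/-- For a surjection onto a flat module, the kernel meets `I • ⊤` in `I • ker`. -/
theorem mem_smul_ker_of_flat {A : Type*} [CommRing A] (I : Ideal A) {P M : Type*} [AddCommGroup P]
    [Module A P] [AddCommGroup M] [Module A M] [Module.Flat A M] (g : P →ₗ[A] M)
    (hg : Function.Surjective g) (x : P) (hx : x ∈ LinearMap.ker g)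
    (hxI : x ∈ I • (⊤ : Submodule A P)) : x ∈ I • LinearMap.ker g := by
  classical
  have h2 : x ∈ I • Submodule.span A (Set.range (id : P → P)) := by
    rwa [Set.range_id, Submodule.span_univ]
  obtain ⟨a, ha, hax⟩ := (Submodule.mem_ideal_smul_span_iff_exists_sum I _ _).1 h2
  have hrel : ∑ i : a.support, a i.1 • g (i.1 : P) = 0 := by
    rw [← LinearMap.mem_ker.1 hx, ← hax, Finsupp.sum, map_sum]
    simp only [map_smul, id]
    exact Finset.sum_coe_sort a.support (fun i => a i • g i)
  obtain ⟨n, c, y, hy, hc⟩ := Module.Flat.isTrivialRelation_of_sum_smul_eq_zero hrel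
  choose z hz using fun j => hg (y j)
  have h3 : x = ∑ i : a.support, a i.1 • ((i.1 : P) - ∑ j, c i j • z j) := by
    simp only [smul_sub, Finset.smul_sum, smul_smul, Finset.sum_sub_distrib]
    rw [Finset.sum_comm]
    simp only [← Finset.sum_smul, hc, zero_smul, Finset.sum_const_zero, sub_zero]
    rw [← hax, Finsupp.sum, ← Finset.sum_coe_sort]
    rfl
  rw [h3]
  refine Submodule.sum_mem _ fun i _ => Submodule.smul_mem_smul (ha i.1) ?_
  rw [LinearMap.mem_ker, map_sub, map_sum]
  simp only [map_smul, hz, ← hy i, sub_self]


open TensorProduct in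
/-- Let A be a commutative ring, I a nilpotent ideal of A and f : M → N a homomorphism of A-modules with
N flat over A (no finiteness assumption on M or N). If the base change of f to A/I, that is M/IM →
N/IN, is bijective, then f is bijective. -/
theorem result (A : Type u) [CommRing A] (I : Ideal A)
    (hI : IsNilpotent I) (M N : Type v) [AddCommGroup M] [Module A M] [AddCommGroup N] [Module A N]
    [Module.Flat A N] (f : M →ₗ[A] N)
    (hf : Function.Bijective (f.baseChange (A ⧸ I))) :
    Function.Bijective f := by
  obtain ⟨k, hk⟩ := hI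
  let εM := TensorProduct.quotTensorEquivQuotSMul M I
  let εN := TensorProduct.quotTensorEquivQuotSMul N I
  have key : ∀ z, εN (f.baseChange (A ⧸ I) z) = (I • (⊤ : Submodule A M)).mapQ (I • ⊤) f
      (by rw [← Submodule.map_le_iff_le_comap, Submodule.map_smul'']
          exact Submodule.smul_mono le_rfl le_top) (εM z) := by
    intro z
    induction z using TensorProduct.induction_on with
    | zero => simp
    | add a b ha hb => simp only [map_add, ha, hb]
    | tmul r x =>
      obtain ⟨r, rfl⟩ := Ideal.Quotient.mk_surjective r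
      simp [εM, εN]
  have hinj : ∀ x, f x ∈ I • (⊤ : Submodule A N) → x ∈ I • (⊤ : Submodule A M) := by
    intro x hx
    rw [← Submodule.Quotient.mk_eq_zero]
    have h1 : f.baseChange (A ⧸ I) (εM.symm (Submodule.Quotient.mk x)) = 0 := by
      apply εN.injective
      rw [key, εM.apply_symm_apply, map_zero, Submodule.mapQ_apply,
        (Submodule.Quotient.mk_eq_zero _).2 hx]
    have h2 := hf.1 (h1.trans (map_zero _).symm)
    simpa using congrArg εM h2
  have hsurj : LinearMap.range f = ⊤ := by
    have h1 : (⊤ : Submodule A N) ≤ LinearMap.range f ⊔ I • ⊤ := by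
      intro y _
      obtain ⟨z, hz⟩ := hf.2 (εN.symm (Submodule.Quotient.mk y))
      obtain ⟨x, hx⟩ := Submodule.Quotient.mk_surjective _ (εM z)
      have h2 := congrArg εN hz
      rw [key, εN.apply_symm_apply, ← hx, Submodule.mapQ_apply] at h2
      refine Submodule.mem_sup.2 ⟨f x, ⟨x, rfl⟩, y - f x, ?_, by abel⟩
      exact (Submodule.Quotient.eq _).1 h2.symm
    have h2 : ∀ j : ℕ, (⊤ : Submodule A N) ≤ LinearMap.range f ⊔ I ^ j • ⊤ := by
      intro j
      induction j with
      | zero => simp
      | succ j ih =>
        refine ih.trans (sup_le le_sup_left ((Submodule.smul_mono le_rfl h1).trans ?_))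
        rw [Submodule.smul_sup, pow_succ, Submodule.mul_smul]
        exact sup_le_sup Submodule.smul_le_right le_rfl
    have := h2 k
    rw [hk, Submodule.zero_eq_bot, Submodule.bot_smul, sup_bot_eq] at this
    exact top_le_iff.1 this
  have hker : LinearMap.ker f ≤ I • LinearMap.ker f := fun x hx =>
    mem_smul_ker_of_flat I f (LinearMap.range_eq_top.1 hsurj) x hx
      (hinj x (by rw [LinearMap.mem_ker.1 hx]; exact zero_mem _))
  have hk' : ∀ j : ℕ, LinearMap.ker f ≤ I ^ j • LinearMap.ker f := by
    intro j
    induction j with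
    | zero => simp
    | succ j ih =>
      refine ih.trans ((Submodule.smul_mono le_rfl hker).trans ?_)
      rw [pow_succ, Submodule.mul_smul]
  refine ⟨LinearMap.ker_eq_bot.1 ?_, LinearMap.range_eq_top.1 hsurj⟩
  have := hk' k
  rwa [hk, Submodule.zero_eq_bot, Submodule.bot_smul, le_bot_iff] at this

end Groth.Agent.S16707
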