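import Groth.Statements.S16708
import Groth.Agent.Lib.Comod.Integral
import Mathlib.LinearAlgebra.Basis.VectorSpace

set_option autoImplicit false
universe u
open HopfRep

namespace Groth.Agent.S16708

/-- Let G be a finite group and k a field in which the order of G is a nonzero element. Then the
constant group scheme of G over k is linearly reductive: every finite-dimensional comodule over its
coordinate Hopf algebra (the algebra of functions G → k with the Hopf structure of the constant
group) is semisimple, i.e. every subcomodule admits a complementary subcomodule. -/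
theorem result (k : Type u) [Field k] (G : Type u) [Group G]
    [Fintype G] [DecidableEq G] (hG : ((Fintype.card G : ℕ) : k) ≠ 0) :
    HopfRep.IsLinearlyReductive k (ConstGrp.F k G) := by
  intro V _ _ _ _ U hU
  let α : ConstGrp.F k G →ₗ[k] k :=
    ((Fintype.card G : ℕ) : k)⁻¹ • ∑ g : G, (ConstGrp.ev k g).toLinearMap
  have hαe : ∀ a : G, α (ConstGrp.e k a) = ((Fintype.card G : ℕ) : k)⁻¹ := by
    intro a
    simp [α, ConstGrp.e_apply]
  have hα1 : α 1 = 1 := by
    simp [α, inv_mul_cancel₀ hG]
  have hα : GrothLib.Comodule.IsInvariant α := by
    have key : (TensorProduct.lid k (ConstGrp.F k G)).toLinearMap ∘ₗ α.rTensor (ConstGrp.F k G) ∘ₗ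
        Coalgebra.comul = α.smulRight (1 : ConstGrp.F k G) := by
      refine ConstGrp.linearMap_ext fun g => ?_
      simp only [LinearMap.comp_apply, LinearEquiv.coe_coe, ConstGrp.comul_e, map_sum,
        LinearMap.rTensor_tmul, TensorProduct.lid_tmul, hαe, LinearMap.smulRight_apply]
      rw [← Finset.smul_sum]
      congr 1
      rw [← ConstGrp.sum_e (R := k) (G := G)]
      exact Fintype.sum_equiv ((Equiv.inv G).trans (Equiv.mulRight g)) _ _ fun a => rfl
    exact fun a => LinearMap.congr_fun key a
  exact GrothLib.Comodule.exists_isCompl_of_invariant α hα hα1 hU (Submodule.exists_isCompl U)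

end Groth.Agent.S16708
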