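import Groth.Statements.S16709
import Groth.Agent.Lib.HopfAG.LRCoh
import Groth.Agent.Lib.Comod.Semi

set_option autoImplicit false
universe u v
open HopfRep

namespace Groth.Agent.S16709

open scoped TensorProduct

open TensorProduct in
/-- The equivalence of complete reducibility of finite-dimensional representations with the
invariant-section criterion. Let k be a field and A a finitely generated commutative Hopf algebra
over k, the coordinate ring of an affine algebraic group G. Then G is linearly reductive (every
finite-dimensional A-comodule is semisimple) if and only if for every finite-dimensional A-comodule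
V and every surjective k-linear map π : V → k which is a comodule map to the trivial comodule (that
is, (π ⊗ id) ∘ ρ_V = (c ↦ c ⊗ 1) ∘ π for the coaction ρ_V) there is a fixed vector v of V with π v ≠
0. (The published fourth condition is phrased with all G-fixed points of the projective space of V
and G-invariant linear forms; it fails for a fixed point on which G acts through a non-trivial
character, for instance the multiplicative group acting on a line with weight one, and this row
states the condition in the form the published proof uses: surjections onto the trivial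
one-dimensional comodule.) -/
theorem result (k : Type u) [Field k] (A : Type v)
    [CommRing A] [HopfAlgebra k A] (hA : Algebra.FiniteType k A) :
    HopfRep.IsLinearlyReductive k A ↔
      ∀ (V : Type v) [AddCommGroup V] [Module k V] [HopfRep.Comod k A V], Module.Finite k V →
        ∀ π : V →ₗ[k] k, Function.Surjective π →
          LinearMap.rTensor A π ∘ₗ HopfRep.Comod.coact (k := k) (A := A) (V := V) =
            (TensorProduct.mk k k A).flip (1 : A) ∘ₗ π →
          ∃ v ∈ HopfRep.fixedPts k A V, π v ≠ 0 := by
  constructor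
  · intro hG V _ _ _ hfin π hπ hcomm
    letI : HopfRep.Comod k A k := HopfRep.Comod.trivial k A k
    have hπ' : Hoch.IsComodHom A π := hcomm.symm
    obtain ⟨T, hT, hc⟩ := hG V hfin (LinearMap.ker π) (GrothLib.Comodule.IsComodHom.ker_isSubcomod hπ')
    obtain ⟨v, hv⟩ := hπ 1
    obtain ⟨a, ha, t, ht, hat⟩ := Submodule.mem_sup.mp (hc.sup_eq_top ▸ Submodule.mem_top (x := v))
    have hπt : π t = 1 := by rw [← hv, ← hat, map_add, LinearMap.mem_ker.mp ha, zero_add]
    refine ⟨t, ?_, by rw [hπt]; exact one_ne_zero⟩
    obtain ⟨z, hz⟩ := hT t ht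
    have hinj : Function.Injective ((π ∘ₗ T.subtype).rTensor A) := by
      refine Module.Flat.rTensor_preserves_injective_linearMap _ ?_
      rw [← LinearMap.ker_eq_bot, eq_bot_iff]
      rintro ⟨y, hy⟩ hy0
      have : y ∈ LinearMap.ker π ⊓ T := ⟨hy0, hy⟩
      rw [hc.inf_eq_bot] at this
      simpa using this
    have hz' : z = (⟨t, ht⟩ : T) ⊗ₜ[k] (1 : A) := by
      refine hinj ?_
      have h2 := LinearMap.congr_fun hcomm t
      simp only [LinearMap.comp_apply, LinearMap.flip_apply, TensorProduct.mk_apply] at h2
      rw [LinearMap.rTensor_comp, LinearMap.comp_apply, LinearMap.comp_apply, hz, h2, LinearMap.rTensor_tmul,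
        LinearMap.rTensor_tmul]
      rfl
    show HopfRep.Comod.coact (k := k) (A := A) t = t ⊗ₜ[k] (1 : A)
    rw [← hz, hz', LinearMap.rTensor_tmul]
    rfl
  · intro h
    refine GrothLib.LRCoh.isLinearlyReductive_of_invExact ?_
    intro V W _ _ cV _ _ _ φ hφ hs w hw
    rcases eq_or_ne w 0 with rfl | hw0
    · exact ⟨0, zero_mem _, map_zero φ⟩
    obtain ⟨v, rfl⟩ := hs w
    obtain ⟨U, hfin, hvU, hU⟩ := GrothLib.Comodule.exists_finite_subcomod (k := k) (C := A) v
    have hL : HopfRep.IsSubcomod (k := k) (A := A) (Submodule.span k {φ v}) := by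
      intro y hy
      obtain ⟨c, rfl⟩ := Submodule.mem_span_singleton.mp hy
      refine ⟨⟨c • φ v, hy⟩ ⊗ₜ[k] (1 : A), ?_⟩
      rw [LinearMap.rTensor_tmul, map_smul, show HopfRep.Comod.coact (k := k) (A := A) (φ v) = φ v ⊗ₜ[k] (1 : A) from hw,
        TensorProduct.smul_tmul']
      rfl
    let U' : Submodule k V := U ⊓ (Submodule.span k {φ v}).comap φ
    have hφ' : Hoch.IsComodHom A φ := hφ.symm
    have hU' : HopfRep.IsSubcomod (k := k) (A := A) U' :=
      GrothLib.Comodule.isSubcomod_inf hU (GrothLib.Comodule.IsComodHom.comap_isSubcomod hφ' hL)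
    haveI : Module.Finite k U' := Submodule.finiteDimensional_of_le (inf_le_left : U' ≤ U)
    obtain ⟨ℓ, hℓ⟩ := Module.Projective.exists_dual_ne_zero k hw0
    letI cU := ComodSub.Comod.restr cV U' hU'
    let π : U' →ₗ[k] k := ℓ ∘ₗ φ ∘ₗ U'.subtype
    have hvU' : v ∈ U' := ⟨hvU, Submodule.mem_span_singleton_self _⟩
    have hsurj : Function.Surjective π := fun c => ⟨(c / ℓ (φ v)) • ⟨v, hvU'⟩, by simp [π, div_mul_cancel₀ c hℓ]⟩
    have hcomm : LinearMap.rTensor A π ∘ₗ HopfRep.Comod.coact (k := k) (A := A) (V := U') =
        (TensorProduct.mk k k A).flip (1 : A) ∘ₗ π := by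
      refine LinearMap.ext fun x => ?_
      obtain ⟨c, hc⟩ := Submodule.mem_span_singleton.mp x.2.2
      simp only [π, LinearMap.comp_apply, LinearMap.rTensor_comp, LinearMap.flip_apply, TensorProduct.mk_apply,
        Submodule.subtype_apply]
      rw [ComodSub.restr_coact_coe cV U' hU' x, ← GrothLib.Comodule.IsComodHom.apply hφ', ← hc, map_smul,
        show HopfRep.Comod.coact (k := k) (A := A) (φ v) = φ v ⊗ₜ[k] (1 : A) from hw, map_smul, LinearMap.rTensor_tmul,
        map_smul, TensorProduct.smul_tmul']
    obtain ⟨u, hu, hπu⟩ := h U' inferInstance π hsurj hcomm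
    obtain ⟨c, hc⟩ := Submodule.mem_span_singleton.mp u.2.2
    have hc0 : c ≠ 0 := fun hc0 => hπu (by simp [π, ← hc, hc0])
    have hu' : HopfRep.Comod.coact (k := k) (A := A) (u : V) = (u : V) ⊗ₜ[k] (1 : A) := by
      rw [← ComodSub.restr_coact_coe cV U' hU' u, show cU.coact u = u ⊗ₜ[k] (1 : A) from hu, LinearMap.rTensor_tmul]
      rfl
    refine ⟨c⁻¹ • (u : V), Submodule.smul_mem _ _ hu', ?_⟩
    rw [map_smul, show φ (u : V) = c • φ v from hc.symm, smul_smul, inv_mul_cancel₀ hc0, one_smul]

end Groth.Agent.S16709
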