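import Groth.Statements.S16710
import Groth.Agent.Lib.Semiample.Criterion
import Groth.Agent.Lib.Ample.ModTwist

set_option autoImplicit false
universe u
open CategoryTheory CategoryTheory.Limits AlgebraicGeometry TopologicalSpace
open Variety

namespace Groth.Agent.S16710

/-- Let X be a proper scheme over a field k and L an invertible O_X-module. Then L is ample if and only
if (i) L is strictly nef, meaning χ(O_C ⊗ L) - χ(O_C) > 0 for every integral closed subscheme C ⊆ X
of dimension one, and (ii) L is semiample, meaning some positive tensor power of L is generated by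
its global sections (is a quotient of a free O_X-module). -/
theorem result (k : Type u) [Field k] (X : Scheme.{u})
    [X.Over (Spec (CommRingCat.of k))] [IsProper (X ↘ (Spec (CommRingCat.of k)))]
    (L : X.Modules) (hL : PicF.IsInvertible L) :
    CohB1.IsAmple L ↔
      ((∀ C : X.IdealSheafData, IsIntegral C.subscheme →
          topologicalKrullDim (C.support : Set X) = 1 →
            0 < Curv2.euler k X (CohB1.tensorMod (ClSub.quotMod C) L) - Curv2.euler k X (ClSub.quotMod C)) ∧
        ∃ m : ℕ, Curv2.IsGloballyGenerated (CohB1.tensorPow L (m + 1))) := by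
  haveI := GrothLib.Euler.isNoetherian_of_proper (X := X) k
  refine ⟨fun hA => ⟨fun C hC hdim => ?_, ?_⟩, fun ⟨h, m, hm⟩ => GrothLib.Semiample.isAmple_of_semiample k hL h hm⟩
  · letI : C.subscheme.Over (Spec (CommRingCat.of k)) := ⟨C.subschemeι ≫ X ↘ Spec (CommRingCat.of k)⟩
    haveI : IsProper (C.subscheme ↘ Spec (CommRingCat.of k)) :=
      inferInstanceAs (IsProper (C.subschemeι ≫ X ↘ Spec (CommRingCat.of k)))
    haveI := hC
    have hI : topologicalKrullDim C.subscheme = 1 := by
      refine (IsHomeomorph.topologicalKrullDim_eq _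
        C.subschemeι.isClosedEmbedding.isEmbedding.toHomeomorph.isHomeomorph).trans ?_
      rw [Scheme.IdealSheafData.range_subschemeι]
      exact hdim
    have h := (GrothLib.Euler.isAmple_iff_deg_pos k hI (GrothLib.Ample.isInvertible_pullback C.subschemeι hL)).1
      (GrothLib.Ample.isAmple_pullback_of_isAffineHom C.subschemeι hA)
    unfold Curv2.deg at h
    rw [GrothLib.Kleiman.euler_pullback_eq_quotMod k C.subschemeι rfl hL,
      ← GrothLib.Euler.euler_of_iso k (GrothLib.Ample.nonempty_pullback_structureModule C.subschemeι).some,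
      GrothLib.Kleiman.euler_pullback_eq_quotMod k C.subschemeι rfl GrothLib.Euler.isInvertible_structure,
      Scheme.IdealSheafData.ker_subschemeι, GrothLib.Kleiman.euler_tensor_structure] at h
    simpa using h
  · obtain ⟨c, ⟨e⟩⟩ := GrothLib.Ample.exists_cocycle hL
    have hO : Coh.IsCoh (Coh.structureModule X) := GrothLib.Kleiman.isCoh_O k
    haveI : (Coh.structureModule X).IsQuasicoherent := hO.1
    obtain ⟨n₀, h⟩ := c.eventually_isGloballyGenerated (Coh.structureModule X) ((c.isAmple_iff e).mp hA).2
      fun p => ⟨⊤, trivial, fun W hW _ => GrothLib.QCoh.moduleFinite_of_isFiniteType _ hO.2 hW⟩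
    obtain ⟨d⟩ := c.nonempty_tensorPow_iso e (n₀ + 1)
    obtain ⟨t⟩ := c.nonempty_tensor_modTwist (Coh.structureModule X) (n₀ + 1)
    exact ⟨n₀, GrothLib.Ample.isGloballyGenerated_of_iso
      (t.symm ≪≫ show CohB1.tensorMod (Coh.structureModule X) (c.twist (n₀ + 1)) ≅ _ from GrothLib.OX.tensorUnitLeftIso (c.twist (n₀ + 1)) ≪≫ d.symm) (h (n₀ + 1) (Nat.le_succ _))⟩

end Groth.Agent.S16710
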