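import Groth.Statements.S16718
import Groth.Agent.Lib.Hopf.Comod

set_option autoImplicit false
universe u v w
open TensorProduct
open GLin

namespace Groth.Agent.S16718

/-- Let k be a field, A a finitely generated commutative Hopf algebra over k (an affine algebraic group
G), R a finitely generated commutative k-algebra carrying an A-comodule structure whose coaction is
an algebra homomorphism (an action of G on X = Spec R), and I an ideal of R which is a subcomodule
(a G-invariant closed subscheme Z of X). Then there is a finite-dimensional subcomodule W of R with
W ⊆ I generating I as an ideal; equivalently there is a G-equivariant morphism f from X to the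
affine space of a finite-dimensional G-representation with f⁻¹(0) = Z as closed subschemes. -/
theorem result (k : Type u) [Field k]
    (A : Type v) [CommRing A] [HopfAlgebra k A] (hA : Algebra.FiniteType k A)
    (R : Type w) [CommRing R] [Algebra k R] [HopfRep.Comod k A R] [GLin.IsCoactAlg k A R]
    (hR : Algebra.FiniteType k R) (I : Ideal R)
    (hI : HopfRep.IsSubcomod (k := k) (A := A) (I.restrictScalars k)) :
    ∃ W : Submodule k R, Module.Finite k W ∧ HopfRep.IsSubcomod (k := k) (A := A) W ∧
      W ≤ I.restrictScalars k ∧ Ideal.span (W : Set R) = I := by
  classical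
  haveI : Algebra.FiniteType k R := hR
  haveI : IsNoetherianRing R := Algebra.FiniteType.isNoetherianRing k R
  obtain ⟨s, hs⟩ := (isNoetherianRing_iff_ideal_fg R).1 inferInstance I
  have hsI : (s : Set R) ⊆ I := by rw [← hs]; exact Ideal.subset_span
  obtain ⟨W, hW, hsW, hmin, hfg⟩ :=
    GrothLib.Hopf.Comod.exists_smallest (k := k) (C := A) (V := R) (Submodule.span k (s : Set R))
  have hWI : W ≤ I.restrictScalars k := hmin _ hI (Submodule.span_le.2 hsI)
  haveI := Module.Finite.iff_fg.2 (hfg (Submodule.fg_span s.finite_toSet))
  refine ⟨W, inferInstance, hW, hWI, le_antisymm (Ideal.span_le.2 hWI) ?_⟩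
  conv_lhs => rw [← hs]
  exact Ideal.span_mono fun x hx => hsW (Submodule.subset_span hx)

end Groth.Agent.S16718
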