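import Groth.Statements.S16721
import Groth.Agent.Lib.SpQuot.CoarseModuli


set_option autoImplicit false
set_option backward.isDefEq.respectTransparency false
set_option backward.isDefEq.respectTransparency.types false
universe u
open CategoryTheory MonoidalCategory CartesianMonoidalCategory AlgebraicGeometry
open AlgSt

namespace Groth.Agent.S16721

/-- Let `S` be a scheme, `G` a group scheme over `S` whose structure morphism is affine, flat and
locally of finite presentation, acting on a scheme `X` over `S`, and `f : X ⟶ Y` a `G`-invariant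
morphism of schemes over `S`. Assume (i) for every algebraically closed field `Ω` and every `t :
Spec Ω ⟶ S`, every `Ω`-point of `Y` over `t` is the image of an `Ω`-point of `X`, and two `Ω`-points
of `X` over `t` with the same image in `Y` are translates of one another by an `Ω`-point of `G` (the
geometric fibres of `f` are the orbits of geometric points); (ii) `f` is a categorical quotient in
the category of algebraic spaces over `S`: every `G`-invariant map of fppf sheaves `h_X ⟶ N` to an
algebraic space `N` factors uniquely through `h_Y`. Then the functor `[X/G] ⟶ Y` over `(Sch/S)`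
induced by `f` (the one whose composite with `X ⟶ [X/G]` is the functor of `f`) is a coarse moduli
space: `h_Y` is an algebraic space, every functor from `[X/G]` to an algebraic space factors
uniquely through it, and for every algebraically closed `Ω` it is a bijection from isomorphism
classes of objects of `[X/G]` over `Spec Ω` onto `Y(Spec Ω)`. Here `[X/G]` is the fppf quotient
stack described by `G`-torsors that are schemes with an equivariant map to `X`. Of the source's
hypothesis that `f` is a geometric quotient only the condition (i) on geometric points enters, and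
only (i) is assumed. (The published setting has an affine base scheme; this row allows any base
scheme.) -/
theorem result (S : Scheme.{u}) (G : Over S) [GrpObj G]
    [IsAffineHom G.hom] [Flat G.hom] [LocallyOfFinitePresentation G.hom]
    (X Y : Over S) (aX : AlgGrp.Action G X) (f : X ⟶ Y)
    (hinv : aX.act ≫ f = snd G X ≫ f)
    (horb : ∀ (Ω : Type u) [Field Ω] [IsAlgClosed Ω] (t : Spec (CommRingCat.of Ω) ⟶ S),
      (∀ y : Over.mk t ⟶ Y, ∃ x : Over.mk t ⟶ X, x ≫ f = y) ∧
      (∀ x x' : Over.mk t ⟶ X, x ≫ f = x' ≫ f → ∃ g : Over.mk t ⟶ G, lift g x' ≫ aX.act = x))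
    (hcat : ∀ (N : AlgSp.Space S) (ψ : (AlgSp.yon S).obj X ⟶ N.obj),
      (AlgSp.yon S).map aX.act ≫ ψ = (AlgSp.yon S).map (snd G X) ≫ ψ →
        ∃! χ : (AlgSp.yon S).obj Y ⟶ N.obj, (AlgSp.yon S).map f ≫ χ = ψ)
    (π : AlgSt.QuotSt Scheme.fppfPrecoverage G aX ⥤ᵇ AlgSt.ofSch Y)
    (hπ : Nonempty (BasedFunctor.comp (AlgSt.quotMap Scheme.fppfPrecoverage G aX) π ≅
      AlgSt.ofSpMap ((AlgSp.yon S).map f))) :
    AlgSt.IsCoarseModuli π := by
  obtain ⟨i⟩ := hπ
  have hπ' := GrothLib.SpQuot.eq_of_iso_ofSp i
  refine ⟨(GrothLib.SpQuot.isCatModuliIn_iff aX _ _ π hπ').2 ⟨AlgSp.IsAlgSpace.yon_obj Y, fun N hN k hk => hcat ⟨N, hN⟩ k hk⟩,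
    GrothLib.SpQuot.geomPtBij_quotSt aX ‹_› f horb π hπ'⟩

end Groth.Agent.S16721
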