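import Groth.Statements.S16731
import Groth.Agent.Lib.FMAdj25.SmRatComp
import Groth.Agent.S1589
-- import your own Groth.Agent.* helpers here

set_option autoImplicit false
set_option maxHeartbeats 1000000
set_option linter.style.haveILetI false
set_option backward.isDefEq.respectTransparency false
universe u
open CurvSt

namespace Groth.Agent.S16731

open CategoryTheory CategoryTheory.Limits AlgebraicGeometry in
/-- Let k be an algebraically closed field and X a proper connected scheme over k of dimension one with
at-worst-nodal singularities. For a natural number g the following are equivalent: (i) X, with no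
marked points, is a stable curve of genus g in the component form — dim H^1(X, O_X) = g, every
irreducible component which is a smooth rational curve (the image of a closed immersion of the
projective line) contains at least three points lying on other components, and 2g ≥ 3; (ii) dim
H^1(X, O_X) = g with g ≥ 2, and no irreducible component of X is a rational tail or a rational
bridge. (With no marked points the published statement excludes only genus one; it fails for the
projective line, which has genus zero, no rational tail and no rational bridge, and is not stable,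
so genus at least two is required in (ii) here — exactly what the inequality 2g ≥ 3 of (i) forces.) -/
theorem result (k : Type u) [Field k] [IsAlgClosed k] (X : Scheme.{u})
    [X.Over (Spec (CommRingCat.of k))] [IsProper (X ↘ Spec (CommRingCat.of k))] [ConnectedSpace X]
    (hdim : topologicalKrullDim X = 1) (hX : Curv2.AtWorstNodal k X) (g : ℕ) :
    CurvSt.IsStablePtd k X (X ↘ Spec (CommRingCat.of k)) g (Fin.elim0 : Fin 0 → X) ↔
      (Curv2.genus k X = g ∧ 2 ≤ g ∧
        (∀ (C : Set X) (hC : C ∈ irreducibleComponents (X : Type u)), ¬ Curv2.IsRationalTail X C hC) ∧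
        (∀ (C : Set X) (hC : C ∈ irreducibleComponents (X : Type u)), ¬ Curv2.IsRationalBridge k X C hC)) := by
  open GrothLib GrothLib.CurveSerre11 GrothLib.SubCurve16 in
  haveI := Euler.isNoetherian_of_proper (X := X) k
  haveI : AlgebraicGeometry.IsReduced X := by
    obtain ⟨_, hr⟩ := Groth.Agent.S1589.result k X (GrothLib.CurveSerre11.equidim_of_connected (k := k) hdim) hX
    exact GeometricallyReduced.isReduced_of_flat_of_isLocallyNoetherian (X ↘ Spec (CommRingCat.of k))
  have hdata : ∀ (C : Set X) (hC : C ∈ irreducibleComponents (X : Type u)),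
      ∃ η ∈ genericPoints (X : Type u), closure ({η} : Set X) = C ∧
        Scheme.IdealSheafData.vanishingIdeal ⟨C, isClosed_of_mem_irreducibleComponents C hC⟩ = GrothLib.SubCurve16.JJ {η} ∧
        (Scheme.Opens.ι (⟨Cᶜ, (isClosed_of_mem_irreducibleComponents C hC).isOpen_compl⟩ : X.Opens)).ker =
          GrothLib.SubCurve16.JJ (compS ({η} : Set X)) ∧
        (CurvSt.meetPts X C).encard = (GrothLib.CurveSerre11.meet k ({η} : Set X) : ℕ∞) ∧
        Module.finrank k (Coh.HH X (ClSub.quotMod (GrothLib.SubCurve16.JJ ({η} : Set X))) 0) = 1 := by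
    intro C hC
    obtain ⟨η, hη, hcl, h1, h2⟩ := GrothLib.CurveSerre11.component_data (k := k) hdim C hC
    obtain ⟨hfin, hmeet, h0⟩ := GrothLib.FMAdj25.meet_eq_ncard hdim hX hη
    refine ⟨η, hη, hcl, h1, h2, ?_, h0⟩
    rw [GrothLib.FMAdj25.meetPts_eq hC, ← hcl, hmeet]
    exact hfin.cast_ncard_eq.symm
  constructor
  · rintro ⟨-, -, -, ⟨-, hgen⟩, -, -, hcomp, h3⟩
    refine ⟨hgen, by omega, fun C hC ht => ?_, fun C hC hb => ?_⟩
    · obtain ⟨η, hη, hcl, hIC, hIX, hm, h0⟩ := hdata C hC
      obtain ⟨hr, hirr, hconn, -⟩ := irreducible_JJ k hdim hη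
      haveI := hr
      haveI := hconn
      obtain ⟨hle, hs⟩ := GrothLib.CurveSerre11.tail_numbers (k := k) hC ht hIC hIX
      have h := hcomp C (hcl ▸ (GrothLib.FMAdj25.isSmRatComp_iff hdim hη).2
        (GrothLib.CurveSerre11.h1_eq_zero_of_subsingleton hs))
      rw [h0] at hle
      rw [hm, Nat.card_of_isEmpty, Nat.cast_zero, add_zero] at h
      have h' : 3 ≤ GrothLib.CurveSerre11.meet k ({η} : Set X) := by exact_mod_cast h
      simp only [GrothLib.CurveSerre11.meet] at h'
      omega
    · obtain ⟨η, hη, hcl, hIC, hIX, hm, h0⟩ := hdata C hC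
      obtain ⟨hle, hs⟩ := GrothLib.CurveSerre11.bridge_numbers hC hb hIC hIX
      have h := hcomp C (hcl ▸ (GrothLib.FMAdj25.isSmRatComp_iff hdim hη).2
        (GrothLib.CurveSerre11.h1_eq_zero_of_subsingleton hs))
      rw [h0] at hle
      rw [hm, Nat.card_of_isEmpty, Nat.cast_zero, add_zero] at h
      have h' : 3 ≤ GrothLib.CurveSerre11.meet k ({η} : Set X) := by exact_mod_cast h
      simp only [GrothLib.CurveSerre11.meet] at h'
      omega
  · rintro ⟨hgen, hg2, hnt, hnb⟩
    refine ⟨inferInstance, inferInstance, hdim, ⟨hX, hgen⟩, fun a => a.elim0, fun i => i.elim0, fun E hE => ?_, by omega⟩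
    obtain ⟨η, hη, hcl, hIC, hIX, hm, h0⟩ := hdata E hE.1
    obtain ⟨hr, hirr, hconn, -⟩ := irreducible_JJ k hdim hη
    haveI := hr
    haveI := hconn
    have h1 := (GrothLib.FMAdj25.isSmRatComp_iff hdim hη).1 (hcl.symm ▸ hE)
    rw [hm, Nat.card_of_isEmpty, Nat.cast_zero, add_zero]
    suffices 3 ≤ GrothLib.CurveSerre11.meet k ({η} : Set X) by exact_mod_cast this
    have hS : ({η} : Set X) ⊆ genericPoints (X : Type u) := Set.singleton_subset_iff.2 hη
    by_contra hlt
    rcases Nat.eq_zero_or_pos (GrothLib.CurveSerre11.meet k ({η} : Set X)) with hz | hp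
    · rw [GrothLib.CurveSerre11.eq_gen_of_meet_zero hS ⟨η, rfl⟩ hz] at h1
      obtain ⟨e⟩ := quotMod_univ_iso (X := X)
      have h := (GrothLib.Euler.hhEquiv (A := k) e 1).finrank_eq
      rw [h1] at h
      have h'' : Curv2.genus k X = 0 := h
      omega
    · by_cases hle : GrothLib.CurveSerre11.meet k ({η} : Set X) ≤
          Module.finrank k (Coh.HH X (ClSub.quotMod (GrothLib.SubCurve16.JJ ({η} : Set X))) 0)
      · refine hnt E hE.1 (GrothLib.CurveSerre11.isRationalTail_of E hE.1 hIX ?_)
        rw [hIC]
        exact GrothLib.CurveSerre11.tail_conds hdim hη h1 hp hle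
      · have h2 : GrothLib.CurveSerre11.meet k ({η} : Set X) = 2 := by rw [h0] at hle; omega
        refine hnb E hE.1 (GrothLib.CurveSerre11.isRationalBridge_of (k := k) _ hE.1 hIC hIX ?_ ?_
          (GrothLib.CurveSerre11.subsingleton_of_h1_eq_zero h1))
        · obtain ⟨y⟩ := GrothLib.CurveSerre11.nonempty_of_finrank_pos (k := k) hp
          have := (Scheme.IdealSheafData.range_subschemeι _).le ⟨y, rfl⟩
          rw [Scheme.IdealSheafData.support_sup] at this
          exact ⟨_, this.2⟩
        · rw [h0]
          exact h2

end Groth.Agent.S16731
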