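import Groth.Statements.S16737
import Mathlib

set_option autoImplicit false
universe u v
open DeRham

namespace Groth.Agent.S16737

/-- The case of affine space over an affine base of characteristic p, in degree zero. Let p be a prime
and R a commutative ring with p = 0 in R. For a polynomial f over R in any set of variables t_i, the
Kähler differential df in Ω_{R[t]/R} vanishes if and only if f is a polynomial in the p-th powers of
the variables, f = g(t_i^p). Equivalently, the functions on affine space over R killed by the
differential of the de Rham complex are exactly the functions on its Frobenius twist. (The published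
computation is for finitely many variables over a noetherian base of characteristic p; the statement
here allows any commutative ring with p = 0 and any set of variables.) -/
theorem result (p : ℕ) [Fact p.Prime]
    (R : Type u) [CommRing R] [CharP R p] (σ : Type v) (f : MvPolynomial σ R) :
    KaehlerDifferential.D R (MvPolynomial σ R) f = 0 ↔
      ∃ g : MvPolynomial σ R, f = MvPolynomial.expand p g := by
  classical
  constructor
  · intro h
    have hdvd : ∀ m : σ →₀ ℕ, f.coeff m ≠ 0 → ∀ i, p ∣ m i := by
      intro m hm i
      by_contra hp
      have h1 : MvPolynomial.pderiv i f = 0 := by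
        rw [← KaehlerDifferential.mvPolynomialBasis_repr_apply, h, map_zero, Finsupp.zero_apply]
      have hmi : m i ≠ 0 := fun h0 => hp (h0 ▸ dvd_zero p)
      have h2 := congrArg (MvPolynomial.coeff (m - Finsupp.single i 1)) h1
      rw [MvPolynomial.coeff_pderiv, MvPolynomial.coeff_zero,
        tsub_add_cancel_of_le (Finsupp.single_le_iff.2 (Nat.one_le_iff_ne_zero.2 hmi))] at h2
      have hu : IsUnit ((m i : ℕ) : R) := by
        rw [CharP.isUnit_natCast_iff (Fact.out : p.Prime)]; exact hp
      rw [Finsupp.tsub_apply, Finsupp.single_eq_same, ← Nat.cast_add_one,
        Nat.sub_add_cancel (Nat.one_le_iff_ne_zero.2 hmi)] at h2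
      exact hm ((hu.mul_left_eq_zero).1 h2)
    refine ⟨∑ m ∈ f.support, MvPolynomial.monomial (m.mapRange (· / p) (Nat.zero_div p)) (f.coeff m), ?_⟩
    rw [map_sum]
    conv_lhs => rw [MvPolynomial.as_sum f]
    refine Finset.sum_congr rfl fun m hm => ?_
    rw [MvPolynomial.expand_monomial]
    congr 2
    ext i
    simp [Nat.mul_div_cancel' (hdvd m (MvPolynomial.mem_support_iff.1 hm) i)]
  · rintro ⟨g, rfl⟩
    induction g using MvPolynomial.induction_on with
    | C a => rw [MvPolynomial.expand_C, ← MvPolynomial.algebraMap_eq, Derivation.map_algebraMap]
    | add a b ha hb => rw [map_add, map_add, ha, hb, add_zero]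
    | mul_X a i ha =>
      rw [map_mul, Derivation.leibniz, ha, smul_zero, add_zero, MvPolynomial.expand_X,
        Derivation.leibniz_pow, ← Nat.cast_smul_eq_nsmul R, CharP.cast_eq_zero, zero_smul, smul_zero]

end Groth.Agent.S16737
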