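import Groth.Statements.S16742
import Mathlib
import Groth.Agent.Lib.Flatness.Criterion

set_option autoImplicit false
universe u
open CAlg

namespace Groth.Agent.S16742

theorem mul_exact_of_flat {R M : Type*} [CommRing R] [AddCommGroup M] [Module R M] [Module.Flat R M]
    (c : R) (h : Function.Exact (fun x : R => c * x) (fun x : R => c * x)) :
    Function.Exact (fun x : M => c • x) (fun x : M => c • x) := by
  have h' : Function.Exact (LinearMap.lsmul R R c) (LinearMap.lsmul R R c) := h
  have h2 := Module.Flat.rTensor_exact M h'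
  refine Function.Exact.of_ladder_linearEquiv_of_exact (e₁ := TensorProduct.lid R M)
    (e₂ := TensorProduct.lid R M) (e₃ := TensorProduct.lid R M)
    (g₁₂ := LinearMap.lsmul R M c) (g₂₃ := LinearMap.lsmul R M c) ?_ ?_ h2 <;>
    exact TensorProduct.ext' fun r m => by simp [smul_smul, mul_comm]



/-- The equivalence in affine form, with flatness of the reduction in place of smoothness. Let p be a
prime, A~ a commutative ring flat over Z/p^2 and B~ an A~-algebra such that B~/pB~ is flat over
A~/pA~. Then B~ is flat over A~ if and only if every element of B~ killed by p is a multiple of p;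
equivalently multiplication by p identifies B~/pB~ with pB~. (The published statement assumes the
reduction smooth over A~/pA~ and the schemes noetherian, and phrases (b) as B~ being a lifting, that
is flat over A~; the statement here assumes only that the reduction is flat, where the equivalence
still holds by the local flatness criterion for the square-zero ideal generated by p.) -/
theorem result (p : ℕ) [Fact p.Prime]
    (Al : Type u) [CommRing Al] [Algebra (ZMod (p ^ 2)) Al] [Module.Flat (ZMod (p ^ 2)) Al]
    (Bl : Type u) [CommRing Bl] [Algebra Al Bl]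
    (hB : Module.Flat (Al ⧸ Ideal.span {(p : Al)})
      (Bl ⧸ (Ideal.span {(p : Al)}).map (algebraMap Al Bl))) :
    Module.Flat Al Bl ↔ ∀ b : Bl, (p : Bl) * b = 0 → b ∈ Ideal.span {(p : Bl)} := by
  have hp2 : (p : Al) * p = 0 := by
    have h : ((p : ZMod (p ^ 2)) * p) = 0 := by
      rw [← Nat.cast_mul, ← sq]; exact ZMod.natCast_self _
    simpa using congrArg (algebraMap (ZMod (p ^ 2)) Al) h
  have hZ : Function.Exact (fun x : ZMod (p ^ 2) => (p : ZMod (p ^ 2)) * x)
      (fun x : ZMod (p ^ 2) => (p : ZMod (p ^ 2)) * x) := by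
    haveI : NeZero (p ^ 2) := ⟨pow_ne_zero _ (Fact.out : p.Prime).ne_zero⟩
    intro x
    constructor
    · intro hx
      obtain ⟨a, rfl⟩ : ∃ a : ℕ, (a : ZMod (p ^ 2)) = x := ⟨x.val, ZMod.natCast_zmod_val x⟩
      simp only [← Nat.cast_mul, ZMod.natCast_eq_zero_iff, sq] at hx
      obtain ⟨c, rfl⟩ := (Nat.mul_dvd_mul_iff_left (Fact.out : p.Prime).pos).1 hx
      exact ⟨c, by push_cast; rfl⟩
    · rintro ⟨c, rfl⟩
      show (p : ZMod (p ^ 2)) * ((p : ZMod (p ^ 2)) * c) = 0
      rw [← mul_assoc, ← Nat.cast_mul, ← sq, ZMod.natCast_self, zero_mul]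
  have hA := mul_exact_of_flat (R := ZMod (p ^ 2)) (M := Al) (p : ZMod (p ^ 2)) hZ
  have hA' : Function.Exact (fun x : Al => (p : Al) * x) (fun x : Al => (p : Al) * x) := by
    simpa only [Algebra.smul_def, map_natCast] using hA
  refine ⟨fun _ b hb => ?_, fun hann => ?_⟩
  · obtain ⟨c, rfl⟩ := ((mul_exact_of_flat (R := Al) (M := Bl) (p : Al) hA') b).1
      (by simp only [Algebra.smul_def, map_natCast]; exact hb)
    simp only [Ideal.mem_span_singleton', Algebra.smul_def, map_natCast]
    exact ⟨c, mul_comm _ _⟩
  let I : Ideal Al := Ideal.span {(p : Al)}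
  have hI : IsNilpotent I := ⟨2, by
    rw [Ideal.span_singleton_pow, sq, hp2, Ideal.span_singleton_zero, Ideal.zero_eq_bot]⟩
  refine GrothLib.Flatness.flat_of_isNilpotent I hI ?_ ?_
  · have hrep : ∀ x : TensorProduct Al Bl I, ∃ b : Bl,
        x = TensorProduct.tmul Al b (⟨(p : Al), Ideal.mem_span_singleton_self _⟩ : I) := by
      intro x
      induction x using TensorProduct.induction_on with
      | zero => exact ⟨0, (TensorProduct.zero_tmul _ _).symm⟩
      | add a b ha hb =>
        obtain ⟨a, rfl⟩ := ha
        obtain ⟨b, rfl⟩ := hb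
        exact ⟨a + b, (TensorProduct.add_tmul _ _ _).symm⟩
      | tmul b a =>
        obtain ⟨c, hc⟩ := Ideal.mem_span_singleton'.1 a.2
        refine ⟨c • b, ?_⟩
        rw [TensorProduct.smul_tmul]
        exact congrArg _ (Subtype.ext hc.symm)
    rw [injective_iff_map_eq_zero]
    intro x hx
    obtain ⟨b, rfl⟩ := hrep x
    have hb : (p : Bl) * b = 0 := by
      have := congrArg (TensorProduct.rid Al Bl) hx
      simpa [Algebra.smul_def] using this
    obtain ⟨c, rfl⟩ := Ideal.mem_span_singleton'.1 (hann b hb)
    have h0 : (p : Al) • (⟨(p : Al), Ideal.mem_span_singleton_self _⟩ : I) = 0 := Subtype.ext hp2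
    rw [show c * (p : Bl) = (p : Al) • c by rw [Algebra.smul_def, map_natCast, mul_comm],
      TensorProduct.smul_tmul, h0, TensorProduct.tmul_zero]
  · haveI := hB
    refine Module.Flat.of_linearEquiv
      (LinearEquiv.extendScalarsOfSurjective (Ideal.Quotient.mk_surjective : Function.Surjective
          (algebraMap Al (Al ⧸ I)))
        ((TensorProduct.quotTensorEquivQuotSMul Bl I).trans
          ((Submodule.quotEquivOfEq _ ((I.map (algebraMap Al Bl)).restrictScalars Al)
            (Ideal.smul_top_eq_map I)).trans
            (Submodule.Quotient.restrictScalarsEquiv Al (I.map (algebraMap Al Bl))))))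

end Groth.Agent.S16742
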