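import Groth.Statements.S18616
import Mathlib
import Groth.Agent.Lib.DeRhamFam.Basic

set_option autoImplicit false
universe u
open DeRham

namespace Groth.Agent.S18616

section Homotopy

variable {k A M : Type u} [Field k] [CommRing A] [Algebra k A] [AddCommGroup M] [Module A M]
  [Module k M] [IsScalarTower k A M] (δ : Derivation k A M)
  (d : ∀ p : ℕ, ↥(⋀[A]^p M) →ₗ[k] ↥(⋀[A]^(p + 1) M))

/-- The product `δ b₁ ∧ … ∧ δ b_p`. -/
noncomputable def G {p : ℕ} (b : Fin p → A) : ↥(⋀[A]^p M) :=
  exteriorPower.ιMulti A p fun i => δ (b i)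

theorem coe_G_zero (b : Fin 0 → A) : ((G δ b : ↥(⋀[A]^0 M)) : ExteriorAlgebra A M) = 1 := by
  rw [G, exteriorPower.ιMulti_apply_coe, ExteriorAlgebra.ιMulti_zero_apply]

theorem coe_G_cons {p : ℕ} (x : A) (b : Fin p → A) :
    ((G δ (Fin.cons x b) : ↥(⋀[A]^(p + 1) M)) : ExteriorAlgebra A M) =
      ExteriorAlgebra.ι A (δ x) * (G δ b : ExteriorAlgebra A M) := by
  rw [G, G, exteriorPower.ιMulti_apply_coe, exteriorPower.ιMulti_apply_coe,
    ExteriorAlgebra.ιMulti_succ_apply]
  congr 2

theorem mul_mem {p : ℕ} (v : M) (y : ↥(⋀[A]^p M)) :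
    ExteriorAlgebra.ι A v * (y : ExteriorAlgebra A M) ∈ ⋀[A]^(p + 1) M := by
  show _ ∈ LinearMap.range (ExteriorAlgebra.ι A) ^ (p + 1)
  rw [pow_succ']
  exact Submodule.mul_mem_mul ⟨v, rfl⟩ y.2

/-- Left multiplication by a vector. -/
noncomputable def wl (v : M) (p : ℕ) : ↥(⋀[A]^p M) →ₗ[A] ↥(⋀[A]^(p + 1) M) where
  toFun y := ⟨_, mul_mem v y⟩
  map_add' a b := by ext; exact mul_add _ _ _
  map_smul' c a := by ext; exact mul_smul_comm _ _ _

theorem wl_G {p : ℕ} (x : A) (b : Fin p → A) : wl (δ x) p (G δ b) = G δ (Fin.cons x b) :=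
  Subtype.ext (coe_G_cons δ x b).symm

theorem ι_anticomm (v w : M) (z : ExteriorAlgebra A M) :
    ExteriorAlgebra.ι A v * (ExteriorAlgebra.ι A w * z) =
      -(ExteriorAlgebra.ι A w * (ExteriorAlgebra.ι A v * z)) := by
  rw [← mul_assoc, ← mul_assoc, eq_neg_iff_add_eq_zero, ← add_mul,
    ExteriorAlgebra.ι_add_mul_swap, zero_mul]

variable {δ d}

theorem d_G (hd : DeRham.IsRule δ d) {p : ℕ} (a : A) (b : Fin p → A) :
    d p (a • G δ b) = wl (δ a) p (G δ b) := by
  rw [wl_G]
  refine (hd p a b).trans ?_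
  rw [G]
  congr 1
  funext i
  refine Fin.cases ?_ (fun j => ?_) i <;> simp

theorem d_wl (hd : DeRham.IsRule δ d) (hgen : Submodule.span A (Set.range δ) = ⊤) (x : A) {p : ℕ}
    (y : ↥(⋀[A]^p M)) : d (p + 1) (wl (δ x) p y) = -wl (δ x) (p + 1) (d p y) := by
  refine DFunLike.congr_fun (DRFam.hom_ext δ hgen
    ((d (p + 1)).toAddMonoidHom.comp (wl (δ x) p).toAddMonoidHom)
    (-((wl (δ x) (p + 1)).toAddMonoidHom.comp (d p).toAddMonoidHom)) fun a b => ?_) y
  change d (p + 1) (wl (δ x) p (a • G δ b)) = -wl (δ x) (p + 1) (d p (a • G δ b))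
  rw [map_smul, wl_G, d_G hd, d_G hd]
  refine Subtype.ext ?_
  show ExteriorAlgebra.ι A (δ a) * (G δ (Fin.cons x b) : ExteriorAlgebra A M) =
    -(ExteriorAlgebra.ι A (δ x) * (ExteriorAlgebra.ι A (δ a) * (G δ b : ExteriorAlgebra A M)))
  rw [coe_G_cons, ← ι_anticomm]

variable (φ : M →ₗ[A] A)

theorem contract_mem {p : ℕ} {x : ExteriorAlgebra A M} (hx : x ∈ ⋀[A]^p M) :
    (p = 0 → CliffordAlgebra.contractLeft φ x = 0) ∧
      ∀ q, p = q + 1 → CliffordAlgebra.contractLeft φ x ∈ ⋀[A]^q M := by
  induction hx using Submodule.pow_induction_on_left' with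
  | algebraMap r =>
    exact ⟨fun _ => CliffordAlgebra.contractLeft_algebraMap _ _ r, fun q h => by omega⟩
  | add x y i hx hy ihx ihy =>
    refine ⟨fun h => by rw [map_add, ihx.1 h, ihy.1 h, add_zero], fun q h => ?_⟩
    rw [map_add]; exact add_mem (ihx.2 q h) (ihy.2 q h)
  | mem_mul m hm i x hx ih =>
    obtain ⟨v, rfl⟩ := hm
    refine ⟨fun h => by omega, fun q h => ?_⟩
    obtain rfl : i = q := by omega
    rw [show CliffordAlgebra.contractLeft φ (ExteriorAlgebra.ι A v * x) =
      φ v • x - ExteriorAlgebra.ι A v * CliffordAlgebra.contractLeft φ x from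
      CliffordAlgebra.contractLeft_ι_mul _ _ _]
    refine sub_mem (Submodule.smul_mem _ _ hx) ?_
    cases i with
    | zero => rw [ih.1 rfl, mul_zero]; exact zero_mem _
    | succ j => exact mul_mem v ⟨_, ih.2 j rfl⟩

/-- Contraction. -/
noncomputable def kap (p : ℕ) : ↥(⋀[A]^(p + 1) M) →ₗ[A] ↥(⋀[A]^p M) :=
  LinearMap.codRestrict _ ((CliffordAlgebra.contractLeft φ).comp (Submodule.subtype _))
    fun y => (contract_mem φ y.2).2 p rfl

theorem kap_wl_succ {p : ℕ} (v : M) (y : ↥(⋀[A]^(p + 1) M)) :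
    kap φ (p + 1) (wl v (p + 1) y) = φ v • y - wl v p (kap φ p y) :=
  Subtype.ext (CliffordAlgebra.contractLeft_ι_mul (d := φ) (a := v) (b := (y : ExteriorAlgebra A M)))

theorem kap_wl_zero (v : M) (y : ↥(⋀[A]^0 M)) : kap φ 0 (wl v 0 y) = φ v • y := by
  refine Subtype.ext ?_
  change CliffordAlgebra.contractLeft φ (ExteriorAlgebra.ι A v * (y : ExteriorAlgebra A M)) = _
  rw [show CliffordAlgebra.contractLeft φ (ExteriorAlgebra.ι A v * (y : ExteriorAlgebra A M)) =
      φ v • (y : ExteriorAlgebra A M) - ExteriorAlgebra.ι A v *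
        CliffordAlgebra.contractLeft φ (y : ExteriorAlgebra A M) from
      CliffordAlgebra.contractLeft_ι_mul _ _ _, (contract_mem φ y.2).1 rfl, mul_zero, sub_zero]
  rfl

variable {φ}

theorem d_kap (hd : DeRham.IsRule δ d) (hgen : Submodule.span A (Set.range δ) = ⊤) :
    ∀ (q : ℕ) (b : Fin (q + 1) → A), (∀ i, φ (δ (b i)) = b i) → ∀ a : A,
      d q (a • kap φ q (G δ b)) =
        ((q + 1 : ℕ) : A) • a • G δ b + wl (δ a) q (kap φ q (G δ b)) := by
  intro q
  induction q with
  | zero =>
    intro b hb a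
    induction b using Fin.consCases with
    | cons x b =>
      have hx : φ (δ x) = x := by simpa using hb 0
      rw [← wl_G, kap_wl_zero, hx, smul_smul, d_G hd, Derivation.leibniz]
      refine Subtype.ext ?_
      simp only [wl, LinearMap.coe_mk, AddHom.coe_mk, Submodule.coe_add, Submodule.coe_smul,
        map_add, map_smul, add_mul, smul_mul_assoc, mul_smul_comm, Nat.cast_one, zero_add, one_smul]
  | succ q ih =>
    intro b hb a
    induction b using Fin.consCases with
    | cons x b =>
      have hx : φ (δ x) = x := by simpa using hb 0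
      have hb' : ∀ i, φ (δ (b i)) = b i := fun i => by simpa using hb i.succ
      have h := ih b hb' a
      rw [← wl_G, kap_wl_succ, hx, smul_sub, map_sub, smul_smul, d_G hd, ← map_smul,
        d_wl hd hgen, h, Derivation.leibniz]
      have hadd := ι_anticomm (δ x) (δ a) ((kap φ q (G δ b) : ↥(⋀[A]^q M)) : ExteriorAlgebra A M)
      refine Subtype.ext ?_
      simp only [wl, LinearMap.coe_mk, AddHom.coe_mk, Submodule.coe_add, Submodule.coe_smul,
        NegMemClass.coe_neg, AddSubgroupClass.coe_sub, map_add, map_smul, add_mul, mul_add, mul_sub,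
        smul_mul_assoc, mul_smul_comm, Nat.cast_add, Nat.cast_one, add_smul, one_smul, hadd]
      abel

theorem L_G (hd : DeRham.IsRule δ d) (hgen : Submodule.span A (Set.range δ) = ⊤) (q : ℕ)
    (b : Fin (q + 1) → A) (hb : ∀ i, φ (δ (b i)) = b i) (a : A) :
    d q (kap φ q (a • G δ b)) + kap φ (q + 1) (d (q + 1) (a • G δ b)) =
      (φ (δ a) + ((q + 1 : ℕ) : A) * a) • G δ b := by
  rw [map_smul, d_kap hd hgen q b hb, d_G hd, kap_wl_succ, smul_smul, add_smul]
  abel

end Homotopy

theorem coeff_X_mul_pderiv {k σ : Type u} [Field k] (i : σ) (a : MvPowerSeries σ k) (m : σ →₀ ℕ) :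
    MvPowerSeries.coeff m (MvPowerSeries.X i * MvPowerSeries.pderiv k i a) =
      (m i : k) * MvPowerSeries.coeff m a := by
  classical
  rw [MvPowerSeries.X, MvPowerSeries.coeff_monomial_mul, one_mul]
  by_cases h : Finsupp.single i 1 ≤ m
  · rw [if_pos h, MvPowerSeries.coeff_pderiv, tsub_add_cancel_of_le h]
    have hi : 1 ≤ m i := by simpa using h i
    have hmi : ((m - Finsupp.single i 1 : σ →₀ ℕ) i) + 1 = m i := by simp; omega
    rw [← Nat.cast_add_one, hmi]
    ring
  · rw [if_neg h]
    have : m i = 0 := by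
      by_contra hne
      exact h (Finsupp.single_le_iff.mpr (Nat.one_le_iff_ne_zero.mpr hne))
    simp [this]


open exteriorPower in
/-- The formal Poincaré lemma. The published statement is that for a complete separated linearly
topologized commutative algebra K over a field k of characteristic zero the inclusion of the
separated de Rham complex of K into that of K[[t_1, ..., t_n]] is a quasi-isomorphism; this row is
the case K = k in positive degrees. Concretely: k is a field of characteristic 0, σ is finite, A =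
k[[σ]]; the separated differentials are modelled by the free A-module of functions σ → A (the
coordinate dt_i being the i-th basis vector) with the derivation δ whose components are the formal
partial derivatives, so that δ(A) generates it; d is any family of k-linear maps between consecutive
exterior powers of this module over A satisfying the de Rham rule with d ∘ d = 0. Then for every p ≥
1 the closed p-forms are exact. (Degree zero, that a power series with all partial derivatives zero
is constant, is omitted.) -/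
theorem result (k : Type u) [Field k] [CharZero k]
    (σ : Type u) [Finite σ]
    (δ : Derivation k (MvPowerSeries σ k) (σ → MvPowerSeries σ k))
    (hδ : ∀ (f : MvPowerSeries σ k) (i : σ), δ f i = MvPowerSeries.pderiv k i f)
    (hgen : Submodule.span (MvPowerSeries σ k) (Set.range δ) = ⊤)
    (d : ∀ p : ℕ, ↥(⋀[MvPowerSeries σ k]^p (σ → MvPowerSeries σ k)) →ₗ[k]
      ↥(⋀[MvPowerSeries σ k]^(p + 1) (σ → MvPowerSeries σ k)))
    (hd : DeRham.IsDiff δ d) (p : ℕ) :
    DeRham.cocycles d (p + 1) ≤ DeRham.coboundaries d (p + 1) := by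
  classical
  haveI := Fintype.ofFinite σ
  letI : LinearOrder σ := LinearOrder.lift' (Fintype.equivFin σ) (Fintype.equivFin σ).injective
  let A := MvPowerSeries σ k
  let φ : (σ → A) →ₗ[A] A := ∑ i, (MvPowerSeries.X i : A) • LinearMap.proj i
  have hE : ∀ (a : A) (m : σ →₀ ℕ),
      MvPowerSeries.coeff m (φ (δ a)) = (m.degree : k) * MvPowerSeries.coeff m a := by
    intro a m
    have hdeg : (m.degree : k) = ∑ i, (m i : k) := by
      rw [Finsupp.degree_eq_sum, Nat.cast_sum]
    simp only [φ, LinearMap.sum_apply, LinearMap.smul_apply, LinearMap.proj_apply, smul_eq_mul, hδ,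
      map_sum, coeff_X_mul_pderiv, hdeg, Finset.sum_mul]
  have hX : ∀ i : σ, δ (MvPowerSeries.X i) = Pi.single i (1 : A) := by
    intro i; funext j
    rw [hδ, MvPowerSeries.pderiv_X]
    simp [Pi.single_apply, eq_comm]
  have hφX : ∀ i : σ, φ (δ (MvPowerSeries.X i)) = MvPowerSeries.X i := by
    intro i
    rw [hX]
    simp [φ, Pi.single_apply]
  -- the operator `L`
  let L : ∀ q, ↥(⋀[A]^(q + 1) (σ → A)) →ₗ[k] ↥(⋀[A]^(q + 1) (σ → A)) := fun q =>
    (d q).comp ((kap φ q).restrictScalars k) + ((kap φ (q + 1)).restrictScalars k).comp (d (q + 1))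
  let bas := fun q => ((Pi.basisFun A σ).exteriorPower (q + 1))
  have hbas : ∀ q s, ∃ b : Fin (q + 1) → A, (∀ i, φ (δ (b i)) = b i) ∧ bas q s = G δ b := by
    intro q s
    refine ⟨fun j => MvPowerSeries.X ((Set.powersetCard.ofFinEmbEquiv.symm s) j),
      fun i => hφX _, ?_⟩
    simp only [bas, Module.Basis.exteriorPower, G]
    simp [exteriorPower.ιMulti_family, hX]
    congr 1
    funext i
    exact Pi.basisFun_apply _ _ _
  let T : ℕ → A → A := fun q a => φ (δ a) + ((q + 1 : ℕ) : A) * a
  have hTc : ∀ (q : ℕ) (a : A) (m : σ →₀ ℕ),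
      MvPowerSeries.coeff m (T q a) = ((m.degree + (q + 1) : ℕ) : k) * MvPowerSeries.coeff m a := by
    intro q a m
    simp only [T, map_add, hE]
    rw [← nsmul_eq_mul (q + 1) a, map_nsmul, nsmul_eq_mul, Nat.cast_add _ (q + 1), add_mul]
  have hne : ∀ (q : ℕ) (m : σ →₀ ℕ), ((m.degree + (q + 1) : ℕ) : k) ≠ 0 :=
    fun q m => Nat.cast_ne_zero.mpr (by omega)
  have hTinj : ∀ q a, T q a = 0 → a = 0 := by
    intro q a h
    ext m
    have := hTc q a m
    rw [h, map_zero, zero_eq_mul] at this
    simpa using this.resolve_left (hne q m)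
  have hTsurj : ∀ q a, ∃ b, T q b = a := by
    intro q a
    refine ⟨fun m => ((m.degree + (q + 1) : ℕ) : k)⁻¹ * MvPowerSeries.coeff m a, ?_⟩
    ext m
    rw [hTc]
    exact mul_inv_cancel_left₀ (hne q m) _
  have hL : ∀ q (c : _ → A),
      L q (∑ s, c s • bas q s) = ∑ s, T q (c s) • bas q s := by
    intro q c
    rw [map_sum]
    refine Finset.sum_congr rfl fun s _ => ?_
    obtain ⟨b, hb, he⟩ := hbas q s
    rw [he]
    exact L_G hd.1 hgen q b hb (c s)
  have hinj : ∀ q x, L q x = 0 → x = 0 := by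
    intro q x hx
    rw [← (bas q).sum_repr x] at hx ⊢
    rw [hL] at hx
    refine Finset.sum_eq_zero fun s _ => ?_
    have := congrArg (fun z => (bas q).repr z s) hx
    simp only [map_zero, Finsupp.coe_zero, Pi.zero_apply] at this
    rw [(bas q).repr_sum_self] at this
    rw [hTinj q _ this, zero_smul]
  intro ω hω
  choose c hc using hTsurj p
  let η := ∑ s, c ((bas p).repr ω s) • bas p s
  have hη : L p η = ω := by
    rw [hL]
    simp only [hc]
    exact (bas p).sum_repr ω
  have hdd : ∀ q x, d (q + 1) (d q x) = 0 := fun q x => LinearMap.congr_fun (hd.2 q) x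
  have hη0 : d (p + 1) η = 0 := by
    apply hinj (p + 1)
    have h1 : d (p + 1) (L p η) = d (p + 1) (kap φ (p + 1) (d (p + 1) η)) := by
      simp only [L, LinearMap.add_apply, LinearMap.comp_apply, map_add, hdd, zero_add]
      rfl
    rw [hη, (LinearMap.mem_ker.mp hω)] at h1
    simp only [L, LinearMap.add_apply, LinearMap.comp_apply, LinearMap.coe_restrictScalars, hdd,
      map_zero, add_zero]
    exact h1.symm
  refine ⟨kap φ p η, ?_⟩
  rw [← hη]
  simp only [L, LinearMap.add_apply, LinearMap.comp_apply, LinearMap.coe_restrictScalars, hη0,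
    map_zero, add_zero]

end Groth.Agent.S18616
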