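import Groth.Statements.S16744
import Groth.Agent.S18616
import Groth.Agent.Lib.DeRhamFam.Basic
import Mathlib

set_option autoImplicit false
universe u
open DeRham

namespace Groth.Agent.S16744


section

open MvPolynomial Groth.Agent.S18616

variable {R : Type u} [CommRing R] {n : ℕ} {L : Type u} [AddCommGroup L]
  [Module (MvPolynomial (Fin n) R) L] [Module R L] [IsScalarTower R (MvPolynomial (Fin n) R) L]


/-- data: a derivation `δ`, a frame `w` of closed forms, and the rule for `d`. -/
structure Frame (δ : Derivation R (MvPolynomial (Fin n) R) L) (d : ∀ q : ℕ, ↥(⋀[(MvPolynomial (Fin n) R)]^q L) →ₗ[R] ↥(⋀[(MvPolynomial (Fin n) R)]^(q + 1) L))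
    (w : Module.Basis (Fin n) (MvPolynomial (Fin n) R) L) : Prop where
  rule : ∀ (q : ℕ) (a : (MvPolynomial (Fin n) R)) (b : Fin q → Fin n),
    d q (a • exteriorPower.ιMulti (MvPolynomial (Fin n) R) q (fun i => w (b i))) = wl (δ a) q (exteriorPower.ιMulti (MvPolynomial (Fin n) R) q fun i => w (b i))

variable {δ : Derivation R (MvPolynomial (Fin n) R) L} {d : ∀ q : ℕ, ↥(⋀[(MvPolynomial (Fin n) R)]^q L) →ₗ[R] ↥(⋀[(MvPolynomial (Fin n) R)]^(q + 1) L)}
  {w : Module.Basis (Fin n) (MvPolynomial (Fin n) R) L}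

theorem wl_ιMulti (v : L) {q : ℕ} (e : Fin q → L) :
    wl v q (exteriorPower.ιMulti (MvPolynomial (Fin n) R) q e) = exteriorPower.ιMulti (MvPolynomial (Fin n) R) (q + 1) (Fin.cons v e) := by
  refine Subtype.ext ?_
  rw [exteriorPower.ιMulti_apply_coe, ExteriorAlgebra.ιMulti_succ_apply]
  simp [wl, Matrix.vecTail, Function.comp_def, exteriorPower.ιMulti_apply_coe]

theorem wl_cons (μ : Fin n) {q : ℕ} (b : Fin q → Fin n) :
    wl (w μ) q (exteriorPower.ιMulti (MvPolynomial (Fin n) R) q fun i => w (b i)) =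
      exteriorPower.ιMulti (MvPolynomial (Fin n) R) (q + 1) fun i => w ((Fin.cons μ b : Fin (q + 1) → Fin n) i) := by
  rw [wl_ιMulti]
  congr 1
  funext i
  refine Fin.cases ?_ (fun j => ?_) i <;> simp

theorem wl_comm (v v' : L) {q : ℕ} (y : ↥(⋀[(MvPolynomial (Fin n) R)]^q L)) :
    wl v (q + 1) (wl v' q y) = -wl v' (q + 1) (wl v q y) :=
  Subtype.ext (ι_anticomm v v' _)

theorem Frame.d_wl (H : Frame δ d w) (μ : Fin n) {q : ℕ} (y : ↥(⋀[(MvPolynomial (Fin n) R)]^q L)) :
    d (q + 1) (wl (w μ) q y) = -wl (w μ) (q + 1) (d q y) := by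
  refine DFunLike.congr_fun (DRFam.hom_ext w w.span_eq
    ((d (q + 1)).toAddMonoidHom.comp (wl (w μ) q).toAddMonoidHom)
    (-((wl (w μ) (q + 1)).toAddMonoidHom.comp (d q).toAddMonoidHom)) fun a b => ?_) y
  show d (q + 1) (wl (w μ) q (a • _)) = -wl (w μ) (q + 1) (d q (a • _))
  rw [map_smul, wl_cons, H.rule, H.rule, ← wl_cons, wl_comm]

theorem wl_add_left (v v' : L) {q : ℕ} (y : ↥(⋀[(MvPolynomial (Fin n) R)]^q L)) : wl (v + v') q y = wl v q y + wl v' q y :=
  Subtype.ext (by simp [wl, add_mul])

theorem wl_smul_left (c : (MvPolynomial (Fin n) R)) (v : L) {q : ℕ} (y : ↥(⋀[(MvPolynomial (Fin n) R)]^q L)) : wl (c • v) q y = c • wl v q y :=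
  Subtype.ext (by simp [wl])

theorem wl_zero_left {q : ℕ} (y : ↥(⋀[(MvPolynomial (Fin n) R)]^q L)) : wl (0 : L) q y = 0 :=
  Subtype.ext (by simp [wl])

theorem wl_smulR (c : R) (v : L) {q : ℕ} (y : ↥(⋀[(MvPolynomial (Fin n) R)]^q L)) :
    wl (c • v) q y = c • wl v q y := by
  rw [← algebraMap_smul (MvPolynomial (Fin n) R) c v, wl_smul_left, algebraMap_smul]

theorem Frame.d_smul (H : Frame δ d w) (f : (MvPolynomial (Fin n) R)) {q : ℕ} (y : ↥(⋀[(MvPolynomial (Fin n) R)]^q L)) :
    d q (f • y) = f • d q y + wl (δ f) q y := by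
  refine DFunLike.congr_fun (DRFam.hom_ext w w.span_eq
    ((d q).toAddMonoidHom.comp (LinearMap.toAddMonoidHom (LinearMap.lsmul (MvPolynomial (Fin n) R) (↥(⋀[(MvPolynomial (Fin n) R)]^q L)) f)))
    ((LinearMap.lsmul (MvPolynomial (Fin n) R) (↥(⋀[(MvPolynomial (Fin n) R)]^(q + 1) L)) f).toAddMonoidHom.comp (d q).toAddMonoidHom +
      (wl (δ f) q).toAddMonoidHom) fun a b => ?_) y
  show d q (f • a • _) = f • d q (a • _) + wl (δ f) q (a • _)
  rw [smul_smul, H.rule, H.rule, Derivation.leibniz, wl_add_left, wl_smul_left, wl_smul_left,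
    LinearMap.map_smul]

variable (d) in
/-- the Lie derivative `dκ + κd`. -/
noncomputable def Lop (φ : L →ₗ[(MvPolynomial (Fin n) R)] (MvPolynomial (Fin n) R)) : ∀ q, ↥(⋀[(MvPolynomial (Fin n) R)]^q L) →ₗ[R] ↥(⋀[(MvPolynomial (Fin n) R)]^q L)
  | 0 => ((kap φ 0).restrictScalars R).comp (d 0)
  | q + 1 => (d q).comp ((kap φ q).restrictScalars R) + ((kap φ (q + 1)).restrictScalars R).comp (d (q + 1))

theorem Frame.Lop_wl (H : Frame δ d w) (φ : L →ₗ[(MvPolynomial (Fin n) R)] (MvPolynomial (Fin n) R)) (μ : Fin n) :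
    ∀ (q : ℕ) (y : ↥(⋀[(MvPolynomial (Fin n) R)]^q L)),
      Lop d φ (q + 1) (wl (w μ) q y) = wl (w μ) q (Lop d φ q y) + wl (δ (φ (w μ))) q y := by
  intro q y
  cases q with
  | zero =>
    simp only [Lop, LinearMap.add_apply, LinearMap.comp_apply, LinearMap.coe_restrictScalars,
      kap_wl_zero, H.d_wl, map_neg, kap_wl_succ, H.d_smul]
    abel
  | succ q =>
    simp only [Lop, LinearMap.add_apply, LinearMap.comp_apply, LinearMap.coe_restrictScalars,
      kap_wl_succ, map_sub, map_add, H.d_wl, map_neg, H.d_smul]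
    abel

/-- the contraction along the Euler field of the `ν`-th variable -/
noncomputable def phi (r : ℕ) (w : Module.Basis (Fin n) (MvPolynomial (Fin n) R) L) (ν : Fin n) : L →ₗ[(MvPolynomial (Fin n) R)] (MvPolynomial (Fin n) R) :=
  w.constr ℕ (fun μ => if μ = ν then (if r ≤ (ν : ℕ) then X ν else 1) else 0)

/-- how often the non-logarithmic direction `ν` occurs in `b` -/
noncomputable def cnt (r : ℕ) (ν : Fin n) {q : ℕ} (b : Fin q → Fin n) : ℕ :=
  ∑ i, if b i = ν ∧ r ≤ (ν : ℕ) then 1 else 0

variable {r : ℕ}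

theorem phi_delta (hX : ∀ μ : Fin n, δ (X μ) = if r ≤ (μ : ℕ) then w μ else (X μ : (MvPolynomial (Fin n) R)) • w μ) (ν : Fin n)
    (f : (MvPolynomial (Fin n) R)) : phi r w ν (δ f) = X ν * pderiv ν f := by
  have h : (phi r w ν).compDer δ = (X ν : (MvPolynomial (Fin n) R)) • (pderiv ν : Derivation R (MvPolynomial (Fin n) R) (MvPolynomial (Fin n) R)) := by
    refine MvPolynomial.derivation_ext fun μ => ?_
    show phi r w ν (δ (X μ)) = X ν * pderiv ν (X μ)
    rw [hX, pderiv_X]
    by_cases h : μ = ν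
    · subst h
      split_ifs with hr <;> simp [phi, hr]
    · split_ifs with hr <;> simp [phi, h]
  exact Derivation.congr_fun h f

theorem Frame.Lop_gen (H : Frame δ d w) (hdd : ∀ μ : Fin n, ∀ a : (MvPolynomial (Fin n) R), r ≤ (μ : ℕ) → a = X μ → δ a = w μ)
    (hX : ∀ μ : Fin n, δ (X μ) = if r ≤ (μ : ℕ) then w μ else (X μ : (MvPolynomial (Fin n) R)) • w μ) (ν : Fin n) :
    ∀ (q : ℕ) (b : Fin q → Fin n) (α : Fin n →₀ ℕ) (c : R),
      Lop d (phi r w ν) q (monomial α c • exteriorPower.ιMulti (MvPolynomial (Fin n) R) q fun i => w (b i)) =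
        ((α ν + cnt r ν b : ℕ) : R) • (monomial α c • exteriorPower.ιMulti (MvPolynomial (Fin n) R) q fun i => w (b i)) := by
  intro q
  induction q with
  | zero =>
    intro b α c
    simp only [Lop, LinearMap.comp_apply, LinearMap.coe_restrictScalars, H.rule, kap_wl_zero,
      phi_delta hX, X_mul_pderiv_monomial, cnt, Finset.univ_eq_empty, Finset.sum_empty, add_zero]
    rw [smul_assoc, Nat.cast_smul_eq_nsmul]
  | succ q ih =>
    intro b α c
    induction b using Fin.consCases with
    | cons μ b =>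
      rw [← wl_cons, ← map_smul, H.Lop_wl, ih, LinearMap.map_smul_of_tower]
      have hc : cnt r ν (Fin.cons μ b) = (if μ = ν ∧ r ≤ (ν : ℕ) then 1 else 0) + cnt r ν b := by
        unfold cnt
        rw [Fin.sum_univ_succ]
        simp only [Fin.cons_zero, Fin.cons_succ]
      have hd : δ (phi r w ν (w μ)) = ((if μ = ν ∧ r ≤ (ν : ℕ) then 1 else 0 : ℕ) : R) • w μ := by
        simp only [phi, Module.Basis.constr_basis]
        by_cases h : μ = ν
        · subst h
          by_cases hr : r ≤ (μ : ℕ)
          · simp [hr, hdd μ _ hr rfl]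
          · simp [hr]
        · simp [h]
      rw [hd, hc, wl_smulR]
      rw [← add_smul, ← Nat.cast_add]
      congr 2
      omega

/-- coordinates -/
noncomputable def co (w : Module.Basis (Fin n) (MvPolynomial (Fin n) R) L) {q : ℕ} (s : Set.powersetCard (Fin n) q)
    (α : Fin n →₀ ℕ) : ↥(⋀[(MvPolynomial (Fin n) R)]^q L) →ₗ[R] R :=
  (lcoeff R α).comp (((w.exteriorPower q).coord s).restrictScalars R)

/-- the total weight of a basis form -/
noncomputable def wt (r : ℕ) (ν : Fin n) {q : ℕ} (s : Set.powersetCard (Fin n) q) (α : Fin n →₀ ℕ) : ℕ :=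
  α ν + cnt r ν (fun i => Set.powersetCard.ofFinEmbEquiv.symm s i)

theorem basis_eq {q : ℕ} (s : Set.powersetCard (Fin n) q) :
    w.exteriorPower q s = exteriorPower.ιMulti (MvPolynomial (Fin n) R) q fun i => w (Set.powersetCard.ofFinEmbEquiv.symm s i) := by
  rw [exteriorPower.basis_apply, exteriorPower.ιMulti_family]
  rfl

theorem form_induction {q : ℕ} {P : ↥(⋀[(MvPolynomial (Fin n) R)]^q L) → Prop} (h0 : P 0) (hadd : ∀ x y, P x → P y → P (x + y))
    (h : ∀ (s : Set.powersetCard (Fin n) q) (α : Fin n →₀ ℕ) (c : R), P (monomial α c • w.exteriorPower q s))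
    (x : ↥(⋀[(MvPolynomial (Fin n) R)]^q L)) : P x := by
  rw [← (w.exteriorPower q).sum_repr x]
  refine Finset.sum_induction _ P hadd h0 fun s _ => ?_
  induction (w.exteriorPower q).repr x s using MvPolynomial.induction_on' with
  | monomial α c => exact h s α c
  | add p p' hp hp' => rw [add_smul]; exact hadd _ _ hp hp'

theorem co_monomial {q : ℕ} (s t : Set.powersetCard (Fin n) q) (α β : Fin n →₀ ℕ) (c : R) :
    co w s α (monomial β c • w.exteriorPower q t) = if t = s ∧ β = α then c else 0 := by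
  classical
  simp only [co, LinearMap.comp_apply, LinearMap.coe_restrictScalars, Module.Basis.coord_apply,
    map_smul, Module.Basis.repr_self, Finsupp.smul_apply, Finsupp.single_apply, smul_eq_mul, lcoeff_apply]
  by_cases h : t = s <;> simp [h]

theorem co_ext {q : ℕ} {x y : ↥(⋀[(MvPolynomial (Fin n) R)]^q L)} (h : ∀ s α, co w s α x = co w s α y) : x = y := by
  refine (w.exteriorPower q).ext_elem fun s => ?_
  exact MvPolynomial.ext _ _ fun α => h s α

theorem Frame.co_Lop (H : Frame δ d w) (hdd : ∀ μ : Fin n, ∀ a : (MvPolynomial (Fin n) R), r ≤ (μ : ℕ) → a = X μ → δ a = w μ)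
    (hX : ∀ μ : Fin n, δ (X μ) = if r ≤ (μ : ℕ) then w μ else (X μ : (MvPolynomial (Fin n) R)) • w μ) (ν : Fin n)
    {q : ℕ} (s : Set.powersetCard (Fin n) q) (α : Fin n →₀ ℕ) (x : ↥(⋀[(MvPolynomial (Fin n) R)]^q L)) :
    co w s α (Lop d (phi r w ν) q x) = (wt r ν s α : R) * co w s α x := by
  induction x using form_induction (w := w) with
  | h0 => simp
  | hadd x y hx hy => simp [map_add, hx, hy, mul_add]
  | h t β c =>
    have e := H.Lop_gen hdd hX ν q (fun i => Set.powersetCard.ofFinEmbEquiv.symm t i) β c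
    rw [← basis_eq] at e
    rw [e, map_smul, co_monomial, smul_eq_mul]
    split_ifs with h
    · obtain ⟨rfl, rfl⟩ := h
      rfl
    · simp

end


open MvPolynomial


open exteriorPower in
/-- The case of affine n-space over an affine base of characteristic p with boundary divisor t_1⋯t_r =
0, all degrees. Let p be a prime, R a commutative ring with p = 0 in R, B = R[t_1, …, t_n] and r ≤
n. Let (L, ι, dl) be the module of differentials of B over R with logarithmic poles along t_1, …,
t_r, pinned by its defining properties (t_i · dl_i = ι(dt_i); ι(Ω_{B/R}) and the dl_i generate; no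
(t_1⋯t_r)-torsion; the kernel of ι is the (t_1⋯t_r)-power torsion), and let d be the logarithmic de
Rham differential on the exterior powers of L (the de Rham rule for ι ∘ d together with d(dl_i) = 0,
and d ∘ d = 0). Put w_ν = dl_ν for ν < r and w_ν = ι(t_ν^{p-1} dt_ν) for ν ≥ r (indices from 0), and
for an a-element set s of indices let e_s be the wedge of the w_ν, ν ∈ s, in increasing order. Then
an a-form with logarithmic poles is closed exactly when it is an exact form plus a combination Σ_s
g_s(t_1^p, …, t_n^p) · e_s with coefficients polynomials in the p-th powers of the variables, and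
such a combination is exact only if every g_s vanishes: the a-th cohomology of the logarithmic de
Rham complex of affine n-space is free over R[t_1^p, …, t_n^p] on the classes of the e_s. -/
theorem result (p : ℕ) [Fact p.Prime]
    (R : Type u) [CommRing R] [CharP R p] (n r a : ℕ) (hr : r ≤ n)
    (L : Type u) [AddCommGroup L] [Module (MvPolynomial (Fin n) R) L] [Module R L]
    [IsScalarTower R (MvPolynomial (Fin n) R) L]
    (ι : (Ω[MvPolynomial (Fin n) R⁄R]) →ₗ[MvPolynomial (Fin n) R] L) (dl : Fin r → L)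
    (hL : LogDiff.IsLog (KaehlerDifferential.D R (MvPolynomial (Fin n) R))
      (fun i : Fin r => (MvPolynomial.X (Fin.castLE hr i) : MvPolynomial (Fin n) R)) ι dl)
    (d : ∀ q : ℕ, ↥(⋀[MvPolynomial (Fin n) R]^q L) →ₗ[R] ↥(⋀[MvPolynomial (Fin n) R]^(q + 1) L))
    (hd : DeRham.IsDiff (ι.compDer (KaehlerDifferential.D R (MvPolynomial (Fin n) R))) d)
    (hlog : LogDiff.IsLogRule (KaehlerDifferential.D R (MvPolynomial (Fin n) R)) ι dl d)
    (w : Fin n → L) (hw : ∀ i : Fin r, w (Fin.castLE hr i) = dl i)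
    (hw' : ∀ ν : Fin n, r ≤ (ν : ℕ) → w ν = ι (((MvPolynomial.X ν : MvPolynomial (Fin n) R) ^ (p - 1)) •
      KaehlerDifferential.D R (MvPolynomial (Fin n) R) (MvPolynomial.X ν)))
    (e : Finset (Fin n) → ↥(⋀[MvPolynomial (Fin n) R]^a L))
    (he : ∀ (s : Finset (Fin n)) (hs : s.card = a),
      e s = exteriorPower.ιMulti (MvPolynomial (Fin n) R) a (fun j => w (s.orderEmbOfFin hs j))) :
    (∀ ω, ω ∈ DeRham.cocycles d a ↔
      ∃ (g : Finset (Fin n) → MvPolynomial (Fin n) R) (η : ↥(⋀[MvPolynomial (Fin n) R]^a L)),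
        η ∈ DeRham.coboundaries d a ∧
          ω = η + ∑ s ∈ Finset.powersetCard a Finset.univ, MvPolynomial.expand p (g s) • e s) ∧
    (∀ g : Finset (Fin n) → MvPolynomial (Fin n) R,
      (∑ s ∈ Finset.powersetCard a Finset.univ, MvPolynomial.expand p (g s) • e s) ∈ DeRham.coboundaries d a →
        ∀ s ∈ Finset.powersetCard a (Finset.univ : Finset (Fin n)), g s = 0) := by
  classical
  obtain ⟨hf, hspan, htf, hker⟩ := hL
  let B := MvPolynomial (Fin n) R
  let δ : Derivation R B L := ι.compDer (KaehlerDifferential.D R B)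
  let v : Fin n → L := fun μ => if h : (μ : ℕ) < r then dl ⟨μ, h⟩ else ι (KaehlerDifferential.D R B (X μ))
  have hcast : ∀ (μ : Fin n) (h : (μ : ℕ) < r), Fin.castLE hr ⟨μ, h⟩ = μ := fun μ h => rfl
  have hXv : ∀ μ : Fin n, δ (X μ) = if r ≤ (μ : ℕ) then v μ else (X μ : B) • v μ := by
    intro μ
    by_cases h : (μ : ℕ) < r
    · simp only [not_le.2 h, if_false, v, dif_pos h]
      exact (hf ⟨μ, h⟩).symm
    · simp only [not_lt.1 h, if_true, v, dif_neg h]
      rfl
  have hdlv : ∀ i : Fin r, dl i = v (Fin.castLE hr i) := fun i => by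
    simp [v]
  let bΩ := KaehlerDifferential.mvPolynomialBasis R (Fin n)
  let P : B := ∏ i : Fin r, (X (Fin.castLE hr i) : B)
  have hP : IsRegular P := IsRegular.prod fun _ _ => isRegular_X
  have hinj : ∀ z, ι z = 0 → z = 0 := fun z hz => by
    obtain ⟨N, hN⟩ := (hker z).1 hz
    refine bΩ.ext_elem fun i => ?_
    have := congrArg (fun y => bΩ.repr y i) hN
    simp only [map_smul, Finsupp.smul_apply, smul_eq_mul, map_zero, Finsupp.coe_zero, Pi.zero_apply] at this
    rw [map_zero, Finsupp.coe_zero, Pi.zero_apply]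
    exact (hP.pow N).left (this.trans (mul_zero _).symm)
  let c : Fin n → B := fun μ => if h : (μ : ℕ) < r then
      ∏ i ∈ Finset.univ.erase (⟨μ, h⟩ : Fin r), (X (Fin.castLE hr i) : B) else P
  have hcv : ∀ μ, P • v μ = ι (c μ • KaehlerDifferential.D R B (X μ)) := fun μ => by
    by_cases h : (μ : ℕ) < r
    · have hP' : P = c μ * X μ := by
        simp only [P, c, dif_pos h]
        rw [← Finset.mul_prod_erase Finset.univ _ (Finset.mem_univ (⟨μ, h⟩ : Fin r)), hcast μ h, mul_comm]
      rw [hP', mul_smul, map_smul]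
      congr 1
      simp only [v, dif_pos h]
      exact hf ⟨μ, h⟩
    · simp only [v, c, dif_neg h, map_smul]
  have hc0 : ∀ μ, IsRegular (c μ) := fun μ => by
    simp only [c]
    split_ifs
    · exact IsRegular.prod fun _ _ => isRegular_X
    · exact hP
  have hli : LinearIndependent B v := by
    rw [Fintype.linearIndependent_iff]
    intro g hg μ
    have h1 : ι (∑ i, (g i * c i) • bΩ i) = 0 := by
      have := congrArg (P • ·) hg
      simp only [Finset.smul_sum, smul_zero, smul_comm P, hcv] at this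
      simpa [map_sum, bΩ, mul_smul] using this
    have := Fintype.linearIndependent_iff.1 bΩ.linearIndependent _ (hinj _ h1) μ
    exact (hc0 μ).right (this.trans (zero_mul _).symm)
  have hsp : ⊤ ≤ Submodule.span B (Set.range v) := by
    rw [← hspan, Submodule.span_le]
    rintro x (⟨z, rfl⟩ | ⟨i, rfl⟩)
    · rw [← bΩ.sum_repr z, map_sum]
      refine Submodule.sum_mem _ fun μ _ => ?_
      rw [map_smul, KaehlerDifferential.mvPolynomialBasis_apply]
      refine Submodule.smul_mem _ _ ?_
      show δ (X μ) ∈ _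
      rw [hXv]
      split_ifs
      · exact Submodule.subset_span ⟨μ, rfl⟩
      · exact Submodule.smul_mem _ _ (Submodule.subset_span ⟨μ, rfl⟩)
    · exact Submodule.subset_span ⟨_, (hdlv i).symm⟩
  let bw := Module.Basis.mk hli hsp
  have hbw : ∀ μ, bw μ = v μ := fun μ => Module.Basis.mk_apply hli hsp μ
  have hX : ∀ μ : Fin n, δ (X μ) = if r ≤ (μ : ℕ) then bw μ else (X μ : B) • bw μ := by
    simpa only [hbw] using hXv
  have hdd : ∀ μ : Fin n, ∀ a : B, r ≤ (μ : ℕ) → a = X μ → δ a = bw μ := fun μ a h ha => by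
    subst ha
    rw [hX, if_pos h]
  have H : Frame δ d bw := ⟨fun q a b => by
    rw [Groth.Agent.S16744.wl_ιMulti]
    refine hlog q a _ fun i => ?_
    rw [hbw]
    by_cases h : ((b i : Fin n) : ℕ) < r
    · exact Or.inr ⟨⟨_, h⟩, by simp [v, h]⟩
    · exact Or.inl ⟨X (b i), by simp only [v, dif_neg h]; rfl⟩⟩
  have hd2 : ∀ q x, d (q + 1) (d q x) = 0 := fun q x => LinearMap.congr_fun (hd.2 q) x
  have hLd : ∀ ν q (x : ↥(⋀[B]^q L)),
      Lop d (phi r bw ν) (q + 1) (d q x) = d q (Lop d (phi r bw ν) q x) := by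
    intro ν q x
    cases q <;> simp [Lop, hd2]
  have hcoL : ∀ ν q (s : Set.powersetCard (Fin n) q) α x,
      co bw s α (Lop d (phi r bw ν) q x) = (wt r ν s α : R) * co bw s α x :=
    fun ν q s α x => H.co_Lop hdd hX ν s α x
  -- weights divisible by `p`
  let Zero : ∀ {q : ℕ}, Set.powersetCard (Fin n) q → (Fin n →₀ ℕ) → Prop :=
    fun {q} s α => ∀ ν, p ∣ wt r ν s α
  have hp : (p.Prime) := Fact.out
  have hfer : ∀ m : ℕ, ((m : R)) ^ (p - 1) = if p ∣ m then 0 else 1 := by
    intro m
    split_ifs with h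
    · rw [(CharP.cast_eq_zero_iff R p m).2 h, zero_pow (Nat.sub_ne_zero_of_lt hp.one_lt)]
    · have := ZMod.pow_card_sub_one_eq_one (p := p) (a := (m : ZMod p))
        (fun h0 => h ((ZMod.natCast_eq_zero_iff _ _).1 h0))
      have := congrArg (ZMod.castHom dvd_rfl R) this
      simpa using this
  -- the basis forms with zero weight
  have hcnt : ∀ {q : ℕ} (s : Set.powersetCard (Fin n) q) ν,
      cnt r ν (fun i => Set.powersetCard.ofFinEmbEquiv.symm s i) =
        if ν ∈ (s : Finset (Fin n)) ∧ r ≤ (ν : ℕ) then 1 else 0 := by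
    intro q s ν
    by_cases h : ν ∈ (s : Finset (Fin n))
    · obtain ⟨i, hi⟩ := (Set.powersetCard.mem_range_ofFinEmbEquiv_symm_iff_mem s ν).2 h
      rw [cnt, Finset.sum_eq_single i (fun j _ hj => if_neg fun e => hj
        ((Set.powersetCard.ofFinEmbEquiv.symm s).injective (e.1.trans hi.symm)))
        (fun h => absurd (Finset.mem_univ _) h)]
      simp [hi, h]
    · rw [if_neg (fun e => h e.1), cnt]
      refine Finset.sum_eq_zero fun i _ => if_neg fun e => h ?_
      exact (Set.powersetCard.mem_range_ofFinEmbEquiv_symm_iff_mem s ν).1 ⟨i, e.1⟩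
  have hd0 : ∀ {q : ℕ} (s : Set.powersetCard (Fin n) q) α (c : R), Zero s α →
      d q (monomial α c • bw.exteriorPower q s) = 0 := by
    intro q s α c hz
    rw [basis_eq, H.rule, ← basis_eq]
    have hsum : δ (monomial α c) = ∑ μ, (pderiv μ (monomial α c)) • δ (X μ) := by
      show ι (KaehlerDifferential.D R B (monomial α c)) = _
      conv_lhs => rw [← bΩ.sum_repr (KaehlerDifferential.D R B (monomial α c)), map_sum]
      refine Finset.sum_congr rfl fun μ _ => ?_
      rw [map_smul]
      simp only [bΩ, KaehlerDifferential.mvPolynomialBasis_apply]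
      erw [KaehlerDifferential.mvPolynomialBasis_repr_apply]
      rfl
    rw [hsum]
    have hl : ∀ (F : Finset (Fin n)) (g : Fin n → L) (y : ↥(⋀[B]^q L)),
        Groth.Agent.S18616.wl (∑ μ ∈ F, g μ) q y = ∑ μ ∈ F, Groth.Agent.S18616.wl (g μ) q y := fun F g y => by
      induction F using Finset.induction_on with
      | empty => exact wl_zero_left y
      | insert μ F hμ ih => rw [Finset.sum_insert hμ, Finset.sum_insert hμ, wl_add_left, ih]
    rw [hl]
    refine Finset.sum_eq_zero fun μ _ => ?_
    rw [wl_smul_left, hX]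
    have hμ := hz μ
    rw [wt, hcnt] at hμ
    by_cases h : μ ∈ (s : Finset (Fin n)) ∧ r ≤ (μ : ℕ)
    · obtain ⟨i, hi⟩ := (Set.powersetCard.mem_range_ofFinEmbEquiv_symm_iff_mem s μ).2 h.1
      rw [if_pos h.2, basis_eq, Groth.Agent.S16744.wl_ιMulti]
      rw [(exteriorPower.ιMulti B (q + 1)).map_eq_zero_of_eq _ (i := 0) (j := i.succ)
        (by simp [hi]) (Fin.succ_ne_zero i).symm, smul_zero]
    · rw [if_neg h, add_zero] at hμ
      have h0 : (α μ : R) = 0 := (CharP.cast_eq_zero_iff R p _).2 hμ
      rw [pderiv_monomial, h0, mul_zero, monomial_zero, zero_smul]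
  have hcb : ∀ (x : ↥(⋀[B]^a L)), x ∈ DeRham.coboundaries d a → ∀ s α, Zero s α → co bw s α x = 0 := by
    intro x hx s α hz
    cases a with
    | zero =>
      obtain rfl : x = 0 := (Submodule.mem_bot R).1 hx
      exact map_zero _
    | succ a =>
      obtain ⟨η, rfl⟩ := hx
      induction η using form_induction (w := bw) with
      | h0 => simp
      | hadd x y hx hy => simp [map_add, hx, hy]
      | h t β c =>
        by_cases hzt : Zero t β
        · rw [hd0 t β c hzt, map_zero]
        · simp only [Zero, not_forall] at hzt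
          obtain ⟨ν, hν⟩ := hzt
          set y := monomial β c • bw.exteriorPower a t with hy
          have hL1 : Lop d (phi r bw ν) a y = (wt r ν t β : R) • y := by
            have e := H.Lop_gen hdd hX ν a (fun i => Set.powersetCard.ofFinEmbEquiv.symm t i) β c
            rw [← basis_eq] at e
            exact e
          have h1 := hcoL ν (a + 1) s α (d a y)
          rw [hLd, hL1, map_smul, map_smul, smul_eq_mul,
            (CharP.cast_eq_zero_iff R p _).2 (hz ν), zero_mul] at h1
          have hu : ((wt r ν t β : R)) ^ (p - 1) = 1 := by rw [hfer, if_neg hν]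
          calc co bw s α (d a y) = ((wt r ν t β : R)) ^ (p - 1) * co bw s α (d a y) := by rw [hu, one_mul]
            _ = 0 := by
              rw [← Nat.succ_pred_eq_of_pos (Nat.sub_pos_of_lt hp.one_lt), pow_succ, mul_assoc, h1, mul_zero]
  -- every cocycle is cohomologous to a form of zero weight
  have hproj : ∀ (F : Finset (Fin n)) (x : ↥(⋀[B]^a L)), x ∈ DeRham.cocycles d a →
      ∃ y, y ∈ DeRham.cocycles d a ∧ x - y ∈ DeRham.coboundaries d a ∧
        ∀ s α, co bw s α y ≠ 0 → ∀ ν ∈ F, p ∣ wt r ν s α := by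
    intro F
    induction F using Finset.induction_on with
    | empty => exact fun x hx => ⟨x, hx, by simp, by simp⟩
    | insert ν F hν ih =>
      intro x hx
      obtain ⟨y, hy, hxy, hys⟩ := ih x hx
      let T := Lop d (phi r bw ν) a
      have hT : ∀ z, z ∈ DeRham.cocycles d a → T z ∈ DeRham.coboundaries d a ∧ T z ∈ DeRham.cocycles d a := by
        intro z hz
        have hz' : d a z = 0 := hz
        refine ⟨?_, ?_⟩
        · cases a with
          | zero => simp [T, Lop, hz', DeRham.coboundaries]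
          | succ a => exact ⟨Groth.Agent.S18616.kap (phi r bw ν) a z, by simp [T, Lop, hz']⟩
        · show d a (T z) = 0
          rw [← hLd, hz', map_zero]
      have hpow : ∀ j, (T^[j + 1]) y ∈ DeRham.coboundaries d a ∧ (T^[j + 1]) y ∈ DeRham.cocycles d a := by
        intro j
        induction j with
        | zero => simpa using hT y hy
        | succ j ihj => rw [Function.iterate_succ_apply']; exact hT _ ihj.2
      have hco : ∀ j s α, co bw s α ((T^[j]) y) = (wt r ν s α : R) ^ j * co bw s α y := by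
        intro j s α
        induction j with
        | zero => simp
        | succ j ihj => rw [Function.iterate_succ_apply', hcoL, ihj, pow_succ']; ring
      obtain ⟨m, hm⟩ : ∃ m, p - 1 = m + 1 := ⟨p - 2, by have := hp.two_le; omega⟩
      refine ⟨y - (T^[p - 1]) y, ?_, ?_, ?_⟩
      · exact Submodule.sub_mem _ hy (hm ▸ (hpow m).2)
      · rw [sub_sub_eq_add_sub, add_sub_right_comm]
        exact Submodule.add_mem _ hxy (hm ▸ (hpow m).1)
      · intro s α hne μ hμ
        rw [map_sub, hco, hfer] at hne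
        split_ifs at hne with hdiv
        · rw [zero_mul, sub_zero] at hne
          rcases Finset.mem_insert.1 hμ with rfl | hμ
          · exact hdiv
          · exact hys s α hne μ hμ
        · simp at hne
  -- `e s` in coordinates
  let γ : Set.powersetCard (Fin n) a → (Fin n →₀ ℕ) := fun s => ∑ i,
    if r ≤ ((Set.powersetCard.ofFinEmbEquiv.symm s i : Fin n) : ℕ) then
      Finsupp.single (Set.powersetCard.ofFinEmbEquiv.symm s i) (p - 1) else 0
  have hγ : ∀ s ν, γ s ν = (p - 1) * cnt r ν (fun i => Set.powersetCard.ofFinEmbEquiv.symm s i) := by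
    intro s ν
    simp only [γ, cnt, Finsupp.finsetSum_apply, Finset.mul_sum]
    refine Finset.sum_congr rfl fun i _ => ?_
    by_cases hi : Set.powersetCard.ofFinEmbEquiv.symm s i = ν
    · subst hi
      split_ifs <;> simp_all
    · split_ifs <;> simp_all [Finsupp.single_apply]
  have hes : ∀ s : Set.powersetCard (Fin n) a, e s.1 = monomial (γ s) (1 : R) • bw.exteriorPower a s := by
    intro s
    rw [he s.1 s.2, basis_eq]
    have hwv : (fun j => w (s.1.orderEmbOfFin s.2 j)) = fun j => (monomial
        (if r ≤ ((s.1.orderEmbOfFin s.2 j : Fin n) : ℕ) then Finsupp.single (s.1.orderEmbOfFin s.2 j) (p - 1) else 0)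
        (1 : R) : B) • bw (s.1.orderEmbOfFin s.2 j) := by
      funext j
      generalize s.1.orderEmbOfFin s.2 j = μ
      rw [hbw]
      by_cases h : r ≤ (μ : ℕ)
      · simp only [if_pos h, v, dif_neg (not_lt.2 h)]
        rw [hw' μ h, map_smul, X_pow_eq_monomial]
      · simp only [if_neg h, v, dif_pos (not_le.1 h)]
        rw [monomial_zero', C_1, one_smul, ← hw ⟨μ, not_le.1 h⟩]
        exact congrArg w (hcast μ _).symm
    rw [hwv, AlternatingMap.map_smul_univ, ← monomial_sum_one]
    rfl
  have hterm : ∀ (s : Set.powersetCard (Fin n) a) β (c : R),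
      expand p (monomial β c) • e s.1 = monomial (p • β + γ s) c • bw.exteriorPower a s := by
    intro s β c
    rw [hes, smul_smul, expand_monomial, monomial_mul, mul_one]
  have hzero : ∀ (s : Set.powersetCard (Fin n) a) (β : Fin n →₀ ℕ), Zero s (p • β + γ s) := by
    intro s β ν
    show p ∣ wt r ν s _
    rw [wt, Finsupp.add_apply, hγ, Finsupp.smul_apply, smul_eq_mul, add_assoc]
    refine Nat.dvd_add (Dvd.intro _ rfl) ⟨cnt r ν (fun i => Set.powersetCard.ofFinEmbEquiv.symm s i), ?_⟩
    nth_rewrite 2 [← one_mul (cnt r ν _)]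
    rw [← add_mul, Nat.sub_add_cancel hp.one_lt.le]
  let S : Submodule R ↥(⋀[B]^a L) := Submodule.span R
    {x | ∃ (s : Set.powersetCard (Fin n) a) (β : Fin n →₀ ℕ) (c : R), x = expand p (monomial β c) • e s.1}
  have hSmem : ∀ x ∈ S, ∃ g : Finset (Fin n) → B,
      x = ∑ s ∈ Finset.powersetCard a Finset.univ, expand p (g s) • e s := by
    intro x hx
    induction hx using Submodule.span_induction with
    | zero => exact ⟨0, by simp⟩
    | add x y _ _ hx hy =>
      obtain ⟨g, rfl⟩ := hx
      obtain ⟨g', rfl⟩ := hy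
      exact ⟨g + g', by simp [add_smul, Finset.sum_add_distrib]⟩
    | smul c x _ hx =>
      obtain ⟨g, rfl⟩ := hx
      exact ⟨fun s => c • g s, by simp [Finset.smul_sum, map_smul, smul_assoc]⟩
    | mem x hx =>
      obtain ⟨s, β, c, rfl⟩ := hx
      refine ⟨fun t => if t = s.1 then monomial β c else 0, ?_⟩
      rw [Finset.sum_eq_single s.1 (fun t _ ht => by simp [ht])
        (fun h => absurd (Finset.mem_powersetCard.2 ⟨Finset.subset_univ _, s.2⟩) h)]
      simp
  have hclosed : ∀ g : Finset (Fin n) → B,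
      (∑ s ∈ Finset.powersetCard a Finset.univ, expand p (g s) • e s) ∈ DeRham.cocycles d a := by
    intro g
    refine Submodule.sum_mem _ fun s hs => ?_
    induction g s using MvPolynomial.induction_on' with
    | monomial β c =>
      rw [hterm ⟨s, (Finset.mem_powersetCard.1 hs).2⟩]
      exact hd0 _ _ _ (hzero _ β)
    | add q q' hq hq' => rw [map_add, add_smul]; exact Submodule.add_mem _ hq hq'
  refine ⟨fun ω => ⟨fun hω => ?_, ?_⟩, fun g hg => ?_⟩
  · obtain ⟨y, hy, hωy, hys⟩ := hproj Finset.univ ω hω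
    have hyS : y ∈ S := by
      rw [← (bw.exteriorPower a).sum_repr y]
      refine Submodule.sum_mem _ fun s _ => ?_
      rw [((bw.exteriorPower a).repr y s).as_sum, Finset.sum_smul]
      refine Submodule.sum_mem _ fun α hα => Submodule.subset_span ⟨s, α.mapRange (· / p) (Nat.zero_div p),
        coeff α ((bw.exteriorPower a).repr y s), ?_⟩
      rw [hterm]
      congr 3
      refine Finsupp.ext fun ν => ?_
      have hd := hys s α (by simpa [co] using MvPolynomial.mem_support_iff.1 hα) ν (Finset.mem_univ ν)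
      rw [Finsupp.add_apply, Finsupp.smul_apply, Finsupp.mapRange_apply, hγ, smul_eq_mul]
      rw [wt] at hd
      have hle : cnt r ν (fun i => Set.powersetCard.ofFinEmbEquiv.symm s i) ≤ 1 := by
        rw [hcnt]; split_ifs <;> simp
      generalize cnt r ν _ = t at hd hle
      obtain ⟨m, hm⟩ := hd
      have hp2 := hp.two_le
      interval_cases t
      · rw [add_zero] at hm
        rw [hm, Nat.mul_div_cancel_left _ hp.pos]
        omega
      · have h1 : 0 < m := by
          rcases Nat.eq_zero_or_pos m with rfl | h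
          · simp at hm
          · exact h
        have : α ν / p = m - 1 := by
          apply Nat.div_eq_of_lt_le
          · rw [Nat.sub_mul, one_mul, mul_comm]; omega
          · rw [Nat.sub_add_cancel h1, mul_comm]; omega
        rw [this, Nat.mul_sub, mul_one]
        have : p * 1 ≤ p * m := Nat.mul_le_mul_left p h1
        omega
    obtain ⟨g, hg⟩ := hSmem y hyS
    exact ⟨g, ω - y, hωy, by rw [← hg]; abel⟩
  · rintro ⟨g, η, hη, rfl⟩
    refine Submodule.add_mem _ ?_ (hclosed g)
    cases a with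
    | zero => rw [(Submodule.mem_bot R).1 hη]; exact zero_mem _
    | succ a => obtain ⟨z, rfl⟩ := hη; exact hd2 a z
  · intro s hs
    let s' : Set.powersetCard (Fin n) a := ⟨s, (Finset.mem_powersetCard.1 hs).2⟩
    refine MvPolynomial.ext _ _ fun β => ?_
    have h := hcb _ hg s' (p • β + γ s') (hzero s' β)
    rw [map_sum, Finset.sum_eq_single s (fun t ht hts => ?_) (fun h => absurd hs h)] at h
    · rw [coeff_zero]
      rw [← h]
      clear h hg
      induction g s using MvPolynomial.induction_on' with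
      | monomial β' c =>
        rw [hterm s', co_monomial, coeff_monomial]
        refine if_congr ⟨fun e => ⟨rfl, by rw [e]⟩, fun e => ?_⟩ rfl rfl
        refine Finsupp.ext fun ν => ?_
        have := DFunLike.congr_fun e.2 ν
        simpa [hp.pos.ne'] using this
      | add q q' hq hq' => simp [map_add, add_smul, coeff_add, hq, hq']
    · induction g t using MvPolynomial.induction_on' with
      | monomial β' c =>
        rw [hterm ⟨t, (Finset.mem_powersetCard.1 ht).2⟩, co_monomial, if_neg fun e => hts (congrArg Subtype.val e.1)]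
      | add q q' hq hq' => simp [map_add, add_smul, hq, hq']


end Groth.Agent.S16744
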