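import Groth.Statements.S16752
import Groth.Agent.S0404
import Groth.Agent.Lib.Seesaw26.Universal
import Groth.Agent.Lib.GlobalConst.Scheme
import Groth.Agent.Lib.SmCurveFam.Family
import Groth.Agent.Lib.BCCrit.Degree0
import Groth.Agent.Lib.LocFree8.Basic

set_option autoImplicit false
universe u
open CurvSt

namespace Groth.Agent.S16752

set_option backward.isDefEq.respectTransparency false


open CategoryTheory CategoryTheory.Limits AlgebraicGeometry in
/-- Let f : X → S be a flat, proper morphism of schemes, locally of finite presentation, all of whose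
fibres have dimension at most one (a family of curves whose total space is a scheme). Then the set
of points s of S such that the fibre X_s has dimension one and dim_{κ(s)} H^0(X_s, O_{X_s}) = 1 (the
conditions under which the genus of X_s is defined) is open in S. The source allows the total space
to be an algebraic space and phrases the result as the existence of an open substack of the stack of
curves with this membership condition. -/
theorem result (X S : Scheme.{u}) (f : X ⟶ S)
    [Flat f] [IsProper f] [LocallyOfFinitePresentation f]
    (hdim : ∀ s : S, topologicalKrullDim ↥(f.fiber s) ≤ 1) :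
    IsOpen {s : S | topologicalKrullDim ↥(f.fiber s) = 1 ∧
      Models.hRank ↥(S.residueField s) (f.fiber s) (f.fiberToSpecResidueField s)
        (Coh.structureModule (f.fiber s)) 0 = 1} := by
  haveI : (Coh.structureModule X).IsQuasicoherent :=
    GrothLib.InvExt.isQuasicoherent_of_isInvertible GrothLib.Euler.isInvertible_structure
  haveI : Coh.IsQCoh (Coh.structureModule X) :=
    GrothLib.InvExt.isQuasicoherent_of_isInvertible GrothLib.Euler.isInvertible_structure
  have hfp := GrothLib.LocFree8.isFP_of_isFinLocFree _
    (GrothLib.Euler.isFinLocFree_of_isInvertible (GrothLib.Euler.isInvertible_structure (X := X)))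
  have hfl := GrothLib.Seesaw26.isFlatOver_structure f
  have hd : {s : S | topologicalKrullDim ↥(f.fiber s) = 1} = {s : S | 0 < topologicalKrullDim ↥(f.fiber s)} := by
    ext s
    refine ⟨fun h => ?_, fun h => le_antisymm (hdim s) ?_⟩
    · show 0 < topologicalKrullDim ↥(f.fiber s)
      rw [show topologicalKrullDim ↥(f.fiber s) = 1 from h]
      exact zero_lt_one
    · obtain ⟨d, hd⟩ := WithBot.ne_bot_iff_exists.1 (ne_bot_of_gt (show 0 < topologicalKrullDim ↥(f.fiber s) from h))
      have h' : (0 : WithBot ℕ∞) < (d : WithBot ℕ∞) := by rw [hd]; exact h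
      rw [← hd]
      exact WithBot.coe_le_coe.2 (Order.one_le_iff_pos.2 (WithBot.coe_lt_coe.1 h'))
  rw [Set.setOf_and, hd]
  refine (Groth.Agent.S0404.result f 0).inter (isOpen_iff_forall_mem_open.2 fun s hs => ?_)
  have hΓ : Module.finrank (S.residueField s) Γ(f.fiber s, ⊤) = 1 := by
    letI : (f.fiber s).Over (Spec (CommRingCat.of (S.residueField s))) := ⟨f.fiberToSpecResidueField s⟩
    exact ((GrothLib.GlobalConst.h0Equiv (S.residueField s) (X := f.fiber s)).finrank_eq).symm.trans hs
  have h1 : GrothLib.BCCrit.GoodAll f (Coh.structureModule X) ((0 : ℕ) : ℤ) s :=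
    (GrothLib.BCCrit.goodAll_iff_epi0 hfp hfl s).2 (GrothLib.Seesaw26.epi_bc0_structure f s hΓ)
  obtain ⟨U, n, hsU, -, hn⟩ := GrothLib.BCCrit.exists_free_near0 hfp hfl s h1
  refine ⟨U, fun t ht => ?_, U.isOpen, hsU⟩
  exact (GrothLib.SmCurveFam.fiberRank_structure f 0 t).symm.trans ((hn t ht).trans
    ((hn s hsU).symm.trans ((GrothLib.SmCurveFam.fiberRank_structure f 0 s).trans hs)))

end Groth.Agent.S16752
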