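import Groth.Statements.S16754
import Groth.Agent.Lib.SmCurveFam.VeryAmple
import Groth.Agent.Lib.GlobalConst.Scheme
import Groth.Agent.Lib.Stein.FieldCase
import Groth.Agent.Lib.CurveRR.Places

set_option autoImplicit false
universe u
open CurvSt

namespace Groth.Agent.S16754

set_option backward.isDefEq.respectTransparency false


open CategoryTheory CategoryTheory.Limits AlgebraicGeometry in
/-- Let k be a field and X a scheme which is proper and smooth over k and of dimension one. Then the
following are equivalent: dim_k H^0(X, O_X) = 1 (the ground field is the ring of global functions);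
X is geometrically connected over k; X is geometrically integral over k. (The remaining conditions
of the source concern membership in an open substack of the stack of curves and are not stated.) -/
theorem result (k : Type u) [Field k]
    (X : Scheme.{u}) [X.Over (Spec (CommRingCat.of k))] [IsProper (X ↘ Spec (CommRingCat.of k))]
    [Smooth (X ↘ Spec (CommRingCat.of k))] (hdim : topologicalKrullDim ↥X = 1) :
    (Module.finrank k (Coh.HH X (Coh.structureModule X) 0) = 1 ↔ GeometricallyConnected (X ↘ Spec (CommRingCat.of k))) ∧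
      (GeometricallyConnected (X ↘ Spec (CommRingCat.of k)) ↔ GeometricallyIntegral (X ↘ Spec (CommRingCat.of k))) := by
  refine ⟨⟨fun h0 => ?_, fun h => (GrothLib.CurveMult.OmegaField.integral_and_h0 k X).2⟩,
    ⟨fun h => GrothLib.SmCurveFam.geometricallyIntegral k, fun h => ⟨fun L _ y Z fst snd hsq => ?_⟩⟩⟩
  · letI := GrothLib.GlobalConst.algΓ k (X := X)
    have hfr : Module.finrank k Γ(X, ⊤) = 1 :=
      (GrothLib.GlobalConst.h0Equiv k (X := X)).finrank_eq.symm.trans h0
    haveI : Nontrivial Γ(X, ⊤) := Module.nontrivial_of_finrank_eq_succ hfr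
    have hbij : Function.Bijective (algebraMap k Γ(X, ⊤)) := by
      refine ⟨(algebraMap k Γ(X, ⊤)).injective, fun z => ?_⟩
      obtain ⟨c, hc⟩ := (finrank_eq_one_iff_of_nonzero' (1 : Γ(X, ⊤)) one_ne_zero).1 hfr z
      exact ⟨c, by rw [← hc, Algebra.smul_def, mul_one]⟩
    haveI := GrothLib.CurveMult.connectedSpace_of_finrank_H0 k h0
    haveI : AlgebraicGeometry.IsIntegral X := GrothLib.Euler.isIntegral_of_smooth_connected k (X ↘ Spec (CommRingCat.of k))
    let ψ : CommRingCat.of k ⟶ CommRingCat.of Γ(X, ⊤) := CommRingCat.ofHom (algebraMap k Γ(X, ⊤))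
    haveI : IsIso ψ := (ConcreteCategory.isIso_iff_bijective _).2 hbij
    have hab : X.toSpecΓ ≫ Spec.map ψ = X ↘ Spec (CommRingCat.of k) :=
      (GrothLib.CurveRR.eq_toSpecΓ k (X ↘ Spec (CommRingCat.of k))).symm
    haveI : IsProper (X.toSpecΓ ≫ Spec.map ψ) := by rw [hab]; infer_instance
    haveI : IsProper X.toSpecΓ := IsProper.of_comp _ (Spec.map ψ)
    haveI := GrothLib.Stein.geometricallyConnected_toSpecΓ X
    rw [← hab]
    exact GrothLib.Stein.geometricallyConnected_comp_univHomeo _ _ (by
      intro P T g' a f' hpb
      haveI := hpb.isIso_fst_of_isIso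
      exact (Scheme.Hom.homeomorph _).isHomeomorph)
  · haveI : AlgebraicGeometry.IsIntegral Z := h.geometrically_isIntegral _ _ _ hsq
    show ConnectedSpace ↥Z
    infer_instance

end Groth.Agent.S16754
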