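import Groth.Statements.S16761
import Groth.Agent.Lib.BCCrit.Degree0
import Groth.Agent.Lib.BCCrit.DimBound

set_option autoImplicit false
universe u
open Coherent

namespace Groth.Agent.S16761

open AlgebraicGeometry CategoryTheory CategoryTheory.Limits in
/-- Let f : X → S be proper and of finite presentation, F an O_X-module of finite presentation which is
flat over S, and d a natural number with dim X_s ≤ d for all s. Then the set S' of points s with
H^j(X_s, F_s) = 0 for all j ≥ 1 is open, and over every open U ⊆ S' the sheaves R^j f_* F (j ≥ 1)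
restrict to zero, f_* F restricts to a finite locally free module, and the formation of f_* F
commutes with base change: for every cartesian square with base a morphism g : T → S whose image
lies in U, with f' : X ×_S T → T and g' : X ×_S T → X the projections, the base change map g^* f_* F
→ f'_* g'^* F is an isomorphism. (The published statement asks only that f be proper; without finite
presentation the assertions on f_* F fail — for a finite flat morphism which is not of finite
presentation and F = O_X the direct image f_* O_X need not be finite locally free — and the argument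
runs through cohomology and base change for morphisms of finite presentation, so f is taken of
finite presentation here. Higher direct images are right derived functors of f_* on O_X-modules,
with injective resolutions carried as an instance argument.) -/
theorem result {X S : Scheme.{u}} (f : X ⟶ S)
    [IsProper f] [LocallyOfFinitePresentation f] [HasInjectiveResolutions X.Modules]
    (F : X.Modules) (hF : CohB1.IsFP F) (hfl : FlatMod.IsFlatOver f F)
    (d : ℕ) (hd : ∀ s : S, topologicalKrullDim ↥(f.fiber s) ≤ d) :
    IsOpen {s : S | ∀ j : ℕ, 1 ≤ j → Subsingleton (CohIII.fiberH f F s j)} ∧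
      ∀ U : S.Opens, (U : Set S) ⊆ {s : S | ∀ j : ℕ, 1 ≤ j → Subsingleton (CohIII.fiberH f F s j)} →
        (∀ j : ℕ, 1 ≤ j → IsZero (((Coh.Rpush f j).obj F).restrict U.ι)) ∧
          FlatMod.IsFinLocFree (((Coh.push f).obj F).restrict U.ι) ∧
            ∀ (T X' : Scheme.{u}) (g : T ⟶ S) (f' : X' ⟶ T) (g' : X' ⟶ X) (hsq : IsPullback g' f' f g),
              Set.range g.base ⊆ (U : Set S) → IsIso (CohBC.bc0 f g f' g' hsq.w F) := by
  haveI : SheafOfModules.IsFinitePresentation (R := X.ringCatSheaf) F := hF
  haveI : Coh.IsQCoh F := inferInstance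
  have hiff := fun (s : S) (j : ℕ) => GrothLib.BCCrit.subsingleton_fiberH_iff hF hfl j s
  have hbig : ∀ (s : S) (j : ℕ), d < j → CohIII.fiberRank f F j s = 0 := fun s j hj =>
    GrothLib.BCCrit.fiberRank_eq_zero_of_dim_lt s d j (hd s) hj
  refine ⟨isOpen_iff_forall_mem_open.2 fun s hs => ?_, fun U hU => ?_⟩
  · have hW : ∀ j : Fin d, ∃ W : S.Opens, s ∈ W ∧ ∀ y ∈ W, CohIII.fiberRank f F (j + 1) y = 0 := fun j => by
      obtain ⟨W, hsW, -, h⟩ := GrothLib.BCCrit.exists_zero_near hF hfl (j + 1) s
        ((hiff s _).1 (hs (j + 1) (by omega)))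
      exact ⟨W, hsW, h⟩
    choose W hsW hW using hW
    refine ⟨⋂ j, (W j : Set S), fun y hy j hj => (hiff y j).2 ?_, isOpen_iInter_of_finite fun j => (W j).isOpen,
      Set.mem_iInter.2 hsW⟩
    by_cases hjd : d < j
    · exact hbig y j hjd
    · have h := hW ⟨j - 1, by omega⟩ y (Set.mem_iInter.1 hy _)
      rwa [show ((⟨j - 1, by omega⟩ : Fin d) : ℕ) + 1 = j by simp; omega] at h
  · have hG : ∀ y ∈ U, GrothLib.BCCrit.GoodAll f F ((0 : ℕ) : ℤ) y := fun y hy => by
      simpa using (GrothLib.BCCrit.goodAll_of_fiberRank_eq_zero (f := f) (F := F) 1 y ((hiff y 1).1 (hU hy 1 le_rfl))).2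
    refine ⟨fun j hj => GrothLib.BCCrit.isZero_restrict_of_free_zero _ U fun y hy => ?_,
      GrothLib.BCCrit.isFinLocFree_push_of_goodAll hF hfl U hG,
      fun T X' g f' g' hsq hr => GrothLib.BCCrit.isIso_bc0_of_goodAll hF hfl U hG hsq fun z => hr ⟨z, rfl⟩⟩
    obtain ⟨W, hyW, hφ, -⟩ := GrothLib.BCCrit.exists_zero_near hF hfl j y ((hiff y j).1 (hU hy j hj))
    exact ⟨W, hyW, hφ⟩

end Groth.Agent.S16761
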