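import Groth.Statements.S16762
import Mathlib
-- import your own Groth.Agent.* helpers here

set_option autoImplicit false
universe u
open CAlgX

namespace Groth.Agent.S16762

/-- Let A → A' be faithfully flat and u : M → N a map of A-modules. Then u is universally injective (u ⊗
id_Q injective for every A-module Q) if and only if its base change A' ⊗_A M → A' ⊗_A N is
universally injective as a map of A'-modules. -/
theorem result (A A' : Type u) [CommRing A] [CommRing A']
    [Algebra A A'] [Module.FaithfullyFlat A A'] {M N : Type u} [AddCommGroup M] [Module A M]
    [AddCommGroup N] [Module A N] (u : M →ₗ[A] N) :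
    CAlgX.UniversallyInjective A u ↔ CAlgX.UniversallyInjective A' (u.baseChange A') := by
  constructor
  · intro h Q _ _
    letI : Module A Q := Module.compHom Q (algebraMap A A')
    haveI : IsScalarTower A A' Q := IsScalarTower.of_algebraMap_smul fun _ _ => rfl
    rw [← LinearMap.lTensor_inj_iff_rTensor_inj]
    let eM := TensorProduct.AlgebraTensorModule.cancelBaseChange A A' A' Q M
    let eN := TensorProduct.AlgebraTensorModule.cancelBaseChange A A' A' Q N
    have hc : ∀ z, eN ((u.baseChange A').lTensor Q z) = u.lTensor Q (eM z) := by
      intro z
      induction z using TensorProduct.induction_on with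
      | zero => simp
      | add a b ha hb => simp only [map_add, ha, hb]
      | tmul q y =>
        induction y using TensorProduct.induction_on with
        | zero => simp
        | add a b ha hb => simp only [TensorProduct.tmul_add, map_add, ha, hb]
        | tmul a m => simp [eM, eN]
    have h1 : Function.Injective (u.lTensor Q) := (LinearMap.lTensor_inj_iff_rTensor_inj Q u).2 (h Q)
    intro x y hxy
    exact eM.injective (h1 (by rw [← hc, ← hc, hxy]))
  · intro h Q _ _
    rw [← LinearMap.lTensor_inj_iff_rTensor_inj, ← Module.FaithfullyFlat.lTensor_injective_iff_injective A A']
    let Q' := TensorProduct A A' Q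
    have h1 : Function.Injective ((u.baseChange A').lTensor Q') :=
      (LinearMap.lTensor_inj_iff_rTensor_inj Q' _).2 (h Q')
    let eM := (TensorProduct.AlgebraTensorModule.cancelBaseChange A A' A' Q' M).restrictScalars A ≪≫ₗ
      TensorProduct.assoc A A' Q M
    let eN := (TensorProduct.AlgebraTensorModule.cancelBaseChange A A' A' Q' N).restrictScalars A ≪≫ₗ
      TensorProduct.assoc A A' Q N
    have hc : ∀ z, eN ((u.baseChange A').lTensor Q' z) = (u.lTensor Q).lTensor A' (eM z) := by
      intro z
      induction z using TensorProduct.induction_on with
      | zero => simp
      | add a b ha hb => simp only [map_add, ha, hb]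
      | tmul q y =>
        induction y using TensorProduct.induction_on with
        | zero => simp
        | add a b ha hb => simp only [TensorProduct.tmul_add, map_add, ha, hb]
        | tmul a m =>
          induction q using TensorProduct.induction_on with
          | zero => simp
          | add q₁ q₂ ha hb => simp only [TensorProduct.add_tmul, map_add, ha, hb]
          | tmul b q =>
            have hs : a • (b ⊗ₜ[A] q) = (a * b) ⊗ₜ[A] q := rfl
            simp [eM, eN, hs]
            rfl
    intro x y hxy
    obtain ⟨x', rfl⟩ := eM.surjective x
    obtain ⟨y', rfl⟩ := eM.surjective y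
    rw [← hc, ← hc] at hxy
    rw [h1 (eN.injective hxy)]

end Groth.Agent.S16762
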