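import Groth.Statements.S1677
import Groth.Agent.Lib.CIMor.Immersion
import Groth.Agent.Lib.CIMor.Codim

set_option autoImplicit false
set_option linter.all false
set_option backward.isDefEq.respectTransparency false
universe u
open CategoryTheory CategoryTheory.Limits AlgebraicGeometry TopologicalSpace
open SDiv

namespace Groth.Agent.S1677

/-- Let X ⟶ S be smooth, Y ⟶ S flat, locally of finite presentation with complete-intersection fibre
local rings (syntomic), and i : Y ⟶ X a closed immersion over S. Then i is a regular closed
immersion. -/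
theorem result {X Y S : Scheme.{u}} (p : X ⟶ S) [Smooth p] (i : Y ⟶ X)
    [IsClosedImmersion i] (hY : CInt.IsCIMorphism (i ≫ p)) : Mor2.IsRegularClosedImmersion i := by
  obtain ⟨hfl, hlfp, hci⟩ := hY
  refine ⟨inferInstance, fun z => ?_⟩
  haveI : IsRegularLocalRing (CInt.fiberStalk p (i z)) := by
    haveI : Smooth (p.fiberToSpecResidueField (p (i z))) := MorphismProperty.pullback_snd _ _ ‹_›
    exact GrothLib.CotTangent.isRegularLocalRing_stalk (k := S.residueField (p (i z)))
      (p.fiberToSpecResidueField (p (i z))) _
  obtain ⟨U, hzU, rs, hrs, hI⟩ := (GrothLib.RegSeqLoc.exists_open_iff i z).mp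
    (GrothLib.CIMor.regular_of_ci_fiberStalk p i z (hci z))
  exact ⟨U.1, U.2, hzU, rs, hrs, hI⟩

end Groth.Agent.S1677
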