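import Groth.Statements.S16774
import Groth.Agent.Lib.MaxTorBC14.Radical
import Groth.Agent.Lib.SelfCent19.Main
import Groth.Agent.Lib.CentreTorus5.Main
import Groth.Agent.Lib.FibreLocus.Hom
import Groth.Agent.Lib.Flag27.BorelSubS
-- import your own Groth.Agent.* helpers here

set_option autoImplicit false
open CategoryTheory MonoidalCategory CartesianMonoidalCategory MonObj GrpObj AlgebraicGeometry
universe u
open Red

namespace Groth.Agent.S16774

private theorem isReductive_of_over {k : Type u} [Field k] [IsAlgClosed k] {G : Over (Spec (CommRingCat.of k))} [GrpObj G]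
    (h : Red.IsReductiveOver k G) : Red.IsReductive G := GrothLib.CentreTorus5.isReductive_of_over G h

private theorem connectedSpace_fibre {S : Scheme.{u}} (G : Over S) {s : S}
    (h : _root_.IsConnected (G.hom.base ⁻¹' {s})) :
    ConnectedSpace (Red.bc (S.fromSpecResidueField s) G).left := by
  haveI : ConnectedSpace ↥(G.hom.base ⁻¹' {s}) := isConnected_iff_connectedSpace.mp h
  exact (G.hom.fiberHomeo s).symm.surjective.connectedSpace (G.hom.fiberHomeo s).symm.continuous

private theorem isOpenImmersion_of_iso {X Y : Scheme.{u}} (f : X ⟶ Y) (h : IsIso f) : IsOpenImmersion f := by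
  haveI := h
  infer_instance

private theorem isIso_of_clopen {S : Scheme.{u}} {A B : Over S} (v : A ⟶ B) (ho : IsOpenImmersion v.left)
    (hc : IsClosedImmersion v.left) (hne : Nonempty A.left) [ConnectedSpace B.left] : IsIso v := by
  haveI := ho; haveI := hc; haveI := hne
  haveI : Surjective v.left := ⟨fun y => by
    have h := IsClopen.eq_univ ⟨v.left.isClosedEmbedding.isClosed_range, v.left.isOpenEmbedding.isOpen_range⟩
      (Set.range_nonempty _)
    exact (Set.eq_univ_iff_forall.1 h) y⟩
  haveI : IsIso v.left := (isIso_iff_isOpenImmersion_and_surjective v.left).mpr ⟨inferInstance, inferInstance⟩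
  haveI : IsIso ((Over.forget _).map v) := ‹IsIso v.left›
  exact isIso_of_reflects_iso v (Over.forget _)

private theorem isIso_of_fibres {S : Scheme.{u}} {A B : Over S} (v : A ⟶ B) [Smooth A.hom] [Smooth B.hom]
    (h : ∀ s, IsIso (CategoryTheory.Limits.pullback.snd v.left (B.hom.fiberι s))) : IsIso v.left := by
  haveI : LocallyOfFinitePresentation (v.left ≫ B.hom) := by rw [Over.w v]; infer_instance
  haveI : Flat (v.left ≫ B.hom) := by rw [Over.w v]; infer_instance
  exact GrothLib.FibreFlat.isIso_of_fibrewise v.left B.hom h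

open CategoryTheory.Limits in
set_option maxHeartbeats 3200000 in
set_option synthInstance.maxHeartbeats 400000 in
set_option backward.isDefEq.respectTransparency false in
/-- Let G be a smooth affine group scheme with connected fibres over a scheme S, T ⊆ G a subtorus with
centralizer Z = Z_G(T) ⊇ T, and s ∈ S a point at which the geometric fibre of G is reductive and the
geometric fibre of T is a maximal torus. Then over some open neighbourhood U of s the inclusion T →
Z_G(T) is an isomorphism and T is a maximal torus of G. (The published statement allows disconnected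
fibres and concerns identity components; here the fibres of G are connected.) -/
theorem result {S : Scheme.{u}} {G T Z : Over S} [GrpObj G] [GrpObj T] [GrpObj Z]
    (hG : Smooth G.hom) (hGa : IsAffineHom G.hom) (hconn : ∀ s : S, _root_.IsConnected (G.hom.base ⁻¹' {s}))
    (i : T ⟶ G) [IsMonHom i] [Mono i] (hT : Red.IsTorus T) (z : Z ⟶ G) (hz : Red.IsCentralizerOf i z)
    (f : T ⟶ Z) (hf : f ≫ z = i) (s : S)
    (hs : Red.IsReductiveOver (AlgebraicClosure (S.residueField s)) (Red.geomFibre s G))
    (hTs : Red.IsMaximalTorus ((Over.pullback (Red.geomPt s)).map i)) :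
    ∃ U : S.Opens, s ∈ U ∧ IsIso ((Over.pullback U.ι).map f) ∧ Red.IsMaximalTorus ((Over.pullback U.ι).map i) := by
  haveI := hG; haveI := hGa
  obtain ⟨hzm, hzmono, hziff⟩ := id hz
  haveI := hzm; haveI := hzmono
  obtain ⟨Z', gZ', c, hc, hcc, hcs⟩ := GrothLib.MultDef14.exists_centralizer
    (GrothLib.DiagGrp.hasChartsFpqc_of_isTorus hT) hG hGa i
  obtain ⟨a, ha⟩ := (hc.2.2 Z z).2 ((hziff Z z).1 ⟨𝟙 Z, Category.id_comp z⟩)
  obtain ⟨b, hb⟩ := (hziff Z' c).2 ((hc.2.2 Z' c).1 ⟨𝟙 Z', Category.id_comp c⟩)
  haveI := hc.2.1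
  have hab : a ≫ b = 𝟙 Z := by rw [← cancel_mono z, Category.assoc, hb, ha, Category.id_comp]
  have hba : b ≫ a = 𝟙 Z' := by rw [← cancel_mono c, Category.assoc, ha, hb, Category.id_comp]
  let e : Z ≅ Z' := ⟨a, b, hab, hba⟩
  haveI : IsIso e.hom := ⟨b, hab, hba⟩
  haveI : IsIso e.hom.left := (Over.forget S).map_isIso e.hom
  haveI : IsClosedImmersion z.left := by
    have h : e.hom.left ≫ c.left = z.left := by rw [← Over.comp_left]; exact congrArg (fun m => m.left) ha
    rw [← h]; haveI := hcc; infer_instance
  haveI : Smooth Z.hom := by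
    have h : e.hom.left ≫ Z'.hom = Z.hom := Over.w e.hom
    rw [← h]; haveI := hcs; infer_instance
  haveI : IsMonHom (f ≫ z) := by rw [hf]; infer_instance
  haveI : IsMonHom f := GrothLib.CentMT14.isMonHom_of_comp f z
  haveI : Smooth T.hom := GrothLib.TorusNorm25.smooth_of_isTorus hT
  have hTc : IsClosedImmersion i.left := GrothLib.MultDef14.isClosedImmersion_of_mono
    (GrothLib.QuotTorus14.isMultTypeFT_of_charts (GrothLib.DiagGrp.hasChartsFpqc_of_isTorus hT)) hGa i
  haveI : IsClosedImmersion (f.left ≫ z.left) := by rw [← Over.comp_left, hf]; exact hTc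
  haveI : IsClosedImmersion f.left := IsClosedImmersion.of_comp f.left z.left
  haveI : UniversallyInjective f.left := inferInstance
  -- at the given point
  have hs0 : IsIso ((Over.pullback (Red.geomPt s)).map f) := by
    let p := Red.geomPt s
    haveI : IsAffineHom (Red.bc p G).hom := MorphismProperty.pullback_snd (P := @IsAffineHom) G.hom p hGa
    haveI : IsAffine (Red.bc p G).left := isAffine_of_isAffineHom (Red.bc p G).hom
    haveI : Smooth (Red.bc p G).hom := GrothLib.Flag27.smooth_bc p G
    haveI : ConnectedSpace (Red.bc p G).left := hs.2.2.1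
    haveI : LocallyOfFiniteType (Red.bc p G).hom := inferInstance
    have hzp := GrothLib.Flag27.isCentralizerOf_bc p hz
    haveI := hzp.2.1
    haveI := hTs.2.1
    obtain ⟨g, hg⟩ := GrothLib.SelfCent19.centralizer_le_torus (isReductive_of_over hs)
      ((Over.pullback p).map i) (GrothLib.Chev24.isMaxTorus_of_isMaximalTorus hTs) ((Over.pullback p).map z) hzp
    refine ⟨g, ?_, ?_⟩
    · rw [← cancel_mono ((Over.pullback p).map i), Category.assoc, hg, ← Functor.map_comp, hf, Category.id_comp]
    · rw [← cancel_mono ((Over.pullback p).map z), Category.assoc, ← Functor.map_comp, hf, hg, Category.id_comp]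
  obtain ⟨hopen, -⟩ := GrothLib.FibreLocus.isOpenImmersion_over f
  let U : S.Opens := ⟨_, hopen⟩
  have hres : ∀ s' ∈ U, IsIso ((Over.pullback (S.fromSpecResidueField s')).map f) := fun s' hs' => by
    let p := S.fromSpecResidueField s'
    let F := Over.pullback p
    haveI : IsAffineHom (Red.bc p G).hom := MorphismProperty.pullback_snd (P := @IsAffineHom) G.hom p hGa
    haveI : IsAffine (Red.bc p G).left := isAffine_of_isAffineHom (Red.bc p G).hom
    haveI : Smooth (Red.bc p G).hom := GrothLib.Flag27.smooth_bc p G
    haveI : LocallyOfFiniteType (Red.bc p G).hom := inferInstance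
    haveI : ConnectedSpace (Red.bc p G).left := connectedSpace_fibre G (hconn s')
    haveI := GrothLib.MaxTorBC14.mono_map p i
    haveI : ConnectedSpace (Red.bc p Z).left := GrothLib.Flag27.connectedSpace_centralizer_field
      (k := S.residueField s') (F.map i) (GrothLib.MaxTorBC14.isTorus_bc p hT) (F.map z)
      (GrothLib.Flag27.isCentralizerOf_bc p hz)
    exact isIso_of_clopen (F.map f) hs' (GrothLib.Flag27.property_map p f ‹IsClosedImmersion f.left›)
      ⟨η[Red.bc p T].left.base (IsLocalRing.closedPoint (S.residueField s'))⟩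
  have hsU : s ∈ U := by
    have h1 : IsIso (pullback.snd f.left (Z.hom.fiberι s)) := GrothLib.Flag27.isIso_fibre_of_geom' f s hs0
    have h2 := (GrothLib.FibreLocus.prop_fibre_iff (P := MorphismProperty.isomorphisms Scheme.{u}) f s).1 h1
    show IsOpenImmersion ((Over.pullback (S.fromSpecResidueField s)).map f).left
    exact isOpenImmersion_of_iso _ h2
  have hgeoU : ∀ t : (U : Scheme.{u}), IsIso ((Over.pullback (Red.geomPt t)).map ((Over.pullback U.ι).map f)) :=
    fun t => by
      obtain ⟨g, hg⟩ := GrothLib.MaxTorBC14.exists_geomPt_comp U.ι t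
      haveI := hres (U.ι.base t) t.2
      let σ : Spec (CommRingCat.of (AlgebraicClosure (S.residueField (U.ι.base t)))) ⟶ Spec (S.residueField (U.ι.base t)) :=
        Spec.map (CommRingCat.ofHom (algebraMap (S.residueField (U.ι.base t))
          (AlgebraicClosure (S.residueField (U.ι.base t)))))
      have h1 : IsIso ((Over.pullback ((g ≫ σ) ≫ S.fromSpecResidueField (U.ι.base t))).map f) :=
        (NatIso.isIso_map_iff (Over.pullbackComp (g ≫ σ) (S.fromSpecResidueField (U.ι.base t))) f).2
          (inferInstanceAs (IsIso ((Over.pullback (g ≫ σ)).map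
            ((Over.pullback (S.fromSpecResidueField (U.ι.base t))).map f))))
      have e : (g ≫ σ) ≫ S.fromSpecResidueField (U.ι.base t) = Red.geomPt t ≫ U.ι :=
        (Category.assoc _ _ _).trans hg
      rw [e] at h1
      exact (NatIso.isIso_map_iff (Over.pullbackComp (Red.geomPt t) U.ι) f).1 h1
  refine ⟨U, hsU, ?_, inferInstance, GrothLib.MaxTorBC14.mono_map _ i, GrothLib.MaxTorBC14.isTorus_bc _ hT,
    fun t T' _ j _ _ g hT' hg => ?_⟩
  · let v := (Over.pullback U.ι).map f
    haveI : Smooth (Red.bc U.ι T).hom := GrothLib.Flag27.smooth_bc _ T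
    haveI : Smooth (Red.bc U.ι Z).hom := GrothLib.Flag27.smooth_bc _ Z
    haveI : IsIso v.left := isIso_of_fibres v (fun t => GrothLib.Flag27.isIso_fibre_of_geom' v t (hgeoU t))
    haveI : IsIso ((Over.forget _).map v) := ‹IsIso v.left›
    exact isIso_of_reflects_iso v (Over.forget _)
  · haveI := hgeoU t
    let p := Red.geomPt t
    let F := Over.pullback p
    let H := Over.pullback U.ι
    have hzt := GrothLib.Flag27.isCentralizerOf_bc p (GrothLib.Flag27.isCentralizerOf_bc U.ι hz)
    obtain ⟨w, hw⟩ := (hzt.2.2 T' j).2 fun X x y => by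
      rw [← hg, ← Category.assoc y g, ← MonObj.mul_comp, ← MonObj.mul_comp,
        GrothLib.RankCell14.comm_torus hT' x (y ≫ g)]
    have hwT : (w ≫ inv (F.map (H.map f))) ≫ F.map (H.map i) = j := by
      rw [show F.map (H.map i) = F.map (H.map f) ≫ F.map (H.map z) by rw [← F.map_comp, ← H.map_comp, hf]]
      simp only [Category.assoc, IsIso.inv_hom_id_assoc]
      exact hw
    haveI := GrothLib.MaxTorBC14.mono_map U.ι i
    haveI := GrothLib.MaxTorBC14.mono_map p ((Over.pullback U.ι).map i)
    refine ⟨w ≫ inv (F.map (H.map f)), ?_, ?_⟩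
    · rw [← cancel_mono (F.map (H.map i)), Category.assoc, hwT, hg, Category.id_comp]
    · rw [← cancel_mono j, Category.assoc, hg, hwT, Category.id_comp]

end Groth.Agent.S16774
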