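import Groth.Statements.S16775
import Groth.Agent.Lib.MTExtension14.Main
import Groth.Agent.S5255
-- import your own Groth.Agent.* helpers here

set_option autoImplicit false
open CategoryTheory MonoidalCategory CartesianMonoidalCategory MonObj GrpObj AlgebraicGeometry
universe u
open SGA3x

namespace Groth.Agent.S16775

set_option backward.isDefEq.respectTransparency false
set_option maxHeartbeats 1600000
set_option synthInstance.maxHeartbeats 400000
/-- Let G be a smooth affine group scheme with connected fibres over a scheme S, H ⊆ G a normal subgroup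
scheme of multiplicative type (of finite type), G → Q = G/H the quotient, and H' ⊆ Q a central
subgroup scheme of multiplicative type (of finite type). Then the preimage of H' in G is a central
subgroup scheme of G of multiplicative type. -/
theorem result {S : Scheme.{u}} {G H Q H' P : Over S}
    [GrpObj G] [GrpObj H] [GrpObj Q] [GrpObj H'] [GrpObj P]
    (hG : Smooth G.hom) (hGa : IsAffineHom G.hom) (hconn : ∀ s : S, _root_.IsConnected (G.hom.base ⁻¹' {s}))
    (i : H ⟶ G) [IsMonHom i] [Mono i] (hH : SGA3x.IsMultTypeFT H) (hHn : AlgGrp.IsNormalHom i)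
    (q : G ⟶ Q) [IsMonHom q] (hq : RedSub.IsQuotient i q) (hker : AlgGrp.IsKernel i q)
    (j : H' ⟶ Q) [IsMonHom j] [Mono j] (hH' : SGA3x.IsMultTypeFT H')
    (hcenH' : ∀ (X : Over S) (x : X ⟶ H') (g : X ⟶ Q), (x ≫ j) * g = g * (x ≫ j))
    (i' : P ⟶ G) [IsMonHom i'] (p : P ⟶ H') (hP : IsPullback i' p q j) :
    SGA3x.IsMultTypeFT P ∧ ∀ (X : Over S) (x : X ⟶ P) (g : X ⟶ G), (x ≫ i') * g = g * (x ≫ i') := by

  obtain ⟨hqs, hqf, hqfp, hqt⟩ := hq
  haveI := hqs
  haveI := hqf
  haveI := hqfp
  haveI := GrothLib.DiagGrp.lfp_of_isMultTypeFT hH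
  haveI : IsAffineHom H.hom := GrothLib.EssFree.isAffineHom_multTypeFT H hH
  haveI : QuasiCompact (fst G H).left := by
    rw [Over.fst_left]
    exact MorphismProperty.pullback_fst _ _ (inferInstanceAs (QuasiCompact H.hom))
  haveI : QuasiCompact q.left :=
    MorphismProperty.of_isPullback_of_descendsAlong (Q := @Surjective ⊓ @Flat ⊓ @LocallyOfFinitePresentation)
      (hqt.map (Over.forget S)) ⟨⟨hqs, hqf⟩, hqfp⟩ ‹QuasiCompact (fst G H).left›
  have sq := hP.map (Over.forget S)
  haveI : Surjective p.left := MorphismProperty.of_isPullback sq hqs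
  haveI : Flat p.left := MorphismProperty.of_isPullback sq hqf
  haveI : QuasiCompact p.left := MorphismProperty.of_isPullback sq ‹QuasiCompact q.left›
  haveI : LocallyOfFinitePresentation p.left := MorphismProperty.of_isPullback sq hqfp
  haveI : Mono i' := ⟨fun a b e => hP.hom_ext e (by
    rw [← cancel_mono j, Category.assoc, Category.assoc, ← hP.w, reassoc_of% e])⟩
  haveI : IsMonHom p := GrothLib.DiagGrp.isMonHom_of_points p fun T a b => by
    rw [← cancel_mono j, Category.assoc, ← hP.w, ← Category.assoc]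
    simp only [MonObj.mul_comp, Category.assoc, ← hP.w]
  have hiq : i ≫ q = 1 := by
    rw [← Category.id_comp i]; exact GrothLib.MTExtension14.comp_eq_one hker (𝟙 H)
  let i₀ : H ⟶ P := hP.lift i 1 (by rw [hiq, MonObj.one_comp])
  have hi₀ : i₀ ≫ i' = i := hP.lift_fst _ _ _
  haveI : IsMonHom i₀ := GrothLib.DiagGrp.isMonHom_of_points i₀ fun T a b => by
    rw [← cancel_mono i']
    simp only [MonObj.mul_comp, Category.assoc, hi₀]
  have hk : AlgGrp.IsKernel i₀ p := by
    have h0 : i₀ ≫ p = 1 := hP.lift_snd _ _ _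
    have hs : ∀ s : Limits.PullbackCone p η[H'], (s.fst ≫ i') ≫ q = 1 := fun s => by
      rw [Category.assoc, hP.w, ← Category.assoc, s.condition, toUnit_unique s.snd (toUnit _), ← Hom.one_def,
        MonObj.one_comp]
    refine IsPullback.of_isLimit' ⟨h0.trans Hom.one_def⟩ (Limits.PullbackCone.IsLimit.mk _
      (fun s => (GrothLib.MTExtension14.exists_lift hker _ (hs s)).choose) (fun s => ?_)
      (fun s => toUnit_unique _ _) fun s t h1 _ => ?_)
    · rw [← cancel_mono i', Category.assoc, hi₀]
      exact (GrothLib.MTExtension14.exists_lift hker _ (hs s)).choose_spec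
    · rw [← cancel_mono i, (GrothLib.MTExtension14.exists_lift hker _ (hs s)).choose_spec, ← h1, Category.assoc, hi₀]
  haveI : LocallyOfFiniteType G.hom := inferInstance
  have hconn' : ∀ s : S, ConnectedSpace ↥(Limits.pullback G.hom (S.fromSpecResidueField s)) := fun s => by
    haveI := isConnected_iff_connectedSpace.mp (hconn s)
    exact (G.hom.fiberHomeo s).symm.surjective.connectedSpace (G.hom.fiberHomeo s).symm.continuous
  have hz := Groth.Agent.S5255.result G H hconn' i hH hHn
  obtain ⟨l₀, hl₀⟩ := GrothLib.MTExtension14.exists_lift hker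
    (fst G P * (snd G P ≫ i') * (fst G P)⁻¹ * (snd G P ≫ i')⁻¹) (by
      simp only [MonObj.mul_comp, GrpObj.inv_comp, Category.assoc, hP.w]
      rw [← Category.assoc (snd G P) p j, ← hcenH' _ (snd G P ≫ p) (fst G P ≫ q)]
      group)
  have hL : ∀ (Y : Over S) (g : Y ⟶ G) (x : Y ⟶ P),
      (lift g x ≫ l₀) ≫ i = g * (x ≫ i') * g⁻¹ * (x ≫ i')⁻¹ := by
    intro Y g x
    rw [Category.assoc, hl₀]
    simp only [MonObj.comp_mul, GrpObj.comp_inv, lift_fst, lift_snd_assoc]
  have hfib : ∀ (s : S) (X : Over (Spec (S.residueField s))) (a b : X ⟶ Red.bc (S.fromSpecResidueField s) P),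
      a * b = b * a := by
    intro s X a b
    let F := S.fromSpecResidueField s
    let e : ∀ (A : Over S) [GrpObj A] (Y : Over (Spec (S.residueField s))),
        ((Over.map F).obj Y ⟶ A) ≃* (Y ⟶ Red.bc F A) := fun A _ Y => GrothLib.DiagGrp.bcPointMulEquiv F A Y
    have sqp := GrothLib.DiagGrp.isPullback_overMap p F
    haveI : Flat ((Over.pullback F).map p).left := MorphismProperty.of_isPullback sqp.flip ‹Flat p.left›
    haveI : Surjective ((Over.pullback F).map p).left :=
      MorphismProperty.of_isPullback sqp.flip ‹Surjective p.left›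
    haveI : LocallyOfFinitePresentation ((Over.pullback F).map p).left :=
      MorphismProperty.of_isPullback sqp.flip ‹LocallyOfFinitePresentation p.left›
    haveI : ConnectedSpace (Red.bc F G).left := hconn' s
    let GP := Red.bc F G ⊗ Red.bc F P
    let l : GP ⟶ Red.bc F H := e H GP
      (lift ((e G GP).symm (fst _ _)) ((e P GP).symm (snd _ _)) ≫ l₀)
    have hnat : ∀ (A : Over S) [GrpObj A] {Y Y' : Over (Spec (S.residueField s))} (h : Y' ⟶ Y) (v : Y ⟶ Red.bc F A),
        (e A Y').symm (h ≫ v) = (Over.map F).map h ≫ (e A Y).symm v := fun A _ Y Y' h v => by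
      rw [MulEquiv.symm_apply_eq]
      exact ((GrothLib.DiagGrp.bcPoint_comp F h ((e A Y).symm v)).trans
        (congrArg (h ≫ ·) ((e A Y).apply_symm_apply v))).symm
    have hl : ∀ (Y : Over (Spec (S.residueField s))) (g : Y ⟶ Red.bc F G) (x : Y ⟶ Red.bc F P),
        ((e H Y).symm (lift g x ≫ l)) ≫ i = (e G Y).symm g * ((e P Y).symm x ≫ i') * ((e G Y).symm g)⁻¹ *
          ((e P Y).symm x ≫ i')⁻¹ := by
      intro Y g x
      rw [hnat, show (e H GP).symm l = _ from (e H GP).symm_apply_apply _, ← Category.assoc, comp_lift, ← hnat,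
        ← hnat, lift_fst, lift_snd, hL]
    have hone : ∀ (Y : Over (Spec (S.residueField s))) (g : Y ⟶ Red.bc F G) (x : Y ⟶ Red.bc F P),
        lift g x ≫ l = 1 := by
      intro Y g x
      refine GrothLib.DiagGrp.bihom_trivial_of_quot (G := Red.bc F G) (B := Red.bc F H) ((Over.pullback F).map p)
        ((Over.pullback F).map i₀) (GrothLib.SplitTors24.isKernel_bc F hk)
        (GrothLib.QuotTorus14.isMultTypeFT_of_charts ((GrothLib.DiagGrp.hasChartsFpqc_of_isMultTypeFT hH').baseChange F))
        (GrothLib.QuotTorus14.isMultTypeFT_of_charts ((GrothLib.DiagGrp.hasChartsFpqc_of_isMultTypeFT hH).baseChange F))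
        l (fun Y g x y => ?_) (fun Y x => ?_) (fun Y g n => ?_) Y g x
      · apply (e H Y).symm.injective
        rw [← cancel_mono i, map_mul, MonObj.mul_comp, hl, hl, hl, map_mul, MonObj.mul_comp]
        have hc := hz _ (((e P Y).symm x ≫ i')⁻¹) ((e H Y).symm (lift g y ≫ l))
        rw [hl] at hc
        rw [_root_.mul_assoc _ ((e P Y).symm x ≫ i')⁻¹, hc]
        group
      · apply (e H Y).symm.injective
        rw [← cancel_mono i, hl, map_one, map_one, MonObj.one_comp]
        group
      · apply (e H Y).symm.injective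
        have hn : (e P Y).symm (n ≫ (Over.pullback F).map i₀) ≫ i' = (e H Y).symm n ≫ i := by
          rw [← hi₀, ← Category.assoc]
          congr 1
          rw [MulEquiv.symm_apply_eq]
          exact ((GrothLib.DiagGrp.bcPoint_comp_right F _ i₀).trans
            (congrArg (· ≫ (Over.pullback F).map i₀) ((e H Y).apply_symm_apply n))).symm
        rw [← cancel_mono i, hl, map_one, MonObj.one_comp, hn, hz]
        group
    apply (e P X).symm.injective
    rw [← cancel_mono i', map_mul, map_mul, MonObj.mul_comp, MonObj.mul_comp]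
    have h := hl X (e G X ((e P X).symm a ≫ i')) b
    rw [hone, map_one, MonObj.one_comp, MulEquiv.symm_apply_apply, eq_comm, mul_inv_eq_one,
      mul_inv_eq_iff_eq_mul] at h
    exact h
  have hPm : SGA3x.IsMultTypeFT P :=
    GrothLib.MTExtension14.isMultTypeFT_of_extension' p i₀ hk hH hH' fun s => Or.inr (hfib s)
  refine ⟨hPm, fun X x g => (Groth.Agent.S5255.result G P hconn' i' hPm (fun T g n => ?_) X g x).symm⟩
  have h : (g * (n ≫ i') * g⁻¹) ≫ q = (n ≫ p) ≫ j := by
    simp only [MonObj.mul_comp, GrpObj.inv_comp, Category.assoc, hP.w]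
    rw [← Category.assoc n p j, ← hcenH' _ (n ≫ p) (g ≫ q)]
    group
  exact ⟨hP.lift _ _ h, (hP.lift_fst _ _ h).symm⟩

end Groth.Agent.S16775
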