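import Groth.Statements.S16776
import Groth.Agent.Lib.MultDef14.EtaleLocal

set_option autoImplicit false
open CategoryTheory MonoidalCategory CartesianMonoidalCategory MonObj GrpObj AlgebraicGeometry
universe u
open SGA3x

namespace Groth.Agent.S16776

/-- Let G be a smooth affine group scheme over a scheme S and H₁, H₂ ⊆ G subgroup schemes of
multiplicative type (of finite type). If at a point s ∈ S the geometric fibres of H₁ and H₂ are
conjugate under a geometric point of G, then H₁ and H₂ become conjugate under a section of G over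
some etale neighbourhood of s. -/
theorem result {S : Scheme.{u}} (H₁ H₂ G : Over S) [GrpObj H₁] [GrpObj H₂] [GrpObj G]
    (h₁ : SGA3x.IsMultTypeFT H₁) (h₂ : SGA3x.IsMultTypeFT H₂) (hG : Smooth G.hom) (hGa : IsAffineHom G.hom)
    (i₁ : H₁ ⟶ G) [IsMonHom i₁] [Mono i₁] (i₂ : H₂ ⟶ G) [IsMonHom i₂] [Mono i₂] (s : S)
    (hs : ∃ g : Over.mk (Red.geomPt s) ⟶ G, ∀ (X : Over S) (p : X ⟶ Over.mk (Red.geomPt s)),
      (∀ a : X ⟶ H₁, ∃ b : X ⟶ H₂, (p ≫ g) * (a ≫ i₁) * (p ≫ g)⁻¹ = b ≫ i₂) ∧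
      (∀ b : X ⟶ H₂, ∃ a : X ⟶ H₁, (p ≫ g)⁻¹ * (b ≫ i₂) * (p ≫ g) = a ≫ i₁)) :
    ∃ (S' : Scheme.{u}) (e : S' ⟶ S), Etale e ∧ s ∈ Set.range e.base ∧
      ∃ g : 𝟙_ (Over S') ⟶ Red.bc e G, SGA3x.ConjBy ((Over.pullback e).map i₁) ((Over.pullback e).map i₂) g := by
  haveI := hG
  obtain ⟨T, j, hj, hT, hspec⟩ := GrothLib.MultDef14.exists_transporterSub h₁ h₂ hG hGa i₁ i₂
  haveI := hT
  obtain ⟨g, hg⟩ := hs
  obtain ⟨t, ht⟩ := (hspec _ g).mpr hg
  obtain ⟨S', f, hf, hs', ⟨t'⟩⟩ := GrothLib.MultDef14.exists_etale_point_at T s ⟨t⟩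
  haveI : (Over.pullback f).IsRightAdjoint := (Over.mapPullbackAdj f).isRightAdjoint
  have hc := ((hspec _ (t' ≫ j)).mp ⟨t', rfl⟩).comp (GrothLib.MultDef14.unitMap f)
  exact ⟨S', f, hf, hs', _, GrothLib.MultDef14.conjBy_of_conjSub _ _ _ (GrothLib.MultDef14.conjSub_bc _ hc)⟩

end Groth.Agent.S16776
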