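import Groth.Statements.S1678
import Groth.Agent.Lib.SmoothSection.Scheme

set_option autoImplicit false
universe u
open CategoryTheory CategoryTheory.Limits AlgebraicGeometry TopologicalSpace
open SDiv

namespace Groth.Agent.S1678

/-- Let X ⟶ S be smooth and let i : Y ⟶ X and j : Y ⟶ S be closed immersions with i ≫ (X ⟶ S) = j. If j
is a regular closed immersion then so is i. -/
theorem result {X Y S : Scheme.{u}} (p : X ⟶ S) [Smooth p] (i : Y ⟶ X) (j : Y ⟶ S)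
    [IsClosedImmersion i] [IsClosedImmersion j] (h : i ≫ p = j) (hj : Mor2.IsRegularClosedImmersion j) :
    Mor2.IsRegularClosedImmersion i := by
  refine ⟨inferInstance, fun z => ?_⟩
  obtain ⟨U₀, hU₀, V₀, hV₀, hx, e, hsm⟩ := Smooth.exists_isStandardSmooth p (i z)
  obtain ⟨n, hn⟩ : ∃ n, (p.appLE U₀ V₀ e).hom.IsStandardSmoothOfRelativeDimension n := by
    let := (p.appLE U₀ V₀ e).hom.toAlgebra
    obtain ⟨_, _, _, _, ⟨P⟩⟩ := hsm
    exact ⟨P.dimension, ⟨_, _, _, ‹_›, P, rfl⟩⟩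
  obtain ⟨U, hU, hzU, a, ha, hIa⟩ := hj.2 z
  obtain ⟨V, hzV, rs, -, hreg, hI⟩ := GrothLib.SmoothSection.exists_chart_regular n p i j h z hU₀ hV₀ hx e hn
    ⟨U, hU⟩ hzU a ha.toIsWeaklyRegular hIa
  exact ⟨V.1, V.2, hzV, rs, hreg, hI⟩

end Groth.Agent.S1678
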