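import Groth.Statements.S16780
import Groth.Agent.Lib.MTExtension14.Main
-- import your own Groth.Agent.* helpers here

set_option autoImplicit false
open CategoryTheory MonoidalCategory CartesianMonoidalCategory MonObj GrpObj AlgebraicGeometry
universe u
open SGA3x

namespace Groth.Agent.S16780

set_option backward.isDefEq.respectTransparency false
set_option maxHeartbeats 800000
/-- Let 1 → H' → H → H'' → 1 be a short exact sequence of affine, flat, finitely presented group schemes
over a scheme S with H' and H'' of multiplicative type (of finite type). If every fibre H_s is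
connected or commutative, then H is of multiplicative type. -/
theorem result {S : Scheme.{u}} (H' H H'' : Over S) [GrpObj H'] [GrpObj H] [GrpObj H'']
    (hHa : IsAffineHom H.hom) (hHfl : Flat H.hom) (hHfp : LocallyOfFinitePresentation H.hom)
    (p : H ⟶ H'') [IsMonHom p] [Surjective p.left] [Flat p.left] [QuasiCompact p.left]
    (i : H' ⟶ H) [IsMonHom i] (hker : AlgGrp.IsKernel i p)
    (hH' : SGA3x.IsMultTypeFT H') (hH'' : SGA3x.IsMultTypeFT H'')
    (hfib : ∀ s : S, _root_.IsConnected (H.hom.base ⁻¹' {s}) ∨
      ∀ (X : Over (Spec (S.residueField s))) (a b : X ⟶ Red.bc (S.fromSpecResidueField s) H), a * b = b * a) :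
    SGA3x.IsMultTypeFT H := by

  refine GrothLib.MTExtension14.isMultTypeFT_of_extension' p i hker hH' hH'' fun s => ?_
  rcases hfib s with hc | hc
  · left
    have e : p.left.base '' (H.hom.base ⁻¹' {s}) = H''.hom.base ⁻¹' {s} := by
      have hw : ∀ x, H''.hom.base (p.left.base x) = H.hom.base x := fun x => congr($(Over.w p) x)
      ext y
      constructor
      · rintro ⟨x, hx, rfl⟩
        change H''.hom.base (p.left.base x) = s
        rw [hw]
        exact hx
      · intro hy
        obtain ⟨x, rfl⟩ := p.left.surjective y
        exact ⟨x, (hw x).symm.trans hy, rfl⟩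
    rw [← e]
    exact hc.image _ p.left.continuous.continuousOn
  · exact Or.inr hc

end Groth.Agent.S16780
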