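import Groth.Statements.S16784
import Groth.Agent.Lib.SecTransp14.Basic
import Groth.Agent.Lib.DescentHom.GeomConnected

set_option autoImplicit false
open CategoryTheory MonoidalCategory CartesianMonoidalCategory MonObj GrpObj AlgebraicGeometry
universe u
open SGA3x

namespace Groth.Agent.S16784

/-- Let G be a smooth affine group scheme over a scheme S, Y ⊆ G a closed subscheme of finite
presentation which is smooth over S with non-empty geometrically connected fibres, and Y' ⊆ G a
closed subscheme of finite presentation. Then the transporter of Y into Y' is representable by a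
closed subscheme of G of finite presentation over S. -/
theorem result {S : Scheme.{u}} (G Y Y' : Over S) [GrpObj G]
    (hG : Smooth G.hom) (hGa : IsAffineHom G.hom)
    (y : Y ⟶ G) (hy : IsClosedImmersion y.left) (hYs : Smooth Y.hom) (hYfp : LocallyOfFinitePresentation Y.hom)
    (hYc : ∀ s : S, ConnectedSpace ↥(Red.geomFibre s Y).left)
    (y' : Y' ⟶ G) (hy' : IsClosedImmersion y'.left) (hY'fp : LocallyOfFinitePresentation Y'.hom) :
    ∃ (C : Over S) (c : C ⟶ G), IsClosedImmersion c.left ∧ LocallyOfFinitePresentation C.hom ∧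
      ∀ (X : Over S) (g : X ⟶ G), (∃ z : X ⟶ C, z ≫ c = g) ↔
        ∀ (X' : Over S) (x : X' ⟶ X) (a : X' ⟶ Y), ∃ a' : X' ⟶ Y', (x ≫ g) * (a ≫ y) * (x ≫ g)⁻¹ = a' ≫ y' := by
  haveI := hYs
  haveI := hy'
  haveI := GrothLib.DescentHom.geometricallyConnected_of_geomPt Y.hom hYc
  haveI := GrothLib.SecLocus.geometricallyIrreducible_of_smooth Y.hom
  haveI : LocallyOfFinitePresentation G.hom := inferInstance
  haveI hy'fp : LocallyOfFinitePresentation y'.left := by
    haveI : LocallyOfFinitePresentation (y'.left ≫ G.hom) := by rwa [Over.w y']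
    exact GrothLib.DiagGrp.lfp_of_comp_of_lft y'.left G.hom inferInstance inferInstance
  let c : G ⊗ Y ⟶ G := fst G Y * (snd G Y ≫ y) * (fst G Y)⁻¹
  have sq := (IsPullback.of_hasPullback c y').map (Over.forget S)
  haveI : IsClosedImmersion (Limits.pullback.fst c y').left :=
    MorphismProperty.of_isPullback sq.flip ‹IsClosedImmersion y'.left›
  have hefp : LocallyOfFinitePresentation (Limits.pullback.fst c y').left :=
    MorphismProperty.of_isPullback sq.flip hy'fp
  obtain ⟨Z, z, hz, hzfp, hZ⟩ :=
    GrothLib.SecTransp14.exists_closed_forall_points_smooth (Limits.pullback.fst c y')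
  refine ⟨Z, z, hz, ?_, fun X g => (hZ X g).trans (forall₃_congr fun X' x a => ?_)⟩
  · haveI := hzfp hefp
    rw [← Over.w z]
    infer_instance
  have hc : lift (x ≫ g) a ≫ c = (x ≫ g) * (a ≫ y) * (x ≫ g)⁻¹ := by
    simp [c, MonObj.comp_mul, GrpObj.comp_inv]
  constructor
  · rintro ⟨l, hl⟩
    refine ⟨l ≫ Limits.pullback.snd c y', ?_⟩
    rw [← hc, ← hl, Category.assoc, Category.assoc, Limits.pullback.condition]
  · rintro ⟨a', ha'⟩
    exact ⟨Limits.pullback.lift (lift (x ≫ g) a) a' (hc.trans ha'), Limits.pullback.lift_fst _ _ _⟩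

end Groth.Agent.S16784
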