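import Groth.Statements.S16785
import Groth.Agent.Lib.SecLocus.NormCent
import Groth.Agent.Lib.SecLocus.Locus
import Groth.Agent.Lib.DescentHom.GeomConnected
import Groth.Agent.Lib.HomScheme.GrpHom

set_option autoImplicit false
open CategoryTheory MonoidalCategory CartesianMonoidalCategory MonObj GrpObj AlgebraicGeometry
universe u
open SGA3x

namespace Groth.Agent.S16785

/-- Let G be an affine group scheme of finite presentation over a scheme S and Y ⊆ G a closed subscheme
of finite presentation, smooth over S with non-empty geometrically connected fibres. Then the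
centralizer of Y in G is representable by a closed subscheme of G. (The published statement asks
only that the fibres of Y be connected; this row asks them to be geometrically connected, the case
the printed argument treats.) -/
theorem result {S : Scheme.{u}} (G Y : Over S) [GrpObj G]
    (hGa : IsAffineHom G.hom) (hGfp : LocallyOfFinitePresentation G.hom)
    (y : Y ⟶ G) (hy : IsClosedImmersion y.left) (hYs : Smooth Y.hom) (hYfp : LocallyOfFinitePresentation Y.hom)
    (hYc : ∀ s : S, ConnectedSpace ↥(Red.geomFibre s Y).left) :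
    ∃ (C : Over S) (c : C ⟶ G), IsClosedImmersion c.left ∧
      ∀ (X : Over S) (g : X ⟶ G), (∃ z : X ⟶ C, z ≫ c = g) ↔
        ∀ (X' : Over S) (x : X' ⟶ X) (a : X' ⟶ Y), (x ≫ g) * (a ≫ y) = (a ≫ y) * (x ≫ g) := by

  have := GrothLib.DescentHom.geometricallyConnected_of_geomPt Y.hom hYc
  have hirr := GrothLib.SecLocus.geometricallyIrreducible_of_smooth Y.hom
  let G' := Red.bc G.hom G
  let Y' := Red.bc G.hom Y
  let y' : Y' ⟶ G' := (Over.pullback G.hom).map y
  haveI : IsSeparated G'.hom := inferInstanceAs (IsSeparated (Limits.pullback.snd G.hom G.hom))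
  haveI : Smooth Y'.hom := inferInstanceAs (Smooth (Limits.pullback.snd Y.hom G.hom))
  haveI : GeometricallyIrreducible Y'.hom :=
    inferInstanceAs (GeometricallyIrreducible (Limits.pullback.snd Y.hom G.hom))
  let v := GrothLib.SecLocus.univPt G Y'
  obtain ⟨A, i, hi, hic, hieq, -, hA⟩ := GrothLib.HomScheme.exists_equalizer (v * y') (y' * v)
  obtain ⟨Z, t, ht, hZ, -⟩ := GrothLib.SecLocus.exists_closed_locus Y'.hom i.left
  refine ⟨Over.mk (t ≫ G.hom), Over.homMk t rfl, ht, fun X g => ?_⟩
  have hiff : (∃ z : X ⟶ Over.mk (t ≫ G.hom), z ≫ Over.homMk t rfl = g) ↔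
      ∃ g' : X.left ⟶ Z, g' ≫ t = g.left := by
    constructor
    · rintro ⟨z, rfl⟩
      exact ⟨z.left, rfl⟩
    · rintro ⟨g', hg'⟩
      refine ⟨Over.homMk g' ?_, Over.OverMorphism.ext hg'⟩
      show g' ≫ t ≫ G.hom = X.hom
      rw [← Category.assoc, hg', Over.w g]
  refine (hiff.trans (hZ X.left g.left)).trans ?_
  have hkey : ∀ (T : Over G.left) (h : (Over.map G.hom).obj T ⟶ Y),
      GrothLib.DiagGrp.bcPoint G.hom Y T h ≫ (v * y') = GrothLib.DiagGrp.bcPoint G.hom Y T h ≫ (y' * v) ↔
        GrothLib.SecLocus.tautPt G T * (h ≫ y) = (h ≫ y) * GrothLib.SecLocus.tautPt G T := fun T h => by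
    have h1 : GrothLib.DiagGrp.bcPoint G.hom Y T h ≫ y' =
        GrothLib.DiagGrp.bcPointMulEquiv G.hom G T (h ≫ y) :=
      (GrothLib.DiagGrp.bcPoint_comp_right G.hom h y).symm
    rw [MonObj.comp_mul, MonObj.comp_mul, GrothLib.SecLocus.comp_univPt, h1, ← map_mul, ← map_mul,
      EmbeddingLike.apply_eq_iff_eq]
  let F : Over G.left := Over.mk g.left
  constructor
  · rintro ⟨l, hl⟩ X' x a
    let T : Over G.left := Over.mk (x ≫ g).left
    let e : (Over.map G.hom).obj T ≅ X' := Over.isoMk (Iso.refl _) (by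
      show 𝟙 _ ≫ X'.hom = (x ≫ g).left ≫ G.hom
      rw [Category.id_comp, Over.w (x ≫ g)])
    let z : T ⟶ Y' := GrothLib.DiagGrp.bcPoint G.hom Y T (e.hom ≫ a)
    let xT : T ⟶ F := Over.homMk x.left rfl
    have h1 : ((lift z xT).left ≫ l) ≫ i.left = z.left := by
      rw [Category.assoc, hl]
      exact congrArg Over.Hom.left (lift_fst z xT)
    let w : T ⟶ A := Over.homMk ((lift z xT).left ≫ l) (by
      rw [← Over.w i, ← Category.assoc, h1]
      exact Over.w z)
    have hz : z = w ≫ i := Over.OverMorphism.ext h1.symm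
    have h2 : z ≫ (v * y') = z ≫ (y' * v) := by rw [hz, Category.assoc, hieq, ← Category.assoc]
    have h3 := (hkey T (e.hom ≫ a)).1 h2
    have he : e.hom ≫ x ≫ g = GrothLib.SecLocus.tautPt G T := Over.OverMorphism.ext (by
      show 𝟙 _ ≫ (x ≫ g).left = (x ≫ g).left
      exact Category.id_comp _)
    rw [← cancel_epi e.hom, MonObj.comp_mul, MonObj.comp_mul, he, ← Category.assoc]
    exact h3
  · intro h
    let P : Over G.left := Y' ⊗ F
    let z₀ : P ⟶ Y' := fst Y' F
    obtain ⟨a, ha⟩ := (GrothLib.DiagGrp.bcPoint G.hom Y P).surjective z₀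
    let x' : (Over.map G.hom).obj P ⟶ X := Over.homMk (snd Y' F).left (by
      show (snd Y' F).left ≫ X.hom = P.hom ≫ G.hom
      rw [← Over.w g, ← Category.assoc]
      exact congrArg (· ≫ G.hom) (Over.w (snd Y' F)))
    have hx : x' ≫ g = GrothLib.SecLocus.tautPt G P := Over.OverMorphism.ext (Over.w (snd Y' F))
    have h2 := (hkey P a).2 (hx ▸ h _ x' a)
    rw [ha] at h2
    obtain ⟨w, hw⟩ := hA P z₀ h2
    exact ⟨w.left, congrArg Over.Hom.left hw⟩

end Groth.Agent.S16785
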