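import Groth.Statements.S16791
import Groth.Agent.Lib.MaxTorBC14.Geom
-- import your own Groth.Agent.* helpers here

set_option autoImplicit false
open CategoryTheory MonoidalCategory CartesianMonoidalCategory MonObj GrpObj AlgebraicGeometry
universe u
open Red

namespace Groth.Agent.S16791

/-- For a smooth affine group scheme G over a scheme S, a subtorus T ⊆ G and a surjective morphism S' →
S, T is a maximal torus of G (geometric fibres maximal) if and only if T_{S'} is a maximal torus of
G_{S'}. -/
theorem result {S S' : Scheme.{u}} {G T : Over S} [GrpObj G] [GrpObj T]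
    (hG : Smooth G.hom) (hGa : IsAffineHom G.hom) (i : T ⟶ G) [IsMonHom i] [Mono i] (hT : Red.IsTorus T)
    (f : S' ⟶ S) (hf : Surjective f) :
    Red.IsMaximalTorus i ↔ Red.IsMaximalTorus ((Over.pullback f).map i) := by
  haveI := hG; haveI := hGa
  exact ⟨(GrothLib.MaxTorBC14.isMaximalTorus_iff f i hT).1, (GrothLib.MaxTorBC14.isMaximalTorus_iff f i hT).2 hf⟩

end Groth.Agent.S16791
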