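import Groth.Statements.S16809
import Groth.Agent.Lib.AlgSt.ResGerbe
import Groth.Agent.Lib.AlgSt.ReducedSub


set_option autoImplicit false
set_option backward.isDefEq.respectTransparency false
set_option backward.isDefEq.respectTransparency.types false
universe u
open CategoryTheory AlgebraicGeometry
open Gerb

namespace Groth.Agent.S16809

/-- (1)⇔(2)⇔(3): for a point x of an algebraic stack 𝒳 the following are equivalent: some algebraic
stack with exactly one point maps monomorphically to 𝒳 onto x; some reduced algebraic stack with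
exactly one point does; some algebraic stack 𝒵 with a monomorphism f : 𝒵 → 𝒳 receives a surjective
flat morphism z from the spectrum of a field with f(z) = x. -/
theorem result
    (S : Scheme.{u}) (𝒳 : AlgSt.Cat S) (h𝒳 : AlgSt.IsAlgStack Scheme.fppfPrecoverage 𝒳) (x : AlgSt.Points 𝒳) :
    [Gerb.ResGerbeExists Scheme.fppfPrecoverage 𝒳 x,
      ∃ (𝒵 : AlgSt.Cat S) (f : 𝒵 ⥤ᵇ 𝒳), AlgSt.IsAlgStack Scheme.fppfPrecoverage 𝒵 ∧
        AlgSt.SmoothLocally (fun T => IsReduced T) 𝒵 ∧ AlgSt.IsMono f ∧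
        Nonempty (AlgSt.Points 𝒵) ∧ Subsingleton (AlgSt.Points 𝒵) ∧ ∀ p, AlgSt.Points.map f p = x,
      ∃ (𝒵 : AlgSt.Cat S) (f : 𝒵 ⥤ᵇ 𝒳) (k : Type u) (_ : Field k) (a : Spec (CommRingCat.of k) ⟶ S)
        (z : FibCat.overCat (Over.mk a) ⥤ᵇ 𝒵), AlgSt.IsAlgStack Scheme.fppfPrecoverage 𝒵 ∧ AlgSt.IsMono f ∧
        AlgSt.RepByAlgSpWith AlgSp.IsSurjectiveMor z ∧ AlgSt.RepByAlgSpWith (AlgSp.LocP @Flat) z ∧
        ∀ t : ↥(Over.mk a).left, AlgSt.Points.map f (AlgSt.Points.ofChart z t) = x].TFAE := by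
  tfae_have 1 → 2 := by
    rintro ⟨𝒵, i, h𝒵, hi, hne, hsub, hx⟩
    obtain ⟨Q, hQ, hrange, hred⟩ := GrothLib.AlgSt.exists_reduced_closedSubstack h𝒵 Set.univ isClosed_univ
    have hi' := GrothLib.AlgSt.isMono_subIncl h𝒵 hQ.2.1
    obtain ⟨p⟩ := hne
    obtain ⟨p', -⟩ := hrange.ge (Set.mem_univ p)
    obtain ⟨hfu, hfa⟩ := GrothLib.AlgSt.full_faithful_of_isMono hQ.2.1.isStack.1 h𝒵.isStack.1 _ hi'
    refine ⟨AlgSt.fullSub 𝒵 Q, BasedFunctor.comp (AlgSt.subIncl 𝒵 Q) i, hQ.2.1, hred,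
      GrothLib.AlgSt.isMono_comp hQ.2.1.isStack.1 h𝒵.isStack.1 _ i hi' hi, ⟨p'⟩, ?_, fun q => ?_⟩
    · haveI := hsub
      haveI := hfu
      exact (GrothLib.AlgSt.points_map_injective_of_full hQ.2.1.isStack.1 h𝒵.isStack.1 (AlgSt.subIncl 𝒵 Q)).subsingleton
    · rw [GrothLib.AlgSt.points_map_comp]
      exact hx _
  tfae_have 2 → 3 := by
    rintro ⟨𝒵, f, h𝒵, hred, hf, hne, hsub, hx⟩
    obtain ⟨k, hk, a, z, hs, hfl⟩ := GrothLib.AlgSt.exists_flat_surjective_fieldChart h𝒵 hred hne hsub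
    exact ⟨𝒵, f, k, hk, a, z, h𝒵, hf, hs, hfl, fun t => hx _⟩
  tfae_have 3 → 1 := by
    rintro ⟨𝒵, f, k, hk, a, z, h𝒵, hf, hs, hfl, hx⟩
    obtain ⟨hne, hsub⟩ := GrothLib.AlgSt.nonempty_subsingleton_points_of_fieldCover h𝒵.isStack.1 z hs
    haveI := hsub
    refine ⟨𝒵, f, h𝒵, hf, hne, hsub, fun q => ?_⟩
    rw [Subsingleton.elim q (AlgSt.Points.ofChart z (default : ↥(Spec (CommRingCat.of k))))]
    exact hx _
  tfae_finish

end Groth.Agent.S16809
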