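import Groth.Statements.S16810
import Groth.Agent.Lib.AlgSt.ResGerbe


set_option autoImplicit false
set_option backward.isDefEq.respectTransparency false
set_option backward.isDefEq.respectTransparency.types false
universe u
open CategoryTheory AlgebraicGeometry
open Gerb

namespace Groth.Agent.S16810

/-- If some reduced algebraic stack with exactly one point admits a monomorphism to the algebraic stack
𝒳 with image the point x, then there is a unique strictly full subcategory of 𝒳 which is a reduced,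
locally Noetherian algebraic stack with exactly one point mapping to x. -/
theorem result
    (S : Scheme.{u}) (𝒳 : AlgSt.Cat S) (h𝒳 : AlgSt.IsAlgStack Scheme.fppfPrecoverage 𝒳) (x : AlgSt.Points 𝒳)
    (𝒵 : AlgSt.Cat S) (h𝒵 : AlgSt.IsAlgStack Scheme.fppfPrecoverage 𝒵)
    (hred : AlgSt.SmoothLocally (fun T => IsReduced T) 𝒵)
    (hne : Nonempty (AlgSt.Points 𝒵)) (hsub : Subsingleton (AlgSt.Points 𝒵))
    (f : 𝒵 ⥤ᵇ 𝒳) (hf : AlgSt.IsMono f) (hfx : ∀ p : AlgSt.Points 𝒵, AlgSt.Points.map f p = x) :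
    ∃ Q : 𝒳.obj → Prop, Gerb.IsResGerbe Scheme.fppfPrecoverage 𝒳 x Q ∧
      ∀ Q' : 𝒳.obj → Prop, Gerb.IsResGerbe Scheme.fppfPrecoverage 𝒳 x Q' → ∀ ξ : 𝒳.obj, Q' ξ ↔ Q ξ := by
  obtain ⟨k, hk, a, z, hs, hfl⟩ := GrothLib.AlgSt.exists_flat_surjective_fieldChart h𝒵 hred hne hsub
  obtain ⟨Q₀, -, hA₀, hF₀, hi₀⟩ := GrothLib.AlgSt.exists_fullSub_hasFieldChart h𝒵 a z hs hfl
  obtain ⟨Q, hQ, hu, -⟩ := GrothLib.AlgSt.exists_isResGerbe_of_hasFieldChart h𝒳 x hA₀ hF₀
    (BasedFunctor.comp (AlgSt.subIncl 𝒵 Q₀) f)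
    (GrothLib.AlgSt.isMono_comp hA₀.isStack.1 h𝒵.isStack.1 _ f hi₀ hf)
    (fun p => (GrothLib.AlgSt.points_map_comp _ _ p).trans (hfx _))
  exact ⟨Q, hQ, hu⟩

end Groth.Agent.S16810
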