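import Groth.Statements.S16813
import Groth.Agent.Lib.AlgSt.MonoIso
import Groth.Agent.Lib.AlgSt.MonoFF
import Groth.Agent.Lib.AlgSt.Setoid


set_option autoImplicit false
set_option backward.isDefEq.respectTransparency false
set_option backward.isDefEq.respectTransparency.types false
universe u
open CategoryTheory AlgebraicGeometry
open Gerb

namespace Groth.Agent.S16813

/-- If the residual gerbe 𝒵_x of the algebraic stack 𝒳 at the point x exists, then every morphism from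
the spectrum of a field to 𝒳 in the class of x factors through the inclusion 𝒵_x → 𝒳. -/
theorem result
    (S : Scheme.{u}) (𝒳 : AlgSt.Cat S) (h𝒳 : AlgSt.IsAlgStack Scheme.fppfPrecoverage 𝒳) (x : AlgSt.Points 𝒳)
    (Q : 𝒳.obj → Prop) (hQ : Gerb.IsResGerbe Scheme.fppfPrecoverage 𝒳 x Q)
    (K : Type u) [Field K] (a : Spec (CommRingCat.of K) ⟶ S)
    (p : FibCat.overCat (Over.mk a) ⥤ᵇ 𝒳)
    (hp : ∀ t : ↥(Over.mk a).left, AlgSt.Points.ofChart p t = x) :
    ∃ q : FibCat.overCat (Over.mk a) ⥤ᵇ AlgSt.fullSub 𝒳 Q,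
      Nonempty (BasedFunctor.comp q (AlgSt.subIncl 𝒳 Q) ≅ p) := by
  obtain ⟨hc, hA, -, -, ⟨z₀⟩, -, hz⟩ := hQ
  have hfull : (AlgSt.subIncl 𝒳 Q).toFunctor.Full := ⟨fun {a b} ψ => ⟨ObjectProperty.homMk ψ, rfl⟩⟩
  have hfaith : (AlgSt.subIncl 𝒳 Q).toFunctor.Faithful := ⟨fun h => ObjectProperty.hom_ext _ h⟩
  haveI := hfull
  haveI := hfaith
  have hi : AlgSt.IsMono (AlgSt.subIncl 𝒳 Q) :=
    GrothLib.AlgSt.isMono_of_repByAlgSp1_full _ (GrothLib.AlgSt.repByAlgSp1_of_faithful hA h𝒳 _)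
  refine GrothLib.AlgSt.exists_factor_fullSub_field h𝒳 Q hA hi p
    ⟨AlgSt.Points.ofChart (BasedFunctor.id _) (default : ↥(Spec (CommRingCat.of K))), z₀, ?_⟩
  exact (hp (default : ↥(Spec (CommRingCat.of K)))).trans (hz z₀).symm

end Groth.Agent.S16813
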