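import Groth.Statements.S16815
import Groth.Agent.Lib.AlgSt.ResGerbeEquiv
import Groth.Agent.Lib.AlgSt.MonoFF
import Groth.Agent.Lib.AlgSt.MonoIso


set_option autoImplicit false
set_option backward.isDefEq.respectTransparency false
set_option backward.isDefEq.respectTransparency.types false
universe u
open CategoryTheory AlgebraicGeometry
open Gerb

namespace Groth.Agent.S16815

/-- Let f : 𝒳 → 𝒴 be a morphism of algebraic stacks, x a point of 𝒳 with image y, with residual gerbes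
𝒵_x and 𝒵_y. Suppose some morphism p from the spectrum of a field k to 𝒳, representing x, makes the
comparison map from Spec k ×_𝒳 Spec k to Spec k ×_𝒴 Spec k an isomorphism. Then the induced 𝒵_x →
𝒵_y is an isomorphism (an equivalence). -/
theorem result
    (S : Scheme.{u}) (𝒳 𝒴 : AlgSt.Cat S) (h𝒳 : AlgSt.IsAlgStack Scheme.fppfPrecoverage 𝒳) (h𝒴 : AlgSt.IsAlgStack Scheme.fppfPrecoverage 𝒴)
    (f : 𝒳 ⥤ᵇ 𝒴) (x : AlgSt.Points 𝒳)
    (Q : 𝒳.obj → Prop) (hQ : Gerb.IsResGerbe Scheme.fppfPrecoverage 𝒳 x Q)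
    (Q' : 𝒴.obj → Prop) (hQ' : Gerb.IsResGerbe Scheme.fppfPrecoverage 𝒴 (AlgSt.Points.map f x) Q')
    (k : Type u) [Field k] (a : Spec (CommRingCat.of k) ⟶ S)
    (p : FibCat.overCat (Over.mk a) ⥤ᵇ 𝒳)
    (hp : ∀ t : ↥(Over.mk a).left, AlgSt.Points.ofChart p t = x)
    (e : BasedFunctor.comp (FibCat.fpFst p p) (BasedFunctor.comp p f) ≅
      BasedFunctor.comp (FibCat.fpSnd p p) (BasedFunctor.comp p f))
    (he : ∀ c, e.hom.toNatTrans.app c = f.map c.obj.iso.hom)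
    (hiso : FibCat.IsEquivOver (FibCat.fpLift (FibCat.fpFst p p) (FibCat.fpSnd p p) e)) :
    ∃ g : AlgSt.fullSub 𝒳 Q ⥤ᵇ AlgSt.fullSub 𝒴 Q',
      Nonempty (BasedFunctor.comp g (AlgSt.subIncl 𝒴 Q') ≅ BasedFunctor.comp (AlgSt.subIncl 𝒳 Q) f) ∧
      FibCat.IsEquivOver g := by
    have hQ0 := hQ
    have hQ'0 := hQ'
    obtain ⟨hc, hA, h1, h2, ⟨z₀⟩, h4, hz⟩ := hQ
    obtain ⟨hc', hA', h1', h2', hn', h4', hz'⟩ := hQ'
    have hi : AlgSt.IsMono (AlgSt.subIncl 𝒳 Q) := GrothLib.AlgSt.isMono_subIncl h𝒳 hA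
    obtain ⟨q, ⟨κ⟩⟩ := GrothLib.AlgSt.exists_factor_fullSub_field h𝒳 Q hA hi p
      ⟨AlgSt.Points.ofChart (BasedFunctor.id _) (default : ↥(Spec (CommRingCat.of k))), z₀,
        (hp (default : ↥(Spec (CommRingCat.of k)))).trans (hz z₀).symm⟩
    let key := GrothLib.AlgSt.forall_mem_of_isResGerbe h𝒳 h𝒴 f x Q hQ0 Q' hQ'0
    let g := GrothLib.AlgSt.liftSub Q' (BasedFunctor.comp (AlgSt.subIncl 𝒳 Q) f) key
    have hF := GrothLib.AlgSt.exists_fppf_fieldChart hA h1 h2 ⟨z₀⟩ h4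
    obtain ⟨hfu, hfa⟩ := GrothLib.AlgSt.full_faithful_of_fpToFp hA hA' hF g q
      (GrothLib.AlgSt.isEquivOver_fpToFp_liftSub f Q Q' key q p κ e he hiso)
    haveI := hfu
    haveI := hfa
    have hg : AlgSt.IsMono g :=
      GrothLib.AlgSt.isMono_of_repByAlgSp1_full _ (GrothLib.AlgSt.repByAlgSp1_of_faithful hA hA' _)
    obtain ⟨k', hk', a', z, hzp, hzs, hzf⟩ := GrothLib.AlgSt.exists_fppf_fieldChart hA' h1' h2' hn' h4'
    haveI : Nonempty (AlgSt.Points (AlgSt.fullSub 𝒳 Q)) := ⟨z₀⟩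
    exact ⟨g, ⟨Iso.refl _⟩, GrothLib.AlgSt.isEquivOver_of_isMono_fieldChart hA hA' g hg z hzp hzs hzf⟩

end Groth.Agent.S16815
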