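import Groth.Statements.S16828
import Groth.Agent.Lib.AlgSt.DiagDMEtale
import Groth.Agent.Lib.AlgSp.LqfScheme
import Groth.Agent.Lib.AlgSt.SepComp
import Groth.Agent.Lib.AlgSp.FpqcAffine


set_option autoImplicit false
set_option backward.isDefEq.respectTransparency false
set_option backward.isDefEq.respectTransparency.types false
universe u
open AlgSt

namespace Groth.Agent.S16828

open CategoryTheory CategoryTheory.Limits AlgebraicGeometry
set_option backward.isDefEq.respectTransparency false
set_option backward.isDefEq.respectTransparency.types false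

open CategoryTheory AlgebraicGeometry in
/-- Let 𝒳 be a Deligne–Mumford stack over (Sch/S) for the etale topology whose diagonal 𝒳 → 𝒳
×_{(Sch/S)} 𝒳 is separated and quasi-compact (representable by algebraic spaces with these
properties). Then the diagonal is quasi-affine: representable by algebraic spaces with every base
change to a scheme a quasi-affine morphism. The source states this for the absolute diagonal; the
diagonal over S is used here. -/
theorem result {S : Scheme.{u}} (𝒳 : AlgSt.Cat S)
    (h𝒳 : AlgSt.IsDM Scheme.etalePrecoverage 𝒳)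
    (hsep : AlgSt.RepByAlgSpWith AlgSp.IsSeparatedMor (FibCat.diag (FibCat.toSelf 𝒳)))
    (hqc : AlgSt.RepByAlgSpWith AlgSp.IsQuasiCompactMor (FibCat.diag (FibCat.toSelf 𝒳))) :
    AlgSt.RepByAlgSpWith AlgSp.IsQuasiAffineMor (FibCat.diag (FibCat.toSelf 𝒳)) := by
  refine GrothLib.AlgSt.repByAlgSpWith_mono (P := AlgSp.LocP GrothLib.AlgSt.UnrP ⊓ (AlgSp.IsQuasiCompactMor ⊓ AlgSp.IsSeparatedMor))
    (fun X Y a hX hY ha => ?_) (GrothLib.AlgSt.repByAlgSpWith_inf GrothLib.AlgSt.isoInvariant_locP
      (GrothLib.AlgSt.repByAlgSpWith_unramified_diag_toSelf_jet h𝒳)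
      (GrothLib.AlgSt.repByAlgSpWith_inf GrothLib.AlgSt.isoInvariant_isQuasiCompactMor hqc hsep))
  obtain ⟨hu, hq, hs⟩ := ha
  have hqf : AlgSp.LocP (@LocallyQuasiFinite ⊓ @LocallyOfFiniteType) a :=
    GrothLib.AlgSp.locP_mono (fun _ _ c (hc : GrothLib.AlgSt.UnrP c) => by
      haveI : LocallyOfFiniteType c := hc.1
      haveI : FormallyUnramified c := hc.2
      exact ⟨GrothLib.AlgSp.locallyQuasiFinite_of_unramified c, inferInstance⟩) hu
  have hr := GrothLib.AlgSp.representable_of_lqf_separated hX hY hqf hs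
  have h1 := GrothLib.AlgSp.EtLocal.repWith_of_locP
    (GrothLib.AlgSp.EtLocal.inf GrothLib.AlgSp.EtLocal.lqf GrothLib.AlgSp.EtLocal.lft) hY hr hqf
  have h2 := GrothLib.AlgSp.repWith_quasiCompact_of_isQuasiCompactMor hr hq
  have h3 := (GrothLib.AlgSp.isSeparatedMor_iff_repWith hr).1 hs
  intro Z hZ g
  obtain ⟨W, fst, snd, sq⟩ := GrothLib.AlgSp.exists_isPullback_of_representable hr g
  haveI : LocallyQuasiFinite snd.left := (h1.2 _ _ _ sq).1
  haveI : LocallyOfFiniteType snd.left := (h1.2 _ _ _ sq).2
  haveI : QuasiCompact snd.left := h2.2 _ _ _ sq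
  haveI : IsSeparated snd.left := h3.2 _ _ _ sq
  haveI : IsAffine Z.left := hZ
  haveI : CompactSpace W.left := QuasiCompact.compactSpace_of_compactSpace snd.left
  haveI : IsAffine snd.left.normalization := isAffine_of_isAffineHom snd.left.fromNormalization
  exact ⟨W, snd, fst, sq, Scheme.IsQuasiAffine.of_isImmersion snd.left.toNormalization⟩

end Groth.Agent.S16828
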