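import Groth.Statements.S1683
import Groth.Agent.Lib.BlowUp.Universal

set_option autoImplicit false
universe u
open CategoryTheory CategoryTheory.Limits AlgebraicGeometry TopologicalSpace
open SDiv

namespace Groth.Agent.S1683

/-- Let 𝓘, 𝓙 be quasi-coherent ideal sheaves on X, b : X' ⟶ X a blowing-up along 𝓘 and b' : X'' ⟶ X' a
blowing-up along the inverse image ideal of 𝓙. Then b' ≫ b : X'' ⟶ X is a blowing-up of X along the
product ideal 𝓘𝓙. -/
theorem result {X X' X'' : Scheme.{u}} (𝓘 𝓙 : X.IdealSheafData) (b : X' ⟶ X) (hb : BlowUp.IsBlowUp b 𝓘)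
    (b' : X'' ⟶ X') (hb' : BlowUp.IsBlowUp b' (𝓙.comap b)) : BlowUp.IsBlowUp (b' ≫ b) (𝓘 * 𝓙) := by
  exact GrothLib.BlowUp.isBlowUp_comp_mul hb hb'

end Groth.Agent.S1683
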