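import Groth.Statements.S16833
import Groth.Agent.Lib.AlgSp.SourceLocal
import Groth.Agent.Lib.AlgSp.ThickGlobal
import Groth.Agent.Lib.AlgSp.AffineMor
-- import your own Groth.Agent.* helpers here

set_option autoImplicit false
universe u
open AlgSp

namespace Groth.Agent.S16833

open CategoryTheory AlgebraicGeometry in
/-- Let p : U → X and f : X → Y be morphisms of algebraic spaces over a scheme S with p etale and
surjective and f separated. If the composite U → Y is finite, then f is finite. -/
theorem result {S : Scheme.{u}}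
    {U X Y : AlgSp.Space S} (p : U ⟶ X) (f : X ⟶ Y)
    (hp : AlgSp.IsEtaleMor p.hom) (hps : AlgSp.IsSurjectiveMor p.hom)
    (hf : AlgSp.IsSeparatedMor f.hom) (h : AlgSp.IsFiniteMor (p ≫ f).hom) :
    AlgSp.IsFiniteMor f.hom := by
  have hfin := GrothLib.AlgSp.isFiniteMor_iff.1 h
  have hp' := GrothLib.AlgSp.isProperMor_of_finite Y.property hfin
  have huc : AlgSp.IsUnivClosedMor f.hom := GrothLib.AlgSp.isUnivClosedMor_of_surjective_comp hps hp'.2.2
  have hpe := GrothLib.AlgSp.EtLocal.locP_of_repWith GrothLib.AlgSp.EtLocal.lft Y.property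
    (GrothLib.AlgSp.repWith_mono hfin fun A B g (hg : IsFinite g) => show LocallyOfFiniteType g from inferInstance)
  have hlq := GrothLib.AlgSp.EtLocal.locP_of_repWith GrothLib.AlgSp.EtLocal.lqf Y.property
    (GrothLib.AlgSp.repWith_mono hfin fun A B g (hg : IsFinite g) => show LocallyQuasiFinite g from inferInstance)
  have he := GrothLib.AlgSp.locP_of_isEtaleMor X.property hp
  have hft : AlgSp.LocP @LocallyOfFiniteType f.hom :=
    GrothLib.AlgSp.locP_of_surjective_source GrothLib.AlgSp.EtLocal.etale (fun _ _ _ hc => hc)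
      GrothLib.AlgSp.EtLocal.lft (GrothLib.AlgSp.srcDescends_etale GrothLib.AlgSp.etaleSourceDescends_lft)
      U.property X.property Y.property he hps hpe
  have hfq : AlgSp.LocP @LocallyQuasiFinite f.hom :=
    GrothLib.AlgSp.locP_of_surjective_source GrothLib.AlgSp.EtLocal.etale (fun _ _ _ hc => hc)
      GrothLib.AlgSp.EtLocal.lqf (GrothLib.AlgSp.srcDescends_etale GrothLib.AlgSp.etaleSourceDescends_lqf)
      U.property X.property Y.property he hps hlq
  exact GrothLib.AlgSp.isFiniteMor_iff.2 (GrothLib.AlgSp.repWith_isFinite_of_proper_lqf X.property Y.property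
    ⟨hf, ⟨hft, GrothLib.AlgSp.isQuasiCompactMor_of_isUnivClosedMor X.property Y.property huc⟩, huc⟩
    fun A B a b c ha hb w => ⟨hfq a b c ha hb w, hft a b c ha hb w⟩)

end Groth.Agent.S16833
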