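import Groth.Statements.S16834
import Groth.Agent.Lib.AlgSp.FpqcAffine
import Groth.Agent.Lib.AlgSp.FieldBase
import Groth.Agent.Lib.EtSite.FpqcDescent
-- import your own Groth.Agent.* helpers here

set_option autoImplicit false
universe u
open CategoryTheory CategoryTheory.Limits AlgebraicGeometry
open AlgSp GrothLib.AlgSp
set_option backward.isDefEq.respectTransparency false

namespace Groth.Agent.S16834

/-- Let k be a field with algebraic closure k̄ and X an algebraic space over Spec k which is
quasi-separated over k and whose structure morphism is locally of finite type. If the base change X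
×_k Spec k̄ (product with h_{Spec k̄} in fppf sheaves over Spec k) is isomorphic to h_T for an
affine scheme T over k, then X is isomorphic to h_U for an affine scheme U over k. -/
theorem result (k : Type u) [Field k]
    (X : AlgSp.Space (Spec (CommRingCat.of k))) (hqs : AlgSp.IsQuasiSeparatedSp X.obj)
    (hlft : ∀ q : X.obj ⟶ (AlgSp.yon (Spec (CommRingCat.of k))).obj (Over.mk (𝟙 _)),
      AlgSp.LocP @LocallyOfFiniteType q)
    (kbar : Type u) [Field kbar] [Algebra k kbar] [IsAlgClosure k kbar]
    (T : Over (Spec (CommRingCat.of k))) (hT : IsAffine T.left)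
    (e : X.obj ⨯ (AlgSp.yon (Spec (CommRingCat.of k))).obj
        (Over.mk (Spec.map (CommRingCat.ofHom (algebraMap k kbar)))) ≅
      (AlgSp.yon (Spec (CommRingCat.of k))).obj T) :
    ∃ (U : Over (Spec (CommRingCat.of k))), IsAffine U.left ∧
      Nonempty (X.obj ≅ (AlgSp.yon (Spec (CommRingCat.of k))).obj U) := by
  let B : Scheme.{u} := Spec (CommRingCat.of k)
  let c : Over.mk (Spec.map (CommRingCat.ofHom (algebraMap k kbar))) ⟶ Over.mk (𝟙 B) :=
    Over.homMk (Spec.map (CommRingCat.ofHom (algebraMap k kbar))) (Category.comp_id _)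
  let F' := (yon B).obj (Over.mk (Spec.map (CommRingCat.ofHom (algebraMap k kbar))))
  have hterm : IsTerminal ((yon B).obj (Over.mk (𝟙 B))) := IsTerminal.isTerminalObj (yon B) _ Over.mkIdTerminal
  have sqX : IsPullback (prod.fst : X.obj ⨯ F' ⟶ X.obj) prod.snd (hterm.from X.obj) ((yon B).map c) := by
    rw [hterm.hom_ext ((yon B).map c) (hterm.from F')]
    exact IsPullback.of_is_product' (prodIsProd X.obj F') hterm
  haveI : Flat c.left := flat_to_field (Spec.map (CommRingCat.ofHom (algebraMap k kbar)))
  haveI : Subsingleton ↥(Over.mk (𝟙 B)).left := inferInstanceAs (Subsingleton (PrimeSpectrum k))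
  haveI : Nonempty ↥(Over.mk (Spec.map (CommRingCat.ofHom (algebraMap k kbar)))).left :=
    inferInstanceAs (Nonempty (PrimeSpectrum kbar))
  haveI : Surjective c.left := ⟨fun x => ⟨Classical.arbitrary _, Subsingleton.elim _ _⟩⟩
  obtain ⟨l, hl⟩ := (yon B).map_surjective (e.inv ≫ prod.snd)
  have hlA : RepWith @IsAffineHom ((yon B).map l) := by
    haveI : IsAffine (Over.mk (Spec.map (CommRingCat.ofHom (algebraMap k kbar)))).left :=
      inferInstanceAs (IsAffine (Spec (CommRingCat.of kbar)))
    exact (repWith_yon_map_iff _ _).2 (inferInstance : IsAffineHom l.left)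
  have hsnd : RepWith @IsAffineHom (prod.snd : X.obj ⨯ F' ⟶ F') := by
    have e1 : (prod.snd : X.obj ⨯ F' ⟶ F') = e.hom ≫ (yon B).map l := by rw [hl, e.hom_inv_id_assoc]
    rw [e1]
    exact repWith_comp (repWith_iso _) hlA
  have hloc : FpqcLoc (RepWith @IsAffineHom) (hterm.from X.obj) := by
    intro Z hZ m
    obtain ⟨m, rfl⟩ := (yon B).map_surjective m
    let W₀ := pullback c m
    have sq₀ := isPullback_left (IsPullback.of_hasPullback c m)
    haveI : Flat (pullback.snd c m).left := MorphismProperty.of_isPullback sq₀ ‹Flat c.left›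
    haveI : Surjective (pullback.snd c m).left := MorphismProperty.of_isPullback sq₀ ‹Surjective c.left›
    haveI : IsAffine W₀.left := by
      haveI : IsAffineHom c.left := inferInstanceAs (IsAffineHom (Spec.map (CommRingCat.ofHom (algebraMap k kbar))))
      haveI : IsAffineHom (pullback.snd c m).left := MorphismProperty.of_isPullback sq₀ ‹IsAffineHom c.left›
      exact isAffine_of_isAffineHom (pullback.snd c m).left
    refine ⟨1, fun _ => W₀, fun _ => pullback.snd c m, fun _ => ‹_›, fun _ => ‹_›,
      fun z => ⟨0, (pullback.snd c m).left.surjective z⟩, fun _ P p₁ p₂ sqP => ?_⟩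
    rw [← Functor.map_comp, ← pullback.condition, Functor.map_comp] at sqP
    have hw : p₁ ≫ hterm.from X.obj = (p₂ ≫ (yon B).map (pullback.fst c m)) ≫ (yon B).map c := by
      rw [sqP.w, Category.assoc]
    refine repWith_of_isPullback (IsPullback.of_right (h₁₂ := prod.fst) (h₁₁ := sqX.lift p₁ _ hw) ?_ (sqX.lift_snd p₁ _ hw) sqX) hsnd
    rw [sqX.lift_fst]
    exact sqP
  haveI : MorphismProperty.DescendsAlong @IsAffineHom (@Surjective ⊓ @Flat ⊓ @QuasiCompact) :=
    GrothLib.EtSite.descendsAlong_isAffineHom
  have hA := repWith_of_fpqcLoc_affine (fun _ _ _ h => h) X.property (IsAlgSpace.yon_obj _) hloc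
  obtain ⟨U, fst, snd, sqF⟩ := exists_isPullback_of_representable hA.1 (𝟙 ((yon B).obj (Over.mk (𝟙 B))))
  haveI : IsIso fst := sqF.isIso_fst_of_isIso
  haveI : IsAffineHom snd.left := hA.2 _ _ _ sqF
  haveI : IsAffine (Over.mk (𝟙 B)).left := inferInstanceAs (IsAffine (Spec (CommRingCat.of k)))
  exact ⟨U, isAffine_of_isAffineHom snd.left, ⟨(asIso fst).symm⟩⟩

end Groth.Agent.S16834
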