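import Groth.Statements.S16835
import Groth.Agent.Lib.InvEtale1.Final
-- import your own Groth.Agent.* helpers here

set_option autoImplicit false
universe u
open InvTh

namespace Groth.Agent.S16835

/-- Let R be a Noetherian commutative ring, A and B commutative R-algebras of finite type on which a
finite group G acts by R-algebra automorphisms, and B → A a G-equivariant homomorphism of
R-algebras. Assume that at every maximal ideal x of A, A is etale over B at x and the inertia
subgroup of x in G equals the inertia subgroup of its contraction to B. Give A^G the B^G-algebra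
structure induced by B → A (compatible with B^G → B → A through A^G → A). Then A^G is etale over
B^G. The source also asserts that the square formed by the quotient stacks and the invariant
quotients is cartesian; that clause is not stated. -/
theorem result (R : Type u)
    [CommRing R] [IsNoetherianRing R] (A B : Type u) [CommRing A] [CommRing B] [Algebra R A] [Algebra R B]
    [Algebra.FiniteType R A] [Algebra.FiniteType R B]
    (G : Type u) [Group G] [Finite G] [MulSemiringAction G A] [MulSemiringAction G B]
    [SMulCommClass G R A] [SMulCommClass G R B]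
    [Algebra B A] [IsScalarTower R B A]
    (hGeq : ∀ (g : G) (b : B), algebraMap B A (g • b) = g • algebraMap B A b)
    [Algebra (FixedPoints.subalgebra R B G) (FixedPoints.subalgebra R A G)]
    [IsScalarTower (FixedPoints.subalgebra R B G) (FixedPoints.subalgebra R A G) A]
    (h : ∀ (x : Ideal A) (_ : x.IsMaximal),
      Algebra.IsEtaleAt B x ∧ x.inertia G = (x.comap (algebraMap B A)).inertia G) :
    Algebra.Etale (FixedPoints.subalgebra R B G) (FixedPoints.subalgebra R A G) := by
  let A₀ := FixedPoints.subalgebra R A G
  let B₀ := FixedPoints.subalgebra R B G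
  obtain ⟨hfin, hftA⟩ := GrothLib.InvEtale1.finite_invariants R A G
  obtain ⟨-, hftB⟩ := GrothLib.InvEtale1.finite_invariants R B G
  haveI := hfin
  haveI := hftA
  haveI := hftB
  haveI : IsScalarTower R B₀ A₀ := IsScalarTower.of_algebraMap_eq fun r => Subtype.ext
    ((IsScalarTower.algebraMap_apply R B A r).trans
      (IsScalarTower.algebraMap_apply B₀ A₀ A (algebraMap R B₀ r)))
  haveI : Algebra.FiniteType B₀ A₀ := Algebra.FiniteType.of_restrictScalars_finiteType R B₀ A₀
  haveI : IsNoetherianRing B₀ := Algebra.FiniteType.isNoetherianRing R B₀
  haveI : Algebra.FinitePresentation B₀ A₀ := Algebra.FinitePresentation.of_finiteType.1 inferInstance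
  rw [← Algebra.etaleLocus_eq_univ_iff_etale, Set.eq_univ_iff_forall]
  intro p
  obtain ⟨w, hw, hpw⟩ := Ideal.exists_le_maximal p.asIdeal p.isPrime.ne_top
  haveI : Algebra.IsIntegral A₀ A := Algebra.IsIntegral.of_finite A₀ A
  obtain ⟨x, hx, hxw⟩ := Ideal.exists_ideal_over_maximal_of_isIntegral (S := A) w
    (by rw [(RingHom.injective_iff_ker_eq_bot _).1 Subtype.val_injective]; exact bot_le)
  subst hxw
  haveI := hx
  have hmem : (⟨x.comap (algebraMap A₀ A), inferInstance⟩ : PrimeSpectrum A₀) ∈ Algebra.etaleLocus B₀ A₀ :=
    GrothLib.InvEtale1.main R A B G hGeq x (h x hx).1 (h x hx).2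
  exact Algebra.isOpen_etaleLocus.stableUnderGeneralization
    ((PrimeSpectrum.le_iff_specializes p _).1 hpw) hmem

end Groth.Agent.S16835
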