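import Groth.Statements.S16836
-- import your own Groth.Agent.* helpers here
import Groth.Agent.Lib.TateThm.LinAlg

set_option autoImplicit false
universe u v
open scoped Classical
open AbVar

namespace Groth.Agent.S16836

open Polynomial UniqueFactorizationMonoid in
/-- Let K ⊆ L be a field extension and f₁, f₂ non-zero polynomials in K[t]. For a field F and
polynomials g₁, g₂ over F put r_F(g₁, g₂) = Σ_P mult_P(g₁) · mult_P(g₂) · deg P, the sum running
over the monic irreducible polynomials P in F[t] (mult_P the multiplicity of P as an irreducible
factor). Assume K is perfect. Then r_K(f₁, f₂) = r_L(f₁, f₂): the number does not depend on the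
field over which the factorisations are taken. (Perfectness of K cannot be dropped: for K = F_p(s),
L = K(s^{1/p}) and f₁ = f₂ = t^p − s the number is p over K and p² over L, since the irreducible t^p
− s becomes a p-th power over L; the published statement has no restriction on K, and its proof
requires the relevant K[t]-modules to remain semisimple after base change, which holds when every
irreducible factor stays squarefree over L, in particular for K perfect.) -/
theorem result (K : Type u) (L : Type v) [Field K] [PerfectField K] [Field L] [Algebra K L]
    (f₁ f₂ : K[X]) (h₁ : f₁ ≠ 0) (h₂ : f₂ ≠ 0) :
    ∑ P ∈ (normalizedFactors (f₁.map (algebraMap K L))).toFinset,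
        (normalizedFactors (f₁.map (algebraMap K L))).count P *
          (normalizedFactors (f₂.map (algebraMap K L))).count P * P.natDegree =
      ∑ P ∈ (normalizedFactors f₁).toFinset,
        (normalizedFactors f₁).count P * (normalizedFactors f₂).count P * P.natDegree := by
  convert GrothLib.TateThm.sum_count_map (L := L) f₁ f₂ h₁ h₂ using 3

end Groth.Agent.S16836
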