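import Groth.Statements.S16839
-- import your own Groth.Agent.* helpers here
import Groth.Agent.Lib.TateThm.RootPairs

set_option autoImplicit false
universe u
open CategoryTheory MonoidalCategory CartesianMonoidalCategory MonObj GrpObj AlgebraicGeometry
open AbVar

namespace Groth.Agent.S16839

/-- Let k be a finite field with q elements and algebraic closure Ω, ℓ a prime invertible in k, and X an
abelian variety over k (a proper, geometrically integral commutative group scheme over k) of
dimension g, with geometric Frobenius π_X (the endomorphism that is the identity on points and the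
q-th power map on sections); assume, as is the case, that the ℓ-adic Tate module of Ω-points T_ℓ X
is free of finite rank over ℤ_ℓ, and let f_X ∈ ℤ[t] be the polynomial mapping to the characteristic
polynomial of T_ℓ(π_X) (the characteristic polynomial of Frobenius). Then √q and −√q, if they occur
as roots of f_X, occur with even multiplicity: the root multiplicities of f_X (mapped to ℝ[t]) at √q
and at −√q are even. (The other assertions of (ii) — that q/α is a root whenever α is, with the same
multiplicity — are not restated.) -/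
theorem result (k Ω : Type u) [Field k] [Finite k] [Field Ω] [Algebra k Ω] [IsAlgClosure k Ω]
    (l : ℕ) [Fact l.Prime] (hl : (l : k) ≠ 0) (X : Over (Spec (CommRingCat.of k)))
    [GrpObj X] [IsCommMonObj X] [IsProper X.hom] [GeometricallyIntegral X.hom]
    (πX : X ⟶ X) [IsMonHom πX] (hπb : πX.left.base = 𝟙 _)
    (hπle : ∀ U : X.left.Opens, U ≤ πX.left ⁻¹ᵁ U)
    (hπapp : ∀ (U : X.left.Opens) (s : Γ(X.left, U)), (πX.left.appLE U U (hπle U)).hom s = s ^ Nat.card k)
    [Module.Free ℤ_[l] (AbDual.TateMod X l (SGA7.pt Ω))] [Module.Finite ℤ_[l] (AbDual.TateMod X l (SGA7.pt Ω))]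
    (P : Polynomial ℤ) (hP : (AbDual.tateMapₗ (l := l) (T := SGA7.pt Ω) πX).charpoly = P.map (Int.castRingHom ℤ_[l])) :
    Even ((P.map (Int.castRingHom ℝ)).rootMultiplicity (Real.sqrt (Nat.card k))) ∧
      Even ((P.map (Int.castRingHom ℝ)).rootMultiplicity (-Real.sqrt (Nat.card k))) := by
  classical
  obtain ⟨g, hg⟩ := GrothLib.AbTors.exists_dim X
  obtain ⟨-, -, ha, hb, -⟩ := GrothLib.TateThm.exists_root_pairs (Ω := Ω) hl hg πX hπb hπle hπapp P hP
  rw [Polynomial.count_roots] at ha hb
  have h : ∀ x : ℝ, (P.map (Int.castRingHom ℝ)).rootMultiplicity x = (P.map (Int.castRingHom ℂ)).rootMultiplicity (x : ℂ) := fun x => by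
    rw [Polynomial.eq_rootMultiplicity_map (f := algebraMap ℝ ℂ) (algebraMap ℝ ℂ).injective, Polynomial.map_map,
      Subsingleton.elim ((algebraMap ℝ ℂ).comp (Int.castRingHom ℝ)) (Int.castRingHom ℂ), Complex.coe_algebraMap]
  rw [h, h, Complex.ofReal_neg]
  exact ⟨ha, hb⟩

end Groth.Agent.S16839
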