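import Groth.Statements.S1684
import Groth.Agent.Lib.BlowUp.UFD
import Groth.Agent.Lib.BlowUp.Universal

set_option autoImplicit false
universe u
open CategoryTheory CategoryTheory.Limits AlgebraicGeometry TopologicalSpace
open SDiv

namespace Groth.Agent.S1684

/-- Let X be a locally Noetherian scheme and 𝓘 a quasi-coherent ideal sheaf whose closed subscheme D is
integral, of codimension 1 in X (the local ring of X at the generic point of D has dimension 1), and
such that the local ring of X at every point of D is a unique factorisation domain. Then 𝓘 is the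
ideal sheaf of an effective Cartier divisor. -/
theorem result (X : Scheme.{u}) [IsLocallyNoetherian X] (𝓘 : X.IdealSheafData)
    [IsIntegral 𝓘.subscheme]
    (hcodim : ringKrullDim (X.presheaf.stalk (𝓘.subschemeι (genericPoint ↥𝓘.subscheme))) = 1)
    (hufd : ∀ x : ↥X, x ∈ 𝓘.support → IsDomain (X.presheaf.stalk x) ∧ UniqueFactorizationMonoid (X.presheaf.stalk x)) :
    BlowUp.IsEffCartierIdeal 𝓘 := by
  refine GrothLib.BlowUp.isEffCartierIdeal_of_forall_exists_open fun x => ?_
  by_cases hx : x ∈ 𝓘.support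
  · obtain ⟨hd, hu⟩ := hufd x hx
    obtain ⟨U, hxU, hU⟩ := GrothLib.BlowUp.exists_cartierOn_of_ufd 𝓘 (fun z hz =>
      by
        rw [← (GrothLib.WeakAss.isWeakAssPoint_structure_iff z).mp hz _ (genericPoint_specializes z)]
        exact hcodim) x
    refine ⟨U.1, hxU, fun y => ?_⟩
    obtain ⟨W, hyW, -⟩ := GrothLib.BlowUp.exists_affine_mem_le (W := (⊤ : U.1.toScheme.Opens)) (x := y) trivial
    have hWU : U.1.ι ''ᵁ W.1 ≤ U.1 := (U.1.ι.image_le_opensRange W.1).trans U.1.opensRange_ι.le
    obtain ⟨f, hf, e⟩ := hU.mono (V := ⟨_, W.2.image_of_isOpenImmersion U.1.ι⟩) hWU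
    refine ⟨W, hyW, (U.1.ι.appIso W.1).hom f, GrothLib.BlowUp.mem_nonZeroDivisors_of_flat _
      (RingHom.Flat.of_bijective (ConcreteCategory.bijective_of_isIso (U.1.ι.appIso W.1).hom)) hf, ?_⟩
    rw [GrothLib.BlowUp.ideal_comap_eq_map 𝓘 U.1.ι ⟨_, W.2.image_of_isOpenImmersion U.1.ι⟩ W
      (U.1.ι.preimage_image_eq W.1).ge, e, Ideal.map_span, Set.image_singleton, Scheme.Hom.appIso_hom']
  · exact ⟨𝓘.support.compl, hx, GrothLib.BlowUp.isEffCartierIdeal_comap_ι_compl_support 𝓘⟩

end Groth.Agent.S1684
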