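import Groth.Statements.S16845
-- import your own Groth.Agent.* helpers here
import Groth.Agent.Lib.TateThm.Structure

set_option autoImplicit false
universe u
open CategoryTheory MonoidalCategory CartesianMonoidalCategory MonObj GrpObj AlgebraicGeometry
open AbVar

namespace Groth.Agent.S16845

/-- (a) ⇔ (b) ⇔ (c): let k be a finite field with q elements and algebraic closure Ω, ℓ a prime
invertible in k, and X an abelian variety over k (a proper, geometrically integral commutative group
scheme over k) of dimension g, with geometric Frobenius π_X (the endomorphism that is the identity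
on points and the q-th power map on sections); assume, as is the case, that the ℓ-adic Tate module
of Ω-points T_ℓ X is free of finite rank over ℤ_ℓ, and let f_X ∈ ℤ[t] be the polynomial mapping to
the characteristic polynomial of T_ℓ(π_X) (the characteristic polynomial of Frobenius). Then dim_ℚ
(ℚ ⊗ End_k(X)) = (2g)² if and only if ℚ[π_X] = ℚ, i.e. π_X ∈ End_k(X) is multiplication by some
rational integer n; and π_X = [n] for some integer n if and only if f_X = (t − a)^{2g} for some
integer a. (The remaining equivalent conditions, involving the quaternion algebra ramified at p and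
∞ and supersingular elliptic curves, are not restated.) -/
theorem result (k Ω : Type u) [Field k] [Finite k] [Field Ω] [Algebra k Ω] [IsAlgClosure k Ω]
    (l : ℕ) [Fact l.Prime] (hl : (l : k) ≠ 0) (X : Over (Spec (CommRingCat.of k)))
    [GrpObj X] [IsCommMonObj X] [IsProper X.hom] [GeometricallyIntegral X.hom]
    (g : ℕ) (hg : topologicalKrullDim X.left = g)
    (πX : X ⟶ X) [IsMonHom πX] (hπb : πX.left.base = 𝟙 _)
    (hπle : ∀ U : X.left.Opens, U ≤ πX.left ⁻¹ᵁ U)
    (hπapp : ∀ (U : X.left.Opens) (s : Γ(X.left, U)), (πX.left.appLE U U (hπle U)).hom s = s ^ Nat.card k)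
    [Module.Free ℤ_[l] (AbDual.TateMod X l (SGA7.pt Ω))] [Module.Finite ℤ_[l] (AbDual.TateMod X l (SGA7.pt Ω))]
    (P : Polynomial ℤ) (hP : (AbDual.tateMapₗ (l := l) (T := SGA7.pt Ω) πX).charpoly = P.map (Int.castRingHom ℤ_[l])) :
    (Module.finrank ℚ (EndAV.End0 X) = (2 * g) ^ 2 ↔ ∃ n : ℤ, EndAV.End.of πX = (n : EndAV.End X)) ∧
      ((∃ n : ℤ, EndAV.End.of πX = (n : EndAV.End X)) ↔
        ∃ a : ℤ, P = (Polynomial.X - Polynomial.C a) ^ (2 * g)) := by
  exact GrothLib.TateThm.frob_intCast_iff (Ω := Ω) hl hg πX hπle hπapp P hP

end Groth.Agent.S16845
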