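import Groth.Statements.S16847
-- import your own Groth.Agent.* helpers here
import Groth.Agent.Lib.Poincare.SimpleFrob

set_option autoImplicit false
universe u
open CategoryTheory MonoidalCategory CartesianMonoidalCategory MonObj GrpObj AlgebraicGeometry
open AbVar

namespace Groth.Agent.S16847

/-- Let k be a finite field with q elements and algebraic closure Ω, ℓ a prime invertible in k, and X an
abelian variety over k (a proper, geometrically integral commutative group scheme over k) of
dimension g, with geometric Frobenius π_X (the endomorphism that is the identity on points and the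
q-th power map on sections); assume, as is the case, that the ℓ-adic Tate module of Ω-points T_ℓ X
is free of finite rank over ℤ_ℓ, and let f_X ∈ ℤ[t] be the polynomial mapping to the characteristic
polynomial of T_ℓ(π_X) (the characteristic polynomial of Frobenius). Then ℚ[π_X] ⊆ End⁰(X) = ℚ ⊗
End_k(X) is a field (equivalently, X is elementary, i.e. isogenous to a power of a simple abelian
variety — that reformulation is not restated) if and only if f_X = h^n for some irreducible h ∈ ℚ[t]
and some n ≥ 1. -/
theorem result (k Ω : Type u) [Field k] [Finite k] [Field Ω] [Algebra k Ω] [IsAlgClosure k Ω]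
    (l : ℕ) [Fact l.Prime] (hl : (l : k) ≠ 0) (X : Over (Spec (CommRingCat.of k)))
    [GrpObj X] [IsCommMonObj X] [IsProper X.hom] [GeometricallyIntegral X.hom]
    (πX : X ⟶ X) [IsMonHom πX] (hπb : πX.left.base = 𝟙 _)
    (hπle : ∀ U : X.left.Opens, U ≤ πX.left ⁻¹ᵁ U)
    (hπapp : ∀ (U : X.left.Opens) (s : Γ(X.left, U)), (πX.left.appLE U U (hπle U)).hom s = s ^ Nat.card k)
    [Module.Free ℤ_[l] (AbDual.TateMod X l (SGA7.pt Ω))] [Module.Finite ℤ_[l] (AbDual.TateMod X l (SGA7.pt Ω))]
    (P : Polynomial ℤ) (hP : (AbDual.tateMapₗ (l := l) (T := SGA7.pt Ω) πX).charpoly = P.map (Int.castRingHom ℤ_[l])) :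
    IsField (EndAV.QAdj (EndAV.End.of πX)) ↔
      ∃ (h : Polynomial ℚ) (n : ℕ), Irreducible h ∧ 0 < n ∧ P.map (Int.castRingHom ℚ) = h ^ n := by
  haveI : IsAlgClosed Ω := IsAlgClosure.isAlgClosed k
  let σ := Spec.map (CommRingCat.ofHom (algebraMap k Ω))
  haveI : IsIntegral X.left := GeometricallyIntegral.isIntegral_of_subsingleton X.hom
  haveI : Module.Finite ℤ (EndAV.End X) := GrothLib.HomFG.finite_hom (A := X) (B := X)
  obtain ⟨g, hg⟩ := GrothLib.AbTors.exists_dim X
  set φ := EndAV.End.of πX
  have hint : IsIntegral ℚ (EndAV.toEnd0 φ) :=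
    ((Algebra.IsIntegral.isIntegral (R := ℤ) φ).map EndAV.toEnd0).tower_top
  rw [GrothLib.Poincare.isField_adjoin_iff hint]
  constructor
  · intro hirr
    obtain ⟨P', hP', hpow⟩ := GrothLib.DegPoly.charpoly_eq_minpoly_pow σ l hl hg φ hirr
    have hPP : P = P' := Polynomial.map_injective _ (RingHom.injective_int (Int.castRingHom ℤ_[l])) (hP.symm.trans hP')
    have hg0 : g ≠ 0 := by
      rintro rfl
      haveI := GrothLib.Poincare.subsingleton_end0_of_dim_zero (A := X) σ l hl (by rw [hg]; rfl)
      exact hirr.not_isUnit (by rw [minpoly.subsingleton ℚ]; exact isUnit_one)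
    haveI := GrothLib.Poincare.nontrivial_end0_of_dim_ne_zero (A := X) σ l hl hg hg0
    refine ⟨_, _, hirr, Nat.pos_of_ne_zero fun h0 => ?_, hPP ▸ hpow⟩
    rw [h0, pow_zero] at hpow
    have hd := congrArg Polynomial.natDegree hpow
    rw [Polynomial.natDegree_map_eq_of_injective (RingHom.injective_int _), Polynomial.natDegree_one, ← hPP] at hd
    have hrk := LinearMap.charpoly_natDegree (AbDual.tateMapₗ (l := l) (T := SGA7.pt Ω) πX)
    rw [hP, Polynomial.natDegree_map_eq_of_injective (RingHom.injective_int _), hd,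
      GrothLib.AbTors.finrank_eq X σ l hl hg] at hrk
    omega
  · rintro ⟨h, n, hh, hn, hPh⟩
    have hdvd := GrothLib.Poincare.minpoly_dvd_charpoly σ l hl φ hP
    rw [hPh] at hdvd
    obtain ⟨j, -, hj⟩ := (dvd_prime_pow hh.prime n).1 hdvd
    obtain ⟨G, hsq, hG⟩ := GrothLib.Poincare.exists_squarefree_aeval_frob X πX hπle hπapp
    have hμsq : Squarefree (minpoly ℚ (EndAV.toEnd0 φ)) := hsq.squarefree_of_dvd (minpoly.dvd ℚ _ (by
      rw [show Int.castRingHom ℚ = algebraMap ℤ ℚ from rfl, Polynomial.aeval_map_algebraMap,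
        Polynomial.aeval_algHom_apply, hG, map_zero]))
    have hj1 : j = 1 := by
      have hne : j ≠ 0 := fun h0 => by
        rw [h0, pow_zero] at hj
        have hd := congrArg Polynomial.natDegree hPh
        rw [Polynomial.natDegree_map_eq_of_injective (RingHom.injective_int _), Polynomial.natDegree_pow] at hd
        have hrk := LinearMap.charpoly_natDegree (AbDual.tateMapₗ (l := l) (T := SGA7.pt Ω) πX)
        rw [hP, Polynomial.natDegree_map_eq_of_injective (RingHom.injective_int _),
          GrothLib.AbTors.finrank_eq X σ l hl hg, hd] at hrk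
        have := hh.natDegree_pos
        have hg0 : g ≠ 0 := by
          rintro rfl
          rcases Nat.mul_eq_zero.1 hrk with h | h <;> omega
        haveI := GrothLib.Poincare.nontrivial_end0_of_dim_ne_zero (A := X) σ l hl hg hg0
        exact minpoly.not_isUnit ℚ _ (associated_one_iff_isUnit.1 hj)
      have hd1 : h ^ j ∣ minpoly ℚ (EndAV.toEnd0 φ) := hj.symm.dvd
      by_contra hne1
      refine hh.not_isUnit (hμsq h (dvd_trans ?_ hd1))
      rw [← pow_two]
      exact pow_dvd_pow h (by omega)
    rw [hj1, pow_one] at hj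
    exact hj.symm.irreducible hh

end Groth.Agent.S16847
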