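import Groth.Statements.S16851
-- import your own Groth.Agent.* helpers here
import Groth.Agent.Lib.TateThm.Core

set_option autoImplicit false
universe u
open CategoryTheory MonoidalCategory CartesianMonoidalCategory MonObj GrpObj AlgebraicGeometry
open scoped TensorProduct
open AbVar

namespace Groth.Agent.S16851

/-- Let k be a field with algebraic closure Ω, ℓ a prime invertible in k, and X an abelian variety over
k (a proper, geometrically integral commutative group scheme over k) satisfying the finiteness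
condition Fin(X/k, ℓ): up to isomorphism of k-schemes only finitely many abelian varieties Y over k
admit an isogeny X → Y of ℓ-power degree (rendered by homomorphisms u : X → Y, v : Y → X with v ∘ u
= [ℓ^m], u ∘ v = [ℓ^m]). Let T = T_ℓ X be the Tate module of Ω-points, assumed (as is the case) free
of finite rank over ℤ_ℓ, V = ℚ_ℓ ⊗ T, and ρ(τ) the componentwise Galois action of τ ∈ Aut_k(Ω) on T.
Then for every ℚ_ℓ-subspace W ⊆ V stable under all ρ(τ) there is an element u of ℚ_ℓ ⊗ End_k(X) with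
W = u · V: W is the range of some ℚ_ℓ-linear combination of the endomorphisms V_ℓ(f) = ℚ_ℓ ⊗ T_ℓ(f),
f an endomorphism of X over k. -/
theorem result (k Ω : Type u) [Field k] [Field Ω] [Algebra k Ω] [IsAlgClosure k Ω]
    (l : ℕ) [Fact l.Prime] (hl : (l : k) ≠ 0)
    (X : Over (Spec (CommRingCat.of k)))
    [GrpObj X] [IsCommMonObj X] [IsProper X.hom] [GeometricallyIntegral X.hom]
    (hFin : (∃ (J : Type u) (_ : Finite J) (F : J → Over (Spec (CommRingCat.of k))),
        ∀ (Y : Over (Spec (CommRingCat.of k))) [GrpObj Y] [IsCommMonObj Y] [IsProper Y.hom] [GeometricallyIntegral Y.hom]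
          (u : X ⟶ Y) [IsMonHom u] (v : Y ⟶ X) [IsMonHom v] (m : ℕ),
          u ≫ v = (𝟙 X) ^ (l ^ m) → v ≫ u = (𝟙 Y) ^ (l ^ m) → ∃ i, Nonempty (Y ≅ F i)))
    (ρ : (Ω ≃ₐ[k] Ω) → Module.End ℤ_[l] (AbDual.TateMod X l (SGA7.pt Ω)))
    (hρ : ∀ (τ : Ω ≃ₐ[k] Ω) (z : AbDual.TateMod X l (SGA7.pt Ω)) (m : ℕ),
      (AbDual.TateMod.component X l (SGA7.pt Ω) m (ρ τ z)).toMul =
        SGA7.galAct τ (AbDual.TateMod.component X l (SGA7.pt Ω) m z).toMul)
    [Module.Free ℤ_[l] (AbDual.TateMod X l (SGA7.pt Ω))] [Module.Finite ℤ_[l] (AbDual.TateMod X l (SGA7.pt Ω))]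
    (W : Submodule ℚ_[l] (ℚ_[l] ⊗[ℤ_[l]] AbDual.TateMod X l (SGA7.pt Ω)))
    (hW : ∀ τ : Ω ≃ₐ[k] Ω, W.map ((ρ τ).baseChange ℚ_[l]) ≤ W) :
    ∃ u ∈ Submodule.span ℚ_[l] {ψ : Module.End ℚ_[l] (ℚ_[l] ⊗[ℤ_[l]] AbDual.TateMod X l (SGA7.pt Ω)) |
          ∃ (f : X ⟶ X) (_ : IsMonHom f), ψ = (AbDual.tateMapₗ (l := l) (T := SGA7.pt Ω) f).baseChange ℚ_[l]},
      LinearMap.range u = W := by
  classical
  haveI : IsAlgClosed Ω := IsAlgClosure.isAlgClosed k
  have hn : ∀ n : ℕ, ((l ^ n : ℕ) : k) ≠ 0 := fun n => by rw [Nat.cast_pow]; exact pow_ne_zero n hl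
  choose Z iG iC q hq v hv hp hg _ _ _ hqv hvq hker using fun n =>
    GrothLib.TateThm.exists_isogeny (hn n) (GrothLib.TateThm.layer l W n)
      (fun a ha => GrothLib.TateThm.pow_eq_one_of_mem_layer ha)
      (fun τ a ha => GrothLib.TateThm.galAct_mem_layer ρ hρ hW τ ha)
  obtain ⟨J, hJ, F, hF⟩ := hFin
  choose c hc using fun n => @hF (Z n) (iG n) (iC n) (hp n) (hg n) (q n) (hq n) (v n) (hv n) n (hqv n) (hvq n)
  obtain ⟨j, hj⟩ := Finite.exists_infinite_fiber c
  obtain ⟨n₀, hn₀⟩ := (Set.infinite_coe_iff.1 hj).nonempty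
  exact GrothLib.TateThm.exists_mem_homSpan_range_eq hl W Z q v
    (fun n => ⟨n, fun z => ⟨AbDual.tateMapₗ (v n) z, by
      haveI := GrothLib.GrpDeligne.isMonHom_pow (𝟙 (Z n)) (l ^ n)
      have e := GrothLib.DegPoly.tateMap_comp (Spec.map (CommRingCat.ofHom (algebraMap k Ω))) l (v n) (q n) _ (hvq n)
      rw [GrothLib.DegPoly.tateMap_pow] at e
      exact (DFunLike.congr_fun e z).trans (by rw [LinearMap.smul_apply, LinearMap.id_apply, Nat.cast_pow])⟩⟩)
    (fun n z => GrothLib.TateThm.range_tateMap_dual (q n) (v n) (hqv n) (hvq n) (hker n) z)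
    ⟨n₀, c ⁻¹' {j}, Set.infinite_coe_iff.1 hj, fun n hn' => by
      obtain ⟨e₀⟩ := hc n₀
      obtain ⟨e⟩ := hc n
      rw [show c n₀ = j from hn₀] at e₀
      rw [show c n = j from hn'] at e
      exact ⟨e₀ ≪≫ e.symm⟩⟩

end Groth.Agent.S16851
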