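import Groth.Statements.S16848
-- import your own Groth.Agent.* helpers here
import Groth.Agent.Lib.TateThm.Semisimple
import Groth.Agent.S16851

set_option autoImplicit false
universe u
open CategoryTheory MonoidalCategory CartesianMonoidalCategory MonObj GrpObj AlgebraicGeometry
open scoped TensorProduct
open AbVar

namespace Groth.Agent.S16848

/-- Let k be a field with algebraic closure Ω and ℓ a prime number invertible in k. Assume the
finiteness condition Fin(Z/k, ℓ) for every abelian variety Z over k: up to isomorphism of k-schemes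
there are only finitely many abelian varieties Y over k admitting an isogeny Z → Y of ℓ-power degree
(rendered: homomorphisms u : Z → Y, v : Y → Z with v ∘ u = [ℓ^m] and u ∘ v = [ℓ^m]). (The hypothesis
is used only for X and for X × X; it is assumed here for all abelian varieties over k.) Let X be an
abelian variety over k (a proper, geometrically integral commutative group scheme over k), T = T_ℓ X
its ℓ-adic Tate module of Ω-points, assumed (as is the case) free of finite rank over ℤ_ℓ, V = ℚ_ℓ ⊗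
T, and for τ ∈ Aut_k(Ω) let ρ(τ) be the ℤ_ℓ-linear endomorphism of T acting componentwise by the
Galois action of τ (this pins ρ). Then (1) the Galois representation on V is semisimple: every
ℚ_ℓ-subspace of V stable under all ρ(τ) has a complement stable under all ρ(τ); and (2) every
ℚ_ℓ-linear endomorphism of V commuting with all ρ(τ) lies in the ℚ_ℓ-span of the endomorphisms
V_ℓ(f) = ℚ_ℓ ⊗ T_ℓ(f) induced by endomorphisms f of X defined over k. -/
theorem result (k Ω : Type u) [Field k] [Field Ω] [Algebra k Ω] [IsAlgClosure k Ω]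
    (l : ℕ) [Fact l.Prime] (hl : (l : k) ≠ 0)
    (hFin : ∀ (Z : Over (Spec (CommRingCat.of k))) [GrpObj Z] [IsCommMonObj Z] [IsProper Z.hom] [GeometricallyIntegral Z.hom],
      ∃ (J : Type u) (_ : Finite J) (F : J → Over (Spec (CommRingCat.of k))),
        ∀ (Y : Over (Spec (CommRingCat.of k))) [GrpObj Y] [IsCommMonObj Y] [IsProper Y.hom] [GeometricallyIntegral Y.hom]
          (u : Z ⟶ Y) [IsMonHom u] (v : Y ⟶ Z) [IsMonHom v] (m : ℕ),
          u ≫ v = (𝟙 Z) ^ (l ^ m) → v ≫ u = (𝟙 Y) ^ (l ^ m) → ∃ i, Nonempty (Y ≅ F i))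
    (X : Over (Spec (CommRingCat.of k)))
    [GrpObj X] [IsCommMonObj X] [IsProper X.hom] [GeometricallyIntegral X.hom]
    (ρ : (Ω ≃ₐ[k] Ω) → Module.End ℤ_[l] (AbDual.TateMod X l (SGA7.pt Ω)))
    (hρ : ∀ (τ : Ω ≃ₐ[k] Ω) (z : AbDual.TateMod X l (SGA7.pt Ω)) (m : ℕ),
      (AbDual.TateMod.component X l (SGA7.pt Ω) m (ρ τ z)).toMul =
        SGA7.galAct τ (AbDual.TateMod.component X l (SGA7.pt Ω) m z).toMul)
    [Module.Free ℤ_[l] (AbDual.TateMod X l (SGA7.pt Ω))] [Module.Finite ℤ_[l] (AbDual.TateMod X l (SGA7.pt Ω))] :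
    (∀ W : Submodule ℚ_[l] (ℚ_[l] ⊗[ℤ_[l]] AbDual.TateMod X l (SGA7.pt Ω)),
        (∀ τ : Ω ≃ₐ[k] Ω, W.map ((ρ τ).baseChange ℚ_[l]) ≤ W) →
        ∃ W' : Submodule ℚ_[l] (ℚ_[l] ⊗[ℤ_[l]] AbDual.TateMod X l (SGA7.pt Ω)),
          IsCompl W W' ∧ ∀ τ : Ω ≃ₐ[k] Ω, W'.map ((ρ τ).baseChange ℚ_[l]) ≤ W') ∧
      ∀ φ : Module.End ℚ_[l] (ℚ_[l] ⊗[ℤ_[l]] AbDual.TateMod X l (SGA7.pt Ω)),
        (∀ τ : Ω ≃ₐ[k] Ω, φ ∘ₗ (ρ τ).baseChange ℚ_[l] = (ρ τ).baseChange ℚ_[l] ∘ₗ φ) →
        φ ∈ Submodule.span ℚ_[l] {ψ : Module.End ℚ_[l] (ℚ_[l] ⊗[ℤ_[l]] AbDual.TateMod X l (SGA7.pt Ω)) |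
          ∃ (f : X ⟶ X) (_ : IsMonHom f), ψ = (AbDual.tateMapₗ (l := l) (T := SGA7.pt Ω) f).baseChange ℚ_[l]} := by
  haveI : IsAlgClosed Ω := IsAlgClosure.isAlgClosed k
  have hprop : ∀ (Z : Over (Spec (CommRingCat.of k))) [GrpObj Z] [IsCommMonObj Z] [IsProper Z.hom]
      [GeometricallyIntegral Z.hom], GrothLib.TateThm.TateProp l Ω Z := fun Z _ _ _ _ W hW => by
    haveI := GrothLib.AbTors.module_finite Z (Spec.map (CommRingCat.ofHom (algebraMap k Ω))) l hl
    haveI : Module.Free ℤ_[l] (AbDual.TateMod Z l (SGA7.pt Ω)) := Module.free_of_finite_type_torsion_free'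
    exact Groth.Agent.S16851.result k Ω l hl Z (hFin Z) (fun τ => GrothLib.TateThm.galT Z l τ)
      (fun τ z m => GrothLib.TateThm.component_galT τ z m) W hW
  haveI : IsProper (X ⊗ X).hom := GrothLib.Cube.isProper_prod
  haveI : GeometricallyIntegral (X ⊗ X).hom := GrothLib.Poincare.geometricallyIntegral_tensor X X
  have hgal : ∀ τ, (ρ τ).baseChange ℚ_[l] = GrothLib.TateThm.galV X l τ := fun τ => by
    rw [GrothLib.TateThm.eq_galT ρ hρ τ]
  simp only [hgal]
  exact ⟨fun W hW => GrothLib.TateThm.exists_galois_compl hl (hprop X) W hW,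
    fun φ hφ => GrothLib.TateThm.mem_homSpan_of_equivariant hl (hprop (X ⊗ X)) (hprop X) φ hφ⟩

end Groth.Agent.S16848
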