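import Groth.Statements.S16849
-- import your own Groth.Agent.* helpers here
import Groth.Agent.Lib.Poincare.PointCount
import Groth.Agent.Lib.Poincare.RootProducts

set_option autoImplicit false
universe u
open CategoryTheory MonoidalCategory CartesianMonoidalCategory MonObj GrpObj AlgebraicGeometry
open AbVar

namespace Groth.Agent.S16849

/-- Let k be a finite field with q elements and algebraic closure Ω, ℓ a prime invertible in k, and X an
abelian variety over k (a proper, geometrically integral commutative group scheme over k) of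
dimension g, with geometric Frobenius π_X (the endomorphism that is the identity on points and the
q-th power map on sections); assume, as is the case, that the ℓ-adic Tate module of Ω-points T_ℓ X
is free of finite rank over ℤ_ℓ, and let f_X ∈ ℤ[t] be the polynomial mapping to the characteristic
polynomial of T_ℓ(π_X) (the characteristic polynomial of Frobenius). Let α_1, …, α_{2g} be the
complex roots of f_X with multiplicity and, for 0 ≤ j ≤ 2g, P_j(t) = ∏_I (1 − α_I t), the product
over the j-element sub-multisets I of the roots, α_I = ∏_{i ∈ I} α_i (so P_j is the reciprocal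
characteristic polynomial of the j-th exterior power of V_ℓ(π_X)). Then every P_j has integer
coefficients, and the zeta function Z(X; t) = exp(Σ_{m ≥ 1} N_m t^m / m) (N_m the number of points
of X in a degree-m extension of k, counted through closed points) satisfies Z(X; t) · ∏_{j even}
P_j(t) = ∏_{j odd} P_j(t) in ℂ⟦t⟧, i.e. Z(X; t) = P_1 P_3 ⋯ P_{2g−1} / (P_0 P_2 ⋯ P_{2g}). -/
theorem result (k Ω : Type u) [Field k] [Finite k] [Field Ω] [Algebra k Ω] [IsAlgClosure k Ω]
    (l : ℕ) [Fact l.Prime] (hl : (l : k) ≠ 0) (X : Over (Spec (CommRingCat.of k)))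
    [GrpObj X] [IsCommMonObj X] [IsProper X.hom] [GeometricallyIntegral X.hom]
    (πX : X ⟶ X) [IsMonHom πX] (hπb : πX.left.base = 𝟙 _)
    (hπle : ∀ U : X.left.Opens, U ≤ πX.left ⁻¹ᵁ U)
    (hπapp : ∀ (U : X.left.Opens) (s : Γ(X.left, U)), (πX.left.appLE U U (hπle U)).hom s = s ^ Nat.card k)
    [Module.Free ℤ_[l] (AbDual.TateMod X l (SGA7.pt Ω))] [Module.Finite ℤ_[l] (AbDual.TateMod X l (SGA7.pt Ω))]
    (P : Polynomial ℤ) (hP : (AbDual.tateMapₗ (l := l) (T := SGA7.pt Ω) πX).charpoly = P.map (Int.castRingHom ℤ_[l])) :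
    (∀ j : ℕ, ∃ Q : Polynomial ℤ, Q.map (Int.castRingHom ℂ) = (((P.map (Int.castRingHom ℂ)).roots.powersetCard j).map
          (fun I => (1 : Polynomial ℂ) - Polynomial.C I.prod * Polynomial.X)).prod) ∧
      (Zeta.zetaFun X.hom).map (algebraMap ℚ ℂ) *
          ∏ j ∈ (Finset.range (P.natDegree + 1)).filter (fun j => Even j),
            (((((P.map (Int.castRingHom ℂ)).roots.powersetCard j).map
          (fun I => (1 : Polynomial ℂ) - Polynomial.C I.prod * Polynomial.X)).prod : Polynomial ℂ) : PowerSeries ℂ) =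
        ∏ j ∈ (Finset.range (P.natDegree + 1)).filter (fun j => Odd j),
          (((((P.map (Int.castRingHom ℂ)).roots.powersetCard j).map
          (fun I => (1 : Polynomial ℂ) - Polynomial.C I.prod * Polynomial.X)).prod : Polynomial ℂ) : PowerSeries ℂ) := by
  haveI : IsAlgClosed Ω := IsAlgClosure.isAlgClosed k
  obtain ⟨g, hg⟩ := GrothLib.AbTors.exists_dim X
  have hPm : P.Monic := by
    have := LinearMap.charpoly_monic (AbDual.tateMapₗ (l := l) (T := SGA7.pt Ω) πX)
    rw [hP] at this
    exact Polynomial.monic_of_injective (RingHom.injective_int _) this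
  refine ⟨fun j => GrothLib.Poincare.exists_int_subProdPoly P hPm (C' := ℂ) j, ?_⟩
  set s := (P.map (Int.castRingHom ℂ)).roots with hs
  have hcard : Multiset.card s = P.natDegree := by
    rw [hs, ← (IsAlgClosed.splits _).natDegree_eq_card_roots, Polynomial.natDegree_map_eq_of_injective (RingHom.injective_int _)]
  let T : ℕ → ℕ → ℂ := fun j m => if m = 0 then 0 else -((s.powersetCard j).map fun I => I.prod ^ m).sum
  have hj : ∀ j, GrothLib.Zeta.IsExpOf (T j) ((GrothLib.Poincare.subProdPoly s j : Polynomial ℂ) : PowerSeries ℂ) :=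
    fun j => GrothLib.Poincare.isExpOf_subProdPoly s j
  have hL := ((GrothLib.Zeta.isExpOf_zetaFun X.hom).map (algebraMap ℚ ℂ)).mul
    (GrothLib.Zeta.IsExpOf.prod ((Finset.range (P.natDegree + 1)).filter fun j => Even j) fun j _ => hj j)
  have hR := GrothLib.Zeta.IsExpOf.prod ((Finset.range (P.natDegree + 1)).filter fun j => Odd j) fun j _ => hj j
  refine hL.ext hR (by simp [T, _root_.Zeta.nPts]) (by simp [T]) fun m hm => ?_
  have hN := GrothLib.Poincare.nPts_eq_prod (Ω := Ω) l hl πX hπle hπapp P hP hm (C := ℂ)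
  rw [GrothLib.Poincare.prod_one_sub_pow, hcard] at hN
  simp only [Pi.add_apply]
  rw [show (algebraMap ℚ ℂ) ((_root_.Zeta.nPts X.hom m : ℕ) : ℚ) = ((_root_.Zeta.nPts X.hom m : ℕ) : ℂ) from map_natCast _ _, hN,
    ← Finset.sum_filter_add_sum_filter_not _ (fun j => Even j)]
  have he : ∀ j ∈ (Finset.range (P.natDegree + 1)).filter (fun j => Even j),
      (-1 : ℂ) ^ j * ((s.powersetCard j).map fun I => I.prod ^ m).sum + T j m = 0 := fun j hjm => by
    rw [(Finset.mem_filter.1 hjm).2.neg_one_pow]
    simp [T, Nat.one_le_iff_ne_zero.1 hm]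
  have ho : ∀ j ∈ (Finset.range (P.natDegree + 1)).filter (fun j => Odd j),
      (-1 : ℂ) ^ j * ((s.powersetCard j).map fun I => I.prod ^ m).sum = T j m := fun j hjm => by
    rw [(Finset.mem_filter.1 hjm).2.neg_one_pow]
    simp [T, Nat.one_le_iff_ne_zero.1 hm]
  simp only [Nat.not_even_iff_odd]
  rw [Finset.sum_congr rfl ho, add_right_comm, ← Finset.sum_add_distrib, Finset.sum_eq_zero he, zero_add]

end Groth.Agent.S16849
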