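import Groth.Statements.S16852
-- import your own Groth.Agent.* helpers here
import Groth.Agent.Lib.TateThm.Counts

set_option autoImplicit false
universe u
open CategoryTheory MonoidalCategory CartesianMonoidalCategory MonObj GrpObj AlgebraicGeometry
open AbVar

namespace Groth.Agent.S16852

/-- (a) ⇔ (e1): fix a finite field k and abelian varieties X and Y over it (proper, geometrically
integral commutative group schemes over k). Then X and Y are isogenous over k — there exist
homomorphisms u : X → Y and v : Y → X and an integer n > 0 with v ∘ u = [n]_X and u ∘ v = [n]_Y — if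
and only if their zeta functions coincide: Z(X; t) = Z(Y; t) in ℚ⟦t⟧, where Z(X; t) = exp(Σ_{m ≥ 1}
N_m t^m / m) with N_m = Σ_{e ∣ m} e · #(closed points of X of residue degree e). -/
theorem result (k : Type u) [Field k] [Finite k]
    (X : Over (Spec (CommRingCat.of k)))
    [GrpObj X] [IsCommMonObj X] [IsProper X.hom] [GeometricallyIntegral X.hom]
    (Y : Over (Spec (CommRingCat.of k)))
    [GrpObj Y] [IsCommMonObj Y] [IsProper Y.hom] [GeometricallyIntegral Y.hom] :
    (∃ (u : X ⟶ Y) (_ : IsMonHom u) (v : Y ⟶ X) (_ : IsMonHom v) (n : ℕ), 0 < n ∧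
        u ≫ v = (𝟙 X) ^ n ∧ v ≫ u = (𝟙 Y) ^ n) ↔
      Zeta.zetaFun X.hom = Zeta.zetaFun Y.hom := by
  rw [GrothLib.TateThm.isogenous_iff_nPts]
  have hX := GrothLib.Zeta.isExpOf_zetaFun X.hom
  have hY := GrothLib.Zeta.isExpOf_zetaFun Y.hom
  constructor
  · intro h
    exact hX.ext hY (by simp [Zeta.nPts]) (by simp [Zeta.nPts]) fun m hm => by rw [h m hm]
  · intro h m hm
    rw [← h] at hY
    have h0 : Zeta.zetaFun X.hom ≠ 0 := fun h0 => by simpa [h0] using hX.const
    have h2 := congrArg (PowerSeries.coeff m) (mul_left_cancel₀ h0 (hX.deriv.symm.trans hY.deriv))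
    simp only [PowerSeries.coeff_mk] at h2
    exact_mod_cast h2

end Groth.Agent.S16852
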