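import Groth.Statements.S16854
import Mathlib
import Groth.Agent.S16853

set_option autoImplicit false
universe u v
open CAlg

namespace Groth.Agent.S16854

/-- Let k be an algebraically closed field of characteristic p > 0, ν ≥ 1, W = W(k) the ring of
p-typical Witt vectors with its Frobenius endomorphism σ, M a finitely generated free W-module and F
: M → M a bijective additive map that is σ^ν-semilinear, F(a·m) = σ^ν(a)·F(m). Then M admits a
W-basis consisting of F-fixed elements; in particular M is spanned over W by M₀ = {m | F(m) = m}, a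
module over the Witt vectors of F_{p^ν}. (The copy allows ν < 0 as well, reducing to F⁻¹; stated
here for ν ≥ 1.) -/
theorem result (k : Type u) [Field k] [IsAlgClosed k]
    (p : ℕ) [Fact p.Prime] [CharP k p] (ν : ℕ) (hν : 1 ≤ ν)
    (M : Type v) [AddCommGroup M] [Module (WittVector p k) M]
    [Module.Finite (WittVector p k) M] [Module.Free (WittVector p k) M]
    (F : M →+ M)
    (hF : ∀ (a : WittVector p k) (m : M), F (a • m) = ((⇑(WittVector.frobenius : WittVector p k →+* WittVector p k))^[ν] a) • F m)
    (hbij : Function.Bijective F) :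
    ∃ (ι : Type v) (b : Module.Basis ι (WittVector p k) M), ∀ i, F (b i) = b i := by
  classical
  have hp := (Fact.out : p.Prime)
  let d := Module.finrank (WittVector p k) M
  let e : Module.Basis (Fin d) (WittVector p k) M := Module.finBasis _ M
  let r : M →+ (Fin d → k) :=
    { toFun := fun m i => WittVector.constantCoeff (e.repr m i)
      map_zero' := by funext i; simp
      map_add' := fun a b => by funext i; simp [-WittVector.constantCoeff_apply] }
  have hrs : ∀ (a : WittVector p k) (m : M), r (a • m) = a.coeff 0 • r m := by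
    intro a m; funext i; simp only [r, AddMonoidHom.coe_mk, ZeroHom.coe_mk, map_smul, Finsupp.smul_apply, smul_eq_mul, map_mul, Pi.smul_apply]; rfl
  let lift : (Fin d → k) → M := fun v => e.equivFun.symm fun i => WittVector.teichmuller p (v i)
  have hrl : ∀ v, r (lift v) = v := by
    intro v; funext i
    show WittVector.constantCoeff (e.equivFun (e.equivFun.symm _) i) = v i
    rw [LinearEquiv.apply_symm_apply, WittVector.constantCoeff_apply, WittVector.teichmuller_coeff_zero]
  have hker : ∀ m, r m = 0 → ∃ z, m = (p : WittVector p k) • z := by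
    intro m hm
    have : ∀ i, ∃ c, e.repr m i = (p : WittVector p k) * c := fun i => by
      have := (WittVector.mem_span_p_iff_coeff_zero_eq_zero (p := p) (e.repr m i)).mpr
        (congrFun hm i)
      exact Ideal.mem_span_singleton.mp this
    choose c hc using this
    refine ⟨e.equivFun.symm c, e.equivFun.injective ?_⟩
    rw [map_smul, LinearEquiv.apply_symm_apply]
    funext i
    simpa using hc i
  have hFp : ∀ (n : ℕ) (m : M), F ((p : WittVector p k) ^ n • m) = (p : WittVector p k) ^ n • F m := by
    intro n m
    rw [← Nat.cast_pow, Nat.cast_smul_eq_nsmul, map_nsmul, Nat.cast_smul_eq_nsmul]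
  have hker' : ∀ z, r ((p : WittVector p k) • z) = 0 := by
    intro z
    rw [hrs, show ((p : WittVector p k)).coeff 0 = 0 from
      (WittVector.mem_span_p_iff_coeff_zero_eq_zero _).mp (Ideal.mem_span_singleton_self _), zero_smul]
  have hwd : ∀ a b, r a = r b → r (F a) = r (F b) := by
    intro a b h
    obtain ⟨z, hz⟩ := hker (a - b) (by rw [map_sub, h, sub_self])
    rw [← sub_eq_zero, ← map_sub, ← map_sub, hz]
    have := hFp 1 z
    simp only [pow_one] at this
    rw [this, hker']
  let ψ : (Fin d → k) →+ (Fin d → k) :=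
    { toFun := fun v => r (F (lift v))
      map_zero' := by rw [hwd (lift 0) 0 (by rw [hrl, map_zero]), map_zero, map_zero]
      map_add' := fun v w => by
        rw [hwd (lift (v + w)) (lift v + lift w) (by rw [hrl, map_add, hrl, hrl]), map_add, map_add] }
  have hψr : ∀ m, ψ (r m) = r (F m) := fun m => hwd _ _ (hrl _)
  have hψs : ∀ (a : k) (v : Fin d → k), ψ (a • v) = a ^ p ^ ν • ψ v := by
    intro a v
    show r (F (lift (a • v))) = _
    rw [hwd (lift (a • v)) (WittVector.teichmuller p a • lift v)
      (by rw [hrs, hrl, hrl, WittVector.teichmuller_coeff_zero]), hF, hrs]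
    congr 1
    have : ∀ n, ((⇑(WittVector.frobenius : WittVector p k →+* WittVector p k))^[n]
        (WittVector.teichmuller p a)).coeff 0 = a ^ p ^ n := by
      intro n
      induction n with
      | zero => simp
      | succ n ih =>
        rw [Function.iterate_succ_apply', WittVector.coeff_frobenius_charP, ih, ← pow_mul, pow_succ]
    exact this ν
  have hψb : Function.Bijective ψ := by
    refine ⟨(injective_iff_map_eq_zero ψ).mpr fun v hv => ?_, fun v => ?_⟩
    · obtain ⟨z, hz⟩ := hker _ (show r (F (lift v)) = 0 from hv)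
      obtain ⟨y, rfl⟩ := hbij.2 z
      have h1 := hFp 1 y
      simp only [pow_one] at h1
      rw [← h1] at hz
      rw [← hrl v, hbij.1 hz, hker']
    · obtain ⟨m, hm⟩ := hbij.2 (lift v)
      exact ⟨r m, by rw [hψr, hm, hrl]⟩
  obtain ⟨ι, bι, hbι⟩ := Groth.Agent.S16853.result k p ν hν (Fin d → k) ψ hψs hψb
  haveI : Fintype ι := FiniteDimensional.fintypeBasisIndex bι
  let b : Module.Basis (Fin d) k (Fin d → k) := bι.reindex (Fintype.equivFinOfCardEq (by
    rw [← Module.finrank_eq_card_basis bι, Module.finrank_fin_fun]))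
  have hb : ∀ i, ψ (b i) = b i := fun i => by rw [Module.Basis.reindex_apply]; exact hbι _
  -- `ψ - 1` is surjective
  have hsurj : ∀ z : M, ∃ y w : M, F y - y = z + (p : WittVector p k) • w := by
    intro z
    have hroot : ∀ c : k, ∃ y : k, y ^ p ^ ν - y = c := by
      intro c
      have hq : 1 < p ^ ν := Nat.one_lt_pow (by omega) hp.one_lt
      obtain ⟨y, hy⟩ := IsAlgClosed.exists_root
        (Polynomial.X ^ (p ^ ν) - Polynomial.X - Polynomial.C c) (by
          rw [sub_sub, Polynomial.degree_sub_eq_left_of_degree_lt] <;>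
            simp only [Polynomial.degree_X_pow, Polynomial.degree_X_add_C]
          · exact_mod_cast (by omega : p ^ ν ≠ 0)
          · exact_mod_cast hq)
      exact ⟨y, by simpa [Polynomial.IsRoot, sub_eq_zero] using hy⟩
    choose sol hsol using hroot
    let u : Fin d → k := ∑ i, sol (b.repr (r z) i) • b i
    have hu : ψ u - u = r z := by
      conv_rhs => rw [← b.sum_repr (r z)]
      simp only [u, map_sum, ← Finset.sum_sub_distrib, hψs, hb, ← sub_smul, hsol]
    obtain ⟨w, hw⟩ := hker (F (lift u) - lift u - z) (by
      rw [map_sub, map_sub, ← hψr, hrl, hu, sub_self])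
    exact ⟨lift u, w, by rw [← hw]; abel⟩
  -- fixed lifts
  have hfix : ∀ v, ψ v = v → ∃ m, r m = v ∧ F m = m := by
    intro v hv
    let P := (p : WittVector p k)
    have step : ∀ (n : ℕ) (m z : M), F m - m = P ^ (n + 1) • z →
        ∃ m' z', F m' - m' = P ^ (n + 1 + 1) • z' ∧ ∃ y, m' - m = P ^ (n + 1) • y := by
      intro n m z hmz
      obtain ⟨y, w, hyw⟩ := hsurj (-z)
      refine ⟨m + P ^ (n + 1) • y, w, ?_, y, by abel⟩
      have : F (m + P ^ (n + 1) • y) - (m + P ^ (n + 1) • y) =
          (F m - m) + P ^ (n + 1) • (F y - y) := by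
        rw [map_add, hFp, smul_sub]; abel
      rw [this, hmz, hyw, smul_add, smul_neg, smul_smul, ← pow_succ]
      abel
    obtain ⟨z0, hz0⟩ := hker (F (lift v) - lift v) (by rw [map_sub, ← hψr, hrl, hv, sub_self])
    choose nm nz hnz ny hny using step
    let T : ℕ → Type _ := fun n => {q : M × M // F q.1 - q.1 = P ^ (n + 1) • q.2}
    let seq : ∀ n, T n := fun n => Nat.rec ⟨(lift v, z0), by simpa [P] using hz0⟩
      (fun n q => ⟨(nm n q.1.1 q.1.2 q.2, nz n q.1.1 q.1.2 q.2), hnz n _ _ q.2⟩) n
    have hex : ∃ x w y : ℕ → M, x 0 = lift v ∧ (∀ n, F (x n) - x n = P ^ (n + 1) • w n) ∧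
        ∀ n, x (n + 1) - x n = P ^ (n + 1) • y n :=
      ⟨fun n => (seq n).1.1, fun n => (seq n).1.2, fun n => ny n _ _ (seq n).2, rfl,
        fun n => (seq n).2, fun n => hny n _ _ (seq n).2⟩
    obtain ⟨x, w', y', hx0, hxF, hxs⟩ := hex
    have hdiv : ∀ a c, a ≤ c → ∀ i, P ^ (a + 1) ∣ e.repr (x c) i - e.repr (x a) i := by
      intro a c hac i
      induction c, hac using Nat.le_induction with
      | base => simp
      | succ c hac ih =>
        have h1 : P ^ (a + 1) ∣ e.repr (x (c + 1)) i - e.repr (x c) i := by
          rw [← Finsupp.sub_apply, ← map_sub, hxs, map_smul, Finsupp.smul_apply, smul_eq_mul]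
          exact Dvd.dvd.mul_right (pow_dvd_pow P (by omega)) _
        have := dvd_add h1 ih
        rwa [sub_add_sub_cancel] at this
    have hlim : ∀ i, ∃ L : WittVector p k, ∀ n, P ^ n ∣ e.repr (x n) i - L := by
      intro i
      obtain ⟨L, hL⟩ := IsPrecomplete.prec (I := Ideal.span {P})
        (inferInstance : IsPrecomplete (Ideal.span {P}) (WittVector p k))
        (f := fun n => e.repr (x n) i) (fun {a c} hac => by
          rw [SModEq.sub_mem, smul_eq_mul, Ideal.mul_top, Ideal.span_singleton_pow,
            Ideal.mem_span_singleton, dvd_sub_comm]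
          exact (pow_dvd_pow P a.le_succ).trans (hdiv a c hac i))
      refine ⟨L, fun n => ?_⟩
      have := hL n
      rwa [SModEq.sub_mem, smul_eq_mul, Ideal.mul_top, Ideal.span_singleton_pow,
        Ideal.mem_span_singleton] at this
    choose L hL using hlim
    let m := e.equivFun.symm L
    have hm : ∀ n, ∃ y, x n - m = P ^ n • y := by
      intro n
      choose c hc using fun i => hL i n
      refine ⟨e.equivFun.symm c, e.equivFun.injective ?_⟩
      rw [map_sub, LinearEquiv.apply_symm_apply, map_smul, LinearEquiv.apply_symm_apply]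
      funext i
      simpa using hc i
    refine ⟨m, ?_, ?_⟩
    · obtain ⟨y, hy⟩ := hm 1
      have hr1 : r (x 1) = r (x 0) := by
        rw [← sub_eq_zero, ← map_sub, show x 1 = x (0 + 1) from rfl, hxs 0, zero_add, pow_one]
        exact hker' _
      have h2 : r (x 1) = r m := by
        rw [← sub_eq_zero, ← map_sub, hy, pow_one]
        exact hker' _
      rw [← h2, hr1, hx0]
      exact hrl v
    · have key : ∀ n, ∃ y, F m - m = P ^ n • y := by
        intro n
        obtain ⟨y, hy⟩ := hm n
        have h1 : F (x n) - x n = P ^ (n + 1) • w' n := hxF n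
        refine ⟨P • w' n - F y + y, ?_⟩
        have h2 : F (x n) - F m = P ^ n • F y := by rw [← map_sub, hy, hFp]
        rw [smul_add, smul_sub, smul_smul, ← pow_succ, ← h1, ← h2, ← hy]
        abel
      rw [← sub_eq_zero]
      refine e.equivFun.map_eq_zero_iff.mp (funext fun i => ?_)
      refine IsHausdorff.haus (I := Ideal.span {P})
        (inferInstance : IsHausdorff (Ideal.span {P}) (WittVector p k)) _ fun n => ?_
      rw [SModEq.zero, smul_eq_mul, Ideal.mul_top, Ideal.span_singleton_pow, Ideal.mem_span_singleton]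
      obtain ⟨y, hy⟩ := key n
      exact ⟨e.equivFun y i, by simp [hy]⟩
  choose m hmr hmf using fun i => hfix (b i) (hb i)
  have hdet : IsUnit (e.det m) := by
    apply WittVector.isUnit_of_coeff_zero_ne_zero
    rw [← WittVector.constantCoeff_apply, Module.Basis.det_apply, RingHom.map_det]
    have : (WittVector.constantCoeff : WittVector p k →+* k).mapMatrix (e.toMatrix m) =
        (Pi.basisFun k (Fin d)).toMatrix b := by
      ext i j
      simp only [RingHom.mapMatrix_apply, Matrix.map_apply, Module.Basis.toMatrix_apply,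
        Pi.basisFun_repr, ← hmr]
      rfl
    rw [this]
    exact ((Pi.basisFun k (Fin d)).isUnit_det b).ne_zero
  obtain ⟨hli, hsp⟩ := (Module.Basis.is_basis_iff_det e).mpr hdet
  exact ⟨ULift.{v} (Fin d), (Module.Basis.mk hli hsp.ge).reindex Equiv.ulift.symm,
    fun i => by simp [Module.Basis.reindex_apply, hmf]⟩

end Groth.Agent.S16854
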