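import Groth.Statements.S16855
-- import your own Groth.Agent.* helpers here
import Groth.Agent.Lib.TateThm.Structure
import Groth.Agent.Lib.Poincare.SimpleFrob

set_option autoImplicit false
universe u
open CategoryTheory MonoidalCategory CartesianMonoidalCategory MonObj GrpObj AlgebraicGeometry
open AbVar

namespace Groth.Agent.S16855

/-- Let k be a finite field with q elements and algebraic closure Ω, ℓ a prime invertible in k, and X an
abelian variety over k (a proper, geometrically integral commutative group scheme over k) of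
dimension g, with geometric Frobenius π_X (the endomorphism that is the identity on points and the
q-th power map on sections); assume, as is the case, that the ℓ-adic Tate module of Ω-points T_ℓ X
is free of finite rank over ℤ_ℓ, and let f_X ∈ ℤ[t] be the polynomial mapping to the characteristic
polynomial of T_ℓ(π_X) (the characteristic polynomial of Frobenius). Assume X is elementary in the
sense that ℚ[π_X] ⊆ End⁰(X) = ℚ ⊗ End_k(X) is a field, of degree e over ℚ, and let h ∈ ℚ[t] be the
minimal polynomial of π_X. Then [End⁰(X) : ℚ[π_X]] is a square d², and d·e = 2g and f_X = h^d: there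
is a natural number d with dim_ℚ End⁰(X) = e·d², d·e = 2g and f_X = h^d in ℚ[t]. -/
theorem result (k Ω : Type u) [Field k] [Finite k] [Field Ω] [Algebra k Ω] [IsAlgClosure k Ω]
    (l : ℕ) [Fact l.Prime] (hl : (l : k) ≠ 0) (X : Over (Spec (CommRingCat.of k)))
    [GrpObj X] [IsCommMonObj X] [IsProper X.hom] [GeometricallyIntegral X.hom]
    (g : ℕ) (hg : topologicalKrullDim X.left = g)
    (πX : X ⟶ X) [IsMonHom πX] (hπb : πX.left.base = 𝟙 _)
    (hπle : ∀ U : X.left.Opens, U ≤ πX.left ⁻¹ᵁ U)
    (hπapp : ∀ (U : X.left.Opens) (s : Γ(X.left, U)), (πX.left.appLE U U (hπle U)).hom s = s ^ Nat.card k)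
    [Module.Free ℤ_[l] (AbDual.TateMod X l (SGA7.pt Ω))] [Module.Finite ℤ_[l] (AbDual.TateMod X l (SGA7.pt Ω))]
    (P : Polynomial ℤ) (hP : (AbDual.tateMapₗ (l := l) (T := SGA7.pt Ω) πX).charpoly = P.map (Int.castRingHom ℤ_[l]))
    (hK : IsField (EndAV.QAdj (EndAV.End.of πX))) :
    ∃ d : ℕ, Module.finrank ℚ (EndAV.End0 X) = Module.finrank ℚ (EndAV.QAdj (EndAV.End.of πX)) * d ^ 2 ∧
      d * Module.finrank ℚ (EndAV.QAdj (EndAV.End.of πX)) = 2 * g ∧
      P.map (Int.castRingHom ℚ) = (minpoly ℚ (EndAV.toEnd0 (EndAV.End.of πX))) ^ d := by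
  classical
  haveI : IsAlgClosed Ω := IsAlgClosure.isAlgClosed k
  let σ := Spec.map (CommRingCat.ofHom (algebraMap k Ω))
  haveI : Module.Finite ℤ (EndAV.End X) := GrothLib.HomFG.finite_hom (A := X) (B := X)
  set φ := EndAV.End.of πX with hφ
  have hint : IsIntegral ℚ (EndAV.toEnd0 φ) :=
    ((Algebra.IsIntegral.isIntegral (R := ℤ) φ).map EndAV.toEnd0).tower_top
  have hirr := (GrothLib.Poincare.isField_adjoin_iff hint).1 hK
  have hμ := minpoly.monic hint
  obtain ⟨P', hP', hpow⟩ := GrothLib.DegPoly.charpoly_eq_minpoly_pow σ l hl hg φ hirr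
  obtain rfl : P = P' := Polynomial.map_injective (Int.castRingHom ℤ_[l]) (RingHom.injective_int _) (hP.symm.trans hP')
  have hfr := GrothLib.TateThm.finrank_end0_eq (Ω := Ω) hl πX hπle hπapp P hP
  have hdg := GrothLib.TateThm.natDegree_P (Ω := Ω) hl hg πX P hP
  set d := (minpoly ℚ (EndAV.toEnd0 φ)).natDegree with hd
  set n := 2 * g / d with hn
  rw [hpow, Polynomial.natDegree_pow, ← hd] at hdg
  have hQ : Module.finrank ℚ (EndAV.QAdj φ) = d := by
    have h : Submodule.span ℚ (Set.range fun i : Fin d => EndAV.toEnd0 φ ^ (i : ℕ)) =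
        Subalgebra.toSubmodule (EndAV.QAdj φ) := by
      rw [← Submodule.span_range_natDegree_eq_adjoin hμ (minpoly.aeval ℚ _), Finset.coe_image, Finset.coe_range, ← hd]
      congr 1
      ext x
      simp [Fin.exists_iff]
    rw [← Subalgebra.finrank_toSubmodule, ← h, finrank_span_eq_card (linearIndependent_pow _), Fintype.card_fin]
  refine ⟨n, ?_, by rw [hQ, hdg], hpow⟩
  rw [hQ, hfr, hpow, UniqueFactorizationMonoid.normalizedFactors_pow,
    UniqueFactorizationMonoid.normalizedFactors_irreducible hirr, hμ.normalize_eq_self]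
  rcases eq_or_ne n 0 with h0 | h0
  · simp [h0]
  rw [Multiset.toFinset_nsmul _ _ h0, Multiset.toFinset_singleton, Finset.sum_singleton,
    Multiset.count_nsmul, Multiset.count_singleton_self, Nat.mul_one, ← hd, sq, Nat.mul_comm]

end Groth.Agent.S16855
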