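import Groth.Statements.S16857
-- import your own Groth.Agent.* helpers here
import Groth.Agent.Lib.TateThm.Center
import Groth.Agent.Lib.HomFG.Finite

set_option autoImplicit false
universe u
open CategoryTheory MonoidalCategory CartesianMonoidalCategory MonObj GrpObj AlgebraicGeometry
open AbVar

namespace Groth.Agent.S16857

/-- (b1) ⇔ (b2): fix a finite field k of size q and an abelian variety X over k (a proper, geometrically
integral commutative group scheme over k) and π_X its geometric Frobenius (the identity on points,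
the q-th power map on sections; a homomorphism). Then End⁰(X) = ℚ ⊗ End_k(X) equals its subalgebra
ℚ[π_X] if and only if End_k(X) is commutative. -/
theorem result (k : Type u) [Field k] [Finite k] (X : Over (Spec (CommRingCat.of k)))
    [GrpObj X] [IsCommMonObj X] [IsProper X.hom] [GeometricallyIntegral X.hom]
    (πX : X ⟶ X) [IsMonHom πX] (hπb : πX.left.base = 𝟙 _)
    (hπle : ∀ U : X.left.Opens, U ≤ πX.left ⁻¹ᵁ U)
    (hπapp : ∀ (U : X.left.Opens) (s : Γ(X.left, U)), (πX.left.appLE U U (hπle U)).hom s = s ^ Nat.card k) :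
    EndAV.QAdj (EndAV.End.of πX) = ⊤ ↔ ∀ a b : EndAV.End X, a * b = b * a := by
  obtain ⟨l, hlp, hl⟩ := GrothLib.HomFG.exists_prime_ne_zero k
  haveI : Fact l.Prime := ⟨hlp⟩
  constructor
  · intro htop a b
    refine GrothLib.HomFG.toEnd0_injective (A := X) ?_
    have hmem : ∀ c : EndAV.End X, ∃ p : Polynomial ℚ, Polynomial.aeval (EndAV.toEnd0 (EndAV.End.of πX)) p = EndAV.toEnd0 c :=
      fun c => (Algebra.adjoin_singleton_eq_range_aeval ℚ _).le (htop.ge Algebra.mem_top)
    obtain ⟨p, hp⟩ := hmem a
    obtain ⟨p', hp'⟩ := hmem b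
    rw [map_mul, map_mul, ← hp, ← hp', ← map_mul, ← map_mul, _root_.mul_comm]
  · intro hc
    refine eq_top_iff.2 fun x _ => ?_
    obtain ⟨q, ψ, rfl⟩ := GrothLib.Poincare.exists_smul_toEnd0 x
    refine Subalgebra.smul_mem _ ?_ q
    obtain ⟨N, hN, hmem⟩ := GrothLib.TateThm.exists_nsmul_mem_span_powers (Ω := AlgebraicClosure k) (l := l) hl πX hπle
      hπapp ψ (hc ψ)
    have h2 : EndAV.toEnd0 (N • ψ) ∈ EndAV.QAdj (EndAV.End.of πX) := by
      generalize N • ψ = χ at hmem ⊢
      induction hmem using Submodule.span_induction with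
      | mem y hy =>
        obtain ⟨i, rfl⟩ := hy
        rw [map_pow]
        exact pow_mem (Algebra.self_mem_adjoin_singleton ℚ _) i
      | zero => rw [map_zero]; exact zero_mem _
      | add y z _ _ hy hz => rw [map_add]; exact add_mem hy hz
      | smul a y _ hy => rw [map_zsmul]; exact zsmul_mem hy a
    rw [map_nsmul, ← Nat.cast_smul_eq_nsmul ℚ] at h2
    have h3 := Subalgebra.smul_mem _ h2 (N : ℚ)⁻¹
    rwa [inv_smul_smul₀ (Nat.cast_ne_zero.2 hN.ne')] at h3

end Groth.Agent.S16857
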