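import Groth.Statements.S16859
import Groth.Agent.Lib.AlgSt.Gerbe.AutInertia
import Groth.Agent.Lib.AlgSt.DiagLFT
import Groth.Agent.Lib.AffMono14.Hull
import Groth.Agent.Lib.AlgSp.FpqcAffine


set_option autoImplicit false
set_option backward.isDefEq.respectTransparency false
set_option backward.isDefEq.respectTransparency.types false
universe u
open CategoryTheory CategoryTheory.Limits AlgebraicGeometry
open AlgSt

namespace Groth.Agent.S16859

set_option backward.isDefEq.respectTransparency false
set_option backward.isDefEq.respectTransparency.types false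
open CategoryTheory CategoryTheory.Limits AlgebraicGeometry GrothLib.FibCat

/-- Let `𝒳` be an algebraic stack over a scheme `S` (fppf topology) whose diagonal over `S` is
representable by algebraic spaces and quasi-affine. Let `k` be a field with a morphism `Spec k → S`,
let `x : (Sch/Spec k) → 𝒳` be a functor over `(Sch/S)` (a `k`-valued point of `𝒳`), and let `G` be a
group scheme over `Spec k` representing the automorphism presheaf of `x` on schemes over `Spec k`
(the stabilizer group scheme of `x`). Then `G` is affine and locally of finite type over `k`, i.e.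
an affine algebraic group. (The published statement is over the base `Spec ℤ`; the same argument
applies to the diagonal over any base scheme.) -/
theorem result (S : Scheme.{u})
    (𝒳 : AlgSt.Cat S) (h𝒳 : AlgSt.IsAlgStack Scheme.fppfPrecoverage 𝒳)
    (hΔ : AlgSt.RepByAlgSpWith AlgSp.IsQuasiAffineMor (FibCat.diag (FibCat.toSelf 𝒳)))
    (k : Type u) [Field k] (p : Spec (CommRingCat.of k) ⟶ S)
    (x : FibCat.overCat (Over.mk p) ⥤ᵇ 𝒳) (G : Over (Over.mk p).left) [GrpObj G]
    (hG : Gerb.AutRep x (Gerb.ptsGrp (Over.mk p) G)) :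
    IsAffine G.left ∧ LocallyOfFiniteType G.hom := by
  let U : Over S := Over.mk p
  have hX := h𝒳.isStack.1
  have hq := GrothLib.AlgSt.Section.repByAlgSpWith_proj_of_diag x G hX hΔ hG
  have hl := GrothLib.AlgSt.Section.repByAlgSpWith_proj_of_diag x G hX (GrothLib.AlgSt.repByAlgSpWith_lft_diag_toSelf h𝒳) hG
  have hlft : LocallyOfFiniteType (GrothLib.AlgSt.Section.proj G).left := GrothLib.AlgSt.Section.left_of_repByAlgSpWith_overMap _ hl
  let T := GrothLib.AlgSt.Section.tot G
  let g := GrothLib.AlgSt.Section.proj G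
  let F : AlgSp.Space S := ⟨(AlgSp.yon S).obj T, AlgSp.IsAlgSpace.yon_obj T⟩
  let k := AlgSt.toOverCat T
  let E : AlgSt.ofSp F.obj ⥤ᵇ FibCat.fp (BasedFunctor.id (FibCat.overCat U)) (AlgSt.overMap g) :=
    FibCat.fpLift (BasedFunctor.comp k (AlgSt.overMap g)) k (Iso.refl _)
  have hE : FibCat.IsEquivOver E :=
    GrothLib.FibCat.IsEquivOver.of_comp_right (show FibCat.IsEquivOver (BasedFunctor.comp E (FibCat.fpSnd _ _)) from
      GrothLib.AlgSt.isEquivOver_toOverCat T) (GrothLib.FibCat.Fp.isEquivOver_fpSnd_of_isEquivOver _ (GrothLib.FibCat.IsEquivOver.refl _))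
  have hiso : GrothLib.AlgSt.IsoInvariant (AlgSp.IsQuasiAffineMor (S := S)) := by
    intro A A' B hA hB φ _ a ha Z hZ g
    obtain ⟨W, i, fst, sq, hW⟩ := ha hZ g
    exact ⟨W, i, fst ≫ inv φ, IsPullback.of_iso sq (Iso.refl _) (asIso φ).symm (Iso.refl _) (Iso.refl _)
      (by simp) (by simp) (by simp) (by simp), hW⟩
  have hm := GrothLib.AlgSt.HasRep.mem (hq U (BasedFunctor.id _)) hiso F E hE
  have e : AlgSt.spMapOfOver (BasedFunctor.comp E (FibCat.fpFst _ _)) = (AlgSp.yon S).map g := GrothLib.AlgSt.spMapOfOver_overMap g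
  rw [e] at hm
  obtain ⟨W, i, fst, sq, hW⟩ := hm (Z := U) (by change IsAffine (Spec _); infer_instance) (𝟙 _)
  have sq2 : IsPullback (𝟙 _) ((AlgSp.yon S).map g) ((AlgSp.yon S).map g) (𝟙 ((AlgSp.yon S).obj U)) :=
    IsPullback.of_horiz_isIso ⟨(Category.id_comp _).trans (Category.comp_id _).symm⟩
  let e2 : W ≅ T := (AlgSp.yon S).preimageIso (sq.isoIsPullback _ _ sq2)
  have : ((Over.forget S).obj W).IsQuasiAffine := hW
  have : CompactSpace ↥G.left := (Scheme.homeoOfIso ((Over.forget S).mapIso e2)).compactSpace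
  have : G.left.IsQuasiAffine := Scheme.IsQuasiAffine.of_isImmersion ((Over.forget S).mapIso e2).inv
  exact ⟨GrothLib.AffMono14.isAffine_of_isQuasiAffine G, hlft⟩

end Groth.Agent.S16859
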