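import Groth.Statements.S16860
import Groth.Agent.Lib.AlgSt.Gerbe.Props
import Groth.Agent.Lib.AlgSt.DescLocQ


set_option autoImplicit false
set_option backward.isDefEq.respectTransparency false
set_option backward.isDefEq.respectTransparency.types false
universe u
open CategoryTheory AlgebraicGeometry
open Gerb

namespace Groth.Agent.S16860

/-- For a morphism f of algebraic stacks, the source is a gerbe over the target along f if and only if f
and its diagonal are both surjective, flat and locally of finite presentation. -/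
theorem result
    (S : Scheme.{u}) (𝒳 𝒴 : AlgSt.Cat S)
    (h𝒳 : AlgSt.IsAlgStack Scheme.fppfPrecoverage 𝒳) (h𝒴 : AlgSt.IsAlgStack Scheme.fppfPrecoverage 𝒴)
    (f : 𝒳 ⥤ᵇ 𝒴) :
    Gerb.IsGerbeOver (QuotSh.J Scheme.fppfPrecoverage S) f ↔
      (AlgSt.IsSurjective f ∧ AlgSt.LocQ (AlgSp.LocP @Flat) f ∧
        AlgSt.LocQ (AlgSp.LocP @LocallyOfFinitePresentation) f) ∧
      (AlgSt.IsSurjective (FibCat.diag f) ∧ AlgSt.LocQ (AlgSp.LocP @Flat) (FibCat.diag f) ∧
        AlgSt.LocQ (AlgSp.LocP @LocallyOfFinitePresentation) (FibCat.diag f)) := by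
  have hP := GrothLib.AlgSt.isAlgStack_fp h𝒴.isStack h𝒴.diag h𝒳 h𝒳 f f
  refine ⟨fun hf => ?_, fun ⟨⟨a1, a2, a3⟩, b1, b2, b3⟩ => ?_⟩
  · have h := GrothLib.AlgSt.Section.diag_props h𝒳 h𝒴 f hf
    have hq := GrothLib.AlgSt.Section.locQ_props h𝒳 h𝒴 f hf
    exact ⟨⟨GrothLib.AlgSt.Section.isSurjective_of_gerbe f hf.1, hq.1, hq.2.1⟩,
      GrothLib.AlgSt.Section.isSurjective_diag h𝒳 h𝒴 f hf,
      GrothLib.AlgSt.locQ_of_repByAlgSpWith GrothLib.AlgSp.isSmoothLocalST_flat hP h.1,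
      GrothLib.AlgSt.locQ_of_repByAlgSpWith GrothLib.AlgSp.isSmoothLocalST_lfp hP h.2.1⟩
  · exact ⟨GrothLib.AlgSt.locSurjObj_of_liftsFppf h𝒴.isStack.1
        (GrothLib.AlgSt.liftsFppf_of_locQ_surjective h𝒴 h𝒳 f a2 a3 a1),
      GrothLib.AlgSt.locSurjHom_of_diag h𝒴.isStack.1
        (GrothLib.AlgSt.locSurjObj_of_liftsFppf hP.isStack.1
          (GrothLib.AlgSt.liftsFppf_of_locQ_surjective hP h𝒳 _ b2 b3 b1))⟩

end Groth.Agent.S16860
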