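import Groth.Statements.S16863
import Groth.Agent.Lib.AlgSt.Gerbe.Props
import Groth.Agent.Lib.FibCat.Comparison


set_option autoImplicit false
set_option backward.isDefEq.respectTransparency false
set_option backward.isDefEq.respectTransparency.types false
universe u
open CategoryTheory AlgebraicGeometry
open Gerb

namespace Groth.Agent.S16863

/-- If f makes 𝒳 a gerbe over 𝒴, then for morphisms x₁ : T₁ → 𝒳, x₂ : T₂ → 𝒳 from algebraic spaces the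
comparison morphism T₁ ×_𝒳 T₂ → T₁ ×_𝒴 T₂ (induced by the two projections and the 2-isomorphism
obtained by applying f to the canonical one) is surjective, flat and locally of finite presentation. -/
theorem result
    (S : Scheme.{u}) (𝒳 𝒴 : AlgSt.Cat S)
    (h𝒳 : AlgSt.IsAlgStack Scheme.fppfPrecoverage 𝒳) (h𝒴 : AlgSt.IsAlgStack Scheme.fppfPrecoverage 𝒴)
    (f : 𝒳 ⥤ᵇ 𝒴) (hf : Gerb.IsGerbeOver (QuotSh.J Scheme.fppfPrecoverage S) f)
    (T₁ T₂ : AlgSp.Space S) (x₁ : AlgSt.ofSp T₁.obj ⥤ᵇ 𝒳) (x₂ : AlgSt.ofSp T₂.obj ⥤ᵇ 𝒳)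
    (e : BasedFunctor.comp (FibCat.fpFst x₁ x₂) (BasedFunctor.comp x₁ f) ≅
      BasedFunctor.comp (FibCat.fpSnd x₁ x₂) (BasedFunctor.comp x₂ f))
    (he : ∀ a, e.hom.toNatTrans.app a = f.map a.obj.iso.hom) :
    AlgSt.IsSurjective (FibCat.fpLift (FibCat.fpFst x₁ x₂) (FibCat.fpSnd x₁ x₂) e) ∧
      AlgSt.LocQ (AlgSp.LocP @Flat) (FibCat.fpLift (FibCat.fpFst x₁ x₂) (FibCat.fpSnd x₁ x₂) e) ∧
      AlgSt.LocQ (AlgSp.LocP @LocallyOfFinitePresentation)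
        (FibCat.fpLift (FibCat.fpFst x₁ x₂) (FibCat.fpSnd x₁ x₂) e) := by
  obtain ⟨d1, d2, d3⟩ := GrothLib.AlgSt.Section.diag_props h𝒳 h𝒴 f hf
  let K := GrothLib.FibCat.Cmp.fpToFp x₁ x₂ f
  let L := FibCat.fpLift (FibCat.fpFst x₁ x₂) (FibCat.fpSnd x₁ x₂) e
  let i : K ≅ L := GrothLib.FibCat.natIsoOfComponents
    (fun a => GrothLib.FibCat.Fp.isoMk (a := K.obj a) (b := L.obj a) (Iso.refl _) (Iso.refl _) (by
      change f.map (x₁.map (𝟙 _)) ≫ e.hom.toNatTrans.app a = f.map a.obj.iso.hom ≫ f.map (x₂.map (𝟙 _))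
      rw [he a, x₁.map_id, x₂.map_id, f.map_id, f.map_id]
      exact (Category.id_comp _).trans (Category.comp_id _).symm))
    (fun a => (GrothLib.FibCat.Fp.isHomLift_iff _ _).2 (IsHomLift.id rfl))
    (fun {a b} φ => GrothLib.FibCat.Fp.hom_ext ((Category.comp_id _).trans (Category.id_comp _).symm)
      ((Category.comp_id _).trans (Category.id_comp _).symm))
  have key : ∀ {P : MorphismProperty (AlgSp.Sp S)}, AlgSt.RepByAlgSpWith P (FibCat.diag f) →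
      AlgSt.RepByAlgSpWith P L := fun {P} h => GrothLib.AlgSt.repByAlgSpWith_of_iso i
    ((GrothLib.AlgSt.repByAlgSpWith_iff_of_square (f := FibCat.fpFst (GrothLib.FibCat.Cmp.fpPair x₁ x₂ f) (FibCat.diag f))
      (f' := K) (GrothLib.FibCat.Cmp.fpToFpLift x₁ x₂ f) (BasedFunctor.id _)
      (GrothLib.FibCat.Cmp.isEquivOver_fpToFpLift (GrothLib.AlgSt.isFibGrpd_ofSp T₂.obj) x₁ x₂ f)
      (GrothLib.FibCat.IsEquivOver.refl _) (Iso.refl _)).1 (GrothLib.AlgSt.repByAlgSpWith_fpFst _ h))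
  have g1 := GrothLib.AlgSt.isFibGrpd_ofSp T₁.obj
  have g2 := GrothLib.AlgSt.isFibGrpd_ofSp T₂.obj
  have hB := GrothLib.AlgSt.isAlgStack_fp h𝒴.isStack h𝒴.diag
    (GrothLib.AlgSt.isDM_of_repByAlgSp (GrothLib.AlgSt.repByAlgSp_ofSp T₁.property)).1
    (GrothLib.AlgSt.isDM_of_repByAlgSp (GrothLib.AlgSt.repByAlgSp_ofSp T₂.property)).1
    (BasedFunctor.comp x₁ f) (BasedFunctor.comp x₂ f)
  exact ⟨(GrothLib.AlgSt.isSurjective_iff_repByAlgSpWith (GrothLib.FibCat.Fp.isFibGrpd g1 g2 h𝒳.isStack.1)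
      hB.isStack.1 L (GrothLib.AlgSt.repByAlgSp1_of_repByAlgSpWith (key d1))).2 (key d3),
    GrothLib.AlgSt.locQ_of_repByAlgSpWith GrothLib.AlgSp.isSmoothLocalST_flat hB (key d1),
    GrothLib.AlgSt.locQ_of_repByAlgSpWith GrothLib.AlgSp.isSmoothLocalST_lfp hB (key d2)⟩

end Groth.Agent.S16863
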