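import Groth.Statements.S16865
import Groth.Agent.Lib.AlgSt.Gerbe.Lifting
import Groth.Agent.Lib.AlgSt.DescLocQ


set_option autoImplicit false
set_option backward.isDefEq.respectTransparency false
set_option backward.isDefEq.respectTransparency.types false
universe u
open CategoryTheory AlgebraicGeometry
open Gerb

namespace Groth.Agent.S16865

/-- Being a gerbe descends along a surjective, flat, locally finitely presented base change: if g : 𝒴' →
𝒴 is such a morphism of algebraic stacks and 𝒴' ×_𝒴 𝒳 is a gerbe over 𝒴' along the first projection,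
then 𝒳 is a gerbe over 𝒴 along f. -/
theorem result
    (S : Scheme.{u}) (𝒳 𝒴 𝒴' : AlgSt.Cat S)
    (h𝒳 : AlgSt.IsAlgStack Scheme.fppfPrecoverage 𝒳) (h𝒴 : AlgSt.IsAlgStack Scheme.fppfPrecoverage 𝒴)
    (h𝒴' : AlgSt.IsAlgStack Scheme.fppfPrecoverage 𝒴')
    (f : 𝒳 ⥤ᵇ 𝒴) (g : 𝒴' ⥤ᵇ 𝒴)
    (hg₁ : AlgSt.IsSurjective g) (hg₂ : AlgSt.LocQ (AlgSp.LocP @Flat) g)
    (hg₃ : AlgSt.LocQ (AlgSp.LocP @LocallyOfFinitePresentation) g)
    (h : Gerb.IsGerbeOver (QuotSh.J Scheme.fppfPrecoverage S) (FibCat.fpFst g f)) :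
    Gerb.IsGerbeOver (QuotSh.J Scheme.fppfPrecoverage S) f := by
  exact GrothLib.AlgSt.isGerbeOver_of_fpFst_of_liftsFppf h𝒳.isStack.1 h𝒴.isStack.1 h𝒴'.isStack.1
    (GrothLib.AlgSt.liftsFppf_of_locQ_surjective h𝒴 h𝒴' g hg₂ hg₃ hg₁) h

end Groth.Agent.S16865
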