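import Groth.Statements.S16867
import Groth.Agent.Lib.AlgSt.Gerbe.AutScheme


set_option autoImplicit false
set_option backward.isDefEq.respectTransparency false
set_option backward.isDefEq.respectTransparency.types false
universe u
open CategoryTheory AlgebraicGeometry
open Gerb

namespace Groth.Agent.S16867

/-- Let π : 𝒳 → U make the algebraic stack 𝒳 a gerbe over the scheme U, let x be a section of π, and let
G be a group scheme over U representing the automorphism functor of x. Then G is flat and locally of
finite presentation over U. (Stated for U a scheme and the automorphism group a scheme; in general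
both are algebraic spaces.) -/
theorem result
    (S : Scheme.{u}) (U : Over S) (𝒳 : AlgSt.Cat S) (h𝒳 : AlgSt.IsAlgStack Scheme.fppfPrecoverage 𝒳)
    (π : 𝒳 ⥤ᵇ FibCat.overCat U) (hπ : Gerb.IsGerbeOver (QuotSh.J Scheme.fppfPrecoverage S) π)
    (x : FibCat.overCat U ⥤ᵇ 𝒳) (e : BasedFunctor.comp x π ≅ BasedFunctor.id (FibCat.overCat U))
    (G : Over U.left) [GrpObj G] (r : Gerb.AutRep x (Gerb.ptsGrp U G)) :
    Flat G.hom ∧ LocallyOfFinitePresentation G.hom := by
  exact GrothLib.AlgSt.Section.autScheme_props x G h𝒳 π hπ e r

end Groth.Agent.S16867
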