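import Groth.Statements.S16872
import Groth.Agent.Lib.AlgSt.Gerbe.Rigid.Closure


set_option autoImplicit false
set_option backward.isDefEq.respectTransparency false
set_option backward.isDefEq.respectTransparency.types false
universe u
open CategoryTheory AlgebraicGeometry
open Gerb

namespace Groth.Agent.S16872

/-- On an algebraic stack with quasi-compact inertia, the residual gerbe exists at every point.
(Non-triviality of the conclusion rests on the monomorphism condition.) -/
theorem result
    (S : Scheme.{u}) (𝒳 : AlgSt.Cat S) (h𝒳 : AlgSt.IsAlgStack Scheme.fppfPrecoverage 𝒳)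
    (hI : AlgSt.IsQuasiCompactMor Scheme.fppfPrecoverage (FibCat.inertiaToBase (FibCat.toSelf 𝒳)))
    (x : AlgSt.Points 𝒳) :
    Gerb.ResGerbeExists Scheme.fppfPrecoverage 𝒳 x := by
  exact GrothLib.AlgSt.Rigid.resGerbeExists_of_qc h𝒳 hI x

end Groth.Agent.S16872
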