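import Groth.Statements.S16873
import Groth.Agent.Lib.AlgSt.Gerbe.Rigid.Existence


set_option autoImplicit false
set_option backward.isDefEq.respectTransparency false
set_option backward.isDefEq.respectTransparency.types false
universe u
open CategoryTheory AlgebraicGeometry
open Gerb

namespace Groth.Agent.S16873

/-- On a quasi-DM algebraic stack (stated with the diagonal over the base scheme locally quasi-finite,
which is equivalent to the absolute notion) the residual gerbe exists at every point; in particular
this holds for Deligne–Mumford stacks. (Non-triviality of the conclusion rests on the monomorphism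
condition.) -/
theorem result
    (S : Scheme.{u}) (𝒳 : AlgSt.Cat S) (h𝒳 : AlgSt.IsAlgStack Scheme.fppfPrecoverage 𝒳)
    (hq : AlgSt.IsQuasiDMOver 𝒳) (x : AlgSt.Points 𝒳) :
    Gerb.ResGerbeExists Scheme.fppfPrecoverage 𝒳 x := by
  exact GrothLib.AlgSt.Rigid.resGerbeExists_all h𝒳 x

end Groth.Agent.S16873
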