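import Groth.Statements.S16875
import Groth.Agent.Lib.AlgSt.Gerbe.Rigid.Dense


set_option autoImplicit false
set_option backward.isDefEq.respectTransparency false
set_option backward.isDefEq.respectTransparency.types false
universe u
open CategoryTheory AlgebraicGeometry
open Gerb

namespace Groth.Agent.S16875

/-- A reduced algebraic stack with quasi-compact inertia has a dense open substack which is a gerbe. -/
theorem result
    (S : Scheme.{u}) (𝒳 : AlgSt.Cat S) (h𝒳 : AlgSt.IsAlgStack Scheme.fppfPrecoverage 𝒳)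
    (hred : AlgSt.SmoothLocally (fun T => IsReduced T) 𝒳)
    (hI : AlgSt.IsQuasiCompactMor Scheme.fppfPrecoverage (FibCat.inertiaToBase (FibCat.toSelf 𝒳))) :
    ∃ Q : 𝒳.obj → Prop, AlgSt.IsOpenSubstack 𝒳 Q Scheme.fppfPrecoverage ∧
      Dense (Set.range (AlgSt.Points.map (AlgSt.subIncl 𝒳 Q))) ∧
      Gerb.IsAlgGerbe Scheme.fppfPrecoverage (AlgSt.fullSub 𝒳 Q) := by
  exact GrothLib.AlgSt.Rigid.exists_dense_gerbe h𝒳 hred hI

end Groth.Agent.S16875
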