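import Groth.Statements.S16877
import Groth.Agent.Lib.Stk.IsoCl


set_option autoImplicit false
set_option backward.isDefEq.respectTransparency false
set_option backward.isDefEq.respectTransparency.types false
universe u
open CategoryTheory AlgebraicGeometry Opposite
open Gerb

namespace Groth.Agent.S16877

open GrothLib

/-- If π : 𝒳 → X makes the algebraic stack 𝒳 a gerbe over the algebraic space X, then X is the fppf
sheafification of the presheaf of isomorphism classes of objects of 𝒳: the map of presheaves sending
the class of an object x to the section π(x) of X is locally surjective and locally injective.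
(Consequently the space over which a gerbe lives is determined by the gerbe.) -/
theorem result
    (S : Scheme.{u}) (𝒳 : AlgSt.Cat S) (h𝒳 : AlgSt.IsAlgStack Scheme.fppfPrecoverage 𝒳)
    [FibCat.IsFibGrpd 𝒳.p]
    (X : AlgSp.Space S) (π : 𝒳 ⥤ᵇ AlgSt.ofSp X.obj)
    (hπ : Gerb.IsGerbeOver (QuotSh.J Scheme.fppfPrecoverage S) π) :
    ∃ c : Gerb.isoClPsh 𝒳 ⟶ X.obj.obj,
      (∀ x : 𝒳.obj, c.app (op (𝒳.p.obj x)) (Quot.mk _ (Gerb.fib x)) =
          X.obj.obj.map (eqToHom (π.w_obj x).symm).op (π.obj x).sec) ∧
      Presheaf.IsLocallySurjective (QuotSh.J Scheme.fppfPrecoverage S) c ∧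
      Presheaf.IsLocallyInjective (QuotSh.J Scheme.fppfPrecoverage S) c := by
  exact ⟨Stk.IsoCl.toPsh π, fun x => rfl, Stk.IsoCl.isLocallySurjective π hπ, Stk.IsoCl.isLocallyInjective π hπ⟩

end Groth.Agent.S16877
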