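import Groth.Statements.S16879
import Groth.Agent.Lib.AlgSt.IsoNat.BGVert
import Groth.Agent.S12836
import Groth.Agent.Lib.Stk.Gerbe


set_option autoImplicit false
set_option backward.isDefEq.respectTransparency false
set_option backward.isDefEq.respectTransparency.types false
universe u
open CategoryTheory AlgebraicGeometry
open Gerb

namespace Groth.Agent.S16879

open GrothLib.FibCat GrothLib.Stk GrothLib.IsoNat MonObj

/-- The point of the base over `V`. -/
def pt {S₀ : Scheme.{u}} (V : Over S₀) : Over (Over.mk (𝟙 S₀)) := Over.mk (Over.homMk V.hom (Category.comp_id _) : V ⟶ Over.mk (𝟙 S₀))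

theorem ptHom_ext {S₀ : Scheme.{u}} {V : Over S₀} (f g : V ⟶ Over.mk (𝟙 S₀)) : f = g :=
  Over.OverMorphism.ext (by
    have hf := Over.w f; have hg := Over.w g
    exact (Category.comp_id _).symm.trans (hf.trans (hg.symm.trans (Category.comp_id _))))

/-- The morphism of points. -/
def ptMap {S₀ : Scheme.{u}} {W V : Over S₀} (r : W ⟶ V) : pt W ⟶ pt V := Over.homMk r (ptHom_ext _ _)

/-- The pullbacks of a section. -/
noncomputable def secBase {S₀ : Scheme.{u}} {𝒳 : AlgSt.Cat S₀} (x : FibCat.overCat (Over.mk (𝟙 S₀)) ⥤ᵇ 𝒳) :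
    Neutral.Base 𝒳 where
  obj V := x.obj (pt V)
  map {W V} r := x.map (ptMap r)
  lift {W V} r := by
    have : (FibCat.overCat (Over.mk (𝟙 S₀))).p.IsHomLift r (ptMap r) :=
      IsHomLift.map (FibCat.overCat (Over.mk (𝟙 S₀))).p (ptMap r)
    exact BasedFunctor.preserves_isHomLift x _ _
  map_id V := by rw [show ptMap (𝟙 V) = 𝟙 (pt V) from Over.OverMorphism.ext rfl]; exact x.map_id _
  map_comp {U W V} s r := by
    rw [show ptMap (s ≫ r) = ptMap s ≫ ptMap r from Over.OverMorphism.ext rfl]; exact x.map_comp _ _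

theorem trivSieve_secBase {S₀ : Scheme.{u}} {𝒳 : AlgSt.Cat S₀} (hG : _root_.FibCat.IsFibGrpd 𝒳.p)
    (π : 𝒳 ⥤ᵇ FibCat.overCat (Over.mk (𝟙 S₀)))
    (hπ : Gerb.IsGerbeOver (QuotSh.J Scheme.fppfPrecoverage S₀) π)
    (x : FibCat.overCat (Over.mk (𝟙 S₀)) ⥤ᵇ 𝒳) (a : 𝒳.obj) (T : Over S₀) (ha : 𝒳.p.obj a = T) :
    Neutral.trivSieve (secBase x) a T ∈ QuotSh.J Scheme.fppfPrecoverage S₀ T := by
  have hB := (secBase x).lies T
  have h1 : (π.obj ((secBase x).obj T)).left = T := (π.w_obj _).trans hB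
  have h2 : (π.obj a).left = T := (π.w_obj _).trans ha
  let b : π.obj ((secBase x).obj T) ⟶ π.obj a := Over.homMk (eqToHom (h1.trans h2.symm)) (ptHom_ext _ _)
  have hb : (FibCat.overCat (Over.mk (𝟙 S₀))).p.IsHomLift (𝟙 T) b :=
    IsHomLift.of_fac' _ _ _ h1 h2 (by rw [Category.id_comp, eqToHom_trans]; rfl)
  obtain ⟨R, hR, h⟩ := GrothLib.Stk.Gerbe.exists_local_hom hπ.2 hB b hb
  refine (QuotSh.J Scheme.fppfPrecoverage S₀).superset_covering ?_ hR
  intro V f hf
  obtain ⟨x₀, φ, ψ, hφ, hψ, -⟩ := h f hf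
  have := (secBase x).lift f
  obtain ⟨i, hi, -⟩ := IsFibGrpd.exists_iso_of_lifts hG f φ ((secBase x).map f)
  exact ⟨⟨i.hom ≫ ψ, IsHomLift.comp_lift_id_left' 𝒳.p V i.hom f ψ⟩⟩

/-- The automorphisms of a pullback of the section are the points of the group. -/
noncomputable def secEquiv {S₀ : Scheme.{u}} {𝒳 : AlgSt.Cat S₀} (hG : _root_.FibCat.IsFibGrpd 𝒳.p)
    (x : FibCat.overCat (Over.mk (𝟙 S₀)) ⥤ᵇ 𝒳) {G : Over S₀} [GrpObj G]
    (r : Gerb.AutRep x (Gerb.ptsGrp (Over.mk (𝟙 S₀)) G)) (V : Over S₀) :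
    (V ⟶ G) ≃ Neutral.Vert (secBase x) V :=
  ((Equiv.inv (V ⟶ G)).trans (r.iso (pt V)).toEquiv).trans
    ((Equiv.ofBijective _ (GrothLib.Axes.autCoe_bijective hG (Gerb.fib (x.obj (pt V))))).trans
      { toFun := fun a => ⟨a.1, GrothLib.Axes.vert_lift hG ((secBase x).lies V) a.2⟩
        invFun := fun s => ⟨s.1, GrothLib.Axes.map_vert hG s.2⟩
        left_inv := fun _ => rfl
        right_inv := fun _ => rfl })

theorem secEquiv_val {S₀ : Scheme.{u}} {𝒳 : AlgSt.Cat S₀} (hG : _root_.FibCat.IsFibGrpd 𝒳.p)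
    (x : FibCat.overCat (Over.mk (𝟙 S₀)) ⥤ᵇ 𝒳) {G : Over S₀} [GrpObj G]
    (r : Gerb.AutRep x (Gerb.ptsGrp (Over.mk (𝟙 S₀)) G)) (V : Over S₀) (g : V ⟶ G) :
    (secEquiv hG x r V g).1 = (r.iso (pt V) (g⁻¹ : V ⟶ G)).hom.1 := rfl

/-- A gerbe over the base scheme S with a section x is a classifying stack: if G is a group scheme
affine over S representing the automorphism functor of x, then 𝒳 is equivalent over (Sch/S) to
[S/G], the stack of fppf G-torsors. (The source allows any algebraic space as the base, lets G be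
the group algebraic space of automorphisms, and its equivalence is a named one; here the base is S
itself, G is an affine group scheme, and existence of an equivalence is asserted.) -/
theorem result
    (S : Scheme.{u}) (𝒳 : AlgSt.Cat S) (h𝒳 : AlgSt.IsAlgStack Scheme.fppfPrecoverage 𝒳)
    (π : 𝒳 ⥤ᵇ FibCat.overCat (Over.mk (𝟙 S)))
    (hπ : Gerb.IsGerbeOver (QuotSh.J Scheme.fppfPrecoverage S) π)
    (x : FibCat.overCat (Over.mk (𝟙 S)) ⥤ᵇ 𝒳)
    (e : BasedFunctor.comp x π ≅ BasedFunctor.id (FibCat.overCat (Over.mk (𝟙 S))))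
    (G : Over S) [GrpObj G] [IsAffineHom G.hom]
    (r : Gerb.AutRep x (Gerb.ptsGrp (Over.mk (𝟙 S)) G)) :
    AlgSt.IsQuotientOf Scheme.fppfPrecoverage G (AlgSt.trivAction G) 𝒳 := by
  have hst := h𝒳.isStack
  have hstB := Groth.Agent.S12836.result S G _ (AlgSt.trivAction G)
  let M : Neutral.AutMatch (bgBase G) (secBase x) :=
    { θ := fun V => (bgVertEquiv G V).trans (secEquiv hst.1 x r V)
      map_comp := fun V s t => Subtype.ext (by
        change (secEquiv hst.1 x r V (bgVertEquiv G V ((bgBase G).comp s t))).1 =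
          (secEquiv hst.1 x r V (bgVertEquiv G V s)).1 ≫ (secEquiv hst.1 x r V (bgVertEquiv G V t)).1
        rw [show bgVertEquiv G V ((bgBase G).comp s t) = _ from bgVertPt_comp s t, secEquiv_val, mul_inv_rev]
        refine (congrArg (fun α => α.hom.1) ((r.iso (pt V)).map_mul _ _)).trans ?_
        rfl)
      natural := fun {W V} q s' s e => by
        simp only [Equiv.trans_apply]
        rw [secEquiv_val, secEquiv_val]
        rw [show bgVertEquiv G W s' = _ from bgVertPt_res q s' s e]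
        have := r.natural (ptMap q) ((bgVertEquiv G V s)⁻¹ : V ⟶ G)
        rw [show ((Gerb.ptsGrp (Over.mk (𝟙 S)) G).map (ptMap q).op) ((bgVertEquiv G V s)⁻¹ : V ⟶ G) =
          ((q ≫ bgVertPt s)⁻¹ : W ⟶ G) from GrpObj.comp_inv (G := G) q (bgVertPt s)] at this
        exact this }
  exact Neutral.exists_isEquivOver_of_autMatch hstB hst trivSieve_bgBase (trivSieve_secBase hst.1 π hπ x) M

end Groth.Agent.S16879
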