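import Groth.Statements.S1688
import Groth.Agent.Lib.Ref1.Frame
import Groth.Agent.Lib.Ref1.Extend

set_option autoImplicit false
universe u
open CategoryTheory CategoryTheory.Limits AlgebraicGeometry TopologicalSpace
open SDiv

namespace Groth.Agent.S1688

/-- Let X be a locally Noetherian integral scheme of dimension at most 1 all of whose local rings are
regular, and F a coherent module on X. Then F is torsion free (every stalk is a torsion-free module
over the local ring) if and only if F is finite locally free. -/
theorem result (X : Scheme.{u}) [IsIntegral X] [IsLocallyNoetherian X] (hreg : ∀ x : ↥X, IsRegularLocalRing (X.presheaf.stalk x))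
    (hdim : topologicalKrullDim ↥X ≤ 1) (F : X.Modules) (hF : Coh.IsCoh F) :
    (∀ x : ↥X, NoZeroSMulDivisors (X.presheaf.stalk x) (F.presheaf.stalk x)) ↔ FlatMod.IsFinLocFree F := by
  have hrel := GrothLib.HomSh.hasRel_of_isCoh hF
  rw [GrothLib.Ref1.isFinLocFree_iff_free hrel]
  constructor
  · intro h x
    have := h x
    have := hreg x
    have := GrothLib.CMFree.isDomain_of_isRegularLocalRing (X.presheaf.stalk x)
    have : Module.IsTorsionFree (X.presheaf.stalk x) (F.presheaf.stalk x) :=
      .of_smul_eq_zero fun a v hav => smul_eq_zero.1 hav
    have := hrel.span_stalk x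
    exact GrothLib.Ref1.free_of_isTorsionFree_dim_one
      ((GrothLib.Ref1.ringKrullDim_stalk_le_topologicalKrullDim x).trans hdim) _
  · intro h x
    have := h x
    have := hreg x
    have := GrothLib.CMFree.isDomain_of_isRegularLocalRing (X.presheaf.stalk x)
    exact ⟨fun {a v} hav => smul_eq_zero.1 hav⟩

end Groth.Agent.S1688
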