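import Groth.Statements.S16880
import Groth.Agent.Lib.AlgSt.Gerbe.Neut.Relative


set_option autoImplicit false
set_option backward.isDefEq.respectTransparency false
set_option backward.isDefEq.respectTransparency.types false
universe u
open CategoryTheory AlgebraicGeometry
open Gerb

namespace Groth.Agent.S16880

/-- A morphism π : 𝒳 → 𝒴 of algebraic stacks makes 𝒳 a gerbe over 𝒴 if and only if, after base change
along some surjective, flat, locally finitely presented morphism U → 𝒴 from an algebraic space, 𝒳
becomes equivalent over U to a classifying stack [U/G], where G is a group algebraic space over U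
that is flat over U and locally of finite presentation. (Here [U/G] is the stack of fppf-locally
trivial G-torsors given as fppf sheaves over U; 'over U' means the equivalence followed by the
projection to U is 2-isomorphic to the structure functor of [U/G].) -/
theorem result
    (S : Scheme.{u}) (𝒳 𝒴 : AlgSt.Cat S)
    (h𝒳 : AlgSt.IsAlgStack Scheme.fppfPrecoverage 𝒳) (h𝒴 : AlgSt.IsAlgStack Scheme.fppfPrecoverage 𝒴)
    (π : 𝒳 ⥤ᵇ 𝒴) :
    Gerb.IsGerbeOver (QuotSh.J Scheme.fppfPrecoverage S) π ↔
      ∃ (U : AlgSp.Space S) (G : Over U.obj) (_ : GrpObj G),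
        AlgSp.IsAlgSpace G.left ∧ AlgSp.LocP @Flat G.hom ∧ AlgSp.LocP @LocallyOfFinitePresentation G.hom ∧
        ∃ u : AlgSt.ofSp U.obj ⥤ᵇ 𝒴,
          AlgSt.RepByAlgSpWith (AlgSp.LocP @Flat) u ∧
          AlgSt.RepByAlgSpWith (AlgSp.LocP @LocallyOfFinitePresentation) u ∧
          AlgSt.RepByAlgSpWith AlgSp.IsSurjectiveMor u ∧
          ∃ e : AlgSt.SpBG Scheme.fppfPrecoverage G ⥤ᵇ FibCat.fp u π,
            FibCat.IsEquivOver e ∧
            Nonempty (BasedFunctor.comp e (FibCat.fpFst u π) ≅
              W4stkstmgerbes.spQuotToBase Scheme.fppfPrecoverage G (AlgSt.trivGAction G)) := by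
  exact GrothLib.AlgSt.Neut.isGerbeOver_iff_fp_spBG h𝒳 h𝒴 π

end Groth.Agent.S16880
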