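import Groth.Statements.S16894
import Groth.Agent.Lib.Kleiman.Kleiman

set_option autoImplicit false
set_option linter.all false
universe u
open CategoryTheory CategoryTheory.Limits AlgebraicGeometry
open Vanish

namespace Groth.Agent.S16894

/-- Let k be an algebraically closed field and X an irreducible proper smooth k-scheme of dimension n
with an ample invertible O_X-module A (a projective manifold), and let L be an invertible
O_X-module. Then L is numerically effective, i.e. the degree of the pullback of L to every integral
one-dimensional closed subscheme Y ⊆ X is non-negative, if and only if L^⊗ν ⊗ A is ample for every ν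
> 0. (The published lemma says 'for an ample sheaf A'; the equivalence is stated here for any given
ample A, which is what the argument gives.) -/
theorem result (k : Type u) [Field k] [IsAlgClosed k]
    (X : Scheme.{u}) [X.Over (Spec (CommRingCat.of k))] [IsProper (X ↘ Spec (CommRingCat.of k))]
    [Smooth (X ↘ Spec (CommRingCat.of k))] [IrreducibleSpace X] (n : ℕ) (hn : topologicalKrullDim X = n)
    (A : X.Modules) (hA : CohB1.IsAmple A) (L : X.Modules) (hL : PicF.IsInvertible L) :
    (∀ (Y : Scheme.{u}) (i : Y ⟶ X) [IsClosedImmersion i], IsIntegral Y → topologicalKrullDim Y = 1 →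
      0 ≤ Pic13.curveDeg k (i ≫ (X ↘ Spec (CommRingCat.of k))) ((Scheme.Modules.pullback i).obj L)) ↔
      ∀ ν : ℕ, 0 < ν → CohB1.IsAmple (CohB1.tensorMod (CohB1.tensorPow L ν) A) := by
  have hinv : ∀ ν, PicF.IsInvertible (CohB1.tensorMod (CohB1.tensorPow L ν) A) := fun ν =>
    GrothLib.Ample.isInvertible_tensorMod (GrothLib.Ample.isInvertible_tensorPow hL ν) hA.1
  refine ⟨fun hn ν hν => GrothLib.Kleiman.isAmple_of_nef k hL hn hA (hinv ν) (p := ν) (q := 1) one_pos ?_,
    fun h => GrothLib.Kleiman.isNef_of_isAmple k hL hA h⟩
  rw [GrothLib.Cube.clsMod_tensorMod (GrothLib.Ample.isInvertible_tensorPow hL ν) hA.1,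
    GrothLib.Cube.clsMod_tensorPow, pow_one]

end Groth.Agent.S16894
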