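import Groth.Statements.S16896
import Groth.Agent.Lib.NefGrowth.Big
import Groth.Agent.Lib.NefGrowth.IntNum
import Groth.Agent.Lib.Euler.Rank

set_option autoImplicit false
set_option linter.all false
universe u
open CategoryTheory CategoryTheory.Limits AlgebraicGeometry
open Vanish

namespace Groth.Agent.S16896

/-- Let k be an algebraically closed field of characteristic zero and X an irreducible proper smooth
k-scheme of dimension n with an ample invertible O_X-module (a projective manifold). Let L be a
numerically effective invertible O_X-module (non-negative degree on every integral one-dimensional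
closed subscheme) and L⁻¹ a tensor inverse of L. Then the Iitaka dimension of L equals n, expressed
by the equivalent condition that some L^⊗ν with ν > 0 receives a monomorphism from an ample
invertible module (L^⊗ν ≅ A(C) with A ample and C effective), if and only if the self-intersection
number c_1(L)^n = ∫ c_1(L)^n · [O_X] (the alternating sum of Euler characteristics attached to n
copies of L⁻¹) is positive. (Only the characteristic-zero case is stated; the
positive-characteristic case assumes a lifting to the Witt vectors of length two.) -/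
theorem result (k : Type u) [Field k] [IsAlgClosed k] [CharZero k]
    (X : Scheme.{u}) [X.Over (Spec (CommRingCat.of k))] [IsProper (X ↘ Spec (CommRingCat.of k))]
    [Smooth (X ↘ Spec (CommRingCat.of k))] [IrreducibleSpace X] (n : ℕ) (hn : topologicalKrullDim X = n)
    (H : X.Modules) (hH : CohB1.IsAmple H) (L Linv : X.Modules) (hL : PicF.IsInvertible L) (hLinv : ClSub.IsInverseOf Linv L)
    (hnef : (∀ (Y : Scheme.{u}) (i : Y ⟶ X) [IsClosedImmersion i], IsIntegral Y → topologicalKrullDim Y = 1 →
      0 ≤ Pic13.curveDeg k (i ≫ (X ↘ Spec (CommRingCat.of k))) ((Scheme.Modules.pullback i).obj L))) :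
    (∃ (ν : ℕ) (A : X.Modules) (φ : A ⟶ CohB1.tensorPow L ν), 0 < ν ∧ CohB1.IsAmple A ∧ Mono φ) ↔
      0 < FGA.intNum k X n (fun _ : Fin n => Linv) (Coh.structureModule X) := by
  haveI : IsReduced X := GrothLib.RedSmooth.isReduced_of_smooth (X ↘ Spec (CommRingCat.of k))
  haveI : AlgebraicGeometry.IsIntegral X := isIntegral_of_irreducibleSpace_of_isReduced X
  haveI := GrothLib.Euler.isNoetherian_of_proper (X := X) k
  have hO := GrothLib.Kleiman.isCoh_O (X := X) k
  have hd : GrothLib.Snapper.DimLT (CohB1.support (Coh.structureModule X)) (n + 1) :=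
    (GrothLib.Kleiman.dimLT_univ hn.le).mono fun _ _ => trivial
  have key : (FGA.intNum k X n (fun _ : Fin n => Linv) (Coh.structureModule X) : ℚ) =
      GrothLib.Snapper.mixed n (GrothLib.Snapper.phi k n (fun _ => L) (Coh.structureModule X)) :=
    GrothLib.NefGrowth.intNum_eq_mixed k hH hn.le hL hLinv hO hd
  constructor
  · rintro ⟨ν, A, φ, hν, hA, hφ⟩
    have hle : GrothLib.Kodaira.PLe (GrothLib.Cube.clsMod hA.1) (GrothLib.Cube.clsMod hL ^ ν) := by
      rw [← GrothLib.Cube.clsMod_tensorPow hL]
      exact (GrothLib.Kodaira.pLe_iff hA.1 _).2 ⟨φ, hφ⟩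
    have h := GrothLib.NefGrowth.mixed_pos_of_pLe k hn hL hnef hA hle
    rw [← key] at h
    exact_mod_cast h
  · intro hpos
    obtain ⟨μ, hμ, hle⟩ := GrothLib.NefGrowth.exists_mono_of_mixed_pos k hn hL hnef hH
      (by rw [← key]; exact_mod_cast hpos)
    rw [← GrothLib.Cube.clsMod_tensorPow hL] at hle
    obtain ⟨φ, hφ⟩ := (GrothLib.Kodaira.pLe_iff hH.1 _).1 hle
    exact ⟨μ, H, φ, hμ, hH, hφ⟩

end Groth.Agent.S16896
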