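import Groth.Statements.S1690
import Groth.Agent.Lib.Ref1.Frame
import Groth.Agent.Lib.Ref1.Extend

set_option autoImplicit false
universe u
open CategoryTheory CategoryTheory.Limits AlgebraicGeometry TopologicalSpace
open SDiv

namespace Groth.Agent.S1690

/-- (1) if and only if (3): let X be an integral locally Noetherian normal scheme and F a coherent
module. Then F is reflexive (stalkwise) if and only if there is an open subscheme j : U ⟶ X such
that every point outside U has local ring of dimension at least 2, the restriction of F to U is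
finite locally free, and the canonical map F ⟶ j_* j^* F is an isomorphism. -/
theorem result (X : Scheme.{u}) [IsIntegral X] [IsLocallyNoetherian X] (hX : Pi1.IsNormalScheme X)
    (F : X.Modules) (hF : Coh.IsCoh F) :
    (∀ x : ↥X, Module.IsReflexive (X.presheaf.stalk x) (F.presheaf.stalk x)) ↔
      ∃ U : X.Opens, (∀ x : ↥X, x ∉ U → (2 : WithBot ℕ∞) ≤ ringKrullDim (X.presheaf.stalk x)) ∧
        FlatMod.IsFinLocFree (F.restrict U.ι) ∧ IsIso ((Scheme.Modules.restrictAdjunction U.ι).unit.app F) := by
  have hrel := GrothLib.HomSh.hasRel_of_isCoh hF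
  have := hF.1
  constructor
  · intro hR
    refine ⟨⟨_, GrothLib.Ref1.isOpen_free hrel⟩, fun x hx => GrothLib.Ref1.two_le_of_not_le_one fun hd => hx ?_,
      GrothLib.Ref1.isFinLocFree_restrict_of_free hrel _ fun x hx => hx, ?_⟩
    · have : IsDomain (X.presheaf.stalk x) := (hX x).1
      have := hR x
      have := GrothLib.Ref1.isTorsionFree_of_isReflexive (X.presheaf.stalk x) (F.presheaf.stalk x)
      exact GrothLib.Ref1.free_of_dim_le_one hX hrel hd
    · rw [Scheme.Modules.Hom.isIso_iff_isIso_app]
      intro W
      rw [ConcreteCategory.isIso_iff_bijective, Scheme.Modules.restrictAdjunction_unit_app_app]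
      refine GrothLib.Ref1.bijective_res_of_isReflexiveAt hX hrel _ (fun y _ => hR y) fun y hy hyU => ?_
      refine GrothLib.Ref1.two_le_of_not_le_one fun hd => hyU ⟨⟨y, ?_⟩, hy, rfl⟩
      have : IsDomain (X.presheaf.stalk y) := (hX y).1
      have := hR y
      have := GrothLib.Ref1.isTorsionFree_of_isReflexive (X.presheaf.stalk y) (F.presheaf.stalk y)
      exact GrothLib.Ref1.free_of_dim_le_one hX hrel hd
  · rintro ⟨U, hU, hfree, hiso⟩ x
    rw [Scheme.Modules.Hom.isIso_iff_isIso_app] at hiso
    have hbij : ∀ W : X.Opens, Function.Bijective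
        (F.presheaf.map (homOfLE (inf_le_left : W ⊓ U ≤ W)).op) := fun W => by
      have h := hiso W
      rw [ConcreteCategory.isIso_iff_bijective, Scheme.Modules.restrictAdjunction_unit_app_app] at h
      have e : U.ι ''ᵁ U.ι ⁻¹ᵁ W = W ⊓ U := by
        rw [Scheme.Hom.image_preimage_eq_opensRange_inf, Scheme.Opens.opensRange_ι, inf_comm]
      have key : ∀ (V : X.Opens) (i : V ≤ W), V = W ⊓ U → Function.Bijective (F.presheaf.map (homOfLE i).op) →
          Function.Bijective (F.presheaf.map (homOfLE (inf_le_left : W ⊓ U ≤ W)).op) := by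
        rintro V i rfl h; exact h
      exact key _ _ e h
    have hfr : ∀ y ∈ U, Module.Free (X.presheaf.stalk y) (F.presheaf.stalk y) :=
      GrothLib.Ref1.free_of_isFinLocFree_restrict U hfree
    have hR : ∀ y ∈ U, Module.IsReflexive (X.presheaf.stalk y) (F.presheaf.stalk y) := fun y hy => by
      have := hfr y hy
      have := hrel.span_stalk y
      infer_instance
    have hsp : ∀ y ∈ U, Function.Injective (GrothLib.Ref1.sp F (GrothLib.Ref1.hη y)) := fun y hy => by
      have := hR y hy
      have := GrothLib.Ref1.isTorsionFree_of_isReflexive (X.presheaf.stalk y) (F.presheaf.stalk y)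
      exact GrothLib.Ref1.sp_injective F y
    have htf : ∀ y : X, Module.IsTorsionFree (X.presheaf.stalk y) (F.presheaf.stalk y) := fun y => by
      refine GrothLib.Ref1.isTorsionFree_of_sp_injective ((injective_iff_map_eq_zero _).2 fun v hv => ?_)
      obtain ⟨W, hyW, s, rfl⟩ := TopCat.Presheaf.exists_germ_eq F.presheaf v
      rw [GrothLib.Ref1.sp_germ] at hv
      have h0 : F.presheaf.map (homOfLE (inf_le_left : W ⊓ U ≤ W)).op s = 0 := by
        refine GrothLib.Ref1.section_ext_generic (W := W ⊓ U) (fun z hz => hsp z hz.2) fun z hz => ?_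
        rw [TopCat.Presheaf.germ_res_apply, map_zero, map_zero, GrothLib.Ref1.sp_germ]
        exact hv
      rw [(hbij W).1 (h0.trans (map_zero _).symm), map_zero]
    exact GrothLib.Ref1.isReflexiveAt_of_extend hF htf hU hR (fun W => (hbij W).2) x

end Groth.Agent.S1690
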