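import Groth.Statements.S16901
import Groth.Agent.Lib.Kodaira.Big

set_option autoImplicit false
set_option linter.all false
universe u
open CategoryTheory CategoryTheory.Limits AlgebraicGeometry
open Vanish

namespace Groth.Agent.S16901

/-- Let k be an algebraically closed field and X an integral proper k-scheme of dimension n with an
ample invertible O_X-module (a projective variety, not assumed non-singular), and let L be an
invertible O_X-module. The Iitaka dimension of L is n, in the growth form the text adopts as its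
working definition (for some ν > 0 there is a constant a > 0 with μ^n ≤ a · dim_k H^0(X, L^⊗νμ) for
all μ ≥ 1), if and only if for some ν > 0 there are an ample invertible module A and a monomorphism
A → L^⊗ν (that is, L^⊗ν(−C) is ample for some effective divisor C). -/
theorem result (k : Type u) [Field k] [IsAlgClosed k]
    (X : Scheme.{u}) [X.Over (Spec (CommRingCat.of k))] [IsIntegral X] [IsProper (X ↘ Spec (CommRingCat.of k))]
    (n : ℕ) (hn : topologicalKrullDim X = n) (H : X.Modules) (hH : CohB1.IsAmple H)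
    (L : X.Modules) (hL : PicF.IsInvertible L) :
    (∃ ν a : ℕ, 0 < ν ∧ 0 < a ∧ ∀ μ : ℕ, 1 ≤ μ →
        μ ^ n ≤ a * Module.finrank k (Coh.HH X (CohB1.tensorPow L (ν * μ)) 0)) ↔
      ∃ (ν : ℕ) (A : X.Modules) (φ : A ⟶ CohB1.tensorPow L ν), 0 < ν ∧ CohB1.IsAmple A ∧ Mono φ := by
  open GrothLib in
  constructor
  · rintro ⟨ν, a, hν, ha, h⟩
    obtain ⟨μ, hμ, φ, hφ⟩ := Kodaira.exists_mono_of_growth k hn hH hL (ν := ν) (c := 1 / (a : ℚ))
      (by positivity) (N := 1) (fun μ hμ => by
        rw [div_mul_eq_mul_div, one_mul, div_le_iff₀ (by positivity), mul_comm]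
        exact_mod_cast h μ hμ)
    exact ⟨ν * μ, H, φ, Nat.mul_pos hν hμ, hH, hφ⟩
  · rintro ⟨ν, A, φ, hν, hA, hφ⟩
    obtain ⟨c, N, hc, hN⟩ := Kodaira.exists_h0_pow_ge k hA hn
    refine ⟨ν * (N + 1), ⌈1 / c⌉₊, Nat.mul_pos hν N.succ_pos, Nat.ceil_pos.2 (by positivity), fun μ hμ => ?_⟩
    set M := (N + 1) * μ with hM
    have hLν := Ample.isInvertible_tensorPow hL ν
    have h1 : Kodaira.h0 k (CohB1.tensorPow A M) ≤ Kodaira.h0 k (CohB1.tensorPow L (ν * M)) := by
      obtain ⟨e⟩ := Snapper.nonempty_tensorPow_mul L ν M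
      rw [← Kodaira.h0_of_iso k e]
      refine Kodaira.h0_le_of_pLe k (Ample.isInvertible_tensorPow hA.1 M) (Ample.isInvertible_tensorPow hLν M) ?_
      rw [Cube.clsMod_tensorPow hA.1 M, Cube.clsMod_tensorPow hLν M]
      exact ((Kodaira.pLe_iff hA.1 hLν).2 ⟨φ, hφ⟩).pow M
    have h2 := hN M (le_trans N.le_succ (Nat.le_mul_of_pos_right _ hμ))
    have h3 : (μ : ℚ) ^ n ≤ (M : ℚ) ^ n := by
      refine pow_le_pow_left₀ (by positivity) ?_ n
      exact_mod_cast Nat.le_mul_of_pos_left μ N.succ_pos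
    have h4 : (μ : ℚ) ^ n ≤ (⌈1 / c⌉₊ : ℚ) * (Kodaira.h0 k (CohB1.tensorPow L (ν * M)) : ℚ) := by
      refine le_trans ?_ (mul_le_mul_of_nonneg_right (Nat.le_ceil _) (by positivity))
      rw [div_mul_eq_mul_div, one_mul, le_div_iff₀ hc, mul_comm]
      exact ((mul_le_mul_of_nonneg_left h3 hc.le).trans h2).trans (by exact_mod_cast h1)
    rw [mul_assoc, ← hM]
    unfold Kodaira.h0 at h4
    exact_mod_cast h4

end Groth.Agent.S16901
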