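import Groth.Statements.S16903
import Groth.Agent.Lib.NefGrowth.NumTriv
import Groth.Agent.Lib.Euler.Rank

set_option autoImplicit false
set_option linter.all false
universe u
open CategoryTheory CategoryTheory.Limits AlgebraicGeometry
open Vanish

namespace Groth.Agent.S16903

/-- Let k be an algebraically closed field of characteristic zero and X an irreducible proper smooth
k-scheme of dimension n with an ample invertible O_X-module (a projective manifold); let L be a
numerically effective invertible O_X-module with tensor inverse L⁻¹ and m a natural number such that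
c_1(L)^m is numerically trivial, i.e. the intersection number (L^m · V) = ∫ c_1(L)^m [O_V] vanishes
for every integral closed subscheme V ⊆ X of dimension m. Then κ(L) < m, in the growth form: there
are no ν > 0 and a > 0 with μ^m ≤ a · dim_k H^0(X, L^⊗νμ) for all μ ≥ 1. (This expresses ν(L) ≥
κ(L); only the characteristic-zero case is stated.) -/
theorem result (k : Type u) [Field k] [IsAlgClosed k] [CharZero k]
    (X : Scheme.{u}) [X.Over (Spec (CommRingCat.of k))] [IsProper (X ↘ Spec (CommRingCat.of k))]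
    [Smooth (X ↘ Spec (CommRingCat.of k))] [IrreducibleSpace X] (n : ℕ) (hn : topologicalKrullDim X = n)
    (H : X.Modules) (hH : CohB1.IsAmple H) (L Linv : X.Modules) (hL : PicF.IsInvertible L) (hLinv : ClSub.IsInverseOf Linv L)
    (hnef : (∀ (Y : Scheme.{u}) (i : Y ⟶ X) [IsClosedImmersion i], IsIntegral Y → topologicalKrullDim Y = 1 →
      0 ≤ Pic13.curveDeg k (i ≫ (X ↘ Spec (CommRingCat.of k))) ((Scheme.Modules.pullback i).obj L)))
    (m : ℕ) (hm : (∀ (V : Scheme.{u}) (i : V ⟶ X) [IsClosedImmersion i], IsIntegral V → topologicalKrullDim V = (m : ℕ) →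
      FGA.intNum k X n (fun _ : Fin m => Linv) ((Scheme.Modules.pushforward i).obj (Coh.structureModule V)) = 0)) :
    ¬ (∃ ν a : ℕ, 0 < ν ∧ 0 < a ∧ ∀ μ : ℕ, 1 ≤ μ →
        μ ^ m ≤ a * Module.finrank k (Coh.HH X (CohB1.tensorPow L (ν * μ)) 0)) := by
  haveI := GrothLib.Euler.isNoetherian_of_proper (X := X) k
  have ht : GrothLib.NefGrowth.NumTriv k m L := by
    intro V _ _ j _ hj hV hdim
    haveI := hV
    have hP : Coh.IsCoh ((Coh.push j).obj (Coh.structureModule V)) :=
      GrothLib.HodgeIndex.isCoh_push_piece k j (GrothLib.Kleiman.isCoh_O (X := V) k)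
    have hdimR : topologicalKrullDim (Set.range j : Set X) ≤ ((m : ℕ) : WithBot ℕ∞) := le_of_eq
      ((IsHomeomorph.topologicalKrullDim_eq _
        j.isClosedEmbedding.isEmbedding.toHomeomorph.isHomeomorph).symm.trans hdim)
    have hd : GrothLib.Snapper.DimLT (CohB1.support ((Coh.push j).obj (Coh.structureModule V))) (m + 1) :=
      (GrothLib.Snapper.dimLT_of_dim_le hdimR).mono (GrothLib.QCoh.support_pushforward_subset_range j _)
    have h := GrothLib.NefGrowth.intNum_eq_mixed k hH hn.le hL hLinv hP hd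
    have h0 : FGA.intNum k X n (fun _ : Fin m => Linv) ((Coh.push j).obj (Coh.structureModule V)) = 0 :=
      hm V j hV hdim
    rw [h0, Int.cast_zero] at h
    have e : GrothLib.Snapper.phi k m (fun _ => L) ((Coh.push j).obj (Coh.structureModule V)) =
        GrothLib.Snapper.phi k m (fun _ => (Scheme.Modules.pullback j).obj L) (Coh.structureModule V) :=
      funext fun l => (GrothLib.Snapper.phi_push k j hj (fun _ => hL) l).trans
        (congrArg Int.cast (GrothLib.Euler.euler_of_iso k (GrothLib.OX.tensorUnitLeftIso _).symm))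
    rw [e] at h
    exact h.symm
  rcases Nat.eq_zero_or_pos m with rfl | hm0
  · exact absurd ht (GrothLib.NefGrowth.not_numTriv_zero k hH)
  rintro ⟨ν, a, hν, ha, hgrow⟩
  obtain ⟨C, hC⟩ := GrothLib.NefGrowth.h0Hyp k hm0 n X H L hH hL hnef ht (Coh.structureModule X)
    (GrothLib.Kleiman.isCoh_O k) ((GrothLib.Kleiman.dimLT_univ hn.le).mono fun _ _ => trivial)
  obtain ⟨μ, hμ⟩ : ∃ μ, μ = a * C * (ν + 1) ^ (m - 1) + 1 := ⟨_, rfl⟩
  have h1 := hgrow μ (by omega)
  have h2 : Module.finrank k (Coh.HH X (CohB1.tensorPow L (ν * μ)) 0) ≤ C * (ν * μ + 1) ^ (m - 1) :=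
    (GrothLib.NefGrowth.hl_iso k (GrothLib.OX.tensorUnitLeftIso (CohB1.tensorPow L (ν * μ))).symm 0).le.trans
      (hC (ν * μ))
  have h3 : (ν * μ + 1) ^ (m - 1) ≤ (ν + 1) ^ (m - 1) * μ ^ (m - 1) := by
    rw [← mul_pow]
    exact Nat.pow_le_pow_left (by rw [Nat.add_mul, one_mul]; omega) _
  have h4 : μ * μ ^ (m - 1) ≤ (a * C * (ν + 1) ^ (m - 1)) * μ ^ (m - 1) := by
    rw [← pow_succ', Nat.sub_add_cancel hm0, mul_assoc a C, mul_assoc a (C * _), mul_assoc C]
    exact h1.trans (Nat.mul_le_mul_left a (h2.trans (Nat.mul_le_mul_left C h3)))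
  have h5 := Nat.le_of_mul_le_mul_right h4 (pow_pos (by omega) _)
  omega

end Groth.Agent.S16903
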