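import Groth.Statements.S16904
import Groth.Agent.S16903
import Groth.Agent.S10829
import Groth.Agent.Lib.SemiKappa12.Dichotomy
import Groth.Agent.Lib.EulerPull.PullGrowth
import Groth.Agent.Lib.FGAInt26.AlgEquiv
import Groth.Agent.Lib.Euler.InvHom
import Groth.Agent.Lib.NefGrowth.NumTriv

set_option autoImplicit false
universe u
open CategoryTheory CategoryTheory.Limits AlgebraicGeometry
open Vanish

namespace Groth.Agent.S16904

set_option maxHeartbeats 1000000
set_option backward.isDefEq.respectTransparency false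
open GrothLib in
open GrothLib.Cube (clsMod) in
open GrothLib.Snapper (DimLT phi mixed polyLT) in
/-- If `m` sections generate a power, the `m`-fold intersections on `m`-dimensional subvarieties vanish. -/
theorem intNum_eq_zero_of_generators {k : Type u} [Field k]
    {X : Scheme.{u}} [X.Over (Spec (CommRingCat.of k))] [IsProper (X ↘ Spec (CommRingCat.of k))]
    {H : X.Modules} (hH : CohB1.IsAmple H) {n : ℕ} (hn : topologicalKrullDim X = n)
    {L Linv : X.Modules} (hL : PicF.IsInvertible L) (hLinv : ClSub.IsInverseOf Linv L)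
    {μ : ℕ} (hμ : 0 < μ) (c : Ample.Cocycle X) (d : CohB1.tensorPow L μ ≅ c.twist 1) {m : ℕ}
    (b : Fin m → c.sect 1 ⊤) (hb : ⨆ j, c.locus (b j) = ⊤)
    (V : Scheme.{u}) (i : V ⟶ X) [IsClosedImmersion i] [IsIntegral V] (hdim : topologicalKrullDim V = (m : ℕ)) :
    FGA.intNum k X n (fun _ : Fin m => Linv) ((Scheme.Modules.pushforward i).obj (Coh.structureModule V)) = 0 := by
  haveI := Euler.isNoetherian_of_proper (X := X) k
  letI : V.Over (Spec (CommRingCat.of k)) := ⟨i ≫ X ↘ Spec (CommRingCat.of k)⟩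
  haveI : IsProper (V ↘ Spec (CommRingCat.of k)) := inferInstanceAs (IsProper (i ≫ X ↘ Spec (CommRingCat.of k)))
  haveI := Euler.isNoetherian_of_proper (X := V) k
  obtain ⟨p⟩ : Nonempty V := inferInstance
  obtain ⟨m, rfl⟩ : ∃ t, m = t + 1 := by
    rcases m with _ | m
    · have := hb.ge (TopologicalSpace.Opens.mem_top (i p))
      rw [iSup_of_empty] at this
      exact this.elim
    · exact ⟨m, rfl⟩
  let σ : Fin (m + 1) → ProjUP.Γm (c.twist 1) := fun j => b j
  let D := Ample.ProjMap.dataOfSections c (Iso.refl _) σ hb (X ↘ Spec (CommRingCat.of k))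
  obtain ⟨τ, -⟩ := Ample.ProjMap.exists_iso_pullback_map c (Iso.refl _) σ hb (X ↘ Spec (CommRingCat.of k))
  let g : V ⟶ CohB1.ProjSpace m k := i ≫ D.map
  haveI : IsProper (CohB1.ProjSpace m k ↘ Spec (CommRingCat.of k)) := Chow.isProper_toSpec m k
  have hg : g ≫ (CohB1.ProjSpace m k ↘ Spec (CommRingCat.of k)) = V ↘ Spec (CommRingCat.of k) := by
    show (i ≫ D.map) ≫ CohB1.ProjSpace.toSpec m k = _
    rw [Category.assoc, D.map_toSpec]
    rfl
  let M := Twist.twistProjSpace m k 1
  have hM : PicF.IsInvertible M := CMReg.isInvertible_twist (n := m) (k := k) 1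
  let Lj := (Scheme.Modules.pullback i).obj L
  have hLj : PicF.IsInvertible Lj := Kleiman.isInv_pullback i hL
  have hN := Ample.isInvertible_tensorPow hLj μ
  have hgM := Kleiman.isInv_pullback g hM
  have hcls : clsMod hN = clsMod hgM := by
    have h1 : clsMod (Kleiman.isInv_pullback i (Ample.isInvertible_tensorPow hL μ)) = clsMod hgM :=
      (Cube.clsMod_eq_iff _ _).2 ⟨(Scheme.Modules.pullback i).mapIso (d ≪≫ τ.symm) ≪≫
        (Scheme.Modules.pullbackComp i D.map).app M⟩
    rw [← h1, Cube.clsMod_pullback i (Ample.isInvertible_tensorPow hL μ), Cube.clsMod_tensorPow hLj, Cube.clsMod_tensorPow hL,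
      Cube.clsMod_pullback i hL, map_pow]
  have hO : Coh.IsCoh (Coh.structureModule V) := Kleiman.isCoh_O k
  have hmem : phi k 1 (fun _ => CohB1.tensorPow Lj μ) (Coh.structureModule V) ∈ polyLT 1 (m + 1) := by
    have h := EulerPull.euler_pullback_pow_mem k g hg
      (Kleiman.dimLT_univ (Groth.Agent.S10829.result k m).le) hM hO
    refine (congrArg (fun f => f ∈ polyLT 1 (m + 1)) (funext fun l => ?_)).mp h
    rw [Snapper.phi_const_eq, Fin.sum_univ_one]
    have hP := Ample.isInvertible_tensorPow hM (l 0)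
    obtain ⟨e⟩ : Nonempty ((Scheme.Modules.pullback g).obj (CohB1.tensorPow M (l 0)) ≅
        CohB1.tensorPow (CohB1.tensorPow Lj μ) (l 0)) :=
      (Cube.clsMod_eq_iff (Kleiman.isInv_pullback g hP) (Ample.isInvertible_tensorPow hN _)).1 (by
        rw [Cube.clsMod_pullback g hP, Cube.clsMod_tensorPow hM, Cube.clsMod_tensorPow hN, hcls,
          Cube.clsMod_pullback g hM, map_pow])
    exact congrArg Int.cast (Euler.euler_of_iso k
      ((GrTilde.tensorModComm _ _ ≪≫ OX.tensorUnitLeftIso _) ≪≫ e ≪≫ (OX.tensorUnitLeftIso _).symm))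
  have hu : DimLT (CohB1.support (Coh.structureModule V)) (m + 1 + 1) :=
    (Kleiman.dimLT_univ hdim.le).mono (Set.subset_univ _)
  have hz : mixed (m + 1) (phi k (m + 1) (fun _ => Lj) (Coh.structureModule V)) = 0 := by
    have h0 : mixed (m + 1) (phi k (m + 1) (fun _ => CohB1.tensorPow Lj μ) (Coh.structureModule V)) = 0 :=
      Snapper.mixed_eq_zero (by rw [Snapper.phi_const_comp]; exact Snapper.comp_sumArg_mem hmem)
    rw [Snapper.mixed_const_pow k hLj hO hu μ] at h0
    exact (mul_eq_zero.1 h0).resolve_left (pow_ne_zero _ (Nat.cast_ne_zero.2 hμ.ne'))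
  have hP : Coh.IsCoh ((Coh.push i).obj (Coh.structureModule V)) := HodgeIndex.isCoh_push_piece k i hO
  have hd : DimLT (CohB1.support ((Coh.push i).obj (Coh.structureModule V))) (m + 1 + 1) :=
    (Snapper.dimLT_of_dim_le (le_of_eq ((IsHomeomorph.topologicalKrullDim_eq _
        i.isClosedEmbedding.isEmbedding.toHomeomorph.isHomeomorph).symm.trans hdim))).mono
      (QCoh.support_pushforward_subset_range i _)
  have h := NefGrowth.intNum_eq_mixed k hH hn.le hL hLinv hP hd
  have e : phi k (m + 1) (fun _ => L) ((Coh.push i).obj (Coh.structureModule V)) =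
      phi k (m + 1) (fun _ => Lj) (Coh.structureModule V) :=
    funext fun l => (Snapper.phi_push k i rfl (fun _ => hL) l).trans
      (congrArg Int.cast (Euler.euler_of_iso k (OX.tensorUnitLeftIso _).symm))
  rw [e, hz] at h
  exact_mod_cast h


/-- Let k be an algebraically closed field of characteristic zero and X an irreducible proper smooth
k-scheme of dimension n with an ample invertible O_X-module (a projective manifold); let L be a
semi-ample invertible O_X-module (some L^⊗μ with μ > 0 is globally generated; such L is numerically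
effective) with tensor inverse L⁻¹. Then for every natural number m, c_1(L)^m is numerically trivial
— (L^m · V) = 0 for every integral closed subscheme V ⊆ X of dimension m — if and only if κ(L) < m
in the growth form: there are no ν > 0 and a > 0 with μ^m ≤ a · dim_k H^0(X, L^⊗νμ) for all μ ≥ 1.
(This expresses ν(L) = κ(L) for semi-ample L; characteristic zero only.) -/
theorem result (k : Type u) [Field k] [IsAlgClosed k] [CharZero k]
    (X : Scheme.{u}) [X.Over (Spec (CommRingCat.of k))] [IsProper (X ↘ Spec (CommRingCat.of k))]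
    [Smooth (X ↘ Spec (CommRingCat.of k))] [IrreducibleSpace X] (n : ℕ) (hn : topologicalKrullDim X = n)
    (H : X.Modules) (hH : CohB1.IsAmple H) (L Linv : X.Modules) (hL : PicF.IsInvertible L) (hLinv : ClSub.IsInverseOf Linv L)
    (hsa : ∃ μ : ℕ, 0 < μ ∧ Curv2.IsGloballyGenerated (CohB1.tensorPow L μ))
    (m : ℕ) :
    (∀ (V : Scheme.{u}) (i : V ⟶ X) [IsClosedImmersion i], IsIntegral V → topologicalKrullDim V = (m : ℕ) →
      FGA.intNum k X n (fun _ : Fin m => Linv) ((Scheme.Modules.pushforward i).obj (Coh.structureModule V)) = 0) ↔ ¬ (∃ ν a : ℕ, 0 < ν ∧ 0 < a ∧ ∀ μ : ℕ, 1 ≤ μ →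
        μ ^ m ≤ a * Module.finrank k (Coh.HH X (CohB1.tensorPow L (ν * μ)) 0)) := by
  haveI := GrothLib.Euler.isNoetherian_of_proper (X := X) k
  obtain ⟨μ, hμ, hgg⟩ := hsa
  obtain ⟨c₀, ⟨e⟩⟩ := GrothLib.Ample.exists_cocycle hL
  obtain ⟨d⟩ := c₀.nonempty_tensorPow_iso_pow e μ
  obtain ⟨N, a, ha⟩ := GrothLib.Semiample.exists_sections (c₀.pow μ) (GrothLib.Ample.isGloballyGenerated_of_iso d hgg)
  constructor
  · refine S16903.result k X n hn H hH L Linv hL hLinv (fun Y i _ hY hY1 => ?_) m
    haveI := hY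
    letI : Y.Over (Spec (CommRingCat.of k)) := ⟨i ≫ X ↘ Spec (CommRingCat.of k)⟩
    haveI : IsProper (Y ↘ Spec (CommRingCat.of k)) := inferInstanceAs (IsProper (i ≫ X ↘ Spec (CommRingCat.of k)))
    obtain ⟨u⟩ := c₀.nonempty_pullback_iso i e
    show 0 ≤ FGA.eulerCharLE k Y _ 1 - FGA.eulerCharLE k Y _ 1
    rw [GrothLib.FGAInt26.eulerCharLE_eq k (d := 1) hY1.le, GrothLib.FGAInt26.eulerCharLE_eq k (d := 1) hY1.le,
      GrothLib.Euler.euler_of_iso k u]
    obtain ⟨q⟩ := (c₀.comap i).nonempty_pow_twist μ 1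
    obtain ⟨r⟩ := c₀.nonempty_comap_pow i μ 1
    obtain ⟨j, hj⟩ := TopologicalSpace.Opens.mem_iSup.1 (ha.ge (TopologicalSpace.Opens.mem_top (i (genericPoint Y))))
    have hs := GrothLib.Euler.hom_ne_zero (c := (c₀.pow μ).comap i)
      (a := (c₀.pow μ).pullSect i le_top (a j))
      ⟨genericPoint Y, by rw [(c₀.pow μ).locus_pullSect]; exact hj⟩
    have h1 := (GrothLib.Euler.deg_of_section k hY1.le (((c₀.pow μ).comap i).isInvertible_twist 1) hs).1
    have e2 : Curv2.deg k Y (((c₀.pow μ).comap i).twist 1) 1 = Curv2.deg k Y ((c₀.comap i).twist (μ * 1)) 1 :=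
      GrothLib.Euler.deg_of_iso k (r.symm ≪≫ q) 1
    rw [e2, mul_one, GrothLib.Euler.deg_twist k (c₀.comap i) hY1.le] at h1
    have h2 : 0 ≤ Curv2.deg k Y ((c₀.comap i).twist 1) 1 := nonneg_of_mul_nonneg_right h1 (by exact_mod_cast hμ)
    simpa [Curv2.deg] using h2
  · intro hgrow V i _ hV hdim
    haveI := hV
    rcases GrothLib.SemiKappa12.dichotomy k (c₀.pow μ) m (N + 1) a ha with ⟨b, hb⟩ | ⟨b, hb⟩
    · exact intNum_eq_zero_of_generators hH hn hL hLinv hμ (c₀.pow μ) d b hb V i hdim
    · refine absurd ⟨μ * (m + 1), 1, Nat.mul_pos hμ m.succ_pos, Nat.one_pos, fun l _ => ?_⟩ hgrow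
      rw [one_mul, mul_assoc]
      obtain ⟨w⟩ := c₀.nonempty_tensorPow_iso e (μ * ((m + 1) * l))
      obtain ⟨q⟩ := c₀.nonempty_pow_twist μ ((m + 1) * l)
      refine (Nat.pow_le_pow_left l.le_succ m).trans
        ((GrothLib.SemiKappa12.pow_le_finrank k (c₀.pow μ) hb l).trans (le_of_eq ?_))
      exact GrothLib.NefGrowth.hl_iso k (q ≪≫ w.symm) 0

end Groth.Agent.S16904
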