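import Groth.Statements.S16909
import Groth.Agent.Lib.OmegaAff.Basic
import Groth.Agent.Lib.OmegaBC.IdealStalk
import Groth.Agent.Lib.Semiample.Criterion


set_option autoImplicit false
set_option backward.isDefEq.respectTransparency false
set_option backward.isDefEq.respectTransparency.types false
universe u
open CategoryTheory CategoryTheory.Limits AlgebraicGeometry
open ResProp

namespace Groth.Agent.S16909

/-- Let `X` be a quasi-compact and quasi-separated scheme on which every quasi-coherent module is
globally generated (a quotient of a free module on some index type, i.e. the structure sheaf is a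
generating family). Then `X` is quasi-affine. No separatedness hypothesis is made; it follows. (The
published statement is for an algebraic stack over an algebraic space with affine stabilizer groups
at closed points and concludes that it is representable by a quasi-affine morphism; that general
case rests on results outside this text, and this row is the final step of its proof, the case of a
scheme.) -/
theorem result (X : Scheme.{u}) [CompactSpace X]
    [QuasiSeparatedSpace X] (h : ∀ M : X.Modules, Coh.IsQCoh M → Curv2.IsGloballyGenerated M) :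
    X.IsQuasiAffine := by
  refine Scheme.IsQuasiAffine.of_forall_exists_mem_basicOpen X fun x => ?_
  obtain ⟨U, hU, hxU, -⟩ := exists_isAffineOpen_mem_and_subset (show x ∈ (⊤ : X.Opens) from trivial)
  let I := Scheme.IdealSheafData.vanishingIdeal ⟨(U : Set X)ᶜ, U.2.isClosed_compl⟩
  have hsupp : (I.support : Set X) = (U : Set X)ᶜ := Scheme.IdealSheafData.coe_support_vanishingIdeal _
  obtain ⟨ι, s, hs⟩ := GrothLib.Semiample.exists_generatedBy
    (h _ (GrothLib.OmegaAff.isQuasicoherent_idealMod I))
  let S : Ideal (X.presheaf.stalk x) := Submodule.span _ (Set.range fun i =>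
    X.presheaf.germ ⊤ x trivial (GrothLib.IdealModSec.val I ⊤ (s i)))
  have hS : S = ⊤ := by
    have hle : LinearMap.range (GrothLib.OmegaBC.sval I x) ≤ S := by
      rintro _ ⟨v, rfl⟩
      have hv : v ∈ (⊤ : Submodule (X.presheaf.stalk x) _) := trivial
      rw [← hs x] at hv
      induction hv using Submodule.span_induction with
      | mem v hv =>
        obtain ⟨i, rfl⟩ := hv
        refine Submodule.subset_span ⟨i, ?_⟩
        exact (GrothLib.OmegaBC.sval_germ I x ⊤ trivial (s i)).symm
      | zero => rw [map_zero]; exact S.zero_mem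
      | add a b _ _ ha hb => rw [map_add]; exact S.add_mem ha hb
      | smul c a _ ha => rw [map_smul]; exact S.smul_mem c ha
    have hnx : x ∉ (I.support : Set X) := by rw [hsupp]; exact fun h => h hxU
    rw [SetLike.mem_coe, Scheme.IdealSheafData.mem_support_iff_of_mem (U := ⟨U, hU⟩) hxU, Scheme.mem_zeroLocus_iff] at hnx
    push Not at hnx
    obtain ⟨a, ha, hxa⟩ := hnx
    refine Ideal.eq_top_of_isUnit_mem _ (hle ?_) ((Scheme.mem_basicOpen _ a x hxU).1 hxa)
    rw [GrothLib.OmegaBC.range_sval I x ⟨U, hU⟩ hxU]
    exact Ideal.mem_map_of_mem _ ha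
  obtain ⟨i, hi⟩ : ∃ i, IsUnit (X.presheaf.germ ⊤ x trivial (GrothLib.IdealModSec.val I ⊤ (s i))) := by
    by_contra hc
    push Not at hc
    have : S ≤ IsLocalRing.maximalIdeal (X.presheaf.stalk x) := Submodule.span_le.2 (by
      rintro _ ⟨i, rfl⟩
      exact hc i)
    exact (IsLocalRing.maximalIdeal.isMaximal _).ne_top (top_le_iff.1 (hS ▸ this))
  let f : Γ(X, ⊤) := GrothLib.IdealModSec.val I ⊤ (s i)
  have hfx : x ∈ X.basicOpen f := (Scheme.mem_basicOpen _ f x trivial).2 hi
  have hfU : X.basicOpen f ≤ U := fun y hy => by
    by_contra hyU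
    obtain ⟨T, hT, hyT, -⟩ := exists_isAffineOpen_mem_and_subset (show y ∈ (⊤ : X.Opens) from trivial)
    have hys : y ∈ I.support := hsupp.symm.subset hyU
    rw [Scheme.IdealSheafData.mem_support_iff_of_mem (U := ⟨T, hT⟩) hyT, Scheme.mem_zeroLocus_iff] at hys
    refine hys _ (GrothLib.IdealModSec.val_mem I ⟨T, hT⟩ (GrothLib.InvExt.mres _ (le_top : T ≤ ⊤) (s i))) ?_
    rw [GrothLib.IdealModSec.val_mres]
    change y ∈ X.basicOpen ((X.presheaf.map (homOfLE (le_top : T ≤ ⊤)).op).hom f)
    rw [Scheme.basicOpen_res]
    exact ⟨hyT, hy⟩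
  refine ⟨f, ?_, hfx⟩
  have e : X.basicOpen ((X.presheaf.map (homOfLE (le_top : U ≤ ⊤)).op).hom f) = X.basicOpen f := by
    rw [Scheme.basicOpen_res]
    exact inf_eq_right.2 hfU
  rw [← e]
  exact hU.basicOpen _

end Groth.Agent.S16909
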