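import Groth.Statements.S16914
import Groth.Agent.Lib.AlgSt.StabTriv


set_option autoImplicit false
set_option backward.isDefEq.respectTransparency false
set_option backward.isDefEq.respectTransparency.types false
universe u
open CategoryTheory CategoryTheory.Limits AlgebraicGeometry
open ResProp

namespace Groth.Agent.S16914

open GrothLib.AlgSt GrothLib.FibCat in
theorem bwd {S : Scheme.{u}} {𝒳 : AlgSt.Cat S} (h𝒳 : AlgSt.IsAlgStack Scheme.fppfPrecoverage 𝒳)
    (hΔ : AlgSt.RepByAlgSpWith (AlgSp.IsSeparatedMor ⊓ AlgSp.IsQuasiCompactMor) (FibCat.diag (FibCat.toSelf 𝒳)))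
    (H : ∀ (k : Type u) [Field k] [IsAlgClosed k] (x : 𝒳.obj) (_ : (𝒳.p.obj x).left ≅ Spec (CommRingCat.of k))
        (ξ : 𝒳.obj) (_ : ξ ⟶ x) (σ : ξ ⟶ ξ), 𝒳.p.map σ = 𝟙 (𝒳.p.obj ξ) → σ = 𝟙 ξ) :
    AlgSt.RepByAlgSp 𝒳 := by
  have hS := repByAlgSp_selfOver (S := S)
  have htk := trivKernel_of_geom_separated h𝒳 (isDM_of_repByAlgSp hS).1 (FibCat.toSelf 𝒳)
    (repByAlgSpWith_mono (fun _ _ _ _ _ h => h.1) hΔ)
    fun K _ _ s η hη z m σ hp _ => H K η (eqToIso (congrArg Comma.left hη)) z m σ hp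
  have := faithful_of_trivKernel h𝒳.isStack.1 (isFibSetoid_of_repByAlgSp hS).1 (FibCat.toSelf 𝒳) htk
  exact repByAlgSp_of_isFibSetoid h𝒳
    (GrothLib.FibCat.isFibSetoid_of_faithful (FibCat.toSelf 𝒳) h𝒳.isStack.1 (isFibSetoid_of_repByAlgSp hS))

/-- Let `𝒳` be an algebraic stack over `S` (fppf topology) whose diagonal is representable by algebraic
spaces, separated and quasi-compact. Then `𝒳` is representable by an algebraic space over `S` if and
only if its stabilizer groups vanish at all geometric points: whenever `x` is an object of `𝒳` whose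
scheme is the spectrum of an algebraically closed field, `ξ` an object with a morphism to `x` (a
pullback of `x` to some scheme) and `σ` an endomorphism of `ξ` lying over the identity, `σ` is the
identity. -/
theorem result (S : Scheme.{u}) (𝒳 : AlgSt.Cat S)
    (h𝒳 : AlgSt.IsAlgStack Scheme.fppfPrecoverage 𝒳)
    (hΔ : AlgSt.RepByAlgSpWith (AlgSp.IsSeparatedMor ⊓ AlgSp.IsQuasiCompactMor) (FibCat.diag (FibCat.toSelf 𝒳))) :
    AlgSt.RepByAlgSp 𝒳 ↔
      ∀ (k : Type u) [Field k] [IsAlgClosed k] (x : 𝒳.obj) (e : (𝒳.p.obj x).left ≅ Spec (CommRingCat.of k))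
        (ξ : 𝒳.obj) (φ : ξ ⟶ x) (σ : ξ ⟶ ξ), 𝒳.p.map σ = 𝟙 (𝒳.p.obj ξ) → σ = 𝟙 ξ := by
  refine ⟨fun h k _ _ x _ ξ _ σ hσ => ?_, bwd h𝒳 hΔ⟩
  exact GrothLib.FibCat.IsFibSetoid.hom_ext (GrothLib.AlgSt.isFibSetoid_of_repByAlgSp h)
    (hσ.trans (𝒳.p.map_id ξ).symm)

end Groth.Agent.S16914
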