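import Groth.Statements.S16917
import Groth.Agent.Lib.Uncountable.Points
import Mathlib.RingTheory.Ideal.KrullsHeightTheorem
import Mathlib.Topology.NoetherianSpace
import Mathlib.AlgebraicGeometry.Noetherian

set_option autoImplicit false
open CategoryTheory AlgebraicGeometry
universe u
open Variety

namespace Groth.Agent.S16917

open TopologicalSpace
open GrothLib.WeakAss (primeAt)

/-- Above every irreducible member of a family of closed subsets there is a maximal irreducible one. -/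
theorem exists_maximal_above {X : Scheme.{u}} [IsLocallyNoetherian X] (F : Set (Closeds X))
    (hF : ∀ T ∈ F, IsIrreducible (T : Set X)) {T₀ : Closeds X} (h₀ : T₀ ∈ F) :
    ∃ T ∈ F, T₀ ≤ T ∧ ∀ T' ∈ F, T ≤ T' → T' = T := by
  classical
  obtain ⟨η, hη⟩ := QuasiSober.sober (hF T₀ h₀) T₀.isClosed
  obtain ⟨_, ⟨U, hU, rfl⟩, hηU, -⟩ := X.isBasis_affineOpens.exists_subset_of_mem_open (Set.mem_univ η) isOpen_univ
  have := IsLocallyNoetherian.component_noetherian ⟨U, hU⟩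
  have key : ∀ T : {T // T ∈ F ∧ T₀ ≤ T}, ∃ ξ : U, IsGenericPoint ξ.1 (T.1 : Set X) := fun T => by
    obtain ⟨ξ, hξ⟩ := QuasiSober.sober (hF T.1 T.2.1) T.1.isClosed
    exact ⟨⟨ξ, (hξ.specializes (T.2.2 hη.mem)).mem_open U.2 hηU⟩, hξ⟩
  choose ξ hξ using key
  obtain ⟨T, -, hT⟩ := (InvImage.wf (fun T : {T // T ∈ F ∧ T₀ ≤ T} => (primeAt (ξ T).1 (ξ T).2).height)
    wellFounded_lt).has_min Set.univ ⟨⟨T₀, h₀, le_rfl⟩, trivial⟩
  refine ⟨T.1, T.2.1, T.2.2, fun T' hT' hle => ?_⟩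
  by_contra hne
  refine hT ⟨T', hT', T.2.2.trans hle⟩ trivial ?_
  have hsp : (ξ ⟨T', hT', T.2.2.trans hle⟩).1 ⤳ (ξ T).1 := (hξ _).specializes (hle (hξ T).mem)
  have hne' : (ξ ⟨T', hT', T.2.2.trans hle⟩).1 ≠ (ξ T).1 := fun e => hne (SetLike.coe_injective (by
    rw [← (hξ ⟨T', hT', T.2.2.trans hle⟩).def, e, (hξ T).def]))
  have hlt : primeAt (ξ ⟨T', hT', T.2.2.trans hle⟩).1 (ξ _).2 < primeAt (ξ T).1 (ξ T).2 :=
    lt_of_le_of_ne ((GrothLib.AssPts.specializes_iff hU _ _).mp hsp)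
      fun e => hne' (GrothLib.AssPts.primeAt_injective hU _ _ e)
  exact Ideal.height_strict_mono_of_isPrime hlt

/-- Let k be an uncountable algebraically closed field, X a k-scheme of finite type and Z₀, Z₁, …
countably many closed subsets of X. Then the countable union of the Zₙ, read through closed points,
has a unique irredundant decomposition: there is exactly one countable family S of irreducible
closed subsets of X, pairwise not contained in one another, such that a closed point of X lies in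
some member of S if and only if it lies in some Zₙ. (The published statement is the existence and
uniqueness of the irredundant decomposition of a countable union of algebraic varieties into
c-components, a variety being read through its closed points; with all points of the scheme the
uniqueness would not need the uncountable field.) -/
theorem result (k : Type u) [Field k] [IsAlgClosed k]
    [Uncountable k] (X : Scheme.{u}) (sX : X ⟶ Spec (CommRingCat.of k)) [LocallyOfFiniteType sX]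
    [QuasiCompact sX] (Z : ℕ → TopologicalSpace.Closeds X) :
    ∃! S : Set (TopologicalSpace.Closeds X), S.Countable ∧ (∀ T ∈ S, IsIrreducible (T : Set X)) ∧
      IsAntichain (· ≤ ·) S ∧
      {x : X | IsClosed ({x} : Set X) ∧ ∃ T ∈ S, x ∈ T} =
        {x : X | IsClosed ({x} : Set X) ∧ ∃ n, x ∈ Z n} := by
  have : IsLocallyNoetherian X := LocallyOfFiniteType.isLocallyNoetherian sX
  have : CompactSpace X := QuasiCompact.compactSpace_of_compactSpace sX
  have : AlgebraicGeometry.IsNoetherian X := ⟨⟩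
  let F : Set (TopologicalSpace.Closeds X) := {T | ∃ n, IsIrreducible (T : Set X) ∧ T ≤ Z n ∧
    ∀ T' : TopologicalSpace.Closeds X, IsIrreducible (T' : Set X) → T ≤ T' → T' ≤ Z n → T' = T}
  have hFc : F.Countable := by
    have hsub : F ⊆ ⋃ n, {T : TopologicalSpace.Closeds X | IsIrreducible (T : Set X) ∧ T ≤ Z n ∧
        ∀ T' : TopologicalSpace.Closeds X, IsIrreducible (T' : Set X) → T ≤ T' → T' ≤ Z n → T' = T} :=
      fun T ⟨n, h⟩ => Set.mem_iUnion.mpr ⟨n, h⟩
    refine (Set.countable_iUnion fun n => Set.Finite.countable ?_).mono hsub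
    obtain ⟨S, hSc, hScl, hSi, hSu⟩ :=
      TopologicalSpace.NoetherianSpace.exists_finite_set_isClosed_irreducible (Z n).isClosed
    refine ((hSc.image fun C : Set X => TopologicalSpace.Closeds.closure C)).subset fun T hT => ?_
    obtain ⟨hTi, hTZ, hTmax⟩ := hT
    obtain ⟨C, hC, hTC⟩ := isIrreducible_iff_sUnion_isClosed.mp hTi hSc.toFinset
      (fun z hz => hScl z (hSc.mem_toFinset.mp hz)) (by rw [Set.Finite.coe_toFinset, ← hSu]; exact hTZ)
    have hC' := hSc.mem_toFinset.mp hC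
    refine ⟨C, hC', ?_⟩
    have e : TopologicalSpace.Closeds.closure C = ⟨C, hScl C hC'⟩ :=
      TopologicalSpace.Closeds.ext (hScl C hC').closure_eq
    show TopologicalSpace.Closeds.closure C = T
    rw [e]
    exact hTmax ⟨C, hScl C hC'⟩ (hSi C hC') hTC fun z hz => hSu.ge ⟨C, hC', hz⟩
  let S : Set (TopologicalSpace.Closeds X) := {T | T ∈ F ∧ ∀ T' ∈ F, T ≤ T' → T' = T}
  have hFirr : ∀ T ∈ F, IsIrreducible (T : Set X) := fun T ⟨_, h, _⟩ => h
  have huniq : ∀ S₁ S₂ : Set (TopologicalSpace.Closeds X), S₂.Countable → (∀ T ∈ S₁, IsIrreducible (T : Set X)) →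
      {x : X | IsClosed ({x} : Set X) ∧ ∃ T ∈ S₁, x ∈ T} ⊆ {x : X | IsClosed ({x} : Set X) ∧ ∃ T ∈ S₂, x ∈ T} →
      ∀ T ∈ S₁, ∃ T' ∈ S₂, T ≤ T' := by
    intro S₁ S₂ hS₂ hi hsub T hT
    obtain ⟨η, hη⟩ := QuasiSober.sober (hi T hT) T.isClosed
    by_contra! hne
    obtain ⟨e, he⟩ := (hS₂.insert ⊥).exists_eq_range (Set.insert_nonempty _ _)
    obtain ⟨x, -, hx, hηx, hxZ⟩ := GrothLib.Uncountable.exists_closedPoint_specializes sX e η (fun n hn => by
      rcases (he ▸ Set.mem_range_self n : e n ∈ insert (⊥ : TopologicalSpace.Closeds X) S₂) with h | h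
      · rw [h] at hn; exact hn
      · exact hne (e n) h (fun z hz => (hη.specializes hz).mem_closed (e n).isClosed hn)) ⊤ trivial
    obtain ⟨-, T', hT', hxT'⟩ := hsub ⟨hx, T, hT, hηx.mem_closed T.isClosed hη.mem⟩
    obtain ⟨n, rfl⟩ : T' ∈ Set.range e := he ▸ Set.mem_insert_of_mem _ hT'
    exact hxZ n hxT'
  refine ⟨S, ⟨hFc.mono fun T hT => hT.1, fun T hT => hFirr T hT.1,
    fun T hT T' hT' hne hle => hne (hT.2 T' hT'.1 hle).symm, ?_⟩, ?_⟩
  · ext x
    refine ⟨fun ⟨hx, T, ⟨⟨n, _, hTn, _⟩, _⟩, hxT⟩ => ⟨hx, n, hTn hxT⟩, fun ⟨hx, n, hn⟩ => ⟨hx, ?_⟩⟩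
    obtain ⟨T₁, ⟨hT₁i, hT₁n⟩, hxT₁, hT₁max⟩ := exists_maximal_above
      {T : TopologicalSpace.Closeds X | IsIrreducible (T : Set X) ∧ T ≤ Z n} (fun T h => h.1)
      (T₀ := ⟨{x}, hx⟩) ⟨isIrreducible_singleton, fun z hz => (Set.mem_singleton_iff.mp hz) ▸ hn⟩
    obtain ⟨T, hT, hle, hmax⟩ := exists_maximal_above F hFirr (T₀ := T₁)
      ⟨n, hT₁i, hT₁n, fun T' h1 h2 h3 => hT₁max T' ⟨h1, h3⟩ h2⟩
    exact ⟨T, ⟨hT, hmax⟩, hle (hxT₁ rfl)⟩
  · rintro S' ⟨hc', hi', ha', he'⟩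
    have hSe : {x : X | IsClosed ({x} : Set X) ∧ ∃ T ∈ S, x ∈ T} = {x : X | IsClosed ({x} : Set X) ∧ ∃ T ∈ S', x ∈ T} := by
      rw [he']
      ext x
      refine ⟨fun ⟨hx, T, ⟨⟨n, _, hTn, _⟩, _⟩, hxT⟩ => ⟨hx, n, hTn hxT⟩, fun ⟨hx, n, hn⟩ => ⟨hx, ?_⟩⟩
      obtain ⟨T₁, ⟨hT₁i, hT₁n⟩, hxT₁, hT₁max⟩ := exists_maximal_above
        {T : TopologicalSpace.Closeds X | IsIrreducible (T : Set X) ∧ T ≤ Z n} (fun T h => h.1)
        (T₀ := ⟨{x}, hx⟩) ⟨isIrreducible_singleton, fun z hz => (Set.mem_singleton_iff.mp hz) ▸ hn⟩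
      obtain ⟨T, hT, hle, hmax⟩ := exists_maximal_above F hFirr (T₀ := T₁)
        ⟨n, hT₁i, hT₁n, fun T' h1 h2 h3 => hT₁max T' ⟨h1, h3⟩ h2⟩
      exact ⟨T, ⟨hT, hmax⟩, hle (hxT₁ rfl)⟩
    have hSi : ∀ T ∈ S, IsIrreducible (T : Set X) := fun T hT => hFirr T hT.1
    have hSa : IsAntichain (· ≤ ·) S := fun T hT T' hT' hne hle => hne (hT.2 T' hT'.1 hle).symm
    have hSc : S.Countable := hFc.mono fun T hT => hT.1
    refine Set.Subset.antisymm (fun T hT => ?_) (fun T hT => ?_)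
    · obtain ⟨T', hT', h1⟩ := huniq S' S hSc hi' hSe.ge T hT
      obtain ⟨T'', hT'', h2⟩ := huniq S S' hc' hSi hSe.le T' hT'
      obtain rfl := ha'.eq hT hT'' (h1.trans h2)
      exact le_antisymm h1 h2 ▸ hT'
    · obtain ⟨T', hT', h1⟩ := huniq S S' hc' hSi hSe.le T hT
      obtain ⟨T'', hT'', h2⟩ := huniq S' S hSc hi' hSe.ge T' hT'
      obtain rfl := hSa.eq hT hT'' (h1.trans h2)
      exact le_antisymm h1 h2 ▸ hT'

end Groth.Agent.S16917
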