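import Groth.Statements.S16919
import Groth.Agent.Lib.Steinitz1.Basic
-- import your own Groth.Agent.* helpers here

set_option autoImplicit false
universe u
open TensorProduct
open CAlg

namespace Groth.Agent.S16919

/-- Let k₀ → k be an extension of fields with k algebraically closed and of infinite transcendence
degree over k₀, R₀ a finitely generated k₀-algebra whose base change R = k ⊗ R₀ is an integral
domain (so Spec R is an integral affine k-scheme of finite type with the model Spec R₀ over k₀), and
P a k-point of Spec R, i.e. a k-algebra homomorphism ev : R → k, lying over the generic point of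
Spec R₀, i.e. with ev injective on R₀. Then there is a field isomorphism e from an algebraic closure
of the fraction field of R (the function field of Spec R) onto k such that e(1 ⊗ r) = ev(1 ⊗ r) for
every r in R₀: e extends evaluation at P on R₀. (The published setting has k algebraically closed of
characteristic zero and of infinite transcendence degree over its prime field, and k₀ the subfield
generated by the coefficients of equations of Spec R, which is finitely generated over the prime
field, so that k has infinite transcendence degree over k₀; only this last property and no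
characteristic assumption enter here. The isomorphism is not canonical.) -/
theorem result (k₀ k : Type u)
    [Field k₀] [Field k] [Algebra k₀ k] [IsAlgClosed k] (hinf : ∃ x : ℕ → k, AlgebraicIndependent k₀ x)
    (R₀ : Type u) [CommRing R₀] [Algebra k₀ R₀] [Algebra.FiniteType k₀ R₀] [IsDomain (k ⊗[k₀] R₀)]
    (ev : k ⊗[k₀] R₀ →ₐ[k] k) (hP : Function.Injective fun r : R₀ => ev (1 ⊗ₜ[k₀] r)) :
    ∃ e : AlgebraicClosure (FractionRing (k ⊗[k₀] R₀)) ≃+* k,
      ∀ r : R₀, e (algebraMap (k ⊗[k₀] R₀) (AlgebraicClosure (FractionRing (k ⊗[k₀] R₀)))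
        (1 ⊗ₜ[k₀] r)) = ev (1 ⊗ₜ[k₀] r) := by
  have hincl : Function.Injective (fun r : R₀ => (1 : k) ⊗ₜ[k₀] r) := fun a b h => hP (congrArg ev h)
  haveI : IsDomain R₀ := (show Function.Injective (Algebra.TensorProduct.includeRight :
    R₀ →ₐ[k₀] k ⊗[k₀] R₀).toRingHom from hincl).isDomain _
  let incl : R₀ →ₐ[k₀] k ⊗[k₀] R₀ := Algebra.TensorProduct.includeRight
  let R := k ⊗[k₀] R₀
  let Ω := AlgebraicClosure (FractionRing R)
  have hRΩ : Function.Injective (algebraMap R Ω) := by
    rw [IsScalarTower.algebraMap_eq R (FractionRing R) Ω]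
    exact (algebraMap (FractionRing R) Ω).injective.comp (IsFractionRing.injective R (FractionRing R))
  haveI : FaithfulSMul R Ω := (faithfulSMul_iff_algebraMap_injective R Ω).2 hRΩ
  haveI : Algebra.IsAlgebraic R (FractionRing R) := IsLocalization.isAlgebraic _ (nonZeroDivisors R)
  haveI : Algebra.IsAlgebraic R Ω := Algebra.IsAlgebraic.trans R (FractionRing R) Ω
  haveI : FaithfulSMul k R := (faithfulSMul_iff_algebraMap_injective k R).2 (algebraMap k R).injective
  have hinf' : Cardinal.aleph0 ≤ Algebra.trdeg k₀ k := by
    obtain ⟨x, hx⟩ := hinf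
    have := hx.lift_cardinalMk_le_trdeg
    simpa using this
  have hkΩ : Algebra.trdeg k Ω < Cardinal.aleph0 := by
    rw [← trdeg_add_eq k R (A := Ω), trdeg_eq_zero (R := R) (A := Ω), add_zero]
    exact trdeg_lt_aleph0_of_finiteType
  have h2 : Algebra.trdeg k₀ Ω = Algebra.trdeg k₀ k := by
    rw [← trdeg_add_eq k₀ k (A := Ω), Cardinal.add_eq_left hinf' (hkΩ.le.trans hinf')]
  obtain ⟨e, he⟩ := GrothLib.Steinitz1.exists_ringEquiv_extending k₀ R₀ k Ω ((ev.restrictScalars k₀).comp incl)
    ((IsScalarTower.toAlgHom k₀ R Ω).comp incl) hP (hRΩ.comp hincl) hinf' h2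
  refine ⟨e.symm, fun r => e.injective ?_⟩
  rw [RingEquiv.apply_symm_apply]
  exact (he r).symm

end Groth.Agent.S16919
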