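import Groth.Statements.S1692


set_option autoImplicit false
universe u
open CategoryTheory CategoryTheory.Limits AlgebraicGeometry TopologicalSpace
open SDiv

namespace Groth.Agent.S1692

/-- Let X be a locally Noetherian integral scheme and f a nonzero rational function. Then the closures
of the codimension-one points at which f has nonzero order of vanishing form a locally finite family
of closed subsets of X. -/
theorem result (X : Scheme.{u}) [IsIntegral X] [IsLocallyNoetherian X] (f : ↑X.functionField) (hf : f ≠ 0) :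
    LocallyFinite (fun ξ : {ξ : ↥X // Order.coheight ξ = 1 ∧ Scheme.ord f ξ ≠ 0} => closure ({ξ.1} : Set ↥X)) := by
  intro x
  obtain ⟨_, ⟨W, hW, rfl⟩, hxW, -⟩ :=
    X.isBasis_affineOpens.exists_subset_of_mem_open (Set.mem_univ x) isOpen_univ
  refine ⟨W, W.2.mem_nhds hxW, ?_⟩
  have : Nonempty W := ⟨⟨x, hxW⟩⟩
  have hnoe : IsNoetherianRing Γ(X, W) := IsLocallyNoetherian.component_noetherian ⟨W, hW⟩
  have : IsFractionRing Γ(X, W) X.functionField := functionField_isFractionRing_of_isAffineOpen X W hW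
  obtain ⟨a, ⟨b, hb⟩, hab⟩ := IsLocalization.exists_mk'_eq (nonZeroDivisors Γ(X, W)) f
  have hb0 : b ≠ 0 := nonZeroDivisors.ne_zero hb
  have hf' : f * X.germToFunctionField W b = X.germToFunctionField W a := by
    rw [← hab]; exact IsLocalization.mk'_spec X.functionField a ⟨b, hb⟩
  have ha0 : a ≠ 0 := fun h => by
    rw [h, map_zero] at hf'
    exact (mul_ne_zero hf ((map_ne_zero_iff _ (Scheme.germToFunctionField_injective X W)).mpr hb0)) hf'
  set P : Finset (PrimeSpectrum Γ(X, W)) :=
    ((Ideal.finite_minimalPrimes_of_isNoetherianRing Γ(X, W) (Ideal.span {a * b})).preimage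
      (Set.injOn_of_injective (fun _ _ => PrimeSpectrum.ext))).toFinset with hP
  have hfin : Set.Finite {ξ : {ξ : ↥X // Order.coheight ξ = 1 ∧ Scheme.ord f ξ ≠ 0} |
      ξ.1 ∈ hW.fromSpec '' (P : Set (PrimeSpectrum Γ(X, W)))} :=
    (P.finite_toSet.image _).preimage Subtype.val_injective.injOn
  refine hfin.subset ?_
  rintro ⟨ξ, hξ1, hξ⟩ ⟨y, hy, hyW⟩
  have hξW : ξ ∈ W := (specializes_iff_mem_closure.mpr hy).mem_open W.2 hyW
  have hnot : ξ ∉ X.basicOpen (a * b) := by
    intro hmem
    refine hξ ?_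
    set D := X.basicOpen (a * b)
    have hDW : D ≤ W := X.basicOpen_le _
    have : Nonempty D := ⟨⟨ξ, hmem⟩⟩
    set r := (X.presheaf.map (homOfLE hDW).op).hom
    have hu : IsUnit (r a) ∧ IsUnit (r b) := by
      rw [← IsUnit.mul_iff, ← map_mul]
      exact RingedSpace.isUnit_res_basicOpen (X := X.toLocallyRingedSpace.toRingedSpace) (a * b)
    have hr : ∀ t, X.germToFunctionField D (r t) = X.germToFunctionField W t := fun t =>
      TopCat.Presheaf.germ_res_apply X.presheaf (homOfLE hDW) _ _ t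
    have h1 := Scheme.ord_of_isUnit hu.1 hmem
    have h2 := Scheme.ord_of_isUnit hu.2 hmem
    rw [hr] at h1 h2
    have h3 := Scheme.ord_mul (x := ξ) hf ((map_ne_zero_iff _ (Scheme.germToFunctionField_injective X W)).mpr hb0)
    rw [hf', h1, h2] at h3
    simpa using h3.symm
  obtain ⟨Q, rfl⟩ := hW.range_fromSpec.ge hξW
  refine ⟨Q, ?_, rfl⟩
  have hmemiff : ∀ R : PrimeSpectrum Γ(X, W), hW.fromSpec R ∈ X.basicOpen (a * b) ↔ a * b ∉ R.asIdeal := by
    intro R
    show R ∈ hW.fromSpec ⁻¹ᵁ X.basicOpen (a * b) ↔ _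
    rw [hW.fromSpec_preimage_basicOpen]
    rfl
  have hQ : a * b ∈ Q.asIdeal := by
    by_contra h
    exact hnot ((hmemiff Q).mpr h)
  simp only [hP, Set.Finite.coe_toFinset, Set.mem_preimage]
  refine ⟨⟨Q.isPrime, (Ideal.span_singleton_le_iff_mem _).mpr hQ⟩, ?_⟩
  rintro q ⟨hq, hqab⟩ hqQ
  let R : PrimeSpectrum Γ(X, W) := ⟨q, hq⟩
  have hspec : hW.fromSpec R ⤳ hW.fromSpec Q :=
    ((PrimeSpectrum.le_iff_specializes R Q).mp hqQ).map hW.fromSpec.continuous
  by_contra hne
  have hlt : hW.fromSpec Q < hW.fromSpec R := by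
    refine lt_iff_le_not_ge.mpr ⟨hspec, fun h => hne ?_⟩
    have : R = Q := hW.fromSpec.isOpenEmbedding.injective (hspec.antisymm h).eq
    exact (congrArg PrimeSpectrum.asIdeal this).ge
  have h0 : Order.coheight (hW.fromSpec R) = 0 := by
    have := Order.coheight_strictAnti hlt (by
      have := (Order.coheight_anti hlt.le).trans_lt (show Order.coheight (hW.fromSpec Q) < ⊤ by rw [hξ1]; exact ENat.coe_lt_top 1)
      exact this)
    rw [hξ1] at this
    exact Order.lt_one_iff.mp this
  rw [Order.coheight_eq_zero] at h0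
  have hgen : hW.fromSpec R = genericPoint ↥X :=
    (Specializes.antisymm (h0 (genericPoint_specializes (hW.fromSpec R))) (genericPoint_specializes _)).eq
  have : genericPoint ↥X ∈ X.basicOpen (a * b) := by
    refine ((genericPoint_spec ↥X).mem_open_set_iff (X.basicOpen (a * b)).2).mpr ?_
    rw [Set.univ_inter, Set.nonempty_iff_ne_empty]
    intro h
    exact mul_ne_zero ha0 hb0 ((basicOpen_eq_bot_iff (a * b)).mp (SetLike.coe_injective h))
  rw [← hgen] at this
  exact (hmemiff R).mp this ((Ideal.span_singleton_le_iff_mem _).mp hqab)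

end Groth.Agent.S1692
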