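import Groth.Statements.S1693


set_option autoImplicit false
universe u
open CategoryTheory CategoryTheory.Limits AlgebraicGeometry TopologicalSpace
open SDiv

namespace Groth.Agent.S1693

/-- Let X be a locally Noetherian scheme and Z a closed subset. Then the irreducible components of Z
form a locally finite family of subsets of X. -/
theorem result (X : Scheme.{u}) [IsLocallyNoetherian X] (Z : Set ↥X) (hZ : IsClosed Z) :
    LocallyFinite (fun T : ↥(irreducibleComponents ↥Z) => ((↑) '' (T.1 : Set ↥Z) : Set ↥X)) := by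
  intro x
  obtain ⟨_, ⟨W, hW, rfl⟩, hxW, -⟩ :=
    X.isBasis_affineOpens.exists_subset_of_mem_open (Set.mem_univ x) isOpen_univ
  have hnoe : IsNoetherianRing Γ(X, W) := IsLocallyNoetherian.component_noetherian ⟨W, hW⟩
  have : NoetherianSpace (W : Set ↥X) := noetherianSpace_of_isAffineOpen W hW
  have : NoetherianSpace ↥(Z ∩ (W : Set ↥X)) := by
    exact noetherianSpace_iff_of_homeomorph (Homeomorph.refl _) |>.mp
      ((Topology.IsEmbedding.inclusion (Set.inter_subset_right (s := Z) (t := (W : Set ↥X)))).isInducing.noetherianSpace)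
  refine ⟨W, W.2.mem_nhds hxW, ?_⟩
  have hfinC := NoetherianSpace.finite_irreducibleComponents (α := ↥(Z ∩ (W : Set ↥X)))
  refine Set.Finite.of_finite_image ((hfinC.image fun c => closure (Subtype.val '' c : Set ↥X)).subset ?_)
    (f := fun T : ↥(irreducibleComponents ↥Z) => (Subtype.val '' (T.1 : Set ↥Z) : Set ↥X))
    (fun T _ T' _ h => Subtype.ext (Subtype.val_injective.image_injective h))
  rintro _ ⟨⟨T, hT⟩, hTW, rfl⟩
  have hTirr : IsIrreducible (Subtype.val '' T : Set ↥X) := hT.1.image _ continuous_subtype_val.continuousOn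
  have hTc : IsClosed (Subtype.val '' T : Set ↥X) :=
    hZ.isClosedMap_subtype_val _ (isClosed_of_mem_irreducibleComponents T hT)
  have hTZ : (Subtype.val '' T : Set ↥X) ⊆ Z := by rintro _ ⟨t, -, rfl⟩; exact t.2
  set s : Set ↥X := (Subtype.val '' T) ∩ W with hs
  have hsirr : IsIrreducible s :=
    ⟨hTW, fun u v hu hv ⟨a, ⟨haT, haW⟩, hau⟩ ⟨b, ⟨hbT, hbW⟩, hbv⟩ => by
      obtain ⟨c, hc, ⟨hcu, hcW⟩, hcv, -⟩ :=
        hTirr.2 (u ∩ W) (v ∩ W) (hu.inter W.2) (hv.inter W.2) ⟨a, haT, hau, haW⟩ ⟨b, hbT, hbv, hbW⟩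
      exact ⟨c, ⟨hc, hcW⟩, hcu, hcv⟩⟩
  set s' : Set ↥(Z ∩ (W : Set ↥X)) := Subtype.val ⁻¹' s
  have hs'img : Subtype.val '' s' = s := by
    rw [Subtype.image_preimage_coe]
    exact Set.inter_eq_right.mpr fun y hy => ⟨hTZ hy.1, hy.2⟩
  have hs'irr : IsIrreducible s' := by
    refine ⟨?_, ?_⟩
    · obtain ⟨y, hy⟩ := hsirr.1
      exact ⟨⟨y, hTZ hy.1, hy.2⟩, hy⟩
    · intro u v hu hv h1 h2
      obtain ⟨u', hu', rfl⟩ := isOpen_induced_iff.mp hu
      obtain ⟨v', hv', rfl⟩ := isOpen_induced_iff.mp hv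
      obtain ⟨y1, hy1, hy1'⟩ := h1
      obtain ⟨y2, hy2, hy2'⟩ := h2
      obtain ⟨y, hy, hyu, hyv⟩ := hsirr.2 u' v' hu' hv' ⟨_, hy1, hy1'⟩ ⟨_, hy2, hy2'⟩
      exact ⟨⟨y, hTZ hy.1, hy.2⟩, hy, hyu, hyv⟩
  obtain ⟨c, hc, hsc⟩ := exists_mem_irreducibleComponents_subset_of_isIrreducible s' hs'irr
  refine ⟨c, hc, ?_⟩
  have hcirr : IsIrreducible (closure (Subtype.val '' c : Set ↥X)) :=
    (hc.1.image _ continuous_subtype_val.continuousOn).closure
  have hcZ : closure (Subtype.val '' c : Set ↥X) ⊆ Z :=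
    hZ.closure_subset_iff.mpr (by rintro _ ⟨t, -, rfl⟩; exact t.2.1)
  have hsub : (Subtype.val '' T : Set ↥X) ⊆ closure (Subtype.val '' c : Set ↥X) := by
    refine Set.Subset.trans ?_ (closure_mono ((hs'img.symm.subset).trans (Set.image_mono hsc)))
    exact subset_closure_inter_of_isPreirreducible_of_isOpen hTirr.2 W.2 hTW
  refine Set.Subset.antisymm ?_ hsub
  have hpre : IsIrreducible (Subtype.val ⁻¹' closure (Subtype.val '' c : Set ↥X) : Set ↥Z) := by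
    refine ⟨?_, ?_⟩
    · obtain ⟨y, hy⟩ := hcirr.1
      exact ⟨⟨y, hcZ hy⟩, hy⟩
    · intro u v hu hv h1 h2
      obtain ⟨u', hu', rfl⟩ := isOpen_induced_iff.mp hu
      obtain ⟨v', hv', rfl⟩ := isOpen_induced_iff.mp hv
      obtain ⟨y1, hy1, hy1'⟩ := h1
      obtain ⟨y2, hy2, hy2'⟩ := h2
      obtain ⟨y, hy, hyu, hyv⟩ := hcirr.2 u' v' hu' hv' ⟨_, hy1, hy1'⟩ ⟨_, hy2, hy2'⟩
      exact ⟨⟨y, hcZ hy⟩, hy, hyu, hyv⟩
  have hTle : T ≤ Subtype.val ⁻¹' closure (Subtype.val '' c : Set ↥X) := fun t ht => hsub ⟨t, ht, rfl⟩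
  intro y hy
  exact ⟨⟨y, hcZ hy⟩, hT.2 hpre hTle hy, rfl⟩

end Groth.Agent.S1693
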