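import Groth.Statements.S1694
import Groth.Agent.Lib.Nagata6.Comp
-- import your own Groth.Agent.* helpers here

set_option autoImplicit false
universe u
open CategoryTheory CategoryTheory.Limits AlgebraicGeometry TopologicalSpace
open SDiv

namespace Groth.Agent.S1694

/-- Let X be a quasi-compact quasi-separated scheme, 𝓘 a quasi-coherent ideal sheaf of finite type, b :
X' ⟶ X a blowing-up along 𝓘, 𝓙 a quasi-coherent ideal sheaf of finite type on X' and b' : X'' ⟶ X' a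
blowing-up along 𝓙. Then there is a quasi-coherent ideal sheaf 𝓚 of finite type on X whose support
is the union of the support of 𝓘 and the image under b of the support of 𝓙, such that b' ≫ b is a
blowing-up of X along 𝓚. -/
theorem result (X : Scheme.{u}) [CompactSpace ↥X] [QuasiSeparatedSpace ↥X] {X' X'' : Scheme.{u}}
    (𝓘 : X.IdealSheafData) (h𝓘 : BlowUp.IsFiniteTypeIdeal 𝓘) (b : X' ⟶ X) (hb : BlowUp.IsBlowUp b 𝓘)
    (𝓙 : X'.IdealSheafData) (h𝓙 : BlowUp.IsFiniteTypeIdeal 𝓙) (b' : X'' ⟶ X') (hb' : BlowUp.IsBlowUp b' 𝓙) :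
    ∃ 𝓚 : X.IdealSheafData, BlowUp.IsFiniteTypeIdeal 𝓚 ∧
      (𝓚.support : Set ↥X) = (𝓘.support : Set ↥X) ∪ (fun x' => b x') '' (𝓙.support : Set ↥X') ∧
      BlowUp.IsBlowUp (b' ≫ b) 𝓚 := by
  obtain ⟨P, h1, h2, h3⟩ := GrothLib.Nagata6.exists_isBlowUp_comp h𝓘 hb h𝓙 hb'
  exact ⟨P, h1, h2, h3⟩

end Groth.Agent.S1694
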