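import Groth.Statements.S16948
import Groth.Agent.Lib.BCComp.Main

set_option autoImplicit false
universe u
open Coherent

namespace Groth.Agent.S16948

open AlgebraicGeometry CategoryTheory Scheme.Modules in
/-- Take two cartesian squares of schemes side by side, f : X → Y over φ : U → V (vertical maps ξ : X →
U and η : Y → V, f ≫ η = ξ ≫ φ) and g : Y → Z over ψ : V → W (vertical map ζ : Z → W, g ≫ ζ = η ≫
ψ), a quasi-coherent O_Z-module L and a natural number p. Write β for the degree-p base change maps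
of higher direct images (R^p the p-th right derived functor of direct image on O-modules; the maps
are the pinned ones of the structure GenBC relative to pinned comparison data for ζ, η and ξ): B₂
for the right square, B₁ for the left square, B for the outer square. Then the composite of the
composition isomorphism φ^* ψ^* R^p ζ_* L ≅ (φ ≫ ψ)^* R^p ζ_* L with β_B(L) equals φ^* β_{B₂}(L)
followed by β_{B₁}(g^* L) followed by R^p ξ_* of the composition isomorphism f^* g^* L ≅ (f ≫ g)^*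
L. The source states this for arbitrary ζ and η; its verification evaluates both sides on sections
of R^p ζ_* L and R^p η_*(g^* L) over affine opens, identified with cohomology classes over their
preimages, and that identification is the one available for ζ and η quasi-compact and
quasi-separated, which are therefore assumed here. -/
theorem result
    {X Y Z U V W : Scheme.{u}} (f : X ⟶ Y) (g : Y ⟶ Z) (ξ : X ⟶ U) (η : Y ⟶ V) (ζ : Z ⟶ W)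
    (φ : U ⟶ V) (ψ : V ⟶ W) (h₁ : IsPullback f ξ η φ) (h₂ : IsPullback g η ζ ψ)
    (hw : (f ≫ g) ≫ ζ = ξ ≫ (φ ≫ ψ))
    [QuasiCompact ζ] [QuasiSeparated ζ] [QuasiCompact η] [QuasiSeparated η]
    [HasInjectiveResolutions X.Modules] [HasInjectiveResolutions Y.Modules] [HasInjectiveResolutions Z.Modules]
    (L : Z.Modules) [Coh.IsQCoh L] (p : ℕ)
    {Δζ : RDer.DerivedLES (pushforward ζ)} {Δη : RDer.DerivedLES (pushforward η)} {Δξ : RDer.DerivedLES (pushforward ξ)}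
    (Eζ : CohCmp.SectCmp ζ Δζ) (Eη : CohCmp.SectCmp η Δη) (Eξ : CohCmp.SectCmp ξ Δξ)
    (B₂ : CohCmp.GenBC ζ ψ η g h₂.w Eζ Eη) (B₁ : CohCmp.GenBC η φ ξ f h₁.w Eη Eξ)
    (B : CohCmp.GenBC ζ (φ ≫ ψ) ξ (f ≫ g) hw Eζ Eξ) :
    (pullbackComp φ ψ).hom.app ((Coh.Rpush ζ p).obj L) ≫ B.bc p L =
      (pullback φ).map (B₂.bc p L) ≫ B₁.bc p ((pullback g).obj L) ≫
        (Coh.Rpush ξ p).map ((pullbackComp f g).hom.app L) := by
  haveI : L.IsQuasicoherent := ‹Coh.IsQCoh L›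
  refine GrothLib.BCComp.pullback_hom_ext₂ ?_
  intro V
  suffices key : ∀ (V : W.Opens), IsAffineOpen V → ∀ s : Γ((Coh.Rpush ζ p).obj L, V),
      ((pullbackComp φ ψ).hom.app ((Coh.Rpush ζ p).obj L) ≫ B.bc p L).app (φ ⁻¹ᵁ (ψ ⁻¹ᵁ V))
        (GrothLib.BCCoh.pullRes φ _ (ψ ⁻¹ᵁ V) (φ ⁻¹ᵁ (ψ ⁻¹ᵁ V)) le_rfl
          (GrothLib.BCCoh.pullRes ψ _ V (ψ ⁻¹ᵁ V) le_rfl s)) =
      ((pullback φ).map (B₂.bc p L) ≫ B₁.bc p ((pullback g).obj L) ≫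
        (Coh.Rpush ξ p).map ((pullbackComp f g).hom.app L)).app (φ ⁻¹ᵁ (ψ ⁻¹ᵁ V))
        (GrothLib.BCCoh.pullRes φ _ (ψ ⁻¹ᵁ V) (φ ⁻¹ᵁ (ψ ⁻¹ᵁ V)) le_rfl
          (GrothLib.BCCoh.pullRes ψ _ V (ψ ⁻¹ᵁ V) le_rfl s)) by
    intro s
    set a := (pullbackComp φ ψ).hom.app ((Coh.Rpush ζ p).obj L) ≫ B.bc p L
    set b := (pullback φ).map (B₂.bc p L) ≫ B₁.bc p ((pullback g).obj L) ≫
        (Coh.Rpush ξ p).map ((pullbackComp f g).hom.app L)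
    have h : (pullbackPushforwardAdjunction ψ).homEquiv _ _ ((pullbackPushforwardAdjunction φ).homEquiv _ _ a) =
        (pullbackPushforwardAdjunction ψ).homEquiv _ _ ((pullbackPushforwardAdjunction φ).homEquiv _ _ b) :=
      GrothLib.BCComp.hom_ext_affine fun V hV s => by
        have h0 := key V hV s
        rw [GrothLib.BCComp.pullRes_self, GrothLib.BCComp.pullRes_self] at h0
        rw [Adjunction.homEquiv_unit, Adjunction.homEquiv_unit, Adjunction.homEquiv_unit, Adjunction.homEquiv_unit]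
        exact h0
    have hab : a = b := ((pullbackPushforwardAdjunction φ).homEquiv _ _).injective
      (((pullbackPushforwardAdjunction ψ).homEquiv _ _).injective h)
    rw [hab]
  intro V hV s
  obtain ⟨x, rfl⟩ := (GrothLib.CohPullLib.eps_bijective ζ Eζ L p hV).2 s
  show (B.bc p L).app (φ ⁻¹ᵁ (ψ ⁻¹ᵁ V)) (((pullbackComp φ ψ).hom.app ((Coh.Rpush ζ p).obj L)).app (φ ⁻¹ᵁ (ψ ⁻¹ᵁ V))
      (GrothLib.BCCoh.pullRes φ _ (ψ ⁻¹ᵁ V) (φ ⁻¹ᵁ (ψ ⁻¹ᵁ V)) le_rfl (GrothLib.BCCoh.pullRes ψ _ V (ψ ⁻¹ᵁ V) le_rfl (Eζ.ε V L p x)))) =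
    ((Coh.Rpush ξ p).map ((pullbackComp f g).hom.app L)).app (φ ⁻¹ᵁ (ψ ⁻¹ᵁ V)) ((B₁.bc p ((pullback g).obj L)).app (φ ⁻¹ᵁ (ψ ⁻¹ᵁ V))
      (((pullback φ).map (B₂.bc p L)).app (φ ⁻¹ᵁ (ψ ⁻¹ᵁ V))
        (GrothLib.BCCoh.pullRes φ _ (ψ ⁻¹ᵁ V) (φ ⁻¹ᵁ (ψ ⁻¹ᵁ V)) le_rfl (GrothLib.BCCoh.pullRes ψ _ V (ψ ⁻¹ᵁ V) le_rfl (Eζ.ε V L p x)))))
  rw [GrothLib.CohPullLib.pullRes_map φ (B₂.bc p L) (ψ ⁻¹ᵁ V) (φ ⁻¹ᵁ (ψ ⁻¹ᵁ V)) le_rfl, GrothLib.BCComp.bc_pullRes_eps B₂ L p V x,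
    GrothLib.BCComp.bc_pullRes_eps B₁ ((pullback g).obj L) p (ψ ⁻¹ᵁ V),
    GrothLib.CohPullLib.pullbackComp_pullRes φ ψ _ V (ψ ⁻¹ᵁ V) (φ ⁻¹ᵁ (ψ ⁻¹ᵁ V)) le_rfl le_rfl le_rfl]
  refine Eq.trans ?_ (Eξ.natural _ ((pullbackComp f g).hom.app L) p _)
  refine (GrothLib.BCComp.bc_pullRes_eps B L p V x).trans ?_
  exact (congrArg (Eξ.ε (φ ⁻¹ᵁ (ψ ⁻¹ᵁ V)) _ p) (GrothLib.BCComp.pullOn_comp f g (ζ ⁻¹ᵁ V) (η ⁻¹ᵁ (ψ ⁻¹ᵁ V)) (ξ ⁻¹ᵁ (φ ⁻¹ᵁ (ψ ⁻¹ᵁ V))) _ _ _ L p x)).symm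

end Groth.Agent.S16948
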