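import Groth.Statements.S1695
import Groth.Agent.Lib.BlowUp.Rees

set_option autoImplicit false
universe u
open CategoryTheory CategoryTheory.Limits AlgebraicGeometry TopologicalSpace
open SDiv

namespace Groth.Agent.S1695

/-- Let A be a ring, I an ideal, and b : X' ⟶ Spec A a blowing-up of Spec A along the ideal sheaf of I.
Then every point of X' has an open neighbourhood which is isomorphic, over Spec A, to the spectrum
of an affine blow-up algebra A[I/a] for some a ∈ I. -/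
theorem result (A : Type u) [CommRing A] (I : Ideal A) {X' : Scheme.{u}}
    (b : X' ⟶ Spec (CommRingCat.of A)) (hb : BlowUp.IsBlowUp b (Scheme.IdealSheafData.ofIdealTop (I.map (Scheme.ΓSpecIso (CommRingCat.of A)).inv.hom))) (x' : ↥X') :
    ∃ (a : A) (_ : a ∈ I) (V : X'.Opens) (e : (V : Scheme.{u}) ≅ Spec (CommRingCat.of ↥(BlowUp.affineAlgebra A I a))),
      x' ∈ V ∧ e.hom ≫ Spec.map (CommRingCat.ofHom (algebraMap A ↥(BlowUp.affineAlgebra A I a))) = V.ι ≫ b := by
  have hP := GrothLib.BlowUp.isBlowUp_proj I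
  obtain ⟨h, hh, -⟩ := hP.2 X' b hb.1
  obtain ⟨k, hk, -⟩ := hb.2 _ _ hP.1
  have e1 : h ≫ k = 𝟙 X' := GrothLib.BlowUp.hom_ext hb
    (by rw [Category.assoc, hk, hh, Category.id_comp]) (by rw [Category.assoc, hk, hh]; exact hb.1)
  have e2 : k ≫ h = 𝟙 _ := GrothLib.BlowUp.hom_ext hP
    (by rw [Category.assoc, hh, hk, Category.id_comp]) (by rw [Category.assoc, hh, hk]; exact hP.1)
  have : IsIso h := ⟨k, e1, e2⟩
  let C := GrothLib.BlowUp.reesCharts I
  obtain ⟨a, ha⟩ := C.covers (h x')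
  let j' := C.j a ≫ inv h
  refine ⟨a, a.2, j'.opensRange, j'.isoOpensRange.symm, ?_, ?_⟩
  · obtain ⟨q, hq⟩ := ha
    refine ⟨q, ?_⟩
    show inv h (C.j a q) = x'
    rw [hq, ← Scheme.Hom.comp_apply, IsIso.hom_inv_id]
    rfl
  · rw [← Scheme.Hom.isoOpensRange_inv_comp j', Category.assoc]
    show _ = j'.isoOpensRange.inv ≫ (C.j a ≫ inv h) ≫ b
    rw [Category.assoc, ← hh, IsIso.inv_hom_id_assoc, C.comp a]
    rfl

end Groth.Agent.S1695
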