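import Groth.Statements.S16950
import Groth.Agent.Lib.BCCrit.FlatRpush

set_option autoImplicit false
universe u
open Coherent

namespace Groth.Agent.S16950

open AlgebraicGeometry CategoryTheory Scheme.Modules in
/-- For a single module in place of the complex, let S be a scheme, a : X → S and b : Y → S schemes over
S, f : X → Y a separated quasi-compact morphism with f ≫ b = a, and F a quasi-coherent O_X-module,
flat over S (via a), such that every higher direct image R^n f_* F (the n-th right derived functor
of direct image on O-modules) is flat over S (via b). For any morphism g : S' → S form the cartesian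
squares Y' = Y ×_S S' (projections g_Y : Y' → Y, b' : Y' → S') and X' = X ×_Y Y' (projections g_X :
X' → X, f' : X' → Y'). Then for every n the degree-n base change map g_Y^* R^n f_* F → R^n f'_*
(g_X^* F) is an isomorphism; the map is the pinned one of the structure GenBC, relative to pinned
comparison data for f and f'. -/
theorem result
    {X Y S X' Y' S' : Scheme.{u}} (a : X ⟶ S) (b : Y ⟶ S) (f : X ⟶ Y) (hf : f ≫ b = a)
    [IsSeparated f] [QuasiCompact f]
    (g : S' ⟶ S) (gY : Y' ⟶ Y) (b' : Y' ⟶ S') (hY : IsPullback gY b' b g)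
    (gX : X' ⟶ X) (f' : X' ⟶ Y') (hX : IsPullback gX f' f gY)
    [HasInjectiveResolutions X.Modules] [HasInjectiveResolutions X'.Modules]
    (F : X.Modules) [Coh.IsQCoh F] (hF : FlatMod.IsFlatOver a F)
    (hR : ∀ n : ℕ, FlatMod.IsFlatOver b ((Coh.Rpush f n).obj F))
    {Δ : RDer.DerivedLES (pushforward f)} {Δ' : RDer.DerivedLES (pushforward f')}
    (E : CohCmp.SectCmp f Δ) (E' : CohCmp.SectCmp f' Δ') (B : CohCmp.GenBC f gY f' gX hX.w E E') (n : ℕ) :
    IsIso (B.bc n F) := by
  haveI : F.IsQuasicoherent := ‹Coh.IsQCoh F›
  exact GrothLib.BCCrit.isIso_bc_of_flat a b hf F hF hR g gY b' hY gX f' hX E E' B n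

end Groth.Agent.S16950
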