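import Groth.Statements.S16951
import Groth.Agent.Lib.Seesaw26.Criterion
import Groth.Agent.Lib.Seesaw26.FieldFunctions
import Groth.Agent.Lib.Rigidity.Relative.Hom

set_option autoImplicit false
universe u
open PicF

namespace Groth.Agent.S16951

open AlgebraicGeometry CategoryTheory Scheme.Modules in
/-- Let f : X → S be a proper flat morphism of locally Noetherian schemes whose fibres are geometrically
integral, and let L be an invertible O_X-module with an inverse M (an isomorphism L ⊗ M ≅ O_X). Then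
the following are equivalent: (a) L ≅ f^* L₀ for some invertible O_S-module L₀; (b) for N = L and
for N = M, at every point s of S the space H^0(X_s, N|_{X_s}) of sections over the scheme-theoretic
fibre is nonzero and the degree-0 base change map of the fibre square, κ(s)^* f_* N → (X_s → Spec
κ(s))_* (N|_{X_s}), is an epimorphism. When this holds, dim_{κ(s)} H^0(X_s, N|_{X_s}) = 1 for every
s and both N, the counit f^* f_* L → L is an isomorphism, and any invertible L₀ with L ≅ f^* L₀ is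
isomorphic to f_* L. -/
theorem result
    {X S : Scheme.{u}} (f : X ⟶ S) [IsProper f] [Flat f] [IsLocallyNoetherian X] [IsLocallyNoetherian S]
    [GeometricallyIntegral f] (L M : X.Modules) (hL : PicF.IsInvertible L)
    (hM : Nonempty (CohB1.tensorMod L M ≅ Coh.structureModule X)) :
    ((∃ L₀ : S.Modules, PicF.IsInvertible L₀ ∧ Nonempty (L ≅ (pullback f).obj L₀)) ↔
      ((∀ s : S, Nontrivial (CohIII.fiberH f L s 0)) ∧ (∀ s : S, Nontrivial (CohIII.fiberH f M s 0)) ∧
        (∀ s : S, Epi (CohBC.bc0 f (S.fromSpecResidueField s) (f.fiberToSpecResidueField s) (f.fiberι s) (f.fiber_fac s) L)) ∧ (∀ s : S, Epi (CohBC.bc0 f (S.fromSpecResidueField s) (f.fiberToSpecResidueField s) (f.fiberι s) (f.fiber_fac s) M)))) ∧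
    (((∀ s : S, Nontrivial (CohIII.fiberH f L s 0)) ∧ (∀ s : S, Nontrivial (CohIII.fiberH f M s 0)) ∧
        (∀ s : S, Epi (CohBC.bc0 f (S.fromSpecResidueField s) (f.fiberToSpecResidueField s) (f.fiberι s) (f.fiber_fac s) L)) ∧ (∀ s : S, Epi (CohBC.bc0 f (S.fromSpecResidueField s) (f.fiberToSpecResidueField s) (f.fiberι s) (f.fiber_fac s) M))) →
      (∀ s : S, CohIII.fiberRank f L 0 s = 1 ∧ CohIII.fiberRank f M 0 s = 1) ∧
      IsIso ((pullbackPushforwardAdjunction f).counit.app L) ∧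
      ∀ L₀ : S.Modules, PicF.IsInvertible L₀ → Nonempty (L ≅ (pullback f).obj L₀) →
        Nonempty (L₀ ≅ (pushforward f).obj L)) := by
  haveI := GrothLib.Rigidity.geometricallyConnected_of_geometricallyIrreducible f
  have h0 := GrothLib.Seesaw26.finrank_fiber_functions_eq_one f
  have hint : ∀ s : S, IsIntegral (f.fiber s) := fun s =>
    pullback_of_geometrically GeometricallyIntegral.geometrically_isIntegral _ (S.fromSpecResidueField s)
  have hM' : PicF.IsInvertible M := by
    obtain ⟨e⟩ := hM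
    exact GrothLib.Seesaw26.isInvertible_of_tensor_iso e hL
  have hLM : GrothLib.Cube.clsMod hL * GrothLib.Cube.clsMod hM' = 1 := by
    rw [← GrothLib.Cube.clsMod_tensorMod]
    exact (GrothLib.Cube.clsMod_eq_one_iff _).2 hM
  have hL₀ : ∀ {N : X.Modules} {N₀ : S.Modules}, PicF.IsInvertible N → PicF.IsInvertible N₀ →
      Nonempty (N ≅ (Scheme.Modules.pullback f).obj N₀) →
      (∀ s : S, CohIII.fiberRank f N 0 s = 1) ∧
      (∀ s : S, Epi (CohBC.bc0 f (S.fromSpecResidueField s) (f.fiberToSpecResidueField s) (f.fiberι s)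
        (f.fiber_fac s) N)) := by
    rintro N N₀ hN hN₀ ⟨i⟩
    refine ⟨fun s => GrothLib.Seesaw26.fiberRank_eq_one f N s (h0 s)
      (GrothLib.Seesaw26.trivial_fibre_of_base f hN₀ i.symm s), fun s => ?_⟩
    obtain ⟨U, hU, e, he⟩ := GrothLib.Seesaw26.exists_gen_preimage_of_base f hN₀ i.symm s
    exact GrothLib.Seesaw26.epi_bc0_of_gen f N hN s (h0 s) U hU e he
  have hcore : ((∀ s : S, Nontrivial (CohIII.fiberH f L s 0)) ∧ (∀ s : S, Nontrivial (CohIII.fiberH f M s 0)) ∧
        (∀ s : S, Epi (CohBC.bc0 f (S.fromSpecResidueField s) (f.fiberToSpecResidueField s) (f.fiberι s) (f.fiber_fac s) L)) ∧ (∀ s : S, Epi (CohBC.bc0 f (S.fromSpecResidueField s) (f.fiberToSpecResidueField s) (f.fiberι s) (f.fiber_fac s) M))) →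
      ∃ L₀ : S.Modules, PicF.IsInvertible L₀ ∧ Nonempty (L ≅ (Scheme.Modules.pullback f).obj L₀) := by
    rintro ⟨hn, hn', hepi, -⟩
    obtain ⟨c, ⟨e⟩⟩ := GrothLib.Ample.exists_cocycle hL
    obtain ⟨d, ⟨e'⟩⟩ := GrothLib.Ample.exists_cocycle hM'
    rw [GrothLib.Cube.clsMod_eq hL e, GrothLib.Cube.clsMod_eq hM' e', mul_comm] at hLM
    have htriv : ∀ s : S, Nonempty ((Scheme.Modules.pullback (f.fiberι s)).obj L ≅
        Coh.structureModule (f.fiber s)) := fun s => by
      haveI := hint s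
      obtain ⟨g⟩ := c.nonempty_pullback_iso (f.fiberι s) e
      haveI : UniversallyClosed (f.fiberToSpecResidueField s) :=
        MorphismProperty.pullback_snd f (S.fromSpecResidueField s) inferInstance
      obtain ⟨t⟩ := (GrothLib.Cube.triv_iff _).1 (GrothLib.Cube.triv_of_sections
        (GrothLib.Rigidity.isField_appTop_of_universallyClosed (K := S.residueField s) (f.fiberToSpecResidueField s))
        (c.comap (f.fiberι s)) (d.comap (f.fiberι s))
        (by rw [← GrothLib.Cube.pull_cls, ← GrothLib.Cube.pull_cls, ← map_mul, hLM, map_one])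
        (GrothLib.Seesaw26.exists_sect_of_nontrivial f e s (hn s))
        (GrothLib.Seesaw26.exists_sect_of_nontrivial f e' s (hn' s)))
      exact ⟨g ≪≫ t⟩
    obtain ⟨N, hN, ⟨i⟩⟩ := GrothLib.Seesaw26.exists_base_of_good f h0 L hL htriv hepi
    exact ⟨N, hN, ⟨i.symm⟩⟩
  refine ⟨⟨?_, hcore⟩, fun hb => ?_⟩
  · rintro ⟨L₀, hL₀', hi⟩
    obtain ⟨hr, hepi⟩ := hL₀ hL hL₀' hi
    obtain ⟨N₀, hN₀, hj⟩ := GrothLib.Seesaw26.exists_inv_base f hL hM' hL₀' hi hLM
    obtain ⟨hr', hepi'⟩ := hL₀ hM' hN₀ hj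
    exact ⟨fun s => Module.nontrivial_of_finrank_eq_succ (hr s),
      fun s => Module.nontrivial_of_finrank_eq_succ (hr' s), hepi, hepi'⟩
  · obtain ⟨L₀, hL₀', hi⟩ := hcore hb
    obtain ⟨N₀, hN₀, hj⟩ := GrothLib.Seesaw26.exists_inv_base f hL hM' hL₀' hi hLM
    have hf := GrothLib.Seesaw26.bijective_app_of_invertible f (GrothLib.Seesaw26.invertible_push_structure f h0)
    refine ⟨fun s => ⟨(hL₀ hL hL₀' hi).1 s, (hL₀ hM' hN₀ hj).1 s⟩,
      ((GrothLib.UnitLF26.isPullback_iff f hf L).1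
        ⟨L₀, GrothLib.Euler.isFinLocFree_of_isInvertible hL₀', hi⟩).2, ?_⟩
    rintro N hN ⟨i⟩
    haveI := GrothLib.UnitLF26.isIso_unit f hf (GrothLib.Euler.isFinLocFree_of_isInvertible hN)
    exact ⟨asIso ((GrothLib.UnitLF26.unitNat f).app N) ≪≫ (Scheme.Modules.pushforward f).mapIso i.symm⟩

end Groth.Agent.S16951
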