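import Groth.Statements.S1696
import Groth.Agent.Lib.QCoh.StalkPullback
import Groth.Agent.Lib.BlowUp.EffCartier
import Groth.Agent.Lib.WeakAss.Basic
import Groth.Agent.Lib.InvExt.Gen
import Groth.Agent.Lib.BlowUp.Regular

set_option autoImplicit false
universe u
open CategoryTheory CategoryTheory.Limits AlgebraicGeometry TopologicalSpace
open SDiv

namespace Groth.Agent.S1696

/-- The ideal on a smaller affine. -/
noncomputable abbrev X_res {X : Scheme.{u}} (E : X.IdealSheafData) {V T : X.affineOpens} (h : T.1 ≤ V.1) :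
    Ideal Γ(X, T.1) := (E.ideal V).map (X.presheaf.map (homOfLE h).op).hom

theorem X_res_le {X : Scheme.{u}} (E : X.IdealSheafData) {M : X.Modules} {V T : X.affineOpens} (h : T.1 ≤ V.1)
    (m : Γ(M, V.1)) (hm : ∀ a : Γ(X, V.1), a ∈ E.ideal V → a • m = 0) :
    E.ideal T ≤ (LinearMap.toSpanSingleton Γ(X, T.1) Γ(M, T.1) (GrothLib.InvExt.mres M h m)).ker := by
  rw [← E.map_ideal h, Ideal.map_le_iff_le_comap]
  intro a ha
  rw [Ideal.mem_comap, LinearMap.mem_ker, LinearMap.toSpanSingleton_apply]
  show GrothLib.InvExt.fres X h a • GrothLib.InvExt.mres M h m = 0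
  rw [← GrothLib.InvExt.mres_smul, hm a ha]
  exact map_zero _

theorem reg_of_flat {R M : Type*} [CommRing R] [AddCommGroup M] [Module R M] [Module.Flat R M] {a : R}
    (ha : a ∈ nonZeroDivisors R) {m : M} (h : a • m = 0) : m = 0 := by
  have hinj : Function.Injective (LinearMap.lsmul R R a) := fun c d hcd =>
    (mul_cancel_left_mem_nonZeroDivisors ha).1 hcd
  have := Module.Flat.rTensor_preserves_injective_linearMap (M := M) _ hinj
  have h1 : TensorProduct.tmul R (1 : R) m = 0 := this (by
    rw [LinearMap.rTensor_tmul, map_zero, LinearMap.lsmul_apply, smul_eq_mul, mul_one, ← mul_one a, ← smul_eq_mul,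
      TensorProduct.smul_tmul, h, TensorProduct.tmul_zero])
  simpa using congrArg (TensorProduct.lid R M) h1

/-- Let b : S' → S be the blowing-up of a scheme S in a quasi-coherent sheaf of ideals 𝓘 and F a
quasi-coherent O_S-module which is flat at every point of V(𝓘), the support of O_S/𝓘. Then the
pullback b^*F is its own strict transform (via the identity map): no nonzero local section of b^*F
is annihilated by a power of the exceptional ideal. -/
theorem result {S S' : Scheme.{u}} (𝓘 : S.IdealSheafData) (b : S' ⟶ S) (hb : BlowUp.IsBlowUp b 𝓘)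
    (F : S.Modules) (hF : Coh.IsQCoh F) (hflat : ∀ s : ↥S, s ∈ 𝓘.support → FlatMod.IsFlatAt F s) :
    BlowUp.IsStrictTransform b 𝓘 F ((Scheme.Modules.pullback b).obj F) (𝟙 _) := by
  let M := (Scheme.Modules.pullback b).obj F
  refine ⟨inferInstance, fun V m => ⟨fun hm => ?_, fun hm => ?_⟩⟩
  · have hm0 : m = 0 := hm
    exact ⟨0, fun a _ => by rw [hm0, smul_zero]⟩
  obtain ⟨n, hn⟩ := hm
  show m = 0
  refine TopCat.Presheaf.section_ext ⟨M.presheaf, M.isSheaf⟩ V.1 m 0 fun y hy => ?_
  show M.presheaf.germ V.1 y hy m = M.presheaf.germ V.1 y hy 0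
  rw [map_zero]
  obtain ⟨T, hyT, hTV, a, hanz, ha⟩ := GrothLib.BlowUp.exists_cartierOn_le hb.1 hy
  have hkill : ((𝓘.comap b) ^ n).ideal T ≤ (LinearMap.toSpanSingleton Γ(S', T.1) Γ(M, T.1) (GrothLib.InvExt.mres M hTV m)).ker :=
    X_res_le _ hTV _ hn
  have han : a ^ n • GrothLib.InvExt.mres M hTV m = 0 := by
    refine hkill ?_
    show a ^ n ∈ ((𝓘.comap b) ^ n).ideal T
    rw [Scheme.IdealSheafData.ideal_pow, Pi.pow_apply, ha]
    exact Ideal.pow_mem_pow (Ideal.mem_span_singleton_self a) n
  have hgerm := congrArg (M.presheaf.germ T.1 y hyT) han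
  rw [GrothLib.WeakAss.germ_smul, map_zero, TopCat.Presheaf.germ_res_apply, map_pow] at hgerm
  by_cases hsupp : y ∈ (𝓘.comap b).support
  · have hs : b y ∈ 𝓘.support := by
      rw [Scheme.IdealSheafData.support_comap] at hsupp; exact hsupp
    let φ := (b.stalkMap y).hom
    let _ := φ.toAlgebra
    have : Module.Flat (S.presheaf.stalk (b y)) (F.presheaf.stalk (b y)) := hflat _ hs
    let e : TensorProduct (S.presheaf.stalk (b y)) (S'.presheaf.stalk y) (F.presheaf.stalk (b y)) ≃ₗ[S'.presheaf.stalk y]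
        M.presheaf.stalk y := ((GrothLib.QCoh.stalkPullbackIso b y).app F).toLinearEquiv.symm
    have : Module.Flat (S'.presheaf.stalk y) (M.presheaf.stalk y) := Module.Flat.of_linearEquiv e.symm
    exact reg_of_flat (pow_mem (GrothLib.BlowUp.germ_mem_nonZeroDivisors hanz hyT) n) hgerm
  · rw [Scheme.IdealSheafData.mem_support_iff_of_mem hyT, ha, Scheme.zeroLocus_span,
      Scheme.zeroLocus_singleton, Set.mem_compl_iff, not_not, SetLike.mem_coe, Scheme.mem_basicOpen _ a y hyT] at hsupp
    exact (hsupp.pow n).smul_eq_zero.1 hgerm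

end Groth.Agent.S1696
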