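import Groth.Statements.S16962
import Groth.Agent.Lib.ConstAct.Comod


set_option autoImplicit false
set_option backward.isDefEq.respectTransparency false
set_option backward.isDefEq.respectTransparency.types false
universe u
open ConstAct

namespace Groth.Agent.S16962

open GrothLib

open TensorProduct in
/-- Let R be a commutative ring, Γ a finite group and B a commutative R-algebra equipped with a comodule
structure over the Hopf algebra of R-valued functions on Γ (the coordinate ring of the constant
group scheme of Γ over Spec R, with basis the indicator functions e_γ) whose coaction B → B ⊗ Fun(Γ,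
R) is a homomorphism of algebras, i.e. an action of the constant group scheme on Spec B. Then there
is exactly one action of Γ on B by R-algebra automorphisms whose associated coaction b ↦ Σ_γ (γ · b)
⊗ e_γ is the given coaction; and for that action the ring of invariants of the comodule algebra (the
b whose coaction is b ⊗ 1) equals the ring of elements fixed by Γ. (That the coaction associated
with an action is a comodule algebra structure is the other direction of the published equivalence
and is a construction here.) -/
theorem result (R : Type u) [CommRing R]
    (B : Type u) [CommRing B] [Algebra R B] (Γ : Type u) [Group Γ] [Fintype Γ] [DecidableEq Γ]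
    [HopfRep.Comod R (ConstGrp.F R Γ) B] [GLin.IsCoactAlg R (ConstGrp.F R Γ) B] :
    ∃! a : MulSemiringAction Γ B, ∃ _ : SMulCommClass Γ R B,
      ConstAct.coactLin R B Γ = HopfRep.Comod.coact (k := R) (A := ConstGrp.F R Γ) (V := B) ∧
        GLin.invariants R (ConstGrp.F R Γ) B = ConstAct.inv R B Γ := by
  letI a := ConstComod.action R Γ B
  haveI : SMulCommClass Γ R B := ConstComod.smulComm R Γ B
  have h : ConstAct.coactLin R B Γ = HopfRep.Comod.coact (k := R) (A := ConstGrp.F R Γ) (V := B) :=
    LinearMap.ext fun b => (ConstAct.coactLin_apply R B Γ b).trans (ConstComod.coact_eq_sum b).symm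
  refine ⟨a, ⟨this, h, ConstComod.invariants_eq B h⟩, fun a' ⟨hs, h', _⟩ => ?_⟩
  have hg : ∀ (g : Γ) (b : B), (letI := a'; g • b) = ConstComod.op R Γ B g b := fun g b => ?_
  · obtain @⟨@⟨@⟨@⟨⟨s'⟩, _⟩, _⟩, _, _⟩, _, _⟩ := a'
    obtain rfl : s' = fun g b => ConstComod.op R Γ B g b := funext₂ hg
    rfl
  have e := DFunLike.congr_fun h' b
  letI := a'
  rw [ConstAct.coactLin_apply] at e
  have e' := congrArg (ConstComod.comp R Γ B g) e
  rw [ConstComod.comp_sum_tmul_e] at e'
  exact e'

end Groth.Agent.S16962
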