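import Groth.Statements.S16963
import Groth.Agent.Lib.ConstAct.Comod


set_option autoImplicit false
set_option backward.isDefEq.respectTransparency false
set_option backward.isDefEq.respectTransparency.types false
universe u
open scoped BigOperators
open ConstAct

namespace Groth.Agent.S16963

open GrothLib

open TensorProduct in
/-- Let R be a commutative ring and Γ a finite group acting on a commutative R-algebra B by R-algebra
automorphisms; regard B as a comodule algebra over the Hopf algebra of R-valued functions on Γ (the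
constant group scheme of Γ acting on Spec B) through the coaction b ↦ Σ_γ (γ · b) ⊗ e_γ. Then the
action is tame — there is a comodule map α from the Hopf algebra, with its regular coaction, to B
with α(1) = 1 (a total integral) — if and only if the trace b ↦ Σ_γ γ · b, which takes values in the
ring of invariants B^Γ, maps B onto B^Γ. -/
theorem result (R : Type u) [CommRing R]
    (B : Type u) [CommRing B] [Algebra R B] (Γ : Type u) [Group Γ] [Fintype Γ] [DecidableEq Γ]
    [MulSemiringAction Γ B] [SMulCommClass Γ R B] :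
    letI := ConstAct.comod R B Γ
    (∃ α : ConstGrp.F R Γ →ₗ[R] B, Hoch.IsComodHom (ConstGrp.F R Γ) α ∧ α 1 = 1) ↔
      ∀ c : B, c ∈ ConstAct.inv R B Γ → ∃ b : B, ∑ γ : Γ, γ • b = c := by
  letI := ConstAct.comod R B Γ
  refine ⟨fun ⟨α, hα, h1⟩ c hc => ?_, fun h => ?_⟩
  · have key : ∀ g : Γ, g • α (ConstGrp.e R 1) = α (ConstGrp.e R g⁻¹) := by
      intro g
      have e := congrArg (ConstComod.comp R Γ B g) (DFunLike.congr_fun hα (ConstGrp.e R (1 : Γ)))
      simp only [LinearMap.comp_apply] at e
      change ConstComod.comp R Γ B g (ConstAct.coactLin R B Γ (α (ConstGrp.e R 1))) =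
        ConstComod.comp R Γ B g (α.rTensor _ (Coalgebra.comul (R := R) (ConstGrp.e R (1 : Γ)))) at e
      rw [ConstAct.coactLin_apply, ConstComod.comp_sum_tmul_e, ConstGrp.comul_e] at e
      rw [e]
      simp only [map_sum, LinearMap.rTensor_tmul, ConstComod.comp_tmul, ConstGrp.e_apply, mul_one, ite_smul, one_smul, zero_smul]
      rw [Finset.sum_eq_single g⁻¹ (fun a _ ha => if_neg fun h' => ha (by rw [h', inv_inv])) (fun h' => absurd (Finset.mem_univ _) h'),
        if_pos (inv_inv g).symm]
    refine ⟨c * α (ConstGrp.e R 1), ?_⟩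
    calc ∑ g : Γ, g • (c * α (ConstGrp.e R 1)) = ∑ g : Γ, c * α (ConstGrp.e R g⁻¹) :=
          Finset.sum_congr rfl fun g _ => by rw [smul_mul', hc g, key]
      _ = c * α (∑ g : Γ, ConstGrp.e R g⁻¹) := by rw [map_sum, Finset.mul_sum]
      _ = c := by rw [Fintype.sum_equiv (Equiv.inv Γ) (fun g => ConstGrp.e R g⁻¹) (ConstGrp.e R) (fun _ => rfl), ConstGrp.sum_e, h1, mul_one]
  · obtain ⟨b, hb⟩ := h 1 (fun g => smul_one g)
    refine ⟨Fintype.linearCombination R (fun h : Γ => h⁻¹ • b), ?_, ?_⟩
    · refine ConstGrp.linearMap_ext fun h => ConstComod.ext_comp fun g => ?_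
      change ConstComod.comp R Γ B g (ConstAct.coactLin R B Γ (Fintype.linearCombination R (fun h : Γ => h⁻¹ • b) (ConstGrp.e R h))) =
        ConstComod.comp R Γ B g (LinearMap.rTensor _ _ (Coalgebra.comul (R := R) (ConstGrp.e R h)))
      have hv : ∀ x : Γ, Fintype.linearCombination R (fun h : Γ => h⁻¹ • b) (ConstGrp.e R x) = x⁻¹ • b := fun x =>
        (Fintype.linearCombination_apply_single R _ x 1).trans (one_smul R _)
      rw [ConstAct.coactLin_apply, ConstComod.comp_sum_tmul_e, ConstGrp.comul_e, hv]
      simp only [map_sum, LinearMap.rTensor_tmul, ConstComod.comp_tmul, ConstGrp.e_apply, ite_smul, one_smul, zero_smul]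
      rw [Finset.sum_eq_single (h * g⁻¹) (fun a _ ha => if_neg fun h' => ha (by rw [h', mul_inv_rev, inv_inv, mul_inv_cancel_left]))
        (fun h' => absurd (Finset.mem_univ _) h'), if_pos (by rw [mul_inv_rev, inv_inv, inv_mul_cancel_right])]
      refine Eq.trans ?_ (hv _).symm
      rw [mul_inv_rev, inv_inv, mul_smul]
    · refine (Fintype.linearCombination_apply R (fun h : Γ => h⁻¹ • b) _).trans ?_
      simp only [ConstGrp.one_apply, one_smul]
      exact (Fintype.sum_equiv (Equiv.inv Γ) _ _ (fun _ => rfl)).trans hb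

end Groth.Agent.S16963
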