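import Groth.Statements.S19204
import Groth.Agent.Lib.CurveRR.Setup
import Groth.Agent.Lib.FunFld.LinSeries
import Groth.Agent.Lib.FunFld.RR
import Groth.Agent.Lib.FunFld.Conseq

set_option autoImplicit false
universe u
open CategoryTheory AlgebraicGeometry
open Curves

namespace Groth.Agent.S19204

/-- Let C be a smooth projective curve of genus g ≥ 1 over an algebraically closed field k (an integral
scheme, proper over k, of dimension one, all local rings regular) and d an integer with d > 2g. For
every invertible O_C-module M of degree d' ≤ d having at least m + 1 linearly independent global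
sections with m ≥ 1, and with d' < d or m < d − g, one has d·m < d'·(d − g). Linear stability of C
mapped to P^{d−g} by all sections of a line bundle of degree d, which is what the published
statement asserts, follows from this inequality: a projection of that image to P^m has image cycle
of degree d' = deg M for such an M, so its reduced degree d'/m exceeds d/(d − g); linear stability
itself (reduced degrees of projections of an embedded variety) is not formalized here. -/
theorem result (k : Type u) [Field k] [IsAlgClosed k] (X : Scheme.{u})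
    [X.Over (Spec (CommRingCat.of k))] [IsIntegral X] [IsProper (X ↘ (Spec (CommRingCat.of k)))]
    (hdim : topologicalKrullDim X = 1) (hreg : ∀ x : X, IsRegularLocalRing (X.presheaf.stalk x))
    (hg : 1 ≤ Curv2.genus k X) (d : ℤ) (hd : 2 * (Curv2.genus k X : ℤ) < d)
    (M : X.Modules) (hM : PicF.IsInvertible M) (m : ℕ) (hm : 1 ≤ m)
    (hsec : m + 1 ≤ Module.finrank k (Coh.HH X M 0)) (hdeg : Curv2.deg k X M 1 ≤ d)
    (hlt : Curv2.deg k X M 1 < d ∨ (m : ℤ) < d - Curv2.genus k X) :
    d * (m : ℤ) < Curv2.deg k X M 1 * (d - Curv2.genus k X) := by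
  haveI := GrothLib.CurveRR.regCurve_of_regular (k := k) hdim hreg
  have h0' := GrothLib.CurveRR.finrank_H0_structure_eq_one k (X := X)
  have hK := GrothLib.CurveRR.isFunctionField k h0'
  obtain ⟨C, hC⟩ := GrothLib.FunFld.exists_isCanonical hK
  have hG := GrothLib.CurveRR.genus_eq k h0'
  obtain ⟨D, -, hd', hh, -⟩ := GrothLib.CurveRR.exists_divisor k h0' hC hM
  rw [hh] at hsec
  rw [hd'] at hdeg hlt ⊢
  rcases GrothLib.CurveRR.FF.ell_bound hK (D := D) (by omega) with hb | hb
  · have h1 : 2 * (m : ℤ) ≤ D.deg := by omega
    nlinarith
  · have h1 : (m : ℤ) ≤ D.deg - Curv2.genus k X := by omega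
    rcases hlt with h2 | h2
    · nlinarith [mul_le_mul_of_nonneg_left h1 (by omega : (0 : ℤ) ≤ d),
        mul_lt_mul_of_pos_right h2 (by omega : (0 : ℤ) < Curv2.genus k X)]
    · rcases eq_or_lt_of_le hdeg with h3 | h3
      · rw [h3] at h1 ⊢
        exact mul_lt_mul_of_pos_left h2 (by omega)
      · nlinarith [mul_le_mul_of_nonneg_left h1 (by omega : (0 : ℤ) ≤ d),
          mul_lt_mul_of_pos_right h3 (by omega : (0 : ℤ) < Curv2.genus k X)]

end Groth.Agent.S19204
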