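import Groth.Statements.S16966
import Groth.Agent.Lib.CurveRR.Special
import Groth.Agent.Lib.Euler.Rank
import Groth.Agent.Lib.Euler.Slope2
import Groth.Agent.S19204

set_option autoImplicit false
universe u
open CategoryTheory CategoryTheory.Limits AlgebraicGeometry Opposite
open Curves

namespace Groth.Agent.S16966

/-- Let X be a smooth projective curve over an algebraically closed field k of characteristic 0 (an
integral scheme, proper over k, of dimension one, with all local rings regular), of genus g ≥ 1, and
L an invertible O_X-module with deg L > 2g. Then the morphism to projective space given by the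
complete linear system of L is linearly stable, stated through the criterion by invertible
subsheaves: for every invertible module M and every monomorphism ι : M ⟶ L that is not an
isomorphism, with dim_k H^0(X, M) ≥ 2, one has deg L · (h^0(M) - 1) < deg M · (h^0(L) - 1), i.e. the
reduced degree deg M / (h^0(M) - 1) of the projection exceeds the reduced degree deg L / (h^0(L) -
1). Degrees are χ(·) - χ(O_X). -/
theorem result (k : Type u) [Field k] [IsAlgClosed k] [CharZero k] (X : Scheme.{u}) [X.Over (Spec (CommRingCat.of k))]
    [IsIntegral X] [IsProper (X ↘ (Spec (CommRingCat.of k)))] (hdim : topologicalKrullDim X = 1)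
    (hreg : ∀ x : X, IsRegularLocalRing (X.presheaf.stalk x))
    (hg : 1 ≤ Curv2.genus k X) (L : X.Modules) (hL : PicF.IsInvertible L)
    (hdeg : 2 * (Curv2.genus k X : ℤ) < Curv2.deg k X L 1)
    (M : X.Modules) (hM : PicF.IsInvertible M) (ι : M ⟶ L) [Mono ι] (hι : ¬ IsIso ι)
    (h2 : 2 ≤ Module.finrank k (Coh.HH X M 0)) :
    Curv2.deg k X L 1 * ((Module.finrank k (Coh.HH X M 0) : ℤ) - 1) <
      Curv2.deg k X M 1 * ((Module.finrank k (Coh.HH X L 0) : ℤ) - 1) := by
  haveI := GrothLib.CurveRR.regCurve_of_regular (k := k) hdim hreg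
  have h0' := GrothLib.CurveRR.finrank_H0_structure_eq_one k (X := X)
  have hK := GrothLib.CurveRR.isFunctionField k h0'
  obtain ⟨C, hC⟩ := GrothLib.FunFld.exists_isCanonical hK
  have hG := GrothLib.CurveRR.genus_eq k h0'
  haveI := GrothLib.Euler.isNoetherian_of_proper (X := X) k
  have hLc := GrothLib.Euler.isCoh_of_isInvertible hL
  have hMc := GrothLib.Euler.isCoh_of_isInvertible hM
  have hη := GrothLib.Euler.surjective_generic_of_mono ι hLc (by
    rw [GrothLib.Euler.grank_of_locFree (GrothLib.Euler.isFinLocFreeOfRank_one_of_invertible hM),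
      GrothLib.Euler.grank_of_locFree (GrothLib.Euler.isFinLocFreeOfRank_one_of_invertible hL)])
  obtain ⟨q, hq, -, hiso⟩ := GrothLib.Euler.exists_cokernel_data k hdim.le ι hMc hLc hη
  have hlt : Curv2.deg k X M 1 < Curv2.deg k X L 1 := by
    rcases Nat.eq_zero_or_pos q with h | h
    · exact absurd (hiso h) hι
    · simp only [Curv2.deg]; omega
  obtain ⟨D, -, hd, hh, -⟩ := GrothLib.CurveRR.exists_divisor k h0' hC hL
  have hell := GrothLib.FunFld.ell_eq_of_deg_ge hK (D := D) (by omega)
  have key := Groth.Agent.S19204.result k X hdim hreg hg _ hdeg M hM (Module.finrank k (Coh.HH X M 0) - 1)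
    (by omega) (by omega) hlt.le (Or.inl hlt)
  rw [hh, hell, ← hd, ← hG]
  rw [Nat.cast_sub (by omega : 1 ≤ Module.finrank k (Coh.HH X M 0)), Nat.cast_one] at key
  linarith

end Groth.Agent.S16966
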