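import Groth.Statements.S16967
import Groth.Agent.Lib.CurveMult.LinStable

set_option autoImplicit false
universe u
open CategoryTheory CategoryTheory.Limits AlgebraicGeometry Opposite
open Curves

namespace Groth.Agent.S16967

/-- Let X be a smooth projective curve over an algebraically closed field k of characteristic 0
(integral, proper over k, of dimension one, all local rings regular) of genus g ≥ 3 that is not
hyperelliptic: there is no invertible module of degree 2 with two k-linearly independent global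
sections. Then the canonical morphism of X is linearly stable, stated through the criterion by
invertible subsheaves: for every invertible module M and every monomorphism ι : M ⟶ Ω_{X/k} which is
not an isomorphism, with dim_k H^0(X, M) ≥ 2, one has deg Ω_{X/k} · (h^0(M) - 1) < deg M ·
(h^0(Ω_{X/k}) - 1). Degrees are χ(·) - χ(O_X). -/
theorem result (k : Type u) [Field k] [IsAlgClosed k] [CharZero k] (X : Scheme.{u}) [X.Over (Spec (CommRingCat.of k))]
    [IsIntegral X] [IsProper (X ↘ (Spec (CommRingCat.of k)))] (hdim : topologicalKrullDim X = 1)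
    (hreg : ∀ x : X, IsRegularLocalRing (X.presheaf.stalk x))
    (hg : 3 ≤ Curv2.genus k X)
    (hnh : ¬ ∃ (N : X.Modules) (t : Fin 2 → LinSer.Sect X N), LinSer.IsLinSer k X N 2 1 t)
    (M : X.Modules) (hM : PicF.IsInvertible M) (ι : M ⟶ Omega.sheaf (X ↘ (Spec (CommRingCat.of k)))) [Mono ι] (hι : ¬ IsIso ι)
    (h2 : 2 ≤ Module.finrank k (Coh.HH X M 0)) :
    Curv2.deg k X (Omega.sheaf (X ↘ (Spec (CommRingCat.of k)))) 1 * ((Module.finrank k (Coh.HH X M 0) : ℤ) - 1) <
      Curv2.deg k X M 1 * ((Module.finrank k (Coh.HH X (Omega.sheaf (X ↘ (Spec (CommRingCat.of k)))) 0) : ℤ) - 1) := by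
  obtain ⟨hR, hsm, hK, hgen, C, hC, ⟨eC⟩⟩ := GrothLib.CurveMult.OmegaApp.setup k hdim hreg
  haveI := hR
  obtain ⟨hlC, hdC⟩ := GrothLib.FunFld.ell_canonical hK hC
  obtain ⟨D, ⟨eD⟩, hlt, hpos⟩ := GrothLib.CurveMult.LinStable.exists_below k eC hM ι hι
  rw [GrothLib.CurveMult.OmegaApp.finrank_H0_of_iso k eD] at h2 ⊢
  rw [GrothLib.CurveMult.OmegaApp.deg_of_iso k eD, GrothLib.CurveMult.OmegaApp.deg_of_iso k eC,
    GrothLib.CurveMult.OmegaApp.finrank_H0_of_iso k eC, hlC]
  have hcl := GrothLib.CurveRR.FF.clifford hK hC (D := D) (by omega) hpos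
  have hne : 2 * (FunFld.ell D : ℤ) ≠ D.deg + 2 := fun heq => by
    obtain ⟨r, hr⟩ : ∃ r, FunFld.ell D = r + 1 := ⟨FunFld.ell D - 1, by omega⟩
    obtain ⟨F, hF, hlF⟩ := GrothLib.FunFld.exists_g12_of_clifford_eq hK hC r D (by omega) hr.ge (by omega) (by omega)
    obtain ⟨s, hs⟩ := GrothLib.CurveMult.OmegaApp.exists_linSer k (D := F) (d := 2) (r := 1) hF hlF
    exact hnh ⟨_, s, hs⟩
  have h1 : 2 * ((FunFld.ell D : ℤ) - 1) + 1 ≤ D.deg := by omega
  have h3 : (2 : ℤ) ≤ (FunFld.genus k X.functionField : ℤ) - 1 := by omega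
  nlinarith

end Groth.Agent.S16967
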