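import Groth.Statements.S16968
import Groth.Agent.Lib.CurveMult.LinStable

set_option autoImplicit false
universe u
open CategoryTheory CategoryTheory.Limits AlgebraicGeometry Opposite
open Curves

namespace Groth.Agent.S16968

/-- Let X be a smooth projective curve over an algebraically closed field k of characteristic 0
(integral, proper over k, of dimension one, all local rings regular) of genus g ≥ 3 which is
hyperelliptic, with a g^1_2 given as an invertible module N of degree 2 and two k-linearly
independent global sections t_0, t_1. Then the canonical morphism of X is linearly semistable but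
not linearly stable, stated through the criterion by invertible subsheaves: (i) for every invertible
module M and every monomorphism ι : M ⟶ Ω_{X/k} which is not an isomorphism, with dim_k H^0(X, M) ≥
2, one has deg Ω_{X/k} · (h^0(M) - 1) ≤ deg M · (h^0(Ω_{X/k}) - 1); (ii) N admits a monomorphism
into Ω_{X/k} which is not an isomorphism and for which equality holds. Degrees are χ(·) - χ(O_X).
(The published statement gives no genus bound for the hyperelliptic case; here g ≥ 3 is assumed,
since for g = 2 the module N is the canonical module itself and clause (ii) fails.) -/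
theorem result (k : Type u) [Field k] [IsAlgClosed k] [CharZero k] (X : Scheme.{u}) [X.Over (Spec (CommRingCat.of k))]
    [IsIntegral X] [IsProper (X ↘ (Spec (CommRingCat.of k)))] (hdim : topologicalKrullDim X = 1)
    (hreg : ∀ x : X, IsRegularLocalRing (X.presheaf.stalk x))
    (hg : 3 ≤ Curv2.genus k X)
    (N : X.Modules) (t : Fin 2 → LinSer.Sect X N) (hN : LinSer.IsLinSer k X N 2 1 t) :
    (∀ (M : X.Modules) (ι : M ⟶ Omega.sheaf (X ↘ (Spec (CommRingCat.of k)))), PicF.IsInvertible M → Mono ι → ¬ IsIso ι →
        2 ≤ Module.finrank k (Coh.HH X M 0) →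
        Curv2.deg k X (Omega.sheaf (X ↘ (Spec (CommRingCat.of k)))) 1 * ((Module.finrank k (Coh.HH X M 0) : ℤ) - 1) ≤
          Curv2.deg k X M 1 * ((Module.finrank k (Coh.HH X (Omega.sheaf (X ↘ (Spec (CommRingCat.of k)))) 0) : ℤ) - 1)) ∧
      ∃ ι : N ⟶ Omega.sheaf (X ↘ (Spec (CommRingCat.of k))), Mono ι ∧ ¬ IsIso ι ∧
        Curv2.deg k X (Omega.sheaf (X ↘ (Spec (CommRingCat.of k)))) 1 * ((Module.finrank k (Coh.HH X N 0) : ℤ) - 1) =
          Curv2.deg k X N 1 * ((Module.finrank k (Coh.HH X (Omega.sheaf (X ↘ (Spec (CommRingCat.of k)))) 0) : ℤ) - 1) := by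
  obtain ⟨hR, hsm, hK, hgen, C, hC, ⟨eC⟩⟩ := GrothLib.CurveMult.OmegaApp.setup k hdim hreg
  haveI := hR
  obtain ⟨hlC, hdC⟩ := GrothLib.FunFld.ell_canonical hK hC
  refine ⟨fun M ι hM hmono hι h2 => ?_, ?_⟩
  · haveI := hmono
    obtain ⟨D, ⟨eD⟩, hlt, hpos⟩ := GrothLib.CurveMult.LinStable.exists_below k eC hM ι hι
    rw [GrothLib.CurveMult.OmegaApp.finrank_H0_of_iso k eD] at h2 ⊢
    rw [GrothLib.CurveMult.OmegaApp.deg_of_iso k eD, GrothLib.CurveMult.OmegaApp.deg_of_iso k eC,
      GrothLib.CurveMult.OmegaApp.finrank_H0_of_iso k eC, hlC]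
    have hcl := GrothLib.CurveRR.FF.clifford hK hC (D := D) (by omega) hpos
    have h3 : (2 : ℤ) ≤ (FunFld.genus k X.functionField : ℤ) - 1 := by omega
    nlinarith
  · obtain ⟨G, ⟨eN⟩⟩ := GrothLib.CurveRR.exists_iso_oD k hN.1
    have hdG : G.deg = 2 := by rw [← GrothLib.CurveMult.OmegaApp.deg_of_iso k eN]; exact hN.2.1
    have hlG : 2 ≤ FunFld.ell G := by
      have hfin : (1 + 1) ≤ Module.finrank k (Coh.HH X N 0) := by
        obtain ⟨hinv, hdeg, hli⟩ := hN
        haveI := GrothLib.Euler.isNoetherian_of_proper (X := X) k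
        haveI := GrothLib.Euler.finiteDimensional_HH k (GrothLib.Euler.isCoh_of_isInvertible hinv) 0
        have hz : LinearIndependent k fun i => (GrothLib.ProjCoh.H0top N).symm (t i) := by
          rw [Fintype.linearIndependent_iff]
          intro c hc
          refine congrFun (hli c ?_)
          have h1 := congrArg (GrothLib.ProjCoh.H0top N) hc
          rw [map_sum, map_zero] at h1
          refine Eq.trans ?_ h1
          refine Finset.sum_congr rfl fun i _ => ?_
          rw [GrothLib.ProjCoh.H0top_smul, AddEquiv.apply_symm_apply]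
          rfl
        have := hz.fintype_card_le_finrank
        rwa [Fintype.card_fin] at this
      rwa [GrothLib.CurveMult.OmegaApp.finrank_H0_of_iso k eN] at hfin
    have hleG := GrothLib.FunFld.ell_le_deg hK (by omega) G (by omega)
    have hRR := GrothLib.FunFld.riemann_roch' hK hC G
    obtain ⟨f, hf0, -, hf⟩ := GrothLib.FunFld.IsFG.exists_of_ell_pos hK.1 (D := C - G) (by omega)
    have hle : ∀ x : GrothLib.CurveRR.CP X, WithZero.exp (G (GrothLib.CurveRR.place k x)) *
        (GrothLib.CurveRR.place k x).1 f ≤ WithZero.exp (C (GrothLib.CurveRR.place k x)) := fun x => by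
      have h1 := hf (GrothLib.CurveRR.place k x)
      rw [Finsupp.zero_apply, Finsupp.add_apply, Finsupp.sub_apply, GrothLib.FunFld.IsFG.div_apply hK.1] at h1
      rw [GrothLib.FunFld.val_eq _ hf0, ← WithZero.exp_add, WithZero.exp_le_exp]
      omega
    haveI := GrothLib.CurveMult.LinStable.mono_mulFn k hf0 hle
    refine ⟨eN.hom ≫ GrothLib.CurveMult.DivIso.mulFn k f hle ≫ eC.inv, inferInstance, fun hiso => ?_, ?_⟩
    · haveI := hiso
      have h1 := GrothLib.CurveMult.OmegaApp.deg_of_iso k
        (asIso (eN.hom ≫ GrothLib.CurveMult.DivIso.mulFn k f hle ≫ eC.inv) ≪≫ eC)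
      rw [GrothLib.CurveMult.OmegaApp.deg_of_iso k eN, hdG] at h1
      omega
    · rw [GrothLib.CurveMult.OmegaApp.finrank_H0_of_iso k eN, GrothLib.CurveMult.OmegaApp.deg_of_iso k eN,
        GrothLib.CurveMult.OmegaApp.deg_of_iso k eC, GrothLib.CurveMult.OmegaApp.finrank_H0_of_iso k eC, hlC, hdG, hdC]
      have : (FunFld.ell G : ℤ) = 2 := by omega
      rw [this]
      ring

end Groth.Agent.S16968
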