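import Groth.Statements.S16969
import Groth.Agent.Lib.CurveMult.CanonProj

set_option autoImplicit false
universe u
open CategoryTheory CategoryTheory.Limits AlgebraicGeometry Opposite
open Curves

namespace Groth.Agent.S16969

/-- Let X be a smooth projective curve over an algebraically closed field k of characteristic 0
(integral, proper over k, of dimension one, all local rings regular) of genus g ≥ 5 which is neither
hyperelliptic nor trigonal (no invertible module of degree 2, resp. 3, with two k-linearly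
independent global sections) and which, if g = 6, is not a plane curve (admits no closed immersion
into P^2_k over k). Let V ⊂ H^0(X, Ω_{X/k}) be a hyperplane without base points, given by g - 1
global sections σ_i : O_X ⟶ Ω_{X/k} that are k-linearly independent and generate Ω_{X/k} at every
point; V defines the projection of the canonical image of X from a point not on it. Then this
projection is linearly stable: for every m with 2 ≤ m < g - 1, every k-linearly independent family
w_1, …, w_m of global sections of Ω_{X/k} lying in the k-span of the σ_i, and every invertible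
module M with a monomorphism ι : M ⟶ Ω_{X/k} through whose global sections all the w_j factor, one
has deg Ω_{X/k} · (m - 1) < deg M · (g - 2); that is, every proper projection has reduced degree
larger than (2g - 2)/(g - 2). -/
theorem result (k : Type u) [Field k] [IsAlgClosed k] [CharZero k] (X : Scheme.{u}) [X.Over (Spec (CommRingCat.of k))]
    [IsIntegral X] [IsProper (X ↘ (Spec (CommRingCat.of k)))] (hdim : topologicalKrullDim X = 1)
    (hreg : ∀ x : X, IsRegularLocalRing (X.presheaf.stalk x))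
    (hg : 5 ≤ Curv2.genus k X)
    (hnh : ¬ ∃ (N : X.Modules) (t : Fin 2 → LinSer.Sect X N), LinSer.IsLinSer k X N 2 1 t)
    (hnt : ¬ ∃ (N : X.Modules) (t : Fin 2 → LinSer.Sect X N), LinSer.IsLinSer k X N 3 1 t)
    (hpl : Curv2.genus k X = 6 → ∀ i : X ⟶ CohB1.ProjSpace 2 k, IsClosedImmersion i →
      i ≫ CohB1.ProjSpace.toSpec 2 k ≠ X ↘ Spec (CommRingCat.of k))
    (σ : Fin (Curv2.genus k X - 1) → (Coh.structureModule X ⟶ Omega.sheaf (X ↘ (Spec (CommRingCat.of k)))))
    (hσ : LinSer.LinIndep k X (Omega.sheaf (X ↘ (Spec (CommRingCat.of k)))) (fun i => PicF2.secVal (Omega.sheaf (X ↘ (Spec (CommRingCat.of k)))) (σ i) ⊤))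
    (hbpf : ⨆ i, CohB1.genLocus (Omega.sheaf (X ↘ (Spec (CommRingCat.of k)))) (σ i) = ⊤) :
    ∀ (m : ℕ) (w : Fin m → LinSer.Sect X (Omega.sheaf (X ↘ (Spec (CommRingCat.of k))))), 2 ≤ m → m + 1 < Curv2.genus k X →
      LinSer.LinIndep k X (Omega.sheaf (X ↘ (Spec (CommRingCat.of k)))) w →
      (∀ j, ∃ c : Fin (Curv2.genus k X - 1) → k,
        w j = ∑ i, (Coh.toGlobal (X ↘ Spec (CommRingCat.of k)) (c i)) • PicF2.secVal (Omega.sheaf (X ↘ (Spec (CommRingCat.of k)))) (σ i) ⊤) →
      ∀ (M : X.Modules) (ι : M ⟶ Omega.sheaf (X ↘ (Spec (CommRingCat.of k)))), PicF.IsInvertible M → Mono ι →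
        (∀ j, ∃ v : LinSer.Sect X M, (ι.val.app (op ⊤)).hom v = w j) →
        Curv2.deg k X (Omega.sheaf (X ↘ (Spec (CommRingCat.of k)))) 1 * ((m : ℤ) - 1) < Curv2.deg k X M 1 * ((Curv2.genus k X : ℤ) - 2) := by
  obtain ⟨hR, hsm, hK, hgen, C, hC, ⟨eC⟩⟩ := GrothLib.CurveMult.OmegaApp.setup k hdim hreg
  haveI := hR
  obtain ⟨hlC, hdC⟩ := GrothLib.FunFld.ell_canonical hK hC
  have hnh' : ∀ E : FunFld.Divisor k X.functionField, E.deg = 2 → FunFld.ell E ≤ 1 := fun E hE => by
    by_contra hlt
    obtain ⟨s, hs⟩ := GrothLib.CurveMult.OmegaApp.exists_linSer k (D := E) (d := 2) (r := 1) hE (by omega)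
    exact hnh ⟨_, s, hs⟩
  have hnt' : ∀ E : FunFld.Divisor k X.functionField, E.deg = 3 → FunFld.ell E ≤ 1 := fun E hE => by
    by_contra hlt
    obtain ⟨s, hs⟩ := GrothLib.CurveMult.OmegaApp.exists_linSer k (D := E) (d := 3) (r := 1) hE (by omega)
    exact hnt ⟨_, s, hs⟩
  have hb := GrothLib.CurveMult.CanonProj.bound_two k hC hnh' hnt' (fun h => hpl (by omega))
  intro m w hm hmg hw _hc M ι hM hι hv
  haveI := hι
  choose v hv using hv
  obtain ⟨D, ⟨eD⟩, hD⟩ := GrothLib.CurveMult.CanonProj.exists_divisor k eC hM ι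
  obtain ⟨hle, hall⟩ := GrothLib.CurveMult.CanonProj.sections_le k hM ι hw hv
  rw [GrothLib.CurveMult.OmegaApp.finrank_H0_of_iso k eD] at hle hall
  rw [GrothLib.CurveMult.OmegaApp.deg_of_iso k eD, GrothLib.CurveMult.OmegaApp.deg_of_iso k eC, hdC]
  have hRR := GrothLib.FunFld.riemann_roch' hK hC D
  rcases hD with hD | ⟨hlt, hpos⟩
  · rw [hdC] at hD
    rw [hD]
    have : (m : ℤ) - 1 < (Curv2.genus k X : ℤ) - 2 := by omega
    nlinarith
  rcases le_or_gt 2 (FunFld.ell (C - D)) with h2 | h2
  · have hd := hb D (by omega) h2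
    push_cast at hd
    have h3 : 2 * (m : ℤ) ≤ D.deg := by omega
    nlinarith
  · have h3 : (m : ℤ) + Curv2.genus k X - 2 ≤ D.deg := by omega
    have h4 : (m : ℤ) + 2 ≤ Curv2.genus k X := by omega
    nlinarith

end Groth.Agent.S16969
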