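import Groth.Statements.S16970
import Groth.Agent.Lib.CurveMult.CanonProj

set_option autoImplicit false
universe u
open CategoryTheory CategoryTheory.Limits AlgebraicGeometry Opposite
open Curves

namespace Groth.Agent.S16970

/-- Let X be a smooth projective curve over an algebraically closed field k of characteristic 0
(integral, proper over k, of dimension one, all local rings regular) of genus 6 which is neither
hyperelliptic nor trigonal (no invertible module of degree 2, resp. 3, with two k-linearly
independent global sections) and which is a plane curve: there is a closed immersion i : X ⟶ P^2_k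
over k (so X is a smooth plane quintic; such a curve is in fact neither hyperelliptic nor trigonal,
but both hypotheses are kept as in the published statement, whose proof uses the absence of a g^1_3
in this case too). Let V ⊂ H^0(X, Ω_{X/k}) be a hyperplane without base points, given by 5 global
sections σ_i : O_X ⟶ Ω_{X/k} that are k-linearly independent and generate Ω_{X/k} at every point.
Then the projection of the canonical image from the corresponding point is linearly semistable: for
every m with 2 ≤ m < 5, every k-linearly independent family w_1, …, w_m of global sections of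
Ω_{X/k} in the k-span of the σ_i, and every invertible module M with a monomorphism ι : M ⟶ Ω_{X/k}
through whose global sections all the w_j factor, deg Ω_{X/k} · (m - 1) ≤ deg M · (g - 2). -/
theorem result (k : Type u) [Field k] [IsAlgClosed k] [CharZero k] (X : Scheme.{u}) [X.Over (Spec (CommRingCat.of k))]
    [IsIntegral X] [IsProper (X ↘ (Spec (CommRingCat.of k)))] (hdim : topologicalKrullDim X = 1)
    (hreg : ∀ x : X, IsRegularLocalRing (X.presheaf.stalk x))
    (hg : Curv2.genus k X = 6)
    (hnh : ¬ ∃ (N : X.Modules) (t : Fin 2 → LinSer.Sect X N), LinSer.IsLinSer k X N 2 1 t)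
    (hnt : ¬ ∃ (N : X.Modules) (t : Fin 2 → LinSer.Sect X N), LinSer.IsLinSer k X N 3 1 t)
    (i : X ⟶ CohB1.ProjSpace 2 k) [IsClosedImmersion i] (hi : i ≫ CohB1.ProjSpace.toSpec 2 k = X ↘ Spec (CommRingCat.of k))
    (σ : Fin (Curv2.genus k X - 1) → (Coh.structureModule X ⟶ Omega.sheaf (X ↘ (Spec (CommRingCat.of k)))))
    (hσ : LinSer.LinIndep k X (Omega.sheaf (X ↘ (Spec (CommRingCat.of k)))) (fun i => PicF2.secVal (Omega.sheaf (X ↘ (Spec (CommRingCat.of k)))) (σ i) ⊤))
    (hbpf : ⨆ i, CohB1.genLocus (Omega.sheaf (X ↘ (Spec (CommRingCat.of k)))) (σ i) = ⊤) :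
    ∀ (m : ℕ) (w : Fin m → LinSer.Sect X (Omega.sheaf (X ↘ (Spec (CommRingCat.of k))))), 2 ≤ m → m + 1 < Curv2.genus k X →
      LinSer.LinIndep k X (Omega.sheaf (X ↘ (Spec (CommRingCat.of k)))) w →
      (∀ j, ∃ c : Fin (Curv2.genus k X - 1) → k,
        w j = ∑ i, (Coh.toGlobal (X ↘ Spec (CommRingCat.of k)) (c i)) • PicF2.secVal (Omega.sheaf (X ↘ (Spec (CommRingCat.of k)))) (σ i) ⊤) →
      ∀ (M : X.Modules) (ι : M ⟶ Omega.sheaf (X ↘ (Spec (CommRingCat.of k)))), PicF.IsInvertible M → Mono ι →
        (∀ j, ∃ v : LinSer.Sect X M, (ι.val.app (op ⊤)).hom v = w j) →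
        Curv2.deg k X (Omega.sheaf (X ↘ (Spec (CommRingCat.of k)))) 1 * ((m : ℤ) - 1) ≤ Curv2.deg k X M 1 * ((Curv2.genus k X : ℤ) - 2) := by
  obtain ⟨hR, hsm, hK, hgen, C, hC, ⟨eC⟩⟩ := GrothLib.CurveMult.OmegaApp.setup k hdim hreg
  haveI := hR
  obtain ⟨hlC, hdC⟩ := GrothLib.FunFld.ell_canonical hK hC
  have hnh' : ∀ E : FunFld.Divisor k X.functionField, E.deg = 2 → FunFld.ell E ≤ 1 := fun E hE => by
    by_contra hlt
    obtain ⟨s, hs⟩ := GrothLib.CurveMult.OmegaApp.exists_linSer k (D := E) (d := 2) (r := 1) hE (by omega)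
    exact hnh ⟨_, s, hs⟩
  have hnt' : ∀ E : FunFld.Divisor k X.functionField, E.deg = 3 → FunFld.ell E ≤ 1 := fun E hE => by
    by_contra hlt
    obtain ⟨s, hs⟩ := GrothLib.CurveMult.OmegaApp.exists_linSer k (D := E) (d := 3) (r := 1) hE (by omega)
    exact hnt ⟨_, s, hs⟩
  have hb := GrothLib.CurveMult.CanonProj.bound_one k hC hnh'
  intro m w hm hmg hw _hc M ι hM hι hv
  haveI := hι
  choose v hv using hv
  obtain ⟨D, ⟨eD⟩, hD⟩ := GrothLib.CurveMult.CanonProj.exists_divisor k eC hM ι
  obtain ⟨hle, hall⟩ := GrothLib.CurveMult.CanonProj.sections_le k hM ι hw hv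
  rw [GrothLib.CurveMult.OmegaApp.finrank_H0_of_iso k eD] at hle hall
  rw [GrothLib.CurveMult.OmegaApp.deg_of_iso k eD, GrothLib.CurveMult.OmegaApp.deg_of_iso k eC, hdC]
  have hRR := GrothLib.FunFld.riemann_roch' hK hC D
  rw [hg] at hmg ⊢
  have hm5 : m ≤ 4 := by omega
  rcases hD with hD | ⟨hlt, hpos⟩
  · rw [hdC] at hD
    rw [hD]
    interval_cases m <;> omega
  rcases le_or_gt 2 (FunFld.ell (C - D)) with h2 | h2
  · have hd := hb D (by omega) h2
    have hd' := hb (C - D) h2 (by rw [sub_sub_cancel]; omega)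
    rw [GrothLib.FunFld.deg_sub, hdC] at hd'
    push_cast at hd hd'
    have hne : D.deg ≠ 3 := fun h => by have := hnt' D h; omega
    have hne' : D.deg ≠ 7 := fun h => by
      have := hnt' (C - D) (by rw [GrothLib.FunFld.deg_sub, hdC]; omega)
      omega
    interval_cases m <;> omega
  · interval_cases m <;> omega

end Groth.Agent.S16970
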