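import Groth.Statements.S16971
import Groth.Agent.Lib.CurveMult.CliffApp
import Groth.Agent.Lib.CurveMult.PlaneEmb

set_option autoImplicit false
universe u
open CategoryTheory CategoryTheory.Limits AlgebraicGeometry Opposite
open Curves

namespace Groth.Agent.S16971

/-- Let X be a smooth projective curve over an algebraically closed field k of characteristic 0
(integral, proper over k, of dimension one, all local rings regular) of genus g ≥ 4 whose Clifford
index equals 1: there is an invertible module M with dim_k H^0(X, M) ≥ 2, dim_k H^1(X, M) ≥ 2 and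
deg M - 2 (h^0(M) - 1) = 1, and every invertible module M with h^0(M) ≥ 2 and h^1(M) ≥ 2 has deg M -
2 (h^0(M) - 1) ≥ 1. Then either X is trigonal — it carries an invertible module of degree 3 with two
k-linearly independent global sections — or g = 6 and X is a smooth plane quintic: there is a closed
immersion X ⟶ P^2_k over k. (Only this implication is stated; the converse asserted in the source is
not part of the row.) Degrees are χ(·) - χ(O_X). -/
theorem result (k : Type u) [Field k] [IsAlgClosed k] [CharZero k] (X : Scheme.{u}) [X.Over (Spec (CommRingCat.of k))]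
    [IsIntegral X] [IsProper (X ↘ (Spec (CommRingCat.of k)))] (hdim : topologicalKrullDim X = 1)
    (hreg : ∀ x : X, IsRegularLocalRing (X.presheaf.stalk x))
    (hg : 4 ≤ Curv2.genus k X)
    (hex : ∃ M : X.Modules, PicF.IsInvertible M ∧ 2 ≤ Module.finrank k (Coh.HH X M 0) ∧
      2 ≤ Module.finrank k (Coh.HH X M 1) ∧ Curv2.deg k X M 1 = 2 * (Module.finrank k (Coh.HH X M 0) : ℤ) - 1)
    (hmin : ∀ M : X.Modules, PicF.IsInvertible M → 2 ≤ Module.finrank k (Coh.HH X M 0) →
      2 ≤ Module.finrank k (Coh.HH X M 1) → 2 * (Module.finrank k (Coh.HH X M 0) : ℤ) - 1 ≤ Curv2.deg k X M 1) :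
    (∃ (L : X.Modules) (s : Fin 2 → LinSer.Sect X L), LinSer.IsLinSer k X L 3 1 s) ∨
      (Curv2.genus k X = 6 ∧ ∃ i : X ⟶ CohB1.ProjSpace 2 k, IsClosedImmersion i ∧
        i ≫ CohB1.ProjSpace.toSpec 2 k = X ↘ Spec (CommRingCat.of k)) := by
  obtain ⟨hR, hsm, hK, hgen, C, hC, -⟩ := GrothLib.CurveMult.OmegaApp.setup k hdim hreg
  haveI := hR
  have hb := GrothLib.CurveMult.CliffApp.bound k hC (c := 1) (fun M a b c => by
    have := hmin M a b c
    omega)
  have hD := GrothLib.CurveMult.CliffApp.exists_computing k hC (c := 1) (by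
    obtain ⟨M, a, b, d, e⟩ := hex
    exact ⟨M, a, b, d, by omega⟩)
  obtain ⟨D₀, r₀, h0, hd₀, hl₀, hc₀, hg₀⟩ := GrothLib.FunFld.CliffIdx.exists_low hK hC hD
  obtain ⟨D, r, hr1, hr2, hd, hl, hcd⟩ :=
    GrothLib.FunFld.CliffIdx.exists_low_one hK hC hb r₀ D₀ h0 (by simpa using hd₀) hl₀ hc₀ hg₀
  interval_cases r
  · obtain ⟨s, hs⟩ := GrothLib.CurveMult.OmegaApp.exists_linSer k (D := D) (d := 3) (r := 1) (by rw [hd]; rfl) hl.ge
    exact Or.inl ⟨_, s, hs⟩
  · rcases GrothLib.FunFld.CliffIdx.pencil_or_separated hK hb (D := D) (by rw [hd]; rfl) hl hcd with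
      ⟨E, hdE, hlE⟩ | ⟨hsep, hgenus⟩
    · obtain ⟨s, hs⟩ := GrothLib.CurveMult.OmegaApp.exists_linSer k (D := E) (d := 3) (r := 1) (by rw [hdE]; rfl) hlE
      exact Or.inl ⟨_, s, hs⟩
    · refine Or.inr ⟨?_, GrothLib.CurveMult.exists_closedImmersion_of_ell_eq k (D := D) (by rw [hd]; norm_num)
        (N := 2) hl hsep⟩
      rw [hd] at hgenus
      omega

end Groth.Agent.S16971
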