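import Groth.Statements.S16972
import Groth.Agent.Lib.CurveMult.CanonProj

set_option autoImplicit false
universe u
open CategoryTheory CategoryTheory.Limits AlgebraicGeometry Opposite
open Curves

namespace Groth.Agent.S16972

/-- Let X be a smooth projective curve over an algebraically closed field k of characteristic 0
(integral, proper over k, of dimension one, all local rings regular) of genus g ≥ 5 which is
trigonal (carries an invertible module of degree 3 with two k-linearly independent global sections)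
and not hyperelliptic (no such module of degree 2). Let V ⊂ H^0(X, Ω_{X/k}) be a hyperplane without
base points, given by g - 1 global sections σ_i : O_X ⟶ Ω_{X/k}, k-linearly independent and
generating Ω_{X/k} at every point, i.e. the projection of the canonical image from a point p not on
it; assume p lies on no trisecant line of the canonical curve: for every invertible module N with a
monomorphism ι : N ⟶ Ω_{X/k}, deg N = 2g - 5 and dim_k H^0(X, N) = g - 2 (so N = Ω_{X/k}(-D) for a
divisor D of degree 3 moving in a pencil), some global section of N has image outside the k-span of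
the σ_i. Then the projection is linearly stable: for every m with 2 ≤ m < g - 1, every k-linearly
independent family w_1, …, w_m of global sections of Ω_{X/k} in the span of the σ_i, and every
invertible module M with a monomorphism M ⟶ Ω_{X/k} through whose global sections all w_j factor,
deg Ω_{X/k} · (m - 1) < deg M · (g - 2). -/
theorem result (k : Type u) [Field k] [IsAlgClosed k] [CharZero k] (X : Scheme.{u}) [X.Over (Spec (CommRingCat.of k))]
    [IsIntegral X] [IsProper (X ↘ (Spec (CommRingCat.of k)))] (hdim : topologicalKrullDim X = 1)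
    (hreg : ∀ x : X, IsRegularLocalRing (X.presheaf.stalk x))
    (hg : 5 ≤ Curv2.genus k X)
    (hnh : ¬ ∃ (N : X.Modules) (t : Fin 2 → LinSer.Sect X N), LinSer.IsLinSer k X N 2 1 t)
    (htr : ∃ (N : X.Modules) (t : Fin 2 → LinSer.Sect X N), LinSer.IsLinSer k X N 3 1 t)
    (σ : Fin (Curv2.genus k X - 1) → (Coh.structureModule X ⟶ Omega.sheaf (X ↘ (Spec (CommRingCat.of k)))))
    (hσ : LinSer.LinIndep k X (Omega.sheaf (X ↘ (Spec (CommRingCat.of k)))) (fun i => PicF2.secVal (Omega.sheaf (X ↘ (Spec (CommRingCat.of k)))) (σ i) ⊤))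
    (hbpf : ⨆ i, CohB1.genLocus (Omega.sheaf (X ↘ (Spec (CommRingCat.of k)))) (σ i) = ⊤)
    (hsec : ∀ (N : X.Modules) (ι : N ⟶ Omega.sheaf (X ↘ (Spec (CommRingCat.of k)))), PicF.IsInvertible N → Mono ι →
      Curv2.deg k X N 1 + 5 = 2 * (Curv2.genus k X : ℤ) → Module.finrank k (Coh.HH X N 0) + 2 = Curv2.genus k X →
      ∃ v : LinSer.Sect X N, ∀ c : Fin (Curv2.genus k X - 1) → k,
        (ι.val.app (op ⊤)).hom v ≠ ∑ i, (Coh.toGlobal (X ↘ Spec (CommRingCat.of k)) (c i)) • PicF2.secVal (Omega.sheaf (X ↘ (Spec (CommRingCat.of k)))) (σ i) ⊤) :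
    ∀ (m : ℕ) (w : Fin m → LinSer.Sect X (Omega.sheaf (X ↘ (Spec (CommRingCat.of k))))), 2 ≤ m → m + 1 < Curv2.genus k X →
      LinSer.LinIndep k X (Omega.sheaf (X ↘ (Spec (CommRingCat.of k)))) w →
      (∀ j, ∃ c : Fin (Curv2.genus k X - 1) → k,
        w j = ∑ i, (Coh.toGlobal (X ↘ Spec (CommRingCat.of k)) (c i)) • PicF2.secVal (Omega.sheaf (X ↘ (Spec (CommRingCat.of k)))) (σ i) ⊤) →
      ∀ (M : X.Modules) (ι : M ⟶ Omega.sheaf (X ↘ (Spec (CommRingCat.of k)))), PicF.IsInvertible M → Mono ι →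
        (∀ j, ∃ v : LinSer.Sect X M, (ι.val.app (op ⊤)).hom v = w j) →
        Curv2.deg k X (Omega.sheaf (X ↘ (Spec (CommRingCat.of k)))) 1 * ((m : ℤ) - 1) < Curv2.deg k X M 1 * ((Curv2.genus k X : ℤ) - 2) := by
  obtain ⟨hR, hsm, hK, hgen, C, hC, ⟨eC⟩⟩ := GrothLib.CurveMult.OmegaApp.setup k hdim hreg
  haveI := hR
  obtain ⟨hlC, hdC⟩ := GrothLib.FunFld.ell_canonical hK hC
  have hnh' : ∀ E : FunFld.Divisor k X.functionField, E.deg = 2 → FunFld.ell E ≤ 1 := fun E hE => by
    by_contra hlt
    obtain ⟨s, hs⟩ := GrothLib.CurveMult.OmegaApp.exists_linSer k (D := E) (d := 2) (r := 1) hE (by omega)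
    exact hnh ⟨_, s, hs⟩
  obtain ⟨N₀, t₀, hN₀⟩ := htr
  obtain ⟨E, hdE, hlE⟩ := GrothLib.CurveMult.OmegaApp.exists_divisor_of_linSer k hN₀
  have hb := GrothLib.CurveMult.CanonProj.bound_one k hC hnh'
  intro m w hm hmg hw hwc M ι hM hι hv
  haveI := hι
  choose v hv using hv
  obtain ⟨D, ⟨eD⟩, hD⟩ := GrothLib.CurveMult.CanonProj.exists_divisor k eC hM ι
  obtain ⟨hle, hall⟩ := GrothLib.CurveMult.CanonProj.sections_le k hM ι hw hv
  rw [GrothLib.CurveMult.OmegaApp.finrank_H0_of_iso k eD] at hle hall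
  rw [GrothLib.CurveMult.OmegaApp.deg_of_iso k eD, GrothLib.CurveMult.OmegaApp.deg_of_iso k eC, hdC]
  have hRR := GrothLib.FunFld.riemann_roch' hK hC D
  rcases hD with hD | ⟨hlt, hpos⟩
  · rw [hdC] at hD
    rw [hD]
    have : (m : ℤ) - 1 < (Curv2.genus k X : ℤ) - 2 := by omega
    nlinarith
  rcases le_or_gt 2 (FunFld.ell (C - D)) with h2 | h2
  swap
  · have h3 : (m : ℤ) + Curv2.genus k X - 2 ≤ D.deg := by omega
    have h4 : (m : ℤ) + 2 ≤ Curv2.genus k X := by omega
    nlinarith
  have hd := hb D (by omega) h2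
  push_cast at hd
  rcases le_or_gt (FunFld.ell D) 2 with hl2 | hl3
  · obtain rfl : m = 2 := by omega
    push_cast
    nlinarith
  have hgood : 2 * (FunFld.ell D : ℤ) ≤ D.deg → _ := fun h => by
    have h3 : 2 * (m : ℤ) ≤ D.deg := by omega
    have h4 : (m : ℤ) + 2 ≤ Curv2.genus k X := by omega
    exact (show (2 * (FunFld.genus k X.functionField : ℤ) - 2) * ((m : ℤ) - 1) <
      D.deg * ((Curv2.genus k X : ℤ) - 2) by nlinarith)
  rcases le_or_gt 3 (FunFld.ell (C - D)) with h3 | h3
  · exact hgood (GrothLib.CurveMult.CanonProj.two_mul_ell_le_deg_of_trigonal k hC hnh' (by omega) hdE hlE hl3 h3)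
  by_cases hgood' : 2 * (FunFld.ell D : ℤ) ≤ D.deg
  · exact hgood hgood'
  have hdeq : D.deg + 5 = 2 * (Curv2.genus k X : ℤ) := by omega
  rcases lt_or_eq_of_le hle with hmlt | hmeq
  · have h4 : (m : ℤ) + 3 ≤ Curv2.genus k X := by omega
    nlinarith
  · exfalso
    obtain ⟨s, hs⟩ := hsec M ι hM hι (by rw [GrothLib.CurveMult.OmegaApp.deg_of_iso k eD]; exact hdeq)
      (by rw [GrothLib.CurveMult.OmegaApp.finrank_H0_of_iso k eD]; omega)
    choose c hc using hwc
    obtain ⟨a, ha⟩ := hall hmeq s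
    refine hs (fun i => ∑ j, a j * c j i) (ha.trans ?_)
    simp only [hc, Finset.smul_sum, smul_smul, map_sum, map_mul, Finset.sum_smul]
    exact Finset.sum_comm

end Groth.Agent.S16972
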