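import Groth.Statements.S16975
import Groth.Agent.Lib.FibreDiv12.Fibre
import Groth.Agent.Lib.FibreDiv12.Thick
-- import your own Groth.Agent.* helpers here

set_option autoImplicit false
universe u
open CategoryTheory CategoryTheory.Limits AlgebraicGeometry TopologicalSpace
open Surf

namespace Groth.Agent.S16975

open GrothLib in

/-- Let f : S ⟶ B be a relatively minimal fibration of genus at least 2 over an algebraically closed
field k of characteristic 0 (S a smooth projective integral surface, B a smooth projective integral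
curve, f a surjective k-morphism with O_B ⟶ f_*O_S an isomorphism, every closed fibre with χ(O_F) <
0, and no (-1)-curve in a fibre: every integral closed curve E ⊆ S with regular local rings, mapped
to a point and with χ(O_E) = 1, has E.E ≠ -1). Let p be a closed point of B, F = f⁻¹(p) its fibre, r
≥ 1, and D = rF the closed subscheme of S whose ideal sheaf is the r-th power of the ideal sheaf
m_p·O_S of F. Let N be an invertible O_D-module with negative total degree, χ(N) - χ(O_D) < 0, and
with deg N|_C ≤ 0 for every integral closed curve C ⊆ D. Then H^0(D, N) = 0. -/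
theorem result (k : Type u) [Field k] [IsAlgClosed k] [CharZero k]
    (S : Scheme.{u}) [S.Over (Spec (CommRingCat.of k))] [IsProper (S ↘ (Spec (CommRingCat.of k)))]
    [Smooth (S ↘ (Spec (CommRingCat.of k)))] [IsIntegral S] (hdimS : topologicalKrullDim S = 2)
    (B : Scheme.{u}) [B.Over (Spec (CommRingCat.of k))] [IsProper (B ↘ (Spec (CommRingCat.of k)))]
    [Smooth (B ↘ (Spec (CommRingCat.of k)))] [IsIntegral B] (hdimB : topologicalKrullDim B = 1)
    (f : S ⟶ B) [f.IsOver (Spec (CommRingCat.of k))] [Surjective f] (hconn : IsIso (ClSub.unitToPush f))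
    (hg : ∀ p : B, IsClosed ({p} : Set B) → Curv2.euler k S (ClSub.quotMod (f.fiberι p).ker) < 0)
    (hmin : ∀ (E : Scheme.{u}) (j : E ⟶ S), IsClosedImmersion j → IsIntegral E → topologicalKrullDim E = 1 →
      (∀ e : E, IsRegularLocalRing (E.presheaf.stalk e)) → (∃ p : B, Set.range (j ≫ f).base ⊆ {p}) →
      Curv2.euler k S (ClSub.quotMod j.ker) = 1 →
      FGA.intNum k S 2 ![ClSub.idealMod j.ker, ClSub.idealMod j.ker] (Coh.structureModule S) ≠ -1)
    (p : B) (hp : IsClosed ({p} : Set B)) (r : ℕ) (hr : 1 ≤ r)
    (D : Scheme.{u}) [D.Over (Spec (CommRingCat.of k))] (ιD : D ⟶ S) [IsClosedImmersion ιD]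
    (hιD : ιD ≫ (S ↘ Spec (CommRingCat.of k)) = D ↘ Spec (CommRingCat.of k))
    (hD : ιD.ker = ((Scheme.IdealSheafData.vanishingIdeal ⟨{p}, hp⟩).comap f) ^ r)
    (N : D.Modules) (hN : PicF.IsInvertible N) (hneg : Curv2.deg k D N 1 < 0)
    (hcompD : ∀ (C : Scheme.{u}) [C.Over (Spec (CommRingCat.of k))] (i : C ⟶ D), IsClosedImmersion i →
      IsIntegral C → topologicalKrullDim C = 1 → i ≫ (D ↘ Spec (CommRingCat.of k)) = C ↘ Spec (CommRingCat.of k) →
      Curv2.deg k C ((Scheme.Modules.pullback i).obj N) 1 ≤ 0) :
    Subsingleton (Coh.HH D N 0) := by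
  classical
  have hd : topologicalKrullDim S = ((2 : ℕ) : WithBot ℕ∞) := hdimS
  haveI := Euler.isNoetherian_of_proper (X := S) k
  haveI : IsProper (D ↘ Spec (CommRingCat.of k)) := by rw [← hιD]; infer_instance
  have hfk : f ≫ B ↘ Spec (CommRingCat.of k) = S ↘ Spec (CommRingCat.of k) := CategoryTheory.comp_over f (Spec (CommRingCat.of k))
  have hF := FibreDiv12.isEffCartier_fibreIdeal k hdimB f hp
  obtain ⟨lF, hlF, heF⟩ := RatCyc12.exists_list k hd _ hF
  obtain ⟨-, horth, hcon⟩ := FibreDiv12.fibre_list k hd hdimB f hfk hp hconn le_rfl lF (fun y hy => (hlF y hy).1) heF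
    (pow_one _)
  let lD := (List.replicate r lF).flatten
  have hDl : ιD.ker = (lD.map HodgeIndex.curveIdeal).prod := by
    simp only [lD, List.map_flatten, List.map_replicate, List.prod_flatten, List.prod_replicate, ← heF]
    exact hD
  have hlcl : FibreDiv12.lcl lD = FibreDiv12.lcl lF ^ r := by
    simp only [FibreDiv12.lcl, lD, List.map_flatten, List.map_replicate, List.prod_flatten, List.prod_replicate]
  have hmemD : ∀ y, y ∈ lD ↔ y ∈ lF := fun y => by
    refine ⟨fun h => ?_, fun h => List.mem_flatten.2 ⟨lF, List.mem_replicate.2 ⟨by omega, rfl⟩, h⟩⟩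
    obtain ⟨w, hw, hyw⟩ := List.mem_flatten.1 h
    rwa [List.eq_of_mem_replicate hw] at hyw
  have hlD : ∀ y ∈ lD, Snapper.IsTop 1 y := fun y hy => (hlF y ((hmemD y).1 hy)).1
  have horthD : ∀ y ∈ lD, HodgeIndex.isect k (FibreDiv12.lcl lD) (HodgeIndex.cCl (HodgeIndex.curveIdeal y)) = 0 :=
    fun y hy => by rw [hlcl, HodgeIndex.isect_pow_left k hd.le, horth y ((hmemD y).1 hy), mul_zero]
  have hconD : _root_.IsPreconnected (⋃ y ∈ lD.toFinset, closure ({y} : Set S)) := by
    have e : lD.toFinset = lF.toFinset := Finset.ext fun y => by simp only [List.mem_toFinset]; exact hmemD y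
    rw [e]; exact hcon
  have hle_sub : ∀ la lb : List S, (la ++ lb).Perm lD → ιD.ker ≤ (la.map HodgeIndex.curveIdeal).prod := by
    intro la lb h
    rw [hDl, ← (h.map HodgeIndex.curveIdeal).prod_eq, List.map_append, List.prod_append]
    exact ArSurf29.mul_le_left' _ _
  have hnp : ∀ l : List ℤ, (∀ x ∈ l, x ≤ 0) → l.sum ≤ 0 := by
    intro l h
    induction l with
    | nil => simp
    | cons a t ih =>
      rw [List.sum_cons]
      linarith [h a (List.mem_cons_self ..), ih fun x hx => h x (List.mem_cons_of_mem _ hx)]
  let d := FibreDiv12.dC ιD k N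
  have hd0 : ∀ y ∈ lD, d y ≤ 0 := by
    intro y hy
    have hle : ιD.ker ≤ HodgeIndex.curveIdeal y := by
      have h := hle_sub [y] (lD.erase y) (List.perm_cons_erase hy).symm
      rwa [List.map_singleton, List.prod_singleton] at h
    haveI : IsIntegral (HodgeIndex.curveIdeal y).subscheme := Snapper.isIntegral_pt y
    letI : (HodgeIndex.curveIdeal y).subscheme.Over (Spec (CommRingCat.of k)) :=
      ⟨(HodgeIndex.curveIdeal y).subschemeι ≫ S ↘ Spec (CommRingCat.of k)⟩
    have hdim1 : topologicalKrullDim (HodgeIndex.curveIdeal y).subscheme = 1 := by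
      refine (IsHomeomorph.topologicalKrullDim_eq _
        (HodgeIndex.curveIdeal y).subschemeι.isClosedEmbedding.isEmbedding.toHomeomorph.isHomeomorph).trans ?_
      rw [Snapper.range_pt]
      exact hlD y hy
    have h := hcompD _ (FibreDiv12.incl ιD hle) inferInstance inferInstance hdim1 (by
      rw [← hιD, ← Category.assoc, FibreDiv12.incl_fac]; rfl)
    exact (dif_pos hle : d y = _).trans_le h
  -- the total degree
  have htot : ∀ l : List S, (∀ y ∈ l, Snapper.IsTop 1 y) → ιD.ker ≤ (l.map HodgeIndex.curveIdeal).prod →
      FibreDiv12.excess ιD k N (l.map HodgeIndex.curveIdeal).prod = (l.map d).sum := by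
    intro l
    induction l with
    | nil =>
      intro _ _
      rw [List.map_nil, List.prod_nil, Scheme.IdealSheafData.one_eq_top, FibreDiv12.excess_top, List.map_nil,
        List.sum_nil]
    | cons y l ih =>
      intro hl hle
      rw [List.map_cons, List.prod_cons, mul_comm] at hle ⊢
      have hl' : ∀ z ∈ l, Snapper.IsTop 1 z := fun z hz => hl z (List.mem_cons_of_mem _ hz)
      rw [(FibreDiv12.step ιD k hd hιD hN
        (IdealModSec.isInvertible_of_isEffCartier (RatCyc12.isEffCartier_list k hd l hl'))
        (hl y (List.mem_cons_self ..)) hle).1, ih hl' (hle.trans (ArSurf29.mul_le_left' _ _)), List.map_cons,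
        List.sum_cons]
      ring
  have hsumneg : (lD.map d).sum < 0 := by
    rw [← htot lD hlD hDl.le, ← hDl, FibreDiv12.excess_ker]
    exact hneg
  -- the filtration
  have hclaim : ∀ n : ℕ, n ≤ lD.length → ∃ la lb : List S, (la ++ lb).Perm lD ∧ la.length = n ∧
      Subsingleton (Coh.HH D ((Euler.tF N).obj (FibreDiv12.quotOn ιD (la.map HodgeIndex.curveIdeal).prod)) 0) := by
    intro n
    induction n with
    | zero =>
      intro _
      refine ⟨[], lD, List.Perm.refl _, rfl, ?_⟩
      rw [List.map_nil, List.prod_nil, Scheme.IdealSheafData.one_eq_top]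
      exact FibreDiv12.subsingleton_top ιD
    | succ n ih =>
      intro hn
      obtain ⟨la, lb, hperm, hlen, hsub⟩ := ih (by omega)
      have hmem : ∀ z, z ∈ lD ↔ z ∈ la ∨ z ∈ lb := fun z => by rw [← hperm.mem_iff, List.mem_append]
      have hla : ∀ z ∈ la, Snapper.IsTop 1 z := fun z hz => hlD z ((hmem z).2 (Or.inl hz))
      have hlb : ∀ z ∈ lb, Snapper.IsTop 1 z := fun z hz => hlD z ((hmem z).2 (Or.inr hz))
      have hAinv := IdealModSec.isInvertible_of_isEffCartier (RatCyc12.isEffCartier_list k hd la hla)
      have hca : (Cube.clsMod hAinv)⁻¹ = FibreDiv12.lcl la := RatCyc12.cls_list k hd la hla hAinv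
      obtain ⟨y, hy, hyneg⟩ : ∃ y ∈ lb,
          d y - HodgeIndex.isect k (FibreDiv12.lcl la) (HodgeIndex.cCl (HodgeIndex.curveIdeal y)) < 0 := by
        by_contra hc
        push Not at hc
        obtain ⟨hle, heq⟩ := FibreDiv12.zariski k hd lD hlD horthD hconD la (fun z hz => (hmem z).2 (Or.inl hz))
        have hzero : HodgeIndex.isect k (FibreDiv12.lcl la) (FibreDiv12.lcl lD) = 0 := by
          rw [FibreDiv12.isect_lcl k hd la (fun z hz => List.mem_toFinset.2 hz) (T := la.toFinset)]
          refine Finset.sum_eq_zero fun z hz => ?_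
          rw [HodgeIndex.isect_comm, horthD z ((hmem z).2 (Or.inl (List.mem_toFinset.1 hz))), mul_zero]
        have hsplit : FibreDiv12.lcl lD = FibreDiv12.lcl la * FibreDiv12.lcl lb := by
          rw [← FibreDiv12.lcl_append]
          exact ((hperm.map fun y => HodgeIndex.cCl (HodgeIndex.curveIdeal y)).prod_eq).symm
        rw [hsplit, HodgeIndex.isect_mul_right k hd.le] at hzero
        have hlbe : HodgeIndex.isect k (FibreDiv12.lcl la) (FibreDiv12.lcl lb) =
            (lb.map fun z => HodgeIndex.isect k (FibreDiv12.lcl la) (HodgeIndex.cCl (HodgeIndex.curveIdeal z))).sum := by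
          show HodgeIndex.isect k _ (lb.map fun y => HodgeIndex.cCl (HodgeIndex.curveIdeal y)).prod = _
          rw [RatCyc12.isect_prod k hd, List.map_map]
          rfl
        have h1 : (lb.map fun z => HodgeIndex.isect k (FibreDiv12.lcl la) (HodgeIndex.cCl (HodgeIndex.curveIdeal z))).sum ≤
            (lb.map d).sum := List.sum_le_sum fun z hz => by linarith [hc z hz]
        have h2 : (lb.map d).sum ≤ 0 := by
          refine hnp _ fun x hx => ?_
          obtain ⟨z, hz, rfl⟩ := List.mem_map.1 hx
          exact hd0 z ((hmem z).2 (Or.inr hz))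
        have haa := heq (by omega)
        have hbd : (lb.map d).sum = 0 := by omega
        have hbz : ∀ z ∈ lb, d z = 0 := by
          intro z hz
          have h3 : ((lb.erase z).map d).sum ≤ 0 := by
            refine hnp _ fun x hx => ?_
            obtain ⟨v, hv, rfl⟩ := List.mem_map.1 hx
            exact hd0 v ((hmem v).2 (Or.inr (List.mem_of_mem_erase hv)))
          have h4 := ((List.perm_cons_erase hz).map d).sum_eq
          rw [List.map_cons, List.sum_cons] at h4
          have := hd0 z ((hmem z).2 (Or.inr hz))
          omega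
        obtain ⟨w, hw⟩ : ∃ w, w ∈ lb := List.exists_mem_of_ne_nil lb fun h => by
          have := hperm.length_eq
          rw [h, List.append_nil] at this
          omega
        have hall : ∀ z ∈ lD, z ∈ lb := by
          intro z hz
          by_contra hzb
          have hwD := (hmem w).2 (Or.inr hw)
          have e1 : la.count z = lD.count z := by
            rw [← hperm.count_eq, List.count_append, List.count_eq_zero.2 hzb, add_zero]
          have e2 : lD.count w = la.count w + lb.count w := by rw [← hperm.count_eq, List.count_append]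
          have e3 := haa z hz w hwD
          have e4 : 1 ≤ lD.count z := List.count_pos_iff.2 hz
          have e5 : 1 ≤ lb.count w := List.count_pos_iff.2 hw
          rw [e1, e2] at e3
          nlinarith [Nat.mul_le_mul e4 e5]
        have h6 : (lD.map d).sum = 0 := List.sum_eq_zero fun x hx => by
          obtain ⟨v, hv, rfl⟩ := List.mem_map.1 hx
          exact hbz v (hall v hv)
        omega
      refine ⟨la ++ [y], lb.erase y, ?_, by rw [List.length_append, hlen, List.length_singleton], ?_⟩
      · rw [List.append_assoc, List.singleton_append]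
        exact ((List.perm_cons_erase hy).symm.append_left la).trans hperm
      · rw [List.map_append, List.prod_append, List.map_singleton, List.prod_singleton]
        have hle : ιD.ker ≤ (la.map HodgeIndex.curveIdeal).prod * HodgeIndex.curveIdeal y := by
          have h := hle_sub (la ++ [y]) (lb.erase y) (by
            rw [List.append_assoc, List.singleton_append]
            exact ((List.perm_cons_erase hy).symm.append_left la).trans hperm)
          rwa [List.map_append, List.prod_append, List.map_singleton, List.prod_singleton] at h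
        refine (FibreDiv12.step ιD k hd hιD hN hAinv (hlb y hy) hle).2 ?_ hsub
        have e : HodgeIndex.deg k y (Cube.clsMod hAinv) =
            -(HodgeIndex.isect k (FibreDiv12.lcl la) (HodgeIndex.cCl (HodgeIndex.curveIdeal y)) : ℚ) := by
          rw [← inv_inv (Cube.clsMod hAinv), hca, Goodman.deg_inv k (hlb y hy), RatCyc12.deg_eq_ccl k hd (hlb y hy)]
        rw [e, ← sub_eq_add_neg]
        exact_mod_cast hyneg
  obtain ⟨la, lb, hperm, hlen, hsub⟩ := hclaim lD.length le_rfl
  have hlb0 : lb = [] := by
    have := hperm.length_eq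
    rw [List.length_append, hlen] at this
    exact List.length_eq_zero_iff.1 (by omega)
  rw [hlb0, List.append_nil] at hperm
  rw [(hperm.map HodgeIndex.curveIdeal).prod_eq, ← hDl] at hsub
  exact FibreDiv12.subsingleton_ker ιD k hsub


end Groth.Agent.S16975
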