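import Groth.Statements.S16976
import Groth.Agent.Lib.FibreDiv12.Fibre
-- import your own Groth.Agent.* helpers here

set_option autoImplicit false
universe u
open CategoryTheory CategoryTheory.Limits AlgebraicGeometry TopologicalSpace
open Surf

namespace Groth.Agent.S16976

open GrothLib in

/-- Let f : S ⟶ B be a relatively minimal fibration of genus at least 2 over an algebraically closed
field k of characteristic 0 (S a smooth projective integral surface, B a smooth projective integral
curve, f a surjective k-morphism with O_B ⟶ f_*O_S an isomorphism, every closed fibre with χ(O_F) <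
0, and no (-1)-curve in a fibre: every integral closed curve E ⊆ S with regular local rings, mapped
to a point and with χ(O_E) = 1, has E.E ≠ -1). Let F = f⁻¹(p) be the fibre over a closed point, with
ideal sheaf I_F = m_p·O_S. Then F is a positive multiple m·E of a 1-connected effective divisor E:
for every m ≥ 1 and every locally principal ideal sheaf I_E with I_E^m = I_F that is not the n-th
power (n ≥ 2) of a locally principal ideal sheaf (so that E = F/m with m the greatest common divisor
of the multiplicities of F), and for every factorisation I_E = I_A · I_B with I_A, I_B locally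
principal ideal sheaves different from O_S (an effective decomposition E = A + B), the intersection
number A.B — computed as the intersection number of the ideal sheaves I_A, I_B on S — is at least 1. -/
theorem result (k : Type u) [Field k] [IsAlgClosed k] [CharZero k]
    (S : Scheme.{u}) [S.Over (Spec (CommRingCat.of k))] [IsProper (S ↘ (Spec (CommRingCat.of k)))]
    [Smooth (S ↘ (Spec (CommRingCat.of k)))] [IsIntegral S] (hdimS : topologicalKrullDim S = 2)
    (B : Scheme.{u}) [B.Over (Spec (CommRingCat.of k))] [IsProper (B ↘ (Spec (CommRingCat.of k)))]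
    [Smooth (B ↘ (Spec (CommRingCat.of k)))] [IsIntegral B] (hdimB : topologicalKrullDim B = 1)
    (f : S ⟶ B) [f.IsOver (Spec (CommRingCat.of k))] [Surjective f] (hconn : IsIso (ClSub.unitToPush f))
    (hg : ∀ p : B, IsClosed ({p} : Set B) → Curv2.euler k S (ClSub.quotMod (f.fiberι p).ker) < 0)
    (hmin : ∀ (E : Scheme.{u}) (j : E ⟶ S), IsClosedImmersion j → IsIntegral E → topologicalKrullDim E = 1 →
      (∀ e : E, IsRegularLocalRing (E.presheaf.stalk e)) → (∃ p : B, Set.range (j ≫ f).base ⊆ {p}) →
      Curv2.euler k S (ClSub.quotMod j.ker) = 1 →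
      FGA.intNum k S 2 ![ClSub.idealMod j.ker, ClSub.idealMod j.ker] (Coh.structureModule S) ≠ -1)
    (p : B) (hp : IsClosed ({p} : Set B))
    (m : ℕ) (hm : 1 ≤ m) (IE : S.IdealSheafData) (hIE : Curv2.IsLocPrincipal IE)
    (hpow : IE ^ m = (Scheme.IdealSheafData.vanishingIdeal ⟨{p}, hp⟩).comap f)
    (hprim : ∀ n : ℕ, 2 ≤ n → ∀ J : S.IdealSheafData, Curv2.IsLocPrincipal J → J ^ n ≠ IE)
    (IA IB : S.IdealSheafData) (hIA : Curv2.IsLocPrincipal IA) (hIB : Curv2.IsLocPrincipal IB)
    (hA : IA ≠ ⊤) (hB : IB ≠ ⊤) (hAB : IA * IB = IE) :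
    1 ≤ FGA.intNum k S 2 ![ClSub.idealMod IA, ClSub.idealMod IB] (Coh.structureModule S) := by
  classical
  have hd : topologicalKrullDim S = ((2 : ℕ) : WithBot ℕ∞) := hdimS
  haveI := Euler.isNoetherian_of_proper (X := S) k
  obtain ⟨H, hH⟩ := Goodman.exists_ample_of_smooth_surface k hd
  have hfk : f ≫ B ↘ Spec (CommRingCat.of k) = S ↘ Spec (CommRingCat.of k) := CategoryTheory.comp_over f (Spec (CommRingCat.of k))
  have hF := FibreDiv12.isEffCartier_fibreIdeal k hdimB f hp
  have hsplit : ∀ (n : ℕ) (J : S.IdealSheafData), 1 ≤ n → _root_.BlowUp.IsEffCartierIdeal (J ^ n) →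
      _root_.BlowUp.IsEffCartierIdeal J := by
    intro n J hn h
    obtain ⟨r, rfl⟩ : ∃ r, n = r + 1 := ⟨n - 1, by omega⟩
    rw [pow_succ'] at h
    exact (BlowUp.isEffCartierIdeal_factors_of_mul h).1
  have hE : _root_.BlowUp.IsEffCartierIdeal IE := hsplit m IE hm (by rw [hpow]; exact hF)
  obtain ⟨hAc, hBc⟩ := BlowUp.isEffCartierIdeal_factors_of_mul (hAB.symm ▸ hE)
  obtain ⟨la, hla, hea⟩ := RatCyc12.exists_list k hd IA hAc
  obtain ⟨lb, hlb, heb⟩ := RatCyc12.exists_list k hd IB hBc
  let l := la ++ lb
  have hl : ∀ y ∈ l, Snapper.IsTop 1 y := fun y hy => by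
    rcases List.mem_append.1 hy with h | h
    · exact (hla y h).1
    · exact (hlb y h).1
  have hIEl : IE = (l.map HodgeIndex.curveIdeal).prod := by
    rw [List.map_append, List.prod_append, ← hea, ← heb, hAB]
  obtain ⟨-, horth, hcon⟩ := FibreDiv12.fibre_list k hd hdimB f hfk hp hconn hm l hl hIEl hpow
  obtain ⟨hle, heq⟩ := FibreDiv12.zariski k hd l hl horth hcon la (fun y hy => List.mem_append_left _ hy)
  have hAl : HodgeIndex.isect k (FibreDiv12.lcl la) (FibreDiv12.lcl l) = 0 := by
    rw [FibreDiv12.isect_lcl k hd la (fun y hy => List.mem_toFinset.2 hy) (T := la.toFinset)]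
    refine Finset.sum_eq_zero fun y hy => ?_
    rw [HodgeIndex.isect_comm, horth y (List.mem_append_left _ (List.mem_toFinset.1 hy)), mul_zero]
  rw [show FibreDiv12.lcl l = FibreDiv12.lcl la * FibreDiv12.lcl lb from FibreDiv12.lcl_append la lb,
    HodgeIndex.isect_mul_right k hd.le] at hAl
  have hIAi := IdealModSec.isInvertible_of_isEffCartier hAc
  have hIBi := IdealModSec.isInvertible_of_isEffCartier hBc
  have hca : (Cube.clsMod hIAi)⁻¹ = FibreDiv12.lcl la := RatCyc12.cls_eq_list k hd hIAi la (fun y hy => (hla y hy).1) hea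
  have hcb : (Cube.clsMod hIBi)⁻¹ = FibreDiv12.lcl lb := RatCyc12.cls_eq_list k hd hIBi lb (fun y hy => (hlb y hy).1) heb
  rw [HodgeIndex.intNum_eq_isect k hd.le hH hIAi hIBi, ← inv_inv (Cube.clsMod hIAi), ← inv_inv (Cube.clsMod hIBi),
    hca, hcb, HodgeIndex.isect_inv_left k hd.le, HodgeIndex.isect_inv_right k hd.le, neg_neg]
  by_contra hlt
  have hprop := heq (le_antisymm hle (by omega))
  let T := l.toFinset
  let g := T.gcd fun y => l.count y
  have ha0 : la ≠ [] := fun h => hA (by rw [hea, h, List.map_nil, List.prod_nil, Scheme.IdealSheafData.one_eq_top])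
  have hb0 : lb ≠ [] := fun h => hB (by rw [heb, h, List.map_nil, List.prod_nil, Scheme.IdealSheafData.one_eq_top])
  obtain ⟨z, hz⟩ := List.exists_mem_of_ne_nil la ha0
  obtain ⟨w, hw⟩ := List.exists_mem_of_ne_nil lb hb0
  have hzl : z ∈ l := List.mem_append_left _ hz
  have hwl : w ∈ l := List.mem_append_right _ hw
  have hzc : 1 ≤ l.count z := List.count_pos_iff.2 hzl
  have hg1 : g = 1 := by
    have hg0 : g ≠ 0 := fun h => by
      have := Finset.gcd_eq_zero_iff.1 h z (List.mem_toFinset.2 hzl)
      omega
    by_contra hne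
    let J : S.IdealSheafData := ∏ y ∈ T, HodgeIndex.curveIdeal y ^ (l.count y / g)
    have hJ : J ^ g = IE := by
      rw [← Finset.prod_pow, hIEl, Finset.prod_list_map_count]
      refine Finset.prod_congr rfl fun y hy => ?_
      rw [← pow_mul, Nat.div_mul_cancel (show g ∣ l.count y from Finset.gcd_dvd hy)]
    refine hprim g (by omega) J (fun x hx => ?_) hJ
    obtain ⟨U, hxU, s, -, hs⟩ := hsplit g J (by omega) (hJ.symm ▸ hE) x
    exact ⟨U, hxU, s, hs⟩
  have hdvd : l.count z ∣ la.count z := by
    have h1 : l.count z ∣ T.gcd fun y => la.count z * l.count y := by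
      refine Finset.dvd_gcd fun y hy => ?_
      rw [← hprop y (List.mem_toFinset.1 hy) z hzl]
      exact dvd_mul_left _ _
    rw [Finset.gcd_mul_left, show (T.gcd fun y => l.count y) = 1 from hg1, mul_one] at h1
    simpa using h1
  have haz : la.count z = l.count z := le_antisymm (by simp [l, List.count_append])
    (Nat.le_of_dvd (List.count_pos_iff.2 hz) hdvd)
  have h := hprop w hwl z hzl
  rw [haz, mul_comm (l.count z)] at h
  have haw : la.count w = l.count w := Nat.eq_of_mul_eq_mul_right (by omega) h
  have hbw : 1 ≤ lb.count w := List.count_pos_iff.2 hw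
  simp only [l, List.count_append] at haw
  omega


end Groth.Agent.S16976
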