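import Groth.Statements.S16978
import Groth.Agent.Lib.CurveMult.SpaceCurve
import Groth.Agent.Lib.CurveMult.GenEtale
import Groth.Agent.Lib.CurveMult.HyperAff
import Groth.Agent.Lib.CurveMult.Drop
import Groth.Agent.Lib.HodgeProper12.Model
import Groth.Agent.Lib.BCFlat25.Unit
import Groth.Agent.S7640
import Groth.Agent.S0219
import Groth.Agent.Lib.CurveMult.EllipticEmbed
-- import your own Groth.Agent.* helpers here

set_option autoImplicit false
set_option maxHeartbeats 1600000
set_option linter.style.haveILetI false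
set_option backward.isDefEq.respectTransparency false
universe u
open CategoryTheory CategoryTheory.Limits AlgebraicGeometry Opposite
open Curves

namespace Groth.Agent.S16978

open CategoryTheory CategoryTheory.Limits AlgebraicGeometry in
theorem pullSect_comp_eq_zero {Z X Y : Scheme.{u}} (q : Z ⟶ X) (g : X ⟶ Y) (M : Y.Modules)
    (s : Γ(M, (⊤ : Y.Opens))) (h : OmegaSh.pullSect g M ⊤ s = 0) : OmegaSh.pullSect (q ≫ g) M ⊤ s = 0 := by
  have h1 := ConcreteCategory.congr_hom (congrArg (fun φ => φ.app (⊤ : Y.Opens)) (GrothLib.BCFlat25.unit_comp q g M)) s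
  set A := (Scheme.Modules.pullbackComp q g).inv.app M with hA
  have h2 : A.app ((q ≫ g) ⁻¹ᵁ ⊤) (OmegaSh.pullSect (q ≫ g) M ⊤ s) = 0 := by
    refine h1.symm.trans ?_
    change ((Scheme.Modules.pushforwardComp q g).hom.app _).app ⊤
      (((Scheme.Modules.pullbackPushforwardAdjunction q).unit.app ((Scheme.Modules.pullback g).obj M)).app (g ⁻¹ᵁ ⊤)
        (OmegaSh.pullSect g M ⊤ s)) = 0
    rw [h]
    exact (congrArg _ (map_zero _)).trans (map_zero _)
  have h3 := congrArg (((Scheme.Modules.pullbackComp q g).hom.app M).app ((q ≫ g) ⁻¹ᵁ ⊤)) h2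
  have h4 := ConcreteCategory.congr_hom (congrArg (fun φ => φ.app ((q ≫ g) ⁻¹ᵁ (⊤ : Y.Opens)))
    ((Scheme.Modules.pullbackComp q g).inv_hom_id_app M)) (OmegaSh.pullSect (q ≫ g) M ⊤ s)
  exact h4.symm.trans (h3.trans (map_zero _))


/-- Let X be a smooth projective curve over an algebraically closed field k of characteristic 0
(integral, proper over k, of dimension one, all local rings regular), and L an invertible O_X-module
of degree d which is special (dim_k H^1(X, L) ≥ 1) with dim_k H^0(X, L) = r + 1. Suppose the map of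
the complete linear system of L factors as X ⟶ Γ ⟶ Y ⟶ P^r_k where π : X ⟶ Γ is a k-morphism, finite
and flat of constant rank a, onto a smooth projective curve Γ over k of genus γ, Y ⟶ P^r_k is an
integral closed subscheme, ψ : Γ ⟶ Y restricts to an isomorphism over a nonempty open subset of Y,
the pullback of O(1) along the composite embeds in L by a monomorphism ι, and every nonzero global
section of O(1) pulls back to a nonzero section (so the composite is the map of the complete linear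
system, through an a-sheeted cover followed by a birational map). Then: (1) if a = 2, either 2r + 2γ
≤ d or 4r ≤ d; (2) if a ≥ 3, 3r ≤ d. Degrees are χ(·) - χ(O_X). -/
theorem result (k : Type u) [Field k] [IsAlgClosed k] [CharZero k] (X : Scheme.{u}) [X.Over (Spec (CommRingCat.of k))]
    [IsIntegral X] [IsProper (X ↘ (Spec (CommRingCat.of k)))] (hdim : topologicalKrullDim X = 1)
    (hreg : ∀ x : X, IsRegularLocalRing (X.presheaf.stalk x))
    (L : X.Modules) (hL : PicF.IsInvertible L) (r : ℕ)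
    (h0 : Module.finrank k (Coh.HH X L 0) = r + 1) (h1 : 1 ≤ Module.finrank k (Coh.HH X L 1))
    (Γ : Scheme.{u}) [Γ.Over (Spec (CommRingCat.of k))] [IsIntegral Γ] [IsProper (Γ ↘ (Spec (CommRingCat.of k)))]
    (hdimΓ : topologicalKrullDim Γ = 1) (hregΓ : ∀ y : Γ, IsRegularLocalRing (Γ.presheaf.stalk y))
    (π : X ⟶ Γ) (hπ : π ≫ (Γ ↘ Spec (CommRingCat.of k)) = X ↘ Spec (CommRingCat.of k))
    [IsFinite π] [Flat π] (a : ℕ) (ha : ∀ y : Γ, Scheme.Hom.finrank π y = a)
    (Y : Scheme.{u}) [IsIntegral Y] (j : Y ⟶ CohB1.ProjSpace r k) [IsClosedImmersion j] (ψ : Γ ⟶ Y)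
    (hψ : ψ ≫ j ≫ CohB1.ProjSpace.toSpec r k = Γ ↘ Spec (CommRingCat.of k))
    (hbir : ∃ U : Y.Opens, (U : Set Y).Nonempty ∧ IsIso (ψ ∣_ U))
    (ι : (Scheme.Modules.pullback (π ≫ ψ ≫ j)).obj (Twist.twistProjSpace r k 1) ⟶ L) [Mono ι]
    (hnd : ∀ s : LinSer.Sect (CohB1.ProjSpace r k) (Twist.twistProjSpace r k 1), s ≠ 0 → OmegaSh.pullSect (π ≫ ψ ≫ j) (Twist.twistProjSpace r k 1) ⊤ s ≠ 0) :
    (a = 2 → 2 * (r : ℤ) + 2 * Curv2.genus k Γ ≤ Curv2.deg k X L 1 ∨ 4 * (r : ℤ) ≤ Curv2.deg k X L 1) ∧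
      (3 ≤ a → 3 * (r : ℤ) ≤ Curv2.deg k X L 1) := by
  rcases Nat.lt_or_ge a 2 with hlt | ha2
  · exact ⟨fun h => absurd h (by omega), fun h => absurd h (by omega)⟩
  haveI := GrothLib.CurveRR.regCurve_of_regular (k := k) hdim hreg
  haveI := GrothLib.CurveRR.regCurve_of_regular (k := k) hdimΓ hregΓ
  haveI := GrothLib.Euler.isNoetherian_of_proper (X := Γ) k
  haveI := GrothLib.Euler.isNoetherian_of_proper (X := X) k
  haveI : LocallyOfFinitePresentation π := inferInstance
  haveI : Surjective π := π.one_le_finrank_iff_surjective.1 fun y => by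
    show 1 ≤ π.finrank y
    rw [ha]; omega
  have eπ := GrothLib.HodgeProper12.genericPoint_eq_of_surjective π π.surjective
  have hres : π.residueDegree (genericPoint X) = a :=
    ((GrothLib.CurveMult.generic_finite_flat π eπ).1 (genericPoint Γ)).symm.trans (ha _)
  -- `ψ` is finite
  haveI : IsFinite ψ := by
    haveI : IsProper (ψ ≫ j ≫ CohB1.ProjSpace.toSpec r k) := by rw [hψ]; infer_instance
    haveI : IsProper (CohB1.ProjSpace.toSpec r k) := GrothLib.Chow.isProper_toSpec r k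
    refine Groth.Agent.S0219.result k Γ Y (Γ ↘ Spec (CommRingCat.of k)) (j ≫ CohB1.ProjSpace.toSpec r k) ψ hψ hdimΓ.le
      fun Z hZ _ => ?_
    rw [irreducibleComponents_eq_singleton, Set.mem_singleton_iff] at hZ
    subst hZ
    obtain ⟨U, ⟨y, hy⟩, hU⟩ := hbir
    haveI := hU
    obtain ⟨w, -⟩ := (ψ ∣_ U).surjective ⟨y, hy⟩
    have hgen : genericPoint Γ ∈ ψ ⁻¹ᵁ U :=
      ((genericPoint_spec Γ).specializes trivial).mem_open (ψ ⁻¹ᵁ U).isOpen w.2
    obtain ⟨z, hzW, hz, -, -⟩ := GrothLib.CurveMult.exists_regular_mem k hdimΓ (W := ψ ⁻¹ᵁ U) hgen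
    have hzg : z ≠ genericPoint Γ := by
      first
        | exact hz
        | exact fun h => GrothLib.CurvePoints.genericPoint_not_isClosed hdimΓ (h ▸ hz)
    refine ⟨ψ z, ⟨z, trivial, rfl⟩, ψ (genericPoint Γ), ⟨genericPoint Γ, trivial, rfl⟩, fun he => hzg ?_⟩
    have hinj : Function.Injective (ψ ∣_ U) := (ψ ∣_ U).homeomorph.injective
    have hv : ∀ v : (ψ ⁻¹ᵁ U : Γ.Opens), U.ι ((ψ ∣_ U) v) = ψ v.1 := fun v => by
      rw [← Scheme.Hom.comp_apply, morphismRestrict_ι]; rfl
    exact congrArg Subtype.val (hinj (U.ι.isOpenEmbedding.injective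
      (((hv ⟨z, hzW⟩).trans he).trans (hv ⟨_, hgen⟩).symm)) : (⟨z, hzW⟩ : (ψ ⁻¹ᵁ U : Γ.Opens)) = ⟨_, hgen⟩)
  have hμ : (ψ ≫ j) ≫ CohB1.ProjSpace.toSpec r k = Γ ↘ Spec (CommRingCat.of k) := (Category.assoc _ _ _).trans hψ
  have hsec := GrothLib.CurveMult.SpaceCurve.succ_le_finrank k (ψ ≫ j) hμ fun s hs h0 =>
    hnd s hs (pullSect_comp_eq_zero π (ψ ≫ j) (Twist.twistProjSpace r k 1) s h0)
  set P := (Scheme.Modules.pullback (ψ ≫ j)).obj (Twist.twistProjSpace r k 1) with hPdef
  have hP : PicF.IsInvertible P :=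
    GrothLib.RelProjK.isInvertible_pullback _ (GrothLib.CMReg.isInvertible_twist (n := r) (k := k) 1)
  obtain ⟨A, ⟨eA⟩⟩ := GrothLib.CurveRR.exists_iso_oD k hP
  have h7 := Groth.Agent.S7640.result k X Γ hdim hdimΓ π hπ eπ 1 P (GrothLib.Euler.isFinLocFreeOfRank_one' hP)
  rw [show Curv2.deg k X ((Scheme.Modules.pullback π).obj P) 1 = _ from
    GrothLib.Euler.deg_of_iso k ((Scheme.Modules.pullbackComp π (ψ ≫ j)).app (Twist.twistProjSpace r k 1)) 1,
    hres, GrothLib.Euler.deg_of_iso k eA 1, GrothLib.CurveRR.deg_oD A] at h7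
  rw [(GrothLib.Euler.hhEquiv (A := k) eA 0).finrank_eq, GrothLib.CurveRR.finrank_H0_oD] at hsec
  have h0 := GrothLib.CurveRR.finrank_H0_structure_eq_one k (X := Γ)
  have hK := GrothLib.CurveRR.isFunctionField k h0
  rw [GrothLib.CurveRR.genus_eq k h0]
  have hle : Curv2.deg k X ((Scheme.Modules.pullback (π ≫ ψ ≫ j)).obj (Twist.twistProjSpace r k 1)) 1 ≤ Curv2.deg k X L 1 := by
    have h := GrothLib.CurveMult.deg_le_line k hL _ 1 ι inferInstance (GrothLib.Euler.isFinLocFreeOfRank_one'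
      (GrothLib.RelProjK.isInvertible_pullback _ (GrothLib.CMReg.isInvertible_twist (n := r) (k := k) 1)))
    rw [Nat.cast_one, one_mul] at h
    exact_mod_cast h
  constructor
  · intro ha2'
    subst ha2'
    push_cast at h7
    rcases GrothLib.CurveRR.FF.ell_bound hK (D := A) (by omega) with hb | hb
    · exact Or.inr (by omega)
    · exact Or.inl (by omega)
  · intro ha3
    have ha3' : (3 : ℤ) ≤ a := by exact_mod_cast ha3
    rcases GrothLib.CurveRR.FF.ell_bound hK (D := A) (by omega) with hb | hb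
    · have hA : 2 * (r : ℤ) ≤ A.deg := by omega
      nlinarith
    · have hA : (r : ℤ) ≤ A.deg := by omega
      nlinarith

end Groth.Agent.S16978
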