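import Groth.Statements.S16979
import Mathlib.LinearAlgebra.Matrix.Charpoly.Eigs
import Mathlib.FieldTheory.Separable
import Mathlib.FieldTheory.IsAlgClosed.AlgebraicClosure
import Mathlib.RingTheory.Localization.FractionRing
import Mathlib.FieldTheory.IsAlgClosed.Spectrum

set_option autoImplicit false
universe u v
open CAlg

namespace Groth.Agent.S16979

open Polynomial

/-- Let R be an integral domain with fraction field K and φ a square matrix over R whose characteristic
polynomial becomes separable in K[T] (equivalently, K[T] modulo the characteristic polynomial is
geometrically reduced over K). Then a polynomial f over R satisfies f(φ) = 0 exactly when the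
characteristic polynomial of φ divides f in R[T]: the kernel of evaluation at φ (the minimal ideal
of φ) is the principal ideal generated by the characteristic polynomial. -/
theorem result
    {R : Type u} [CommRing R] [IsDomain R] {n : Type v} [Fintype n] [DecidableEq n]
    (φ : Matrix n n R)
    (hsep : (φ.charpoly.map (algebraMap R (FractionRing R))).Separable) :
    RingHom.ker (Polynomial.aeval (R := R) φ) = Ideal.span {φ.charpoly} := by
  classical
  refine le_antisymm ?_ ?_
  · intro f hf
    rw [RingHom.mem_ker] at hf
    rw [Ideal.mem_span_singleton]
    rcases isEmpty_or_nonempty n with he | hne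
    · rw [Matrix.charpoly_isEmpty]
      exact one_dvd _
    let K := FractionRing R
    let L := AlgebraicClosure K
    let ι : R →+* L := (algebraMap K L).comp (algebraMap R K)
    have hι : Function.Injective ι :=
      (algebraMap K L).injective.comp (IsFractionRing.injective R K)
    apply (Polynomial.map_dvd_map ι hι φ.charpoly_monic).1
    have hsep' : (φ.charpoly.map ι).Separable := by
      rw [← Polynomial.map_map]; exact hsep.map
    have hfL : Polynomial.aeval (φ.map ι) (f.map ι) = 0 := by
      have h1 := congrArg (RingHom.mapMatrix (m := n) ι) hf
      rw [map_zero, Polynomial.aeval_def, Polynomial.hom_eval₂] at h1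
      rw [Polynomial.aeval_def, Polynomial.eval₂_map]
      convert h1 using 2
      all_goals try rfl
      · ext r i j
        by_cases hij : i = j
        · subst hij; simp [Matrix.algebraMap_matrix_apply]
        · simp [Matrix.algebraMap_matrix_apply, hij]
    by_cases hf0 : f.map ι = 0
    · rw [hf0]; exact dvd_zero _
    have hsplit : (φ.charpoly.map ι).Splits := IsAlgClosed.splits _
    rw [hsplit.eq_prod_roots_of_monic (φ.charpoly_monic.map ι)]
    rw [Multiset.prod_X_sub_C_dvd_iff_le_roots hf0]
    rw [Multiset.le_iff_subset (Polynomial.nodup_roots hsep')]
    intro μ hμ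
    have h2 : μ ∈ spectrum L (φ.map ι) := by
      rw [Matrix.mem_spectrum_iff_isRoot_charpoly, Matrix.charpoly_map]
      exact Polynomial.isRoot_of_mem_roots hμ
    have h3 := spectrum.subset_polynomial_aeval (φ.map ι) (f.map ι) ⟨μ, h2, rfl⟩
    rw [hfL, spectrum.zero_eq, Set.mem_singleton_iff] at h3
    exact (Polynomial.mem_roots hf0).2 h3
  · rw [Ideal.span_le, Set.singleton_subset_iff, SetLike.mem_coe, RingHom.mem_ker]
    exact φ.aeval_self_charpoly

end Groth.Agent.S16979
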