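import Groth.Statements.S16980
import Mathlib
-- import your own Groth.Agent.* helpers here

set_option autoImplicit false
universe u
open CAlg

namespace Groth.Agent.S16980

/-- Let A be a commutative ring, J an A-module, A′ = A ⊕ εJ the trivial square-zero extension of A by J,
and τ any element of A′. Let B′ be the A′-algebra A′[x,y]/(xy − τ), presented by two generators x, y
with the evaluation map from the polynomial ring in two variables over A′ surjective and with kernel
generated by XY − τ. Let I ⊆ B′ be the ideal generated by the square-zero ideal J of A′, so that B =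
B′/I is A[x,y]/(xy − t) with t the A-component of τ. Then the first map of the conormal sequence of
B′ → B relative to A, namely I → B ⊗_{B′} Ω_{B′/A}, i ↦ 1 ⊗ di, is injective (so the sequence 0 → I
→ B ⊗_{B′} Ω_{B′/A} → Ω_{B/A} → 0 is exact on the left as well; this is the local computation at a
node for first-order deformations of nodal curves). -/
theorem result
    (A : Type u) [CommRing A] (J : Type u) [AddCommGroup J] [Module A J] [Module Aᵐᵒᵖ J]
    [IsCentralScalar A J] (τ : TrivSqZeroExt A J)
    (B' : Type u) [CommRing B'] [Algebra (TrivSqZeroExt A J) B'] [Algebra A B']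
    [IsScalarTower A (TrivSqZeroExt A J) B'] (x y : B')
    (hsurj : Function.Surjective
      (MvPolynomial.aeval ![x, y] : MvPolynomial (Fin 2) (TrivSqZeroExt A J) →ₐ[TrivSqZeroExt A J] B'))
    (hker : RingHom.ker
      (MvPolynomial.aeval ![x, y] : MvPolynomial (Fin 2) (TrivSqZeroExt A J) →ₐ[TrivSqZeroExt A J] B') =
      Ideal.span {MvPolynomial.X 0 * MvPolynomial.X 1 - MvPolynomial.C τ}) :
    Function.Injective (KaehlerDifferential.kerToTensor A B'
      (B' ⧸ Ideal.map (algebraMap (TrivSqZeroExt A J) B') (TrivSqZeroExt.kerIdeal A J))) := by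
  classical
  let A' := TrivSqZeroExt A J
  let L := LaurentPolynomial A'
  let ι := algebraMap A' B'
  let ker₀ : Ideal A' := TrivSqZeroExt.kerIdeal A J
  let E : Ideal L := ker₀.map LaurentPolynomial.C
  let σ : A' →+* A' := (TrivSqZeroExt.inlHom A J).comp (TrivSqZeroExt.fstHom A A J).toRingHom
  let S : L →+* L := LaurentPolynomial.eval₂ (LaurentPolynomial.C.comp σ) (LaurentPolynomial.isUnit_T 1).unit
  have hσ : ∀ a : A', a - σ a ∈ ker₀ := fun a => by
    show (TrivSqZeroExt.fstHom A A J) (a - σ a) = 0
    rw [map_sub]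
    simp [σ]
    exact sub_self _
  have hST : ∀ n : ℤ, S (LaurentPolynomial.T n) = LaurentPolynomial.T n := fun n => by
    rw [LaurentPolynomial.eval₂_T]
    induction n using Int.induction_on with
    | zero => simp
    | succ n ih => rw [zpow_add, Units.val_mul, ih, zpow_one, IsUnit.unit_spec, LaurentPolynomial.T_add]
    | pred n ih =>
      rw [zpow_sub, zpow_one, Units.val_mul, ih]
      refine (Units.mul_inv_eq_iff_eq_mul _).2 ?_
      rw [IsUnit.unit_spec, ← LaurentPolynomial.T_add, sub_add_cancel]
  have hE : ∀ u : L, u - S u ∈ E := fun u => by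
    induction u using LaurentPolynomial.induction_on' with
    | add p q hp hq => rw [map_add, add_sub_add_comm]; exact add_mem hp hq
    | C_mul_T n a =>
      rw [map_mul, hST, LaurentPolynomial.eval₂_C, RingHom.comp_apply, ← sub_mul, ← map_sub]
      exact Ideal.mul_mem_right _ _ (Ideal.mem_map_of_mem _ (hσ a))
  have hS0 : ∀ u ∈ E, S u = 0 := fun u hu => by
    have : E ≤ RingHom.ker S := Ideal.map_le_iff_le_comap.2 fun a ha => by
      show S (LaurentPolynomial.C a) = 0
      rw [LaurentPolynomial.eval₂_C, RingHom.comp_apply]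
      have : σ a = 0 := by
        show TrivSqZeroExt.inl (TrivSqZeroExt.fst a) = 0
        rw [show TrivSqZeroExt.fst a = 0 from ha, TrivSqZeroExt.inl_zero]
      rw [this, map_zero]
    exact this hu
  have hEE : ∀ u ∈ E, ∀ v ∈ E, u * v = 0 := fun u hu v hv => by
    have h : E * E = ⊥ := by
      rw [← Ideal.map_mul, ← pow_two, TrivSqZeroExt.kerIdeal_sq, Ideal.map_bot]
    exact (Submodule.mem_bot _).1 (h ▸ Ideal.mul_mem_mul hu hv)
  set I : Ideal B' := Ideal.map (algebraMap (TrivSqZeroExt A J) B') (TrivSqZeroExt.kerIdeal A J) with hI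
  -- the two charts of the node
  let lift : ∀ g : MvPolynomial (Fin 2) A' →ₐ[A'] L,
      g (MvPolynomial.X 0 * MvPolynomial.X 1 - MvPolynomial.C τ) = 0 → (B' →ₐ[A'] L) := fun g hg =>
    (Ideal.Quotient.liftₐ _ g (fun a ha => by
      rw [hker, Ideal.mem_span_singleton] at ha
      obtain ⟨c, rfl⟩ := ha
      rw [map_mul, hg, zero_mul])).comp (Ideal.quotientKerAlgEquivOfSurjective hsurj).symm.toAlgHom
  have hlift : ∀ g hg w, lift g hg (MvPolynomial.aeval ![x, y] w) = g w := fun g hg w => by
    have h1 : (Ideal.quotientKerAlgEquivOfSurjective hsurj).symm (MvPolynomial.aeval ![x, y] w) =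
      Ideal.Quotient.mk _ w := (Ideal.quotientKerAlgEquivOfSurjective hsurj).symm_apply_eq.2 rfl
    simp only [lift, AlgHom.comp_apply]
    erw [h1]
    rfl
  let z : L := LaurentPolynomial.C τ * LaurentPolynomial.T (-1)
  have hTz : (LaurentPolynomial.T 1 : L) * z = LaurentPolynomial.C τ := by
    rw [mul_left_comm, ← LaurentPolynomial.T_add]; simp
  have hxy : x * y = ι τ := by
    have : MvPolynomial.X 0 * MvPolynomial.X 1 - MvPolynomial.C τ ∈ RingHom.ker
        (MvPolynomial.aeval ![x, y] : MvPolynomial (Fin 2) A' →ₐ[A'] B') := hker ▸ Ideal.mem_span_singleton_self _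
    rw [RingHom.mem_ker] at this
    simpa [sub_eq_zero] using this
  have hgx : (MvPolynomial.aeval ![LaurentPolynomial.T 1, z] : MvPolynomial (Fin 2) A' →ₐ[A'] L)
      (MvPolynomial.X 0 * MvPolynomial.X 1 - MvPolynomial.C τ) = 0 := by
    simp [hTz]
    exact sub_self _
  have hgy : (MvPolynomial.aeval ![z, LaurentPolynomial.T 1] : MvPolynomial (Fin 2) A' →ₐ[A'] L)
      (MvPolynomial.X 0 * MvPolynomial.X 1 - MvPolynomial.C τ) = 0 := by
    simp [mul_comm z, hTz]
    exact sub_self _
  let φx : B' →ₐ[A'] L := lift _ hgx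
  let φy : B' →ₐ[A'] L := lift _ hgy
  have hφxx : φx x = LaurentPolynomial.T 1 := by simpa using hlift _ hgx (MvPolynomial.X 0)
  have hφxy : φx y = z := by simpa using hlift _ hgx (MvPolynomial.X 1)
  have hφyx : φy x = z := by simpa using hlift _ hgy (MvPolynomial.X 0)
  have hφyy : φy y = LaurentPolynomial.T 1 := by simpa using hlift _ hgy (MvPolynomial.X 1)
  have haevalT : ∀ p : Polynomial A', Polynomial.aeval (LaurentPolynomial.T 1 : L) p = p.toLaurent := fun p => by
    induction p using Polynomial.induction_on' with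
    | add p q hp hq => rw [map_add, map_add, hp, hq]
    | monomial n a =>
      rw [Polynomial.aeval_monomial, LaurentPolynomial.T_pow, Polynomial.toLaurent_C_mul_T, mul_one]
      rfl
  have hneg : ∀ (q : Polynomial A') (n : ℕ), AddMonoidAlgebra.coeff (z * Polynomial.aeval z q) (n : ℤ) = 0 := fun q n => by
    induction q using Polynomial.induction_on' with
    | add p q hp hq => rw [map_add, mul_add, AddMonoidAlgebra.coeff_add, Finsupp.add_apply, hp, hq, add_zero]
    | monomial m a =>
      rw [Polynomial.aeval_monomial, show z * (algebraMap A' L a * z ^ m) = algebraMap A' L a * z ^ (m + 1) by ring,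
        mul_pow, ← map_pow, LaurentPolynomial.T_pow, show algebraMap A' L a = LaurentPolynomial.C a from rfl,
        ← mul_assoc, ← map_mul, ← LaurentPolynomial.single_eq_C_mul_T]
      rw [AddMonoidAlgebra.coeff_single, Finsupp.single_eq_of_ne]
      push_cast; omega
  -- normal form of elements of I
  let Z : Set (Polynomial A') := {p | ∀ n, p.coeff n ∈ ker₀}
  have hnf : ∀ i ∈ I, ∃ p ∈ Z, ∃ q ∈ Z, i = Polynomial.aeval x p + y * Polynomial.aeval y q := by
    have hadd : ∀ i i', (∃ p ∈ Z, ∃ q ∈ Z, i = Polynomial.aeval x p + y * Polynomial.aeval y q) →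
        (∃ p ∈ Z, ∃ q ∈ Z, i' = Polynomial.aeval x p + y * Polynomial.aeval y q) →
        ∃ p ∈ Z, ∃ q ∈ Z, i + i' = Polynomial.aeval x p + y * Polynomial.aeval y q := by
      rintro _ _ ⟨p, hp, q, hq, rfl⟩ ⟨p', hp', q', hq', rfl⟩
      exact ⟨p + p', fun n => by rw [Polynomial.coeff_add]; exact add_mem (hp n) (hp' n), q + q',
        fun n => by rw [Polynomial.coeff_add]; exact add_mem (hq n) (hq' n), by simp only [map_add]; ring⟩
    have hzero : ∃ p ∈ Z, ∃ q ∈ Z, (0 : B') = Polynomial.aeval x p + y * Polynomial.aeval y q :=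
      ⟨0, fun n => by simp, 0, fun n => by simp, by simp⟩
    have hZC : ∀ c ∈ ker₀, ∀ m : ℕ, Polynomial.monomial m c ∈ Z := fun c hc m n => by
      rw [Polynomial.coeff_monomial]; split_ifs <;> simp [hc]
    have hmon : ∀ c ∈ ker₀, ∀ a b : ℕ,
        ∃ p ∈ Z, ∃ q ∈ Z, ι c * (x ^ a * y ^ b) = Polynomial.aeval x p + y * Polynomial.aeval y q := by
      intro c hc a b
      rcases le_or_gt b a with hab | hab
      · obtain ⟨m, rfl⟩ := Nat.exists_eq_add_of_le hab
        refine ⟨_, hZC (c * τ ^ b) (Ideal.mul_mem_right _ _ hc) m, 0, fun n => by simp, ?_⟩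
        simp only [Polynomial.aeval_monomial, map_mul, map_pow, map_zero, mul_zero, add_zero]
        rw [show algebraMap A' B' τ = x * y from hxy.symm]
        ring
      · obtain ⟨m, rfl⟩ := Nat.exists_eq_add_of_lt hab
        refine ⟨0, fun n => by simp, _, hZC (c * τ ^ a) (Ideal.mul_mem_right _ _ hc) m, ?_⟩
        simp only [Polynomial.aeval_monomial, map_mul, map_pow, map_zero, zero_add]
        rw [show algebraMap A' B' τ = x * y from hxy.symm]
        ring
    have hmul : ∀ c ∈ ker₀, ∀ w : MvPolynomial (Fin 2) A',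
        ∃ p ∈ Z, ∃ q ∈ Z, MvPolynomial.aeval ![x, y] w * ι c = Polynomial.aeval x p + y * Polynomial.aeval y q := by
      intro c hc w
      induction w using MvPolynomial.induction_on' with
      | add w w' hw hw' => rw [map_add, add_mul]; exact hadd _ _ hw hw'
      | monomial s a =>
        obtain ⟨p, hp, q, hq, h⟩ := hmon (a * c) (Ideal.mul_mem_left _ _ hc) (s 0) (s 1)
        refine ⟨p, hp, q, hq, ?_⟩
        rw [← h, MvPolynomial.aeval_monomial, Finsupp.prod_fintype _ _ (fun i => pow_zero _), Fin.prod_univ_two,
          map_mul]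
        simp only [Matrix.cons_val_zero, Matrix.cons_val_one]
        ring
    intro i hi
    obtain ⟨n, f, g, rfl⟩ := Submodule.mem_span_set'.1 hi
    refine Finset.sum_induction _ (fun i => ∃ p ∈ Z, ∃ q ∈ Z, i = Polynomial.aeval x p + y * Polynomial.aeval y q)
      hadd hzero fun j _ => ?_
    obtain ⟨c, hc, hcg⟩ := (g j).2
    obtain ⟨w, hw⟩ := hsurj (f j)
    rw [smul_eq_mul, ← hcg, ← hw]
    exact hmul c hc w
  -- injectivity
  refine (injective_iff_map_eq_zero _).2 fun i hi => ?_
  have hiI : (i : B') ∈ I := by
    have := i.2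
    rw [RingHom.mem_ker] at this
    exact Ideal.Quotient.eq_zero_iff_mem.1 this
  have hdi : KaehlerDifferential.D A B' (i : B') ∈ I • (⊤ : Submodule B' (Ω[B'⁄A])) := by
    rw [KaehlerDifferential.kerToTensor_apply] at hi
    have := congrArg (TensorProduct.quotTensorEquivQuotSMul (Ω[B'⁄A]) I) hi
    rw [map_zero] at this
    rw [← Submodule.Quotient.mk_eq_zero, ← this]
    exact (TensorProduct.quotTensorEquivQuotSMul_mk_one_tmul I _).symm
  have key : ∀ φ : B' →ₐ[A'] L, φ i = 0 := by
    intro φ
    letI : Algebra B' L := φ.toRingHom.toAlgebra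
    haveI : IsScalarTower A B' L := IsScalarTower.of_algebraMap_eq fun a => by
      show algebraMap A L a = φ (algebraMap A B' a)
      rw [IsScalarTower.algebraMap_apply A A' B', φ.commutes]
      rfl
    have hA : ∀ a : A, S (algebraMap A L a) = algebraMap A L a := fun a => by
      show S (LaurentPolynomial.C (algebraMap A A' a)) = LaurentPolynomial.C (algebraMap A A' a)
      rw [LaurentPolynomial.eval₂_C, RingHom.comp_apply]
      congr 1
    let D : Derivation A B' L := Derivation.mk'
      { toFun := fun b => φ b - S (φ b)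
        map_add' := fun b b' => by simp only [map_add]; ring
        map_smul' := fun a b => by
          simp only [Algebra.smul_def, RingHom.id_apply, map_mul]
          rw [show φ (algebraMap A B' a) = algebraMap A L a from
            (IsScalarTower.algebraMap_apply A B' L a).symm, hA]
          ring }
      (fun b b' => by
        show φ (b * b') - S (φ (b * b')) = φ b * (φ b' - S (φ b')) + φ b' * (φ b - S (φ b))
        rw [map_mul, map_mul]
        linear_combination -(hEE _ (hE (φ b)) _ (hE (φ b'))))
    have hrange : ∀ ω, D.liftKaehlerDifferential ω ∈ E := fun ω => by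
      have hω : ω ∈ Submodule.span B' (Set.range (KaehlerDifferential.D A B')) :=
        KaehlerDifferential.span_range_derivation A B' ▸ trivial
      induction hω using Submodule.span_induction with
      | mem _ h => obtain ⟨b, rfl⟩ := h; rw [Derivation.liftKaehlerDifferential_comp_D]; exact hE (φ b)
      | zero => rw [map_zero]; exact zero_mem _
      | add _ _ _ _ h h' => rw [map_add]; exact add_mem h h'
      | smul r _ _ h => rw [map_smul]; exact Ideal.mul_mem_left _ (φ r) h
    have hφI : ∀ r ∈ I, φ r ∈ E := fun r hr => by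
      have : I ≤ E.comap φ.toRingHom := Ideal.map_le_iff_le_comap.2 fun c hc => by
        show φ (algebraMap A' B' c) ∈ E
        rw [φ.commutes]
        exact Ideal.mem_map_of_mem LaurentPolynomial.C hc
      exact this hr
    have h0 : D.liftKaehlerDifferential (KaehlerDifferential.D A B' i) = 0 := by
      refine Submodule.smul_induction_on hdi (fun r hr ω _ => ?_) (fun u v hu hv => by rw [map_add, hu, hv, add_zero])
      rw [map_smul]
      exact hEE _ (hφI r hr) _ (hrange ω)
    rw [Derivation.liftKaehlerDifferential_comp_D] at h0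
    change φ i - S (φ i) = 0 at h0
    rwa [hS0 _ (hφI _ hiI), sub_zero] at h0
  obtain ⟨p, hp, q, hq, hi'⟩ := hnf _ hiI
  have hp0 : p = 0 := by
    refine Polynomial.ext fun n => ?_
    have h := congrArg (fun u : L => AddMonoidAlgebra.coeff u (n : ℤ)) (key φx)
    rw [AddMonoidAlgebra.coeff_zero, Finsupp.zero_apply] at h
    rw [hi', map_add, map_mul, ← Polynomial.aeval_algHom_apply, ← Polynomial.aeval_algHom_apply, hφxx, hφxy,
      AddMonoidAlgebra.coeff_add, Finsupp.add_apply, hneg, add_zero, haevalT] at h
    rw [Polynomial.coeff_zero]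
    refine Eq.trans ?_ h
    rw [Polynomial.toLaurent_apply]
    exact (Finsupp.mapDomain_apply Nat.cast_injective _ _).symm
  have hq0 : Polynomial.X * q = 0 := by
    refine Polynomial.toLaurent_injective ?_
    rw [map_zero, ← haevalT, map_mul, Polynomial.aeval_X, ← hφyy, Polynomial.aeval_algHom_apply, ← map_mul]
    have h := key φy
    rwa [hi', hp0, map_zero, zero_add] at h
  refine Subtype.ext ?_
  rw [hi', hp0, map_zero, zero_add, show q = 0 from Polynomial.ext fun n => by simpa using congrArg (fun r : Polynomial A' => r.coeff (n + 1)) hq0, map_zero, mul_zero]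
  rfl

end Groth.Agent.S16980
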