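import Groth.Statements.S16981
import Groth.Agent.Lib.AdicExtra.Local
-- import your own Groth.Agent.* helpers here

set_option autoImplicit false
universe u v
open CAlg

namespace Groth.Agent.S16981

/-- Let A be a complete Noetherian local ring and f : E → A a surjective ring homomorphism whose kernel
has square zero and is finitely generated (equivalently, is a finite A-module for the induced module
structure). Then E is separated and complete for the adic topology of the inverse image of the
maximal ideal of A. (The published statement takes A to be the completion of a local ring of a
scheme of finite type over an Artinian local ring and the kernel the completion of a finite module;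
this row assumes only that A is complete Noetherian local and the kernel finitely generated.) -/
theorem result
    {A : Type u} {E : Type v} [CommRing A] [CommRing E] [IsNoetherianRing A] [IsLocalRing A]
    [IsAdicComplete (IsLocalRing.maximalIdeal A) A]
    (f : E →+* A) (hf : Function.Surjective f)
    (hsq : RingHom.ker f ^ 2 = ⊥) (hfg : (RingHom.ker f).FG) :
    IsAdicComplete ((IsLocalRing.maximalIdeal A).comap f) E := by
  exact GrothLib.AdicExtra.isAdicComplete_sqZero f hf hsq hfg

end Groth.Agent.S16981
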