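import Groth.Statements.S16982
import Mathlib
import Groth.Agent.Lib.AdicExtra.Stack
-- import your own Groth.Agent.* helpers here

set_option autoImplicit false
universe u v w w'
open CAlg

namespace Groth.Agent.S16982

/-- Let R be a commutative ring, A a complete Noetherian local R-algebra written as a quotient of a
power series ring over R in finitely many variables by a surjective R-algebra map π, and f : E → A a
surjective R-algebra map whose kernel has square zero and is finitely generated. Then π lifts along
f to an R-algebra map λ from the power series ring to E with f ∘ λ = π. (The published statement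
takes R Artinian local and asks for a lift that is continuous for the adic topologies; this row
allows any commutative R and asks for any lift.) -/
theorem result
    {R : Type u} [CommRing R] {σ : Type v} [Finite σ]
    {A : Type w} {E : Type w'} [CommRing A] [CommRing E] [Algebra R A] [Algebra R E]
    [IsNoetherianRing A] [IsLocalRing A] [IsAdicComplete (IsLocalRing.maximalIdeal A) A]
    (π : MvPowerSeries σ R →ₐ[R] A) (hπ : Function.Surjective π)
    (f : E →ₐ[R] A) (hf : Function.Surjective f)
    (hsq : RingHom.ker f.toRingHom ^ 2 = ⊥) (hfg : (RingHom.ker f.toRingHom).FG) :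
    ∃ l : MvPowerSeries σ R →ₐ[R] E, f.comp l = π := by
  classical
  set N := RingHom.ker f.toRingHom with hN
  let q : (E ⧸ N) ≃+* A := RingHom.quotientKerEquivOfSurjective (f := f.toRingHom) hf
  haveI : IsNoetherianRing (E ⧸ N) := isNoetherianRing_of_ringEquiv _ q.symm
  have hnil : ∀ x ∈ N, x * x = 0 := fun x hx => by
    have : x * x ∈ N ^ 2 := by rw [pow_two]; exact Ideal.mul_mem_mul hx hx
    simpa [hsq] using this
  haveI : IsNoetherianRing E := IsNoetherianRing.of_prime fun P hP => by
    have hNP : N ≤ P := fun x hx => (hP.mem_or_mem (by rw [hnil x hx]; exact P.zero_mem)).elim id id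
    refine Submodule.fg_of_fg_map_of_fg_inf_ker (Submodule.mkQ N) ?_ ?_
    · have h : (P.map (Ideal.Quotient.mk N)).FG := IsNoetherian.noetherian _
      have h1 : (Submodule.map (Submodule.mkQ N) P : Submodule E (E ⧸ N)) =
          (P.map (Ideal.Quotient.mk N)).restrictScalars E := by
        ext x
        simp [Ideal.mem_map_iff_of_surjective _ Ideal.Quotient.mk_surjective]
      rw [h1]
      exact Submodule.FG.restrictScalars_of_surjective h Ideal.Quotient.mk_surjective
    · rw [Submodule.ker_mkQ, inf_eq_right.mpr hNP]
      exact hfg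
  set m := IsLocalRing.maximalIdeal A with hm
  set J : Ideal E := m.comap f.toRingHom with hJ
  haveI : IsAdicComplete N E := by
    have h2 : N ^ 2 • (⊤ : Submodule E E) = ⊥ := by rw [hsq]; simp
    exact { haus' := fun x hx => by
              have := hx 2
              rw [h2, SModEq.bot] at this
              exact this
            prec' := fun g hg => ⟨g 2, fun n => by
              rcases le_total n 2 with h | h
              · exact hg h
              · have := hg h
                rw [h2, SModEq.bot] at this
                rw [this]⟩ }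
  haveI : IsAdicComplete (J.map (Ideal.Quotient.mk N)) (E ⧸ N) := by
    rw [← IsAdicComplete.congr_ringEquiv _ q]
    have : (J.map (Ideal.Quotient.mk N)).map q = m := by
      change (J.map (Ideal.Quotient.mk N)).map q.toRingHom = m
      rw [Ideal.map_map]
      have : q.toRingHom.comp (Ideal.Quotient.mk N) = f.toRingHom := RingHom.ext fun x => rfl
      rw [this, hJ, Ideal.map_comap_of_surjective f.toRingHom hf]
    rw [this]
    infer_instance
  haveI : IsAdicComplete J E := GrothLib.AdicExtra.isAdicComplete_of_quotient E N J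
  have hX : ∀ i, π (MvPowerSeries.X i) ∈ m := by
    intro i
    rw [hm, IsLocalRing.mem_maximalIdeal]
    intro hu
    obtain ⟨y, hy⟩ := hu.exists_right_inv
    obtain ⟨z, rfl⟩ := hπ y
    have hun : IsUnit (1 - MvPowerSeries.X i * z : MvPowerSeries σ R) := by
      rw [MvPowerSeries.isUnit_iff_constantCoeff]
      simp
    have := hun.map π
    rw [map_sub, map_one, map_mul, hy, sub_self] at this
    exact not_isUnit_zero this
  choose e he using fun i => hf (π (MvPowerSeries.X i))
  let ev : MvPolynomial σ R →ₐ[R] E := MvPolynomial.aeval e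
  have hev : (MvPolynomial.idealOfVars σ R).map ev.toRingHom ≤ J := by
    rw [MvPolynomial.idealOfVars, Ideal.map_span, Ideal.span_le]
    rintro _ ⟨_, ⟨i, rfl⟩, rfl⟩
    simpa [ev, hJ, he i] using hX i
  have hle : ∀ n, MvPolynomial.idealOfVars σ R ^ n ≤ (J ^ n).comap ev.toRingHom := fun n => by
    rw [← Ideal.map_le_iff_le_comap, Ideal.map_pow]
    exact Ideal.pow_right_mono hev n
  let F : ∀ n, MvPowerSeries σ R →+* E ⧸ J ^ n := fun n =>
    (Ideal.quotientMap (J ^ n) ev.toRingHom (hle n)).comp
      (MvPowerSeries.truncTotalAlgHom σ R n).toRingHom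
  have hFapp : ∀ n p, F n p = Ideal.Quotient.mk (J ^ n) (ev (MvPowerSeries.truncTotal n p)) :=
    fun n p => rfl
  have hF : ∀ {a b : ℕ} (hab : a ≤ b),
      (Ideal.Quotient.factorPow J hab).comp (F b) = F a := by
    intro a b hab
    ext p
    rw [RingHom.comp_apply, hFapp, hFapp, Ideal.Quotient.factorPow, Ideal.Quotient.factor_mk,
      Ideal.Quotient.mk_eq_mk_iff_sub_mem, ← map_sub]
    exact hle a (MvPowerSeries.truncTotal_sub_truncTotal_mem_pow_idealOfVars hab le_rfl p)
  let l₀ := IsAdicComplete.liftRingHom J F hF
  have hl₀ : ∀ n p, Ideal.Quotient.mk (J ^ n) (l₀ p) =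
      Ideal.Quotient.mk (J ^ n) (ev (MvPowerSeries.truncTotal n p)) := fun n p => by
    rw [IsAdicComplete.mk_liftRingHom, hFapp]
  have hcoe : ∀ (p : MvPolynomial σ R) (n : ℕ),
      p - MvPowerSeries.truncTotal n (p : MvPowerSeries σ R) ∈ MvPolynomial.idealOfVars σ R ^ n :=
    fun p n => (MvPolynomial.mem_pow_idealOfVars_iff' ..).mpr fun x hx => by
      simp [MvPowerSeries.coeff_truncTotal _ hx]
  let l : MvPowerSeries σ R →ₐ[R] E :=
    { l₀ with
      commutes' := fun r => by
        apply IsHausdorff.funext' J (f := fun _ : Unit => l₀ (algebraMap R _ r))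
          (g := fun _ : Unit => algebraMap R E r) ?_ |> fun h => congrFun h ()
        intro n _
        rw [hl₀]
        rw [Ideal.Quotient.mk_eq_mk_iff_sub_mem]
        have h1 := hle n (hcoe (MvPolynomial.C r) n)
        rw [Ideal.mem_comap, map_sub, MvPolynomial.coe_C] at h1
        rw [MvPowerSeries.algebraMap_apply, Algebra.algebraMap_self, RingHom.id_apply,
          ← neg_sub]
        refine (Ideal.neg_mem_iff _).mpr ?_
        simpa [ev] using h1 }
  refine ⟨l, ?_⟩
  have hg : ∀ p : MvPolynomial σ R, f (ev p) = π (p : MvPowerSeries σ R) := by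
    intro p
    have : f.comp ev = π.comp (MvPolynomial.coeToMvPowerSeries.algHom R) := by
      apply MvPolynomial.algHom_ext
      intro i
      simp [ev, he i]
    simpa using congr($this p)
  ext p
  apply eq_of_sub_eq_zero
  refine IsHausdorff.haus (inferInstance : IsHausdorff m A) _ fun n => ?_
  rw [SModEq.zero, smul_eq_mul, Ideal.mul_top]
  have h1 : f (l p) - f (ev (MvPowerSeries.truncTotal n p)) ∈ m ^ n := by
    have h := Ideal.Quotient.eq.mp (hl₀ n p)
    have h' := Ideal.mem_map_of_mem f.toRingHom h
    rw [Ideal.map_pow, hJ, Ideal.map_comap_of_surjective f.toRingHom hf, map_sub] at h'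
    exact h'
  set t : MvPowerSeries σ R := p - ((MvPowerSeries.truncTotal n p : MvPolynomial σ R) :
    MvPowerSeries σ R) with ht
  let Φ := MvPowerSeries.toAdicCompletionAlgEquiv σ R
  have h2 : Φ t ∈ (MvPolynomial.idealOfVars σ R ^ n) •
      (⊤ : Submodule (MvPolynomial σ R)
        (AdicCompletion (MvPolynomial.idealOfVars σ R) (MvPolynomial σ R))) := by
    rw [AdicCompletion.pow_smul_top_eq_ker_eval (MvPolynomial.idealOfVars_fg σ R),
      LinearMap.mem_ker, MvPowerSeries.toAdicCompletionAlgEquiv_apply]
    change (MvPowerSeries.toAdicCompletion σ R t).val n = 0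
    rw [MvPowerSeries.toAdicCompletion_apply_eq_mk_truncTotal]
    apply (Submodule.Quotient.mk_eq_zero _).mpr
    rw [smul_eq_mul, Ideal.mul_top, MvPolynomial.mem_pow_idealOfVars_iff']
    intro x hx
    simp [ht, MvPowerSeries.coeff_truncTotal _ hx]
  have h3 : t ∈ (MvPolynomial.idealOfVars σ R ^ n).map
      (algebraMap (MvPolynomial σ R) (MvPowerSeries σ R)) := by
    rw [Ideal.smul_top_eq_map, Submodule.restrictScalars_mem] at h2
    have h := Ideal.mem_map_of_mem Φ.symm.toAlgHom.toRingHom h2
    rw [Ideal.map_map] at h
    have hc : Φ.symm.toAlgHom.toRingHom.comp (algebraMap (MvPolynomial σ R)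
        (AdicCompletion (MvPolynomial.idealOfVars σ R) (MvPolynomial σ R))) =
          algebraMap (MvPolynomial σ R) (MvPowerSeries σ R) :=
      RingHom.ext fun x => Φ.symm.commutes x
    rw [hc] at h
    simpa using h
  have h4 : π t ∈ m ^ n := by
    have h := Ideal.mem_map_of_mem π.toRingHom h3
    rw [Ideal.map_map, Ideal.map_pow] at h
    refine Ideal.pow_right_mono ?_ n h
    rw [MvPolynomial.idealOfVars, Ideal.map_span, Ideal.span_le]
    rintro _ ⟨_, ⟨i, rfl⟩, rfl⟩
    simpa [MvPowerSeries.algebraMap_apply'] using hX i
  rw [ht, map_sub, ← hg] at h4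
  have h5 : (f.comp l) p - π p =
      (f (l p) - f (ev (MvPowerSeries.truncTotal n p))) -
        (π p - f (ev (MvPowerSeries.truncTotal n p))) := by
    rw [AlgHom.comp_apply]
    ring
  rw [h5]
  exact sub_mem h1 h4

end Groth.Agent.S16982
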