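import Groth.Statements.S16983
-- import your own Groth.Agent.* helpers here
import Mathlib

set_option autoImplicit false
universe u
open DeformData

namespace Groth.Agent.S16983

/-- Let p be a prime, s ≥ 1, B a finite index set with a subset B₀ of exactly three elements, m_j ≥ 1
integers coprime to p, and σ_{i,j} (i < s, j ∈ B) rational numbers with m_j σ_{i,j} an integer, such
that Σ_j (σ_{i,j} − 1) = −2 for every i, the fractional part of σ_{i,j} equals that of p^i σ_{0,j},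
no σ_{i,j} equals 1, and the minimum over i of ⌊σ_{i,j}⌋ is 0 for j ∈ B₀ and 1 for j ∉ B₀. Then for
every i the fractional parts ⟨σ_{i,j}⟩ sum over j to 1 (purity), and ⌊σ_{i,j}⌋ is 0 on B₀ and 1 off
B₀ for every i. (The hypotheses are exactly the properties of the signature of a special deformation
datum on the projective line: each entry is an integer divided by a stabilizer order m_j in a group
of order prime to p, the degree identity coming from Riemann–Hurwitz, the Frobenius-twist relation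
between fractional parts, and the speciality conditions; the statement is given here for any such
tuple.) -/
theorem result
    {B : Type u} [Fintype B] [DecidableEq B] (B₀ : Finset B) (hB₀ : B₀.card = 3)
    (p : ℕ) (hp : p.Prime) (s : ℕ) (hs : 0 < s)
    (m : B → ℕ) (hm : ∀ j, 0 < m j) (hmp : ∀ j, Nat.Coprime (m j) p)
    (σ : Fin s → B → ℚ) (hint : ∀ i j, ∃ h : ℤ, σ i j = (h : ℚ) / (m j : ℚ))
    (hsum : ∀ i, ∑ j, (σ i j - 1) = -2)
    (hfract : ∀ i j, Int.fract (σ i j) = Int.fract ((p : ℚ) ^ (i : ℕ) * σ ⟨0, hs⟩ j))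
    (hne : ∀ i j, σ i j ≠ 1)
    (hB₀min : ∀ j ∈ B₀, (∃ i, ⌊σ i j⌋ = 0) ∧ ∀ i, 0 ≤ ⌊σ i j⌋)
    (hBmin : ∀ j ∉ B₀, (∃ i, ⌊σ i j⌋ = 1) ∧ ∀ i, 1 ≤ ⌊σ i j⌋) :
    (∀ i, ∑ j, Int.fract (σ i j) = 1) ∧ (∀ i j, ⌊σ i j⌋ = if j ∈ B₀ then 0 else 1) := by
  classical
  have hfl : ∀ i j, (0:ℤ) ≤ ⌊σ i j⌋ - (if j ∈ B₀ then 0 else 1) := by
    intro i j
    by_cases hj : j ∈ B₀
    · simp [hj]; exact (hB₀min j hj).2 i
    · simp [hj]; exact (hBmin j hj).2 i
  have key : ∀ i, (∑ j, ((⌊σ i j⌋ - (if j ∈ B₀ then 0 else 1) : ℤ) : ℚ)) + ∑ j, Int.fract (σ i j) = 1 := by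
    intro i
    have h1 : ∀ j, σ i j - 1 = ((⌊σ i j⌋ - (if j ∈ B₀ then 0 else 1) : ℤ) : ℚ) + Int.fract (σ i j) - (if j ∈ B₀ then 1 else 0) := by
      intro j
      have := Int.floor_add_fract (σ i j)
      split_ifs <;> push_cast <;> linarith
    have h2 := hsum i
    simp only [h1, Finset.sum_sub_distrib, Finset.sum_add_distrib] at h2
    rw [Finset.sum_ite_mem, Finset.univ_inter, Finset.sum_const, hB₀] at h2
    simp at h2 ⊢
    linarith
  have pure : ∀ i, ∑ j, Int.fract (σ i j) = 1 := by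
    intro i
    by_contra hne1
    have hE : (0:ℤ) ≤ ∑ j, (⌊σ i j⌋ - (if j ∈ B₀ then 0 else 1)) := Finset.sum_nonneg fun j _ => hfl i j
    have hF : 0 ≤ ∑ j, Int.fract (σ i j) := Finset.sum_nonneg fun j _ => Int.fract_nonneg _
    have hk := key i
    rw [← Int.cast_sum] at hk
    have hE1 : ∑ j, (⌊σ i j⌋ - (if j ∈ B₀ then 0 else 1)) = 1 := by
      by_contra hE1
      rcases lt_or_gt_of_ne hE1 with h | h
      · have h0 : ∑ j, (⌊σ i j⌋ - (if j ∈ B₀ then 0 else 1)) = 0 := by omega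
        rw [h0] at hk; simp at hk; exact hne1 hk
      · have : ((2:ℤ):ℚ) ≤ ((∑ j, (⌊σ i j⌋ - (if j ∈ B₀ then 0 else 1)) : ℤ) : ℚ) := Int.cast_le.mpr h
        push_cast at this hk; linarith
    have hF0 : ∑ j, Int.fract (σ i j) = 0 := by
      rw [hE1] at hk; simp at hk; exact hk
    have hfr : ∀ j, Int.fract (σ i j) = 0 := fun j =>
      (Finset.sum_eq_zero_iff_of_nonneg fun j _ => Int.fract_nonneg _).mp hF0 j (Finset.mem_univ _)
    have hall : ∀ i' j, Int.fract (σ i' j) = 0 := by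
      intro i' j
      have h := hfr j
      rw [hfract i j, Int.fract_eq_iff] at h
      obtain ⟨-, -, z, hz⟩ := h
      obtain ⟨a, ha⟩ := hint ⟨0, hs⟩ j
      have hm0 : (m j : ℚ) ≠ 0 := by exact_mod_cast (hm j).ne'
      have hd : (m j : ℤ) ∣ (p : ℤ) ^ (i : ℕ) * a := ⟨z, by
        rw [ha, sub_zero] at hz; field_simp at hz; exact_mod_cast hz⟩
      have hc : IsCoprime (m j : ℤ) ((p : ℤ) ^ (i : ℕ)) :=
        (Nat.isCoprime_iff_coprime.mpr (hmp j)).pow_right
      obtain ⟨b, hb⟩ := hc.dvd_of_dvd_mul_left hd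
      rw [hfract i' j, Int.fract_eq_iff]
      refine ⟨le_rfl, one_pos, (p : ℤ) ^ (i' : ℕ) * b, ?_⟩
      rw [ha, hb, sub_zero]; push_cast; field_simp
    have hmem : ∀ j, j ∈ B₀ := by
      intro j
      by_contra hj
      obtain ⟨i', hi'⟩ := (hBmin j hj).1
      have := Int.floor_add_fract (σ i' j)
      rw [hi', hall i' j] at this
      exact hne i' j (by rw [← this]; simp)
    obtain ⟨j, -, hj⟩ : ∃ j ∈ Finset.univ, (0:ℤ) < ⌊σ i j⌋ - (if j ∈ B₀ then 0 else 1) := by
      by_contra! hcon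
      exact absurd hE1 (by rw [Finset.sum_eq_zero fun j hj => le_antisymm (hcon j hj) (hfl i j)]; norm_num)
    have hle := Finset.single_le_sum (fun j _ => hfl i j) (Finset.mem_univ j)
    rw [hE1] at hle
    simp [hmem j] at hj hle
    have h1 : ⌊σ i j⌋ = 1 := le_antisymm hle hj
    have := Int.floor_add_fract (σ i j)
    rw [h1, hfr j] at this
    exact hne i j (by rw [← this]; simp)
  refine ⟨pure, fun i j => ?_⟩
  have hk := key i
  rw [pure i, ← Int.cast_sum] at hk
  have h0 : (∑ j, (⌊σ i j⌋ - (if j ∈ B₀ then 0 else 1))) = 0 := by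
    have : ((∑ j, (⌊σ i j⌋ - (if j ∈ B₀ then 0 else 1)) : ℤ) : ℚ) = 0 := by linarith
    exact_mod_cast this
  have := (Finset.sum_eq_zero_iff_of_nonneg fun j _ => hfl i j).mp h0 j (Finset.mem_univ _)
  omega

end Groth.Agent.S16983
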