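import Groth.Statements.S16986
import Groth.Agent.Lib.QuadGrp.Coord

set_option autoImplicit false
universe u
open CategoryTheory AlgebraicGeometry
open QuadGrp

namespace Groth.Agent.S16986

/-- The truncated polynomial ring `k[T]/(T^3)`. -/
abbrev Cube (k : Type u) [CommRing k] := Polynomial k ⧸ Ideal.span {(Polynomial.X : Polynomial k) ^ 3}

open GrothLib GrothLib.QuadHalfDisc GrothLib.QuadCoord in
/-- In odd rank and with two not a unit the coordinate ring is not formally smooth. -/
theorem not_formallySmooth {R : Type u} [CommRing R] {n : ℕ} (hn : Odd n) (a : Sym2 (Fin n) → R)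
    (hh : IsUnit (hd a)) (h2 : ¬ IsUnit (2 : R)) :
    ¬ Algebra.FormallySmooth R (Coord a false) := by
  intro hF
  obtain ⟨m, hm, hm2⟩ := exists_max_ideal_of_mem_nonunits (mem_nonunits_iff.2 h2)
  obtain ⟨p, hp⟩ := QuadTable.exists_diag_notMem hn a hh m hm2
  let t : (Cube (R ⧸ m)) := Ideal.Quotient.mk _ Polynomial.X
  have ht : t ^ 3 = 0 := by
    rw [← map_pow]
    exact Ideal.Quotient.eq_zero_iff_mem.2 (Ideal.mem_span_singleton_self _)
  have h20 : (2 : (Cube (R ⧸ m))) = 0 := by
    have : algebraMap R (Cube (R ⧸ m)) (2 : R) = 0 := by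
      rw [IsScalarTower.algebraMap_apply R (R ⧸ m) (Cube (R ⧸ m)), Ideal.Quotient.algebraMap_eq,
        Ideal.Quotient.eq_zero_iff_mem.2 hm2, map_zero]
    rwa [map_ofNat] at this
  have hne : t ^ 2 *
      (Matrix.adjugate (polarMat fun q => algebraMap R (Cube (R ⧸ m)) (a q)) p p ^ 2 *
        hd fun q => algebraMap R (Cube (R ⧸ m)) (a q)) ≠ 0 := by
    rw [← map_hd, ← QuadTable.polarMat_map, ← RingHom.mapMatrix_apply, ← RingHom.map_adjugate,
      RingHom.mapMatrix_apply, Matrix.map_apply, ← map_pow (algebraMap R _), ← map_mul (algebraMap R _)]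
    intro h
    change Ideal.Quotient.mk _ Polynomial.X ^ 2 *
      Ideal.Quotient.mk _ (Polynomial.C (Ideal.Quotient.mk m (_ * hd a))) = 0 at h
    rw [← map_pow, ← map_mul, Ideal.Quotient.eq_zero_iff_mem, Ideal.mem_span_singleton,
      Polynomial.X_pow_dvd_iff] at h
    have h' := h 2 (by norm_num)
    rw [mul_comm, Polynomial.coeff_C_mul_X_pow, if_pos rfl, Ideal.Quotient.eq_zero_iff_mem] at h'
    exact hp (hm.isPrime.mem_of_pow_mem 2 ((Ideal.mul_unit_mem_iff_mem m hh).1 h'))
  obtain ⟨g, hg, hga, hlift⟩ :=
    QuadTable.obstruction hn (fun q => algebraMap R (Cube (R ⧸ m)) (a q)) h20 t ht p hne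
  have hI : (Ideal.span {t ^ 2}) ^ 2 = ⊥ := by
    rw [Ideal.span_singleton_pow, Ideal.span_singleton_eq_bot,
      show (t ^ 2) ^ 2 = t ^ 3 * t by ring, ht, zero_mul]
  obtain ⟨G', hG', hGI⟩ := exists_lift (a := a) (s := false) (Ideal.span {t ^ 2}) hI g
    { isUnit_det := by
        rw [← RingHom.mapMatrix_apply, ← RingHom.map_det]
        exact hg.map _
      table := funext fun q => by
        have := Ideal.Quotient.eq.2 (hga q)
        rw [map_transform] at this
        exact this
      det_one := fun h => absurd h Bool.false_ne_true }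
  exact hlift G' hGI hG'.table

/-- Let Q be a quadratic form on R^n, n ≥ 1, over a commutative ring R, non-degenerate in the sense that
its polar form is a perfect pairing when n is even and its half-discriminant (in the standard basis)
is a unit when n is odd, and let G be a group scheme over Spec R which is the orthogonal group of Q
(its A-valued points are the isometries of the base change Q_A, naturally in the R-algebra A). Then
G is smooth over Spec R if and only if n is even or 2 is a unit in R. (The published statement is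
for a line-bundle-valued form on a vector bundle over an arbitrary scheme; the case of a free module
over an affine base with trivialised values is stated.) -/
theorem result (R : Type u) [CommRing R] (n : ℕ) (hn : 1 ≤ n)
    (Q : QuadraticForm R (Fin n → R))
    (hQ : QuadGrp.IsNondeg (Pi.basisFun R (Fin n)) (LinearEquiv.refl R R) Q)
    (G : Over (Spec (CommRingCat.of R))) [GrpObj G] (D : QuadGrp.OrthRep Q G) :
    AlgebraicGeometry.Smooth G.hom ↔ (Even n ∨ IsUnit (2 : R)) := by
  rw [GrothLib.QuadCoord.smooth_hom_iff (a := GrothLib.QuadCoord.table Q) (s := false) _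
    (fun A _ _ g => GrothLib.QuadCoord.mem_orth_iff_isPoint Q g) G D]
  constructor
  · intro hF
    by_contra h
    rw [not_or, Nat.not_even_iff_odd] at h
    exact not_formallySmooth h.1 _ (hQ.2 h.1) h.2 hF
  · intro h
    have hP : IsUnit (GrothLib.QuadHalfDisc.polarMat (GrothLib.QuadCoord.table Q)).det := by
      rcases Nat.even_or_odd n with he | ho
      · exact GrothLib.QuadCoord.isUnit_det_polarMat Q (hQ.1 he)
      · have h2 := h.resolve_left (Nat.not_even_iff_odd.2 ho)
        rw [← GrothLib.QuadHalfDisc.two_mul_hd ho]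
        exact h2.mul (hQ.2 ho)
    exact GrothLib.QuadCoord.formallySmooth fun B _ _ I hI G' hG =>
      GrothLib.QuadCoord.lift_of_isUnit_det I hI hG hP (fun e => absurd e Bool.false_ne_true)

end Groth.Agent.S16986
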