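import Groth.Statements.S16988
import Groth.Agent.Lib.Cliff28.EvenGlobal

set_option autoImplicit false
universe u v
open QuadGrp

namespace Groth.Agent.S16988

/-- For a quadratic form Q on a finite free module of even rank 2m ≥ 2 over a commutative ring whose
polar form is a perfect pairing, every isometry satisfying the Dickson condition (the induced
automorphism of the Clifford algebra fixes the centre of the even part pointwise) has determinant
one. -/
theorem result {R : Type u} [CommRing R] {M : Type v} [AddCommGroup M] [Module R M] [Module.Free R M] [Module.Finite R M]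
    (m : ℕ) (hm : 1 ≤ m) (hM : Module.finrank R M = 2 * m) (Q : QuadraticForm R M) (hQ : QuadGrp.IsRegular Q) :
    QuadGrp.SOeven Q ≤ QuadGrp.SO' Q := by
  rintro g ⟨hg, hD⟩
  exact ⟨hg, MonoidHom.mem_ker.mpr (Units.ext
    ((LinearEquiv.coe_det g).trans (GrothLib.Cliff28.det_eq_one_of_dickson hQ hm hM hg hD)))⟩

end Groth.Agent.S16988
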