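import Groth.Statements.S16989
import Groth.Agent.Lib.Cliff28.EvenGlobal

set_option autoImplicit false
universe u v
open QuadGrp

namespace Groth.Agent.S16989

/-- Over a commutative ring with connected prime spectrum, for a quadratic form Q on a finite free
module of even rank 2m ≥ 2 whose polar form is a perfect pairing, an isometry of Q which does not
satisfy the Dickson condition has determinant −1. (The published statement is the identity of
homomorphisms to μ₂ expressing the determinant on the orthogonal group as the composite of the
Dickson invariant with the map from the constant group ℤ/2 sending 1 to −1. Over a disconnected base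
an isometry may satisfy the Dickson condition on one component only, so connectedness of the base is
needed for this points-level form.) -/
theorem result {R : Type u} [CommRing R] (hc : ConnectedSpace (PrimeSpectrum R))
    {M : Type v} [AddCommGroup M] [Module R M] [Module.Free R M] [Module.Finite R M]
    (m : ℕ) (hm : 1 ≤ m) (hM : Module.finrank R M = 2 * m) (Q : QuadraticForm R M) (hQ : QuadGrp.IsRegular Q)
    (g : M ≃ₗ[R] M) (hg : g ∈ QuadGrp.O Q) (hD : ¬ QuadGrp.IsDicksonTrivial Q g hg) :
    LinearEquiv.det g = -1 := by
  rcases isClopen_iff.mp (GrothLib.Cliff28.isClopen_dicksonLocus hQ hm hM hg) with h | h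
  · refine Units.ext ?_
    rw [LinearEquiv.coe_det, Units.val_neg, Units.val_one]
    refine GrothLib.Cliff28.eq_of_localizations fun P _ => ?_
    rcases GrothLib.Cliff28.mem_dicksonLocus_cases hQ hm hM hg ⟨P, inferInstance⟩ with h' | h'
    · exact absurd h'.1 (by rw [h]; exact Set.notMem_empty _)
    · rw [h'.2, map_neg, map_one]
  · exact absurd (GrothLib.Cliff28.isDicksonTrivial_of_forall hg fun P => by rw [h]; trivial) hD

end Groth.Agent.S16989
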