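import Groth.Statements.S1699
import Groth.Agent.Lib.WeakAss.Structure
import Groth.Agent.Lib.BlowUp.WeakAss

set_option autoImplicit false
universe u
open CategoryTheory CategoryTheory.Limits AlgebraicGeometry TopologicalSpace
open SDiv

namespace Groth.Agent.S1699

/-- (1) if and only if (3): let X be a locally Noetherian scheme and U an open subscheme. Then U is
scheme-theoretically dense in X if and only if U contains every associated point of X (every point
whose local ring has its maximal ideal as an associated prime). -/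
theorem result (X : Scheme.{u}) [IsLocallyNoetherian X] (U : X.Opens) :
    CInt.IsSchematicallyDense U ↔ ∀ x : ↥X, IsAssociatedPrime (IsLocalRing.maximalIdeal ↑(X.presheaf.stalk x)) ↑(X.presheaf.stalk x) → x ∈ U := by
  constructor
  · intro h x hx
    by_contra hxU
    obtain ⟨_, ⟨V, hV, rfl⟩, hxV, -⟩ :=
      X.isBasis_affineOpens.exists_subset_of_mem_open (Set.mem_univ x) isOpen_univ
    obtain ⟨-, m, hm⟩ := isAssociatedPrime_iff.mp hx
    obtain ⟨W₀, hxW₀, s, rfl⟩ := X.presheaf.exists_germ_eq m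
    obtain ⟨W, hxW, hWle⟩ := GrothLib.WeakAss.exists_affine_le (W := W₀ ⊓ V) (x := x) ⟨hxW₀, hxV⟩
    set z : Γ(X, W.1) := X.presheaf.map (homOfLE (hWle.trans inf_le_left)).op s with hzdef
    have hgz : X.presheaf.germ W.1 x hxW z = X.presheaf.germ W₀ x hxW₀ s :=
      TopCat.Presheaf.germ_res_apply X.presheaf _ x hxW s
    rw [← hgz] at hm
    have hmem : ∀ r, r ∈ IsLocalRing.maximalIdeal (X.presheaf.stalk x) ↔
        r * X.presheaf.germ W.1 x hxW z = 0 := fun r => by
      rw [hm, Submodule.mem_colon_singleton, smul_eq_mul, Submodule.mem_bot]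
    have : IsNoetherianRing Γ(X, W.1) := IsLocallyNoetherian.component_noetherian W
    obtain ⟨S, hS⟩ := IsNoetherian.noetherian (GrothLib.WeakAss.primeAt x hxW)
    have hker : ∀ a : Γ(X, W.1), a ∈ GrothLib.WeakAss.primeAt x hxW →
        ∃ c ∉ GrothLib.WeakAss.primeAt x hxW, c * (a * z) = 0 := by
      intro a ha
      refine (GrothLib.WeakAss.germ_eq_zero_iff W.2 hxW (GrothLib.WeakAss.toModSec (a * z))).mp ?_
      refine (GrothLib.BlowUp.germ_toUnit_eq_zero_iff hxW (a * z)).mpr ?_
      rw [map_mul]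
      exact (hmem _).mp ha
    choose! c hc hcz using hker
    set c₀ : Γ(X, W.1) := ∏ a ∈ S, c a
    have hc₀ : c₀ ∉ GrothLib.WeakAss.primeAt x hxW := by
      rw [Ideal.IsPrime.prod_mem_iff]
      rintro ⟨a, ha, hca⟩
      exact hc a (hS ▸ Ideal.subset_span ha) hca
    have hp : ∀ a ∈ GrothLib.WeakAss.primeAt x hxW, a * (c₀ * z) = 0 := by
      intro a ha
      rw [← hS] at ha
      refine Submodule.span_induction ?_ (zero_mul _) ?_ ?_ ha
      · intro a haS
        obtain ⟨d, hd⟩ := Finset.dvd_prod_of_mem c (SetLike.mem_coe.1 haS)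
        calc a * (c₀ * z) = d * (c a * (a * z)) := by simp only [c₀, hd]; ring
          _ = 0 := by rw [hcz a (hS ▸ Ideal.subset_span haS), mul_zero]
      · intro a b _ _ ha hb
        rw [add_mul, ha, hb, add_zero]
      · intro r a _ ha
        rw [smul_eq_mul, mul_assoc, ha, mul_zero]
    have hne : X.presheaf.germ W.1 x hxW (c₀ * z) ≠ 0 := by
      intro h0
      have hu : IsUnit (X.presheaf.germ W.1 x hxW c₀) :=
        (Scheme.mem_basicOpen _ c₀ x hxW).mp (GrothLib.WeakAss.notMem_primeAt_iff.mp hc₀)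
      rw [map_mul, hu.mul_right_eq_zero] at h0
      exact (Ideal.ne_top_iff_one _).mp (IsLocalRing.maximalIdeal.isMaximal _).ne_top
        ((hmem 1).mpr (by rw [h0, mul_zero]))
    refine hne ?_
    have hres : X.presheaf.map (homOfLE (inf_le_left : W.1 ⊓ U ≤ W.1)).op (c₀ * z) = 0 := by
      refine TopCat.Presheaf.section_ext X.sheaf (W.1 ⊓ U) _ 0 fun y hy => ?_
      show X.presheaf.germ (W.1 ⊓ U) y hy _ = X.presheaf.germ (W.1 ⊓ U) y hy 0
      rw [map_zero, TopCat.Presheaf.germ_res_apply]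
      obtain ⟨a, ha, hay⟩ : ∃ a ∈ GrothLib.WeakAss.primeAt x hxW,
          a ∉ GrothLib.WeakAss.primeAt y hy.1 := by
        by_contra hall
        push Not at hall
        obtain ⟨P, rfl⟩ := W.2.range_fromSpec.ge hxW
        obtain ⟨Q, rfl⟩ := W.2.range_fromSpec.ge hy.1
        simp only [GrothLib.WeakAss.primeAt_fromSpec W.2] at hall
        have hspec : P ⤳ Q := (PrimeSpectrum.le_iff_specializes P Q).mp hall
        exact hxU ((hspec.map W.2.fromSpec.continuous).mem_open U.2 hy.2)
      have hu : IsUnit (X.presheaf.germ W.1 y hy.1 a) :=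
        (Scheme.mem_basicOpen _ a y hy.1).mp (GrothLib.WeakAss.notMem_primeAt_iff.mp hay)
      refine hu.mul_right_eq_zero.mp ?_
      rw [← map_mul, hp a ha, map_zero]
    rw [h W.1 (hres.trans (map_zero _).symm), map_zero]
  · intro h V
    rw [injective_iff_map_eq_zero]
    intro s hs
    refine GrothLib.WeakAss.eq_zero_of_germ (GrothLib.WeakAss.toModSec s) fun x hx hw => ?_
    refine (GrothLib.BlowUp.germ_toUnit_eq_zero_iff hx s).mpr ?_
    have hxU : x ∈ U := by
      refine h x ?_
      obtain ⟨m, hm⟩ := hw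
      obtain ⟨W, hxW, t, rfl⟩ := TopCat.Presheaf.exists_germ_eq (Coh.structureModule X).presheaf m
      refine ⟨Ideal.IsMaximal.isPrime inferInstance, X.presheaf.germ W x hxW t, ?_⟩
      refine hm.symm.trans ?_
      congr 1
      ext r
      obtain ⟨W', hxW', r, rfl⟩ := X.presheaf.exists_germ_eq r
      rw [LinearMap.mem_ker, Submodule.mem_colon_singleton, Submodule.mem_bot,
        LinearMap.toSpanSingleton_apply, smul_eq_mul]
      rw [← TopCat.Presheaf.germ_res_apply X.presheaf (homOfLE (inf_le_left : W' ⊓ W ≤ W')) x ⟨hxW', hxW⟩ r]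
      erw [← TopCat.Presheaf.germ_res_apply X.presheaf (homOfLE (inf_le_right : W' ⊓ W ≤ W)) x ⟨hxW', hxW⟩ t,
        ← TopCat.Presheaf.germ_res_apply (Coh.structureModule X).presheaf (homOfLE (inf_le_right : W' ⊓ W ≤ W)) x ⟨hxW', hxW⟩ t,
        ← map_mul, ← GrothLib.WeakAss.germ_smul]
      exact GrothLib.BlowUp.germ_toUnit_eq_zero_iff _ _
    rw [← TopCat.Presheaf.germ_res_apply X.presheaf (homOfLE (inf_le_left : V ⊓ U ≤ V)) x ⟨hx, hxU⟩ s, hs, map_zero]

end Groth.Agent.S1699
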