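import Groth.Statements.S16990
import Groth.Agent.Lib.Cliff28.EvenGlobal

set_option autoImplicit false
universe u v
open QuadGrp

namespace Groth.Agent.S16990

/-- Comparison with SO′: over a commutative ring in which 2 is invertible, for a quadratic form Q on a
finite free module of even rank 2m ≥ 2 whose polar form is a perfect pairing, the isometries
satisfying the Dickson condition are exactly the isometries of determinant one. -/
theorem result {R : Type u} [CommRing R] [Invertible (2 : R)]
    {M : Type v} [AddCommGroup M] [Module R M] [Module.Free R M] [Module.Finite R M]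
    (m : ℕ) (hm : 1 ≤ m) (hM : Module.finrank R M = 2 * m) (Q : QuadraticForm R M) (hQ : QuadGrp.IsRegular Q) :
    QuadGrp.SOeven Q = QuadGrp.SO' Q := by
  refine le_antisymm ?_ ?_
  · rintro g ⟨hg, hD⟩
    exact ⟨hg, MonoidHom.mem_ker.mpr (Units.ext
      ((LinearEquiv.coe_det g).trans (GrothLib.Cliff28.det_eq_one_of_dickson hQ hm hM hg hD)))⟩
  · rintro g ⟨hg, hdet⟩
    refine ⟨hg, GrothLib.Cliff28.isDicksonTrivial_of_forall hg fun P => ?_⟩
    rcases GrothLib.Cliff28.mem_dicksonLocus_cases hQ hm hM hg P with h | h
    · exact h.1
    · exfalso
      have hd : LinearMap.det g.toLinearMap = 1 :=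
        (LinearEquiv.coe_det g).symm.trans (congrArg Units.val (MonoidHom.mem_ker.mp hdet))
      have h2 := h.2
      rw [hd, map_one] at h2
      have h3 : (2 : Localization.AtPrime P.asIdeal) = 0 := by linear_combination h2
      have h4 : IsUnit (2 : Localization.AtPrime P.asIdeal) := by
        simpa [map_ofNat] using (isUnit_of_invertible (2 : R)).map
          (algebraMap R (Localization.AtPrime P.asIdeal))
      exact h4.ne_zero h3

end Groth.Agent.S16990
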