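import Groth.Statements.S1700
import Groth.Agent.Lib.BlowUp.UFD
import Groth.Agent.Lib.BlowUp.Universal

set_option autoImplicit false
universe u
open CategoryTheory CategoryTheory.Limits AlgebraicGeometry TopologicalSpace
open SDiv

namespace Groth.Agent.S1700

/-- Let X be a Noetherian scheme and 𝓘 a quasi-coherent ideal sheaf with closed subscheme Z such that
(1) Z has no embedded points: every point of Z whose local ring has its maximal ideal associated is
a maximal point of Z; (2) every maximal point of Z has codimension 1 in X (the local ring of X there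
has dimension 1); (3) the local ring of X at every point of Z is a unique factorisation domain. Then
𝓘 is the ideal sheaf of an effective Cartier divisor. -/
theorem result (X : Scheme.{u}) [IsNoetherian X] (𝓘 : X.IdealSheafData)
    (h1 : ∀ z : ↥𝓘.subscheme, IsAssociatedPrime (IsLocalRing.maximalIdeal ↑(𝓘.subscheme.presheaf.stalk z)) ↑(𝓘.subscheme.presheaf.stalk z) → ∀ z' : ↥𝓘.subscheme, z' ⤳ z → z' = z)
    (h2 : ∀ z : ↥𝓘.subscheme, (∀ z' : ↥𝓘.subscheme, z' ⤳ z → z' = z) →
      ringKrullDim (X.presheaf.stalk (𝓘.subschemeι z)) = 1)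
    (h3 : ∀ x : ↥X, x ∈ 𝓘.support → IsDomain (X.presheaf.stalk x) ∧ UniqueFactorizationMonoid (X.presheaf.stalk x)) :
    BlowUp.IsEffCartierIdeal 𝓘 := by
  refine GrothLib.BlowUp.isEffCartierIdeal_of_forall_exists_open fun x => ?_
  by_cases hx : x ∈ 𝓘.support
  · obtain ⟨hd, hu⟩ := h3 x hx
    obtain ⟨U, hxU, hU⟩ := GrothLib.BlowUp.exists_cartierOn_of_ufd 𝓘 (fun z hz =>
      h2 z (h1 z (GrothLib.BlowUp.isAssociatedPrime_of_isWeakAssPoint hz))) x
    refine ⟨U.1, hxU, fun y => ?_⟩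
    obtain ⟨W, hyW, -⟩ := GrothLib.BlowUp.exists_affine_mem_le (W := (⊤ : U.1.toScheme.Opens)) (x := y) trivial
    have hWU : U.1.ι ''ᵁ W.1 ≤ U.1 := (U.1.ι.image_le_opensRange W.1).trans U.1.opensRange_ι.le
    obtain ⟨f, hf, e⟩ := hU.mono (V := ⟨_, W.2.image_of_isOpenImmersion U.1.ι⟩) hWU
    refine ⟨W, hyW, (U.1.ι.appIso W.1).hom f, GrothLib.BlowUp.mem_nonZeroDivisors_of_flat _
      (RingHom.Flat.of_bijective (ConcreteCategory.bijective_of_isIso (U.1.ι.appIso W.1).hom)) hf, ?_⟩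
    rw [GrothLib.BlowUp.ideal_comap_eq_map 𝓘 U.1.ι ⟨_, W.2.image_of_isOpenImmersion U.1.ι⟩ W
      (U.1.ι.preimage_image_eq W.1).ge, e, Ideal.map_span, Set.image_singleton, Scheme.Hom.appIso_hom']
  · exact ⟨𝓘.support.compl, hx, GrothLib.BlowUp.isEffCartierIdeal_comap_ι_compl_support 𝓘⟩

end Groth.Agent.S1700
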