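import Groth.Statements.S17000
import Groth.Agent.Lib.Cliff28.Naive

set_option autoImplicit false
open CategoryTheory AlgebraicGeometry
open QuadGrp

namespace Groth.Agent.S17000

/-- For m ≥ 1, a group scheme over Spec ℤ which is the naive special orthogonal group (kernel of the
determinant on the orthogonal group) of the standard split quadratic form in 2m variables is a
reduced scheme and is not flat over ℤ. (The published statement also identifies the complement of
the Dickson special orthogonal group inside it with the non-identity component of the orthogonal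
group in characteristic 2.) -/
theorem result (m : ℕ) (hm : 1 ≤ m)
    (G : Over (Spec (CommRingCat.of ℤ))) [GrpObj G] (D : QuadGrp.SOrth'Rep (QuadGrp.splitForm ℤ (2 * m)) G) :
    AlgebraicGeometry.IsReduced G.left ∧ ¬ AlgebraicGeometry.Flat G.hom := by
  obtain ⟨u, hu, hw⟩ := GrothLib.Cliff28.exists_iso_spec_coord _
    (fun A _ _ g => GrothLib.QuadCoord.mem_sorth'_iff_isPoint (QuadGrp.splitForm ℤ (2 * m)) g) G D
  have hP := GrothLib.Cliff28.isUnit_det_table_splitForm ℤ m
  refine ⟨?_, fun hflat => GrothLib.Cliff28.not_flat_coord_true hm ?_⟩
  · haveI : _root_.IsReduced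
        (GrothLib.QuadCoord.Coord (GrothLib.QuadCoord.table (QuadGrp.splitForm ℤ (2 * m))) true) :=
      GrothLib.Cliff28.isReduced_coord_true hP
        ((Ideal.span_singleton_prime (by norm_num)).mpr (Int.prime_iff_natAbs_prime.mpr Nat.prime_two : Prime (2 : ℤ))).isRadical
    exact AlgebraicGeometry.isReduced_of_isOpenImmersion (CategoryTheory.inv u)
  · have h : AlgebraicGeometry.Flat (u ≫ G.hom) := inferInstance
    rw [hw, AlgebraicGeometry.HasRingHomProperty.Spec_iff (P := @AlgebraicGeometry.Flat),
      CommRingCat.hom_ofHom, RingHom.flat_algebraMap_iff] at h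
    exact h

end Groth.Agent.S17000
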