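import Groth.Statements.S17011
import Groth.Agent.Lib.Cliff28.PinLift

set_option autoImplicit false
universe u
open CategoryTheory AlgebraicGeometry
open QuadGrp

namespace Groth.Agent.S17011

/-- Let Q be a quadratic form on R^{2m+1} over a commutative ring R whose half-discriminant in the
standard basis is a unit, and let G be a group scheme over Spec R which is the Clifford group of Q
(its A-valued points are the locally homogeneous units of the Clifford algebra of Q_A normalising
the module, naturally in A). Then G is smooth over Spec R. -/
theorem result (R : Type u) [CommRing R] (m : ℕ)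
    (Q : QuadraticForm R (Fin (2 * m + 1) → R))
    (hQ : QuadGrp.IsSemiregular (Pi.basisFun R (Fin (2 * m + 1))) (LinearEquiv.refl R R) Q)
    (G : Over (Spec (CommRingCat.of R))) [GrpObj G] (D : QuadGrp.GPinRep Q G) :
    AlgebraicGeometry.Smooth G.hom := by
  exact (GrothLib.Cliff28.smooth_isAffineHom_of_lift Q false (fun A _ _ => QuadGrp.gpin Q A)
    (fun A _ _ u => GrothLib.Cliff28.mem_gpin_iff u)
    (fun B _ _ I hI u₀ hu₀ => GrothLib.Cliff28.exists_gpin_lift_odd hQ hI u₀ hu₀) G D).1

end Groth.Agent.S17011
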