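import Groth.Statements.S17015
import Groth.Agent.Lib.Cliff28.SemiField

set_option autoImplicit false
universe u v
open QuadGrp

namespace Groth.Agent.S17015

/-- For a quadratic form Q on a free module with a basis b indexed by Fin (2m+1) over a commutative ring
R, the half-discriminant of Q relative to b is a unit if and only if for every prime ideal p of R
the base change of Q to the residue field of p is nondegenerate (zero quadratic radical and polar
kernel of dimension at most one — over a field this is the fibrewise non-degeneracy of the source:
smooth projective quadric, defect one with non-zero restriction in characteristic two). -/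
theorem result {R : Type u} [CommRing R]
    {M : Type v} [AddCommGroup M] [Module R M] [Module.Free R M]
    (m : ℕ) (b : Module.Basis (Fin (2 * m + 1)) R M) (Q : QuadraticForm R M) :
    IsUnit (QuadGrp.halfDisc b (LinearEquiv.refl R R) Q) ↔
      ∀ (p : Ideal R) [p.IsPrime], QuadraticMap.Nondegenerate (Q := QuadGrp.baseChangeForm p.ResidueField Q) := by
  exact GrothLib.Cliff28.isUnit_halfDisc_iff m b Q

end Groth.Agent.S17015
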