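import Groth.Statements.S17016
import Mathlib

set_option autoImplicit false
universe u
open QuadGrp

namespace Groth.Agent.S17016

/-- For the standard split quadratic form Σ x_{2i} x_{2i+1} on R^{2m} over any commutative ring R, with
standard basis vectors e_j in the Clifford algebra, the product w of the elements 1 − 2 e_{2i}
e_{2i+1} (i < m, which pairwise commute) satisfies w² = 1 and anticommutes with every e_j. (Hence w
is central in the even Clifford algebra; over rings in which 2 is invertible (1 − w)/2 is the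
non-trivial central idempotent of the even part.) -/
theorem result (R : Type u) [CommRing R] (m : ℕ) :
    let Q := QuadGrp.splitForm R (m * 2)
    let e : Fin (m * 2) → CliffordAlgebra Q := fun j => CliffordAlgebra.ι Q (Pi.single j 1)
    let w : CliffordAlgebra Q :=
      ((List.finRange m).map fun i => 1 - 2 * (e (finProdFinEquiv (i, 0)) * e (finProdFinEquiv (i, 1)))).prod
    w * w = 1 ∧ ∀ j : Fin (m * 2), e j * w = -(w * e j) := by
  intro Q e w
  classical
  have hsplit : ∀ x : Fin (m * 2) → R, Q x = ∑ i : Fin (m * 2 / 2),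
      x ⟨2 * i + (m * 2) % 2, by omega⟩ * x ⟨2 * i + 1 + (m * 2) % 2, by omega⟩ := by
    intro x
    simp [Q, QuadGrp.splitForm, QuadraticMap.linMulLin_apply]
  have hpolar : ∀ a b : Fin (m * 2), ¬ (a.val / 2 = b.val / 2 ∧ a ≠ b) →
      QuadraticMap.polar Q (Pi.single a 1) (Pi.single b 1) = 0 := by
    intro a b hab
    simp only [QuadraticMap.polar, hsplit, Pi.add_apply, ← Finset.sum_sub_distrib]
    refine Finset.sum_eq_zero fun i _ => ?_
    simp only [Pi.single_apply, Fin.ext_iff]
    simp only [ne_eq, Fin.ext_iff] at hab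
    split_ifs <;> first | (exfalso; omega) | ring
  have hQ0 : ∀ a, Q (Pi.single a 1) = 0 := fun a => by
    rw [hsplit]
    refine Finset.sum_eq_zero fun i _ => ?_
    simp only [Pi.single_apply, Fin.ext_iff]
    split_ifs <;> first | (exfalso; omega) | ring
  set E : Fin m → Fin 2 → CliffordAlgebra Q := fun i k => e (finProdFinEquiv (i, k)) with hE
  have hval : ∀ (i : Fin m) (k : Fin 2), (finProdFinEquiv (i, k) : Fin (m * 2)).val = k.val + 2 * i.val :=
    fun i k => rfl
  have hpair : ∀ i : Fin m, E i 0 * E i 1 + E i 1 * E i 0 = 1 := by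
    intro i
    simp only [hE, e]
    rw [CliffordAlgebra.ι_mul_ι_add_swap]
    convert map_one (algebraMap R (CliffordAlgebra Q)) using 2
    simp only [QuadraticMap.polar, hsplit, Pi.add_apply, ← Finset.sum_sub_distrib]
    rw [Finset.sum_eq_single (⟨i.val, by omega⟩ : Fin (m * 2 / 2))]
    · simp only [Pi.single_apply, Fin.ext_iff, hval]
      simp only [Fin.val_zero, Fin.val_one]
      split_ifs <;> first | (exfalso; omega) | ring
    · intro l _ hl
      have hl' : l.val ≠ i.val := fun h => hl (Fin.ext h)
      simp only [Pi.single_apply, Fin.ext_iff, hval]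
      simp only [Fin.val_zero, Fin.val_one]
      split_ifs <;> first | (exfalso; omega) | ring
    · simp
  have hsq : ∀ a, e a * e a = 0 := fun a => by
    simp only [e, CliffordAlgebra.ι_sq_scalar, hQ0, map_zero]
  have hcomm : ∀ (i l : Fin m) (k : Fin 2), i ≠ l →
      Commute (E l k) (1 - 2 * (E i 0 * E i 1)) := by
    intro i l k hil
    have hanti : ∀ k' : Fin 2, E l k * E i k' = -(E i k' * E l k) := fun k' => by
      simp only [hE, e]
      rw [eq_neg_iff_add_eq_zero, CliffordAlgebra.ι_mul_ι_add_swap, hpolar, map_zero]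
      rintro ⟨h1, -⟩
      rw [hval, hval] at h1
      have : i.val ≠ l.val := Fin.val_ne_of_ne hil
      omega
    have hp : Commute (E l k) (E i 0 * E i 1) := by
      rw [Commute, SemiconjBy, ← mul_assoc, hanti 0, neg_mul, mul_assoc, hanti 1, mul_neg, neg_neg, mul_assoc]
    exact (Commute.one_right _).sub_right ((Commute.ofNat_right _ 2).mul_right hp)
  set g : Fin m → CliffordAlgebra Q := fun i => 1 - 2 * (E i 0 * E i 1) with hg
  have hp2 : ∀ i, E i 0 * E i 1 * (E i 0 * E i 1) = E i 0 * E i 1 := fun i => by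
    have h1 : E i 1 * E i 0 = 1 - E i 0 * E i 1 := eq_sub_of_add_eq' (hpair i)
    have h0 : E i 0 * E i 0 = 0 := hsq _
    calc E i 0 * E i 1 * (E i 0 * E i 1) = E i 0 * (E i 1 * E i 0) * E i 1 := by noncomm_ring
      _ = E i 0 * E i 1 - E i 0 * E i 0 * (E i 1 * E i 1) := by rw [h1]; noncomm_ring
      _ = _ := by rw [h0, zero_mul, sub_zero]
  have hg2 : ∀ i, g i * g i = 1 := fun i => by
    calc g i * g i = 1 - 4 * (E i 0 * E i 1) + 4 * (E i 0 * E i 1 * (E i 0 * E i 1)) := by
          simp only [hg]; noncomm_ring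
      _ = 1 := by rw [hp2]; noncomm_ring
  have hga : ∀ (i : Fin m) (k : Fin 2), E i k * g i = -(g i * E i k) := by
    intro i k
    have h00 : E i 0 * E i 0 = 0 := hsq _
    have h11 : E i 1 * E i 1 = 0 := hsq _
    have h1 : E i 1 * E i 0 = 1 - E i 0 * E i 1 := eq_sub_of_add_eq' (hpair i)
    fin_cases k
    · calc E i 0 * g i = E i 0 - 2 * (E i 0 * E i 0 * E i 1) := by simp only [hg]; noncomm_ring
        _ = -(E i 0 - 2 * (E i 0 * (E i 1 * E i 0))) := by
          rw [h1, mul_sub, ← mul_assoc (E i 0) (E i 0), h00, zero_mul]; noncomm_ring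
        _ = _ := by simp only [hg]; noncomm_ring
    · calc E i 1 * g i = E i 1 - 2 * (E i 1 * E i 0 * E i 1) := by simp only [hg]; noncomm_ring
        _ = -(E i 1 - 2 * (E i 0 * (E i 1 * E i 1))) := by
          rw [h1, h11, sub_mul, mul_assoc, h11]; noncomm_ring
        _ = _ := by simp only [hg]; noncomm_ring
  have hgc : ∀ i l, i ≠ l → Commute (g i) (g l) := fun i l hil =>
    (Commute.one_left _).sub_left
      ((Commute.ofNat_left 2 _).mul_left ((hcomm l i 0 hil.symm).mul_left (hcomm l i 1 hil.symm)))
  have key : ∀ L : List (Fin m), L.Nodup →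
      (L.map g).prod * (L.map g).prod = 1 ∧ ∀ (l : Fin m) (k : Fin 2),
        E l k * (L.map g).prod = if l ∈ L then -((L.map g).prod * E l k) else (L.map g).prod * E l k := by
    intro L hL
    induction L with
    | nil => simp
    | cons a L ih =>
      obtain ⟨ha, hL⟩ := List.nodup_cons.1 hL
      obtain ⟨ih1, ih2⟩ := ih hL
      have hac : Commute (g a) (L.map g).prod := Commute.list_prod_right _ _ fun x hx => by
        obtain ⟨l, hl, rfl⟩ := List.mem_map.1 hx
        exact hgc a l fun h => ha (h ▸ hl)
      refine ⟨?_, fun l k => ?_⟩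
      · rw [List.map_cons, List.prod_cons, mul_assoc, ← mul_assoc ((L.map g).prod), ← hac.eq,
          mul_assoc (g a), ih1, mul_one, hg2]
      · rw [List.map_cons, List.prod_cons, ← mul_assoc]
        by_cases hl : l = a
        · subst hl
          rw [if_pos List.mem_cons_self, hga, neg_mul, mul_assoc, ih2, if_neg ha, ← mul_assoc]
        · rw [(hcomm a l k (Ne.symm hl)).eq, mul_assoc, ih2]
          simp only [List.mem_cons, hl, false_or]
          split_ifs <;> (simp only [hg]; noncomm_ring)
  obtain ⟨h1, h2⟩ := key (List.finRange m) (List.nodup_finRange m)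
  refine ⟨h1, fun j => ?_⟩
  obtain ⟨⟨l, k⟩, rfl⟩ := finProdFinEquiv.surjective j
  have := h2 l k
  rwa [if_pos (List.mem_finRange l)] at this

end Groth.Agent.S17016
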