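import Groth.Statements.S17018
import Mathlib
import Groth.Agent.Lib.DeformIso.Basic

set_option backward.isDefEq.respectTransparency false
set_option backward.isDefEq.respectTransparency.types false

set_option autoImplicit false
universe u
open CategoryTheory CategoryTheory.Limits AlgebraicGeometry
open scoped TensorProduct
open Models

namespace Groth.Agent.S17018

/-- Let R be a discrete valuation ring with algebraically closed residue field and f : X → Spec R a
proper flat morphism whose generic fibre (base change to the fraction field of R) is smooth of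
relative dimension 1 and connected and whose special fibre (base change to the residue field) is
connected and reduced; let ξ be the generic point of an irreducible component of the special fibre
and B a discrete valuation ring given with an isomorphism from the local ring of X at ξ under which
R → B is the map induced by f. Then the maximal ideal of B is the extension of the maximal ideal of
R: a uniformizer of R maps to a uniformizer of B. (The published setting takes everything
essentially of finite type over a field of characteristic zero; the printed argument does not use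
this and it is not imposed here.) -/
theorem result
    (R : Type u) [CommRing R] [IsDomain R] [IsDiscreteValuationRing R]
    [IsAlgClosed (IsLocalRing.ResidueField R)]
    (X : Scheme.{u}) (f : X ⟶ Spec (CommRingCat.of R)) [IsProper f] [Flat f]
    (XK : Scheme.{u}) (gK : XK ⟶ X) (fK : XK ⟶ Spec (CommRingCat.of (FractionRing R)))
    (hK : IsPullback gK fK f (Spec.map (CommRingCat.ofHom (algebraMap R (FractionRing R)))))
    [SmoothOfRelativeDimension 1 fK] [ConnectedSpace XK]
    (Xs : Scheme.{u}) (gs : Xs ⟶ X) (fs : Xs ⟶ Spec (CommRingCat.of (IsLocalRing.ResidueField R)))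
    (hs : IsPullback gs fs f (Spec.map (CommRingCat.ofHom (IsLocalRing.residue R))))
    [ConnectedSpace Xs] [IsReduced Xs]
    (ξ : Xs) (hξ : closure ({ξ} : Set Xs) ∈ irreducibleComponents Xs)
    (B : Type u) [CommRing B] [IsDomain B] [IsDiscreteValuationRing B] [Algebra R B]
    (e : X.presheaf.stalk (gs.base ξ) ≅ CommRingCat.of B)
    (he : e.hom.hom.comp ((X.presheaf.germ ⊤ (gs.base ξ) trivial).hom.comp (Coh.toGlobal f)) =
      algebraMap R B) :
    IsLocalRing.maximalIdeal B = Ideal.map (algebraMap R B) (IsLocalRing.maximalIdeal R) := by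
  let iS := Spec.map (CommRingCat.ofHom (IsLocalRing.residue R))
  haveI : IsClosedImmersion iS := IsClosedImmersion.spec_of_surjective _ Ideal.Quotient.mk_surjective
  haveI : IsClosedImmersion gs := MorphismProperty.of_isPullback hs.flip ‹IsClosedImmersion iS›
  let U : (Spec (CommRingCat.of R)).affineOpens := ⟨⊤, isAffineOpen_top _⟩
  have hker := GrothLib.DeformIso.ker_stalkMap_of_isPullback hs ξ U trivial
  let S := Xs.presheaf.stalk ξ
  haveI hS1 : ∀ P : Ideal S, P.IsPrime → P = IsLocalRing.maximalIdeal S := by
    intro P hP
    let P' : PrimeSpectrum S := ⟨P, hP⟩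
    let y := Xs.fromSpecStalk ξ P'
    have hy : y ⤳ ξ := by
      have h1 : y ∈ Set.range (Xs.fromSpecStalk ξ) := ⟨P', rfl⟩
      rw [Scheme.range_fromSpecStalk] at h1
      exact h1
    have hle : closure ({ξ} : Set Xs) ≤ closure {y} := closure_minimal (Set.singleton_subset_iff.2 (specializes_iff_mem_closure.1 hy)) isClosed_closure
    have heq : closure ({y} : Set Xs) = closure {ξ} :=
      le_antisymm (hξ.2 isIrreducible_singleton.closure hle) hle
    have hyξ : y = ξ := (specializes_iff_mem_closure.2 (heq ▸ subset_closure rfl) : ξ ⤳ y).antisymm hy |>.symm.eq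
    have h2 : Xs.fromSpecStalk ξ P' = Xs.fromSpecStalk ξ (IsLocalRing.closedPoint S) := by
      rw [Scheme.fromSpecStalk_closedPoint]; exact hyξ
    exact congrArg PrimeSpectrum.asIdeal ((Xs.fromSpecStalk ξ).isEmbedding.injective h2)
  have hfield : IsLocalRing.maximalIdeal S = ⊥ := by
    have h0 : nilradical S = 0 := nilradical_eq_zero S
    rw [nilradical_eq_sInf] at h0
    exact le_bot_iff.1 ((le_sInf fun P hP => (hS1 P hP).ge).trans h0.le)
  have hsurj : Function.Surjective (gs.stalkMap ξ) := gs.stalkMap_surjective ξ
  have hmax : RingHom.ker (gs.stalkMap ξ).hom = IsLocalRing.maximalIdeal (X.presheaf.stalk (gs.base ξ)) := by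
    haveI : (RingHom.ker (gs.stalkMap ξ).hom).IsMaximal := by
      have : (⊥ : Ideal S).IsMaximal := hfield ▸ inferInstance
      rw [RingHom.ker_eq_comap_bot]
      exact Ideal.comap_isMaximal_of_surjective _ hsurj
    exact IsLocalRing.eq_maximalIdeal ‹_›
  have hgen : RingHom.ker (gs.stalkMap ξ).hom =
      (IsLocalRing.maximalIdeal R).map ((X.presheaf.germ ⊤ (gs.base ξ) trivial).hom.comp (Coh.toGlobal f)) := by
    rw [hker]
    have hI : iS.ker.ideal U = (IsLocalRing.maximalIdeal R).map (Scheme.ΓSpecIso (CommRingCat.of R)).inv.hom := by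
      rw [Scheme.Hom.ker_apply]
      ext b
      obtain ⟨r, rfl⟩ := (Scheme.ΓSpecIso (CommRingCat.of R)).symm.commRingCatIsoToRingEquiv.surjective b
      have h0 := ConcreteCategory.congr_hom (Scheme.ΓSpecIso_inv_naturality (CommRingCat.ofHom (IsLocalRing.residue R))) r
      change iS.appTop ((Scheme.ΓSpecIso (CommRingCat.of R)).inv r) = 0 ↔ _
      rw [show iS.appTop ((Scheme.ΓSpecIso (CommRingCat.of R)).inv r) = (Scheme.ΓSpecIso _).inv (IsLocalRing.residue R r) from h0.symm,
        map_eq_zero_iff _ ((ConcreteCategory.bijective_of_isIso _).1), IsLocalRing.residue_eq_zero_iff]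
      have hb := ConcreteCategory.bijective_of_isIso (Scheme.ΓSpecIso (CommRingCat.of R)).inv
      exact ⟨Ideal.mem_map_of_mem _, fun h => by
        obtain ⟨r', hr', e'⟩ := (Ideal.mem_map_iff_of_surjective _ hb.2).1 h
        exact hb.1 e' ▸ hr'⟩
    rw [hI, Ideal.map_map, Ideal.map_map]
    congr 1
    rw [← CommRingCat.hom_comp, ← CommRingCat.hom_comp, Scheme.Hom.germ_stalkMap]
    rfl
  rw [hmax] at hgen
  let φ : X.presheaf.stalk (gs.base ξ) ≃+* B := e.commRingCatIsoToRingEquiv
  haveI : IsLocalRing B := inferInstance
  calc IsLocalRing.maximalIdeal B = (IsLocalRing.maximalIdeal (X.presheaf.stalk (gs.base ξ))).map φ := by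
        exact (IsLocalRing.eq_maximalIdeal (Ideal.map_isMaximal_of_equiv φ)).symm
    _ = _ := by
        rw [hgen, ← he]
        exact Ideal.map_map _ _

end Groth.Agent.S17018
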