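import Groth.Statements.S17019
import Groth.Agent.Lib.GenStalk29.Basic
import Groth.Agent.S17018
-- import your own Groth.Agent.* helpers here

set_option autoImplicit false
universe u
open CategoryTheory CategoryTheory.Limits AlgebraicGeometry
open scoped TensorProduct
open Models

namespace Groth.Agent.S17019

/-- Let R be a discrete valuation ring with algebraically closed residue field and f : X → Spec R a
proper flat morphism whose generic fibre (base change to the fraction field of R) is smooth of
relative dimension 1 and connected and whose special fibre (base change to the residue field) is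
connected and reduced; let ξ be the generic point of an irreducible component of the special fibre
and B a discrete valuation ring given with an isomorphism from the local ring of X at ξ under which
R → B is the map induced by f; let R' be a discrete valuation ring with an injective local
homomorphism R → R' which is generically finite (Frac R ⊗_R R' is a finite module over Frac R). Then
B ⊗_R R' is an integral domain and a discrete valuation ring. (The published setting takes
everything essentially of finite type over a field of characteristic zero; the printed argument does
not use this and it is not imposed here.) -/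
theorem result
    (R : Type u) [CommRing R] [IsDomain R] [IsDiscreteValuationRing R]
    [IsAlgClosed (IsLocalRing.ResidueField R)]
    (X : Scheme.{u}) (f : X ⟶ Spec (CommRingCat.of R)) [IsProper f] [Flat f]
    (XK : Scheme.{u}) (gK : XK ⟶ X) (fK : XK ⟶ Spec (CommRingCat.of (FractionRing R)))
    (hK : IsPullback gK fK f (Spec.map (CommRingCat.ofHom (algebraMap R (FractionRing R)))))
    [SmoothOfRelativeDimension 1 fK] [ConnectedSpace XK]
    (Xs : Scheme.{u}) (gs : Xs ⟶ X) (fs : Xs ⟶ Spec (CommRingCat.of (IsLocalRing.ResidueField R)))
    (hs : IsPullback gs fs f (Spec.map (CommRingCat.ofHom (IsLocalRing.residue R))))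
    [ConnectedSpace Xs] [IsReduced Xs]
    (ξ : Xs) (hξ : closure ({ξ} : Set Xs) ∈ irreducibleComponents Xs)
    (B : Type u) [CommRing B] [IsDomain B] [IsDiscreteValuationRing B] [Algebra R B]
    (e : X.presheaf.stalk (gs.base ξ) ≅ CommRingCat.of B)
    (he : e.hom.hom.comp ((X.presheaf.germ ⊤ (gs.base ξ) trivial).hom.comp (Coh.toGlobal f)) =
      algebraMap R B)
    (R' : Type u) [CommRing R'] [IsDomain R'] [IsDiscreteValuationRing R'] [Algebra R R']
    (hinj : Function.Injective (algebraMap R R')) [IsLocalHom (algebraMap R R')]
    [Module.Finite (FractionRing R) (FractionRing R ⊗[R] R')] :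
    ∃ _ : IsDomain (B ⊗[R] R'), IsDiscreteValuationRing (B ⊗[R] R') := by
  haveI : Smooth fK := SmoothOfRelativeDimension.smooth (n := 1) fK
  haveI := GrothLib.GenStalk29.geometricallyConnected f hs hK
  have hmax := Groth.Agent.S17018.result R X f XK gK fK hK Xs gs fs hs ξ hξ B e he
  have hfld := GrothLib.GenStalk29.isField_tensor_stalk f hK (gs.base ξ) e he hmax (AlgebraicClosure (FractionRing R))
  exact GrothLib.GenStalk29.isDVR_of_isField_algebraicClosure hmax hinj hfld

end Groth.Agent.S17019
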