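import Groth.Statements.S17021
import Groth.Agent.Lib.ExtDesc2.Basic
import Groth.Agent.Lib.SyntLoc.Sk


set_option autoImplicit false
set_option linter.all false
universe u
open CategoryTheory CategoryTheory.Limits AlgebraicGeometry
open PicF

namespace Groth.Agent.S17021

set_option backward.isDefEq.respectTransparency false

theorem depth_ge_two {A : Type u} [CommRing A] [IsLocalRing A] [IsNoetherianRing A]
    (h : LocCoh.HasSk 2 A A) (hdim : ringKrullDim A = 2) : (2 : ℕ∞) ≤ LocCoh.depth A A := by
  have h' := GrothLib.SyntLoc.skBound_of_hasSk h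
  rw [GrothLib.SyntLoc.SkBound, hdim] at h'
  have h2 : min ((2 : ℕ) : WithBot ℕ∞) 2 = (((2 : ℕ∞)) : WithBot ℕ∞) := by simp
  rw [h2] at h'
  exact_mod_cast h'



/-- Let X be a locally Noetherian scheme all of whose local rings satisfy Serre's condition (S₂), p a
closed point of X whose local ring has Krull dimension 2, U the open complement of p and L an
invertible O_U-module. Suppose L extends to an invertible module over an étale neighbourhood of p:
there are an étale morphism j : V → X, a point q of V with j(q) = p and an invertible O_V-module M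
whose pullback to j⁻¹(U) is isomorphic to the pullback of L along j⁻¹(U) → U. Then L extends to X:
some invertible O_X-module has pullback to U isomorphic to L. (Stated for schemes; the published
statement is for a Deligne–Mumford stack of dimension 2 satisfying (S₂) and its proof passes to a
scheme on an étale chart. Dimension 2 is imposed here on the local ring at p. The published setting
takes everything essentially of finite type over a field of characteristic zero; here X is only
assumed locally Noetherian.) -/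
theorem result {X : Scheme.{u}} [IsLocallyNoetherian X]
    (hS2 : ∀ x : X, LocCoh.HasSk 2 (X.presheaf.stalk x) (X.presheaf.stalk x))
    (p : X) (hp : IsClosed ({p} : Set X)) (hdim : ringKrullDim (X.presheaf.stalk p) = 2)
    (U : X.Opens) (hU : (U : Set X) = {p}ᶜ)
    (L : (U : Scheme.{u}).Modules) (hL : PicF.IsInvertible L)
    {V : Scheme.{u}} (j : V ⟶ X) [Etale j] (q : V) (hq : j.base q = p)
    (M : V.Modules) (hM : PicF.IsInvertible M)
    (e : (Scheme.Modules.pullback (j ⁻¹ᵁ U).ι).obj M ≅ (Scheme.Modules.pullback (j ∣_ U)).obj L) :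
    ∃ N : X.Modules, PicF.IsInvertible N ∧ Nonempty ((Scheme.Modules.pullback U.ι).obj N ≅ L) := by
  obtain ⟨W, hW, hqW, -⟩ := exists_isAffineOpen_mem_and_subset (X := V) (x := q) (U := ⊤) trivial
  haveI : IsLocallyNoetherian V := LocallyOfFiniteType.isLocallyNoetherian j
  haveI : IsLocallyNoetherian (W : Scheme.{u}) := LocallyOfFiniteType.isLocallyNoetherian W.ι
  haveI : CompactSpace (W : Scheme.{u}) := isCompact_iff_compactSpace.1 hW.isCompact
  haveI : QuasiCompact (W.ι ≫ j) := inferInstance
  let g := W.ι ≫ j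
  have hUc : ∀ x : X, x ∉ U → x = p := fun x hx => by
    by_contra h; exact hx (show x ∈ (U : Set X) by rw [hU]; exact h)
  have hdep : ∀ x : X, x ∉ U → (2 : ℕ∞) ≤ LocCoh.depth (X.presheaf.stalk x) (X.presheaf.stalk x) := fun x hx => by
    obtain rfl := hUc x hx; exact depth_ge_two (hS2 x) hdim
  have hcov : ∀ x : X, x ∉ U → x ∈ Set.range g := fun x hx => by
    obtain rfl := hUc x hx; exact ⟨⟨q, hqW⟩, hq⟩
  have e' : (Scheme.Modules.pullback (g ⁻¹ᵁ U).ι).obj ((Scheme.Modules.pullback W.ι).obj M) ≅
      (Scheme.Modules.pullback (g ∣_ U)).obj L :=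
    (Scheme.Modules.pullbackComp (g ⁻¹ᵁ U).ι W.ι).app M ≪≫
    (Scheme.Modules.pullbackCongr (morphismRestrict_ι W.ι (j ⁻¹ᵁ U)).symm).app M ≪≫
    ((Scheme.Modules.pullbackComp (W.ι ∣_ (j ⁻¹ᵁ U)) (j ⁻¹ᵁ U).ι).app M).symm ≪≫
    (Scheme.Modules.pullback (W.ι ∣_ (j ⁻¹ᵁ U))).mapIso e ≪≫
    (Scheme.Modules.pullbackComp (W.ι ∣_ (j ⁻¹ᵁ U)) (j ∣_ U)).app L ≪≫
    (Scheme.Modules.pullbackCongr (morphismRestrict_comp W.ι j U).symm).app L
  have hN := GrothLib.ExtDesc2.isInvertible_pushforward_of_flat_nhd g U hcov hdep L hL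
    ((Scheme.Modules.pullback W.ι).obj M) (GrothLib.Ample.isInvertible_pullback W.ι hM) e'
  exact ⟨_, hN, GrothLib.ExtDesc2.nonempty_pullback_pushforward_iso U L⟩


end Groth.Agent.S17021
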