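import Groth.Statements.S17022
import Groth.Agent.Lib.CurveMult.HurwitzOver
import Groth.Agent.Lib.CurveMult.P1Split
import Groth.Agent.Lib.CurveMult.VeryAmpleDiv
import Groth.Agent.Lib.CurveMult.GenusZero
import Groth.Agent.Lib.CurveRR.Setup
import Groth.Agent.Lib.Euler.Rank
import Groth.Agent.Lib.CotTangent.Components
import Groth.Agent.S0219

set_option autoImplicit false
universe u
open CategoryTheory CategoryTheory.Limits AlgebraicGeometry
open Curves

namespace Groth.Agent.S17022

open GrothLib.CurveRR (CP place cst)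
open GrothLib.CurveMult

/-- An étale map carries the maximal ideal onto the maximal ideal. -/
theorem map_maximalIdeal_of_etale {X Y U : Scheme.{u}} (f : X ⟶ Y) (j : U ⟶ X) [IsOpenImmersion j]
    [Etale (j ≫ f)] (u : U) :
    (IsLocalRing.maximalIdeal (Y.presheaf.stalk (f (j u)))).map (f.stalkMap (j u)).hom =
      IsLocalRing.maximalIdeal (X.presheaf.stalk (j u)) := by
  have hm : (IsLocalRing.maximalIdeal (Y.presheaf.stalk ((j ≫ f) u))).map ((j ≫ f).stalkMap u).hom =
      IsLocalRing.maximalIdeal (U.presheaf.stalk u) := by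
    have hu : ((j ≫ f).stalkMap u).hom.FormallyUnramified := FormallyUnramified.stalkMap (j ≫ f) u
    have he : ((j ≫ f).stalkMap u).hom.EssFiniteType := LocallyOfFiniteType.stalkMap (j ≫ f) u
    algebraize [((j ≫ f).stalkMap u).hom]
    haveI : IsLocalHom (algebraMap (Y.presheaf.stalk ((j ≫ f) u)) (U.presheaf.stalk u)) :=
      inferInstanceAs (IsLocalHom ((j ≫ f).stalkMap u).hom)
    exact Algebra.FormallyUnramified.map_maximalIdeal
  have hb : Function.Bijective (j.stalkMap u).hom := ConcreteCategory.bijective_of_isIso (j.stalkMap u)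
  rw [Scheme.Hom.stalkMap_comp j f u] at hm
  have hm' : ((IsLocalRing.maximalIdeal (Y.presheaf.stalk (f (j u)))).map (f.stalkMap (j u)).hom).map
      (j.stalkMap u).hom = IsLocalRing.maximalIdeal (U.presheaf.stalk u) := (Ideal.map_map _ _).trans hm
  apply_fun Ideal.comap (j.stalkMap u).hom at hm'
  haveI : IsLocalHom (j.stalkMap u).hom := inferInstance
  rw [Ideal.comap_map_of_bijective _ hb, IsLocalRing.maximalIdeal_comap] at hm'
  exact hm'

set_option backward.isDefEq.respectTransparency false


/-- Let k be an algebraically closed field of characteristic zero, C a connected scheme which is proper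
and smooth of relative dimension 1 over k, and f : C → P¹_k a surjective morphism over k which is
étale over the complement of two closed points p, q of P¹_k (p = q is allowed). Then C is isomorphic
to P¹_k over k, and f has exactly one point over p and exactly one point over q. (Existence of an
isomorphism only; the published statement moreover identifies f, in suitable coordinates, with (a :
b) ↦ (aⁿ : bⁿ) for some n. The published statement leaves implicit that the ground field is
algebraically closed and that C is a connected smooth proper curve; its argument uses both, and over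
a non-closed field the projective line over a finite extension is a connected cover with no
ramification.) -/
theorem result (k : Type u) [Field k]
    [IsAlgClosed k] [CharZero k] {C : Scheme.{u}} (s : C ⟶ Spec (CommRingCat.of k))
    [IsProper s] [SmoothOfRelativeDimension 1 s] [ConnectedSpace C]
    (f : C ⟶ CohB1.ProjSpace 1 k) (hf : f ≫ CohB1.ProjSpace.toSpec 1 k = s) [Surjective f]
    (p q : ↥(CohB1.ProjSpace 1 k)) (hp : IsClosed ({p} : Set ↥(CohB1.ProjSpace 1 k))) (hq : IsClosed ({q} : Set ↥(CohB1.ProjSpace 1 k)))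
    (W : (CohB1.ProjSpace 1 k).Opens) (hW : (W : Set ↥(CohB1.ProjSpace 1 k)) = {p, q}ᶜ) [Etale (f ∣_ W)] :
    (∃ e : C ≅ CohB1.ProjSpace 1 k, e.hom ≫ CohB1.ProjSpace.toSpec 1 k = s) ∧
      (∀ x y : C, f.base x = p → f.base y = p → x = y) ∧
      (∀ x y : C, f.base x = q → f.base y = q → x = y) := by
  classical
  letI : C.Over (Spec (CommRingCat.of k)) := ⟨s⟩
  letI := GrothLib.CurveMult.P1Split.overP1 k
  let P := CohB1.ProjSpace 1 k
  haveI : IsProper (C ↘ Spec (CommRingCat.of k)) := ‹IsProper s›
  haveI : IsProper (P ↘ Spec (CommRingCat.of k)) := inferInstance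
  haveI : IsProper (CohB1.ProjSpace.toSpec 1 k) := GrothLib.Chow.isProper_toSpec 1 k
  haveI : Smooth s := SmoothOfRelativeDimension.smooth 1 s
  haveI : IsIntegral C := GrothLib.Euler.isIntegral_of_smooth_connected k s
  have hdim : topologicalKrullDim C = 1 := by
    exact_mod_cast GrothLib.CotTangent.topologicalKrullDim_integral_of_smoothOfRelativeDimension s 1
  haveI := GrothLib.CurveRR.regCurve_of_smooth s hdim
  have hf' : f ≫ (P ↘ Spec (CommRingCat.of k)) = C ↘ Spec (CommRingCat.of k) := hf
  have hη : f (genericPoint C) = genericPoint P := by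
    have h := (genericPoint_spec C).image f.continuous
    rw [Set.image_univ, f.surjective.range_eq, closure_univ] at h
    exact h.eq (genericPoint_spec P)
  have hclη : ∀ r : P, IsClosed ({r} : Set P) → r ≠ genericPoint P := fun r hr h =>
    GrothLib.CurvePoints.genericPoint_not_isClosed (GrothLib.CurveMult.P1Split.dim_P1 k) (h ▸ hr)
  haveI : IsFinite f := by
    refine Groth.Agent.S0219.result k C P s (CohB1.ProjSpace.toSpec 1 k) f hf hdim.le fun Z hZ _ => ?_
    rw [irreducibleComponents_eq_singleton, Set.mem_singleton_iff] at hZ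
    subst hZ
    rw [Set.image_univ, f.surjective.range_eq]
    exact ⟨p, trivial, genericPoint P, trivial, hclη p hp⟩
  -- the extension of function fields
  letI := (Hurwitz.ψ hη).toAlgebra
  have hsep : Algebra.IsSeparable P.functionField C.functionField := by
    haveI := Hurwitz.finiteDimensional k hη hf'
    haveI : CharZero P.functionField :=
      charZero_of_injective_algebraMap (FaithfulSMul.algebraMap_injective k P.functionField)
    exact inferInstance
  obtain ⟨d, -, hmain, hd⟩ := Hurwitz.exists_different k hη hf' hsep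
  obtain ⟨n, hn⟩ : ∃ n, n = Module.finrank P.functionField C.functionField := ⟨_, rfl⟩
  have hdeg1 : ∀ x : CP C, (place k x).deg = 1 := fun x => GrothLib.CurveMult.deg_place_eq_one k _
  have hres : ∀ x : CP C, letI := Curv2.resAlgebra k C x.1
      Module.finrank k (C.residueField x.1) = 1 := fun x => by
    rw [Hurwitz.finrank_residueField (k := k) x, hdeg1]
  -- the exponents
  have hd1 : ∀ x : CP C, d x + 1 = Hurwitz.ramIdxAt (f := f) x.1 := by
    intro x
    letI := (f.stalkMap x.1).hom.toAlgebra
    letI := (f.residueFieldMap x.1).hom.toAlgebra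
    letI := Curv2.resAlgebra k C x.1
    refine (hd x).2.2.2 ⟨?_, ?_⟩
    · have hsurj : Function.Surjective (algebraMap (P.residueField (f x.1)) (C.residueField x.1)) := fun z => by
        obtain ⟨c, hc⟩ := (finrank_eq_one_iff_of_nonzero' (1 : C.residueField x.1) one_ne_zero).1 (hres x) z
        refine ⟨(P.residue (f x.1)).hom (cst k (f x.1) c), ?_⟩
        rw [← hc, Algebra.smul_def, mul_one]
        show (f.residueFieldMap x.1).hom ((P.residue (f x.1)).hom (cst k (f x.1) c)) =
          (C.residue x.1).hom (cst k x.1 c)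
        rw [show (f.residueFieldMap x.1).hom ((P.residue (f x.1)).hom (cst k (f x.1) c)) =
          (C.residue x.1).hom ((f.stalkMap x.1).hom (cst k (f x.1) c)) from
          congrArg (fun χ => χ.hom (cst k (f x.1) c)) (Scheme.residue_residueFieldMap f x.1),
          Hurwitz.cst_compat k hf']
      exact ⟨fun z => by obtain ⟨a, rfl⟩ := hsurj z; exact isSeparable_algebraMap a⟩
    · letI := Curv2.resAlgebra k P (f x.1)
      haveI : CharZero (P.residueField (f x.1)) :=
        charZero_of_injective_algebraMap (FaithfulSMul.algebraMap_injective k (P.residueField (f x.1)))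
      exact Nat.cast_ne_zero.2 (Nat.one_le_iff_ne_zero.1 (hd x).1)
  have hoff : ∀ x : CP C, f x.1 ≠ p → f x.1 ≠ q → d x = 0 := by
    intro x hxp hxq
    have hxW : f x.1 ∈ W := by
      show f x.1 ∈ (W : Set _)
      rw [hW]
      simp only [Set.mem_compl_iff, Set.mem_insert_iff, Set.mem_singleton_iff, not_or]
      exact ⟨hxp, hxq⟩
    have hg : Etale ((f ⁻¹ᵁ W).ι ≫ f) := by
      rw [← morphismRestrict_ι]
      infer_instance
    have hm := map_maximalIdeal_of_etale f (f ⁻¹ᵁ W).ι ⟨x.1, hxW⟩
    letI := (f.stalkMap x.1).hom.toAlgebra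
    haveI : IsLocalHom (algebraMap (P.presheaf.stalk (f x.1)) (C.presheaf.stalk x.1)) :=
      inferInstanceAs (IsLocalHom (f.stalkMap x.1).hom)
    haveI := GrothLib.CurveRR.dvrStalk (X := P) ⟨f x.1, Hurwitz.ne_genericPoint x.2⟩
    haveI := GrothLib.CurveRR.dvrStalk (X := C) x
    obtain ⟨π, hπ⟩ := IsDiscreteValuationRing.exists_irreducible (C.presheaf.stalk x.1)
    have h1 : Hurwitz.ramIdxAt (f := f) x.1 = 1 := Hurwitz.ramificationIdx_of_map_eq
      (GrothLib.CurvePoints.stalkMap_injective f hη x.1) hπ
      (by rw [pow_one, ← hπ.maximalIdeal_eq]; exact hm)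
    have := hd1 x
    omega
  -- the fibres
  have hfib : ∀ r : P, IsClosed ({r} : Set P) → ∃ S : Finset (CP C), (∀ x : CP C, x ∈ S ↔ f x.1 = r) ∧
      S.Nonempty ∧ (∑ x ∈ S, (d x : ℤ)) = n - S.card ∧
      ∀ x : C, f x = r → ∃ h : x ≠ genericPoint C, (⟨x, h⟩ : CP C) ∈ S := by
    intro r hr
    have hne : ∀ x : C, f x = r → x ≠ genericPoint C := fun x hx h => hclη r hr (by rw [← hx, h, hη])
    have hfin : {x : CP C | f x.1 = r}.Finite :=
      (f.finite_preimage_singleton r).preimage Subtype.val_injective.injOn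
    refine ⟨hfin.toFinset, fun x => hfin.mem_toFinset, ?_, ?_, fun x hx => ⟨hne x hx, hfin.mem_toFinset.2 hx⟩⟩
    · obtain ⟨x, hx⟩ := f.surjective r
      exact ⟨⟨x, hne x hx⟩, hfin.mem_toFinset.2 hx⟩
    · have h := Hurwitz.finsum_ramIdxAt k hη hf' ⟨r, hclη r hr⟩
      rw [GrothLib.CurveMult.deg_place_eq_one k, Nat.cast_one, mul_one, ← hn] at h
      change (∑ᶠ x ∈ {x : CP C | f x.1 = r}, (Hurwitz.ramIdxAt (f := f) x.1 : ℤ) * ((place k x).deg : ℤ)) = n at h
      rw [finsum_mem_eq_finite_toFinset_sum _ hfin] at h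
      have h' : ∑ x ∈ hfin.toFinset, ((d x : ℤ) + 1) = n := by
        refine (Finset.sum_congr rfl fun x _ => ?_).trans h
        rw [hdeg1, Nat.cast_one, mul_one, ← hd1]
        push_cast
        ring
      rw [Finset.sum_add_distrib, Finset.sum_const, nsmul_one] at h'
      linarith
  obtain ⟨Sp, hSp, hSpne, hSpsum, hSpmem⟩ := hfib p hp
  obtain ⟨Sq, hSq, hSqne, hSqsum, hSqmem⟩ := hfib q hq
  have hsum : ∑ᶠ x : CP C, (d x : ℤ) * (letI := Curv2.resAlgebra k C x.1
      (Module.finrank k (C.residueField x.1) : ℤ)) = ∑ x ∈ Sp ∪ Sq, (d x : ℤ) := by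
    rw [finsum_congr fun x => by rw [hres x, Nat.cast_one, mul_one]]
    refine finsum_eq_sum_of_support_subset _ fun x hx => ?_
    rw [Finset.coe_union]
    simp only [Function.mem_support, ne_eq, Nat.cast_eq_zero] at hx
    by_contra h
    simp only [Set.mem_union, Finset.mem_coe, hSp, hSq, not_or] at h
    exact hx (hoff x h.1 h.2)
  have hχP : Curv2.euler k P (Coh.structureModule P) = 1 := by
    have h := GrothLib.CurveMult.P1Split.euler_O1 k 0
    rw [GrothLib.Euler.euler_of_iso k GrothLib.CMReg.nonempty_twist_zero.some] at h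
    simpa using h
  rw [hχP, hsum, ← hn] at hmain
  haveI := GrothLib.Euler.isNoetherian_of_proper (X := C) k
  have hχ := GrothLib.Euler.euler_structure (X := C) k hdim.le
  rw [GrothLib.CurveRR.finrank_H0_structure_eq_one k] at hχ
  have hap := Finset.card_pos.2 hSpne
  have haq := Finset.card_pos.2 hSqne
  have key : Curv2.genus k C = 0 ∧ Sp.card = 1 ∧ Sq.card = 1 := by
    by_cases hpq : p = q
    · have hSS : Sp = Sq := Finset.ext fun x => by rw [hSp, hSq, hpq]
      rw [hSS, Finset.union_self, hSqsum] at hmain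
      have hcard : Sq.card ≤ n := by
        have : (0 : ℤ) ≤ ∑ x ∈ Sq, (d x : ℤ) := Finset.sum_nonneg fun _ _ => Int.natCast_nonneg _
        omega
      rw [hSS]
      omega
    · have hdisj : Disjoint Sp Sq := Finset.disjoint_left.2 fun x h1 h2 =>
        hpq (((hSp x).1 h1).symm.trans ((hSq x).1 h2))
      rw [Finset.sum_union hdisj, hSpsum, hSqsum] at hmain
      omega
  refine ⟨?_, fun x y hx hy => ?_, fun x y hx hy => ?_⟩
  · obtain ⟨z, -⟩ := hSpne
    let D : _root_.FunFld.Divisor k C.functionField := Finsupp.single (place k z) 1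
    haveI : Module.Finite k (Coh.HH C (Coh.structureModule C) 1) := GrothLib.Euler.finiteDimensional_HH k
      (GrothLib.Euler.isCoh_of_isInvertible GrothLib.Euler.isInvertible_structure) 1
    refine GrothLib.CurveMult.exists_iso_P1 k hdim (Module.finrank_zero_iff.1 key.1)
      (GrothLib.CurveRR.isInvertible_oD k D) ?_
    rw [GrothLib.CurveRR.deg_oD (k := k) D, GrothLib.FunFld.deg_single, hdeg1]
    rfl
  · obtain ⟨hx', hxS⟩ := hSpmem x hx
    obtain ⟨hy', hyS⟩ := hSpmem y hy
    exact congrArg Subtype.val (Finset.card_le_one.1 key.2.1.le _ hxS _ hyS)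
  · obtain ⟨hx', hxS⟩ := hSqmem x hx
    obtain ⟨hy', hyS⟩ := hSqmem y hy
    exact congrArg Subtype.val (Finset.card_le_one.1 key.2.2.le _ hxS _ hyS)

end Groth.Agent.S17022
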