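import Groth.Statements.S17023
import Groth.Agent.Lib.AdicExtra.Completion
import Mathlib.RingTheory.Smooth.AdicCompletion
-- import your own Groth.Agent.* helpers here

set_option autoImplicit false
universe u
open FlatMor

namespace Groth.Agent.S17023

/-- Let B be a discrete valuation ring, A a B-algebra of finite type and p a prime ideal of A which lies
over the maximal ideal of B (a point of the special fibre), at which A is smooth over B (the
localization A_p is formally smooth over B), and such that B maps onto the residue field κ(p). Then
there are a discrete valuation ring B' and a ring map ψ : A → B' pulling the maximal ideal of B'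
back to p, such that the composite B → A → B' is injective, the maximal ideal of B generates the
maximal ideal of B', and B maps onto the residue field of B'; in other words Spec B' → Spec A → Spec
B is surjective and unramified with trivial residue field extension. (The published statement does
not say that the closed point of Spec B' goes to p; it is required here. The published setting takes
A essentially of finite type over a field of characteristic zero; here A is taken of finite type
over B, with no ground field.) -/
theorem result
    (B : Type u) [CommRing B] [IsDomain B] [IsDiscreteValuationRing B]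
    (A : Type u) [CommRing A] [Algebra B A] [Algebra.FiniteType B A]
    (p : Ideal A) [p.IsPrime] (hp : p.comap (algebraMap B A) = IsLocalRing.maximalIdeal B)
    [Algebra.IsSmoothAt B p]
    (hres : Function.Surjective ((algebraMap A p.ResidueField).comp (algebraMap B A))) :
    ∃ (B' : Type u) (_ : CommRing B') (_ : IsDomain B') (_ : IsDiscreteValuationRing B') (ψ : A →+* B'),
      Ideal.comap ψ (IsLocalRing.maximalIdeal B') = p ∧
      Function.Injective (ψ.comp (algebraMap B A)) ∧
      Ideal.map (ψ.comp (algebraMap B A)) (IsLocalRing.maximalIdeal B) = IsLocalRing.maximalIdeal B' ∧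
      Function.Surjective ((IsLocalRing.residue B').comp (ψ.comp (algebraMap B A))) := by
  classical
  obtain ⟨hdom, hdvr⟩ := GrothLib.AdicExtra.exists_dvr_adicCompletion_iff.1
    ⟨(inferInstance : IsDomain B), (inferInstance : IsDiscreteValuationRing B)⟩
  let m : Ideal B := IsLocalRing.maximalIdeal B
  let r : B →+* p.ResidueField := (algebraMap A p.ResidueField).comp (algebraMap B A)
  have hker : RingHom.ker r = m := by
    rw [← RingHom.comap_ker, Ideal.ker_algebraMap_residueField, hp]
  let π : B →ₐ[B] p.ResidueField := Algebra.ofId B p.ResidueField
  have hπr : π.toRingHom = r := IsScalarTower.algebraMap_eq B A p.ResidueField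
  have hπ : Function.Surjective π := by
    intro y
    obtain ⟨x, hx⟩ := hres y
    exact ⟨x, (DFunLike.congr_fun hπr x).trans hx⟩
  have hπker : RingHom.ker π = m := (congrArg RingHom.ker hπr).trans hker
  let f : Localization.AtPrime p →ₐ[B] B ⧸ m :=
    ((Ideal.quotientEquivAlgOfEq B hπker).toAlgHom.comp
      (Ideal.quotientKerAlgEquivOfSurjective hπ).symm.toAlgHom).comp
      (IsScalarTower.toAlgHom B (Localization.AtPrime p) p.ResidueField)
  obtain ⟨g, hg⟩ := Algebra.FormallySmooth.exists_adicCompletionEvalOneₐ_comp_eq f
  let ψ : A →+* AdicCompletion m B := g.toRingHom.comp (algebraMap A (Localization.AtPrime p))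
  have hψB : ψ.comp (algebraMap B A) = algebraMap B (AdicCompletion m B) := by
    refine RingHom.ext fun b => ?_
    show g (algebraMap A (Localization.AtPrime p) (algebraMap B A b)) = _
    rw [← IsScalarTower.algebraMap_apply B A (Localization.AtPrime p), AlgHom.commutes]
  have hmax : IsLocalRing.maximalIdeal (AdicCompletion m B) = RingHom.ker (AdicCompletion.evalOneₐ m).toRingHom := by
    rw [AdicCompletion.maximalIdeal_eq_map]
    exact (AdicCompletion.ker_evalOneₐ_eq_map m (IsLocalRing.maximalIdeal B).fg_of_isNoetherianRing).symm
  refine ⟨AdicCompletion m B, inferInstance, hdom, hdvr, ψ, ?_, ?_, ?_, ?_⟩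
  · ext a
    rw [Ideal.mem_comap, hmax, RingHom.mem_ker]
    show AdicCompletion.evalOneₐ m (g (algebraMap A (Localization.AtPrime p) a)) = 0 ↔ _
    have h1 : AdicCompletion.evalOneₐ m (g (algebraMap A (Localization.AtPrime p) a)) =
        f (algebraMap A (Localization.AtPrime p) a) := DFunLike.congr_fun hg _
    rw [h1]
    show (Ideal.quotientEquivAlgOfEq B hπker) ((Ideal.quotientKerAlgEquivOfSurjective hπ).symm
        (algebraMap (Localization.AtPrime p) p.ResidueField (algebraMap A (Localization.AtPrime p) a))) = 0 ↔ _
    rw [EmbeddingLike.map_eq_zero_iff, EmbeddingLike.map_eq_zero_iff, ← IsScalarTower.algebraMap_apply,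
      Ideal.algebraMap_residueField_eq_zero]
  · rw [hψB]
    exact AdicCompletion.of_injective m B
  · rw [hψB, AdicCompletion.maximalIdeal_eq_map]
  · rw [hψB]
    intro y
    obtain ⟨x, hx⟩ := (AdicCompletion.residueField_map_bijective (R := B)).2 y
    obtain ⟨b, rfl⟩ := IsLocalRing.residue_surjective x
    exact ⟨b, hx⟩

end Groth.Agent.S17023
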