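import Groth.Statements.S17025
import Groth.Agent.Lib.FCat7.FiveLemma

set_option autoImplicit false
open CategoryTheory CategoryTheory.Limits
universe u
open FSch

namespace Groth.Agent.S17025

/-- Let 𝔛 be a locally Noetherian formal scheme (an adic system of thickenings with locally Noetherian
levels) and F₀ ⟶ F₁ ⟶ F₂ ⟶ F₃ ⟶ F₄ an exact sequence of O_𝔛-modules. If F₀, F₁, F₃ and F₄ are
quasi-coherent (as modules on the ringed space: locally a cokernel of a morphism of free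
O_𝔛-modules), then so is F₂. -/
theorem result (𝔛 : FSch.Sys.{u}) (h𝔛 : 𝔛.IsLocNoethFormal)
    (S : ComposableArrows (FSch.ModF 𝔛 h𝔛.1) 4) (hS : S.Exact)
    (h₀ : SheafOfModules.IsQuasicoherent.{u} (S.obj 0)) (h₁ : SheafOfModules.IsQuasicoherent.{u} (S.obj 1))
    (h₃ : SheafOfModules.IsQuasicoherent.{u} (S.obj 3)) (h₄ : SheafOfModules.IsQuasicoherent.{u} (S.obj 4)) :
    SheafOfModules.IsQuasicoherent.{u} (S.obj 2) := by
  obtain ⟨f, g, w, hfg⟩ := GrothLib.FCat7.exists_shortExact_mid (S.map' 0 1) (S.map' 1 2) (S.map' 2 3) (S.map' 3 4)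
    (hS.toIsComplex.zero 0) (hS.toIsComplex.zero 1) (hS.toIsComplex.zero 2) (hS.exact 0) (hS.exact 1) (hS.exact 2)
  haveI : SheafOfModules.IsQuasicoherent.{u} (ShortComplex.mk f g w).X₁ :=
    @GrothLib.FCat7.isQuasicoherent_cokernel _ _ h𝔛 _ _ h₀ h₁ _
  haveI : SheafOfModules.IsQuasicoherent.{u} (ShortComplex.mk f g w).X₃ :=
    @GrothLib.FCat7.isQuasicoherent_kernel' _ _ h𝔛 _ _ h₃ h₄ _
  exact GrothLib.FCat7.isQuasicoherent_extension h𝔛 hfg

end Groth.Agent.S17025
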