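import Groth.Statements.S17029
import Groth.Agent.Lib.FCat7.Small

set_option autoImplicit false
open CategoryTheory CategoryTheory.Limits
universe u
open FSch

namespace Groth.Agent.S17029

/-- On a locally Noetherian formal scheme 𝔛 (an adic system of thickenings with locally Noetherian
levels), the inclusion functor from the full subcategory of O_𝔛-modules that are small filtered
colimits of coherent O_𝔛-modules into all O_𝔛-modules admits a right adjoint. -/
theorem result (𝔛 : FSch.Sys.{u}) (h𝔛 : 𝔛.IsLocNoethFormal) :
    (ObjectProperty.ind.{u} fun 𝔊 : FSch.ModF 𝔛 h𝔛.1 => FSch.IsCohF 𝔛 h𝔛.1 𝔊).ι.IsLeftAdjoint := by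
  exact GrothLib.FCat7.isLeftAdjoint_ind_ι h𝔛

end Groth.Agent.S17029
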