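import Groth.Statements.S1703
import Groth.Agent.Lib.RelReg.H1Scheme

set_option autoImplicit false
set_option linter.all false
universe u
open CategoryTheory CategoryTheory.Limits AlgebraicGeometry TopologicalSpace
open SDiv

namespace Groth.Agent.S1703

/-- Let f : X ⟶ S be locally of finite presentation and 𝓘 the ideal sheaf of an effective Cartier
divisor D ⊂ X with D ⟶ S flat. Then there is an open subscheme U of X containing D such that U ⟶ S
is flat. -/
theorem result {X S : Scheme.{u}} (f : X ⟶ S) [LocallyOfFinitePresentation f] (𝓘 : X.IdealSheafData)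
    (hD : (BlowUp.IsEffCartierIdeal 𝓘 ∧ Flat (𝓘.subschemeι ≫ f))) : ∃ U : X.Opens, (𝓘.support : Set ↥X) ⊆ U ∧ Flat (U.ι ≫ f) := by
  have hh1 : RegImm.IsRelRegularImmersion RegImm.Kind.h1 f 𝓘.subschemeι := by
    refine ⟨⟨inferInstance, fun z => ?_⟩, hD.2⟩
    obtain ⟨U, hU, c, hc, hI⟩ := hD.1 (𝓘.subschemeι z)
    refine ⟨U, hU, IsZariskiLocalAtTarget.restrict (P := @IsClosedImmersion) inferInstance U.1, [c], ?_, ?_⟩
    · intro a ha
      have ha' : a ⟨0, by simp⟩ * c = 0 := by simpa using ha
      have h0 : a ⟨0, by simp⟩ = 0 := (mem_nonZeroDivisors_iff_right.mp hc) _ ha'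
      have : a = 0 := funext fun j => by
        have : j = ⟨0, by simp⟩ := by
          exact @Subsingleton.elim (Fin 1) _ j _
        rw [this]; exact h0
      rw [this]; exact zero_mem _
    · rw [Scheme.IdealSheafData.ker_subschemeι_app, hI, Ideal.ofList]
      simp
  obtain ⟨U, hU, hfl⟩ := GrothLib.RelReg.exists_flat_open f
  refine ⟨U, fun x hx => ?_, hfl⟩
  rw [← Scheme.IdealSheafData.range_subschemeι] at hx
  obtain ⟨z, rfl⟩ := hx
  exact hU _ (GrothLib.RelReg.flat_stalkMap_of_h1 f 𝓘.subschemeι hh1 z)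

end Groth.Agent.S1703
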