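import Groth.Statements.S17030
import Groth.Agent.Lib.RpushD7.RightAdj

set_option autoImplicit false
open CategoryTheory CategoryTheory.Limits
universe u
attribute [local instance] HasDerivedCategory.standard
open FSch

namespace Groth.Agent.S17030

/-- Let f : 𝔛 ⟶ 𝔜 be a morphism of formal schemes given as systems of thickenings with quasi-compact
underlying spaces, 𝔛 moreover adic with locally Noetherian levels (a Noetherian formal scheme). Let
A be the full subcategory of O_𝔛-modules that are small filtered colimits of coherent ones; assume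
(as holds here) that it contains 0, is closed under kernels, cokernels and finite products, and that
its inclusion is exact, so that A is abelian with derived category D(A). Then the composite of the
induced functor D(A) ⥤ D(O_𝔛) with the total right derived functor Rf_* : D(O_𝔛) ⥤ D(O_𝔜) has a
right adjoint. (The published statement gives a right adjoint compatible with the triangulated
structures.) -/
theorem result (𝔛 𝔜 : FSch.Sys.{u}) (h𝔛 : 𝔛.IsLocNoethFormal)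
    [CompactSpace (𝔛.X 0)] (h𝔜 : 𝔜.IsFormal) [CompactSpace (𝔜.X 0)] (f : 𝔛 ⟶ 𝔜)
    [(ObjectProperty.ind.{u} fun 𝔊 : FSch.ModF 𝔛 h𝔛.1 => FSch.IsCohF 𝔛 h𝔛.1 𝔊).ContainsZero] [(ObjectProperty.ind.{u} fun 𝔊 : FSch.ModF 𝔛 h𝔛.1 => FSch.IsCohF 𝔛 h𝔛.1 𝔊).IsClosedUnderKernels]
    [(ObjectProperty.ind.{u} fun 𝔊 : FSch.ModF 𝔛 h𝔛.1 => FSch.IsCohF 𝔛 h𝔛.1 𝔊).IsClosedUnderCokernels] [(ObjectProperty.ind.{u} fun 𝔊 : FSch.ModF 𝔛 h𝔛.1 => FSch.IsCohF 𝔛 h𝔛.1 𝔊).IsClosedUnderFiniteProducts]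
    [PreservesFiniteLimits (ObjectProperty.ind.{u} fun 𝔊 : FSch.ModF 𝔛 h𝔛.1 => FSch.IsCohF 𝔛 h𝔛.1 𝔊).ι] [PreservesFiniteColimits (ObjectProperty.ind.{u} fun 𝔊 : FSch.ModF 𝔛 h𝔛.1 => FSch.IsCohF 𝔛 h𝔛.1 𝔊).ι]
    [SiteCmp.HasRpushD (FSch.homMor f h𝔛.1 h𝔜)] :
    ((ObjectProperty.ind.{u} fun 𝔊 : FSch.ModF 𝔛 h𝔛.1 => FSch.IsCohF 𝔛 h𝔛.1 𝔊).ι.mapDerivedCategory ⋙ SiteCmp.RpushD (FSch.homMor f h𝔛.1 h𝔜)).IsLeftAdjoint := by
  haveI := GrothLib.FCat7.isLeftAdjoint_ind_ι (h := h𝔛.1) h𝔛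
  obtain ⟨S, G, hG, hF⟩ := GrothLib.FCat7.exists_small_coherent (h := h𝔛.1) h𝔛
  refine GrothLib.RpushD7.isLeftAdjoint_mapDerived_RpushD (h' := h𝔜) f h𝔛 _
    (fun J _ => ⟨fun M ⟨hM⟩ => GrothLib.FCat7.ind_of_colimit h𝔛 hM.toColimitPresentation hM.prop_diag_obj⟩)
    (fun M hM => hM) G (fun s => ObjectProperty.le_ind _ _ (hG s)) fun M hM M' g hg => ?_
  obtain ⟨J, _, _, pres, hp⟩ := hM
  refine pres.isColimit.hom_ext fun j => ?_
  obtain ⟨s, ⟨i⟩⟩ := hF _ (hp j)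
  refine (cancel_epi i.hom).1 (Eq.trans ?_ ((congrArg (i.hom ≫ ·) (comp_zero)).trans comp_zero).symm)
  exact (Category.assoc _ _ _).symm.trans (hg s (i.hom ≫ pres.ι.app j))

end Groth.Agent.S17030
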