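import Groth.Statements.S17031
import Groth.Agent.Lib.DerAdj28.Basic
import Groth.Agent.Lib.FCat7.Small

set_option autoImplicit false
open CategoryTheory CategoryTheory.Limits
universe u
attribute [local instance] HasDerivedCategory.standard
open FSch

namespace Groth.Agent.S17031

/-- Let 𝔛 be a locally Noetherian formal scheme (an adic system of thickenings with locally Noetherian
levels) and A the full subcategory of O_𝔛-modules that are small filtered colimits of coherent ones;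
assume (as holds here) that it contains 0, is closed under kernels, cokernels and finite products,
and that its inclusion is exact. Then the functor D(A) ⥤ D(O_𝔛) induced on unbounded derived
categories by the inclusion has a right adjoint. -/
theorem result (𝔛 : FSch.Sys.{u}) (h𝔛 : 𝔛.IsLocNoethFormal)
    [(ObjectProperty.ind.{u} fun 𝔊 : FSch.ModF 𝔛 h𝔛.1 => FSch.IsCohF 𝔛 h𝔛.1 𝔊).ContainsZero] [(ObjectProperty.ind.{u} fun 𝔊 : FSch.ModF 𝔛 h𝔛.1 => FSch.IsCohF 𝔛 h𝔛.1 𝔊).IsClosedUnderKernels]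
    [(ObjectProperty.ind.{u} fun 𝔊 : FSch.ModF 𝔛 h𝔛.1 => FSch.IsCohF 𝔛 h𝔛.1 𝔊).IsClosedUnderCokernels] [(ObjectProperty.ind.{u} fun 𝔊 : FSch.ModF 𝔛 h𝔛.1 => FSch.IsCohF 𝔛 h𝔛.1 𝔊).IsClosedUnderFiniteProducts]
    [PreservesFiniteLimits (ObjectProperty.ind.{u} fun 𝔊 : FSch.ModF 𝔛 h𝔛.1 => FSch.IsCohF 𝔛 h𝔛.1 𝔊).ι] [PreservesFiniteColimits (ObjectProperty.ind.{u} fun 𝔊 : FSch.ModF 𝔛 h𝔛.1 => FSch.IsCohF 𝔛 h𝔛.1 𝔊).ι] :
    ((ObjectProperty.ind.{u} fun 𝔊 : FSch.ModF 𝔛 h𝔛.1 => FSch.IsCohF 𝔛 h𝔛.1 𝔊).ι.mapDerivedCategory).IsLeftAdjoint := by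
  haveI : IsGrothendieckAbelian.{u} (FSch.ModF 𝔛 h𝔛.1) :=
    GrothLib.KInj.isGrothendieckAbelian_sheafOfModules _
  haveI := GrothLib.FCat7.isLeftAdjoint_ind_ι (h := h𝔛.1) h𝔛
  haveI := (Adjunction.ofIsLeftAdjoint
    (ObjectProperty.ind.{u} fun 𝔊 : FSch.ModF 𝔛 h𝔛.1 => FSch.IsCohF 𝔛 h𝔛.1 𝔊).ι).right_adjoint_additive
  exact GrothLib.DerAdj28.isLeftAdjoint_mapDerivedCategory (Adjunction.ofIsLeftAdjoint
    (ObjectProperty.ind.{u} fun 𝔊 : FSch.ModF 𝔛 h𝔛.1 => FSch.IsCohF 𝔛 h𝔛.1 𝔊).ι)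

end Groth.Agent.S17031
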