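import Groth.Statements.S17034
import Groth.Agent.Lib.RpushD7.Exists
import Groth.Agent.Lib.RpushD7.IndClass
import Groth.Agent.Lib.RpushD7.Colim
import Groth.Agent.Lib.FCat7.FinPres
import Groth.Agent.S13637

set_option autoImplicit false
open CategoryTheory CategoryTheory.Limits
universe u
attribute [local instance] HasDerivedCategory.standard
open FSch

namespace Groth.Agent.S17034

/-- Let f : 𝔛 ⟶ 𝔜 be a proper morphism of Noetherian formal schemes (adic systems of thickenings with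
locally Noetherian levels and quasi-compact underlying spaces; f adic with proper morphism of
smallest levels), and assume the total right derived functor Rf_* exists on unbounded derived
categories of modules. If every cohomology sheaf of G ∈ D(O_𝔛) is a small filtered colimit of
coherent O_𝔛-modules, then every cohomology sheaf of Rf_* G is a small filtered colimit of coherent
O_𝔜-modules. -/
theorem result (𝔛 𝔜 : FSch.Sys.{u}) (h𝔛 : 𝔛.IsLocNoethFormal) (h𝔜 : 𝔜.IsLocNoethFormal)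
    [CompactSpace (𝔛.X 0)] [CompactSpace (𝔜.X 0)] (f : 𝔛 ⟶ 𝔜) (hf : FSch.IsProperHom f)
    [SiteCmp.HasRpushD (FSch.homMor f h𝔛.1 h𝔜.1)] (G : DerivedCategory (FSch.ModF 𝔛 h𝔛.1))
    (hG : ∀ i : ℤ, (ObjectProperty.ind.{u} fun 𝔊 : FSch.ModF 𝔛 h𝔛.1 => FSch.IsCohF 𝔛 h𝔛.1 𝔊) (SiteCmp.HMod G i)) (i : ℤ) :
    (ObjectProperty.ind.{u} fun 𝔊 : FSch.ModF 𝔜 h𝔜.1 => FSch.IsCohF 𝔜 h𝔜.1 𝔊) (SiteCmp.HMod ((SiteCmp.RpushD (FSch.homMor f h𝔛.1 h𝔜.1)).obj G) i) := by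
  haveI := GrothLib.SheafCoh.enoughInjectives_sheafOfModules (ModSite.ringSh (𝔛.Osh h𝔛.1))
  haveI := GrothLib.FCat7.noetherianSpace_X0 h𝔛
  haveI : WSerre.IsWeakSerre (ObjectProperty.ind.{u} fun G : FSch.ModF 𝔛 h𝔛.1 => FSch.IsCohF 𝔛 h𝔛.1 G) :=
    GrothLib.RpushD7.isWeakSerre_ind h𝔛
  haveI : WSerre.IsWeakSerre (ObjectProperty.ind.{u} fun G : FSch.ModF 𝔜 h𝔜.1 => FSch.IsCohF 𝔜 h𝔜.1 G) :=
    GrothLib.RpushD7.isWeakSerre_ind h𝔜
  obtain ⟨N, hN⟩ := GrothLib.RpushD7.exists_preBound _ f (GrothLib.RpushD7.acyc_ind (h := h𝔛.1) h𝔛)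
  refine GrothLib.RpushD7.hMod_RpushD_mem (GrothLib.RpushD7.acyc_ind (h := h𝔛.1) h𝔛) hN
    (ObjectProperty.ind.{u} fun G : FSch.ModF 𝔜 h𝔜.1 => FSch.IsCohF 𝔜 h𝔜.1 G) (fun M hM p => ?_) G hG i
  obtain ⟨J, _, _, pres, hp⟩ := hM
  haveI : PreservesColimitsOfShape J (FSch.RpushF f h𝔛.1 h𝔜.1 p) :=
    ⟨fun {F} => GrothLib.RpushD7.preservesColimit_rpushF h𝔛.1 h𝔜.1 f p F⟩
  exact ⟨J, inferInstance, inferInstance, pres.map (FSch.RpushF f h𝔛.1 h𝔜.1 p),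
    fun j => Groth.Agent.S13637.result 𝔛 𝔜 h𝔛 h𝔜 f hf _ (hp j) p⟩

end Groth.Agent.S17034
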