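import Groth.Statements.S17036
import Groth.Agent.Lib.FCat7.Vanish
import Groth.Agent.Lib.FCoh7.ModRpush
import Groth.Agent.Lib.ColimCoh.RpushColim

set_option autoImplicit false
open CategoryTheory CategoryTheory.Limits
universe u
open FSch

namespace Groth.Agent.S17036

/-- Let g : 𝔛 ⟶ 𝔜 be a morphism of locally Noetherian formal schemes (adic systems of thickenings with
locally Noetherian levels) whose morphism of smallest levels is an affine morphism of schemes. Then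
for every O_𝔛-module M that is a small filtered colimit of coherent O_𝔛-modules, the higher direct
images R^i g_* M vanish for all i > 0. -/
theorem result (𝔛 𝔜 : FSch.Sys.{u}) (h𝔛 : 𝔛.IsLocNoethFormal) (h𝔜 : 𝔜.IsLocNoethFormal)
    (g : 𝔛 ⟶ 𝔜) [AlgebraicGeometry.IsAffineHom ((g : FSch.Hom 𝔛 𝔜).app 0)]
    [HasInjectiveResolutions (FSch.ModF 𝔛 h𝔛.1)]
    (𝔐 : FSch.ModF 𝔛 h𝔛.1) (h𝔐 : (ObjectProperty.ind.{u} fun 𝔊 : FSch.ModF 𝔛 h𝔛.1 => FSch.IsCohF 𝔛 h𝔛.1 𝔊) 𝔐) (i : ℕ) (hi : 0 < i) :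
    IsZero ((FSch.RpushF g h𝔛.1 h𝔜.1 i).obj 𝔐) := by
  obtain ⟨n, rfl⟩ := Nat.exists_eq_succ_of_ne_zero hi.ne'
  obtain ⟨e⟩ := GrothLib.FCoh7.nonempty_rpushModIso (FSch.homMor g h𝔛.1 h𝔜.1) (n + 1)
  let P : (TopologicalSpace.Opens (𝔜.X 0).toTopCat)ᵒᵖ ⥤ AddCommGrpCat.{u} :=
    (FSch.homMor g h𝔛.1 h𝔜.1).fn.op ⋙
      CategoryTheory.Sheaf.cohomologyPresheaf.{u} (ModSite.toAb 𝔐) (n + 1)
  let J := Opens.grothendieckTopology (𝔜.X 0).toTopCat
  have hP : IsIso ((presheafToSheaf J AddCommGrpCat.{u}).map (0 : P ⟶ (Functor.const _).obj (AddCommGrpCat.of PUnit))) := by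
    refine GrothLib.ColimCoh.isIso_sheafify_of_iso_on_class J _ fun V => ?_
    refine ⟨{W : (𝔜.X 0).affineOpens // W.1 ≤ V}, fun W => W.1.1, fun W => homOfLE W.2, ?_, fun W => ?_⟩
    · intro y hy
      obtain ⟨W, hW, hyW, hWV⟩ := AlgebraicGeometry.exists_isAffineOpen_mem_and_subset (x := y) (U := V) hy
      exact ⟨W, homOfLE hWV, CategoryTheory.Sieve.ofArrows_mk _ _ (⟨⟨W, hW⟩, hWV⟩ :
        {W : (𝔜.X 0).affineOpens // W.1 ≤ V}), hyW⟩
    · have hW' : AlgebraicGeometry.IsAffineOpen ((TopologicalSpace.Opens.map ((g : FSch.Hom 𝔛 𝔜).app 0).base).obj W.1.1) := W.1.2.preimage _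
      haveI : Subsingleton (P.obj (Opposite.op W.1.1)) :=
        GrothLib.FCat7.subsingleton_H'_of_ind h𝔛 h𝔐 hW' n
      haveI : Subsingleton (((Functor.const (TopologicalSpace.Opens (𝔜.X 0).toTopCat)ᵒᵖ).obj
          (AddCommGrpCat.of PUnit.{u + 1})).obj (Opposite.op W.1.1)) := inferInstanceAs (Subsingleton PUnit)
      exact (ConcreteCategory.isIso_iff_bijective _).2
        ⟨fun a b _ => Subsingleton.elim a b, fun b => ⟨0, Subsingleton.elim _ b⟩⟩
  have hz : IsZero ((presheafToSheaf J AddCommGrpCat.{u}).obj ((Functor.const _).obj (AddCommGrpCat.of PUnit))) := by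
    refine Functor.map_isZero _ (Functor.isZero _ fun _ => ?_)
    haveI : Subsingleton (AddCommGrpCat.of PUnit.{u + 1}) := inferInstanceAs (Subsingleton PUnit)
    exact AddCommGrpCat.isZero_of_subsingleton (AddCommGrpCat.of PUnit.{u + 1})
  have h0 : IsZero ((SheafOfModules.toSheaf _).obj ((FSch.RpushF g h𝔛.1 h𝔜.1 (n + 1)).obj 𝔐)) :=
    IsZero.of_iso (IsZero.of_iso hz (asIso ((presheafToSheaf J AddCommGrpCat.{u}).map
      (0 : P ⟶ (Functor.const _).obj (AddCommGrpCat.of PUnit))))) (e.app 𝔐)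
  rw [IsZero.iff_id_eq_zero] at h0 ⊢
  apply (SheafOfModules.toSheaf _).map_injective
  exact ((SheafOfModules.toSheaf _).map_id _).trans (h0.trans ((SheafOfModules.toSheaf _).map_zero _ _).symm)

end Groth.Agent.S17036
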