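import Groth.Statements.S17039
import Groth.Agent.Lib.FCat7.QCPres


set_option autoImplicit false
open CategoryTheory CategoryTheory.Limits
universe u
open FSch

namespace Groth.Agent.S17039

/-- On a locally Noetherian formal scheme 𝔛 (an adic system of thickenings with locally Noetherian
levels), the kernel, image and cokernel of any morphism between quasi-coherent O_𝔛-modules
(ringed-space sense) are quasi-coherent. -/
theorem result (𝔛 : FSch.Sys.{u}) (h𝔛 : 𝔛.IsLocNoethFormal)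
    {𝔉 𝔊 : FSch.ModF 𝔛 h𝔛.1} [SheafOfModules.IsQuasicoherent.{u} 𝔉] [SheafOfModules.IsQuasicoherent.{u} 𝔊]
    (φ : 𝔉 ⟶ 𝔊) :
    SheafOfModules.IsQuasicoherent.{u} (kernel φ) ∧ SheafOfModules.IsQuasicoherent.{u} (Abelian.image φ) ∧
      SheafOfModules.IsQuasicoherent.{u} (cokernel φ) := by
  have H : ∀ p : 𝔛.X 0, ∃ W : (𝔛.X 0).Opens, p ∈ W ∧
      GrothLib.FCat7.IsQC (kernel φ) W ∧ GrothLib.FCat7.IsQC (Abelian.image φ) W ∧
        GrothLib.FCat7.IsQC (cokernel φ) W := by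
    intro p
    obtain ⟨W₁, hW₁, hp₁, -, hF⟩ := GrothLib.FCat7.exists_isQC h𝔛 𝔉 (U := ⊤) (p := p) trivial
    obtain ⟨W, hW, hp, hWW, hG⟩ := GrothLib.FCat7.exists_isQC h𝔛 𝔊 hp₁
    have hF' := hF.res h𝔛 hW hWW
    have hC := hF'.cokernel h𝔛 hW φ hG
    exact ⟨W, hp, hF'.kernel φ hG, hG.kernel (cokernel.π φ) hC, hC⟩
  exact ⟨GrothLib.FCat7.isQuasicoherent_of_isQC fun p => (H p).imp fun _ h => ⟨h.1, h.2.1⟩,
    GrothLib.FCat7.isQuasicoherent_of_isQC fun p => (H p).imp fun _ h => ⟨h.1, h.2.2.1⟩,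
    GrothLib.FCat7.isQuasicoherent_of_isQC fun p => (H p).imp fun _ h => ⟨h.1, h.2.2.2⟩⟩

end Groth.Agent.S17039
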