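import Groth.Statements.S1704
import Groth.Agent.Lib.WeakAss.Basic

set_option autoImplicit false
universe u
open CategoryTheory CategoryTheory.Limits AlgebraicGeometry TopologicalSpace
open SDiv

namespace Groth.Agent.S1704

/-- Let X be a locally Noetherian scheme and F a quasi-coherent module. Then F is zero if and only if F
has no associated point. -/
theorem result (X : Scheme.{u}) [IsLocallyNoetherian X] (F : X.Modules) (hF : Coh.IsQCoh F) :
    IsZero F ↔ ∀ x : ↥X, ¬ Curv2.IsAssPoint F x := by
  have : F.IsQuasicoherent := hF
  simp only [GrothLib.WeakAss.isAssPoint_iff_isWeakAssPoint]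
  constructor
  · intro h x hw
    have key : ∀ (W : X.Opens) (t : Γ(F, W)), t = 0 := fun W t =>
      congr(Scheme.Modules.Hom.app $((IsZero.iff_id_eq_zero F).mp h) W t)
    have : Subsingleton (F.presheaf.stalk x) := by
      refine subsingleton_of_forall_eq 0 fun m => ?_
      obtain ⟨W, hxW, t, rfl⟩ := TopCat.Presheaf.exists_germ_eq F.presheaf m
      rw [key W t, map_zero]
    exact GrothLib.WeakAss.not_isWeakAssPoint_of_subsingleton hw
  · intro h
    refine (IsZero.iff_id_eq_zero F).mpr ?_
    refine Scheme.Modules.hom_ext _ _ fun W => ?_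
    ext s
    exact GrothLib.WeakAss.eq_zero_of_germ _ fun x _ hw => absurd hw (h x)

end Groth.Agent.S1704
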