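import Groth.Statements.S17049
import Groth.Agent.Lib.PAlg7.Result


set_option autoImplicit false
set_option linter.style.haveILetI false
set_option backward.isDefEq.respectTransparency false
open CategoryTheory CategoryTheory.Limits AlgebraicGeometry
universe u
attribute [local instance] HasDerivedCategory.standard
open FSch

namespace Groth.Agent.S17049

/-- Let A be a Noetherian I-adically complete ring, f : X ⟶ Spec A proper, 𝔛 the completion of X along
the inverse-image ideal of I and κ : 𝔛 ⟶ X the completion morphism of ringed spaces, with κ^* exact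
(κ flat, assumed) and hence defined on unbounded derived categories. Then κ^* : D(O_X) ⥤ D(O_𝔛) is
fully faithful on objects with quasi-coherent cohomology sheaves, and an object of D(O_𝔛) has
lim-coherent cohomology sheaves (small filtered colimits of coherent modules) if and only if it is
isomorphic to κ^*E for some E with quasi-coherent cohomology sheaves. -/
theorem result (A : Type u) [CommRing A] [IsNoetherianRing A] (I : Ideal A) [IsAdicComplete I A]
    {X : Scheme.{u}} (f : X ⟶ Spec (CommRingCat.of A)) [IsProper f]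
    (𝓘 : X.IdealSheafData) (h𝓘 : 𝓘 = (FSch.idealSpec A I).comap f)
    (hX : (FSch.completionAlong X 𝓘).IsFormal)
    [PreservesFiniteLimits (FSch.toSchemeMor (FSch.completionAlong X 𝓘) hX (FSch.completionToX X 𝓘) (FSch.completionToX_comm X 𝓘)).pull] :
    (∀ E E' : DerivedCategory (ModSite.Mod X.sheaf),
      (∀ i : ℤ, SheafOfModules.IsQuasicoherent.{u} (SiteCmp.HMod E i)) →
      (∀ i : ℤ, SheafOfModules.IsQuasicoherent.{u} (SiteCmp.HMod E' i)) →
      Function.Bijective (fun φ : E ⟶ E' => (SiteCmp.pullD (FSch.toSchemeMor (FSch.completionAlong X 𝓘) hX (FSch.completionToX X 𝓘) (FSch.completionToX_comm X 𝓘))).map φ)) ∧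
    ∀ G : DerivedCategory (FSch.ModF (FSch.completionAlong X 𝓘) hX),
      (∀ i : ℤ, (ObjectProperty.ind.{u} fun 𝔊 : FSch.ModF (FSch.completionAlong X 𝓘) hX => FSch.IsCohF (FSch.completionAlong X 𝓘) hX 𝔊) (SiteCmp.HMod G i)) ↔
        ∃ E : DerivedCategory (ModSite.Mod X.sheaf),
          (∀ i : ℤ, SheafOfModules.IsQuasicoherent.{u} (SiteCmp.HMod E i)) ∧
          Nonempty ((SiteCmp.pullD (FSch.toSchemeMor (FSch.completionAlong X 𝓘) hX (FSch.completionToX X 𝓘) (FSch.completionToX_comm X 𝓘))).obj E ≅ G) := by
  letI : X.Over (Spec (CommRingCat.of A)) := ⟨f⟩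
  haveI : IsProper (X ↘ Spec (CommRingCat.of A)) := ‹IsProper f›
  haveI : IsNoetherian X := GrothLib.FCat7.isNoetherian_base A X
  obtain rfl : 𝓘 = GrothLib.FFormal7.baseIdeal I X := h𝓘
  haveI : PreservesFiniteLimits (GrothLib.FMod7.complMor hX).pull := ‹_›
  exact ⟨fun E E' hE hE' => GrothLib.PAlg7.bijective_pLX I hX E E' hE hE',
    fun G => GrothLib.PAlg7.indD_iff_exists_iso I hX G⟩

end Groth.Agent.S17049
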