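import Groth.Statements.S17052
import Groth.Agent.Lib.FCat7.QCTInd
import Groth.Agent.Lib.FCat7.TorsClosed

set_option autoImplicit false
open CategoryTheory CategoryTheory.Limits
universe u
open FTors

namespace Groth.Agent.S17052

/-- On a locally Noetherian formal scheme 𝔛 (an adic system of thickenings with locally Noetherian
levels), the class of quasi-coherent torsion O_𝔛-modules is closed under arbitrary small colimits
computed among all O_𝔛-modules. -/
theorem result (𝔛 : FSch.Sys.{u}) (h𝔛 : 𝔛.IsLocNoethFormal)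
    (J : Type u) [SmallCategory J] :
    (FTors.IsQCT 𝔛 h𝔛.1).IsClosedUnderColimitsOfShape J := ⟨fun M ⟨hM⟩ => ⟨GrothLib.FCat7.isTorsF_of_colimit hM.isColimit fun j => (hM.prop_diag_obj j).1,
    GrothLib.FCat7.isQuasicoherent_of_ind h𝔛 (GrothLib.FCat7.ind_of_colimit h𝔛 hM.toColimitPresentation fun j => by
      haveI := (hM.prop_diag_obj j).2
      exact GrothLib.FCat7.ind_of_tors h𝔛 (hM.prop_diag_obj j).1)⟩⟩

end Groth.Agent.S17052
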