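import Groth.Statements.S17050
import Groth.Agent.Lib.RpushD7.RightAdj
import Groth.Agent.Lib.RpushD7.Torsion
import Groth.Agent.S17052
import Groth.Agent.S17054

set_option autoImplicit false
open CategoryTheory CategoryTheory.Limits
universe u
attribute [local instance] HasDerivedCategory.standard
open FTors

namespace Groth.Agent.S17050

/-- Let f : 𝔛 ⟶ 𝔜 be a morphism of Noetherian formal schemes (adic systems of thickenings with locally
Noetherian levels and quasi-compact underlying spaces), and assume the total right derived functor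
Rf_* exists on unbounded derived categories of modules. Let A_qct be the full subcategory of
quasi-coherent torsion O_𝔛-modules, assumed (as holds) to contain 0, to be closed under kernels,
cokernels and finite products and to have exact inclusion; assume further that the induced functor
D(A_qct) ⥤ D(O_𝔛) is fully faithful with essential image D_qct(𝔛), the complexes with quasi-coherent
torsion cohomology sheaves — the case the published proof establishes first, valid when 𝔛 is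
separated or of finite Krull dimension. Then the restriction of Rf_* to D_qct(𝔛) has a right
adjoint. (The published statement also removes the hypothesis on 𝔛 when f is separated, by gluing
over an open cover, and gives a bounded-below right adjoint compatible with the triangulated
structures.) -/
theorem result (𝔛 𝔜 : FSch.Sys.{u}) (h𝔛 : 𝔛.IsLocNoethFormal) (h𝔜 : 𝔜.IsLocNoethFormal)
    [CompactSpace (𝔛.X 0)] [CompactSpace (𝔜.X 0)] (f : 𝔛 ⟶ 𝔜)
    [SiteCmp.HasRpushD (FSch.homMor f h𝔛.1 h𝔜.1)]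
    [(FTors.IsQCT 𝔛 h𝔛.1).ContainsZero] [(FTors.IsQCT 𝔛 h𝔛.1).IsClosedUnderKernels]
    [(FTors.IsQCT 𝔛 h𝔛.1).IsClosedUnderCokernels] [(FTors.IsQCT 𝔛 h𝔛.1).IsClosedUnderFiniteProducts]
    [PreservesFiniteLimits (FTors.IsQCT 𝔛 h𝔛.1).ι] [PreservesFiniteColimits (FTors.IsQCT 𝔛 h𝔛.1).ι]
    (hj : (FTors.IsQCT 𝔛 h𝔛.1).ι.mapDerivedCategory.Full ∧ (FTors.IsQCT 𝔛 h𝔛.1).ι.mapDerivedCategory.Faithful ∧
      ∀ G : DerivedCategory (FSch.ModF 𝔛 h𝔛.1),
        (FTors.IsQCT 𝔛 h𝔛.1).ι.mapDerivedCategory.essImage G ↔ FTors.IsDQCT 𝔛 h𝔛.1 G) :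
    ((FTors.IsDQCT 𝔛 h𝔛.1).ι ⋙ SiteCmp.RpushD (FSch.homMor f h𝔛.1 h𝔜.1)).IsLeftAdjoint := by
  haveI := Groth.Agent.S17054.result 𝔛 h𝔛
  haveI := GrothLib.RpushD7.isWeakSerre_qct (h := h𝔛.1) h𝔛
  obtain ⟨S, G, hG, hF⟩ := GrothLib.FCat7.exists_small_coherent (h := h𝔛.1) h𝔛
  let P := FTors.IsQCT 𝔛 h𝔛.1
  haveI hA : (P.ι.mapDerivedCategory ⋙ SiteCmp.RpushD (FSch.homMor f h𝔛.1 h𝔜.1)).IsLeftAdjoint := by
    refine GrothLib.RpushD7.isLeftAdjoint_mapDerived_RpushD (h' := h𝔜.1) f h𝔛 P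
      (fun J _ => Groth.Agent.S17052.result 𝔛 h𝔛 J)
      (fun M hM => GrothLib.RpushD7.ind_of_isQCT h𝔛 hM)
      (S := {s : S // P (G s)}) (fun s => G s.1) (fun s => s.2) fun M hM M' g hg => ?_
    obtain ⟨J, _, _, pres, hp⟩ := GrothLib.RpushD7.exists_coh_tors_presentation h𝔛 hM
    refine pres.isColimit.hom_ext fun j => ?_
    obtain ⟨s, ⟨i⟩⟩ := hF _ (hp j).2
    refine (cancel_epi i.hom).1 (Eq.trans ?_ ((congrArg (i.hom ≫ ·) (comp_zero)).trans comp_zero).symm)
    exact (Category.assoc _ _ _).symm.trans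
      (hg ⟨s, GrothLib.RpushD7.isQCT_of_iso h𝔛 i.symm (hp j).1⟩ (i.hom ≫ pres.ι.app j))
  let D := FTors.IsDQCT 𝔛 h𝔛.1
  let e := D.lift P.ι.mapDerivedCategory fun X => (hj.2.2 _).1 (Functor.obj_mem_essImage _ X)
  haveI := hj.1
  haveI := hj.2.1
  haveI : e.EssSurj := ⟨fun K => by
    obtain ⟨X, ⟨i⟩⟩ := (hj.2.2 K.obj).2 K.property
    exact ⟨X, ⟨ObjectProperty.isoMk _ i⟩⟩⟩
  haveI : e.IsEquivalence := { }
  haveI : (e ⋙ (D.ι ⋙ SiteCmp.RpushD (FSch.homMor f h𝔛.1 h𝔜.1))).IsLeftAdjoint :=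
    Functor.isLeftAdjoint_of_iso
      (show P.ι.mapDerivedCategory ⋙ SiteCmp.RpushD (FSch.homMor f h𝔛.1 h𝔜.1) ≅ _ from
        Functor.isoWhiskerRight (D.liftCompιIso P.ι.mapDerivedCategory _).symm _ ≪≫ Functor.associator _ _ _)
  exact (Functor.isLeftAdjoint_comp_iff_right e _).1 inferInstance

end Groth.Agent.S17050
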