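import Groth.Statements.S17053
import Groth.Agent.Lib.FCat7.QCTInd

set_option autoImplicit false
open CategoryTheory CategoryTheory.Limits
universe u
open FTors

namespace Groth.Agent.S17053

/-- On a locally Noetherian formal scheme 𝔛 (an adic system of thickenings with locally Noetherian
levels), for every quasi-coherent O_𝔛-module M the torsion submodule Γ'_𝔛 M is a quasi-coherent
torsion module and a small filtered colimit of coherent O_𝔛-modules (the published statement: the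
lim of its coherent submodules); consequently every quasi-coherent torsion module is a small
filtered colimit of coherent modules. -/
theorem result (𝔛 : FSch.Sys.{u}) (h𝔛 : 𝔛.IsLocNoethFormal) :
    (∀ (M : FSch.ModF 𝔛 h𝔛.1) [SheafOfModules.IsQuasicoherent.{u} M],
      FTors.IsQCT 𝔛 h𝔛.1 ((FTors.gammaT 𝔛 h𝔛.1).obj M) ∧ (ObjectProperty.ind.{u} fun 𝔊 : FSch.ModF 𝔛 h𝔛.1 => FSch.IsCohF 𝔛 h𝔛.1 𝔊) ((FTors.gammaT 𝔛 h𝔛.1).obj M)) ∧
    ∀ M : FSch.ModF 𝔛 h𝔛.1, FTors.IsQCT 𝔛 h𝔛.1 M → (ObjectProperty.ind.{u} fun 𝔊 : FSch.ModF 𝔛 h𝔛.1 => FSch.IsCohF 𝔛 h𝔛.1 𝔊) M := by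
  refine ⟨fun M _ => ?_, fun M hM => ?_⟩
  · haveI := GrothLib.FCat7.isQuasicoherent_gammaT h𝔛 M
    exact ⟨⟨GrothLib.FCat7.isTorsF_gammaT M, inferInstance⟩,
      GrothLib.FCat7.ind_of_tors h𝔛 (GrothLib.FCat7.isTorsF_gammaT M)⟩
  · haveI := hM.2
    exact GrothLib.FCat7.ind_of_tors h𝔛 hM.1

end Groth.Agent.S17053
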