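import Groth.Statements.S17058
import Groth.Agent.Lib.RpushD7.Exists
import Groth.Agent.Lib.RpushD7.Torsion
import Groth.Agent.S17052

set_option autoImplicit false
open CategoryTheory CategoryTheory.Limits
universe u
attribute [local instance] HasDerivedCategory.standard
open FTors

namespace Groth.Agent.S17058

/-- Let f : 𝔛 ⟶ 𝔜 be a morphism of Noetherian formal schemes (adic systems of thickenings with locally
Noetherian levels, quasi-compact underlying spaces), and assume the total right derived functor Rf_*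
exists on unbounded derived categories of modules. Then Rf_* carries complexes with quasi-coherent
torsion cohomology sheaves to complexes with quasi-coherent torsion cohomology sheaves. (The
published statement also asserts that Rf_* is bounded on such complexes; this row does not.) -/
theorem result (𝔛 𝔜 : FSch.Sys.{u}) (h𝔛 : 𝔛.IsLocNoethFormal) (h𝔜 : 𝔜.IsLocNoethFormal)
    [CompactSpace (𝔛.X 0)] [CompactSpace (𝔜.X 0)] (f : 𝔛 ⟶ 𝔜)
    [SiteCmp.HasRpushD (FSch.homMor f h𝔛.1 h𝔜.1)] (K : DerivedCategory (FSch.ModF 𝔛 h𝔛.1))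
    (hK : FTors.IsDQCT 𝔛 h𝔛.1 K) :
    FTors.IsDQCT 𝔜 h𝔜.1 ((SiteCmp.RpushD (FSch.homMor f h𝔛.1 h𝔜.1)).obj K) := by
  haveI := GrothLib.SheafCoh.enoughInjectives_sheafOfModules (ModSite.ringSh (𝔛.Osh h𝔛.1))
  haveI := GrothLib.FCat7.noetherianSpace_X0 h𝔛
  haveI := GrothLib.RpushD7.isWeakSerre_qct (h := h𝔛.1) h𝔛
  haveI := GrothLib.RpushD7.isWeakSerre_qct (h := h𝔜.1) h𝔜
  have hA : GrothLib.RpushD7.Acyc (FTors.IsQCT 𝔛 h𝔛.1) := fun M hM =>
    GrothLib.RpushD7.acyc_ind (h := h𝔛.1) h𝔛 M (GrothLib.RpushD7.ind_of_isQCT h𝔛 hM)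
  obtain ⟨N, hN⟩ := GrothLib.RpushD7.exists_preBound _ f hA
  intro i
  refine GrothLib.RpushD7.hMod_RpushD_mem hA hN (FTors.IsQCT 𝔜 h𝔜.1) (fun M hM p => ?_) K hK i
  obtain ⟨J, _, _, pres, hp⟩ := GrothLib.RpushD7.exists_coh_tors_presentation h𝔛 hM
  haveI : PreservesColimitsOfShape J (FSch.RpushF f h𝔛.1 h𝔜.1 p) :=
    ⟨fun {F} => GrothLib.RpushD7.preservesColimit_rpushF h𝔛.1 h𝔜.1 f p F⟩
  refine (Groth.Agent.S17052.result 𝔜 h𝔜 J).colimitsOfShape_le _
    ⟨⟨pres.map (FSch.RpushF f h𝔛.1 h𝔜.1 p), fun j => ?_⟩⟩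
  obtain ⟨n, G, hG, -, ⟨e⟩⟩ := GrothLib.RpushD7.exists_rpush_level (h' := h𝔜.1) f h𝔛 h𝔜 _ (hp j).1 (hp j).2 p
  haveI := hG
  exact GrothLib.RpushD7.isQCT_of_iso h𝔜 e.symm ⟨GrothLib.RpushD7.isTorsF_level n G,
    GrothLib.RpushD7.isQuasicoherent_level n G h𝔜⟩

end Groth.Agent.S17058
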