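import Groth.Statements.S17062
import Groth.Agent.Lib.RpushD7.Global

set_option autoImplicit false
open CategoryTheory CategoryTheory.Limits
universe u
attribute [local instance] HasDerivedCategory.standard
open FSch

namespace Groth.Agent.S17062

/-- Let 𝔛 be a Noetherian formal scheme (adic system of thickenings with locally Noetherian levels and
quasi-compact underlying space). Then RΓ(𝔛, –) is bounded above on complexes with lim-coherent
cohomology sheaves: there is e ≥ 0 such that whenever G ∈ D(O_𝔛) has every cohomology sheaf a small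
filtered colimit of coherent O_𝔛-modules and H^i(G) = 0 for all i ≥ i₀, the groups Hom_{D(O_𝔛)}(O_𝔛,
G[i]) (the hypercohomology H^i(𝔛, G)) vanish for all i ≥ i₀ + e. -/
theorem result (𝔛 : FSch.Sys.{u}) (h𝔛 : 𝔛.IsLocNoethFormal) [CompactSpace (𝔛.X 0)] :
    ∃ e : ℕ, ∀ (G : DerivedCategory (FSch.ModF 𝔛 h𝔛.1)),
      (∀ i : ℤ, (ObjectProperty.ind.{u} fun 𝔊 : FSch.ModF 𝔛 h𝔛.1 => FSch.IsCohF 𝔛 h𝔛.1 𝔊) (SiteCmp.HMod G i)) →
      ∀ i₀ : ℤ, (∀ i : ℤ, i₀ ≤ i → IsZero (SiteCmp.HMod G i)) →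
        ∀ i : ℤ, i₀ + e ≤ i →
          Subsingleton (SiteCmp.inD (𝔛.Osh h𝔛.1) (FSch.unitF 𝔛 h𝔛.1) ⟶ (shiftFunctor (DerivedCategory (FSch.ModF 𝔛 h𝔛.1)) i).obj G) := by
  obtain ⟨e, he⟩ := GrothLib.RpushD7.exists_bound_hom_unit (h := h𝔛.1) h𝔛
  refine ⟨e, fun G hG i₀ h0 i hi => subsingleton_of_forall_eq 0 fun φ => ?_⟩
  let O := 𝔛.Osh h𝔛.1
  let w : (GrothLib.SiteDer.freeMod O).obj (⊤ : TopologicalSpace.Opens (𝔛.X 0)) ≅ ModSite.unit O :=
    (GrothLib.DerComp.freeModRep O (⊤ : TopologicalSpace.Opens (𝔛.X 0))).iso (GrothLib.RpushD7.unitTopRep' O)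
  let S := (DerivedCategory.singleFunctor (FSch.ModF 𝔛 h𝔛.1) i).obj (ModSite.unit O)
  let a : S⟦i⟧ ≅ SiteCmp.inD O (FSch.unitF 𝔛 h𝔛.1) :=
    ((DerivedCategory.singleFunctors (FSch.ModF 𝔛 h𝔛.1)).shiftIso i 0 i (add_zero i)).app _
  obtain ⟨ψ, hψ⟩ := (shiftFunctor (DerivedCategory (FSch.ModF 𝔛 h𝔛.1)) i).map_surjective (X := S) (Y := G) (a.hom ≫ φ)
  have h1 : (DerivedCategory.singleFunctor (FSch.ModF 𝔛 h𝔛.1) i).map w.hom ≫ ψ = 0 := he G hG i₀ h0 i hi _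
  have h2 : ψ = 0 := (cancel_epi ((DerivedCategory.singleFunctor (FSch.ModF 𝔛 h𝔛.1) i).map w.hom)).1
    (h1.trans comp_zero.symm)
  rw [h2, Functor.map_zero] at hψ
  exact (cancel_epi a.hom).1 (hψ.symm.trans comp_zero.symm)

end Groth.Agent.S17062
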