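import Groth.Statements.S17065
import Mathlib

set_option autoImplicit false
universe u
open CAlg

namespace Groth.Agent.S17065

/-- The local algebraic statement its proof establishes: let A be a Noetherian ring, I ≤ J radical
ideals and Â the J-adic completion of A. If J^n Â ⊆ I Â for some n, then the closed set V(J) is open
inside V(I) ⊆ Spec A. (Globally: if X₂ ⊆ X₁ are the completions of a locally Noetherian scheme along
nested closed subsets Z₂ ⊆ Z₁ and the ideal of Z₁ generates an ideal of definition of X₂, then X₂ is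
a union of connected components of X₁.) -/
theorem result (A : Type u) [CommRing A] [IsNoetherianRing A]
    (I J : Ideal A) (hIJ : I ≤ J) (hI : I.IsRadical) (hJ : J.IsRadical) (n : ℕ)
    (h : (J ^ n).map (algebraMap A (AdicCompletion J A)) ≤ I.map (algebraMap A (AdicCompletion J A))) :
    IsOpen ((fun x : PrimeSpectrum.zeroLocus (I : Set A) => (x : PrimeSpectrum A)) ⁻¹'
      PrimeSpectrum.zeroLocus (J : Set A)) := by
  classical
  have h1 : J ^ n ≤ I ⊔ J ^ (n + 1) := by
    intro x hx
    have h2 := Ideal.mem_map_of_mem (AdicCompletion.evalₐ J (n + 1)).toRingHom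
      (h (Ideal.mem_map_of_mem (algebraMap A (AdicCompletion J A)) hx))
    rw [Ideal.map_map, AlgHom.toRingHom_eq_coe, AlgHom.comp_algebraMap] at h2
    change (AdicCompletion.evalₐ J (n + 1)) (algebraMap A (AdicCompletion J A) x) ∈ _ at h2
    rw [AlgHom.commutes] at h2
    obtain ⟨y, hy, hyx⟩ := (Ideal.mem_map_iff_of_surjective _ Ideal.Quotient.mk_surjective).1 h2
    have : x - y ∈ J ^ (n + 1) := Ideal.Quotient.eq.1 hyx.symm
    rw [show x = y + (x - y) by ring]
    exact add_mem (Ideal.mem_sup_left hy) (Ideal.mem_sup_right this)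
  let N : Submodule A (A ⧸ I) := Submodule.map (Ideal.Quotient.mkₐ A I).toLinearMap (J ^ n)
  have hN : N ≤ J • N := by
    rintro _ ⟨x, hx, rfl⟩
    obtain ⟨y, hy, z, hz, rfl⟩ := Submodule.mem_sup.1 (h1 hx)
    rw [map_add, show (Ideal.Quotient.mkₐ A I).toLinearMap y = 0 from Ideal.Quotient.eq_zero_iff_mem.2 hy,
      zero_add, show J • N = Submodule.map (Ideal.Quotient.mkₐ A I).toLinearMap (J * J ^ n) by
        simp only [N, ← Submodule.map_smul'']; rfl, ← pow_succ']
    exact Submodule.mem_map_of_mem hz
  obtain ⟨a, ha1, ha⟩ := Submodule.exists_sub_one_mem_and_smul_eq_zero_of_fg_of_le_smul J N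
    ((IsNoetherian.noetherian (J ^ n)).map _) hN
  have hset : ((fun x : PrimeSpectrum.zeroLocus (I : Set A) => (x : PrimeSpectrum A)) ⁻¹'
      PrimeSpectrum.zeroLocus (J : Set A)) =
      ((fun x : PrimeSpectrum.zeroLocus (I : Set A) => (x : PrimeSpectrum A)) ⁻¹'
        (PrimeSpectrum.basicOpen a : Set (PrimeSpectrum A))) := by
    ext ⟨p, hp⟩
    simp only [Set.mem_preimage, PrimeSpectrum.mem_zeroLocus, SetLike.coe_subset_coe, SetLike.mem_coe,
      PrimeSpectrum.mem_basicOpen]
    constructor
    · intro hJp hap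
      exact p.2.ne_top ((Ideal.eq_top_iff_one _).2 (by
        rw [show (1 : A) = a - (a - 1) by ring]; exact sub_mem hap (hJp ha1)))
    · intro hap
      refine fun x hx => p.2.mem_of_pow_mem n ?_
      have h3 : a • (Ideal.Quotient.mkₐ A I).toLinearMap (x ^ n) = 0 :=
        ha _ (Submodule.mem_map_of_mem (Ideal.pow_mem_pow hx n))
      rw [← map_smul] at h3
      exact ((p.2.mem_or_mem (hp (Ideal.Quotient.eq_zero_iff_mem.1 h3))).resolve_left hap)
  rw [hset]
  exact PrimeSpectrum.isOpen_basicOpen.preimage continuous_subtype_val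

end Groth.Agent.S17065
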