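import Groth.Statements.S17066
import Groth.Agent.Lib.PAlg7.Result


set_option autoImplicit false
set_option linter.style.haveILetI false
set_option backward.isDefEq.respectTransparency false
open CategoryTheory CategoryTheory.Limits AlgebraicGeometry
universe u
attribute [local instance] HasDerivedCategory.standard
open FSch

namespace Groth.Agent.S17066

/-- Let A be a Noetherian I-adically complete ring, f : X ⟶ Spec A proper, 𝔛 the completion of X along
the inverse-image ideal of I and κ : 𝔛 ⟶ X the completion morphism of ringed spaces, with κ^* exact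
(κ flat, assumed) and hence defined on unbounded derived categories. Then an object of D(O_𝔛) has
coherent cohomology sheaves if and only if it is isomorphic to κ^*E for some E ∈ D(O_X) whose
cohomology sheaves are coherent (quasi-coherent of finite type). (Full faithfulness of κ^* on such E
is the quasi-coherent case.) -/
theorem result (A : Type u) [CommRing A] [IsNoetherianRing A] (I : Ideal A) [IsAdicComplete I A]
    {X : Scheme.{u}} (f : X ⟶ Spec (CommRingCat.of A)) [IsProper f]
    (𝓘 : X.IdealSheafData) (h𝓘 : 𝓘 = (FSch.idealSpec A I).comap f)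
    (hX : (FSch.completionAlong X 𝓘).IsFormal)
    [PreservesFiniteLimits (FSch.toSchemeMor (FSch.completionAlong X 𝓘) hX (FSch.completionToX X 𝓘) (FSch.completionToX_comm X 𝓘)).pull]
    (G : DerivedCategory (FSch.ModF (FSch.completionAlong X 𝓘) hX)) :
    (∀ i : ℤ, FSch.IsCohF (FSch.completionAlong X 𝓘) hX (SiteCmp.HMod G i)) ↔
      ∃ E : DerivedCategory (ModSite.Mod X.sheaf),
        (∀ i : ℤ, Coh.IsCoh (SiteCmp.HMod E i)) ∧ Nonempty ((SiteCmp.pullD (FSch.toSchemeMor (FSch.completionAlong X 𝓘) hX (FSch.completionToX X 𝓘) (FSch.completionToX_comm X 𝓘))).obj E ≅ G) := by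
  letI : X.Over (Spec (CommRingCat.of A)) := ⟨f⟩
  haveI : IsProper (X ↘ Spec (CommRingCat.of A)) := ‹IsProper f›
  haveI : IsNoetherian X := GrothLib.FCat7.isNoetherian_base A X
  obtain rfl : 𝓘 = GrothLib.FFormal7.baseIdeal I X := h𝓘
  haveI : PreservesFiniteLimits (GrothLib.FMod7.complMor hX).pull := ‹_›
  exact GrothLib.PAlg7.coh_iff_exists_iso I hX G

end Groth.Agent.S17066
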