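import Groth.Statements.S17074
import Groth.Agent.Lib.FCat7.KanExact

set_option autoImplicit false
open CategoryTheory CategoryTheory.Limits
universe v' u' u
open FSch

namespace Groth.Agent.S17074

/-- Let 𝔛 be a Noetherian formal scheme (an adic system of thickenings with locally Noetherian levels
and quasi-compact underlying space); let A_c be the full subcategory of coherent O_𝔛-modules
(assumed, as holds, to contain 0 and to be closed under kernels, cokernels and finite products,
hence abelian) inside the full subcategory A of small filtered colimits of coherent modules. For an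
abelian category A' with exact small filtered colimits and an exact functor G : A_c ⥤ A', the
pointwise left Kan extension of G along the inclusion A_c ⥤ A (assumed to exist; it is the
filtered-colimit-preserving extension of G, whose value at a module M is the colimit of G over the
coherent submodules of M) is exact: it preserves finite limits and finite colimits. (The published
statement assumes 𝔛 only locally Noetherian. On the scheme glued from the spectra of the local rings
ℤ_(p), p ranging over all primes, along their common generic point, viewed as a formal scheme with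
zero ideal of definition, the structure sheaf is the increasing union of the coherent ideals J_n
equal to the unit ideal at the first n closed points and to the maximal ideal at the others; for G
the product over all closed points of the stalk functors, with values in abelian groups, the
extension of G does not carry the epimorphism from the direct sum of the J_n onto the structure
sheaf to an epimorphism. The last step of the published proof needs every coherent module to be a
Noetherian object, so 𝔛 is taken Noetherian here, which is the case in which the lemma is applied.) -/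
theorem result (𝔛 : FSch.Sys.{u}) (h𝔛 : 𝔛.IsLocNoethFormal)
    [CompactSpace (𝔛.X 0)]
    [ObjectProperty.ContainsZero (fun 𝔊 : FSch.ModF 𝔛 h𝔛.1 => FSch.IsCohF 𝔛 h𝔛.1 𝔊)] [ObjectProperty.IsClosedUnderKernels (fun 𝔊 : FSch.ModF 𝔛 h𝔛.1 => FSch.IsCohF 𝔛 h𝔛.1 𝔊)]
    [ObjectProperty.IsClosedUnderCokernels (fun 𝔊 : FSch.ModF 𝔛 h𝔛.1 => FSch.IsCohF 𝔛 h𝔛.1 𝔊)] [ObjectProperty.IsClosedUnderFiniteProducts (fun 𝔊 : FSch.ModF 𝔛 h𝔛.1 => FSch.IsCohF 𝔛 h𝔛.1 𝔊)]
    {A' : Type u'} [Category.{v'} A'] [Abelian A'] [HasFilteredColimitsOfSize.{u, u} A'] [AB5OfSize.{u, u} A']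
    (G : ObjectProperty.FullSubcategory (fun 𝔊 : FSch.ModF 𝔛 h𝔛.1 => FSch.IsCohF 𝔛 h𝔛.1 𝔊) ⥤ A') [PreservesFiniteLimits G] [PreservesFiniteColimits G]
    [(ObjectProperty.ιOfLE (ObjectProperty.le_ind (fun 𝔊 : FSch.ModF 𝔛 h𝔛.1 => FSch.IsCohF 𝔛 h𝔛.1 𝔊) : (fun 𝔊 : FSch.ModF 𝔛 h𝔛.1 => FSch.IsCohF 𝔛 h𝔛.1 𝔊) ≤ ObjectProperty.ind.{u} (fun 𝔊 : FSch.ModF 𝔛 h𝔛.1 => FSch.IsCohF 𝔛 h𝔛.1 𝔊))).HasPointwiseLeftKanExtension G] :
    PreservesFiniteLimits ((ObjectProperty.ιOfLE (ObjectProperty.le_ind (fun 𝔊 : FSch.ModF 𝔛 h𝔛.1 => FSch.IsCohF 𝔛 h𝔛.1 𝔊) : (fun 𝔊 : FSch.ModF 𝔛 h𝔛.1 => FSch.IsCohF 𝔛 h𝔛.1 𝔊) ≤ ObjectProperty.ind.{u} (fun 𝔊 : FSch.ModF 𝔛 h𝔛.1 => FSch.IsCohF 𝔛 h𝔛.1 𝔊))).pointwiseLeftKanExtension G) ∧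
      PreservesFiniteColimits ((ObjectProperty.ιOfLE (ObjectProperty.le_ind (fun 𝔊 : FSch.ModF 𝔛 h𝔛.1 => FSch.IsCohF 𝔛 h𝔛.1 𝔊) : (fun 𝔊 : FSch.ModF 𝔛 h𝔛.1 => FSch.IsCohF 𝔛 h𝔛.1 𝔊) ≤ ObjectProperty.ind.{u} (fun 𝔊 : FSch.ModF 𝔛 h𝔛.1 => FSch.IsCohF 𝔛 h𝔛.1 𝔊))).pointwiseLeftKanExtension G) := GrothLib.FCat7.exact_kan h𝔛 G

end Groth.Agent.S17074
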