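import Groth.Statements.S17076
import Groth.Agent.Lib.IsoLocusBC13.Basic
-- import your own Groth.Agent.* helpers here

set_option autoImplicit false
universe u
open CategoryTheory CategoryTheory.Limits AlgebraicGeometry
open MorSch

namespace Groth.Agent.S17076

/-- Let S be a locally Noetherian scheme, X and Y schemes proper over S with X flat over S, and f : X →
Y an S-morphism. Then there is an open subset S₀ of S such that, for every locally Noetherian scheme
S' and every morphism h : S' → S, the image of h lies in S₀ if and only if the base change X ×_S S'
→ Y ×_S S' of f is an isomorphism. (The published statement also supposes that some fibre of f is an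
isomorphism; that hypothesis only serves to make S₀ nonempty and is not needed.) -/
theorem result
    {S : Scheme.{u}} [IsLocallyNoetherian S] (X Y : Over S) [IsProper X.hom] [IsProper Y.hom]
    [Flat X.hom] (f : X ⟶ Y) :
    ∃ S₀ : S.Opens, ∀ (S' : Scheme.{u}) [IsLocallyNoetherian S'] (h : S' ⟶ S),
      Set.range h ⊆ (S₀ : Set S) ↔ IsIso ((Over.pullback h).map f).left := by
  obtain ⟨S₀, h⟩ := GrothLib.IsoLocusBC13.exists_open_isIso_baseChange X Y f
  exact ⟨S₀, fun S' _ g => h S' g⟩


end Groth.Agent.S17076
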