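import Groth.Statements.S17078
import Groth.Agent.Lib.BinForm.Zero

set_option autoImplicit false
universe u
open RatCurve

namespace Groth.Agent.S17078

/-- Let k be an algebraically closed field and F_0, …, F_{n-1} homogeneous polynomials of degree d in
k[u, v]. Then the F_i have no common factor other than units if and only if there is an integer m ≥
d such that every homogeneous polynomial of degree m can be written Σ_i F_i G_i with each G_i
homogeneous of degree m − d, i.e. the k-linear map (G_i)_i ↦ Σ_i F_i G_i from n copies of k[u,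
v]_{m−d} to k[u, v]_m is surjective. -/
theorem result
    {k : Type u} [Field k] [IsAlgClosed k] {n : ℕ} (F : Fin n → MvPolynomial (Fin 2) k)
    (d : ℕ) (hF : ∀ i, (F i).IsHomogeneous d) :
    (¬ ∃ H : MvPolynomial (Fin 2) k, ¬ IsUnit H ∧ ∀ i, H ∣ F i) ↔
      ∃ m : ℕ, d ≤ m ∧ ∀ P : MvPolynomial (Fin 2) k, P.IsHomogeneous m →
        ∃ G : Fin n → MvPolynomial (Fin 2) k, (∀ i, (G i).IsHomogeneous (m - d)) ∧
          P = ∑ i, F i * G i := by
  classical
  rw [GrothLib.BinForm.common_factor_iff F (fun _ => d) hF]
  have hcomp : ∀ {F : MvPolynomial (Fin 2) k} {a m M : ℕ}, F.IsHomogeneous a → ∀ _c : MvPolynomial (Fin 2) k,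
      a + m = M → MvPolynomial.homogeneousComponent M (F * _c) = F * MvPolynomial.homogeneousComponent m _c := by
    intro F a m M hFa c hM
    subst hM
    conv_lhs => rw [← MvPolynomial.sum_homogeneousComponent c, Finset.mul_sum, map_sum]
    rw [Finset.sum_eq_single m]
    · rw [MvPolynomial.homogeneousComponent_of_mem
        (hFa.mul (MvPolynomial.homogeneousComponent_isHomogeneous m c)), if_pos rfl]
    · intro j _ hj
      rw [MvPolynomial.homogeneousComponent_of_mem
        (hFa.mul (MvPolynomial.homogeneousComponent_isHomogeneous j c)), if_neg (by omega)]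
    · intro hm
      rw [MvPolynomial.homogeneousComponent_eq_zero m c (by simpa using hm), mul_zero, map_zero]
  constructor
  · intro h
    push Not at h
    obtain ⟨N, hN⟩ := GrothLib.BinForm.exists_pow_X_mem F (fun a ha => by
      by_contra h0
      obtain ⟨i, hi⟩ := h a h0
      exact hi (ha i))
    refine ⟨2 * N + d, by omega, fun P hP => ?_⟩
    have hmem : P ∈ Ideal.span (Set.range F) := by
      rw [P.as_sum]
      refine Ideal.sum_mem _ fun e he => ?_
      have hde : e 0 + e 1 = 2 * N + d := by
        have := hP (MvPolynomial.mem_support_iff.mp he)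
        rw [show Finsupp.weight (1 : Fin 2 → ℕ) e = Finsupp.degree e from
          by rw [Finsupp.degree_eq_weight_one]; rfl, Finsupp.degree_eq_sum] at this
        simpa [Fin.sum_univ_two] using this
      obtain ⟨j, hj⟩ : ∃ j, N ≤ e j := by
        by_contra hc
        push Not at hc
        have := hc 0
        have := hc 1
        omega
      rw [show e = Finsupp.single j N + (e - Finsupp.single j N) from
        (add_tsub_cancel_of_le (Finsupp.single_le_iff.mpr hj)).symm,
        MvPolynomial.monomial_single_add]
      exact Ideal.mul_mem_right _ _ (hN j)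
    obtain ⟨c, hc⟩ := (Ideal.mem_span_range_iff_exists_fun).mp hmem
    refine ⟨fun i => MvPolynomial.homogeneousComponent (2 * N + d - d) (c i),
      fun i => MvPolynomial.homogeneousComponent_isHomogeneous _ _, ?_⟩
    conv_lhs => rw [← MvPolynomial.homogeneousComponent_of_mem (m := 2 * N + d) hP |>.trans (if_pos rfl), ← hc,
      map_sum]
    refine Finset.sum_congr rfl fun i _ => ?_
    rw [mul_comm (c i)]
    exact hcomp (hF i) (c i) (by omega)
  · rintro ⟨m, -, hm⟩ ⟨a, ha, hF0⟩
    refine ha (funext fun j => ?_)
    obtain ⟨G, -, hG⟩ := hm _ (MvPolynomial.isHomogeneous_X_pow j m)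
    have := congrArg (MvPolynomial.eval a) hG
    simp [hF0] at this
    exact this.1

end Groth.Agent.S17078
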