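import Groth.Statements.S17079
import Mathlib.CategoryTheory.Comma.Over.Pullback
import Mathlib.AlgebraicGeometry.Pullbacks
-- import your own Groth.Agent.* helpers here

set_option autoImplicit false
universe u
open CategoryTheory CategoryTheory.Limits AlgebraicGeometry
open MorSch

namespace Groth.Agent.S17079

/-- Let gX : X → S and gY : Y → S be morphisms and suppose the functor Mor_S(X, Y) — sending an S-scheme
T to the set of S-morphisms T ×_S X → Y, with base change as transition maps — is represented by an
S-scheme M. Then for every morphism h : S' → S the functor Mor_{S'}(X ×_S S', Y ×_S S') on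
S'-schemes is represented by M ×_S S'. (The published statement assumes X and Y projective over S
with X flat and S, S' locally Noetherian; this row assumes only that the functor is represented by
M. Only the existence of a representing structure on M ×_S S' is asserted, not its compatibility
with the one on M.) -/
theorem result
    {X Y S S' : Scheme.{u}} (gX : X ⟶ S) (gY : Y ⟶ S) (h : S' ⟶ S)
    (M : Over S) (e : (Flatn.morS gX gY).RepresentableBy M) :
    Nonempty ((Flatn.morS (pullback.snd gX h) (pullback.snd gY h)).RepresentableBy
      (Over.mk (pullback.snd M.hom h))) := by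
  let p : ∀ T : Over S', pullback T.hom (pullback.snd gX h) ⟶ pullback (T.hom ≫ h) gX := fun T =>
    pullback.lift (pullback.fst _ _) (pullback.snd _ _ ≫ pullback.fst gX h) (by
      rw [pullback.condition_assoc, Category.assoc, ← pullback.condition])
  let q : ∀ T : Over S', pullback (T.hom ≫ h) gX ⟶ pullback T.hom (pullback.snd gX h) := fun T =>
    pullback.lift (pullback.fst _ _) (pullback.lift (pullback.snd _ _) (pullback.fst _ _ ≫ T.hom)
      (by rw [Category.assoc, pullback.condition])) (by rw [pullback.lift_snd])
  have hpq : ∀ T, p T ≫ q T = 𝟙 _ := fun T => by
    apply pullback.hom_ext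
    · simp only [p, q, Category.assoc, Category.id_comp, pullback.lift_fst, pullback.lift_snd, pullback.lift_fst_assoc, pullback.lift_snd_assoc]
    · apply pullback.hom_ext
      · simp only [p, q, Category.assoc, Category.id_comp, pullback.lift_fst, pullback.lift_snd, pullback.lift_fst_assoc, pullback.lift_snd_assoc]
      · simp only [p, q, Category.assoc, Category.id_comp, pullback.lift_fst, pullback.lift_snd, pullback.lift_fst_assoc, pullback.lift_snd_assoc]
        exact pullback.condition
  have hqp : ∀ T, q T ≫ p T = 𝟙 _ := fun T => by
    apply pullback.hom_ext <;> simp only [p, q, Category.assoc, Category.id_comp, pullback.lift_fst, pullback.lift_snd, pullback.lift_fst_assoc, pullback.lift_snd_assoc]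
  let F : ∀ T : Over S', (Flatn.morS gX gY).obj (Opposite.op ((Over.map h).obj T)) ≃
      (Flatn.morS (pullback.snd gX h) (pullback.snd gY h)).obj (Opposite.op T) := fun T =>
    { toFun := fun c => Over.homMk (pullback.lift (p T ≫ c.left)
          (pullback.snd T.hom (pullback.snd gX h) ≫ pullback.snd gX h) (by
            have hc : c.left ≫ gY = pullback.snd (T.hom ≫ h) gX ≫ gX := Over.w c
            rw [Category.assoc, hc]
            simp only [p, q, Category.assoc, Category.id_comp, pullback.lift_fst, pullback.lift_snd, pullback.lift_fst_assoc, pullback.lift_snd_assoc]
            rw [← pullback.condition])) (pullback.lift_snd _ _ _)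
      invFun := fun b => Over.homMk (q T ≫ b.left ≫ pullback.fst gY h) (by
            have hb : b.left ≫ pullback.snd gY h =
                pullback.snd T.hom (pullback.snd gX h) ≫ pullback.snd gX h := Over.w b
            show (q T ≫ b.left ≫ pullback.fst gY h) ≫ gY = pullback.snd (T.hom ≫ h) gX ≫ gX
            simp only [Category.assoc]
            rw [pullback.condition, reassoc_of% hb]
            simp only [p, q, Category.assoc, Category.id_comp, pullback.lift_fst, pullback.lift_snd, pullback.lift_fst_assoc, pullback.lift_snd_assoc]
            exact pullback.condition)
      left_inv := fun c => Over.OverMorphism.ext (by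
            show q T ≫ pullback.lift (p T ≫ c.left) _ _ ≫ pullback.fst gY h = c.left
            rw [pullback.lift_fst, reassoc_of% (hqp T)])
      right_inv := fun b => Over.OverMorphism.ext (by
            show pullback.lift (p T ≫ q T ≫ b.left ≫ pullback.fst gY h) _ _ = b.left
            apply pullback.hom_ext
            · rw [pullback.lift_fst, reassoc_of% (hpq T)]
            · rw [pullback.lift_snd]; exact (Over.w b).symm) }
  exact ⟨{
    homEquiv := fun {T} => (((Over.mapPullbackAdj h).homEquiv T M).symm.trans e.homEquiv).trans (F T)
    homEquiv_comp := fun {T T'} φ g => by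
      show F T (e.homEquiv (((Over.mapPullbackAdj h).homEquiv T M).symm (φ ≫ g))) = _
      erw [Adjunction.homEquiv_naturality_left_symm, e.homEquiv_comp]
      apply Over.OverMorphism.ext
      apply pullback.hom_ext
      · refine (pullback.lift_fst _ _ _).trans ?_
        refine Eq.trans ?_ ((Category.assoc _ _ _).trans (congrArg (fun z => _ ≫ z) (pullback.lift_fst _ _ _))).symm
        show p T ≫ pullback.lift _ _ _ ≫ _ = pullback.lift _ _ _ ≫ p T' ≫ _
        rw [← Category.assoc, ← Category.assoc]
        congr 1
        apply pullback.hom_ext
        · dsimp only [p, Over.map_map_left, Over.map_obj_hom, Quiver.Hom.unop_op]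
          simp only [Category.assoc]
          erw [pullback.lift_fst, pullback.lift_fst_assoc, pullback.lift_fst, pullback.lift_fst]
        · dsimp only [p, Over.map_map_left, Over.map_obj_hom, Quiver.Hom.unop_op]
          simp only [Category.assoc]
          erw [pullback.lift_snd, pullback.lift_snd, pullback.lift_snd, pullback.lift_snd_assoc]
  -- simp only [p, q, Category.assoc, Category.id_comp, pullback.lift_fst, pullback.lift_snd, pullback.lift_fst_assoc, pullback.lift_snd_assoc]
      · refine (pullback.lift_snd _ _ _).trans ?_
        refine Eq.trans ?_ ((Category.assoc _ _ _).trans (congrArg (fun z => _ ≫ z) (pullback.lift_snd _ _ _))).symm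
        show _ = pullback.lift _ _ _ ≫ _
        rw [← Category.assoc, pullback.lift_snd]
  }⟩


end Groth.Agent.S17079
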