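import Groth.Statements.S17080

-- import your own Groth.Agent.* helpers here

set_option autoImplicit false
universe u
open CategoryTheory CategoryTheory.Limits AlgebraicGeometry
open MorSch

namespace Groth.Agent.S17080

set_option backward.isDefEq.respectTransparency false in
theorem range_pullback_map {X S : Scheme.{u}} (g : X ⟶ S) {T T' : Over S} (φ : T' ⟶ T) :
    Set.range ((Over.pullback g).map φ).left.base = (pullback.fst T.hom g).base ⁻¹' Set.range φ.left.base := by
  have h : IsPullback ((Over.pullback g).map φ).left (pullback.fst T'.hom g) (pullback.fst T.hom g) φ.left := by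
    refine IsPullback.of_right ?_ (by simp) (IsPullback.of_hasPullback T.hom g).flip
    simpa using (IsPullback.of_hasPullback T'.hom g).flip
  rw [← h.isoPullback_hom_fst, Scheme.Hom.comp_base, TopCat.coe_comp, Set.range_comp,
    Set.range_eq_univ.2 h.isoPullback.hom.surjective, Set.image_univ, Scheme.Pullback.range_fst]
  rfl


/-- Let gX : X → S be proper and flat, gY : Y → S separated and j : U → Y an open immersion, and suppose
the functor Mor_S(X, Y) — S-schemes T ↦ S-morphisms T ×_S X → Y — is represented by an S-scheme M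
via e. Then there are an open subset M₀ of M and a representation e₀ of Mor_S(X, U) by the open
subscheme M₀ (viewed over S through M) which is compatible with e: for every S-morphism φ : T → M₀,
the S-morphism T ×_S X → Y classified by φ followed by the inclusion M₀ → M is the S-morphism T ×_S
X → U classified by φ, followed by j. In particular the morphism Mor_S(X, U) → Mor_S(X, Y) induced
by j is an open immersion. (Published for X projective and flat and Y quasi-projective over a
locally Noetherian S, which is how M is known to exist there; representability is taken as a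
hypothesis here.) -/
theorem result
    {X Y U S : Scheme.{u}} (gX : X ⟶ S) [IsProper gX] [Flat gX] (gY : Y ⟶ S) [IsSeparated gY]
    (j : U ⟶ Y) [IsOpenImmersion j] (M : Over S) (e : (Flatn.morS gX gY).RepresentableBy M) :
    ∃ (M₀ : M.left.Opens)
      (e₀ : (Flatn.morS gX (j ≫ gY)).RepresentableBy (Over.mk (M₀.ι ≫ M.hom))),
      ∀ (T : Over S) (φ : T ⟶ Over.mk (M₀.ι ≫ M.hom)),
        (e.homEquiv (φ ≫ Over.homMk M₀.ι rfl) :
            (Over.map gX).obj ((Over.pullback gX).obj T) ⟶ Over.mk gY) =
          (e₀.homEquiv φ : (Over.map gX).obj ((Over.pullback gX).obj T) ⟶ Over.mk (j ≫ gY)) ≫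
            (Over.homMk j rfl : Over.mk (j ≫ gY) ⟶ Over.mk gY) := by
  let E : ∀ {T : Over S}, (T ⟶ M) → ((Over.map gX).obj ((Over.pullback gX).obj T) ⟶ Over.mk gY) := fun φ => e.homEquiv φ
  let Einv : ∀ {T : Over S}, ((Over.map gX).obj ((Over.pullback gX).obj T) ⟶ Over.mk gY) → (T ⟶ M) := fun b => e.homEquiv.symm b
  have hEi : ∀ {T : Over S} (b : (Over.map gX).obj ((Over.pullback gX).obj T) ⟶ Over.mk gY), E (Einv b) = b :=
    fun b => e.homEquiv.apply_symm_apply b
  have hiE : ∀ {T : Over S} (φ : T ⟶ M), Einv (E φ) = φ := fun φ => e.homEquiv.symm_apply_apply φ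
  have hEc : ∀ {T T' : Over S} (f : T' ⟶ T) (φ : T ⟶ M), E (f ≫ φ) = (Over.map gX).map ((Over.pullback gX).map f) ≫ E φ :=
    fun f φ => e.homEquiv_comp f φ
  let u := (E (𝟙 M)).left
  have hu : ∀ {T : Over S} (φ : T ⟶ M),
      (E φ).left =
        ((Over.pullback gX).map φ).left ≫ u := by
    intro T φ
    have h := hEc φ (𝟙 M)
    rw [Category.comp_id] at h
    rw [h]
    rfl
  haveI : IsProper (pullback.fst M.hom gX) := inferInstance
  have hcl : IsClosed ((pullback.fst M.hom gX).base '' (u.base ⁻¹' (Set.range j.base)ᶜ)) :=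
    (pullback.fst M.hom gX).isClosedMap _ (j.opensRange.2.isClosed_compl.preimage u.continuous)
  let M₀ : M.left.Opens := ⟨_, hcl.isOpen_compl⟩
  have hiff : ∀ {T : Over S} (φ : T ⟶ M), Set.range φ.left.base ⊆ (M₀ : Set M.left) ↔
      Set.range (E φ).left.base ⊆ Set.range j.base := by
    intro T φ
    rw [hu φ, Scheme.Hom.comp_base, TopCat.coe_comp, Set.range_comp, range_pullback_map, Set.image_subset_iff]
    constructor
    · intro h w hw
      by_contra hw'
      exact h hw ⟨w, hw', rfl⟩
    · rintro h t ht ⟨w, hw, rfl⟩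
      exact hw (h ht)
  let incl : Over.mk (M₀.ι ≫ M.hom) ⟶ M := Over.homMk M₀.ι rfl
  let jj : Over.mk (j ≫ gY) ⟶ Over.mk gY := Over.homMk j rfl
  haveI : Mono incl := (Over.forget S).mono_of_mono_map (inferInstanceAs (Mono M₀.ι))
  haveI : Mono jj := (Over.forget S).mono_of_mono_map (inferInstanceAs (Mono j))
  have hin : ∀ {T : Over S} (φ : T ⟶ Over.mk (M₀.ι ≫ M.hom)),
      Set.range (E (φ ≫ incl)).left.base ⊆
        Set.range j.base := fun {T} φ => (hiff _).1 (by
      rintro _ ⟨t, rfl⟩
      exact (φ.left.base t).2)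
  have hout : ∀ {T : Over S} (b : (Over.map gX).obj ((Over.pullback gX).obj T) ⟶ Over.mk (j ≫ gY)),
      Set.range (Einv (b ≫ jj)).left.base ⊆ Set.range M₀.ι.base := fun {T} b => by
    rw [Scheme.Opens.range_ι]
    refine (hiff _).2 ?_
    rw [hEi]
    rintro _ ⟨w, rfl⟩
    exact ⟨b.left.base w, rfl⟩
  let F : ∀ {T : Over S}, (T ⟶ Over.mk (M₀.ι ≫ M.hom)) → ((Over.map gX).obj ((Over.pullback gX).obj T) ⟶ Over.mk (j ≫ gY)) :=
    fun {T} φ => Over.homMk (IsOpenImmersion.lift j _ (hin φ)) (by
      show _ ≫ j ≫ gY = _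
      rw [IsOpenImmersion.lift_fac_assoc]
      exact Over.w (E (φ ≫ incl)))
  have hF : ∀ {T : Over S} (φ : T ⟶ Over.mk (M₀.ι ≫ M.hom)),
      F φ ≫ jj = (E (φ ≫ incl)) :=
    fun φ => Over.OverMorphism.ext (IsOpenImmersion.lift_fac _ _ _)
  let e₀ : (Flatn.morS gX (j ≫ gY)).RepresentableBy (Over.mk (M₀.ι ≫ M.hom)) :=
    { homEquiv := fun {T} =>
        { toFun := F
          invFun := fun b => Over.homMk (IsOpenImmersion.lift M₀.ι _ (hout b)) (by
            show _ ≫ M₀.ι ≫ M.hom = _
            rw [IsOpenImmersion.lift_fac_assoc]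
            exact Over.w _)
          left_inv := fun φ => by
            rw [← cancel_mono incl]
            refine Over.OverMorphism.ext ((IsOpenImmersion.lift_fac _ _ _).trans ?_)
            rw [hF, hiE]
          right_inv := fun b => by
            show (F _ : (Over.map gX).obj ((Over.pullback gX).obj T) ⟶ _) = b
            refine (cancel_mono jj).1 ?_
            rw [hF]
            have h : ∀ φ, φ ≫ incl = Einv (b ≫ jj) → E (φ ≫ incl) = b ≫ jj := by
              intro φ h; rw [h, hEi]
            exact h _ (Over.OverMorphism.ext (IsOpenImmersion.lift_fac _ _ _)) }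
      homEquiv_comp := fun {T T'} f φ => by
        show F _ = (Over.map gX).map ((Over.pullback gX).map f) ≫ F φ
        exact (cancel_mono jj).1 (by rw [hF, Category.assoc, hEc, Category.assoc]; exact congrArg (_ ≫ ·) (hF φ).symm) }
  exact ⟨M₀, e₀, fun T φ => (hF φ).symm⟩

end Groth.Agent.S17080
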