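import Groth.Statements.S17082
import Groth.Agent.Lib.HilbBC13.Basic
-- import your own Groth.Agent.* helpers here

set_option autoImplicit false
universe u
open CategoryTheory CategoryTheory.Limits AlgebraicGeometry
open MorSch

namespace Groth.Agent.S17082

/-- Let f : X → S be a separated morphism, j : U → X an open immersion, and (H, Z) a pair representing
the Hilbert functor of X over S on locally Noetherian S-schemes (H locally Noetherian over S; Z ⊆ X
×_S H closed, proper and flat over H; every closed subscheme of X ×_S T proper and flat over a
locally Noetherian S-scheme T is the pullback of Z along a unique S-morphism T → H). Then there are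
an open subset H₀ of H and a closed subscheme Z₀ ⊆ U ×_S H₀, proper and flat over H₀, such that Z₀
is the pullback of Z along the morphism U ×_S H₀ → X ×_S H induced by j and the inclusion of H₀, and
(H₀, Z₀) represents the Hilbert functor of U over S. So the Hilbert scheme of U over S exists and is
an open subscheme of that of X. (Published for X projective and flat over a Noetherian S in the
representable case; this row assumes only X separated over S and takes the Hilbert scheme of X as
given.) -/
theorem result
    {X U S : Scheme.{u}} (f : X ⟶ S) [IsSeparated f] (j : U ⟶ X) [IsOpenImmersion j]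
    (H : Over S) (Z : FGA.HilbSet f H) (hH : FGA.HilbRepresentedBy f H Z) :
    ∃ (H₀ : H.left.Opens) (Z₀ : FGA.HilbSet (j ≫ f) (Over.mk (H₀.ι ≫ H.hom))),
      Z₀.1 = Z.1.comap (pullback.map (j ≫ f) (H₀.ι ≫ H.hom) f H.hom j H₀.ι (𝟙 S)
        (Category.comp_id _) (Category.comp_id _)) ∧
      FGA.HilbRepresentedBy (j ≫ f) (Over.mk (H₀.ι ≫ H.hom)) Z₀ := by
  exact GrothLib.HilbBC13.exists_hilbRepresentedBy_opens f j H Z hH


end Groth.Agent.S17082
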