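import Groth.Statements.S17083
import Groth.Agent.Lib.BlowUp.Universal
import Groth.Agent.Lib.BlowUp.EffCartier
-- import your own Groth.Agent.* helpers here

set_option autoImplicit false
universe u
open CategoryTheory CategoryTheory.Limits AlgebraicGeometry
open MorSch

namespace Groth.Agent.S17083

section Aux

open CategoryTheory CategoryTheory.Limits AlgebraicGeometry GrothLib.BlowUp

theorem inf_eq_mul {X : Scheme.{u}} {I J : X.IdealSheafData} (h : I ⊔ J = ⊤) : I ⊓ J = I * J := by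
  refine Scheme.IdealSheafData.ext (funext fun U => ?_)
  have h' : I.ideal U ⊔ J.ideal U = ⊤ := by
    rw [← Pi.sup_apply, ← Scheme.IdealSheafData.ideal_sup, h, Scheme.IdealSheafData.ideal_top]; rfl
  simp only [Scheme.IdealSheafData.ideal_inf, Pi.inf_apply, Scheme.IdealSheafData.ideal_mul, Pi.mul_apply]
  exact (Ideal.mul_eq_inf_of_coprime h').symm

/-- Off the second centre, the inverse image of the first ideal on the fibre product is effective Cartier. -/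
theorem isEffCartierIdeal_comap_fst {X B₁ B₂ : Scheme.{u}} {I₁ I₂ : X.IdealSheafData} (hdisj : I₁ ⊔ I₂ = ⊤)
    {σ₁ : B₁ ⟶ X} (hσ₁ : _root_.BlowUp.IsBlowUp σ₁ I₁) {σ₂ : B₂ ⟶ X} (hσ₂ : _root_.BlowUp.IsBlowUp σ₂ I₂) :
    _root_.BlowUp.IsEffCartierIdeal (I₁.comap (pullback.fst σ₁ σ₂ ≫ σ₁)) := by
  refine isEffCartierIdeal_of_forall_exists_open fun p => ?_
  let π := pullback.fst σ₁ σ₂ ≫ σ₁
  have hs : ∀ y : X, y ∈ I₁.support → y ∈ I₂.support → False := fun y h1 h2 => by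
    have : (I₁ ⊔ I₂).support = ⊥ := by rw [hdisj, Scheme.IdealSheafData.support_top]
    rw [Scheme.IdealSheafData.support_sup] at this
    have hy : y ∈ ((I₁.support ⊓ I₂.support : TopologicalSpace.Closeds X) : Set X) := ⟨h1, h2⟩
    rw [this] at hy
    exact hy
  by_cases hp : π p ∈ I₁.support
  · let V : X.Opens := I₂.support.compl
    refine ⟨pullback.fst σ₁ σ₂ ⁻¹ᵁ (σ₁ ⁻¹ᵁ V), fun h => hs _ hp h, ?_⟩
    haveI : IsIso (σ₂ ∣_ V) := isIso_off_center hσ₂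
    haveI : IsIso (pullback.fst σ₁ σ₂ ∣_ (σ₁ ⁻¹ᵁ V)) := by
      have big : IsPullback ((pullback.fst σ₁ σ₂ ⁻¹ᵁ (σ₁ ⁻¹ᵁ V)).ι ≫ pullback.snd σ₁ σ₂)
          (pullback.fst σ₁ σ₂ ∣_ (σ₁ ⁻¹ᵁ V)) σ₂ ((σ₁ ⁻¹ᵁ V).ι ≫ σ₁) :=
        (isPullback_morphismRestrict _ _).flip.paste_horiz (IsPullback.of_hasPullback σ₁ σ₂).flip
      rw [← morphismRestrict_ι] at big
      have hc : ((pullback.fst σ₁ σ₂ ⁻¹ᵁ (σ₁ ⁻¹ᵁ V)).ι ≫ pullback.snd σ₁ σ₂) ≫ σ₂ =
          ((pullback.fst σ₁ σ₂ ∣_ (σ₁ ⁻¹ᵁ V)) ≫ σ₁ ∣_ V) ≫ V.ι := by rw [big.w, Category.assoc]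
      let l := (isPullback_morphismRestrict σ₂ V).flip.lift _ _ hc
      have hl : l ≫ (σ₂ ⁻¹ᵁ V).ι = (pullback.fst σ₁ σ₂ ⁻¹ᵁ (σ₁ ⁻¹ᵁ V)).ι ≫ pullback.snd σ₁ σ₂ :=
        IsPullback.lift_fst _ _ _ _
      have hl' : l ≫ (σ₂ ∣_ V) = (pullback.fst σ₁ σ₂ ∣_ (σ₁ ⁻¹ᵁ V)) ≫ σ₁ ∣_ V := IsPullback.lift_snd _ _ _ _
      have small : IsPullback l (pullback.fst σ₁ σ₂ ∣_ (σ₁ ⁻¹ᵁ V)) (σ₂ ∣_ V) (σ₁ ∣_ V) :=
        IsPullback.of_right (by rw [hl]; exact big) hl' (isPullback_morphismRestrict σ₂ V).flip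
      exact MorphismProperty.of_isPullback (P := MorphismProperty.isomorphisms Scheme.{u}) small
        (inferInstanceAs (IsIso (σ₂ ∣_ V)))
    have hcomp : (pullback.fst σ₁ σ₂ ⁻¹ᵁ (σ₁ ⁻¹ᵁ V)).ι ≫ pullback.fst σ₁ σ₂ ≫ σ₁ =
        ((pullback.fst σ₁ σ₂ ∣_ (σ₁ ⁻¹ᵁ V)) ≫ (σ₁ ⁻¹ᵁ V).ι) ≫ σ₁ := by
      rw [morphismRestrict_ι, Category.assoc]
    rw [← Scheme.IdealSheafData.comap_comp, hcomp, Scheme.IdealSheafData.comap_comp]
    exact isEffCartierIdeal_comap_of_flat _ hσ₁.1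
  · refine ⟨π ⁻¹ᵁ I₁.support.compl, hp, ?_⟩
    have : (π ⁻¹ᵁ I₁.support.compl).ι ≫ π = (π ∣_ I₁.support.compl) ≫ (Scheme.Opens.ι I₁.support.compl) :=
      (morphismRestrict_ι _ _).symm
    rw [← Scheme.IdealSheafData.comap_comp, this]
    have h0 : I₁.comap (Scheme.Opens.ι I₁.support.compl) = ⊤ := by
      rw [← Scheme.IdealSheafData.support_eq_bot_iff, Scheme.IdealSheafData.support_comap]
      ext1
      ext x
      simp only [TopologicalSpace.Closeds.coe_preimage, Set.mem_preimage, TopologicalSpace.Closeds.coe_bot,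
        Set.mem_empty_iff_false, iff_false]
      exact x.2
    rw [Scheme.IdealSheafData.comap_comp, h0, Scheme.IdealSheafData.comap_top]
    exact isEffCartierIdeal_top

end Aux


/-- The closed immersion constructed in its proof, as follows. Let X be a scheme, I₁ and I₂
quasi-coherent ideal sheaves on X with I₁ + I₂ = O_X, so that they cut out disjoint closed
subschemes Z₁ and Z₂, let σ : B → X be a blow-up of X in the ideal I₁ ∩ I₂ of Z₁ ∪ Z₂, and let σ₁ :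
B₁ → X and σ₂ : B₂ → X be blow-ups of X in Z₁ and in Z₂ (blow-up in the sense of the universal
property: the inverse image ideal is effective Cartier, finally so). Then there is a morphism ι : B
→ B₁ ×_X B₂ over X which is a closed immersion; the components B → B_i are necessarily the unique
X-morphisms given by the universal properties. (Published for X a projective space over an
algebraically closed field, Z₂ a closed point and Z₁ a finite set of closed points not containing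
it, and iterated there to embed the blow-up at r distinct points as a closed subscheme of the fibre
product over X of the r blow-ups at single points.) -/
theorem result
    {X B B₁ B₂ : Scheme.{u}} (I₁ I₂ : X.IdealSheafData) (hdisj : I₁ ⊔ I₂ = ⊤)
    (σ : B ⟶ X) (hσ : BlowUp.IsBlowUp σ (I₁ ⊓ I₂))
    (σ₁ : B₁ ⟶ X) (hσ₁ : BlowUp.IsBlowUp σ₁ I₁) (σ₂ : B₂ ⟶ X) (hσ₂ : BlowUp.IsBlowUp σ₂ I₂) :
    ∃ ι : B ⟶ pullback σ₁ σ₂, IsClosedImmersion ι ∧ ι ≫ pullback.fst σ₁ σ₂ ≫ σ₁ = σ := by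
  have hmul := inf_eq_mul hdisj
  rw [hmul] at hσ
  obtain ⟨hc1, hc2⟩ := GrothLib.BlowUp.isEffCartierIdeal_factors_of_mul
    (show BlowUp.IsEffCartierIdeal (I₁.comap σ * I₂.comap σ) by rw [← GrothLib.BlowUp.comap_mul]; exact hσ.1)
  obtain ⟨a₁, ha₁, -⟩ := hσ₁.2 B σ hc1
  obtain ⟨a₂, ha₂, -⟩ := hσ₂.2 B σ hc2
  let ι : B ⟶ pullback σ₁ σ₂ := pullback.lift a₁ a₂ (ha₁.trans ha₂.symm)
  have hι : ι ≫ pullback.fst σ₁ σ₂ ≫ σ₁ = σ := by rw [pullback.lift_fst_assoc, ha₁]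
  refine ⟨ι, ?_, hι⟩
  have hP1 := isEffCartierIdeal_comap_fst hdisj hσ₁ hσ₂
  have hP2 : BlowUp.IsEffCartierIdeal (I₂.comap (pullback.fst σ₁ σ₂ ≫ σ₁)) := by
    have h := isEffCartierIdeal_comap_fst (sup_comm I₁ I₂ ▸ hdisj) hσ₂ hσ₁
    have e : pullback.fst σ₁ σ₂ ≫ σ₁ = (pullbackSymmetry σ₁ σ₂).hom ≫ pullback.fst σ₂ σ₁ ≫ σ₂ := by
      rw [pullbackSymmetry_hom_comp_fst_assoc, pullback.condition]
    rw [e, Scheme.IdealSheafData.comap_comp]
    exact GrothLib.BlowUp.isEffCartierIdeal_comap_of_flat _ h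
  obtain ⟨h, hh, -⟩ := hσ.2 _ (pullback.fst σ₁ σ₂ ≫ σ₁)
    (by rw [GrothLib.BlowUp.comap_mul]; exact GrothLib.BlowUp.isEffCartierIdeal_mul hP1 hP2)
  haveI : IsIso ι := by
    refine ⟨h, ?_, ?_⟩
    · refine GrothLib.BlowUp.hom_ext hσ ?_ ?_
      · rw [Category.assoc, hh, hι, Category.id_comp]
      · rw [Category.assoc, hh, hι]; exact hσ.1
    · refine pullback.hom_ext ?_ ?_
      · refine GrothLib.BlowUp.hom_ext hσ₁ ?_ ?_
        · rw [Category.id_comp, Category.assoc, Category.assoc, hι, hh]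
        · rw [Category.assoc, Category.assoc, hι, hh]; exact hP1
      · refine GrothLib.BlowUp.hom_ext hσ₂ ?_ ?_
        · rw [Category.id_comp, Category.assoc, Category.assoc, ← pullback.condition, hι, hh]
        · rw [Category.assoc, Category.assoc, ← pullback.condition, hι, hh]; exact hP2
  infer_instance


end Groth.Agent.S17083
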