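import Groth.Statements.S17084
import Mathlib.AlgebraicGeometry.Limits
import Mathlib.CategoryTheory.Extensive
-- import your own Groth.Agent.* helpers here

set_option autoImplicit false
universe u
open CategoryTheory CategoryTheory.Limits AlgebraicGeometry
open MorSch

namespace Groth.Agent.S17084

/-- Let (X_i)_{i ∈ ι} be a finite family of schemes over S with structure morphisms g_i : X_i → S, let Y
→ S be a scheme over S and T an S-scheme. Then for every family of S-morphisms a_i : T ×_S X_i → Y
there is a unique S-morphism b : T ×_S (∐_i X_i) → Y whose restriction along each T ×_S X_i → T ×_S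
(∐_i X_i) is a_i. In other words the canonical map Mor_S(∐_i X_i, Y) → ∏_i Mor_S(X_i, Y) of functors
on S-schemes is an isomorphism. -/
theorem result
    {S Y : Scheme.{u}} {ι : Type u} [Finite ι] (X : ι → Scheme.{u}) (g : ∀ i, X i ⟶ S)
    (gY : Y ⟶ S) (T : Over S) (a : ∀ i, (Flatn.morS (g i) gY).obj (Opposite.op T)) :
    ∃! b : (Flatn.morS (Sigma.desc g) gY).obj (Opposite.op T),
      ∀ i, pullback.map T.hom (g i) T.hom (Sigma.desc g) (𝟙 T.left) (Sigma.ι X i) (𝟙 S)
          ((Category.comp_id _).trans (Category.id_comp _).symm)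
          ((Category.comp_id _).trans (Sigma.ι_desc g i).symm) ≫ b.left = (a i).left := by
  let j : ∀ i, pullback T.hom (g i) ⟶ pullback T.hom (Sigma.desc g) := fun i =>
    pullback.map T.hom (g i) T.hom (Sigma.desc g) (𝟙 T.left) (Sigma.ι X i) (𝟙 S)
      ((Category.comp_id _).trans (Category.id_comp _).symm)
      ((Category.comp_id _).trans (Sigma.ι_desc g i).symm)
  have hau : IsUniversalColimit (Cofan.mk (∐ X) (Sigma.ι X)) :=
    FinitaryPreExtensive.isUniversal_finiteCoproducts (coproductIsCoproduct X)
  obtain ⟨hc⟩ := hau.nonempty_isColimit_of_pullbackCone_left g (Sigma.desc g) T.hom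
    (fun i => pullback.cone T.hom (g i)) (fun i => pullback.isLimit _ _) (pullback.cone T.hom (Sigma.desc g))
    (pullback.isLimit _ _) (Cofan.mk (pullback T.hom (Sigma.desc g)) j) (Iso.refl _)
    (fun i => Sigma.ι_desc g i) (fun i => by simp [j, pullback.map, Cofan.inj, pullback.lift_fst]) (fun i => by simp [j, pullback.map, Cofan.inj, pullback.lift_snd])
  let b := Cofan.IsColimit.desc hc (fun i => (a i).left)
  have hb : ∀ i, j i ≫ b = (a i).left := fun i => Cofan.IsColimit.fac hc _ i
  refine ⟨Over.homMk b ?_, hb, fun b' hb' => Over.OverMorphism.ext ?_⟩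
  · refine Cofan.IsColimit.hom_ext hc _ _ fun i => ?_
    show j i ≫ b ≫ gY = j i ≫ pullback.snd T.hom (Sigma.desc g) ≫ Sigma.desc g
    rw [reassoc_of% (hb i)]
    show (a i).left ≫ gY = _
    rw [show (a i).left ≫ gY = pullback.snd T.hom (g i) ≫ g i from Over.w (a i)]
    simp [j, pullback.map, pullback.lift_snd_assoc]
  · refine Cofan.IsColimit.hom_ext hc _ _ fun i => ?_
    show j i ≫ b'.left = j i ≫ b
    rw [hb]; exact hb' i


end Groth.Agent.S17084
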