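import Groth.Statements.S17085
import Groth.Agent.Lib.RatCurve12.Basic
-- import your own Groth.Agent.* helpers here

set_option autoImplicit false
set_option linter.style.haveILetI false
universe u
open CategoryTheory CategoryTheory.Limits AlgebraicGeometry
open RatCurve

namespace Groth.Agent.S17085

/-- Let k be an algebraically closed field and C ⊆ P^n_k a closed subscheme which is an integral scheme
of dimension one (a projective curve). Then C is rational — some nonempty open subscheme of C is
isomorphic over k to an open subscheme of the projective line P^1_k — if and only if C is the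
scheme-theoretic image of some k-morphism f : P^1_k → P^n_k, i.e. the ideal sheaf of C in P^n_k is
the kernel ideal sheaf of f. -/
theorem result
    {k : Type u} [Field k] [IsAlgClosed k] {n : ℕ} (C : Scheme.{u})
    (i : C ⟶ CohB1.ProjSpace n k) [IsClosedImmersion i] [IsIntegral C]
    (hdim : topologicalKrullDim C = 1) :
    (∃ (U : C.Opens) (V : (CohB1.ProjSpace 1 k).Opens) (e : (↑U : Scheme.{u}) ≅ ↑V),
        Nonempty U ∧
          e.hom ≫ V.ι ≫ CohB1.ProjSpace.toSpec 1 k = U.ι ≫ i ≫ CohB1.ProjSpace.toSpec n k) ↔
      ∃ f : CohB1.ProjSpace 1 k ⟶ CohB1.ProjSpace n k,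
        f ≫ CohB1.ProjSpace.toSpec n k = CohB1.ProjSpace.toSpec 1 k ∧ f.ker = i.ker := by
  letI : C.Over (Spec (CommRingCat.of k)) := ⟨i ≫ CohB1.ProjSpace.toSpec n k⟩
  haveI := GrothLib.Chow.isProper_toSpec n k
  haveI := GrothLib.Chow.isProper_toSpec 1 k
  haveI : IsProper (C ↘ Spec (CommRingCat.of k)) := inferInstanceAs (IsProper (i ≫ CohB1.ProjSpace.toSpec n k))
  constructor
  · rintro ⟨U, V, e, hne, he⟩
    obtain ⟨g, hg, hgk⟩ := GrothLib.RatCurve12.exists_dominant_of_rational U V e hne he
    haveI := hg
    haveI : IsProper (g ≫ (C ↘ Spec (CommRingCat.of k))) := by rw [hgk]; infer_instance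
    haveI : IsProper g := IsProper.of_comp g (C ↘ Spec (CommRingCat.of k))
    exact ⟨g ≫ i, (Category.assoc _ _ _).trans hgk, GrothLib.RatCurve12.ker_comp_of_dominant g i⟩
  · rintro ⟨f, hfk, hker⟩
    let g := IsClosedImmersion.lift i f hker.ge
    have hfac : g ≫ i = f := IsClosedImmersion.lift_fac _ _ _
    haveI : IsProper (f ≫ CohB1.ProjSpace.toSpec n k) := by rw [hfk]; infer_instance
    haveI : IsProper f := IsProper.of_comp f (CohB1.ProjSpace.toSpec n k)
    haveI : IsProper (g ≫ i) := by rw [hfac]; infer_instance
    haveI : IsProper g := IsProper.of_comp g i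
    have h := congrArg (fun J : Scheme.IdealSheafData _ => (J.support : Set (CohB1.ProjSpace n k))) hker
    simp only [Scheme.Hom.support_ker] at h
    haveI : IsDominant g := ⟨fun x => by
      have hx : i x ∈ closure (Set.range f) := by
        rw [h]
        exact subset_closure ⟨x, rfl⟩
      rw [f.isClosedMap.isClosed_range.closure_eq] at hx
      obtain ⟨w, hw⟩ := hx
      refine subset_closure ⟨w, i.isClosedEmbedding.injective ?_⟩
      rw [← hw, ← hfac]
      rfl⟩
    exact GrothLib.RatCurve12.exists_rational_of_dominant hdim g (by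
      show g ≫ i ≫ _ = _
      rw [← Category.assoc, hfac, hfk])

end Groth.Agent.S17085
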