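import Groth.Statements.S17086
import Groth.Agent.Lib.CurveResol29.PointBlowups
import Groth.Agent.Lib.DualTF27.Proj
import Groth.Agent.Lib.LineFlag12.H0
import Groth.Agent.Lib.ProjIso26.Basic

set_option autoImplicit false
universe u
open CategoryTheory CategoryTheory.Limits AlgebraicGeometry
open RatCurve

namespace Groth.Agent.S17086

/-- Let k be an algebraically closed field, X a closed subscheme of P^n_k, Z ⊆ X a closed subscheme and
σ : B → X a blow-up of X along Z (the inverse image ideal of Z is effective Cartier and σ is final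
with this property). Then every k-morphism f : P^1_k → X whose image is not contained in Z lifts
uniquely along σ: there is exactly one morphism g : P^1_k → B with g ≫ σ = f. Equivalently, over the
open locus of morphisms meeting X ∖ Z, the morphism Mor(P^1_k, B) → Mor(P^1_k, X) induced by σ is a
bijection on k-points. -/
theorem result
    {k : Type u} [Field k] [IsAlgClosed k] {n : ℕ} (X : Scheme.{u})
    (c : X ⟶ CohB1.ProjSpace n k) [IsClosedImmersion c]
    (Z : Scheme.{u}) (iZ : Z ⟶ X) [IsClosedImmersion iZ]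
    (B : Scheme.{u}) (σ : B ⟶ X) (hσ : BlowUp.IsBlowUp σ iZ.ker)
    (f : CohB1.ProjSpace 1 k ⟶ X)
    (hf : f ≫ c ≫ CohB1.ProjSpace.toSpec n k = CohB1.ProjSpace.toSpec 1 k)
    (hfZ : ¬ Set.range f ⊆ Set.range iZ) :
    ∃! g : CohB1.ProjSpace 1 k ⟶ B, g ≫ σ = f := by
  haveI : IsIntegral (CohB1.ProjSpace 1 k) := GrothLib.ProjDim.isIntegral_proj k 1
  haveI : Smooth (CohB1.ProjSpace.toSpec 1 k) := GrothLib.CurveMult.smooth_toSpec 1 k
  haveI : IsLocallyNoetherian (CohB1.ProjSpace 1 k) :=
    LocallyOfFiniteType.isLocallyNoetherian (CohB1.ProjSpace.toSpec 1 k)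
  refine hσ.2 _ f (GrothLib.CurveResol29.isEffCartierIdeal_of_regular_curve
    (GrothLib.DualTF27.isRegular_projSpace k 1) ?_ _ fun h => hfZ ?_)
  · rw [GrothLib.LineFlag12.dim_projSpace]
    rfl
  · rw [Scheme.IdealSheafData.support_comap] at h
    have h1 : f (genericPoint _) ∈ (iZ.ker.support : Set X) := h
    rw [Scheme.Hom.support_ker, iZ.isClosedEmbedding.isClosed_range.closure_eq] at h1
    rintro _ ⟨y, rfl⟩
    exact ((genericPoint_spec (CohB1.ProjSpace 1 k)).specializes (Set.mem_univ y)).map f.continuous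
      |>.mem_closed iZ.isClosedEmbedding.isClosed_range h1

end Groth.Agent.S17086
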