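import Groth.Statements.S17088
import Mathlib
-- import your own Groth.Agent.* helpers here

set_option autoImplicit false
universe u
open CategoryTheory CategoryTheory.Limits AlgebraicGeometry
open MorSch

namespace Groth.Agent.S17088

/-- Let f : X → S be a separated morphism, ι : W → X an immersion and T an S-scheme. For every closed
subscheme V of W ×_S T which is proper and flat over T — a T-point of the Hilbert functor of W over
S — the composite V → W ×_S T → X ×_S T is a closed immersion, and the map sending V to the ideal
sheaf of this composite, from T-points of the Hilbert functor of W to ideal sheaves on X ×_S T, is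
injective: an immersion induces a monomorphism of Hilbert functors. -/
theorem result
    {W X S : Scheme.{u}} (f : X ⟶ S) [IsSeparated f] (ι : W ⟶ X) [IsImmersion ι]
    (T : Over S) :
    (∀ V : FGA.HilbSet (ι ≫ f) T,
      IsClosedImmersion (V.1.subschemeι ≫ pullback.map (ι ≫ f) T.hom f T.hom ι (𝟙 T.left) (𝟙 S)
          (Category.comp_id _) ((Category.comp_id _).trans (Category.id_comp _).symm))) ∧
    Function.Injective (fun V : FGA.HilbSet (ι ≫ f) T =>
      (V.1.subschemeι ≫ pullback.map (ι ≫ f) T.hom f T.hom ι (𝟙 T.left) (𝟙 S)
          (Category.comp_id _) ((Category.comp_id _).trans (Category.id_comp _).symm)).ker) := by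
  let m := pullback.map (ι ≫ f) T.hom f T.hom ι (𝟙 T.left) (𝟙 S)
    (Category.comp_id _) ((Category.comp_id _).trans (Category.id_comp _).symm)
  haveI : Mono ι := inferInstance
  haveI : Mono m := ⟨fun a b h => pullback.hom_ext
    (by
      rw [← cancel_mono ι]
      have := congrArg (· ≫ pullback.fst f T.hom) h
      simp only [m, Category.assoc, pullback.map, pullback.lift_fst, pullback.lift_snd, Category.comp_id] at this
      simpa using this)
    (by
      have := congrArg (· ≫ pullback.snd f T.hom) h
      simp only [m, Category.assoc, pullback.map, pullback.lift_fst, pullback.lift_snd, Category.comp_id] at this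
      simpa using this)⟩
  have hcl : ∀ V : FGA.HilbSet (ι ≫ f) T, IsClosedImmersion (V.1.subschemeι ≫ m) := fun V => by
    haveI := V.2.1
    have e : (V.1.subschemeι ≫ m) ≫ pullback.snd f T.hom = V.1.subschemeι ≫ PicF.XTproj (ι ≫ f) T := by
      rw [Category.assoc, pullback.lift_snd, Category.comp_id]
    haveI : IsProper ((V.1.subschemeι ≫ m) ≫ pullback.snd f T.hom) := by rw [e]; infer_instance
    haveI : IsProper (V.1.subschemeι ≫ m) := IsProper.of_comp _ (pullback.snd f T.hom)
    haveI : Mono V.1.subschemeι := inferInstance
    exact (IsClosedImmersion.iff_isProper_and_mono _).2 ⟨inferInstance, inferInstance⟩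
  refine ⟨hcl, fun V V' h => ?_⟩
  haveI := hcl V
  haveI := hcl V'
  have h' : (V.1.subschemeι ≫ m).ker = (V'.1.subschemeι ≫ m).ker := h
  have e1 := IsClosedImmersion.lift_fac (V.1.subschemeι ≫ m) (V'.1.subschemeι ≫ m) h'.le
  have e2 := IsClosedImmersion.lift_fac (V'.1.subschemeι ≫ m) (V.1.subschemeι ≫ m) h'.ge
  rw [← Category.assoc, cancel_mono] at e1 e2
  apply Subtype.ext
  rw [← V.1.ker_subschemeι, ← V'.1.ker_subschemeι]
  refine le_antisymm ?_ ?_
  · conv_rhs => rw [← e1]
    exact Scheme.Hom.le_ker_comp _ _
  · conv_rhs => rw [← e2]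
    exact Scheme.Hom.le_ker_comp _ _

end Groth.Agent.S17088
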