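import Groth.Statements.S17089
import Groth.Agent.Lib.UnipNorm3.Main

set_option autoImplicit false
set_option linter.all false
universe u
open CategoryTheory MonoidalCategory CartesianMonoidalCategory MonObj GrpObj AlgebraicGeometry
open AGF

namespace Groth.Agent.S17089

/-- Let k be a field, U' an affine, smooth, connected k-group scheme whose geometric fibre contains no
non-trivial subtorus (a smooth connected unipotent group), i : U ⟶ U' a closed subgroup scheme which
is smooth and connected and whose inclusion is not an isomorphism, and n : N ⟶ U' the normalizer of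
U in U'. Then N is strictly larger than U: the inclusion of N does not factor through U. -/
theorem result (k : Type u) [Field k]
    (U' : Over (Spec (CommRingCat.of k))) [GrpObj U'] [IsAffine U'.left] [Smooth U'.hom] [ConnectedSpace ↥U'.left]
    (hU' : ∀ s : ↥(Spec (CommRingCat.of k)),
      Red.HasNoSubtorus (AlgebraicClosure ((Spec (CommRingCat.of k)).residueField s)) (Red.geomFibre s U'))
    (U : Over (Spec (CommRingCat.of k))) [GrpObj U] (i : U ⟶ U') [IsMonHom i] (hi : IsClosedImmersion i.left)
    [Smooth U.hom] [ConnectedSpace ↥U.left] (hne : ¬ IsIso i.left)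
    (N : Over (Spec (CommRingCat.of k))) [GrpObj N] (n : N ⟶ U') (hn : Red.IsNormalizerOf i n) :
    ¬ ∃ f : N ⟶ U, f ≫ i = n := by
  haveI := hi
  haveI : GeometricallyReduced U'.hom := GrothLib.Rigidity.geometricallyReduced_of_smooth' U'.hom
  refine GrothLib.UnipNorm3.normalizer_not_le i (GrothLib.UnipNorm3.isNilpotentGrp_of_noSubtorus U' hU') ?_ hn
  rintro ⟨l, hl⟩
  haveI : Mono i.left := inferInstance
  have h1 : l.left ≫ i.left = 𝟙 _ := by rw [← Over.comp_left, hl]; rfl
  exact hne ⟨l.left, by rw [← cancel_mono i.left, Category.assoc, h1, Category.comp_id, Category.id_comp], h1⟩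

end Groth.Agent.S17089
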