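import Groth.Statements.S1709
import Groth.Agent.Lib.AssPts.Points

set_option autoImplicit false
universe u
open CategoryTheory CategoryTheory.Limits AlgebraicGeometry TopologicalSpace
open SDiv

namespace Groth.Agent.S1709

/-- Let f : X ⟶ S be an affine morphism with X locally Noetherian and F a quasi-coherent module on X.
Then the following subsets of S coincide: the image of the associated points of F, the associated
points of f_* F, the weakly associated points of f_* F, and the image of the weakly associated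
points of F. -/
theorem result {X S : Scheme.{u}} (f : X ⟶ S) [IsAffineHom f] [IsLocallyNoetherian X] (F : X.Modules)
    (hF : Coh.IsQCoh F) :
    (fun x => f x) '' {x : ↥X | Curv2.IsAssPoint F x} = {s : ↥S | Curv2.IsAssPoint ((Scheme.Modules.pushforward f).obj F) s} ∧
      {s : ↥S | Curv2.IsAssPoint ((Scheme.Modules.pushforward f).obj F) s} =
        {s : ↥S | Curv2.IsWeakAssPoint ((Scheme.Modules.pushforward f).obj F) s} ∧
      {s : ↥S | Curv2.IsWeakAssPoint ((Scheme.Modules.pushforward f).obj F) s} =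
        (fun x => f x) '' {x : ↥X | Curv2.IsWeakAssPoint F x} := by
  haveI := hF
  have hpush : ∀ x : X, Curv2.IsWeakAssPoint F x →
      Curv2.IsWeakAssPoint ((Scheme.Modules.pushforward f).obj F) (f x) := by
    intro x hx
    obtain ⟨_, ⟨V, hV, rfl⟩, hxV, -⟩ :=
      S.isBasis_affineOpens.exists_subset_of_mem_open (Set.mem_univ (f x)) isOpen_univ
    have hV : IsAffineOpen V := hV
    haveI := IsLocallyNoetherian.component_noetherian (X := X) ⟨f ⁻¹ᵁ V, hV.preimage f⟩
    let _ := (f.app V).hom.toAlgebra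
    refine GrothLib.AssPts.isWeakAssPoint_push f F hV (hV.preimage f) hxV (fun N _ _ _ _ => ?_) hx
    rw [GrothLib.AssPts.weakAss_eq_associatedPrimes, ← GrothLib.AssPts.associatedPrimes_eq_image (A := Γ(S, V))]
    rintro p ⟨hpp, m, hm⟩
    refine GrothLib.AssPts.mem_weakAss_iff.mpr ⟨m, ?_⟩
    rw [← Ideal.radical_minimalPrimes, ← hm, Ideal.minimalPrimes_eq_subsingleton_self]
    rfl
  simp only [GrothLib.WeakAss.isAssPoint_iff_isWeakAssPoint]
  refine ⟨?_, trivial, ?_⟩
  · ext s
    exact ⟨by rintro ⟨x, hx, rfl⟩; exact hpush x hx, fun hs =>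
      let ⟨x, hxs, hx⟩ := GrothLib.AssPts.weakAss_push_subset f F hs; ⟨x, hx, hxs⟩⟩
  · ext s
    exact ⟨fun hs => let ⟨x, hxs, hx⟩ := GrothLib.AssPts.weakAss_push_subset f F hs; ⟨x, hx, hxs⟩,
      by rintro ⟨x, hx, rfl⟩; exact hpush x hx⟩

end Groth.Agent.S1709
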