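import Groth.Statements.S17090
import Groth.Agent.Lib.UnipNorm3.Main

set_option autoImplicit false
set_option linter.all false
universe u
open CategoryTheory MonoidalCategory CartesianMonoidalCategory MonObj GrpObj AlgebraicGeometry
open AGF

namespace Groth.Agent.S17090

/-- The particular case of codimension one: let k be a field, U' an affine, smooth, connected k-group
scheme whose geometric fibre contains no non-trivial subtorus (a smooth connected unipotent group)
and i : U ⟶ U' a closed subgroup scheme which is smooth and connected. If dim U' = dim U + 1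
(dimensions of the underlying topological spaces), then U is a normal subgroup of U'. -/
theorem result (k : Type u) [Field k]
    (U' : Over (Spec (CommRingCat.of k))) [GrpObj U'] [IsAffine U'.left] [Smooth U'.hom] [ConnectedSpace ↥U'.left]
    (hU' : ∀ s : ↥(Spec (CommRingCat.of k)),
      Red.HasNoSubtorus (AlgebraicClosure ((Spec (CommRingCat.of k)).residueField s)) (Red.geomFibre s U'))
    (U : Over (Spec (CommRingCat.of k))) [GrpObj U] (i : U ⟶ U') [IsMonHom i] (hi : IsClosedImmersion i.left)
    [Smooth U.hom] [ConnectedSpace ↥U.left]
    (d : ℕ) (hd : topologicalKrullDim ↥U.left = (d : WithBot ℕ∞))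
    (hd' : topologicalKrullDim ↥U'.left = ((d + 1 : ℕ) : WithBot ℕ∞)) :
    AlgGrp.IsNormalHom i := by
  haveI := hi
  exact GrothLib.UnipNorm3.isNormalHom_of_dim i (GrothLib.UnipNorm3.isNilpotentGrp_of_noSubtorus U' hU') d hd hd'

end Groth.Agent.S17090
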