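import Groth.Statements.S17091
import Groth.Agent.Lib.Flag27.UnipRad

set_option autoImplicit false
universe u
open CategoryTheory MonoidalCategory CartesianMonoidalCategory MonObj GrpObj AlgebraicGeometry
open AGF

namespace Groth.Agent.S17091

/-- Let k be an algebraically closed field, G an affine, smooth, connected k-group scheme, u : U ⟶ G its
unipotent radical (the largest normal closed subgroup scheme of G, smooth and quasi-compact over k,
whose geometric fibre is connected and contains no non-trivial subtorus), B a Borel subgroup of G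
and v : V ⟶ B the unipotent radical of B. Then U is contained in V: u factors through v. -/
theorem result (k : Type u) [Field k] [IsAlgClosed k]
    (G : Over (Spec (CommRingCat.of k))) [GrpObj G] [IsAffine G.left] [Smooth G.hom] [ConnectedSpace ↥G.left]
    (U : Over (Spec (CommRingCat.of k))) [GrpObj U] (u : U ⟶ G) (hU : Par.IsUnipotentRadical u)
    (B : Over (Spec (CommRingCat.of k))) [GrpObj B] (iB : B ⟶ G) (hB : Red.IsBorelOver k iB)
    (V : Over (Spec (CommRingCat.of k))) [GrpObj V] (v : V ⟶ B) (hV : Par.IsUnipotentRadical v) :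
    ∃ f : U ⟶ V, f ≫ v ≫ iB = u := by
  obtain ⟨hum, huc, hun, hus, huq, hug, -⟩ := hU
  haveI := hum; haveI := huc; haveI := hus
  obtain ⟨hUc, hUn⟩ := GrothLib.Flag27.geomFibre_conditions.1 hug
  haveI := hUc
  haveI : IsAffine U.left := isAffine_of_isAffineHom u.left
  obtain ⟨g, l, hl⟩ := GrothLib.Flag27.exists_conj_unip_into_borel hB u hUn
  obtain ⟨hi, hic, -⟩ := id hB
  haveI := hi; haveI := hic
  haveI : Mono iB := Over.mono_of_mono_left iB
  obtain ⟨e, he⟩ := hun U (toUnit U ≫ g⁻¹) (𝟙 U)
  have hu' : (e ≫ l) ≫ iB = u := by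
    rw [Category.assoc, hl, GrothLib.Flag27.comp_conjBy', ← he, Category.id_comp,
      show (toUnit U ≫ g⁻¹) * u * (toUnit U ≫ g⁻¹)⁻¹ = AGF.conjBy g⁻¹ u from rfl,
      GrothLib.Flag27.conjBy_conjBy, mul_inv_cancel, GrothLib.Flag27.conjBy_one]
  obtain ⟨-, -, -, -, -, -, hVu⟩ := hV
  generalize e ≫ l = j at hu'
  haveI : IsMonHom (j ≫ iB) := by rw [hu']; exact hum
  haveI : IsMonHom j := GrothLib.CentMT14.isMonHom_of_comp j iB
  haveI : IsClosedImmersion (j.left ≫ iB.left) := by rw [← Over.comp_left, hu']; exact huc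
  have hjc : IsClosedImmersion j.left := IsClosedImmersion.of_comp j.left iB.left
  have hjn : AlgGrp.IsNormalHom j := fun T x n => by
    obtain ⟨n', hn'⟩ := hun T (x ≫ iB) n
    refine ⟨n', ?_⟩
    rw [← cancel_mono iB, MonObj.mul_comp, MonObj.mul_comp, GrpObj.inv_comp, Category.assoc, Category.assoc, hu']
    exact hn'
  obtain ⟨f, hf⟩ := hVu U j hjc hjn hus huq hug
  exact ⟨f, by rw [← Category.assoc, hf, hu']⟩

end Groth.Agent.S17091
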