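import Groth.Statements.S17092
import Groth.Agent.Lib.Flag27.UnipRadBorels

set_option autoImplicit false
universe u
open CategoryTheory MonoidalCategory CartesianMonoidalCategory MonObj GrpObj AlgebraicGeometry
open AGF

namespace Groth.Agent.S17092

/-- Let k be an algebraically closed field, G an affine, smooth, connected k-group scheme, u : U ⟶ G its
unipotent radical (the largest normal closed subgroup scheme, smooth and quasi-compact over k, whose
geometric fibre is connected and contains no non-trivial subtorus), T a maximal torus of G and j : H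
⟶ G a closed subgroup scheme which is smooth and connected. If H lies in the unipotent radical of
every Borel subgroup of G containing T, then H lies in U: j factors through u. (Together with the
inclusion of U in the unipotent radical of every Borel subgroup of G, this says that the identity
component of the reduced intersection of the unipotent radicals of the Borel subgroups containing T
is U; it is trivial when G is reductive.) -/
theorem result (k : Type u) [Field k] [IsAlgClosed k]
    (G : Over (Spec (CommRingCat.of k))) [GrpObj G] [IsAffine G.left] [Smooth G.hom] [ConnectedSpace ↥G.left]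
    (U : Over (Spec (CommRingCat.of k))) [GrpObj U] (u : U ⟶ G) (hU : Par.IsUnipotentRadical u)
    (T : Over (Spec (CommRingCat.of k))) [GrpObj T] (iT : T ⟶ G) (hT : AGF.IsMaxTorus iT)
    (H : Over (Spec (CommRingCat.of k))) [GrpObj H] (j : H ⟶ G) [IsMonHom j] (hj : IsClosedImmersion j.left)
    [Smooth H.hom] [ConnectedSpace ↥H.left]
    (hH : ∀ (B : Over (Spec (CommRingCat.of k))) [GrpObj B] (iB : B ⟶ G) (t : T ⟶ B), Red.IsBorelOver k iB → t ≫ iB = iT →
      ∀ (V : Over (Spec (CommRingCat.of k))) [GrpObj V] (v : V ⟶ B), Par.IsUnipotentRadical v → ∃ f : H ⟶ V, f ≫ v ≫ iB = j) :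
    ∃ g : H ⟶ U, g ≫ u = j := by
  classical
  haveI := hT.1; haveI := hT.2.1
  haveI := hj
  haveI : IsAffine H.left := isAffine_of_isAffineHom j.left
  haveI : Mono j := Over.mono_of_mono_left j
  obtain ⟨B, _, iB, t, hB, ht⟩ := GrothLib.Flag27.exists_borel_containing iT (by exact hT.2.2.1)
  obtain ⟨V, _, v, hV⟩ := GrothLib.Flag27.exists_unipRad_borel hB
  obtain ⟨f, hf⟩ := hH B iB t hB ht V v hV
  have hHn : Red.HasNoSubtorus k H := by
    obtain ⟨hvm, hvc, -, -, -, hvg, -⟩ := hV
    haveI := hvm; haveI := hvc; haveI := hB.1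
    haveI : IsMonHom (f ≫ v ≫ iB) := by rw [hf]; infer_instance
    haveI : IsClosedImmersion iB.left := hB.2.1
    haveI : Mono v := Over.mono_of_mono_left v
    haveI : Mono iB := Over.mono_of_mono_left iB
    haveI : Mono (v ≫ iB) := mono_comp _ _
    haveI : IsMonHom f := GrothLib.CentMT14.isMonHom_of_comp f (v ≫ iB)
    haveI : Mono (f ≫ v ≫ iB) := by rw [hf]; infer_instance
    haveI : Mono f := mono_of_mono f (v ≫ iB)
    exact GrothLib.Flag27.hasNoSubtorus_of_mono f (GrothLib.Flag27.geomFibre_conditions.1 hvg).2
  refine GrothLib.Flag27.exists_factor_unipRad hU hT (GrothLib.Flag27.isUnip_of_noSubtorus hHn).1 j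
    fun B' _ iB' hB' ht' w => ?_
  obtain ⟨t', ht'⟩ := ht'
  obtain ⟨V', _, v', hV'⟩ := GrothLib.Flag27.exists_unipRad_borel hB'
  obtain ⟨f', hf'⟩ := hH B' iB' t' hB' ht' V' v' hV'
  exact ⟨w ≫ f' ≫ v', by rw [Category.assoc, Category.assoc, hf']⟩

end Groth.Agent.S17092
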