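import Groth.Statements.S17096
import Groth.Agent.Lib.SelfCent3.Preimage
import Groth.Agent.Lib.Flag27.Geom
import Groth.Agent.Lib.Chev24.PerfChev
-- import your own Groth.Agent.* helpers here

set_option autoImplicit false
set_option linter.style.haveILetI false
set_option backward.isDefEq.respectTransparency false
universe u
open CategoryTheory CategoryTheory.Limits MonoidalCategory CartesianMonoidalCategory MonObj GrpObj AlgebraicGeometry
open AGF

namespace Groth.Agent.S17096

/-- Base change of a central subgroup is central. -/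
theorem central_bc {S S' : Scheme.{u}} (q : S' ⟶ S) {G K : Over S} [GrpObj G] (iK : K ⟶ G)
    (h : (fst K G ≫ iK) * snd K G = snd K G * (fst K G ≫ iK))
    (X : Over S') (x : X ⟶ (Over.pullback q).obj K) (g : X ⟶ Red.bc q G) :
    (x ≫ (Over.pullback q).map iK) * g = g * (x ≫ (Over.pullback q).map iK) := by
  have h1 := congrArg (fun v => (lift x g ≫ Functor.LaxMonoidal.μ (Over.pullback q) K G) ≫ (Over.pullback q).map v) h
  simp only [Functor.map_mul, Functor.map_comp, MonObj.comp_mul, Category.assoc, Functor.Monoidal.μ_fst_assoc,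
    Functor.Monoidal.μ_snd, Functor.Monoidal.μ_fst, lift_fst_assoc, lift_snd] at h1
  exact h1


/-- Let k be a field, H' and H reductive k-group schemes and f : H' ⟶ H a central isogeny: a surjective
homomorphism whose kernel K ⟶ H' has finitely many points, all central in H'. Let i : T ⟶ H be a
maximal torus and i' : T' ⟶ H' its scheme-theoretic preimage (the square T' ⟶ H' ⟶ H, T' ⟶ T ⟶ H is
cartesian), with its induced subgroup structure. Then T' is a maximal torus of H'. -/
theorem result (k : Type u) [Field k]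
    (H' H : Over (Spec (CommRingCat.of k))) [GrpObj H'] [GrpObj H] (hH' : Red.IsReductive H') (hH : Red.IsReductive H)
    (f : H' ⟶ H) [IsMonHom f] (hf : Surjective f.left)
    (K : Over (Spec (CommRingCat.of k))) [GrpObj K] (iK : K ⟶ H') (hK : AlgGrp.IsKernel iK f) (hKf : Finite ↥K.left)
    (hKc : ∀ (X : Over (Spec (CommRingCat.of k))) (x : X ⟶ K) (X' : Over (Spec (CommRingCat.of k))) (y : X' ⟶ X) (h : X' ⟶ H'),
      (y ≫ x ≫ iK) * h = h * (y ≫ x ≫ iK))
    (T : Over (Spec (CommRingCat.of k))) [GrpObj T] (i : T ⟶ H) (hT : Red.IsMaximalTorus i)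
    (T' : Over (Spec (CommRingCat.of k))) [GrpObj T'] (i' : T' ⟶ H') [IsMonHom i'] (p : T' ⟶ T) (hsq : IsPullback i' p f i) :
    Red.IsMaximalTorus i' := by
  haveI hHa : IsAffine H.left := @isAffine_of_isAffineHom _ _ H.hom hH.1 _
  haveI hH'a : IsAffine H'.left := @isAffine_of_isAffineHom _ _ H'.hom hH'.1 _
  haveI : IsAffineHom H.hom := hH.1
  haveI : IsAffineHom H'.hom := hH'.1
  haveI : Smooth H.hom := hH.2.1
  haveI : Smooth H'.hom := hH'.2.1
  obtain ⟨him, himono, hTt, hgeo⟩ := hT
  haveI := him; haveI := himono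
  haveI : Mono i' := hsq.mono_fst_of_mono
  have key : ∀ s : ↥(Spec (CommRingCat.of k)), Red.IsMaximalTorus ((Over.pullback (Red.geomPt s)).map i') := fun s => by
    obtain ⟨ha', hs', hc', -⟩ := hH'.2.2 s
    obtain ⟨ha, hs₀, hc₀, -⟩ := hH.2.2 s
    haveI := ha'; haveI := hs'; haveI := hc'; haveI := ha; haveI := hs₀; haveI := hc₀
    let q := Red.geomPt s
    haveI : (Over.pullback q).IsRightAdjoint := (Over.mapPullbackAdj _).isRightAdjoint
    haveI : Surjective ((Over.pullback q).map f).left := GrothLib.Flag27.property_map q f hf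
    have hR := GrothLib.SelfCent3.isReductive_of_over (hH'.2.2 s)
    haveI : LocallyOfFiniteType ((Over.pullback q).obj H').hom := inferInstanceAs (LocallyOfFiniteType (pullback.snd H'.hom q))
    have hcen : (fst K H' ≫ iK) * snd K H' = snd K H' * (fst K H' ≫ iK) := by
      simpa only [Category.id_comp] using hKc _ (fst K H') _ (𝟙 _) (snd K H')
    haveI : Mono ((Over.pullback q).map i) := Functor.map_mono _ i
    have hTK : Red.IsMaximalTorus ((Over.pullback q).map i) := GrothLib.Flag27.isMaximalTorus_of_isMaxTorus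
      ⟨inferInstance, inferInstance, GrothLib.Flag27.isTorus_bc_field q hTt,
        fun R _ r _ _ φ hR' hφ => hgeo s R r φ hR' hφ⟩
    exact GrothLib.SelfCent3.isMaximalTorus_preimage hR ((Over.pullback q).map f)
      (GrothLib.Chev24.isKernel_bc q iK f hK) (fun X x h => central_bc q iK hcen X x h) hTK
      (hsq.map (Over.pullback q))
  haveI : ∀ s : ↥(Spec (CommRingCat.of k)), LocallyOfFiniteType ((Over.pullback (Red.geomPt s)).obj H').hom := fun s =>
    inferInstanceAs (LocallyOfFiniteType (pullback.snd H'.hom (Red.geomPt s)))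
  refine ⟨inferInstance, inferInstance,
    GrothLib.UnipFix19.isTorus_of_bc_field _ (key (IsLocalRing.closedPoint k)).2.2.1, fun s R _ r _ _ φ hR hφ => ?_⟩
  exact (GrothLib.Chev24.isMaxTorus_of_isMaximalTorus (key s)).2.2.2 R r φ hR hφ

end Groth.Agent.S17096
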