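import Groth.Statements.S17097
import Groth.Agent.Lib.SelfCent3.Preimage
import Groth.Agent.Lib.Flag27.Geom
import Groth.Agent.Lib.Chev24.PerfChev
-- import your own Groth.Agent.* helpers here

set_option autoImplicit false
set_option linter.style.haveILetI false
set_option backward.isDefEq.respectTransparency false
universe u
open CategoryTheory CategoryTheory.Limits MonoidalCategory CartesianMonoidalCategory MonObj GrpObj AlgebraicGeometry
open AGF

namespace Groth.Agent.S17097

/-- Base change of a central subgroup is central. -/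
theorem central_bc {S S' : Scheme.{u}} (q : S' ⟶ S) {G K : Over S} [GrpObj G] (iK : K ⟶ G)
    (h : (fst K G ≫ iK) * snd K G = snd K G * (fst K G ≫ iK))
    (X : Over S') (x : X ⟶ (Over.pullback q).obj K) (g : X ⟶ Red.bc q G) :
    (x ≫ (Over.pullback q).map iK) * g = g * (x ≫ (Over.pullback q).map iK) := by
  have h1 := congrArg (fun v => (lift x g ≫ Functor.LaxMonoidal.μ (Over.pullback q) K G) ≫ (Over.pullback q).map v) h
  simp only [Functor.map_mul, Functor.map_comp, MonObj.comp_mul, Category.assoc, Functor.Monoidal.μ_fst_assoc,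
    Functor.Monoidal.μ_snd, Functor.Monoidal.μ_fst, lift_fst_assoc, lift_snd] at h1
  exact h1


/-- Let k be a field, H' and H reductive k-group schemes and f : H' ⟶ H a central isogeny: a surjective
homomorphism whose kernel K ⟶ H' has finitely many points, all central in H'. Then every maximal
torus j : S' ⟶ H' is the scheme-theoretic preimage of a maximal torus of H: there are a maximal
torus i : T ⟶ H and a morphism S' ⟶ T making the square with j, f and i cartesian. -/
theorem result (k : Type u) [Field k]
    (H' H : Over (Spec (CommRingCat.of k))) [GrpObj H'] [GrpObj H] (hH' : Red.IsReductive H') (hH : Red.IsReductive H)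
    (f : H' ⟶ H) [IsMonHom f] (hf : Surjective f.left)
    (K : Over (Spec (CommRingCat.of k))) [GrpObj K] (iK : K ⟶ H') (hK : AlgGrp.IsKernel iK f) (hKf : Finite ↥K.left)
    (hKc : ∀ (X : Over (Spec (CommRingCat.of k))) (x : X ⟶ K) (X' : Over (Spec (CommRingCat.of k))) (y : X' ⟶ X) (h : X' ⟶ H'),
      (y ≫ x ≫ iK) * h = h * (y ≫ x ≫ iK))
    (S' : Over (Spec (CommRingCat.of k))) [GrpObj S'] (j : S' ⟶ H') (hS' : Red.IsMaximalTorus j) :
    ∃ (T : Over (Spec (CommRingCat.of k))) (_ : GrpObj T) (i : T ⟶ H) (p : S' ⟶ T),
      Red.IsMaximalTorus i ∧ IsPullback j p f i := by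
  haveI hHa : IsAffine H.left := @isAffine_of_isAffineHom _ _ H.hom hH.1 _
  haveI hH'a : IsAffine H'.left := @isAffine_of_isAffineHom _ _ H'.hom hH'.1 _
  haveI : IsAffineHom H.hom := hH.1
  haveI : IsAffineHom H'.hom := hH'.1
  haveI : Smooth H.hom := hH.2.1
  haveI : Smooth H'.hom := hH'.2.1
  obtain ⟨hjm, hjmono, hSt, hgeo⟩ := hS'
  haveI := hjm; haveI := hjmono
  obtain ⟨hjc, hSa, hSs, -⟩ := GrothLib.Flag27.torus_facts hSt j
  haveI := hjc; haveI := hSa; haveI := hSs
  haveI : IsAffineHom S'.hom := isAffineHom_of_isAffine _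
  haveI : QuasiCompact (j ≫ f).left := by
    haveI : QuasiCompact ((j ≫ f).left ≫ H.hom) := by rw [Over.w]; infer_instance
    exact QuasiCompact.of_comp _ H.hom
  obtain ⟨T, _, p, i, hp, hi, hpi, hps, hpf, hpl, himono, hTl, -⟩ := GrothLib.Neutral.exists_factor_field (j ≫ f)
  haveI := hp; haveI := hi; haveI := hps; haveI := hpf; haveI := hpl; haveI := himono; haveI := hTl
  have key : ∀ s : ↥(Spec (CommRingCat.of k)),
      Red.IsMaximalTorus ((Over.pullback (Red.geomPt s)).map i) ∧
      IsPullback ((Over.pullback (Red.geomPt s)).map j) ((Over.pullback (Red.geomPt s)).map p)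
        ((Over.pullback (Red.geomPt s)).map f) ((Over.pullback (Red.geomPt s)).map i) := fun s => by
    obtain ⟨ha', hs', hc', -⟩ := hH'.2.2 s
    obtain ⟨ha, hs₀, hc₀, -⟩ := hH.2.2 s
    haveI := ha'; haveI := hs'; haveI := hc'; haveI := ha; haveI := hs₀; haveI := hc₀
    let q := Red.geomPt s
    haveI : (Over.pullback q).IsRightAdjoint := (Over.mapPullbackAdj _).isRightAdjoint
    haveI : Surjective ((Over.pullback q).map f).left := GrothLib.Flag27.property_map q f hf
    have hR := GrothLib.SelfCent3.isReductive_of_over (hH'.2.2 s)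
    haveI : LocallyOfFiniteType ((Over.pullback q).obj H').hom := inferInstanceAs (LocallyOfFiniteType (pullback.snd H'.hom q))
    have hcen : (fst K H' ≫ iK) * snd K H' = snd K H' * (fst K H' ≫ iK) := by
      simpa only [Category.id_comp] using hKc _ (fst K H') _ (𝟙 _) (snd K H')
    haveI : Mono ((Over.pullback q).map j) := Functor.map_mono _ j
    haveI : Mono ((Over.pullback q).map i) := Functor.map_mono _ i
    have hj : AGF.IsMaxTorus ((Over.pullback q).map j) :=
      ⟨inferInstance, inferInstance, GrothLib.Flag27.isTorus_bc_field q hSt,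
        fun R _ r _ _ φ hR' hφ => hgeo s R r φ hR' hφ⟩
    have e : (Over.pullback q).map p ≫ (Over.pullback q).map i = (Over.pullback q).map j ≫ (Over.pullback q).map f := by
      rw [← Functor.map_comp, ← Functor.map_comp, hpi]
    haveI : Flat ((Over.pullback q).map p).left := GrothLib.Flag27.property_map q p inferInstance
    haveI : Surjective ((Over.pullback q).map p).left := GrothLib.Flag27.property_map q p inferInstance
    haveI : LocallyOfFiniteType (Red.bc q T).hom := inferInstanceAs (LocallyOfFiniteType (pullback.snd T.hom q))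
    refine ⟨?_, GrothLib.SelfCent3.isPullback_maxTorus hR ((Over.pullback q).map f)
      (GrothLib.Chev24.isKernel_bc q iK f hK) (fun X x h => central_bc q iK hcen X x h) hj
      ((Over.pullback q).map i) ((Over.pullback q).map p) e⟩
    haveI : LocallyOfFiniteType ((Over.pullback q).obj S').hom := inferInstanceAs (LocallyOfFiniteType (pullback.snd S'.hom q))
    obtain ⟨T₁, _, t₁, w, ht₁, hwm, hwf, hws, hwt⟩ := Groth.Agent.S12072.isMaximalTorus_image
      ((Over.pullback q).map f) ((Over.pullback q).map j) (GrothLib.Flag27.isMaximalTorus_of_isMaxTorus hj)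
    haveI := hwf; haveI := hws; haveI := hwm; haveI := ht₁.1; haveI := ht₁.2.1
    obtain ⟨-, hT₁l⟩ := GrothLib.OneMotFaith14.isAffine_of_isTorus ht₁.2.2.1
    haveI := hT₁l
    haveI : LocallyOfFinitePresentation w.left := GrothLib.AlbTors16.lfp_of_surj w
    haveI : LocallyOfFiniteType ((Over.pullback q).obj S').hom := inferInstanceAs (LocallyOfFiniteType (pullback.snd S'.hom q))
    haveI : LocallyOfFiniteType ((Over.pullback q).obj H).hom := inferInstanceAs (LocallyOfFiniteType (pullback.snd H.hom q))
    haveI : LocallyOfFinitePresentation ((Over.pullback q).map p).left := GrothLib.Flag27.property_map q p inferInstance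
    obtain ⟨a, ha₁⟩ := GrothLib.DiagGrp.exists_desc w ((Over.pullback q).map p) fun Y v v' h => by
      rw [← cancel_mono ((Over.pullback q).map i), Category.assoc, Category.assoc, e, ← hwt, reassoc_of% h]
    obtain ⟨b, hb⟩ := GrothLib.DiagGrp.exists_desc ((Over.pullback q).map p) w fun Y v v' h => by
      rw [← cancel_mono t₁, Category.assoc, Category.assoc, hwt, ← e, reassoc_of% h]
    haveI : Epi w := by
      haveI : Epi w.left := Flat.epi_of_flat_of_surjective _
      exact Over.epi_of_epi_left w
    haveI : Epi ((Over.pullback q).map p) := by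
      haveI : Epi ((Over.pullback q).map p).left := Flat.epi_of_flat_of_surjective _
      exact Over.epi_of_epi_left _
    have hai : a ≫ (Over.pullback q).map i = t₁ := by rw [← cancel_epi w, reassoc_of% ha₁, e, hwt]
    haveI : IsIso a := ⟨b, by rw [← cancel_epi w, reassoc_of% ha₁, hb, Category.comp_id],
      by rw [← cancel_epi ((Over.pullback q).map p), reassoc_of% hb, ha₁, Category.comp_id]⟩
    haveI : IsMonHom (a ≫ (Over.pullback q).map i) := by rw [hai]; infer_instance
    haveI : IsMonHom a := GrothLib.CentMT14.isMonHom_of_comp a ((Over.pullback q).map i)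
    refine GrothLib.Flag27.isMaximalTorus_of_isMaxTorus ⟨inferInstance, inferInstance,
      GrothLib.Flag27.isTorus_of_grpIso (Grp.mkIso (asIso a) (IsMonHom.one_hom a) (IsMonHom.mul_hom a)) ht₁.2.2.1,
      fun R _ r _ _ φ hR' hφ => ?_⟩
    haveI := (GrothLib.Chev24.isMaxTorus_of_isMaximalTorus ht₁).2.2.2 R r (a ≫ φ) hR' (by rw [Category.assoc, hφ, hai])
    exact IsIso.of_isIso_comp_left a φ
  haveI : ∀ s : ↥(Spec (CommRingCat.of k)), LocallyOfFiniteType ((Over.pullback (Red.geomPt s)).obj H).hom := fun s =>
    inferInstanceAs (LocallyOfFiniteType (pullback.snd H.hom (Red.geomPt s)))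
  refine ⟨T, inferInstance, i, p, ⟨hi, himono,
    GrothLib.UnipFix19.isTorus_of_bc_field _ (key (IsLocalRing.closedPoint k)).1.2.2.1, fun s R _ r _ _ φ hR hφ =>
      (GrothLib.Chev24.isMaxTorus_of_isMaximalTorus (key s).1).2.2.2 R r φ hR hφ⟩, ?_⟩
  let s₀ : ↥(Spec (CommRingCat.of k)) := IsLocalRing.closedPoint k
  let q := Red.geomPt s₀
  haveI : (Over.pullback q).IsRightAdjoint := (Over.mapPullbackAdj _).isRightAdjoint
  let σ := pullback.lift (f := f) (g := i) j p hpi.symm
  haveI : IsIso ((Over.pullback q).map σ) := by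
    have hP := (IsPullback.of_hasPullback f i).map (Over.pullback q)
    have e : (Over.pullback q).map σ = ((key s₀).2.isoIsPullback _ _ hP).hom := by
      apply hP.hom_ext
      · rw [IsPullback.isoIsPullback_hom_fst, ← Functor.map_comp, pullback.lift_fst]
      · rw [IsPullback.isoIsPullback_hom_snd, ← Functor.map_comp, pullback.lift_snd]
    rw [e]; infer_instance
  haveI := (GrothLib.Neutral.isClosedImmersion_factor (j ≫ f) hpi).1
  haveI : IsClosedImmersion (pullback.fst f i).left := MorphismProperty.of_isPullback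
    ((IsPullback.of_hasPullback f i).map (Over.forget _)).flip (inferInstanceAs (IsClosedImmersion i.left))
  haveI : IsClosedImmersion (σ.left ≫ (pullback.fst f i).left) := by
    rw [← Over.comp_left, pullback.lift_fst]; infer_instance
  haveI : IsClosedImmersion σ.left := IsClosedImmersion.of_comp σ.left (pullback.fst f i).left
  haveI : Surjective q := GrothLib.Flag27.surjective_to_field _
  haveI : Flat q := GrothLib.Flag27.flat_to_field _
  haveI : IsIso σ.left := GrothLib.MonoMT14.isIso_of_bc q σ
    (inferInstanceAs (IsIso ((Over.forget _).map ((Over.pullback q).map σ))))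
  haveI : IsIso ((Over.forget _).map σ) := ‹IsIso σ.left›
  haveI : IsIso σ := isIso_of_reflects_iso σ (Over.forget _)
  exact IsPullback.of_iso_pullback ⟨hpi.symm⟩ (asIso σ) (pullback.lift_fst _ _ _) (pullback.lift_snd _ _ _)

end Groth.Agent.S17097
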