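import Groth.Statements.S17098
import Groth.Agent.Lib.UnipFix19.DerivedFinite
import Groth.Agent.Lib.UnipFix19.FiniteGrp
-- import your own Groth.Agent.* helpers here

set_option autoImplicit false
set_option linter.all false
set_option maxHeartbeats 1000000
set_option synthInstance.maxHeartbeats 200000
set_option backward.isDefEq.respectTransparency false
universe u
open CategoryTheory MonoidalCategory CartesianMonoidalCategory MonObj GrpObj AlgebraicGeometry
open AGF

namespace Groth.Agent.S17098

/-- Let k be a field and G a reductive k-group scheme (affine, smooth, with connected reductive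
geometric fibre). If G is perfect, i.e. every homomorphism from G to a commutative k-group scheme is
trivial, then G is semisimple. (The published equivalence of the three conditions 'the geometric
radical is trivial', 'reductive with finite centre', 'reductive with perfect identity component' is
asserted for smooth affine groups that need not be connected; the orthogonal group O_2 in
characteristic different from 2 has finite centre and unipotent radical 1 while its identity
component SO_2 is a non-trivial torus, so the equivalence holds only for connected G, where the
other implications are the finite-centre criterion and the perfectness of semisimple groups.) -/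
theorem result (k : Type u) [Field k]
    (G : Over (Spec (CommRingCat.of k))) [GrpObj G] (hG : Red.IsReductive G)
    (hperf : ∀ (H : Over (Spec (CommRingCat.of k))) [GrpObj H] [IsCommMonObj H] (f : G ⟶ H) [IsMonHom f], f = toUnit G ≫ η[H]) :
    Red.IsSemisimple G := by
  obtain ⟨ha, hs, hc⟩ := GrothLib.UnipFix19.props_of_isReductive hG
  haveI := ha; haveI := hs; haveI := hc
  refine GrothLib.UnipFix19.isSemisimple_of_reductive hG fun R _ r _ _ hR hcen => ?_
  haveI : IsClosedImmersion (𝟙 G : G ⟶ G).left := inferInstanceAs (IsClosedImmersion (𝟙 G.left))
  haveI : Finite ↥(Limits.pullback r.left (𝟙 G : G ⟶ G).left) :=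
    GrothLib.UnipFix19.finite_inter_derived r hR (fun X g s => (hcen X s g).symm) (𝟙 G) fun H _ _ _ _ φ _ => by
      rw [Category.id_comp]; exact hperf H φ
  haveI : Finite ↥R.left := by
    haveI : IsIso (Over.Hom.left (𝟙 G)) := inferInstanceAs (IsIso (𝟙 G.left))
    exact Finite.of_surjective _ (Limits.pullback.fst r.left (𝟙 G : G ⟶ G).left).surjective
  obtain ⟨h1, h2, h3⟩ := GrothLib.UnipFix19.torus_closed r hR
  haveI := h2; haveI := h3
  haveI : IsFinite R.hom := (GrothLib.CartTorsor.isFinite_iff_finite R.hom).2 inferInstance
  haveI : IsIso R.hom := GrothLib.IsogProps19.isTrivialGrp_of_isFinite R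
  have h : (𝟙 R : R ⟶ R) = 1 := Over.OverMorphism.ext ((cancel_mono R.hom).1 (by rw [Over.w, Over.w]))
  rw [← Category.id_comp r, h, MonObj.one_comp]

end Groth.Agent.S17098
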