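import Groth.Statements.S17101
import Groth.Agent.Lib.LogSeq1.Coord
import Groth.Agent.Lib.SmDim4.Omega

set_option autoImplicit false
universe u
open CategoryTheory AlgebraicGeometry
open LogNCD

namespace Groth.Agent.S17101

open GrothLib.LogSeq1 Opposite TopologicalSpace in
theorem exists_frame_at {X S : Scheme.{u}} (f : X ⟶ S) [Smooth f] {Ω' : X.Modules} (d : OmegaSh.Der f Ω')
    (hd : OmegaSh.IsUniversal d) {r : ℕ} (D : Fin r → X.IdealSheafData) (hD : LogNCD.IsNCD D f)
    (Λ : LogNCD.LogMod d D) (x : X) :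
    ∃ (U : X.Opens) (m : ℕ) (ω : Fin m → Γ(Ω', U)) (E : Fin m → Γ(Λ.L, U)), x ∈ U ∧
      GrothLib.FinCov.IsFrame Ω' U ω ∧ GrothLib.FinCov.IsFrame Λ.L U E := by
  classical
  by_cases hT : Nonempty (LogNCD.Through D x)
  · obtain ⟨W, hxW, m, v, e, he, het, h1, h2⟩ := hD x hT
    obtain ⟨V, hV, hxV, -⟩ := exists_isAffineOpen_mem_and_subset (x := f.base x) (U := ⊤) trivial
    obtain ⟨U, hU, hxU, hUle⟩ := exists_isAffineOpen_mem_and_subset (x := x) (U := W ⊓ f ⁻¹ᵁ V) ⟨hxW, hxV⟩
    have hUW : U ≤ W := hUle.trans inf_le_left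
    have hUV : U ≤ f ⁻¹ᵁ V := hUle.trans inf_le_right
    let g : Fin r → Γ(X, U) := fun i =>
      if h : x ∈ (D i).support then LogNCD.sectOn W hUW (v (ULift.up (e ⟨i, h⟩))) else 1
    have hg : IsEq D ⟨U, hU⟩ g := fun i => by
      by_cases h : x ∈ (D i).support
      · simp only [g, dif_pos h]; exact h1 ⟨i, h⟩ ⟨U, hU⟩ hUW
      · simp only [g, dif_neg h, Ideal.span_singleton_one]; exact h2 i h ⟨U, hU⟩ hUW
    have hω := isFrame_d hd W v hV ⟨U, hU⟩ hUW hUV
    let σ : Fin m → Option (Fin r) := fun j => if h : ∃ i, e i = j then some h.choose.1 else none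
    have hσ : ∀ j k, σ j = some k → ∃ hk : x ∈ (D k).support, e ⟨k, hk⟩ = j := fun j k h => by
      simp only [σ] at h
      split at h
      · rename_i hh
        obtain rfl := Option.some.inj h
        exact ⟨hh.choose.2, hh.choose_spec⟩
      · exact absurd h (by simp)
    obtain ⟨E, hE⟩ := exists_frame Λ ⟨U, hU⟩ g hg _ hω σ (fun j k h => by
        obtain ⟨hk, rfl⟩ := hσ j k h
        simp only [g, dif_pos hk])
      (fun j j' k h h' => by
        obtain ⟨hk, rfl⟩ := hσ j k h
        obtain ⟨hk', rfl⟩ := hσ j' k h'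
        rfl)
      (fun k => by
        by_cases h : x ∈ (D k).support
        · refine Or.inl ⟨e ⟨k, h⟩, ?_⟩
          have hh : ∃ i, e i = e ⟨k, h⟩ := ⟨_, rfl⟩
          simp only [σ, dif_pos hh]
          exact congrArg some (congrArg Subtype.val (he hh.choose_spec))
        · exact Or.inr (by simp only [g, dif_neg h]; exact isUnit_one))
      (fun k V' hV' => by
        by_cases h : x ∈ (D k).support
        · simp only [g, dif_pos h]
          have e1 : X.presheaf.map (homOfLE hV').op (LogNCD.sectOn W hUW (v (ULift.up (e ⟨k, h⟩)))) =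
              LogNCD.sectOn W (hV'.trans hUW) (v (ULift.up (e ⟨k, h⟩))) :=
            (ConcreteCategory.congr_hom (X.presheaf.map_comp (homOfLE hUW).op (homOfLE hV').op) _).symm
          rw [e1]
          exact coord_mem_nonZeroDivisors f W v hV V' (hV'.trans hUW) (hV'.trans hUV) _
        · simp only [g, dif_neg h, map_one]; exact one_mem _)
    exact ⟨U, m, _, E, hxU, hω, hE⟩
  · obtain ⟨U₁, m, hxU₁, ⟨φ⟩, -⟩ := GrothLib.SmDim4.exists_free_nhd f hd x
    obtain ⟨ω₁, hω₁⟩ := GrothLib.FinCov.exists_frame_of_iso φ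
    have hout : ∀ i, x ∉ (D i).support := fun i hi => hT ⟨⟨i, hi⟩⟩
    obtain ⟨U, hU, hxU, hUle⟩ := exists_isAffineOpen_mem_and_subset (x := x)
      (U := U₁.ι ''ᵁ ⊤ ⊓ ⟨⋂ i, ((D i).support : Set X)ᶜ,
        isOpen_iInter_of_finite fun i => (D i).support.isClosed.isOpen_compl⟩)
      ⟨by rw [Scheme.Opens.ι_image_top]; exact hxU₁, Set.mem_iInter.2 hout⟩
    have hle : U ≤ U₁.ι ''ᵁ ⊤ := hUle.trans inf_le_left
    let ω : Fin m → Γ(Ω', U) := fun j => rs Ω' hle (ω₁ j)
    have hω : GrothLib.FinCov.IsFrame Ω' U ω := fun V hV => by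
      convert hω₁ V (hV.trans hle) using 4 with c
      rename_i j _
      exact rs_rs Ω' hle hV (ω₁ j)
    obtain ⟨E, hE⟩ := exists_frame Λ ⟨U, hU⟩ (fun _ => 1) (fun i => by
        rw [Ideal.span_singleton_one]
        exact GrothLib.CycNorm12.ideal_eq_top_of_disjoint (D i) ⟨U, hU⟩
          (Set.disjoint_left.2 fun y hy => Set.mem_iInter.1 ((hUle hy).2) i))
      ω hω (fun _ => none) (fun j k h => absurd h (by simp)) (fun j j' k h => absurd h (by simp))
      (fun k => Or.inr isUnit_one) (fun k V' hV' => by rw [map_one]; exact one_mem _)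
    exact ⟨U, m, ω, E, hxU, hω, hE⟩

/-- Let f : X → S be smooth of relative dimension n, (Ω', d) a universal receptacle for the
differentials of X over S, D = (D_1, …, D_r) a relative strict normal crossing divisor (each point
of the divisor has an étale chart to affine n-space over S in which the components through it are
coordinate hyperplanes) and Ω¹(log D) the sheaf of differentials with logarithmic poles along D,
pinned with its inclusion of Ω' and its residue maps by the affine-local description. Then Ω¹(log D)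
is a finite locally free O_X-module of rank n; locally a basis is dv_1/v_1, …, dv_s/v_s, dv_{s+1},
…, dv_n for the chart coordinates v_i. (Stated relative to an arbitrary base scheme with étale
coordinates in place of local parameters; the published statement is for a manifold over an
algebraically closed field and also lists the induced bases of the higher exterior powers.) -/
theorem result {X S : Scheme.{u}} (f : X ⟶ S) (n : ℕ)
    [SmoothOfRelativeDimension n f] {Ω' : X.Modules} (d : OmegaSh.Der f Ω') (hd : OmegaSh.IsUniversal d)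
    {r : ℕ} (D : Fin r → X.IdealSheafData) (hD : LogNCD.IsNCD D f) (Λ : LogNCD.LogMod d D) :
    FlatMod.IsFinLocFreeOfRank n Λ.L := by
  haveI : Smooth f := SmoothOfRelativeDimension.smooth n f
  refine GrothLib.LogSeq1.isFinLocFreeOfRank_of_frames fun x => ?_
  obtain ⟨U, m, ω, E, hxU, hω, hE⟩ := exists_frame_at f d hd D hD Λ x
  obtain ⟨V₀, hV₀, U₀, hU₀, hxU₀, e₀, hstd⟩ :=
    SmoothOfRelativeDimension.exists_isStandardSmoothOfRelativeDimension (n := n) (f := f) x
  have h1 := GrothLib.SmDim4.fibreDimAt_eq_of_standardSmooth n f hV₀ hU₀ e₀ hstd x hxU₀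
  obtain ⟨-, -, -, h2⟩ := GrothLib.SmDim4.kaehler_stalk f x
  letI := GrothLib.OmegaUniv.stalkAlg f x
  let ε := LinearEquiv.ofBijective _ (GrothLib.Ref1.stalk_of_isFrame hω x hxU)
  let η : Ω'.presheaf.stalk x ≃ₗ[X.presheaf.stalk x] GrothLib.OmegaUniv.Kah f x :=
    GrothLib.OmegaUniv.stalkEquiv x hd
  have h3 : Module.finrank (X.presheaf.stalk x) (GrothLib.OmegaUniv.Kah f x) = m :=
    ((ε.trans η).finrank_eq).symm.trans (Module.finrank_fin_fun _)
  obtain rfl : n = m := by
    have h4 := h1.symm.trans h2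
    rw [Nat.cast_inj] at h4
    exact h4.trans h3
  exact ⟨U, E, hxU, hE⟩

end Groth.Agent.S17101
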