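import Groth.Statements.S17102
import Groth.Agent.Lib.LogSeq1.Basic

set_option autoImplicit false
universe u
open CategoryTheory CategoryTheory.Limits AlgebraicGeometry
open LogNCD GrothLib.LogSeq1 Opposite

namespace Groth.Agent.S17102

/-- Let f : X → S be smooth, (Ω', d) a universal receptacle for the differentials of X over S, D = (D_1,
…, D_r) a relative strict normal crossing divisor and Ω¹(log D) the pinned sheaf of differentials
with logarithmic poles, with its inclusion ι of Ω' and residues res_j : Ω¹(log D) → O_{D_j}. Then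
the residue sequence 0 → Ω' → Ω¹(log D) → ⊕_{j} O_{D_j} → 0, whose second map is the map into the
product (a finite direct sum) with components res_j, is a short exact sequence of O_X-modules. The
argument h, the vanishing of the composite, holds since every res_j ∘ ι vanishes; it is an argument
only so that the short complex can be formed. (Stated relative to an arbitrary base; the published
statement is over an algebraically closed field.) -/
theorem result {X S : Scheme.{u}} (f : X ⟶ S) [Smooth f]
    {Ω' : X.Modules} (d : OmegaSh.Der f Ω') (hd : OmegaSh.IsUniversal d)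
    {r : ℕ} (D : Fin r → X.IdealSheafData) (hD : LogNCD.IsNCD D f) (Λ : LogNCD.LogMod d D)
    (h : Λ.ι ≫ Pi.lift Λ.res = 0) :
    (ShortComplex.mk Λ.ι (Pi.lift Λ.res) h).ShortExact := by
  refine GrothLib.ExtPowX.Ses.shortExact_of_local _ (fun U m hm x hx => ⟨U, le_rfl, hx, (congrArg _ (ι_injective Λ U (hm.trans (map_zero (ap Λ.ι U)).symm))).trans (map_zero _)⟩) ?_ ?_
  · intro U σ hσ y hy
    obtain ⟨V, g, hyV, hVU, hg⟩ := exists_isEq hD y U hy
    have hres : ∀ j, ap (Λ.res j) V.1 (rs Λ.L hVU σ) = 0 := fun j => by
      refine (ap_rs (Λ.res j) hVU σ).trans ?_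
      have : ap (Λ.res j) U σ = 0 := by
        rw [← Pi.lift_π Λ.res j]
        exact (congrArg (ap (Pi.π _ j) U) hσ).trans (map_zero _)
      rw [this]
      exact map_zero _
    obtain ⟨ω, hω⟩ := exists_of_res_eq_zero Λ V g hg (rs Λ.L hVU σ) hres
    exact ⟨V.1, hVU, ω, hyV, hω⟩
  · intro U σ y hy
    obtain ⟨V, g, hyV, hVU, hg⟩ := exists_isEq hD y U hy
    obtain ⟨x, hx⟩ := exists_of_res Λ V g hg fun j => ap (Pi.π _ j) V.1 (rs _ hVU σ)
    refine ⟨V.1, hVU, x, hyV, pi_ext (fun j => ClSub.quotMod (D j)) V.1 _ _ fun j => ?_⟩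
    refine Eq.trans ?_ (hx j)
    exact congrArg (fun k => ap k V.1 x) (Pi.lift_π Λ.res j)

end Groth.Agent.S17102
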