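import Groth.Statements.S17119
import Groth.Agent.Lib.ProjFormula.Iso

set_option autoImplicit false
set_option backward.isDefEq.respectTransparency false
set_option maxHeartbeats 400000
universe u
open CategoryTheory CategoryTheory.Limits AlgebraicGeometry
open LogNCD

open Opposite
namespace Groth.Agent.S17119

theorem hom_ext_tmul' {Y : Scheme.{u}} {A B T : Y.Modules} {k k' : CohB1.tensorMod A B ⟶ T}
    (h : ∀ (U : Y.Opens) (a : A.val.obj (op U)) (b : B.val.obj (op U)), k.app U (SecTwist.tmul A B U a b) = k'.app U (SecTwist.tmul A B U a b)) : k = k' := by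
  exact GrothLib.ProjFormula.hom_ext_tmul (A := A) (B := B) (k := k) (k' := k') fun U a b => h U a b

theorem unit_compat {X Y : Scheme.{u}} (g : X ⟶ Y) (E : Y.Modules)
    (φ : Coh.structureModule Y ⟶ (Scheme.Modules.pushforward g).obj (Coh.structureModule X))
    (hφ : ∀ (U : Y.Opens) (a : Γ(Y, U)), φ.app U a = g.app U a) :
    KoszTw.tensorMap (𝟙 E) φ ≫ GrothLib.ProjFormula.projHom g E (Coh.structureModule X) ≫
      (Scheme.Modules.pushforward g).map (SecTwist.unitorR ((Scheme.Modules.pullback g).obj E)).hom =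
    (SecTwist.unitorR E).hom ≫ (Scheme.Modules.pullbackPushforwardAdjunction g).unit.app E := by
  refine hom_ext_tmul' fun U e a => ?_
  simp only [Scheme.Modules.Hom.comp_app, ConcreteCategory.comp_apply]
  have s1 : (KoszTw.tensorMap (𝟙 E) φ).app U (SecTwist.tmul E (Coh.structureModule Y) U e a) =
      SecTwist.tmul E _ U e (g.app U a) :=
    (KoszTw.tensorMap_tmul (𝟙 E) φ U e a).trans (congrArg (SecTwist.tmul E _ U e) (hφ U a))
  have s2 := GrothLib.ProjFormula.projHom_tmulSec g E (Coh.structureModule X) U e (g.app U a)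
  have s3 := SecTwist.unitorR_tmul ((Scheme.Modules.pullback g).obj E) (g ⁻¹ᵁ U)
    (GrothLib.OX.pullSec g E U e) (g.app U a)
  have s4 := SecTwist.unitorR_tmul E U e a
  refine (congrArg (fun z => (SecTwist.unitorR ((Scheme.Modules.pullback g).obj E)).hom.app (g ⁻¹ᵁ U)
      ((GrothLib.ProjFormula.projHom g E (Coh.structureModule X)).app U z)) s1).trans ?_
  refine (congrArg (fun z => (SecTwist.unitorR ((Scheme.Modules.pullback g).obj E)).hom.app (g ⁻¹ᵁ U) z) s2).trans ?_
  refine s3.trans ?_
  refine Eq.trans ?_ (congrArg (fun z => ((Scheme.Modules.pullbackPushforwardAdjunction g).unit.app E).app U z) s4.symm)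
  exact (((((Scheme.Modules.pullbackPushforwardAdjunction g).unit.app E).val.app (op U)).hom.map_smul a e :)).symm

theorem exists_factor {X Y : Scheme.{u}} (g : X ⟶ Y) {E : Y.Modules} (hE : FlatMod.IsFinLocFree E)
    (φ : Coh.structureModule Y ⟶ (Scheme.Modules.pushforward g).obj (Coh.structureModule X))
    (hφ : ∀ (U : Y.Opens) (a : Γ(Y, U)), φ.app U a = g.app U a)
    (ρ : E ⟶ CohB1.tensorMod E ((Scheme.Modules.pushforward g).obj (Coh.structureModule X))) :
    ∃ R : CohB1.tensorMod E ((Scheme.Modules.pushforward g).obj (Coh.structureModule X)) ⟶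
        CohB1.tensorMod E ((Scheme.Modules.pushforward g).obj (Coh.structureModule X)),
      (SecTwist.unitorR E).inv ≫ KoszTw.tensorMap (𝟙 E) φ ≫ R = ρ := by
  let P := GrothLib.ProjFormula.projHom g E (Coh.structureModule X)
  haveI : IsIso P := GrothLib.ProjFormula.isIso_projHom g hE _
  let adj := Scheme.Modules.pullbackPushforwardAdjunction g
  let c := SecTwist.unitorR ((Scheme.Modules.pullback g).obj E)
  let t := (adj.homEquiv E _).symm (ρ ≫ P)
  refine ⟨P ≫ (Scheme.Modules.pushforward g).map (c.hom ≫ t) ≫ inv P, ?_⟩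
  have h := unit_compat g E φ hφ
  have ht : adj.unit.app E ≫ (Scheme.Modules.pushforward g).map t = ρ ≫ P := by
    exact (adj.homEquiv_unit E _ t).symm.trans (Equiv.apply_symm_apply _ _)
  rw [Iso.inv_comp_eq]
  simp only [Functor.map_comp, Category.assoc]
  simp only [← Category.assoc]
  rw [IsIso.comp_inv_eq]
  simp only [Category.assoc]
  refine Eq.trans ?_ (congrArg ((SecTwist.unitorR E).hom ≫ ·) ht)
  calc _ = (KoszTw.tensorMap (𝟙 E) φ ≫ P ≫ (Scheme.Modules.pushforward g).map c.hom) ≫
        (Scheme.Modules.pushforward g).map t := by simp only [Category.assoc]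
    _ = ((SecTwist.unitorR E).hom ≫ adj.unit.app E) ≫ (Scheme.Modules.pushforward g).map t :=
        congrArg (· ≫ (Scheme.Modules.pushforward g).map t) h

theorem exists_residue {X S : Scheme.{u}} {f : X ⟶ S} {Ω' : X.Modules} {d : OmegaSh.Der f Ω'}
    {r : ℕ} {D : Fin r → X.IdealSheafData} (Λ : LogNCD.LogMod d D)
    (E : X.Modules) (nabla : Coh.toAb E ⟶ Coh.toAb (CohB1.tensorMod E Λ.L))
    (hc : ConnSh.IsConn (LogNCD.der Λ) E nabla) (i : Fin r) :
    ∃ ρ : E ⟶ CohB1.tensorMod E (ClSub.quotMod (D i)), LogNCD.IsResidue Λ E nabla i ρ := by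
  let F := KoszTw.tensorMap (𝟙 E) (Λ.res i)
  let T := nabla ≫ (SheafOfModules.toSheaf X.ringCatSheaf).map F
  have hlin : ∀ (U : X.Opens) (t : Γ(X, U)) (e : E.val.obj (op U)),
      ConnSh.secApp T U (t • e) = t • ConnSh.secApp T U e := by
    intro U t e
    show (F.val.app (op U)).hom (ConnSh.secApp nabla U (t • e)) =
      t • (F.val.app (op U)).hom (ConnSh.secApp nabla U e)
    rw [hc U t e, map_add]
    have h0 : (F.val.app (op U)).hom (SecTwist.tmul E Λ.L U e ((LogNCD.der Λ).app U t)) = 0 := by
      show F.app U _ = 0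
      refine (KoszTw.tensorMap_tmul (𝟙 E) (Λ.res i) U e _).trans ?_
      have hz : (Λ.res i).app U ((LogNCD.der Λ).app U t) = 0 :=
        congrArg (fun k => Scheme.Modules.Hom.app k U (d.app U t)) (Λ.res_ι i)
      rw [hz]
      simp [SecTwist.tmul]
    rw [h0, add_zero]
    exact (F.val.app (op U)).hom.map_smul t _
  exact ⟨⟨PresheafOfModules.homMk T.hom fun U t e => hlin U.unop t e⟩,
    Sheaf.hom_ext (NatTrans.ext (funext fun U => rfl))⟩

/-- Let f : X → S be smooth, (Ω', d) a universal receptacle for the differentials of X over S, D = (D_1,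
…, D_r) a relative strict normal crossing divisor with pinned log module Ω¹(log D) and residues
res_j : Ω¹(log D) → O_{D_j}, E a finite locally free O_X-module and ∇ : E → E ⊗ Ω¹(log D) a
logarithmic connection along D (a map of abelian sheaves with the Leibniz rule). Then for every
component D_i the residue of ∇ along D_i, the composite (1 ⊗ res_i) ∘ ∇ : E → E ⊗ O_{D_i}, is
O_X-linear, i.e. it is induced by an O_X-module morphism ρ, and ρ factors through the restriction
map E ≅ E ⊗ O_X → E ⊗ O_{D_i}: there is an O_X-linear endomorphism R of E ⊗ O_{D_i} whose composite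
with the restriction is ρ (the residue as an endomorphism of E restricted to D_i). (Stated relative
to an arbitrary base; the published statement is over an algebraically closed field, with the module
as the right tensor factor.) -/
theorem result {X S : Scheme.{u}} (f : X ⟶ S) [Smooth f]
    {Ω' : X.Modules} (d : OmegaSh.Der f Ω') (hd : OmegaSh.IsUniversal d)
    {r : ℕ} (D : Fin r → X.IdealSheafData) (hD : LogNCD.IsNCD D f) (Λ : LogNCD.LogMod d D)
    (E : X.Modules) (hE : FlatMod.IsFinLocFree E)
    (nabla : Coh.toAb E ⟶ Coh.toAb (CohB1.tensorMod E Λ.L)) (hc : ConnSh.IsConn (LogNCD.der Λ) E nabla)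
    (i : Fin r) :
    ∃ ρ : E ⟶ CohB1.tensorMod E (ClSub.quotMod (D i)), LogNCD.IsResidue Λ E nabla i ρ ∧
      ∃ R : CohB1.tensorMod E (ClSub.quotMod (D i)) ⟶ CohB1.tensorMod E (ClSub.quotMod (D i)),
        (SecTwist.unitorR E).inv ≫ KoszTw.tensorMap (𝟙 E) (ClSub.toSubscheme (D i)) ≫ R = ρ := by
  obtain ⟨ρ, hρ⟩ := exists_residue Λ E nabla hc i
  obtain ⟨R, hR⟩ := exists_factor (D i).subschemeι hE (ClSub.toSubscheme (D i)) (fun U a => rfl) ρ
  exact ⟨ρ, hρ, R, hR⟩

end Groth.Agent.S17119
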