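import Groth.Statements.S17120
-- import your own Groth.Agent.* helpers here
import Groth.Agent.Lib.NcdLift26.Geom
import Groth.Agent.Lib.IdealModSec.Basic
import Groth.Agent.Lib.CycNorm12.Local

set_option autoImplicit false
universe u
open CategoryTheory CategoryTheory.Limits AlgebraicGeometry
open Lift

set_option backward.isDefEq.respectTransparency false
set_option linter.style.haveILetI false

noncomputable section

open CategoryTheory CategoryTheory.Limits AlgebraicGeometry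
open GrothLib

namespace GrothAux.S17120

open Opposite GrothLib.NcdLift26

theorem local_data {p : ℕ} [Fact p.Prime] {Sl : Scheme.{u}}
    (gS : Sl ⟶ Spec (CommRingCat.of (ULift.{u} (ZMod (p ^ 2))))) [Flat gS]
    {S : Scheme.{u}} (iS : S ⟶ Sl) (fS : S ⟶ Spec (CommRingCat.of (ULift.{u} (ZMod p))))
    (hS : IsPullback iS fS gS (Spec.map (CommRingCat.ofHom
      ((ZMod.castHom (dvd_pow_self p two_ne_zero) (ULift.{u} (ZMod p))).comp
        (ULift.ringEquiv : ULift.{u} (ZMod (p ^ 2)) ≃+* ZMod (p ^ 2)).toRingHom))))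
    {X : Scheme.{u}} (f : X ⟶ S) {r : ℕ} (D : Fin r → X.IdealSheafData) (hD : LogNCD.IsNCD D f)
    {Xl : Scheme.{u}} (g : Xl ⟶ Sl) [Flat g] (j : X ⟶ Xl) (hX : IsPullback j f g iS)
    (Dl : Fin r → Xl.IdealSheafData) (hDl : ∀ m, (Dl m).comap j = D m) (m : Fin r)
    (y : Xl) {N : Xl.Opens} (hyN : y ∈ N) :
    ∃ (U : Xl.affineOpens) (_ : y ∈ U.1) (_ : U.1 ≤ N) (V : Sl.affineOpens) (hUV : U.1 ≤ g ⁻¹ᵁ V.1),
      (∀ (Ab : Type u) [CommRing Ab], True) ∧
      ((Flat ((Dl m).subschemeι ≫ g)) → ∃ u : Γ(Xl, U.1), u ∈ nonZeroDivisors Γ(Xl, U.1) ∧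
          (Dl m).ideal U = Ideal.span {u}) ∧
      ((∃ u : Γ(Xl, U.1), (Dl m).ideal U = Ideal.span {u}) →
        ((Ideal.Quotient.mk ((Dl m).ideal U)).comp (g.appLE V.1 U.1 hUV).hom).Flat) := by
  classical
  let red := Spec.map (CommRingCat.ofHom
      ((ZMod.castHom (dvd_pow_self p two_ne_zero) (ULift.{u} (ZMod p))).comp
        (ULift.ringEquiv : ULift.{u} (ZMod (p ^ 2)) ≃+* ZMod (p ^ 2)).toRingHom))
  let eR : ULift.{u} (ZMod (p ^ 2)) ≃+* ZMod (p ^ 2) := ULift.ringEquiv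
  let r₀ : ULift.{u} (ZMod (p ^ 2)) →+* ULift.{u} (ZMod p) :=
    (ZMod.castHom (dvd_pow_self p two_ne_zero) (ULift.{u} (ZMod p))).comp eR.toRingHom
  have hr₀ : Function.Surjective r₀ := by
    haveI : NeZero p := ⟨(Fact.out : p.Prime).ne_zero⟩
    intro z
    refine ⟨eR.symm (z.down.val : ZMod (p ^ 2)), ?_⟩
    show ZMod.castHom (dvd_pow_self p two_ne_zero) (ULift.{u} (ZMod p)) (eR (eR.symm _)) = z
    rw [RingEquiv.apply_symm_apply, map_natCast]
    exact ULift.ext _ _ (ZMod.natCast_zmod_val z.down)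
  have hr₀k : RingHom.ker r₀ ≤ Ideal.span {(p : ULift.{u} (ZMod (p ^ 2)))} := by
    haveI : NeZero (p ^ 2) := ⟨pow_ne_zero 2 (Fact.out : p.Prime).ne_zero⟩
    intro z hz
    obtain ⟨n, hn⟩ : ∃ n : ℕ, eR z = (n : ZMod (p ^ 2)) := ⟨(eR z).val, (ZMod.natCast_zmod_val _).symm⟩
    have h0 : ((n : ℕ) : ULift.{u} (ZMod p)) = 0 := by
      have := RingHom.mem_ker.1 hz
      show _ = _
      rw [← this]
      show _ = ZMod.castHom (dvd_pow_self p two_ne_zero) (ULift.{u} (ZMod p)) (eR z)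
      rw [hn, map_natCast]
    obtain ⟨c, rfl⟩ : p ∣ n := (ZMod.natCast_eq_zero_iff n p).1 (congrArg ULift.down h0)
    exact Ideal.mem_span_singleton'.2 ⟨(c : ℕ), eR.injective (by
      rw [hn, map_mul, map_natCast, map_natCast, Nat.cast_mul, mul_comm])⟩
  haveI : Surjective red := by
    refine ⟨fun z => ?_⟩
    haveI hl : (RingHom.ker r₀) ≤ nilradical _ := hr₀k.trans ((Ideal.span_singleton_le_iff_mem _).2
      ⟨2, eR.injective (by rw [map_pow, map_natCast, map_zero, ← Nat.cast_pow, ZMod.natCast_self])⟩)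
    obtain ⟨w, hw⟩ : (show PrimeSpectrum (ULift.{u} (ZMod (p ^ 2))) from z) ∈ Set.range (PrimeSpectrum.comap r₀) := by
      rw [range_comap_of_surjective _ _ hr₀]
      exact hl.trans (nilradical_le_prime _)
    exact ⟨w, hw⟩
  haveI : IsClosedImmersion red := IsClosedImmersion.spec_of_surjective _ hr₀
  haveI : Surjective iS := MorphismProperty.of_isPullback hS.flip ‹_›
  haveI : IsClosedImmersion iS := MorphismProperty.of_isPullback hS.flip ‹_›
  haveI : Surjective j := MorphismProperty.of_isPullback hX.flip ‹_›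
  haveI : IsClosedImmersion j := MorphismProperty.of_isPullback hX.flip ‹_›
  obtain ⟨x, rfl⟩ := j.surjective y
  -- a neighbourhood of the point in X with a coordinate
  obtain ⟨W, hxW, hW⟩ : ∃ W : X.Opens, x ∈ W ∧ ∀ (U' : X.affineOpens) (hUW : U'.1 ≤ W) (V' : S.affineOpens)
      (hUV' : U'.1 ≤ f ⁻¹ᵁ V'.1), ∃ t : Γ(X, U'.1), t ∈ nonZeroDivisors Γ(X, U'.1) ∧
        (D m).ideal U' = Ideal.span {t} ∧
        ((Ideal.Quotient.mk (Ideal.span {t})).comp (f.appLE V'.1 U'.1 hUV').hom).Flat := by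
    have hone : ∀ (U' : X.affineOpens) (V' : S.affineOpens) (hUV' : U'.1 ≤ f ⁻¹ᵁ V'.1), (D m).ideal U' = ⊤ →
        ∃ t : Γ(X, U'.1), t ∈ nonZeroDivisors Γ(X, U'.1) ∧ (D m).ideal U' = Ideal.span {t} ∧
          ((Ideal.Quotient.mk (Ideal.span {t})).comp (f.appLE V'.1 U'.1 hUV').hom).Flat := by
      intro U' V' hUV' h
      refine ⟨1, one_mem _, h.trans Ideal.span_singleton_one.symm, ?_⟩
      letI := (f.appLE V'.1 U'.1 hUV').hom.toAlgebra
      haveI : Subsingleton (Γ(X, U'.1) ⧸ Ideal.span {(1 : Γ(X, U'.1))}) :=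
        Ideal.Quotient.subsingleton_iff.2 Ideal.span_singleton_one
      exact RingHom.flat_algebraMap_iff.2 (inferInstance : Module.Flat Γ(S, V'.1) (Γ(X, U'.1) ⧸ Ideal.span {(1 : Γ(X, U'.1))}))
    rcases isEmpty_or_nonempty (LogNCD.Through D x) with he | hne
    · refine ⟨⟨((D m).support : Set X)ᶜ, (D m).support.isClosed.isOpen_compl⟩,
        fun h => he.false ⟨m, h⟩, fun U' hUW V' hUV' => hone U' V' hUV' ?_⟩
      exact CycNorm12.ideal_eq_top_of_disjoint _ _ (Set.disjoint_left.2 fun a ha => hUW ha)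
    · obtain ⟨W, hxW, n, v, e, -, hEt, hi, ho⟩ := hD x hne
      haveI := hEt
      refine ⟨W, hxW, fun U' hUW V' hUV' => ?_⟩
      by_cases hm : x ∈ (D m).support
      · refine ⟨LogNCD.sectOn W hUW (v (ULift.up (e ⟨m, hm⟩))), ?_⟩
        letI := (f.appLE V'.1 U'.1 hUV').hom.toAlgebra
        obtain ⟨h1, h2⟩ := regular_flat_of_etale (R := Γ(S, V'.1)) (fun i => LogNCD.sectOn W hUW (v i))
          (etale_aeval f W v V'.2 U'.2 hUW hUV') (ULift.up (e ⟨m, hm⟩))
        exact ⟨h1, hi ⟨m, hm⟩ U' hUW, h2⟩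
      · exact hone U' V' hUV' (ho m hm U' hUW)
  obtain ⟨O, hO, hOW⟩ := j.isClosedEmbedding.isInducing.isOpen_iff.1 W.2
  obtain ⟨V, hV, hgV, -⟩ := exists_isAffineOpen_mem_and_subset (U := (⊤ : Sl.Opens)) (x := g (j x)) trivial
  obtain ⟨U, hU, hyU, hUle⟩ := exists_isAffineOpen_mem_and_subset
    (U := N ⊓ g ⁻¹ᵁ V ⊓ ⟨O, hO⟩) (x := j x) ⟨⟨hyN, hgV⟩, by
      show j x ∈ O
      have : x ∈ j ⁻¹' O := hOW.symm ▸ hxW
      exact this⟩
  have hUV : U ≤ g ⁻¹ᵁ V := fun a ha => (hUle ha).1.2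
  have hUV' : j ⁻¹ᵁ U ≤ f ⁻¹ᵁ (iS ⁻¹ᵁ V) := fun a ha => by
    have : g (j a) ∈ V := hUV ha
    rw [← Scheme.Hom.comp_apply, hX.w, Scheme.Hom.comp_apply] at this
    exact this
  obtain ⟨t, ht, htJ, htf⟩ := hW ⟨j ⁻¹ᵁ U, hU.preimage j⟩ (fun a ha => by
    have : a ∈ j ⁻¹' O := (hUle ha).2
    rwa [hOW] at this) ⟨iS ⁻¹ᵁ V, hV.preimage iS⟩ hUV'
  -- the rings
  let A := Γ(Xl, U)
  let R := Γ(Sl, V)
  let π : A →+* Γ(X, j ⁻¹ᵁ U) := (j.app U).hom
  let ρ : R →+* Γ(S, iS ⁻¹ᵁ V) := (iS.app V).hom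
  have hkerLe : ∀ {Y Y' : Scheme.{u}} (i : Y' ⟶ Y) (a : Y ⟶ Spec (CommRingCat.of (ULift.{u} (ZMod (p ^ 2)))))
      (b : Y' ⟶ Spec (CommRingCat.of (ULift.{u} (ZMod p)))), IsPullback i b a red → ∀ [IsClosedImmersion i]
      {U : Y.Opens}, IsAffineOpen U → RingHom.ker (i.app U).hom = Ideal.span {(p : Γ(Y, U))} := by
    intro Y Y' i a b h _ U hU
    have h' : IsPullback (i ∣_ U) ((i ⁻¹ᵁ U).ι ≫ b) (U.ι ≫ a) red :=
      (isPullback_morphismRestrict i U).paste_vert h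
    haveI : IsAffine U.toScheme := hU
    have hpo := isPushout_appTop_of_isPullback h'
    have hredC : Function.Surjective red.appTop.hom := by
      have e : (Scheme.ΓSpecIso _).inv ≫ red.appTop = CommRingCat.ofHom r₀ ≫ (Scheme.ΓSpecIso _).inv :=
        (Scheme.ΓSpecIso_inv_naturality (CommRingCat.ofHom r₀)).symm
      intro z
      obtain ⟨w, hw⟩ := hr₀ ((Scheme.ΓSpecIso _).hom z)
      refine ⟨(Scheme.ΓSpecIso _).inv w, ?_⟩
      refine (congr($e w)).trans ?_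
      rw [CommRingCat.comp_apply]
      show (Scheme.ΓSpecIso _).inv (r₀ w) = z
      rw [hw, ← CommRingCat.comp_apply, Iso.hom_inv_id]
      rfl
    have hk := ker_le_of_isPushout hpo hredC
    have hred : RingHom.ker red.appTop.hom ≤ Ideal.span {((p : ℕ) : Γ(Spec (CommRingCat.of (ULift.{u} (ZMod (p ^ 2)))), ⊤))} := by
      intro z hz
      have e : red.appTop ≫ (Scheme.ΓSpecIso _).hom = (Scheme.ΓSpecIso _).hom ≫ CommRingCat.ofHom r₀ :=
        Scheme.ΓSpecIso_naturality (CommRingCat.ofHom r₀)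
      have : (Scheme.ΓSpecIso _).hom z ∈ RingHom.ker r₀ := by
        rw [RingHom.mem_ker]
        have := congr($e z)
        rw [CommRingCat.comp_apply, CommRingCat.comp_apply, show red.appTop z = 0 from hz, map_zero] at this
        exact this.symm
      obtain ⟨c, hc⟩ := Ideal.mem_span_singleton'.1 (hr₀k this)
      refine Ideal.mem_span_singleton'.2 ⟨(Scheme.ΓSpecIso _).inv c, ?_⟩
      have := congrArg (Scheme.ΓSpecIso (CommRingCat.of (ULift.{u} (ZMod (p ^ 2))))).inv hc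
      rw [map_mul, map_natCast, ← CommRingCat.comp_apply, Iso.hom_inv_id] at this
      exact this
    have hk2 : RingHom.ker (i ∣_ U).appTop.hom ≤ Ideal.span {((p : ℕ) : Γ(U.toScheme, ⊤))} :=
      hk.trans ((Ideal.map_mono hred).trans (by rw [Ideal.map_span, Set.image_singleton, map_natCast]))
    refine le_antisymm (fun z hz => ?_) ((Ideal.span_singleton_le_iff_mem _).2 ?_)
    · have he : (i ∣_ U).appTop = U.topIso.hom ≫ i.app U ≫ (i ⁻¹ᵁ U).topIso.inv := by
        simp [Scheme.Opens.topIso_hom, Scheme.Opens.topIso_inv, Scheme.Hom.appTop, Scheme.Hom.appLE,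
          ← Functor.map_comp]
        rfl
      have hz' : U.topIso.inv z ∈ RingHom.ker (i ∣_ U).appTop.hom := by
        rw [RingHom.mem_ker]
        show (i ∣_ U).appTop (U.topIso.inv z) = 0
        rw [he, CommRingCat.comp_apply, CommRingCat.comp_apply, ← CommRingCat.comp_apply U.topIso.inv,
          Iso.inv_hom_id, CommRingCat.id_apply, show i.app U z = 0 from hz, map_zero]
      obtain ⟨c, hc⟩ := Ideal.mem_span_singleton'.1 (hk2 hz')
      refine Ideal.mem_span_singleton'.2 ⟨U.topIso.hom c, ?_⟩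
      have := congrArg U.topIso.hom hc
      rw [map_mul, map_natCast, ← CommRingCat.comp_apply, Iso.inv_hom_id] at this
      exact this
    · show i.app U (p : Γ(Y, U)) = 0
      let q : ULift.{u} (ZMod p) →+* Γ(Y', i ⁻¹ᵁ U) :=
        ((Scheme.ΓSpecIso _).inv ≫ b.appLE ⊤ (i ⁻¹ᵁ U) le_top).hom
      rw [map_natCast, ← map_natCast q, show ((p : ℕ) : ULift.{u} (ZMod p)) = 0 from
        ULift.ext _ _ (by simp), map_zero]
  have hker : RingHom.ker π = Ideal.span {(p : A)} := hkerLe j (g ≫ gS) (f ≫ fS) (hX.paste_vert hS) hU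
  have hρker : RingHom.ker ρ = Ideal.span {(p : R)} := hkerLe iS gS fS hS hV
  have hflatp : ∀ {Y : Scheme.{u}} (a : Y ⟶ Spec (CommRingCat.of (ULift.{u} (ZMod (p ^ 2))))) [Flat a]
      {U : Y.Opens}, IsAffineOpen U → ∀ z : Γ(Y, U), (p : Γ(Y, U)) * z = 0 → ∃ z', z = (p : Γ(Y, U)) * z' := by
    intro Y a _ U hU z hz
    let q := ((Scheme.ΓSpecIso (CommRingCat.of (ULift.{u} (ZMod (p ^ 2))))).inv ≫ a.appLE ⊤ U le_top).hom
    have hq : q.Flat := RingHom.Flat.comp (RingHom.Flat.of_bijective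
      (ConcreteCategory.bijective_of_isIso (Scheme.ΓSpecIso _).inv)) (a.flat_appLE (isAffineOpen_top _) hU le_top)
    letI := q.toAlgebra
    haveI : Module.Flat (ULift.{u} (ZMod (p ^ 2))) Γ(Y, U) := hq
    have hs : ∀ w : Γ(Y, U), ((p : ℕ) : ULift.{u} (ZMod (p ^ 2))) • w = (p : Γ(Y, U)) * w := fun w => by
      rw [Algebra.smul_def, map_natCast]
    obtain ⟨z', hz'⟩ := exists_eq_smul_of_smul_eq_zero eR z ((hs z).trans hz)
    exact ⟨z', hz'.trans (hs z')⟩
  have hp2 : ∀ {Y : Scheme.{u}} (a : Y ⟶ Spec (CommRingCat.of (ULift.{u} (ZMod (p ^ 2))))) {U : Y.Opens},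
      (p : Γ(Y, U)) * (p : Γ(Y, U)) = 0 := by
    intro Y a U
    let q := ((Scheme.ΓSpecIso (CommRingCat.of (ULift.{u} (ZMod (p ^ 2))))).inv ≫ a.appLE ⊤ U le_top).hom
    rw [← map_natCast q, ← map_mul, show ((p : ℕ) : ULift.{u} (ZMod (p ^ 2))) * (p : ℕ) = 0 from
      eR.injective (by rw [map_mul, map_natCast, map_zero, ← Nat.cast_mul, ← pow_two, ZMod.natCast_self]), map_zero]
  have hJ : ((Dl m).ideal ⟨U, hU⟩).map π = Ideal.span {t} := by
    rw [← htJ, ← hDl m, BlowUp.ideal_comap_eq_map (Dl m) j ⟨U, hU⟩ ⟨j ⁻¹ᵁ U, hU.preimage j⟩ le_rfl,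
      ← Scheme.Hom.app_eq_appLE]
  have hπs : Function.Surjective π := j.app_surjective U hU
  have hρs : Function.Surjective ρ := iS.app_surjective V hV
  refine ⟨⟨U, hU⟩, hyU, fun a ha => (hUle ha).1.1, ⟨V, hV⟩, hUV, fun _ _ => trivial, fun hfl => ?_,
    fun ⟨u, hu⟩ => ?_⟩
  · haveI := hfl
    let ι := (Dl m).subschemeι
    have hUι : IsAffineOpen (ι ⁻¹ᵁ U) := hU.preimage ι
    refine exists_generator π (p : A) hπs hker (hp2 (g ≫ gS)) (hflatp (g ≫ gS) hU) _ t ht hJ fun a ha => ?_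
    have hk : RingHom.ker (ι.app U).hom = (Dl m).ideal ⟨U, hU⟩ := (Dl m).ker_subschemeι_app ⟨U, hU⟩
    have h0 : (p : Γ((Dl m).subscheme, ι ⁻¹ᵁ U)) * ι.app U a = 0 := by
      rw [← map_natCast (ι.app U).hom, ← map_mul]
      exact RingHom.mem_ker.1 (hk.symm ▸ ha)
    obtain ⟨z', hz'⟩ := hflatp ((ι ≫ g) ≫ gS) hUι _ h0
    obtain ⟨a', rfl⟩ := ι.app_surjective U hU z'
    refine ⟨a', hk ▸ RingHom.mem_ker.2 ?_⟩
    rw [map_sub, map_mul, map_natCast, ← hz', sub_self]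
  · letI : Algebra R A := (g.appLE V U hUV).hom.toAlgebra
    rw [hu]
    have hut : Ideal.span {π u} = Ideal.span {t} := by rw [← hJ, hu, Ideal.map_span, Set.image_singleton]
    have hub : π u ∈ nonZeroDivisors Γ(X, j ⁻¹ᵁ U) := by
      obtain ⟨w, hw⟩ := Ideal.mem_span_singleton'.1 (hut.symm ▸ Ideal.mem_span_singleton_self t)
      rw [← hw] at ht
      exact (mul_mem_nonZeroDivisors.1 ht).2
    refine RingHom.flat_algebraMap_iff.2 (flat_quotient π (p : A) ρ (p : R) (map_natCast _ p) hρs hρker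
      (hp2 gS) hπs hker (hflatp (g ≫ gS) hU) (f.appLE (iS ⁻¹ᵁ V) (j ⁻¹ᵁ U) hUV').hom ?_ u hub (hut ▸ htf))
    have h1 : iS.app V ≫ f.appLE (iS ⁻¹ᵁ V) (j ⁻¹ᵁ U) hUV' = g.appLE V U hUV ≫ j.app U := by
      rw [Scheme.Hom.app_eq_appLE, Scheme.Hom.app_eq_appLE, Scheme.Hom.appLE_comp_appLE,
        Scheme.Hom.appLE_comp_appLE]
      simp only [hX.w]
    exact RingHom.ext fun a => congr($h1 a)

end GrothAux.S17120

namespace Groth.Agent.S17120

/-- Let p be a prime, S~ a scheme flat over Z/p² with reduction S = S~ ×_{Z/p²} F_p (i_S : S → S~ the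
cartesian closed immersion), S noetherian, and f : X → S a smooth morphism with X noetherian; let
D_1, …, D_r be quasi-coherent ideal sheaves on X forming a strict normal crossing divisor relative
to S. Let X~ be a lifting of X to S~ (a flat g : X~ → S~ with j : X → X~ cartesian over i_S) and
D~_1, …, D~_r closed subschemes of X~, given by quasi-coherent ideal sheaves, with D~_m ×_{S~} S =
D_m, i.e. the ideal of D~_m pulled back along j is that of D_m. Then for each m the subscheme D~_m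
is flat over S~ — so that it is a lifting of D_m — if and only if its ideal sheaf is an invertible
O_{X~}-module, i.e. D~_m is an effective Cartier divisor in X~. (The published lemma adds a third
equivalent condition describing the liftings by étale coordinates.) -/
theorem result (p : ℕ) [Fact p.Prime]
    (Sl : Scheme.{u}) (gS : Sl ⟶ Spec (CommRingCat.of (ULift.{u} (ZMod (p ^ 2))))) [Flat gS]
    (S : Scheme.{u}) (iS : S ⟶ Sl) (fS : S ⟶ Spec (CommRingCat.of (ULift.{u} (ZMod p))))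
    (hS : IsPullback iS fS gS (Spec.map (CommRingCat.ofHom
      ((ZMod.castHom (dvd_pow_self p two_ne_zero) (ULift.{u} (ZMod p))).comp
        (ULift.ringEquiv : ULift.{u} (ZMod (p ^ 2)) ≃+* ZMod (p ^ 2)).toRingHom))))
    [IsNoetherian S]
    (X : Scheme.{u}) (f : X ⟶ S) [Smooth f] [IsNoetherian X]
    {r : ℕ} (D : Fin r → X.IdealSheafData) (hD : LogNCD.IsNCD D f)
    (Xl : Scheme.{u}) (g : Xl ⟶ Sl) [Flat g] (j : X ⟶ Xl) (hX : IsPullback j f g iS)
    (Dl : Fin r → Xl.IdealSheafData) (hDl : ∀ m, (Dl m).comap j = D m) (m : Fin r) :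
    Flat ((Dl m).subschemeι ≫ g) ↔ PicF.IsInvertible (ClSub.idealMod (Dl m)) := by
  constructor
  · intro h
    refine IdealModSec.isInvertible_of_isEffCartier fun y => ?_
    obtain ⟨U, hy, -, V, hUV, -, h1, -⟩ :=
      GrothAux.S17120.local_data gS iS fS hS f D hD g j hX Dl hDl m y (N := ⊤) trivial
    exact ⟨U, hy, h1 h⟩
  · intro h
    have hC := IdealModSec.isEffCartier_of_isInvertible h
    haveI hq : ∀ y : Xl, ∃ (U : Xl.affineOpens) (V : Sl.affineOpens) (hUV : U.1 ≤ g ⁻¹ᵁ V.1), y ∈ U.1 ∧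
        ((Ideal.Quotient.mk ((Dl m).ideal U)).comp (g.appLE V.1 U.1 hUV).hom).Flat := by
      intro y
      obtain ⟨U₀, hy₀, hU₀⟩ := hC y
      obtain ⟨U, hy, hUN, V, hUV, -, -, h2⟩ :=
        GrothAux.S17120.local_data gS iS fS hS f D hD g j hX Dl hDl m y (N := U₀.1) hy₀
      obtain ⟨a, -, ha⟩ := BlowUp.CartierOn.mono (I := Dl m) hU₀ hUN
      exact ⟨U, V, hUV, hy, h2 ⟨a, ha⟩⟩
    choose U V hUV hyU hflat using hq
    let ι := (Dl m).subschemeι
    refine IsZariskiLocalAtSource.of_iSup_eq_top (fun y => ι ⁻¹ᵁ (U y).1) (top_unique fun z _ =>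
      TopologicalSpace.Opens.mem_iSup.2 ⟨ι z, hyU (ι z)⟩) fun y => ?_
    have hA : IsAffineOpen (ι ⁻¹ᵁ (U y).1) := (U y).2.preimage ι
    have hle : ι ⁻¹ᵁ (U y).1 ≤ (ι ≫ g) ⁻¹ᵁ (V y).1 := fun a ha => hUV y ha
    let ψ := (ι ≫ g).appLE (V y).1 (ι ⁻¹ᵁ (U y).1) hle
    have hψ : ψ.hom.Flat := by
      have e : ψ = g.appLE (V y).1 (U y).1 (hUV y) ≫ ι.app (U y).1 := by
        rw [Scheme.Hom.app_eq_appLE, Scheme.Hom.appLE_comp_appLE]
      have hk : RingHom.ker (ι.app (U y).1).hom = (Dl m).ideal (U y) := (Dl m).ker_subschemeι_app (U y)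
      let E : (Γ(Xl, (U y).1) ⧸ (Dl m).ideal (U y)) ≃+* Γ((Dl m).subscheme, ι ⁻¹ᵁ (U y).1) :=
        (Ideal.quotEquivOfEq hk.symm).trans (RingHom.quotientKerEquivOfSurjective (ι.app_surjective (U y).1 (U y).2))
      have e2 : ψ.hom = E.toRingHom.comp ((Ideal.Quotient.mk ((Dl m).ideal (U y))).comp
          (g.appLE (V y).1 (U y).1 (hUV y)).hom) := by
        rw [e]
        exact RingHom.ext fun a => rfl
      rw [e2]
      exact RingHom.Flat.comp (hflat y) (RingHom.Flat.of_bijective E.bijective)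
    haveI : Flat (Spec.map ψ) := (HasRingHomProperty.Spec_iff (P := @Flat)).2 hψ
    haveI := (V y).2.isOpenImmersion_fromSpec
    have hh : Flat (hA.fromSpec ≫ ι ≫ g) := by
      rw [← IsAffineOpen.SpecMap_appLE_fromSpec (ι ≫ g) (V y).2 hA hle]
      infer_instance
    rw [← IsAffineOpen.isoSpec_hom_fromSpec hA, Category.assoc]
    exact (MorphismProperty.cancel_left_of_respectsIso @Flat hA.isoSpec.hom _).2 hh

end Groth.Agent.S17120
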