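import Groth.Statements.S1713
import Groth.Agent.Lib.DualCx22.LocalCohD

set_option autoImplicit false
universe u
open CategoryTheory
attribute [local instance] HasDerivedCategory.standard
open Dual

namespace Groth.Agent.S1713

/-- Let A be a Noetherian local ring with maximal ideal m and a normalized dualizing complex ω, and M a
finite A-module. For every i ≥ 0 the annihilator of the A-module of maps M → ω[-i] in D(A) equals
the annihilator of the local cohomology module H^i_m(M). -/
theorem result (A : Type u) [CommRing A] [IsLocalRing A] [IsNoetherianRing A] (ω : Dual.D A) (hω : Dual.IsDualizing A ω) (hn : Dual.IsNormalized A ω) (M : Type u) [AddCommGroup M] [Module A M] [Module.Finite A M] (i : ℕ) : Module.annihilator A (Dual.inD A M ⟶ ω⟦(-(i : ℤ))⟧) = Module.annihilator A (LocCoh.H (IsLocalRing.maximalIdeal A) i M) := by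
  obtain ⟨N, hN, ⟨e⟩⟩ := GrothLib.DualCx22.exists_finite_hom_equiv hω (Dual.inD A M)
    (GrothLib.DualCx22.finite_HD_inD M) (-(i : ℤ))
  obtain ⟨E, _, _, f, hf⟩ := GrothLib.InjMod.exists_injective_hull (R := A) (IsLocalRing.ResidueField A)
  obtain ⟨d⟩ := GrothLib.DualCx22.nonempty_LCH_dual hω hn hf M i
  rw [← e.annihilator_eq, GrothLib.Matlis.annihilator_dual hf N, (d.trans (e.symm.congrLeft E A)).annihilator_eq]

end Groth.Agent.S1713
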