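import Groth.Statements.S17130
-- import your own Groth.Agent.* helpers here
import Groth.Agent.Lib.NcdLift26.Base
import Groth.Agent.Lib.Hensel.SmoothAlgLift
import Groth.Agent.Lib.BlowUp.IdealComap

set_option autoImplicit false
universe u
open CategoryTheory CategoryTheory.Limits AlgebraicGeometry
open Lift

set_option backward.isDefEq.respectTransparency false
set_option linter.style.haveILetI false

noncomputable section

open CategoryTheory CategoryTheory.Limits AlgebraicGeometry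
open GrothLib

namespace GrothAux.S17130

open Opposite GrothLib.NcdLift26

theorem isPushout_of_surjective {R Rb Z Ab : CommRingCat.{u}} {a : R ⟶ Z} {b : R ⟶ Rb} {c : Z ⟶ Ab} {d : Rb ⟶ Ab}
    (w : a ≫ c = b ≫ d) (hc : Function.Surjective c.hom)
    (hk : RingHom.ker c.hom ≤ (RingHom.ker b.hom).map a.hom) (hb : Function.Surjective b.hom) :
    IsPushout a b c d := by
  have hs : ∀ s : PushoutCocone a b, RingHom.ker c.hom ≤ RingHom.ker s.inl.hom := fun s =>
    hk.trans (Ideal.map_le_iff_le_comap.2 fun x hx => by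
      rw [Ideal.mem_comap, RingHom.mem_ker]
      have := congr($(s.condition) x)
      rw [CommRingCat.comp_apply, CommRingCat.comp_apply, show b x = 0 from hx, map_zero] at this
      exact this)
  refine ⟨⟨w⟩, ⟨PushoutCocone.IsColimit.mk w (fun s => CommRingCat.ofHom
    (RingHom.liftOfSurjective c.hom hc ⟨s.inl.hom, hs s⟩))
    (fun s => ?_) (fun s => ?_) fun s t h1 h2 => ?_⟩⟩
  · ext z
    exact RingHom.liftOfRightInverse_comp_apply c.hom _ (Function.rightInverse_surjInv hc) ⟨s.inl.hom, hs s⟩ z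
  · ext z
    obtain ⟨z, rfl⟩ := hb z
    show RingHom.liftOfSurjective c.hom hc ⟨s.inl.hom, hs s⟩ (d (b z)) = s.inr (b z)
    rw [← CommRingCat.comp_apply b, ← w, CommRingCat.comp_apply]
    exact (RingHom.liftOfRightInverse_comp_apply c.hom _ (Function.rightInverse_surjInv hc) ⟨s.inl.hom, hs s⟩ (a z)).trans
      congr($(s.condition) z)
  · ext z
    obtain ⟨z, rfl⟩ := hc z
    show t (c z) = RingHom.liftOfSurjective c.hom hc ⟨s.inl.hom, hs s⟩ (c z)
    rw [← CommRingCat.comp_apply c, h1]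
    exact (RingHom.liftOfRightInverse_comp_apply c.hom _ (Function.rightInverse_surjInv hc) ⟨s.inl.hom, hs s⟩ z).symm

end GrothAux.S17130

namespace Groth.Agent.S17130

/-- Let p be a prime, S~ a scheme flat over Z/p² with reduction S = S~ ×_{Z/p²} F_p (i : S → S~ the
cartesian closed immersion), S noetherian, f : X → S smooth with X noetherian, and D_1, …, D_r
quasi-coherent ideal sheaves on X forming a strict normal crossing divisor relative to S. Then
locally in the Zariski topology the pair (X, D) lifts to S~: every point of X has an open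
neighbourhood U with a flat g : U~ → S~ and j : U → U~ cartesian over i, together with closed
subschemes D~_1, …, D~_r of U~ (quasi-coherent ideals), flat over S~, whose ideals pull back along j
to the restrictions of the D_m to U. -/
theorem result (p : ℕ) [Fact p.Prime]
    (Sl : Scheme.{u}) (gS : Sl ⟶ Spec (CommRingCat.of (ULift.{u} (ZMod (p ^ 2))))) [Flat gS]
    (S : Scheme.{u}) (iS : S ⟶ Sl) (fS : S ⟶ Spec (CommRingCat.of (ULift.{u} (ZMod p))))
    (hS : IsPullback iS fS gS (Spec.map (CommRingCat.ofHom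
      ((ZMod.castHom (dvd_pow_self p two_ne_zero) (ULift.{u} (ZMod p))).comp
        (ULift.ringEquiv : ULift.{u} (ZMod (p ^ 2)) ≃+* ZMod (p ^ 2)).toRingHom))))
    [IsNoetherian S]
    (X : Scheme.{u}) (f : X ⟶ S) [Smooth f] [IsNoetherian X]
    {r : ℕ} (D : Fin r → X.IdealSheafData) (hD : LogNCD.IsNCD D f) (x : X) :
    ∃ U : X.Opens, x ∈ U ∧ ∃ (Ul : Scheme.{u}) (g : Ul ⟶ Sl) (j : (U : Scheme.{u}) ⟶ Ul),
      Flat g ∧ IsPullback j (U.ι ≫ f) g iS ∧
        ∃ Dl : Fin r → Ul.IdealSheafData, ∀ m, (Dl m).comap j = (D m).comap U.ι ∧ Flat ((Dl m).subschemeι ≫ g) := by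
  classical
  obtain ⟨hreds, hredc⟩ := NcdLift26.surjective_red.{u} p
  haveI : IsClosedImmersion iS := MorphismProperty.of_isPullback hS.flip hredc
  choose Wm hxWm hWm using fun m => NcdLift26.exists_coordinate f D hD m x
  let W₀ : X.Opens := ⟨⋂ m, (Wm m : Set X), isOpen_iInter_of_finite fun m => (Wm m).2⟩
  obtain ⟨V, hV, hfV, -⟩ := exists_isAffineOpen_mem_and_subset (U := (⊤ : Sl.Opens)) (x := iS (f x)) trivial
  have hV' : IsAffineOpen (iS ⁻¹ᵁ V) := hV.preimage iS
  obtain ⟨U, hU, hxU, hUle⟩ := exists_isAffineOpen_mem_and_subset (U := W₀ ⊓ f ⁻¹ᵁ (iS ⁻¹ᵁ V)) (x := x)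
    ⟨Set.mem_iInter.2 hxWm, hfV⟩
  have hUV : U ≤ f ⁻¹ᵁ (iS ⁻¹ᵁ V) := fun a ha => (hUle ha).2
  choose t ht htD htf using fun m => hWm m ⟨U, hU⟩ (fun a ha => Set.mem_iInter.1 (hUle ha).1 m) ⟨iS ⁻¹ᵁ V, hV'⟩ hUV
  let R := Γ(Sl, V)
  let ρ := iS.app V
  have hρs : Function.Surjective ρ.hom := iS.app_surjective V hV
  have hρk : RingHom.ker ρ.hom = Ideal.span {(p : R)} := NcdLift26.ker_app_of_isPullback iS gS fS hS hV
  let φb := f.appLE (iS ⁻¹ᵁ V) U hUV
  let κ := RingHom.quotientKerEquivOfSurjective hρs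
  letI a₀ : Algebra (R ⧸ RingHom.ker ρ.hom) Γ(X, U) := (φb.hom.comp κ.toRingHom).toAlgebra
  letI a₁ : Algebra R Γ(X, U) := (ρ ≫ φb).hom.toAlgebra
  haveI : IsScalarTower R (R ⧸ RingHom.ker ρ.hom) Γ(X, U) := IsScalarTower.of_algebraMap_eq fun r => rfl
  haveI : Algebra.Smooth (R ⧸ RingHom.ker ρ.hom) Γ(X, U) := by
    have h : φb.hom.Smooth := f.smooth_appLE hV' hU hUV
    have h' : (φb.hom.comp κ.toRingHom).Smooth := RingHom.Smooth.respectsIso.2 _ κ h
    exact RingHom.smooth_algebraMap.1 h'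
  obtain ⟨Z, _, _, φ, hZ, hφs, hφk⟩ := Hensel.exists_smooth_lift (RingHom.ker ρ.hom) Γ(X, U)
  haveI := hZ
  let a : R ⟶ CommRingCat.of Z := CommRingCat.ofHom (algebraMap R Z)
  let c : CommRingCat.of Z ⟶ Γ(X, U) := CommRingCat.ofHom φ.toRingHom
  have w : a ≫ c = ρ ≫ φb := by
    ext r
    exact φ.commutes r
  have hpush := GrothAux.S17130.isPushout_of_surjective (a := a) (b := ρ) (c := c) (d := φb) w hφs hφk.le hρs
  let g : Spec (CommRingCat.of Z) ⟶ Sl := Spec.map a ≫ hV.fromSpec
  let j : (U : Scheme.{u}) ⟶ Spec (CommRingCat.of Z) := hU.isoSpec.hom ≫ Spec.map c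
  haveI hga : Flat (Spec.map a) := by
    rw [HasRingHomProperty.Spec_iff (P := @Flat)]
    exact RingHom.flat_algebraMap_iff.2 inferInstance
  haveI : Flat g := inferInstance
  have hpb : IsPullback j (U.ι ≫ f) g iS := by
    have hQ : IsPullback (Spec.map c) (Spec.map φb) (Spec.map a) (Spec.map ρ) :=
      isPullback_SpecMap_of_isPushout _ _ _ _ hpush
    have hsq : IsPullback (Spec.map ρ) hV'.fromSpec hV.fromSpec iS := by
      refine IsOpenImmersion.isPullback _ _ _ _ ?_ ?_
      · show hV'.fromSpec ≫ iS = Spec.map (iS.app V) ≫ hV.fromSpec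
        rw [Scheme.Hom.app_eq_appLE]
        exact (IsAffineOpen.SpecMap_appLE_fromSpec iS hV hV' _).symm
      · rw [IsAffineOpen.opensRange_fromSpec, IsAffineOpen.opensRange_fromSpec]
    have hleft : IsPullback hU.isoSpec.hom (U.ι ≫ f) (Spec.map φb ≫ hV'.fromSpec) (𝟙 S) := by
      refine IsPullback.of_horiz_isIso ⟨?_⟩
      rw [IsAffineOpen.SpecMap_appLE_fromSpec f hV' hU hUV, IsAffineOpen.isoSpec_hom_fromSpec_assoc,
        Category.comp_id]
    simpa only [Category.id_comp] using hleft.paste_horiz (hQ.paste_vert hsq)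
  choose u hu using fun m => hφs (t m)
  let e := Scheme.ΓSpecIso (CommRingCat.of Z)
  refine ⟨U, hxU, Spec (CommRingCat.of Z), g, j, inferInstance, hpb,
    fun m => Scheme.IdealSheafData.ofIdealTop (Ideal.span {e.inv (u m)}), fun m => ⟨?_, ?_⟩⟩
  · haveI : IsAffine (U : Scheme.{u}) := hU
    refine Scheme.IdealSheafData.ext_of_isAffine ?_
    rw [BlowUp.ideal_comap_eq_map _ j ⟨⊤, isAffineOpen_top _⟩ ⟨⊤, isAffineOpen_top _⟩ le_top,
      BlowUp.ideal_comap_eq_map (D m) U.ι ⟨U, hU⟩ ⟨⊤, isAffineOpen_top _⟩ (fun a _ => a.2),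
      Scheme.IdealSheafData.ofIdealTop_ideal, htD m, Ideal.map_span, Ideal.map_span, Set.image_singleton,
      Ideal.map_span, Set.image_singleton, Set.image_singleton]
    congr 2
    show (j.appLE ⊤ ⊤ le_top).hom _ = _
    have h1 : e.inv ≫ j.appLE ⊤ ⊤ le_top = c ≫ U.topIso.inv := by
      have h2 : (Scheme.ΓSpecIso (CommRingCat.of Z)).inv ≫ (Spec.map c).appTop = c ≫ (Scheme.ΓSpecIso Γ(X, U)).inv :=
        (Scheme.ΓSpecIso_inv_naturality c).symm
      have h3 : (Scheme.ΓSpecIso Γ(X, U)).inv ≫ hU.isoSpec.hom.appTop = U.topIso.inv := by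
        rw [IsAffineOpen.isoSpec_hom_appTop]
        simp
      rw [show j.appLE ⊤ ⊤ le_top = j.appTop by simp [Scheme.Hom.appLE]; rfl, Scheme.Hom.comp_appTop]
      rw [reassoc_of% h2, h3]
    have h4 : U.ι.appLE U ⊤ (fun a _ => a.2) = U.topIso.inv := by
      simp [Scheme.Hom.appLE, Scheme.Opens.topIso_inv, ← Functor.map_comp]
      rfl
    refine Eq.trans ?_ (congr($h4 (t m)).symm)
    refine Eq.trans ?_ (congrArg U.topIso.inv.hom (hu m))
    exact Eq.trans (by simp) congr($h1 (u m))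
  · let I := Scheme.IdealSheafData.ofIdealTop (Ideal.span {e.inv (u m)})
    let ι := I.subschemeι
    have hann : ∀ z : Z, (p : Z) * z = 0 → ∃ z', z = (p : Z) * z' := by
      intro z hz
      obtain ⟨z', hz'⟩ := NcdLift26.exists_eq_mul_of_mul_eq_zero (g ≫ gS) (isAffineOpen_top _) (e.inv z) (by
        rw [← map_natCast e.inv.hom, ← map_mul, hz, map_zero])
      refine ⟨e.hom z', ?_⟩
      have := congrArg e.hom.hom hz'
      rw [map_mul, map_natCast, ← CommRingCat.comp_apply, Iso.inv_hom_id] at this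
      exact this
    have hφk' : RingHom.ker φ.toRingHom = Ideal.span {(p : Z)} := by
      rw [show RingHom.ker φ.toRingHom = _ from hφk, hρk, Ideal.map_span, Set.image_singleton, map_natCast]
    have hflat : Module.Flat R (Z ⧸ Ideal.span {u m}) := by
      refine NcdLift26.flat_quotient φ.toRingHom (p : Z) ρ.hom (p : R) (map_natCast _ p) hρs hρk
        (NcdLift26.natCast_mul_natCast gS) hφs hφk' hann φb.hom ?_ (u m) ?_ ?_
      · exact RingHom.ext fun r => (φ.commutes r).symm
      · exact (hu m).symm ▸ ht m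
      · exact (hu m).symm ▸ htf m
    have hA : IsAffineOpen (ι ⁻¹ᵁ ⊤) := (isAffineOpen_top _).preimage ι
    have hk : RingHom.ker (e.inv ≫ ι.app ⊤).hom = Ideal.span {u m} := by
      rw [CommRingCat.hom_comp, ← RingHom.comap_ker, I.ker_subschemeι_app ⟨⊤, isAffineOpen_top _⟩,
        Scheme.IdealSheafData.ofIdealTop_ideal, Ideal.map_span, Set.image_singleton]
      refine le_antisymm (fun z hz => ?_) ((Ideal.span_singleton_le_iff_mem _).2 ?_)
      · obtain ⟨d, hd⟩ := Ideal.mem_span_singleton'.1 (Ideal.mem_comap.1 hz)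
        refine Ideal.mem_span_singleton'.2 ⟨e.hom d, ?_⟩
        have := congrArg e.hom.hom hd
        simp only [map_mul] at this
        simpa [← CommRingCat.comp_apply] using this
      · rw [Ideal.mem_comap]
        exact Ideal.mem_span_singleton'.2 ⟨1, by simp⟩
    have hsurj : Function.Surjective (e.inv ≫ ι.app ⊤).hom :=
      (ι.app_surjective ⊤ (isAffineOpen_top _)).comp (ConcreteCategory.bijective_of_isIso e.inv).surjective
    let E : (Z ⧸ Ideal.span {u m}) ≃+* Γ(I.subscheme, ι ⁻¹ᵁ ⊤) :=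
      (Ideal.quotEquivOfEq hk.symm).trans (RingHom.quotientKerEquivOfSurjective hsurj)
    let ψ : R ⟶ Γ(I.subscheme, ι ⁻¹ᵁ ⊤) := a ≫ e.inv ≫ ι.app ⊤
    haveI : Flat (Spec.map ψ) := by
      rw [HasRingHomProperty.Spec_iff (P := @Flat)]
      have e2 : ψ.hom = E.toRingHom.comp ((Ideal.Quotient.mk (Ideal.span {u m})).comp (algebraMap R Z)) :=
        RingHom.ext fun r => rfl
      rw [e2]
      exact RingHom.Flat.comp (RingHom.flat_algebraMap_iff.2 hflat) (RingHom.Flat.of_bijective E.bijective)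
    haveI := hV.isOpenImmersion_fromSpec
    have hh : hA.fromSpec ≫ ι ≫ g = Spec.map ψ ≫ hV.fromSpec := by
      have h1 : hA.fromSpec ≫ ι = Spec.map (e.inv ≫ ι.app ⊤) := by
        rw [Spec.map_comp, Scheme.Hom.app_eq_appLE, ← IsAffineOpen.SpecMap_appLE_fromSpec ι (isAffineOpen_top _) hA le_rfl]
        congr 1
        rw [IsAffineOpen.fromSpec_top, Scheme.isoSpec_Spec_inv]
      show hA.fromSpec ≫ ι ≫ Spec.map a ≫ hV.fromSpec = _
      rw [reassoc_of% h1, ← Spec.map_comp_assoc]
    have hf2 : Flat (hA.fromSpec ≫ ι ≫ g) := hh ▸ inferInstance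
    haveI : IsIso hA.fromSpec := by
      haveI := hA.isOpenImmersion_fromSpec
      haveI : Surjective hA.fromSpec := ⟨fun z => by
        have : z ∈ Set.range hA.fromSpec := by rw [hA.range_fromSpec]; trivial
        exact this⟩
      haveI : Epi hA.fromSpec.base := (TopCat.epi_iff_surjective _).2 hA.fromSpec.surjective
      exact IsOpenImmersion.isIso hA.fromSpec
    exact (MorphismProperty.cancel_left_of_respectsIso @Flat hA.fromSpec _).1 hf2

end Groth.Agent.S17130
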