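import Groth.Statements.S1714
import Groth.Agent.Lib.Cutoff3.AdicComp
import Groth.Agent.Lib.Segre.GorTools

set_option autoImplicit false
universe u
open CategoryTheory
attribute [local instance] HasDerivedCategory.standard
open LocCoh

namespace Groth.Agent.S1714

/-- Let A be a Noetherian ring with a dualizing complex, I an ideal, M a finite A-module, A' and M' the
I-adic completions. Let p' ⊆ q' be primes of A' with I A' ⊆ q', lying over the primes p ⊆ q of A.
Then the depth of M'_{p'} over A'_{p'} is at least the depth of M_p over A_p, and depth(M'_{p'})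
plus the dimension of the interval of primes [p', q'] equals depth(M_p) plus the dimension of [p,
q]. -/
theorem result (A : Type u) [CommRing A] [IsNoetherianRing A] (hA : ∃ ω : Dual.D A, Dual.IsDualizing A ω) (I : Ideal A) (M : Type u) [AddCommGroup M] [Module A M] [Module.Finite A M] (p' q' : PrimeSpectrum (AdicCompletion I A)) (hpq : p' ≤ q') (hq : Ideal.map (algebraMap A (AdicCompletion I A)) I ≤ q'.asIdeal) : LocCoh.depth (Localization.AtPrime (p'.asIdeal.comap (algebraMap A (AdicCompletion I A)))) (LocalizedModule (p'.asIdeal.comap (algebraMap A (AdicCompletion I A))).primeCompl M) ≤ LocCoh.depth (Localization.AtPrime p'.asIdeal) (LocalizedModule p'.asIdeal.primeCompl (AdicCompletion I M)) ∧ ((LocCoh.depth (Localization.AtPrime p'.asIdeal) (LocalizedModule p'.asIdeal.primeCompl (AdicCompletion I M)) : ℕ∞) : WithBot ℕ∞) + Order.krullDim (Set.Icc p' q') = ((LocCoh.depth (Localization.AtPrime (p'.asIdeal.comap (algebraMap A (AdicCompletion I A)))) (LocalizedModule (p'.asIdeal.comap (algebraMap A (AdicCompletion I A))).primeCompl M) : ℕ∞) : WithBot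 ℕ∞) + Order.krullDim (Set.Icc ((PrimeSpectrum.comap (algebraMap A (AdicCompletion I A))) p') ((PrimeSpectrum.comap (algebraMap A (AdicCompletion I A))) q')) := by
    obtain ⟨ω, hω⟩ := hA
    have hUC : CAlg.IsUniversallyCatenary A := Groth.Agent.S1721.result A ω hω
    have hCM : ∀ q : Ideal A, ∀ [q.IsPrime], EGA4.HasCMFormalFibres (Localization.AtPrime q) := fun q _ r _ => by
      obtain ⟨ω', hω'⟩ := GrothLib.DualCx22.exists_dualizing_essFiniteType (Localization.AtPrime q) ⟨ω, hω⟩
      haveI : IsNoetherianRing (Localization.AtPrime q) := GrothLib.Depth.isNoetherian_atPrime q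
      haveI := Groth.Agent.S1723.result (Localization.AtPrime q) ω' hω' ⟨r, inferInstance⟩
      exact GrothLib.Gor.isCohenMacaulayRing _
    haveI : IsNoetherianRing (AdicCompletion I A) :=
      GrothLib.AdicExtra.isNoetherianRing_adicCompletion_of_fg I (IsNoetherian.noetherian I)
    obtain ⟨h1, h2⟩ := GrothLib.Cutoff3.depth_adicCompletion I hUC hCM M p'.asIdeal q'.asIdeal hpq hq
    have hde : LocCoh.depth (Localization.AtPrime p'.asIdeal) (LocalizedModule p'.asIdeal.primeCompl (TensorProduct A (AdicCompletion I A) M)) =
        LocCoh.depth (Localization.AtPrime p'.asIdeal) (LocalizedModule p'.asIdeal.primeCompl (AdicCompletion I M)) := by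
      have := GrothLib.Cutoff3.term_congr (AdicCompletion.ofTensorProductEquivOfFiniteNoetherian I M) p'.asIdeal p'.asIdeal
      simpa [GrothLib.Cutoff3.term, Ideal.map_quotient_self] using this
    rw [← hde]
    refine ⟨h1, ?_⟩
    rw [GrothLib.Cutoff3.krullDim_Icc_eq p' q' hpq, GrothLib.Cutoff3.krullDim_Icc_eq _ _ (Ideal.comap_mono hpq),
      ← WithBot.coe_add, ← WithBot.coe_add]
    exact congrArg _ h2

end Groth.Agent.S1714
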