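import Groth.Statements.S17141
import Groth.Agent.Lib.Isoc.Slope

set_option autoImplicit false
universe u v
open Isoc

namespace Groth.Agent.S17141

/-- Let k be a perfect field of characteristic p, a ∈ ℤ, W = W(k) with fraction field L, and (N, F) a
σ^a-F-isocrystal over k (N finite-dimensional over L, F a bijective σ^a-semilinear endomorphism),
with N ≠ 0, and let M be any W-lattice in N. Then for every n ≥ 1 the order ord_M(F^n) (the largest
r with F^n(M) ⊆ p^r M) is defined, say o(n), and the limit of o(n)/n as n → ∞ exists in ℝ. -/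
theorem result (p : ℕ) [Fact p.Prime] (k : Type u) [Field k] [CharP k p] [PerfectRing k p] (a : ℤ)
    (N : Type v) [AddCommGroup N] [Module (WittVector p k) N] [Module (FractionRing (WittVector p k)) N]
    [IsScalarTower (WittVector p k) (FractionRing (WittVector p k)) N]
    [Nontrivial N] (F : N →ₛₗ[Isoc.frob p k a] N) (hF : Isoc.IsIsoc F)
    (M : Submodule (WittVector p k) N) (hM : M.IsLattice (FractionRing (WittVector p k))) :
    ∃ o : ℕ → ℤ, (∀ n : ℕ, 1 ≤ n → Isoc.IsOrd M F n (o n)) ∧
      ∃ lam : ℝ, Filter.Tendsto (fun n : ℕ => (o n : ℝ) / n) Filter.atTop (nhds lam) := by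
  have := hF.finite
  obtain ⟨o, ho, h⟩ := GrothLib.Isoc.exists_ord_seq (GrothLib.Isoc.adm_frob (p := p) (k := k) a) hF.bijective hM
  exact ⟨o, fun n _ => ho n, h⟩

end Groth.Agent.S17141
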