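import Groth.Statements.S1715
import Groth.Agent.Lib.SkFinite3.Basic

set_option autoImplicit false
universe u
open CategoryTheory
attribute [local instance] HasDerivedCategory.standard
open LocCoh

namespace Groth.Agent.S1715

/-- For an affine scheme: let A be a Noetherian ring with a dualizing complex and M a finite A-module
satisfying Serre's condition (S_k). Then there are only finitely many primes p such that M_p has
depth exactly k while its support has dimension greater than k. (The source states this for coherent
modules on a Noetherian scheme with a dualizing complex.) -/
theorem result (A : Type u) [CommRing A] [IsNoetherianRing A] (hA : ∃ ω : Dual.D A, Dual.IsDualizing A ω) (M : Type u) [AddCommGroup M] [Module A M] [Module.Finite A M] (k : ℕ) (hM : LocCoh.HasSk k A M) : Set.Finite {p : PrimeSpectrum A | LocCoh.depth (Localization.AtPrime p.asIdeal) (LocalizedModule p.asIdeal.primeCompl M) = k ∧ (k : WithBot ℕ∞) < Module.supportDim (Localization.AtPrime p.asIdeal) (LocalizedModule p.asIdeal.primeCompl M)} := by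
    obtain ⟨ω, hω⟩ := hA
    exact GrothLib.SkFinite3.finite_setOf_depth_eq M hω k hM

end Groth.Agent.S1715
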