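import Groth.Statements.S17150
import Groth.Agent.Lib.Isoc.Isoclinic

set_option autoImplicit false
universe u v w
open Isoc

namespace Groth.Agent.S17150

/-- Let k be a perfect field of characteristic p and a ∈ ℤ; let (N₁, F₁) and (N₂, F₂) be
σ^a-F-isocrystals over k that are isoclinic of slopes μ₁ and μ₂ respectively (in the lattice sense:
F_i^{s_i}(M_i) = p^{r_i} · M_i with r_i/s_i = μ_i), with μ₁ ≠ μ₂. Then every morphism of isocrystals
f : (N₁, F₁) → (N₂, F₂), i.e. every L-linear map with f ∘ F₁ = F₂ ∘ f, is zero. -/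
theorem result (p : ℕ) [Fact p.Prime] (k : Type u) [Field k] [CharP k p] [PerfectRing k p] (a : ℤ)
    (N₁ : Type v) [AddCommGroup N₁] [Module (WittVector p k) N₁] [Module (FractionRing (WittVector p k)) N₁]
    [IsScalarTower (WittVector p k) (FractionRing (WittVector p k)) N₁]
    (N₂ : Type w) [AddCommGroup N₂] [Module (WittVector p k) N₂] [Module (FractionRing (WittVector p k)) N₂]
    [IsScalarTower (WittVector p k) (FractionRing (WittVector p k)) N₂]
    (F₁ : N₁ →ₛₗ[Isoc.frob p k a] N₁) (F₂ : N₂ →ₛₗ[Isoc.frob p k a] N₂)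
    (h₁ : Isoc.IsIsoc F₁) (h₂ : Isoc.IsIsoc F₂)
    (μ₁ μ₂ : ℚ) (hμ₁ : Isoc.IsIsoclinic F₁ μ₁) (hμ₂ : Isoc.IsIsoclinic F₂ μ₂) (hne : μ₁ ≠ μ₂)
    (f : N₁ →ₗ[(FractionRing (WittVector p k))] N₂) (hf : ∀ x : N₁, f (F₁ x) = F₂ (f x)) : f = 0 := by
  have h := GrothLib.Isoc.eq_zero_of_isoclOn (GrothLib.Isoc.adm_frob (p := p) (k := k) a) h₂.bijective.1 hf
    (GrothLib.Isoc.isoclOn_top.mpr hμ₁) (GrothLib.Isoc.isoclOn_top.mpr hμ₂) hne le_top
  rw [Submodule.map_top] at h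
  exact LinearMap.range_eq_bot.mp h

end Groth.Agent.S17150
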