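import Groth.Statements.S17151
import Groth.Agent.Lib.Isoc.Isoclinic

set_option autoImplicit false
universe u v
open Isoc

namespace Groth.Agent.S17151

/-- Let k be a perfect field of characteristic p, a ∈ ℤ, W = W(k) with fraction field L, and (N, F) a
σ^a-F-isocrystal over k (N finite-dimensional over L, F a bijective σ^a-semilinear endomorphism),
and let μ ∈ ℚ. The slope-μ part N_μ of N — the sum of all F-stable L-subspaces P such that (P, F|P)
is isoclinic of slope μ — is F-stable and is itself isoclinic of slope μ; so it is the largest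
F-stable subspace on which F is isoclinic of slope μ. -/
theorem result (p : ℕ) [Fact p.Prime] (k : Type u) [Field k] [CharP k p] [PerfectRing k p] (a : ℤ)
    (N : Type v) [AddCommGroup N] [Module (WittVector p k) N] [Module (FractionRing (WittVector p k)) N]
    [IsScalarTower (WittVector p k) (FractionRing (WittVector p k)) N]
    (F : N →ₛₗ[Isoc.frob p k a] N) (hF : Isoc.IsIsoc F) (μ : ℚ) :
    ∃ hP : ∀ x ∈ Isoc.slopePart F μ, F x ∈ Isoc.slopePart F μ,
      Isoc.IsIsoclinic (F.restrict hP) μ := by
  have := hF.finite
  obtain ⟨hs, hi⟩ := GrothLib.Isoc.slopePart_isoclOn (GrothLib.Isoc.adm_frob (p := p) (k := k) a) F μ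
  exact ⟨hs, (GrothLib.Isoc.isIsoclinic_restrict_iff hs).mpr hi⟩

end Groth.Agent.S17151
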