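import Groth.Statements.S17155
import Groth.Agent.Lib.Isoc.AlgClosed

set_option autoImplicit false
universe u v
open Isoc

namespace Groth.Agent.S17155

/-- Let k be an algebraically closed field of characteristic p, a ∈ ℤ with a ≠ 0, and (N, F) a
σ^a-F-isocrystal over k. Then (N, F) is isomorphic to a finite direct sum of standard isocrystals
N_λ (λ = d/h in lowest terms, h > 0; N_λ is L^h with F e_j = e_{j+1} for j + 1 < h and F e_{h−1} =
p^d · e_0): there are t ∈ ℕ, integers d_i and natural numbers h_i > 0 with gcd(d_i, h_i) = 1 (i <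
t), and an L-linear isomorphism e from N to the product of the spaces L^{h_i} such that e ∘ F is the
product of the standard Frobenii composed with e. Moreover, for every μ ∈ ℚ, the sum of the h_i over
those i with d_i/h_i = μ equals the multiplicity m_μ of μ as a Newton slope of (N, F), i.e. the
L-dimension of the slope-μ part of N; so N_λ occurs m_λ/h(λ) times. (Both a ≠ 0 and k algebraically
closed are needed.) -/
theorem result (p : ℕ) [Fact p.Prime] (k : Type u) [Field k] [CharP k p] [PerfectRing k p] [IsAlgClosed k]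
    (a : ℤ) (ha : a ≠ 0)
    (N : Type v) [AddCommGroup N] [Module (WittVector p k) N] [Module (FractionRing (WittVector p k)) N]
    [IsScalarTower (WittVector p k) (FractionRing (WittVector p k)) N]
    (F : N →ₛₗ[Isoc.frob p k a] N) (hF : Isoc.IsIsoc F) :
    ∃ (t : ℕ) (d : Fin t → ℤ) (h : Fin t → ℕ)
      (e : N ≃ₗ[(FractionRing (WittVector p k))] ((i : Fin t) → (Fin (h i) → (FractionRing (WittVector p k))))),
      (∀ i, 0 < h i ∧ Int.gcd (d i) (h i) = 1) ∧
      (∀ (x : N) (i : Fin t), e (F x) i = Isoc.stdIsoc (Isoc.frob p k a) (d i) (h i) (e x i)) ∧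
      ∀ μ : ℚ, Isoc.newtonMult F μ = ∑ i : Fin t, (if ((d i : ℚ) / (h i : ℚ)) = μ then h i else 0) := by
  have := hF.finite
  obtain ⟨t, d, h, g, hdh, hint⟩ := GrothLib.Isoc.exists_std_decomp ha hF.bijective
  refine ⟨t, d, h, g.symm, hdh, fun x i => ?_,
    GrothLib.Isoc.std_decomp_mult hF.bijective g (fun i => (hdh i).1) hint⟩
  have h1 := hint (g.symm x)
  rw [g.apply_symm_apply] at h1
  rw [← h1, g.symm_apply_apply]

end Groth.Agent.S17155
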