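import Groth.Statements.S17156
import Groth.Agent.Lib.Isoc.Charpoly

set_option autoImplicit false
universe u v w
open scoped Classical
open Isoc

namespace Groth.Agent.S17156

/-- Let k be a finite field with q = p^m elements, W = W(k) with fraction field L, a ∈ ℤ, and (N, F) a
σ^a-F-isocrystal over k. Then π := F^m is L-linear; let π be given as an L-linear endomorphism of N
agreeing with F^m pointwise, with characteristic polynomial f (monic of degree the height). Let Ω be
an algebraically closed field containing L, with the W-algebra structure through L. Each Newton
slope of (N, F), counted with multiplicity, equals ord(α)/ord(q) for the corresponding root α of f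
in Ω; here this is stated as: for every μ ∈ ℚ, written num/den in lowest terms, the multiplicity m_μ
of μ as a Newton slope (the L-dimension of the slope-μ part of N) equals the number of roots α of f
in Ω, counted with multiplicity, such that α^den · p^(−num·m) is a unit of the integral closure of W
in Ω (it and its inverse are integral over W) — which says ord(α) = μ · m for the valuation on Ω ⊇ L
normalised by ord(p) = 1, the ring W being a complete discrete valuation ring. -/
theorem result
    (p : ℕ) [Fact p.Prime] (k : Type u) [Field k] [CharP k p] [PerfectRing k p] [Fintype k]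
    (m : ℕ) (hk : Fintype.card k = p ^ m) (a : ℤ)
    (N : Type v) [AddCommGroup N] [Module (WittVector p k) N] [Module (FractionRing (WittVector p k)) N]
    [IsScalarTower (WittVector p k) (FractionRing (WittVector p k)) N]
    [Module.Finite (FractionRing (WittVector p k)) N]
    (F : N →ₛₗ[Isoc.frob p k a] N) (hF : Isoc.IsIsoc F)
    (π : N →ₗ[(FractionRing (WittVector p k))] N) (hπ : ∀ x : N, π x = (⇑F)^[m] x)
    (Ω : Type w) [Field Ω] [IsAlgClosed Ω] [Algebra (WittVector p k) Ω] [Algebra (FractionRing (WittVector p k)) Ω]
    [IsScalarTower (WittVector p k) (FractionRing (WittVector p k)) Ω] (μ : ℚ) :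
    Isoc.newtonMult F μ =
      Multiset.countP
        (fun α : Ω => IsIntegral (WittVector p k) (α ^ μ.den * (algebraMap (FractionRing (WittVector p k)) Ω (p : (FractionRing (WittVector p k)))) ^ (-(μ.num * (m : ℤ))))
          ∧ IsIntegral (WittVector p k) (α ^ μ.den * (algebraMap (FractionRing (WittVector p k)) Ω (p : (FractionRing (WittVector p k)))) ^ (-(μ.num * (m : ℤ))))⁻¹)
        ((π.charpoly.map (algebraMap (FractionRing (WittVector p k)) Ω)).roots) := by
  classical
  have hm : m ≠ 0 := by
    rintro rfl
    have := Fintype.one_lt_card (α := k)
    rw [hk, pow_zero] at this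
    exact lt_irrefl _ this
  convert GrothLib.Isoc.newtonMult_eq_countP (Ω := Ω) (GrothLib.Isoc.adm_frob (p := p) (k := k) a) hF.bijective hm hπ μ using 1
  congr!

end Groth.Agent.S17156
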