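import Groth.Statements.S17157
import Groth.Agent.Lib.Isoc.Finite

set_option autoImplicit false
universe u
open Isoc

namespace Groth.Agent.S17157

/-- Let k be a finite field of characteristic p, W = W(k), L its fraction field with Frobenius σ, and
let U be the σ-semilinear endomorphism of L² = (Fin 2 → L) determined by U(e₀) = e₀ and U(e₁) = e₀ +
e₁ on the standard basis. Then (L², U) is an F-isocrystal in which the sub-isocrystal L · e₀ admits
no U-stable complementary L-subspace; in particular the category of F-isocrystals over a finite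
field is not semisimple. (Over an algebraically closed field a complement exists.) -/
theorem result
    (p : ℕ) [Fact p.Prime] (k : Type u) [Field k] [CharP k p] [PerfectRing k p] [Finite k]
    (U : (Fin 2 → (FractionRing (WittVector p k))) →ₛₗ[Isoc.frob p k 1] (Fin 2 → (FractionRing (WittVector p k))))
    (hU0 : U (Pi.single 0 1) = Pi.single 0 1)
    (hU1 : U (Pi.single 1 1) = Pi.single 0 1 + Pi.single 1 1)
    (Q : Submodule (FractionRing (WittVector p k)) (Fin 2 → (FractionRing (WittVector p k)))) (hQ : ∀ x ∈ Q, U x ∈ Q) :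
    ¬ IsCompl (Submodule.span (FractionRing (WittVector p k)) {(Pi.single 0 1 : Fin 2 → (FractionRing (WittVector p k)))}) Q := by
  classical
  intro hc
  set e₀ : Fin 2 → FractionRing (WittVector p k) := Pi.single 0 1
  set e₁ : Fin 2 → FractionRing (WittVector p k) := Pi.single 1 1
  obtain ⟨x, hx, v, hv, hxv⟩ := Submodule.mem_sup.mp (hc.codisjoint.eq_top ▸ Submodule.mem_top :
    e₁ ∈ Submodule.span (FractionRing (WittVector p k)) {e₀} ⊔ Q)
  obtain ⟨c, rfl⟩ := Submodule.mem_span_singleton.mp hx
  have hv' : v = e₁ - c • e₀ := by rw [← hxv]; abel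
  subst hv'
  have hU := hQ _ hv
  rw [map_sub, map_smulₛₗ, hU0, hU1] at hU
  have hdiff := sub_mem hU hv
  set z := (1 : FractionRing (WittVector p k)) - Isoc.frob p k 1 c + c with hz
  have he : e₀ + e₁ - Isoc.frob p k 1 c • e₀ - (e₁ - c • e₀) = z • e₀ := by
    rw [hz, add_smul, sub_smul, one_smul]; abel
  rw [he] at hdiff
  have hz0 : z • e₀ = 0 := (Submodule.disjoint_def.mp hc.disjoint) _
    (Submodule.smul_mem _ _ (Submodule.mem_span_singleton_self e₀)) hdiff
  have hz1 : z = 0 := by simpa [e₀] using congrFun hz0 0
  have hstep : Isoc.frob p k 1 c = c + 1 := by linear_combination -hz1 + hz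
  have hit : ∀ n : ℕ, (Isoc.frob p k 1 ^ n) c = c + (n : FractionRing (WittVector p k)) := by
    intro n
    induction n with
    | zero => simp
    | succ n ih =>
      rw [pow_succ', RingHom.coe_mul, Function.comp_apply, ih, map_add, map_natCast, hstep,
        Nat.cast_succ]
      ring
  have := Fintype.ofFinite k
  obtain ⟨m, -, hm⟩ := FiniteField.card k p
  have h0 := hit m
  rw [GrothLib.Isoc.frob_card_eq hm 1] at h0
  exact GrothLib.Isoc.natCast_ne_zero (p := p) (k := k) m.ne_zero (by simpa using h0)

end Groth.Agent.S17157
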