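import Groth.Statements.S1716
import Groth.Agent.Lib.DualRing.LocalizedEH
import Groth.Agent.Lib.DualRing.Finite
-- import your own Groth.Agent.* helpers here

set_option autoImplicit false
universe u
open CategoryTheory
attribute [local instance] HasDerivedCategory.standard
open Dual

namespace Groth.Agent.S1716

/-- Let A be a Noetherian ring with a dualizing complex and M a finite A-module. The set U of primes p
at which M_p is zero or a Cohen–Macaulay module is open in Spec A, and the primes of the support of
M at which M_p is Cohen–Macaulay are dense in the support of M. (The zero module is counted as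
Cohen–Macaulay here.) -/
theorem result (A : Type u) [CommRing A] [IsNoetherianRing A] (hA : ∃ ω : Dual.D A, Dual.IsDualizing A ω) (M : Type u) [AddCommGroup M] [Module A M] [Module.Finite A M] : IsOpen {p : PrimeSpectrum A | Subsingleton (LocalizedModule p.asIdeal.primeCompl M) ∨ LocCoh.IsCohenMacaulayModule (Localization.AtPrime p.asIdeal) (LocalizedModule p.asIdeal.primeCompl M)} ∧ Module.support A M ⊆ closure ({p : PrimeSpectrum A | LocCoh.IsCohenMacaulayModule (Localization.AtPrime p.asIdeal) (LocalizedModule p.asIdeal.primeCompl M)} ∩ Module.support A M) := by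
  obtain ⟨ω, hω⟩ := hA
  obtain ⟨a, b, hab⟩ := hω.finite_injective_dimension
  have hE : ∀ i : ℤ, i ∉ Finset.Icc a b →
      Module.support A (GrothLib.DualRing.EH ω (Dual.inD A M) i) = ∅ := fun i hi => by
    rw [Finset.mem_Icc] at hi
    exact Module.support_eq_empty_iff.2 (hab M i (by omega))
  have hsub : ∀ (p : PrimeSpectrum A) (i : ℤ), Subsingleton (LocalizedModule p.asIdeal.primeCompl M) →
      p ∉ Module.support A (GrothLib.DualRing.EH ω (Dual.inD A M) i) := fun p i hs hi => by
    obtain ⟨ω', hω', -, hiff⟩ := GrothLib.DualRing.exists_localized_EH hω p M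
    have h := (hiff (i - GrothLib.DualRing.deg hω p.asIdeal)).2
      (by rwa [show GrothLib.DualRing.deg hω p.asIdeal + (i - GrothLib.DualRing.deg hω p.asIdeal) = i by omega])
    haveI := hs
    exact not_subsingleton_iff_nontrivial.2 h inferInstance
  have key : ∀ p : PrimeSpectrum A, (Subsingleton (LocalizedModule p.asIdeal.primeCompl M) ∨
      LocCoh.IsCohenMacaulayModule (Localization.AtPrime p.asIdeal) (LocalizedModule p.asIdeal.primeCompl M)) ↔
      ∀ i j : ℤ, p ∈ Module.support A (GrothLib.DualRing.EH ω (Dual.inD A M) i) →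
        p ∈ Module.support A (GrothLib.DualRing.EH ω (Dual.inD A M) j) → i = j := fun p => by
    by_cases hp : p ∈ Module.support A M
    · haveI : Nontrivial (LocalizedModule p.asIdeal.primeCompl M) := Module.mem_support_iff.1 hp
      obtain ⟨k, hk, hmem, -, hiff⟩ := GrothLib.DualRing.exists_degrees hω p M hp
      rw [or_iff_right (not_subsingleton _)]
      unfold LocCoh.IsCohenMacaulayModule
      rw [hk, eq_comm]
      exact hiff.trans ⟨fun h i j hi hj => (h i hi).trans (h j hj).symm, fun h i hi => h i _ hi hmem⟩
    · have hs : Subsingleton (LocalizedModule p.asIdeal.primeCompl M) := Module.notMem_support_iff.1 hp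
      exact iff_of_true (Or.inl hs) fun i j hi => absurd hi (hsub p i hs)
  constructor
  · have h : {p : PrimeSpectrum A | Subsingleton (LocalizedModule p.asIdeal.primeCompl M) ∨
        LocCoh.IsCohenMacaulayModule (Localization.AtPrime p.asIdeal) (LocalizedModule p.asIdeal.primeCompl M)} =
        (⋃ t ∈ ((Finset.Icc a b) ×ˢ (Finset.Icc a b)).filter (fun t => t.1 ≠ t.2),
          Module.support A (GrothLib.DualRing.EH ω (Dual.inD A M) t.1) ∩
            Module.support A (GrothLib.DualRing.EH ω (Dual.inD A M) t.2))ᶜ := by
      ext p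
      refine (key p).trans ?_
      simp only [Set.mem_compl_iff, Set.mem_iUnion, Finset.mem_filter, Finset.mem_product, Set.mem_inter_iff,
        not_exists, not_and]
      refine ⟨fun h t ht h1 h2 => ht.2 (h _ _ h1 h2), fun h i j hi hj => not_not.1 fun hne => ?_⟩
      have his : i ∈ Finset.Icc a b := not_not.1 fun h' => by simp [hE i h'] at hi
      have hjs : j ∈ Finset.Icc a b := not_not.1 fun h' => by simp [hE j h'] at hj
      exact h (i, j) ⟨⟨his, hjs⟩, hne⟩ hi hj
    rw [h]
    refine (Set.Finite.isClosed_biUnion (Finset.finite_toSet _) fun t _ => ?_).isOpen_compl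
    haveI := GrothLib.DualRing.finite_EH hω M t.1
    haveI := GrothLib.DualRing.finite_EH hω M t.2
    exact Module.isClosed_support.inter Module.isClosed_support
  · intro x hx
    obtain ⟨q, hq, hle⟩ := Ideal.exists_minimalPrimes_le (Module.annihilator_le_of_mem_support hx)
    haveI := hq.isPrime
    have hqs : (⟨q, inferInstance⟩ : PrimeSpectrum A) ∈ Module.support A M := by
      rw [Module.support_eq_zeroLocus, PrimeSpectrum.mem_zeroLocus]
      exact hq.1.2
    refine mem_closure_iff.2 fun U hU hxU =>
      ⟨⟨q, inferInstance⟩, hU.stableUnderGeneralization ((PrimeSpectrum.le_iff_specializes _ x).1 hle) hxU, ?_, hqs⟩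
    haveI : Nontrivial (LocalizedModule q.primeCompl M) := Module.mem_support_iff.1 hqs
    refine ((key ⟨q, inferInstance⟩).2 fun i j hi hj => ?_).resolve_left (not_subsingleton _)
    have hfin : GrothLib.DualRing.len q M ≠ ⊤ := GrothLib.DualRing.len_ne_top_of_minimal (q := q) (Module.annihilator A M)
      (fun s hs hIs hsq => le_antisymm hsq (hq.2 ⟨hs, hIs⟩ hsq)) M (fun a ha z => Module.mem_annihilator.1 ha z)
    have h1 : ∀ l, (⟨q, inferInstance⟩ : PrimeSpectrum A) ∈ Module.support A (GrothLib.DualRing.EH ω (Dual.inD A M) l) →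
        l = GrothLib.DualRing.deg hω q := fun l hl => by
      by_contra hne
      exact (GrothLib.DualRing.nontrivial_localized_iff q _).1 (Module.mem_support_iff.1 hl)
        (GrothLib.DualRing.len_EH_eq_zero M (GrothLib.DualRing.mu_ne_deg hω q hne) hfin)
    exact (h1 i hi).trans (h1 j hj).symm


end Groth.Agent.S1716
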