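import Groth.Statements.S2933
import Groth.Agent.S0335
import Mathlib.RingTheory.Ideal.MinimalPrime.Noetherian
import Mathlib.RingTheory.Ideal.Height

set_option autoImplicit false
universe u
open LocCoh

namespace Groth.Agent.S2933

/-- Let A be a Noetherian ring with connected spectrum and d ≥ 1 an integer such that every prime p with
dim A_p ≥ d has depth A_p ≥ 2. Then for any two minimal primes p', p'' of A there is a finite
sequence of minimal primes starting at p' and ending at p'' such that any two consecutive members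
are both contained in some prime of height at most d − 1 (Spec A is connected in codimension d − 1). -/
theorem result (A : Type u) [CommRing A] [IsNoetherianRing A] [ConnectedSpace (PrimeSpectrum A)] (d : ℕ) (hd : 1 ≤ d) (h : ∀ p : PrimeSpectrum A, (d : ℕ∞) ≤ p.asIdeal.height → (2 : ℕ∞) ≤ LocCoh.depth (Localization.AtPrime p.asIdeal) (Localization.AtPrime p.asIdeal)) (p' p'' : PrimeSpectrum A) (hp' : p'.asIdeal ∈ minimalPrimes A) (hp'' : p''.asIdeal ∈ minimalPrimes A) : ∃ l : List (PrimeSpectrum A), l.head? = some p' ∧ l.getLast? = some p'' ∧ (∀ p ∈ l, p.asIdeal ∈ minimalPrimes A) ∧ List.IsChain (fun p q => ∃ r : PrimeSpectrum A, p ≤ r ∧ q ≤ r ∧ r.asIdeal.height ≤ (d - 1 : ℕ)) l := by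
    classical
    let r : {p : PrimeSpectrum A // p.asIdeal ∈ minimalPrimes A} →
        {p : PrimeSpectrum A // p.asIdeal ∈ minimalPrimes A} → Prop :=
      fun p q => ∃ z : PrimeSpectrum A, p.1 ≤ z ∧ q.1 ≤ z ∧ z.asIdeal.height ≤ (d - 1 : ℕ)
    suffices hreach : Relation.ReflTransGen r ⟨p', hp'⟩ ⟨p'', hp''⟩ by
      obtain ⟨l, hl, hlast⟩ := List.exists_isChain_cons_of_relationReflTransGen hreach
      refine ⟨((⟨p', hp'⟩ :: l)).map Subtype.val, rfl, ?_, ?_, (List.isChain_map _).2 hl⟩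
      · rw [List.getLast?_map, List.getLast?_eq_some_getLast (List.cons_ne_nil _ _), hlast]
        rfl
      · intro p hp
        obtain ⟨q, -, rfl⟩ := List.mem_map.1 hp
        exact q.2
    by_contra hne
    have hfin : (minimalPrimes A).Finite := Ideal.finite_minimalPrimes_of_isNoetherianRing A ⊥
    let fs := hfin.toFinset
    let inS : Ideal A → Prop := fun P => ∃ (hP : P.IsPrime) (hm : P ∈ minimalPrimes A),
      Relation.ReflTransGen r ⟨p', hp'⟩ ⟨⟨P, hP⟩, hm⟩
    let a : Ideal A := (fs.filter inS).inf id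
    let b : Ideal A := (fs.filter fun P => ¬ inS P).inf id
    have hmem : ∀ x : PrimeSpectrum A, a ≤ x.asIdeal ∨ b ≤ x.asIdeal := by
      intro x
      obtain ⟨P, hP, hPx⟩ := Ideal.exists_minimalPrimes_le (bot_le : (⊥ : Ideal A) ≤ x.asIdeal)
      have hPf : P ∈ fs := hfin.mem_toFinset.2 hP
      by_cases hS : inS P
      · exact Or.inl ((Finset.inf_le (f := id) (Finset.mem_filter.2 ⟨hPf, hS⟩)).trans hPx)
      · exact Or.inr ((Finset.inf_le (f := id) (Finset.mem_filter.2 ⟨hPf, hS⟩)).trans hPx)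
    have ha' : a ≤ p'.asIdeal :=
      Finset.inf_le (f := id) (Finset.mem_filter.2 ⟨hfin.mem_toFinset.2 hp', p'.2, hp', .refl⟩)
    have hb' : b ≤ p''.asIdeal := Finset.inf_le (f := id) (Finset.mem_filter.2
      ⟨hfin.mem_toFinset.2 hp'', fun ⟨_, _, h'⟩ => hne h'⟩)
    obtain ⟨x, -, hxa, hxb⟩ := isPreconnected_closed_iff.1 (PreconnectedSpace.isPreconnected_univ)
      (PrimeSpectrum.zeroLocus (a : Set A)) (PrimeSpectrum.zeroLocus (b : Set A))
      (PrimeSpectrum.isClosed_zeroLocus _) (PrimeSpectrum.isClosed_zeroLocus _)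
      (fun y _ => (hmem y).imp (fun h => h) (fun h => h)) ⟨p', trivial, ha'⟩ ⟨p'', trivial, hb'⟩
    obtain ⟨Z, hZ, -⟩ := Ideal.exists_minimalPrimes_le (I := a ⊔ b) (J := x.asIdeal) (sup_le hxa hxb)
    have := hZ.1.1
    -- components through `Z`
    obtain ⟨P, hP, hPZ⟩ := (Ideal.IsPrime.inf_le' hZ.1.1).1 (le_sup_left.trans hZ.1.2 : a ≤ Z)
    obtain ⟨Q, hQ, hQZ⟩ := (Ideal.IsPrime.inf_le' hZ.1.1).1 (le_sup_right.trans hZ.1.2 : b ≤ Z)
    obtain ⟨-, hPp, hPm, hPr⟩ := Finset.mem_filter.1 hP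
    obtain ⟨hQf, hQn⟩ := Finset.mem_filter.1 hQ
    have hQm : Q ∈ minimalPrimes A := hfin.mem_toFinset.1 hQf
    have hQp : Q.IsPrime := hQm.1.1
    have hne' : P ≠ Q := fun e => hQn (e ▸ ⟨hPp, hPm, hPr⟩)
    have hht : (d : ℕ∞) ≤ Z.height := by
      by_contra hlt
      rw [not_le] at hlt
      obtain ⟨g, hg⟩ := ENat.ne_top_iff_exists.1 hlt.ne_top
      refine hQn ⟨hQp, hQm, hPr.tail ⟨⟨Z, hZ.1.1⟩, hPZ, hQZ, ?_⟩⟩
      rw [← hg, Nat.cast_lt] at hlt
      rw [← hg, Nat.cast_le]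
      omega
    have := IsLocalization.isNoetherianRing Z.primeCompl (Localization.AtPrime Z) inferInstance
    have hconn := (Groth.Agent.S0335.result (Localization.AtPrime Z) (h ⟨Z, hZ.1.1⟩ hht)).isPreconnected
    let f := PrimeSpectrum.comap (algebraMap A (Localization.AtPrime Z))
    have hf : Continuous f := PrimeSpectrum.continuous_comap _
    have hlift : ∀ R' : Ideal A, R'.IsPrime → R' ≤ Z → R' ≠ Z → ∃ y : PrimeSpectrum (Localization.AtPrime Z),
        y.asIdeal ≠ IsLocalRing.maximalIdeal (Localization.AtPrime Z) ∧ (f y).asIdeal = R' := by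
      intro R' hR' hle hRne
      have hd : Disjoint (Z.primeCompl : Set A) R' := Set.disjoint_left.2 fun z hz hzR => hz (hle hzR)
      have hc : (R'.map (algebraMap A (Localization.AtPrime Z))).comap (algebraMap A (Localization.AtPrime Z)) = R' :=
        IsLocalization.under_map_of_isPrime_disjoint Z.primeCompl _ hR' hd
      refine ⟨⟨_, IsLocalization.isPrime_of_isPrime_disjoint Z.primeCompl _ R' hR' hd⟩, fun e => ?_, hc⟩
      refine hRne (hc.symm.trans ((congrArg (Ideal.comap (algebraMap A (Localization.AtPrime Z))) e).trans ?_))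
      exact IsLocalization.AtPrime.comap_maximalIdeal (Localization.AtPrime Z) Z
    have hmin : ∀ R' ∈ minimalPrimes A, ∀ R'' ∈ minimalPrimes A, R' ≤ Z → R'' ≤ Z → R' ≠ R'' → R' ≠ Z := by
      intro R' hR' R'' hR'' h1 h2 hne2 e
      subst e
      exact hne2 (le_antisymm (hR'.2 hR''.1 h2) h2)
    obtain ⟨y₁, hy₁, e₁⟩ := hlift P hPp hPZ (hmin P hPm Q hQm hPZ hQZ hne')
    obtain ⟨y₂, hy₂, e₂⟩ := hlift Q hQp hQZ (hmin Q hQm P hPm hQZ hPZ hne'.symm)
    obtain ⟨y, hy, hya, hyb⟩ := isPreconnected_closed_iff.1 hconn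
      (f ⁻¹' PrimeSpectrum.zeroLocus (a : Set A)) (f ⁻¹' PrimeSpectrum.zeroLocus (b : Set A))
      ((PrimeSpectrum.isClosed_zeroLocus _).preimage hf) ((PrimeSpectrum.isClosed_zeroLocus _).preimage hf)
      (fun y _ => hmem (f y)) ⟨y₁, hy₁, show a ≤ (f y₁).asIdeal by rw [e₁]; exact Finset.inf_le (f := id) hP⟩
      ⟨y₂, hy₂, show b ≤ (f y₂).asIdeal by rw [e₂]; exact Finset.inf_le (f := id) hQ⟩
    have hle : (f y).asIdeal ≤ Z :=
      le_of_le_of_eq (Ideal.comap_mono (IsLocalRing.le_maximalIdeal y.2.ne_top))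
        (IsLocalization.AtPrime.comap_maximalIdeal (Localization.AtPrime Z) Z)
    have heq : (f y).asIdeal = Z := le_antisymm hle (hZ.2 ⟨(f y).2, sup_le hya hyb⟩ hle)
    refine hy ((IsLocalRing.le_maximalIdeal y.2.ne_top).antisymm ?_)
    rw [← Localization.AtPrime.map_eq_maximalIdeal, Ideal.map_le_iff_le_comap]
    exact heq.ge

end Groth.Agent.S2933
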