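import Groth.Statements.S5154
import Groth.Agent.S2933
import Groth.Agent.Lib.DeltaZ.Scheme

set_option autoImplicit false
universe u
open LocCoh

namespace Groth.Agent.S5154

/-- Let A be a Noetherian local ring which is catenary and such that depth A_p ≥ 2 for every prime p
with dim A_p ≥ 2. Then all irreducible components of Spec A have dimension dim A: for every minimal
prime p, dim A/p = dim A. -/
theorem result (A : Type u) [CommRing A] [IsLocalRing A] [IsNoetherianRing A] (hc : CAlg.IsCatenary A) (h : ∀ p : PrimeSpectrum A, (2 : ℕ∞) ≤ p.asIdeal.height → (2 : ℕ∞) ≤ LocCoh.depth (Localization.AtPrime p.asIdeal) (Localization.AtPrime p.asIdeal)) (p : Ideal A) (hp : p ∈ minimalPrimes A) : ringKrullDim (A ⧸ p) = ringKrullDim A := by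
  classical
  have hclosed : ∀ (Z : Set (PrimeSpectrum A)), IsClosed Z → Z.Nonempty → IsLocalRing.closedPoint A ∈ Z :=
    fun Z hZ ⟨x, hx⟩ => ((PrimeSpectrum.le_iff_specializes x (IsLocalRing.closedPoint A)).1
      (IsLocalRing.le_maximalIdeal x.2.ne_top)).mem_closed hZ hx
  have : ConnectedSpace (PrimeSpectrum A) :=
    { isPreconnected_univ := isPreconnected_closed_iff.2 fun Z Z' hZ hZ' _ ⟨x, _, hx⟩ ⟨y, _, hy⟩ =>
        ⟨IsLocalRing.closedPoint A, trivial, hclosed Z hZ ⟨x, hx⟩, hclosed Z' hZ' ⟨y, hy⟩⟩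
      toNonempty := inferInstance }
  have hstep : ∀ a b : PrimeSpectrum A, a.asIdeal ∈ minimalPrimes A → b.asIdeal ∈ minimalPrimes A →
      (∃ r : PrimeSpectrum A, a ≤ r ∧ b ≤ r ∧ r.asIdeal.height ≤ (2 - 1 : ℕ)) →
      Order.coheight a = Order.coheight b := by
    rintro a b ha hb ⟨r, har, hbr, hr⟩
    rcases eq_or_ne a b with rfl | hne
    · rfl
    have hlt : ∀ c : PrimeSpectrum A, c ≤ r → c ≠ r → c ⋖ r := fun c hc hcr =>
      ⟨lt_of_le_of_ne hc hcr, fun t hct htr => by
        have h1 := Order.height_add_one_le hct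
        have h2 := Order.height_add_one_le htr
        rw [← PrimeSpectrum.height_eq_orderHeight r] at h2
        have h3 : (2 : ℕ∞) ≤ r.asIdeal.height := by
          refine le_trans ?_ ((add_le_add h1 le_rfl).trans h2)
          rw [add_assoc]
          exact le_add_self
        exact absurd (h3.trans hr) (by decide)⟩
    obtain ⟨m, hm⟩ := ENat.ne_top_iff_exists.1 (GrothLib.DeltaZ.coheight_ne_top r)
    rw [GrothLib.DeltaZ.coheight_eq_add_one_of_covBy hc
        (hlt a har fun e => hne (PrimeSpectrum.ext (le_antisymm (ha.2 hb.1 (e ▸ hbr)) (e ▸ hbr)))) hm.symm,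
      GrothLib.DeltaZ.coheight_eq_add_one_of_covBy hc
        (hlt b hbr fun e => hne (PrimeSpectrum.ext (le_antisymm (e ▸ har) (hb.2 ha.1 (e ▸ har))))) hm.symm]
  have hall : ∀ a b : PrimeSpectrum A, a.asIdeal ∈ minimalPrimes A → b.asIdeal ∈ minimalPrimes A →
      Order.coheight a = Order.coheight b := by
    intro a b ha hb
    obtain ⟨l, hl1, hl2, hlm, hch⟩ := Groth.Agent.S2933.result A 2 one_le_two h a b ha hb
    have key : ∀ (l : List (PrimeSpectrum A)) (a : PrimeSpectrum A),
        l.head? = some a → (∀ x ∈ l, x.asIdeal ∈ minimalPrimes A) →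
        List.IsChain (fun x y : PrimeSpectrum A => ∃ r : PrimeSpectrum A, x ≤ r ∧ y ≤ r ∧ r.asIdeal.height ≤ (2 - 1 : ℕ)) l →
        ∀ x ∈ l, Order.coheight x = Order.coheight a := by
      intro l
      induction l with
      | nil => simp
      | cons c l ih =>
        intro a ha hm hch x hx
        obtain rfl : c = a := by simpa using ha
        rcases List.mem_cons.1 hx with rfl | hx'
        · rfl
        rcases l with _ | ⟨d, l⟩
        · simp at hx'
        rw [List.isChain_cons_cons] at hch
        rw [ih d rfl (fun y hy => hm y (List.mem_cons_of_mem _ hy)) hch.2 x hx']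
        exact (hstep c d (hm c (List.mem_cons_self)) (hm d (by simp)) hch.1).symm
    exact (key l a hl1 hlm hch b (List.mem_of_getLast? hl2)).symm
  refine le_antisymm (ringKrullDim_quotient_le p) ?_
  let x : PrimeSpectrum A := ⟨p, hp.1.1⟩
  rw [GrothLib.AffDom.ringKrullDim_quotient_eq_coheight x, ringKrullDim, Order.krullDim_eq_iSup_coheight_of_nonempty]
  refine WithBot.coe_le_coe.2 (iSup_le fun z => ?_)
  obtain ⟨q, hq, hle⟩ := Ideal.exists_minimalPrimes_le (bot_le : (⊥ : Ideal A) ≤ z.asIdeal)
  exact (Order.coheight_anti (show (⟨q, hq.1.1⟩ : PrimeSpectrum A) ≤ z from hle)).trans_eq (hall _ x hq hp)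

end Groth.Agent.S5154
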