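import Groth.Statements.S1717
import Groth.Agent.S5154

set_option autoImplicit false
universe u
open LocCoh

namespace Groth.Agent.S1717

/-- Let A be a catenary Noetherian local ring satisfying Serre's condition (S_2). Then Spec A is
equidimensional: for every minimal prime p of A the dimension of A/p equals the dimension of A. -/
theorem result (A : Type u) [CommRing A] [IsLocalRing A] [IsNoetherianRing A] (hc : CAlg.IsCatenary A) (hS : LocCoh.HasSk 2 A A) (p : Ideal A) (hp : p ∈ minimalPrimes A) : ringKrullDim (A ⧸ p) = ringKrullDim A := by
  refine Groth.Agent.S5154.result A hc (fun q hq => ?_) p hp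
  have h := hS q.asIdeal
  have hdim : Module.supportDim (Localization.AtPrime q.asIdeal) (LocalizedModule q.asIdeal.primeCompl A) =
      (q.asIdeal.height : WithBot ℕ∞) :=
    (Module.supportDim_self_eq_ringKrullDim (R := Localization.AtPrime q.asIdeal)).trans
      (IsLocalization.AtPrime.ringKrullDim_eq_height q.asIdeal (Localization.AtPrime q.asIdeal))
  rw [hdim] at h
  replace h := (le_min (le_refl _) (WithBot.coe_le_coe.2 hq)).trans h
  exact WithBot.coe_le_coe.1 h

end Groth.Agent.S1717
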