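import Groth.Statements.S17171
-- import your own Groth.Agent.* helpers here

set_option autoImplicit false
open QSymFn

namespace Groth.Agent.S17171

theorem sum_single_eq (n : ℕ) (i : Fin n → ℕ) (a : Fin n → ℕ) :
    (∑ t : Fin n, Finsupp.single (i t) (a t)) = Finsupp.mapDomain i (∑ t : Fin n, Finsupp.single t (a t)) := by
  rw [Finsupp.mapDomain_finsetSum]
  simp [Finsupp.mapDomain_single]

theorem coeff_mapDomain_eq (F : MvPowerSeries ℕ ℤ)
    (hF : ∀ (ℓ : ℕ) (i j : Fin ℓ → ℕ) (a : Fin ℓ → ℕ), StrictMono i → StrictMono j → (∀ t, 0 < a t) →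
      MvPowerSeries.coeff (∑ t : Fin ℓ, Finsupp.single (i t) (a t)) F =
        MvPowerSeries.coeff (∑ t : Fin ℓ, Finsupp.single (j t) (a t)) F)
    {n : ℕ} (g h : Fin n → ℕ) (hg : StrictMono g) (hh : StrictMono h) (e : Fin n →₀ ℕ) :
    MvPowerSeries.coeff (Finsupp.mapDomain g e) F = MvPowerSeries.coeff (Finsupp.mapDomain h e) F := by
  classical
  let i0 : Fin e.support.card ↪o Fin n := e.support.orderEmbOfFin rfl
  have he : e = ∑ t, Finsupp.single (i0 t) (e (i0 t)) := by
    conv_lhs => rw [← Finsupp.sum_single e]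
    rw [Finsupp.sum]
    conv_lhs => rw [← Finset.image_orderEmbOfFin_univ e.support rfl, Finset.sum_image i0.injective.injOn]
  have hmap : ∀ g : Fin n → ℕ, Finsupp.mapDomain g e = ∑ t, Finsupp.single ((g ∘ i0) t) (e (i0 t)) := fun g => by
    conv_lhs => rw [he, Finsupp.mapDomain_finsetSum]
    simp [Finsupp.mapDomain_single]
  rw [hmap g, hmap h]
  exact hF _ _ _ _ (hg.comp i0.strictMono) (hh.comp i0.strictMono) fun t =>
    Nat.pos_of_ne_zero (Finsupp.mem_support_iff.1 (Finset.orderEmbOfFin_mem _ _ t))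

/-- The ring QSym of quasisymmetric functions over ℤ, with its restriction maps to the polynomial rings
in finitely many ordered variables, is the limit of the diagram S ↦ ℤ[α_s : s ∈ S] over finite
ordered sets S and order-preserving injections (an injection φ : S → T acting by α_t ↦ α_s when t =
φ s and α_t ↦ 0 otherwise), the limit being taken in graded rings. Stated here on degree-d
components, with the variables indexed by ℕ in place of the positive integers and the finite ordered
sets taken to be the Fin n: (a) if F is a formal power series over ℤ in variables indexed by ℕ which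
is quasisymmetric (for strictly increasing i, j : Fin ℓ → ℕ and positive exponents a, the
coefficients of ∏ x_{i t}^{a t} and ∏ x_{j t}^{a t} agree) and all of whose monomials have degree d,
then its restrictions to the initial segments Fin n ⊂ ℕ are compatible with every order embedding
Fin n ↪o Fin m; (b) every family of degree-d homogeneous polynomials f n ∈ ℤ[x_s : s ∈ Fin n],
compatible with all order embeddings Fin n ↪o Fin m in this sense, is the family of restrictions of
exactly one such quasisymmetric F of degree d. -/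
theorem result (d : ℕ) :
    (∀ F : MvPowerSeries ℕ ℤ,
      (∀ (ℓ : ℕ) (i j : Fin ℓ → ℕ) (a : Fin ℓ → ℕ), StrictMono i → StrictMono j → (∀ t, 0 < a t) →
        MvPowerSeries.coeff (∑ t : Fin ℓ, Finsupp.single (i t) (a t)) F =
          MvPowerSeries.coeff (∑ t : Fin ℓ, Finsupp.single (j t) (a t)) F) →
      (∀ e : ℕ →₀ ℕ, MvPowerSeries.coeff e F ≠ 0 → e.degree = d) →
      ∀ (n m : ℕ) (φ : Fin n ↪o Fin m) (e : Fin n →₀ ℕ),
        MvPowerSeries.coeff (Finsupp.mapDomain Fin.val e) F =
          MvPowerSeries.coeff (Finsupp.mapDomain Fin.val (Finsupp.mapDomain φ e)) F) ∧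
    (∀ f : (n : ℕ) → MvPolynomial (Fin n) ℤ,
      (∀ n, (f n).IsHomogeneous d) →
      (∀ (n m : ℕ) (φ : Fin n ↪o Fin m) (e : Fin n →₀ ℕ),
        MvPolynomial.coeff e (f n) = MvPolynomial.coeff (Finsupp.mapDomain φ e) (f m)) →
      ∃! F : MvPowerSeries ℕ ℤ,
        (∀ (ℓ : ℕ) (i j : Fin ℓ → ℕ) (a : Fin ℓ → ℕ), StrictMono i → StrictMono j → (∀ t, 0 < a t) →
          MvPowerSeries.coeff (∑ t : Fin ℓ, Finsupp.single (i t) (a t)) F =
            MvPowerSeries.coeff (∑ t : Fin ℓ, Finsupp.single (j t) (a t)) F) ∧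
        (∀ e : ℕ →₀ ℕ, MvPowerSeries.coeff e F ≠ 0 → e.degree = d) ∧
        (∀ (n : ℕ) (e : Fin n →₀ ℕ),
          MvPowerSeries.coeff (Finsupp.mapDomain Fin.val e) F = MvPolynomial.coeff e (f n))) := by
  classical
  refine ⟨fun F hF _ n m φ e => ?_, fun f hhom hcomp => ?_⟩
  · rw [← Finsupp.mapDomain_comp]
    exact coeff_mapDomain_eq F hF _ _ Fin.val_strictMono (Fin.val_strictMono.comp φ.strictMono) e
  -- the series
  let N : (ℕ →₀ ℕ) → ℕ := fun e => e.support.sup id + 1
  let cm : (e : ℕ →₀ ℕ) → (Fin (N e) →₀ ℕ) := fun e => e.comapDomain Fin.val Fin.val_injective.injOn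
  have hcm : ∀ e, Finsupp.mapDomain Fin.val (cm e) = e := fun e => by
    refine Finsupp.mapDomain_comapDomain _ Fin.val_injective _ fun x hx => ⟨⟨x, ?_⟩, rfl⟩
    exact Nat.lt_succ_of_le (Finset.le_sup (f := id) hx)
  have hcompat : ∀ (n m : ℕ) (e : Fin n →₀ ℕ) (e' : Fin m →₀ ℕ),
      Finsupp.mapDomain Fin.val e = Finsupp.mapDomain Fin.val e' →
        MvPolynomial.coeff e (f n) = MvPolynomial.coeff e' (f m) := by
    intro n m e e' h
    rw [hcomp n _ (Fin.castLEOrderEmb (le_max_left n m)) e, hcomp m _ (Fin.castLEOrderEmb (le_max_right n m)) e']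
    congr 1
    refine Finsupp.mapDomain_injective Fin.val_injective ?_
    rw [← Finsupp.mapDomain_comp, ← Finsupp.mapDomain_comp]
    exact h
  let F : MvPowerSeries ℕ ℤ := fun e => MvPolynomial.coeff (cm e) (f (N e))
  have hFc : ∀ e, MvPowerSeries.coeff e F = MvPolynomial.coeff (cm e) (f (N e)) := fun e => rfl
  have hres : ∀ (n : ℕ) (e : Fin n →₀ ℕ),
      MvPowerSeries.coeff (Finsupp.mapDomain Fin.val e) F = MvPolynomial.coeff e (f n) := fun n e => by
    rw [hFc]
    exact hcompat _ _ _ _ (hcm _)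
  refine ⟨F, ⟨fun ℓ i j a hi hj _ => ?_, fun e he => ?_, hres⟩, fun G hG => ?_⟩
  · have key : ∀ i : Fin ℓ → ℕ, StrictMono i →
        MvPowerSeries.coeff (∑ t : Fin ℓ, Finsupp.single (i t) (a t)) F =
          MvPolynomial.coeff (∑ t : Fin ℓ, Finsupp.single t (a t)) (f ℓ) := by
      intro i hi
      have hlt : ∀ t, i t < Finset.univ.sup i + 1 := fun t => Nat.lt_succ_of_le (Finset.le_sup (Finset.mem_univ t))
      let φ : Fin ℓ ↪o Fin (Finset.univ.sup i + 1) :=
        OrderEmbedding.ofStrictMono (fun t => ⟨i t, hlt t⟩) fun s t hst => hi hst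
      rw [hcomp ℓ _ φ, ← hres _ (Finsupp.mapDomain φ _), ← Finsupp.mapDomain_comp, sum_single_eq]
      rfl
    rw [key i hi, key j hj]
  · rw [hFc] at he
    have h := (hhom (N e)) he
    rw [← hcm e, Finsupp.degree_mapDomain, ← h, Finsupp.degree_eq_weight_one]
    rfl
  · ext e
    rw [← hcm e, hG.2.2, hres]

end Groth.Agent.S17171
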