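import Groth.Statements.S17175
import Mathlib


set_option autoImplicit false
universe u
open CAlg

namespace Groth.Agent.S17175

open PowerSeries in
/-- Let k be a field, O₀ = k[[x, y]]/(xy) the complete local ring of a node and Õ₀ = k[[x]] × k[[y]] its
normalization, O₀ being embedded in Õ₀ by h ↦ (h(x, 0), h(0, y)) as the subring of pairs with equal
constant coefficients. Regard Õ₀ as an O₀-module: it is the rank-one torsion-free O₀-module that is
not free. Then every O₀-linear endomorphism of this module is Õ₀-linear, i.e. it is multiplication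
by a unique element of Õ₀; consequently its O₀-endomorphism ring is Õ₀ and its O₀-automorphism group
is the unit group of Õ₀. Here an O₀-linear endomorphism is an additive map of k[[X]] × k[[X]]
commuting with multiplication by every pair whose two constant coefficients agree. (The source works
over an algebraically closed field; only the field structure is used.) -/
theorem result (k : Type u) [Field k]
    (φ : (k⟦X⟧ × k⟦X⟧) →+ (k⟦X⟧ × k⟦X⟧))
    (hφ : ∀ a s : k⟦X⟧ × k⟦X⟧, constantCoeff a.1 = constantCoeff a.2 → φ (a * s) = a * φ s) :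
    ∃! b : k⟦X⟧ × k⟦X⟧, ∀ s : k⟦X⟧ × k⟦X⟧, φ s = b * s := by
  refine ⟨((φ (1, 0)).1, (φ (0, 1)).2), fun s => ?_, fun b hb => ?_⟩
  · have hX : constantCoeff ((X : k⟦X⟧), (0 : k⟦X⟧)).1 = constantCoeff ((X : k⟦X⟧), (0 : k⟦X⟧)).2 := by
      simp
    have hX' : constantCoeff ((0 : k⟦X⟧), (X : k⟦X⟧)).1 = constantCoeff ((0 : k⟦X⟧), (X : k⟦X⟧)).2 := by
      simp
    have h1 := hφ _ s hX
    have h2 := hφ (X * s.1, X * s.1) (1, 0) rfl
    have h3 := hφ _ s hX'
    have h4 := hφ (X * s.2, X * s.2) (0, 1) rfl
    simp only [Prod.mk_mul_mk, mul_one, mul_zero, zero_mul] at h2 h4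
    rw [show ((X : k⟦X⟧), (0 : k⟦X⟧)) * s = (X * s.1, 0) from Prod.ext rfl (zero_mul _), h2] at h1
    rw [show ((0 : k⟦X⟧), (X : k⟦X⟧)) * s = (0, X * s.2) from Prod.ext (zero_mul _) rfl, h4] at h3
    have e1 := congrArg Prod.fst h1
    have e3 := congrArg Prod.snd h3
    simp only [Prod.fst_mul, Prod.snd_mul, mul_assoc] at e1 e3
    ext1
    · rw [Prod.fst_mul, mul_comm]
      exact (mul_left_cancel₀ X_ne_zero e1).symm
    · rw [Prod.snd_mul, mul_comm]
      exact (mul_left_cancel₀ X_ne_zero e3).symm
  · have h1 := hb (1, 0)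
    have h2 := hb (0, 1)
    rw [h1, h2]
    simp

end Groth.Agent.S17175
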