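import Groth.Statements.S17176
import Mathlib.RingTheory.Int.Basic
import Mathlib.Tactic.LinearCombination

set_option autoImplicit false
open Curves

namespace Groth.Agent.S17176

/-- Fix integers g ≥ 3 and d. For a complete subcurve Y of arithmetic genus g_Y of a nodal curve of
genus g, meeting the rest of the curve in k points, the lower extreme of the Basic Inequality for
line bundles of degree d is m = d(2g_Y - 2 + k)/(2g - 2) - k/2, which is an integer exactly when 2(g
- 1) divides d(2g_Y - 2 + k) - k(g - 1). Then gcd(d - g + 1, 2g - 2) = 1 if and only if m is not an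
integer for all integers g_Y, k with 0 < g_Y < g - 1, k ≥ 1 and k + 2g_Y - 2 < 2g - 2. (The row
makes explicit the bound 2g_Y - 2 + k < 2g - 2, which is automatic for subcurves of stable curves
and is satisfied by every subcurve to which the source applies the lemma; the source leaves the
ambient curve's class implicit.) -/
theorem result (g d : ℤ) (hg : 3 ≤ g) :
    Int.gcd (d - g + 1) (2 * g - 2) = 1 ↔
      ∀ gY k : ℤ, 0 < gY → gY < g - 1 → 1 ≤ k → k + 2 * gY - 2 < 2 * g - 2 →
        ¬ (2 * (g - 1) ∣ d * (2 * gY - 2 + k) - k * (g - 1)) := by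
  constructor
  · intro h gY a h0 h1 hk hlt hdvd
    have hco : IsCoprime (d - g + 1) (2 * g - 2) := Int.isCoprime_iff_gcd_eq_one.mpr h
    have h2 : (2 * g - 2) ∣ (d - g + 1) * (a + 2 * gY - 2) := by
      have h3 : 2 * (g - 1) ∣ d * (2 * gY - 2 + a) - a * (g - 1) + 2 * (g - 1) * (1 - gY) :=
        dvd_add hdvd (dvd_mul_right _ _)
      rw [show 2 * g - 2 = 2 * (g - 1) by ring]
      rw [show (d - g + 1) * (a + 2 * gY - 2) = d * (2 * gY - 2 + a) - a * (g - 1) + 2 * (g - 1) * (1 - gY) by ring]
      exact h3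
    have h4 : (2 * g - 2) ∣ a + 2 * gY - 2 := hco.symm.dvd_of_dvd_mul_left h2
    have := Int.le_of_dvd (by omega) h4
    omega
  · intro h
    by_contra hne
    obtain ⟨p, hp, hpd⟩ := Nat.exists_prime_and_dvd hne
    have hp1 : (p : ℤ) ∣ d - g + 1 := (Int.natCast_dvd_natCast.mpr hpd).trans (Int.gcd_dvd_left _ _)
    have hp2 : (p : ℤ) ∣ 2 * g - 2 := (Int.natCast_dvd_natCast.mpr hpd).trans (Int.gcd_dvd_right _ _)
    obtain ⟨q, hq⟩ := hp2
    have hp2 : (2 : ℤ) ≤ p := by exact_mod_cast hp.two_le
    have hq1 : 1 ≤ q := by nlinarith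
    -- take k + 2 gY - 2 = (2g-2)/p
    obtain ⟨c, hc⟩ := hp1
    have hq2 : 2 * q ≤ 2 * g - 2 := by nlinarith
    refine h 1 q one_pos (by omega) hq1 (by omega) ⟨c + (1 - 1), ?_⟩
    linear_combination (q * hc) - c * hq

end Groth.Agent.S17176
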