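import Groth.Statements.S17180
import Groth.Agent.Lib.HodgeIndex.Fibration
import Groth.Agent.Lib.Goodman.Main
import Groth.Agent.Lib.HodgeIndex.Deg

set_option autoImplicit false
set_option linter.all false
universe u
open CategoryTheory CategoryTheory.Limits AlgebraicGeometry
open Surf

namespace Groth.Agent.S17180

/-- Let k be a field, X an integral proper k-scheme of dimension 2 with regular local rings which is
geometrically irreducible over k, C an integral proper smooth k-scheme of dimension 1, and f : X → C
a surjective k-morphism. Let L be an invertible O_X-module whose intersection number with every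
vertical integral curve (a closed integral one-dimensional E ⊆ X sent by f to a single point) is 0,
and whose intersection number with some horizontal integral curve P (closed, integral,
one-dimensional, with f(P) not a single point) is 0. Then (L·L) ≤ 0, and if (L·L) = 0 then L is
numerically trivial: its intersection number with every closed integral curve of X is 0. Here (L·L)
= χ(O_X) − 2χ(L) + χ(L ⊗ L) and the number with a curve Y is χ(O_Y) − χ(L ⊗ O_Y), both packaged as
FGA.intNum. (The published assertion is the positive-definiteness of the pairing −(D·D′) on classes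
of divisors of degree 0 on the generic fibre modulo classes of fibre components, after tensoring
with the rationals; this row gives that content for divisor classes up to numerical equivalence,
which is what the printed argument establishes, and leaves aside the identification of the pairing
with a canonical height. The published setting also takes X to be the relatively minimal regular
model, projective over k, of a smooth projective geometrically irreducible curve of positive genus
over the function field of C, with C projective and geometrically irreducible; this row keeps only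
the hypotheses the printed argument uses.) -/
theorem result (k : Type u) [Field k]
    (X : Scheme.{u}) [X.Over (Spec (CommRingCat.of k))] [IsProper (X ↘ Spec (CommRingCat.of k))]
    [IsIntegral X] [GeometricallyIrreducible (X ↘ Spec (CommRingCat.of k))]
    (hreg : ∀ x : X, IsRegularLocalRing (X.presheaf.stalk x)) (hdim : topologicalKrullDim X = 2)
    (C : Scheme.{u}) [C.Over (Spec (CommRingCat.of k))] [IsProper (C ↘ Spec (CommRingCat.of k))]
    [Smooth (C ↘ Spec (CommRingCat.of k))] [IsIntegral C] (hdimC : topologicalKrullDim C = 1)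
    (f : X ⟶ C) [f.IsOver (Spec (CommRingCat.of k))] [Surjective f]
    (L : X.Modules) (hL : PicF.IsInvertible L)
    (hvert : ∀ (E : Scheme.{u}) (ι : E ⟶ X) [IsClosedImmersion ι] [IsIntegral E],
      topologicalKrullDim E = 1 → (Set.range (fun e : E => f (ι e))).Subsingleton →
      FGA.intNum k X 2 ![L] ((Coh.push ι).obj (Coh.structureModule E)) = 0)
    (P : Scheme.{u}) (ιP : P ⟶ X) [IsClosedImmersion ιP] [IsIntegral P] (hP : topologicalKrullDim P = 1)
    (hPh : (Set.range (fun q : P => f (ιP q))).Nontrivial)
    (hLP : FGA.intNum k X 2 ![L] ((Coh.push ιP).obj (Coh.structureModule P)) = 0) :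
    FGA.intNum k X 2 ![L, L] (Coh.structureModule X) ≤ 0 ∧
      (FGA.intNum k X 2 ![L, L] (Coh.structureModule X) = 0 →
        ∀ (Y : Scheme.{u}) (ι : Y ⟶ X) [IsClosedImmersion ι] [IsIntegral Y], topologicalKrullDim Y = 1 →
          FGA.intNum k X 2 ![L] ((Coh.push ι).obj (Coh.structureModule Y)) = 0) := by
  haveI := GrothLib.Euler.isNoetherian_of_proper (X := X) k
  haveI := GrothLib.Euler.isNoetherian_of_proper (X := C) k
  have hd : topologicalKrullDim X = ((2 : ℕ) : WithBot ℕ∞) := hdim
  obtain ⟨H, hH⟩ := GrothLib.Goodman.exists_ample_of_regular_surface k hd hreg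
  have hg : f ≫ C ↘ Spec (CommRingCat.of k) = X ↘ Spec (CommRingCat.of k) := comp_over f _
  -- classes
  obtain ⟨l, hl⟩ : ∃ l, l = GrothLib.Cube.clsMod hL := ⟨_, rfl⟩
  obtain ⟨p, -, hp⟩ := (isClosed_univ (X := C)).exists_closed_singleton Set.univ_nonempty
  obtain ⟨I, hI⟩ : ∃ I, I = (C.fromSpecResidueField p).ker := ⟨_, rfl⟩
  have hIi : PicF.IsInvertible (ClSub.idealMod I) := hI ▸ GrothLib.HodgeIndex.isInvertible_point (k := k) hdimC hp
  have hIs : (I.support : Set C) = {p} := by
    rw [hI, Scheme.Hom.support_ker, Scheme.range_fromSpecResidueField, hp.closure_eq]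
  have hηC : GrothLib.Snapper.IsTop 1 (genericPoint C) := by
    show topologicalKrullDim (closure ({genericPoint C} : Set C)) = _
    rw [(genericPoint_spec C).def]
    exact (IsHomeomorph.topologicalKrullDim_eq _ (Homeomorph.Set.univ C).isHomeomorph).trans hdimC
  have hηp : genericPoint C ∉ (I.support : Set C) := by
    rw [hIs]
    intro h
    exact GrothLib.HodgeIndex.not_isTop_of_isClosed hp ((Set.mem_singleton_iff.1 h) ▸ hηC)
  have hneg : GrothLib.HodgeIndex.deg k (genericPoint C) (GrothLib.Cube.clsMod hIi) < 0 := by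
    have h := (GrothLib.Goodman.deg_inv_of_hom k hIi (ClSub.idealModι I) hηC
      (GrothLib.QCoh.notMem_support_cokernel_of_surjective _
        (GrothLib.HodgeIndex.stalk_bijective_idealModι I hηp).2)).2
      ⟨p, genericPoint_specializes p, GrothLib.HodgeIndex.not_surjective_idealModι I
        (show p ∈ (I.support : Set C) by rw [hIs]; rfl)⟩
    rw [GrothLib.Goodman.deg_inv k hηC] at h
    linarith
  have hJi := GrothLib.Kleiman.isInv_pullback f hIi
  have hgen : f (genericPoint X) ∉ (I.support : Set C) := by
    rw [hIs]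
    intro h
    refine GrothLib.HodgeIndex.not_isTop_of_isClosed hp ?_
    obtain ⟨x, hx⟩ := f.surjective (genericPoint C)
    have hx' : f (genericPoint X) ⤳ f x := (genericPoint_specializes x).map f.continuous
    rw [Set.mem_singleton_iff.1 h, hx] at hx'
    rwa [show p = genericPoint C from (hx'.antisymm (genericPoint_specializes p)).eq]
  have hbij : Function.Bijective (GrothLib.QCoh.stalkLin (GrothLib.OmegaBC.pullι f I) (genericPoint X)) := by
    refine GrothLib.Euler.stalkLin_genericPoint_bijective hJi GrothLib.Euler.isInvertible_structure fun h0 => ?_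
    obtain ⟨v, hv⟩ := GrothLib.HodgeIndex.surjective_pullι f I hgen (GrothLib.HomSh.unitStalk _ 1)
    rw [h0, GrothLib.Kodaira.stalkLin_zero_apply] at hv
    exact one_ne_zero ((GrothLib.HomSh.unitStalk (genericPoint X)).injective (hv.symm.trans (map_zero _).symm))
  have hsupp : ∀ z, ¬ Function.Surjective (GrothLib.QCoh.stalkLin (GrothLib.OmegaBC.pullι f I) z) → f z = p :=
    fun z hz => by
      by_contra hne
      exact hz (GrothLib.HodgeIndex.surjective_pullι f I (show f z ∉ (I.support : Set C) by rw [hIs]; exact hne))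
  obtain ⟨φ, hφ⟩ : ∃ φ, φ = (GrothLib.Cube.clsMod hJi)⁻¹ := ⟨_, rfl⟩
  -- vertical curves
  have hvl : ∀ z, GrothLib.Snapper.IsTop 1 z → IsClosed ({f z} : Set C) →
      GrothLib.HodgeIndex.deg k z l = 0 := fun z hz hc => by
    haveI : IsIntegral (GrothLib.HodgeIndex.curveIdeal z).subscheme := GrothLib.Snapper.isIntegral_pt z
    have hr : Set.range (GrothLib.HodgeIndex.curveIdeal z).subschemeι = closure {z} := GrothLib.Snapper.range_pt z
    have hgp : (GrothLib.HodgeIndex.curveIdeal z).subschemeι (genericPoint (GrothLib.HodgeIndex.curveIdeal z).subscheme) = z :=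
      (inseparable_iff_closure_eq.2 ((GrothLib.QCoh.closure_singleton_eq_range
        (GrothLib.HodgeIndex.curveIdeal z).subschemeι).trans hr)).eq
    have hE : topologicalKrullDim (GrothLib.HodgeIndex.curveIdeal z).subscheme = 1 := by
      refine (IsHomeomorph.topologicalKrullDim_eq _
        (GrothLib.HodgeIndex.curveIdeal z).subschemeι.isClosedEmbedding.isEmbedding.toHomeomorph.isHomeomorph).trans ?_
      rw [hr]
      exact hz
    have h0 := hvert _ (GrothLib.HodgeIndex.curveIdeal z).subschemeι hE (by
      refine Set.subsingleton_of_subset_singleton (a := f z) ?_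
      rintro _ ⟨e, rfl⟩
      have he : z ⤳ (GrothLib.HodgeIndex.curveIdeal z).subschemeι e := by
        rw [specializes_iff_mem_closure, ← hr]
        exact ⟨e, rfl⟩
      exact (hc.closure_eq ▸ (specializes_iff_mem_closure.1 (he.map f.continuous)) : _))
    obtain ⟨-, r, hr0, hre⟩ := GrothLib.HodgeIndex.intNum_push k hd hH hL (GrothLib.HodgeIndex.curveIdeal z).subschemeι hE
    rw [h0, hgp, ← hl, Int.cast_zero, eq_comm, neg_eq_zero, mul_eq_zero, Nat.cast_eq_zero] at hre
    exact hre.resolve_left hr0.ne'
  have hlφ : GrothLib.HodgeIndex.isect k l φ = 0 := by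
    rw [hφ]
    exact GrothLib.HodgeIndex.isect_eq_zero_of_support k hd hJi _ hbij l fun z hz hs =>
      hvl z hz (by rw [hsupp z hs]; exact hp)
  have hφφ : GrothLib.HodgeIndex.isect k φ φ = 0 := by
    conv_lhs => arg 3; rw [hφ]
    refine GrothLib.HodgeIndex.isect_eq_zero_of_support k hd hJi _ hbij φ fun z hz hs => ?_
    rw [hφ, GrothLib.Goodman.deg_inv k hz, (GrothLib.HodgeIndex.deg_pullback k f hg hIi hz).1
      (by rw [hsupp z hs]; exact GrothLib.HodgeIndex.not_isTop_of_isClosed hp), neg_zero]
  -- the horizontal curve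
  obtain ⟨hyT, r, hr0, hre⟩ := GrothLib.HodgeIndex.intNum_push k hd hH hL ιP hP
  obtain ⟨y, hy⟩ : ∃ y, y = ιP (genericPoint P) := ⟨_, rfl⟩
  rw [← hy] at hyT hre
  rw [hLP, ← hl, Int.cast_zero, eq_comm, neg_eq_zero, mul_eq_zero, Nat.cast_eq_zero] at hre
  have hly := hre.resolve_left hr0.ne'
  have hfy : f y = genericPoint C := GrothLib.HodgeIndex.eq_genericPoint_of_not_closed hdimC.le fun hc => by
    refine hPh.not_subsingleton (Set.subsingleton_of_subset_singleton (a := f y) ?_)
    rintro _ ⟨q, rfl⟩
    have he : y ⤳ ιP q := hy ▸ (genericPoint_specializes q).map ιP.continuous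
    exact (hc.closure_eq ▸ (specializes_iff_mem_closure.1 (he.map f.continuous)) : _)
  haveI : IsIntegral (GrothLib.HodgeIndex.curveIdeal y).subscheme := GrothLib.Snapper.isIntegral_pt y
  have hIy : BlowUp.IsEffCartierIdeal (GrothLib.HodgeIndex.curveIdeal y) := by
    refine GrothLib.HodgeIndex.isEffCartier_curve hd hreg _ (GrothLib.HodgeIndex.isTop_of_curve k ?_)
    rw [← (GrothLib.HodgeIndex.curveIdeal y).range_subschemeι, GrothLib.Snapper.range_pt y]
    exact hyT
  have hIyi := GrothLib.IdealModSec.isInvertible_of_isEffCartier hIy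
  obtain ⟨c, hc⟩ : ∃ c, c = (GrothLib.Cube.clsMod hIyi)⁻¹ := ⟨_, rfl⟩
  have hdeg : ∀ x, GrothLib.HodgeIndex.deg k y x = (GrothLib.HodgeIndex.isect k x c : ℚ) := fun x => by
    refine (GrothLib.HodgeIndex.isect_curve k hd (GrothLib.HodgeIndex.isInv_rep x) hIy hIyi).trans ?_
    rw [GrothLib.HodgeIndex.cls_rep, hc]
  have hlc : GrothLib.HodgeIndex.isect k l c = 0 := by exact_mod_cast (hdeg l).symm.trans hly
  have hφc : 0 < GrothLib.HodgeIndex.isect k φ c := by
    have h : (0 : ℚ) < GrothLib.HodgeIndex.deg k y φ := by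
      obtain ⟨m, hm, hme⟩ := (GrothLib.HodgeIndex.deg_pullback k f hg hIi hyT).2 (hfy ▸ hηC)
      rw [hφ, GrothLib.Goodman.deg_inv k hyT, hme, hfy, ← GrothLib.HodgeIndex.deg_eq_mixed k hIi]
      have := mul_neg_of_pos_of_neg (show (0 : ℚ) < m by exact_mod_cast hm) hneg
      linarith
    rw [hdeg] at h
    exact_mod_cast h
  obtain ⟨a, ha⟩ : ∃ a : ℕ, a = (GrothLib.HodgeIndex.isect k c c).natAbs + 1 := ⟨_, rfl⟩
  obtain ⟨w, hw⟩ : ∃ w, w = φ ^ a * c := ⟨_, rfl⟩
  have hww : 0 < GrothLib.HodgeIndex.isect k w w := by
    simp only [hw, GrothLib.HodgeIndex.isect_mul_left k hd.le, GrothLib.HodgeIndex.isect_mul_right k hd.le,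
      GrothLib.HodgeIndex.isect_pow_left k hd.le, GrothLib.HodgeIndex.isect_pow_right k hd.le,
      GrothLib.HodgeIndex.isect_comm k c φ, hφφ]
    have h1 : (a : ℤ) = |GrothLib.HodgeIndex.isect k c c| + 1 := by rw [ha]; push_cast; rfl
    rw [h1]
    have h2 := neg_abs_le (GrothLib.HodgeIndex.isect k c c)
    have h3 := mul_le_mul_of_nonneg_left (show (1 : ℤ) ≤ GrothLib.HodgeIndex.isect k φ c by omega)
      (show (0 : ℤ) ≤ |GrothLib.HodgeIndex.isect k c c| + 1 by positivity)
    linarith
  have hwl : GrothLib.HodgeIndex.isect k w l = 0 := by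
    rw [GrothLib.HodgeIndex.isect_comm, hw, GrothLib.HodgeIndex.isect_mul_right k hd.le,
      GrothLib.HodgeIndex.isect_pow_right k hd.le, hlφ, hlc, mul_zero, add_zero]
  rw [GrothLib.HodgeIndex.intNum_eq_isect k hd.le hH hL hL, ← hl]
  refine ⟨GrothLib.HodgeIndex.sq_nonpos_of_orth_pic k hd hH hww hwl, fun h0 Y ι _ _ hY => ?_⟩
  have hzero := GrothLib.HodgeIndex.isect_eq_zero_of_orth k hd hH hww hwl h0.ge
  obtain ⟨hzT, s, -, hse⟩ := GrothLib.HodgeIndex.intNum_push k hd hH hL ι hY
  haveI : IsIntegral (GrothLib.HodgeIndex.curveIdeal (ι (genericPoint Y))).subscheme := GrothLib.Snapper.isIntegral_pt _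
  have hJz : BlowUp.IsEffCartierIdeal (GrothLib.HodgeIndex.curveIdeal (ι (genericPoint Y))) := by
    refine GrothLib.HodgeIndex.isEffCartier_curve hd hreg _ (GrothLib.HodgeIndex.isTop_of_curve k ?_)
    rw [← (GrothLib.HodgeIndex.curveIdeal (ι (genericPoint Y))).range_subschemeι, GrothLib.Snapper.range_pt]
    exact hzT
  have hdz : GrothLib.HodgeIndex.deg k (ι (genericPoint Y)) l = 0 := by
    refine (GrothLib.HodgeIndex.isect_curve k hd (GrothLib.HodgeIndex.isInv_rep l) hJz
      (GrothLib.IdealModSec.isInvertible_of_isEffCartier hJz)).trans ?_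
    rw [GrothLib.HodgeIndex.cls_rep, hzero, Int.cast_zero]
  rw [← hl, hdz, mul_zero, neg_zero] at hse
  exact_mod_cast hse

end Groth.Agent.S17180
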