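import Groth.Statements.S17247
import Groth.Agent.Lib.FunFld.HighContact
import Groth.Agent.Lib.FunFld.LinSeries

set_option autoImplicit false
open FunFld

namespace Groth.Agent.S17247

/-- Let `K/k` be a function field of one variable of genus one over an algebraically closed field `k` of
characteristic zero (an elliptic curve `E`), `A` a place, and `g ≥ 3` an odd integer. Inside
`H⁰(O_E((2g-2)A)) = L((2g-2)A)` consider `V = L(gA)` (dimension `g`) and any hyperplane `V₁` of it
containing `L((g-2)A)`: `L((g-2)A) ⊆ V₁ ⊆ L(gA)`, `dim V₁ = g - 1`. Vanishing orders are those of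
sections of `O_E((2g-2)A)`: a member `f` vanishes to order at least `n` at a place `Q` when `f ∈
L((2g-2)A - nQ)`, and the weight of `V₁` at `Q` is `∑_{n=1}^{2g-2} dim (V₁ ∩ L((2g-2)A - nQ)) - (g-1
choose 2)` (the sum of the `g - 1` vanishing orders minus `0 + 1 + ⋯ + (g-2)`). Then the weight of
`V₁` at every place `Q ≠ A` is at most `2`. (The published statement is for a smooth elliptic curve
over the complex numbers and allows every odd positive `g`; for `g = 1` the inclusion `O(gA) ⊆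
O((2g-2)A)` it uses fails, so `g ≥ 3` here.) -/
theorem result
    (k K : Type*) [Field k] [IsAlgClosed k] [CharZero k] [Field K] [Algebra k K]
    (hK : FunFld.IsFunctionField k K) (hg1 : FunFld.genus k K = 1)
    (g : ℕ) (hodd : Odd g) (h3 : 3 ≤ g) (A : FunFld.Place k K)
    (V₁ : Submodule k K) (hlo : FunFld.L (Finsupp.single A ((g : ℤ) - 2)) ≤ V₁)
    (hhi : V₁ ≤ FunFld.L (Finsupp.single A (g : ℤ))) (hdim : Module.finrank k ↥V₁ + 1 = g)
    (Q : FunFld.Place k K) (hQ : Q ≠ A) :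
    (∑ n ∈ Finset.range (2 * g - 2), Module.finrank k
        ↥(V₁ ⊓ FunFld.L (Finsupp.single A (2 * (g : ℤ) - 2) - Finsupp.single Q ((n : ℤ) + 1)))) ≤
      (g - 1).choose 2 + 2 := by
  classical
  have hfg := hK.1
  have hA : A.deg = 1 := GrothLib.FunFld.IsFG.deg_eq_one hfg A
  have hQd : Q.deg = 1 := GrothLib.FunFld.IsFG.deg_eq_one hfg Q
  set E : ℤ → ℤ → FunFld.Divisor k K := fun a n => Finsupp.single A a - Finsupp.single Q n with hE
  have hdegE : ∀ a n, (E a n).deg = a - n := fun a n => by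
    rw [hE, GrothLib.FunFld.deg_sub, GrothLib.FunFld.deg_single, GrothLib.FunFld.deg_single, hA, hQd]; ring
  have hbig : ∀ a n : ℤ, n < a → (FunFld.ell (E a n) : ℤ) = a - n := fun a n h => by
    rw [GrothLib.FunFld.ell_eq_of_deg_ge hK (by rw [hdegE, hg1]; omega), hdegE, hg1]; simp
  have hneg : ∀ a n : ℤ, a < n → FunFld.ell (E a n) = 0 := fun a n h =>
    GrothLib.FunFld.IsFG.ell_eq_zero_of_deg_neg hfg (by rw [hdegE]; omega)
  have hzero : ∀ a : ℤ, FunFld.ell (E a a) ≤ 1 ∧ (FunFld.ell (E a a) ≠ 0 → ∃ x : K, x ≠ 0 ∧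
      ∀ R : FunFld.Place k K, R.ord x = -(E a a) R) := by
    intro a
    haveI := GrothLib.FunFld.IsFG.finite_L hfg (E a a)
    refine ⟨?_, fun h0 => ?_⟩
    · have := GrothLib.FunFld.ell_le_deg_succ hK (E a a) (by rw [hdegE]; omega)
      rw [hdegE] at this; omega
    · obtain ⟨x, hx, hx0⟩ := Submodule.exists_mem_ne_zero_of_ne_bot (p := FunFld.L (E a a)) fun hb => h0 (by
        rw [FunFld.ell, hb, finrank_bot])
      exact ⟨x, hx0, fun R => GrothLib.FunFld.ord_eq_neg_of_deg_zero hfg (by rw [hdegE]; ring) hx0 hx R⟩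
  have hexcl : FunFld.ell (E g g) + FunFld.ell (E ((g : ℤ) - 2) ((g : ℤ) - 2)) ≤ 1 := by
    by_contra hcon
    obtain ⟨x, hx0, hx⟩ := (hzero g).2 (by have := (hzero ((g : ℤ) - 2)).1; omega)
    obtain ⟨y, hy0, hy⟩ := (hzero ((g : ℤ) - 2)).2 (by have := (hzero g).1; omega)
    obtain ⟨m, hm⟩ := hodd
    have hz : x / (x / y) ^ m ≠ 0 := div_ne_zero hx0 (pow_ne_zero _ (div_ne_zero hx0 hy0))
    have hord : ∀ R : FunFld.Place k K, R.ord (x / (x / y) ^ m) = -(E 1 1) R := fun R => by
      rw [div_eq_mul_inv, GrothLib.FunFld.ord_mul R hx0 (inv_ne_zero (pow_ne_zero _ (div_ne_zero hx0 hy0))),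
        GrothLib.FunFld.ord_inv, GrothLib.FunFld.ord_pow, div_eq_mul_inv,
        GrothLib.FunFld.ord_mul R hx0 (inv_ne_zero hy0), GrothLib.FunFld.ord_inv, hx, hy]
      simp only [hE, Finsupp.sub_apply, Finsupp.single_apply]
      subst hm
      split_ifs <;> push_cast <;> ring
    have hL : x / (x / y) ^ m ∈ FunFld.L (Finsupp.single A 1 : FunFld.Divisor k K) :=
      (GrothLib.FunFld.mem_L_iff_ord hz).2 fun R => by
        rw [hord R]; simp only [hE, Finsupp.sub_apply, Finsupp.single_apply]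
        split_ifs <;> omega
    haveI := GrothLib.FunFld.IsFG.finite_L hfg (Finsupp.single A 1 : FunFld.Divisor k K)
    have h01 : FunFld.L (0 : FunFld.Divisor k K) = FunFld.L (Finsupp.single A 1 : FunFld.Divisor k K) := by
      refine Submodule.eq_of_le_of_finrank_eq (GrothLib.FunFld.L_mono (Finsupp.single_nonneg.2 zero_le_one)) ?_
      show FunFld.ell (0 : FunFld.Divisor k K) = FunFld.ell (Finsupp.single A 1 : FunFld.Divisor k K)
      rw [GrothLib.FunFld.ell_zero hK, GrothLib.FunFld.ell_single_one hK (by omega) hA]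
    rw [← h01, GrothLib.FunFld.mem_L_iff_ord hz] at hL
    have h2 := hL A
    rw [hord A] at h2
    simp only [hE, Finsupp.sub_apply, Finsupp.single_eq_same, Finsupp.single_eq_of_ne (Ne.symm hQ),
      Finsupp.zero_apply] at h2
    omega
  haveI : Module.Finite k V₁ := GrothLib.FunFld.finite_of_le_L hfg hhi
  set F : ℕ → ℕ := fun n => Module.finrank k
    ↥(V₁ ⊓ FunFld.L (Finsupp.single A (2 * (g : ℤ) - 2) - Finsupp.single Q ((n : ℤ) + 1))) with hF
  have hF1 : ∀ n : ℕ, F n ≤ FunFld.ell (E g ((n : ℤ) + 1)) := fun n => by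
    haveI := GrothLib.FunFld.IsFG.finite_L hfg (E g ((n : ℤ) + 1))
    refine Submodule.finrank_mono fun z hz R => ?_
    have h1 := hhi hz.1 R
    have h2 := hz.2 R
    by_cases hR : R = Q
    · subst hR
      simpa [hE, Finsupp.single_eq_of_ne hQ] using h2
    · simpa [hE, Finsupp.single_eq_of_ne hR] using h1
  have hF2 : ∀ n : ℕ, F n ≤ 1 + FunFld.ell (E ((g : ℤ) - 2) ((n : ℤ) + 1)) := fun n => by
    set X := FunFld.L (Finsupp.single A (2 * (g : ℤ) - 2) - Finsupp.single Q ((n : ℤ) + 1))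
    set U := FunFld.L (Finsupp.single A ((g : ℤ) - 2) : FunFld.Divisor k K)
    haveI := GrothLib.FunFld.IsFG.finite_L hfg (E ((g : ℤ) - 2) ((n : ℤ) + 1))
    haveI : Module.Finite k U := GrothLib.FunFld.IsFG.finite_L hfg _
    haveI : Module.Finite k ↥(V₁ ⊓ X) := GrothLib.FunFld.finite_inf_L hfg V₁ _
    have h1 := Submodule.finrank_sup_add_finrank_inf_eq (V₁ ⊓ X) U
    have h2 := Submodule.finrank_mono (sup_le inf_le_left hlo : (V₁ ⊓ X) ⊔ U ≤ V₁)
    have h3 : Module.finrank k ↥(V₁ ⊓ X ⊓ U) ≤ FunFld.ell (E ((g : ℤ) - 2) ((n : ℤ) + 1)) := by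
      refine Submodule.finrank_mono fun z hz R => ?_
      have h1 := hz.2 R
      have h2 := hz.1.2 R
      by_cases hR : R = Q
      · subst hR
        simpa [hE, Finsupp.single_eq_of_ne hQ] using h2
      · simpa [hE, Finsupp.single_eq_of_ne hR] using h1
    have h4 : (Module.finrank k U : ℤ) = (g : ℤ) - 2 := by
      have := hbig ((g : ℤ) - 2) 0 (by omega)
      simp only [hE, Finsupp.single_zero, sub_zero] at this
      exact this
    show Module.finrank k ↥(V₁ ⊓ X) ≤ _
    omega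
  show ∑ n ∈ Finset.range (2 * g - 2), F n ≤ _
  obtain ⟨e, rfl⟩ : ∃ e, g = e + 3 := ⟨g - 3, by omega⟩
  rw [show 2 * (e + 3) - 2 = e + 3 + (e + 1) by omega, Finset.sum_range_add,
    Finset.sum_eq_zero (s := Finset.range (e + 1)) fun i _ => Nat.le_zero.1 ((hF1 _).trans (hneg _ _ (by
      push_cast; omega)).le), add_zero, Finset.sum_range_succ, Finset.sum_range_succ, Finset.sum_range_succ]
  have hsmall : ∀ n ∈ Finset.range e, F n ≤ e + 1 - n := fun n hn => by
    rw [Finset.mem_range] at hn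
    have h1 := hbig (((e + 3 : ℕ) : ℤ) - 2) ((n : ℤ) + 1) (by push_cast; omega)
    have h2 := hF2 n
    omega
  have hch : (e + 3 - 1).choose 2 = (∑ n ∈ Finset.range e, (e + 1 - n)) + 1 := by
    clear * -
    induction e with
    | zero => rfl
    | succ e ih =>
      rw [show e + 1 + 3 - 1 = (e + 3 - 1) + 1 by omega, Nat.choose_succ_succ', Nat.choose_one_right, ih,
        Finset.sum_range_succ' (fun n => e + 1 + 1 - n)]
      simp only [Nat.reduceSubDiff, Nat.sub_zero]
      omega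
  have h0 := Finset.sum_le_sum hsmall
  have ha := hF2 e
  have hb := hF1 (e + 1)
  have hc := hF1 (e + 2)
  have hb' := hbig ((e + 3 : ℕ) : ℤ) (((e + 1 : ℕ) : ℤ) + 1) (by push_cast; omega)
  push_cast at ha hb hc hb' hexcl
  rw [show (e : ℤ) + 3 - 2 = e + 1 by ring] at ha hexcl
  rw [show (e : ℤ) + 2 + 1 = e + 3 by ring] at hc
  omega

end Groth.Agent.S17247
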