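import Groth.Statements.S17248
import Groth.Agent.Lib.FunFld.Linear

set_option autoImplicit false
open FunFld

namespace Groth.Agent.S17248

/-- Let `K/k` be a function field of one variable of genus one over an algebraically closed field `k` of
characteristic zero (an elliptic curve `E`), `A` a place, and `g ≥ 3` an integer. Inside
`H⁰(O_E((2g-2)A)) = L((2g-2)A)` consider `V = L(gA)` (dimension `g`) and any hyperplane `V₁` of it
containing `L((g-2)A)`: `L((g-2)A) ⊆ V₁ ⊆ L(gA)`, `dim V₁ = g - 1`. Vanishing orders are those of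
sections of `O_E((2g-2)A)`: a member `f` vanishes to order at least `n` at a place `Q` when `f ∈
L((2g-2)A - nQ)`, and the weight of `V₁` at `Q` is `∑_{n=1}^{2g-2} dim (V₁ ∩ L((2g-2)A - nQ)) - (g-1
choose 2)` (the sum of the `g - 1` vanishing orders minus `0 + 1 + ⋯ + (g-2)`). Then the weight of
`V₁` at `A` is `(g-1)² + ε` with `ε ∈ {0, 1}`. (The published statement is for a smooth elliptic
curve over the complex numbers and `g` odd positive; `g ≥ 3` here since the ambient inclusion needs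
it; this row does not assume `g` odd.) -/
theorem result
    (k K : Type*) [Field k] [IsAlgClosed k] [CharZero k] [Field K] [Algebra k K]
    (hK : FunFld.IsFunctionField k K) (hg1 : FunFld.genus k K = 1)
    (g : ℕ) (h3 : 3 ≤ g) (A : FunFld.Place k K)
    (V₁ : Submodule k K) (hlo : FunFld.L (Finsupp.single A ((g : ℤ) - 2)) ≤ V₁)
    (hhi : V₁ ≤ FunFld.L (Finsupp.single A (g : ℤ))) (hdim : Module.finrank k ↥V₁ + 1 = g) :
    ∃ ε : ℕ, ε ≤ 1 ∧
      (∑ n ∈ Finset.range (2 * g - 2), Module.finrank k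
        ↥(V₁ ⊓ FunFld.L (Finsupp.single A (2 * (g : ℤ) - 2) - Finsupp.single A ((n : ℤ) + 1)))) =
      (g - 1).choose 2 + (g - 1) ^ 2 + ε := by
  have hfg : GrothLib.FunFld.IsFG k K := hK.1
  have hA := hfg.deg_eq_one A
  classical
  let c : ℤ → ℕ := fun m => Module.finrank k ↥(V₁ ⊓ FunFld.L (Finsupp.single A m))
  have hell : ∀ m : ℕ, 1 ≤ m → Module.finrank k ↥(FunFld.L (Finsupp.single A (m : ℤ))) = m := by
    intro m hm
    have := GrothLib.FunFld.ell_eq_deg_of_genus_one hK hg1 (D := Finsupp.single A (m : ℤ))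
      (by rw [GrothLib.FunFld.deg_single, hA]; simp; omega)
    rw [GrothLib.FunFld.deg_single, hA] at this
    simp only [FunFld.ell] at this
    omega
  have hbig : ∀ m : ℤ, (g : ℤ) ≤ m → c m = g - 1 := fun m hm => by
    have : V₁ ⊓ FunFld.L (Finsupp.single A m) = V₁ :=
      inf_eq_left.2 (hhi.trans (GrothLib.FunFld.L_mono (Finsupp.single_le_single.2 hm)))
    simp only [c, (LinearEquiv.ofEq _ _ this).finrank_eq]; omega
  have hsmall : ∀ m : ℕ, 1 ≤ m → m + 2 ≤ g → c (m : ℤ) = m := fun m hm hmg => by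
    have : V₁ ⊓ FunFld.L (Finsupp.single A (m : ℤ)) = FunFld.L (Finsupp.single A (m : ℤ)) :=
      inf_eq_right.2 ((GrothLib.FunFld.L_mono (Finsupp.single_le_single.2 (by omega))).trans hlo)
    simp only [c, (LinearEquiv.ofEq _ _ this).finrank_eq]; exact hell m hm
  have hzero : c ((0 : ℕ) : ℤ) = 1 := by
    have : V₁ ⊓ FunFld.L (Finsupp.single A ((0 : ℕ) : ℤ)) = FunFld.L (Finsupp.single A ((0 : ℕ) : ℤ)) :=
      inf_eq_right.2 ((GrothLib.FunFld.L_mono (Finsupp.single_le_single.2 (by omega))).trans hlo)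
    simp only [c, (LinearEquiv.ofEq _ _ this).finrank_eq]
    have := GrothLib.FunFld.ell_zero hK
    simp only [FunFld.ell] at this
    rw [show ((0 : ℕ) : ℤ) = 0 from rfl, Finsupp.single_zero]
    exact this
  have hmid : g - 2 ≤ c ((g - 1 : ℕ) : ℤ) ∧ c ((g - 1 : ℕ) : ℤ) ≤ g - 1 := by
    have := hfg.finite_L (Finsupp.single A (g : ℤ))
    have := Submodule.finiteDimensional_of_le hhi
    constructor
    · have h1 := hell (g - 2) (by omega)
      rw [← h1]
      have := GrothLib.FunFld.finite_inf_L hfg V₁ (Finsupp.single A ((g - 1 : ℕ) : ℤ))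
      refine Submodule.finrank_mono (le_inf ?_ (GrothLib.FunFld.L_mono
        (Finsupp.single_le_single.2 (by omega))))
      rw [show ((g - 2 : ℕ) : ℤ) = (g : ℤ) - 2 by omega]; exact hlo
    · refine (Submodule.finrank_mono (inf_le_left : V₁ ⊓ _ ≤ V₁)).trans ?_
      omega
  obtain ⟨g', rfl⟩ : ∃ g', g = g' + 2 := ⟨g - 2, by omega⟩
  have hsum : (∑ n ∈ Finset.range (2 * (g' + 2) - 2), Module.finrank k
        ↥(V₁ ⊓ FunFld.L (Finsupp.single A (2 * ((g' + 2 : ℕ) : ℤ) - 2) -
          Finsupp.single A ((n : ℤ) + 1)))) =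
      ∑ m ∈ Finset.range (2 * (g' + 2) - 2), c (m : ℤ) := by
    rw [← Finset.sum_range_reflect (fun m : ℕ => c (m : ℤ))]
    refine Finset.sum_congr rfl fun n hn => ?_
    rw [Finset.mem_range] at hn
    simp only [c]
    rw [← Finsupp.single_sub]
    rw [show 2 * ((g' + 2 : ℕ) : ℤ) - 2 - ((n : ℤ) + 1) = ((2 * (g' + 2) - 2 - 1 - n : ℕ) : ℤ) by
      omega]
  rw [hsum, show 2 * (g' + 2) - 2 = (g' + 2) + g' by omega, Finset.sum_range_add,
    Finset.sum_congr rfl (g := fun _ => g' + 1) (s₁ := Finset.range g') (fun m hm => by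
      rw [hbig _ (by push_cast; omega)]; omega),
    Finset.sum_const, Finset.card_range, smul_eq_mul, Finset.sum_range_succ,
    Finset.sum_range_succ', hzero,
    Finset.sum_congr rfl (g := fun m => m + 1) (s₁ := Finset.range g') (fun m hm => by
      rw [Finset.mem_range] at hm
      exact hsmall (m + 1) (by omega) (by omega))]
  have htri : ∑ m ∈ Finset.range g', (m + 1) = (g' + 1).choose 2 := by
    rw [Nat.choose_two_right, ← Finset.sum_range_id, Finset.sum_range_succ']; simp
  rw [htri]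
  simp only [show g' + 2 - 1 = g' + 1 by omega, show g' + 2 - 2 = g' by omega] at hmid ⊢
  exact ⟨c ((g' + 1 : ℕ) : ℤ) - g', by omega, by rw [sq, add_mul, one_mul]; omega⟩

end Groth.Agent.S17248
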