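import Groth.Statements.S17249
import Groth.Agent.Lib.FunFld.Linear

set_option autoImplicit false
open FunFld

namespace Groth.Agent.S17249

/-- Let `K/k` be a function field of one variable of genus two over an algebraically closed field `k` of
characteristic zero (a smooth curve `X` of genus `2`), `C` a canonical divisor, `A` a place with
`ℓ(2A) = 1` (not a Weierstrass point), and `P`, `Q` places with `Q ≠ A`. Then `ℓ(C + 2A - P - 3Q) =
1` and `ℓ(C + 2A - P - Q) = 2` do not both hold: the two-dimensional complete system `H⁰(ω_X(2A -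
P))` (of degree `3`) has no point `Q ≠ A` of weight three. (The published statement concerns a
general pointed curve `(X, A)` of genus two over the complex numbers and a point `P` of `X`; this
row assumes only `ℓ(2A) = 1`.) -/
theorem result
    (k K : Type*) [Field k] [IsAlgClosed k] [CharZero k] [Field K] [Algebra k K]
    (hK : FunFld.IsFunctionField k K) (hg : FunFld.genus k K = 2)
    (C : FunFld.Divisor k K) (hC : FunFld.IsCanonical k K C)
    (A P Q : FunFld.Place k K) (hA : Module.finrank k ↥(FunFld.L (Finsupp.single A (2 : ℤ))) = 1) (hQ : Q ≠ A) :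
    ¬ (Module.finrank k ↥(FunFld.L (C + Finsupp.single A (2 : ℤ) - Finsupp.single P (1 : ℤ) - Finsupp.single Q (3 : ℤ))) = 1 ∧
       Module.finrank k ↥(FunFld.L (C + Finsupp.single A (2 : ℤ) - Finsupp.single P (1 : ℤ) - Finsupp.single Q (1 : ℤ))) = 2) := by
  have hfg : GrothLib.FunFld.IsFG k K := hK.1
  rintro ⟨-, h2⟩
  have hdeg := (GrothLib.FunFld.ell_canonical hK hC).2
  have hcan : FunFld.IsCanonical k K (C + Finsupp.single A (2 : ℤ) - Finsupp.single P (1 : ℤ) -
      Finsupp.single Q (1 : ℤ)) := by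
    refine GrothLib.FunFld.isCanonical_of_ell_deg hK (by rw [hg]; exact h2) ?_
    simp [hdeg, hg, hfg.deg_eq_one]
  obtain ⟨x, hx0, hx⟩ := GrothLib.FunFld.canonical_unique hK hC hcan
  have hdiv : FunFld.div k x = Finsupp.single A (2 : ℤ) - Finsupp.single P (1 : ℤ) -
      Finsupp.single Q (1 : ℤ) := by
    rw [eq_comm, ← sub_eq_zero] at hx
    rw [← sub_eq_zero, ← hx]; abel
  have hxL : x⁻¹ ∈ FunFld.L (Finsupp.single A (2 : ℤ)) := by
    rw [GrothLib.FunFld.mem_L_iff_ord (inv_ne_zero hx0)]
    intro R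
    rw [GrothLib.FunFld.ord_inv, ← hfg.div_apply, hdiv]
    simp only [Finsupp.sub_apply]
    have h1 : (0 : ℤ) ≤ (Finsupp.single P (1 : ℤ) : FunFld.Divisor k K) R :=
      Finsupp.single_nonneg.2 zero_le_one R
    have h3 : (0 : ℤ) ≤ (Finsupp.single Q (1 : ℤ) : FunFld.Divisor k K) R :=
      Finsupp.single_nonneg.2 zero_le_one R
    omega
  have := hfg.finite_L (Finsupp.single A (2 : ℤ))
  have h0 : FunFld.L (0 : FunFld.Divisor k K) = FunFld.L (Finsupp.single A (2 : ℤ)) := by
    refine Submodule.eq_of_le_of_finrank_le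
      (GrothLib.FunFld.L_mono (Finsupp.single_nonneg.2 (by norm_num))) ?_
    have := GrothLib.FunFld.ell_zero hK
    simp only [FunFld.ell] at this
    omega
  rw [← h0, GrothLib.FunFld.mem_L_iff_ord (inv_ne_zero hx0)] at hxL
  have h1 := hxL Q
  rw [GrothLib.FunFld.ord_inv, ← hfg.div_apply, hdiv] at h1
  have h2' := hxL A
  rw [GrothLib.FunFld.ord_inv, ← hfg.div_apply, hdiv] at h2'
  by_cases hPA : P = A
  · subst hPA; simp [hQ, Ne.symm hQ] at h1 h2'
  · simp [hQ, Ne.symm hQ, hPA, Ne.symm hPA] at h1 h2'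

end Groth.Agent.S17249
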