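import Groth.Statements.S17250
import Groth.Agent.Lib.FunFld.Linear

set_option autoImplicit false
open FunFld

namespace Groth.Agent.S17250

/-- Let `K/k` be a function field of one variable of genus two over an algebraically closed field `k` of
characteristic zero (a smooth curve `X` of genus `2`), `C` a canonical divisor, `A` a place with
`ℓ(2A) = 1`, and `P`, `Q` places different from `A`. Then `ℓ(C + 3A - P - 4Q) = 1` and `ℓ(C + 3A - P
- 2Q) = 2` do not both hold (the three-dimensional complete system `H⁰(ω_X(3A - P))`, of degree `4`,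
has no point `Q ≠ A` with two independent sections vanishing to order at least `2` there and one
vanishing to order at least `4`). (The published statement concerns a general pointed curve `(X, A)`
of genus two over the complex numbers and a point `P ≠ A`; this row assumes `ℓ(2A) = 1` in place of
generality.) -/
theorem result
    (k K : Type*) [Field k] [IsAlgClosed k] [CharZero k] [Field K] [Algebra k K]
    (hK : FunFld.IsFunctionField k K) (hg : FunFld.genus k K = 2)
    (C : FunFld.Divisor k K) (hC : FunFld.IsCanonical k K C)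
    (A P Q : FunFld.Place k K) (hA : Module.finrank k ↥(FunFld.L (Finsupp.single A (2 : ℤ))) = 1) (hP : P ≠ A) (hQ : Q ≠ A) :
    ¬ (Module.finrank k ↥(FunFld.L (C + Finsupp.single A (3 : ℤ) - Finsupp.single P (1 : ℤ) - Finsupp.single Q (4 : ℤ))) = 1 ∧
       Module.finrank k ↥(FunFld.L (C + Finsupp.single A (3 : ℤ) - Finsupp.single P (1 : ℤ) - Finsupp.single Q (2 : ℤ))) = 2) := by
  have hfg : GrothLib.FunFld.IsFG k K := hK.1
  rintro ⟨h1, h2⟩
  have hdeg := (GrothLib.FunFld.ell_canonical hK hC).2
  rw [hg] at hdeg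
  have hcan : FunFld.IsCanonical k K (C + Finsupp.single A (3 : ℤ) - Finsupp.single P (1 : ℤ) -
      Finsupp.single Q (2 : ℤ)) := by
    refine GrothLib.FunFld.isCanonical_of_ell_deg hK (by rw [hg]; exact h2) ?_
    simp [hdeg, hg, hfg.deg_eq_one]
  obtain ⟨x, hx0, hx⟩ := GrothLib.FunFld.canonical_unique hK hC hcan
  obtain ⟨y, hy0, -, hy⟩ := hfg.exists_of_ell_pos (D := C + Finsupp.single A (3 : ℤ) -
    Finsupp.single P (1 : ℤ) - Finsupp.single Q (4 : ℤ)) (by simp only [FunFld.ell]; omega)
  have hy' := hfg.eq_of_le_of_deg_le hy (by simp [hdeg, hfg.deg_div, hfg.deg_eq_one])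
  have hz : C + Finsupp.single P (1 : ℤ) + FunFld.div k (x * x * y) = Finsupp.single A (3 : ℤ) := by
    rw [hfg.div_mul (mul_ne_zero hx0 hx0) hy0, hfg.div_mul hx0 hx0]
    ext R
    have e1 := congrArg (fun E : FunFld.Divisor k K => E R) hx
    have e2 := congrArg (fun E : FunFld.Divisor k K => E R) hy'
    by_cases hRA : A = R <;> by_cases hRP : P = R <;> by_cases hRQ : Q = R <;>
      simp [hRA, hRP, hRQ] at e1 e2 ⊢ <;> omega
  have hmem : x * x * y ∈ FunFld.L (C + Finsupp.single P (1 : ℤ)) := by
    rw [GrothLib.FunFld.mem_L_iff_ord (mul_ne_zero (mul_ne_zero hx0 hx0) hy0)]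
    intro R
    have := congrArg (fun E : FunFld.Divisor k K => E R) hz
    have h3 : (0 : ℤ) ≤ (Finsupp.single A (3 : ℤ) : FunFld.Divisor k K) R :=
      Finsupp.single_nonneg.2 (by norm_num) R
    simp only [Finsupp.add_apply, hfg.div_apply] at this ⊢
    omega
  rw [GrothLib.FunFld.L_canonical_add hK hC P,
    GrothLib.FunFld.mem_L_iff_ord (mul_ne_zero (mul_ne_zero hx0 hx0) hy0)] at hmem
  have h4 := hmem P
  have := congrArg (fun E : FunFld.Divisor k K => E P) hz
  simp [hfg.div_apply, hP, Ne.symm hP] at this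
  omega

end Groth.Agent.S17250
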