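import Groth.Statements.S17251
import Groth.Agent.Lib.FunFld.Linear

set_option autoImplicit false
open FunFld

namespace Groth.Agent.S17251

/-- Let `K/k` be a function field of one variable of genus two over an algebraically closed field `k` of
characteristic zero (a smooth curve `Y` of genus `2`), `C` a canonical divisor, `B` a place with
`ℓ(2B) = 1` (not a Weierstrass point) and `Q ≠ B` a place. Then `ℓ(C + B - 2Q) = 1` and `ℓ(C + 3B -
4Q) = 1` do not both hold: the complete systems `H⁰(ω_Y(B))` (dimension `2`, degree `3`) and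
`H⁰(ω_Y(3B))` (dimension `4`, degree `5`) have no ramification point in common on `Y` minus `B`.
(The published statement concerns a general pointed curve `(Y, B)` of genus two over the complex
numbers; this row assumes only `ℓ(2B) = 1`.) -/
theorem result
    (k K : Type*) [Field k] [IsAlgClosed k] [CharZero k] [Field K] [Algebra k K]
    (hK : FunFld.IsFunctionField k K) (hg : FunFld.genus k K = 2)
    (C : FunFld.Divisor k K) (hC : FunFld.IsCanonical k K C)
    (B Q : FunFld.Place k K) (hB : Module.finrank k ↥(FunFld.L (Finsupp.single B (2 : ℤ))) = 1) (hQ : Q ≠ B) :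
    ¬ (Module.finrank k ↥(FunFld.L (C + Finsupp.single B (1 : ℤ) - Finsupp.single Q (2 : ℤ))) = 1 ∧
       Module.finrank k ↥(FunFld.L (C + Finsupp.single B (3 : ℤ) - Finsupp.single Q (4 : ℤ))) = 1) := by
  have hfg : GrothLib.FunFld.IsFG k K := hK.1
  rintro ⟨h1, h2⟩
  have hC' := GrothLib.FunFld.ell_canonical hK hC
  rw [hg] at hC'
  obtain ⟨a, ha0, ha, -⟩ := hfg.exists_of_ell_pos (D := C + Finsupp.single B (1 : ℤ) -
    Finsupp.single Q (2 : ℤ)) (by simp only [FunFld.ell]; omega)
  have haC : a ∈ FunFld.L (C + Finsupp.single B (1 : ℤ)) :=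
    GrothLib.FunFld.L_mono (sub_le_self _ (Finsupp.single_nonneg.2 (by norm_num))) ha
  rw [GrothLib.FunFld.L_canonical_add hK hC B, GrothLib.FunFld.mem_L_iff_ord ha0] at haC
  rw [GrothLib.FunFld.mem_L_iff_ord ha0] at ha
  have hage : 0 ≤ C - Finsupp.single Q (2 : ℤ) + FunFld.div k a := fun R => by
    have e1 := ha R
    have e2 := haC R
    by_cases hR : Q = R
    · subst hR; simp [hfg.div_apply, hQ, Ne.symm hQ] at e1 ⊢; omega
    · simp [hfg.div_apply, hR]; omega
  have ha' := hfg.eq_of_le_of_deg_le hage (by simp [hC'.2, hfg.deg_div, hfg.deg_eq_one])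
  obtain ⟨b, hb0, -, hb⟩ := hfg.exists_of_ell_pos (D := C + Finsupp.single B (3 : ℤ) -
    Finsupp.single Q (4 : ℤ)) (by simp only [FunFld.ell]; omega)
  obtain ⟨R', hR'⟩ := GrothLib.FunFld.exists_single_le hb (fun h0 => by
    have := congrArg FunFld.Divisor.deg h0
    simp [hC'.2, hfg.deg_div, hfg.deg_eq_one] at this)
  have hb' := hfg.eq_of_le_of_deg_le hR' (by simp [hC'.2, hfg.deg_div, hfg.deg_eq_one])
  have hz0 : a * a * b⁻¹ ≠ 0 := mul_ne_zero (mul_ne_zero ha0 ha0) (inv_ne_zero hb0)
  have hz : C + Finsupp.single R' (1 : ℤ) + FunFld.div k (a * a * b⁻¹) =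
      Finsupp.single B (3 : ℤ) := by
    rw [hfg.div_mul (mul_ne_zero ha0 ha0) (inv_ne_zero hb0), hfg.div_mul ha0 ha0, hfg.div_inv]
    ext R
    have e1 := congrArg (fun E : FunFld.Divisor k K => E R) ha'
    have e2 := congrArg (fun E : FunFld.Divisor k K => E R) hb'
    by_cases hRB : B = R <;> by_cases hRQ : Q = R <;> by_cases hRR : R' = R <;>
      simp [hRB, hRQ, hRR] at e1 e2 ⊢ <;> omega
  have hmem : a * a * b⁻¹ ∈ FunFld.L (C + Finsupp.single R' (1 : ℤ)) := by
    rw [GrothLib.FunFld.mem_L_iff_ord hz0]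
    intro R
    have := congrArg (fun E : FunFld.Divisor k K => E R) hz
    have h3 : (0 : ℤ) ≤ (Finsupp.single B (3 : ℤ) : FunFld.Divisor k K) R :=
      Finsupp.single_nonneg.2 (by norm_num) R
    simp only [Finsupp.add_apply, hfg.div_apply] at this ⊢
    omega
  rw [GrothLib.FunFld.L_canonical_add hK hC R', GrothLib.FunFld.mem_L_iff_ord hz0] at hmem
  have hRB : R' = B := by
    by_contra hne
    have h4 := hmem R'
    have := congrArg (fun E : FunFld.Divisor k K => E R') hz
    simp [hfg.div_apply, hne, Ne.symm hne] at this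
    omega
  subst hRB
  have hlin : C + FunFld.div k (a * a * b⁻¹) = Finsupp.single R' (2 : ℤ) := by
    rw [show (3 : ℤ) = 1 + 2 by norm_num, Finsupp.single_add] at hz
    rw [← add_right_inj (Finsupp.single R' (1 : ℤ)), ← hz]; abel
  have h5 := hfg.ell_add_div C hz0
  rw [hlin, hC'.1] at h5
  simp only [FunFld.ell] at h5
  omega

end Groth.Agent.S17251
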