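import Groth.Statements.S17253
-- import your own Groth.Agent.* helpers here
import Groth.Agent.Lib.Cube.MulFinite
import Groth.Agent.Lib.Rigidity.SmoothGroup

set_option autoImplicit false
universe u
open CategoryTheory CategoryTheory.Limits MonoidalCategory CartesianMonoidalCategory MonObj GrpObj AlgebraicGeometry
open AbVar

namespace Groth.Agent.S17253

/-- Let k be a field and A, B abelian varieties over k (smooth proper k-group schemes with geometrically
connected fibres), f : A → B a homomorphism, g : B → A an isogeny (a homomorphism which is finite,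
flat and surjective) and d a nonzero integer with g ∘ f = [d]_A, the d-th power of the identity in
the group of endomorphisms of A. Then f is an isogeny as well — finite, flat and surjective — and f
∘ g = [d]_B. -/
theorem result (k : Type u) [Field k]
    (A B : Over (Spec (CommRingCat.of k)))
    [GrpObj A] [Smooth A.hom] [IsProper A.hom] [GeometricallyConnected A.hom]
    [GrpObj B] [Smooth B.hom] [IsProper B.hom] [GeometricallyConnected B.hom]
    (f : A ⟶ B) [IsMonHom f] (g : B ⟶ A) [IsMonHom g] [IsFinite g.left] [Flat g.left] [Surjective g.left]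
    (d : ℤ) (hd : d ≠ 0) (h : f ≫ g = 𝟙 A ^ d) :
    IsFinite f.left ∧ Flat f.left ∧ Surjective f.left ∧ g ≫ f = 𝟙 B ^ d := by
  haveI := GrothLib.Rigidity.geometricallyIntegral_of_smooth A
  haveI := GrothLib.Rigidity.geometricallyIntegral_of_smooth B
  haveI : IsIntegral A.left := GeometricallyIntegral.isIntegral_of_subsingleton A.hom
  haveI : IsIntegral B.left := GeometricallyIntegral.isIntegral_of_subsingleton B.hom
  haveI := GrothLib.Cube.isCommMonObj_abVar (A := A)
  haveI := GrothLib.Cube.isCommMonObj_abVar (A := B)
  obtain ⟨hfin, hflat, hsurj⟩ := GrothLib.Cube.isogeny_zpow A hd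
  haveI : IsFinite f.left := by
    have : IsFinite (f.left ≫ g.left) := by rw [← Over.comp_left, h]; exact hfin
    exact IsFinite.of_comp f.left g.left
  haveI : Surjective f.left := GrothLib.Cube.surjective_of_finite f g
  haveI := GrothLib.Rigidity.flat_of_isFinite A B f
  refine ⟨‹_›, ‹_›, ‹_›, ?_⟩
  haveI : Epi f.left := inferInstance
  haveI : Epi f := (Over.forget _).epi_of_epi_map ‹Epi f.left›
  rw [← cancel_epi f, ← Category.assoc, h]
  exact GrothLib.Cube.zpow_comp_comm f d

end Groth.Agent.S17253
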