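import Groth.Statements.S17254
import Groth.Agent.Lib.Cube.Generic
import Groth.Agent.Lib.Seesaw26.Scheme
import Groth.Agent.Lib.PicGlue26.Base

set_option autoImplicit false
universe u
open CategoryTheory CategoryTheory.Limits MonoidalCategory CartesianMonoidalCategory AlgebraicGeometry
open PicF

namespace Groth.Agent.S17254

section
open AlgebraicGeometry CategoryTheory Limits MonoidalCategory CartesianMonoidalCategory GrothLib GrothLib.Cube
  TopologicalSpace

set_option backward.isDefEq.respectTransparency false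

/-- Proper schemes with geometrically connected and reduced fibre have constant functions only. -/
theorem isAntiAffine_connected {F : Type u} [Field F] (A : Over (Spec (CommRingCat.of F))) [IsProper A.hom]
    [GeometricallyReduced A.hom] [GeometricallyConnected A.hom] : AntiAffine.IsAntiAffine A := by
  have hb := PicGlue26.bijective_app A.hom (fun K _ _ g =>
    ⟨GeometricallyReduced.geometrically_isReduced _ _ _ (.of_hasPullback A.hom g),
      pullback_of_geometrically GeometricallyConnected.geometrically_connectedSpace _ g⟩) ⊤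
  exact hb.comp (Scheme.ΓSpecIso (CommRingCat.of F)).symm.commRingCatIsoToRingEquiv.bijective

theorem isAntiAffine_connected_bc {k F : Type u} [Field k] [Field F] (A : Over (Spec (CommRingCat.of k)))
    [IsProper A.hom] [GeometricallyReduced A.hom] [GeometricallyConnected A.hom]
    (Th : Spec (CommRingCat.of F) ⟶ Spec (CommRingCat.of k)) : AntiAffine.IsAntiAffine (bc Th A) := by
  haveI := isProper_bc Th A
  haveI : GeometricallyReduced (bc Th A).hom := inferInstanceAs (GeometricallyReduced (pullback.snd A.hom Th))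
  haveI : GeometricallyConnected (bc Th A).hom :=
    MorphismProperty.pullback_snd A.hom Th inferInstance
  exact isAntiAffine_connected _

theorem cube_connected (k : Type u) [Field k] (X Y Z : Over (Spec (CommRingCat.of k)))
    [IsProper X.hom] [GeometricallyIntegral X.hom]
    [IsProper Y.hom] [GeometricallyReduced Y.hom] [GeometricallyConnected Y.hom]
    [LocallyOfFiniteType Z.hom] [GeometricallyIntegral Z.hom]
    (x₀ : 𝟙_ (Over (Spec (CommRingCat.of k))) ⟶ X) (y₀ : 𝟙_ (Over (Spec (CommRingCat.of k))) ⟶ Y)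
    (z₀ : 𝟙_ (Over (Spec (CommRingCat.of k))) ⟶ Z)
    (L : (X ⊗ Y ⊗ Z).left.Modules) (hL : PicF.IsInvertible L)
    (hx : pull (lift (toUnit (Y ⊗ Z) ≫ x₀) (𝟙 (Y ⊗ Z))).left (clsMod hL) = 1)
    (hy : pull (lift (fst X Z) (lift (toUnit (X ⊗ Z) ≫ y₀) (snd X Z))).left (clsMod hL) = 1)
    (hz : pull (lift (fst X Y) (lift (snd X Y) (toUnit (X ⊗ Y) ≫ z₀))).left (clsMod hL) = 1) :
    clsMod hL = 1 := by
  haveI : Nonempty Z.left := ⟨z₀.left (IsLocalRing.closedPoint k)⟩
  haveI : IsIntegral Z.left := GeometricallyIntegral.isIntegral_of_subsingleton Z.hom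
  haveI : IsLocallyNoetherian Z.left := LocallyOfFiniteType.isLocallyNoetherian Z.hom
  let h : (X ⊗ Y ⊗ Z).left ⟶ (Y ⊗ Z).left := (snd X (Y ⊗ Z)).left
  haveI : Flat h := flat_snd_left X (Y ⊗ Z)
  haveI : IsProper h := isProper_snd_left X (Y ⊗ Z)
  haveI : LocallyOfFinitePresentation h :=
    MorphismProperty.pullback_snd X.hom (Y ⊗ Z).hom (inferInstanceAs (LocallyOfFinitePresentation X.hom))
  haveI : GeometricallyIntegral h := MorphismProperty.pullback_snd X.hom (Y ⊗ Z).hom inferInstance
  obtain ⟨W, ι, hι, -, huniv⟩ := Seesaw26.exists_seesaw_subscheme' h L hL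
  haveI := hι
  let ε := lift (toUnit (Y ⊗ Z) ≫ x₀) (𝟙 (Y ⊗ Z))
  have hε : ε.left ≫ h = 𝟙 _ := by rw [← Over.comp_left, lift_snd, Over.id_left]
  have key : ∀ {T : Scheme.{u}} (u : T ⟶ (Y ⊗ Z).left),
      (∃ u' : T ⟶ W, u' ≫ ι = u) ↔ pull (pullback.fst h u) (clsMod hL) = 1 := by
    intro T u
    rw [huniv T u]
    constructor
    · rintro ⟨N, hN, ⟨e⟩⟩
      have h1 : pull (pullback.fst h u) (clsMod hL) = pull (pullback.snd h u) (clsMod hN) := by
        rw [← clsMod_pullback _ hL, ← clsMod_pullback _ hN, clsMod_eq_iff]; exact ⟨e⟩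
      let εT : T ⟶ pullback h u := pullback.lift (u ≫ ε.left) (𝟙 T) (by rw [Category.assoc, hε]; simp)
      have h2 := congrArg (pull εT) h1
      rw [pull_comp, pull_comp, pullback.lift_fst, pullback.lift_snd, pull_id, ← pull_comp, hx, map_one] at h2
      rw [h1, ← h2, map_one]
    · intro h1
      rw [← clsMod_pullback _ hL, clsMod_eq_one_iff] at h1
      obtain ⟨e⟩ := h1
      exact ⟨_, Euler.isInvertible_structure, ⟨e ≪≫ (PicLoc.pullbackStructureIso _).symm⟩⟩
  -- the generic fibre
  obtain ⟨c, hc⟩ := Quotient.exists_rep (pull (α_ X Y Z).hom.left (clsMod hL))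
  change cls c = _ at hc
  have hslice : ∀ {A : Over (Spec (CommRingCat.of k))} (a : A ⟶ (X ⊗ Y) ⊗ Z) (b : A ⟶ X ⊗ Y ⊗ Z),
      a ≫ (α_ X Y Z).hom = b → pull b.left (clsMod hL) = 1 → Triv (c.comap a.left) := by
    intro A a b e hb
    rw [← cls_eq_one_iff, ← pull_cls, hc, pull_comp, ← Over.comp_left, e, hb]
  let gη : Over.mk (Z.left.fromSpecStalk (genericPoint Z.left) ≫ Z.hom) ⟶ Z :=
    Over.homMk (Z.left.fromSpecStalk (genericPoint Z.left)) rfl
  have hgen : Triv (c.comap ((X ⊗ Y) ◁ gη).left) :=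
    triv_generic' (fun _ _ Th => isAntiAffine_connected_bc Y Th) (isAntiAffine_connected Y) x₀ y₀ z₀ c
      (hslice (lift (𝟙 X) (toUnit X ≫ y₀) ▷ Z) _ (by ext1 <;> [skip; ext1] <;> simp) hy)
      (hslice (lift (toUnit Y ≫ x₀) (𝟙 Y) ▷ Z) _ (by ext1 <;> [skip; ext1] <;> simp) hx)
      (hslice (lift (𝟙 (X ⊗ Y)) (toUnit (X ⊗ Y) ≫ z₀)) _ (by ext1 <;> [skip; ext1] <;> simp) hz)
  let T := Over.mk (Z.left.fromSpecStalk (genericPoint Z.left) ≫ Z.hom)
  let u := (Y ◁ gη).left
  have hu : pull (pullback.fst h u) (clsMod hL) = 1 := by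
    rw [← cls_eq_one_iff, ← pull_cls, hc, pull_comp, ← Over.comp_left] at hgen
    have e : (X ⊗ Y) ◁ gη ≫ (α_ X Y Z).hom = (α_ X Y T).hom ≫ X ◁ Y ◁ gη := associator_naturality_right _ _ _
    rw [e, Over.comp_left, ← pull_comp] at hgen
    have h1 := congrArg (pull ((isPullback_whiskerLeft_left X (Y ◁ gη)).isoPullback.inv ≫ (α_ X Y T).inv.left)) hgen
    rw [map_one, pull_comp, pull_comp] at h1
    simp only [Category.assoc, ← Over.comp_left_assoc, Iso.inv_hom_id, Over.id_left, Category.id_comp,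
      (isPullback_whiskerLeft_left X (Y ◁ gη)).isoPullback_inv_fst] at h1
    exact h1
  obtain ⟨u', hu'⟩ := (key u).2 hu
  have hsurj : Function.Surjective ι := by
    let p : (Y ⊗ Z).left ⟶ Z.left := (snd Y Z).left
    haveI : Flat p := flat_snd_left Y Z
    haveI : LocallyOfFinitePresentation p :=
      MorphismProperty.pullback_snd Y.hom Z.hom (inferInstanceAs (LocallyOfFinitePresentation Y.hom))
    haveI : UniversallyOpen p := inferInstance
    have hsub : p ⁻¹' {genericPoint Z.left} ⊆ Set.range ι := by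
      intro y hy
      let H := isPullback_whiskerLeft_left Y gη
      have hy' : y ∈ Set.range (pullback.fst p gη.left) := by
        rw [Scheme.Pullback.range_fst]
        exact ⟨IsLocalRing.closedPoint _, (Scheme.fromSpecStalk_closedPoint (X := Z.left)).trans hy.symm⟩
      obtain ⟨t, rfl⟩ := hy'
      refine ⟨u' (H.isoPullback.inv t), ?_⟩
      rw [← Scheme.Hom.comp_apply, ← Scheme.Hom.comp_apply, hu']
      erw [H.isoPullback_inv_fst]
    intro y
    have h1 : y ∈ p ⁻¹' closure {genericPoint Z.left} := (genericPoint_spec Z.left).symm ▸ Set.mem_univ _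
    rw [p.isOpenMap.preimage_closure_eq_closure_preimage p.continuous] at h1
    exact closure_minimal hsub ι.isClosedEmbedding.isClosed_range h1
  haveI : IsReduced (Y ⊗ Z).left := inferInstanceAs (IsReduced (pullback Y.hom Z.hom))
  haveI : Surjective ι := ⟨hsurj⟩
  haveI : IsIso ι := isIso_of_isClosedImmersion_of_surjective ι
  have h2 := (key (𝟙 _)).1 ⟨CategoryTheory.inv ι, IsIso.inv_hom_id ι⟩
  have h3 := congrArg (pull (CategoryTheory.inv (pullback.fst h (𝟙 _)))) h2
  rwa [pull_comp, IsIso.inv_hom_id, pull_id, map_one] at h3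

end

/-- Let k be a field and X, Y, Z schemes over k with k-rational points x₀, y₀, z₀; assume X is proper
and geometrically integral over k, Y is proper, geometrically reduced and geometrically connected
over k, and Z is of finite type and geometrically integral over k. Let L be an invertible module on
X ×_k Y ×_k Z whose pullbacks to the slices {x₀} × Y × Z, X × {y₀} × Z and X × Y × {z₀} are all
trivial. Then L is trivial: isomorphic to the structure sheaf. -/
theorem result (k : Type u) [Field k]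
    (X Y Z : Over (Spec (CommRingCat.of k)))
    [IsProper X.hom] [GeometricallyIntegral X.hom]
    [IsProper Y.hom] [GeometricallyReduced Y.hom] [GeometricallyConnected Y.hom]
    [LocallyOfFiniteType Z.hom] [QuasiCompact Z.hom] [GeometricallyIntegral Z.hom]
    (x₀ : 𝟙_ (Over (Spec (CommRingCat.of k))) ⟶ X) (y₀ : 𝟙_ (Over (Spec (CommRingCat.of k))) ⟶ Y)
    (z₀ : 𝟙_ (Over (Spec (CommRingCat.of k))) ⟶ Z)
    (L : (X ⊗ Y ⊗ Z).left.Modules) (hL : PicF.IsInvertible L)
    (hx : Nonempty ((Scheme.Modules.pullback (lift (toUnit (Y ⊗ Z) ≫ x₀) (𝟙 (Y ⊗ Z))).left).obj L ≅ Coh.structureModule (Y ⊗ Z).left))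
    (hy : Nonempty ((Scheme.Modules.pullback (lift (fst X Z) (lift (toUnit (X ⊗ Z) ≫ y₀) (snd X Z))).left).obj L ≅ Coh.structureModule (X ⊗ Z).left))
    (hz : Nonempty ((Scheme.Modules.pullback (lift (fst X Y) (lift (snd X Y) (toUnit (X ⊗ Y) ≫ z₀))).left).obj L ≅ Coh.structureModule (X ⊗ Y).left)) :
    Nonempty (L ≅ Coh.structureModule (X ⊗ Y ⊗ Z).left) := by
  exact (GrothLib.Cube.clsMod_eq_one_iff hL).1 (cube_connected k X Y Z x₀ y₀ z₀ L hL
    ((GrothLib.Cube.clsMod_pullback _ hL).symm.trans ((GrothLib.Cube.clsMod_eq_one_iff _).2 hx))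
    ((GrothLib.Cube.clsMod_pullback _ hL).symm.trans ((GrothLib.Cube.clsMod_eq_one_iff _).2 hy))
    ((GrothLib.Cube.clsMod_pullback _ hL).symm.trans ((GrothLib.Cube.clsMod_eq_one_iff _).2 hz)))

end Groth.Agent.S17254
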