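import Groth.Statements.S17255
import Groth.Agent.Lib.Rigidity.Isogeny
import Groth.Agent.Lib.Rigidity.SmoothGroup
import Groth.Agent.Lib.Dim.QuasiFinite

set_option autoImplicit false
universe u
open CategoryTheory CategoryTheory.Limits MonoidalCategory CartesianMonoidalCategory MonObj GrpObj AlgebraicGeometry
open AbVar

namespace Groth.Agent.S17255

/-- Let k be a field, A and B abelian varieties over k (smooth proper k-group schemes with geometrically
connected fibres) with dim A = dim B (Krull dimensions of the underlying spaces), and f : A → B a
homomorphism. Then flatness of f is equivalent to finiteness of f. -/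
theorem result (k : Type u) [Field k]
    (A B : Over (Spec (CommRingCat.of k)))
    [GrpObj A] [Smooth A.hom] [IsProper A.hom] [GeometricallyConnected A.hom]
    [GrpObj B] [Smooth B.hom] [IsProper B.hom] [GeometricallyConnected B.hom]
    (f : A ⟶ B) [IsMonHom f] (hdim : topologicalKrullDim A.left = topologicalKrullDim B.left) :
    Flat f.left ↔ IsFinite f.left := by
  have : GeometricallyIntegral A.hom := GrothLib.Rigidity.geometricallyIntegral_of_smooth A
  have : GeometricallyIntegral B.hom := GrothLib.Rigidity.geometricallyIntegral_of_smooth B
  have : IsIntegral A.left := GeometricallyIntegral.isIntegral_of_subsingleton A.hom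
  have : IsIntegral B.left := GeometricallyIntegral.isIntegral_of_subsingleton B.hom
  have : IsLocallyNoetherian B.left := LocallyOfFiniteType.isLocallyNoetherian B.hom
  have : IsProper f.left := by
    have : IsProper (f.left ≫ B.hom) := by rw [Over.w]; infer_instance
    exact IsProper.of_comp f.left B.hom
  constructor
  · intro hflat
    have : LocallyOfFinitePresentation f.left := inferInstance
    have hclopen : IsClopen (Set.range f.left) :=
      ⟨f.left.isClosedMap.isClosed_range, f.left.isOpenMap.isOpen_range⟩
    have : Surjective f.left := ⟨fun b =>
      (hclopen.eq_univ (Set.range_nonempty _)).ge (Set.mem_univ b)⟩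
    exact GrothLib.Rigidity.isFinite_of_dim_eq A B f hdim
  · intro hfin
    obtain ⟨n, hn, hcl⟩ := GrothLib.Dim.dim_closure_range_eq f.left B.hom
    have hc : closure (Set.range f.left) = Set.univ :=
      GrothLib.Dim.eq_univ_of_dim_le isClosed_closure (by rw [← hdim, hn, hcl]) hcl
    have : Surjective f.left := ⟨fun b => by
      rw [f.left.isClosedMap.isClosed_range.closure_eq] at hc
      exact hc.ge (Set.mem_univ b)⟩
    exact GrothLib.Rigidity.flat_of_isFinite A B f

end Groth.Agent.S17255
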