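import Groth.Statements.S17259
import Mathlib.RingTheory.Ideal.Quotient.Operations
import Mathlib.Algebra.Ring.Subring.Basic
-- import your own Groth.Agent.* helpers here

set_option autoImplicit false
open CAlg

namespace Groth.Agent.S17259

/-- Let A, B, C be rings, f : B → A and g : B → C ring homomorphisms, and φ : A → B a homomorphism of
additive groups such that the sequence A → B → C → 0 (maps φ, g) is exact and f ∘ φ is
multiplication by a central element a of A which is not a zero divisor. Then the projection p : A →
A/(a) composed with f factors through g as a ring homomorphism q : C → A/(a), the homomorphism (f,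
g) : B → A × C is injective, and its image is the fibre product of A and C over A/(a) along p and q;
thus (f, g) is a ring isomorphism from B onto that fibre product. (The two-sidedness of the ideal
generated by a, automatic for a central element, is carried as an instance hypothesis.) -/
theorem result {A B C : Type*} [Ring A] [Ring B] [Ring C]
    (f : B →+* A) (g : B →+* C) (φ : A →+ B) (a : A)
    (hc : ∀ x : A, Commute a x) (ha : a ∈ nonZeroDivisors A)
    (hex : Function.Exact φ g) (hg : Function.Surjective g)
    (hφ : ∀ x : A, f (φ x) = a * x)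
    [(Ideal.span ({a} : Set A)).IsTwoSided] :
    ∃ q : C →+* A ⧸ Ideal.span ({a} : Set A),
      q.comp g = (Ideal.Quotient.mk (Ideal.span ({a} : Set A))).comp f ∧
      Function.Injective (f.prod g) ∧
      (f.prod g).range = (Ideal.Quotient.mk (Ideal.span ({a} : Set A))).pullback q := by
  have hker : ∀ b : B, g b = 0 → Ideal.Quotient.mk (Ideal.span ({a} : Set A)) (f b) = 0 := by
    intro b hb
    obtain ⟨x, rfl⟩ := (hex b).1 hb
    rw [hφ, Ideal.Quotient.eq_zero_iff_mem, (hc x).eq]
    exact Ideal.mem_span_singleton'.2 ⟨x, rfl⟩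
  let q : C →+* A ⧸ Ideal.span ({a} : Set A) :=
    g.liftOfSurjective hg ⟨(Ideal.Quotient.mk _).comp f, fun b hb => RingHom.mem_ker.2 (hker b (RingHom.mem_ker.1 hb))⟩
  have hq : ∀ b, q (g b) = Ideal.Quotient.mk _ (f b) := fun b => g.liftOfRightInverse_comp_apply _ _ _ b
  refine ⟨q, RingHom.ext hq, ?_, ?_⟩
  · rw [injective_iff_map_eq_zero]
    intro b hb
    obtain ⟨h1, h2⟩ := Prod.ext_iff.1 hb
    obtain ⟨x, rfl⟩ := (hex b).1 h2
    change f (φ x) = 0 at h1
    rw [hφ, (hc x).eq] at h1
    rw [(mem_nonZeroDivisors_iff.1 ha).2 x h1, map_zero]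
  · ext ⟨α, c⟩
    constructor
    · rintro ⟨b, hb⟩
      obtain ⟨h1, h2⟩ := Prod.ext_iff.1 hb
      show Ideal.Quotient.mk _ α = q c
      change f b = α at h1
      change g b = c at h2
      rw [← h2]
      exact (congrArg _ h1.symm).trans (hq b).symm
    · intro h
      change Ideal.Quotient.mk _ α = q c at h
      obtain ⟨b, rfl⟩ := hg c
      rw [hq, ← sub_eq_zero, ← map_sub, Ideal.Quotient.eq_zero_iff_mem] at h
      obtain ⟨y, hy⟩ := Ideal.mem_span_singleton'.1 h
      refine ⟨b + φ y, Prod.ext ?_ ?_⟩
      · show f (b + φ y) = α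
        rw [map_add, hφ, (hc y).eq, hy]; abel
      · show g (b + φ y) = g b
        rw [map_add, (hex (φ y)).2 ⟨y, rfl⟩, add_zero]

end Groth.Agent.S17259
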