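import Groth.Statements.S17262
import Groth.Agent.Lib.CurveSerre11.RatTree
import Groth.Agent.Lib.CurveSerre11.DualData

set_option autoImplicit false
universe u
open CategoryTheory CategoryTheory.Limits AlgebraicGeometry
attribute [local instance] HasDerivedCategory.standard
open Curves

namespace Groth.Agent.S17262

set_option backward.isDefEq.respectTransparency false
set_option maxHeartbeats 1000000


/-- Let Ω be an algebraically closed field of characteristic zero and C a scheme proper over Ω which is
connected, of dimension one, at-worst-nodal, with vanishing first cohomology of the structure sheaf,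
and with at most three nodes. Let ω be the dualizing module of C over Ω (via the upper-shriek
functor, whose existence is assumed) and ω' an O_C-module with ω' ⊗ ω ≅ O_C. Then ω ⊗ ω has no
nonzero global sections, the first cohomology of ω' vanishes, and the global sections of ω' form a
three-dimensional Ω-vector space. (The source states that for a family of such curves with at most
three nodes in each fibre the direct image of the inverse of the relative dualizing sheaf is locally
free of rank three and commutes with base change; this row is the statement on each geometric fibre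
from which that follows. The published statement is over the complex numbers; it is stated here over
any algebraically closed field of characteristic zero.) -/
theorem result (Ω : Type u) [Field Ω] [IsAlgClosed Ω] [CharZero Ω]
    (C : Scheme.{u}) [C.Over (Spec (CommRingCat.of Ω))] [IsProper (C ↘ Spec (CommRingCat.of Ω))] [ConnectedSpace ↥C]
    (hdim : topologicalKrullDim ↥C = 1) (hnod : Curv2.AtWorstNodal Ω C) (hg : Curv2.genus Ω C = 0)
    (h3 : {x : ↥C | Curv2.IsNode Ω C x}.encard ≤ 3)
    [DCoh.HasRpush (C ↘ Spec (CommRingCat.of Ω))] (h : DCoh.RpushPreservesQCoh (C ↘ Spec (CommRingCat.of Ω))) [DCoh.HasShriek (C ↘ Spec (CommRingCat.of Ω)) h]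
    (OY : DCoh.DQCoh (Spec (CommRingCat.of Ω))) (hOY : Nonempty (OY.obj ≅ DCoh.inD (Spec (CommRingCat.of Ω)) (Coh.structureModule (Spec (CommRingCat.of Ω)))))
    (ωd : C.Modules) (hωd : ClSub.IsInverseOf ωd (DCoh.dualizingMod (C ↘ Spec (CommRingCat.of Ω)) h OY 1)) :
    Subsingleton (Coh.HH C (CohB1.tensorPow (DCoh.dualizingMod (C ↘ Spec (CommRingCat.of Ω)) h OY 1) 2) 0) ∧
      Subsingleton (Coh.HH C ωd 1) ∧ Module.finrank Ω (Coh.HH C ωd 0) = 3 := by
  obtain ⟨hred, hω⟩ := GrothLib.CurveSerre11.nodal_data h OY hdim hOY (GrothLib.CurveSerre11.equidim_of_connected (k := Ω) hdim) hnod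
  haveI := hred
  haveI := GrothLib.Euler.finiteDimensional_HH Ω
    (GrothLib.Euler.isCoh_of_isInvertible (GrothLib.Euler.isInvertible_structure (X := C))) 1
  exact GrothLib.CurveSerre11.antican_three_nodes hdim h OY hOY hω hnod (Module.finrank_zero_iff.1 hg) h3 ωd hωd

end Groth.Agent.S17262
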