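import Groth.Statements.S17265
import Groth.Agent.Lib.AlgSt.DiagMor


set_option autoImplicit false
set_option backward.isDefEq.respectTransparency false
set_option backward.isDefEq.respectTransparency.types false
open CategoryTheory AlgebraicGeometry
universe u
open AlgSt

namespace Groth.Agent.S17265

open GrothLib.AlgSt

/-- Let S be a scheme and let f : 𝒳 → 𝒴 and g : 𝒴 → 𝒵 be functors over (Sch/S) between categories fibred
in groupoids over (Sch/S). If the composite g ∘ f is representable by algebraic spaces and the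
diagonal 𝒴 → 𝒴 ×_𝒵 𝒴 of g is representable by algebraic spaces, then f is representable by algebraic
spaces. This is the case of the source's lemma in which the class of test objects is the class of
algebraic spaces over S (fppf sheaves on (Sch/S) with representable diagonal and an etale surjective
map from a scheme). -/
theorem result {S : Scheme.{u}} {𝒳 𝒴 𝒵 : AlgSt.Cat S}
    (h𝒳 : FibCat.IsFibGrpd 𝒳.p) (h𝒴 : FibCat.IsFibGrpd 𝒴.p) (h𝒵 : FibCat.IsFibGrpd 𝒵.p)
    (f : 𝒳 ⥤ᵇ 𝒴) (g : 𝒴 ⥤ᵇ 𝒵)
    (hgf : AlgSt.RepByAlgSp1 (BasedFunctor.comp f g))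
    (hΔ : AlgSt.RepByAlgSp1 (FibCat.diag g)) :
    AlgSt.RepByAlgSp1 f := by
    have h1 : AlgSt.RepByAlgSp1 (graph f g) :=
      repByAlgSpWith_top_iff.1 (repByAlgSpWith_graph h𝒴 f g (repByAlgSpWith_top_iff.2 hΔ))
    rw [← graph_fpSnd f g]
    exact repByAlgSp1_comp h𝒳 (GrothLib.FibCat.Fp.isFibGrpd h𝒳 h𝒴 h𝒵) _ _ h1 (repByAlgSp1_fpSnd g hgf)

end Groth.Agent.S17265
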