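import Groth.Statements.S17266
import Groth.Agent.Lib.FibCat.Basic


set_option autoImplicit false
set_option backward.isDefEq.respectTransparency false
set_option backward.isDefEq.respectTransparency.types false
open CategoryTheory
universe v u
open Stk

namespace Groth.Agent.S17266

open CategoryTheory GrothLib.FibCat

def mapComp {C : Type u} [Category.{v} C] {U V W : C} (f : U ⟶ V) (g : V ⟶ W) :
    BasedFunctor.comp (⟨Over.map f, Over.mapForget_eq f⟩ : FibCat.overCat U ⥤ᵇ FibCat.overCat V)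
      (⟨Over.map g, Over.mapForget_eq g⟩ : FibCat.overCat V ⥤ᵇ FibCat.overCat W) ≅
        (⟨Over.map (f ≫ g), Over.mapForget_eq (f ≫ g)⟩ : FibCat.overCat U ⥤ᵇ FibCat.overCat W) :=
  natIsoOfComponents (fun a => Over.isoMk (Iso.refl a.left) (by
      change 𝟙 _ ≫ (a.hom ≫ f ≫ g) = (a.hom ≫ f) ≫ g
      simp))
    (fun a => CategoryTheory.IsHomLift.of_fac' (FibCat.overCat W).p _ _ rfl rfl (by simp; rfl))
    (fun {a b} φ => Over.OverMorphism.ext ((Category.comp_id φ.left).trans (Category.id_comp φ.left).symm))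

/-- Let C be a category with a Grothendieck topology J and let F : 𝒳 → 𝒴, G : 𝒴 → 𝒵 be functors over C
between categories fibred in groupoids over C. Say that a functor H : 𝒜 → ℬ over C is covering when
for every object U of C and every functor b : C/U → ℬ over C there is a J-covering sieve of U such
that for each of its arrows h : V → U the composite of C/V → C/U with b is 2-isomorphic over C to H
∘ a for some functor a : C/V → 𝒜 over C (locally on the base every object of ℬ lifts to 𝒜 up to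
isomorphism). If F and G are covering, then the composite G ∘ F is covering. -/
theorem result {C : Type u} [Category.{v} C] (J : GrothendieckTopology C)
    {𝒳 𝒴 𝒵 : BasedCategory.{v, max u v} C}
    (h𝒳 : FibCat.IsFibGrpd 𝒳.p) (h𝒴 : FibCat.IsFibGrpd 𝒴.p) (h𝒵 : FibCat.IsFibGrpd 𝒵.p)
    (F : 𝒳 ⥤ᵇ 𝒴) (G : 𝒴 ⥤ᵇ 𝒵)
    (hF : (∀ (U : C) (y : FibCat.overCat U ⥤ᵇ 𝒴), ∃ R ∈ J U, ∀ ⦃V : C⦄ (h : V ⟶ U), R.arrows h →
        ∃ x : FibCat.overCat V ⥤ᵇ 𝒳,
          Nonempty (BasedFunctor.comp x F ≅ BasedFunctor.comp (⟨Over.map h, Over.mapForget_eq h⟩ : FibCat.overCat V ⥤ᵇ FibCat.overCat U) y)))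
    (hG : (∀ (U : C) (y : FibCat.overCat U ⥤ᵇ 𝒵), ∃ R ∈ J U, ∀ ⦃V : C⦄ (h : V ⟶ U), R.arrows h →
        ∃ x : FibCat.overCat V ⥤ᵇ 𝒴,
          Nonempty (BasedFunctor.comp x G ≅ BasedFunctor.comp (⟨Over.map h, Over.mapForget_eq h⟩ : FibCat.overCat V ⥤ᵇ FibCat.overCat U) y))) :
    (∀ (U : C) (y : FibCat.overCat U ⥤ᵇ 𝒵), ∃ R ∈ J U, ∀ ⦃V : C⦄ (h : V ⟶ U), R.arrows h →
        ∃ x : FibCat.overCat V ⥤ᵇ 𝒳,
          Nonempty (BasedFunctor.comp x (BasedFunctor.comp F G) ≅ BasedFunctor.comp (⟨Over.map h, Over.mapForget_eq h⟩ : FibCat.overCat V ⥤ᵇ FibCat.overCat U) y)) := by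
    intro U y
    obtain ⟨R, hR, h1⟩ := hG U y
    choose x hx using h1
    choose R' hR' h2 using fun (V : C) (h : V ⟶ U) (hh : R.arrows h) => hF V (x h hh)
    refine ⟨Sieve.bind R.arrows (fun V h hh => R' V h hh), J.bind_covering hR (fun V h hh => hR' V h hh), ?_⟩
    rintro W _ ⟨V, k, h, hh, hk, rfl⟩
    obtain ⟨z, ⟨i⟩⟩ := h2 V h hh k hk
    obtain ⟨j⟩ := hx h hh
    exact ⟨z, ⟨whiskerRightIso i G ≪≫ whiskerLeftIso (⟨Over.map k, Over.mapForget_eq k⟩ : FibCat.overCat W ⥤ᵇ FibCat.overCat V) j ≪≫ whiskerRightIso (mapComp k h) y⟩⟩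

end Groth.Agent.S17266
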