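import Groth.Statements.S17275
-- import your own Groth.Agent.* helpers here
import Groth.Agent.Lib.FrobIter10.Basic
import Groth.Agent.Lib.FrobDer12.Power
import Groth.Agent.Lib.CurveMult.DualDeg
import Groth.Agent.Lib.CurveMult.SectionSlope
import Groth.Agent.Lib.CurveRR.Setup
import Groth.Agent.Lib.Euler.Section
import Groth.Agent.Lib.Euler.Slope2
import Groth.Agent.Lib.OX.OneDegLocus
import Groth.Agent.Lib.OmegaFree.Basic
import Groth.Agent.Lib.ModelK.Rank
import Groth.Agent.Lib.Ample.Cocycle

set_option autoImplicit false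
set_option maxHeartbeats 1600000
set_option linter.style.haveILetI false
set_option backward.isDefEq.respectTransparency false
universe u
open CategoryTheory CategoryTheory.Limits AlgebraicGeometry
open VBCurve

namespace Groth.Agent.S17275

open GrothLib Opposite TopologicalSpace
open GrothLib.CurveRR (RegCurve)

section
variable {X : Scheme.{u}}

theorem shortExact_pullback' {Y : Scheme.{u}} (f : Y ⟶ X) {S : ShortComplex X.Modules} (hS : S.ShortExact)
    {q : ℕ} (h₃ : FlatMod.IsFinLocFreeOfRank q S.X₃) :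
    (S.map (Scheme.Modules.pullback f)).ShortExact := by
  haveI : (Scheme.Modules.pullback f).IsLeftAdjoint :=
    (Scheme.Modules.pullbackPushforwardAdjunction f).isLeftAdjoint
  haveI : PreservesFiniteColimits (Scheme.Modules.pullback f) := ⟨fun J _ _ => inferInstance⟩
  haveI := hS.epi_g
  refine { exact := ?_, mono_f := ?_, epi_g := ?_ }
  · exact hS.exact.map_of_epi_of_preservesCokernel _ hS.epi_g inferInstance
  · refine (OX.mono_iff _).2 fun y => ?_
    have hT := hS.map_of_exact (OX.stalk (f y))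
    obtain ⟨b⟩ := OmegaFree.exists_basis_stalk h₃ (f y)
    haveI : Projective (S.map (OX.stalk (f y))).X₃ := ModuleCat.projective_of_free b
    haveI := ((hT.splittingOfProjective).map (ModuleCat.extendScalars (f.stalkMap y).hom)).isSplitMono_f
    refine ((MorphismProperty.monomorphisms _).arrow_mk_iso_iff
      (Arrow.isoMk ((OX.pullStalkIso f y).app S.X₁) ((OX.pullStalkIso f y).app S.X₂)
        ((OX.pullStalkIso f y).hom.naturality S.f).symm)).2 ?_
    exact inferInstanceAs (Mono ((S.map (OX.stalk (f y))).map (ModuleCat.extendScalars (f.stalkMap y).hom)).f)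
  · exact inferInstanceAs (Epi ((Scheme.Modules.pullback f).map S.g))

theorem isFlat_of_invertible {L : X.Modules} (hL : PicF.IsInvertible L) : FlatMod.IsFlat L := fun x => by
  obtain ⟨b⟩ := OmegaFree.exists_basis_stalk (Euler.isFinLocFreeOfRank_one' hL) x
  haveI := Module.Free.of_basis b
  show Module.Flat (X.presheaf.stalk x) (L.presheaf.stalk x)
  infer_instance

variable (p : ℕ) [Fact p.Prime] [FrobSch.IsCharP X p]

noncomputable abbrev Φ (n : ℕ) (E : X.Modules) : X.Modules :=
  ((Scheme.Modules.pullback (FrobSch.frob X p)).obj)^[n] E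

theorem rank_Φ {r : ℕ} : ∀ (n : ℕ) {E : X.Modules}, FlatMod.IsFinLocFreeOfRank r E →
    FlatMod.IsFinLocFreeOfRank r (Φ p n E)
  | 0, _, h => h
  | n + 1, _, h => rank_Φ n (OX.isFinLocFreeOfRank_pullback _ h)

theorem shortExact_Φ {q : ℕ} : ∀ (n : ℕ) (S : ShortComplex X.Modules), S.ShortExact →
    FlatMod.IsFinLocFreeOfRank q S.X₃ → ∃ S' : ShortComplex X.Modules, S'.ShortExact ∧
      S'.X₁ = Φ p n S.X₁ ∧ S'.X₂ = Φ p n S.X₂ ∧ S'.X₃ = Φ p n S.X₃
  | 0, S, hS, _ => ⟨S, hS, rfl, rfl, rfl⟩
  | n + 1, S, hS, h₃ => shortExact_Φ n (S.map (Scheme.Modules.pullback (FrobSch.frob X p)))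
      (shortExact_pullback' _ hS h₃) (OX.isFinLocFreeOfRank_pullback _ h₃)

variable (k : Type u) [Field k] [X.Over (Spec (CommRingCat.of k))] [IsIntegral X] [RegCurve X]
  [IsProper (X ↘ Spec (CommRingCat.of k))]

variable [IsAlgClosed k]

include k in
theorem deg_Φ : ∀ (n : ℕ) {A : X.Modules}, PicF.IsInvertible A →
    PicF.IsInvertible (Φ p n A) ∧ Curv2.deg k X (Φ p n A) 1 = (p : ℤ) ^ n * Curv2.deg k X A 1
  | 0, A, hA => ⟨hA, by rw [pow_zero, one_mul]; rfl⟩
  | n + 1, A, hA => by
    have hF : PicF.IsInvertible ((Scheme.Modules.pullback (FrobSch.frob X p)).obj A) :=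
      CurveMult.isInvertible_of_rank_one
        (OX.isFinLocFreeOfRank_pullback _ (Euler.isFinLocFreeOfRank_one_of_invertible hA))
    obtain ⟨h1, h2⟩ := deg_Φ n hF
    refine ⟨h1, ?_⟩
    haveI := FrobDer12.isIso_toPow A p hA
    let t : (Scheme.Modules.pullback (FrobSch.frob X p)).obj A ≅ CohB1.tensorPow A p :=
      asIso (FrobDer12.toPow A p hA)
    refine h2.trans ?_
    rw [Euler.deg_of_iso k t, CurveMult.deg_tensorPow' k hA, pow_succ]
    ring

theorem h0_le_of_shortExact {S : ShortComplex X.Modules} (hS : S.ShortExact) (h₁ : Coh.IsCoh S.X₁)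
    (h₂ : Coh.IsCoh S.X₂) (h₃ : Coh.IsCoh S.X₃) :
    Module.finrank k (Coh.HH X S.X₂ 0) ≤ Module.finrank k (Coh.HH X S.X₁ 0) + Module.finrank k (Coh.HH X S.X₃ 0) := by
  haveI := Euler.finiteDimensional_HH k h₁ 0
  haveI := Euler.finiteDimensional_HH k h₂ 0
  haveI := Euler.finiteDimensional_HH k h₃ 0
  have hker : LinearMap.ker (Cohom.hhMap k S.g 0) = LinearMap.range (Cohom.hhMap k S.f 0) :=
    Submodule.ext fun z => (LinearMap.mem_ker).trans ((Cohom.exact₂ (A := k) hS 0 z).trans Iff.rfl)
  have h := (Cohom.hhMap k S.g 0).finrank_range_add_finrank_ker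
  rw [hker] at h
  have := (Cohom.hhMap k S.f 0).finrank_range_le
  have := Submodule.finrank_le (LinearMap.range (Cohom.hhMap k S.g 0))
  omega

include k in
theorem bound {L : X.Modules} (hL : PicF.IsInvertible L) : ∀ (r : ℕ) (E : X.Modules),
    FlatMod.IsFinLocFreeOfRank r E → ∃ M : ℕ, ∀ n : ℕ,
      Module.finrank k (Coh.HH X ((Euler.tF L).obj (Φ p n E)) 0) ≤ M * p ^ n := by
  haveI := Euler.isNoetherian_of_proper (X := X) k
  intro r
  induction r with
  | zero =>
    intro E hE
    refine ⟨0, fun n => ?_⟩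
    have hz := (Euler.tF L).map_isZero (Euler.isZero_of_rank_zero (rank_Φ p n hE))
    haveI := Cohom.subsingleton_HH_of_isZero hz 0
    rw [Module.finrank_zero_of_subsingleton, zero_mul]
  | succ r ih =>
    intro E hE
    obtain ⟨A, i, hA, hi, hQ⟩ := CurveMult.exists_line_subbundle k (Nat.succ_pos r) hE
    haveI := hi
    rw [show r + 1 - 1 = r from rfl] at hQ
    obtain ⟨M, hM⟩ := ih (cokernel i) hQ
    refine ⟨(Curv2.deg k X A 1).natAbs + (Curv2.deg k X L 1).natAbs + 1 + M, fun n => ?_⟩
    obtain ⟨S, hS, e₁, e₂, e₃⟩ := shortExact_Φ p n _ (Euler.cokernel_shortExact i) hQ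
    dsimp only at e₁ e₂ e₃
    have hT : (S.map (Euler.tF L)).ShortExact := OX.tensor_map_shortExact (isFlat_of_invertible hL) hS
    have hc : ∀ {B : X.Modules} {s : ℕ}, FlatMod.IsFinLocFreeOfRank s B → Coh.IsCoh ((Euler.tF L).obj (Φ p n B)) :=
      fun h => Euler.isCoh_of_isFinLocFree (FinCov.isFinLocFree_of_rank (CurveMult.isFinLocFreeOfRank_tF (rank_Φ p n h) hL))
    have h1 : Coh.IsCoh ((Euler.tF L).obj S.X₁) := e₁ ▸ hc (Euler.isFinLocFreeOfRank_one_of_invertible hA)
    have h2 : Coh.IsCoh ((Euler.tF L).obj S.X₂) := e₂ ▸ hc hE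
    have h3 : Coh.IsCoh ((Euler.tF L).obj S.X₃) := e₃ ▸ hc hQ
    have h := h0_le_of_shortExact k hT h1 h2 h3
    change Module.finrank k (Coh.HH X ((Euler.tF L).obj S.X₂) 0) ≤
      Module.finrank k (Coh.HH X ((Euler.tF L).obj S.X₁) 0) + Module.finrank k (Coh.HH X ((Euler.tF L).obj S.X₃) 0) at h
    rw [e₁, e₂, e₃] at h
    refine h.trans ?_
    have hn : 1 ≤ p ^ n := Nat.one_le_pow _ _ (Fact.out : p.Prime).pos
    obtain ⟨hΦ, hdΦ⟩ := deg_Φ p k n hA
    have hI := CurveMult.isInvertible_of_rank_one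
      (CurveMult.isFinLocFreeOfRank_tF (Euler.isFinLocFreeOfRank_one_of_invertible hΦ) hL)
    have hline : Module.finrank k (Coh.HH X ((Euler.tF L).obj (Φ p n A)) 0) ≤
        ((Curv2.deg k X A 1).natAbs + (Curv2.deg k X L 1).natAbs + 1) * p ^ n := by
      rcases subsingleton_or_nontrivial (Coh.HH X ((Euler.tF L).obj (Φ p n A)) 0) with hs | hs
      · rw [Module.finrank_zero_of_subsingleton]; exact Nat.zero_le _
      · obtain ⟨-, hle, -⟩ := Euler.section_data k RegCurve.dim.le hI hs
        rw [CurveRR.finrank_H0_structure_eq_one k, CurveMult.deg_tF k (Euler.isFinLocFreeOfRank_one_of_invertible hΦ) hL,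
          hdΦ, Nat.cast_one, one_mul] at hle
        have hn' : (1 : ℤ) ≤ (p : ℤ) ^ n := by exact_mod_cast hn
        have a1 := le_abs_self (Curv2.deg k X A 1)
        have a2 := le_abs_self (Curv2.deg k X L 1)
        have a3 := abs_nonneg (Curv2.deg k X L 1)
        have : (Module.finrank k (Coh.HH X ((Euler.tF L).obj (Φ p n A)) 0) : ℤ) ≤
            (((Curv2.deg k X A 1).natAbs + (Curv2.deg k X L 1).natAbs + 1) * p ^ n : ℕ) := by
          push_cast
          have b1 := mul_le_mul_of_nonneg_left a1 ((zero_le_one' ℤ).trans hn')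
          have b2 := mul_le_mul_of_nonneg_left hn' a3
          rw [add_mul, add_mul, one_mul]
          linarith
        exact_mod_cast this
    rw [add_mul]
    exact Nat.add_le_add hline (hM n)

end

/-- Let p be a prime, k an algebraically closed field whose characteristic is p, and X an integral
curve, smooth and proper over k (of dimension one), with absolute Frobenius F : X → X. For every
finite locally free O_X-module E and every invertible O_X-module L there are natural numbers M and N
such that dim_k H⁰(X, (Fⁿ)^*E ⊗ L) ≤ M·pⁿ for all n ≥ N, where (Fⁿ)^* is the n-fold iterate of the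
module pullback along F. (This is the bound established inside the printed proof for vector bundles
on the auxiliary curve, in the case where that curve is a scheme; the printed lemma itself concerns
sheaves on a two-dimensional Deligne–Mumford stack.) -/
theorem result (p : ℕ) [Fact p.Prime]
    (k : Type u) [Field k] [IsAlgClosed k] [CharP k p]
    (X : Scheme.{u}) [X.Over (Spec (CommRingCat.of k))] [IsIntegral X]
    [IsProper (X ↘ Spec (CommRingCat.of k))] [Smooth (X ↘ Spec (CommRingCat.of k))]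
    (hdim : topologicalKrullDim X = 1) [FrobSch.IsCharP X p]
    (E : X.Modules) (hE : FlatMod.IsFinLocFree E) (L : X.Modules) (hL : PicF.IsInvertible L) :
    ∃ M N : ℕ, ∀ n : ℕ, N ≤ n →
      Module.finrank k (Coh.HH X (CohB1.tensorMod
        (((Scheme.Modules.pullback (FrobSch.frob X p)).obj)^[n] E) L) 0) ≤ M * p ^ n := by
  haveI := GrothLib.CurveRR.regCurve_of_smooth (X ↘ Spec (CommRingCat.of k)) hdim
  obtain ⟨r, hr⟩ := GrothLib.ModelK.exists_rank_connected hE
  obtain ⟨M, hM⟩ := bound p k hL r E hr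
  exact ⟨M, 0, fun n _ => hM n⟩

end Groth.Agent.S17275
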