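import Groth.Statements.S17276
import Groth.Agent.Lib.Snapper.Degree

set_option autoImplicit false
universe u
open CategoryTheory CategoryTheory.Limits AlgebraicGeometry TopologicalSpace
open Variety

namespace Groth.Agent.S17276

/-- Let X be a proper scheme over a field k of dimension one (possibly reducible or non-reduced) and L
an invertible O_X-module that is nef, meaning χ(O_C ⊗ L) - χ(O_C) ≥ 0 for every integral closed
subscheme C ⊆ X of dimension one. Then the degree of L on X, namely χ(L) - χ(O_X), is nonnegative. -/
theorem result (k : Type u) [Field k] (X : Scheme.{u})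
    [X.Over (Spec (CommRingCat.of k))] [IsProper (X ↘ (Spec (CommRingCat.of k)))]
    (hdim : topologicalKrullDim X = 1) (L : X.Modules) (hL : PicF.IsInvertible L)
    (hnef : ∀ C : X.IdealSheafData, IsIntegral C.subscheme →
      topologicalKrullDim (C.support : Set X) = 1 →
        0 ≤ Curv2.euler k X (CohB1.tensorMod (ClSub.quotMod C) L) - Curv2.euler k X (ClSub.quotMod C)) :
    0 ≤ Curv2.deg k X L 1 := by
  rw [GrothLib.Snapper.deg_eq_finsum k hdim.le (GrothLib.Euler.isFinLocFreeOfRank_one' hL)]
  have := GrothLib.Euler.isNoetherian_of_proper (X := X) k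
  refine finsum_nonneg fun ξ => ?_
  classical
  by_cases hξ : GrothLib.Snapper.IsTop 1 ξ
  · rw [GrothLib.Snapper.topTerm_of _ hξ]
    refine smul_nonneg (Nat.zero_le _) ?_
    have h := hnef (Scheme.IdealSheafData.vanishingIdeal
      (⟨closure ({ξ} : Set X), isClosed_closure⟩ : TopologicalSpace.Closeds X))
      (GrothLib.Snapper.isIntegral_pt ξ) (by
        rw [Scheme.IdealSheafData.coe_support_vanishingIdeal]
        exact hξ)
    simp only [GrothLib.Snapper.degFun, Nat.cast_one, one_mul]
    exact h
  · rw [GrothLib.Snapper.topTerm, if_neg hξ]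

end Groth.Agent.S17276
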