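import Groth.Statements.S17278
import Groth.Agent.Lib.Kodaira.BigSections

set_option autoImplicit false
universe u
open CategoryTheory CategoryTheory.Limits AlgebraicGeometry TopologicalSpace
open Variety

namespace Groth.Agent.S17278

/-- Let X be a projective variety over a field k (an integral scheme, proper over k, carrying an ample
invertible module A₀) of dimension d, and L an invertible O_X-module. Then L is big, meaning that
for some real c > 0 one has dim_k H^0(X, L^{⊗n}) > c·n^d for all sufficiently large n, if and only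
if for every ample invertible O_X-module A, with a tensor inverse A' (A' ⊗ A ≅ O_X), there is an
integer m > 0 with H^0(X, A' ⊗ L^{⊗m}) ≠ 0. -/
theorem result (k : Type u) [Field k]
    (X : Scheme.{u}) [X.Over (Spec (CommRingCat.of k))] [IsProper (X ↘ (Spec (CommRingCat.of k)))] [IsIntegral X]
    (A₀ : X.Modules) (hA₀ : CohB1.IsAmple A₀)
    (d : ℕ) (hdim : topologicalKrullDim X = d) (L : X.Modules) (hL : PicF.IsInvertible L) :
    (∃ c : ℝ, 0 < c ∧ ∀ᶠ n : ℕ in Filter.atTop,
        c * (n : ℝ) ^ d < (Module.finrank k (Coh.HH X (CohB1.tensorPow L n) 0) : ℝ)) ↔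
      ∀ (A A' : X.Modules), CohB1.IsAmple A → ClSub.IsInverseOf A' A →
        ∃ m : ℕ, 0 < m ∧ Nontrivial (Coh.HH X (CohB1.tensorMod A' (CohB1.tensorPow L m)) 0) :=
  GrothLib.Kodaira.big_iff_sections k hA₀ hdim hL

end Groth.Agent.S17278
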