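import Groth.Statements.S1728
import Groth.Agent.Lib.InjMod.Essential

set_option autoImplicit false
universe u
open InjHull

namespace Groth.Agent.S1728

/-- Let I be an injective R-module and E a submodule of I. Then E is an injective module if and only if
every submodule E' of I containing E, such that every nonzero submodule of E' meets E nontrivially,
is equal to E. -/
theorem result (R : Type u) [CommRing R] (I : Type u) [AddCommGroup I] [Module R I] [Module.Injective R I] (E : Submodule R I) : Module.Injective R E ↔ ∀ E' : Submodule R I, E ≤ E' → (∀ N : Submodule R I, N ≤ E' → N ≠ ⊥ → N ⊓ E ≠ ⊥) → E' = E := by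
  refine ⟨fun hE E' hle hess => ?_,
    fun h => GrothLib.InjMod.injective_of_no_essential_extension inferInstance E h⟩
  obtain ⟨C, hC⟩ := GrothLib.InjMod.exists_isCompl E hE
  refine le_antisymm ?_ hle
  have h0 : C ⊓ E' = ⊥ := by
    by_contra h0
    refine hess _ inf_le_right h0 (le_bot_iff.1 ?_)
    exact le_trans (inf_le_inf_right _ inf_le_left) hC.symm.inf_eq_bot.le
  calc E' = (E ⊔ C) ⊓ E' := by rw [hC.sup_eq_top, top_inf_eq]
    _ = E ⊔ C ⊓ E' := sup_inf_assoc_of_le C hle
    _ ≤ E := by rw [h0, sup_bot_eq]

end Groth.Agent.S1728
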