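import Groth.Statements.S17280
import Groth.Agent.Lib.Euler.Slope2
import Groth.Agent.Lib.OX.LocFreeTensor

set_option autoImplicit false
set_option backward.isDefEq.respectTransparency false
universe u
open CategoryTheory CategoryTheory.Limits AlgebraicGeometry TopologicalSpace
open Variety

namespace Groth.Agent.S17280

/-- Scheme case, curve-test form of nefness: let X be a proper scheme over a field k and 0 → E' → E →
E'' → 0 a short exact sequence whose three terms are finite locally free O_X-modules. Assume that E'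
and E'' are nef in the curve-test sense: for every regular projective curve C over k (integral,
proper over k, of dimension one, all local rings regular), every k-morphism f : C → X and every
invertible quotient M of the pulled-back module, deg M = χ(M) - χ(O_C) ≥ 0. Then E is nef in the
same sense. (The source states this for proper algebraic spaces and nefness of O(1) on P(E); on
proper schemes the two senses agree by the Barton–Kleiman criterion.) -/
theorem result (k : Type u) [Field k] (X : Scheme.{u})
    [X.Over (Spec (CommRingCat.of k))] [IsProper (X ↘ (Spec (CommRingCat.of k)))] (S : ShortComplex X.Modules) (hS : S.ShortExact)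
    (h₁ : FlatMod.IsFinLocFree S.X₁) (h₂ : FlatMod.IsFinLocFree S.X₂) (h₃ : FlatMod.IsFinLocFree S.X₃)
    (hnef₁ : ∀ (C : Scheme.{u}) [C.Over (Spec (CommRingCat.of k))] [IsProper (C ↘ (Spec (CommRingCat.of k)))] [IsIntegral C],
      topologicalKrullDim C = 1 → (∀ x : C, IsRegularLocalRing (C.presheaf.stalk x)) →
      ∀ (f : C ⟶ X), f ≫ (X ↘ (Spec (CommRingCat.of k))) = C ↘ (Spec (CommRingCat.of k)) →
      ∀ (M : C.Modules), PicF.IsInvertible M →
      ∀ (q : (Scheme.Modules.pullback f).obj S.X₁ ⟶ M), Epi q → 0 ≤ Curv2.deg k C M 1)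
    (hnef₃ : ∀ (C : Scheme.{u}) [C.Over (Spec (CommRingCat.of k))] [IsProper (C ↘ (Spec (CommRingCat.of k)))] [IsIntegral C],
      topologicalKrullDim C = 1 → (∀ x : C, IsRegularLocalRing (C.presheaf.stalk x)) →
      ∀ (f : C ⟶ X), f ≫ (X ↘ (Spec (CommRingCat.of k))) = C ↘ (Spec (CommRingCat.of k)) →
      ∀ (M : C.Modules), PicF.IsInvertible M →
      ∀ (q : (Scheme.Modules.pullback f).obj S.X₃ ⟶ M), Epi q → 0 ≤ Curv2.deg k C M 1) :
    ∀ (C : Scheme.{u}) [C.Over (Spec (CommRingCat.of k))] [IsProper (C ↘ (Spec (CommRingCat.of k)))] [IsIntegral C],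
    topologicalKrullDim C = 1 → (∀ x : C, IsRegularLocalRing (C.presheaf.stalk x)) →
    ∀ (f : C ⟶ X), f ≫ (X ↘ (Spec (CommRingCat.of k))) = C ↘ (Spec (CommRingCat.of k)) →
    ∀ (M : C.Modules), PicF.IsInvertible M →
    ∀ (q : (Scheme.Modules.pullback f).obj S.X₂ ⟶ M), Epi q → 0 ≤ Curv2.deg k C M 1 := by
  intro C _ _ _ hd hreg f hf M hM q hq
  haveI := GrothLib.Euler.isNoetherian_of_proper (X := C) k
  have hpid := fun x => GrothLib.Euler.isPrincipalIdealRing_stalk (X := C) hd.le (fun y _ => hreg y) x
  let F := Scheme.Modules.pullback f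
  haveI : PreservesColimitsOfSize.{0, 0} F := (Scheme.Modules.pullbackPushforwardAdjunction f).leftAdjoint_preservesColimits
  haveI := hq
  haveI := hS.epi_g
  let a : F.obj S.X₁ ⟶ M := F.map S.f ≫ q
  by_cases ha : a = 0
  · let T := S.map F
    have hT : T.Exact := hS.exact.map_of_epi_of_preservesCokernel F hS.epi_g inferInstance
    haveI : Epi T.g := inferInstanceAs (Epi (F.map S.g))
    let q₃ := hT.desc q ha
    have hfac : F.map S.g ≫ q₃ = q := hT.g_desc q ha
    haveI : Epi (F.map S.g ≫ q₃) := by rw [hfac]; infer_instance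
    haveI : Epi q₃ := epi_of_epi (F.map S.g) q₃
    exact hnef₃ C hd hreg f hf M hM q₃ inferInstance
  · have hE : FlatMod.IsFinLocFree (F.obj S.X₁) := GrothLib.OX.isFinLocFree_pullback f h₁
    obtain ⟨K, I, b, p, j, rK, rI, -, hp, hj, hfac, -, -, hI, -, -, h0, -⟩ :=
      GrothLib.Euler.exists_image_data k hpid hE (GrothLib.Euler.isFinLocFree_of_isInvertible hM) a
    haveI := hp
    haveI := hj
    have hM1 := GrothLib.Euler.isFinLocFreeOfRank_one_of_invertible hM
    have hle := GrothLib.Euler.grank_le_of_mono j (GrothLib.Euler.isCoh_of_isInvertible hM)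
    rw [GrothLib.Euler.grank_of_locFree hI, GrothLib.Euler.grank_of_locFree hM1] at hle
    have hrI : rI = 1 := le_antisymm hle (Nat.pos_of_ne_zero fun h => ha (h0 h))
    subst hrI
    have hIi : PicF.IsInvertible I := fun x => by
      obtain ⟨U, hx, ⟨φ⟩⟩ := hI x
      exact ⟨U, hx, ⟨φ ≪≫ coproductUniqueIso fun _ : Fin 1 => Coh.structureModule (↑U)⟩⟩
    refine le_trans (hnef₁ C hd hreg f hf I hIi p inferInstance) ?_
    rw [GrothLib.Euler.deg_eq_degree k hI, GrothLib.Euler.deg_eq_degree k hM1]
    exact (GrothLib.Euler.degree_le_of_mono k hd.le j (GrothLib.Euler.isCoh_of_isInvertible hIi)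
      (GrothLib.Euler.isCoh_of_isInvertible hM)
      (by rw [GrothLib.Euler.grank_of_locFree hI, GrothLib.Euler.grank_of_locFree hM1])).1

end Groth.Agent.S17280
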