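import Groth.Statements.S17281
-- import your own Groth.Agent.* helpers here
import Groth.Agent.Lib.CurveRR.Twist
import Groth.Agent.Lib.CurveMult.TwistHom
import Groth.Agent.Lib.DblSplit28.Main
import Groth.Agent.Lib.ParHilb.CurveParHom
import Groth.Agent.Lib.ModelK.Rank
import Groth.Agent.Lib.CurveRR.Setup

set_option autoImplicit false
set_option maxHeartbeats 1600000
set_option linter.style.haveILetI false
set_option backward.isDefEq.respectTransparency false
universe u
open CategoryTheory CategoryTheory.Limits AlgebraicGeometry TopologicalSpace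
open Curves

namespace Groth.Agent.S17281

/-- Fix an algebraically closed field k and a regular projective curve C over it (integral, proper over
k, of dimension one, all local rings regular) of genus g = dim_k H^1(C, O_C), E a finite locally
free O_C-module that is nef in the curve-test sense (for every regular projective curve C' over k,
every k-morphism f : C' → C and every invertible quotient M of f^*E, deg M = χ(M) - χ(O_{C'}) ≥ 0),
and H an invertible O_C-module with deg H = χ(H) - χ(O_C) ≥ 2g. Then E ⊗ H is generated by its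
global sections. -/
theorem result (k : Type u) [Field k] [IsAlgClosed k]
    (X : Scheme.{u}) [X.Over (Spec (CommRingCat.of k))] [IsProper (X ↘ (Spec (CommRingCat.of k)))] [IsIntegral X]
    (hdim : topologicalKrullDim X = 1) (hreg : ∀ x : X, IsRegularLocalRing (X.presheaf.stalk x))
    (E : X.Modules) (hE : FlatMod.IsFinLocFree E)
    (hnef : ∀ (C : Scheme.{u}) [C.Over (Spec (CommRingCat.of k))] [IsProper (C ↘ (Spec (CommRingCat.of k)))] [IsIntegral C],
      topologicalKrullDim C = 1 → (∀ x : C, IsRegularLocalRing (C.presheaf.stalk x)) →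
      ∀ (f : C ⟶ X), f ≫ (X ↘ (Spec (CommRingCat.of k))) = C ↘ (Spec (CommRingCat.of k)) →
      ∀ (M : C.Modules), PicF.IsInvertible M →
      ∀ (q : (Scheme.Modules.pullback f).obj E ⟶ M), Epi q → 0 ≤ Curv2.deg k C M 1)
    (H : X.Modules) (hH : PicF.IsInvertible H)
    (hdeg : 2 * (Curv2.genus k X : ℤ) ≤ Curv2.deg k X H 1) :
    Curv2.IsGloballyGenerated (CohB1.tensorMod E H) := by
  haveI : GrothLib.CurveRR.RegCurve X :=
    GrothLib.CurveRR.regCurve_of_regular (k := k) hdim hreg
  haveI := GrothLib.Euler.isNoetherian_of_proper (X := X) k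
  obtain ⟨r, hr⟩ := GrothLib.ModelK.exists_rank_connected hE
  have hEH : FlatMod.IsFinLocFreeOfRank r (CohB1.tensorMod E H) := GrothLib.CurveMult.isFinLocFreeOfRank_tF hr hH
  refine GrothLib.CurveRR.isGloballyGenerated_of_vanishAt k hEH fun x => not_nontrivial_iff_subsingleton.1 fun h => ?_
  obtain ⟨K, a, rK, ha, hK, hrk, hd⟩ := GrothLib.CurveRR.exists_quotient_of_H1_vanishAt k hEH x h
  haveI := ha
  obtain ⟨V, u, ι, hu, hι, -, hV, hC⟩ := GrothLib.ParHilb.exists_saturation_curve k hdim.le
    GrothLib.CurveRR.pid_stalk hK (GrothLib.FinCov.isFinLocFree_of_rank hEH) a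
  haveI := hu; haveI := hι
  have hVc := GrothLib.Euler.isCoh_of_isFinLocFree (GrothLib.FinCov.isFinLocFree_of_rank hV)
  have hKc := GrothLib.Euler.isCoh_of_isFinLocFree (GrothLib.FinCov.isFinLocFree_of_rank hK)
  have h1 := (GrothLib.Euler.degree_le_of_mono k hdim.le u hKc hVc
    (by rw [GrothLib.Euler.grank_of_locFree hV, GrothLib.Euler.grank_of_locFree hK])).1
  obtain ⟨h2, h3⟩ := GrothLib.Euler.degree_quotient k ι (cokernel.π ι) (cokernel.condition ι)
    (GrothLib.Euler.cokernel_shortExact ι) hVc
    (GrothLib.Euler.isCoh_of_isFinLocFree (GrothLib.FinCov.isFinLocFree_of_rank hEH))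
    (GrothLib.Euler.isCoh_of_isFinLocFree hC)
  rw [GrothLib.Euler.grank_of_locFree hEH, GrothLib.Euler.grank_of_locFree hV] at h3
  obtain ⟨q, hq⟩ := GrothLib.ModelK.exists_rank_connected hC
  rw [GrothLib.Euler.grank_of_locFree hq] at h3
  obtain rfl : q = 1 := by omega
  have hQ := GrothLib.CurveMult.isInvertible_of_rank_one hq
  obtain ⟨H', hH', hdH, ⟨e⟩, -⟩ := GrothLib.CurveMult.exists_inverse k hdim.le hH
  let φ : E ⟶ (GrothLib.Euler.tF H').obj (cokernel ι) :=
    ((GrothLib.CurveMult.twistInverseIso e).app E).inv ≫ (GrothLib.Euler.tF H').map (cokernel.π ι)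
  haveI : Epi φ := epi_comp _ _
  have hM : PicF.IsInvertible ((GrothLib.Euler.tF H').obj (cokernel ι)) :=
    GrothLib.CurveMult.isInvertible_of_rank_one (GrothLib.CurveMult.isFinLocFreeOfRank_tF hq hH')
  have h4 := hnef X hdim hreg (𝟙 X) (Category.id_comp _) _ hM
    ((Scheme.Modules.pullbackId X).hom.app E ≫ φ) (epi_comp _ _)
  rw [GrothLib.CurveMult.deg_tF k hq hH', hdH, GrothLib.Euler.deg_eq_degree k hq] at h4
  omega

end Groth.Agent.S17281
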