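import Groth.Statements.S17283
import Groth.Agent.Lib.Kleiman.CurveLift

set_option autoImplicit false
universe u
open CategoryTheory CategoryTheory.Limits AlgebraicGeometry TopologicalSpace
open Variety

namespace Groth.Agent.S17283

/-- Scheme case, curve-test form of nefness: let f : Y → X be a surjective k-morphism of proper schemes
over a field k and E a finite locally free O_X-module. If the pullback f^*E is nef on Y in the
curve-test sense (for every regular projective curve C over k — integral, proper over k, of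
dimension one, all local rings regular — every k-morphism g : C → Y and every invertible quotient M
of g^*(f^*E), deg M = χ(M) - χ(O_C) ≥ 0), then E is nef on X in the same sense. (The source states
this for proper algebraic spaces with nefness of O(1) on P(E); on proper schemes the senses agree by
the Barton–Kleiman criterion.) -/
theorem result (k : Type u) [Field k] (X Y : Scheme.{u})
    [X.Over (Spec (CommRingCat.of k))] [IsProper (X ↘ (Spec (CommRingCat.of k)))] [Y.Over (Spec (CommRingCat.of k))] [IsProper (Y ↘ (Spec (CommRingCat.of k)))]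
    (f : Y ⟶ X) (hf : f ≫ (X ↘ (Spec (CommRingCat.of k))) = Y ↘ (Spec (CommRingCat.of k))) [Surjective f]
    (E : X.Modules) (hE : FlatMod.IsFinLocFree E)
    (hnef : ∀ (C : Scheme.{u}) [C.Over (Spec (CommRingCat.of k))] [IsProper (C ↘ (Spec (CommRingCat.of k)))] [IsIntegral C],
      topologicalKrullDim C = 1 → (∀ x : C, IsRegularLocalRing (C.presheaf.stalk x)) →
      ∀ (g : C ⟶ Y), g ≫ (Y ↘ (Spec (CommRingCat.of k))) = C ↘ (Spec (CommRingCat.of k)) →
      ∀ (M : C.Modules), PicF.IsInvertible M →
      ∀ (q : (Scheme.Modules.pullback g).obj ((Scheme.Modules.pullback f).obj E) ⟶ M), Epi q → 0 ≤ Curv2.deg k C M 1) :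
    ∀ (C : Scheme.{u}) [C.Over (Spec (CommRingCat.of k))] [IsProper (C ↘ (Spec (CommRingCat.of k)))] [IsIntegral C],
    topologicalKrullDim C = 1 → (∀ x : C, IsRegularLocalRing (C.presheaf.stalk x)) →
    ∀ (g : C ⟶ X), g ≫ (X ↘ (Spec (CommRingCat.of k))) = C ↘ (Spec (CommRingCat.of k)) →
    ∀ (M : C.Modules), PicF.IsInvertible M →
    ∀ (q : (Scheme.Modules.pullback g).obj E ⟶ M), Epi q → 0 ≤ Curv2.deg k C M 1 := by
  intro C _ _ _ hd hreg g hg M hM q hq
  obtain ⟨N, π, h, hN, hNp, hNd, hNreg, hgen, hfac⟩ := GrothLib.Kleiman.exists_curve_lift k f hf hd g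
  haveI := hN
  letI : N.Over (Spec (CommRingCat.of k)) := ⟨π ≫ C ↘ Spec (CommRingCat.of k)⟩
  haveI : IsProper (N ↘ Spec (CommRingCat.of k)) := hNp
  refine GrothLib.Kleiman.deg_nonneg_of_pullback k hd hM hNd π rfl hgen ?_
  let q' : (Scheme.Modules.pullback h).obj ((Scheme.Modules.pullback f).obj E) ⟶ (Scheme.Modules.pullback π).obj M :=
    (Scheme.Modules.pullbackComp h f).hom.app E ≫ (Scheme.Modules.pullbackCongr hfac).hom.app E ≫
      (Scheme.Modules.pullbackComp π g).inv.app E ≫ (Scheme.Modules.pullback π).map q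
  haveI := hq
  refine hnef N hNd hNreg h ?_ ((Scheme.Modules.pullback π).obj M) (GrothLib.Ample.isInvertible_pullback π hM) q' ?_
  · rw [← hf, ← Category.assoc, hfac, Category.assoc, hg]
    rfl
  · exact inferInstance

end Groth.Agent.S17283
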