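import Groth.Statements.S17284
import Groth.Agent.Lib.Kleiman.CurveTest

set_option autoImplicit false
universe u
open CategoryTheory CategoryTheory.Limits AlgebraicGeometry TopologicalSpace
open Variety

namespace Groth.Agent.S17284

/-- (iii) ⇒ (ii): let X be a proper scheme over a field k and E a finite locally free O_X-module.
Suppose that for every regular projective curve C over k (integral, proper over k, of dimension one,
all local rings regular), every k-morphism f : C → X and every invertible quotient f^*E → M, deg M =
χ(M) - χ(O_C) ≥ 0. Then for every proper k-scheme C of dimension one (equivalently projective;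
possibly reducible or non-reduced), every k-morphism f : C → X and every invertible quotient f^*E →
M, deg M = χ(M) - χ(O_C) ≥ 0. (The source states this for proper algebraic spaces X; this is the
case of schemes.) -/
theorem result (k : Type u) [Field k]
    (X : Scheme.{u}) [X.Over (Spec (CommRingCat.of k))] [IsProper (X ↘ (Spec (CommRingCat.of k)))] (E : X.Modules) (hE : FlatMod.IsFinLocFree E)
    (hnef : ∀ (C : Scheme.{u}) [C.Over (Spec (CommRingCat.of k))] [IsProper (C ↘ (Spec (CommRingCat.of k)))] [IsIntegral C],
      topologicalKrullDim C = 1 → (∀ x : C, IsRegularLocalRing (C.presheaf.stalk x)) →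
      ∀ (f : C ⟶ X), f ≫ (X ↘ (Spec (CommRingCat.of k))) = C ↘ (Spec (CommRingCat.of k)) →
      ∀ (M : C.Modules), PicF.IsInvertible M →
      ∀ (q : (Scheme.Modules.pullback f).obj E ⟶ M), Epi q → 0 ≤ Curv2.deg k C M 1) :
    ∀ (C : Scheme.{u}) [C.Over (Spec (CommRingCat.of k))] [IsProper (C ↘ (Spec (CommRingCat.of k)))], topologicalKrullDim C = 1 →
    ∀ (f : C ⟶ X), f ≫ (X ↘ (Spec (CommRingCat.of k))) = C ↘ (Spec (CommRingCat.of k)) →
    ∀ (M : C.Modules), PicF.IsInvertible M →
    ∀ (q : (Scheme.Modules.pullback f).obj E ⟶ M), Epi q → 0 ≤ Curv2.deg k C M 1 := by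
  intro C _ _ hd f hf M hM q hq
  haveI := GrothLib.Euler.isNoetherian_of_proper (X := C) k
  exact GrothLib.Kleiman.deg_nonneg_of_isNef k hd.le hM
    (GrothLib.Kleiman.isNef_quotient_of_curveTest k hnef f hf hM q hq)

end Groth.Agent.S17284
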