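import Groth.Statements.S17285
import Groth.Agent.Lib.Kodaira.BoundProper
import Groth.Agent.Lib.Euler.Slope
import Groth.Agent.Lib.Snapper.PushTop

set_option autoImplicit false
set_option backward.isDefEq.respectTransparency false
universe u
open CategoryTheory CategoryTheory.Limits AlgebraicGeometry TopologicalSpace
open Variety

namespace Groth.Agent.S17285

theorem isCoh_push_proper {X Y : Scheme.{u}} [IsLocallyNoetherian X] (f : Y ⟶ X) [IsProper f] {F : Y.Modules}
    (hF : Coh.IsCoh F) : Coh.IsCoh ((Coh.push f).obj F) := by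
  haveI : IsLocallyNoetherian Y := LocallyOfFiniteType.isLocallyNoetherian f
  haveI : EnoughInjectives Y.Modules := GrothLib.SheafCoh.enoughInjectives_sheafOfModules Y.ringCatSheaf
  haveI : PreservesFiniteLimits (Scheme.Modules.pushforward f) :=
    haveI : PreservesLimitsOfSize.{0, 0} (Scheme.Modules.pushforward f) :=
      (Scheme.Modules.pullbackPushforwardAdjunction f).rightAdjoint_preservesLimits
    PreservesLimitsOfSize.preservesFiniteLimits.{0, 0} _
  exact GrothLib.QCoh.isCoh_of_iso ((Functor.rightDerivedZeroIsoSelf (Scheme.Modules.pushforward f)).app F)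
    (GrothLib.Cohom.isCoh_Rpush f F hF 0)

theorem eventually_transfer {a b : ℕ → ℕ} {d C : ℕ} (hd : 0 < d)
    (h : ∀ n, a n ≤ b n + C * (n + 1) ^ (d - 1))
    (ha : ∃ c : ℝ, 0 < c ∧ ∀ᶠ n : ℕ in Filter.atTop, c * (n : ℝ) ^ d < (a n : ℝ)) :
    ∃ c : ℝ, 0 < c ∧ ∀ᶠ n : ℕ in Filter.atTop, c * (n : ℝ) ^ d < (b n : ℝ) := by
  obtain ⟨c, hc, hev⟩ := ha
  refine ⟨c / 2, by linarith, ?_⟩
  obtain ⟨M, hM⟩ := exists_nat_gt (2 * (C : ℝ) * 2 ^ (d - 1) / c)
  obtain ⟨N, hN⟩ := Filter.eventually_atTop.1 hev
  refine Filter.eventually_atTop.2 ⟨max N (M + 1), fun n hn => ?_⟩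
  have h1 := hN n (le_trans (le_max_left _ _) hn)
  have h2 : (a n : ℝ) ≤ (b n : ℝ) + (C : ℝ) * ((n : ℝ) + 1) ^ (d - 1) := by exact_mod_cast h n
  have hn1 : (1 : ℝ) ≤ n := by
    exact_mod_cast (le_trans (Nat.le_add_left 1 M) (le_trans (le_max_right _ _) hn))
  have hnM : (M : ℝ) ≤ n := by
    exact_mod_cast (le_trans (Nat.le_add_right M 1) (le_trans (le_max_right _ _) hn))
  have hp : ((n : ℝ) + 1) ^ (d - 1) ≤ 2 ^ (d - 1) * (n : ℝ) ^ (d - 1) := by
    rw [← mul_pow]
    exact pow_le_pow_left₀ (by linarith) (by linarith) _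
  have h3 : (C : ℝ) * ((n : ℝ) + 1) ^ (d - 1) ≤ c / 2 * (n : ℝ) ^ d := by
    refine (mul_le_mul_of_nonneg_left hp (Nat.cast_nonneg C)).trans ?_
    obtain ⟨e, rfl⟩ : ∃ e, d = e + 1 := ⟨d - 1, by omega⟩
    simp only [Nat.add_sub_cancel] at hM ⊢
    rw [pow_succ]
    have h4 : 2 * (C : ℝ) * 2 ^ e ≤ n * c := by
      have := (div_lt_iff₀ hc).1 hM
      nlinarith [mul_le_mul_of_nonneg_right hnM hc.le]
    have hnn : (0 : ℝ) ≤ (n : ℝ) ^ e := by positivity
    nlinarith [mul_le_mul_of_nonneg_right h4 hnn]
  linarith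

/-- Let X and Y be proper varieties over a field k (integral schemes, proper over k) of the same
dimension d, f : Y → X a birational k-morphism (generic point to generic point, with a single point
in that fibre and the same residue field there), and L an invertible O_X-module. Then L is big,
meaning that some real c > 0 has dim_k H^0(X, L^{⊗n}) > c·n^d for all sufficiently large n, if and
only if f^*L is big on Y in the same sense. (The source states this for birational morphisms of
proper schemes over k; it is stated here for integral X and Y, the case in which the printed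
argument's injectivity of O_X → f_*O_Y holds.) -/
theorem result (k : Type u) [Field k] (X Y : Scheme.{u})
    [X.Over (Spec (CommRingCat.of k))] [IsProper (X ↘ (Spec (CommRingCat.of k)))] [IsIntegral X]
    [Y.Over (Spec (CommRingCat.of k))] [IsProper (Y ↘ (Spec (CommRingCat.of k)))] [IsIntegral Y]
    (f : Y ⟶ X) (hf : f ≫ (X ↘ (Spec (CommRingCat.of k))) = Y ↘ (Spec (CommRingCat.of k))) (hbir : RadPt.IsBirational f)
    (d : ℕ) (hdimX : topologicalKrullDim X = d) (hdimY : topologicalKrullDim Y = d)
    (L : X.Modules) (hL : PicF.IsInvertible L) :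
    (∃ c : ℝ, 0 < c ∧ ∀ᶠ n : ℕ in Filter.atTop,
        c * (n : ℝ) ^ d < (Module.finrank k (Coh.HH X (CohB1.tensorPow L n) 0) : ℝ)) ↔
      (∃ c : ℝ, 0 < c ∧ ∀ᶠ n : ℕ in Filter.atTop,
        c * (n : ℝ) ^ d < (Module.finrank k (Coh.HH Y (CohB1.tensorPow ((Scheme.Modules.pullback f).obj L) n) 0) : ℝ)) := by
  haveI := GrothLib.Euler.isNoetherian_of_proper (X := X) k
  haveI := GrothLib.Euler.isNoetherian_of_proper (X := Y) k
  haveI : IsProper (f ≫ X ↘ Spec (CommRingCat.of k)) := by rw [hf]; infer_instance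
  haveI : IsProper f := IsProper.of_comp f (X ↘ Spec (CommRingCat.of k))
  have hgen : f (genericPoint Y) = genericPoint X := by
    have h := hbir.1.mapsTo (by rw [genericPoints_eq_singleton]; exact Set.mem_singleton _ :
      genericPoint Y ∈ genericPoints (Y : Type u))
    rwa [genericPoints_eq_singleton, Set.mem_singleton_iff] at h
  have hηX : genericPoint X ∈ genericPoints (X : Type u) := by rw [genericPoints_eq_singleton]; exact Set.mem_singleton _
  haveI : IsDominant f := ⟨(dense_iff_closure_eq.2 (genericPoint_spec X).def).mono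
    (Set.singleton_subset_iff.2 ⟨genericPoint Y, hgen⟩)⟩
  have hle : ∀ n, GrothLib.Kodaira.h0 k (CohB1.tensorPow L n) ≤
      GrothLib.Kodaira.h0 k (CohB1.tensorPow ((Scheme.Modules.pullback f).obj L) n) :=
    fun n => GrothLib.Kodaira.h0_le_pullback k f hf hL n
  constructor
  · rintro ⟨c, hc, h⟩
    refine ⟨c, hc, h.mono fun n hn => lt_of_lt_of_le hn ?_⟩
    exact_mod_cast hle n
  intro hbig
  let u := ClSub.unitToPush f
  have hO : Coh.IsCoh (Coh.structureModule X) := GrothLib.Euler.isCoh_of_isInvertible GrothLib.Euler.isInvertible_structure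
  have hP : Coh.IsCoh ((Coh.push f).obj (Coh.structureModule Y)) :=
    isCoh_push_proper f (GrothLib.Euler.isCoh_of_isInvertible GrothLib.Euler.isInvertible_structure)
  have hQ : Coh.IsCoh (cokernel u) := GrothLib.QCoh.isCoh_cokernel u hO hP
  have hsurj : Function.Surjective (GrothLib.QCoh.stalkLin u (genericPoint X)) := by
    have hfib : f.base ⁻¹' {f (genericPoint Y)} ⊆ {genericPoint Y} := fun z hz =>
      (hbir.2 (genericPoint X) hηX).1 z (genericPoint Y) (hz.trans hgen) hgen
    have hb := GrothLib.Snapper.pushStalkHom_bijective_of_fibre f f.isClosedMap (genericPoint Y) hfib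
      (Coh.structureModule Y)
    rw [← hgen]
    intro e
    have hres : Function.Bijective (f.residueFieldMap (genericPoint Y)).hom :=
      (hbir.2 (genericPoint X) hηX).2 (genericPoint Y) hgen
    have hinj : Function.Injective (Y.residue (genericPoint Y)).hom :=
      (Y.residue (genericPoint Y)).hom.injective (R := Y.functionField)
    have hst : Function.Surjective (f.stalkMap (genericPoint Y)).hom := by
      intro v
      obtain ⟨w, hw⟩ := hres.2 ((Y.residue (genericPoint Y)).hom v)
      obtain ⟨r, rfl⟩ := IsLocalRing.residue_surjective w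
      refine ⟨r, hinj ?_⟩
      rw [← hw]
      exact (congrArg (fun φ => φ.hom r) (Scheme.residue_residueFieldMap f (genericPoint Y))).symm
    obtain ⟨W, hW, s', hs'⟩ := TopCat.Presheaf.exists_germ_eq (Coh.structureModule Y).presheaf
      (show (Coh.structureModule Y).presheaf.stalk (genericPoint Y) from
        (GrothLib.QCoh.pushStalkHom f (genericPoint Y) (Coh.structureModule Y)).hom e)
    obtain ⟨r, hr⟩ := hst (Y.presheaf.germ W (genericPoint Y) hW s')
    obtain ⟨V, hV, s, rfl⟩ := TopCat.Presheaf.exists_germ_eq X.presheaf r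
    refine ⟨(Coh.structureModule X).presheaf.germ V (f (genericPoint Y)) hV s, hb.1 ?_⟩
    rw [GrothLib.QCoh.stalkLin_germ]
    refine (GrothLib.QCoh.pushStalkHom_germ f (genericPoint Y) (Coh.structureModule Y) V hV _).trans ?_
    rw [Scheme.Hom.germ_stalkMap_apply] at hr
    obtain ⟨W', hW', i₁, i₂, heq⟩ := TopCat.Presheaf.germ_eq Y.presheaf (genericPoint Y) _ _ _ _ hr
    exact (((TopCat.Presheaf.germ_res_apply (Coh.structureModule Y).presheaf i₁ _ hW' _).symm.trans
      ((congrArg ((Coh.structureModule Y).presheaf.germ W' (genericPoint Y) hW') heq).trans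
        (TopCat.Presheaf.germ_res_apply (Coh.structureModule Y).presheaf i₂ _ hW' _))).trans hs').trans rfl
  rcases Nat.eq_zero_or_pos d with rfl | hd0
  · haveI : Nontrivial (Coh.HH X (CohB1.tensorPow L 0) 0) :=
      Module.nontrivial_of_finrank_pos (R := k) (GrothLib.Euler.finrank_H0_structure_pos k)
    obtain ⟨c, hc, h⟩ := hbig
    refine ⟨1 / 2, by norm_num, Filter.Eventually.of_forall fun n => ?_⟩
    have hX0 : ∀ x : X, IsClosed ({x} : Set X) := fun x => GrothLib.Euler.isClosed_singleton_of_dim_le_zero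
      (isClosed_univ (X := X)) ((IsHomeomorph.topologicalKrullDim_eq _
        (Homeomorph.Set.univ X).isHomeomorph).le.trans (hdimX.le.trans (le_of_eq Nat.cast_zero))) (x := x) trivial
    have hpos : 0 < Module.finrank k (Coh.HH X (CohB1.tensorPow L n) 0) := by
      obtain ⟨cc, ⟨e⟩⟩ := GrothLib.Ample.exists_cocycle hL
      obtain ⟨de⟩ := cc.nonempty_tensorPow_iso e n
      obtain ⟨i, hi⟩ := cc.exists_mem (genericPoint X)
      have hV : (⊤ : X.Opens) ≤ cc.D i := fun x _ => by
        have hx : genericPoint X = x := Set.mem_singleton_iff.1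
          ((genericPoint_specializes x).mem_closed (hX0 (genericPoint X)) (Set.mem_singleton _)) |>.symm
        exact hx ▸ hi
      haveI := GrothLib.Euler.finiteDimensional_HH (X := X) k
        (GrothLib.Euler.isCoh_of_isInvertible (GrothLib.Ample.isInvertible_tensorPow hL n)) 0
      haveI : Nontrivial (Coh.HH X (CohB1.tensorPow L n) 0) := by
        haveI : Nontrivial Γ(cc.twist n, ⊤) := by
          refine nontrivial_of_ne (α := Γ(cc.twist n, ⊤)) (cc.base n i hV) 0 fun h0 => ?_
          have h1 := congrArg (fun t : cc.sect n ⊤ => t.1 i) h0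
          change cc.G i i _ _ ^ n = 0 at h1
          rw [cc.G_self, one_pow] at h1
          haveI : Nonempty ↥((⊤ : X.Opens) ⊓ cc.D i) := ⟨⟨genericPoint X, trivial, hi⟩⟩
          exact one_ne_zero h1
        exact ((GrothLib.Euler.hhEquiv (A := k) de 0).toEquiv.trans
          (GrothLib.ProjCoh.H0top (cc.twist n)).toEquiv).symm.injective.nontrivial (α := Γ(cc.twist n, ⊤))
      exact Module.finrank_pos
    have : (1 : ℝ) ≤ Module.finrank k (Coh.HH X (CohB1.tensorPow L n) 0) := by exact_mod_cast hpos
    simp only [pow_zero, mul_one]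
    linarith
  have hsupp : GrothLib.Snapper.DimLT (CohB1.support (cokernel u)) d := by
    have hcl : closure ({genericPoint X} : Set X) = Set.univ := genericPoint_closure X
    refine GrothLib.Snapper.dimLT_of_notMem (η := genericPoint X) (by
      rw [hcl]; exact GrothLib.Kleiman.dimLT_univ hdimX.le) (by rw [hcl]; exact Set.subset_univ _)
      (GrothLib.QCoh.notMem_support_cokernel_of_surjective u hsurj)
  obtain ⟨C, hC⟩ := GrothLib.Kodaira.h0_twist_bound_proper k hL hQ hsupp
  refine eventually_transfer (C := C) hd0 (fun n => ?_) hbig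
  haveI := GrothLib.Kodaira.mono_unitToPush f
  let S := ShortComplex.mk u (cokernel.π u) (cokernel.condition u)
  have hS : S.ShortExact :=
    haveI : Mono S.f := inferInstanceAs (Mono u)
    ShortComplex.ShortExact.mk' (ShortComplex.exact_cokernel u) inferInstance inferInstance
  have h1 := GrothLib.Kodaira.h0_X₂_le k (GrothLib.Snapper.shortExact_twist hL n hS)
    (GrothLib.Snapper.isCoh_twist k hL hO n) (GrothLib.Snapper.isCoh_twist k hL hP n) (GrothLib.Snapper.isCoh_twist k hL hQ n)
  have h2 := hC n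
  have h3 := GrothLib.Kodaira.h0_tF_push k f hf hL n
  show GrothLib.Kodaira.h0 k _ ≤ GrothLib.Kodaira.h0 k _ + _
  rw [← h3, ← GrothLib.Kodaira.h0_of_iso k (GrothLib.OX.tensorUnitLeftIso (CohB1.tensorPow L n))]
  exact h1.trans (Nat.add_le_add_left h2 _)

end Groth.Agent.S17285
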