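import Groth.Statements.S17287
import Groth.Agent.Lib.Kleiman.Proper

set_option autoImplicit false
set_option backward.isDefEq.respectTransparency false
universe u
open CategoryTheory CategoryTheory.Limits AlgebraicGeometry TopologicalSpace
open Variety

namespace Groth.Agent.S17287

/-- Let f : Y → X be a surjective k-morphism of proper schemes over a field k and C ⊆ X an integral
closed subscheme of dimension one. Then there is an integral closed subscheme C' ⊆ Y of dimension
one with f(C') = C as closed subsets. (The source states this for proper algebraic spaces over k;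
this is the case of schemes.) -/
theorem result (k : Type u) [Field k] (X Y : Scheme.{u})
    [X.Over (Spec (CommRingCat.of k))] [IsProper (X ↘ (Spec (CommRingCat.of k)))] [Y.Over (Spec (CommRingCat.of k))] [IsProper (Y ↘ (Spec (CommRingCat.of k)))]
    (f : Y ⟶ X) (hf : f ≫ (X ↘ (Spec (CommRingCat.of k))) = Y ↘ (Spec (CommRingCat.of k))) [Surjective f]
    (C : X.IdealSheafData) [IsIntegral C.subscheme] (hC : topologicalKrullDim (C.support : Set X) = 1) :
    ∃ C' : Y.IdealSheafData, IsIntegral C'.subscheme ∧ topologicalKrullDim (C'.support : Set Y) = 1 ∧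
      f.base '' (C'.support : Set Y) = (C.support : Set X) := by
  haveI : IsProper (f ≫ X ↘ Spec (CommRingCat.of k)) := by rw [hf]; infer_instance
  haveI : IsProper f := IsProper.of_comp f (X ↘ Spec (CommRingCat.of k))
  let w := C.subschemeι (genericPoint C.subscheme)
  have hw : closure ({w} : Set X) = (C.support : Set X) := by
    rw [GrothLib.QCoh.closure_singleton_eq_range, Scheme.IdealSheafData.range_subschemeι]
  haveI : CompactSpace (f.fiber w) := QuasiCompact.compactSpace_of_compactSpace (f.fiberToSpecResidueField w)
  haveI : Nonempty (f.fiber w) := by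
    obtain ⟨z, hz⟩ := (inferInstance : Surjective f).surj w
    exact ⟨(f.fiberHomeo w).symm ⟨z, hz⟩⟩
  obtain ⟨p, -, hp⟩ := (isClosed_univ : IsClosed (Set.univ : Set (f.fiber w))).exists_closed_singleton
    Set.univ_nonempty
  let z := f.fiberι w p
  have hz : f z = w := by
    have : z ∈ Set.range (f.fiberι w) := ⟨p, rfl⟩
    rw [Scheme.Hom.range_fiberι] at this
    exact this
  refine ⟨Scheme.IdealSheafData.vanishingIdeal (⟨closure ({z} : Set Y), isClosed_closure⟩ : Closeds Y),
    GrothLib.Snapper.isIntegral_pt z, ?_, ?_⟩
  · rw [Scheme.IdealSheafData.coe_support_vanishingIdeal]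
    have h := GrothLib.AffDom.ptDim_fiberι f (X ↘ Spec (CommRingCat.of k)) w p
    rw [GrothLib.Kleiman.ptDim_eq_zero_of_isClosed hp, add_zero] at h
    refine h.trans ?_
    show topologicalKrullDim (closure ({w} : Set X)) = 1
    rw [hw]
    exact hC
  · rw [Scheme.IdealSheafData.coe_support_vanishingIdeal]
    show f '' closure ({z} : Set Y) = _
    rw [← f.isClosedMap.closure_image_eq_of_continuous f.continuous, Set.image_singleton, hz, hw]

end Groth.Agent.S17287
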