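import Groth.Statements.S17288
import Groth.Agent.Lib.Semiample.Effective
import Groth.Agent.Lib.Cube.DivisorSection
import Groth.Agent.Lib.NefGrowth.IntNum

set_option autoImplicit false
set_option backward.isDefEq.respectTransparency false
universe u
open CategoryTheory CategoryTheory.Limits AlgebraicGeometry TopologicalSpace
open Variety

namespace Groth.Agent.S17288

/-- Let X be a proper scheme over a field k, D ⊆ X an effective Cartier divisor, i.e. a closed subscheme
whose quasi-coherent ideal I_D is an invertible O_X-module, and O_X(D) an invertible module with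
O_X(D) ⊗ I_D ≅ O_X. If the restriction of O_X(D) to D is ample on D, then O_X(mD) = O_X(D)^{⊗m} is
generated by its global sections for all sufficiently large m. (The source states this for proper
algebraic spaces over k; this is the case of schemes.) -/
theorem result (k : Type u) [Field k] (X : Scheme.{u})
    [X.Over (Spec (CommRingCat.of k))] [IsProper (X ↘ (Spec (CommRingCat.of k)))] (D : X.IdealSheafData)
    (hD : PicF.IsInvertible (ClSub.idealMod D)) (LD : X.Modules) (hLD : ClSub.IsInverseOf LD (ClSub.idealMod D))
    (hample : CohB1.IsAmple ((Scheme.Modules.pullback D.subschemeι).obj LD)) :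
    ∀ᶠ m : ℕ in Filter.atTop, Curv2.IsGloballyGenerated (CohB1.tensorPow LD m) := by
  haveI := GrothLib.Euler.isNoetherian_of_proper (X := X) k
  have hI := GrothLib.IdealModSec.isEffCartier_of_isInvertible hD
  obtain ⟨c, a, hc, ha⟩ := GrothLib.Cube.hasSec_compl_support hI
  have hL : PicF.IsInvertible LD := (GrothLib.NefGrowth.cls_inverse hD hLD).1
  have hcl := GrothLib.Cube.clsMod_eq_inv_of_isInverseOf hL hD hLD
  obtain ⟨c', ⟨e'⟩⟩ := GrothLib.Ample.exists_cocycle hL
  have hcc : GrothLib.Cube.cls c' = GrothLib.Cube.cls c := by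
    rw [hc, ← GrothLib.Cube.clsMod_eq hL e', hcl]
  obtain ⟨u⟩ := GrothLib.Cube.cls_eq_iff.1 hcc
  let e : LD ≅ c.twist 1 := e' ≪≫ u
  obtain ⟨N, hN⟩ := GrothLib.Semiample.eventually_isGloballyGenerated c k a fun P hP hPs => by
    refine GrothLib.Nakai.evAcyclic_of_pieces c k hP fun Z i hi hZ hZP => ?_
    have hker : D.subschemeι.ker ≤ i.ker := by
      rw [Scheme.IdealSheafData.ker_subschemeι]
      haveI := hZ
      rw [GrothLib.SchImage.ker_eq_vanishingIdeal i]
      refine Scheme.IdealSheafData.le_support_iff_le_vanishingIdeal.1 ?_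
      refine (closure_minimal ?_ D.support.isClosed)
      intro y hy
      have h2 := hPs (hZP hy)
      rw [ha] at h2
      exact not_not.1 h2
    let g := IsClosedImmersion.lift D.subschemeι i hker
    have hg : g ≫ D.subschemeι = i := IsClosedImmersion.lift_fac _ _ hker
    haveI : IsClosedImmersion (g ≫ D.subschemeι) := hg ▸ hi
    haveI : IsClosedImmersion g := IsClosedImmersion.of_comp g D.subschemeι
    have h := GrothLib.Ample.isAmple_pullback_of_isAffineHom g hample
    rw [GrothLib.Ample.isAmple_pullback_comp_iff, hg] at h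
    obtain ⟨d⟩ := c.nonempty_pullback_iso i e
    exact (((c.comap i).isAmple_iff d).1 h).2
  refine Filter.eventually_atTop.2 ⟨N, fun m hm => ?_⟩
  exact GrothLib.Ample.isGloballyGenerated_of_iso (c.nonempty_tensorPow_iso e m).some.symm (hN m hm)

end Groth.Agent.S17288
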