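import Groth.Statements.S1729
import Mathlib.RingTheory.Nakayama
import Mathlib.RingTheory.Jacobson.Ideal
import Mathlib.RingTheory.LocalRing.MaximalIdeal.Basic
import Mathlib.RingTheory.Finiteness.Basic
import Mathlib.LinearAlgebra.FreeModule.Finite.Basic

set_option autoImplicit false
universe u
open Dual2

namespace Groth.Agent.S1729

/-- Over a local ring, every finite module M admits a projective cover: a surjection from a projective
module P onto M such that no proper submodule of P maps onto M. -/
theorem result (R : Type u) [CommRing R] [IsLocalRing R] (M : Type u) [AddCommGroup M] [Module R M] [Module.Finite R M] : ∃ (P : Type u) (_ : AddCommGroup P) (_ : Module R P) (f : P →ₗ[R] M), Dual2.IsProjectiveCover f := by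
  classical
  have hex : ∃ n, ∃ v : Fin n → M, Submodule.span R (Set.range v) = ⊤ := Module.Finite.exists_fin
  obtain ⟨v, hv⟩ := Nat.find_spec hex
  refine ⟨Fin (Nat.find hex) → R, inferInstance, inferInstance, Fintype.linearCombination R v,
    ⟨inferInstance, LinearMap.range_eq_top.1 ((Fintype.range_linearCombination R v).trans hv), fun N hN => ?_⟩⟩
  have hker : LinearMap.ker (Fintype.linearCombination R v) ≤ IsLocalRing.maximalIdeal R • ⊤ := by
    intro x (hx : Fintype.linearCombination R v x = 0)
    rw [← Finset.univ_sum_single x]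
    refine Submodule.sum_mem _ fun i _ => ?_
    rw [show Pi.single i (x i) = x i • Pi.single (M := fun _ => R) i (1 : R) by
      rw [← Pi.single_smul, smul_eq_mul, mul_one]]
    refine Submodule.smul_mem_smul ?_ trivial
    by_contra hu
    have hu : IsUnit (x i) := IsLocalRing.notMem_maximalIdeal.1 hu
    let m := (Finset.univ.erase i).card
    let w : Fin m → M := fun j => v ((Finset.univ.erase i).equivFin.symm j).1
    refine Nat.find_min hex (m := m) (by simp [m, i.pos]) ⟨w, ?_⟩
    rw [eq_top_iff, ← hv, Submodule.span_le]
    rintro _ ⟨j, rfl⟩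
    have hmem : ∀ j, j ≠ i → v j ∈ Submodule.span R (Set.range w) := fun j hj =>
      Submodule.subset_span ⟨(Finset.univ.erase i).equivFin ⟨j, by simp [hj]⟩, by simp [w]⟩
    rcases eq_or_ne j i with rfl | hj
    · rw [Fintype.linearCombination_apply, ← Finset.add_sum_erase _ _ (Finset.mem_univ j)] at hx
      refine (Submodule.smul_mem_iff_of_isUnit _ hu).1 ?_
      rw [eq_neg_of_add_eq_zero_left hx]
      exact Submodule.neg_mem _ (Submodule.sum_mem _ fun k hk =>
        Submodule.smul_mem _ _ (hmem k (by exact Finset.ne_of_mem_erase hk)))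
    · exact hmem j hj
  refine top_le_iff.1 (Submodule.le_of_le_smul_of_le_jacobson_bot (I := IsLocalRing.maximalIdeal R)
    Module.Finite.fg_top (IsLocalRing.maximalIdeal_le_jacobson _) ?_)
  intro x _
  obtain ⟨y, hy, hxy⟩ := (hN.symm ▸ Submodule.mem_top : Fintype.linearCombination R v x ∈ Submodule.map _ N)
  rw [← add_sub_cancel y x]
  exact Submodule.add_mem_sup hy (hker (by simp [LinearMap.mem_ker, hxy]))

end Groth.Agent.S1729
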