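import Groth.Statements.S17292
import Groth.Agent.Lib.BdlTensor8.BaseChange
import Groth.Agent.Lib.AmpSpread10.FibreLocus
import Groth.Agent.Lib.ProjQ8.Bundle
import Groth.Agent.Lib.ProjAlg.Proper
import Groth.Agent.Lib.Euler.Coh
import Groth.Agent.Lib.RelProjK.Amp

set_option autoImplicit false
universe u
open CategoryTheory CategoryTheory.Limits AlgebraicGeometry TopologicalSpace
open Variety

open GrothLib
set_option backward.isDefEq.respectTransparency false

namespace Groth.Agent.S17292

/-- Let Y be a Noetherian scheme, f : X → Y a proper morphism of schemes and E a finite locally free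
O_X-module. Then the set of points y of Y such that the restriction E_y of E to the fibre X_y is
ample — meaning that the fundamental module O(1) of the projective bundle P(E_y) = Proj(Sym E_y) →
X_y is ample, for any relative-Proj data of the graded symmetric algebra of E_y with its O(1) — is
open in Y: if E_y is ample then E_{y'} is ample for every y' in some open neighbourhood of y. (The
source allows X to be an algebraic space proper over Y; this is the case of schemes.) -/
theorem result (X Y : Scheme.{u}) [IsNoetherian Y] (f : X ⟶ Y) [IsProper f]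
    (E : X.Modules) (hE : FlatMod.IsFinLocFree E) :
    IsOpen {y : Y | ∀ (𝒮 : RelProj.QCGrAlg (f.fiber y)) (j : ((Scheme.Modules.pullback (f.fiberι y)).obj E) ⟶ 𝒮.toModule) (P : Scheme.{u}) (p : P ⟶ (f.fiber y))
        (chart : ∀ (U : (f.fiber y).Opens) (hU : IsAffineOpen U),
          (((p ⁻¹ᵁ U : P.Opens) : Scheme.{u}) ≅ Proj (𝒮.deg U hU)))
        (O1 : P.Modules)
        (lam : ∀ (U : (f.fiber y).Opens) (hU : IsAffineOpen U),
          O1 ⟶ (Scheme.Modules.pushforward (RelProj.emb p chart U hU)).obj (GrTwist.twist (𝒮.deg U hU) 1)),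
        RelProj.IsGrSymAlg ((Scheme.Modules.pullback (f.fiberι y)).obj E) 𝒮 j → RelProj.IsRelProj 𝒮 p chart → RelProj.IsRelTwist 𝒮 p chart 1 O1 lam →
        CohB1.IsAmple O1} := by
  obtain ⟨B, hBE⟩ := VA.exists_bdl E (Euler.isQuasicoherent_of_isFinLocFree hE)
  subst hBE
  haveI : IsProper B.p := ProjAlg.isProper_of_isProjective
    ⟨B.S, B.P, B.p, B.chart, Iso.refl _, RelProjK.isGenDegOne_of_isGrSymAlg B.isQCoh B.isSym,
      VA.isFTDeg_one_of_isGrSymAlg B.isQCoh (Euler.isCoh_of_isFinLocFree hE).2 B.isSym, B.isProj, Category.id_comp _⟩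
  convert AmpSpread10.isOpen_fibre_isAmple (B.p ≫ f) B.isInvertible using 1
  ext y
  simp only [Set.mem_setOf_eq]
  haveI : IsAffineHom (Y.fromSpecResidueField y) := ⟨fun U _ => by
    by_cases h : (default : Spec (Y.residueField y)) ∈ (Y.fromSpecResidueField y) ⁻¹ᵁ U
    · rw [show (Y.fromSpecResidueField y) ⁻¹ᵁ U = ⊤ from
        eq_top_iff.mpr fun z _ => Subsingleton.elim default z ▸ h]
      exact isAffineOpen_top _
    · rw [show (Y.fromSpecResidueField y) ⁻¹ᵁ U = ⊥ from
        eq_bot_iff.mpr fun z hz => h (Subsingleton.elim z default ▸ hz)]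
      exact isAffineOpen_bot _⟩
  haveI : IsAffineHom (f.fiberι y) := MorphismProperty.pullback_fst (P := @IsAffineHom) _ _ inferInstance
  let P' := pullback B.p (f.fiberι y)
  have H : IsPullback (pullback.fst B.p (f.fiberι y)) (pullback.snd B.p (f.fiberι y)) B.p (f.fiberι y) :=
    IsPullback.of_hasPullback _ _
  have H2 : IsPullback (pullback.fst B.p (f.fiberι y)) (pullback.snd B.p (f.fiberι y) ≫ f.fiberToSpecResidueField y)
      (B.p ≫ f) (Y.fromSpecResidueField y) :=
    H.paste_vert (IsPullback.of_hasPullback f (Y.fromSpecResidueField y))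
  let t := H2.isoPullback
  have ht : t.hom ≫ (B.p ≫ f).fiberι y = pullback.fst B.p (f.fiberι y) := H2.isoPullback_hom_fst
  have htr : CohB1.IsAmple ((Scheme.Modules.pullback ((B.p ≫ f).fiberι y)).obj B.O) ↔
      CohB1.IsAmple ((Scheme.Modules.pullback (pullback.fst B.p (f.fiberι y))).obj B.O) := by
    constructor
    · intro h
      have h' := Ample.isAmple_pullback_of_isAffineHom t.hom h
      rw [Ample.isAmple_pullback_comp_iff, ht] at h'
      exact h'
    · intro h
      have h' := Ample.isAmple_pullback_of_isAffineHom t.inv h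
      rw [Ample.isAmple_pullback_comp_iff, show t.inv ≫ pullback.fst B.p (f.fiberι y) = (B.p ≫ f).fiberι y from
        (Iso.inv_comp_eq t).mpr ht.symm] at h'
      exact h'
  rw [htr]
  refine ⟨fun h => ?_, fun h 𝒮 j P p chart O1 lam hj hP hO1 =>
    (BdlTensor8.isAmple_pullback_bdl_iff (f.fiberι y) B.isQCoh B rfl H hj hP hO1).mpr h⟩
  obtain ⟨B', hB'⟩ := VA.exists_bdl ((Scheme.Modules.pullback (f.fiberι y)).obj B.E) (VA.isQCoh_pullback (f.fiberι y) B.isQCoh)
  obtain ⟨E', hE'q, 𝒮, j, hj, P, p, chart, hP, O1, lam, hO1, c, hc⟩ := B'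
  cases hB'
  exact (BdlTensor8.isAmple_pullback_bdl_iff (f.fiberι y) B.isQCoh B rfl H hj hP hO1).mp (h 𝒮 j P p chart O1 lam hj hP hO1)

end Groth.Agent.S17292
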