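import Groth.Statements.S1730
import Mathlib.Algebra.Module.Projective

set_option autoImplicit false
universe u
open Dual2

namespace Groth.Agent.S1730

/-- If f : P → M and f' : P' → M are two projective covers of an R-module M, then there is an
isomorphism P ≃ P' compatible with the maps to M. -/
theorem result (R : Type u) [CommRing R] (M P P' : Type u) [AddCommGroup M] [Module R M] [AddCommGroup P] [Module R P] [AddCommGroup P'] [Module R P'] (f : P →ₗ[R] M) (f' : P' →ₗ[R] M) (hf : Dual2.IsProjectiveCover f) (hf' : Dual2.IsProjectiveCover f') : ∃ e : P ≃ₗ[R] P', f' ∘ₗ e.toLinearMap = f := by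
  have := hf.projective
  have := hf'.projective
  obtain ⟨e, he⟩ := Module.projective_lifting_property f' f hf'.surjective
  have hr : LinearMap.range e = ⊤ := hf'.essential _ (by
    rw [← LinearMap.range_comp, he]; exact LinearMap.range_eq_top.2 hf.surjective)
  obtain ⟨s, hs⟩ := e.exists_rightInverse_of_surjective hr
  have hfs : f ∘ₗ s = f' := by rw [← he, LinearMap.comp_assoc, hs, LinearMap.comp_id]
  have hsr : LinearMap.range s = ⊤ := hf.essential _ (by
    rw [← LinearMap.range_comp, hfs]; exact LinearMap.range_eq_top.2 hf'.surjective)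
  refine ⟨LinearEquiv.ofBijective e ⟨fun x y h => ?_, LinearMap.range_eq_top.1 hr⟩, he⟩
  obtain ⟨a, rfl⟩ := LinearMap.range_eq_top.1 hsr x
  obtain ⟨b, rfl⟩ := LinearMap.range_eq_top.1 hsr y
  have h1 : ∀ z, e (s z) = z := fun z => LinearMap.congr_fun hs z
  rw [h1, h1] at h
  rw [h]

end Groth.Agent.S1730
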