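import Groth.Statements.S17306
import Groth.Agent.Lib.CurveLocus.CM
import Groth.Agent.Lib.AlgSt.LocP

set_option autoImplicit false
universe u
open CurvSt

namespace Groth.Agent.S17306

open CategoryTheory AlgebraicGeometry in
/-- Let X be a proper scheme of dimension at most 1 over a field k, and Spec k → S a point of the base.
The classifying object of X in the stack of curves over S lies in the Cohen–Macaulay open substack —
by definition of that substack: the morphism of sheaves h_X → h_{Spec k} induced by X → Spec k is,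
in every etale chart diagram, a morphism of schemes flat with Cohen–Macaulay fibre local rings at
every point — if and only if X is Cohen–Macaulay, i.e. all local rings of X are Cohen–Macaulay local
rings. -/
theorem result (S : Scheme.{u}) (k : Type u) [Field k] (t : Spec (CommRingCat.of k) ⟶ S)
    (X : Scheme.{u}) (p : X ⟶ Spec (CommRingCat.of k)) [IsProper p] (hdim : topologicalKrullDim ↥X ≤ 1) :
    AlgSp.LocP (fun _ _ g => ∀ x, MoreMor.IsCMAt g x) ((AlgSp.yon S).map (Over.homMk p rfl : Over.mk (p ≫ t) ⟶ Over.mk t)) ↔
      ∀ x : ↥X, LocCoh.IsCohenMacaulayLocalRing (X.presheaf.stalk x) := by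

  have hdimle : ∀ {W : Scheme.{u}} (w : ↥W), topologicalKrullDim ↥W ≤ 1 → ringKrullDim (W.presheaf.stalk w) ≤ 1 := by
    intro W w hW
    rw [ringKrullDim_stalk_eq_coheight]
    exact (Order.coheight_le_krullDim w).trans (le_trans (le_of_eq (Order.krullDim_eq_of_orderIso (irreducibleSetEquivPoints (α := ↥W)).symm)) hW)
  constructor
  · intro h x
    have h0 := AlgSp.locP_yon_map h
    have hiso := GrothLib.CurveLocus.fiberStalkEquiv p (𝟙 _) x
    refine GrothLib.CurveLocus.isCM_of_ringEquiv hiso ?_ (h0 x).2
    rw [ringKrullDim_eq_of_ringEquiv hiso]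
    exact hdimle x hdim
  · intro h U V a b g ha hb e x
    obtain ⟨φ, rfl⟩ := (AlgSp.yon S).map_surjective a
    obtain ⟨ψ, rfl⟩ := (AlgSp.yon S).map_surjective b
    let φl : U.left ⟶ X := φ.left
    have hφ : Etale φl := (AlgSp.repWith_yon_map_iff _ _).1 ha
    have hψ : Etale ψ.left := (AlgSp.repWith_yon_map_iff _ _).1 hb
    refine ⟨GrothLib.CurveLocus.flat_stalkMap g.left ψ.left x, ?_⟩
    have : IsLocallyNoetherian X := LocallyOfFiniteType.isLocallyNoetherian p
    have : IsLocallyNoetherian U.left := LocallyOfFiniteType.isLocallyNoetherian φl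
    have : LocCoh.IsCohenMacaulayLocalRing (X.presheaf.stalk (φl x)) := h _
    let := (φl.stalkMap x).hom.toAlgebra
    have : Module.Flat (X.presheaf.stalk (φl x)) (U.left.presheaf.stalk x) := Flat.stalkMap φl x
    have hu := (GrothLib.LocProp.formallyUnramified_nhd_iff φl x).1 ⟨⊤, trivial, inferInstance⟩
    have hm := ((GrothLib.LocProp.formallyUnramified_stalk_iff φl x).1 hu).1
    have hCM := GrothLib.CurveLocus.isCM_of_flat_unramified (hdimle _ hdim) hm ‹_›
    exact GrothLib.CurveLocus.isCM_of_ringEquiv
      (GrothLib.CurveLocus.fiberStalkEquiv g.left ψ.left x).symm hCM.2 hCM.1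

end Groth.Agent.S17306
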