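import Groth.Statements.S17307
import Groth.Agent.Lib.CurveLocus.CM
import Groth.Agent.Lib.AlgSt.LocP
import Groth.Agent.Lib.AlgSp.GorSpace

set_option autoImplicit false
universe u
open CurvSt

namespace Groth.Agent.S17307

set_option backward.isDefEq.respectTransparency false


open CategoryTheory AlgebraicGeometry in
/-- Let X be a proper scheme of dimension at most 1 over a field k, and Spec k → S a point of the base.
The classifying object of X in the stack of curves over S lies in the Gorenstein open substack — by
definition: the morphism of sheaves h_X → h_{Spec k} induced by X → Spec k is, in every etale chart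
diagram, at every point flat with Gorenstein fibre local ring — if and only if X is Gorenstein, i.e.
all local rings of X are Gorenstein local rings. -/
theorem result (S : Scheme.{u}) (k : Type u) [Field k] (t : Spec (CommRingCat.of k) ⟶ S)
    (X : Scheme.{u}) (p : X ⟶ Spec (CommRingCat.of k)) [IsProper p] (hdim : topologicalKrullDim ↥X ≤ 1) :
    AlgSp.LocP (fun _ _ g => ∀ x, (g.stalkMap x).hom.Flat ∧
        LocCoh.IsGorensteinLocalRing ((g.fiber (g x)).presheaf.stalk (g.asFiber x))) ((AlgSp.yon S).map (Over.homMk p rfl : Over.mk (p ≫ t) ⟶ Over.mk t)) ↔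
      ∀ x : ↥X, LocCoh.IsGorensteinLocalRing (X.presheaf.stalk x) := by
  constructor
  · intro h x
    have h0 := AlgSp.locP_yon_map h
    exact (GrothLib.GorFlat.gorenstein_congr (GrothLib.CurveLocus.fiberStalkEquiv p (𝟙 _) x)).1 (h0 x).2
  · intro h U V a b g ha hb e x
    obtain ⟨φ, rfl⟩ := (AlgSp.yon S).map_surjective a
    obtain ⟨ψ, rfl⟩ := (AlgSp.yon S).map_surjective b
    let φl : U.left ⟶ X := φ.left
    have hφ : Etale φl := (AlgSp.repWith_yon_map_iff _ _).1 ha
    have hψ : Etale ψ.left := (AlgSp.repWith_yon_map_iff _ _).1 hb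
    refine ⟨GrothLib.CurveLocus.flat_stalkMap g.left ψ.left x, ?_⟩
    have : IsLocallyNoetherian X := LocallyOfFiniteType.isLocallyNoetherian p
    exact (GrothLib.GorFlat.gorenstein_congr (GrothLib.CurveLocus.fiberStalkEquiv g.left ψ.left x)).2
      ((GrothLib.AlgSp.isGorenstein_of_etale φl hφ ⟨inferInstance, h⟩).2 x)

end Groth.Agent.S17307
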