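import Groth.Statements.S17308
import Groth.Agent.Lib.AlgSt.LciCancel
import Groth.Agent.Lib.AlgSt.LocP

set_option autoImplicit false
universe u
open CurvSt

namespace Groth.Agent.S17308

set_option backward.isDefEq.respectTransparency false


open CategoryTheory AlgebraicGeometry in
/-- Let X be a proper scheme of dimension at most 1 over a field k with structure morphism p, and Spec k
→ S a point of the base. The classifying object of X in the stack of curves over S lies in the local
complete intersection open substack — by definition: the morphism of sheaves h_X → h_{Spec k}
induced by p is a Koszul morphism etale locally on every chart diagram — if and only if X is a local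
complete intersection over k, i.e. p is Koszul at every point of X (near each point, locally of
finite type and a Koszul-regular immersion into a scheme smooth over k). -/
theorem result (S : Scheme.{u}) (k : Type u) [Field k] (t : Spec (CommRingCat.of k) ⟶ S)
    (X : Scheme.{u}) (p : X ⟶ Spec (CommRingCat.of k)) [IsProper p] (hdim : topologicalKrullDim ↥X ≤ 1) :
    AlgSp.IsLCIMor ((AlgSp.yon S).map (Over.homMk p rfl : Over.mk (p ≫ t) ⟶ Over.mk t)) ↔ ∀ x : ↥X, Synt.IsKoszulAt p x := by
  constructor
  · intro h x
    exact AlgSp.locP_yon_map h x
  · intro h
    exact GrothLib.AlgSt.isLCIMor_yon_of_inLocus fun x => (GrothLib.LCI6.isKoszulAt_iff_inLocus p x).1 (h x)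

end Groth.Agent.S17308
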