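import Groth.Statements.S1731
import Groth.Agent.Lib.TorsionExt.BaseChange
import Groth.Agent.Lib.HDU.GE

set_option autoImplicit false
universe u
open CategoryTheory
open scoped TensorProduct
attribute [local instance] HasDerivedCategory.standard
open LocCoh

namespace Groth.Agent.S1731

/-- Statement for modules: let A → B be a flat ring map and I a finitely generated ideal of A such that
A → B/IB is surjective with kernel I (so A/I ≅ B/IB). If M is an I-power torsion A-module, then for
every A-module N and every integer i the group of maps M → N[i] in D(A) is isomorphic to the group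
of maps B ⊗_A M → (B ⊗_A N)[i] in D(B). (Only the existence of an isomorphism is asserted; the
published statement shows that the base-change map is one.) -/
theorem result (A B : Type u) [CommRing A] [CommRing B] [Algebra A B] [Module.Flat A B] (I : Ideal A) (hI : I.FG) (hs : Function.Surjective ((Ideal.Quotient.mk (I.map (algebraMap A B))).comp (algebraMap A B))) (hk : RingHom.ker ((Ideal.Quotient.mk (I.map (algebraMap A B))).comp (algebraMap A B)) = I) (M N : Type u) [AddCommGroup M] [Module A M] [AddCommGroup N] [Module A N] (hM : LocCoh.IsPowerTorsion I M) (i : ℤ) : Nonempty ((Dual.inD A M ⟶ (Dual.inD A N)⟦i⟧) ≃+ (Dual.inD B (B ⊗[A] M) ⟶ (Dual.inD B (B ⊗[A] N))⟦i⟧)) := by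
  obtain ⟨φ, rfl⟩ : ∃ φ : A →+* B, ‹Algebra A B› = φ.toAlgebra :=
    ⟨algebraMap A B, Algebra.algebra_ext _ _ fun _ => rfl⟩
  let : Algebra A B := φ.toAlgebra
  have hflat : φ.Flat := by assumption
  rcases i with n | n
  · obtain ⟨e⟩ := GrothLib.TorExt.nonempty_ext_extendScalars φ hflat hI hs hk
      (ModuleCat.of A M) (ModuleCat.of A N) hM n
    exact ⟨Abelian.Ext.homAddEquiv.symm.trans (e.trans Abelian.Ext.homAddEquiv)⟩
  · have h₁ : Subsingleton (Dual.inD A M ⟶ (Dual.inD A N)⟦Int.negSucc n⟧) :=
      GrothLib.HDU.subsingleton_shift_of_neg _ _ _ (Int.negSucc_lt_zero n)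
    have h₂ : Subsingleton (Dual.inD B (B ⊗[A] M) ⟶ (Dual.inD B (B ⊗[A] N))⟦Int.negSucc n⟧) :=
      GrothLib.HDU.subsingleton_shift_of_neg _ _ _ (Int.negSucc_lt_zero n)
    exact ⟨{ toFun := 0, invFun := 0, left_inv := fun _ => Subsingleton.elim _ _,
             right_inv := fun _ => Subsingleton.elim _ _, map_add' := fun _ _ => Subsingleton.elim _ _ }⟩

end Groth.Agent.S1731
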