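import Groth.Statements.S17310
import Groth.Agent.Lib.CurveLocus.Basic

set_option autoImplicit false
universe u
open CurvSt

namespace Groth.Agent.S17310

open CategoryTheory AlgebraicGeometry in
/-- Let X be a proper scheme of dimension at most 1 over a field k with structure morphism p, and Spec k
→ S a point of the base. The classifying object of X in the stack of curves over S lies in the open
substack of curves with geometrically reduced, connected fibres of dimension 1 — by definition:
every geometric fibre of h_X → h_{Spec k}, realised as a scheme over an algebraically closed field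
through a cartesian square of sheaves, is reduced, connected and of Krull dimension 1 — if and only
if X is geometrically reduced and geometrically connected over k and has Krull dimension 1. -/
theorem result (S : Scheme.{u}) (k : Type u) [Field k] (t : Spec (CommRingCat.of k) ⟶ S)
    (X : Scheme.{u}) (p : X ⟶ Spec (CommRingCat.of k)) [IsProper p] (hdim : topologicalKrullDim ↥X ≤ 1) :
    CurvSt.GeomFib (fun _ _ _ X' _ _ => IsReduced X' ∧ ConnectedSpace ↥X' ∧ topologicalKrullDim ↥X' = 1) ((CurvSt.toSpFam S 0).obj ⟨Over.mk t, X, p, Fin.elim0, fun i => i.elim0⟩) ↔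
      GeometricallyReduced p ∧ GeometricallyConnected p ∧ topologicalKrullDim ↥X = 1 := by

  rw [GrothLib.CurveLocus.geomFib_toSpFam_iff
      (fun _ _ _ X' _ => IsReduced X' ∧ ConnectedSpace ↥X' ∧ topologicalKrullDim ↥X' = 1),
    GrothLib.CurveLocus.geometricallyReduced_iff, GrothLib.CurveLocus.geometricallyConnected_iff]
  constructor
  · intro h
    refine ⟨fun Ω _ _ t X' i q hsq => (h Ω t X' i q hsq).1,
      fun Ω _ _ t X' i q hsq => (h Ω t X' i q hsq).2.1, ?_⟩
    let σ := Spec.map (CommRingCat.ofHom (algebraMap k (AlgebraicClosure k)))
    rw [← GrothLib.CurveLocus.topologicalKrullDim_of_isPullback p (IsPullback.of_hasPullback p σ)]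
    exact (h (AlgebraicClosure k) σ _ _ _ (IsPullback.of_hasPullback p σ)).2.2
  · rintro ⟨h1, h2, h3⟩ Ω _ _ t X' i q hsq
    exact ⟨h1 Ω t X' i q hsq, h2 Ω t X' i q hsq,
      (GrothLib.CurveLocus.topologicalKrullDim_of_isPullback p hsq).trans h3⟩

end Groth.Agent.S17310
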