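import Groth.Statements.S17321
import Mathlib.RingTheory.Artinian.Ring
import Mathlib.RingTheory.Derivation.Basic
import Mathlib.FieldTheory.IsAlgClosed.Basic
import Mathlib.RingTheory.Ideal.AssociatedPrime.Basic
import Mathlib.RingTheory.HopkinsLevitzki
import Mathlib.LinearAlgebra.Dual.Lemmas
import Mathlib.RingTheory.Ideal.AssociatedPrime.Localization

set_option autoImplicit false
universe u v
open CAlg

namespace Groth.Agent.S17321

/-- Let k be an algebraically closed field and A a commutative k-algebra which is finite-dimensional as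
a k-vector space (the coordinate ring of a finite k-scheme). Then the space Der(A) of k-derivations
A → A is zero if and only if A is reduced. -/
theorem result (k : Type u) [Field k] [IsAlgClosed k]
    (A : Type v) [CommRing A] [Algebra k A] [Module.Finite k A] :
    Subsingleton (Derivation k A A) ↔ IsReduced A := by
  classical
  haveI : IsArtinianRing A := IsArtinianRing.of_finite k A
  constructor
  · intro hder
    by_contra hred
    -- some maximal ideal differs from its square
    obtain ⟨m, hm, hne⟩ : ∃ m : Ideal A, m.IsMaximal ∧ m ^ 2 ≠ m := by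
      by_contra hc
      push Not at hc
      apply hred
      have hnil : nilradical A ^ 2 = nilradical A := by
        have hfin : {I : Ideal A | I.IsMaximal}.Finite := IsArtinianRing.setOfPred_isMaximal_finite A
        have h1 : nilradical A = ∏ I ∈ hfin.toFinset, I := by
          rw [Ideal.prod_eq_iInf_of_pairwise_isCoprime, nilradical_eq_sInf]
          · refine le_antisymm (le_iInf₂ fun I hI => sInf_le ?_) (le_sInf fun P hP => ?_)
            · exact (hfin.mem_toFinset.1 hI).isPrime
            · exact iInf₂_le P (hfin.mem_toFinset.2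
                ((IsArtinianRing.isPrime_iff_isMaximal P).1 hP))
          · intro I hI J hJ hIJ
            exact Ideal.isCoprime_iff_sup_eq.2
              ((hfin.mem_toFinset.1 hI).coprime_of_ne (hfin.mem_toFinset.1 hJ) hIJ)
        rw [h1, ← Finset.prod_pow]
        exact Finset.prod_congr rfl fun I hI => hc I (hfin.mem_toFinset.1 hI)
      obtain ⟨N, hN⟩ := IsArtinianRing.isNilpotent_nilradical (R := A)
      have h2 : ∀ j, nilradical A ^ (j + 1) = nilradical A := by
        intro j
        induction j with
        | zero => rw [pow_one]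
        | succ j ih => rw [pow_succ, ih, ← pow_two, hnil]
      rw [← nilradical_eq_bot_iff, ← h2 N, pow_succ, hN, zero_mul, Ideal.zero_eq_bot]
    haveI := hm
    obtain ⟨z, hz, hzm⟩ : ∃ z : A, z ≠ 0 ∧ ∀ u ∈ m, u * z = 0 := by
      haveI : IsNoetherianRing A := inferInstance
      have hmin : m ∈ minimalPrimes A :=
        ⟨⟨hm.isPrime, bot_le⟩, fun q hq hle => (((IsArtinianRing.isPrime_iff_isMaximal q).1 hq.1).eq_of_le hm.ne_top hle).ge⟩
      have hass : IsAssociatedPrime m A :=
        Module.associatedPrimes.minimalPrimes_annihilator_subset_associatedPrimes A A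
          (by rwa [Module.annihilator_eq_bot.2 inferInstance])
      obtain ⟨f, hf⟩ := ((isAssociatedPrime_iff_exists_injective_linearMap m A).1 hass).2
      refine ⟨f 1, fun h0 => ?_, fun u hu => ?_⟩
      · exact hm.ne_top ((Ideal.eq_top_iff_one m).2
          (Ideal.Quotient.eq_zero_iff_mem.1 (hf (h0.trans (map_zero f).symm))))
      · rw [← smul_eq_mul, ← map_smul, Algebra.smul_def, mul_one, Ideal.Quotient.algebraMap_eq,
          Ideal.Quotient.eq_zero_iff_mem.2 hu, map_zero]
    have hdec : ∀ a : A, ∃ α : k, a - algebraMap k A α ∈ m := by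
      intro a
      letI := Ideal.Quotient.field m
      obtain ⟨α, hα⟩ := IsAlgClosed.algebraMap_bijective_of_isIntegral (k := k) (K := A ⧸ m) |>.2
        (Ideal.Quotient.mk m a)
      exact ⟨α, Ideal.Quotient.eq.1 hα.symm⟩
    obtain ⟨u, hu, hu2⟩ := SetLike.not_le_iff_exists.1
      (fun hle => hne (le_antisymm (Ideal.pow_le_self two_ne_zero) hle) : ¬ m ≤ m ^ 2)
    let W : Submodule k A := (m ^ 2).restrictScalars k ⊔ Submodule.span k {1}
    have huW : u ∉ W := by
      intro hmem
      obtain ⟨v, hv, w, hw, hvw⟩ := Submodule.mem_sup.1 hmem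
      obtain ⟨c, rfl⟩ := Submodule.mem_span_singleton.1 hw
      have hcm : c • (1 : A) ∈ m := by
        have h5 := m.sub_mem hu (Ideal.pow_le_self two_ne_zero hv)
        rwa [← hvw, add_sub_cancel_left] at h5
      by_cases hc : c = 0
      · subst hc
        rw [zero_smul, add_zero] at hvw
        exact hu2 (hvw ▸ hv)
      · apply hm.ne_top
        refine Ideal.eq_top_of_isUnit_mem _ hcm ?_
        rw [← Algebra.algebraMap_eq_smul_one]
        exact (IsUnit.mk0 c hc).map _
    obtain ⟨l, hl, hlW⟩ := Submodule.exists_dual_map_eq_bot_of_notMem huW inferInstance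
    have hW0 : ∀ w ∈ W, l w = 0 := fun w hw => (Submodule.mem_bot k).1
      (hlW ▸ Submodule.mem_map_of_mem hw)
    have hl1 : l 1 = 0 := hW0 1 (Submodule.mem_sup_right (Submodule.mem_span_singleton_self 1))
    let D : Derivation k A A := Derivation.mk' (l.smulRight z) (fun a b => by
      obtain ⟨α, ha⟩ := hdec a
      obtain ⟨β, hb⟩ := hdec b
      set u' := a - algebraMap k A α with hu'
      set v' := b - algebraMap k A β with hv'
      have ha' : a = α • (1 : A) + u' := by rw [hu', ← Algebra.algebraMap_eq_smul_one]; abel
      have hb' : b = β • (1 : A) + v' := by rw [hv', ← Algebra.algebraMap_eq_smul_one]; abel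
      have h0 : l (u' * v') = 0 := hW0 _ (Submodule.mem_sup_left
        (show u' * v' ∈ m ^ 2 by rw [pow_two]; exact Ideal.mul_mem_mul ha hb))
      have hab : a * b = (α * β) • (1 : A) + α • v' + β • u' + u' * v' := by
        rw [ha', hb']
        simp only [Algebra.smul_def, map_mul, mul_one]
        ring
      have hla : l a = l u' := by rw [ha', map_add, map_smul, hl1, smul_zero, zero_add]
      have hlb : l b = l v' := by rw [hb', map_add, map_smul, hl1, smul_zero, zero_add]
      simp only [LinearMap.smulRight_apply, smul_eq_mul]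
      rw [hab, hla, hlb, map_add, map_add, map_add, map_smul, map_smul, map_smul, hl1, h0]
      rw [ha', hb']
      simp only [smul_eq_mul, mul_zero, zero_add, add_zero, add_mul, Algebra.smul_def, map_mul,
        map_add, mul_one]
      linear_combination (-(algebraMap k A (l v'))) * hzm u' ha - algebraMap k A (l u') * hzm v' hb)
    have h6 : D u = 0 := by rw [Subsingleton.elim D 0]; rfl
    have h7 : l u • z = 0 := h6
    exact (smul_eq_zero.1 h7).elim hl hz
  · intro hred
    refine ⟨fun D₁ D₂ => Derivation.ext fun a => ?_⟩
    suffices hD : ∀ D : Derivation k A A, D a = 0 by rw [hD, hD]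
    intro D
    -- show `D a` lies in every maximal ideal
    refine IsReduced.eq_zero _ (mem_nilradical.1 ?_)
    rw [nilradical_eq_sInf, Ideal.mem_sInf]
    intro P hP
    haveI : P.IsMaximal := (IsArtinianRing.isPrime_iff_isMaximal P).1 hP
    haveI : P.IsPrime := hP
    have hPP : P * P = P := by
      haveI : IsSemisimpleRing A := IsArtinianRing.isSemisimpleRing_of_isReduced A
      obtain ⟨e, he, rfl⟩ := IsSemisimpleRing.ideal_eq_span_idempotent P
      rw [Submodule.span_mul_span, Set.singleton_mul_singleton, he.eq]
    have hDP : ∀ u ∈ P, D u ∈ P := by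
      intro u hu
      rw [← hPP] at hu
      refine Submodule.mul_induction_on hu (fun x hx y hy => ?_) (fun x y hx hy => by
        rw [map_add]; exact add_mem hx hy)
      rw [Derivation.leibniz]
      exact add_mem (P.mul_mem_right _ hx) (P.mul_mem_right _ hy)
    letI := Ideal.Quotient.field P
    obtain ⟨α, hα⟩ := IsAlgClosed.algebraMap_bijective_of_isIntegral (k := k) (K := A ⧸ P) |>.2
      (Ideal.Quotient.mk P a)
    have h1 := hDP _ (Ideal.Quotient.eq.1 hα.symm : a - algebraMap k A α ∈ P)
    rwa [map_sub, Derivation.map_algebraMap, sub_zero] at h1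

end Groth.Agent.S17321
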