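import Groth.Statements.S17322
import Mathlib

set_option autoImplicit false
universe u v w
open Hopf

namespace Groth.Agent.S17322

open TensorProduct

/-- Let k be an algebraically closed field, A a commutative Hopf algebra over k which is
finite-dimensional as a k-vector space (a finite group scheme G = Spec A over k), and R a finitely
generated commutative k-algebra with an A-comodule structure whose coaction R → R ⊗ A is a k-algebra
homomorphism (an action of G on the affine scheme Spec R). Then the subalgebra R^G of invariants
(elements whose coaction is r ⊗ 1) is finitely generated as a k-algebra, and R is finitely generated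
as a module over R^G. -/
theorem result (k : Type u) [Field k] [IsAlgClosed k]
    (A : Type v) [CommRing A] [HopfAlgebra k A] [Module.Finite k A]
    (R : Type w) [CommRing R] [Algebra k R] [Algebra.FiniteType k R]
    [HopfRep.Comod k A R] [GLin.IsCoactAlg k A R] :
    Algebra.FiniteType k ↥(GLin.invariants k A R) ∧ Module.Finite ↥(GLin.invariants k A R) R := by
  classical
  let b := Module.Free.chooseBasis k A
  let ρ : R →ₐ[k] (R ⊗[k] A) := GLin.coactAlgHom k A R
  -- integrality by characteristic polynomials
  have hint : ∀ a : R, ∃ P : Polynomial R, P.Monic ∧ P.eval₂ (RingHom.id R) a = 0 ∧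
      ∀ i, P.coeff i ∈ GLin.invariants k A R := by
    intro a
    let bS := Algebra.TensorProduct.basis R b
    let M := LinearMap.toMatrix bS bS (LinearMap.mulLeft R (ρ a))
    refine ⟨M.charpoly, Matrix.charpoly_monic M, ?_, ?_⟩
    · have h1 : Polynomial.aeval (LinearMap.mulLeft R (ρ a)) M.charpoly = 0 := by
        rw [LinearMap.charpoly_toMatrix (LinearMap.mulLeft R (ρ a)) bS]
        exact LinearMap.aeval_self_charpoly _
      have h2 : Polynomial.aeval (ρ a) M.charpoly = (0 : (R ⊗[k] A)) := by
        have h3 : Polynomial.aeval (Algebra.lmul R (R ⊗[k] A) (ρ a)) M.charpoly = 0 := h1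
        rw [Polynomial.aeval_algHom_apply] at h3
        have := LinearMap.congr_fun h3 (1 : (R ⊗[k] A))
        simpa using this
      let ev : (R ⊗[k] A) →ₐ[R] R :=
        (Algebra.TensorProduct.rid k R R).toAlgHom.comp
          (Algebra.TensorProduct.map (AlgHom.id R R) (Bialgebra.counitAlgHom k A))
      have hev : ev (ρ a) = a := by
        have hc : ∀ t : (R ⊗[k] A), ev t = TensorProduct.rid k R ((CoalgebraStruct.counit (R := k) (A := A)).lTensor R t) := by
          intro t
          induction t using TensorProduct.induction_on with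
          | zero => simp
          | add p q hp hq => simp only [map_add, hp, hq]
          | tmul p q => simp [ev]
        rw [hc, show ρ a = HopfRep.Comod.coact (k := k) (A := A) a from rfl]
        have := LinearMap.congr_fun (HopfRep.Comod.counit_comp (k := k) (A := A) (V := R)) a
        simp only [LinearMap.comp_apply] at this
        rw [this]; simp
      have h4 := congrArg ev h2
      rw [← Polynomial.aeval_algHom_apply, hev, map_zero] at h4
      exact h4
    · -- invariance of the coefficients
      let bT := Algebra.TensorProduct.basis (R ⊗[k] A) b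
      let ι₁ : (R ⊗[k] A) →ₐ[k] ((R ⊗[k] A) ⊗[k] A) := Algebra.TensorProduct.map Algebra.TensorProduct.includeLeft (AlgHom.id k A)
      let ρ₁ : (R ⊗[k] A) →ₐ[k] ((R ⊗[k] A) ⊗[k] A) := Algebra.TensorProduct.map ρ (AlgHom.id k A)
      let δ : A →ₐ[k] ((R ⊗[k] A) ⊗[k] A) :=
        (Algebra.TensorProduct.map (Algebra.TensorProduct.includeRight : A →ₐ[k] (R ⊗[k] A)) (AlgHom.id k A)).comp
          (Bialgebra.comulAlgHom k A)
      let Ψ : ((R ⊗[k] A) ⊗[k] A) →ₐ[(R ⊗[k] A)] ((R ⊗[k] A) ⊗[k] A) := Algebra.TensorProduct.lift (Algebra.ofId (R ⊗[k] A) ((R ⊗[k] A) ⊗[k] A)) δ fun _ _ => Commute.all _ _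
      have hΨι : Ψ (ι₁ (ρ a)) = ρ₁ (ρ a) := by
        have h1 : ∀ t : (R ⊗[k] A), Ψ (ι₁ t) = (TensorProduct.assoc k R A A).symm
            ((CoalgebraStruct.comul (R := k) (A := A)).lTensor R t) := fun t => by
          induction t using TensorProduct.induction_on with
          | zero => simp
          | add p q hp hq => simp only [map_add, hp, hq]
          | tmul r h =>
            simp only [ι₁, Ψ, δ, Algebra.TensorProduct.map_tmul, AlgHom.id_apply, LinearMap.lTensor_tmul,
              Algebra.TensorProduct.lift_tmul, AlgHom.comp_apply]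
            show (algebraMap (R ⊗[k] A) ((R ⊗[k] A) ⊗[k] A) (r ⊗ₜ[k] 1)) * _ = _
            rw [show CoalgebraStruct.comul (R := k) h = Bialgebra.comulAlgHom k A h from rfl]
            induction Bialgebra.comulAlgHom k A h using TensorProduct.induction_on with
            | zero => simp
            | add p q hp hq => simp only [map_add, mul_add, TensorProduct.tmul_add, hp, hq]
            | tmul p q => simp [Algebra.TensorProduct.algebraMap_apply]
        have h2 : ∀ t : (R ⊗[k] A), ρ₁ t = (HopfRep.Comod.coact (k := k) (A := A) (V := R)).rTensor A t := fun t => by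
          induction t using TensorProduct.induction_on with
          | zero => simp
          | add p q hp hq => simp only [map_add, hp, hq]
          | tmul r h => simp [ρ₁, ρ]
        rw [h1, h2, LinearEquiv.symm_apply_eq]
        exact (LinearMap.congr_fun (HopfRep.Comod.coassoc (k := k) (A := A) (V := R)) a).symm
      have hsurj : Function.Surjective Ψ := by
        intro z
        induction z using TensorProduct.induction_on with
        | zero => exact ⟨0, map_zero _⟩
        | add p q hp hq =>
          obtain ⟨p', rfl⟩ := hp
          obtain ⟨q', rfl⟩ := hq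
          exact ⟨p' + q', map_add _ _ _⟩
        | tmul s y =>
          let σ : A →ₐ[k] ((R ⊗[k] A) ⊗[k] A) :=
            (Algebra.TensorProduct.map ((Algebra.TensorProduct.includeRight : A →ₐ[k] (R ⊗[k] A)).comp
              (HopfAlgebra.antipodeAlgHom k A)) (AlgHom.id k A)).comp (Bialgebra.comulAlgHom k A)
          refine ⟨algebraMap (R ⊗[k] A) ((R ⊗[k] A) ⊗[k] A) s * σ y, ?_⟩
          let φ : A ⊗[k] A →ₗ[k] A := LinearMap.mul' k A ∘ₗ (HopfAlgebraStruct.antipode (R := k) (A := A)).rTensor A
          let inc : A →ₐ[k] (R ⊗[k] A) := Algebra.TensorProduct.includeRight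
          have h1 : ∀ w : A ⊗[k] A, Ψ (Algebra.TensorProduct.map (inc.comp (HopfAlgebra.antipodeAlgHom k A)) (AlgHom.id k A) w) =
              TensorProduct.map (inc.toLinearMap ∘ₗ φ) LinearMap.id ((TensorProduct.assoc k A A A).symm
                ((CoalgebraStruct.comul (R := k) (A := A)).lTensor A w)) := fun w => by
            induction w using TensorProduct.induction_on with
            | zero => simp
            | add p q hp hq => simp only [map_add, hp, hq]
            | tmul p q =>
              simp only [Ψ, δ, Algebra.TensorProduct.map_tmul, AlgHom.id_apply, LinearMap.lTensor_tmul,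
                Algebra.TensorProduct.lift_tmul, AlgHom.comp_apply]
              show algebraMap (R ⊗[k] A) ((R ⊗[k] A) ⊗[k] A) _ * _ = _
              rw [show CoalgebraStruct.comul (R := k) q = Bialgebra.comulAlgHom k A q from rfl]
              induction Bialgebra.comulAlgHom k A q using TensorProduct.induction_on with
              | zero => simp
              | add p q hp hq => simp only [map_add, mul_add, TensorProduct.tmul_add, hp, hq]
              | tmul u v => simp [φ, inc, Algebra.TensorProduct.algebraMap_apply]
          rw [map_mul, AlgHom.commutes]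
          show algebraMap (R ⊗[k] A) ((R ⊗[k] A) ⊗[k] A) s * Ψ (Algebra.TensorProduct.map (inc.comp (HopfAlgebra.antipodeAlgHom k A)) (AlgHom.id k A)
            (CoalgebraStruct.comul (R := k) y)) = _
          rw [h1, Coalgebra.coassoc_symm_apply]
          have h2 : ∀ w : A ⊗[k] A, TensorProduct.map (inc.toLinearMap ∘ₗ φ) LinearMap.id
              ((CoalgebraStruct.comul (R := k) (A := A)).rTensor A w) =
              (1 : (R ⊗[k] A)) ⊗ₜ[k] TensorProduct.lid k A ((CoalgebraStruct.counit (R := k) (A := A)).rTensor A w) := fun w => by
            induction w using TensorProduct.induction_on with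
            | zero => simp
            | add p q hp hq => simp only [map_add, TensorProduct.tmul_add, hp, hq]
            | tmul p q =>
              simp only [LinearMap.rTensor_tmul, TensorProduct.map_tmul, LinearMap.id_apply, LinearMap.comp_apply, φ,
                HopfAlgebra.mul_antipode_rTensor_comul_apply, AlgHom.toLinearMap_apply,
                TensorProduct.lid_tmul, Algebra.algebraMap_eq_smul_one, map_smul, map_one, TensorProduct.smul_tmul]
          rw [h2, Coalgebra.rTensor_counit_comul]
          simp [Algebra.TensorProduct.algebraMap_apply]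
      haveI : Module.Finite (R ⊗[k] A) ((R ⊗[k] A) ⊗[k] A) := Module.Finite.of_basis bT
      have hbij : Function.Bijective Ψ :=
        ⟨OrzechProperty.injective_of_surjective_endomorphism Ψ.toLinearMap hsurj, hsurj⟩
      let e : ((R ⊗[k] A) ⊗[k] A) ≃ₐ[(R ⊗[k] A)] ((R ⊗[k] A) ⊗[k] A) := AlgEquiv.ofBijective Ψ hbij
      have hM : ∀ (g : R →ₐ[k] (R ⊗[k] A)), LinearMap.toMatrix bT bT
          (LinearMap.mulLeft (R ⊗[k] A) (Algebra.TensorProduct.map g (AlgHom.id k A) (ρ a))) = M.map g := by
        intro g
        let G : (R ⊗[k] A) →ₐ[k] ((R ⊗[k] A) ⊗[k] A) := Algebra.TensorProduct.map g (AlgHom.id k A)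
        have hG : ∀ (r : R) (t : (R ⊗[k] A)), G (r • t) = g r • G t := fun r t => by
          induction t using TensorProduct.induction_on with
          | zero => simp
          | add p q hp hq => simp only [smul_add, map_add, hp, hq]
          | tmul p q => simp [G, TensorProduct.smul_tmul']
        ext i j
        rw [Matrix.map_apply]
        show _ = g (LinearMap.toMatrix bS bS (LinearMap.mulLeft R (ρ a)) i j)
        rw [LinearMap.toMatrix_apply, LinearMap.toMatrix_apply, LinearMap.mulLeft_apply,
          LinearMap.mulLeft_apply]
        have hb : bT j = G (bS j) := by simp [G, bT, bS]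
        rw [hb, ← map_mul]
        conv_lhs => rw [← bS.sum_repr (ρ a * bS j), map_sum]
        simp only [G] at hG ⊢
        simp only [hG]
        rw [show (∑ x, g (bS.repr (ρ a * bS j) x) • G (bS x)) = ∑ x, g (bS.repr (ρ a * bS j) x) • bT x from
          Finset.sum_congr rfl fun x _ => by rw [show G (bS x) = bT x by simp [G, bT, bS]]]
        rw [bT.repr_sum_self]
      have hcp : (M.map ρ).charpoly = (M.map (Algebra.TensorProduct.includeLeft : R →ₐ[k] (R ⊗[k] A))).charpoly := by
        rw [← hM ρ, ← hM, LinearMap.charpoly_toMatrix, LinearMap.charpoly_toMatrix]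
        show (LinearMap.mulLeft (R ⊗[k] A) (ρ₁ (ρ a))).charpoly = (LinearMap.mulLeft (R ⊗[k] A) (ι₁ (ρ a))).charpoly
        rw [← hΨι, ← LinearEquiv.charpoly_conj e.toLinearEquiv (LinearMap.mulLeft (R ⊗[k] A) (ι₁ (ρ a)))]
        congr 1
        refine LinearMap.ext fun t => ?_
        obtain ⟨t, rfl⟩ := e.toLinearEquiv.surjective t
        rw [LinearEquiv.conj_apply_apply, LinearEquiv.symm_apply_apply]
        exact (map_mul Ψ _ _).symm
      intro i
      have hc := congrArg (fun P => Polynomial.coeff P i) hcp
      rw [show (M.map ρ).charpoly = M.charpoly.map ρ.toRingHom from Matrix.charpoly_map M ρ.toRingHom,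
        show (M.map (Algebra.TensorProduct.includeLeft : R →ₐ[k] (R ⊗[k] A))).charpoly =
          M.charpoly.map (Algebra.TensorProduct.includeLeft : R →ₐ[k] (R ⊗[k] A)).toRingHom from Matrix.charpoly_map M _] at hc
      simp only [Polynomial.coeff_map] at hc
      exact hc
  let B := ↥(GLin.invariants k A R)
  haveI : Algebra.IsIntegral B R := ⟨fun a => by
    obtain ⟨P, hP, hPa, hPc⟩ := hint a
    have hl : P ∈ Polynomial.lifts (algebraMap B R) :=
      (Polynomial.lifts_iff_coeff_lifts P).2 fun i => ⟨⟨_, hPc i⟩, rfl⟩
    obtain ⟨Q, hQ, -, hQm⟩ := Polynomial.lifts_and_natDegree_eq_and_monic hl hP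
    refine ⟨Q, hQm, ?_⟩
    rw [← hQ, Polynomial.eval₂_map] at hPa
    exact hPa⟩
  haveI : Algebra.FiniteType B R := Algebra.FiniteType.of_restrictScalars_finiteType k B R
  haveI hfin : Module.Finite B R := Algebra.IsIntegral.finite
  exact ⟨⟨fg_of_fg_of_fg k B R Algebra.FiniteType.out Module.Finite.fg_top Subtype.val_injective⟩, hfin⟩

end Groth.Agent.S17322
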