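import Groth.Statements.S17323
import Groth.Agent.Lib.ArtAC.Basic

set_option autoImplicit false
universe u v
open CAlg

namespace Groth.Agent.S17323

/-- Let k be an algebraically closed field and A a commutative k-algebra which is finite-dimensional as
a k-vector space. Then A has a largest reduced subalgebra: a k-subalgebra B which is reduced and
contains every reduced k-subalgebra of A; moreover the composite of the inclusion B → A with the
projection A → A/nilradical(A) is bijective. -/
theorem result (k : Type u) [Field k] [IsAlgClosed k]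
    (A : Type v) [CommRing A] [Algebra k A] [Module.Finite k A] :
    ∃ B : Subalgebra k A, IsReduced ↥B ∧ (∀ C : Subalgebra k A, IsReduced ↥C → C ≤ B) ∧
      Function.Bijective ((Ideal.Quotient.mkₐ k (nilradical A)).comp B.val) := by
  haveI := GrothLib.ArtAC.finite_algHom k (A := A)
  obtain ⟨s, hs⟩ := GrothLib.ArtAC.exists_section k (A := A)
  have hinj : Function.Injective s := fun a b h => by rw [← hs a, ← hs b, h]
  refine ⟨s.range, ?_, ?_, ?_, ?_⟩
  · refine ⟨fun x hx => ?_⟩
    obtain ⟨_, c, rfl⟩ := x
    have h1 : IsNilpotent (s c) := hx.map s.range.val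
    obtain ⟨m, hm⟩ := h1
    rw [← map_pow] at hm
    have h2 : c ^ m = 0 := hinj (by rw [hm, map_zero])
    apply Subtype.ext
    change s c = 0
    rw [IsNilpotent.eq_zero ⟨m, h2⟩, map_zero]
  · intro C hC
    haveI : Module.Finite k C := Module.Finite.of_injective C.val.toLinearMap Subtype.val_injective
    haveI := GrothLib.ArtAC.finite_algHom k (A := C)
    let e := AlgEquiv.ofBijective _ (GrothLib.ArtAC.eval_bijective_of_isReduced k (A := C))
    have key : C.val.comp e.symm.toAlgHom = s.comp ((GrothLib.ArtAC.eval k A).comp (C.val.comp e.symm.toAlgHom)) :=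
      GrothLib.ArtAC.pi_algHom_ext k fun c => (hs _).symm
    intro x hx
    refine ⟨GrothLib.ArtAC.eval k A x, ?_⟩
    have h1 := AlgHom.congr_fun key (e ⟨x, hx⟩)
    simpa using h1.symm
  · rintro ⟨_, a, rfl⟩ ⟨_, b, rfl⟩ h
    apply Subtype.ext
    have h1 : s a - s b ∈ RingHom.ker (GrothLib.ArtAC.eval k A) := by
      rw [GrothLib.ArtAC.ker_eval]
      exact Ideal.Quotient.eq.1 h
    rw [RingHom.mem_ker, map_sub, hs, hs, sub_eq_zero] at h1
    rw [h1]
  · intro z
    obtain ⟨a, rfl⟩ := Ideal.Quotient.mk_surjective z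
    refine ⟨⟨s (GrothLib.ArtAC.eval k A a), _, rfl⟩, ?_⟩
    change Ideal.Quotient.mk _ (s (GrothLib.ArtAC.eval k A a)) = Ideal.Quotient.mk _ a
    rw [Ideal.Quotient.eq, ← GrothLib.ArtAC.ker_eval (k := k), RingHom.mem_ker, map_sub, hs, sub_self]

end Groth.Agent.S17323
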