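import Groth.Statements.S17324
import Groth.Agent.Lib.ArtAC.Basic

set_option autoImplicit false
universe u v
open CAlg

namespace Groth.Agent.S17324

/-- (i) ⟺ (ii): let k be an algebraically closed field, A a commutative k-algebra which is
finite-dimensional as a k-vector space and is a local ring with maximal ideal m, and a_1, …, a_m ∈
m. Then A is generated as a k-algebra by a_1, …, a_m if and only if m is generated as an ideal by
a_1, …, a_m. (The printed lemma has a third equivalent condition, that the images of the a_i span
m/m²; its equivalence with (ii) is Nakayama's lemma.) -/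
theorem result (k : Type u) [Field k] [IsAlgClosed k]
    (A : Type v) [CommRing A] [Algebra k A] [Module.Finite k A] [IsLocalRing A]
    (m : ℕ) (a : Fin m → A) (ha : ∀ i, a i ∈ IsLocalRing.maximalIdeal A) :
    Algebra.adjoin k (Set.range a) = ⊤ ↔ Ideal.span (Set.range a) = IsLocalRing.maximalIdeal A := by
  constructor
  · intro h
    refine le_antisymm (Ideal.span_le.2 (Set.range_subset_iff.2 ha)) ?_
    have h1 : ∀ x ∈ Algebra.adjoin k (Set.range a), ∃ α : k,
        x - algebraMap k A α ∈ Ideal.span (Set.range a) := by
      intro x hx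
      induction hx using Algebra.adjoin_induction with
      | mem x hx => exact ⟨0, by rw [map_zero, sub_zero]; exact Ideal.subset_span hx⟩
      | algebraMap r => exact ⟨r, by rw [sub_self]; exact zero_mem _⟩
      | add x y _ _ hx hy =>
        obtain ⟨α, hα⟩ := hx
        obtain ⟨β, hβ⟩ := hy
        exact ⟨α + β, by rw [map_add, add_sub_add_comm]; exact add_mem hα hβ⟩
      | mul x y _ _ hx hy =>
        obtain ⟨α, hα⟩ := hx
        obtain ⟨β, hβ⟩ := hy
        refine ⟨α * β, ?_⟩
        rw [map_mul, show x * y - algebraMap k A α * algebraMap k A β =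
          (x - algebraMap k A α) * y + algebraMap k A α * (y - algebraMap k A β) by ring]
        exact add_mem (Ideal.mul_mem_right _ _ hα) (Ideal.mul_mem_left _ _ hβ)
    intro x hx
    obtain ⟨α, hα⟩ := h1 x (h ▸ Algebra.mem_top)
    by_cases h0 : α = 0
    · simpa [h0] using hα
    · exfalso
      have h2 : algebraMap k A α ∈ IsLocalRing.maximalIdeal A := by
        have := sub_mem hx (Ideal.span_le.2 (Set.range_subset_iff.2 ha) hα)
        rwa [sub_sub_cancel] at this
      exact (IsLocalRing.mem_maximalIdeal _).1 h2 ((IsUnit.mk0 α h0).map (algebraMap k A))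
  · intro h
    haveI : IsArtinianRing A := IsArtinianRing.of_finite k A
    obtain ⟨N, hN⟩ : IsNilpotent (IsLocalRing.maximalIdeal A) := by
      rw [← IsLocalRing.jacobson_eq_maximalIdeal (⊥ : Ideal A) bot_ne_top]
      exact IsArtinianRing.isNilpotent_jacobson_bot
    have key : ∀ j : ℕ, ∀ x : A, ∃ y ∈ Algebra.adjoin k (Set.range a),
        x - y ∈ IsLocalRing.maximalIdeal A ^ j := by
      intro j
      induction j with
      | zero => exact fun x => ⟨0, zero_mem _, by simp⟩
      | succ j ih =>
        intro x
        obtain ⟨α, hα⟩ := GrothLib.ArtAC.exists_sub_mem k (IsLocalRing.maximalIdeal A) x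
        rw [← h] at hα
        obtain ⟨c, hc⟩ := (Ideal.mem_span_range_iff_exists_fun).1 hα
        choose z hz hcz using fun i => ih (c i)
        refine ⟨algebraMap k A α + ∑ i, z i * a i, add_mem (Subalgebra.algebraMap_mem _ _)
          (sum_mem fun i _ => mul_mem (hz i) (Algebra.subset_adjoin ⟨i, rfl⟩)), ?_⟩
        rw [← sub_sub, ← hc, ← Finset.sum_sub_distrib]
        refine Ideal.sum_mem _ fun i _ => ?_
        rw [← sub_mul, pow_succ]
        exact Ideal.mul_mem_mul (hcz i) (ha i)
    refine eq_top_iff.2 fun x _ => ?_
    obtain ⟨y, hy, hxy⟩ := key N x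
    rw [hN, Ideal.zero_eq_bot, Ideal.mem_bot, sub_eq_zero] at hxy
    exact hxy ▸ hy

end Groth.Agent.S17324
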