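import Groth.Statements.S17325
import Groth.Agent.Lib.SigmaLin.AlgClosed
import Mathlib.Algebra.CharP.Lemmas
import Mathlib.Algebra.Module.LinearMap.End
import Mathlib.RingTheory.Adjoin.Basic

set_option autoImplicit false
universe u v
open LieAlg

namespace Groth.Agent.S17325

/-- Let k be an algebraically closed field of characteristic p > 0, V a finite-dimensional k-vector
space and g a nonzero k-linear subspace of End_k(V) closed under the p-th power map u ↦ u^p. Then g
contains a nonzero u with u^p = c u for some c ∈ k, i.e. a line k u closed under p-th powers. (The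
published lemma concerns an abstract nonzero finite-dimensional restricted Lie algebra; this row
concerns subspaces of End_k(V) closed under p-th powers, a class that contains every restricted Lie
subalgebra of gl(V).) -/
theorem result (k : Type u) [Field k] [IsAlgClosed k]
    (p : ℕ) [Fact p.Prime] [CharP k p] (V : Type v) [AddCommGroup V] [Module k V] [FiniteDimensional k V]
    (g : Submodule k (Module.End k V)) (hg : ∀ u ∈ g, u ^ p ∈ g) (hne : g ≠ ⊥) :
    ∃ u ∈ g, u ≠ 0 ∧ ∃ c : k, u ^ p = c • u := by
  classical
  have hp := (Fact.out : p.Prime)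
  obtain ⟨u, hu, hu0⟩ := (Submodule.ne_bot_iff g).1 hne
  have hpow : ∀ m, u ^ p ^ m ∈ g := by
    intro m
    induction m with
    | zero => simpa using hu
    | succ m ih => rw [pow_succ, pow_mul]; exact hg _ ih
  by_cases hnil : ∃ m, u ^ p ^ m = 0
  · have h0 : Nat.find hnil ≠ 0 := fun h => hu0 (by have := Nat.find_spec hnil; simpa [h] using this)
    obtain ⟨m, hm⟩ := Nat.exists_eq_succ_of_ne_zero h0
    refine ⟨u ^ p ^ m, hpow m, Nat.find_min hnil (by omega), 0, ?_⟩
    rw [zero_smul, ← pow_mul, ← pow_succ]
    have := Nat.find_spec hnil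
    rwa [hm] at this
  push Not at hnil
  let A := Algebra.adjoin k ({u} : Set (Module.End k V))
  let W : Submodule k (Module.End k V) := g ⊓ Subalgebra.toSubmodule A
  have hcomm : ∀ a ∈ W, ∀ b ∈ W, Commute a b := fun a ha b hb =>
    Algebra.commute_of_mem_adjoin_singleton_of_commute hb.2
      (Algebra.commute_of_mem_adjoin_singleton_of_commute ha.2 (Commute.refl u)).symm
  let T : W →ₛₗ[frobenius k p] W :=
    { toFun := fun a => ⟨(a : Module.End k V) ^ p, hg _ a.2.1, Subalgebra.pow_mem A a.2.2 p⟩
      map_add' := fun a b => Subtype.ext (by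
        haveI : Nontrivial V := by
          by_contra h
          rw [not_nontrivial_iff_subsingleton] at h
          exact hu0 (LinearMap.ext fun v => Subsingleton.elim _ _)
        haveI : CharP (Module.End k V) p := charP_of_injective_ringHom (algebraMap k (Module.End k V)).injective p
        exact add_pow_char_of_commute (R := Module.End k V) p (hcomm a a.2 b b.2))
      map_smul' := fun c a => Subtype.ext (by simp [smul_pow, frobenius_def]) }
  let e : W := ⟨u, hu, Algebra.self_mem_adjoin_singleton k u⟩
  have hT : ∀ m, ((⇑T)^[m] e : Module.End k V) = u ^ p ^ m := by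
    intro m
    induction m with
    | zero => simp [e]
    | succ m ih =>
      rw [Function.iterate_succ_apply', pow_succ, pow_mul, ← ih]
      rfl
  obtain ⟨v, -, hv0, hv⟩ := GrothLib.SigmaLin.exists_fixed_mem_span_orbit T
    (GrothLib.SigmaLin.langHyp_frobenius (k := k) p).h2 e (fun m h => hnil m (by rw [← hT, h]; rfl))
  exact ⟨v, v.2.1, fun h => hv0 (Subtype.ext h), 1, by rw [one_smul]; exact congrArg Subtype.val hv⟩


end Groth.Agent.S17325
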