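import Groth.Statements.S17326
import Groth.Agent.Lib.ArtAC.Basic
import Mathlib.FieldTheory.Perfect

set_option autoImplicit false
universe u v
open CAlg

namespace Groth.Agent.S17326

/-- Let k be an algebraically closed field of characteristic p > 0, A a commutative k-algebra which is
finite-dimensional as a k-vector space (a finite k-scheme X), and n ≥ 1. The n-th iterated relative
Frobenius morphism X → X^(p^n) is an isomorphism if and only if X is reduced; on rings: the map a ↦
a^(p^n) of A to itself (which is the ring homomorphism underlying the relative Frobenius, the twist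
A^(p^n) having the same underlying ring as A) is bijective if and only if A is reduced. -/
theorem result (k : Type u) [Field k] [IsAlgClosed k]
    (p : ℕ) [Fact p.Prime] [CharP k p] (A : Type v) [CommRing A] [Algebra k A] [Module.Finite k A]
    (n : ℕ) (hn : 1 ≤ n) :
    Function.Bijective (fun a : A => a ^ p ^ n) ↔ IsReduced A := by
  constructor
  · intro h
    have hp : 1 < p ^ n := Nat.one_lt_pow (by omega) (Fact.out : p.Prime).one_lt
    have hit : ∀ j : ℕ, ∀ x : A, x ^ (p ^ n) ^ j = 0 → x = 0 := by
      intro j
      induction j with
      | zero => intro x hx; simpa using hx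
      | succ j ih =>
        intro x hx
        rw [pow_succ', pow_mul] at hx
        have h1 := ih _ hx
        refine h.1 ?_
        change x ^ p ^ n = 0 ^ p ^ n
        rw [h1, zero_pow (by omega)]
    refine ⟨fun x ⟨m, hm⟩ => hit m x ?_⟩
    exact pow_eq_zero_of_le (Nat.lt_pow_self hp).le hm
  · intro hred
    have hb := GrothLib.ArtAC.eval_bijective_of_isReduced k (A := A)
    let e := AlgEquiv.ofBijective _ hb
    haveI : PerfectRing k p := PerfectField.toPerfectRing p
    have hk := bijective_iterateFrobenius k p n
    refine ⟨fun x y h => hb.1 (funext fun f => hk.1 ?_), fun y => ?_⟩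
    · simp only [iterateFrobenius_def]
      have h1 := congrArg f h
      simpa [map_pow] using h1
    · choose c hc using fun f : A →ₐ[k] k => hk.2 (f y)
      obtain ⟨x, hx⟩ := hb.2 c
      refine ⟨x, hb.1 (funext fun f => ?_)⟩
      change f (x ^ p ^ n) = f y
      rw [map_pow, show f x = c f from congrFun hx f, ← iterateFrobenius_def, hc]

end Groth.Agent.S17326
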