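import Groth.Statements.S17327
import Groth.Agent.Lib.HopfAG.Finite
import Mathlib.RingTheory.LocalRing.Basic

set_option autoImplicit false
universe u v
open Hopf

namespace Groth.Agent.S17327

/-- Let k be an algebraically closed field of characteristic p > 0, A a commutative Hopf algebra over k
which is finite-dimensional as a k-vector space (a finite group scheme G = Spec A), I the
augmentation ideal (kernel of the counit) and n ≥ 1. The n-th Frobenius kernel G_n is the closed
subgroup scheme cut out by the ideal generated by the p^n-th powers f^(p^n), f ∈ I; it is trivial,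
i.e. that ideal equals I, if and only if G is reduced. -/
theorem result (k : Type u) [Field k] [IsAlgClosed k]
    (p : ℕ) [Fact p.Prime] [CharP k p] (A : Type v) [CommRing A] [HopfAlgebra k A] [Module.Finite k A]
    (n : ℕ) (hn : 1 ≤ n) :
    Ideal.span ((fun f : A => f ^ p ^ n) '' (RingHom.ker (Bialgebra.counitAlgHom k A) : Set A)) =
      RingHom.ker (Bialgebra.counitAlgHom k A) ↔ IsReduced A := by
  refine GrothLib.HopfAG.span_pow_eq_ker_iff ?_
  calc 2 ≤ p ^ 1 := by rw [pow_one]; exact (Fact.out : p.Prime).two_le
    _ ≤ p ^ n := Nat.pow_le_pow_right (Fact.out : p.Prime).pos hn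

end Groth.Agent.S17327
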