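import Groth.Statements.S17328
import Groth.Agent.Lib.HopfAG.Finite
import Mathlib.RingTheory.LocalRing.Basic

set_option autoImplicit false
universe u v
open Hopf

namespace Groth.Agent.S17328

/-- Let k be an algebraically closed field of characteristic p > 0 and A a commutative Hopf algebra over
k, finite-dimensional as a k-vector space, with augmentation ideal I (kernel of the counit), such
that f^p = 0 for every f ∈ I (the finite group scheme G = Spec A is infinitesimal of height at most
one: A is then a local ring with maximal ideal I). Then the order of G is dim_k A = p^n where n =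
dim_k I/I² is the dimension of the Lie algebra of G. -/
theorem result (k : Type u) [Field k] [IsAlgClosed k]
    (p : ℕ) [Fact p.Prime] [CharP k p] (A : Type v) [CommRing A] [HopfAlgebra k A] [Module.Finite k A]
    (h1 : ∀ f : A, Bialgebra.counitAlgHom k A f = 0 → f ^ p = 0) :
    Module.finrank k A = p ^ Module.finrank k (RingHom.ker (Bialgebra.counitAlgHom k A)).Cotangent := by
  obtain ⟨A', _, _, e, -⟩ := GrothLib.HopfAG.exists_model k A
  let el : A' ≃ₗ[k] A := e.toAlgEquiv.toLinearEquiv
  haveI : Module.Finite k A' := Module.Finite.equiv el.symm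
  have hc : ∀ a, Bialgebra.counitAlgHom k A (e a) = Bialgebra.counitAlgHom k A' a := fun a =>
    CoalgHomClass.counit_comp_apply e a
  obtain ⟨⟨E⟩, hfin⟩ := GrothLib.HopfAG.nonempty_algEquiv_trunc k p (A := A') fun a ha =>
    e.toAlgEquiv.injective (by rw [map_pow, map_zero]; exact h1 _ ((hc a).trans ha))
  rw [← el.finrank_eq, hfin,
    GrothLib.HopfAG.finrank_cotangent_of_algEquiv (Bialgebra.counitAlgHom k A)
      (Fact.out : p.Prime).two_le (e.toAlgEquiv.symm.trans E)]

end Groth.Agent.S17328
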