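import Groth.Statements.S17330
import Groth.Agent.Lib.OrderP.Subgroup
import Groth.Agent.Lib.Hopf.EtaleOrder
import Groth.Agent.Lib.HopfAG.Model
import Mathlib.RingTheory.Unramified.Field
import Mathlib.LinearAlgebra.Dual.Lemmas

set_option autoImplicit false
universe u v
open Hopf

namespace Groth.Agent.S17330

open scoped TensorProduct

/-- Let k be an algebraically closed field of characteristic p > 0 and A a commutative Hopf algebra over
k, finite-dimensional as a k-vector space and not reduced (a non-reduced finite group scheme G =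
Spec A). Then G contains a subgroup scheme isomorphic to μ_p or to α_p: there is a surjective
bialgebra homomorphism from A onto the group algebra of the cyclic group of order p (the Hopf
algebra of μ_p, group elements group-like) or onto k[X]/(X^p) with X primitive (the Hopf algebra of
α_p). -/
theorem result (k : Type u) [Field k] [IsAlgClosed k]
    (p : ℕ) [Fact p.Prime] [CharP k p] (A : Type v) [CommRing A] [HopfAlgebra k A] [Module.Finite k A]
    (hA : ¬ IsReduced A) :
    (∃ f : A →ₐc[k] MonoidAlgebra k (Multiplicative (ZMod p)), Function.Surjective f) ∨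
      (∃ f : A →ₐc[k] AlphaP.A p k, Function.Surjective f) := by
  classical
  obtain ⟨B, _, _, e, _⟩ := GrothLib.HopfAG.exists_model k A
  haveI : Module.Finite k B := Module.Finite.equiv e.symm.toAlgEquiv.toLinearEquiv
  have hB : ¬ IsReduced B := fun h => hA (haveI := h; isReduced_of_injective e.symm e.symm.injective)
  let m := RingHom.ker (Bialgebra.counitAlgHom k B)
  let U : Submodule k B := Submodule.span k {(1 : B)} ⊔ (m * m).restrictScalars k
  have hU : U ≠ ⊤ := fun htop => by
    refine hB ?_
    have hle : m ≤ m ^ 2 := fun y hy => by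
      obtain ⟨a, ha, b, hb, hab⟩ := Submodule.mem_sup.1 (htop ▸ Submodule.mem_top : y ∈ U)
      obtain ⟨c, rfl⟩ := Submodule.mem_span_singleton.1 ha
      have hy0 : Bialgebra.counitAlgHom k B y = 0 := hy
      have hb0 : Bialgebra.counitAlgHom k B b = 0 := Ideal.mul_le_left (I := m) hb
      rw [← hab, map_add, hb0, add_zero, map_smul, map_one, smul_eq_mul, mul_one] at hy0
      rw [← hab, hy0, zero_smul, zero_add, pow_two]
      exact hb
    haveI := GrothLib.Hopf.EtaleOrder.formallyUnramified_of_le_sq (R := k) (A := B) hle
    exact Algebra.FormallyUnramified.isReduced_of_field k B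
  obtain ⟨f, hf0, hf⟩ := Submodule.exists_le_ker_of_lt_top U hU.lt_top
  have h1 : f 1 = 0 := hf (Submodule.mem_sup_left (Submodule.mem_span_singleton_self _))
  let Y : WithConv (B →ₗ[k] k) := WithConv.toConv f
  have hY : GrothLib.OrderP.IsDer Y := by
    intro a b
    have hm : ∀ c : B, c - Coalgebra.counit (R := k) c • (1 : B) ∈ m := fun c => by
      simp [m, RingHom.mem_ker]
    have h0 : f ((a - Coalgebra.counit (R := k) a • (1 : B)) * (b - Coalgebra.counit (R := k) b • (1 : B))) = 0 :=
      hf (Submodule.mem_sup_right (Ideal.mul_mem_mul (hm a) (hm b)))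
    simp only [sub_mul, mul_sub, smul_mul_assoc, mul_smul_comm, one_mul, mul_one, map_sub, map_smul, smul_eq_mul,
      h1, mul_zero, sub_zero] at h0
    show f (a * b) = _
    linear_combination h0
  obtain ⟨Z, hZ, hZ0, hc⟩ := GrothLib.OrderP.exists_special (p := p) hY
    fun h => hf0 (congrArg WithConv.ofConv h)
  rcases hc with hc | hc
  · obtain ⟨g, hg⟩ := GrothLib.OrderP.exists_alphaP hZ hZ0 hc
    exact Or.inr ⟨g.comp (e.symm : A →ₐc[k] B), hg.comp e.symm.surjective⟩
  · obtain ⟨g, hg⟩ := GrothLib.OrderP.exists_mu hZ hZ0 hc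
    exact Or.inl ⟨g.comp (e.symm : A →ₐc[k] B), hg.comp e.symm.surjective⟩


end Groth.Agent.S17330
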