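import Groth.Statements.S17332
import Mathlib.Algebra.Algebra.Pi
import Mathlib.Algebra.Ring.Idempotent
import Mathlib.Algebra.BigOperators.Pi

set_option autoImplicit false
universe u v w
open CAlg

namespace Groth.Agent.S17332

/-- Let k be a field, E and F finite sets, and O(E), O(F) the k-algebras of k-valued functions with
pointwise operations. Then every k-algebra homomorphism u : O(F) → O(E) is pull-back along a unique
map φ : E → F, i.e. u(g) = g ∘ φ for all g. (In the source k is algebraically closed; the printed
argument only uses that k is a field.) -/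
theorem result (k : Type u) [Field k] (E : Type v) [Finite E]
    (F : Type w) [Finite F] (u : (F → k) →ₐ[k] (E → k)) :
    ∃! φ : E → F, ∀ g : F → k, u g = g ∘ φ := by
  classical
  haveI := Fintype.ofFinite F
  have key : ∀ e : E, ∃ i : F, u (Pi.single i 1) e = 1 := by
    intro e
    by_contra hc
    push Not at hc
    have h0 : ∀ i : F, u (Pi.single i 1) e = 0 := by
      intro i
      have h1 : u (Pi.single i 1) e * u (Pi.single i 1) e = u (Pi.single i 1) e := by
        rw [← Pi.mul_apply, ← map_mul, ← Pi.single_mul, one_mul]
      exact (IsIdempotentElem.iff_eq_zero_or_one.1 h1).resolve_right (hc i)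
    have h2 : u 1 e = 0 := by
      rw [show (1 : F → k) = ∑ i, Pi.single i 1 from (Finset.univ_sum_single _).symm, map_sum,
        Finset.sum_apply]
      exact Finset.sum_eq_zero fun i _ => h0 i
    rw [map_one] at h2
    exact one_ne_zero h2
  choose φ hφ using key
  refine ⟨φ, fun g => ?_, fun ψ hψ => ?_⟩
  · funext e
    have h1 : g * Pi.single (φ e) 1 = g (φ e) • (Pi.single (φ e) 1 : F → k) := by
      ext i
      by_cases hi : i = φ e
      · subst hi; simp
      · simp [Pi.single_eq_of_ne hi]
    have h2 := congrArg (fun z => z e) (congrArg u h1)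
    simp only [map_mul, map_smul, Pi.mul_apply, Pi.smul_apply, hφ, mul_one, smul_eq_mul] at h2
    exact h2
  · funext e
    have h1 := congrFun (hψ (Pi.single (φ e) 1)) e
    rw [hφ, Function.comp_apply, Pi.single_apply] at h1
    by_contra hne
    rw [if_neg hne] at h1
    exact one_ne_zero h1

end Groth.Agent.S17332
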