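import Groth.Statements.S17333
import Mathlib.RingTheory.Derivation.Basic
import Mathlib.LinearAlgebra.Prod

set_option autoImplicit false
universe u v w
open CAlg

namespace Groth.Agent.S17333

/-- Let k be a field and A = B × C a decomposable commutative k-algebra. Then the natural map Der(B) ×
Der(C) → Der(A) is bijective: every k-derivation D : A → A is (b, c) ↦ (D₁ b, D₂ c) for a unique
pair of k-derivations D₁ : B → B, D₂ : C → C. Compatibility with brackets is not stated. (The
published statement takes k algebraically closed; this row takes any field.) -/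
theorem result (k : Type u) [Field k] (B : Type v) [CommRing B] [Algebra k B]
    (C : Type w) [CommRing C] [Algebra k C] (D : Derivation k (B × C) (B × C)) :
    ∃! P : Derivation k B B × Derivation k C C, ∀ (b : B) (c : C), D (b, c) = (P.1 b, P.2 c) := by
  have he : D (1, 0) = 0 := by
    have h1 : ((1, 0) : B × C) * (1, 0) = (1, 0) := by simp
    have h2 := D.leibniz (1, 0) (1, 0)
    rw [h1, Prod.ext_iff] at h2
    ext
    · simpa using h2.1
    · simpa using h2.2
  have hf : D (0, 1) = 0 := by
    have h1 : ((0, 1) : B × C) = 1 - (1, 0) := by simp [Prod.ext_iff]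
    rw [h1, map_sub, he, D.map_one_eq_zero, sub_zero]
  have hb : ∀ b : B, (D (b, 0)).2 = 0 := by
    intro b
    have h2 := D.leibniz (1, 0) (b, 0)
    rw [show ((1, 0) : B × C) * (b, 0) = (b, 0) by simp, he] at h2
    simpa using congrArg Prod.snd h2
  have hc : ∀ c : C, (D (0, c)).1 = 0 := by
    intro c
    have h2 := D.leibniz (0, 1) (0, c)
    rw [show ((0, 1) : B × C) * (0, c) = (0, c) by simp, hf] at h2
    simpa using congrArg Prod.fst h2
  let D₁ : Derivation k B B := Derivation.mk'
    ((LinearMap.fst k B C) ∘ₗ (D : (B × C) →ₗ[k] (B × C)) ∘ₗ LinearMap.inl k B C)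
    (fun a b => by
      have h2 := congrArg Prod.fst (D.leibniz ((a, 0) : B × C) (b, 0))
      rw [show ((a, 0) : B × C) * (b, 0) = (a * b, 0) by simp] at h2
      simpa using h2)
  let D₂ : Derivation k C C := Derivation.mk'
    ((LinearMap.snd k B C) ∘ₗ (D : (B × C) →ₗ[k] (B × C)) ∘ₗ LinearMap.inr k B C)
    (fun a b => by
      have h2 := congrArg Prod.snd (D.leibniz ((0, a) : B × C) (0, b))
      rw [show ((0, a) : B × C) * (0, b) = (0, a * b) by simp] at h2
      simpa using h2)
  have key : ∀ b c, D (b, c) = (D₁ b, D₂ c) := by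
    intro b c
    rw [show ((b, c) : B × C) = (b, 0) + (0, c) by simp, map_add]
    ext
    · simp [D₁, hc]
    · simp [D₂, hb]
  refine ⟨(D₁, D₂), key, ?_⟩
  rintro ⟨P, Q⟩ hP
  ext b
  · have := congrArg Prod.fst ((hP b 0).symm.trans (key b 0))
    simpa using this
  · have := congrArg Prod.snd ((hP 0 b).symm.trans (key 0 b))
    simpa using this

end Groth.Agent.S17333
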