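import Groth.Statements.S17334
import Mathlib.RingTheory.Artinian.Ring
import Mathlib.RingTheory.Artinian.Module
import Mathlib.RingTheory.Nilpotent.Basic

set_option autoImplicit false
universe u v
open CAlg

namespace Groth.Agent.S17334

/-- Let k be a field and A a nonzero commutative k-algebra which is finite-dimensional as a k-vector
space. Then A is indecomposable (no decomposition as a product of two nonzero rings, i.e. no
idempotent other than 0 and 1) if and only if A is a local ring. (In the source k is algebraically
closed and the lemma adds that the maximal ideal is then the nilradical, is nilpotent, and has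
residue field k; the equivalence itself uses only that k is a field, and the zero algebra is
excluded here explicitly.) -/
theorem result (k : Type u) [Field k]
    (A : Type v) [CommRing A] [Algebra k A] [Module.Finite k A] [Nontrivial A] :
    (∀ e : A, IsIdempotentElem e → e = 0 ∨ e = 1) ↔ IsLocalRing A := by
  haveI : IsArtinianRing A := IsArtinianRing.of_finite k A
  constructor
  · intro h
    have key : ∀ x : A, ¬ IsUnit x → IsNilpotent x := by
      intro x hx
      obtain ⟨n, hn⟩ := IsArtinian.monotone_stabilizes (R := A) (M := A)
        ⟨fun n => OrderDual.toDual (Ideal.span {x ^ n}), fun a b hab =>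
          Ideal.span_singleton_le_span_singleton.2 (pow_dvd_pow x hab)⟩
      have h2 : x ^ n ∈ Ideal.span {x ^ (n + n + 1)} :=
        (OrderDual.toDual_inj.1 (hn (n + n + 1) (by omega))) ▸ Ideal.mem_span_singleton_self _
      obtain ⟨r, hr⟩ := Ideal.mem_span_singleton'.1 h2
      have he : IsIdempotentElem (r * x ^ (n + 1)) := by
        show r * x ^ (n + 1) * (r * x ^ (n + 1)) = r * x ^ (n + 1)
        calc r * x ^ (n + 1) * (r * x ^ (n + 1)) = r * (r * x ^ (n + n + 1)) * x := by ring
          _ = r * x ^ n * x := by rw [hr]
          _ = r * x ^ (n + 1) := by ring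
      rcases h _ he with h0 | h1
      · refine ⟨n, ?_⟩
        calc x ^ n = r * x ^ (n + n + 1) := hr.symm
          _ = r * x ^ (n + 1) * x ^ n := by ring
          _ = 0 := by rw [h0, zero_mul]
      · exact absurd (IsUnit.of_mul_eq_one (r * x ^ n) (by rw [← h1]; ring)) hx
    refine IsLocalRing.of_nonunits_add fun a b ha hb => ?_
    exact ((Commute.all a b).isNilpotent_add (key a ha) (key b hb)).not_isUnit
  · intro hloc e he
    rcases IsLocalRing.isUnit_or_isUnit_one_sub_self e with h | h
    · exact Or.inr ((IsIdempotentElem.iff_eq_one_of_isUnit h).1 he)
    · exact Or.inl (sub_eq_self.1 ((IsIdempotentElem.iff_eq_one_of_isUnit h).1 he.one_sub))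

end Groth.Agent.S17334
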