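import Groth.Statements.S17336
import Groth.Agent.Lib.ArtAC.Basic

set_option autoImplicit false
universe u v
open CAlg

namespace Groth.Agent.S17336

/-- Let k be an algebraically closed field and A a commutative k-algebra which is finite-dimensional as
a k-vector space (a finite scheme X = Spec A with largest reduced subscheme X_red = Spec
(A/nilradical A) and immersion i : X_red → X). Then there is a unique morphism r : X → X_red with r
∘ i = id; on rings: the projection A → A/nilradical(A) admits exactly one section that is a
k-algebra homomorphism. -/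
theorem result (k : Type u) [Field k]
    [IsAlgClosed k] (A : Type v) [CommRing A] [Algebra k A] [Module.Finite k A] :
    ∃! s : (A ⧸ nilradical A) →ₐ[k] A,
      (Ideal.Quotient.mkₐ k (nilradical A)).comp s = AlgHom.id k (A ⧸ nilradical A) := by
  haveI := GrothLib.ArtAC.finite_algHom k (A := A)
  let ev := GrothLib.ArtAC.eval k A
  have hker := GrothLib.ArtAC.ker_eval k (A := A)
  let q : (A ⧸ nilradical A) →ₐ[k] ((A →ₐ[k] k) → k) :=
    Ideal.Quotient.liftₐ _ ev (fun a ha => by rw [← hker] at ha; exact ha)
  obtain ⟨s, hs⟩ := GrothLib.ArtAC.exists_section k (A := A)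
  have hsec : (Ideal.Quotient.mkₐ k (nilradical A)).comp (s.comp q) = AlgHom.id k _ := by
    refine AlgHom.ext fun z => ?_
    obtain ⟨a, rfl⟩ := Ideal.Quotient.mk_surjective z
    change Ideal.Quotient.mk _ (s (ev a)) = Ideal.Quotient.mk _ a
    rw [Ideal.Quotient.eq, ← hker, RingHom.mem_ker, map_sub, hs, sub_self]
  refine ⟨s.comp q, hsec, fun t ht => ?_⟩
  refine AlgHom.ext fun z => ?_
  -- both sections factor through `k^E`
  let p : ((A →ₐ[k] k) → k) →ₐ[k] A ⧸ nilradical A := (Ideal.Quotient.mkₐ k _).comp s
  have hz : z = p (q z) := (AlgHom.congr_fun hsec z).symm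
  have key : t.comp p = s := GrothLib.ArtAC.pi_algHom_ext k fun c => by
    have h1 : Ideal.Quotient.mk (nilradical A) (t (p c)) = Ideal.Quotient.mk (nilradical A) (s c) :=
      AlgHom.congr_fun ht (p c)
    have h2 : q (Ideal.Quotient.mk (nilradical A) (t (p c))) = q (Ideal.Quotient.mk _ (s c)) := by
      rw [h1]
    exact h2
  conv_lhs => rw [hz]
  exact AlgHom.congr_fun key (q z)

end Groth.Agent.S17336
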