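import Groth.Statements.S17337
import Groth.Agent.Lib.PLie.Restricted
import Mathlib.LinearAlgebra.Matrix.ToLin
import Mathlib.LinearAlgebra.FiniteDimensional.Basic

set_option autoImplicit false
universe u v
open PLie

namespace Groth.Agent.S17337

/-- Let k be a field of characteristic p > 0 and (L, x ↦ x^[p]) a finite-dimensional restricted Lie
algebra over k. Then L is isomorphic to a restricted Lie subalgebra of gl_n(k) for some n: there is
an injective k-linear map e : L → M_n(k) with e[x, y] = e(x)e(y) − e(y)e(x) and e(x^[p]) = e(x)^p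
for all x, y. (The published statement takes k algebraically closed; this row takes any field of
characteristic p.) -/
theorem result (k : Type u) [Field k] (p : ℕ) [Fact p.Prime] [CharP k p]
    (L : Type v) [LieRing L] [LieAlgebra k L] [Module.Finite k L] (φ : PLie.PMap k p L) :
    ∃ (n : ℕ) (e : L →ₗ[k] Matrix (Fin n) (Fin n) k), PLie.IsPSubOfAssoc φ e := by
  classical
  let b := Module.finBasis k L
  let B := GrothLib.PLie.rbasis b φ
  let n := Fintype.card (Fin (Module.finrank k L) → Fin p)
  let B' := B.reindex (Fintype.equivFin _)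
  let Φ : GrothLib.PLie.RUEA φ →ₐ[k] Matrix (Fin n) (Fin n) k :=
    (LinearMap.toMatrixAlgEquiv B').toAlgHom.comp (Algebra.lmul k (GrothLib.PLie.RUEA φ))
  have hΦ : Function.Injective Φ :=
    (LinearMap.toMatrixAlgEquiv B').injective.comp Algebra.lmul_injective
  refine ⟨n, Φ.toLinearMap ∘ₗ GrothLib.PLie.rι φ, hΦ.comp (GrothLib.PLie.rι_injective b φ), fun x y => ?_, fun x => ?_⟩
  · simp only [LinearMap.comp_apply, AlgHom.toLinearMap_apply, GrothLib.PLie.rι_lie, map_sub, map_mul]
  · simp only [LinearMap.comp_apply, AlgHom.toLinearMap_apply, GrothLib.PLie.rι_pmap, map_pow]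


end Groth.Agent.S17337
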