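import Groth.Statements.S17342
import Groth.Agent.Lib.PlaneBlow28.StrictDeg

set_option autoImplicit false
universe u
open CategoryTheory CategoryTheory.Limits AlgebraicGeometry
open LocPos

namespace Groth.Agent.S17342

/-- Let k be an algebraically closed field of characteristic zero, X a smooth projective surface over k
(irreducible, proper, smooth of dimension 2, with an ample invertible module), L a nef invertible
O_X-module, x a closed point with ideal sheaf m_x and f : Y → X a blow-up of X at x over k, with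
exceptional ideal I_E = m_x · O_Y. For a real number ε ≥ 0 the following are equivalent: (a) the
ℝ-divisor class f^*L − ε E is nef, i.e. deg(f^*L|_{C'}) + ε · deg(I_E|_{C'}) ≥ 0 for every integral
one-dimensional closed subscheme C' ⊆ Y, degrees being χ(M|_{C'}) − χ(O_{C'}); (b) for every
integral one-dimensional closed subscheme C ⊆ X passing through x and every n such that the stalk at
x of the ideal of C is contained in the n-th power of the maximal ideal of O_{X,x} (that is,
mult_x(C) ≥ n), one has ε · n ≤ deg(L|_C). In other words the Seshadri constant of L at x, the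
supremum of the ε with f^*L − εE nef, is the infimum of (L·C)/mult_x(C) over the integral curves C
through x. -/
theorem result (k : Type u) [Field k] [IsAlgClosed k] [CharZero k]
    (X : Scheme.{u}) [X.Over (Spec (CommRingCat.of k))] [IsProper (X ↘ (Spec (CommRingCat.of k)))]
    [Smooth (X ↘ (Spec (CommRingCat.of k)))] [IrreducibleSpace X] (hdim : topologicalKrullDim X = 2)
    (H : X.Modules) (hH : CohB1.IsAmple H)
    (L : X.Modules) (hL : PicF.IsInvertible L)
    (hnef : (∀ (C : Scheme.{u}) (i : C ⟶ X) [IsClosedImmersion i], IsIntegral C → topologicalKrullDim C = 1 →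
      0 ≤ Pic13.curveDeg k (i ≫ (X ↘ (Spec (CommRingCat.of k)))) ((Scheme.Modules.pullback i).obj L)))
    (x : X) (hx : IsClosed ({x} : Set X))
    (Y : Scheme.{u}) [Y.Over (Spec (CommRingCat.of k))] (f : Y ⟶ X) (hf : f ≫ (X ↘ (Spec (CommRingCat.of k))) = Y ↘ (Spec (CommRingCat.of k)))
    (hbl : BlowUp.IsBlowUp f (W4c2seshadripos.pointIdeal x hx))
    (ε : ℝ) (hε : 0 ≤ ε) :
    (∀ (C : Scheme.{u}) (i : C ⟶ Y) [IsClosedImmersion i], IsIntegral C → topologicalKrullDim C = 1 →
      (0 : ℝ) ≤ (Pic13.curveDeg k (i ≫ (Y ↘ (Spec (CommRingCat.of k))))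
          ((Scheme.Modules.pullback i).obj ((Scheme.Modules.pullback f).obj L)) : ℝ) +
        ε * (Pic13.curveDeg k (i ≫ (Y ↘ (Spec (CommRingCat.of k))))
          ((Scheme.Modules.pullback i).obj
            (ClSub.idealMod (BlowUp.exceptional f (W4c2seshadripos.pointIdeal x hx)))) : ℝ)) ↔
    (∀ (C : Scheme.{u}) (j : C ⟶ X) [IsClosedImmersion j], IsIntegral C → topologicalKrullDim C = 1 →
      x ∈ Set.range (fun c : C => j.base c) → ∀ n : ℕ,
        (∀ (V : X.affineOpens) (hxV : x ∈ (V : X.Opens)),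
          (j.ker.ideal V).map (X.presheaf.germ V x hxV).hom ≤ (IsLocalRing.maximalIdeal (X.presheaf.stalk x)) ^ n) →
        ε * (n : ℝ) ≤ (Pic13.curveDeg k (j ≫ (X ↘ (Spec (CommRingCat.of k)))) ((Scheme.Modules.pullback j).obj L) : ℝ)) := by
  have hreg := GrothLib.HodgeIndex.regular_of_smooth k (X := X)
  haveI : ∀ y : X, _root_.IsReduced (X.presheaf.stalk y) := fun y => by
    haveI := hreg y
    haveI := GrothLib.CMFree.isDomain_of_isRegularLocalRing (X.presheaf.stalk y)
    infer_instance
  haveI : IsReduced X := isReduced_of_isReduced_stalk X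
  haveI : IsIntegral X := isIntegral_of_irreducibleSpace_of_isReduced _
  have hdim2 : topologicalKrullDim X = ((2 : ℕ) : WithBot ℕ∞) := hdim
  have hbl' : BlowUp.IsBlowUp f (Scheme.IdealSheafData.vanishingIdeal ⟨{x}, hx⟩) := hbl
  obtain ⟨hint, hnoeth, hfp, -⟩ := GrothLib.PlaneBlow28.blow_setup k hdim2 hx hbl'
  haveI : IsProper (Y ↘ (Spec (CommRingCat.of k))) := by rw [← hf]; infer_instance
  haveI := GrothLib.Euler.isNoetherian_of_proper (X := X) k
  have hdY := (GrothLib.PlaneBlow28.dim_blow k hdim2 hx hbl').le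
  obtain ⟨hE, -, hpp, hpe, hee⟩ := GrothLib.BlowPt28.main k hreg hx
    (GrothLib.PlaneBlow28.dim_stalk_pt k hdim2 hx) hbl' hf
  rw [GrothLib.BlowPt28.ptDeg_eq_one k hx, Nat.cast_one] at hee
  have hL' : PicF.IsInvertible ((Scheme.Modules.pullback f).obj L) := GrothLib.Ample.isInvertible_pullback f hL
  have hcL : GrothLib.Cube.clsMod hL' = GrothLib.Cube.pull f (GrothLib.Cube.clsMod hL) :=
    GrothLib.Cube.clsMod_pullback f hL
  have degY : ∀ (C : Scheme.{u}) (i : C ⟶ Y) [IsClosedImmersion i], topologicalKrullDim C = 1 →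
      ∀ hI : PicF.IsInvertible (ClSub.idealMod i.ker),
      Pic13.curveDeg k (i ≫ (Y ↘ (Spec (CommRingCat.of k))))
          ((Scheme.Modules.pullback i).obj ((Scheme.Modules.pullback f).obj L)) =
        - GrothLib.HodgeIndex.isect k (GrothLib.Cube.pull f (GrothLib.Cube.clsMod hL)) (GrothLib.Cube.clsMod hI) ∧
      Pic13.curveDeg k (i ≫ (Y ↘ (Spec (CommRingCat.of k))))
          ((Scheme.Modules.pullback i).obj (ClSub.idealMod (BlowUp.exceptional f (W4c2seshadripos.pointIdeal x hx)))) =
        - GrothLib.HodgeIndex.isect k (GrothLib.Cube.clsMod hE) (GrothLib.Cube.clsMod hI) := fun C i _ hd hI =>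
    ⟨(GrothLib.PlaneBlow28.curveDeg_eq_neg_isect k i hd.le hL' hI).trans (by rw [hcL]),
      GrothLib.PlaneBlow28.curveDeg_eq_neg_isect k i hd.le hE hI⟩
  -- the numbers attached to a curve and its strict transform
  have data : ∀ (D : X.IdealSheafData) (hDi : IsIntegral D.subscheme)
      (hDd : topologicalKrullDim (D.support : Set X) = 1) (D' : Y.IdealSheafData) (hD'i : IsIntegral D'.subscheme),
      (haveI := hDi; haveI := hD'i; f (GrothLib.DivPart.gpt D') = GrothLib.DivPart.gpt D) →
      ∀ m : ℕ, D ≤ Scheme.IdealSheafData.vanishingIdeal ⟨{x}, hx⟩ ^ m →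
        ¬ D ≤ Scheme.IdealSheafData.vanishingIdeal ⟨{x}, hx⟩ ^ (m + 1) →
      ∃ (hI : PicF.IsInvertible (ClSub.idealMod D)) (hI' : PicF.IsInvertible (ClSub.idealMod D')),
        GrothLib.HodgeIndex.isect k (GrothLib.Cube.pull f (GrothLib.Cube.clsMod hL)) (GrothLib.Cube.clsMod hI') =
          GrothLib.HodgeIndex.isect k (GrothLib.Cube.clsMod hL) (GrothLib.Cube.clsMod hI) ∧
        GrothLib.HodgeIndex.isect k (GrothLib.Cube.clsMod hE) (GrothLib.Cube.clsMod hI') = m := by
    intro D hDi hDd D' hD'i hg m hm hm'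
    obtain ⟨hI, hI', hc⟩ := GrothLib.PlaneBlow28.strict_cls k hdim2 hx hbl' hDi hDd hD'i hg m hm hm'
    refine ⟨hI, hI', ?_, ?_⟩
    · have h := hpp (GrothLib.Cube.clsMod hL) (GrothLib.Cube.clsMod hI)
      rw [hc, GrothLib.HodgeIndex.isect_mul_right k hdY, GrothLib.HodgeIndex.isect_pow_right k hdY] at h
      have h0 := hpe (GrothLib.Cube.clsMod hL)
      erw [h0] at h
      linarith
    · have h := hpe (GrothLib.Cube.clsMod hI)
      rw [GrothLib.HodgeIndex.isect_comm, hc, GrothLib.HodgeIndex.isect_mul_right k hdY,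
        GrothLib.HodgeIndex.isect_pow_right k hdY] at h
      erw [hee] at h
      linarith
  constructor
  · intro ha C j _ hCint hCd hxC n hn
    haveI := hCint
    obtain ⟨hi, -, hd⟩ := GrothLib.PlaneBlow28.ker_curve j
    obtain ⟨D', hD'i, hD'd, hg⟩ := GrothLib.PlaneBlow28.exists_strict k hdim2 hx hbl' hf j.ker hi (hd hCd)
    obtain ⟨m, hm, hm'⟩ := GrothLib.PlaneBlow28.exists_mult k hdim2 hx j.ker hi (hd hCd)
    obtain ⟨hI, hI', e1, e2⟩ := data j.ker hi (hd hCd) D' hD'i hg m hm hm'
    have hnm : n ≤ m := by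
      by_contra hlt
      refine hm' (le_trans ((GrothLib.PlaneBlow28.le_pow_iff hx j.ker n).2 hn) ?_)
      refine GrothLib.DivPart.le_of_stalkIdeal fun y => ?_
      show GrothLib.DivPart.stalkHom y _ ≤ GrothLib.DivPart.stalkHom y _
      rw [map_pow, map_pow]
      exact Ideal.pow_le_pow_right (by omega)
    have hI'' : PicF.IsInvertible (ClSub.idealMod D'.subschemeι.ker) := by rw [D'.ker_subschemeι]; exact hI'
    have hd' := GrothLib.SurfRR28.dim_subscheme_eq hD'd
    obtain ⟨f1, f2⟩ := degY D'.subscheme D'.subschemeι hd' hI''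
    have hc'' : GrothLib.Cube.clsMod hI'' = GrothLib.Cube.clsMod hI' := by
      rw [GrothLib.Cube.clsMod_eq_iff]; exact ⟨eqToIso (by rw [D'.ker_subschemeι])⟩
    have h := ha D'.subscheme D'.subschemeι hD'i hd'
    rw [f1, f2, hc'', e1, e2] at h
    rw [GrothLib.PlaneBlow28.curveDeg_eq_neg_isect k j hCd.le hL hI]
    push_cast at h ⊢
    have : ε * (n : ℝ) ≤ ε * (m : ℝ) := mul_le_mul_of_nonneg_left (by exact_mod_cast hnm) hε
    linarith
  · intro hb C i _ hCint hCd
    haveI := hCint
    obtain ⟨hi, -, hd⟩ := GrothLib.PlaneBlow28.ker_curve i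
    rcases GrothLib.PlaneBlow28.curve_cases k hdim2 hx hbl' hf i.ker hi (hd hCd) with hEq | ⟨D, hDi, hDd, hg⟩
    · have hI : PicF.IsInvertible (ClSub.idealMod i.ker) := by rw [hEq]; exact hE
      obtain ⟨f1, f2⟩ := degY C i hCd hI
      have hc : GrothLib.Cube.clsMod hI = GrothLib.Cube.clsMod hE := by
        rw [GrothLib.Cube.clsMod_eq_iff]; exact ⟨eqToIso (by rw [hEq])⟩
      rw [f1, f2, hc]
      erw [hpe, hee]
      push_cast
      linarith
    · obtain ⟨m, hm, hm'⟩ := GrothLib.PlaneBlow28.exists_mult k hdim2 hx D hDi hDd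
      obtain ⟨hI, hI', e1, e2⟩ := data D hDi hDd i.ker hi hg m hm hm'
      obtain ⟨f1, f2⟩ := degY C i hCd hI'
      rw [f1, f2, e1, e2]
      have hd' := GrothLib.SurfRR28.dim_subscheme_eq hDd
      have hI'' : PicF.IsInvertible (ClSub.idealMod D.subschemeι.ker) := by rw [D.ker_subschemeι]; exact hI
      have hc'' : GrothLib.Cube.clsMod hI'' = GrothLib.Cube.clsMod hI := by
        rw [GrothLib.Cube.clsMod_eq_iff]; exact ⟨eqToIso (by rw [D.ker_subschemeι])⟩
      have hdeg := GrothLib.PlaneBlow28.curveDeg_eq_neg_isect k D.subschemeι hd'.le hL hI''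
      rw [hc''] at hdeg
      push_cast
      rcases Nat.eq_zero_or_pos m with hm0 | hm0
      · have h := hnef D.subscheme D.subschemeι hDi hd'
        rw [hdeg] at h
        subst hm0
        have : (0 : ℝ) ≤ ((- GrothLib.HodgeIndex.isect k (GrothLib.Cube.clsMod hL) (GrothLib.Cube.clsMod hI) : ℤ) : ℝ) := by
          exact_mod_cast h
        push_cast at this ⊢
        linarith
      · have hxD : x ∈ Set.range (fun c : D.subscheme => D.subschemeι.base c) := by
          show x ∈ Set.range D.subschemeι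
          rw [D.range_subschemeι]
          by_contra hxn
          have h1 := GrothLib.DivPart.stalkIdeal_mono hm x
          rw [(GrothLib.CartierDescent.stalkIdeal_eq_top_iff D x).2 hxn] at h1
          refine (GrothLib.CartierDescent.stalkIdeal_eq_top_iff _ x).1 (top_unique h1) ?_
          obtain ⟨p, rfl⟩ : ∃ p, m = p + 1 := ⟨m - 1, by omega⟩
          by_contra h2
          have h3 : (GrothLib.CartierDescent.stalkIdeal (Scheme.IdealSheafData.vanishingIdeal ⟨{x}, hx⟩) x) ^ (p + 1) = ⊤ := by
            rw [← top_unique h1]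
            exact (map_pow (GrothLib.DivPart.stalkHom x) _ _).symm
          rw [GrothLib.ExcP1.stalkIdeal_vanishingIdeal hx] at h3
          exact (IsLocalRing.maximalIdeal.isMaximal _).ne_top (top_unique (h3 ▸ Ideal.pow_le_self (by omega)))
        have h := hb D.subscheme D.subschemeι hDi hd' hxD m fun V hxV => by
          rw [D.ker_subschemeι]
          exact (GrothLib.PlaneBlow28.le_pow_iff hx D m).1 hm V hxV
        rw [hdeg] at h
        push_cast at h ⊢
        linarith

end Groth.Agent.S17342
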