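import Groth.Statements.S17352
import Groth.Agent.Lib.AzInvol.Types

set_option autoImplicit false
universe u v w w'
open scoped TensorProduct
open AzInv

namespace Groth.Agent.S17352

/-- (b) ⇒ (a): let `R` be a commutative ring with an involution `lam` whose fixed ring is exactly `S`;
assume that units have square roots locally for the etale topology of `S` (every unit of an etale
`S`-algebra becomes a square in some etale faithfully flat extension), and that `2` is a unit in
`S`, or `R` is a quadratic etale `S`-algebra, or `n` is odd. Let `A` and `A'` be Azumaya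
`R`-algebras of the same degree `n ≥ 1` with `lam`-involutions `t` and `t'`. If `t` and `t'` have
the same type, i.e. for some positive sizes the matrix algebras over `A` and `A'` with the
involutions induced by `t` and `t'` (apply the involution entrywise, then transpose) become
isomorphic as `R`-algebras with involution after an etale faithfully flat base change of `S`, then
`(A, t)` and `(A', t')` themselves become isomorphic as `R`-algebras with involution after an etale
faithfully flat base change of `S`. (The source states this for an exact quotient of a locally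
ringed topos with involution; the row is the affine case `Spec R → Spec S`, with etale coverings of
`Spec S` replaced by a single etale faithfully flat `S`-algebra.) -/
theorem result (S : Type u) (R : Type v) [CommRing S] [CommRing R] [Algebra S R]
    (lam : R ≃ₐ[S] R) (hlam : ∀ r, lam (lam r) = r) (hfix : RInv.IsFixedRing S R lam.toRingEquiv)
    (hsq : ∀ (S₁ : Type u) [CommRing S₁] [Algebra S S₁] [Algebra.Etale S S₁] (x : S₁ˣ),
      ∃ (S₂ : Type u) (_ : CommRing S₂) (_ : Algebra S₁ S₂) (_ : Algebra.Etale S₁ S₂)
        (_ : Module.FaithfullyFlat S₁ S₂) (y : S₂), y * y = algebraMap S₁ S₂ ↑x)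
    (n : ℕ) (hn : 0 < n) (hcond : IsUnit (2 : S) ∨ RInv.IsQuadEtale S R ∨ Odd n)
    (A : Type w) [Ring A] [Algebra S A] [Algebra R A] [IsScalarTower S R A]
    (A' : Type w') [Ring A'] [Algebra S A'] [Algebra R A'] [IsScalarTower S R A']
    (hA : AzInv.IsAzumayaDeg R A n) (hA' : AzInv.IsAzumayaDeg R A' n)
    (t : AzInv.LamInv R A lam) (t' : AzInv.LamInv R A' lam) (h : AzInv.SameType S lam t t') :
    AzInv.LocIsoEt S lam t t' := by
  have hAz := hA.1
  have hAz' := hA'.1
  refine GrothLib.AzInvol.locIsoEt_of_types hn hA hA' fun p => ?_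
  by_cases hp : GrothLib.AzInvol.SplitAt lam p ∨ Odd n
  · exact Or.inl ⟨GrothLib.AzInvol.mem_lOne hlam hfix hsq hn hA.2 hp,
      GrothLib.AzInvol.mem_lOne hlam hfix hsq hn hA'.2 hp⟩
  push Not at hp
  obtain ⟨hns, hev⟩ := hp
  have h2 : IsUnit (2 : S) := by
    rcases hcond with h2 | hq | ho
    · exact h2
    · exact absurd (GrothLib.AzInvol.splitAt_of_isQuadEtale hlam hfix hq p) hns
    · exact absurd ho hev
  obtain ⟨q, -, -⟩ := GrothLib.AzInvol.exists_ramified_of_not_splitAt hlam hfix hns
  obtain ⟨m, m', hm, hm', hloc⟩ := h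
  have hB := GrothLib.AzInvol.isAzumayaDeg_matrix hA m hm
  have hB' := GrothLib.AzInvol.isAzumayaDeg_matrix hA' m' hm'
  have := hB.1
  have := hB'.1
  have hmm : m * n = m' * n :=
    GrothLib.AzInvol.eq_of_locIsoEt (Nat.mul_pos hm hn) hloc hB.2 hB'.2 q
  rcases GrothLib.AzInvol.mem_lOne_or_lAlt hlam hfix h2 hn hA.2 (t := t) p with h1 | ⟨k, hk, h1⟩ <;>
    rcases GrothLib.AzInvol.mem_lOne_or_lAlt hlam hfix h2 hn hA'.2 (t := t') p with h1' | ⟨k', hk', h1'⟩
  · exact Or.inl ⟨h1, h1'⟩
  · have e1 := GrothLib.AzInvol.locus_subset_of_locIsoEt hloc _ _ (GrothLib.AzInvol.lOne_matrix m h1)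
    rw [hmm] at e1
    exact (GrothLib.AzInvol.not_mem_lOne_and_lAlt hlam hfix h2 (Nat.mul_pos hm' hn)
      (by rw [← hk']; ring) hB'.2 hns e1 (GrothLib.AzInvol.lAlt_matrix m' h1')).elim
  · have e1 := GrothLib.AzInvol.locus_subset_of_locIsoEt hloc _ _ (GrothLib.AzInvol.lAlt_matrix m h1)
    exact (GrothLib.AzInvol.not_mem_lOne_and_lAlt hlam hfix h2 (Nat.mul_pos hm' hn)
      (by rw [← hmm, ← hk]; ring) hB'.2 hns (GrothLib.AzInvol.lOne_matrix m' h1') e1).elim
  · obtain rfl : k = k' := by omega
    exact Or.inr ⟨k, hk, h1, h1'⟩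

end Groth.Agent.S17352
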