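import Groth.Statements.S17353
import Groth.Agent.Lib.AzInvol.Types

set_option autoImplicit false
universe u v w
open scoped TensorProduct
open AzInv

namespace Groth.Agent.S17353

/-- Let `R` be a commutative ring with an involution `lam` whose fixed ring is exactly `S`, and assume
that units have square roots locally for the etale topology of `S` (every unit of an etale
`S`-algebra becomes a square in some etale faithfully flat extension). Let `A` be an Azumaya
`R`-algebra of odd degree `n` with a `lam`-involution `t`. Then `t` has the same type as the
involution `lam` of `R` itself (the neutral type): for some positive sizes `m`, `m'` the matrix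
algebras of size `m` over `A` and of size `m'` over `R`, with the involutions induced by `t` and by
`lam`, become isomorphic as `R`-algebras with involution after an etale faithfully flat base change
of `S`. (The source states this for an exact quotient of a locally ringed topos with involution; the
row is the affine case `Spec R → Spec S`, with etale coverings of `Spec S` replaced by a single
etale faithfully flat `S`-algebra.) -/
theorem result (S : Type u) (R : Type v) [CommRing S] [CommRing R] [Algebra S R]
    (lam : R ≃ₐ[S] R) (hlam : ∀ r, lam (lam r) = r) (hfix : RInv.IsFixedRing S R lam.toRingEquiv)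
    (hsq : ∀ (S₁ : Type u) [CommRing S₁] [Algebra S S₁] [Algebra.Etale S S₁] (x : S₁ˣ),
      ∃ (S₂ : Type u) (_ : CommRing S₂) (_ : Algebra S₁ S₂) (_ : Algebra.Etale S₁ S₂)
        (_ : Module.FaithfullyFlat S₁ S₂) (y : S₂), y * y = algebraMap S₁ S₂ ↑x)
    (A : Type w) [Ring A] [Algebra S A] [Algebra R A] [IsScalarTower S R A]
    (n : ℕ) (hn : Odd n) (hA : AzInv.IsAzumayaDeg R A n) (t : AzInv.LamInv R A lam) :
    AzInv.SameType S lam t (AzInv.LamInv.self lam hlam) := by
  have hAz := hA.1
  exact GrothLib.AzInvol.sameType_self_of_forall hlam hn.pos hA fun p =>
    GrothLib.AzInvol.mem_lOne hlam hfix hsq hn.pos hA.2 (Or.inr hn)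

end Groth.Agent.S17353
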