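import Groth.Statements.S17357
import Groth.Agent.Lib.AzMod.Skolem
import Mathlib.RingTheory.Etale.Pi
import Mathlib.RingTheory.Spectrum.Prime.RingHom
import Mathlib.RingTheory.Flat.FaithfullyFlat.Algebra

set_option autoImplicit false
universe u v w
open scoped TensorProduct
open AzInv

namespace Groth.Agent.S17357

theorem faithfullyFlat_pi_away {S : Type u} [CommRing S] {ι : Type} [Finite ι] (g : ι → S)
    (hg : ∀ p : PrimeSpectrum S, ∃ i, g i ∉ p.asIdeal) :
    Module.FaithfullyFlat S (∀ i, Localization.Away (g i)) := by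
  classical
  have := Fintype.ofFinite ι
  have : Module.Flat S (∀ i, Localization.Away (g i)) :=
    Module.Flat.of_linearEquiv (DirectSum.linearEquivFunOnFintype S ι fun i => Localization.Away (g i)).symm
  refine Module.FaithfullyFlat.of_comap_surjective fun p => ?_
  obtain ⟨i, hi⟩ := hg p
  obtain ⟨q, hq⟩ : p ∈ Set.range (PrimeSpectrum.comap (algebraMap S (Localization.Away (g i)))) := by
    rw [PrimeSpectrum.localization_away_comap_range (Localization.Away (g i)) (g i)]
    exact hi
  exact ⟨PrimeSpectrum.comap (Pi.evalRingHom _ i) q, hq ▸ PrimeSpectrum.ext rfl⟩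

/-- Let `R` be a commutative ring with an involution `lam` whose fixed ring is exactly `S`, let `A` be
an Azumaya `R`-algebra of degree `n ≥ 1` and `ψ` an `R`-algebra automorphism of `A`. Then `ψ`
becomes an inner automorphism after base change along an etale covering of `S` (and not merely of
`R`): there are an etale faithfully flat `S`-algebra `S'` and a unit `u` of `S' ⊗_S A` such that `id
⊗ ψ` is `x ↦ u x u⁻¹`. (The source states this for a good quotient of schemes by an involution; the
row is the affine case `Spec R → Spec S`.) -/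
theorem result (S : Type u) (R : Type v) [CommRing S] [CommRing R] [Algebra S R]
    (lam : R ≃ₐ[S] R) (hlam : ∀ r, lam (lam r) = r) (hfix : RInv.IsFixedRing S R lam.toRingEquiv)
    (A : Type w) [Ring A] [Algebra S A] [Algebra R A] [IsScalarTower S R A]
    (n : ℕ) (hn : 0 < n) (hA : AzInv.IsAzumayaDeg R A n) (ψ : A ≃ₐ[R] A) :
    ∃ (S' : Type u) (_ : CommRing S') (_ : Algebra S S') (_ : Algebra.Etale S S')
      (_ : Module.FaithfullyFlat S S') (u : (S' ⊗[S] A)ˣ),
      ∀ x : S' ⊗[S] A,
        Algebra.TensorProduct.congr (AlgEquiv.refl : S' ≃ₐ[S'] S') (ψ.restrictScalars S) x =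
          ↑u * x * ↑u⁻¹ := by
  obtain ⟨hAz, -⟩ := hA
  obtain ⟨hinj, hfx⟩ := hfix
  have hfix' : ∀ r : R, ∃ c : S, algebraMap S R c = r * lam r := fun r =>
    (hfx _).1 (by show lam (r * lam r) = _; rw [map_mul, hlam, mul_comm])
  choose Nm hNm using hfix'
  -- per prime of `S`, a good element
  have hgood : ∀ m : Ideal S, m.IsMaximal → ∃ z w : A, ∃ r : R, (∀ a, ψ a * z = z * a) ∧ z * w = algebraMap R A r ∧
      (∃ s : R, w * z = algebraMap R A s ∧ (r - s) * r = 0) ∧ Nm r ∉ m := by
    intro m hm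
    have hne : Ideal.map (algebraMap S R) m ≠ ⊤ := by
      intro htop
      have h1 : (1 : R) ∈ Submodule.span R ((algebraMap S R) '' m) := by
        rw [show Submodule.span R ((algebraMap S R) '' m) = (⊤ : Ideal R) from htop]; trivial
      obtain ⟨k, f, gg, hsum⟩ := Submodule.mem_span_set'.1 h1
      choose c hc hcm using fun i => (gg i).2
      have hfl : ∀ i j, ∃ d : S, algebraMap S R d = f i * lam (f j) + f j * lam (f i) := fun i j =>
        (hfx _).1 (by show lam _ = _; simp [hlam]; ring)
      choose d hd using hfl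
      classical
      -- `1 = (∑ f i c i) * lam (∑ f i c i)` lies in `m`
      have hsum' : (1 : R) = ∑ i, ∑ j, algebraMap S R (c i * c j) * (f i * lam (f j)) := by
        have h2 : lam (1 : R) = ∑ j, lam (f j) * algebraMap S R (c j) := by
          rw [← hsum, map_sum]; exact Finset.sum_congr rfl fun j _ => by
            rw [smul_eq_mul, map_mul, ← hcm j, AlgEquiv.commutes]
        calc (1 : R) = 1 * lam 1 := by simp
          _ = _ := by
            rw [h2, ← hsum, Finset.sum_mul_sum]
            refine Finset.sum_congr rfl fun i _ => Finset.sum_congr rfl fun j _ => ?_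
            rw [smul_eq_mul, ← hcm i, map_mul]; ring
      have hS : ∀ t : Finset (Fin k), ∃ y ∈ m,
          algebraMap S R y = ∑ i ∈ t, ∑ j ∈ t, algebraMap S R (c i * c j) * (f i * lam (f j)) := by
        intro t
        induction t using Finset.induction_on with
        | empty => exact ⟨0, m.zero_mem, by simp⟩
        | insert a t ha ih =>
          obtain ⟨y, hy, hy'⟩ := ih
          refine ⟨y + c a * c a * Nm (f a) + ∑ j ∈ t, c a * c j * d a j, ?_, ?_⟩
          · exact m.add_mem (m.add_mem hy (m.mul_mem_right _ (m.mul_mem_right _ (hc a))))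
              (m.sum_mem fun j _ => m.mul_mem_right _ (m.mul_mem_right _ (hc a)))
          · simp only [Finset.sum_insert ha, map_add, map_mul, map_sum, hy', hd, hNm, mul_add, Finset.sum_add_distrib]
            have hcomm : ∑ j ∈ t, algebraMap S R (c a) * algebraMap S R (c j) * (f j * lam (f a)) =
                ∑ j ∈ t, algebraMap S R (c j) * algebraMap S R (c a) * (f j * lam (f a)) :=
              Finset.sum_congr rfl fun j _ => by ring
            rw [hcomm]; ring
      obtain ⟨y, hy, hy'⟩ := hS Finset.univ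
      rw [← hsum', ← map_one (algebraMap S R)] at hy'
      exact hm.ne_top ((Ideal.eq_top_iff_one m).2 (hinj hy' ▸ hy))
    obtain ⟨q, hq, hqm⟩ := Ideal.exists_le_maximal _ hne
    have hqS : ∀ c : S, algebraMap S R c ∈ q → c ∈ m := fun c hc => by
      by_contra hcm
      obtain ⟨a, b, hb, hab⟩ := hm.exists_inv hcm
      exact hq.ne_top ((Ideal.eq_top_iff_one q).2 (by
        rw [← map_one (algebraMap S R), ← hab, map_add, map_mul]
        exact q.add_mem (q.mul_mem_left _ hc) (hqm (Ideal.mem_map_of_mem _ hb))))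
    let q' := q.comap (lam : R →+* R)
    have hq' : q'.IsPrime := Ideal.comap_isPrime _ _
    have hmem' : ∀ x, x ∈ q' ↔ lam x ∈ q := fun x => Iff.rfl
    obtain ⟨z₁, w₁, r₁, h₁, hr₁⟩ := GrothLib.AzMod.exists_mul_notMem ψ q hq.ne_top
    obtain ⟨z₂, w₂, r₂, h₂, hr₂⟩ := GrothLib.AzMod.exists_mul_notMem ψ q' hq'.ne_top
    have hfin : ∀ (z : GrothLib.AzMod.twistFixed (ψ : A →ₐ[R] A))
        (w : GrothLib.AzMod.twistFixed (ψ.symm : A →ₐ[R] A)) (r : R), (z : A) * w = algebraMap R A r →
        r ∉ q → r ∉ q' → ∃ z w : A, ∃ r : R, (∀ a, ψ a * z = z * a) ∧ z * w = algebraMap R A r ∧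
          (∃ s : R, w * z = algebraMap R A s ∧ (r - s) * r = 0) ∧ Nm r ∉ m := by
      intro z w r hr hrq hrq'
      obtain ⟨s, hs⟩ := GrothLib.AzMod.mul_twistFixed_mem' ψ z w
      refine ⟨z, w, r, GrothLib.AzMod.mem_twistFixed.1 z.2, hr,
        ⟨s, hs, GrothLib.AzMod.sub_mul_eq_zero_of_mul hr hs⟩, fun hmem => ?_⟩
      have := hqm (Ideal.mem_map_of_mem (algebraMap S R) hmem)
      rw [hNm] at this
      exact (hq.isPrime.mem_or_mem this).elim hrq (fun h => hrq' h)
    by_cases hqq : q' ≤ q
    · exact hfin z₁ w₁ r₁ h₁ hr₁ (fun h => hr₁ (hqq h))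
    obtain ⟨e, heq', heq⟩ := SetLike.not_le_iff_exists.1 hqq
    have hnle : ¬ q ≤ q' := fun h => hqq fun x hx => by
      have := h ((hmem' x).1 hx)
      rwa [hmem', hlam] at this
    obtain ⟨e', he'q, he'q'⟩ := SetLike.not_le_iff_exists.1 hnle
    obtain ⟨t₁₂, ht₁₂⟩ := GrothLib.AzMod.mul_twistFixed_mem ψ z₁ w₂
    obtain ⟨t₂₁, ht₂₁⟩ := GrothLib.AzMod.mul_twistFixed_mem ψ z₂ w₁
    refine hfin (e • z₁ + e' • z₂) (e • w₁ + e' • w₂)
      (e * e * r₁ + e * e' * t₁₂ + e' * e * t₂₁ + e' * e' * r₂) ?_ ?_ ?_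
    · have hsm : ∀ (a b : R) (x y : A), (a • x) * (b • y) = (a * b) • (x * y) := fun a b x y => smul_mul_smul_comm a x b y
      simp only [Submodule.coe_add, Submodule.coe_smul, add_mul, mul_add, hsm,
        h₁, h₂, ht₁₂, ht₂₁]
      simp only [Algebra.smul_def, ← map_mul, map_add]
      abel
    · intro h
      have h3 : e * e * r₁ ∈ q := by
        have : e * e' * t₁₂ + e' * e * t₂₁ + e' * e' * r₂ ∈ q :=
          q.add_mem (q.add_mem (q.mul_mem_right _ (q.mul_mem_left _ he'q)) (q.mul_mem_right _ (q.mul_mem_right _ he'q)))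
            (q.mul_mem_right _ (q.mul_mem_right _ he'q))
        have := q.sub_mem h this
        convert this using 1; ring
      rcases hq.isPrime.mem_or_mem h3 with h4 | h4
      · exact heq ((hq.isPrime.mem_or_mem h4).elim id id)
      · exact hr₁ h4
    · intro h
      have h3 : e' * e' * r₂ ∈ q' := by
        have : e * e * r₁ + e * e' * t₁₂ + e' * e * t₂₁ ∈ q' :=
          q'.add_mem (q'.add_mem (q'.mul_mem_right _ (q'.mul_mem_right _ heq')) (q'.mul_mem_right _ (q'.mul_mem_right _ heq')))
            (q'.mul_mem_right _ (q'.mul_mem_left _ heq'))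
        have := q'.sub_mem h this
        convert this using 1; ring
      rcases hq'.mem_or_mem h3 with h4 | h4
      · exact he'q' ((hq'.mem_or_mem h4).elim id id)
      · exact hr₂ h4
  choose z w r hz hzw hs hNr using hgood
  choose s hwz hsr using hs
  -- finitely many suffice
  let N : MaximalSpectrum S → S := fun m => Nm (r m.1 m.2)
  have htop : Ideal.span (Set.range N) = ⊤ := by
    by_contra h
    obtain ⟨m, hm, hle⟩ := Ideal.exists_le_maximal _ h
    exact hNr m hm (hle (Ideal.subset_span ⟨⟨m, hm⟩, rfl⟩))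
  rw [Ideal.eq_top_iff_one] at htop
  obtain ⟨k, cf, gg, hsum⟩ := Submodule.mem_span_set'.1 htop
  choose mi hmi using fun i => (gg i).2
  have hcov : ∀ p : PrimeSpectrum S, ∃ i, N (mi i) ∉ p.asIdeal := fun p => by
    by_contra h
    push Not at h
    exact p.isPrime.ne_top ((Ideal.eq_top_iff_one _).2
      (hsum ▸ Ideal.sum_mem _ fun i _ => p.asIdeal.mul_mem_left _ (hmi i ▸ h i)))
  let S' := ∀ i : Fin k, Localization.Away (N (mi i))
  let iv : ∀ i : Fin k, Localization.Away (N (mi i)) := fun i => IsLocalization.Away.invSelf (N (mi i))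
  have hiv : ∀ i (a : A), (Pi.single i (iv i) : S') ⊗ₜ[S] (N (mi i) • a) = Pi.single i 1 ⊗ₜ a := fun i a => by
    rw [TensorProduct.tmul_smul, TensorProduct.smul_tmul', ← Pi.single_smul, Algebra.smul_def]
    rw [IsLocalization.Away.mul_invSelf]
  have hNA : ∀ i, algebraMap R A (r _ (mi i).2 * lam (r _ (mi i).2)) = N (mi i) • (1 : A) := fun i => by
    show _ = Nm _ • (1 : A)
    rw [Algebra.smul_def, mul_one, IsScalarTower.algebraMap_apply S R A, hNm]
  let U : S' ⊗[S] A := ∑ i, (Pi.single i 1 : S') ⊗ₜ z _ (mi i).2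
  let V : S' ⊗[S] A := ∑ i, (Pi.single i (iv i) : S') ⊗ₜ (w _ (mi i).2 * algebraMap R A (lam (r _ (mi i).2)))
  have hmul : ∀ (F G : ∀ i, Localization.Away (N (mi i))) (a b : Fin k → A),
      (∑ i, (Pi.single i (F i) : S') ⊗ₜ[S] a i) * (∑ j, (Pi.single j (G j) : S') ⊗ₜ[S] b j) =
        ∑ i, (Pi.single i (F i * G i) : S') ⊗ₜ[S] (a i * b i) := fun F G a b => by
    rw [Finset.sum_mul_sum]
    refine Finset.sum_congr rfl fun i _ => ?_
    rw [Finset.sum_eq_single i (fun j _ hj => by
      rw [Algebra.TensorProduct.tmul_mul_tmul, show (Pi.single i (F i) * Pi.single j (G j) : S') = 0 from funext fun l => by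
        show (Pi.single i (F i) : S') l * (Pi.single j (G j) : S') l = 0
        rcases eq_or_ne l i with rfl | hl
        · rw [Pi.single_eq_of_ne (Ne.symm hj), mul_zero]
        · rw [Pi.single_eq_of_ne hl, zero_mul], TensorProduct.zero_tmul]) (by simp), Algebra.TensorProduct.tmul_mul_tmul, ← Pi.single_mul]
  have h1 : ∑ i : Fin k, (Pi.single i 1 : S') ⊗ₜ[S] (1 : A) = 1 := by
    rw [← TensorProduct.sum_tmul, Finset.univ_sum_single, Algebra.TensorProduct.one_def]; rfl
  have hUV : U * V = 1 := by
    show (∑ i, _) * (∑ j, _) = _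
    rw [hmul (fun _ => 1) iv, ← h1]
    refine Finset.sum_congr rfl fun i _ => ?_
    rw [one_mul, ← mul_assoc, hzw, ← map_mul, hNA, hiv]
  have hVU : V * U = 1 := by
    show (∑ i, _) * (∑ j, _) = _
    rw [hmul iv (fun _ => 1), ← h1]
    refine Finset.sum_congr rfl fun i _ => ?_
    have hb : w _ (mi i).2 * algebraMap R A (lam (r _ (mi i).2)) * z _ (mi i).2 =
        algebraMap R A (s _ (mi i).2 * lam (r _ (mi i).2)) := by
      rw [mul_assoc, Algebra.commutes, ← mul_assoc, hwz, ← map_mul]
    have hz0 : N (mi i) • (algebraMap R A (s _ (mi i).2 * lam (r _ (mi i).2)) - N (mi i) • (1 : A)) = 0 := by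
      rw [← hNA, ← map_sub, Algebra.smul_def, IsScalarTower.algebraMap_apply S R A, ← map_mul]
      show algebraMap R A (algebraMap S R (Nm _) * _) = 0
      have : r _ (mi i).2 * lam (r _ (mi i).2) * (s _ (mi i).2 * lam (r _ (mi i).2) - r _ (mi i).2 * lam (r _ (mi i).2)) =
          -((r _ (mi i).2 - s _ (mi i).2) * r _ (mi i).2) * (lam (r _ (mi i).2) * lam (r _ (mi i).2)) := by ring
      rw [hNm, this, hsr]; simp
    have hsing : (Pi.single i (iv i) : S') = N (mi i) • Pi.single i (iv i * iv i) := by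
      rw [← Pi.single_smul, Algebra.smul_def, ← mul_assoc, IsLocalization.Away.mul_invSelf, one_mul]
    rw [mul_one, hb, ← hiv, ← sub_eq_zero, ← TensorProduct.tmul_sub, hsing, ← TensorProduct.smul_tmul',
      ← TensorProduct.tmul_smul, hz0, TensorProduct.tmul_zero]
  refine ⟨S', inferInstance, inferInstance, inferInstance, faithfullyFlat_pi_away _ hcov, ⟨U, V, hUV, hVU⟩,
    fun x => ?_⟩
  show _ = U * x * V
  suffices h : Algebra.TensorProduct.congr (AlgEquiv.refl : S' ≃ₐ[S'] S') (ψ.restrictScalars S) x * U = U * x by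
    rw [← h, mul_assoc, hUV, mul_one]
  induction x using TensorProduct.induction_on with
  | zero => simp
  | add p q hp hq => simp only [map_add, add_mul, mul_add, hp, hq]
  | tmul c a =>
    rw [Algebra.TensorProduct.congr_apply, Algebra.TensorProduct.map_tmul, Finset.mul_sum, Finset.sum_mul]
    refine Finset.sum_congr rfl fun i _ => ?_
    rw [Algebra.TensorProduct.tmul_mul_tmul, Algebra.TensorProduct.tmul_mul_tmul, mul_comm]
    exact congrArg _ (hz _ (mi i).2 a)

end Groth.Agent.S17357
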