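import Groth.Statements.S17355
import Groth.Agent.S17357
import Groth.Agent.Lib.AzInvol.Bc
import Groth.Agent.Lib.RInvol.Basic

set_option autoImplicit false
universe u v w
open scoped TensorProduct
open AzInv

namespace Groth.Agent.S17355

attribute [local instance] Algebra.TensorProduct.rightAlgebra GrothLib.AzMod.scalarAlgebra

/-- Let `R` be a commutative ring with an involution `lam` whose fixed ring is exactly `S`, assume that
units have square roots locally for the etale topology of `S` (every unit of an etale `S`-algebra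
becomes a square in some etale faithfully flat extension), and let `A` be an Azumaya `R`-algebra of
degree `n ≥ 1` with a `lam`-involution `t`. Then every `R`-algebra automorphism `ψ` of `A` that
commutes with `t` is, locally for the etale topology of `S`, conjugation by a unitary element: there
are an etale faithfully flat `S`-algebra `S'` and a unit `u` of `S' ⊗_S A` with `(id ⊗ t)(u) * u =
1` such that `id ⊗ ψ` is `x ↦ u x u⁻¹` (the map from the unitary group to the automorphism sheaf of
`(A, t)` is an epimorphism). This row states the surjectivity part only; the published statement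
also identifies the kernel of the map from the unitary group as the group of norm-one elements of
`R` (the units `r` of `R` with `lam r * r = 1`), so that the projective unitary group of `(A, t)` is
its automorphism sheaf. (The source states this for an exact quotient of a locally ringed topos with
involution; the row is the affine case `Spec R → Spec S`, with etale coverings of `Spec S` replaced
by a single etale faithfully flat `S`-algebra.) -/
theorem result (S : Type u) (R : Type v) [CommRing S] [CommRing R] [Algebra S R]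
    (lam : R ≃ₐ[S] R) (hlam : ∀ r, lam (lam r) = r) (hfix : RInv.IsFixedRing S R lam.toRingEquiv)
    (hsq : ∀ (S₁ : Type u) [CommRing S₁] [Algebra S S₁] [Algebra.Etale S S₁] (x : S₁ˣ),
      ∃ (S₂ : Type u) (_ : CommRing S₂) (_ : Algebra S₁ S₂) (_ : Algebra.Etale S₁ S₂)
        (_ : Module.FaithfullyFlat S₁ S₂) (y : S₂), y * y = algebraMap S₁ S₂ ↑x)
    (A : Type w) [Ring A] [Algebra S A] [Algebra R A] [IsScalarTower S R A]
    (n : ℕ) (hn : 0 < n) (hA : AzInv.IsAzumayaDeg R A n) (t : AzInv.LamInv R A lam)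
    (ψ : A ≃ₐ[R] A) (hψ : AzInv.IsInvHom t t ψ) :
    ∃ (S' : Type u) (_ : CommRing S') (_ : Algebra S S') (_ : Algebra.Etale S S')
      (_ : Module.FaithfullyFlat S S') (u : (S' ⊗[S] A)ˣ),
      t.bc S lam S' (↑u : S' ⊗[S] A) * ↑u = 1 ∧
        ∀ x : S' ⊗[S] A,
          Algebra.TensorProduct.congr (AlgEquiv.refl : S' ≃ₐ[S'] S') (ψ.restrictScalars S) x =
            ↑u * x * ↑u⁻¹ := by
  obtain ⟨S₁, _, _, _, _, u, hu⟩ := Groth.Agent.S17357.result S R lam hlam hfix A n hn hA ψ
  have hAz := hA.1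
  have := GrothLib.AzMod.isAzumaya_base (R := R) S A S₁
  have hI := (GrothLib.RInvol.isInvol_of_fixedRing' lam hlam hfix).baseChange S₁ (Or.inl inferInstance)
  have hψt : ∀ x : S₁ ⊗[S] A,
      Algebra.TensorProduct.congr (AlgEquiv.refl : S₁ ≃ₐ[S₁] S₁) (ψ.restrictScalars S) (t.bc S lam S₁ x) =
        t.bc S lam S₁ (Algebra.TensorProduct.congr (AlgEquiv.refl : S₁ ≃ₐ[S₁] S₁) (ψ.restrictScalars S) x) := fun x => by
    induction x using TensorProduct.induction_on with
    | zero => simp
    | add p q hp hq => simp only [map_add, hp, hq]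
    | tmul s a => simp [hψ a]
  have hmul := GrothLib.AzInvol.bc_mul S lam S₁ t
  have hinv := GrothLib.AzInvol.bc_invol S lam S₁ t
  set T : S₁ ⊗[S] A → S₁ ⊗[S] A := fun x => t.bc S lam S₁ x with hT
  have hui : T ↑u⁻¹ * T ↑u = 1 := by
    show t.bc S lam S₁ _ * t.bc S lam S₁ _ = 1
    rw [← hmul, Units.mul_inv, GrothLib.AzInvol.bc_one]
  have hui' : T ↑u * T ↑u⁻¹ = 1 := by
    show t.bc S lam S₁ _ * t.bc S lam S₁ _ = 1
    rw [← hmul, Units.inv_mul, GrothLib.AzInvol.bc_one]
  have hcent : ∀ y : S₁ ⊗[S] A, y * (T ↑u * ↑u) = T ↑u * ↑u * y := fun y => by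
    have h := hψt (t.bc S lam S₁ y)
    rw [hu, hu, hinv, hmul, hmul, hinv] at h
    calc y * (T ↑u * ↑u) = T ↑u * (T ↑u⁻¹ * (y * T ↑u)) * ↑u := by
          rw [← mul_assoc (T ↑u) (T ↑u⁻¹), hui', one_mul, mul_assoc]
      _ = T ↑u * (↑u * y * ↑u⁻¹) * ↑u := by rw [h]
      _ = _ := by simp [mul_assoc]
  obtain ⟨c, hc⟩ := GrothLib.AzMod.exists_eq_algebraMap_of_forall_commute (R := S₁ ⊗[S] R) hcent
  have hinj := GrothLib.AzMod.algebraMap_injective (R := S₁ ⊗[S] R) (A := S₁ ⊗[S] A)
  obtain ⟨c₀, hc₀⟩ := hI.fixed c (hinj (by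
    show algebraMap _ _ (GrothLib.AzInvol.lamT S lam S₁ c) = _
    rw [← GrothLib.AzInvol.bc_algebraMap (A := A) S lam S₁ t, ← hc, hmul, hinv]))
  have hcu : IsUnit c₀ := by
    have hTu : IsUnit (T ↑u * ↑u) := (GrothLib.AzInvol.bc_isUnit S lam S₁ t u.isUnit).mul u.isUnit
    obtain ⟨d, hd, hd'⟩ := isUnit_iff_exists.1 hTu
    obtain ⟨d', hd''⟩ := GrothLib.AzMod.exists_eq_algebraMap_of_forall_commute (R := S₁ ⊗[S] R) (z := d) fun a => by
      calc a * d = d * (T ↑u * ↑u) * (a * d) := by rw [hd', one_mul]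
        _ = d * (a * (T ↑u * ↑u)) * d := by rw [hcent a]; simp [mul_assoc]
        _ = d * a := by rw [mul_assoc, mul_assoc, hd, mul_one]
    have hcu' : IsUnit c := IsUnit.of_mul_eq_one d' (hinj (by rw [map_mul, ← hc, ← hd'', hd, map_one]))
    rw [← hc₀] at hcu'
    obtain ⟨b, hb⟩ := hcu'.exists_right_inv
    obtain ⟨b₀, rfl⟩ := hI.fixed b (hcu'.exists_right_inv |> fun _ => by
      have h' := congrArg (Algebra.TensorProduct.congr (AlgEquiv.refl : S₁ ≃ₐ[S₁] S₁) lam) hb
      rw [map_mul, AlgEquiv.commutes, map_one] at h'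
      calc _ = (algebraMap S₁ (S₁ ⊗[S] R) c₀ * b) *
            Algebra.TensorProduct.congr (AlgEquiv.refl : S₁ ≃ₐ[S₁] S₁) lam b := by rw [hb, one_mul]
        _ = b := by rw [mul_comm _ b, mul_assoc, h', mul_one])
    exact IsUnit.of_mul_eq_one b₀ (hI.inj (by rw [map_mul, hb, map_one]))
  obtain ⟨S₂, _, _, _, _, y, hy⟩ := hsq S₁ hcu.unit
  let _ : Algebra S S₂ := ((algebraMap S₁ S₂).comp (algebraMap S S₁)).toAlgebra
  have : IsScalarTower S S₁ S₂ := IsScalarTower.of_algebraMap_eq (R := S) (S := S₁) (A := S₂) fun _ => rfl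
  have : Algebra.Etale S S₂ := Algebra.Etale.comp S S₁ _
  have : Module.FaithfullyFlat S S₂ := Module.FaithfullyFlat.trans S S₁ S₂
  have hyu : IsUnit y := isUnit_of_mul_isUnit_left (hy ▸ hcu.map _)
  obtain ⟨yi, hyi⟩ := hyu.exists_right_inv
  let G := Algebra.TensorProduct.map (IsScalarTower.toAlgHom S S₁ S₂) (AlgHom.id S A)
  let u' : (S₂ ⊗[S] A)ˣ :=
    { val := yi • G ↑u
      inv := y • G ↑u⁻¹
      val_inv := by rw [smul_mul_smul_comm, ← map_mul, Units.mul_inv, map_one, mul_comm, hyi, one_smul]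
      inv_val := by rw [smul_mul_smul_comm, ← map_mul, Units.inv_mul, map_one, hyi, one_smul] }
  refine ⟨S₂, inferInstance, inferInstance, inferInstance, inferInstance, u', ?_, fun x => ?_⟩
  · show t.bc S lam S₂ (yi • G ↑u) * (yi • G ↑u) = 1
    have hTu : T ↑u * ↑u = algebraMap S₁ (S₁ ⊗[S] A) c₀ := by
      rw [hc, ← hc₀]; exact (GrothLib.AzMod.scalarHom (R := R) S A S₁).commutes c₀
    rw [map_smul, smul_mul_smul_comm, ← GrothLib.AzInvol.bc_map, ← map_mul, show t.bc S lam S₁ ↑u * ↑u = _ from hTu,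
      show G (algebraMap S₁ (S₁ ⊗[S] A) c₀) = algebraMap S₁ S₂ c₀ • (1 : S₂ ⊗[S] A) by
        simp [G, Algebra.TensorProduct.algebraMap_apply, Algebra.TensorProduct.one_def, TensorProduct.smul_tmul', Algebra.algebraMap_eq_smul_one],
      smul_smul, ← IsUnit.unit_spec hcu, ← hy, show yi * yi * (y * y) = (y * yi) * (y * yi) by ring, hyi, mul_one, one_smul]
  · show _ = yi • G ↑u * x * y • G ↑u⁻¹
    rw [smul_mul_assoc, smul_mul_smul_comm, mul_comm yi, hyi, one_smul]
    induction x using TensorProduct.induction_on with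
    | zero => simp
    | add p q hp hq => simp only [map_add, mul_add, add_mul, hp, hq]
    | tmul s a =>
      have h := congrArg G (hu ((1 : S₁) ⊗ₜ a))
      rw [map_mul, map_mul] at h
      rw [show (s ⊗ₜ[S] a : S₂ ⊗[S] A) = s • G ((1 : S₁) ⊗ₜ a) by simp [G, TensorProduct.smul_tmul'],
        mul_smul_comm, smul_mul_assoc, ← h, map_smul]
      simp [G]

end Groth.Agent.S17355
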