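import Groth.Statements.S17358
import Groth.Agent.Lib.AzInvol.Types
import Mathlib.Tactic.LinearCombination

set_option autoImplicit false
universe u v w
open scoped TensorProduct
open AzInv

namespace Groth.Agent.S17358

open GrothLib.AzInvol

/-- Let `R` be a commutative ring with an involution `lam` whose fixed ring is exactly `S`; assume that
units have square roots locally for the etale topology of `S` (every unit of an etale `S`-algebra
becomes a square in some etale faithfully flat extension), and that either `2` is a unit in `S` and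
the quotient `Spec R → Spec S` is everywhere ramified (for no prime `p` of `S` is `S_p ⊗_S R` a
quadratic etale `S_p`-algebra; the case `R = S` is included), or `R` is a quadratic etale
`S`-algebra (the unramified case). Then every `lam`-involution `t` of an Azumaya `R`-algebra `A` of
degree `n ≥ 1` is ordinary: there are a global invertible `n × n` matrix `w` over `R` and an element
`e` of `R` with `lam`-transpose of `w` equal to `e • w` and `lam e * e = 1`, such that `(A, t)`
becomes isomorphic, after an etale faithfully flat base change of `S`, to the matrix algebra over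
`R` with the involution `x ↦ w * (lam-transpose of x) * w⁻¹` (equivalently `x ↦ (a x a⁻¹)` followed
by the `lam`-transpose, for the global matrix `a` whose `lam`-transpose is `w⁻¹`). (The source
states this for an exact quotient of a locally ringed topos with involution; the row is the affine
case `Spec R → Spec S`, with etale coverings of `Spec S` replaced by a single etale faithfully flat
`S`-algebra.) -/
theorem result (S : Type u) (R : Type v) [CommRing S] [CommRing R] [Algebra S R]
    (lam : R ≃ₐ[S] R) (hlam : ∀ r, lam (lam r) = r) (hfix : RInv.IsFixedRing S R lam.toRingEquiv)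
    (hsq : ∀ (S₁ : Type u) [CommRing S₁] [Algebra S S₁] [Algebra.Etale S S₁] (x : S₁ˣ),
      ∃ (S₂ : Type u) (_ : CommRing S₂) (_ : Algebra S₁ S₂) (_ : Algebra.Etale S₁ S₂)
        (_ : Module.FaithfullyFlat S₁ S₂) (y : S₂), y * y = algebraMap S₁ S₂ ↑x)
    (hram : (IsUnit (2 : S) ∧ ∀ p : PrimeSpectrum S,
        ¬ RInv.IsQuadEtale (Localization.AtPrime p.asIdeal) (Localization.AtPrime p.asIdeal ⊗[S] R)) ∨
      RInv.IsQuadEtale S R)
    (A : Type w) [Ring A] [Algebra S A] [Algebra R A] [IsScalarTower S R A]
    (n : ℕ) (hn : 0 < n) (hA : AzInv.IsAzumayaDeg R A n) (t : AzInv.LamInv R A lam) :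
    ∃ (w : (Matrix (Fin n) (Fin n) R)ˣ) (e : R)
      (hw : AzInv.LamInv.transpose lam (Fin n) hlam (↑w : Matrix (Fin n) (Fin n) R) = e • (↑w : Matrix (Fin n) (Fin n) R))
      (he : lam e * e = 1),
      AzInv.LocIsoEt S lam t ((AzInv.LamInv.transpose lam (Fin n) hlam).conj w e hw he) := by
  have hAz := hA.1
  by_cases hone : ∀ p : PrimeSpectrum S, p ∈ LOne t n
  · refine ⟨1, 1, by rw [Units.val_one, LamInv.map_one, one_smul], by simp, ?_⟩
    have : Nonempty (Fin n) := ⟨⟨0, hn⟩⟩
    have hM : AzInv.IsAzumayaDeg R (Matrix (Fin n) (Fin n) R) n := by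
      simpa using isAzumayaDeg_matrix (isAzumayaDeg_self (R := R)) n hn
    have := hM.1
    refine locIsoEt_of_types hn hA hM fun p => Or.inl ⟨hone p, ?_⟩
    refine ⟨S, inferInstance, inferInstance, inferInstance, ⟨p, PrimeSpectrum.ext rfl⟩, ?_⟩
    exact Std.transposeConj hlam 1 1 _ _ 1 1 (by simp) (by simp)
  -- everywhere ramified, even degree
  obtain ⟨h2, hbr⟩ := hram.resolve_right fun hq => hone fun p =>
    mem_lOne hlam hfix hsq hn hA.2 (Or.inl (splitAt_of_isQuadEtale hlam hfix hq p))
  have hns : ∀ p, ¬ SplitAt lam p := fun p => by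
    have hI := GrothLib.RInvol.isInvol_of_fixedRing' lam hlam hfix
    obtain ⟨q, hq⟩ := hI.exists_over p
    exact not_splitAt_of_ramified hlam hfix q hq ((hI.branch_iff p).1 (hbr p) q hq)
  obtain ⟨k, hk⟩ : ∃ k, 2 * k = n := by
    push Not at hone
    obtain ⟨p, hp⟩ := hone
    obtain ⟨k, hk, -⟩ := (mem_lOne_or_lAlt hlam hfix h2 hn hA.2 (t := t) p).resolve_left hp
    exact ⟨k, hk⟩
  have hcompl : LAlt t k = (LOne t n)ᶜ := by
    ext p
    refine ⟨fun hJ h1 => not_mem_lOne_and_lAlt hlam hfix h2 hn hk hA.2 (hns p) h1 hJ, fun hp => ?_⟩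
    obtain ⟨k', hk', h⟩ := (mem_lOne_or_lAlt hlam hfix h2 hn hA.2 (t := t) p).resolve_left hp
    obtain rfl : k = k' := by omega
    exact h
  have hclopen : IsClopen (LOne t n) := ⟨⟨hcompl ▸ isOpen_locus (t := t) _ _⟩, isOpen_locus (t := t) _ _⟩
  obtain ⟨ε, hε, hD⟩ := PrimeSpectrum.isClopen_iff.1 hclopen
  let e : Fin 2 × Fin k ≃ Fin n := finProdFinEquiv.trans (finCongr hk)
  let J : Matrix (Fin n) (Fin n) S := Matrix.reindex e e (altJ k S)
  let Ji : Matrix (Fin n) (Fin n) S := Matrix.reindex e e (-altJ k S)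
  have hJJ : J * Ji = 1 ∧ Ji * J = 1 := by
    simp only [J, Ji, Matrix.reindex_apply, Matrix.submatrix_mul_equiv, altJ_mul_neg, neg_altJ_mul,
      Matrix.submatrix_one_equiv, and_self]
  have hJt : J.transpose = -J := by
    simp only [J, Matrix.reindex_apply, Matrix.transpose_submatrix]
    have h := st_altJ k (RingHom.id S)
    rw [GrothLib.RInvol.Forms.st, show (altJ k S).map (RingHom.id S) = altJ k S from Matrix.map_id _] at h
    rw [h]; rfl
  have hJi : Ji = -J := by ext i j; simp [J, Ji]
  let w₀ : Matrix (Fin n) (Fin n) S := ε • (1 : Matrix (Fin n) (Fin n) S) + (1 - ε) • J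
  let wi₀ : Matrix (Fin n) (Fin n) S := ε • (1 : Matrix (Fin n) (Fin n) S) + (1 - ε) • Ji
  have hidem := hε.eq
  have hprod : w₀ * wi₀ = 1 ∧ wi₀ * w₀ = 1 := by
    constructor <;>
      simp only [w₀, wi₀, Matrix.add_mul, Matrix.mul_add, Matrix.smul_mul, Matrix.mul_smul, Matrix.one_mul, Matrix.mul_one,
        smul_add, smul_smul, hε.eq, hε.one_sub.eq, hε.mul_one_sub_self, hε.one_sub_mul_self, zero_smul, add_zero,
        zero_add, hJJ.1, hJJ.2] <;> rw [← add_smul, add_sub_cancel, one_smul]
  let w : (Matrix (Fin n) (Fin n) R)ˣ := ⟨w₀.map (algebraMap S R), wi₀.map (algebraMap S R),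
    by rw [← Matrix.map_mul, hprod.1, Matrix.map_one _ (map_zero _) (map_one _)],
    by rw [← Matrix.map_mul, hprod.2, Matrix.map_one _ (map_zero _) (map_one _)]⟩
  let c : S := ε - (1 - ε)
  have hw0 : w₀.transpose = c • w₀ := by
    simp only [w₀, Matrix.transpose_add, Matrix.transpose_smul, Matrix.transpose_one, hJt, smul_add, smul_smul, smul_neg]
    rw [← neg_smul]
    congr 2 <;> first | linear_combination -2 * hidem | linear_combination 2 * hidem
  have hwt : AzInv.LamInv.transpose lam (Fin n) hlam (↑w : Matrix (Fin n) (Fin n) R) =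
      algebraMap S R c • (↑w : Matrix (Fin n) (Fin n) R) := by
    ext i j
    show lam (algebraMap S R (w₀ j i)) = algebraMap S R c * algebraMap S R (w₀ i j)
    rw [AlgEquiv.commutes, ← map_mul, show w₀ j i = c * w₀ i j from congrFun (congrFun hw0 i) j]
  have hce : lam (algebraMap S R c) * algebraMap S R c = 1 := by
    rw [AlgEquiv.commutes, ← map_mul, show c * c = 1 by simp only [c]; linear_combination 4 * hidem, map_one]
  refine ⟨w, algebraMap S R c, hwt, hce, ?_⟩
  have hM : AzInv.IsAzumayaDeg R (Matrix (Fin n) (Fin n) R) n := by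
    simpa using isAzumayaDeg_matrix (isAzumayaDeg_self (R := R)) n hn
  have := hM.1
  refine locIsoEt_of_forall_locus hn hA.2 hM.2 fun p =>
    ⟨Fin n, inferInstance, inferInstance, Equiv.refl _, w₀, wi₀, ?_,
      ⟨S, inferInstance, inferInstance, inferInstance, ⟨p, PrimeSpectrum.ext rfl⟩,
        Std.transposeConj hlam w _ _ _ w₀ wi₀ rfl rfl⟩⟩
  have hmap : ∀ (T : Type u) [CommRing T] [Algebra S T] (b : Matrix (Fin n) (Fin n) S),
      (ε • (1 : Matrix (Fin n) (Fin n) S) + (1 - ε) • b).map (algebraMap S T) =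
        algebraMap S T ε • (1 : Matrix (Fin n) (Fin n) T) + (1 - algebraMap S T ε) • b.map (algebraMap S T) := by
    intro T _ _ b
    ext i j
    simp only [Matrix.map_apply, Matrix.add_apply, Matrix.smul_apply, smul_eq_mul, map_add, map_mul, map_sub, map_one]
    by_cases hij : i = j <;> simp [hij, Matrix.one_apply]
  by_cases hp : p ∈ LOne t n
  · obtain ⟨T, _, _, hT, hpT, hstd⟩ := hp
    refine ⟨T, inferInstance, inferInstance, hT, hpT, ?_⟩
    have hε1 : algebraMap S T ε = 1 := (IsIdempotentElem.iff_eq_one_of_isUnit (by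
      by_contra hu
      obtain ⟨M, hM, hεM⟩ := exists_max_ideal_of_mem_nonunits hu
      have hin : PrimeSpectrum.comap (algebraMap S T) ⟨M, hM.isPrime⟩ ∈ LOne t n :=
        range_subset_locus T hT hstd ⟨_, rfl⟩
      rw [hD] at hin
      exact hin hεM)).1 (hε.map _)
    rw [show w₀.map (algebraMap S T) = (1 : Matrix (Fin n) (Fin n) S).map (algebraMap S T) by
        rw [hmap, hε1, sub_self, zero_smul, add_zero, one_smul, Matrix.map_one _ (map_zero _) (map_one _)],
      show wi₀.map (algebraMap S T) = (1 : Matrix (Fin n) (Fin n) S).map (algebraMap S T) by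
        rw [hmap, hε1, sub_self, zero_smul, add_zero, one_smul, Matrix.map_one _ (map_zero _) (map_one _)]]
    exact hstd
  · have hp' : p ∈ LAlt t k := by rw [hcompl]; exact hp
    obtain ⟨T, _, _, hT, hpT, hstd⟩ := locus_reindex e hp'
    refine ⟨T, inferInstance, inferInstance, hT, hpT, ?_⟩
    have hε0 : algebraMap S T ε = 0 := (hε.map (algebraMap S T)).eq_zero_of_isNilpotent (by
      rw [nilpotent_iff_mem_prime]
      intro P hP
      by_contra hnot
      have hin : PrimeSpectrum.comap (algebraMap S T) ⟨P, hP⟩ ∈ LOne t n := by rw [hD]; exact hnot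
      have h' := range_subset_locus T hT hstd ⟨⟨P, hP⟩, rfl⟩
      exact not_mem_lOne_and_lAlt hlam hfix h2 hn hk hA.2 (hns _) hin (by
        have h'' := locus_reindex e.symm h'
        simpa [Matrix.reindex_apply, Matrix.submatrix_submatrix, J, Ji] using h''))
    rw [show w₀.map (algebraMap S T) = J.map (algebraMap S T) by rw [hmap, hε0, sub_zero, zero_smul, zero_add, one_smul],
      show wi₀.map (algebraMap S T) = Ji.map (algebraMap S T) by rw [hmap, hε0, sub_zero, zero_smul, zero_add, one_smul]]
    exact hstd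

end Groth.Agent.S17358
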