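import Groth.Statements.S17359
import Groth.Agent.Lib.AzInvol.Types

set_option autoImplicit false
universe u w
open scoped TensorProduct
open AzInv

namespace Groth.Agent.S17359

open GrothLib.AzInvol

/-- Let `R` be a nontrivial commutative ring with connected spectrum in which `2` is a unit, with the
trivial involution (so that the involutions considered are of the first kind and the quotient is the
trivial one). Then there are exactly two types, the orthogonal and the symplectic one; this row
states the first half: every involution of the first kind `t` of an Azumaya `R`-algebra `A` of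
degree `n ≥ 1` has the same type either as the identity of `R` or as the standard symplectic
involution `x ↦ J xᵀ J⁻¹` of the `2 × 2` matrix algebra, `J` the matrix with rows `(0, -1)` and `(1,
0)` (same type: suitable matrix algebras over the two, with the induced involutions, become
isomorphic as `R`-algebras with involution after an etale faithfully flat base change of `R`). (The
source states that the monoid of types is isomorphic to the group of global square roots of `1`, for
a locally ringed topos with trivial involution and `2` invertible; the row is the affine case with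
connected spectrum, where that group is `{1, -1}`.) -/
theorem result (R : Type u) [CommRing R] (hlam : ∀ r : R, (AlgEquiv.refl : R ≃ₐ[R] R) ((AlgEquiv.refl : R ≃ₐ[R] R) r) = r)
    [Nontrivial R] [ConnectedSpace (PrimeSpectrum R)] (h2 : IsUnit (2 : R))
    (J : (Matrix (Fin 2) (Fin 2) R)ˣ) (hJ : (↑J : Matrix (Fin 2) (Fin 2) R) = Matrix.of ![![0, -1], ![1, 0]])
    (hJt : AzInv.LamInv.transpose (AlgEquiv.refl : R ≃ₐ[R] R) (Fin 2) hlam (↑J : Matrix (Fin 2) (Fin 2) R) = (-1 : R) • (↑J : Matrix (Fin 2) (Fin 2) R))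
    (hneg : (AlgEquiv.refl : R ≃ₐ[R] R) (-1) * (-1) = 1)
    (A : Type w) [Ring A] [Algebra R A]
    (n : ℕ) (hn : 0 < n) (hA : AzInv.IsAzumayaDeg R A n) (t : AzInv.LamInv R A (AlgEquiv.refl : R ≃ₐ[R] R)) :
    AzInv.SameType R (AlgEquiv.refl : R ≃ₐ[R] R) t (AzInv.LamInv.self (AlgEquiv.refl : R ≃ₐ[R] R) hlam) ∨
      AzInv.SameType R (AlgEquiv.refl : R ≃ₐ[R] R) t ((AzInv.LamInv.transpose (AlgEquiv.refl : R ≃ₐ[R] R) (Fin 2) hlam).conj J (-1) hJt hneg) := by
  have hAz := hA.1
  have hfix : RInv.IsFixedRing R R (AlgEquiv.refl : R ≃ₐ[R] R).toRingEquiv :=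
    ⟨fun a b h => h, fun r => ⟨fun _ => ⟨r, rfl⟩, fun _ => rfl⟩⟩
  have hns : ∀ p, ¬ SplitAt (AlgEquiv.refl : R ≃ₐ[R] R) p := fun p =>
    not_splitAt_of_ramified hlam hfix p rfl fun r => by simp
  by_cases hone : ∀ p : PrimeSpectrum R, p ∈ LOne t n
  · exact Or.inl (sameType_self_of_forall hlam hn hA hone)
  push Not at hone
  obtain ⟨p₀, hp₀⟩ := hone
  obtain ⟨k, hk, hp₀'⟩ := (mem_lOne_or_lAlt hlam hfix h2 hn hA.2 (t := t) p₀).resolve_left hp₀
  have hcompl : LAlt t k = (LOne t n)ᶜ := by
    ext p
    refine ⟨fun hJ h1 => not_mem_lOne_and_lAlt hlam hfix h2 hn hk hA.2 (hns p) h1 hJ, fun hp => ?_⟩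
    obtain ⟨k', hk', h⟩ := (mem_lOne_or_lAlt hlam hfix h2 hn hA.2 (t := t) p).resolve_left hp
    obtain rfl : k = k' := by omega
    exact h
  have hclopen : IsClopen (LAlt t k) := ⟨by rw [hcompl, isClosed_compl_iff]; exact isOpen_locus _ _, isOpen_locus _ _⟩
  have huniv := hclopen.eq_univ ⟨p₀, hp₀'⟩
  have hM : AzInv.IsAzumayaDeg R (Matrix (Fin 2) (Fin 2) R) 2 := by
    simpa using isAzumayaDeg_matrix (isAzumayaDeg_self (R := R)) 2 two_pos
  have := hM.1
  exact Or.inr ⟨1, k, one_pos, by omega, locIsoEt_matrix_of_types hn one_pos (by omega) hA hM (by omega)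
    fun p => Or.inr ⟨k, 1, hk, rfl, huniv ▸ Set.mem_univ p, lAlt_symplectic hlam J hJ _ hJt hneg p⟩⟩

end Groth.Agent.S17359
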