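import Groth.Statements.S1736
import Groth.Agent.Lib.LC.TopVanish

set_option autoImplicit false
universe u
open LocCoh

namespace Groth.Agent.S1736

/-- Let A be a Noetherian ring of finite dimension d and I ⊆ I' ideals with I' contained in the Jacobson
radical of A. If cd(A, I') < d, i.e. H^i_{I'}(M) = 0 for all A-modules M and all i ≥ d, then also
cd(A, I) < d: H^i_I(M) = 0 for all A-modules M and all i ≥ d. -/
theorem result (A : Type u) [CommRing A] [IsNoetherianRing A] (d : ℕ) (hd : ringKrullDim A = d) (I I' : Ideal A) (hII' : I ≤ I') (hJ : I' ≤ (⊥ : Ideal A).jacobson) (h : ∀ (M : Type u) [AddCommGroup M] [Module A M] (i : ℕ), d ≤ i → Subsingleton (LocCoh.H I' i M)) (M : Type u) [AddCommGroup M] [Module A M] (i : ℕ) (hi : d ≤ i) : Subsingleton (LocCoh.H I i M) := by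
  rcases hi.lt_or_eq with h' | h'
  · exact GrothLib.LC.cdLE_dim I d hd.le M i h'
  · subst h'
    exact GrothLib.LC.subsingleton_top_of_le hd.le hII' hJ (ModuleCat.of A M) (h M d le_rfl)

end Groth.Agent.S1736
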