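import Groth.Statements.S17360
import Groth.Agent.Lib.AzInvol.Types

set_option autoImplicit false
universe u
open scoped TensorProduct
open AzInv

namespace Groth.Agent.S17360

open GrothLib.AzInvol

/-- Let `R` be a nontrivial commutative ring in which `2` is a unit, with the trivial involution. This
row states the second half of the count of types: the identity of `R` (the orthogonal type) and the
standard symplectic involution `x ↦ J xᵀ J⁻¹` of the `2 × 2` matrix algebra, `J` the matrix with
rows `(0, -1)` and `(1, 0)`, do not have the same type, i.e. for no positive sizes do the matrix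
algebras over `R` with the transpose and over `M_2(R)` with the involution induced by the symplectic
one become isomorphic as `R`-algebras with involution after an etale faithfully flat base change of
`R`. (The source states that the monoid of types is isomorphic to the group of global square roots
of `1`, for a locally ringed topos with trivial involution and `2` invertible; the row is the affine
case.) -/
theorem result (R : Type u) [CommRing R] (hlam : ∀ r : R, (AlgEquiv.refl : R ≃ₐ[R] R) ((AlgEquiv.refl : R ≃ₐ[R] R) r) = r)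
    [Nontrivial R] (h2 : IsUnit (2 : R))
    (J : (Matrix (Fin 2) (Fin 2) R)ˣ) (hJ : (↑J : Matrix (Fin 2) (Fin 2) R) = Matrix.of ![![0, -1], ![1, 0]])
    (hJt : AzInv.LamInv.transpose (AlgEquiv.refl : R ≃ₐ[R] R) (Fin 2) hlam (↑J : Matrix (Fin 2) (Fin 2) R) = (-1 : R) • (↑J : Matrix (Fin 2) (Fin 2) R))
    (hneg : (AlgEquiv.refl : R ≃ₐ[R] R) (-1) * (-1) = 1) :
    ¬ AzInv.SameType R (AlgEquiv.refl : R ≃ₐ[R] R) (AzInv.LamInv.self (AlgEquiv.refl : R ≃ₐ[R] R) hlam) ((AzInv.LamInv.transpose (AlgEquiv.refl : R ≃ₐ[R] R) (Fin 2) hlam).conj J (-1) hJt hneg) := by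
  rintro ⟨m, m', hm, hm', hloc⟩
  have hfix : RInv.IsFixedRing R R (AlgEquiv.refl : R ≃ₐ[R] R).toRingEquiv :=
    ⟨fun a b h => h, fun r => ⟨fun _ => ⟨r, rfl⟩, fun _ => rfl⟩⟩
  obtain ⟨p⟩ := (inferInstance : Nonempty (PrimeSpectrum R))
  have hns : ¬ SplitAt (AlgEquiv.refl : R ≃ₐ[R] R) p := not_splitAt_of_ramified hlam hfix p rfl fun r => by simp
  have hM : AzInv.IsAzumayaDeg R (Matrix (Fin 2) (Fin 2) R) 2 := by
    simpa using isAzumayaDeg_matrix (isAzumayaDeg_self (R := R)) 2 two_pos
  have hB := isAzumayaDeg_matrix (isAzumayaDeg_self (R := R)) m hm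
  have hB' := isAzumayaDeg_matrix hM m' hm'
  have := hB.1
  have := hB'.1
  have hmm := eq_of_locIsoEt (Nat.mul_pos hm one_pos) hloc hB.2 hB'.2 p
  have e1 := locus_subset_of_locIsoEt hloc _ _ (lOne_matrix m (lOne_self hlam p))
  rw [hmm] at e1
  exact not_mem_lOne_and_lAlt hlam hfix h2 (Nat.mul_pos hm' two_pos) (by ring) hB'.2 hns e1
    (lAlt_matrix m' (lAlt_symplectic hlam J hJ _ hJt hneg p))

end Groth.Agent.S17360
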