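import Groth.Statements.S17361
import Groth.Agent.Lib.AzInvol.Sign

set_option autoImplicit false
universe u v w w'
open scoped TensorProduct
open AzInv

namespace Groth.Agent.S17361

open GrothLib.AzInvol

/-- Let `R` be a commutative ring with an involution `lam` whose fixed ring is exactly `S`, with `2` a
unit in `S`, and let `(A, t)` and `(A', t')` be Azumaya `R`-algebras of degrees `n, n' ≥ 1` with
`lam`-involutions. For a prime `q` of `R` in the ramification locus, i.e. such that `lam` is the
identity modulo `q`, the involution induced by `t` on the central simple algebra `k(q) ⊗_R A` is of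
the first kind, and it is orthogonal precisely when the images of the `t`-symmetric elements of `A`
span a subspace of dimension `n (n + 1) / 2` over `k(q)` (and symplectic otherwise). Then `t` and
`t'` have the same type (for some positive sizes, the matrix algebras over `A` and `A'` with the
induced involutions become isomorphic as `R`-algebras with involution after an etale faithfully flat
base change of `S`) if and only if at every prime of the ramification locus the involutions induced
by `t` and by `t'` are both orthogonal or both symplectic. (The source states this for a good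
quotient of schemes by an involution, with `2` invertible, through a locally constant sign function
on the ramification locus; the row is the affine case `Spec R → Spec S` with the signs spelled out
by dimensions of symmetric elements.) -/
theorem result (S : Type u) (R : Type v) [CommRing S] [CommRing R] [Algebra S R]
    (lam : R ≃ₐ[S] R) (hlam : ∀ r, lam (lam r) = r) (hfix : RInv.IsFixedRing S R lam.toRingEquiv)
    (h2 : IsUnit (2 : S))
    (A : Type w) [Ring A] [Algebra S A] [Algebra R A] [IsScalarTower S R A]
    (A' : Type w') [Ring A'] [Algebra S A'] [Algebra R A'] [IsScalarTower S R A']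
    (n n' : ℕ) (hn : 0 < n) (hn' : 0 < n') (hA : AzInv.IsAzumayaDeg R A n) (hA' : AzInv.IsAzumayaDeg R A' n')
    (t : AzInv.LamInv R A lam) (t' : AzInv.LamInv R A' lam) :
    AzInv.SameType S lam t t' ↔
      ∀ q : PrimeSpectrum R, (∀ r : R, lam r - r ∈ q.asIdeal) →
        (Module.finrank q.asIdeal.ResidueField
            (Submodule.span q.asIdeal.ResidueField
              (Set.range fun a : {a : A // t a = a} => (1 : q.asIdeal.ResidueField) ⊗ₜ[R] (a : A))) = Nat.choose (n + 1) 2 ↔
          Module.finrank q.asIdeal.ResidueField
            (Submodule.span q.asIdeal.ResidueField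
              (Set.range fun a : {a : A' // t' a = a} => (1 : q.asIdeal.ResidueField) ⊗ₜ[R] (a : A'))) = Nat.choose (n' + 1) 2) := by
  have hAz := hA.1
  have hAz' := hA'.1
  constructor
  · rintro ⟨m, m', hm, hm', hloc⟩ q hq
    show (Module.finrank _ (symSpan t q) = _ ↔ Module.finrank _ (symSpan t' q) = _)
    rw [finrank_symSpan_iff hlam hfix h2 hn hA.2 q hq, finrank_symSpan_iff hlam hfix h2 hn' hA'.2 q hq]
    set p := PrimeSpectrum.comap (algebraMap S R) q
    have hns : ¬ SplitAt lam p := not_splitAt_of_ramified hlam hfix q rfl hq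
    have hB := isAzumayaDeg_matrix hA m hm
    have hB' := isAzumayaDeg_matrix hA' m' hm'
    have := hB.1
    have := hB'.1
    have hmm : m * n = m' * n' := eq_of_locIsoEt (Nat.mul_pos hm hn) hloc hB.2 hB'.2 q
    constructor
    · intro h1
      refine (mem_lOne_or_lAlt hlam hfix h2 hn' hA'.2 (t := t') p).resolve_right fun ⟨k', hk', h1'⟩ => ?_
      have e1 := locus_subset_of_locIsoEt hloc _ _ (lOne_matrix m h1)
      rw [hmm] at e1
      exact not_mem_lOne_and_lAlt hlam hfix h2 (Nat.mul_pos hm' hn') (by rw [← hk']; ring) hB'.2 hns e1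
        (lAlt_matrix m' h1')
    · intro h1'
      refine (mem_lOne_or_lAlt hlam hfix h2 hn hA.2 (t := t) p).resolve_right fun ⟨k, hk, h1⟩ => ?_
      have e1 := locus_subset_of_locIsoEt hloc _ _ (lAlt_matrix m h1)
      exact not_mem_lOne_and_lAlt hlam hfix h2 (Nat.mul_pos hm' hn') (by rw [← hmm, ← hk]; ring) hB'.2 hns
        (lOne_matrix m' h1') e1
  · intro hsign
    refine ⟨n', n, hn', hn, locIsoEt_matrix_of_types hn hn' (by ring) hA hA' hn fun p => ?_⟩
    have hsq := hasSqrts_of_isUnit_two h2
    by_cases hp : SplitAt lam p
    · exact Or.inl ⟨mem_lOne hlam hfix hsq hn hA.2 (Or.inl hp), mem_lOne hlam hfix hsq hn' hA'.2 (Or.inl hp)⟩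
    obtain ⟨q, hqp, hq⟩ := exists_ramified_of_not_splitAt hlam hfix hp
    have hs : Module.finrank _ (symSpan t q) = _ ↔ Module.finrank _ (symSpan t' q) = _ := hsign q hq
    have hqp' : PrimeSpectrum.comap (algebraMap S R) q = p := PrimeSpectrum.ext hqp
    rw [finrank_symSpan_iff hlam hfix h2 hn hA.2 q hq, finrank_symSpan_iff hlam hfix h2 hn' hA'.2 q hq, hqp'] at hs
    rcases mem_lOne_or_lAlt hlam hfix h2 hn hA.2 (t := t) p with h1 | ⟨k, hk, h1⟩
    · exact Or.inl ⟨h1, hs.1 h1⟩
    rcases mem_lOne_or_lAlt hlam hfix h2 hn' hA'.2 (t := t') p with h1' | ⟨k', hk', h1'⟩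
    · exact Or.inl ⟨hs.2 h1', h1'⟩
    exact Or.inr ⟨k, k', hk, hk', h1, h1'⟩

end Groth.Agent.S17361
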