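import Groth.Statements.S17363
import Groth.Agent.Lib.RInvol.FormsExtra
import Mathlib.RingTheory.TensorProduct.Basic
import Mathlib.Tactic.LinearCombination

set_option autoImplicit false
universe u v
open scoped TensorProduct
open RInv

namespace Groth.Agent.S17363

/-- Let `A` be a commutative ring with an involution `lam` whose fixed ring `B` is local; assume that
`lam` is the identity modulo the Jacobson radical of `A`, that `2` is a unit of `A`, and that `h` is
an invertible `2 × 2` matrix over `A` with `h = -(lam h)ᵀ` whose entries are congruent modulo the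
Jacobson radical to those of the matrix with rows `(0, 1)`, `(-1, 0)`. Then there are units `s, t`
of `B`, finitely many elements `f_i` of `B' = B[X, Y]/(X² - s, Y² - t)` (`B` with square roots of
`s` and `t` adjoined) that generate the unit ideal, and for every `i` an invertible `2 × 2` matrix
`v` over `B'_{f_i} ⊗_B A` (that is, `A` with the two square roots adjoined, localised at `f_i`;
`lam` extends so as to fix the square roots) such that `(lam v)ᵀ h v` is the matrix with rows `(0,
1)`, `(-1, 0)`. (The published statement writes the congruence with the plain transpose `vᵀ h v`,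
which fails in general: for a field `k` of characteristic not `2`, the ring `A` of formal power
series in `y` over `k`, with `B` its subring of series in `y²`, `lam y = -y` and `h` with rows `(y,
1)`, `(-1, y)`, satisfies every hypothesis, while `vᵀ h v` equal to the matrix with rows `(0, 1)`,
`(-1, 0)` would, added to its transpose, give `2y · vᵀ v = 0` and hence `det v = 0` over a nonzero
ring in which `y` is not a zero divisor. The proof computes the Gram matrix of the hermitian form
`(a, b) ↦ (lam a)ᵀ h b` in a new basis, which is `(lam v)ᵀ h v`, and that is what is stated here.) -/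
theorem result (B : Type u) (A : Type v) [CommRing B] [CommRing A]
    [Algebra B A] (lam : A ≃ₐ[B] A) (hlam : ∀ a, lam (lam a) = a) (hB : RInv.IsFixedRing B A lam.toRingEquiv)
    [IsLocalRing B] (hid : ∀ a : A, lam a - a ∈ Ring.jacobson A) (h2 : IsUnit (2 : A))
    (h : Matrix (Fin 2) (Fin 2) A) (hh : IsUnit h) (herm : -(h.map lam).transpose = h)
    (hJ : ∀ i j : Fin 2, h i j - Matrix.of ![![(0 : A), 1], ![-1, 0]] i j ∈ Ring.jacobson A) :
    ∃ (s t : Bˣ) (r : ℕ) (f : Fin r → (MvPolynomial (Fin 2) B ⧸ Ideal.span ({MvPolynomial.X 0 ^ 2 - MvPolynomial.C (s : B), MvPolynomial.X 1 ^ 2 - MvPolynomial.C (t : B)} : Set (MvPolynomial (Fin 2) B)))),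
      Ideal.span (Set.range f) = ⊤ ∧
      ∀ i : Fin r, ∃ v : Matrix (Fin 2) (Fin 2) (Localization.Away (f i) ⊗[B] A), IsUnit v ∧
        (v.map (Algebra.TensorProduct.congr (AlgEquiv.refl : Localization.Away (f i) ≃ₐ[Localization.Away (f i)] Localization.Away (f i)) lam)).transpose * h.map (Algebra.TensorProduct.includeRight : A →ₐ[B] Localization.Away (f i) ⊗[B] A) * v
          = (Matrix.of ![![(0 : A), 1], ![-1, 0]]).map (Algebra.TensorProduct.includeRight : A →ₐ[B] Localization.Away (f i) ⊗[B] A) := by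
  have H := GrothLib.RInvol.isInvol_of_fixedRing' lam hlam hB
  have := H.isLocalRing_of_forall hid
  rw [IsLocalRing.ringJacobson_eq_maximalIdeal] at hid hJ
  have hentry : ∀ i j, -lam (h j i) = h i j := fun i j => congrFun (congrFun herm i) j
  set M := IsLocalRing.maximalIdeal A
  have h00 : h 0 0 ∈ M := by simpa using hJ 0 0
  have h11 : h 1 1 ∈ M := by simpa using hJ 1 1
  have h01 : IsUnit (h 0 1) := IsLocalRing.notMem_maximalIdeal.1 fun hmem => by
    have h' : h 0 1 - 1 ∈ M := hJ 0 1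
    have := M.sub_mem hmem h'
    rw [sub_sub_cancel] at this
    exact (IsLocalRing.maximalIdeal.isMaximal A).ne_top ((Ideal.eq_top_iff_one _).2 this)
  obtain ⟨d, hd⟩ := h01.exists_right_inv
  let D : Matrix (Fin 2) (Fin 2) A := !![1, 0; 0, lam d]
  have hD : IsUnit D := (Matrix.isUnit_iff_isUnit_det _).2 (by
    simpa [D, Matrix.det_fin_two_of] using (IsUnit.of_mul_eq_one_right _ hd).map lam)
  set a := h 0 0
  set b := lam d * h 1 1 * d
  have ha : lam a = -a := by linear_combination -hentry 0 0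
  have hb : lam b = -b := by
    show lam (lam d * h 1 1 * d) = _
    rw [map_mul, map_mul, hlam, show lam (h 1 1) = -h 1 1 by linear_combination -hentry 1 1]; ring
  have hc1 : GrothLib.RInvol.Forms.Cong (lam : A →+* A) h !![a, 1; -1, b] := by
    have h10 : h 1 0 = -lam (h 0 1) := (hentry 1 0).symm
    refine ⟨D, hD, ?_⟩
    ext p q
    fin_cases p <;> fin_cases q <;>
      simp [D, GrothLib.RInvol.Forms.st, Matrix.mul_apply, Matrix.vecMul, Matrix.vecHead, Matrix.vecTail, dotProduct, Fin.sum_univ_two, hlam, hd, a, b, h10, mul_comm]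
    rw [← map_mul, mul_comm d, hd, map_one]
  have hab : lam (a * b) = a * b := by rw [map_mul, ha, hb]; ring
  obtain ⟨s0, hs0⟩ := H.fixed (1 + a * b) (by rw [map_add, map_one, hab])
  have habM : a * b ∈ M := M.mul_mem_right _ h00
  have hs0u : IsUnit s0 := by
    by_contra hu
    have hmem : s0 ∈ M.comap (algebraMap B A) := by rw [H.comap_eq_maximalIdeal M]; exact hu
    rw [Ideal.mem_comap, hs0] at hmem
    have h' := M.sub_mem hmem habM
    rw [add_sub_cancel_right] at h'
    exact (IsLocalRing.maximalIdeal.isMaximal A).ne_top ((Ideal.eq_top_iff_one _).2 h')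
  have h2B : IsUnit (2 : B) := by
    by_contra hu
    have hmem : (2 : B) ∈ M.comap (algebraMap B A) := by rw [H.comap_eq_maximalIdeal M]; exact hu
    rw [Ideal.mem_comap, map_ofNat] at hmem
    exact (IsLocalRing.maximalIdeal.isMaximal A).ne_top (Ideal.eq_top_of_isUnit_mem _ hmem h2)
  refine ⟨hs0u.unit, 1, 2, ![1 + Ideal.Quotient.mk _ (MvPolynomial.X 0), 1 - Ideal.Quotient.mk _ (MvPolynomial.X 0)], ?_, ?_⟩
  · refine Ideal.eq_top_of_isUnit_mem _ (Ideal.add_mem _ (Ideal.subset_span ⟨0, rfl⟩) (Ideal.subset_span ⟨1, rfl⟩)) ?_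
    simp only [Matrix.cons_val_zero, Matrix.cons_val_one]
    rw [show ∀ z : (MvPolynomial (Fin 2) B ⧸ Ideal.span ({MvPolynomial.X 0 ^ 2 - MvPolynomial.C (hs0u.unit : B), MvPolynomial.X 1 ^ 2 - MvPolynomial.C ((1 : Bˣ) : B)} : Set (MvPolynomial (Fin 2) B))), (1 + z) + (1 - z) = 2 from fun z => by ring]
    have h' := h2B.map (algebraMap B (MvPolynomial (Fin 2) B ⧸ Ideal.span ({MvPolynomial.X 0 ^ 2 - MvPolynomial.C (hs0u.unit : B), MvPolynomial.X 1 ^ 2 - MvPolynomial.C ((1 : Bˣ) : B)} : Set (MvPolynomial (Fin 2) B))))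
    rwa [map_ofNat] at h' 
  intro i
  set Q := MvPolynomial (Fin 2) B ⧸ Ideal.span ({MvPolynomial.X 0 ^ 2 - MvPolynomial.C (hs0u.unit : B), MvPolynomial.X 1 ^ 2 - MvPolynomial.C ((1 : Bˣ) : B)} : Set (MvPolynomial (Fin 2) B))
  set f : Fin 2 → Q := ![1 + Ideal.Quotient.mk _ (MvPolynomial.X 0), 1 - Ideal.Quotient.mk _ (MvPolynomial.X 0)]
  let C := Localization.Away (f i)
  let x : Q := Ideal.Quotient.mk _ (MvPolynomial.X 0)
  have hx2 : x * x = algebraMap B Q s0 := by
    show Ideal.Quotient.mk _ _ * Ideal.Quotient.mk _ _ = Ideal.Quotient.mk _ (MvPolynomial.C s0)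
    rw [← map_mul, Ideal.Quotient.eq]
    refine Ideal.subset_span (Or.inl ?_)
    rw [IsUnit.unit_spec]; ring
  obtain ⟨yQ, hy2, hyf⟩ : ∃ yQ : Q, yQ * yQ = algebraMap B Q s0 ∧ 1 + yQ = f i := by
    fin_cases i
    · exact ⟨x, hx2, rfl⟩
    · exact ⟨-x, (by ring : -x * -x = x * x).trans hx2, (sub_eq_add_neg _ _).symm⟩
  let μ := Algebra.TensorProduct.congr (AlgEquiv.refl : C ≃ₐ[C] C) lam
  let φ : A →ₐ[B] C ⊗[B] A := Algebra.TensorProduct.includeRight
  have hφ : ∀ r, φ (lam r) = μ (φ r) := fun r => rfl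
  let yC : C := algebraMap Q C yQ
  let y : C ⊗[B] A := yC ⊗ₜ[B] 1
  have hy : μ y = y := by
    show yC ⊗ₜ[B] lam 1 = _
    rw [map_one]
  have hyy : y * y = 1 + φ a * φ b := by
    rw [← map_mul, ← map_one φ, ← map_add, ← hs0, AlgHom.commutes]
    show (yC ⊗ₜ[B] (1 : A)) * (yC ⊗ₜ[B] 1) = algebraMap B C s0 ⊗ₜ[B] 1
    rw [Algebra.TensorProduct.tmul_mul_tmul, one_mul, ← map_mul, hy2, ← IsScalarTower.algebraMap_apply]
  have hyu : IsUnit y := by
    refine isUnit_of_mul_isUnit_left (y := y) ?_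
    rw [hyy, ← map_mul, ← map_one φ, ← map_add, ← hs0]
    exact (hs0u.map (algebraMap B A)).map φ
  have hy1 : IsUnit (1 + y) := by
    have : (1 : C ⊗[B] A) + y = algebraMap C (C ⊗[B] A) (algebraMap Q C (f i)) := by
      show _ = algebraMap Q C (f i) ⊗ₜ[B] (1 : A)
      have h' : algebraMap Q C (1 + yQ) = algebraMap Q C (f i) := congrArg _ hyf
      rw [← h', map_add, map_one, TensorProduct.add_tmul, Algebra.TensorProduct.one_def]
    rw [this]
    exact (IsLocalization.Away.algebraMap_isUnit (f i)).map _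
  have h2C : IsUnit (2 : C ⊗[B] A) := by rw [← map_ofNat φ 2]; exact h2.map φ
  have hcA := hc1.map (lam' := (μ : C ⊗[B] A →+* C ⊗[B] A)) (φ : A →+* C ⊗[B] A) hφ
  have hc2 := GrothLib.RInvol.Forms.cong_alt2 (lam := (μ : C ⊗[B] A →+* C ⊗[B] A)) (a := φ a) (b := φ b) (y := y)
    (by rw [show (μ : C ⊗[B] A →+* C ⊗[B] A) (φ a) = φ (lam a) from (hφ a).symm, ha, map_neg])
    (by rw [show (μ : C ⊗[B] A →+* C ⊗[B] A) (φ b) = φ (lam b) from (hφ b).symm, hb, map_neg]) hy hyy h2C hyu hy1
  rw [show ((!![a, 1; -1, b] : Matrix (Fin 2) (Fin 2) A).map (φ : A →+* C ⊗[B] A)) = !![φ a, 1; -1, φ b] from by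
    ext p q; fin_cases p <;> fin_cases q <;> simp] at hcA
  obtain ⟨g, hg, hgd⟩ := hcA.trans hc2
  refine ⟨GrothLib.RInvol.Forms.st (μ : C ⊗[B] A →+* C ⊗[B] A) g, GrothLib.RInvol.Forms.isUnit_st _ hg, ?_⟩
  have hμμ : ∀ z, μ (μ z) = z := (H.baseChange C (Or.inr h2B)).invol
  rw [show ((GrothLib.RInvol.Forms.st (μ : C ⊗[B] A →+* C ⊗[B] A) g).map μ).transpose = g from by
    ext p q; exact hμμ (g p q)]
  refine hgd.trans ?_
  ext p q; fin_cases p <;> fin_cases q <;> simp [GrothLib.RInvol.Forms.alt2] <;> first | exact (map_zero φ).symm | exact (map_one φ).symm | exact ((map_neg φ 1).trans (congrArg Neg.neg (map_one φ))).symm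

end Groth.Agent.S17363
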