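import Groth.Statements.S17364
import Groth.Agent.Lib.HermSpread21.Basic
-- import your own Groth.Agent.* helpers here

set_option autoImplicit false
universe u v
open scoped TensorProduct
open RInv

namespace Groth.Agent.S17364

/-- Let `A` be a commutative ring with an involution `lam` whose fixed ring is `B`, let `ε = ±1`, and
let `h, h'` be invertible `n × n` matrices over `A` with `h = ε (lam h)ᵀ` and `h' = ε (lam h')ᵀ`.
Let `p` be a prime of `B` and suppose there are units `s_1, …, s_l` of the local ring `B_p`,
elements `f_1, …, f_r` of `B_p[X_1, …, X_l]/(X_k² - s_k)` (square roots of the `s_k` adjoined)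
generating the unit ideal, and for each `i` an invertible matrix `v` over `C ⊗_B A` for the
localisation `C` of that ring at `f_i` (any `B`-algebra with the universal property of that
localisation) (`lam` extended so as to fix the square roots and `B_p`) with `(lam v)ᵀ h v = h'`.
Then there is `b ∉ p` in `B` such that the same kind of data exists with `B_p` replaced by `B_b`:
units of `B_b`, a finite family generating the unit ideal of `B_b[X_1, …, X_l]/(X_k² - s_k)`, and
invertible matrices over the corresponding localisations tensored with `A` congruating `h` to `h'`. -/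
theorem result (B : Type u) (A : Type v) [CommRing B] [CommRing A]
    [Algebra B A] (lam : A ≃ₐ[B] A) (hlam : ∀ a, lam (lam a) = a) (hB : RInv.IsFixedRing B A lam.toRingEquiv)
    (n : ℕ) (ε : A) (hε : ε = 1 ∨ ε = -1) (h h' : Matrix (Fin n) (Fin n) A) (hh : IsUnit h) (hh' : IsUnit h')
    (herm : ε • (h.map lam).transpose = h) (herm' : ε • (h'.map lam).transpose = h')
    (p : Ideal B) [p.IsPrime]
    (hdata : (∃ (l : ℕ) (s : Fin l → (Localization.AtPrime p)ˣ) (r : ℕ) (f : Fin r → (MvPolynomial (Fin l) (Localization.AtPrime p) ⧸ Ideal.span (Set.range fun k : Fin l => MvPolynomial.X k ^ 2 - MvPolynomial.C (s k : Localization.AtPrime p)))),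
        Ideal.span (Set.range f) = ⊤ ∧
        ∀ (i : Fin r) (C : Type u) [CommRing C] [Algebra B C]
          [Algebra (MvPolynomial (Fin l) (Localization.AtPrime p) ⧸ Ideal.span (Set.range fun k : Fin l => MvPolynomial.X k ^ 2 - MvPolynomial.C (s k : Localization.AtPrime p))) C]
          [IsScalarTower B (MvPolynomial (Fin l) (Localization.AtPrime p) ⧸ Ideal.span (Set.range fun k : Fin l => MvPolynomial.X k ^ 2 - MvPolynomial.C (s k : Localization.AtPrime p))) C]
          [IsLocalization.Away (f i) C],
          ∃ v : Matrix (Fin n) (Fin n) (C ⊗[B] A), IsUnit v ∧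
            (v.map (Algebra.TensorProduct.congr (AlgEquiv.refl : C ≃ₐ[C] C) lam)).transpose * h.map (Algebra.TensorProduct.includeRight : A →ₐ[B] C ⊗[B] A) * v = h'.map (Algebra.TensorProduct.includeRight : A →ₐ[B] C ⊗[B] A))) :
    ∃ b : B, b ∉ p ∧
      (∃ (l : ℕ) (s : Fin l → (Localization.Away b)ˣ) (r : ℕ) (f : Fin r → (MvPolynomial (Fin l) (Localization.Away b) ⧸ Ideal.span (Set.range fun k : Fin l => MvPolynomial.X k ^ 2 - MvPolynomial.C (s k : Localization.Away b)))),
        Ideal.span (Set.range f) = ⊤ ∧
        ∀ (i : Fin r) (C : Type u) [CommRing C] [Algebra B C]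
          [Algebra (MvPolynomial (Fin l) (Localization.Away b) ⧸ Ideal.span (Set.range fun k : Fin l => MvPolynomial.X k ^ 2 - MvPolynomial.C (s k : Localization.Away b))) C]
          [IsScalarTower B (MvPolynomial (Fin l) (Localization.Away b) ⧸ Ideal.span (Set.range fun k : Fin l => MvPolynomial.X k ^ 2 - MvPolynomial.C (s k : Localization.Away b))) C]
          [IsLocalization.Away (f i) C],
          ∃ v : Matrix (Fin n) (Fin n) (C ⊗[B] A), IsUnit v ∧
            (v.map (Algebra.TensorProduct.congr (AlgEquiv.refl : C ≃ₐ[C] C) lam)).transpose * h.map (Algebra.TensorProduct.includeRight : A →ₐ[B] C ⊗[B] A) * v = h'.map (Algebra.TensorProduct.includeRight : A →ₐ[B] C ⊗[B] A)) := by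
  obtain ⟨l, s, r, f, hf, hv⟩ := hdata
  obtain ⟨b, hb, s', f', hf', hv'⟩ := GrothLib.HermSpread21.main lam h h' p l s r f hf hv
  exact ⟨b, hb, l, s', r, f', hf', hv'⟩

end Groth.Agent.S17364
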