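import Groth.Statements.S17366
import Groth.Agent.Lib.DepthAlong.Smooth
import Groth.Agent.Lib.Depth.HartogsUnit
import Groth.Agent.Lib.Euler.Coh
import Groth.Agent.Lib.LocFree8.Basic
import Groth.Agent.Lib.QuasiFlat.Basic
import Groth.Agent.Lib.RhoShBig.Free

set_option autoImplicit false
universe u
open CategoryTheory CategoryTheory.Limits AlgebraicGeometry TopologicalSpace
open CInt

namespace Groth.Agent.S17366

/-- Let k be an algebraically closed field, X a smooth proper k-scheme admitting an ample invertible
sheaf, and S a locally Noetherian k-scheme. Let E be a coherent module on S ×_k X, flat over S,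
whose restriction to every fibre {s} × X is torsion-free, let F be a finite locally free module on S
×_k X, and let U be the largest open subset of S ×_k X over which E is finite locally free. Then
every homomorphism E|_U ⟶ F|_U is the restriction of a unique homomorphism E ⟶ F. (The published
statement also asserts the compatibility of this extension with base change along morphisms S' ⟶ S;
that clause is not restated here.) -/
theorem result
    (k : Type u) [Field k] [IsAlgClosed k] (S X : Scheme.{u})
    (b : S ⟶ Spec (CommRingCat.of k)) (a : X ⟶ Spec (CommRingCat.of k))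
    [IsLocallyNoetherian S] [Smooth a] [IsProper a]
    (hproj : ∃ H : X.Modules, CohB1.IsAmple H)
    (E F : (pullback b a).Modules) (hEcoh : Coh.IsCoh E)
    (hEfl : FlatMod.IsFlatOver (pullback.fst b a) E)
    (hEtf : ∀ s : ↥S, TorSh.IsTorsionFree
      ((Scheme.Modules.pullback ((pullback.fst b a).fiberι s)).obj E))
    (hF : FlatMod.IsFinLocFree F)
    (U : (pullback b a).Opens)
    (hU : ∀ x : ↥(pullback b a), x ∈ U ↔
      ∃ (V : (pullback b a).Opens) (n : ℕ), x ∈ V ∧ Nonempty (E.restrict V.ι ≅ FlatMod.freeMod (↑V) n))
    (ψ : E.restrict U.ι ⟶ F.restrict U.ι) :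
    ∃! φ : E ⟶ F, (Scheme.Modules.restrictFunctor U.ι).map φ = ψ := by
    haveI : IsLocallyNoetherian (pullback b a) := LocallyOfFiniteType.isLocallyNoetherian (pullback.fst b a)
    have hcoh := GrothLib.Euler.isCoh_of_isFinLocFree hF
    haveI := hcoh.1
    haveI : F.IsFiniteType := hcoh.2
    haveI := hEcoh.1
    have hfp : CohB1.IsFP E := by
      refine GrothLib.FlatFP.isFP_of_sections E (fun V : (pullback b a).affineOpens => V.1)
        (iSup_affineOpens_eq_top _) (fun V => V.2) fun V => ?_
      haveI := GrothLib.QCoh.moduleFinite_of_isFiniteType E hEcoh.2 V.2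
      haveI : IsNoetherianRing Γ(pullback b a, V.1) := IsLocallyNoetherian.component_noetherian V
      exact Module.finitePresentation_of_finite _ _
    have hdepth : ∀ x : ↥(pullback b a), x ∉ U →
        (2 : ℕ∞) ≤ LocCoh.depth ((pullback b a).presheaf.stalk x) (F.presheaf.stalk x) := fun x hx => by
      have hdim : (2 : WithBot ℕ∞) ≤ ringKrullDim ↑(CInt.fiberStalk (pullback.fst b a) x) := by
        by_contra hd
        refine hx ((hU x).mpr (GrothLib.RhoShBig.exists_free_nhd_of_torsionFree (pullback.fst b a) E hfp hEfl x
          (hEtf _) ?_))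
        haveI := GrothLib.DepthAlong.isRegularLocalRing_fiberStalk (pullback.fst b a) x
        obtain ⟨rs, -, -, h3⟩ :=
          GrothLib.CMFree.exists_weaklyRegular_of_isRegularLocalRing ↑(CInt.fiberStalk (pullback.fst b a) x)
        rw [← h3] at hd ⊢
        have : ¬ 2 ≤ rs.length := fun h => hd (by exact_mod_cast h)
        exact_mod_cast (by omega : rs.length ≤ 1)
      haveI := ((GrothLib.LocFree8.isFinLocFree_iff_fp_free F).mp hF).2 x
      haveI := GrothLib.QuasiFlat.finite_stalk F hcoh x
      exact GrothLib.DepthAlong.le_depth_of_free 2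
        (GrothLib.DepthAlong.le_depth_stalk_of_smooth (pullback.fst b a) x 2 hdim)
    exact (GrothLib.Depth.restrict_map_bijective (F := E) hdepth).existsUnique ψ

end Groth.Agent.S17366
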