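import Groth.Statements.S1737
import Groth.Agent.Lib.Depth.CM
import Mathlib.RingTheory.Ideal.AssociatedPrime.Localization

set_option autoImplicit false
universe u
open LocCoh

namespace Groth.Agent.S1737

/-- Let A be a Noetherian ring, T ⊆ Spec A stable under specialization and M a finite A-module. There
are a finite A-module M' and a surjection M → M' which is bijective after localizing at every prime
outside T and such that M'_p has depth ≥ 1 over A_p for every p in T. (The source states this for
coherent modules on a Noetherian scheme, with uniqueness.) -/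
theorem result (A : Type u) [CommRing A] [IsNoetherianRing A] (T : Set (PrimeSpectrum A)) (hT : StableUnderSpecialization T) (M : Type u) [AddCommGroup M] [Module A M] [Module.Finite A M] : ∃ (M' : Type u) (_ : AddCommGroup M') (_ : Module A M') (_ : Module.Finite A M') (f : M →ₗ[A] M'), Function.Surjective f ∧ (∀ p : PrimeSpectrum A, p ∉ T → Function.Bijective (LocalizedModule.map p.asIdeal.primeCompl f)) ∧ ∀ p : PrimeSpectrum A, p ∈ T → 1 ≤ LocCoh.depth (Localization.AtPrime p.asIdeal) (LocalizedModule p.asIdeal.primeCompl M') := by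
  classical
  let N : Submodule A M :=
    { carrier := {m | ∀ q : PrimeSpectrum A, q ∉ T → ∃ s : A, s ∉ q.asIdeal ∧ s • m = 0}
      add_mem' := fun {a b} ha hb q hq => by
        obtain ⟨s, hs, hs'⟩ := ha q hq
        obtain ⟨t, ht, ht'⟩ := hb q hq
        refine ⟨s * t, q.isPrime.mul_notMem hs ht, ?_⟩
        rw [smul_add, mul_smul s t b, ht', smul_zero, mul_comm, mul_smul, hs', smul_zero, add_zero]
      zero_mem' := fun q _ => ⟨1, q.asIdeal.one_notMem, smul_zero _⟩
      smul_mem' := fun c m hm q hq => by
        obtain ⟨s, hs, hs'⟩ := hm q hq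
        exact ⟨s, hs, by rw [smul_comm, hs', smul_zero]⟩ }
  refine ⟨M ⧸ N, inferInstance, inferInstance, inferInstance, N.mkQ, N.mkQ_surjective, ?_, ?_⟩
  · intro q hq
    refine ⟨?_, LocalizedModule.map_surjective _ _ N.mkQ_surjective⟩
    rw [← LinearMap.ker_eq_bot, eq_bot_iff]
    intro z hz
    induction z using LocalizedModule.induction_on with
    | h m s =>
      rw [LinearMap.mem_ker, LocalizedModule.map_mk] at hz
      obtain ⟨u, hu⟩ := LocalizedModule.mk_eq.1 (hz.trans (LocalizedModule.zero_mk 1).symm)
      simp only [Submonoid.smul_def, OneMemClass.coe_one, one_smul, smul_zero] at hu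
      have h2 : (u : A) • m ∈ N := (Submodule.Quotient.mk_eq_zero N).1 hu
      obtain ⟨v, hv, hv'⟩ := h2 q hq
      rw [Submodule.mem_bot, ← LocalizedModule.zero_mk (1 : q.asIdeal.primeCompl), LocalizedModule.mk_eq]
      refine ⟨⟨v * u, q.isPrime.mul_notMem hv u.2⟩, ?_⟩
      simp [Submonoid.smul_def, mul_smul, hv']
  · intro p hp
    haveI : IsNoetherianRing (Localization.AtPrime p.asIdeal) :=
      IsLocalization.isNoetherianRing p.asIdeal.primeCompl _ inferInstance
    haveI : Module.Finite (Localization.AtPrime p.asIdeal) (LocalizedModule p.asIdeal.primeCompl (M ⧸ N)) :=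
      Module.Finite.of_isLocalizedModule p.asIdeal.primeCompl
        (LocalizedModule.mkLinearMap p.asIdeal.primeCompl (M ⧸ N))
    rcases subsingleton_or_nontrivial (LocalizedModule p.asIdeal.primeCompl (M ⧸ N)) with hs | hs
    · rw [GrothLib.Depth.depth_eq_top_of_subsingleton]
      exact le_top
    · by_contra hd
      obtain ⟨P, hP, hle⟩ := GrothLib.Depth.exists_associatedPrime_ge
        (IsLocalRing.maximalIdeal.isMaximal _).ne_top hd
      have hPm : P = IsLocalRing.maximalIdeal _ :=
        le_antisymm (IsLocalRing.le_maximalIdeal hP.isPrime.ne_top) hle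
      have h2 := Module.associatedPrimes.comap_mem_associatedPrimes_of_mem_associatedPrimes_of_isLocalizedModule_of_fg
        p.asIdeal.primeCompl (LocalizedModule.mkLinearMap p.asIdeal.primeCompl (M ⧸ N)) P hP
        (IsNoetherian.noetherian _)
      rw [hPm, ← Ideal.under_def, Localization.AtPrime.under_maximalIdeal, AssociatedPrimes.mem_iff,
        isAssociatedPrime_iff] at h2
      obtain ⟨-, x, hx⟩ := h2
      obtain ⟨m, rfl⟩ := Submodule.Quotient.mk_surjective N x
      have hm : m ∈ N := by
        intro q hq
        have hnle : ¬ p.asIdeal ≤ q.asIdeal := fun h =>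
          hq (hT ((PrimeSpectrum.le_iff_specializes p q).1 h) hp)
        obtain ⟨t, htp, htq⟩ := Set.not_subset.1 hnle
        have ht : t • m ∈ N := by
          rw [← Submodule.Quotient.mk_eq_zero, Submodule.Quotient.mk_smul]
          have : t ∈ Submodule.colon ⊥ {Submodule.Quotient.mk (p := N) m} := hx ▸ htp
          simpa [Submodule.mem_colon_singleton] using this
        obtain ⟨s, hs, hs'⟩ := ht q hq
        exact ⟨s * t, q.isPrime.mul_notMem hs htq, by rw [mul_smul, hs']⟩
      apply p.isPrime.ne_top
      rw [hx, Ideal.eq_top_iff_one, Submodule.mem_colon_singleton, one_smul,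
        (Submodule.Quotient.mk_eq_zero N).2 hm]
      exact Submodule.zero_mem _

end Groth.Agent.S1737
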