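import Groth.Agent.Lib.ArtFun.Torsor
import Groth.Statements.S17370
-- import your own Groth.Agent.* helpers here

set_option autoImplicit false
universe u v
open CategoryTheory ArtFun ArtFun.Art
open ArtFun

namespace Groth.Agent.S17370

/-- The tangent action on lifts is free and transitive, for functors and a small extension. Let k be an
algebraically closed field and F a set-valued functor on local Artinian k-algebras with residue
field k such that F(k) is a single point and Schlessinger's condition (H₂) holds (the comparison map
of every square A' ×_k k[ε] is bijective). Let p : B → A be a small extension (surjective, kernel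
the nonzero principal ideal (t), killed by the maximal ideal), P with projections p₁, p₂ a
realisation of the fibre product B ×_A B, and g : P → k[ε] the morphism determined by snd(g z)·t =
p₂ z - p₁ z, so that (p₁, g) also realises P as B ×_k k[ε]. For x in F(A) and a lift y of x to F(B),
the tangent space F(k[ε]) acts on lifts by sending θ to the image under F(p₂) of the element of F(P)
with components (y, θ). If moreover (H₄) holds (the comparison map of the square A' ×_A A' is
bijective for every small extension A' → A), then this map from F(k[ε]) to F(B) is injective and its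
image is the set of all lifts of x: the lifts of x, when non-empty, form a torsor under the tangent
space. (The published statement is for prestacks in groupoids and any square-zero kernel I, with the
group T ⊗ I; this row is the set-valued case for a small extension with kernel (t), where the group
is the tangent space itself.) -/
theorem result (k : Type u) [Field k] [IsAlgClosed k]
    (F : Art k k ⥤ Type v) (h0 : H0 F) (h2 : Heps F) (h4 : HSq F)
    {B A P : Art k k} (p : B ⟶ A) (hp : IsSmallExt p) (t : B)
    (ht : RingHom.ker p.toAlgHom = Ideal.span {t})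
    (p₁ p₂ : P ⟶ B) (hP : IsFibreProd p₁ p₂ p p)
    (g : P ⟶ dual k k) (hg : ∀ z : P, (TrivSqZeroExt.snd (g z) : k) • t = p₂ z - p₁ z)
    (h' : IsFibreProd p₁ g (toBase B) (toBase (dual k k)))
    (x : F.obj A) (y : F.obj B) (hy : F.map p y = x) :
    Function.Injective (fun θ : F.obj (dual k k) =>
        F.map p₂ ((Equiv.ofBijective (cmp F h') (h2 p₁ g h')).symm
          ⟨(y, θ), @Subsingleton.elim _ h0.2 _ _⟩)) ∧
      ∀ y' : F.obj B, F.map p y' = x →
        ∃ θ : F.obj (dual k k),
          F.map p₂ ((Equiv.ofBijective (cmp F h') (h2 p₁ g h')).symm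
            ⟨(y, θ), @Subsingleton.elim _ h0.2 _ _⟩) = y' := by
  let e := Equiv.ofBijective (cmp F h') (h2 p₁ g h')
  have key : ∀ θ, GrothLib.ArtFun.TRel p₁ p₂ g θ y (F.map p₂ (e.symm ⟨(y, θ), @Subsingleton.elim _ h0.2 _ _⟩)) := by
    intro θ
    have hc : cmp F h' (e.symm ⟨(y, θ), @Subsingleton.elim _ h0.2 _ _⟩) =
        ⟨(y, θ), @Subsingleton.elim _ h0.2 _ _⟩ := e.apply_symm_apply _
    exact ⟨_, congrArg (fun w => w.1.1) hc, congrArg (fun w => w.1.2) hc, rfl⟩
  refine ⟨fun a b e' => ?_, fun y' hy' => ?_⟩
  · refine GrothLib.ArtFun.trel_free hp hP h4 (key a) ?_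
    have := key b
    rwa [show F.map p₂ (e.symm ⟨(y, b), _⟩) = F.map p₂ (e.symm ⟨(y, a), _⟩) from e'.symm] at this
  · obtain ⟨z, hz₁, hz₃⟩ := GrothLib.ArtFun.exists_of_cmp_surjective (h4 _ _ _ hP hp).2 y y'
      (hy.trans hy'.symm)
    refine ⟨F.map g z, ?_⟩
    rw [← hz₃]
    exact congrArg _ ((Equiv.symm_apply_eq _).2 (FibProd.ext hz₁.symm rfl))

end Groth.Agent.S17370
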