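import Groth.Statements.S17372
import Groth.Agent.Lib.ArtinAlgz1.Main
import Mathlib
-- import your own Groth.Agent.* helpers here

set_option autoImplicit false
universe u
open CategoryTheory CategoryTheory.Limits
open Algz

namespace Groth.Agent.S17372

section Aux

/-- Sequences by dependent choice. -/
theorem exists_seq {α : ℕ → Type u} (Q : ∀ n, α n → Prop) (r : ∀ n, α (n + 1) → α n → Prop) (a : α 0) (ha : Q 0 a)
    (h : ∀ n g, Q n g → ∃ g', r n g' g ∧ Q (n + 1) g') :
    ∃ G : ∀ n, α n, G 0 = a ∧ (∀ n, Q n (G n)) ∧ ∀ n, r n (G (n + 1)) (G n) := by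
  choose next hr hQ using h
  let T : ∀ n, {g : α n // Q n g} := fun n =>
    Nat.rec (motive := fun n => {g : α n // Q n g}) ⟨a, ha⟩ (fun n t => ⟨next n t.1 t.2, hQ n t.1 t.2⟩) n
  exact ⟨fun n => (T n).1, rfl, fun n => (T n).2, fun n => hr n (T n).1 (T n).2⟩


variable {k : Type u} [Field k] {A : Type u} [CommRing A] [Algebra k A] (m : Ideal A) [hm : m.IsMaximal]

omit [Field k] [Algebra k A] in
theorem isLocalRing_quot (n : ℕ) : IsLocalRing (A ⧸ m ^ (n + 1)) := by
  refine IsLocalRing.of_unique_max_ideal ⟨m.map (Ideal.Quotient.mk _), ?_, fun J hJ => ?_⟩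
  · refine (Ideal.map_eq_top_or_isMaximal_of_surjective _ Ideal.Quotient.mk_surjective hm).resolve_left fun h => ?_
    have h1 := congrArg (Ideal.comap (Ideal.Quotient.mk (m ^ (n + 1)))) h
    rw [Ideal.comap_map_of_surjective' _ Ideal.Quotient.mk_surjective, Ideal.mk_ker, Ideal.comap_top,
      sup_eq_left.2 (Ideal.pow_le_self n.succ_ne_zero)] at h1
    exact hm.ne_top h1
  · have h1 : m ≤ J.comap (Ideal.Quotient.mk (m ^ (n + 1))) :=
      (hJ.isPrime.comap _).le_of_pow_le (fun x hx => by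
        rw [Ideal.mem_comap, Ideal.Quotient.eq_zero_iff_mem.2 hx]; exact zero_mem _)
    have h2 := hm.eq_of_le (hJ.isPrime.comap _).ne_top h1
    exact ((congrArg (Ideal.map (Ideal.Quotient.mk (m ^ (n + 1)))) h2).trans
      (Ideal.map_comap_of_surjective _ Ideal.Quotient.mk_surjective J)).symm

omit [Field k] [Algebra k A] in
theorem mk_mem_maximalIdeal (n : ℕ) [IsLocalRing (A ⧸ m ^ (n + 1))] {a : A} (ha : a ∈ m) :
    Ideal.Quotient.mk (m ^ (n + 1)) a ∈ IsLocalRing.maximalIdeal (A ⧸ m ^ (n + 1)) := by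
  rw [IsLocalRing.mem_maximalIdeal]
  intro hu
  obtain ⟨b, hb⟩ := Ideal.Quotient.mk_surjective (↑hu.unit⁻¹ : A ⧸ m ^ (n + 1))
  have h1 : Ideal.Quotient.mk (m ^ (n + 1)) (a * b - 1) = 0 := by
    rw [map_sub, map_mul, hb, map_one, IsUnit.mul_val_inv, sub_self]
  refine hm.ne_top ((Ideal.eq_top_iff_one _).2 ?_)
  simpa using sub_mem (m.mul_mem_right b ha) (Ideal.pow_le_self n.succ_ne_zero (Ideal.Quotient.eq_zero_iff_mem.1 h1))

theorem residue_surjective_quot (hres' : Function.Surjective (fun c : k => Ideal.Quotient.mk m (algebraMap k A c))) (n : ℕ)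
    [IsLocalRing (A ⧸ m ^ (n + 1))] :
    Function.Surjective fun c : k => IsLocalRing.residue (A ⧸ m ^ (n + 1)) (algebraMap k _ c) := by
  intro y
  obtain ⟨y, rfl⟩ := IsLocalRing.residue_surjective y
  obtain ⟨a, rfl⟩ := Ideal.Quotient.mk_surjective y
  obtain ⟨c, hc⟩ := hres' (Ideal.Quotient.mk m a)
  refine ⟨c, Ideal.Quotient.eq.2 ?_⟩
  rw [show algebraMap k (A ⧸ m ^ (n + 1)) c = Ideal.Quotient.mk _ (algebraMap k A c) from rfl, ← map_sub]
  exact mk_mem_maximalIdeal m n (Ideal.Quotient.eq.1 hc)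

/-- The projections between levels. -/
noncomputable abbrev fac {a b : ℕ} (h : a ≤ b) : (A ⧸ m ^ b) →ₐ[k] A ⧸ m ^ a :=
  Ideal.Quotient.factorₐ k (Ideal.pow_le_pow_right h)

omit hm in
theorem fac_fac {a b c : ℕ} (h : a ≤ b) (h' : b ≤ c) (x : A ⧸ m ^ c) :
    fac (k := k) m h (fac (k := k) m h' x) = fac (k := k) m (h.trans h') x := by
  obtain ⟨y, rfl⟩ := Ideal.Quotient.mk_surjective x
  rfl

variable {R : Type u} [CommRing R] [Algebra k R] [IsLocalRing R]

omit [IsLocalRing R] in
theorem exists_tower (Q : ∀ n, (R →ₐ[k] A ⧸ m ^ (n + 2)) → Prop) (g : R →ₐ[k] A ⧸ m ^ (0 + 2)) (hg : Q 0 g)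
    (hstep : ∀ n g, Q n g → ∃ g', (fac m (show n + 2 ≤ n + 1 + 2 by omega)).comp g' = g ∧ Q (n + 1) g') :
    ∃ G : ∀ n, R →ₐ[k] A ⧸ m ^ (n + 2), G 0 = g ∧ (∀ n, Q n (G n)) ∧
      ∀ (a b : ℕ) (h : a ≤ b) (x : R), fac (k := k) m (Nat.add_le_add_right h 2) (G b x) = G a x := by
  obtain ⟨G, hG0, hGQ, hGs⟩ := exists_seq (α := fun n => R →ₐ[k] A ⧸ m ^ (n + 2)) Q
    (fun n g' g => (fac m (show n + 2 ≤ n + 1 + 2 by omega)).comp g' = g) g hg hstep
  refine ⟨G, hG0, hGQ, fun a b h => ?_⟩
  induction b, h using Nat.le_induction with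
  | base =>
    intro x
    obtain ⟨y, hy⟩ := Ideal.Quotient.mk_surjective (G a x)
    rw [← hy]
    rfl
  | succ b hab ih =>
    intro x
    have h1 : fac (k := k) m (show b + 2 ≤ b + 1 + 2 by omega) (G (b + 1) x) = G b x := AlgHom.congr_fun (hGs b) x
    refine ((fac_fac (k := k) m (Nat.add_le_add_right hab 2) (show b + 2 ≤ b + 1 + 2 by omega) (G (b + 1) x)).symm).trans ?_
    exact (congrArg (fac (k := k) m (Nat.add_le_add_right hab 2)) h1).trans (ih x)

variable (G : ∀ n, R →ₐ[k] A ⧸ m ^ (n + 2))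
    (hG : ∀ {a b : ℕ} (h : a ≤ b) (x : R), fac (k := k) m (Nat.add_le_add_right h 2) (G b x) = G a x)
    (φ : (R ⧸ IsLocalRing.maximalIdeal R ^ (0 + 2)) ≃ₐ[k] (A ⧸ m ^ (0 + 2)))
    (hG0 : G 0 = φ.toAlgHom.comp (Ideal.Quotient.mkₐ k _))

include hG hG0

theorem mem_of_maximal (n : ℕ) {x : R} (hx : x ∈ IsLocalRing.maximalIdeal R) (a : A)
    (ha : G n x = Ideal.Quotient.mk _ a) : a ∈ m := by
  have h0 : φ (Ideal.Quotient.mk _ x) = Ideal.Quotient.mk (m ^ (0 + 2)) a := by
    have h1 := hG (Nat.zero_le n) x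
    rw [ha, hG0] at h1
    exact h1.symm
  have h2 : Ideal.Quotient.mk (m ^ (0 + 2)) (a ^ (0 + 2)) = 0 := by
    rw [map_pow, ← h0, ← map_pow φ, ← map_pow, Ideal.Quotient.eq_zero_iff_mem.2 (Ideal.pow_mem_pow hx (0 + 2)), map_zero]
  exact hm.isPrime.mem_of_pow_mem (0 + 2) (Ideal.pow_le_self (by omega : (0 + 2 : ℕ) ≠ 0) (Ideal.Quotient.eq_zero_iff_mem.1 h2))

theorem kill (n : ℕ) : ∀ x ∈ IsLocalRing.maximalIdeal R ^ (n + 2), G n x = 0 := by
  intro x hx
  have h1 : (IsLocalRing.maximalIdeal R).map (G n) ≤ m.map (Ideal.Quotient.mk (m ^ (n + 2))) := by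
    rw [Ideal.map_le_iff_le_comap]
    intro y hy
    obtain ⟨a, ha⟩ := Ideal.Quotient.mk_surjective (G n y)
    rw [Ideal.mem_comap, ← ha]
    exact Ideal.mem_map_of_mem _ (mem_of_maximal m G hG φ hG0 n hy a ha.symm)
  have h2 := Ideal.pow_right_mono h1 (n + 2) ((Ideal.map_pow (G n) _ (n + 2)).le (Ideal.mem_map_of_mem _ hx))
  rwa [← Ideal.map_pow, Ideal.map_quotient_self, Ideal.mem_bot] at h2

theorem level_surjective [IsNoetherianRing A] (n : ℕ) [Module.Finite k (A ⧸ m ^ (n + 2))]
    (hres' : Function.Surjective (fun c : k => Ideal.Quotient.mk m (algebraMap k A c))) :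
    Function.Surjective (G n) := by
  letI : Algebra R (A ⧸ m ^ (n + 2)) := (G n).toRingHom.toAlgebra
  haveI : IsScalarTower k R (A ⧸ m ^ (n + 2)) := IsScalarTower.of_algebraMap_eq fun c => ((G n).commutes c).symm
  haveI : Module.Finite R (A ⧸ m ^ (n + 2)) := Module.Finite.of_restrictScalars_finite k R _
  haveI := isLocalRing_quot m (n + 1)
  have hgen : m.map (Ideal.Quotient.mk (m ^ (n + 2))) ≤ (IsLocalRing.maximalIdeal R).map (G n) := by
    refine Submodule.le_of_le_smul_of_le_jacobson_bot (I := m.map (Ideal.Quotient.mk (m ^ (n + 2))))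
      (Ideal.FG.map (IsNoetherian.noetherian m) _) ?_ ?_
    · intro y hy
      rw [IsLocalRing.jacobson_eq_maximalIdeal ⊥ bot_ne_top]
      have hle : m.map (Ideal.Quotient.mk (m ^ (n + 2))) ≤ IsLocalRing.maximalIdeal (A ⧸ m ^ (n + 2)) :=
        Ideal.map_le_iff_le_comap.2 fun a ha => mk_mem_maximalIdeal m (n + 1) ha
      exact hle hy
    · intro y hy
      obtain ⟨a, ha, rfl⟩ := (Ideal.mem_map_iff_of_surjective _ Ideal.Quotient.mk_surjective).1 hy
      obtain ⟨x, hx⟩ := Ideal.Quotient.mk_surjective (φ.symm (Ideal.Quotient.mk (m ^ (0 + 2)) a))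
      have hxm : x ∈ IsLocalRing.maximalIdeal R := by
        have h1 : Ideal.Quotient.mk (IsLocalRing.maximalIdeal R ^ (0 + 2)) (x ^ (0 + 2)) = 0 := by
          rw [map_pow, hx, ← map_pow φ.symm, ← map_pow,
            Ideal.Quotient.eq_zero_iff_mem.2 (Ideal.pow_mem_pow ha (0 + 2)), map_zero]
        exact (IsLocalRing.maximalIdeal.isMaximal R).isPrime.mem_of_pow_mem (0 + 2)
          (Ideal.pow_le_self (by omega : (0 + 2 : ℕ) ≠ 0) (Ideal.Quotient.eq_zero_iff_mem.1 h1))
      obtain ⟨b, hb⟩ := Ideal.Quotient.mk_surjective (G n x)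
      have h2 : Ideal.Quotient.mk (m ^ (0 + 2)) b = Ideal.Quotient.mk (m ^ (0 + 2)) a := by
        have h1 := hG (Nat.zero_le n) x
        rw [← hb, hG0] at h1
        exact h1.trans (show φ (Ideal.Quotient.mk _ x) = _ by rw [hx, AlgEquiv.apply_symm_apply])
      refine Submodule.mem_sup.2 ⟨_, Ideal.mem_map_of_mem _ hxm, Ideal.Quotient.mk _ (a - b), ?_, ?_⟩
      · rw [smul_eq_mul, ← Ideal.map_mul, ← pow_two]
        refine Ideal.mem_map_of_mem _ ?_
        have h3 := Ideal.Quotient.eq.1 h2.symm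
        rwa [Nat.zero_add] at h3
      · show G n x + _ = _
        rw [← hb, ← map_add, add_sub_cancel]
  refine fun y => ?_
  have htop : (⊤ : Submodule R (A ⧸ m ^ (n + 2))) ≤ LinearMap.range (Algebra.linearMap R (A ⧸ m ^ (n + 2))) := by
    refine Submodule.le_of_le_smul_of_le_jacobson_bot Module.Finite.fg_top
      (IsLocalRing.maximalIdeal_le_jacobson ⊥) fun y _ => ?_
    obtain ⟨a, rfl⟩ := Ideal.Quotient.mk_surjective y
    obtain ⟨c, hc⟩ := hres' (Ideal.Quotient.mk m a)
    have h1 := hgen (Ideal.mem_map_of_mem (Ideal.Quotient.mk (m ^ (n + 2))) (Ideal.Quotient.eq.1 hc))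
    refine Submodule.mem_sup.2 ⟨Ideal.Quotient.mk _ (algebraMap k A c), ⟨algebraMap k R c, (G n).commutes c⟩,
      Ideal.Quotient.mk _ a - Ideal.Quotient.mk _ (algebraMap k A c), ?_, add_sub_cancel _ _⟩
    rw [Ideal.smul_top_eq_map, Submodule.restrictScalars_mem, ← map_sub, ← neg_sub, map_neg]
    exact neg_mem h1
  exact LinearMap.mem_range.1 (htop (x := y) trivial)

theorem exists_equiv [IsAdicComplete (IsLocalRing.maximalIdeal R) R] [IsNoetherianRing A]
    (hdim : ∀ n, Module.Finite k (A ⧸ m ^ n) ∧ Module.Finite k (R ⧸ IsLocalRing.maximalIdeal R ^ n) ∧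
      Module.finrank k (R ⧸ IsLocalRing.maximalIdeal R ^ n) = Module.finrank k (A ⧸ m ^ n))
    (hres' : Function.Surjective (fun c : k => Ideal.Quotient.mk m (algebraMap k A c))) :
    ∃ α : R ≃ₐ[k] AdicCompletion m A, ∀ n x,
      AdicCompletion.evalₐ m n (α x) = fac (k := k) m (Nat.le_add_right n 2) (G n x) := by
  have hsurj : ∀ n, Function.Surjective (G n) := fun n =>
    haveI := (hdim (n + 2)).1
    level_surjective m G hG φ hG0 n hres'
  have hkill : ∀ n, ∀ x ∈ IsLocalRing.maximalIdeal R ^ (n + 2), G n x = 0 := kill m G hG φ hG0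
  have hker : ∀ n x, G n x = 0 → x ∈ IsLocalRing.maximalIdeal R ^ (n + 2) := by
    intro n x hx
    haveI := (hdim (n + 2)).1
    haveI := (hdim (n + 2)).2.1
    have h1 : Function.Injective (Ideal.Quotient.liftₐ (IsLocalRing.maximalIdeal R ^ (n + 2)) (G n) (hkill n)).toLinearMap := by
      refine (LinearMap.injective_iff_surjective_of_finrank_eq_finrank (hdim (n + 2)).2.2).2 fun y => ?_
      obtain ⟨z, rfl⟩ := hsurj n y
      exact ⟨Ideal.Quotient.mk _ z, rfl⟩
    refine Ideal.Quotient.eq_zero_iff_mem.1 (h1 ?_)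
    rw [map_zero]
    exact hx
  obtain ⟨α, hα⟩ : ∃ α : R →ₐ[k] AdicCompletion m A, ∀ n x,
      AdicCompletion.evalₐ m n (α x) = fac (k := k) m (Nat.le_add_right n 2) (G n x) := by
    refine ⟨AdicCompletion.liftAlgHom m (fun n => (fac m (Nat.le_add_right n 2)).comp (G n)) fun {a b} h => ?_,
      fun n x => AdicCompletion.evalₐ_liftAlgHom _ _ _ _ _⟩
    refine AlgHom.ext fun x => ?_
    simp only [AlgHom.comp_apply, ← hG h x, fac_fac]
    exact fac_fac m h (Nat.le_add_right b 2) _
  have heval : ∀ n (y : AdicCompletion m A), fac (k := k) m (Nat.le_add_right n 2) (AdicCompletion.evalₐ m (n + 2) y) =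
      AdicCompletion.evalₐ m n y := fun n y => by
    obtain ⟨c, rfl⟩ := AdicCompletion.mk_surjective m A y
    have h3 := AdicCompletion.AdicCauchySequence.mk_eq_mk (Nat.le_add_right n 2) c
    rw [Submodule.Quotient.eq, smul_eq_mul, Ideal.mul_top] at h3
    rw [AdicCompletion.evalₐ_mk, AdicCompletion.evalₐ_mk]
    exact Ideal.Quotient.eq.2 h3
  refine ⟨AlgEquiv.ofBijective α ⟨(injective_iff_map_eq_zero α).2 fun x hx => ?_, fun y => ?_⟩, hα⟩
  · refine IsHausdorff.haus (IsAdicComplete.toIsHausdorff (I := IsLocalRing.maximalIdeal R) (M := R)) x fun n => ?_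
    rw [SModEq.sub_mem, sub_zero, smul_eq_mul, Ideal.mul_top]
    refine Ideal.pow_le_pow_right (Nat.le_add_right n 2) (hker n x ?_)
    have h1 := hα (n + 2) x
    rw [hx, map_zero] at h1
    rw [← hG (Nat.le_add_right n 2) x]
    exact h1.symm
  · choose xs hxs using fun n => hsurj n (AdicCompletion.evalₐ m (n + 2) y)
    have hcompat : ∀ {a b : ℕ}, a ≤ b → xs a - xs b ∈ IsLocalRing.maximalIdeal R ^ (a + 2) := fun {a b} h => by
      refine hker a _ ?_
      rw [map_sub, hxs, ← hG h, hxs, sub_eq_zero]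
      obtain ⟨c, rfl⟩ := AdicCompletion.mk_surjective m A y
      have h1 := AdicCompletion.AdicCauchySequence.mk_eq_mk (Nat.add_le_add_right h 2) c
      rw [Submodule.Quotient.eq, smul_eq_mul, Ideal.mul_top] at h1
      rw [AdicCompletion.evalₐ_mk, AdicCompletion.evalₐ_mk]
      exact (Ideal.Quotient.eq.2 h1).symm
    obtain ⟨x, hx⟩ := IsPrecomplete.prec (IsAdicComplete.toIsPrecomplete (I := IsLocalRing.maximalIdeal R) (M := R))
      (f := xs) (fun {a b} h => by
        rw [SModEq.sub_mem, smul_eq_mul, Ideal.mul_top]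
        exact Ideal.pow_le_pow_right (Nat.le_add_right a 2) (hcompat h))
    refine ⟨x, AdicCompletion.ext_evalₐ fun n => ?_⟩
    have h1 := hx (n + 2)
    rw [SModEq.sub_mem, smul_eq_mul, Ideal.mul_top] at h1
    have h2 : G n x = AdicCompletion.evalₐ m (n + 2) y := by
      rw [← sub_eq_zero, ← hxs n, ← map_sub]
      refine hkill n _ ?_
      rw [show x - xs n = -(xs n - xs (n + 2)) + -(xs (n + 2) - x) by ring]
      exact add_mem (neg_mem (hcompat (Nat.le_add_right n 2))) (neg_mem h1)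
    rw [hα, h2, heval]

end Aux

/-- Functor form. Let k be an algebraically closed field and F a set-valued functor on commutative
k-algebras which preserves filtered colimits (limit preserving). Let R be a complete local
Noetherian k-algebra with residue field k and ξ an element of F(R) which is versal: for every
surjection π : B → B₀ of local Artinian k-algebras with residue field k, every k-algebra map g₀ : R
→ B₀ and every y in F(B) whose image in F(B₀) is the image of ξ under g₀, there is a k-algebra map g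
: R → B lifting g₀ along π with image of ξ equal to y. Then there exist a finitely generated
k-algebra A, a maximal ideal m of A with residue field k, an element η of F(A) and a ring
isomorphism α from R to the m-adic completion of A commuting with the scalars from k, such that for
every n, pushing ξ forward along the k-algebra map R → A/m^(n+1) obtained from α and the evaluation
of the completion gives the image of η under A → A/m^(n+1). (The published statement is for
limit-preserving prestacks over k-schemes; this row is stated for set-valued functors on k-algebras,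
with the residue field k that a formal deformation carries by definition made an explicit
hypothesis.) -/
theorem result (k : Type u) [Field k] [IsAlgClosed k]
    (F : CommAlgCat.{u} k ⥤ Type u)
    (hF : ∀ (J : Type u) [SmallCategory J] [IsFiltered J], PreservesColimitsOfShape J F)
    (R : Type u) [CommRing R] [Algebra k R] [IsLocalRing R] [IsNoetherianRing R]
    [IsAdicComplete (IsLocalRing.maximalIdeal R) R]
    (hres : Function.Surjective (fun c : k => IsLocalRing.residue R (algebraMap k R c)))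
    (ξ : F.obj (CommAlgCat.of k R))
    (hvers : ∀ (B B₀ : Type u) [CommRing B] [Algebra k B] [IsLocalRing B] [IsArtinianRing B]
        [CommRing B₀] [Algebra k B₀] [IsLocalRing B₀] [IsArtinianRing B₀],
        Function.Surjective (fun c : k => IsLocalRing.residue B (algebraMap k B c)) →
        ∀ (π : B →ₐ[k] B₀), Function.Surjective π →
          ∀ (g₀ : R →ₐ[k] B₀) (y : F.obj (CommAlgCat.of k B)),
            F.map (CommAlgCat.ofHom π) y = F.map (CommAlgCat.ofHom g₀) ξ →
              ∃ g : R →ₐ[k] B, π.comp g = g₀ ∧ F.map (CommAlgCat.ofHom g) ξ = y) :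
    ∃ (A : Type u) (_ : CommRing A) (_ : Algebra k A) (_ : Algebra.FiniteType k A)
      (m : Ideal A) (_ : m.IsMaximal)
      (_ : Function.Surjective (fun c : k => Ideal.Quotient.mk m (algebraMap k A c)))
      (η : F.obj (CommAlgCat.of k A))
      (α : R ≃+* AdicCompletion m A),
      (∀ c : k, α (algebraMap k R c) = algebraMap A (AdicCompletion m A) (algebraMap k A c)) ∧
      ∀ (n : ℕ) (ψ : R →ₐ[k] A ⧸ m ^ (n + 1)),
        ψ.toRingHom = (AdicCompletion.evalₐ m (n + 1) :
            AdicCompletion m A →ₐ[A] A ⧸ m ^ (n + 1)).toRingHom.comp α.toRingHom →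
          F.map (CommAlgCat.ofHom ψ) ξ = F.map (CommAlgCat.ofHom (Ideal.Quotient.mkₐ k (m ^ (n + 1)))) η := by
  have H := GrothLib.ArtinAlgz1.exists_algebraization k F hF R hres ξ 1
  rw [show (1 : ℕ) + 1 = 0 + 2 from rfl] at H
  obtain ⟨A, _, _, hA, m, hm, hres', η, φ, hφ, hdim, -⟩ := H
  haveI : IsNoetherianRing A := Algebra.FiniteType.isNoetherianRing k A
  obtain ⟨G, hG0, hGQ, hG'⟩ := exists_tower (k := k) (R := R) m
    (fun n g => F.map (CommAlgCat.ofHom g) ξ = F.map (CommAlgCat.ofHom (Ideal.Quotient.mkₐ k (m ^ (n + 2)))) η)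
    (φ.toAlgHom.comp (Ideal.Quotient.mkₐ k _)) hφ (fun n g hg => by
      haveI := isLocalRing_quot m (n + 1)
      haveI : IsLocalRing (A ⧸ m ^ (n + 1 + 2)) := isLocalRing_quot m (n + 1 + 1)
      haveI : IsArtinianRing (A ⧸ m ^ (n + 2)) := haveI := (hdim (n + 2)).1; IsArtinianRing.of_finite k _
      haveI : IsArtinianRing (A ⧸ m ^ (n + 1 + 2)) := haveI := (hdim (n + 1 + 2)).1; IsArtinianRing.of_finite k _
      refine hvers (A ⧸ m ^ (n + 1 + 2)) (A ⧸ m ^ (n + 2)) (residue_surjective_quot m hres' (n + 1 + 1))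
        (fac m (show n + 2 ≤ n + 1 + 2 by omega))
        (Ideal.Quotient.factor_surjective (Ideal.pow_le_pow_right (show n + 2 ≤ n + 1 + 2 by omega)))
        g _ ?_
      rw [hg, ← Functor.map_comp_apply, ← CommAlgCat.ofHom_comp]
      rfl)
  obtain ⟨α, hα⟩ := exists_equiv m G (fun {a b} h x => hG' a b h x) φ hG0 hdim hres'
  refine ⟨A, inferInstance, inferInstance, hA, m, hm, hres', η, α.toRingEquiv, fun c => α.commutes c,
    fun n ψ hψ => ?_⟩
  have h1 : ψ = (fac m (Nat.le_add_right (n + 1) 2)).comp (G (n + 1)) := AlgHom.ext fun x =>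
    (RingHom.congr_fun hψ x).trans (hα (n + 1) x)
  rw [h1, CommAlgCat.ofHom_comp, Functor.map_comp_apply, hGQ, ← Functor.map_comp_apply, ← CommAlgCat.ofHom_comp]
  rfl

end Groth.Agent.S17372
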