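import Groth.Statements.S17373
import Groth.Agent.Lib.AsympCoh5.NumEff

set_option autoImplicit false
universe u
open CategoryTheory CategoryTheory.Limits AlgebraicGeometry
open Variety

namespace Groth.Agent.S17373

/-- Let X be a geometrically integral scheme proper over a field k and L an ample invertible module on
X. Then there is an integer m₀ such that for all m ≥ m₀ and every numerically trivial invertible
module N (degree zero on every integral closed one-dimensional subscheme), H^0(X, L^m ⊗ N) has the
same k-dimension as H^0(X, L^m), and that dimension is positive. (The published statement is for a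
big divisor D and asserts that every invertible module numerically equivalent to O(mD) comes from an
effective divisor for m large; its argument reduces to ample D and establishes exactly the equality
of dimensions stated here.) -/
theorem result (k : Type u) [Field k] (X : Scheme.{u})
    [X.Over (Spec (CommRingCat.of k))] [IsIntegral X] [GeometricallyIntegral (X ↘ Spec (CommRingCat.of k))]
    [IsProper (X ↘ Spec (CommRingCat.of k))]
    (L : X.Modules) (hL : CohB1.IsAmple L) :
    ∃ m₀ : ℕ, ∀ m : ℕ, m₀ ≤ m → ∀ N : X.Modules, PicF.IsInvertible N → Pic13.IsNumEquivZero k X N →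
      Module.finrank k (Coh.HH X (CohB1.tensorMod (CohB1.tensorPow L m) N) 0) =
          Module.finrank k (Coh.HH X (CohB1.tensorPow L m) 0) ∧
        0 < Module.finrank k (Coh.HH X (CohB1.tensorPow L m) 0) := by
  haveI := GrothLib.Euler.isNoetherian_of_proper (X := X) k
  obtain ⟨m₀, hm₀⟩ := GrothLib.AsympCoh5.exists_numTriv_sections k hL
  refine ⟨m₀, fun m hm N hN hNum => ?_⟩
  obtain ⟨h1, h2⟩ := hm₀ m hm _ ((GrothLib.NumReg26.numCls_iff k (GrothLib.Cube.hasCls_clsMod hN)).2 hNum)
  have hLm := (GrothLib.Cube.hasCls_clsMod hL.1).tensorPow m
  have e1 := GrothLib.AsympCoh5.hl_eq_hf_structure k (hLm.tensor (GrothLib.Cube.hasCls_clsMod hN)) 0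
  have e2 := GrothLib.AsympCoh5.hl_eq_hf_structure k hLm 0
  rw [mul_comm] at e1
  simp only [GrothLib.NefGrowth.hl] at e1 e2
  rw [e1, e2]
  exact ⟨h1, h2⟩


end Groth.Agent.S17373
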