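import Groth.Statements.S17374
import Groth.Agent.Lib.AsympCoh5.NumEff

set_option autoImplicit false
universe u
open CategoryTheory CategoryTheory.Limits AlgebraicGeometry
open scoped ENNReal
open Variety

namespace Groth.Agent.S17374

/-- Let X be a geometrically integral scheme of dimension d, proper over a field k and admitting an
ample invertible module, and let L, N be invertible modules on X with N numerically trivial (degree
zero on every integral closed one-dimensional subscheme). Then the upper limits of dim_k H^0(X, (L ⊗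
N)^m) / m^d and of dim_k H^0(X, L^m) / m^d as m → ∞, taken in the extended non-negative reals,
agree; that is, the volume of an invertible module depends only on its numerical equivalence class. -/
theorem result (k : Type u) [Field k] (X : Scheme.{u})
    [X.Over (Spec (CommRingCat.of k))] [IsIntegral X] [GeometricallyIntegral (X ↘ Spec (CommRingCat.of k))]
    [IsProper (X ↘ Spec (CommRingCat.of k))]
    (hproj : ∃ A : X.Modules, CohB1.IsAmple A) (d : ℕ) (hd : topologicalKrullDim X = d)
    (L N : X.Modules) (hL : PicF.IsInvertible L) (hN : PicF.IsInvertible N) (hNum : Pic13.IsNumEquivZero k X N) :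
    Filter.limsup (fun m : ℕ => (Module.finrank k (Coh.HH X (CohB1.tensorPow (CohB1.tensorMod L N) m) 0) : ℝ≥0∞) /
        (m : ℝ≥0∞) ^ d) Filter.atTop =
      Filter.limsup (fun m : ℕ => (Module.finrank k (Coh.HH X (CohB1.tensorPow L m) 0) : ℝ≥0∞) /
        (m : ℝ≥0∞) ^ d) Filter.atTop := by
  haveI := GrothLib.Euler.isNoetherian_of_proper (X := X) k
  obtain ⟨A, hA⟩ := hproj
  have hz := (GrothLib.NumReg26.numCls_iff k (GrothLib.Cube.hasCls_clsMod hN)).2 hNum
  have hx := GrothLib.Cube.hasCls_clsMod hL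
  have hxz := hx.tensor (GrothLib.Cube.hasCls_clsMod hN)
  generalize GrothLib.Cube.clsMod hL = x at hx hxz
  generalize GrothLib.Cube.clsMod hN = z at hz hxz
  have key : ∀ (P Q : X.Modules) (y w : GrothLib.Cube.Pic X), GrothLib.Cube.HasCls P y →
      GrothLib.Cube.HasCls Q (y * w) → GrothLib.NumReg26.NumCls k w →
      Filter.limsup (fun m : ℕ => (Module.finrank k (Coh.HH X (CohB1.tensorPow Q m) 0) : ℝ≥0∞) / (m : ℝ≥0∞) ^ d)
          Filter.atTop ≤
        Filter.limsup (fun m : ℕ => (Module.finrank k (Coh.HH X (CohB1.tensorPow P m) 0) : ℝ≥0∞) / (m : ℝ≥0∞) ^ d)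
          Filter.atTop := by
    intro P Q y w hP hQ hw
    obtain ⟨C, hC0, hC⟩ := GrothLib.AsympCoh5.exists_h0_le_numTriv k hA hd y
    have he : Filter.Tendsto (fun m : ℕ => ((C * 2 ^ (d - 1) : ℕ) : ℝ≥0∞) * (m : ℝ≥0∞)⁻¹) Filter.atTop (nhds 0) := by
      simpa using ENNReal.Tendsto.const_mul ENNReal.tendsto_inv_nat_nhds_zero
        (Or.inr (ENNReal.natCast_ne_top (C * 2 ^ (d - 1))))
    refine ENNReal.le_of_forall_pos_le_add fun ε hε _ => ?_
    have hv := Monotone.map_limsup_of_continuousAt (F := Filter.atTop)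
      (fun (a b : ℝ≥0∞) (h : a ≤ b) => add_le_add_left h ((ε : ℝ≥0∞)))
      (fun m : ℕ => (Module.finrank k (Coh.HH X (CohB1.tensorPow P m) 0) : ℝ≥0∞) / (m : ℝ≥0∞) ^ d)
      (continuous_add_right (ε : ℝ≥0∞)).continuousAt
    refine le_of_le_of_eq (Filter.limsup_le_limsup ?_) hv.symm
    filter_upwards [he.eventually (eventually_le_nhds (show (0 : ℝ≥0∞) < ε by exact_mod_cast hε)),
      Filter.eventually_ge_atTop 1] with m heε hm
    refine le_trans ?_ (add_le_add le_rfl heε)
    have h1 := hC w hw m hm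
    rw [← GrothLib.AsympCoh5.hl_eq_hf_structure k (hQ.tensorPow m),
      ← GrothLib.AsympCoh5.hl_eq_hf_structure k (hP.tensorPow m)] at h1
    simp only [GrothLib.NefGrowth.hl] at h1
    have hm0 : (m : ℝ≥0∞) ^ d ≠ 0 := pow_ne_zero _ (by exact_mod_cast (show m ≠ 0 by omega))
    have hmt : (m : ℝ≥0∞) ^ d ≠ ⊤ := ENNReal.pow_ne_top (ENNReal.natCast_ne_top m)
    rw [ENNReal.div_le_iff hm0 hmt, add_mul, ENNReal.div_mul_cancel hm0 hmt]
    rcases Nat.eq_zero_or_pos d with h0 | h0
    · rw [hC0 h0, Nat.zero_mul, Nat.add_zero] at h1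
      simp [hC0 h0, h1]
    · refine le_trans (show (_ : ℝ≥0∞) ≤ ((Module.finrank k (Coh.HH X (CohB1.tensorPow P m) 0) +
        C * 2 ^ (d - 1) * m ^ (d - 1) : ℕ) : ℝ≥0∞) from ?_) ?_
      · exact_mod_cast h1.trans (le_of_eq (by rw [mul_pow]; ring))
      · obtain ⟨d, rfl⟩ : ∃ e, d = e + 1 := ⟨d - 1, by omega⟩
        rw [Nat.add_sub_cancel, pow_succ (m : ℝ≥0∞), mul_assoc, mul_left_comm _ ((m : ℝ≥0∞) ^ d),
          mul_assoc _ ((m : ℝ≥0∞)⁻¹), ENNReal.inv_mul_cancel (by exact_mod_cast (show m ≠ 0 by omega)) (ENNReal.natCast_ne_top m), mul_one]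
        push_cast
        exact le_of_eq (by ring)
  refine le_antisymm (key L _ x z hx hxz hz) ?_
  exact key _ L (x * z) z⁻¹ hxz (by simpa using hx) (hz.inv k)


end Groth.Agent.S17374
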