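import Groth.Statements.S17376
import Groth.Agent.Lib.NormBC.Basic

set_option autoImplicit false
set_option linter.style.haveILetI false
universe u
open scoped TensorProduct
open CAlg

namespace Groth.Agent.S17376

/-- Let k be a field, A an integrally closed domain over k with fraction field K, L a finite extension
of K, B the integral closure of A in L, and R an arbitrary commutative k-algebra; view L ⊗_k R as an
algebra over K ⊗_k R through K → L. Then L ⊗_k R is finite free over K ⊗_k R, so the norm
(determinant of multiplication) L ⊗_k R → K ⊗_k R is defined; the norm of any element β of B ⊗_k R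
(mapped into L ⊗_k R) lies in the image of A ⊗_k R; and β is a nonzerodivisor in B ⊗_k R if and only
if its norm is a nonzerodivisor in K ⊗_k R. (Nonzerodivisors of A ⊗_k R are exactly its elements
that are nonzerodivisors in K ⊗_k R, the latter being a localisation of the former at
nonzerodivisors, so this is the source's formulation with the norm regarded in A ⊗_k R.) -/
theorem result (k A K L R : Type u) [Field k]
    [CommRing A] [IsDomain A] [IsIntegrallyClosed A] [Algebra k A]
    [Field K] [Algebra A K] [IsFractionRing A K] [Algebra k K] [IsScalarTower k A K]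
    [Field L] [Algebra K L] [FiniteDimensional K L] [Algebra A L] [IsScalarTower A K L]
    [Algebra k L] [IsScalarTower k K L] [IsScalarTower k A L]
    [CommRing R] [Algebra k R] :
    letI : Algebra (K ⊗[k] R) (L ⊗[k] R) :=
      (Algebra.TensorProduct.map (IsScalarTower.toAlgHom k K L) (AlgHom.id k R)).toRingHom.toAlgebra
    Module.Free (K ⊗[k] R) (L ⊗[k] R) ∧ Module.Finite (K ⊗[k] R) (L ⊗[k] R) ∧
      ∀ b : (integralClosure A L) ⊗[k] R,
        Algebra.norm (K ⊗[k] R)
            (Algebra.TensorProduct.map ((integralClosure A L).val.restrictScalars k) (AlgHom.id k R) b) ∈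
          Set.range (Algebra.TensorProduct.map (IsScalarTower.toAlgHom k A K) (AlgHom.id k R)) ∧
        (IsRegular b ↔ IsRegular (Algebra.norm (K ⊗[k] R)
            (Algebra.TensorProduct.map ((integralClosure A L).val.restrictScalars k) (AlgHom.id k R) b))) := by
    letI : Algebra (K ⊗[k] R) (L ⊗[k] R) :=
        (Algebra.TensorProduct.map (IsScalarTower.toAlgHom k K L) (AlgHom.id k R)).toRingHom.toAlgebra
    let φ : L →ₐ[K] L ⊗[k] R := Algebra.TensorProduct.includeLeft
    haveI : IsScalarTower K (K ⊗[k] R) (L ⊗[k] R) := IsScalarTower.of_algebraMap_eq fun c => by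
      show _ = Algebra.TensorProduct.map (IsScalarTower.toAlgHom k K L) (AlgHom.id k R) (c ⊗ₜ 1)
      rw [Algebra.TensorProduct.map_tmul, map_one]
      rfl
    let f : (K ⊗[k] R) ⊗[K] L →ₐ[K ⊗[k] R] L ⊗[k] R :=
      Algebra.TensorProduct.lift (Algebra.ofId _ _) φ (fun _ _ => Commute.all _ _)
    let gL : L →ₐ[k] (K ⊗[k] R) ⊗[K] L :=
      (Algebra.TensorProduct.includeRight (R := K) (A := K ⊗[k] R) (B := L)).restrictScalars k
    let gR : R →ₐ[k] (K ⊗[k] R) ⊗[K] L :=
      ((Algebra.TensorProduct.includeLeft (R := K) (S := K) (A := K ⊗[k] R) (B := L)).restrictScalars k).comp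
        Algebra.TensorProduct.includeRight
    let g : L ⊗[k] R →ₐ[k] (K ⊗[k] R) ⊗[K] L :=
      Algebra.TensorProduct.lift gL gR (fun _ _ => Commute.all _ _)
    have hgf : ∀ x, g (f x) = x := fun x => by
      induction x with
      | zero => simp
      | add x y hx hy => rw [map_add, map_add, hx, hy]
      | tmul p l =>
        induction p with
        | zero => simp
        | add p q hp hq => rw [TensorProduct.add_tmul, map_add, map_add, hp, hq]
        | tmul c r =>
          show g (Algebra.TensorProduct.map (IsScalarTower.toAlgHom k K L) (AlgHom.id k R) (c ⊗ₜ r) * (l ⊗ₜ 1)) = _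
          rw [Algebra.TensorProduct.map_tmul, Algebra.TensorProduct.tmul_mul_tmul, mul_one,
            AlgHom.id_apply, Algebra.TensorProduct.lift_tmul]
          show ((1 : K ⊗[k] R) ⊗ₜ[K] (algebraMap K L c * l)) * ((1 : K) ⊗ₜ[k] r) ⊗ₜ[K] (1 : L) = _
          rw [← Algebra.smul_def, Algebra.TensorProduct.tmul_mul_tmul, one_mul, mul_one,
            TensorProduct.tmul_smul, TensorProduct.smul_tmul', TensorProduct.smul_tmul' c (1 : K) r, smul_eq_mul,
            mul_one]
    have hfg : ∀ x, f (g x) = x := fun x => by
      induction x with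
      | zero => simp
      | add x y hx hy => rw [map_add, map_add, hx, hy]
      | tmul l r =>
        rw [Algebra.TensorProduct.lift_tmul, map_mul]
        show f ((1 : K ⊗[k] R) ⊗ₜ[K] l) * f (((1 : K) ⊗ₜ[k] r) ⊗ₜ[K] (1 : L)) = _
        rw [Algebra.TensorProduct.lift_tmul, Algebra.TensorProduct.lift_tmul, map_one, map_one, one_mul, mul_one]
        show (l ⊗ₜ[k] (1 : R)) * Algebra.TensorProduct.map (IsScalarTower.toAlgHom k K L) (AlgHom.id k R) (1 ⊗ₜ r) = _
        rw [Algebra.TensorProduct.map_tmul, map_one, Algebra.TensorProduct.tmul_mul_tmul, one_mul, mul_one,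
          AlgHom.id_apply]
    let e : (K ⊗[k] R) ⊗[K] L ≃ₐ[K ⊗[k] R] L ⊗[k] R :=
      AlgEquiv.ofBijective f ⟨Function.LeftInverse.injective hgf, Function.RightInverse.surjective hfg⟩
    let bas := Module.finBasis K L
    let bM := (Algebra.TensorProduct.basis (K ⊗[k] R) bas).map e.toLinearEquiv
    refine ⟨Module.Free.of_basis bM, Module.Finite.of_basis bM, fun b => ?_⟩
    set j := Algebra.TensorProduct.map ((integralClosure A L).val.restrictScalars k) (AlgHom.id k R)
    refine ⟨?_, ?_⟩
    · obtain ⟨n, bb, r, rfl⟩ := GrothLib.NormBC.exists_sum_tmul b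
      obtain ⟨F, hF⟩ := GrothLib.NormBC.exists_norm_eq (A := A) e bas (fun i => (bb i : L))
        (fun i => (bb i).2) (fun i => (1 : K) ⊗ₜ[k] r i)
      have he : e (∑ i, ((1 : K) ⊗ₜ[k] r i) ⊗ₜ[K] (bb i : L)) = j (∑ i, bb i ⊗ₜ[k] r i) := by
        rw [map_sum, map_sum]
        refine Finset.sum_congr rfl fun i _ => ?_
        show f (((1 : K) ⊗ₜ[k] r i) ⊗ₜ[K] (bb i : L)) = _
        rw [Algebra.TensorProduct.lift_tmul]
        show Algebra.TensorProduct.map (IsScalarTower.toAlgHom k K L) (AlgHom.id k R) (1 ⊗ₜ r i) *
          ((bb i : L) ⊗ₜ[k] (1 : R)) = _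
        rw [Algebra.TensorProduct.map_tmul, map_one, Algebra.TensorProduct.tmul_mul_tmul, one_mul, mul_one,
          AlgHom.id_apply]
        rfl
      rw [← he, hF]
      set m := Algebra.TensorProduct.map (IsScalarTower.toAlgHom k A K) (AlgHom.id k R)
      refine ⟨MvPolynomial.eval₂ (Algebra.TensorProduct.includeLeftRingHom) (fun i => (1 : A) ⊗ₜ[k] r i) F, ?_⟩
      show m.toRingHom _ = _
      rw [MvPolynomial.eval₂_comp_left]
      refine congrArg₂ (fun φ ψ => MvPolynomial.eval₂ φ ψ F) ?_ ?_
      · refine RingHom.ext fun a => ?_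
        show m (a ⊗ₜ 1) = _
        rw [Algebra.TensorProduct.map_tmul, map_one]
        rfl
      · funext i
        show m ((1 : A) ⊗ₜ r i) = _
        rw [Algebra.TensorProduct.map_tmul, map_one, AlgHom.id_apply]
    · have hj : Function.Injective j :=
        Module.Flat.rTensor_preserves_injective_linearMap
          (((integralClosure A L).val.restrictScalars k).toLinearMap) Subtype.val_injective
      haveI : Algebra.IsAlgebraic A K := IsLocalization.isAlgebraic K (nonZeroDivisors A)
      haveI : Algebra.IsAlgebraic A L := Algebra.IsAlgebraic.trans A K L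
      have hfrac : ∀ y : L ⊗[k] R, ∃ a : A, a ≠ 0 ∧ ∃ c,
          ((algebraMap A L a) ⊗ₜ[k] (1 : R)) * y = j c := fun y => by
        induction y with
        | zero => exact ⟨1, one_ne_zero, 0, by simp⟩
        | tmul l r =>
          obtain ⟨a, ha, hl⟩ := IsAlgebraic.exists_integral_multiple (Algebra.IsAlgebraic.isAlgebraic (R := A) l)
          refine ⟨a, ha, (⟨_, hl⟩ : integralClosure A L) ⊗ₜ r, ?_⟩
          rw [Algebra.TensorProduct.tmul_mul_tmul, one_mul, Algebra.TensorProduct.map_tmul]
          show _ = (a • l) ⊗ₜ[k] r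
          rw [Algebra.smul_def]
        | add y z hy hz =>
          obtain ⟨a, ha, c, hc⟩ := hy
          obtain ⟨a', ha', c', hc'⟩ := hz
          refine ⟨a * a', mul_ne_zero ha ha',
            ((algebraMap A (integralClosure A L) a') ⊗ₜ 1) * c + ((algebraMap A (integralClosure A L) a) ⊗ₜ 1) * c', ?_⟩
          rw [map_add, map_mul, map_mul, map_mul, ← hc, ← hc', Algebra.TensorProduct.map_tmul,
            Algebra.TensorProduct.map_tmul, map_one]
          show _ = (algebraMap A L a') ⊗ₜ[k] (1 : R) * _ + (algebraMap A L a) ⊗ₜ[k] (1 : R) * _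
          rw [← mul_assoc, ← mul_assoc, Algebra.TensorProduct.tmul_mul_tmul, Algebra.TensorProduct.tmul_mul_tmul,
            mul_one, mul_comm (algebraMap A L a'), mul_add]
      have hregM : IsRegular b ↔ IsRegular (j b) := by
        rw [← isLeftRegular_iff_isRegular, ← isLeftRegular_iff_isRegular]
        refine ⟨fun hb => isLeftRegular_of_non_zero_divisor _ fun y hy => ?_,
          fun hb y z h => hj (hb (by simpa only [map_mul] using congrArg j h))⟩
        obtain ⟨a, ha, c, hc⟩ := hfrac y
        have h1 : b * c = 0 := hj (by rw [map_mul, ← hc, map_zero, mul_left_comm, hy, mul_zero])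
        have h2 : c = 0 := hb (by simpa using h1)
        rw [h2, map_zero] at hc
        have hu : IsUnit ((algebraMap A L a) ⊗ₜ[k] (1 : R)) := by
          refine IsUnit.map (Algebra.TensorProduct.includeLeftRingHom (R := k) (A := L) (B := R)) (IsUnit.mk0 _ ?_)
          rw [IsScalarTower.algebraMap_apply A K L]
          exact (map_ne_zero _).2 ((map_ne_zero_iff _ (IsFractionRing.injective A K)).2 ha)
        exact hu.mul_right_eq_zero.1 hc
      rw [hregM]
      exact GrothLib.NormBC.isRegular_iff_norm e bas (j b)

end Groth.Agent.S17376
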