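import Groth.Agent.Lib.Birat.LqfSep
import Groth.Agent.Lib.EtBasicB.Sections
import Groth.Agent.Lib.BlowUp.EffCartier
import Groth.Agent.Lib.GenericSmooth.Basic
import Groth.Prelude.Def_FGA
import Groth.Prelude.Def_Pi1

set_option autoImplicit false
universe u
open CategoryTheory CategoryTheory.Limits AlgebraicGeometry

namespace Groth.Agent.S17377

/-- Let X and Y be integral normal schemes locally of finite type over a field k and f : Y → X a finite
étale k-morphism; let D ⊆ X be a closed subscheme which is an effective Cartier divisor and is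
integral and normal as a scheme, and E ⊆ Y an integral closed subscheme mapping to D by a surjective
morphism g compatible with the inclusions whose residue-field extension at the generic point of E
has degree 1 (so E is a prime divisor of Y over D with the same function field: D splits in Y at the
level of Weil divisors). Then g is an isomorphism and E is an effective Cartier divisor on Y; in
particular D is the image of the relative Cartier divisor E (D is c-split). (The source works with
projective, geometrically normal and geometrically integral X, Y of dimension at least 2 and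
geometrically normal, geometrically integral D; those hypotheses only serve base change to extension
fields and are dropped here.) -/
theorem result (k : Type u) [Field k] (X Y : Scheme.{u})
    [X.Over (Spec (CommRingCat.of k))] [Y.Over (Spec (CommRingCat.of k))]
    [LocallyOfFiniteType (X ↘ Spec (CommRingCat.of k))] [LocallyOfFiniteType (Y ↘ Spec (CommRingCat.of k))]
    [IsIntegral X] [IsIntegral Y] (hX : Pi1.IsNormalScheme X) (hY : Pi1.IsNormalScheme Y)
    (f : Y ⟶ X) (hf : f ≫ (X ↘ Spec (CommRingCat.of k)) = Y ↘ Spec (CommRingCat.of k)) [IsFinite f] [Etale f]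
    (D : X.IdealSheafData) (hD : FGA.IsEffCartier D) [IsIntegral D.subscheme] (hDn : Pi1.IsNormalScheme D.subscheme)
    (E : Y.IdealSheafData) [IsIntegral E.subscheme]
    (g : (E.subscheme : Scheme.{u}) ⟶ D.subscheme) (hg : g ≫ D.subschemeι = E.subschemeι ≫ f)
    (hsurj : Function.Surjective g.base) (hdeg : g.residueDegree (genericPoint E.subscheme) = 1) :
    IsIso g ∧ FGA.IsEffCartier E := by
  classical
  haveI : IsFinite (g ≫ D.subschemeι) := hg ▸ inferInstance
  haveI : IsFinite g := IsFinite.of_comp g D.subschemeι
  have hgen : g (genericPoint E.subscheme) = genericPoint D.subscheme :=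
    GrothLib.GenericSmooth.map_genericPoint_of_denseRange g hsurj.denseRange
  have hb : Function.Bijective (g.stalkMap (genericPoint E.subscheme)).hom := by
    set η := genericPoint E.subscheme with hη
    have hfld : IsField (D.subscheme.presheaf.stalk (g η)) := by
      rw [hgen]; exact Field.toIsField D.subscheme.functionField
    letI := hfld.toField
    refine ⟨RingHom.injective _, fun b => ?_⟩
    letI := (g.residueFieldMap η).hom.toAlgebra
    have hone : Module.finrank (D.subscheme.residueField (g η)) (E.subscheme.residueField η) = 1 := hdeg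
    obtain ⟨v, hv, hspan⟩ := finrank_eq_one_iff'.1 hone
    obtain ⟨c0, hc0⟩ := hspan 1
    obtain ⟨c, hc⟩ := hspan ((E.subscheme.residue η).hom b)
    have hc0' : c0 ≠ 0 := fun h => one_ne_zero (hc0.symm.trans (by rw [h, zero_smul]))
    obtain ⟨a, ha⟩ := D.subscheme.residue_surjective (g η) (c / c0)
    refine ⟨a, RingHom.injective (R := E.subscheme.functionField) (E.subscheme.residue η).hom ?_⟩
    have key := congrArg (fun φ => φ.hom a) (AlgebraicGeometry.Scheme.residue_residueFieldMap g η)
    refine (show _ = _ from key.symm).trans ?_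
    show (g.residueFieldMap η).hom ((D.subscheme.residue (g η)).hom a) = _
    rw [show (D.subscheme.residue (g η)).hom a = c / c0 from ha, ← hc]
    show algebraMap _ (E.subscheme.residueField η) (c / c0) = _
    rw [← mul_one (algebraMap _ (E.subscheme.residueField η) (c / c0)), ← hc0, ← Algebra.smul_def, smul_smul,
      div_mul_cancel₀ _ hc0']
  haveI hiso : IsIso g := GrothLib.Birat.isIso_of_finite_birational g hgen hb fun y => (hDn y).2
  refine ⟨hiso, ?_⟩
  haveI : Flat f := inferInstance
  have hJ : BlowUp.IsEffCartierIdeal (D.comap f) := GrothLib.BlowUp.isEffCartierIdeal_comap_of_flat f hD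
  let P := (D.comap f).subscheme
  let qP : P ⟶ D.subscheme := (D.comapIso f).hom ≫ pullback.snd f D.subschemeι
  let s : E.subscheme ⟶ P := pullback.lift E.subschemeι g hg.symm ≫ (D.comapIso f).inv
  have hsι : s ≫ (D.comap f).subschemeι = E.subschemeι := by
    rw [Category.assoc, Scheme.IdealSheafData.comapIso_inv_subschemeι, pullback.lift_fst]
  haveI : Etale qP := by
    show Etale ((D.comapIso f).hom ≫ pullback.snd f D.subschemeι)
    haveI : Etale (pullback.snd f D.subschemeι) := MorphismProperty.pullback_snd _ _ inferInstance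
    infer_instance
  haveI : IsFinite qP := by
    show IsFinite ((D.comapIso f).hom ≫ pullback.snd f D.subschemeι)
    haveI : IsFinite (pullback.snd f D.subschemeι) := MorphismProperty.pullback_snd _ _ inferInstance
    infer_instance
  have hsec : (inv g ≫ s) ≫ qP = 𝟙 _ := by
    simp only [s, qP, Category.assoc, Iso.inv_hom_id_assoc, pullback.lift_snd, IsIso.inv_hom_id]
  haveI := GrothLib.EtBasicB.isOpenImmersion_section qP (inv g ≫ s) hsec
  have hclopen := GrothLib.EtBasicB.isClopen_range_section qP (inv g ≫ s) hsec
  haveI : IsOpenImmersion s := by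
    rw [show s = g ≫ (inv g ≫ s) by simp]; infer_instance
  have hrange : Set.range s = Set.range (inv g ≫ s) := by
    ext z
    constructor
    · rintro ⟨e, rfl⟩
      exact ⟨g e, by rw [← Scheme.Hom.comp_apply, IsIso.hom_inv_id_assoc]⟩
    · rintro ⟨d, rfl⟩; exact ⟨inv g d, rfl⟩
  have hbad : IsClosed ((D.comap f).subschemeι '' (Set.range s)ᶜ) := by
    refine (D.comap f).subschemeι.isClosedEmbedding.isClosedMap _ ?_
    rw [hrange]; exact hclopen.compl.isClosed
  intro y
  by_cases hyE : y ∈ Set.range E.subschemeι
  · have hy : y ∈ ((D.comap f).subschemeι '' (Set.range s)ᶜ)ᶜ := by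
      rintro ⟨z, hz, hzy⟩
      obtain ⟨e, rfl⟩ := hyE
      refine hz ⟨e, (D.comap f).subschemeι.isClosedEmbedding.injective ?_⟩
      rw [hzy, ← hsι]; rfl
    obtain ⟨W, hyW, hWle, a, ha, hideal⟩ := GrothLib.BlowUp.exists_cartierOn_le hJ
      (W := ⟨_, hbad.isOpen_compl⟩) hy
    refine ⟨W, hyW, a, ha, ?_⟩
    rw [← hideal, ← E.ker_subschemeι_app W, ← (D.comap f).ker_subschemeι_app W]
    have hle : (D.comap f).subschemeι ⁻¹ᵁ W.1 ≤ s.opensRange := fun z hz => by
      by_contra hzs
      exact hWle hz ⟨z, hzs, rfl⟩
    haveI := Scheme.Hom.isIso_app s ((D.comap f).subschemeι ⁻¹ᵁ W.1) hle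
    rw [Scheme.Hom.congr_app hsι.symm W.1, Scheme.Hom.comp_app]
    ext z
    simp only [RingHom.mem_ker, CommRingCat.hom_comp, RingHom.comp_apply]
    refine ⟨fun h => ?_, fun h => ?_⟩
    · have h1 := (injective_iff_map_eq_zero _).1 (ConcreteCategory.bijective_of_isIso _).1 _ h
      exact (injective_iff_map_eq_zero _).1
        (ConcreteCategory.bijective_of_isIso (s.app ((D.comap f).subschemeι ⁻¹ᵁ W.1))).1 _ h1
    · refine Eq.trans (congrArg _ (show ((D.comap f).subschemeι.app W.1 ≫ s.app ((D.comap f).subschemeι ⁻¹ᵁ W.1)).hom z = 0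
        from Eq.trans (congrArg (s.app ((D.comap f).subschemeι ⁻¹ᵁ W.1)).hom h) (map_zero _))) (map_zero _)
  · obtain ⟨W, hyW, hWle⟩ := GrothLib.BlowUp.exists_affine_mem_le
      (W := ⟨(Set.range E.subschemeι)ᶜ, E.subschemeι.isClosedEmbedding.isClosed_range.isOpen_compl⟩) hyE
    refine ⟨W, hyW, 1, one_mem _, ?_⟩
    rw [Ideal.span_singleton_one, ← E.ker_subschemeι_app W, Ideal.eq_top_iff_one, RingHom.mem_ker, map_one]
    have : E.subschemeι ⁻¹ᵁ W.1 = ⊥ := by
      ext z
      exact ⟨fun hz => hWle hz ⟨z, rfl⟩, fun h => h.elim⟩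
    haveI : Subsingleton Γ(E.subscheme, E.subschemeι ⁻¹ᵁ W.1) := by rw [this]; infer_instance
    exact Subsingleton.elim _ _

end Groth.Agent.S17377
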