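import Groth.Statements.S1738
import Groth.Agent.Lib.DepthHull3.Basic
import Groth.Agent.S1727
import Mathlib.Order.KrullDimension
-- import your own Groth.Agent.* helpers here

set_option autoImplicit false
universe u
open CategoryTheory
attribute [local instance] HasDerivedCategory.standard
open LocCoh

namespace Groth.Agent.S1738

/-- Let A be a Noetherian ring with a dualizing complex, T' ⊆ Spec A stable under specialization, and M
a finite A-module such that depth(M_p) ≥ 1 whenever q covers p in Spec A with q in T' and p outside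
T'. Then there are a finite A-module M'' and a map M → M'' which is bijective after localizing at
every prime outside T' and such that M''_p has depth ≥ 2 for every p in T'. (The source: coherent
modules on a Noetherian scheme locally having a dualizing complex, with uniqueness and a pullback
clause.) -/
theorem result (A : Type u) [CommRing A] [IsNoetherianRing A] (hA : ∃ ω : Dual.D A, Dual.IsDualizing A ω) (T' : Set (PrimeSpectrum A)) (hT : StableUnderSpecialization T') (M : Type u) [AddCommGroup M] [Module A M] [Module.Finite A M] (hM : ∀ p q : PrimeSpectrum A, p ⋖ q → q ∈ T' → p ∉ T' → 1 ≤ LocCoh.depth (Localization.AtPrime p.asIdeal) (LocalizedModule p.asIdeal.primeCompl M)) : ∃ (M'' : Type u) (_ : AddCommGroup M'') (_ : Module A M'') (_ : Module.Finite A M'') (f : M →ₗ[A] M''), (∀ p : PrimeSpectrum A, p ∉ T' → Function.Bijective (LocalizedModule.map p.asIdeal.primeCompl f)) ∧ ∀ p : PrimeSpectrum A, p ∈ T' → 2 ≤ LocCoh.depth (Localization.AtPrime p.asIdeal) (LocalizedModule p.asIdeal.primeCompl M'') := by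
  refine GrothLib.DepthHull3.exists_hull hT (ModuleCat.of A M) ?_
  refine (Groth.Agent.S1727.result A hA T' hT 1 M).2 fun p q hp hq hpq => ?_
  have hlt : p < q := lt_of_le_of_ne hpq fun e => hp (e ▸ hq)
  let a : Set.Icc p q := ⟨p, le_rfl, hpq⟩
  let b : Set.Icc p q := ⟨q, hpq, le_rfl⟩
  have hs : ∀ (l : LTSeries (Set.Icc p q)) (n : ℕ), n ≤ l.length →
      ((n : ℕ∞) : WithBot ℕ∞) ≤ Order.krullDim (Set.Icc p q) := fun l n hn =>
    le_trans (by exact_mod_cast hn) (Order.LTSeries.length_le_krullDim l)
  by_cases hcov : p ⋖ q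
  · have h1 := hs ((RelSeries.singleton _ a).snoc b (show a < b from hlt)) 1 (by simp)
    have h2 : ((1 : ℕ∞) : WithBot ℕ∞) ≤ (LocCoh.depth (Localization.AtPrime p.asIdeal)
        (LocalizedModule p.asIdeal.primeCompl M) : ℕ∞) := WithBot.coe_le_coe.2 (hM p q hcov hq hp)
    refine lt_of_lt_of_le ?_ (add_le_add h2 h1)
    norm_cast
  · obtain ⟨r, hpr, hrq⟩ := exists_lt_lt_of_not_covBy hlt hcov
    let c : Set.Icc p q := ⟨r, hpr.le, hrq.le⟩
    have h1 := hs (((RelSeries.singleton _ a).snoc c (show a < c from hpr)).snoc b (by rw [RelSeries.last_snoc]; exact (hrq : r < q))) 2 (by simp)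
    refine lt_of_lt_of_le ?_ (le_add_of_nonneg_of_le ?_ h1)
    · norm_cast
    · exact WithBot.coe_le_coe.2 zero_le

end Groth.Agent.S1738
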