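import Groth.Statements.S17380
import Groth.Agent.Lib.AsympCoh5.NumEff

set_option autoImplicit false
universe u
open CategoryTheory CategoryTheory.Limits AlgebraicGeometry
open scoped ENNReal
open Variety

namespace Groth.Agent.S17380

/-- Let X be a geometrically integral scheme of dimension d, proper over a field k and admitting an
ample invertible module, and L an invertible module on X which is big, i.e. the lower limit of dim_k
H^0(X, L^m)/m^d as m → ∞ is positive. Then some power L^a, a > 0, is such that H^0(X, L^(aj) ⊗ N) ≠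
0 for every j > 0 and every numerically trivial invertible module N (degree zero on every integral
closed one-dimensional subscheme); in other words every invertible module numerically equivalent to
L^(aj) comes from an effective divisor. (The published statement asserts this for all sufficiently
large powers of L; its printed reduction to an ample module yields one power a and its multiples,
which is what is stated.) -/
theorem result (k : Type u) [Field k] (X : Scheme.{u})
    [X.Over (Spec (CommRingCat.of k))] [IsIntegral X] [GeometricallyIntegral (X ↘ Spec (CommRingCat.of k))]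
    [IsProper (X ↘ Spec (CommRingCat.of k))] (hproj : ∃ A : X.Modules, CohB1.IsAmple A)
    (d : ℕ) (hd : topologicalKrullDim X = d) (L : X.Modules) (hL : PicF.IsInvertible L)
    (hbig : 0 < Filter.liminf (fun m : ℕ => (Module.finrank k (Coh.HH X (CohB1.tensorPow L m) 0) : ℝ≥0∞) /
        (m : ℝ≥0∞) ^ d) Filter.atTop) :
    ∃ a : ℕ, 0 < a ∧ ∀ j : ℕ, 0 < j → ∀ N : X.Modules, PicF.IsInvertible N → Pic13.IsNumEquivZero k X N →
      0 < Module.finrank k (Coh.HH X (CohB1.tensorMod (CohB1.tensorPow L (a * j)) N) 0) := by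
  haveI := GrothLib.Euler.isNoetherian_of_proper (X := X) k
  obtain ⟨A, hA⟩ := hproj
  have hvol : 0 < GrothLib.Kodaira.vol k d L :=
    hbig.trans_le (Filter.liminf_le_limsup)
  obtain ⟨μ, r₀, hμ, hle, -⟩ := GrothLib.Kodaira.exists_dominating k hd hA hL hvol
  obtain ⟨m₀, hm₀⟩ := GrothLib.AsympCoh5.exists_numTriv_sections k hA
  refine ⟨μ * (m₀ + 1), Nat.mul_pos hμ (Nat.succ_pos _), fun j hj N hN hNum => ?_⟩
  have hz := (GrothLib.NumReg26.numCls_iff k (GrothLib.Cube.hasCls_clsMod hN)).2 hNum
  have hn : m₀ ≤ (m₀ + 1) * j := le_trans (Nat.le_succ m₀) (Nat.le_mul_of_pos_right _ hj)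
  obtain ⟨h1, h2⟩ := hm₀ _ hn _ hz
  obtain ⟨hP, hPx⟩ := ((GrothLib.Cube.hasCls_clsMod hA.1).tensorPow ((m₀ + 1) * j)).tensor (GrothLib.Cube.hasCls_clsMod hN)
  obtain ⟨hR, hRx⟩ := ((GrothLib.Cube.hasCls_clsMod hL).tensorPow (μ * (m₀ + 1) * j)).tensor (GrothLib.Cube.hasCls_clsMod hN)
  have h3 := GrothLib.Kodaira.h0_le_of_pLe k hP hR (by
    rw [hPx, hRx, mul_assoc μ, pow_mul (GrothLib.Cube.clsMod hL)]
    exact (hle.pow _).mul_right _)
  have e1 := GrothLib.AsympCoh5.hl_eq_hf_structure k (show GrothLib.Cube.HasCls _ _ from ⟨hP, hPx⟩) 0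
  rw [mul_comm (GrothLib.Cube.clsMod hA.1 ^ ((m₀ + 1) * j))] at e1
  simp only [GrothLib.NefGrowth.hl] at e1
  unfold GrothLib.Kodaira.h0 at h3
  omega


end Groth.Agent.S17380
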