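import Groth.Statements.S17382
import Groth.Agent.Lib.Nagata6.Modification
-- import your own Groth.Agent.* helpers here

set_option autoImplicit false
universe u
open FlatMor

namespace Groth.Agent.S17382

open AlgebraicGeometry CategoryTheory Limits in
/-- Let f : X → Y be a separated morphism of finite type with Y quasi-compact and quasi-separated (so X
is too), and let U ⊆ Y be a quasi-compact dense open subscheme such that f restricts to an
isomorphism over U and the preimage of U is dense in X. Then there are a blowing up b : X̃ → X in a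
quasi-coherent ideal of finite type with support disjoint from the preimage of U, a blowing up c : Ỹ
→ Y in a quasi-coherent ideal of finite type with support disjoint from U, and an open immersion j :
X̃ → Ỹ with j ≫ c = b ≫ f. (Put differently: after suitable blow-ups of source and target, a
separated birational morphism of finite type becomes an open immersion.) -/
theorem result
    {X Y : Scheme.{u}} [CompactSpace Y] [QuasiSeparatedSpace Y]
    (f : X ⟶ Y) [IsSeparated f] [QuasiCompact f] [LocallyOfFiniteType f]
    (U : Y.Opens) (hU : IsCompact (U : Set Y)) (hUd : Dense (U : Set Y))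
    [IsIso (f ∣_ U)] (hU' : Dense ((f ⁻¹ᵁ U : X.Opens) : Set X)) :
    ∃ (𝓘 : X.IdealSheafData) (𝓙 : Y.IdealSheafData) (X' Y' : Scheme.{u}) (b : X' ⟶ X) (c : Y' ⟶ Y) (j : X' ⟶ Y'),
      BlowUp.IsBlowUp b 𝓘 ∧ BlowUp.IsAdmissibleFor (f ⁻¹ᵁ U) 𝓘 ∧
      BlowUp.IsBlowUp c 𝓙 ∧ BlowUp.IsAdmissibleFor U 𝓙 ∧
      IsOpenImmersion j ∧ j ≫ c = b ≫ f := by
  obtain ⟨J, Y', c, W, g, hc, hJ, -, -, -, hgf, hg, -, -⟩ :=
    GrothLib.Nagata6.exists_modification f U U le_rfl hU hU subset_closure le_rfl
  exact ⟨J.comap f, J, W, Y', g, c, W.ι, hg, GrothLib.Nagata6.isAdmissibleFor_comap hJ f le_rfl,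
    hc, hJ, inferInstance, hgf.symm⟩

end Groth.Agent.S17382
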