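import Groth.Statements.S17384
import Groth.Agent.Lib.QuasiDom6.Main
-- import your own Groth.Agent.* helpers here

set_option autoImplicit false
universe u
open FlatMor

namespace Groth.Agent.S17384

open AlgebraicGeometry CategoryTheory Limits in
/-- Let S be a quasi-compact quasi-separated scheme, X and Y quasi-compact quasi-separated S-schemes
with Y → S separated and locally of finite type, U ⊆ V ⊆ X dense quasi-compact open subschemes, and
f : U → Y an S-morphism which is a quasi-domination of V over Y: the image Γ of its graph morphism U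
→ X ×_S Y satisfies closure(Γ) ∩ (part over V) ⊆ Γ, i.e. the graph is closed in V ×_S Y. Then there
are a blowing up q : X̃ → X in a quasi-coherent ideal of finite type with support disjoint from V, a
dense open W ⊆ X̃ containing q⁻¹(U), and an S-morphism f̃ : W → Y which agrees with f on q⁻¹(U) and
whose graph morphism W → X̃ ×_S Y has closed image (a quasi-domination of X̃ over Y extending f). -/
theorem result
    {S X Y : Scheme.{u}} [CompactSpace S] [QuasiSeparatedSpace S]
    [CompactSpace X] [QuasiSeparatedSpace X] [CompactSpace Y] [QuasiSeparatedSpace Y]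
    (pX : X ⟶ S) (pY : Y ⟶ S) [IsSeparated pY] [LocallyOfFiniteType pY]
    (U V : X.Opens) (hUV : U ≤ V) (hU : IsCompact (U : Set X)) (hV : IsCompact (V : Set X))
    (hUd : Dense (U : Set X))
    (f : (U : Scheme.{u}) ⟶ Y) (hf : U.ι ≫ pX = f ≫ pY)
    (hcl : closure (Set.range (fun x => pullback.lift U.ι f hf x)) ∩
        ((pullback.fst pX pY) ⁻¹ᵁ V : Set ↥(pullback pX pY)) ⊆ Set.range (fun x => pullback.lift U.ι f hf x)) :
    ∃ (𝓘 : X.IdealSheafData) (Xt : Scheme.{u}) (q : Xt ⟶ X),
      BlowUp.IsBlowUp q 𝓘 ∧ BlowUp.IsAdmissibleFor V 𝓘 ∧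
      ∃ (W : Xt.Opens) (hle : q ⁻¹ᵁ U ≤ W) (ft : (W : Scheme.{u}) ⟶ Y) (hft : W.ι ≫ q ≫ pX = ft ≫ pY),
        Dense (W : Set Xt) ∧ Xt.homOfLE hle ≫ ft = (q ∣_ U) ≫ f ∧
        IsClosed (Set.range (fun x => pullback.lift W.ι ft hft x)) := by
    exact GrothLib.QuasiDom6.exists_quasiDomination_extending pX pY U V hUV hU hV hUd f hf hcl

end Groth.Agent.S17384
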