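import Groth.Statements.S17385
import Groth.Agent.Lib.BlowUp.Functorial
import Groth.Agent.Lib.QuasiDom6.Extend
import Groth.Agent.Lib.AlgSp.CartierCompl

set_option autoImplicit false
set_option backward.isDefEq.respectTransparency false
universe u
open BlowUp

namespace Groth.Agent.S17385

open AlgebraicGeometry CategoryTheory Limits TopologicalSpace in
/-- Let X be any scheme, I and J quasi-coherent ideals on X, b : X' → X a blowing up of X in I, Z ⊆ X
the closed subscheme of J, b' : Z' → Z a blowing up of Z in the inverse image ideal I·O_Z, and k :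
Z' → X' the morphism with k ≫ b = b' ≫ (Z → X) (it exists and is unique by the universal property).
Then k is a closed immersion (its image is the strict transform of Z); writing U for the open
complement of the support of I and W ⊆ Z' for the preimage of U, the restriction W → X' of k is an
affine morphism, and its scheme-theoretic image is the whole image of k: the kernel ideal sheaf of W
→ X' equals that of k. No Noetherian or finite-type hypothesis is needed. -/
theorem result
    {X X' Z' : Scheme.{u}} (𝓘 𝓙 : X.IdealSheafData) (b : X' ⟶ X) (hb : BlowUp.IsBlowUp b 𝓘)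
    (b' : Z' ⟶ 𝓙.subscheme) (hb' : BlowUp.IsBlowUp b' (𝓘.comap 𝓙.subschemeι))
    (k : Z' ⟶ X') (hk : k ≫ b = b' ≫ 𝓙.subschemeι) :
    IsClosedImmersion k ∧
      IsAffineHom ((k ⁻¹ᵁ (b ⁻¹ᵁ 𝓘.support.compl)).ι ≫ k) ∧
      ((k ⁻¹ᵁ (b ⁻¹ᵁ 𝓘.support.compl)).ι ≫ k).ker = k.ker := by
  have hcl : IsClosedImmersion k := GrothLib.BlowUp.isClosedImmersion_map 𝓘 𝓙.subschemeι hb hb' k hk
  refine ⟨hcl, ?_⟩
  set E := 𝓘.comap (k ≫ b) with hEdef
  have hE : BlowUp.IsEffCartierIdeal E := by
    rw [hEdef, hk, Scheme.IdealSheafData.comap_comp]; exact hb'.1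
  have hO : k ⁻¹ᵁ (b ⁻¹ᵁ 𝓘.support.compl) = E.support.compl := by
    refine TopologicalSpace.Opens.ext ?_
    ext z
    show ¬ (b (k z) ∈ (𝓘.support : Set X)) ↔ ¬ (z ∈ (E.support : Set Z'))
    rw [hEdef, Scheme.IdealSheafData.support_comap]
    rfl
  rw [hO]
  have hA : IsAffineHom (Scheme.Opens.ι E.support.compl) :=
    GrothLib.AlgSp.isAffineHom_compl (I := E) (fun x _ => by
      obtain ⟨U, hx, f, -, hf⟩ := hE x
      exact ⟨U, hx, f, hf⟩) rfl
  refine ⟨inferInstance, ?_⟩
  have := GrothLib.QuasiDom6.isSchemeTheoreticallyDominant_compl_support hE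
  rw [← Scheme.IdealSheafData.map_ker, Scheme.Hom.ker_eq_bot, Scheme.IdealSheafData.map_bot]

end Groth.Agent.S17385
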