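import Groth.Statements.S17386
import Groth.Agent.Lib.BlowAdm8.Strict

set_option autoImplicit false
set_option backward.isDefEq.respectTransparency false
universe u
open BlowUp

namespace Groth.Agent.S17386

open AlgebraicGeometry CategoryTheory Limits in
/-- Let X be any scheme, J_1, …, J_n quasi-coherent ideals on X with closed subschemes Y_i, and b : X' →
X a blowing up of X in the ideal J_1 + ⋯ + J_n of the intersection of the Y_i. For each i let b_i' :
Y_i' → Y_i be a blowing up of Y_i in the inverse image of J_1 + ⋯ + J_n and k_i : Y_i' → X' the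
morphism with k_i ≫ b = b_i' ≫ (Y_i → X), so that the image of k_i is the strict transform of Y_i.
Then the strict transforms have empty common intersection: no point of X' lies in the image of every
k_i. -/
theorem result
    {X X' : Scheme.{u}} {n : ℕ} (𝓙 : Fin n → X.IdealSheafData) (b : X' ⟶ X)
    (hb : BlowUp.IsBlowUp b (⨆ i, 𝓙 i))
    (Y' : Fin n → Scheme.{u}) (b' : ∀ i, Y' i ⟶ (𝓙 i).subscheme)
    (hb' : ∀ i, BlowUp.IsBlowUp (b' i) ((⨆ j, 𝓙 j).comap (𝓙 i).subschemeι))
    (k : ∀ i, Y' i ⟶ X') (hk : ∀ i, k i ≫ b = b' i ≫ (𝓙 i).subschemeι) :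
    (⋂ i, Set.range (fun y => k i y)) = (∅ : Set X') := by
  refine Set.eq_empty_iff_forall_notMem.mpr fun x hx => ?_
  rw [Set.mem_iInter] at hx
  obtain ⟨D, hxD, e, he, hDe⟩ := hb.1 x
  by_cases h : ∃ i, ∃ t, t * e ∈ ((𝓙 i).comap b).ideal D ∧ x ∈ X'.basicOpen t
  · obtain ⟨i, t, ht, hxt⟩ := h
    obtain ⟨y, hy⟩ := hx i
    refine GrothLib.BlowAdm8.false_of_app_eq_zero (k i) ((⨆ j, 𝓙 j).comap b) ?_ D e t hDe y (show k i y ∈ X'.basicOpen t by rw [show k i y = x from hy]; exact hxt)
      (GrothLib.BlowAdm8.app_eq_zero_of_mem (𝓙 i) b (k i) (b' i) (𝓙 i).subschemeι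
        (Scheme.IdealSheafData.ker_subschemeι (𝓙 i)).ge (hk i) D ht)
    rw [← Scheme.IdealSheafData.comap_comp, hk i, Scheme.IdealSheafData.comap_comp]
    exact (hb' i).1
  · push Not at h
    let P : Ideal Γ(X', D.1) := (IsLocalRing.maximalIdeal (X'.presheaf.stalk x)).comap
      (X'.presheaf.germ D.1 x hxD).hom
    have hle : ((⨆ i, 𝓙 i).comap b).ideal D ≤ Ideal.span {e} * P := by
      have hmap : (⨆ i, 𝓙 i).comap b = ⨆ i, (𝓙 i).comap b := (Scheme.IdealSheafData.map_gc b).l_iSup
      rw [hmap, Scheme.IdealSheafData.ideal_iSup, iSup_apply]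
      refine iSup_le fun i j hj => ?_
      obtain ⟨t, rfl⟩ := Ideal.mem_span_singleton'.mp (hDe.le ((Scheme.IdealSheafData.comap_mono b
        (le_iSup 𝓙 i) : _) D hj))
      rw [mul_comm t e]
      refine Ideal.mul_mem_mul (Ideal.mem_span_singleton_self e) ?_
      rw [Ideal.mem_comap, IsLocalRing.mem_maximalIdeal, mem_nonunits_iff]
      exact fun hu => h i t hj ((X'.mem_basicOpen _ x hxD).mpr hu)
    obtain ⟨μ, hμ, hμe⟩ := Ideal.mem_span_singleton_mul.mp (hle (hDe.ge (Ideal.mem_span_singleton_self e)))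
    have h1 : μ = 1 := sub_eq_zero.mp (mem_nonZeroDivisors_iff_right.mp he (μ - 1) (by
      rw [sub_mul, one_mul, mul_comm μ e, hμe, sub_self]))
    subst h1
    rw [Ideal.mem_comap, map_one] at hμ
    exact (IsLocalRing.mem_maximalIdeal _).mp hμ isUnit_one

end Groth.Agent.S17386
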