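import Groth.Statements.S17388
import Groth.Agent.Lib.Nagata6.Two
-- import your own Groth.Agent.* helpers here

set_option autoImplicit false
universe u
open FlatMor

namespace Groth.Agent.S17388

open AlgebraicGeometry CategoryTheory Limits in
/-- Let X, Y₁, Y₂ be quasi-compact quasi-separated schemes and π_i : X → Y_i (i = 1, 2) separated
morphisms of finite type which are birational: U_i ⊆ Y_i is a quasi-compact dense open subscheme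
over which π_i restricts to an isomorphism and whose preimage is dense in X. Let U = π₁⁻¹(U₁) ∩
π₂⁻¹(U₂), a dense quasi-compact open of X mapping isomorphically onto dense opens of Y₁ and Y₂. Then
there are blowing ups b : X̃ → X, c₁ : Ỹ₁ → Y₁, c₂ : Ỹ₂ → Y₂ in quasi-coherent ideals of finite type
whose supports are disjoint from U, π₁(U) and π₂(U) respectively, and open immersions j_i : X̃ → Ỹ_i
with j_i ≫ c_i = b ≫ π_i. -/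
theorem result
    {X Y₁ Y₂ : Scheme.{u}} [CompactSpace X] [QuasiSeparatedSpace X]
    [CompactSpace Y₁] [QuasiSeparatedSpace Y₁] [CompactSpace Y₂] [QuasiSeparatedSpace Y₂]
    (π₁ : X ⟶ Y₁) (π₂ : X ⟶ Y₂)
    [IsSeparated π₁] [QuasiCompact π₁] [LocallyOfFiniteType π₁]
    [IsSeparated π₂] [QuasiCompact π₂] [LocallyOfFiniteType π₂]
    (U₁ : Y₁.Opens) (U₂ : Y₂.Opens) (hU₁ : IsCompact (U₁ : Set Y₁)) (hU₂ : IsCompact (U₂ : Set Y₂))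
    (hd₁ : Dense (U₁ : Set Y₁)) (hd₂ : Dense (U₂ : Set Y₂)) [IsIso (π₁ ∣_ U₁)] [IsIso (π₂ ∣_ U₂)]
    (hd₁' : Dense ((π₁ ⁻¹ᵁ U₁ : X.Opens) : Set X)) (hd₂' : Dense ((π₂ ⁻¹ᵁ U₂ : X.Opens) : Set X)) :
    ∃ (𝓘 : X.IdealSheafData) (𝓙₁ : Y₁.IdealSheafData) (𝓙₂ : Y₂.IdealSheafData)
      (Xt Yt₁ Yt₂ : Scheme.{u}) (b : Xt ⟶ X) (c₁ : Yt₁ ⟶ Y₁) (c₂ : Yt₂ ⟶ Y₂) (j₁ : Xt ⟶ Yt₁) (j₂ : Xt ⟶ Yt₂),
      BlowUp.IsBlowUp b 𝓘 ∧ BlowUp.IsAdmissibleFor (π₁ ⁻¹ᵁ U₁ ⊓ π₂ ⁻¹ᵁ U₂) 𝓘 ∧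
      BlowUp.IsBlowUp c₁ 𝓙₁ ∧ BlowUp.IsFiniteTypeIdeal 𝓙₁ ∧
        Disjoint (𝓙₁.support : Set Y₁) ((fun x => π₁ x) '' ((π₁ ⁻¹ᵁ U₁ ⊓ π₂ ⁻¹ᵁ U₂ : X.Opens) : Set X)) ∧
      BlowUp.IsBlowUp c₂ 𝓙₂ ∧ BlowUp.IsFiniteTypeIdeal 𝓙₂ ∧
        Disjoint (𝓙₂.support : Set Y₂) ((fun x => π₂ x) '' ((π₁ ⁻¹ᵁ U₁ ⊓ π₂ ⁻¹ᵁ U₂ : X.Opens) : Set X)) ∧
      IsOpenImmersion j₁ ∧ IsOpenImmersion j₂ ∧ j₁ ≫ c₁ = b ≫ π₁ ∧ j₂ ≫ c₂ = b ≫ π₂ := by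
  exact GrothLib.Nagata6.exists_two_birational π₁ π₂ U₁ U₂ hU₁ hU₂

end Groth.Agent.S17388
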