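import Groth.Statements.S1739
import Groth.Agent.Lib.TorKill.Powers
import Groth.Agent.Lib.TorBal.Basic

set_option autoImplicit false
universe u
open CategoryTheory
attribute [local instance] HasDerivedCategory.standard
open LocCoh

namespace Groth.Agent.S1739

/-- Let A be a Noetherian ring and I an ideal generated by at most t elements. There is an integer c ≥ 0
such that for every A-module M, every i > t and every q ≥ 0, the module Tor_i^A(M, A/I^q) is
annihilated by I^c. -/
theorem result (A : Type u) [CommRing A] [IsNoetherianRing A] (I : Ideal A) (t : ℕ) (s : Finset A) (hs : I = Ideal.span (s : Set A)) (ht : s.card ≤ t) : ∃ c : ℕ, ∀ (M : Type u) [AddCommGroup M] [Module A M] (i q : ℕ), t < i → ∀ a ∈ I ^ c, ∀ x : DRing.Tor A i M (A ⧸ I ^ q), a • x = 0 := by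
    obtain ⟨g, hg⟩ : ∃ g, s.card = g := ⟨_, rfl⟩
    rcases g with _ | g
    · rw [Finset.card_eq_zero] at hg
      subst hg
      refine ⟨0, fun M _ _ i q hi a _ x => ?_⟩
      obtain ⟨j, rfl⟩ : ∃ j, i = j + 1 := ⟨i - 1, by omega⟩
      apply (GrothLib.GorTor.torIso (N := ModuleCat.of A (A ⧸ I ^ q)) (ModuleCat.of A M) (j + 1)).toLinearEquiv.injective
      rw [map_smul, map_zero]
      refine GrothLib.TorBal.smul_eq_zero_of_forall a j (fun L y => ?_) _
      rcases q with _ | q
      · exact GrothLib.TorKill.killedAll_of_annihilates (M := ModuleCat.of A (A ⧸ I ^ 0)) (r := a) (fun z => by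
          haveI : Subsingleton (A ⧸ I ^ 0) := Submodule.Quotient.subsingleton_iff.2 (by rw [pow_zero, Ideal.one_eq_top])
          exact Subsingleton.elim _ _) L _ y
      · haveI : Module.Flat A (ModuleCat.of A (A ⧸ I ^ (q + 1))) :=
          Module.Flat.of_linearEquiv (Submodule.quotEquivOfEqBot _ (by simp [hs]))
        exact GrothLib.TorKill.killed_of_flat (ModuleCat.of A (A ⧸ I ^ (q + 1))) a L _ (Nat.succ_pos j) y
    · let e : Fin (g + 1) ≃ s := (s.equivFinOfCardEq hg).symm
      let v : Fin (g + 1) → A := fun k => (e k : A)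
      have hv : I = Ideal.span (Set.range v) := by
        rw [hs]
        refine congrArg Ideal.span (Set.ext fun x => ⟨fun hx => ⟨e.symm ⟨x, hx⟩, by simp [v]⟩, ?_⟩)
        rintro ⟨k, rfl⟩
        exact (e k).2
      obtain ⟨c, hc⟩ := GrothLib.TorKill.exists_pow_killed_quotient v
      rw [← hv] at hc
      refine ⟨c, fun M _ _ i q hi a ha x => ?_⟩
      obtain ⟨j, rfl⟩ : ∃ j, i = j + 1 := ⟨i - 1, by omega⟩
      apply (GrothLib.GorTor.torIso (N := ModuleCat.of A (A ⧸ I ^ q)) (ModuleCat.of A M) (j + 1)).toLinearEquiv.injective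
      rw [map_smul, map_zero]
      exact GrothLib.TorBal.smul_eq_zero_of_forall a j (fun L y => hc a ha q L (j + 1) (by omega) y) _

end Groth.Agent.S1739
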