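import Groth.Statements.S17391
import Groth.Agent.Lib.BlowAdm8.Basic

set_option autoImplicit false
set_option backward.isDefEq.respectTransparency false
universe u
open BlowUp

namespace Groth.Agent.S17391

open AlgebraicGeometry CategoryTheory Limits in
/-- Let X and Z be schemes, p : Z → X a morphism, U ⊆ V ⊆ X open subschemes, and f : Y → Z a
quasi-compact immersion whose composite with p lands in U. Let I₁ be a quasi-coherent ideal on X
whose support contains V ∖ U and is disjoint from U, and I₂ a quasi-coherent ideal whose support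
lies in supp(I₁) ∖ V. Assume that the closed subscheme p⁻¹(V(I₁²)) ∩ Ȳ of Z, where Ȳ is the
scheme-theoretic image of f, is contained in p⁻¹(V(I₂)) as a closed subscheme: the inverse image
ideal of I₂ on Z lies in the sum of the inverse image ideal of I₁² and the kernel ideal of f. Then
for every blowing up q : X' → X of X in I₁ + I₂, writing Z' = Z ×_X X' → X' and Y' = Y ×_Z Z' → Z'
for the base changes, the closure in Z' of the image of Y' is disjoint from the preimage in Z' of
the closure in X' of q⁻¹(V ∖ U). (The blowing up is an isomorphism over V, since the support of I₁ +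
I₂ is that of I₂ and lies in X ∖ V; the point is that the closure of q⁻¹(V ∖ U) in X', which may
reach over X ∖ V, still misses the closure of Y'.) -/
theorem result
    {X Y Z X' : Scheme.{u}} (p : Z ⟶ X) (U V : X.Opens) (hUV : U ≤ V)
    (f : Y ⟶ Z) [IsImmersion f] [QuasiCompact f] (hY : Set.range (fun y => p (f y)) ⊆ (U : Set X))
    (𝓘₁ 𝓘₂ : X.IdealSheafData)
    (h₁ : (V : Set X) \ (U : Set X) ⊆ (𝓘₁.support : Set X)) (h₁' : Disjoint (𝓘₁.support : Set X) (U : Set X))
    (h₂ : (𝓘₂.support : Set X) ⊆ (𝓘₁.support : Set X) \ (V : Set X))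
    (hincl : 𝓘₂.comap p ≤ (𝓘₁ * 𝓘₁).comap p ⊔ f.ker)
    (q : X' ⟶ X) (hq : BlowUp.IsBlowUp q (𝓘₁ ⊔ 𝓘₂)) :
    Disjoint (closure (Set.range (fun y => (pullback.snd f (pullback.fst p q)) y)))
      ((fun z => (pullback.snd p q) z) ⁻¹'
        closure ((fun x' => q x') ⁻¹' ((V : Set X) \ (U : Set X)))) := by
  rw [Set.disjoint_left]
  intro z hzY hzA
  obtain ⟨D, hyD, e, hDe, heB, hT⟩ := GrothLib.BlowAdm8.exists_chart q 𝓘₁ 𝓘₂ hq.1
    ((V : Set X) \ (U : Set X)) h₁
    (Set.disjoint_left.mpr fun x hx hx' => by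
      rw [Scheme.IdealSheafData.support_sup] at hx'
      exact (h₂ hx'.2).2 hx.1) _ hzA
  let fs := pullback.fst p q
  let sn := pullback.snd p q
  let f' := pullback.snd f fs
  obtain ⟨_, ⟨P₀, hP₀, rfl⟩, hzP, hPle⟩ := (pullback p q).isBasis_affineOpens.exists_subset_of_mem_open
    (show z ∈ ((sn ⁻¹ᵁ D.1 : (pullback p q).Opens) : Set (pullback p q : Scheme.{u})) from hyD)
    (sn ⁻¹ᵁ D.1).2
  let P : (pullback p q).affineOpens := ⟨P₀, hP₀⟩
  have hPD : P.1 ≤ sn ⁻¹ᵁ D.1 := fun x hx => hPle hx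
  let φ := (sn.appLE D.1 P.1 hPD).hom
  have hker : f.ker.comap fs ≤ f'.ker := by
    rw [← Scheme.IdealSheafData.le_map_iff_comap_le, Scheme.IdealSheafData.map_ker]
    show f.ker ≤ (pullback.snd f fs ≫ fs).ker
    rw [← pullback.condition]
    exact Scheme.Hom.le_ker_comp _ _
  have e2 : ∀ K : X.IdealSheafData, (K.comap p).comap fs = (K.comap q).comap sn := fun K => by
    rw [← Scheme.IdealSheafData.comap_comp, ← Scheme.IdealSheafData.comap_comp, pullback.condition]
  have hle : (𝓘₂.comap q).comap sn ≤ ((𝓘₁ * 𝓘₁).comap q).comap sn ⊔ f'.ker := by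
    rw [← e2, ← e2]
    refine ((Scheme.IdealSheafData.comap_mono fs hincl).trans ?_)
    simp only [Scheme.IdealSheafData.comap_sup]
    exact sup_le_sup le_rfl hker
  let T : Ideal Γ(X', D.1) := Submodule.comap (LinearMap.mulRight Γ(X', D.1) e) ((𝓘₁.comap q).ideal D)
  have hJT : (𝓘₁.comap q).ideal D ≤ Ideal.span {e} * T := by
    intro j hj
    obtain ⟨t, rfl⟩ := Ideal.mem_span_singleton'.mp (hDe.le (by
      rw [Scheme.IdealSheafData.comap_sup, Scheme.IdealSheafData.ideal_sup, Pi.sup_apply]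
      exact Submodule.mem_sup_left hj))
    rw [mul_comm t e]
    exact Ideal.mul_mem_mul (Ideal.mem_span_singleton_self e) hj
  have hsub : ((𝓘₁ * 𝓘₁).comap q).ideal D ≤ Ideal.span {e} * T := by
    refine le_trans ?_ hJT
    rw [GrothLib.BlowUp.comap_mul, Scheme.IdealSheafData.ideal_mul, Pi.mul_apply]
    exact Ideal.mul_le_right
  have hmem : φ e ∈ Ideal.span {φ e} * T.map φ ⊔ f'.ker.ideal P := by
    have h : φ e ∈ ((𝓘₂.comap q).comap sn).ideal P := by
      rw [GrothLib.BlowUp.ideal_comap_eq_map _ sn D P hPD]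
      exact Ideal.mem_map_of_mem φ heB
    have h' := hle P h
    rw [Scheme.IdealSheafData.ideal_sup, Pi.sup_apply,
      GrothLib.BlowUp.ideal_comap_eq_map _ sn D P hPD] at h'
    have h'' := (sup_le_sup (Ideal.map_mono (f := φ) hsub) le_rfl) h'
    rwa [Ideal.map_mul, Ideal.map_span, Set.image_singleton] at h''
  obtain ⟨a, ha, k, hk, hak⟩ := Submodule.mem_sup.mp hmem
  obtain ⟨μ, hμ, rfl⟩ := Ideal.mem_span_singleton_mul.mp ha
  have hμz : z ∉ (pullback p q).basicOpen μ := by
    intro hzμ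
    have h1 : T.map φ ≤ (IsLocalRing.maximalIdeal ((pullback p q).presheaf.stalk z)).comap
        ((pullback p q).presheaf.germ P.1 z hzP).hom := by
      rw [Ideal.map_le_iff_le_comap]
      intro t ht
      rw [Ideal.mem_comap, Ideal.mem_comap, IsLocalRing.mem_maximalIdeal, mem_nonunits_iff]
      intro hu
      have h2 : z ∈ (pullback p q).basicOpen (sn.appLE D.1 P.1 hPD t) :=
        ((pullback p q).mem_basicOpen _ z hzP).mpr hu
      rw [Scheme.Hom.appLE, CategoryTheory.comp_apply, Scheme.basicOpen_res, ← Scheme.preimage_basicOpen] at h2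
      exact hT t ht h2.2
    exact (IsLocalRing.mem_maximalIdeal _).mp (h1 hμ) (((pullback p q).mem_basicOpen _ z hzP).mp hzμ)
  have hz1 : z ∈ (pullback p q).basicOpen (1 - μ) := by
    rw [(pullback p q).mem_basicOpen _ z hzP]
    have hu := IsLocalRing.isUnit_or_isUnit_of_add_one (a := (pullback p q).presheaf.germ P.1 z hzP μ)
      (b := (pullback p q).presheaf.germ P.1 z hzP (1 - μ)) (by rw [← map_add, add_sub_cancel, map_one])
    exact hu.resolve_left fun h => hμz (((pullback p q).mem_basicOpen _ z hzP).mpr h)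
  obtain ⟨_, hw1, ⟨y, rfl⟩⟩ := mem_closure_iff.mp hzY _ ((pullback p q).basicOpen (1 - μ)).2 hz1
  have hwP : f' y ∈ P.1 := (pullback p q).basicOpen_le _ hw1
  have hwU : q (sn (f' y)) ∈ U := by
    have e : pullback.fst f fs ≫ f ≫ p = f' ≫ sn ≫ q := by
      rw [← Category.assoc, pullback.condition, Category.assoc, pullback.condition]
    have e1 : q (sn (f' y)) = p (f (pullback.fst f fs y)) := (congrArg (fun g => g y) e).symm
    rw [e1]
    exact hY ⟨_, rfl⟩
  have hwe : f' y ∈ (pullback p q).basicOpen (φ e) := by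
    show f' y ∈ (pullback p q).basicOpen (sn.appLE D.1 P.1 hPD e)
    rw [Scheme.Hom.appLE, CategoryTheory.comp_apply, Scheme.basicOpen_res, ← Scheme.preimage_basicOpen]
    refine ⟨hwP, ?_⟩
    by_contra hne
    have hs : sn (f' y) ∈ (((𝓘₁ ⊔ 𝓘₂).comap q).support : Set X') := by
      refine (Scheme.IdealSheafData.mem_support_iff_of_mem (U := D) (hPD hwP)).mpr ?_
      rw [hDe, Scheme.zeroLocus_span, Scheme.mem_zeroLocus_iff]
      rintro _ rfl
      exact hne
    rw [Scheme.IdealSheafData.support_comap] at hs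
    have hs' : q (sn (f' y)) ∈ ((𝓘₁ ⊔ 𝓘₂).support : Set X) := hs
    rw [Scheme.IdealSheafData.support_sup] at hs'
    exact Set.disjoint_left.mp h₁' hs'.1 hwU
  have hk' : φ e * (1 - μ) = k := by rw [mul_sub, mul_one, sub_eq_iff_eq_add, add_comm, hak]
  have h0 : f'.app P.1 (φ e * (1 - μ)) = 0 :=
    RingHom.mem_ker.mp (Scheme.IdealSheafData.ideal_ofIdeals_le _ _ (hk' ▸ hk))
  have hin : y ∈ f' ⁻¹ᵁ (pullback p q).basicOpen (φ e * (1 - μ)) := by
    apply (Scheme.Hom.mem_preimage f').mpr
    rw [Scheme.basicOpen_mul]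
    exact ⟨hwe, hw1⟩
  rw [Scheme.preimage_basicOpen, h0, Scheme.basicOpen_zero] at hin
  exact hin

end Groth.Agent.S17391
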