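import Groth.Statements.S17392
import Groth.Agent.Lib.BlowAdm8.Basic

set_option autoImplicit false
set_option backward.isDefEq.respectTransparency false
universe u
open BlowUp

namespace Groth.Agent.S17392

open AlgebraicGeometry CategoryTheory Limits in
/-- Let X₁ and X₂ be quasi-compact quasi-separated schemes, q : X₂ → X₁ a quasi-compact separated
morphism, V₁ ⊆ X₁ a quasi-compact open subscheme and U ⊆ q⁻¹(V₁) an open subscheme of X₂ on which q
restricts to an open immersion (so U is identified with an open of V₁). Let Z₁ ⊆ X₁ be a closed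
subset whose open complement is quasi-compact, put Y₁ = Z₁ ∩ V₁, and let Z₂ ⊆ X₂ be a closed subset
whose open complement is also quasi-compact, with q⁻¹(Y₁) ⊆ Z₂. Then there is a quasi-coherent ideal
E of finite type on X₁ with support contained in Z₁ ∖ V₁ (so that blowing up E is V₁-admissible)
such that, for every blowing up c : X₁' → X₁ of X₁ in E with base change q' : X₂' = X₂ ×_{X₁} X₁' →
X₁' and c₂ : X₂' → X₂, one has q'⁻¹(closure of c⁻¹(Y₁)) ∩ closure(c₂⁻¹(U)) ⊆ c₂⁻¹(Z₂) as subsets of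
X₂'. -/
theorem result
    {X₁ X₂ : Scheme.{u}} [CompactSpace X₁] [QuasiSeparatedSpace X₁] [CompactSpace X₂] [QuasiSeparatedSpace X₂]
    (q : X₂ ⟶ X₁) [QuasiCompact q] [IsSeparated q]
    (V₁ : X₁.Opens) (hV₁ : IsCompact (V₁ : Set X₁))
    (U : X₂.Opens) (hU : U ≤ q ⁻¹ᵁ V₁) [IsOpenImmersion (U.ι ≫ q)]
    (Z₁ : Set X₁) (hZ₁ : IsClosed Z₁) (hZ₁c : IsCompact Z₁ᶜ)
    (Z₂ : Set X₂) (hZ₂ : IsClosed Z₂) (hZ₂c : IsCompact Z₂ᶜ)
    (hYZ : (fun x => q x) ⁻¹' (Z₁ ∩ (V₁ : Set X₁)) ⊆ Z₂) :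
    ∃ 𝓔 : X₁.IdealSheafData, BlowUp.IsFiniteTypeIdeal 𝓔 ∧ (𝓔.support : Set X₁) ⊆ Z₁ \ (V₁ : Set X₁) ∧
      ∀ (X₁' : Scheme.{u}) (c : X₁' ⟶ X₁), BlowUp.IsBlowUp c 𝓔 →
        (fun z => (pullback.snd q c) z) ⁻¹' closure ((fun x => c x) ⁻¹' (Z₁ ∩ (V₁ : Set X₁))) ∩
            closure ((fun z => (pullback.fst q c) z) ⁻¹' (U : Set X₂)) ⊆
          (fun z => (pullback.fst q c) z) ⁻¹' Z₂ := by
  classical
  obtain ⟨I₁, hI₁, hI₁s⟩ := GrothLib.FgSupport6.exists_fg_support_eq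
    (⟨Z₁ᶜ, hZ₁.isOpen_compl⟩ : X₁.Opens) hZ₁c
  obtain ⟨Iv, hIv, hIvs⟩ := GrothLib.FgSupport6.exists_fg_support_eq V₁ hV₁
  replace hI₁s : (I₁.support : Set X₁) = Z₁ := hI₁s.trans (compl_compl Z₁)
  let W : X₂.Opens := ⟨Z₂ᶜ, hZ₂.isOpen_compl⟩
  have : CompactSpace (W : Scheme.{u}) := isCompact_iff_compactSpace.mp hZ₂c
  let r : (W : Scheme.{u}) ⟶ X₁ := W.ι ≫ q
  have hsupp : ((I₁.comap r).support : Set (W : Scheme.{u})) ⊆ (Iv.comap r).support := by
    intro w hw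
    rw [Scheme.IdealSheafData.support_comap] at hw ⊢
    have hw' : r w ∈ Z₁ := hI₁s.le hw
    show r w ∈ (Iv.support : Set X₁)
    rw [hIvs]
    intro hV
    exact w.2 (hYZ (show W.ι w ∈ (fun x => q x) ⁻¹' (Z₁ ∩ (V₁ : Set X₁)) from ⟨hw', hV⟩))
  obtain ⟨n, hn0, hn⟩ := GrothLib.BlowAdm8.exists_pow_le (I₁.comap r) (Iv.comap r)
    (GrothLib.Nagata6.fg_comap' Iv hIv r) hsupp
  rw [← GrothLib.BlowUp.comap_pow] at hn
  have hEs : ((I₁ ⊔ Iv ^ n).support : Set X₁) = Z₁ \ (V₁ : Set X₁) := by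
    rw [Scheme.IdealSheafData.support_sup, Scheme.IdealSheafData.support_pow (hn := hn0)]
    exact (congrArg₂ (· ∩ ·) hI₁s hIvs).trans rfl
  refine ⟨I₁ ⊔ Iv ^ n, fun U => ?_, hEs.le, ?_⟩
  · rw [Scheme.IdealSheafData.ideal_sup, Pi.sup_apply, Scheme.IdealSheafData.ideal_pow, Pi.pow_apply]
    exact Submodule.FG.sup (hI₁ U) (Submodule.FG.pow (hIv U) n)
  intro X₁' c hc z hz
  obtain ⟨hz₁, hz₂⟩ := hz
  by_contra hzW
  obtain ⟨D, hyD, e, hDe, heB, hT⟩ := GrothLib.BlowAdm8.exists_chart c I₁ (Iv ^ n) hc.1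
    (Z₁ ∩ (V₁ : Set X₁)) (fun x hx => hI₁s.ge hx.1)
    (Set.disjoint_left.mpr fun x hx hx' => (hEs.le hx').2 hx.2) _ hz₁
  let fs := pullback.fst q c
  let sn := pullback.snd q c
  obtain ⟨_, ⟨P₀, hP₀, rfl⟩, hzP, hPle⟩ := (pullback q c).isBasis_affineOpens.exists_subset_of_mem_open
    (show z ∈ ((sn ⁻¹ᵁ D.1 ⊓ fs ⁻¹ᵁ W : (pullback q c).Opens) : Set (pullback q c : Scheme.{u})) from ⟨hyD, hzW⟩)
    (sn ⁻¹ᵁ D.1 ⊓ fs ⁻¹ᵁ W).2
  let P : (pullback q c).affineOpens := ⟨P₀, hP₀⟩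
  have hPD : P.1 ≤ sn ⁻¹ᵁ D.1 := fun x hx => (hPle hx).1
  let ψ : (P.1 : Scheme.{u}) ⟶ (W : Scheme.{u}) := IsOpenImmersion.lift W.ι (P.1.ι ≫ fs) (by
    rintro _ ⟨x, rfl⟩
    rw [Scheme.Opens.range_ι]
    exact (hPle x.2).2)
  have hψ : ψ ≫ r = P.1.ι ≫ sn ≫ c := by
    show ψ ≫ W.ι ≫ q = _
    rw [IsOpenImmersion.lift_fac_assoc, Category.assoc, pullback.condition]
  have hcomp : (((Iv ^ n).comap c).comap sn).comap P.1.ι ≤ ((I₁.comap c).comap sn).comap P.1.ι := by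
    have e : ∀ K : X₁.IdealSheafData, ((K.comap c).comap sn).comap P.1.ι = (K.comap r).comap ψ :=
      fun K => by
        rw [← Scheme.IdealSheafData.comap_comp K sn c, ← Scheme.IdealSheafData.comap_comp K P.1.ι (sn ≫ c),
          ← hψ, Scheme.IdealSheafData.comap_comp]
    rw [e, e]
    exact (Scheme.IdealSheafData.map_gc ψ).monotone_l hn
  have htop : (⊤ : (P.1 : Scheme.{u}).Opens) ≤ P.1.ι ⁻¹ᵁ P.1 := fun x _ => x.2
  haveI : IsAffine (P.1 : Scheme.{u}) := P.2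
  let φ := (sn.appLE D.1 P.1 hPD).hom
  have hle : (((Iv ^ n).comap c).ideal D).map φ ≤ ((I₁.comap c).ideal D).map φ := by
    have h := hcomp ⟨⊤, isAffineOpen_top _⟩
    rw [GrothLib.BlowUp.ideal_comap_eq_map _ P.1.ι P ⟨⊤, isAffineOpen_top _⟩ htop,
      GrothLib.BlowUp.ideal_comap_eq_map _ P.1.ι P ⟨⊤, isAffineOpen_top _⟩ htop,
      GrothLib.BlowUp.ideal_comap_eq_map _ sn D P hPD,
      GrothLib.BlowUp.ideal_comap_eq_map _ sn D P hPD] at h
    have hb := ConcreteCategory.bijective_of_isIso (P.1.ι.appLE P.1 ⊤ htop)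
    have h' := Ideal.comap_mono (f := (P.1.ι.appLE P.1 ⊤ htop).hom) h
    rwa [Ideal.comap_map_of_bijective _ hb, Ideal.comap_map_of_bijective _ hb] at h'
  let T : Ideal Γ(X₁', D.1) := Submodule.comap (LinearMap.mulRight Γ(X₁', D.1) e) ((I₁.comap c).ideal D)
  have hJT : (I₁.comap c).ideal D ≤ Ideal.span {e} * T := by
    intro j hj
    obtain ⟨t, rfl⟩ := Ideal.mem_span_singleton'.mp (hDe.le (by
      rw [Scheme.IdealSheafData.comap_sup, Scheme.IdealSheafData.ideal_sup, Pi.sup_apply]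
      exact Submodule.mem_sup_left hj))
    rw [mul_comm t e]
    exact Ideal.mul_mem_mul (Ideal.mem_span_singleton_self e) hj
  have hmem : φ e ∈ Ideal.span {φ e} * T.map φ := by
    have := (hle.trans (Ideal.map_mono hJT)) (Ideal.mem_map_of_mem φ heB)
    rwa [Ideal.map_mul, Ideal.map_span, Set.image_singleton] at this
  obtain ⟨μ, hμ, hμe⟩ := Ideal.mem_span_singleton_mul.mp hmem
  have hμz : z ∉ (pullback q c).basicOpen μ := by
    intro hzμ
    have h1 : T.map φ ≤ (IsLocalRing.maximalIdeal ((pullback q c).presheaf.stalk z)).comap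
        ((pullback q c).presheaf.germ P.1 z hzP).hom := by
      rw [Ideal.map_le_iff_le_comap]
      intro t ht
      rw [Ideal.mem_comap, Ideal.mem_comap, IsLocalRing.mem_maximalIdeal, mem_nonunits_iff]
      intro hu
      have h2 : z ∈ (pullback q c).basicOpen (sn.appLE D.1 P.1 hPD t) :=
        ((pullback q c).mem_basicOpen _ z hzP).mpr hu
      rw [Scheme.Hom.appLE, CategoryTheory.comp_apply, Scheme.basicOpen_res, ← Scheme.preimage_basicOpen] at h2
      exact hT t ht h2.2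
    exact (IsLocalRing.mem_maximalIdeal _).mp (h1 hμ) (((pullback q c).mem_basicOpen _ z hzP).mp hzμ)
  have hz1 : z ∈ (pullback q c).basicOpen (1 - μ) := by
    rw [(pullback q c).mem_basicOpen _ z hzP]
    have hu := IsLocalRing.isUnit_or_isUnit_of_add_one (a := (pullback q c).presheaf.germ P.1 z hzP μ)
      (b := (pullback q c).presheaf.germ P.1 z hzP (1 - μ)) (by rw [← map_add, add_sub_cancel, map_one])
    exact hu.resolve_left fun h => hμz (((pullback q c).mem_basicOpen _ z hzP).mpr h)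
  obtain ⟨w, hw1, hwU⟩ := mem_closure_iff.mp hz₂ _ ((pullback q c).basicOpen (1 - μ)).2 hz1
  have hwP : w ∈ P.1 := (pullback q c).basicOpen_le _ hw1
  have hwV : c (sn w) ∈ V₁ := by
    have h := hU hwU
    change q (fs w) ∈ V₁ at h
    have e1 : q (fs w) = c (sn w) := by
      rw [← Scheme.Hom.comp_apply, ← Scheme.Hom.comp_apply, pullback.condition]
    rwa [e1] at h
  have hwe : w ∈ (pullback q c).basicOpen (φ e) := by
    show w ∈ (pullback q c).basicOpen (sn.appLE D.1 P.1 hPD e)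
    rw [Scheme.Hom.appLE, CategoryTheory.comp_apply, Scheme.basicOpen_res, ← Scheme.preimage_basicOpen]
    refine ⟨hwP, ?_⟩
    by_contra hne
    have hs : sn w ∈ (((I₁ ⊔ Iv ^ n).comap c).support : Set X₁') := by
      refine (Scheme.IdealSheafData.mem_support_iff_of_mem (U := D) (hPD hwP)).mpr ?_
      rw [hDe, Scheme.zeroLocus_span, Scheme.mem_zeroLocus_iff]
      rintro _ rfl
      exact hne
    rw [Scheme.IdealSheafData.support_comap] at hs
    exact (hEs.le hs).2 hwV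
  have hzero : (pullback q c).basicOpen (φ e * (1 - μ)) = ⊥ := by
    rw [mul_sub, mul_one, hμe, sub_self, Scheme.basicOpen_zero]
  have hwb : w ∈ (pullback q c).basicOpen (φ e * (1 - μ)) := by
    rw [Scheme.basicOpen_mul]
    exact ⟨hwe, hw1⟩
  rw [hzero] at hwb
  exact hwb

end Groth.Agent.S17392
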