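import Groth.Statements.S17398
import Groth.Agent.Lib.CycNorm12.Decomp

set_option autoImplicit false
set_option linter.all false
set_option backward.isDefEq.respectTransparency false
universe u
open CycCov

namespace Groth.Agent.S17398

open CategoryTheory AlgebraicGeometry Limits in
/-- For X integral and smooth over an algebraically closed field k, L an invertible module, N ≥ 1
invertible in k, D_1, …, D_r a strict normal crossing divisor on X with multiplicities α_j, s a
global section of the N-th tensor power of L whose divisor of zeros is D = Σ α_j D_j, and π : Y → X
with its root datum the normalised cyclic N-th-root cover of X defined by s, the direct image π_*O_Y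
is the direct sum over 0 ≤ i < N of the inverses of the modules L^{(i)} = L^i ⊗ O_X(−[iD/N]): for
any choice of tensor inverses M_i there are morphisms M_i → π_*O_Y exhibiting π_*O_Y as a coproduct
of the M_i (existence of such morphisms only; the inclusions themselves are not pinned here). (The
published claim allows any effective divisor on a manifold; it is stated here for components forming
a strict normal crossing divisor.) -/
theorem result {k : Type u} [Field k] [IsAlgClosed k] {X Y : Scheme.{u}}
    (f : X ⟶ Spec (CommRingCat.of k)) [Smooth f] [IsIntegral X]
    (L : X.Modules) (hL : PicF.IsInvertible L) (N : ℕ) (hN : 0 < N) (hNk : (N : k) ≠ 0)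
    {r : ℕ} (D : Fin r → X.IdealSheafData) (α : Fin r → ℕ) (hD : LogNCD.IsNCD D f)
    (s : Coh.structureModule X ⟶ CohB1.tensorPow L N) (hs : CycCov.IsZeroDiv (CohB1.tensorPow L N) s (CycCov.divIdeal D α))
    (π : Y ⟶ X) (R : CycCov.Root L N s π) (hR : CycCov.IsCover R)
    (M : Fin N → X.Modules) (hM : ∀ i : Fin N, ClSub.IsInverseOf (CycCov.intPart L D α N i) (M i)) :
    ∃ c : ∀ i : Fin N, M i ⟶ (Scheme.Modules.pushforward π).obj (Coh.structureModule Y),
      Nonempty (IsColimit (Cofan.mk ((Scheme.Modules.pushforward π).obj (Coh.structureModule Y)) c)) := by
  exact GrothLib.CycNorm12.exists_isColimit_cofan f hL hN hNk hD hs R hR M hM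

end Groth.Agent.S17398
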