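import Groth.Statements.S17409
import Mathlib.RingTheory.MvPolynomial.Ideal
import Mathlib.RingTheory.MvPolynomial.Basic

set_option autoImplicit false
universe u
open Prym5

namespace Groth.Agent.S17409

/-- Over a perfect field K of characteristic different from 2 and 3, let G₂, G₃, G₄ be polynomials in
two variables x, y and consider G₂ z² + 2 G₃ z + G₄ as a polynomial in the three variables x, y, z.
If it lies in the square of the ideal (x, y, z) — the surface it defines has a double point at the
origin — then the discriminant G₃² − G₂ G₄ lies in the square of the ideal (x, y) of K[x, y], so the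
plane curve G₃² − G₂ G₄ = 0 is singular at the origin. (This is the affine-local form used in the
published proof: the surface is a quartic with a node at the centre of projection placed at infinity
on the z-axis, and the curve is the branch sextic of that projection.) -/
theorem result (K : Type u) [Field K] [PerfectField K]
    (h2 : (2 : K) ≠ 0) (h3 : (3 : K) ≠ 0) (G₂ G₃ G₄ : MvPolynomial (Fin 2) K)
    (h : MvPolynomial.rename (Fin.castSucc : Fin 2 → Fin 3) G₂ * MvPolynomial.X (2 : Fin 3) ^ 2
        + 2 * MvPolynomial.rename (Fin.castSucc : Fin 2 → Fin 3) G₃ * MvPolynomial.X (2 : Fin 3)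
        + MvPolynomial.rename (Fin.castSucc : Fin 2 → Fin 3) G₄
        ∈ (Ideal.span (Set.range (MvPolynomial.X : Fin 3 → MvPolynomial (Fin 3) K))) ^ 2) :
    G₃ ^ 2 - G₂ * G₄ ∈ (Ideal.span (Set.range (MvPolynomial.X : Fin 2 → MvPolynomial (Fin 2) K))) ^ 2 := by
  classical
  let π : MvPolynomial (Fin 3) K →ₐ[K] MvPolynomial (Fin 2) K :=
    MvPolynomial.aeval ![MvPolynomial.X 0, MvPolynomial.X 1, 0]
  let ζ : MvPolynomial (Fin 3) K →ₐ[K] Polynomial K := MvPolynomial.aeval ![0, 0, Polynomial.X]
  let m := Ideal.span (Set.range (MvPolynomial.X : Fin 2 → MvPolynomial (Fin 2) K))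
  have hπr : ∀ G, π (MvPolynomial.rename (Fin.castSucc : Fin 2 → Fin 3) G) = G := fun G => by
    rw [MvPolynomial.aeval_rename]
    conv_rhs => rw [← MvPolynomial.aeval_X_left_apply G]
    congr 1
    refine MvPolynomial.algHom_ext fun i => ?_
    fin_cases i <;> simp
  have h4 : G₄ ∈ m ^ 2 := by
    have := Ideal.mem_map_of_mem π h
    rw [Ideal.map_pow] at this
    refine Ideal.pow_right_mono (I := Ideal.map π (Ideal.span (Set.range (MvPolynomial.X : Fin 3 → MvPolynomial (Fin 3) K)))) ?_ 2 ?_ (x := G₄)
    swap
    · simpa [hπr, π] using this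
    rw [Ideal.map_span, Ideal.span_le]
    rintro _ ⟨_, ⟨i, rfl⟩, rfl⟩
    fin_cases i <;> simp [π, m] <;> exact Ideal.subset_span ⟨_, rfl⟩
  have h3 : MvPolynomial.constantCoeff G₃ = 0 := by
    have := Ideal.mem_map_of_mem ζ h
    rw [Ideal.map_pow] at this
    have hle : Ideal.map ζ (Ideal.span (Set.range (MvPolynomial.X : Fin 3 → MvPolynomial (Fin 3) K))) ≤
        Ideal.span {Polynomial.X} := by
      rw [Ideal.map_span, Ideal.span_le]
      rintro _ ⟨_, ⟨i, rfl⟩, rfl⟩
      fin_cases i <;> simp [ζ, Ideal.mem_span_singleton_self]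
    have hd := Ideal.pow_right_mono hle 2 this
    rw [Ideal.span_singleton_pow, Ideal.mem_span_singleton] at hd
    have hc : ∀ G, ζ (MvPolynomial.rename (Fin.castSucc : Fin 2 → Fin 3) G) =
        Polynomial.C (MvPolynomial.constantCoeff G) := fun G => by
      induction G using MvPolynomial.induction_on with
      | C a => simp [ζ]
      | add p q hp hq => simp [map_add, hp, hq]
      | mul_X p i hp =>
        rw [map_mul, map_mul, hp, map_mul, MvPolynomial.constantCoeff_X, mul_zero, map_zero]
        fin_cases i <;> simp [ζ]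
    simp only [map_add, map_mul, map_pow, map_ofNat, hc] at hd
    simp only [ζ, MvPolynomial.aeval_X, Matrix.cons_val] at hd
    have h1 := Polynomial.X_pow_dvd_iff.mp hd 1 (by norm_num)
    simp [Polynomial.coeff_X_pow] at h1
    rcases h1 with h1 | h1
    · exact absurd h1 h2
    · exact h1
  have hG3 : G₃ ∈ m := by
    show G₃ ∈ Ideal.span _
    rw [← Set.image_univ, MvPolynomial.mem_ideal_span_X_image]
    intro d hd
    have hd0 : d ≠ 0 := fun e => by
      subst e
      exact MvPolynomial.mem_support_iff.mp hd (by rwa [MvPolynomial.constantCoeff_eq] at h3)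
    obtain ⟨i, hi⟩ := Finsupp.ne_iff.mp hd0
    exact ⟨i, Set.mem_univ i, hi⟩
  exact sub_mem (Ideal.pow_mem_pow hG3 2) (Ideal.mul_mem_left _ _ h4)

end Groth.Agent.S17409
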