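import Groth.Statements.S1741
import Groth.Agent.Lib.ExtTorMap.Basic
import Mathlib.Algebra.Homology.DerivedCategory.Ext.ExactSequences

set_option autoImplicit false
universe u
open CategoryTheory
attribute [local instance] HasDerivedCategory.standard
open LocCoh

namespace Groth.Agent.S1741

/-- Equivalence of (4) and (7) in the Noetherian case. Let R be a Noetherian ring, α : M → M' a map of
R-modules with M finite, and e ≥ 0. Then precomposition with α kills all classes in Ext^{e+1}(M', N)
(maps M' → N[e+1] in D(R)) for every module N if and only if the map Tor_{e+1}(M, N) → Tor_{e+1}(M',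
N) induced by α is zero for every module N. -/
theorem result (R : Type u) [CommRing R] [IsNoetherianRing R] (M M' : Type u) [AddCommGroup M] [Module R M] [Module.Finite R M] [AddCommGroup M'] [Module R M'] (α : M →ₗ[R] M') (e : ℕ) : (∀ (N : Type u) [AddCommGroup N] [Module R N] (φ : Dual.inD R M' ⟶ (Dual.inD R N)⟦((e : ℤ) + 1)⟧), (DerivedCategory.singleFunctor (ModuleCat.{u} R) 0).map (ModuleCat.ofHom α) ≫ φ = 0) ↔ (∀ (N : Type u) [AddCommGroup N] [Module R N], ((CategoryTheory.Tor (ModuleCat.{u} R) (e + 1)).map (ModuleCat.ofHom α)).app (ModuleCat.of R N) = 0) := by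
    letI := HasDerivedCategory.standard (ModuleCat.{u} R)
    have key := GrothLib.ExtTorMap.extZero_iff_torZero e M M' α
    constructor
    · intro h N _ _
      refine (GrothLib.ExtTorMap.tor_app_eq_zero_iff _ _ _).2 (key.1 (fun N x => ?_) _)
      ext
      refine (Abelian.Ext.singleFunctor_map_comp_hom _ _).symm.trans ?_
      rw [Abelian.Ext.zero_hom]
      exact h N x.hom
    · intro h N _ _ φ
      obtain ⟨x, rfl⟩ : ∃ x : Abelian.Ext (ModuleCat.of R M') (ModuleCat.of R N) (e + 1), x.hom = φ :=
        ⟨Abelian.Ext.homEquiv.symm φ, Abelian.Ext.homEquiv.apply_symm_apply φ⟩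
      exact (Abelian.Ext.singleFunctor_map_comp_hom _ x).trans ((congrArg Abelian.Ext.hom
        (key.2 (fun N' => (GrothLib.ExtTorMap.tor_app_eq_zero_iff _ _ _).1 (h N')) _ x)).trans (Abelian.Ext.zero_hom _ _ _))

end Groth.Agent.S1741
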