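import Groth.Statements.S17410
import Mathlib.RingTheory.AdjoinRoot
import Mathlib.RingTheory.Localization.Integral
import Mathlib.RingTheory.TensorProduct.Maps

set_option autoImplicit false
set_option linter.all false
universe u
open Prym5

namespace Groth.Agent.S17410

/-- Over a perfect field K of characteristic different from 2 and 3, let h be an irreducible polynomial
of degree 2 in the variable z with coefficients in K[x, y] and A = K[x, y][z]/(h). For every
multiplicative subset S of K[x, y], the localisation S⁻¹A is integral over S⁻¹K[x, y] if and only if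
the leading coefficient of h is invertible in S⁻¹K[x, y]; and K(x, y) ⊗ A is a K(x, y)-vector space
of dimension 2. (Geometrically: for a quartic surface with an ordinary double point, written u₂ x₃²
+ 2 u₃ x₃ + u₄ = 0 with the node at (0:0:0:1), the projection from the node restricted to a standard
affine chart of the plane is given by such an algebra A with leading coefficient the dehomogenised
u₂, so the projection is finite of degree two exactly over the locus u₂ ≠ 0. Stated for any
irreducible h of degree 2, which is all the argument uses.) -/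
theorem result (K : Type u) [Field K]
    [PerfectField K] (h2 : (2 : K) ≠ 0) (h3 : (3 : K) ≠ 0)
    (h : Polynomial (MvPolynomial (Fin 2) K)) (hirr : Irreducible h) (hdeg : h.natDegree = 2)
    (S : Submonoid (MvPolynomial (Fin 2) K)) :
    (Algebra.IsIntegral (Localization S) (Localization (Algebra.algebraMapSubmonoid (AdjoinRoot h) S))
        ↔ IsUnit (algebraMap (MvPolynomial (Fin 2) K) (Localization S) h.leadingCoeff))
      ∧ Module.finrank (FractionRing (MvPolynomial (Fin 2) K))
          (TensorProduct (MvPolynomial (Fin 2) K) (FractionRing (MvPolynomial (Fin 2) K)) (AdjoinRoot h)) = 2 := by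
  classical
  have hh0 : h ≠ 0 := hirr.ne_zero
  refine ⟨⟨fun hint => ?_, fun hu => ?_⟩, ?_⟩
  · -- an integral root forces a unit leading coefficient
    by_cases h0 : (0 : MvPolynomial (Fin 2) K) ∈ S
    · haveI := IsLocalization.subsingleton (S := Localization S) h0
      exact isUnit_of_subsingleton _
    have hle : S ≤ nonZeroDivisors (MvPolynomial (Fin 2) K) := le_nonZeroDivisors_of_noZeroDivisors h0
    haveI : IsDomain (Localization S) := IsLocalization.isDomain_localization hle
    let As := Localization (Algebra.algebraMapSubmonoid (AdjoinRoot h) S)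
    let z : As := algebraMap (AdjoinRoot h) As (AdjoinRoot.root h)
    obtain ⟨g, hgm, hg⟩ := hint.1 z
    obtain ⟨b, hb⟩ := IsLocalization.integerNormalization_map_to_map S g
    let g₀ := IsLocalization.integerNormalization S g
    have e1 : Polynomial.aeval z (g₀.map (algebraMap (MvPolynomial (Fin 2) K) (Localization S))) = 0 := by
      rw [hb, Algebra.smul_def, map_mul]
      exact mul_eq_zero_of_right _ hg
    rw [Polynomial.aeval_map_algebraMap, Polynomial.aeval_algebraMap_apply, AdjoinRoot.aeval_eq] at e1
    obtain ⟨⟨_, c, hc, rfl⟩, hcg⟩ := (IsLocalization.map_eq_zero_iff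
      (Algebra.algebraMapSubmonoid (AdjoinRoot h) S) As _).1 e1
    have hdvd : h ∣ Polynomial.C c * g₀ := by
      rw [← AdjoinRoot.mk_eq_zero, map_mul, AdjoinRoot.mk_C]
      exact hcg
    have hd := map_dvd (Polynomial.mapRingHom (algebraMap (MvPolynomial (Fin 2) K) (Localization S))) hdvd
    simp only [Polynomial.coe_mapRingHom, Polynomial.map_mul, Polynomial.map_C] at hd
    rw [hb, Algebra.smul_def, Polynomial.algebraMap_apply, ← mul_assoc, ← Polynomial.C_mul] at hd
    obtain ⟨q, hq⟩ := hd
    have hl := congrArg Polynomial.leadingCoeff hq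
    rw [Polynomial.leadingCoeff_mul, Polynomial.leadingCoeff_mul, Polynomial.leadingCoeff_C, hgm.leadingCoeff,
      mul_one, Polynomial.leadingCoeff_map_of_injective (IsLocalization.injective _ hle)] at hl
    exact isUnit_of_mul_isUnit_left (hl ▸ (IsLocalization.map_units (Localization S) (⟨c, hc⟩ : S)).mul
      (IsLocalization.map_units (Localization S) b))
  · -- a unit leading coefficient makes the root integral
    let As := Localization (Algebra.algebraMapSubmonoid (AdjoinRoot h) S)
    let z : As := algebraMap (AdjoinRoot h) As (AdjoinRoot.root h)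
    let hs := h.map (algebraMap (MvPolynomial (Fin 2) K) (Localization S))
    have hz : Polynomial.aeval z hs = 0 := by
      rw [Polynomial.aeval_map_algebraMap, Polynomial.aeval_algebraMap_apply, AdjoinRoot.aeval_eq,
        AdjoinRoot.mk_self, map_zero]
    have hmonic : (Polynomial.C (↑hu.unit⁻¹ : Localization S) * hs).Monic := by
      rcases subsingleton_or_nontrivial (Localization S) with hS | hS
      · exact Subsingleton.elim _ _
      · refine Polynomial.monic_C_mul_of_mul_leadingCoeff_eq_one ?_
        rw [Polynomial.leadingCoeff_map_of_leadingCoeff_ne_zero _ hu.ne_zero, hu.val_inv_mul]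
    have hzi : IsIntegral (Localization S) z := ⟨_, hmonic, by
      show Polynomial.aeval z (Polynomial.C (↑hu.unit⁻¹ : Localization S) * hs) = 0
      rw [map_mul, hz, mul_zero]⟩
    have hA : ∀ a : AdjoinRoot h, IsIntegral (Localization S) (algebraMap (AdjoinRoot h) As a) := fun a => by
      induction a using AdjoinRoot.induction_on with
      | ih p =>
        rw [← AdjoinRoot.aeval_eq, ← Polynomial.aeval_algebraMap_apply, ← Polynomial.aeval_map_algebraMap (Localization S)]
        exact adjoin_le_integralClosure hzi (Polynomial.aeval_mem_adjoin_singleton _ _)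
    refine ⟨fun y => ?_⟩
    obtain ⟨⟨a, ⟨_, c, hc, rfl⟩⟩, hy⟩ := IsLocalization.surj (Algebra.algebraMapSubmonoid (AdjoinRoot h) S) y
    have hc' := IsLocalization.map_units (Localization S) (⟨c, hc⟩ : S)
    have he : algebraMap (AdjoinRoot h) As (algebraMap _ (AdjoinRoot h) c) =
        algebraMap (Localization S) As (algebraMap _ (Localization S) c) := by
      rw [← IsScalarTower.algebraMap_apply, ← IsScalarTower.algebraMap_apply]
    have : y = algebraMap (Localization S) As ↑hc'.unit⁻¹ * algebraMap (AdjoinRoot h) As a := by
      rw [← hy, he, mul_left_comm, ← map_mul, hc'.val_inv_mul, map_one, mul_one]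
    rw [this]
    exact isIntegral_algebraMap.mul (hA a)
  · -- the generic rank
    let R₀ := MvPolynomial (Fin 2) K
    let F := FractionRing R₀
    let hF : Polynomial F := h.map (algebraMap R₀ F)
    have hF0 : hF ≠ 0 := (Polynomial.map_ne_zero_iff (IsFractionRing.injective R₀ F)).2 hh0
    let φ : TensorProduct R₀ F (AdjoinRoot h) →ₐ[F] AdjoinRoot hF :=
      Algebra.TensorProduct.lift (Algebra.ofId F (AdjoinRoot hF))
        (AdjoinRoot.liftAlgHom h (Algebra.ofId R₀ (AdjoinRoot hF)) (AdjoinRoot.root hF) (by
          show Polynomial.aeval (AdjoinRoot.root hF) h = 0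
          rw [← Polynomial.aeval_map_algebraMap F, AdjoinRoot.aeval_eq, AdjoinRoot.mk_self]))
        (fun _ _ => Commute.all _ _)
    let χ : AdjoinRoot hF →ₐ[F] TensorProduct R₀ F (AdjoinRoot h) :=
      AdjoinRoot.liftAlgHom hF (Algebra.ofId F _)
        ((Algebra.TensorProduct.includeRight : AdjoinRoot h →ₐ[R₀] TensorProduct R₀ F (AdjoinRoot h))
          (AdjoinRoot.root h)) (by
          show Polynomial.aeval _ hF = 0
          rw [Polynomial.aeval_map_algebraMap, Polynomial.aeval_algHom_apply, AdjoinRoot.aeval_eq,
            AdjoinRoot.mk_self, map_zero])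
    have h1 : φ.comp χ = AlgHom.id F _ := AdjoinRoot.algHom_ext (by simp [φ, χ])
    have h2' : χ.comp φ = AlgHom.id F _ := by
      refine Algebra.TensorProduct.ext (by ext) (AdjoinRoot.algHom_ext ?_)
      simp [φ, χ]
    rw [(AlgEquiv.ofAlgHom φ χ h1 h2').toLinearEquiv.finrank_eq, (AdjoinRoot.powerBasis hF0).finrank,
      AdjoinRoot.powerBasis_dim, Polynomial.natDegree_map_eq_of_injective (IsFractionRing.injective R₀ F), hdeg]

end Groth.Agent.S17410
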