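import Groth.Agent.Lib.CotTangent.GenericInj
import Groth.Agent.Lib.CMFree.Regular
import Groth.Agent.Lib.RedSub.Basic

set_option autoImplicit false
universe u
open CategoryTheory AlgebraicGeometry

namespace Groth.Agent.S17413

/-- Let k be an algebraically closed field of characteristic zero, X a reduced scheme of finite type
over k, Y an integral scheme of finite type over k and u : X → Y a k-morphism. Then u is dominant if
and only if there is a closed point P of X such that X is regular at P and the differential of u at
P is surjective onto the tangent space of Y at u(P); surjectivity of the differential is written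
dually as injectivity of the map of cotangent spaces m_{u(P)}/m_{u(P)}² → m_P/m_P² induced by the
local homomorphism of u at P. (The published statement asks only that Y be irreducible, puts no
condition on P and concludes that the scheme-theoretic image is all of Y. Without regularity at P
the backward implication fails: the inclusion of the union of the two coordinate axes into the
affine plane induces a bijection of tangent spaces at the origin and is not dominant. Without
reducedness of Y the forward implication fails: the reduced line inside the doubled line y² = 0 is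
dominant but its differential is nowhere surjective. For Y integral and u quasi-compact, dominance
is the same as the scheme-theoretic image being Y.) -/
theorem result (k : Type u) [Field k]
    [IsAlgClosed k] [CharZero k] (X Y : Scheme.{u})
    [X.Over (Spec (CommRingCat.of k))] [Y.Over (Spec (CommRingCat.of k))]
    [LocallyOfFiniteType (X ↘ Spec (CommRingCat.of k))] [QuasiCompact (X ↘ Spec (CommRingCat.of k))]
    [LocallyOfFiniteType (Y ↘ Spec (CommRingCat.of k))] [QuasiCompact (Y ↘ Spec (CommRingCat.of k))]
    [AlgebraicGeometry.IsReduced X] [AlgebraicGeometry.IsIntegral Y] (u : X ⟶ Y) [u.IsOver (Spec (CommRingCat.of k))] :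
    IsDominant u ↔
      ∃ P : X, IsClosed ({P} : Set X) ∧ IsRegularLocalRing (X.presheaf.stalk P) ∧
        ∀ a ∈ IsLocalRing.maximalIdeal (Y.presheaf.stalk (u P)),
          (u.stalkMap P).hom a ∈ IsLocalRing.maximalIdeal (X.presheaf.stalk P) ^ 2 →
            a ∈ IsLocalRing.maximalIdeal (Y.presheaf.stalk (u P)) ^ 2 := by
  set qX := X ↘ Spec (CommRingCat.of k)
  set qY := Y ↘ Spec (CommRingCat.of k)
  have hf : u ≫ qY = qX := comp_over u (Spec (CommRingCat.of k))
  haveI : JacobsonSpace X := LocallyOfFiniteType.jacobsonSpace qX
  haveI : JacobsonSpace Y := LocallyOfFiniteType.jacobsonSpace qY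
  haveI := GrothLib.CotTangent.locallyOfFiniteType_of_over qX qY u hf
  haveI : IsLocallyNoetherian X := LocallyOfFiniteType.isLocallyNoetherian qX
  haveI : IsLocallyNoetherian Y := LocallyOfFiniteType.isLocallyNoetherian qY
  constructor
  · intro hd
    haveI : CompactSpace X := QuasiCompact.compactSpace_of_compactSpace qX
    haveI : IsNoetherian X := {}
    have hfin := TopologicalSpace.NoetherianSpace.finite_irreducibleComponents (α := X)
    have hden : DenseRange u.base := hd.denseRange
    have hcov : (Set.univ : Set Y) ⊆ ⋃₀ ((fun K => closure (u.base '' K)) '' irreducibleComponents X) := by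
      rw [← hden.closure_range]
      refine closure_minimal ?_ ?_
      · rintro _ ⟨x, rfl⟩
        exact ⟨_, ⟨irreducibleComponent x, irreducibleComponent_mem_irreducibleComponents x, rfl⟩,
          subset_closure ⟨x, mem_irreducibleComponent, rfl⟩⟩
      · rw [Set.sUnion_eq_biUnion]
        exact (hfin.image _).isClosed_biUnion fun _ ⟨_, _, h⟩ => h ▸ isClosed_closure
    set F := fun K : Set X => closure (u.base '' K) with hF
    obtain ⟨Z, hZmem, hYZ⟩ := isIrreducible_iff_sUnion_isClosed.1 (IrreducibleSpace.isIrreducible_univ Y) (hfin.image F).toFinset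
      (fun z hz => by obtain ⟨_, _, rfl⟩ := (Set.Finite.mem_toFinset _).1 hz; exact isClosed_closure)
      (by rw [Set.Finite.coe_toFinset]; exact hcov)
    obtain ⟨K, hK, rfl⟩ := (Set.Finite.mem_toFinset _).1 hZmem
    let W : X.Opens := ⟨(⋃₀ (irreducibleComponents X \ {K}))ᶜ, by
      rw [Set.sUnion_eq_biUnion, isOpen_compl_iff]
      exact hfin.sdiff.isClosed_biUnion fun W hW ↦ isClosed_of_mem_irreducibleComponents W hW.1⟩
    have hWK : closure (W : Set X) = K := closure_sUnion_irreducibleComponents_sdiff_singleton hfin _ hK
    haveI : IrreducibleSpace W := isIrreducible_iff_irreducibleSpace.mp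
      (isIrreducible_iff_closure.mp (hWK ▸ hK.1))
    haveI : IsIntegral W := isIntegral_of_irreducibleSpace_of_isReduced _
    have hdW : DenseRange (W.ι ≫ u).base := by
      intro y
      have h1 : y ∈ closure (u.base '' K) := hYZ trivial
      rw [← hWK] at h1
      have h2 := closure_mono (image_closure_subset_closure_image u.base.hom.continuous) h1
      rw [closure_closure] at h2
      refine closure_mono ?_ h2
      rintro _ ⟨x, hx, rfl⟩
      exact ⟨⟨x, hx⟩, rfl⟩
    obtain ⟨U, hgen, hU⟩ := GrothLib.CotTangent.exists_open_injective (W.ι ≫ qX) qY (W.ι ≫ u)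
      (by rw [Category.assoc, hf]) hdW
    haveI : JacobsonSpace W := LocallyOfFiniteType.jacobsonSpace (W.ι ≫ qX)
    obtain ⟨P, hPU, hPc⟩ := nonempty_inter_closedPoints (Z := (U : Set W)) ⟨_, hgen⟩ U.isOpen.isLocallyClosed
    obtain ⟨hr1, -, hinj⟩ := hU P hPU
    haveI := hr1
    let e := (asIso (W.ι.stalkMap P)).commRingCatIsoToRingEquiv
    refine ⟨W.ι P, W.ι.closePoints_subset_preimage_closedPoints hPc,
      IsRegularLocalRing.of_ringEquiv e.symm, fun a ha h2 => hinj a ha ?_⟩
    have h3 := Ideal.mem_map_of_mem (W.ι.stalkMap P).hom h2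
    rw [Ideal.map_pow] at h3
    rw [Scheme.Hom.stalkMap_comp]
    have h5 : (IsLocalRing.maximalIdeal (X.presheaf.stalk (W.ι P))).map (W.ι.stalkMap P).hom ≤ IsLocalRing.maximalIdeal _ :=
      Ideal.map_le_iff_le_comap.2 fun z hz => map_nonunit (W.ι.stalkMap P).hom z hz
    exact Ideal.pow_right_mono h5 2 h3
  · rintro ⟨P, hP, hreg, hinj⟩
    haveI := hreg
    have hy : IsClosed ({u P} : Set Y) := u.closePoints_subset_preimage_closedPoints hP
    haveI := GrothLib.CMFree.isDomain_of_isRegularLocalRing (X.presheaf.stalk P)
    have hres := GrothLib.CotTangent.residueFieldMap_surjective qX qY u hf P hP hy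
    letI : Algebra (Y.presheaf.stalk (u P)) (X.presheaf.stalk P) := (u.stalkMap P).hom.toAlgebra
    haveI : IsLocalHom (algebraMap (Y.presheaf.stalk (u P)) (X.presheaf.stalk P)) := u.toLRSHom.prop P
    have hinjS : Function.Injective (u.stalkMap P).hom :=
      GrothLib.CotTangent.injective_of_injective_cotangent (Y.presheaf.stalk (u P)) (X.presheaf.stalk P) (fun b => by
        obtain ⟨a, ha⟩ := hres (IsLocalRing.residue _ b)
        obtain ⟨a, rfl⟩ := IsLocalRing.residue_surjective a
        refine ⟨a, ?_⟩
        rw [← IsLocalRing.residue_eq_zero_iff, map_sub, sub_eq_zero]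
        exact ha.symm) hinj
    let bX : Spec (X.presheaf.stalk P) := (⟨⊥, Ideal.isPrime_bot⟩ : PrimeSpectrum (X.presheaf.stalk P))
    let bY : Spec (Y.presheaf.stalk (u P)) := (⟨⊥, Ideal.isPrime_bot⟩ : PrimeSpectrum (Y.presheaf.stalk (u P)))
    have hb : Spec.map (u.stalkMap P) bX = bY := PrimeSpectrum.ext ((RingHom.injective_iff_ker_eq_bot _).1 hinjS)
    have hgenY : Y.fromSpecStalk (u P) bY = genericPoint Y := by
      obtain ⟨p, hp⟩ : genericPoint Y ∈ Set.range (Y.fromSpecStalk (u P)) := by
        rw [Scheme.range_fromSpecStalk]; exact (genericPoint_spec Y).specializes trivial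
      have hs : bY ⤳ p := (PrimeSpectrum.le_iff_specializes _ _).1 (bot_le (a := p.asIdeal))
      have h1 := hs.map (Y.fromSpecStalk (u P)).base.hom.continuous
      rw [← hp]
      exact (h1.antisymm (by rw [hp]; exact (genericPoint_spec Y).specializes trivial)).eq
    have h := congrArg (fun φ : Spec (X.presheaf.stalk P) ⟶ Y => φ.base bX) (Scheme.SpecMap_stalkMap_fromSpecStalk u (x := P))
    simp only [Scheme.Hom.comp_apply] at h
    rw [hb, hgenY] at h
    refine ⟨fun y => ?_⟩
    refine closure_mono ?_ ((genericPoint_spec Y).specializes (y := y) trivial).mem_closure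
    rintro _ rfl
    exact ⟨_, h.symm⟩

end Groth.Agent.S17413
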