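import Groth.Statements.S17414
import Mathlib.RingTheory.MvPolynomial.Ideal

set_option autoImplicit false
universe u
open Prym5

namespace Groth.Agent.S17414

/-- Over a perfect field K of characteristic different from 2 and 3, let G₂, G₃, G₄ be polynomials in x,
y, let h = G₂ z² + 2 G₃ z + G₄ in K[x, y, z] and D = G₃² − G₂ G₄ in K[x, y]. Suppose h ∈ (x, y, z) —
the origin Q lies on the surface h = 0 — and D ∈ (x, y) — the image of Q under (x, y, z) ↦ (x, y)
lies on the discriminant curve D = 0. Then D ∈ (x, y)², i.e. the image point is singular on the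
discriminant curve, if and only if either h ∈ (x, y, z)², i.e. Q is a singular point of the surface,
or G₂, G₃, G₄ ∈ (x, y), i.e. Q lies on all three cones G₂ = G₃ = G₄ = 0. (Affine-local form, in a
chart where the node projected from sits at infinity on the z-axis and Q at the origin, of the
published claim: for a point Q ≠ P of the nodal quartic whose projection lies on the branch sextic,
the projection is singular on the sextic exactly when Q is singular on the quartic or lies on the
cones u₂ = u₃ = u₄ = 0.) -/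
theorem result (K : Type u) [Field K] [PerfectField K]
    (h2 : (2 : K) ≠ 0) (h3 : (3 : K) ≠ 0) (G₂ G₃ G₄ : MvPolynomial (Fin 2) K)
    (hQ : MvPolynomial.rename (Fin.castSucc : Fin 2 → Fin 3) G₂ * MvPolynomial.X (2 : Fin 3) ^ 2
        + 2 * MvPolynomial.rename (Fin.castSucc : Fin 2 → Fin 3) G₃ * MvPolynomial.X (2 : Fin 3)
        + MvPolynomial.rename (Fin.castSucc : Fin 2 → Fin 3) G₄
        ∈ Ideal.span (Set.range (MvPolynomial.X : Fin 3 → MvPolynomial (Fin 3) K)))
    (hD : G₃ ^ 2 - G₂ * G₄ ∈ Ideal.span (Set.range (MvPolynomial.X : Fin 2 → MvPolynomial (Fin 2) K))) :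
    G₃ ^ 2 - G₂ * G₄ ∈ (Ideal.span (Set.range (MvPolynomial.X : Fin 2 → MvPolynomial (Fin 2) K))) ^ 2 ↔
      (MvPolynomial.rename (Fin.castSucc : Fin 2 → Fin 3) G₂ * MvPolynomial.X (2 : Fin 3) ^ 2
          + 2 * MvPolynomial.rename (Fin.castSucc : Fin 2 → Fin 3) G₃ * MvPolynomial.X (2 : Fin 3)
          + MvPolynomial.rename (Fin.castSucc : Fin 2 → Fin 3) G₄
          ∈ (Ideal.span (Set.range (MvPolynomial.X : Fin 3 → MvPolynomial (Fin 3) K))) ^ 2 ∨
        (G₂ ∈ Ideal.span (Set.range (MvPolynomial.X : Fin 2 → MvPolynomial (Fin 2) K)) ∧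
          G₃ ∈ Ideal.span (Set.range (MvPolynomial.X : Fin 2 → MvPolynomial (Fin 2) K)) ∧
          G₄ ∈ Ideal.span (Set.range (MvPolynomial.X : Fin 2 → MvPolynomial (Fin 2) K)))) := by
  classical
  let m := Ideal.span (Set.range (MvPolynomial.X : Fin 2 → MvPolynomial (Fin 2) K))
  let m₃ := Ideal.span (Set.range (MvPolynomial.X : Fin 3 → MvPolynomial (Fin 3) K))
  have hmem : ∀ {σ : Type} (G : MvPolynomial σ K), G ∈ Ideal.span (Set.range (MvPolynomial.X : σ → MvPolynomial σ K)) ↔
      MvPolynomial.constantCoeff G = 0 := fun {σ} G => by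
    rw [← Set.image_univ, MvPolynomial.mem_ideal_span_X_image, MvPolynomial.constantCoeff_eq]
    constructor
    · intro h
      by_contra h0
      obtain ⟨i, -, hi⟩ := h 0 (MvPolynomial.mem_support_iff.mpr h0)
      exact hi rfl
    · intro h d hd
      have hd0 : d ≠ 0 := fun e => by subst e; exact MvPolynomial.mem_support_iff.mp hd h
      obtain ⟨i, hi⟩ := Finsupp.ne_iff.mp hd0
      exact ⟨i, Set.mem_univ i, hi⟩
  have h4 : MvPolynomial.constantCoeff G₄ = 0 := by
    have := (hmem _).mp hQ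
    simpa [MvPolynomial.constantCoeff_rename] using this
  have h3 : MvPolynomial.constantCoeff G₃ = 0 := by
    have := (hmem _).mp hD
    simpa [h4] using this
  have hG3 : G₃ ^ 2 ∈ m ^ 2 := Ideal.pow_mem_pow ((hmem _).mpr h3) 2
  constructor
  · intro hDm
    by_cases h2' : MvPolynomial.constantCoeff G₂ = 0
    · exact Or.inr ⟨(hmem _).mpr h2', (hmem _).mpr h3, (hmem _).mpr h4⟩
    refine Or.inl ?_
    have h24 : G₂ * G₄ ∈ m ^ 2 := by
      have := sub_mem hG3 hDm
      simpa using this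
    have hsub : (G₂ - MvPolynomial.C (MvPolynomial.constantCoeff G₂)) * G₄ ∈ m ^ 2 := by
      rw [pow_two]
      exact Ideal.mul_mem_mul ((hmem _).mpr (by simp)) ((hmem _).mpr h4)
    have hG4 : G₄ ∈ m ^ 2 := by
      have h5 : MvPolynomial.C (MvPolynomial.constantCoeff G₂) * G₄ ∈ m ^ 2 := by
        have := sub_mem h24 hsub
        rwa [← sub_mul, sub_sub_cancel] at this
      have := Ideal.mul_mem_left (m ^ 2) (MvPolynomial.C (MvPolynomial.constantCoeff G₂)⁻¹) h5
      rwa [← mul_assoc, ← map_mul, inv_mul_cancel₀ h2', map_one, one_mul] at this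
    let ρ : MvPolynomial (Fin 2) K →ₐ[K] MvPolynomial (Fin 3) K := MvPolynomial.rename Fin.castSucc
    have hρ : m.map ρ ≤ m₃ := by
      rw [Ideal.map_span, Ideal.span_le]
      rintro _ ⟨_, ⟨i, rfl⟩, rfl⟩
      exact Ideal.subset_span ⟨Fin.castSucc i, by simp [ρ]⟩
    have hX : (MvPolynomial.X (2 : Fin 3) : MvPolynomial (Fin 3) K) ∈ m₃ := Ideal.subset_span ⟨_, rfl⟩
    have hr4 : ρ G₄ ∈ m₃ ^ 2 := Ideal.pow_right_mono hρ 2 (Ideal.map_pow ρ m 2 ▸ Ideal.mem_map_of_mem ρ hG4)
    refine add_mem (add_mem (Ideal.mul_mem_left _ _ (Ideal.pow_mem_pow hX 2)) ?_) hr4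
    rw [pow_two]
    exact Ideal.mul_mem_mul (Ideal.mul_mem_left _ _ (hρ (Ideal.mem_map_of_mem ρ ((hmem _).mpr h3)))) hX
  · intro h
    refine sub_mem hG3 ?_
    rcases h with h | ⟨hg2, -, hg4⟩
    · let π : MvPolynomial (Fin 3) K →ₐ[K] MvPolynomial (Fin 2) K :=
        MvPolynomial.aeval ![MvPolynomial.X 0, MvPolynomial.X 1, 0]
      have hπr : ∀ G, π (MvPolynomial.rename (Fin.castSucc : Fin 2 → Fin 3) G) = G := fun G => by
        rw [MvPolynomial.aeval_rename]
        conv_rhs => rw [← MvPolynomial.aeval_X_left_apply G]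
        congr 1
        refine MvPolynomial.algHom_ext fun i => ?_
        fin_cases i <;> simp
      have hle : m₃.map π ≤ m := by
        rw [Ideal.map_span, Ideal.span_le]
        rintro _ ⟨_, ⟨i, rfl⟩, rfl⟩
        fin_cases i <;> simp [π, m] <;> exact Ideal.subset_span ⟨_, rfl⟩
      have h4' := Ideal.pow_right_mono hle 2 (Ideal.map_pow π m₃ 2 ▸ Ideal.mem_map_of_mem π h)
      refine Ideal.mul_mem_left _ _ ?_
      simpa [hπr, π] using h4'
    · rw [pow_two]
      exact Ideal.mul_mem_mul hg2 hg4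

end Groth.Agent.S17414
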