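import Groth.Statements.S17421
import Groth.Agent.Lib.ModSt.RankOneLocus


set_option autoImplicit false
set_option backward.isDefEq.respectTransparency false
set_option backward.isDefEq.respectTransparency.types false
open CategoryTheory CategoryTheory.Limits AlgebraicGeometry
universe u
open ModSt

namespace Groth.Agent.S17421

/-- Let `f : X ⟶ S` be a flat proper morphism of schemes, locally of finite presentation. The inclusion,
into the stack of finitely presented flat modules on the base changes of `X`, of its full
subcategory on the objects whose module is finite locally free of rank `1` is representable by
algebraic spaces and an open immersion. (The source states this for algebraic spaces `X → B` over a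
base scheme, with the Picard stack of invertible modules as the source of the functor and modules
with proper support in the target; this row is the case of schemes with `S = B`: as `f` is flat and
proper, an invertible module on a base change `X_T`, i.e. one finite locally free of rank `1`, is
finitely presented, flat over `T` and of proper support, so the Picard stack is rendered as this
full subcategory.) -/
theorem result {X S : Scheme.{u}} (f : X ⟶ S)
    [Flat f] [IsProper f] [LocallyOfFinitePresentation f] :
    AlgSt.IsOpenImm (AlgSt.subIncl (ModSt.Coh f) fun A => FlatMod.IsFinLocFreeOfRank 1 A.obj.E) := by
  exact GrothLib.ModSt.isOpenImm_subIncl_rank f 1

end Groth.Agent.S17421
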