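import Groth.Statements.S17425
import Groth.Agent.Lib.GlobDual22.MapMain
import Groth.Agent.Lib.GlobDual22.TwistNat
-- import your own Groth.Agent.* helpers here

set_option autoImplicit false
universe u
open CategoryTheory CategoryTheory.Limits AlgebraicGeometry
attribute [local instance] HasDerivedCategory.standard
open Dual

namespace Groth.Agent.S17425

/-- Let (R, m) be a Noetherian local ring with a dualizing complex ω_R (given in D(R), and as the object
W of D_QCoh(Spec R)), and let f : X → Spec R be proper (f is the structure morphism of X over Spec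
R; Rf_*, its preservation of D_QCoh and its right adjoint f^! are carried as hypotheses). Assume
every local ring of X is Cohen–Macaulay, X has dimension n, and the relative dualizing complex
f^!ω_R has zero cohomology sheaves outside a single degree d (as happens when X is moreover
equidimensional and connected); write ω_X for its degree-d cohomology sheaf, and let Z ⊆ X be the
closed fibre (the complement of the preimage of the punctured spectrum). Let a : L₁ → L₂ be a
monomorphism of invertible O_X-modules (equivalently L₂ = L₁(D) for an effective Cartier divisor D,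
a the canonical inclusion) and let a^∨ : L₂^∨ → L₁^∨ be the dual map on L_k^∨ = Hom(L_k, O_X) (the
internal Homs are carried as right adjoints of L_k ⊗ −, and a^∨ is the adjunct of (a ⊗ id) followed
by evaluation). Then for all natural numbers i, j with i + j = n: the map H^i(X, ω_X ⊗ L₁) → H^i(X,
ω_X ⊗ L₂) induced by a (that is, R^i f_*(ω_X ⊗ L₁) → R^i f_*(ω_X ⊗ L₁(D))) is injective if and only
if the map of local cohomology groups H^j_Z(X, L₂^∨) → H^j_Z(X, L₁^∨) induced by a^∨ is surjective.
(The published statement is over an arbitrary Noetherian base Y at a point y, after base change to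
Spec O_{Y,y}, for the inclusion O_X → O_X(D) of an effective Cartier divisor; this is that local
form.) -/
theorem result (R : Type u) [CommRing R] [IsNoetherianRing R] [IsLocalRing R]
    (ωR : Dual.D R) (hω : Dual.IsDualizing R ωR)
    [PreservesFiniteLimits (tilde.functor (CommRingCat.of R))]
    (W : DCoh.DQCoh (Spec (CommRingCat.of R))) (hW : Nonempty (W.obj ≅ (DCoh.tildeD (CommRingCat.of R)).obj ωR))
    (X : Scheme.{u}) [X.Over (Spec (CommRingCat.of R))] [IsProper (X ↘ Spec (CommRingCat.of R))]
    [DCoh.HasRpush (X ↘ Spec (CommRingCat.of R))] (h : DCoh.RpushPreservesQCoh (X ↘ Spec (CommRingCat.of R))) [DCoh.HasShriek (X ↘ Spec (CommRingCat.of R)) h]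
    (hCM : ∀ x : X, LocCoh.IsCohenMacaulayLocalRing (X.presheaf.stalk x))
    (d : ℤ) (hconc : ∀ j : ℤ, j ≠ d → IsZero (DCoh.HD (DCoh.dualizingCx (X ↘ Spec (CommRingCat.of R)) h W) j))
    (n : ℕ) (hn : topologicalKrullDim X = n)
    (L₁ L₂ : X.Modules) (hL₁ : PicF.IsInvertible L₁) (hL₂ : PicF.IsInvertible L₂) [DCoh.HasSheafHom L₁] [DCoh.HasSheafHom L₂]
    (a : L₁ ⟶ L₂) [Mono a]
    (i j : ℕ) (hij : i + j = n) :
    Function.Injective (Sheaf.H.map ((SheafOfModules.toSheaf X.ringCatSheaf).map ((DCoh.tensorBi.obj (DCoh.HD (DCoh.dualizingCx (X ↘ Spec (CommRingCat.of R)) h W) d)).map a)) i) ↔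
      Function.Surjective (LocCohZ.map (X := X.carrier) ((SheafOfModules.toSheaf X.ringCatSheaf).map ((DCoh.sheafHomAdj L₁).homEquiv ((DCoh.sheafHom L₂).obj (Coh.structureModule X)) (Coh.structureModule X) ((DCoh.tensorBi.map a).app ((DCoh.sheafHom L₂).obj (Coh.structureModule X)) ≫ (DCoh.sheafHomAdj L₂).counit.app (Coh.structureModule X)))) j
        (le_top : ((X ↘ Spec (CommRingCat.of R)) ⁻¹ᵁ (LocCoh.puncturedOpen R (IsLocalRing.maximalIdeal R))) ≤ ⊤)) := by
  let f := X ↘ Spec (CommRingCat.of R)
  haveI : IsLocallyNoetherian X := LocallyOfFiniteType.isLocallyNoetherian f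
  haveI : EnoughInjectives X.Modules :=
    GrothLib.SheafCoh.enoughInjectives_sheafOfModules X.ringCatSheaf
  haveI : HasExt.{u} X.Modules := hasExt_of_enoughInjectives _
  obtain ⟨ht, -⟩ := GrothLib.GlobDual22.deg_eq f h hω W hW hCM d hconc n hn
  have hd := GrothLib.GlobDual22.surjective_HZM_map_iff f h hω W hW
    (GrothLib.Euler.isCoh_of_isInvertible (GrothLib.GlobDual22.isInvertible_dualM hL₂).2)
    (GrothLib.Euler.isCoh_of_isInvertible (GrothLib.GlobDual22.isInvertible_dualM hL₁).2)
    (GrothLib.GlobDual22.transp a) j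
  rw [ht, show d + (n : ℤ) - (j : ℤ) = d + (i : ℤ) by omega,
    GrothLib.GlobDual22.injective_precomp_iff_ext (GrothLib.GlobDual22.transp a) _ d hconc i,
    ← GrothLib.GlobDual22.injective_HH_map_iff (k := R) a hL₁ hL₂] at hd
  exact hd.symm

end Groth.Agent.S17425
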