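import Groth.Statements.S17426
import Groth.Agent.Lib.CounitLim8.Basic
import Groth.Agent.Lib.LimDesc.Basic
import Groth.Agent.Lib.FittSheaf.PullbackFP
import Groth.Agent.Lib.LocFree8.Basic
import Groth.Agent.Lib.Euler.Coh
import Groth.Agent.Lib.RankStratum9.Basic
import Groth.Agent.S10869
import Groth.Agent.S4788
import Groth.Agent.S4793
import Groth.Agent.S4811

set_option maxHeartbeats 1600000
set_option backward.isDefEq.respectTransparency false
set_option autoImplicit false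
universe u
open CategoryTheory AlgebraicGeometry
open Lim

namespace Groth.Agent.S17426

/-- Let S = lim S_i be a cofiltered limit of schemes with affine transition morphisms, with S_{i₀} a
quasi-compact quasi-separated stage; let X₀ and Y₀ be schemes of finite presentation over S_{i₀}, f₀
: X₀ → Y₀ an S_{i₀}-morphism and L₀ an invertible O_{X₀}-module. Let f : X → Y be the base change of
f₀ along S → S_{i₀} and L the pullback of L₀ to X (base changes are expressed by pullback squares).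
Call an invertible module generated relative to a morphism when the counit of the
pullback–pushforward adjunction, f^*f_*L → L, is an epimorphism. If L is generated relative to f,
then there is an index j over i₀ such that for every index k over j and every base change f_k : X_k
→ Y_k of f₀ along S_k → S_{i₀}, the pullback L_k of L₀ to X_k is generated relative to f_k. (Stated
for X₀, Y₀ of finite presentation over the quasi-compact quasi-separated stage, the setting in which
all the schemes involved are quasi-compact and quasi-separated; the semi-ample variant of the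
source, some positive tensor power generated, is not restated.) -/
theorem result {I : Type u} [SmallCategory I] [IsCofiltered I]
    (D : I ⥤ Scheme.{u}) (c : Limits.Cone D) (hc : Limits.IsLimit c)
    [∀ (i j : I) (u : i ⟶ j), IsAffineHom (D.map u)] (i₀ : I) [CompactSpace (D.obj i₀)] [QuasiSeparatedSpace (D.obj i₀)]
    {X₀ Y₀ : Scheme.{u}} (f₀ : X₀ ⟶ Y₀) (g₀ : Y₀ ⟶ D.obj i₀)
    [LocallyOfFinitePresentation g₀] [QuasiCompact g₀] [QuasiSeparated g₀]
    [LocallyOfFinitePresentation (f₀ ≫ g₀)] [QuasiCompact (f₀ ≫ g₀)] [QuasiSeparated (f₀ ≫ g₀)]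
    (L₀ : X₀.Modules) (hL₀ : PicF.IsInvertible L₀)
    {X Y : Scheme.{u}} (f : X ⟶ Y) (g : Y ⟶ c.pt) (qY : Y ⟶ Y₀) (qX : X ⟶ X₀)
    (hY : IsPullback qY g g₀ (c.π.app i₀)) (hX : IsPullback qX f f₀ qY)
    (hgen : Epi ((Scheme.Modules.pullbackPushforwardAdjunction f).counit.app ((Scheme.Modules.pullback qX).obj L₀))) :
    ∃ (j : I) (φ : j ⟶ i₀), ∀ (k : I) (ψ : k ⟶ j) (Xk Yk : Scheme.{u}) (fk : Xk ⟶ Yk) (gk : Yk ⟶ D.obj k)
      (pY : Yk ⟶ Y₀) (pX : Xk ⟶ X₀), IsPullback pY gk g₀ (D.map (ψ ≫ φ)) → IsPullback pX fk f₀ pY →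
        Epi ((Scheme.Modules.pullbackPushforwardAdjunction fk).counit.app ((Scheme.Modules.pullback pX).obj L₀)) := by
  haveI : QuasiCompact f₀ := QuasiCompact.of_comp f₀ g₀
  haveI : QuasiSeparated f₀ := QuasiSeparated.of_comp f₀ g₀
  haveI : CompactSpace Y₀ := QuasiCompact.compactSpace_of_compactSpace g₀
  haveI : QuasiSeparatedSpace Y₀ := quasiSeparatedSpace_of_quasiSeparated g₀
  haveI : CompactSpace X₀ := QuasiCompact.compactSpace_of_compactSpace (f₀ ≫ g₀)
  haveI : QuasiSeparatedSpace X₀ := quasiSeparatedSpace_of_quasiSeparated (f₀ ≫ g₀)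
  haveI := isAffineHom_π_app D c hc i₀
  haveI : IsAffineHom qY := MorphismProperty.of_isPullback (P := @IsAffineHom) hY.flip inferInstance
  haveI : IsAffineHom qX := MorphismProperty.of_isPullback (P := @IsAffineHom) hX.flip inferInstance
  haveI : CompactSpace Y := QuasiCompact.compactSpace_of_compactSpace qY
  haveI : QuasiSeparatedSpace Y := quasiSeparatedSpace_of_quasiSeparated qY
  haveI : QuasiCompact f := MorphismProperty.of_isPullback (P := @QuasiCompact) hX inferInstance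
  haveI : QuasiSeparated f := MorphismProperty.of_isPullback (P := @QuasiSeparated) hX inferInstance
  haveI : CompactSpace X := QuasiCompact.compactSpace_of_compactSpace f
  let pc : ∀ {A B C : Scheme.{u}} (a : A ⟶ B) (b : B ⟶ C) (r : A ⟶ C), a ≫ b = r → ∀ M : C.Modules,
      (Scheme.Modules.pullback a).obj ((Scheme.Modules.pullback b).obj M) ≅ (Scheme.Modules.pullback r).obj M :=
    fun a b r h M => (Scheme.Modules.pullbackComp a b).app M ≪≫ (Scheme.Modules.pullbackCongr h).app M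
  have hqL : ∀ {T : Scheme.{u}} (t : T ⟶ X₀), Coh.IsQCoh ((Scheme.Modules.pullback t).obj L₀) := fun t =>
    GrothLib.InvExt.isQuasicoherent_of_isInvertible (GrothLib.Ample.isInvertible_pullback t hL₀)
  haveI := hqL qX
  have hft : CohB1.IsFT ((Scheme.Modules.pullback qX).obj L₀) :=
    GrothLib.LimRank8.isFT_of_isFP _ (GrothLib.LocFree8.isFP_of_isFinLocFree _
      (GrothLib.Euler.isFinLocFree_of_isInvertible (GrothLib.Ample.isInvertible_pullback qX hL₀)))
  obtain ⟨κ, hκ, W, hW, -, hcov⟩ := GrothLib.QCoh.exists_finite_affine_cover (U := (⊤ : Y.Opens))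
    (by simpa using isCompact_univ)
  obtain ⟨G, φG, hG, hφG⟩ := GrothLib.CounitLim8.exists_fp_epi_pullback f ((Scheme.Modules.pullback qX).obj L₀)
    (GrothLib.ResProp22.finSec_of_isFT hft) W hW hcov
    fun i => (Groth.Agent.S10869.result f ((Scheme.Modules.pullback qX).obj L₀) (hqL qX)).2.1 hgen (W i) (hW i)
  let hlY := GrothLib.LimDesc.isLimitCone D i₀ g₀ hY hc
  let hlX := GrothLib.LimDesc.isLimitCone D i₀ (f₀ ≫ g₀) (hX.paste_vert hY) hc
  let top : Over i₀ := Over.mk (𝟙 i₀)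
  haveI : G.IsQuasicoherent := GrothLib.FibPd.isQuasicoherent_of_isFP hG
  obtain ⟨j₁, -, G₁, hG₁q, hG₁, ⟨eG⟩⟩ := Groth.Agent.S4788.result (GrothLib.LimDesc.diag D i₀ g₀)
    (GrothLib.LimDesc.cone D i₀ g₀ hY) hlY top G hG
  haveI : G₁.IsQuasicoherent := hG₁q
  let DX := GrothLib.LimDesc.diag D i₀ (f₀ ≫ g₀)
  let cX := GrothLib.LimDesc.cone D i₀ (f₀ ≫ g₀) (hX.paste_vert hY)
  let mn := GrothLib.LimDesc.mapNat D i₀ g₀ (f₀ ≫ g₀) f₀ rfl
  have hsq : cX.π.app j₁ ≫ mn.app j₁ = f ≫ (GrothLib.LimDesc.cone D i₀ g₀ hY).π.app j₁ :=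
    (GrothLib.LimDesc.isPullback_π D i₀ g₀ (f₀ ≫ g₀) hY f₀ rfl (hX.paste_vert hY) f hX.w.symm rfl j₁).w
  let F₁ := (Scheme.Modules.pullback (mn.app j₁)).obj G₁
  let N₁ := (Scheme.Modules.pullback (Limits.pullback.fst (f₀ ≫ g₀) (D.map j₁.hom))).obj L₀
  haveI : F₁.IsQuasicoherent := GrothLib.FittSheaf.isQuasicoherent_pullback _ _
  haveI : N₁.IsQuasicoherent := hqL _
  have hF₁ : CohB1.IsFP F₁ := GrothLib.FittSheaf.isFP_pullback _ _ hG₁
  have hN₁ : CohB1.IsFT N₁ := GrothLib.LimRank8.isFT_of_isFP _ (GrothLib.LocFree8.isFP_of_isFinLocFree _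
      (GrothLib.Euler.isFinLocFree_of_isInvertible (GrothLib.Ample.isInvertible_pullback _ hL₀)))
  let eF : (Scheme.Modules.pullback (cX.π.app j₁)).obj F₁ ≅ (Scheme.Modules.pullback f).obj G :=
    pc _ _ _ hsq G₁ ≪≫ ((Scheme.Modules.pullbackComp f _).app G₁).symm ≪≫ (Scheme.Modules.pullback f).mapIso eG
  let eN : (Scheme.Modules.pullback (cX.π.app j₁)).obj N₁ ≅ (Scheme.Modules.pullback qX).obj L₀ :=
    pc _ _ _ (GrothLib.LimDesc.π_fst D i₀ (f₀ ≫ g₀) (hX.paste_vert hY) j₁) L₀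
  obtain ⟨k₁, χ, h₁, hh₁⟩ := Groth.Agent.S4811.result DX cX hlX j₁ F₁ N₁ hF₁ (eF.hom ≫ φG ≫ eN.inv)
  haveI := hφG
  haveI : Epi ((Scheme.Modules.pullback (cX.π.app k₁)).map h₁) := by
    haveI : Epi (eF.hom ≫ φG ≫ eN.inv) := inferInstance
    rw [← hh₁] at this
    rw [← epi_comp_iff_of_epi (((Scheme.Modules.pullbackComp (cX.π.app k₁) (DX.map χ) ≪≫
      Scheme.Modules.pullbackCongr (cX.w χ)).app F₁).inv)]
    have h2 : Epi ((((Scheme.Modules.pullbackComp (cX.π.app k₁) (DX.map χ) ≪≫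
      Scheme.Modules.pullbackCongr (cX.w χ)).app F₁).inv ≫ (Scheme.Modules.pullback (cX.π.app k₁)).map h₁) ≫
        ((Scheme.Modules.pullbackComp (cX.π.app k₁) (DX.map χ) ≪≫ Scheme.Modules.pullbackCongr (cX.w χ)).app N₁).hom) := by
      rw [Category.assoc]; exact this
    exact (epi_comp_iff_of_isIso _ _).1 h2
  haveI : ((Scheme.Modules.pullback (DX.map χ)).obj F₁).IsQuasicoherent := GrothLib.FittSheaf.isQuasicoherent_pullback _ _
  haveI : ((Scheme.Modules.pullback (DX.map χ)).obj N₁).IsQuasicoherent := GrothLib.FittSheaf.isQuasicoherent_pullback _ _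
  obtain ⟨l, ξ, hl⟩ := (Groth.Agent.S4793.result DX cX hlX k₁
    (GrothLib.RankStratum9.isFT_pullback _ _ hN₁) h₁).1 inferInstance
  refine ⟨l.left, l.hom, fun k ψ Xk Yk fk gk pY pX hYk hXk => ?_⟩
  let b : Yk ⟶ (GrothLib.LimDesc.diag D i₀ g₀).obj l := Limits.pullback.lift pY (gk ≫ D.map ψ)
    (by rw [Category.assoc, ← D.map_comp]; exact hYk.w)
  let a : Xk ⟶ DX.obj l := Limits.pullback.lift pX (fk ≫ gk ≫ D.map ψ)
    (by rw [reassoc_of% hXk.w, Category.assoc, Category.assoc, ← D.map_comp, hYk.w])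
  have hab : a ≫ mn.app l = fk ≫ b := by
    apply Limits.pullback.hom_ext
    · rw [Category.assoc, Category.assoc, GrothLib.LimDesc.mapNat_fst, Limits.pullback.lift_fst_assoc, Limits.pullback.lift_fst, hXk.w]
    · rw [Category.assoc, Category.assoc, GrothLib.LimDesc.mapNat_snd, Limits.pullback.lift_snd, Limits.pullback.lift_snd]
  haveI := hl
  let t := DX.map ξ ≫ DX.map χ
  have ht : (a ≫ t) ≫ mn.app j₁ = fk ≫ (b ≫ (GrothLib.LimDesc.diag D i₀ g₀).map (ξ ≫ χ)) := by
    rw [Category.assoc, ← reassoc_of% hab]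
    show a ≫ (DX.map ξ ≫ DX.map χ) ≫ _ = _
    rw [← DX.map_comp, mn.naturality]
  have ht' : (a ≫ t) ≫ Limits.pullback.fst (f₀ ≫ g₀) (D.map j₁.hom) = pX := by
    rw [Category.assoc]
    show a ≫ (DX.map ξ ≫ DX.map χ) ≫ _ = _
    rw [← DX.map_comp, GrothLib.LimDesc.map_fst, Limits.pullback.lift_fst]
  haveI : Epi ((Scheme.Modules.pullback a).map ((Scheme.Modules.pullback (DX.map ξ)).map h₁)) :=
    haveI := CategoryTheory.Functor.preservesEpimorphisms_of_adjunction (Scheme.Modules.pullbackPushforwardAdjunction a)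
    Functor.map_epi _ _
  let G₂ := (Scheme.Modules.pullback (b ≫ (GrothLib.LimDesc.diag D i₀ g₀).map (ξ ≫ χ))).obj G₁
  let ea : (Scheme.Modules.pullback fk).obj G₂ ≅
      (Scheme.Modules.pullback a).obj ((Scheme.Modules.pullback (DX.map ξ)).obj ((Scheme.Modules.pullback (DX.map χ)).obj F₁)) :=
    pc _ _ _ rfl G₁ ≪≫ (pc (a ≫ t) (mn.app j₁) _ ht G₁).symm ≪≫
      (pc a t _ rfl F₁).symm ≪≫ (Scheme.Modules.pullback a).mapIso (pc (DX.map ξ) (DX.map χ) t rfl F₁).symm
  let eb : (Scheme.Modules.pullback a).obj ((Scheme.Modules.pullback (DX.map ξ)).obj ((Scheme.Modules.pullback (DX.map χ)).obj N₁)) ≅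
      (Scheme.Modules.pullback pX).obj L₀ :=
    (Scheme.Modules.pullback a).mapIso (pc (DX.map ξ) (DX.map χ) t rfl N₁) ≪≫ pc a t _ rfl N₁ ≪≫ pc (a ≫ t) _ pX ht' L₀
  haveI : QuasiCompact fk := MorphismProperty.of_isPullback (P := @QuasiCompact) hXk inferInstance
  haveI : QuasiSeparated fk := MorphismProperty.of_isPullback (P := @QuasiSeparated) hXk inferInstance
  exact (Groth.Agent.S10869.result fk ((Scheme.Modules.pullback pX).obj L₀) (hqL pX)).1.2
    ⟨G₂, GrothLib.FittSheaf.isQuasicoherent_pullback _ _,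
      ea.hom ≫ (Scheme.Modules.pullback a).map ((Scheme.Modules.pullback (DX.map ξ)).map h₁) ≫ eb.hom, inferInstance⟩

end Groth.Agent.S17426
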