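import Groth.Statements.S1743
import Groth.Agent.Lib.Faltings.Finite

set_option autoImplicit false
universe u
open LocCoh

namespace Groth.Agent.S1743

/-- Let A be a Noetherian ring, J ⊆ I ideals and i ≥ 0. If H^i_I(A) is annihilated by J^n for some n,
then for every finite A-module M such that M_f is a projective A_f-module for every f in I, the
module H^i_I(M) is annihilated by J^m for some m. (The source allows any ring with finitely
generated ideals and finitely presented M.) -/
theorem result (A : Type u) [CommRing A] [IsNoetherianRing A] (J I : Ideal A) (hJI : J ≤ I) (i n : ℕ) (hA : ∀ a ∈ J ^ n, ∀ x : LocCoh.H I i A, a • x = 0) (M : Type u) [AddCommGroup M] [Module A M] [Module.Finite A M] (hM : ∀ f ∈ I, Module.Projective (Localization.Away f) (LocalizedModule (Submonoid.powers f) M)) : ∃ m : ℕ, ∀ a ∈ J ^ m, ∀ x : LocCoh.H I i M, a • x = 0 := by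
  suffices hle : J ≤ (Module.annihilator A (LocCoh.H I i M)).radical by
    obtain ⟨m, hm⟩ := Ideal.exists_pow_le_of_le_radical_of_fg hle (IsNoetherian.noetherian _)
    exact ⟨m, fun a ha => Module.mem_annihilator.1 (hm ha)⟩
  intro f hf
  obtain ⟨r, π, hπ⟩ := Module.Finite.exists_fin' A M
  haveI : Module.Projective (Localization (Submonoid.powers f)) (LocalizedModule (Submonoid.powers f) M) :=
    hM f (hJI hf)
  obtain ⟨s, g, hs, hfg⟩ := GrothLib.Faltings.exists_factor (Submonoid.powers f) π hπ
  obtain ⟨N, rfl⟩ := hs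
  obtain ⟨k, hk⟩ := GrothLib.Faltings.killed_pi (r := r)
    (show GrothLib.Faltings.Killed I f i A from ⟨n, hA _ (Ideal.pow_mem_pow hf n)⟩)
  refine ⟨k + N, Module.mem_annihilator.2 fun z => ?_⟩
  rw [pow_add, mul_smul, ← GrothLib.Faltings.map_smul_id i (f ^ N) z,
    show f ^ N • CategoryTheory.CategoryStruct.id (ModuleCat.of A M) =
      CategoryTheory.CategoryStruct.comp (ModuleCat.ofHom g) (ModuleCat.ofHom π) from ModuleCat.hom_ext hfg.symm,
    GrothLib.LC.map_comp_apply, ← map_smul]
  exact (congrArg _ (hk _)).trans (map_zero _)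

end Groth.Agent.S1743
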