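import Groth.Statements.S17431
import Groth.Agent.Lib.AdjVar13.Stable
-- import your own Groth.Agent.* helpers here

set_option autoImplicit false
universe u v w
open LieAlgebra LieModule
open AdjVar

namespace Groth.Agent.S17431

open GrothLib.AdjVar13


/-- Let L be a finite-dimensional simple Lie algebra over an algebraically closed field K of
characteristic zero, H a Cartan subalgebra and b a basis of (L, H) in Mathlib's sense (Chevalley
generators h_i, e_i, f_i indexed by a finite type, with simple roots α_i = b.baseSupp i and upper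
Borel subalgebra 𝔟 = H + the Lie subalgebra generated by the e_i). Let ρ be the highest root: a root
of H on L whose root space is nonzero and such that no ρ + α_i is a root (the root space of ρ + α_i
is zero for every i). Assume that exactly one simple root α_j is not orthogonal to ρ (ρ(h_i) ≠ 0 if
and only if i = j) and that ρ(h_j) = 1; for simple L these two conditions say precisely that L is
not of type A_r or C_r (r ≥ 1), the case excluded in the source. Then every three-dimensional linear
subspace W of L that is stable under 𝔟 contains the sum of the root spaces of ρ and ρ − α_j, and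
there is a simple root α_i adjacent to α_j in the Dynkin diagram (i ≠ j and the matrix entry A i j
of b is nonzero) such that W is the sum of the root spaces of ρ, ρ − α_j and ρ − α_j − α_i. In the
source's words: every Borel-stable plane of P(L) contains the Borel-stable line and is spanned by
root vectors of ρ, ρ − α_j, ρ − α_j − β for a neighbour β of α_j (stability under the connected
Borel subgroup being the same as stability under 𝔟). -/
theorem result {ι : Type u} {K : Type v} {L : Type w} [Fintype ι] [Field K] [CharZero K]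
    [IsAlgClosed K] [LieRing L] [LieAlgebra K L] [FiniteDimensional K L] [LieAlgebra.IsSimple K L]
    (H : LieSubalgebra K L) [H.IsCartanSubalgebra] (b : LieAlgebra.Basis ι H)
    (ρ : Module.Dual K H) (hρ : rootSpace H ρ ≠ ⊥) (htop : ∀ i, rootSpace H (ρ + b.baseSupp i) = ⊥)
    (j : ι) (hN : ∀ i, ρ (b.h' i) ≠ 0 ↔ i = j) (hj : ρ (b.h' j) = 1)
    (W : Submodule K L) (hW : Module.finrank K W = 3)
    (hst : ∀ x ∈ H.toSubmodule ⊔ (b.borelUpper : Submodule K L), ∀ w ∈ W, ⁅x, w⁆ ∈ W) :
    (rootSpace H ρ : Submodule K L) ⊔ (rootSpace H (ρ - b.baseSupp j) : Submodule K L) ≤ W ∧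
      ∃ i : ι, i ≠ j ∧ b.A i j ≠ 0 ∧
        W = (rootSpace H ρ : Submodule K L) ⊔ (rootSpace H (ρ - b.baseSupp j) : Submodule K L) ⊔
          (rootSpace H (ρ - b.baseSupp j - b.baseSupp i) : Submodule K L) := by
  obtain ⟨v, hv, hv0⟩ := exists_top_vector ρ hρ
  refine ⟨line_le b ρ hρ htop j hN hj hv hv0 W hst (by omega), ?_⟩
  obtain ⟨i, x, hij, hx, hx0, -, hWeq⟩ := plane_data b ρ hρ htop j hN hj hv hv0 W hst hW
  refine ⟨i, hij, (three_data b ρ hρ htop j hN hj hv hv0 hij hx hx0).1, ?_⟩
  show W = R H ρ ⊔ R H (ρ - b.baseSupp j) ⊔ R H (ρ - b.baseSupp j - b.baseSupp i)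
  rw [R_top b ρ htop hv hv0, R_sub_eq b ρ hρ htop j hN hj hv hv0]
  refine hWeq.trans (congrArg _ (le_antisymm ((Submodule.span_singleton_le_iff_mem _ _).2 hx) fun y hy => ?_))
  obtain ⟨c, hc⟩ := Submodule.mem_span_singleton.1 (R_three_le b ρ hρ htop j hN hv hv0 hij hx)
  obtain ⟨d, rfl⟩ := Submodule.mem_span_singleton.1 (R_three_le b ρ hρ htop j hN hv hv0 hij hy)
  have hc0 : c ≠ 0 := fun h => hx0 (by rw [← hc, h, zero_smul])
  refine Submodule.mem_span_singleton.2 ⟨d / c, ?_⟩
  rw [← hc, smul_smul, div_mul_cancel₀ d hc0]

end Groth.Agent.S17431
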