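import Groth.Statements.S17438
import Groth.Agent.Lib.DefoExt26.HomShSeq

set_option autoImplicit false
universe u
open CategoryTheory AlgebraicGeometry
open DefoSh

namespace Groth.Agent.S17438

/-- Let k be a field, X a scheme over k, U₀ and U₁ two affine opens covering X, and E an O_X-module free
of the same finite rank n on U₀ and on U₁ (a vector bundle given by one transition matrix). Then the
isomorphism classes of deformations of E over the dual numbers k[ε] (O_X-modules with a k[ε]-action,
flat stalkwise, with reduction identified with E) are in bijection with the first Čech cohomology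
group of the cover (U₀, U₁) with coefficients in the sheaf End(E), by a bijection taking the class
of the trivial deformation E ⊕ εE to 0 (existence of such a bijection only: the cocycle attached to
a deformation depends on chosen trivializations over U₀ and U₁). The assertion on deformations with
fixed determinant is not stated. The published statement is for a curve and uses the sheaf
cohomology H¹(C, End(E)); this row takes any scheme over k covered by two affine opens on which E is
free, as the printed proof uses, and the Čech cohomology of that cover. -/
theorem result (k : Type u) [Field k] (X : Scheme.{u})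
    [X.Over (Spec (CommRingCat.of k))] (U : ULift.{u} (Fin 2) → X.Opens)
    (hU : ∀ i, IsAffineOpen (U i)) (hcov : ⨆ i, U i = ⊤) (E : X.Modules) (n : ℕ)
    (hfree : ∀ i, Nonempty (E.restrict (U i).ι ≅ FlatMod.freeMod ↑(U i) n)) :
    ∃ e : DefoSh.FirstOrder k E ≃ ↑(CohB1.cechH U (RefHull.homSh E E) 1),
      e (DefoSh.Defo.trivDual k E).cl = 0 := by
  haveI : EnoughInjectives X.Modules := GrothLib.SheafCoh.enoughInjectives_sheafOfModules X.ringCatSheaf
  haveI : HasExt.{u} X.Modules := CategoryTheory.hasExt_of_enoughInjectives X.Modules
  have hframe : ∀ i, ∃ e : Fin n → Γ(E, U i), GrothLib.FinCov.IsFrame E (U i) e := fun i => by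
    obtain ⟨φ⟩ := hfree i
    have h := GrothLib.FinCov.exists_frame_of_iso φ
    rwa [Scheme.Opens.ι_image_top] at h
  have hlf : FlatMod.IsFinLocFree E := fun x => by
    obtain ⟨i, hi⟩ := TopologicalSpace.Opens.mem_iSup.1 (hcov.ge (TopologicalSpace.Opens.mem_top x))
    exact ⟨U i, n, hi, hfree i⟩
  haveI := GrothLib.Euler.isQuasicoherent_of_isFinLocFree hlf
  obtain ⟨e⟩ := GrothLib.DefoExt26.exists_ext_equiv U hU hcov hframe
  refine ⟨(Equiv.ofBijective _ (GrothLib.DefoExt26.bijective_clsMap (k := k) (E := E))).trans e.toEquiv, ?_⟩
  show e (GrothLib.DefoExt26.clsMap k E (DefoSh.Defo.trivDual k E).cl) = 0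
  rw [GrothLib.DefoExt26.clsMap_trivDual]
  exact map_zero e

end Groth.Agent.S17438
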