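import Groth.Statements.S1744
import Groth.Agent.Lib.ExtUniv.Basic
import Groth.Agent.Lib.LC.Basic

set_option autoImplicit false
universe u
open CategoryTheory
attribute [local instance] HasDerivedCategory.standard
open LocCoh

namespace Groth.Agent.S1744

/-- Let I be an ideal of a Noetherian ring A and e a natural number with cd(A, I) ≤ e. For every n ≥ 1
there is m > n such that for every A-module N and every i > e, precomposing with A/I^m → A/I^n kills
every map A/I^n → N[i] in D(A), i.e. the transition maps annihilate Ext^i_A(A/I^n, N) for i > e. -/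
theorem result (A : Type u) [CommRing A] [IsNoetherianRing A] (I : Ideal A) (e : ℕ) (he : LocCoh.CdLE A I e) (n : ℕ) (hn : 1 ≤ n) : ∃ (m : ℕ) (hm : n < m), ∀ (N : Type u) [AddCommGroup N] [Module A N] (i : ℕ), e < i → ∀ φ : Dual.inD A (A ⧸ I ^ n) ⟶ (Dual.inD A N)⟦(i : ℤ)⟧, (DerivedCategory.singleFunctor (ModuleCat.{u} A) 0).map (ModuleCat.ofHom (Submodule.mapQ (I ^ m) (I ^ n) LinearMap.id (Ideal.pow_le_pow_right (Nat.le_of_lt hm)))) ≫ φ = 0 := by
    letI := HasDerivedCategory.standard (ModuleCat.{u} A)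
    obtain ⟨Z, ξ, hξ⟩ := GrothLib.ExtUniv.exists_universal (C := ModuleCat.{u} A) (e + 1) (GrothLib.LC.quotPow I n)
    obtain ⟨m₀, hm₀, h0⟩ := (GrothLib.LC.toH_eq_zero_iff I ξ).1 ((he Z (e + 1) (Nat.lt_succ_self e)).elim _ 0)
    have hle : n ≤ max m₀ (n + 1) := hm₀.trans (le_max_left _ _)
    refine ⟨max m₀ (n + 1), lt_of_lt_of_le (Nat.lt_succ_self n) (le_max_right _ _), ?_⟩
    intro N _ _ i hi φ
    obtain ⟨k, rfl⟩ : ∃ k, i = e + 1 + k := ⟨i - (e + 1), by omega⟩
    obtain ⟨x, rfl⟩ : ∃ x : Abelian.Ext (GrothLib.LC.quotPow I n) (ModuleCat.of A N) (e + 1 + k), x.hom = φ :=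
      ⟨Abelian.Ext.homEquiv.symm φ, Abelian.Ext.homEquiv.apply_symm_apply φ⟩
    obtain ⟨η, rfl⟩ := hξ _ k _ rfl x
    have h1 : (Abelian.Ext.mk₀ (GrothLib.LC.quotMap I hle)).comp ξ (zero_add _) = 0 := by
      rw [show GrothLib.LC.quotMap I hle = GrothLib.LC.quotMap I (le_max_left m₀ (n + 1)) ≫ GrothLib.LC.quotMap I hm₀
        from (GrothLib.LC.quotMap_comp I hm₀ (le_max_left m₀ (n + 1))).symm, ← Abelian.Ext.mk₀_comp_mk₀,
        Abelian.Ext.comp_assoc_of_second_deg_zero, h0, Abelian.Ext.comp_zero]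
    have h2 : (Abelian.Ext.mk₀ (GrothLib.LC.quotMap I hle)).comp (ξ.comp η rfl) (zero_add _) = 0 := by
      rw [← Abelian.Ext.comp_assoc _ _ _ (zero_add (e + 1)) rfl (by omega), h1, Abelian.Ext.zero_comp]
    exact (Abelian.Ext.singleFunctor_map_comp_hom (GrothLib.LC.quotMap I hle) _).trans
      ((congrArg Abelian.Ext.hom h2).trans (Abelian.Ext.zero_hom _ _ _))

end Groth.Agent.S1744
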