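import Groth.Statements.S17440
import Groth.Agent.Lib.DefoExt26.LocTriv

set_option autoImplicit false
universe u
open CategoryTheory AlgebraicGeometry
open DefoSh

namespace Groth.Agent.S17440

/-- Let k be a field, X a scheme over k, E a finite locally free O_X-module and D a first-order
deformation of E, with reduction π : D.sheaf → E. Then D is locally trivial: every point of X has an
open neighbourhood U together with an isomorphism of O_U-modules between the restrictions to U of
D.sheaf and of E ⊕ εE which commutes with the actions of k[ε] and with the reductions to E. In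
particular the deformed module is again a vector bundle over the dual numbers. -/
theorem result (k : Type u) [Field k] (X : Scheme.{u})
    [X.Over (Spec (CommRingCat.of k))] (E : X.Modules) (hE : FlatMod.IsFinLocFree E)
    (D : DefoSh.Defo E (ArtFun.Art.dual k k)) (x : X) :
    ∃ (U : X.Opens) (e : D.sheaf.restrict U.ι ≅ (DefoSh.Defo.trivDual k E).sheaf.restrict U.ι), x ∈ U ∧
      e.hom ≫ (Scheme.Modules.restrictFunctor U.ι).map (DefoSh.Defo.trivDual k E).π =
        (Scheme.Modules.restrictFunctor U.ι).map D.π ∧
      ∀ a : ArtFun.Art.dual k k, (Scheme.Modules.restrictFunctor U.ι).map (D.act a) ≫ e.hom =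
        e.hom ≫ (Scheme.Modules.restrictFunctor U.ι).map ((DefoSh.Defo.trivDual k E).act a) := by
  exact GrothLib.DefoExt26.exists_iso_trivDual hE D x

end Groth.Agent.S17440
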