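import Groth.Statements.S17441
import Groth.Agent.Lib.Ref1.IsoCriterion
import Groth.Agent.Lib.Flatness.InjMod
import Mathlib

set_option autoImplicit false
universe u
open CategoryTheory AlgebraicGeometry
open DefoSh

namespace Groth.Agent.S17441

/-- Let k be a field, X a scheme over k, E an O_X-module and A a local Artinian k-algebra with residue
field k. If D and D′ are deformations of E over A (O_X-modules with an action of A, flat over A
stalkwise, with reductions π, π′ to E whose stalkwise kernels are m_A times the stalk), then every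
O_X-linear map φ : D.sheaf → D′.sheaf that commutes with the actions of A and satisfies φ ≫ π′ = π
is an isomorphism. The printed remark is the first-order case A = k[ε]; this row states it for every
local Artinian k-algebra A with residue field k. -/
theorem result (k : Type u) [Field k] (X : Scheme.{u})
    [X.Over (Spec (CommRingCat.of k))] (E : X.Modules) (A : ArtFun.Art k k)
    (D D' : DefoSh.Defo E A) (φ : D.sheaf ⟶ D'.sheaf)
    (hact : ∀ a : A, D.act a ≫ φ = φ ≫ D'.act a) (hπ : φ ≫ D'.π = D.π) :
    IsIso φ := by
  rw [GrothLib.OX.isIso_iff]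
  intro x
  rw [ConcreteCategory.isIso_iff_bijective]
  letI := DefoSh.stalkModule D.sheaf D.act.toRingHom x
  letI := DefoSh.stalkModule D'.sheaf D'.act.toRingHom x
  haveI : Module.Flat A ↑(D'.sheaf.presheaf.stalk x) := D'.flat x
  let u : ↑(D.sheaf.presheaf.stalk x) →ₗ[A] ↑(D'.sheaf.presheaf.stalk x) :=
    { toFun := RefHull.stalkMapₗ φ x
      map_add' := map_add _
      map_smul' := fun a v => by
        show RefHull.stalkMapₗ φ x (RefHull.stalkMapₗ (D.act a) x v) =
          RefHull.stalkMapₗ (D'.act a) x (RefHull.stalkMapₗ φ x v)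
        rw [← DefoSh.stalkMapₗ_comp_apply, ← DefoSh.stalkMapₗ_comp_apply, hact] }
  have hu : ∀ v, RefHull.stalkMapₗ D'.π x (u v) = RefHull.stalkMapₗ D.π x v := fun v => by
    show RefHull.stalkMapₗ D'.π x (RefHull.stalkMapₗ φ x v) = _
    rw [← DefoSh.stalkMapₗ_comp_apply, hπ]
  set m := IsLocalRing.maximalIdeal A with hmdef
  have hm : IsNilpotent m := by
    rw [hmdef, ← IsLocalRing.jacobson_eq_maximalIdeal ⊥ bot_ne_top]
    exact IsArtinianRing.isNilpotent_jacobson_bot
  obtain ⟨N, hN⟩ := hm
  have hsurj : Function.Surjective u := by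
    have h : ∀ n, (⊤ : Submodule A ↑(D'.sheaf.presheaf.stalk x)) ≤ LinearMap.range u ⊔ m ^ n • ⊤ := by
      intro n
      induction n with
      | zero => rw [pow_zero, Ideal.one_eq_top, Submodule.top_smul]; exact le_sup_right
      | succ n ih =>
        have h1 : (⊤ : Submodule A ↑(D'.sheaf.presheaf.stalk x)) ≤ LinearMap.range u ⊔ m • ⊤ := fun w _ => by
          obtain ⟨v, hv⟩ := D.surj x (RefHull.stalkMapₗ D'.π x w)
          have h2 : w - u v ∈ m • (⊤ : Submodule A ↑(D'.sheaf.presheaf.stalk x)) :=
            D'.ker_le x _ (by rw [map_sub, hu, hv, sub_self])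
          simpa using Submodule.add_mem_sup (LinearMap.mem_range_self u v) h2
        refine ih.trans (sup_le le_sup_left ?_)
        refine le_trans (Submodule.smul_mono le_rfl h1) ?_
        rw [Submodule.smul_sup, pow_succ, Submodule.mul_smul]
        exact sup_le_sup Submodule.smul_le_right le_rfl
    intro w
    have h3 := h N Submodule.mem_top (x := w)
    rw [hN, show (0 : Ideal A) = ⊥ from rfl, Submodule.bot_smul, sup_bot_eq] at h3
    exact h3
  have hinj : Function.Injective u := by
    rw [← LinearMap.ker_eq_bot, eq_bot_iff]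
    set K := LinearMap.ker u
    have h1 : Function.Injective (K.subtype.lTensor (A ⧸ m)) :=
      LinearMap.lTensor_injective_of_exact_of_flat u hsurj K.subtype K.injective_subtype
        (LinearMap.exact_subtype_ker_map u) _
    have h2 : K ≤ m • K := fun v hv => by
      have h3 : v ∈ m • (⊤ : Submodule A ↑(D.sheaf.presheaf.stalk x)) := D.ker_le x v (by
        rw [← hu, LinearMap.mem_ker.1 hv, map_zero])
      have h4 : (⟨v, hv⟩ : K) ∈ m • (⊤ : Submodule A K) := by
        rw [← GrothLib.Flatness.one_tmul_eq_zero_iff]
        refine h1 ?_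
        rw [map_zero, LinearMap.lTensor_tmul, GrothLib.Flatness.one_tmul_eq_zero_iff]
        exact h3
      have h5 := Submodule.mem_map_of_mem (f := K.subtype) h4
      rwa [Submodule.map_smul'', Submodule.map_subtype_top] at h5
    have h : ∀ n, K ≤ m ^ n • K := by
      intro n
      induction n with
      | zero => rw [pow_zero, Ideal.one_eq_top, Submodule.top_smul]
      | succ n ih =>
        refine ih.trans ((Submodule.smul_mono le_rfl h2).trans ?_)
        rw [pow_succ, Submodule.mul_smul]
    refine (h N).trans ?_
    rw [hN, show (0 : Ideal A) = ⊥ from rfl, Submodule.bot_smul]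
  refine Eq.mpr (congrArg Function.Bijective (funext fun v => ?_)) (⟨hinj, hsurj⟩ : Function.Bijective u)
  obtain ⟨U, hU, s, rfl⟩ := TopCat.Presheaf.exists_germ_eq D.sheaf.presheaf v
  exact (GrothLib.QCoh.stalkLin_germ φ hU s).trans (RefHull.stalkMapₗ_germ φ x hU s).symm

end Groth.Agent.S17441
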