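import Groth.Statements.S17443
-- import your own Groth.Agent.* helpers here
import Groth.Agent.Lib.Poincare.Dual
import Groth.Agent.Lib.Rigidity.SmoothGroup

set_option autoImplicit false
universe u
open CategoryTheory CategoryTheory.Limits MonoidalCategory CartesianMonoidalCategory MonObj GrpObj AlgebraicGeometry
open AbVar

namespace Groth.Agent.S17443

/-- Let k be a field, A an abelian variety over k (a proper smooth k-group scheme with geometrically
connected fibres), (A^t, φ) a given dual abelian variety of A for the fppf topology with A^t itself
an abelian variety, and P an invertible module on A ×_k A^t whose class is a Poincaré class (it lies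
in Pic⁰ fibrewise over A^t, corresponds to the identity of A^t under φ, and is rigidified along the
unit section of A). Write [-1] for the inverse of the identity in the group of endomorphisms of A,
resp. of A^t (the inversion). Then the pull back of P along id_A × [-1] and the pull back of P along
[-1] × id_{A^t} are both inverse to P: their tensor products with P have the class of the structure
sheaf. (This is the case n = -1 of the published statement, which asserts (id_A × [n])^*P ≅ P^{⊗n} ≅
([n] × id_{A^t})^*P for every integer n; together with the case n ≥ 0 it yields every integer n.) -/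
theorem result (k : Type u) [Field k]
    (A At : Over (Spec (CommRingCat.of k))) [GrpObj A] [IsProper A.hom] [Smooth A.hom] [GeometricallyConnected A.hom]
    [GrpObj At] [IsProper At.hom] [Smooth At.hom] [GeometricallyConnected At.hom]
    (φ : ∀ T : Over (Spec (CommRingCat.of k)), PicF.Cl (PicF.XT A.hom T) → (T ⟶ At))
    (hφ : AbDual.IsDualAV Scheme.fppfPrecoverage A At φ)
    (P : (PicF.XT A.hom At).Modules) (hP : PicF.IsInvertible P)
    (hξ : AbDual.IsPoincareCl A At φ (PicF.cl P)) :
    PicF.IsTrivialCl (PicF.cl (CohB1.tensorMod ((Scheme.Modules.pullback (PicF.XTmap A.hom (𝟙 At)⁻¹)).obj P) P)) ∧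
      PicF.IsTrivialCl (PicF.cl (CohB1.tensorMod ((Scheme.Modules.pullback (AbDual.bcMap (𝟙 A)⁻¹ At)).obj P) P)) := by
  haveI : GeometricallyIntegral A.hom := GrothLib.Rigidity.geometricallyIntegral_of_smooth A
  haveI : GeometricallyIntegral At.hom := GrothLib.Rigidity.geometricallyIntegral_of_smooth At
  have hx := GrothLib.Cube.hasCls_clsMod hP
  have hb := GrothLib.Dual.isBirigid_of_isPoincareCl hφ hx hξ
  rw [GrothLib.Dual.XTmap_eq, GrothLib.Dual.bcMap_eq]
  constructor
  · refine GrothLib.Dual.cl_eq ((hx.pullback _).tensor hx) ?_
    rw [(GrothLib.KL.pull_inv hb).1, inv_mul_cancel]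
    exact GrothLib.Cube.hasCls_structureModule _
  · refine GrothLib.Dual.cl_eq ((hx.pullback _).tensor hx) ?_
    rw [(GrothLib.KL.pull_inv hb).2, inv_mul_cancel]
    exact GrothLib.Cube.hasCls_structureModule _

end Groth.Agent.S17443
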