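import Groth.Statements.S17444
-- import your own Groth.Agent.* helpers here

set_option autoImplicit false
universe u v
open SSRed

namespace Groth.Agent.S17444

theorem fixed_of_pow_fixed {K : Type*} {V : Type*} [Field K] [CharZero K] [AddCommGroup V] [Module K V]
    (g : Module.End K V) (n : ℕ) (hn : 0 < n) :
    ∀ (k : ℕ) (v : V), ((g - 1) ^ k) v = 0 → (g ^ n) v = v → (g - 1) v = 0 := by
  intro k
  induction k with
  | zero => intro v hv _; simp [show v = 0 by simpa using hv]
  | succ k ih =>
    intro v hk hfix
    rw [pow_succ, Module.End.mul_apply] at hk
    set u := (g - 1) v with hu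
    have hgu : (g ^ n) u = u := by
      rw [hu, ← Module.End.mul_apply, ((Commute.refl g).pow_left n |>.sub_right (Commute.one_right _)).eq,
        Module.End.mul_apply, hfix]
    have h0 := ih u hk hgu
    have hgu1 : g u = u := by simpa [sub_eq_zero] using h0
    have hiter : ∀ i : ℕ, (g ^ i) v = v + (i : K) • u := by
      intro i
      induction i with
      | zero => simp
      | succ i ih' =>
        rw [pow_succ', Module.End.mul_apply, ih', map_add, map_smul, hgu1]
        have : g v = v + u := by simp [hu]
        rw [this]; push_cast; module
    have := hiter n
    rw [hfix, left_eq_add, smul_eq_zero] at this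
    exact this.resolve_left (by exact_mod_cast hn.ne')


/-- Let K be a field of characteristic zero, V a K-vector space and g a K-linear endomorphism of V such
that g - 1 is nilpotent (a unipotent automorphism). Then for every integer n > 0 the endomorphisms
gⁿ - 1 and g - 1 have the same kernel: a vector fixed by gⁿ is fixed by g. (The published statement
assumes V finite-dimensional; this row allows any V.) -/
theorem result (K : Type u) (V : Type v) [Field K] [CharZero K]
    [AddCommGroup V] [Module K V] (g : Module.End K V) (hg : IsNilpotent (g - 1)) (n : ℕ) (hn : 0 < n) :
    LinearMap.ker (g ^ n - 1) = LinearMap.ker (g - 1) := by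
  ext v
  simp only [LinearMap.mem_ker]
  constructor
  · intro h
    obtain ⟨N, hN⟩ := hg
    exact fixed_of_pow_fixed g n hn N v (by simp [hN]) (by simpa [sub_eq_zero] using h)
  · intro h
    rw [← geom_sum_mul g n, Module.End.mul_apply, h, map_zero]

end Groth.Agent.S17444
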