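import Groth.Statements.S17445
-- import your own Groth.Agent.* helpers here
import Mathlib

set_option autoImplicit false
open Finset
open SSRed

namespace Groth.Agent.S17445

/-- For natural numbers g and B with B ≥ 2g + 1, a natural number d divides ∏_{a=1}^{g} (ℓ^{2a} - 1) for
every prime ℓ > B if and only if d divides N(g) = 2^{3g + v₂(g!)} · ∏_{3 ≤ p ≤ 2g+1, p prime}
p^{[2g/(p-1)] + Σ_{1 ≤ i ≤ [2g/(p-1)]} v_p(i)}. In words: N(g) is the greatest common divisor of
these products as ℓ runs through the primes beyond any bound that is at least 2g + 1; its prime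
factors are the primes p ≤ 2g + 1. (This is the number N(g) of the published result, which bounds
the degree of the field of semistable reduction of a g-dimensional abelian variety over a strictly
henselian discretely valued field; the printed phrase is the greatest common divisor over all large
primes, made precise here by the bound 2g + 1, below which a prime ℓ ≤ 2g + 1 divides N(g) but not
its own product.) -/
theorem result (g B d : ℕ) (hB : 2 * g + 1 ≤ B) :
    (∀ ℓ : ℕ, ℓ.Prime → B < ℓ → d ∣ ∏ a ∈ Icc 1 g, (ℓ ^ (2 * a) - 1)) ↔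
      d ∣ 2 ^ (3 * g + padicValNat 2 g.factorial) *
        ∏ p ∈ (Icc 3 (2 * g + 1)).filter Nat.Prime,
          p ^ ((2 * g) / (p - 1) + ∑ i ∈ Icc 1 ((2 * g) / (p - 1)), padicValNat p i) := by
  classical
  have hv : ∀ (q : ℕ) [Fact q.Prime] (s : Finset ℕ) (f : ℕ → ℕ), (∀ a ∈ s, f a ≠ 0) → padicValNat q (∏ a ∈ s, f a) = ∑ a ∈ s, padicValNat q (f a) := by
    intro q _ s f hf
    induction s using Finset.induction with
    | empty => simp
    | insert a s ha ih =>
      rw [Finset.prod_insert ha, Finset.sum_insert ha, padicValNat.mul (hf a (Finset.mem_insert_self a s))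
        (Finset.prod_ne_zero_iff.mpr fun b hb => hf b (Finset.mem_insert_of_mem hb)), ih fun b hb => hf b (Finset.mem_insert_of_mem hb)]
  have hne : ∀ ℓ : ℕ, 1 < ℓ → ∀ a ∈ Icc 1 g, ℓ ^ (2 * a) - 1 ≠ 0 := fun ℓ hℓ a ha => by
    have := Nat.one_lt_pow (show 2 * a ≠ 0 by simp at ha; omega) hℓ
    omega
  -- the two-part
  have h2 : ∀ ℓ : ℕ, ℓ.Prime → 2 < ℓ → padicValNat 2 (∏ a ∈ Icc 1 g, (ℓ ^ (2 * a) - 1)) =
      g * (padicValNat 2 (ℓ + 1) + padicValNat 2 (ℓ - 1)) + padicValNat 2 g.factorial := by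
    intro ℓ hℓ h2ℓ
    have : Fact (Nat.Prime 2) := ⟨Nat.prime_two⟩
    rw [hv 2 _ _ (hne ℓ hℓ.one_lt), ← Finset.prod_Ico_id_eq_factorial, show Ico 1 (g + 1) = Icc 1 g from Finset.ext fun x => by simp, hv 2 _ _ (fun a ha => by simp at ha; omega)]
    have hodd : ¬ 2 ∣ ℓ := fun h => by
      rcases hℓ.eq_one_or_self_of_dvd 2 h with h | h <;> omega
    have hterm : ∀ a ∈ Icc 1 g, padicValNat 2 (ℓ ^ (2 * a) - 1) = padicValNat 2 (ℓ + 1) + padicValNat 2 (ℓ - 1) + padicValNat 2 a := fun a ha => by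
      have := padicValNat.pow_two_sub_one hℓ.one_lt hodd (show 2 * a ≠ 0 by simp at ha; omega) (even_two_mul a)
      rw [padicValNat.mul two_ne_zero (by simp at ha; omega), padicValNat.self one_lt_two] at this
      omega
    rw [Finset.sum_congr rfl hterm, Finset.sum_add_distrib, Finset.sum_const, Nat.card_Icc, smul_eq_mul, Nat.add_sub_cancel]
  have h2low : ∀ ℓ : ℕ, ℓ.Prime → 2 < ℓ → 3 ≤ padicValNat 2 (ℓ + 1) + padicValNat 2 (ℓ - 1) := by
    intro ℓ hℓ h2ℓ
    have : Fact (Nat.Prime 2) := ⟨Nat.prime_two⟩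
    rw [← padicValNat.mul (by omega) (by omega)]
    refine (padicValNat_dvd_iff_le (mul_ne_zero (by omega) (by omega))).mp ?_
    have hodd : ℓ % 2 = 1 := (hℓ.eq_two_or_odd).resolve_left (by omega)
    obtain ⟨m, rfl⟩ : ∃ m, ℓ = 2 * m + 1 := ⟨ℓ / 2, by omega⟩
    obtain ⟨c, hc⟩ := (Nat.even_mul_succ_self m).two_dvd
    refine ⟨c, ?_⟩
    rw [show 2 * m + 1 - 1 = 2 * m by omega]
    linear_combination 4 * hc
  -- odd primes
  have hodd : ∀ q ℓ : ℕ, q.Prime → 2 < q → ℓ.Prime → q ≠ ℓ →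
      ((2 * g) / (q - 1) + ∑ i ∈ Icc 1 ((2 * g) / (q - 1)), padicValNat q i ≤ padicValNat q (∏ a ∈ Icc 1 g, (ℓ ^ (2 * a) - 1))) ∧
      ((∀ n : ℕ, q ∣ ℓ ^ n - 1 → (q - 1) ∣ n) → ¬ q ^ 2 ∣ ℓ ^ (q - 1) - 1 →
        padicValNat q (∏ a ∈ Icc 1 g, (ℓ ^ (2 * a) - 1)) = (2 * g) / (q - 1) + ∑ i ∈ Icc 1 ((2 * g) / (q - 1)), padicValNat q i) := by
    intro q ℓ hq h2q hℓ hne'
    have : Fact q.Prime := ⟨hq⟩
    have hqodd : q % 2 = 1 := (hq.eq_two_or_odd).resolve_left (by omega)
    obtain ⟨m, hm⟩ : ∃ m, q - 1 = 2 * m := ⟨(q - 1) / 2, by omega⟩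
    have hm0 : 0 < m := by omega
    have hM : (2 * g) / (q - 1) = g / m := by rw [hm, Nat.mul_div_mul_left _ _ two_pos]
    set M := (2 * g) / (q - 1) with hMdef
    have hd1 : q ∣ ℓ ^ (q - 1) - 1 := by
      have h1 : ℓ ^ (q - 1) ≡ 1 [MOD q] := by
        rw [← Nat.totient_prime hq]; exact Nat.ModEq.pow_totient ((Nat.coprime_primes hℓ hq).mpr hne'.symm)
      exact (Nat.modEq_iff_dvd' (Nat.one_le_pow _ _ hℓ.pos)).mp h1.symm
    have hne1 : ℓ ^ (q - 1) - 1 ≠ 0 := by
      have := Nat.one_lt_pow (show q - 1 ≠ 0 by omega) hℓ.one_lt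
      omega
    have hterm : ∀ i ∈ Icc 1 M, padicValNat q (ℓ ^ (2 * (m * i)) - 1) = padicValNat q (ℓ ^ (q - 1) - 1) + padicValNat q i := by
      intro i hi
      rw [← mul_assoc, ← hm, pow_mul]
      simpa only [one_pow] using padicValNat.pow_sub_pow (n := i) (x := ℓ ^ (q - 1)) (y := 1) (Nat.odd_iff.mpr hqodd) (Nat.one_lt_pow (by omega) hℓ.one_lt) hd1
        (fun h => hne' ((Nat.prime_dvd_prime_iff_eq hq hℓ).mp (hq.dvd_of_dvd_pow h))) (by simp at hi; omega)
    have himg : (Icc 1 g).filter (fun a => m ∣ a) = (Icc 1 M).image (fun i => m * i) := by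
      ext a
      simp only [Finset.mem_filter, Finset.mem_Icc, Finset.mem_image]
      constructor
      · rintro ⟨⟨h1, h2⟩, i, rfl⟩
        refine ⟨i, ⟨Nat.one_le_iff_ne_zero.mpr fun h => by subst h; simp at h1, ?_⟩, rfl⟩
        rw [hM, Nat.le_div_iff_mul_le hm0]; linarith
      · rintro ⟨i, ⟨h1, h2⟩, rfl⟩
        rw [hM, Nat.le_div_iff_mul_le hm0] at h2
        exact ⟨⟨Nat.one_le_iff_ne_zero.mpr (mul_ne_zero (by omega) (by omega)), by linarith⟩, dvd_mul_right _ _⟩
    have hsub : ∑ a ∈ (Icc 1 g).filter (fun a => m ∣ a), padicValNat q (ℓ ^ (2 * a) - 1) = M * padicValNat q (ℓ ^ (q - 1) - 1) + ∑ i ∈ Icc 1 M, padicValNat q i := by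
      rw [himg, Finset.sum_image fun a _ b _ h => Nat.eq_of_mul_eq_mul_left hm0 h, Finset.sum_congr rfl hterm,
        Finset.sum_add_distrib, Finset.sum_const, Nat.card_Icc, smul_eq_mul, Nat.add_sub_cancel]
    refine ⟨?_, fun hgen hsq => ?_⟩
    · rw [hv q _ _ (hne ℓ hℓ.one_lt)]
      refine le_trans ?_ (Finset.sum_le_sum_of_subset (Finset.filter_subset (fun a => m ∣ a) _))
      rw [hsub]
      exact Nat.add_le_add_right (Nat.le_mul_of_pos_right _ (one_le_padicValNat_of_dvd hne1 hd1)) _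
    · have h1 : padicValNat q (ℓ ^ (q - 1) - 1) = 1 := by
        refine le_antisymm ?_ (one_le_padicValNat_of_dvd hne1 hd1)
        by_contra h
        exact hsq ((padicValNat_dvd_iff_le hne1).mpr (by omega))
      rw [h1, mul_one] at hsub
      rw [hv q _ _ (hne ℓ hℓ.one_lt), ← hsub]
      refine (Finset.sum_subset (Finset.filter_subset (fun a => m ∣ a) _) fun a ha hna => ?_).symm
      refine padicValNat.eq_zero_of_not_dvd fun h => hna (Finset.mem_filter.mpr ⟨ha, ?_⟩)
      have := hgen _ h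
      rw [hm] at this
      exact Nat.dvd_of_mul_dvd_mul_left two_pos this
  set S := (Icc 3 (2 * g + 1)).filter Nat.Prime with hS
  let e : ℕ → ℕ := fun p => (2 * g) / (p - 1) + ∑ i ∈ Icc 1 ((2 * g) / (p - 1)), padicValNat p i
  let t := 3 * g + padicValNat 2 g.factorial
  show _ ↔ d ∣ 2 ^ t * ∏ p ∈ S, p ^ e p
  have hN0 : 2 ^ t * ∏ p ∈ S, p ^ e p ≠ 0 :=
    mul_ne_zero (by positivity) (Finset.prod_ne_zero_iff.mpr fun p hp => pow_ne_zero _ (Finset.mem_filter.mp hp).2.ne_zero)
  have hvN : ∀ q : ℕ, q.Prime → (2 ^ t * ∏ p ∈ S, p ^ e p).factorization q = if q = 2 then t else e q := by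
    intro q hq
    rw [Nat.factorization_mul (by positivity) (right_ne_zero_of_mul hN0), Nat.factorization_pow, Nat.Prime.factorization Nat.prime_two,
      Nat.factorization_prod (fun p hp => pow_ne_zero _ (Finset.mem_filter.mp hp).2.ne_zero), Finsupp.add_apply, Finsupp.finsetSum_apply]
    rw [Finset.sum_congr rfl (fun p hp => by rw [Nat.factorization_pow, (Finset.mem_filter.mp hp).2.factorization, Finsupp.smul_single', mul_one, Finsupp.single_apply])]
    rw [Finset.sum_ite_eq' S q e, Finsupp.smul_single', mul_one, Finsupp.single_apply]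
    by_cases h : q = 2
    · subst h
      simp [hS]
    · have := hq.two_le
      simp only [Ne.symm h, h, if_false, zero_add, hS, Finset.mem_filter, Finset.mem_Icc, hq, and_true]
      split_ifs with h'
      · rfl
      · have h0 : (2 * g) / (q - 1) = 0 := Nat.div_eq_of_lt (by omega)
        simp [e, h0]
  have hE0 : ∀ ℓ : ℕ, ℓ.Prime → ∏ a ∈ Icc 1 g, (ℓ ^ (2 * a) - 1) ≠ 0 := fun ℓ hℓ => Finset.prod_ne_zero_iff.mpr (hne ℓ hℓ.one_lt)
  constructor
  · intro h
    obtain ⟨ℓ₀, hℓ₀B, hℓ₀⟩ := Nat.exists_infinite_primes (B + 1)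
    have hd0 : d ≠ 0 := fun h0 => hE0 ℓ₀ hℓ₀ (by simpa [h0] using h ℓ₀ hℓ₀ (by omega))
    rw [← Nat.factorization_le_iff_dvd hd0 hN0]
    intro q
    by_cases hq : q.Prime
    swap
    · simp [Nat.factorization_eq_zero_of_not_prime _ hq]
    rw [hvN q hq]
    have key : ∀ ℓ, ℓ.Prime → B < ℓ → d.factorization q ≤ padicValNat q (∏ a ∈ Icc 1 g, (ℓ ^ (2 * a) - 1)) := fun ℓ hℓ hB' => by
      rw [← Nat.factorization_def _ hq]
      exact (Nat.factorization_le_iff_dvd hd0 (hE0 ℓ hℓ)).mpr (h ℓ hℓ hB') q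
    by_cases hq2 : q = 2
    · subst hq2
      simp only [if_pos]
      obtain ⟨ℓ, hℓB, hℓ, hmod⟩ := Nat.forall_exists_prime_gt_and_modEq (max B 2) (q := 8) (a := 3) (by norm_num) (by norm_num)
      have h8 : ℓ % 8 = 3 := hmod
      refine (key ℓ hℓ (lt_of_le_of_lt (le_max_left _ _) hℓB)).trans ?_
      rw [h2 ℓ hℓ (lt_of_le_of_lt (le_max_right _ _) hℓB)]
      have : Fact (Nat.Prime 2) := ⟨Nat.prime_two⟩
      have e1 : padicValNat 2 (ℓ - 1) = 1 := by
        rw [show ℓ - 1 = 2 * ((ℓ - 1) / 2) by omega, padicValNat.mul two_ne_zero (by omega), padicValNat.self one_lt_two,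
          padicValNat.eq_zero_of_not_dvd (by omega)]
      have e2 : padicValNat 2 (ℓ + 1) = 2 := by
        rw [show ℓ + 1 = 2 ^ 2 * ((ℓ + 1) / 4) by omega, padicValNat.mul (by norm_num) (by omega), padicValNat.prime_pow,
          padicValNat.eq_zero_of_not_dvd (by omega)]
      rw [e1, e2]
      simp only [t]; omega
    · rw [if_neg hq2]
      have h2q : 2 < q := lt_of_le_of_ne hq.two_le (Ne.symm hq2)
      have : Fact q.Prime := ⟨hq⟩
      haveI : NeZero (q ^ 2) := ⟨pow_ne_zero _ hq.ne_zero⟩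
      obtain ⟨u, hu⟩ := (ZMod.isCyclic_units_of_prime_pow q hq hq2 2).exists_generator
      have hord : orderOf u = q * (q - 1) := by
        rw [orderOf_eq_card_of_forall_mem_zpowers hu, Nat.card_eq_fintype_card, ZMod.card_units_eq_totient, Nat.totient_prime_pow hq two_pos]
        simp
      obtain ⟨ℓ, hℓB, hℓ, hmod⟩ := Nat.forall_exists_prime_gt_and_eq_mod (q := q ^ 2) (a := (u : ZMod (q ^ 2))) u.isUnit (max B q)
      refine (key ℓ hℓ (lt_of_le_of_lt (le_max_left _ _) hℓB)).trans (le_of_eq ((hodd q ℓ hq h2q hℓ ?_).2 ?_ ?_))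
      · exact (lt_of_le_of_lt (le_max_right _ _) hℓB).ne
      · intro n hn
        obtain ⟨c, hc⟩ := hn
        have h1 : ((ℓ ^ n : ℕ) : ZMod (q ^ 2)) = 1 + (q : ZMod (q^2)) * c := by
          rw [← Nat.sub_add_cancel (Nat.one_le_pow n ℓ hℓ.pos), hc]; push_cast; ring
        have h3 : u ^ (n * q) = 1 := by
          apply Units.ext
          push_cast at h1
          rw [Units.val_pow_eq_pow_val, ← hmod, pow_mul, h1, add_pow, Units.val_one]
          rw [Finset.sum_range_succ, Finset.sum_eq_zero (s := Finset.range q)]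
          · simp
          intro j hj
          rcases eq_or_ne (q - j) 1 with hj' | hj'
          · have hj1 : j = q - 1 := by simp at hj; omega
            subst hj1
            rw [hj', Nat.choose_symm (by omega) |>.symm, show q - (q - 1) = 1 by omega, Nat.choose_one_right]
            have : (q : ZMod (q^2)) * q = 0 := by rw [← Nat.cast_mul, ← pow_two, ZMod.natCast_self]
            linear_combination (c : ZMod (q^2)) * this
          · have h20 : (q : ZMod (q^2)) ^ (q - j) = 0 := by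
              have : 2 ≤ q - j := by simp at hj; omega
              rw [← Nat.cast_pow, ZMod.natCast_eq_zero_iff]
              exact pow_dvd_pow q this
            rw [mul_pow, h20]; ring
        have h4 := orderOf_dvd_of_pow_eq_one h3
        rw [hord, mul_comm n q] at h4
        exact Nat.dvd_of_mul_dvd_mul_left hq.pos h4
      · intro hsq
        have h3 : u ^ (q - 1) = 1 := by
          apply Units.ext
          rw [Units.val_pow_eq_pow_val, ← hmod, Units.val_one, ← Nat.cast_pow, ← sub_eq_zero, ← Nat.cast_one (R := ZMod (q ^ 2)),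
            ← Nat.cast_sub (Nat.one_le_pow _ _ hℓ.pos), ZMod.natCast_eq_zero_iff]
          exact hsq
        have h4 := Nat.le_of_dvd (by omega) (orderOf_dvd_of_pow_eq_one h3)
        rw [hord] at h4
        have : 2 * (q - 1) ≤ q * (q - 1) := Nat.mul_le_mul_right _ hq.two_le
        omega
  · intro h ℓ hℓ hℓB
    refine h.trans ((Nat.factorization_le_iff_dvd hN0 (hE0 ℓ hℓ)).mp fun q => ?_)
    by_cases hq : q.Prime
    swap
    · simp [Nat.factorization_eq_zero_of_not_prime _ hq]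
    rw [hvN q hq, Nat.factorization_def _ hq]
    rcases Nat.eq_zero_or_pos g with rfl | hg
    · split_ifs <;> simp [t, e]
    by_cases hq2 : q = 2
    · subst hq2
      rw [if_pos rfl, h2 ℓ hℓ (by omega)]
      have := Nat.mul_le_mul_left g (h2low ℓ hℓ (by omega))
      simp only [t]; omega
    · rw [if_neg hq2]
      have h2q : 2 < q := lt_of_le_of_ne hq.two_le (Ne.symm hq2)
      by_cases hqg : q ≤ 2 * g + 1
      · exact (hodd q ℓ hq h2q hℓ (by omega)).1
      · have h0 : (2 * g) / (q - 1) = 0 := Nat.div_eq_of_lt (by omega)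
        simp [e, h0]

end Groth.Agent.S17445
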