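import Groth.Statements.S17446
-- import your own Groth.Agent.* helpers here
import Mathlib.Algebra.Group.Subgroup.Pointwise
import Mathlib.Tactic.Group

set_option autoImplicit false
universe u v
open SSRed

namespace Groth.Agent.S17446

/-- Let K be a field, V a finite-dimensional K-vector space and H₁, H₂ subgroups of the group of
K-linear automorphisms of V such that H₂ normalizes H₁. Call the action of a subgroup H unipotent
when, for some n, every product (h₁ - 1)(h₂ - 1)⋯(hₙ - 1) with all hᵢ in H is the zero endomorphism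
(equivalently, V has an H-stable flag on whose successive quotients H acts trivially). If H₁ and H₂
act unipotently, then the subgroup generated by H₁ and H₂ acts unipotently. (In the published result
H₁ and H₂ are the absolute Galois groups of two finite Galois extensions of a strictly henselian
discretely valued field over which an abelian variety becomes semistable, acting on its rational
ℓ-adic Tate module, and the conclusion is semistability over the intersection of the two fields; the
printed argument uses only that H₂ normalizes H₁.) -/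
theorem result (K : Type u) (V : Type v) [Field K]
    [AddCommGroup V] [Module K V] [FiniteDimensional K V]
    (H₁ H₂ : Subgroup (V ≃ₗ[K] V)) (hnorm : ∀ g ∈ H₂, ∀ h ∈ H₁, g * h * g⁻¹ ∈ H₁)
    (h₁ : ∃ n : ℕ, ∀ f : Fin n → ↥H₁,
      (List.ofFn fun i => (((f i : ↥H₁) : V ≃ₗ[K] V) : Module.End K V) - 1).prod = 0)
    (h₂ : ∃ n : ℕ, ∀ f : Fin n → ↥H₂,
      (List.ofFn fun i => (((f i : ↥H₂) : V ≃ₗ[K] V) : Module.End K V) - 1).prod = 0) :
    ∃ n : ℕ, ∀ f : Fin n → ↥(H₁ ⊔ H₂),
      (List.ofFn fun i => (((f i : ↥(H₁ ⊔ H₂)) : V ≃ₗ[K] V) : Module.End K V) - 1).prod = 0 := by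
  obtain ⟨n₁, hn₁⟩ := h₁
  obtain ⟨n₂, hn₂⟩ := h₂
  let e : (V ≃ₗ[K] V) → Module.End K V := fun g => (g : Module.End K V) - 1
  have he : ∀ g : V ≃ₗ[K] V, (g : Module.End K V) - 1 = e g := fun g => rfl
  obtain ⟨F, hF0, hF⟩ : ∃ F : ℕ → Submodule K V, F 0 = ⊥ ∧ ∀ k x, x ∈ F (k + 1) ↔ ∀ h : H₁, e h x ∈ F k :=
    ⟨fun k => Nat.rec ⊥ (fun _ W => ⨅ h : H₁, Submodule.comap (e h) W) k, rfl, fun k x => by
      simp only [Submodule.mem_iInf, Submodule.mem_comap]⟩
  have happ : ∀ g x, e g x = g x - x := fun g x => rfl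
  clear_value e
  have hmono : ∀ k, F k ≤ F (k + 1) := by
    intro k
    induction k with
    | zero => rw [hF0]; exact bot_le
    | succ k ih => exact fun x hx => (hF _ x).mpr fun h => ih ((hF _ x).mp hx h)
  have hH₁ : ∀ k (h : H₁) x, x ∈ F k → e h x ∈ F k := fun k h x hx => (hF k x).mp (hmono k hx) h
  have hH₂ : ∀ k (g : H₂) x, x ∈ F k → (g : V ≃ₗ[K] V) x ∈ F k := by
    intro k
    induction k with
    | zero => intro g x hx; rw [hF0] at hx ⊢; rw [(Submodule.mem_bot K).mp hx, map_zero]; exact zero_mem _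
    | succ k ih =>
      intro g x hx
      refine (hF _ _).mpr fun h => ?_
      have hmem := hnorm _ (inv_mem g.2) _ h.2
      rw [_root_.inv_inv] at hmem
      have h' := ih g _ ((hF _ x).mp hx ⟨_, hmem⟩)
      rw [happ, map_sub] at h'
      have hc : (g : V ≃ₗ[K] V) (((g : V ≃ₗ[K] V)⁻¹ * h * g : V ≃ₗ[K] V) x) = (h : V ≃ₗ[K] V) ((g : V ≃ₗ[K] V) x) := by
        show (g : V ≃ₗ[K] V) ((g : V ≃ₗ[K] V).symm _) = _
        rw [LinearEquiv.apply_symm_apply]
        rfl
      rw [hc] at h'
      rw [happ]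
      exact h'
  have hnorm' : H₂ ≤ Subgroup.normalizer (H₁ : Set (V ≃ₗ[K] V)) := by
    intro g hg
    rw [Subgroup.mem_normalizer_iff]
    refine fun h => ⟨hnorm g hg h, fun h' => ?_⟩
    have := hnorm _ (inv_mem hg) _ h'
    simpa [mul_assoc] using this
  have hdec : ∀ f : ↥(H₁ ⊔ H₂), ∃ h ∈ H₁, ∃ g ∈ H₂, (f : V ≃ₗ[K] V) = h * g := fun f => by
    open scoped Pointwise in
    obtain ⟨h, hh, g, hg, hfg⟩ : (f : V ≃ₗ[K] V) ∈ (H₁ : Set (V ≃ₗ[K] V)) * (H₂ : Set (V ≃ₗ[K] V)) := by
      rw [← Subgroup.coe_mul_of_right_le_normalizer_left H₁ H₂ hnorm']; exact f.2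
    exact ⟨h, hh, g, hg, hfg.symm⟩
  choose hh hhm gg hgm hfg using hdec
  -- modulo `F k` only the `H₂` part matters on `F (k+1)`
  have hcong : ∀ k (l : List ↥(H₁ ⊔ H₂)) x, x ∈ F (k + 1) →
      (l.map fun f => e (gg f)).prod x ∈ F (k + 1) ∧
      (l.map fun f : ↥(H₁ ⊔ H₂) => e f.1).prod x - (l.map fun f => e (gg f)).prod x ∈ F k := by
    intro k l
    induction l with
    | nil => intro x hx; exact ⟨by simpa using hx, by simp⟩
    | cons f l ih =>
      intro x hx
      obtain ⟨h1, h2⟩ := ih x hx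
      simp only [List.map_cons, List.prod_cons, Module.End.mul_apply]
      set y := (l.map fun f => e (gg f)).prod x
      set z := (l.map fun f : ↥(H₁ ⊔ H₂) => e f.1).prod x
      refine ⟨?_, ?_⟩
      · rw [happ]; exact sub_mem (hH₂ _ ⟨gg f, hgm f⟩ y h1) h1
      · have hstab : ∀ r ∈ F k, e (f : V ≃ₗ[K] V) r ∈ F k := fun r hr => by
          have hg := hH₂ k ⟨gg f, hgm f⟩ r hr
          have := hH₁ k ⟨hh f, hhm f⟩ _ hg
          rw [happ] at this ⊢
          rw [hfg f]
          show (hh f) ((gg f) r) - r ∈ F k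
          have h5 := add_mem this hg
          rw [sub_add_cancel] at h5
          exact sub_mem h5 hr
        have hstep : e (f : V ≃ₗ[K] V) y - e (gg f) y ∈ F k := by
          have := (hF _ _).mp (hH₂ _ ⟨gg f, hgm f⟩ y h1) ⟨hh f, hhm f⟩
          rw [happ] at this
          rw [happ, happ, hfg f]
          simpa [sub_sub_sub_cancel_right] using this
        have := add_mem (hstab _ h2) hstep
        rw [map_sub] at this
        simpa using this
  have hstep : ∀ k (l : List ↥(H₁ ⊔ H₂)), l.length = n₂ → ∀ x ∈ F (k + 1),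
      (l.map fun f : ↥(H₁ ⊔ H₂) => e f.1).prod x ∈ F k := by
    intro k l hl x hx
    have h := (hcong k l x hx).2
    have h0 : (l.map fun f => e (gg f)).prod = 0 := by
      have := hn₂ fun i => ⟨gg (l.get (i.cast hl.symm)), hgm _⟩
      subst hl
      rw [← List.ofFn_getElem (xs := l), List.map_ofFn]
      simpa [he, Function.comp_def] using this
    simpa [h0] using h
  have hiter : ∀ k (l : List ↥(H₁ ⊔ H₂)), l.length = k * n₂ → ∀ x ∈ F k,
      (l.map fun f : ↥(H₁ ⊔ H₂) => e f.1).prod x = 0 := by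
    intro k
    induction k with
    | zero => intro l hl x hx; rw [hF0] at hx; rw [(Submodule.mem_bot K).mp hx, map_zero]
    | succ k ih =>
      intro l hl x hx
      rw [← List.take_append_drop (k * n₂) l, List.map_append, List.prod_append, Module.End.mul_apply]
      refine ih _ (by simp [hl, Nat.succ_mul]) _ (hstep k _ ?_ x hx)
      simp [hl, Nat.succ_mul]
  have htop : ∀ k x, (∀ l : List ↥H₁, l.length = k → (l.map fun h : ↥H₁ => e h.1).prod x = 0) → x ∈ F k := by
    intro k
    induction k with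
    | zero => intro x hx; rw [hF0]; exact (Submodule.mem_bot K).mpr (by simpa using hx [] rfl)
    | succ k ih =>
      intro x hx
      refine (hF _ _).mpr fun h => ih _ fun l hl => ?_
      simpa using hx (l ++ [h]) (by simp [hl])
  refine ⟨n₁ * n₂, fun f => LinearMap.ext fun x => ?_⟩
  have hx : x ∈ F n₁ := htop n₁ x fun l hl => by
    have := hn₁ fun i => l.get (i.cast hl.symm)
    subst hl
    have h2 : (l.map fun h : ↥H₁ => e h.1).prod = 0 := by
      rw [← List.ofFn_getElem (xs := l), List.map_ofFn]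
      simpa [he, Function.comp_def] using this
    rw [h2]; simp
  have := hiter n₁ (List.ofFn f) (by simp) x hx
  rw [List.map_ofFn] at this
  simpa [he, Function.comp_def] using this

end Groth.Agent.S17446
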