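import Groth.Statements.S17449
import Groth.Agent.Lib.Chev28.PropMain

set_option autoImplicit false
universe u
open CategoryTheory CategoryTheory.Limits AlgebraicGeometry
open Stein

namespace Groth.Agent.S17449

/-- Let S be a Noetherian scheme and f : X → S a proper, flat and surjective morphism. Suppose that for
every generic point η of an irreducible component of S the fibre of f at η is geometrically
connected and smooth over the residue field κ(η). Then every fibre of f is geometrically connected. -/
theorem result {X S : Scheme.{u}}
    (f : X ⟶ S) [IsProper f] [Flat f] [Surjective f] [IsNoetherian S]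
    (h : ∀ (Z : Set ↑S) (η : ↑S), Z ∈ irreducibleComponents ↑S → IsGenericPoint η Z →
      GeometricallyConnected (f.fiberToSpecResidueField η) ∧ Smooth (f.fiberToSpecResidueField η)) :
    GeometricallyConnected f := by
  haveI : LocallyOfFinitePresentation f := LocallyOfFinitePresentation.iff_locallyOfFiniteType.mpr inferInstance
  rw [GrothLib.GeomComp6.geometricallyConnected_iff_count]
  intro y
  refine le_antisymm ?_ ?_
  · obtain ⟨η, hη⟩ : ∃ η, IsGenericPoint η (irreducibleComponent y) :=
      QuasiSober.sober isIrreducible_irreducibleComponent isClosed_irreducibleComponent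
    have h1 := (GrothLib.GeomComp6.geometricallyConnected_iff_count _).mp
      (h _ η (irreducibleComponent_mem_irreducibleComponents y) hη).1 (IsLocalRing.closedPoint (S.residueField η))
    have h2 := congrArg Prod.snd (GrothLib.GeomComp6.count_baseChange f (f.fiberToSpecResidueField η) (f.fiberι η)
        (S.fromSpecResidueField η) (IsPullback.of_hasPullback _ _) (IsLocalRing.closedPoint (S.residueField η)))
    rw [S.fromSpecResidueField_apply] at h2
    refine ((GrothLib.Chev28.nGeomConnComp_of_specializes f (hη.specializes mem_irreducibleComponent)
      fun x _ => GrothLib.Chev28.isUnivOpenAt_of_flat f x).1).trans (le_of_eq ?_)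
    exact h2.symm.trans h1
  · show 1 ≤ ENat.card (_root_.ConnectedComponents ↥(MoreMor.geomFiber f y))
    rw [ENat.one_le_card_iff_nonempty]
    obtain ⟨x, rfl⟩ := f.surjective y
    obtain ⟨w, -⟩ := (pullback.fst (f.fiberToSpecResidueField (f x)) (Spec.map (CommRingCat.ofHom
      (algebraMap (S.residueField (f x)) (SeparableClosure (S.residueField (f x))))))).surjective (f.asFiber x)
    exact ⟨ConnectedComponents.mk w⟩

end Groth.Agent.S17449
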