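import Groth.Statements.S1745
import Groth.Agent.Lib.InjMod.FlatTensor
import Groth.Agent.Lib.InjMod.Essential

set_option autoImplicit false
universe u
open scoped TensorProduct
open InjHull

namespace Groth.Agent.S1745

/-- Let A → B be a flat homomorphism of Noetherian rings such that for every prime q of B with
contraction p, the ideal p B_q equals the maximal ideal q B_q of B_q (for instance an étale map).
Then for every injective A-module I the B-module B ⊗_A I is injective. -/
theorem result (A B : Type u) [CommRing A] [CommRing B] [Algebra A B] [IsNoetherianRing A] [IsNoetherianRing B] [Module.Flat A B] (h : ∀ q : PrimeSpectrum B, Ideal.map (algebraMap B (Localization.AtPrime q.asIdeal)) ((q.asIdeal.comap (algebraMap A B)).map (algebraMap A B)) = IsLocalRing.maximalIdeal (Localization.AtPrime q.asIdeal)) (I : Type u) [AddCommGroup I] [Module A I] [Module.Injective A I] : Module.Injective B (B ⊗[A] I) := by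
  classical
  have hNA : Module.Injective A (B ⊗[A] I) := GrothLib.InjMod.injective_tensor_of_flat B I
  obtain ⟨E, _, _, f, hf⟩ := GrothLib.InjMod.exists_injective_hull (R := B) (B ⊗[A] I)
  have hEinj := hf.isInjective
  have hfi := ((GrothLib.InjMod.isEssentialInj_iff f).1 hf.toIsEssentialInj).1
  have hess := ((GrothLib.InjMod.isEssentialInj_iff f).1 hf.toIsEssentialInj).2
  suffices hs : Function.Surjective f from
    GrothLib.InjMod.injective_of_linearEquiv (LinearEquiv.ofBijective f ⟨hfi, hs⟩) hEinj
  rw [← LinearMap.range_eq_top]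
  by_contra hne
  haveI : Nontrivial (E ⧸ LinearMap.range f) := Submodule.Quotient.nontrivial_iff.2 hne
  obtain ⟨qI, hq⟩ := associatedPrimes.nonempty B (E ⧸ LinearMap.range f)
  haveI hqp : qI.IsPrime := hq.isPrime
  obtain ⟨z, hz⟩ := (isAssociatedPrime_iff_exists_injective_linearMap _ _).1 hq |>.2
  obtain ⟨y, hy⟩ := Submodule.mkQ_surjective _ (z (Submodule.Quotient.mk 1))
  have hmem : ∀ b : B, b • y ∈ LinearMap.range f ↔ b ∈ qI := fun b => by
    rw [← Submodule.Quotient.mk_eq_zero, Submodule.Quotient.mk_smul, ← Submodule.mkQ_apply, hy,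
      ← map_smul, ← Submodule.Quotient.mk_smul, map_eq_zero_iff _ hz, Submodule.Quotient.mk_eq_zero,
      smul_eq_mul, mul_one]
  let p : Ideal A := qI.comap (algebraMap A B)
  have hp : ∀ a : p, ∃ n : B ⊗[A] I, f n = algebraMap A B a.1 • y := fun a => (hmem _).2 a.2
  choose g hg using hp
  let gl : p →ₗ[A] B ⊗[A] I :=
    { toFun := g
      map_add' := fun a b => hfi (by rw [map_add, hg, hg, hg, Submodule.coe_add, map_add, add_smul])
      map_smul' := fun r a => hfi (by
        rw [RingHom.id_apply, ← algebraMap_smul B r (g a), map_smul, hg, hg, Submodule.coe_smul, smul_eq_mul,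
          map_mul, mul_smul]) }
  obtain ⟨G, hG⟩ := hNA.out p.subtype p.injective_subtype gl
  have hJ : ∀ b ∈ p.map (algebraMap A B), b • (y - f (G 1)) = 0 := by
    intro b hb
    induction hb using Submodule.span_induction with
    | mem b hb =>
      obtain ⟨a, ha, rfl⟩ := hb
      have h1 : G a = g ⟨a, ha⟩ := hG ⟨a, ha⟩
      have h2 : G a = algebraMap A B a • G 1 := by rw [algebraMap_smul, ← map_smul, smul_eq_mul, mul_one]
      rw [smul_sub, ← hg ⟨a, ha⟩, ← map_smul, ← h2, h1, sub_self]
    | zero => rw [zero_smul]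
    | add a b _ _ ha hb => rw [add_smul, ha, hb, add_zero]
    | smul b a _ ha => rw [smul_eq_mul, mul_smul, ha, smul_zero]
  have hle : ∀ b ∈ qI, ∃ s : B, s ∉ qI ∧ s * b ∈ p.map (algebraMap A B) := fun b hb => by
    have h3 : algebraMap B (Localization.AtPrime qI) b ∈
        Ideal.map (algebraMap B (Localization.AtPrime qI)) (p.map (algebraMap A B)) := by
      rw [h ⟨qI, hqp⟩, ← Localization.AtPrime.map_eq_maximalIdeal]
      exact Ideal.mem_map_of_mem _ hb
    obtain ⟨s, hs, hs'⟩ := (IsLocalization.algebraMap_mem_map_algebraMap_iff qI.primeCompl _ _ b).1 h3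
    exact ⟨s, hs, hs'⟩
  obtain ⟨t, ht⟩ := IsNoetherian.noetherian qI
  choose! sf hsf hsf' using hle
  let s : B := ∏ b ∈ t, sf b
  have hs : s ∉ qI := fun hmem' => by
    obtain ⟨b, hb, hb'⟩ := (hqp.prod_mem_iff).1 hmem'
    exact hsf b (ht.le (Submodule.subset_span hb)) hb'
  have hkill : ∀ b ∈ qI, b • (s • (y - f (G 1))) = 0 := fun b hb => by
    rw [← ht] at hb
    induction hb using Submodule.span_induction with
    | mem b hb =>
      obtain ⟨c, hc⟩ := Finset.dvd_prod_of_mem sf hb
      rw [← mul_smul, show b * s = c * (sf b * b) by rw [show s = sf b * c from hc]; ring, mul_smul,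
        hJ _ (hsf' b (ht.le (Submodule.subset_span hb))), smul_zero]
    | zero => rw [zero_smul]
    | add a b _ _ ha hb => rw [add_smul, ha, hb, add_zero]
    | smul b a _ ha => rw [smul_eq_mul, mul_smul, ha, smul_zero]
  have hrange : ∀ b : B, b • (s • (y - f (G 1))) ∈ LinearMap.range f → b ∈ qI := fun b hb => by
    rw [← mul_smul, smul_sub, Submodule.sub_mem_iff_left _ ((LinearMap.range f).smul_mem _ ⟨_, rfl⟩)] at hb
    exact (hqp.mem_or_mem ((hmem _).1 hb)).resolve_right hs
  obtain ⟨b, hb, hb0⟩ := hess (s • (y - f (G 1))) fun h0 => hqp.ne_top ((Ideal.eq_top_iff_one _).2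
    (hrange 1 (by rw [h0, smul_zero]; exact zero_mem _)))
  exact hb0 (hkill b (hrange b hb))

end Groth.Agent.S1745
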