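import Groth.Statements.S17453
-- import your own Groth.Agent.* helpers here
import Groth.Agent.Lib.Chev24.SemiAb

set_option autoImplicit false
universe u
open CategoryTheory MonoidalCategory CartesianMonoidalCategory MonObj GrpObj AlgebraicGeometry CategoryTheory.Limits
open AlgGrp

namespace Groth.Agent.S17453

/-- Let k be a field with algebraic closure K and 1 → G' → G → G'' → 1 a short exact sequence of smooth
connected k-group schemes of finite type: G' → G is a homomorphism and a closed immersion, G → G''
is a flat surjective homomorphism, and G' is its kernel. Say that such a group is semi-abelian when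
its base change to K, modulo a suitable torus, is an abelian variety (there are a closed subgroup
scheme of the base change which is a torus and a flat surjective homomorphism onto a proper smooth
connected K-group scheme with that kernel); commutativity is not assumed, it follows. Then G is
semi-abelian exactly when both G' and G'' are semi-abelian. -/
theorem result (k : Type u) [Field k]
    (G' G G'' : Over (Spec (CommRingCat.of k))) [GrpObj G'] [GrpObj G] [GrpObj G'']
    [Smooth G'.hom] [QuasiCompact G'.hom] [ConnectedSpace ↥G'.left]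
    [Smooth G.hom] [QuasiCompact G.hom] [ConnectedSpace ↥G.left]
    [Smooth G''.hom] [QuasiCompact G''.hom] [ConnectedSpace ↥G''.left]
    (j : G' ⟶ G) [IsMonHom j] [IsClosedImmersion j.left]
    (p : G ⟶ G'') [IsMonHom p] [Surjective p.left] [Flat p.left] (hex : AlgGrp.IsKernel j p) :
    (∃ (T : Over (Spec (CommRingCat.of (AlgebraicClosure k)))) (_ : GrpObj T) (i : T ⟶ Red.bc (Spec.map (CommRingCat.ofHom (algebraMap k (AlgebraicClosure k)))) G) (A : Over (Spec (CommRingCat.of (AlgebraicClosure k)))) (_ : GrpObj A) (q : Red.bc (Spec.map (CommRingCat.ofHom (algebraMap k (AlgebraicClosure k)))) G ⟶ A),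
        IsMonHom i ∧ IsClosedImmersion i.left ∧ Red.IsTorus T ∧ IsMonHom q ∧ Surjective q.left ∧ Flat q.left ∧
        AlgGrp.IsKernel i q ∧ IsProper A.hom ∧ Smooth A.hom ∧ ConnectedSpace ↥A.left) ↔
    ((∃ (T : Over (Spec (CommRingCat.of (AlgebraicClosure k)))) (_ : GrpObj T) (i : T ⟶ Red.bc (Spec.map (CommRingCat.ofHom (algebraMap k (AlgebraicClosure k)))) G') (A : Over (Spec (CommRingCat.of (AlgebraicClosure k)))) (_ : GrpObj A) (q : Red.bc (Spec.map (CommRingCat.ofHom (algebraMap k (AlgebraicClosure k)))) G' ⟶ A),
        IsMonHom i ∧ IsClosedImmersion i.left ∧ Red.IsTorus T ∧ IsMonHom q ∧ Surjective q.left ∧ Flat q.left ∧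
        AlgGrp.IsKernel i q ∧ IsProper A.hom ∧ Smooth A.hom ∧ ConnectedSpace ↥A.left) ∧
     (∃ (T : Over (Spec (CommRingCat.of (AlgebraicClosure k)))) (_ : GrpObj T) (i : T ⟶ Red.bc (Spec.map (CommRingCat.ofHom (algebraMap k (AlgebraicClosure k)))) G'') (A : Over (Spec (CommRingCat.of (AlgebraicClosure k)))) (_ : GrpObj A) (q : Red.bc (Spec.map (CommRingCat.ofHom (algebraMap k (AlgebraicClosure k)))) G'' ⟶ A),
        IsMonHom i ∧ IsClosedImmersion i.left ∧ Red.IsTorus T ∧ IsMonHom q ∧ Surjective q.left ∧ Flat q.left ∧
        AlgGrp.IsKernel i q ∧ IsProper A.hom ∧ Smooth A.hom ∧ ConnectedSpace ↥A.left)) := by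
  let f := Spec.map (CommRingCat.ofHom (algebraMap k (AlgebraicClosure k)))
  haveI : Smooth (Red.bc f G').hom := GrothLib.Flag27.smooth_bc f G'
  haveI : Smooth (Red.bc f G).hom := GrothLib.Flag27.smooth_bc f G
  haveI : Smooth (Red.bc f G'').hom := GrothLib.Flag27.smooth_bc f G''
  haveI : QuasiCompact (Red.bc f G').hom := inferInstanceAs (QuasiCompact (pullback.snd G'.hom f))
  haveI : QuasiCompact (Red.bc f G).hom := inferInstanceAs (QuasiCompact (pullback.snd G.hom f))
  haveI : QuasiCompact (Red.bc f G'').hom := inferInstanceAs (QuasiCompact (pullback.snd G''.hom f))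
  haveI : ConnectedSpace (Red.bc f G').left := GrothLib.Flag27.connectedSpace_bc f G'
  haveI : ConnectedSpace (Red.bc f G).left := GrothLib.Flag27.connectedSpace_bc f G
  haveI : ConnectedSpace (Red.bc f G'').left := GrothLib.Flag27.connectedSpace_bc f G''
  haveI : (Over.pullback f).IsRightAdjoint := (Over.mapPullbackAdj f).isRightAdjoint
  haveI : Mono j := Over.mono_of_mono_left j
  have hsq : IsPullback ((Over.pullback f).map p).left (pullback.fst G.hom f) (pullback.fst G''.hom f) p.left :=
    IsPullback.of_right (h₁₂ := (Red.bc f G'').hom) (v₁₃ := f) (h₂₂ := G''.hom)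
      (by rw [Over.w, Over.w]; exact (IsPullback.of_hasPullback G.hom f).flip)
      (pullback.lift_fst _ _ _) (IsPullback.of_hasPullback G''.hom f).flip
  haveI : Surjective ((Over.pullback f).map p).left := MorphismProperty.of_isPullback hsq.flip ‹Surjective p.left›
  haveI : Flat ((Over.pullback f).map p).left := MorphismProperty.of_isPullback hsq.flip ‹Flat p.left›
  have hex' := GrothLib.Chev24.isKernel_bc f j p hex
  constructor
  · intro h
    exact ⟨((GrothLib.Chev24.IsSemiAb.noUnipHom h).of_mono ((Over.pullback f).map j)).isSemiAb,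
      GrothLib.Chev24.IsSemiAb.quotient h ((Over.pullback f).map p)⟩
  · rintro ⟨h1, h2⟩
    exact (GrothLib.Chev24.NoUnipHom.extension ((Over.pullback f).map j) ((Over.pullback f).map p) hex'
      (GrothLib.Chev24.IsSemiAb.noUnipHom h1) (GrothLib.Chev24.IsSemiAb.noUnipHom h2)).isSemiAb

end Groth.Agent.S17453
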