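import Groth.Statements.S17454
import Groth.Agent.Lib.AffPart16.Basic

set_option autoImplicit false
universe u
open CategoryTheory MonoidalCategory CartesianMonoidalCategory MonObj GrpObj AlgebraicGeometry CategoryTheory.Limits
open AlgGrp

namespace Groth.Agent.S17454

open GrothLib

/-- Let k be a perfect field and f : G' → G a surjective homomorphism of smooth connected k-group
schemes of finite type. Let N' → G' and N → G be Chevalley decompositions: normal closed subgroup
schemes which are smooth, connected and affine, kernels of flat surjective homomorphisms q' : G' →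
A' and q : G → A onto proper smooth connected k-group schemes. Then f maps N' onto N: there is a
homomorphism g : N' → N, compatible with f and the two inclusions, whose underlying map is
surjective; and f induces a homomorphism A' → A compatible with q' and q whose underlying map is
surjective. (The isogeny refinement of the published statement is not stated.) -/
theorem result (k : Type u) [Field k] [PerfectField k]
    (G' G : Over (Spec (CommRingCat.of k))) [GrpObj G'] [GrpObj G]
    [Smooth G'.hom] [QuasiCompact G'.hom] [ConnectedSpace ↥G'.left]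
    [Smooth G.hom] [QuasiCompact G.hom] [ConnectedSpace ↥G.left]
    (f : G' ⟶ G) [IsMonHom f] [Surjective f.left]
    (N' : Over (Spec (CommRingCat.of k))) [GrpObj N'] (i' : N' ⟶ G') [IsMonHom i'] [IsClosedImmersion i'.left]
    [Smooth N'.hom] [ConnectedSpace ↥N'.left] [IsAffine N'.left] (hn' : AlgGrp.IsNormalHom i')
    (A' : Over (Spec (CommRingCat.of k))) [GrpObj A'] (q' : G' ⟶ A') [IsMonHom q'] [Surjective q'.left] [Flat q'.left]
    [IsProper A'.hom] [Smooth A'.hom] [ConnectedSpace ↥A'.left] (hk' : AlgGrp.IsKernel i' q')
    (N : Over (Spec (CommRingCat.of k))) [GrpObj N] (i : N ⟶ G) [IsMonHom i] [IsClosedImmersion i.left]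
    [Smooth N.hom] [ConnectedSpace ↥N.left] [IsAffine N.left] (hn : AlgGrp.IsNormalHom i)
    (A : Over (Spec (CommRingCat.of k))) [GrpObj A] (q : G ⟶ A) [IsMonHom q] [Surjective q.left] [Flat q.left]
    [IsProper A.hom] [Smooth A.hom] [ConnectedSpace ↥A.left] (hk : AlgGrp.IsKernel i q) :
    (∃ g : N' ⟶ N, IsMonHom g ∧ g ≫ i = i' ≫ f ∧ Surjective g.left) ∧
      (∃ h : A' ⟶ A, IsMonHom h ∧ q' ≫ h = f ≫ q ∧ Surjective h.left) := by
  haveI : Mono i := Over.mono_of_mono_left i
  haveI : IsSeparated G.hom := GrpSchField.isSeparated G
  haveI : IsReduced G.left := Rigidity.isReduced_of_smooth G.hom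
  haveI : QuasiCompact f.left := by
    haveI : QuasiCompact (f.left ≫ G.hom) := by rw [Over.w f]; infer_instance
    exact QuasiCompact.of_comp f.left G.hom
  haveI : Flat f.left := GrpSchField.flat_hom f
  obtain ⟨g, hg⟩ := AffPart16.le_of_isProper_quot q hk (i' ≫ f)
  haveI : IsMonHom g := GrpSchField.isMonHom_of_mul g (by
    rw [← cancel_mono i, Category.assoc, hg, IsMonHom.mul_hom, Category.assoc, IsMonHom.mul_hom,
      ← Category.assoc, tensorHom_comp_tensorHom, hg])
  refine ⟨⟨g, inferInstance, hg, AffPart16.surjective_affPart f i' hn' q' hk' i g hg⟩, ?_⟩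
  obtain ⟨h, hh, hqh⟩ := AffPart16.exists_desc_ker q' hk' (f ≫ q) (by
    rw [← Category.assoc, ← hg, Category.assoc, GrpSchField.comp_eq_one hk, MonObj.comp_one])
  refine ⟨h, hh, hqh, ?_⟩
  haveI : Surjective (q'.left ≫ h.left) := by rw [← Over.comp_left, hqh, Over.comp_left]; infer_instance
  exact Surjective.of_comp q'.left h.left


end Groth.Agent.S17454
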