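import Groth.Statements.S17456
import Groth.Agent.Lib.TorsDeg14.Torus
import Groth.Agent.Lib.AbTors.Degree
import Groth.Agent.Lib.TorusNorm25.Torus
import Groth.Agent.Lib.RedSmooth.Basic
import Groth.Agent.Lib.AbAff14.Core
import Groth.Agent.Lib.GrpDeligne.Factor
import Groth.Agent.Lib.NormQF14.Pow
import Groth.Agent.Lib.TorusPrim24.Main
import Groth.Agent.Lib.GrpSchField.HomFlat
import Groth.Agent.Lib.CentMT14.Reductive
import Groth.Agent.Lib.KerDiag14.Basic
import Groth.Agent.Lib.Neutral.QCHom
import Groth.Agent.Lib.QuotTorus14.Basic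
import Groth.Agent.Lib.Rigidity.KernelPair
import Groth.Agent.Lib.Cube.MulFinite
import Groth.Agent.Lib.Rigidity.SemiAbelian
-- import your own Groth.Agent.* helpers here

set_option autoImplicit false
universe u
open CategoryTheory MonoidalCategory CartesianMonoidalCategory MonObj GrpObj AlgebraicGeometry CategoryTheory.Limits
open AlgGrp

namespace Groth.Agent.S17456

open GrothLib in
private theorem finrank_kernel {k : Type u} [Field k] {G K : Over (Spec (CommRingCat.of k))} [GrpObj G] (f : G ⟶ G)
    [IsFinite f.left] [Flat f.left] (κ : K ⟶ G) (hK : AlgGrp.IsKernel κ f) {d : ℕ} (hd : ∀ y, f.left.finrank y = d) :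
    IsFinite K.hom ∧ Flat K.hom ∧ ∀ y, K.hom.finrank y = d := by
  have sq := hK.map (Over.forget _)
  have e : (toUnit K).left = K.hom := by
    have h := Over.w (toUnit K)
    exact h
  have sq' : IsPullback κ.left K.hom f.left η[G].left := e ▸ sq
  exact ⟨MorphismProperty.of_isPullback sq' ‹IsFinite f.left›, MorphismProperty.of_isPullback sq' ‹Flat f.left›,
    fun y => (Scheme.Hom.finrank_of_isPullback _ _ _ _ sq' y).trans (hd _)⟩

open MonObj CartesianMonoidalCategory CategoryTheory.Limits in
set_option maxHeartbeats 1000000 in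

/-- Let k be a field and G a smooth connected commutative k-group scheme of finite type which is an
extension of an abelian variety B of dimension a by a torus T of dimension t: T → G is a
homomorphism and a closed immersion with T a torus, G → B is a flat surjective homomorphism onto a
proper smooth connected k-group scheme, and T is its kernel. Then for every integer N ≥ 1, the
characteristic of k being allowed to divide N, the N-torsion subgroup scheme G[N] (the kernel of
multiplication by N on G) is finite locally free over Spec k of degree N^(t + 2a). (In the source G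
is the identity component of the special fibre of the Néron model of an abelian variety with
semistable reduction, which is such an extension.) -/
theorem result (k : Type u) [Field k]
    (G T B : Over (Spec (CommRingCat.of k))) [GrpObj G] [IsCommMonObj G] [GrpObj T] [GrpObj B]
    [Smooth G.hom] [QuasiCompact G.hom] [ConnectedSpace ↥G.left]
    (i : T ⟶ G) [IsMonHom i] [IsClosedImmersion i.left] (hT : Red.IsTorus T)
    (q : G ⟶ B) [IsMonHom q] [Surjective q.left] [Flat q.left] (hk : AlgGrp.IsKernel i q)
    [IsProper B.hom] [Smooth B.hom] [ConnectedSpace ↥B.left]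
    (t a : ℕ) (ht : topologicalKrullDim ↥T.left = t) (ha : topologicalKrullDim ↥B.left = a)
    (N : ℕ) (hN : 0 < N)
    (K : Over (Spec (CommRingCat.of k))) [GrpObj K] (κ : K ⟶ G) [IsMonHom κ]
    (hK : AlgGrp.IsKernel κ ((𝟙 G) ^ N)) :
    Mor2.IsFinLocFreeOfDeg (N ^ (t + 2 * a)) K.hom := by
  haveI : Mono i := Over.mono_of_mono_left i
  haveI := GrothLib.AbAff14.isCommMonObj_of_mono i
  haveI := GrothLib.AbAff14.isCommMonObj_of_epi q
  haveI := GrothLib.EssFree.isAffineHom_multTypeFT T
    (GrothLib.QuotTorus14.isMultTypeFT_of_charts (GrothLib.DiagGrp.hasChartsFpqc_of_isTorus hT))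
  haveI := GrothLib.TorusNorm25.smooth_of_isTorus hT
  haveI : IsReduced T.left := GrothLib.RedSmooth.isReduced_of_smooth T.hom
  haveI : IsAffine T.left := isAffine_of_isAffineHom T.hom
  haveI : IsReduced B.left := GrothLib.RedSmooth.isReduced_of_smooth B.hom
  haveI : GeometricallyReduced B.hom := GrothLib.Rigidity.geometricallyReduced_of_smooth B.hom
  haveI : GeometricallyIntegral B.hom := GrothLib.Rigidity.geometricallyIntegral_of_connected B
  haveI : Surjective T.hom := ⟨fun y => ⟨η[T].left y, Subsingleton.elim (α := PrimeSpectrum k) _ _⟩⟩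
  -- the powers
  let tn : T ⟶ T := 𝟙 T ^ N
  haveI : IsMonHom tn := GrothLib.GrpDeligne.isMonHom_pow (𝟙 T) N
  haveI : IsFinite tn.left := GrothLib.NormQF14.isFinite_pow T
    (GrothLib.QuotTorus14.isMultTypeFT_of_charts (GrothLib.DiagGrp.hasChartsFpqc_of_isTorus hT)) N hN
  haveI : Surjective tn.left := GrothLib.TorusPrim24.surjective_pow_of_isTorus hT hN
  haveI : Flat tn.left := GrothLib.GrpSchField.flat_hom tn
  let bn : B ⟶ B := 𝟙 B ^ N
  haveI : IsMonHom bn := GrothLib.GrpDeligne.isMonHom_pow (𝟙 B) N
  haveI : IsFinite bn.left := GrothLib.Cube.isFinite_pow B hN.ne'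
  haveI : Surjective bn.left := GrothLib.Cube.surjective_pow B hN.ne'
  haveI : Flat bn.left := GrothLib.GrpSchField.flat_hom bn
  have hgn : ∀ {X : Over (Spec (CommRingCat.of k))} (x : X ⟶ G), x ≫ (𝟙 G ^ N) = x ^ N := fun x => by
    rw [MonObj.comp_pow, Category.comp_id]
  have htn : ∀ {X : Over (Spec (CommRingCat.of k))} (x : X ⟶ T), x ≫ tn = x ^ N := fun x => by
    rw [MonObj.comp_pow, Category.comp_id]
  have hbn : ∀ {X : Over (Spec (CommRingCat.of k))} (x : X ⟶ B), x ≫ bn = x ^ N := fun x => by
    rw [MonObj.comp_pow, Category.comp_id]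
  haveI : Mono κ := GrothLib.GrpDeligne.mono_of_isKernel hK
  have hκ : κ ^ N = 1 := by rw [← hgn, GrothLib.GrpDeligne.ker_comp_eq_one hK]
  have hiq : i ≫ q = 1 := GrothLib.GrpDeligne.ker_comp_eq_one hk
  -- the torsion of the torus and of the abelian variety
  obtain ⟨KT, kT, hKT⟩ : ∃ (X : Over (Spec (CommRingCat.of k))) (a : X ⟶ T), AlgGrp.IsKernel a tn := by
    refine ⟨_, pullback.fst tn η[T], ?_⟩
    show IsPullback _ _ _ _
    rw [Subsingleton.elim (toUnit _) (pullback.snd tn η[T])]
    exact IsPullback.of_hasPullback _ _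
  obtain ⟨KB, kB, hKB⟩ : ∃ (X : Over (Spec (CommRingCat.of k))) (a : X ⟶ B), AlgGrp.IsKernel a bn := by
    refine ⟨_, pullback.fst bn η[B], ?_⟩
    show IsPullback _ _ _ _
    rw [Subsingleton.elim (toUnit _) (pullback.snd bn η[B])]
    exact IsPullback.of_hasPullback _ _
  obtain ⟨_, _⟩ := GrothLib.GrpDeligne.exists_grpObj_kernel bn kB hKB
  obtain ⟨_, _⟩ := GrothLib.GrpDeligne.exists_grpObj_kernel tn kT hKT
  haveI : Mono kB := GrothLib.GrpDeligne.mono_of_isKernel hKB
  haveI : Mono kT := GrothLib.GrpDeligne.mono_of_isKernel hKT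
  have hkB : kB ^ N = 1 := by rw [← hbn, GrothLib.GrpDeligne.ker_comp_eq_one hKB]
  have hkT : kT ^ N = 1 := by rw [← htn, GrothLib.GrpDeligne.ker_comp_eq_one hKT]
  obtain ⟨hTf, hTfl, hTr⟩ := finrank_kernel tn kT hKT
    (fun y => GrothLib.TorsDeg14.finrank_torus_pow T hT ht hN y)
  obtain ⟨hBf, hBfl, hBr⟩ := finrank_kernel bn kB hKB (fun y => GrothLib.AbTors.finrank_pow B ha hN.ne' y)
  haveI := hTf; haveI := hTfl; haveI := hBf; haveI := hBfl
  obtain ⟨π, hπ⟩ := GrothLib.GrpDeligne.exists_lift_ker hKB (κ ≫ q) (by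
    rw [hbn, ← MonObj.pow_comp, hκ, MonObj.one_comp])
  haveI : IsMonHom (π ≫ kB) := by rw [hπ]; infer_instance
  haveI : IsMonHom π := GrothLib.CentMT14.isMonHom_of_comp π kB
  obtain ⟨l, hl⟩ := GrothLib.GrpDeligne.exists_lift_ker hK (kT ≫ i) (by
    rw [hgn, ← MonObj.pow_comp, hkT, MonObj.one_comp])
  have hkπ : AlgGrp.IsKernel l π := by
    have h0 : l ≫ π = toUnit KT ≫ η[KB] := by
      rw [← Hom.one_def, ← cancel_mono kB, Category.assoc, hπ, reassoc_of% hl, hiq, MonObj.comp_one, MonObj.one_comp]
    have hex : ∀ s : PullbackCone π η[KB], ∃ z : s.pt ⟶ KT, z ≫ l = s.fst := fun s => by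
      obtain ⟨x, hx⟩ := GrothLib.GrpDeligne.exists_lift_ker hk (s.fst ≫ κ) (by
        have h := s.condition =≫ kB
        rw [Category.assoc, hπ, toUnit_unique s.snd (toUnit _), ← Hom.one_def, MonObj.one_comp] at h
        rw [Category.assoc, h])
      obtain ⟨z, hz⟩ := GrothLib.GrpDeligne.exists_lift_ker hKT x (by
        rw [← cancel_mono i, htn, MonObj.pow_comp, hx, MonObj.one_comp, ← MonObj.comp_pow, hκ, MonObj.comp_one])
      exact ⟨z, by rw [← cancel_mono κ, Category.assoc, hl, reassoc_of% hz, hx]⟩
    haveI : Mono (l ≫ κ) := by rw [hl]; infer_instance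
    haveI : Mono l := mono_of_mono l κ
    exact IsPullback.of_isLimit' ⟨h0⟩ (PullbackCone.IsLimit.mk _ (fun s => (hex s).choose)
      (fun s => (hex s).choose_spec) (fun s => Subsingleton.elim _ _)
      fun s m h1 _ => (cancel_mono l).1 (h1.trans (hex s).choose_spec.symm))
  -- `π` is flat and surjective
  let bP : pullback q kB ⟶ G := pullback.fst q kB
  let aP : pullback q kB ⟶ KB := pullback.snd q kB
  have sqP : IsPullback bP aP q kB := IsPullback.of_hasPullback q kB
  obtain ⟨c, hc⟩ := GrothLib.GrpDeligne.exists_lift_ker hk (bP ^ N) (by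
    rw [MonObj.pow_comp, sqP.w, ← MonObj.comp_pow, hkB, MonObj.comp_one])
  let f : K ⊗ T ⟶ pullback q kB := sqP.lift ((fst K T ≫ κ) * (snd K T ≫ i)) (fst K T ≫ π) (by
    rw [MonObj.mul_comp, Category.assoc, Category.assoc, Category.assoc, hiq, MonObj.comp_one, _root_.mul_one, hπ])
  have hf1 : f ≫ bP = (fst K T ≫ κ) * (snd K T ≫ i) := sqP.lift_fst _ _ _
  have hf2 : f ≫ aP = fst K T ≫ π := sqP.lift_snd _ _ _
  have hsq : IsPullback f (snd K T) c tn := by
    have hw : f ≫ c = snd K T ≫ tn := by
      rw [← cancel_mono i, Category.assoc, hc, MonObj.comp_pow, hf1, mul_pow, ← MonObj.comp_pow, hκ, MonObj.comp_one,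
        _root_.one_mul, htn, MonObj.pow_comp]
    have hex : ∀ s : PullbackCone c tn, ∃ z : s.pt ⟶ K, z ≫ κ = (s.fst ≫ bP) * (s.snd ≫ i)⁻¹ := fun s =>
      GrothLib.GrpDeligne.exists_lift_ker hK _ (by
        have h := s.condition =≫ i
        rw [Category.assoc, hc, MonObj.comp_pow, htn, MonObj.pow_comp] at h
        rw [hgn, mul_pow, inv_pow, h, mul_inv_cancel])
    refine IsPullback.of_isLimit' ⟨hw⟩ (PullbackCone.IsLimit.mk _
      (fun s => lift (hex s).choose s.snd) (fun s => ?_) (fun s => lift_snd _ _) fun s m h1 h2 => ?_)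
    · apply sqP.hom_ext
      · rw [Category.assoc, hf1, MonObj.comp_mul, lift_fst_assoc, lift_snd_assoc, (hex s).choose_spec,
          inv_mul_cancel_right]
      · rw [Category.assoc, hf2, lift_fst_assoc, ← cancel_mono kB, Category.assoc, hπ, reassoc_of% (hex s).choose_spec,
          MonObj.mul_comp, GrpObj.inv_comp, Category.assoc, Category.assoc, hiq, MonObj.comp_one, inv_one, _root_.mul_one,
          sqP.w, Category.assoc]
    · apply CartesianMonoidalCategory.hom_ext
      · have h1' := h1 =≫ bP
        rw [Category.assoc, hf1, MonObj.comp_mul, reassoc_of% h2] at h1'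
        rw [lift_fst, ← cancel_mono κ, (hex s).choose_spec, Category.assoc]
        exact eq_mul_inv_of_mul_eq h1'
      · rw [lift_snd, h2]
  have hfl := hsq.map (Over.forget _)
  haveI : Surjective f.left := MorphismProperty.of_isPullback hfl.flip ‹Surjective tn.left›
  haveI : Flat f.left := MorphismProperty.of_isPullback hfl.flip ‹Flat tn.left›
  have hPl := sqP.map (Over.forget _)
  haveI : Surjective aP.left := MorphismProperty.of_isPullback hPl ‹Surjective q.left›
  haveI : Flat aP.left := MorphismProperty.of_isPullback hPl ‹Flat q.left›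
  haveI : Flat ((fst K T).left ≫ π.left) := by rw [← Over.comp_left, ← hf2, Over.comp_left]; infer_instance
  haveI : Surjective ((fst K T).left ≫ π.left) := by rw [← Over.comp_left, ← hf2, Over.comp_left]; infer_instance
  haveI : Flat (fst K T).left := inferInstanceAs (Flat (pullback.fst K.hom T.hom))
  haveI : Surjective (fst K T).left := inferInstanceAs (Surjective (pullback.fst K.hom T.hom))
  haveI : Flat π.left := GrothLib.GrpSchField.flat_of_flat_surjective_comp (fst K T).left π.left
  haveI : Surjective π.left := Surjective.of_comp (fst K T).left π.left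
  -- the kernel of `[N]` on `G` is finite
  haveI hlK : LocallyOfFiniteType K.hom := by
    haveI := GrothLib.GrpSchField.isSeparated G
    haveI := GrothLib.GrpSchField.unit_isClosedImmersion G
    haveI : IsClosedImmersion κ.left :=
      MorphismProperty.of_isPullback (hK.map (Over.forget _)).flip (inferInstanceAs (IsClosedImmersion η[G].left))
    rw [← Over.w κ]; infer_instance
  haveI : QuasiCompact K.hom := by
    haveI := GrothLib.GrpSchField.isSeparated G
    haveI := GrothLib.GrpSchField.unit_isClosedImmersion G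
    haveI : IsClosedImmersion κ.left :=
      MorphismProperty.of_isPullback (hK.map (Over.forget _)).flip (inferInstanceAs (IsClosedImmersion η[G].left))
    rw [← Over.w κ]; infer_instance
  haveI : LocallyOfFiniteType π.left := by
    haveI : LocallyOfFiniteType (π.left ≫ KB.hom) := by rw [Over.w]; infer_instance
    exact locallyOfFiniteType_of_comp π.left KB.hom
  haveI : QuasiCompact π.left := by
    haveI : QuasiCompact (π.left ≫ KB.hom) := by rw [Over.w]; infer_instance
    exact QuasiCompact.of_comp π.left KB.hom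
  haveI : LocallyQuasiFinite π.left := by
    obtain ⟨_, _⟩ := GrothLib.GrpDeligne.exists_grpObj_kernel π l hkπ
    exact (GrothLib.KerDiag14.lqf_iff π l hkπ).2.1.2 inferInstance
  haveI : IsFinite π.left := GrothLib.Neutral.isFinite_of_quasiCompact π
  have hπr : ∀ y, π.left.finrank y = N ^ t := fun y => by
    obtain ⟨x, rfl⟩ := π.left.surjective y
    have sqk : IsPullback ((fst KT K ≫ l) * snd KT K).left (snd KT K).left π.left π.left :=
      (GrothLib.Rigidity.isPullback_kernelPair π l hkπ).map (Over.forget _)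
    refine (Scheme.Hom.finrank_of_isPullback _ _ _ _ sqk x).symm.trans ?_
    exact (Scheme.Hom.finrank_pullback_snd KT.hom K.hom x).trans (hTr _)
  have hKfin : IsFinite K.hom := by rw [← Over.w π]; infer_instance
  have hKfl : Flat K.hom := by rw [← Over.w π]; infer_instance
  refine ⟨⟨hKfin, hKfl, GrothLib.GrpSchField.lfp_of_isLocallyNoetherian _⟩, fun y => ?_⟩
  rw [← Over.w π, pow_add, Nat.mul_comm (N ^ t)]
  exact GrothLib.TorsDeg14.finrank_comp_field π.left KB.hom hBr hπr y

end Groth.Agent.S17456
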