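import Groth.Statements.S17459
import Groth.Agent.Lib.Dim.QuasiFinite
import Groth.Agent.Lib.Rigidity.Isogeny
import Mathlib.AlgebraicGeometry.ZariskisMainTheorem

set_option autoImplicit false
universe u
open CategoryTheory CategoryTheory.Limits AlgebraicGeometry MonObj
open SGA7

set_option linter.style.haveILetI false
set_option linter.style.longLine false
set_option backward.isDefEq.respectTransparency false
set_option backward.isDefEq.respectTransparency.types false

namespace Groth.Agent.S17459

/-- A morphism of finite type is quasi-finite at the points of its finite fibres. -/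
lemma quasiFiniteAt_of_finite {X Y : Scheme.{u}} (f : X ⟶ Y) [LocallyOfFiniteType f] {x : X}
    (h : (f.base ⁻¹' {f.base x}).Finite) : f.QuasiFiniteAt x := by
  let g := f.fiberToSpecResidueField (f.base x)
  haveI : LocallyOfFiniteType g := MorphismProperty.pullback_snd f _ inferInstance
  have hfin : Finite ↥(f.fiber (f.base x)) :=
    @Finite.of_equiv _ _ h.to_subtype (f.fiberHomeo (f.base x)).toEquiv.symm
  haveI : LocallyQuasiFinite g := LocallyQuasiFinite.of_finite_preimage_singleton g fun _ => Set.toFinite _
  rw [Scheme.Hom.quasiFiniteAt_iff_isOpen_singleton_asFiber]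
  have hd : _root_.IsDiscrete (g.base ⁻¹' {(default : Spec ((Y.residueField (f.base x))))}) :=
    g.isDiscrete_preimage_singleton _
  rw [show g.base ⁻¹' {(default : Spec ((Y.residueField (f.base x))))} = Set.univ from
    Set.eq_univ_of_forall fun z => Subsingleton.elim (g.base z) _, isDiscrete_univ_iff] at hd
  exact isOpen_discrete _

/-- A homomorphism of group varieties which is proper and quasi-finite somewhere is an isogeny. -/
lemma surjective_of_quasiFiniteAt {K : Type u} [Field K] {X Y : Scheme.{u}} [IsIntegral X] [IsIntegral Y]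
    (f : X ⟶ Y) (q : Y ⟶ Spec (CommRingCat.of K)) [LocallyOfFiniteType q] [IsProper f]
    (hdim : topologicalKrullDim X = topologicalKrullDim Y) {x : X} (hx : f.QuasiFiniteAt x) :
    Surjective f := by
  let U : X.Opens := f.quasiFiniteLocus
  have : Nonempty U := ⟨⟨x, hx⟩⟩
  have : LocallyQuasiFinite (U.ι ≫ f) := by
    rw [locallyQuasiFinite_iff_isDiscrete_preimage_singleton]
    intro y
    refine isDiscrete_iff_forall_mem_exists_isOpen.2 fun z hz => ?_
    have hz' : f.QuasiFiniteAt (U.ι.base z) := z.2
    rw [Scheme.Hom.quasiFiniteAt_iff_isOpen_singleton_asFiber,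
      ← (f.fiberHomeo (f.base (U.ι.base z))).isOpen_image] at hz'
    obtain ⟨V, hV, hV'⟩ := isOpen_induced_iff.1 hz'
    refine ⟨U.ι.base ⁻¹' V, hV.preimage U.ι.continuous, ?_⟩
    ext w
    have hy : f.base (U.ι.base z) = y := hz
    constructor
    · rintro ⟨hw1, hw2⟩
      have hw : f.base (U.ι.base w) = f.base (U.ι.base z) := hy.symm ▸ (hw2 : _)
      have := hV'.le (show (⟨U.ι.base w, hw⟩ : f.base ⁻¹' {f.base (U.ι.base z)}) ∈
        (Subtype.val ⁻¹' V) from hw1)
      obtain ⟨a, ha, ha'⟩ := this
      rw [Set.mem_singleton_iff.1 ha] at ha'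
      have := congrArg Subtype.val ha'
      simp only [Scheme.Hom.asFiber, Homeomorph.apply_symm_apply] at this
      exact U.ι.isOpenEmbedding.injective this.symm
    · rintro rfl
      refine ⟨?_, hy⟩
      have := hV'.ge ⟨_, rfl, rfl⟩
      simpa [Scheme.Hom.asFiber, Scheme.Hom.fiberHomeo] using this
  obtain ⟨n, hn, hn'⟩ := GrothLib.Dim.dim_closure_range_eq (U.ι ≫ f) q
  obtain ⟨m, hm, hmU⟩ := GrothLib.Dim.exists_nat_dim_open (f ≫ q)
  have hd : topologicalKrullDim Y = n := by
    rw [← hdim, hm, ← hmU U inferInstance]; exact hn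
  have h' := GrothLib.Dim.eq_univ_of_dim_le isClosed_closure (hd.trans hn'.symm).le hn'
  refine ⟨fun y => ?_⟩
  have hy : y ∈ Set.range f.base := by
    rw [← f.isClosedMap.isClosed_range.closure_eq]
    refine closure_mono ?_ (h'.ge (Set.mem_univ y))
    rintro _ ⟨z, rfl⟩
    exact ⟨U.ι.base z, rfl⟩
  exact hy

/-- Let R be a discrete valuation ring with fraction field K, let N and N' be group schemes over Spec R
which are Néron models of their generic fibres A = N_K and B = N'_K, abelian varieties (proper and
geometrically integral) of the same dimension, and let u : N → N' be a homomorphism (the extension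
of u_K : A → B). If the homomorphism induced by u on the special fibres is locally quasi-finite — as
it is when it restricts to an isogeny between the identity components, the printed hypothesis, which
also forces dim A = dim B — then u_K is an isogeny: its underlying map is surjective and its kernel
is finite. -/
theorem result (R K : Type u) [CommRing R] [IsDomain R]
    [IsDiscreteValuationRing R] [Field K] [Algebra R K] [IsFractionRing R K]
    (N N' : Over (Spec (CommRingCat.of R))) [GrpObj N] [GrpObj N']
    (hN : SGA7.IsNeron R K N) (hN' : SGA7.IsNeron R K N')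
    [IsProper ((SGA7.genFib R K).obj N).hom] [GeometricallyIntegral ((SGA7.genFib R K).obj N).hom]
    [IsProper ((SGA7.genFib R K).obj N').hom] [GeometricallyIntegral ((SGA7.genFib R K).obj N').hom]
    (hdim : topologicalKrullDim ↥((SGA7.genFib R K).obj N).left = topologicalKrullDim ↥((SGA7.genFib R K).obj N').left)
    (u : N ⟶ N') [IsMonHom u]
    [LocallyQuasiFinite (SGA7.fibreHom (IsLocalRing.closedPoint R) u).left] :
    SGA7.IsIsogenyOver ((SGA7.genFib R K).map u) := by
  obtain ⟨hNs, hNsep, hNqc, -⟩ := hN
  obtain ⟨hN's, hN'sep, hN'qc, -⟩ := hN'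
  let s := IsLocalRing.closedPoint R
  let us := SGA7.fibreHom s u
  let κ := (Spec (CommRingCat.of R)).fromSpecResidueField s
  let κn : (Red.bc κ N).left ⟶ N.left := pullback.fst N.hom κ
  let κt : (Red.bc κ N').left ⟶ N'.left := pullback.fst N'.hom κ
  have hsq : us.left ≫ κt = κn ≫ u.left := pullback.lift_fst _ _ _
  haveI : LocallyOfFiniteType (u.left ≫ N'.hom) := by rw [Over.w u]; infer_instance
  haveI : LocallyOfFiniteType u.left := locallyOfFiniteType_of_comp u.left N'.hom
  haveI : QuasiCompact (pullback.snd N.hom κ) := MorphismProperty.pullback_snd _ _ hNqc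
  haveI : IsSeparated (pullback.snd N'.hom κ) := MorphismProperty.pullback_snd _ _ hN'sep
  haveI : QuasiCompact (us.left ≫ pullback.snd N'.hom κ) := by
    rw [show us.left ≫ pullback.snd N'.hom κ = pullback.snd N.hom κ from pullback.lift_snd _ _ _]
    infer_instance
  haveI : QuasiCompact us.left := QuasiCompact.of_comp us.left (pullback.snd N'.hom κ)
  -- the unit section
  let eN : Spec (CommRingCat.of R) ⟶ N.left := η[N].left
  have heN : eN ≫ N.hom = 𝟙 _ := Over.w η[N]
  have heN_apply : ∀ p, N.hom.base (eN.base p) = p := fun p =>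
    congrArg (fun m => m.base p) heN
  have hqs : u.left.QuasiFiniteAt (eN.base s) := by
    apply quasiFiniteAt_of_finite
    refine (((us.left.finite_preimage ((Set.finite_singleton (u.left.base (eN.base s))).preimage
      (f := κt.base) κt.isEmbedding.injective.injOn)).image κn.base).subset ?_)
    intro a ha
    have ha' : u.left.base a = u.left.base (eN.base s) := ha
    have h1 : N'.hom.base (u.left.base a) = N.hom.base a := congrArg (fun m => m.base a) (Over.w u)
    have h2 : N'.hom.base (u.left.base (eN.base s)) = N.hom.base (eN.base s) :=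
      congrArg (fun m => m.base (eN.base s)) (Over.w u)
    have h3 : N.hom.base a = s := by rw [← h1, ha', h2, heN_apply]
    obtain ⟨b, hb⟩ : a ∈ Set.range κn.base := by
      have h4 : N.hom.base a ∈ Set.range κ.base := by
        rw [Scheme.range_fromSpecResidueField]; exact h3
      obtain ⟨c, hc⟩ := h4
      obtain ⟨b, hb, -⟩ := Scheme.Pullback.exists_preimage_pullback (f := N.hom) (g := κ) a c hc.symm
      exact ⟨b, hb⟩
    refine ⟨b, ?_, hb⟩
    show κt.base (us.left.base b) = _
    exact (congrArg (fun m => m.base b) hsq).trans ((congrArg u.left.base hb).trans ha')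
  let ηR := genericPoint (Spec (CommRingCat.of R))
  have hqη : u.left.QuasiFiniteAt (eN.base ηR) := by
    have hsp : eN.base ηR ⤳ eN.base s :=
      ((genericPoint_spec (Spec (CommRingCat.of R))).specializes trivial).map eN.continuous
    exact hsp.mem_open u.left.quasiFiniteLocus.2 hqs
  -- the generic fibre
  let gm := Spec.map (CommRingCat.ofHom (algebraMap R K))
  obtain ⟨ϖ, hϖ⟩ := IsDiscreteValuationRing.exists_irreducible R
  haveI : IsLocalization (Submonoid.powers ϖ) K :=
    IsLocalization.iff_of_le_of_exists_dvd (M := Submonoid.powers ϖ) (N := nonZeroDivisors R)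
      (S := K) (Submonoid.powers_le.2 (mem_nonZeroDivisors_of_ne_zero hϖ.ne_zero))
      (fun x hx => by
        obtain ⟨n, hn⟩ := IsDiscreteValuationRing.associated_pow_irreducible (nonZeroDivisors.ne_zero hx) hϖ
        exact ⟨ϖ ^ n, ⟨n, rfl⟩, hn.dvd⟩) |>.2 inferInstance
  haveI : IsLocalization.Away ϖ K := by assumption
  haveI : IsOpenImmersion gm := IsOpenImmersion.of_isLocalization ϖ
  let A := (SGA7.genFib R K).obj N
  let B := (SGA7.genFib R K).obj N'
  let v := (SGA7.genFib R K).map u
  have hsqK : v.left ≫ pullback.fst N'.hom gm = pullback.fst N.hom gm ≫ u.left := pullback.lift_fst _ _ _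
  obtain ⟨a, ha⟩ : eN.base ηR ∈ Set.range (pullback.fst N.hom gm).base := by
    rw [Scheme.Pullback.range_fst]
    refine ⟨default, ?_⟩
    rw [heN_apply]
    refine Eq.trans ?_ (genericPoint_eq_bot_of_affine (CommRingCat.of R)).symm
    refine PrimeSpectrum.ext ?_
    have hd : ((default : Spec (CommRingCat.of K)) : PrimeSpectrum K).asIdeal = ⊥ :=
      (Ideal.eq_bot_or_top _).resolve_right (default : Spec (CommRingCat.of K)).isPrime.ne_top
    refine Eq.trans (congrArg (Ideal.comap (algebraMap R K)) hd) ?_
    exact Ideal.comap_bot_of_injective _ (IsFractionRing.injective R K)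
  have hqa : v.left.QuasiFiniteAt a := by
    rw [← Scheme.Hom.quasiFiniteAt_comp_iff (g := pullback.fst N'.hom gm), hsqK,
      Scheme.Hom.quasiFiniteAt_comp_iff_of_isOpenImmersion]
    exact ha ▸ hqη
  haveI : Smooth A.hom := MorphismProperty.pullback_snd _ _ hNs
  haveI : IsProper (v.left ≫ B.hom) := by rw [Over.w]; infer_instance
  haveI : IsProper v.left := IsProper.of_comp v.left B.hom
  haveI : IsIntegral A.left := GeometricallyIntegral.isIntegral_of_subsingleton A.hom
  haveI : IsIntegral B.left := GeometricallyIntegral.isIntegral_of_subsingleton B.hom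
  haveI hsurj : Surjective v.left := surjective_of_quasiFiniteAt v.left B.hom hdim hqa
  haveI : IsFinite v.left := GrothLib.Rigidity.isFinite_of_dim_eq A B v hdim
  refine ⟨hsurj, fun M i hM => ?_⟩
  have hp : IsPullback i.left (CartesianMonoidalCategory.toUnit M).left v.left η[B].left := hM.map (Over.forget _)
  have : IsFinite (CartesianMonoidalCategory.toUnit M).left := MorphismProperty.of_isPullback (P := @IsFinite) hp inferInstance
  exact this

end Groth.Agent.S17459
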