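import Groth.Statements.S17462
import Groth.Agent.Lib.EtLocal.HenselPart
-- import your own Groth.Agent.* helpers here

set_option autoImplicit false
set_option backward.isDefEq.respectTransparency false
universe u
open CategoryTheory CategoryTheory.Limits AlgebraicGeometry
open Hensel

namespace Groth.Agent.S17462

/-- Let R be a henselian local ring and let X and Y be quasi-finite separated schemes over Spec R
(locally of finite type, quasi-compact, with discrete fibres, separated), with finite parts W_X ⊆ X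
and W_Y ⊆ Y (open and closed subsets, finite over Spec R as open subschemes, containing every point
over the closed point). If W ⊆ X ×_R Y is the finite part of the fibre product (same three
conditions, for the structure morphism of X ×_R Y), then W = W_X ×_R W_Y: a point of X ×_R Y lies in
W if and only if its first projection lies in W_X and its second projection lies in W_Y. -/
theorem result (R : Type u) [CommRing R] [HenselianLocalRing R]
    {X Y : Scheme.{u}} (f : X ⟶ Spec (CommRingCat.of R)) (f' : Y ⟶ Spec (CommRingCat.of R))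
    [LocallyQuasiFinite f] [LocallyOfFiniteType f] [QuasiCompact f] [IsSeparated f]
    [LocallyQuasiFinite f'] [LocallyOfFiniteType f'] [QuasiCompact f'] [IsSeparated f']
    (WX : X.Opens) (hWX : (IsClosed (WX : Set ↥X) ∧ IsFinite (WX.ι ≫ f) ∧ ∀ x : ↥X, f.base x = IsLocalRing.closedPoint R → x ∈ WX))
    (WY : Y.Opens) (hWY : (IsClosed (WY : Set ↥Y) ∧ IsFinite (WY.ι ≫ f') ∧ ∀ x : ↥Y, f'.base x = IsLocalRing.closedPoint R → x ∈ WY))
    (W : (pullback f f').Opens)
    (hW : (IsClosed (W : Set ↥(pullback f f')) ∧ IsFinite (W.ι ≫ (pullback.fst f f' ≫ f)) ∧ ∀ x : ↥(pullback f f'), (pullback.fst f f' ≫ f).base x = IsLocalRing.closedPoint R → x ∈ W))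
    (z : ↥(pullback f f')) :
    z ∈ W ↔ ((pullback.fst f f').base z ∈ WX ∧ (pullback.snd f f').base z ∈ WY) := by
  refine ⟨fun hz => ?_, fun ⟨h1, h2⟩ => ?_⟩
  · haveI := hW.2.1
    obtain ⟨z', hzz', hz'⟩ := GrothLib.EtLocal.exists_specializes_of_isFinite_part (pullback.fst f f' ≫ f) W z hz
    refine ⟨(hzz'.map (pullback.fst f f').continuous).mem_open WX.2 (hWX.2.2 _ ?_),
      (hzz'.map (pullback.snd f f').continuous).mem_open WY.2 (hWY.2.2 _ ?_)⟩
    · rw [← Scheme.Hom.comp_apply]; exact hz'
    · rw [← Scheme.Hom.comp_apply, ← pullback.condition]; exact hz'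
  · haveI := hWX.2.1
    haveI := hWY.2.1
    let m : pullback (WX.ι ≫ f) (WY.ι ≫ f') ⟶ pullback f f' :=
      pullback.map _ _ f f' WX.ι WY.ι (𝟙 _) (by simp) (by simp)
    obtain ⟨z₀, rfl⟩ : z ∈ Set.range m := by
      rw [Scheme.Pullback.range_map]
      exact ⟨⟨⟨_, h1⟩, rfl⟩, ⟨⟨_, h2⟩, rfl⟩⟩
    obtain ⟨z₁, hz01, hz₁⟩ := GrothLib.EtLocal.exists_specializes_closedPoint
      (pullback.fst (WX.ι ≫ f) (WY.ι ≫ f') ≫ (WX.ι ≫ f)) z₀
    refine (hz01.map m.continuous).mem_open W.2 (hW.2.2 _ ?_)
    rw [← Scheme.Hom.comp_apply,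
      show m ≫ pullback.fst f f' ≫ f = pullback.fst (WX.ι ≫ f) (WY.ι ≫ f') ≫ WX.ι ≫ f by simp [m]]
    exact hz₁

end Groth.Agent.S17462
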