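import Groth.Statements.S17463
-- import your own Groth.Agent.* helpers here

set_option autoImplicit false
universe u v w
open SSRed

namespace Groth.Agent.S17463

theorem fixed_of_pow_fixed {K : Type*} {V : Type*} [Field K] [CharZero K] [AddCommGroup V] [Module K V]
    (g : Module.End K V) (n : ℕ) (hn : 0 < n) :
    ∀ (k : ℕ) (v : V), ((g - 1) ^ k) v = 0 → (g ^ n) v = v → (g - 1) v = 0 := by
  intro k
  induction k with
  | zero => intro v hv _; simp [show v = 0 by simpa using hv]
  | succ k ih =>
    intro v hk hfix
    rw [pow_succ, Module.End.mul_apply] at hk
    set u := (g - 1) v with hu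
    have hgu : (g ^ n) u = u := by
      rw [hu, ← Module.End.mul_apply, ((Commute.refl g).pow_left n |>.sub_right (Commute.one_right _)).eq,
        Module.End.mul_apply, hfix]
    have h0 := ih u hk hgu
    have hgu1 : g u = u := by simpa [sub_eq_zero] using h0
    have hiter : ∀ i : ℕ, (g ^ i) v = v + (i : K) • u := by
      intro i
      induction i with
      | zero => simp
      | succ i ih' =>
        rw [pow_succ', Module.End.mul_apply, ih', map_add, map_smul, hgu1]
        have : g v = v + u := by simp [hu]
        rw [this]; push_cast; module
    have := hiter n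
    rw [hfix, left_eq_add, smul_eq_zero] at this
    exact this.resolve_left (by exact_mod_cast hn.ne')


/-- Let K be a field of characteristic zero, V a K-vector space, G a group with a K-linear action ρ : G
→ GL(V) such that every ρ(g) is unipotent (ρ(g) - 1 is nilpotent), and H a subgroup of G of finite
index. Then the H-invariants equal the G-invariants: a vector fixed by every element of H is fixed
by every element of G. (In the source G and H are the absolute Galois groups of K and of a finite
extension K', acting unipotently on the rational ℓ-adic Tate module of an abelian variety.) -/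
theorem result (K : Type u) (V : Type v) (G : Type w) [Field K] [CharZero K]
    [AddCommGroup V] [Module K V] [Group G] (ρ : G →* (V ≃ₗ[K] V))
    (hunip : ∀ g : G, IsNilpotent (((ρ g : V ≃ₗ[K] V) : Module.End K V) - 1))
    (H : Subgroup G) [H.FiniteIndex] (v : V) (hv : ∀ h ∈ H, ρ h v = v) (g : G) :
    ρ g v = v := by
  obtain ⟨n, hn, -, hmem⟩ := Subgroup.exists_pow_mem_of_index_ne_zero (Subgroup.FiniteIndex.index_ne_zero (H := H)) g
  have h := hv _ hmem
  obtain ⟨N, hN⟩ := hunip g
  set e : Module.End K V := ((ρ g : V ≃ₗ[K] V) : Module.End K V) with he
  have hp : ∀ i : ℕ, (e ^ i) v = ρ (g ^ i) v := by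
    intro i
    induction i generalizing v with
    | zero => simp
    | succ i ih =>
      rw [pow_succ', Module.End.mul_apply, pow_succ', map_mul, ih v hv h]
      simp [he]
  have := fixed_of_pow_fixed e n hn N v (by rw [hN]; simp) (by rw [hp]; exact h)
  simpa [he, sub_eq_zero] using this

end Groth.Agent.S17463
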