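import Groth.Statements.S17464
-- import your own Groth.Agent.* helpers here
import Groth.Agent.Lib.HomTorus24.Basic

set_option autoImplicit false
universe u
open CategoryTheory MonoidalCategory CartesianMonoidalCategory MonObj GrpObj AlgebraicGeometry CategoryTheory.Limits
open AlgGrp

namespace Groth.Agent.S17464

/-- Let k be an algebraically closed field, T a k-torus and U a smooth connected affine k-group scheme
of finite type with a composition series whose successive quotients are additive groups: closed
subgroup schemes U_0 → U_1 → … → U_n = U (homomorphisms which are closed immersions, U_i ↦ U_{i+1}),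
with U_0 the trivial group, U_n identified with U by an isomorphism of group schemes, and each U_i
the kernel of a flat surjective homomorphism from U_{i+1} onto the additive group. Then every
homomorphism from U to T is the trivial one. (The published statement is over an arbitrary field for
a torus and a smooth connected unipotent group, unipotent meaning that such a composition series
exists over an algebraic closure; this row states the case of an algebraically closed base field.
The companion assertion, that homomorphisms from T to U are trivial, is an existing statement about
groups of multiplicative type.) -/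
theorem result (k : Type u) [Field k] [IsAlgClosed k]
    (T U : Over (Spec (CommRingCat.of k))) [GrpObj T] [GrpObj U] (hT : Red.IsTorus T)
    [Smooth U.hom] [QuasiCompact U.hom] [ConnectedSpace ↥U.left] [IsAffine U.left]
    (n : ℕ) (Us : Fin (n + 1) → Over (Spec (CommRingCat.of k))) [∀ i, GrpObj (Us i)]
    (h0 : Red.IsTrivialGrp (Us 0))
    (e : Us (Fin.last n) ≅ U) [IsMonHom e.hom]
    (incl : ∀ i : Fin n, Us i.castSucc ⟶ Us i.succ) [∀ i, IsMonHom (incl i)]
    [∀ i, IsClosedImmersion (incl i).left]
    (quot : ∀ i : Fin n, Us i.succ ⟶ Red.Ga (Spec (CommRingCat.of k))) [∀ i, IsMonHom (quot i)]
    [∀ i, Surjective (quot i).left] [∀ i, Flat (quot i).left]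
    (hker : ∀ i : Fin n, AlgGrp.IsKernel (incl i) (quot i))
    (f : U ⟶ T) [IsMonHom f] :
    f = 1 := by
  exact GrothLib.HomTorus24.hom_eq_one T U hT n Us h0 e incl quot hker f

end Groth.Agent.S17464
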