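import Groth.Statements.S17466
import Groth.Agent.Lib.NRGIT.MonAway
-- import your own Groth.Agent.* helpers here

set_option autoImplicit false
universe u v
open BigOperators
open NRGIT

namespace Groth.Agent.S17466

/-- Let A be a commutative algebra graded by the natural numbers, let σ_1, …, σ_n be homogeneous
elements of degree 1 and let s ≥ 1 be an integer such that, for every i, the degree-zero homogeneous
localisation of A away from σ_i is generated over A_0 by the fractions f / σ_i ^ s with f
homogeneous of degree s. Then for every exponent vector K = (k_1, …, k_n) with k_1 + ⋯ + k_n = s,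
the degree-zero homogeneous localisation of A away from the monomial σ^K = ∏ σ_i ^ (k_i) is
generated over A_0 by the fractions f / σ^K with f homogeneous of degree s. (Equivalently: the
natural map from the degree-zero localisation of the symmetric algebra on A_s, taken away from σ^K
viewed as an element of degree one, to the degree-zero localisation of A away from σ^K is
surjective. The published lemma concerns the algebra of invariant sections of the powers of a
linearised line bundle on an irreducible projective scheme over a field, with the σ_i a basis of a
weight space of sections, and concludes a closed immersion of a quotient into an open piece of a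
projective space; this row keeps only the graded-algebra step, for any commutative graded algebra,
with the base field replaced by A_0, which generates nothing new since a / 1 = a σ^s / σ^s for a of
degree zero.) -/
theorem result
    {R : Type u} {A : Type v} [CommRing R] [CommRing A] [Algebra R A]
    (𝒜 : ℕ → Submodule R A) [GradedAlgebra 𝒜]
    {n : ℕ} (σ : Fin n → A) (hσ : ∀ i, σ i ∈ 𝒜 1) {s : ℕ} (hs : 0 < s)
    (hgen : ∀ i, Algebra.adjoin (𝒜 0)
      {z : HomogeneousLocalization.Away 𝒜 (σ i) |
        ∃ f ∈ 𝒜 s, z.val = Localization.mk f ⟨σ i ^ s, Submonoid.pow_mem _ (Submonoid.mem_powers (σ i)) s⟩} = ⊤)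
    (K : Fin n → ℕ) (hK : ∑ i, K i = s) :
    Algebra.adjoin (𝒜 0)
      {z : HomogeneousLocalization.Away 𝒜 (∏ i, σ i ^ K i) |
        ∃ f ∈ 𝒜 s, z.val = Localization.mk f ⟨∏ i, σ i ^ K i, Submonoid.mem_powers _⟩} = ⊤ := by
  exact GrothLib.MonAway.adjoin_eq_top 𝒜 σ hσ hs hgen K hK

end Groth.Agent.S17466
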