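import Groth.Statements.S17467
import Groth.Agent.Lib.RatDesc5.Main
-- import your own Groth.Agent.* helpers here

set_option autoImplicit false
universe u
open CategoryTheory AlgebraicGeometry
open Variety

namespace Groth.Agent.S17467

/-- Let k be an algebraically closed field of characteristic zero, X and Y integral separated schemes of
finite type over k with Y normal, and f : X → Y a k-morphism surjective on points. A global function
s on X which takes equal values at any two k-rational points of X having the same image under f is
the pull-back of a global function on Y. (The published statement is phrased for set-theoretic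
sections of a vector bundle on Y whose pull-back along f is a regular section; that form reduces to
the present one locally on Y, and the present one is the case of the trivial line bundle.) -/
theorem result
    (k : Type u) [Field k] [IsAlgClosed k] [CharZero k]
    (X Y : Over (Spec (CommRingCat.of k)))
    [AlgebraicGeometry.IsIntegral X.left] [AlgebraicGeometry.IsIntegral Y.left]
    [LocallyOfFiniteType X.hom] [QuasiCompact X.hom] [IsSeparated X.hom]
    [LocallyOfFiniteType Y.hom] [QuasiCompact Y.hom] [IsSeparated Y.hom]
    (hY : Pi1.IsNormalScheme Y.left)
    (f : X ⟶ Y) (hf : Function.Surjective f.left.base)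
    (s : Γ(X.left, ⊤))
    (hs : ∀ x₁ x₂ : Spec (CommRingCat.of k) ⟶ X.left,
      x₁ ≫ X.hom = 𝟙 _ → x₂ ≫ X.hom = 𝟙 _ → x₁ ≫ f.left = x₂ ≫ f.left →
        x₁.appTop.hom s = x₂.appTop.hom s) :
    ∃ r : Γ(Y.left, ⊤), f.left.appTop.hom r = s := by
  exact GrothLib.RatDesc5.exists_appTop_eq (fun y => (hY y).2) f hf s hs

end Groth.Agent.S17467
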