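import Groth.Statements.S17468
import Mathlib.Algebra.Lie.Sl2
import Mathlib.Algebra.Lie.Semisimple.Basic
import Mathlib.Algebra.DirectSum.LinearMap
import Mathlib.LinearAlgebra.Eigenspace.Triangularizable
import Mathlib.Algebra.Lie.Weights.Linear
import Mathlib.LinearAlgebra.Trace
import Mathlib.Data.Nat.Choose.Basic

set_option autoImplicit false
universe u v w
open LieRep

namespace Groth.Agent.S17468

open LieModule Module

variable {k : Type u} [Field k] [IsAlgClosed k] [CharZero k]

theorem three_mul_sum (c : k) (N : ℕ) :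
    3 * ∑ i ∈ Finset.range N, (c - 2 * i) ^ 2 =
      3 * N * c ^ 2 - 6 * c * N * (N - 1) + 2 * N * (N - 1) * (2 * N - 1) := by
  induction N with
  | zero => simp
  | succ N ih => rw [Finset.sum_range_succ, mul_add, ih]; push_cast; ring

theorem sum_sq (n : ℕ) :
    ∑ i : Fin (n + 1), ((n : k) - 2 * (i : ℕ)) ^ 2 = 2 * (((n + 2).choose 3 : ℕ) : k) := by
  rw [Fin.sum_univ_eq_sum_range (fun i => ((n : k) - 2 * (i : ℕ)) ^ 2) (n + 1)]
  have h := three_mul_sum (n : k) (n + 1)
  have hc : ((n + 2).choose 3 : k) * 6 = (n + 2) * (n + 1) * n := by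
    have := Nat.descFactorial_eq_factorial_mul_choose (n + 2) 3
    simp [Nat.descFactorial, Nat.factorial] at this
    have h' : ((((n + 2).choose 3) * 6 : ℕ) : k) = (((n + 2) * (n + 1) * n : ℕ) : k) := by
      congr 1; linarith
    push_cast at h'
    exact h'
  have h3 : (3 : k) ≠ 0 := by norm_num
  apply mul_left_cancel₀ h3
  rw [h]
  push_cast
  linear_combination -hc

theorem trace_sq_irreducible {L : Type v} [LieRing L] [LieAlgebra k L] {h e f : L} (t : IsSl2Triple h e f)
    (hspan : t.toLieSubalgebra k = ⊤) (W : Type w) [AddCommGroup W] [Module k W] [LieRingModule L W]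
    [LieModule k L W] [FiniteDimensional k W] [LieModule.IsIrreducible k L W] :
    LinearMap.trace k W ((LieModule.toEnd k L W h) ^ 2) =
      2 * (((Module.finrank k W + 1).choose 3 : ℕ) : k) := by
  have : Nontrivial W := LieModule.nontrivial_of_isIrreducible k L W
  obtain ⟨μ, m, -, P⟩ := t.exists_hasPrimitiveVectorWith (R := k) (M := W)
  obtain ⟨n, hn⟩ := P.exists_nat
  let ψ : Fin (n + 1) → W := fun i => ((toEnd k L W f) ^ (i : ℕ)) m
  have hψ : ∀ i : Fin (n + 1), (toEnd k L W h).HasEigenvector ((n : k) - 2 * (i : ℕ)) (ψ i) := fun i => by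
    refine ⟨?_, P.pow_toEnd_f_ne_zero_of_eq_nat hn (Nat.lt_succ_iff.mp i.2)⟩
    rw [Module.End.mem_eigenspace_iff, toEnd_apply_apply, P.lie_h_pow_toEnd_f, hn]
  have hli : LinearIndependent k ψ :=
    (toEnd k L W h).eigenvectors_linearIndependent' (fun i : Fin (n + 1) => (n : k) - 2 * (i : ℕ))
      (fun a b hab => Fin.ext (by simpa using hab)) ψ hψ
  have hmem : ∀ j, ((toEnd k L W f) ^ j) m ∈ Submodule.span k (Set.range ψ) := by
    intro j
    rcases Nat.lt_or_ge j (n + 1) with hj | hj
    · exact Submodule.subset_span ⟨⟨j, hj⟩, rfl⟩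
    · obtain ⟨r, rfl⟩ := Nat.exists_eq_add_of_le hj
      have h0 := P.pow_toEnd_f_eq_zero_of_eq_nat hn
      rw [show ((toEnd k L W f) ^ (n + 1 + r)) m = ((toEnd k L W f) ^ r) (((toEnd k L W f) ^ (n + 1)) m) from by
        rw [← Module.End.mul_apply, ← pow_add, Nat.add_comm r], h0, map_zero]
      exact zero_mem _
  have hstable : ∀ x : L, ∀ w ∈ Submodule.span k (Set.range ψ), ⁅x, w⁆ ∈ Submodule.span k (Set.range ψ) := by
    intro x w hw
    have hx : x ∈ t.toLieSubalgebra k := hspan ▸ LieSubalgebra.mem_top x
    obtain ⟨c₁, c₂, c₃, rfl⟩ := t.mem_toLieSubalgebra_iff.mp hx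
    induction hw using Submodule.span_induction with
    | mem y hy =>
      obtain ⟨i, rfl⟩ := hy
      rw [t.lie_e_f, add_lie, add_lie, smul_lie, smul_lie, smul_lie]
      refine add_mem (add_mem (Submodule.smul_mem _ _ ?_) (Submodule.smul_mem _ _ ?_)) (Submodule.smul_mem _ _ ?_)
      · rcases Nat.eq_zero_or_pos (i : ℕ) with hi | hi
        · simp [ψ, hi, P.lie_e]
        · obtain ⟨r, hr⟩ : ∃ r, (i : ℕ) = r + 1 := ⟨i - 1, by omega⟩
          simp only [ψ, hr, P.lie_e_pow_succ_toEnd_f]
          exact Submodule.smul_mem _ _ (hmem r)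
      · simp only [ψ, P.lie_f_pow_toEnd_f]
        exact hmem _
      · simp only [ψ, P.lie_h_pow_toEnd_f]
        exact Submodule.smul_mem _ _ (hmem _)
    | zero => simp
    | add a b _ _ ha hb => rw [lie_add]; exact add_mem ha hb
    | smul r a _ ha => rw [lie_smul]; exact Submodule.smul_mem _ r ha
  let N : LieSubmodule k L W :=
    { Submodule.span k (Set.range ψ) with lie_mem := fun {x w} hw => hstable x w hw }
  have hN : N = ⊤ := by
    rcases IsSimpleOrder.eq_bot_or_eq_top N with hb | hb
    · exfalso
      have : ψ 0 ∈ N := Submodule.subset_span ⟨0, rfl⟩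
      rw [hb, LieSubmodule.mem_bot] at this
      exact P.ne_zero (by simpa [ψ] using this)
    · exact hb
  have htop : ⊤ ≤ Submodule.span k (Set.range ψ) := fun x _ => by
    have : x ∈ N := hN ▸ LieSubmodule.mem_top x
    exact this
  let b := Module.Basis.mk hli htop
  have hfr : Module.finrank k W = n + 1 := by rw [Module.finrank_eq_card_basis b, Fintype.card_fin]
  rw [hfr, LinearMap.trace_eq_matrix_trace k b, ← sum_sq n, Matrix.trace]
  refine Finset.sum_congr rfl fun i _ => ?_
  have happ : ((toEnd k L W h) ^ 2) (b i) = (((n : k) - 2 * (i : ℕ)) ^ 2) • b i := by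
    rw [Module.Basis.mk_apply]
    exact (hψ i).pow_apply 2
  rw [Matrix.diag_apply, LinearMap.toMatrix_apply, happ, map_smul, Module.Basis.repr_self]
  simp

/-- Let k be an algebraically closed field of characteristic zero, L a Lie algebra over k spanned by an
sl_2-triple (h, e, f), and V a finite-dimensional L-module written as an internal direct sum of
finitely many irreducible Lie submodules V_i. Then the trace on V of the square of the action of h
is 2 Σ_i C(dim V_i + 1, 3). (The published statement concerns a finite-dimensional representation V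
of a simple Lie algebra restricted to the copy of sl_2 attached to the highest root θ, with h the
coroot θ^∨; there Σ_i C(dim V_i + 1, 3) is the index of V, and the trace is the sum over the weights
λ of V, with multiplicity, of ⟨λ, θ^∨⟩².) -/
theorem result
    (k : Type u) [Field k] [IsAlgClosed k] [CharZero k]
    (L : Type v) [LieRing L] [LieAlgebra k L]
    (h e f : L) (t : IsSl2Triple h e f) (hspan : t.toLieSubalgebra k = ⊤)
    (V : Type w) [AddCommGroup V] [Module k V] [LieRingModule L V] [LieModule k L V]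
    [FiniteDimensional k V]
    (ι : Type) [Fintype ι] [DecidableEq ι] (W : ι → LieSubmodule k L V)
    (hW : DirectSum.IsInternal fun i => (W i).toSubmodule)
    (hirr : ∀ i, LieModule.IsIrreducible k L (W i)) :
    LinearMap.trace k V ((LieModule.toEnd k L V h) ^ 2) =
      2 * ∑ i, (((Module.finrank k (W i) + 1).choose 3 : ℕ) : k) := by
  rw [LinearMap.trace_eq_sum_trace_restrict hW
    (f := (LieModule.toEnd k L V h) ^ 2)
    (fun i w hw => by
      rw [pow_two, Module.End.mul_apply]
      exact (W i).lie_mem ((W i).lie_mem hw)), Finset.mul_sum]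
  refine Finset.sum_congr rfl fun i _ => ?_
  haveI := hirr i
  rw [← trace_sq_irreducible t hspan (W i)]
  congr 1

end Groth.Agent.S17468
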