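import Groth.Agent.Lib.Stein.Fibration

set_option autoImplicit false
universe u
open CategoryTheory AlgebraicGeometry
open TopologicalSpace

namespace Groth.Agent.S17469

/-- Let X be a locally Noetherian integral scheme all of whose local rings are integrally closed domains
and U an open subset of X. A section of O_X over U that is integral over the ring of global sections
of X, the latter acting through restriction, is itself the restriction of a global section. (The
published lemma is stated for an irreducible normal variety and for the graded ring of sections over
U of all non-negative powers of a line bundle, integral over the corresponding ring of sections over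
X; for the trivial line bundle its homogeneous components are the present statement, which is made
here for any locally Noetherian normal integral scheme.) -/
theorem result
    (X : Scheme.{u}) [AlgebraicGeometry.IsIntegral X] [IsLocallyNoetherian X]
    (hX : Pi1.IsNormalScheme X) (U : X.Opens) (b : Γ(X, U))
    (hb : (X.presheaf.map (homOfLE le_top : U ⟶ ⊤).op).hom.IsIntegralElem b) :
    b ∈ Set.range (X.presheaf.map (homOfLE le_top : U ⟶ ⊤).op).hom := by
  rcases (U : Set X).eq_empty_or_nonempty with he | ⟨x₀, hx₀⟩
  · have he' : U = ⊥ := SetLike.coe_injective he
    subst he'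
    exact ⟨0, Subsingleton.elim _ _⟩
  haveI : Nonempty U := ⟨⟨x₀, hx₀⟩⟩
  have hη : genericPoint X ∈ U := (genericPoint_specializes x₀).mem_open U.2 hx₀
  let β : X.functionField := X.presheaf.germ U (genericPoint X) hη b
  have hβ : (X.presheaf.germ ⊤ (genericPoint X) trivial).hom.IsIntegralElem β := by
    obtain ⟨q, hq, hq0⟩ := hb
    refine ⟨q, hq, ?_⟩
    have h1 := congrArg (X.presheaf.germ U (genericPoint X) hη).hom hq0
    rw [map_zero, Polynomial.hom_eval₂] at h1
    rw [← CommRingCat.hom_comp, TopCat.Presheaf.germ_res] at h1
    exact h1
  have hst : ∀ z ∈ (⊤ : X.Opens), ∃ c : X.presheaf.stalk z,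
      X.presheaf.stalkSpecializes (genericPoint_specializes z) c = β := by
    intro z _
    haveI := (hX z).2
    have hint : IsIntegral (X.presheaf.stalk z) β := by
      obtain ⟨q, hq, hq0⟩ := hβ
      refine ⟨q.map (X.presheaf.germ ⊤ z trivial).hom, hq.map _, ?_⟩
      rw [Polynomial.eval₂_map]
      convert hq0 using 2
      ext r
      exact TopCat.Presheaf.germ_stalkSpecializes_apply X.presheaf _ (genericPoint_specializes z) r
    obtain ⟨c, hc⟩ := IsIntegrallyClosed.isIntegral_iff.1 hint
    exact ⟨c, hc⟩
  obtain ⟨s, hs⟩ := GrothLib.Stein.exists_section_of_mem_stalks (U := ⊤) (x₀ := x₀) trivial β hst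
  refine ⟨s, germ_injective_of_isIntegral X (genericPoint X) hη ?_⟩
  exact (TopCat.Presheaf.germ_res_apply X.presheaf (homOfLE le_top) (genericPoint X) hη s).trans hs

end Groth.Agent.S17469
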