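import Groth.Statements.S17471
import Mathlib.LinearAlgebra.RootSystem.Chain
import Mathlib.LinearAlgebra.RootSystem.Finite.Lemmas
import Mathlib.Tactic.Module

set_option autoImplicit false
universe u v w x
open RootCh

namespace Groth.Agent.S17471

/-- Let Φ be a finite, reduced, crystallographic, irreducible root system with a base, and θ a positive
root such that θ + β is a root for no positive root β (so θ is the highest root). Then Σ_{β>0} ⟨β,
θ^∨⟩² = 2 + Σ_{β>0} ⟨β, θ^∨⟩ = 2(1 + ⟨ρ, θ^∨⟩), ρ being half the sum of the positive roots; in the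
source the left side is the index of the adjoint representation obtained from its formal character,
and 1 + ⟨ρ, θ^∨⟩ is the dual Coxeter number. -/
theorem result
    {ι : Type u} {R : Type v} {M : Type w} {N : Type x}
    [Field R] [LinearOrder R] [IsStrictOrderedRing R]
    [AddCommGroup M] [Module R M] [AddCommGroup N] [Module R N] [Fintype ι]
    (P : RootPairing ι R M N) [P.IsRootSystem] [P.IsCrystallographic] [P.IsReduced]
    [P.IsIrreducible] (b : P.Base) (θ : ι) (hθ : b.IsPos θ)
    (hmax : ∀ i : ι, b.IsPos i → P.root θ + P.root i ∉ Set.range P.root) :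
    ∑ i ∈ Finset.univ.filter (fun i => 0 < b.height i), P.pairing i θ ^ 2 =
      2 + ∑ i ∈ Finset.univ.filter (fun i => 0 < b.height i), P.pairing i θ := by
  classical
  have hθs : b.height θ ≠ 0 := b.height_ne_zero θ
  have hnonneg : ∀ i, b.IsPos i → 0 ≤ P.pairingIn ℤ i θ := by
    intro i hi
    by_contra h
    have hne : P.root i ≠ -P.root θ := by
      intro e
      have := (RootPairing.Base.IsPos.neg_iff_not b θ)
      have hk : i = P.reflectionPerm θ θ := P.root.injective (by
        rw [e, RootPairing.root_reflectionPerm, RootPairing.reflection_apply_self])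
      exact this.1 (show b.IsPos (P.reflectionPerm θ θ) by rw [← hk]; exact hi) hθ
    refine hmax i hi ?_
    rw [add_comm]
    exact P.root_add_root_mem_of_pairingIn_neg (lt_of_not_ge h) hne
  have hle : ∀ i, b.IsPos i → i ≠ θ → P.pairingIn ℤ i θ ≤ 1 := by
    intro i hi hne
    by_contra h
    have h2 : 2 ≤ P.pairingIn ℤ i θ := by omega
    obtain ⟨γ, hγ⟩ := P.root_sub_root_mem_of_pairingIn_pos (by omega : 0 < P.pairingIn ℤ i θ) hne
    have hγn : ¬ b.IsPos γ := fun hp => hmax γ hp ⟨i, by rw [hγ]; abel⟩
    have hneg : P.root i ≠ -P.root θ := by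
      intro e
      have hk : i = P.reflectionPerm θ θ := P.root.injective (by
        rw [e, RootPairing.root_reflectionPerm, RootPairing.reflection_apply_self])
      exact (RootPairing.Base.IsPos.neg_iff_not b θ).1 (show b.IsPos (P.reflectionPerm θ θ) by rw [← hk]; exact hi) hθ
    have hli : LinearIndependent R ![P.root θ, P.root i] := by
      by_contra hdep
      rcases RootPairing.IsReduced.eq_or_eq_neg (P := P) θ i hdep with e | e
      · exact hne (P.root.injective e.symm)
      · exact hneg (by rw [e, neg_neg])
    have hbot := P.chainBotCoeff_sub_chainTopCoeff hli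
    obtain ⟨δ, hδ⟩ := (P.root_add_zsmul_mem_range_iff hli (z := -2)).2
      ⟨by omega, by omega⟩
    refine hmax (P.reflectionPerm γ γ) ((RootPairing.Base.IsPos.neg_iff_not b γ).2 hγn)
      ⟨P.reflectionPerm δ δ, ?_⟩
    rw [RootPairing.root_reflectionPerm, RootPairing.reflection_apply_self,
      RootPairing.root_reflectionPerm, RootPairing.reflection_apply_self, hδ, hγ]
    module
  have key : ∀ i, 0 < b.height i →
      P.pairing i θ ^ 2 = (if i = θ then 2 else 0) + P.pairing i θ := by
    intro i hi
    split_ifs with h
    · subst h; rw [RootPairing.pairing_same]; ring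
    · rw [← P.algebraMap_pairingIn ℤ]
      obtain e | e : P.pairingIn ℤ i θ = 0 ∨ P.pairingIn ℤ i θ = 1 := by
        have := hnonneg i hi; have := hle i hi h; omega
      all_goals simp [e]
  rw [Finset.sum_congr rfl fun i hi => key i (Finset.mem_filter.1 hi).2, Finset.sum_add_distrib,
    Finset.sum_ite_eq', if_pos]
  exact Finset.mem_filter.2 ⟨Finset.mem_univ θ, hθ⟩

end Groth.Agent.S17471
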