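import Groth.Statements.S17472
import Groth.Agent.Lib.AffQuot.Points
import Mathlib

set_option autoImplicit false
universe u
open HopfAlg

namespace Groth.Agent.S17472

/-- Let k be an algebraically closed field and A a commutative Hopf algebra over k, finitely generated
as a k-algebra, whose only idempotents are 0 and 1 (so that Spec A is a connected affine algebraic
group over k, possibly non-reduced). Let m be the kernel of the counit, the ideal of the neutral
element. Then the intersection of the powers m^n, n ≥ 0, is the zero ideal; equivalently the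
infinitesimal neighbourhoods Spec (A/m^n) of the neutral element are jointly schematically dense.
(The published statement assumes the group smooth, that is, a connected linear algebraic group; the
statement here allows any connected affine algebraic group, possibly non-reduced, a case the
published argument also treats.) -/
theorem result (k : Type u) [Field k] [IsAlgClosed k]
    (A : Type u) [CommRing A] [HopfAlgebra k A] [Algebra.FiniteType k A]
    (hconn : ∀ e : A, IsIdempotentElem e → e = 0 ∨ e = 1) :
    (⨅ n : ℕ, RingHom.ker (Bialgebra.counitAlgHom k A) ^ n) = ⊥ := by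
  classical
  set m := RingHom.ker (Bialgebra.counitAlgHom k A) with hm
  haveI : IsNoetherianRing A := Algebra.FiniteType.isNoetherianRing k A
  let T : (A →ₐ[k] k) → (A →ₐ[k] A) := fun g =>
    (WithConv.toConv (AlgHom.id k A) * WithConv.toConv ((Algebra.ofId k A).comp g)).ofConv
  have hTT : ∀ h g, (T h).comp (T g) = T (WithConv.toConv h * WithConv.toConv g).ofConv := by
    intro h g
    apply WithConv.toConv_injective
    show WithConv.toConv ((T h).comp (WithConv.toConv (AlgHom.id k A) * WithConv.toConv ((Algebra.ofId k A).comp g)).ofConv) = _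
    rw [AlgHom.comp_convMul_distrib, AlgHom.comp_id, ← AlgHom.comp_assoc,
      show (T h).comp (Algebra.ofId k A) = Algebra.ofId k A from AlgHom.ext fun c => (T h).commutes c]
    show WithConv.toConv (AlgHom.id k A) * WithConv.toConv ((Algebra.ofId k A).comp h) * WithConv.toConv ((Algebra.ofId k A).comp g) = _
    simp only [T, WithConv.toConv_ofConv]
    rw [AlgHom.comp_convMul_distrib, WithConv.toConv_ofConv, mul_assoc]
  let e : A →ₐ[k] k := Bialgebra.counitAlgHom k A
  have heT : ∀ g a, e (T g a) = g a := fun g a => by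
    have h : e.comp (T g) = g := by
      apply WithConv.toConv_injective
      simp only [T]
      rw [AlgHom.comp_convMul_distrib, AlgHom.comp_id, ← AlgHom.comp_assoc, show e.comp (Algebra.ofId k A) = AlgHom.id k k from AlgHom.ext fun c => e.commutes c, AlgHom.id_comp, WithConv.toConv_ofConv]
      exact one_mul _
    exact AlgHom.congr_fun h a
  have hT1 : T e = AlgHom.id k A := by
    apply WithConv.toConv_injective
    simp only [T, WithConv.toConv_ofConv]
    rw [show WithConv.toConv ((Algebra.ofId k A).comp e) = 1 from rfl, mul_one]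
  -- the kernel of the localisation at the identity and a function killing it
  have hI : ∀ x : A, x ∈ (⨅ n : ℕ, m ^ n) → ∃ r ∈ m, r * x = x := fun x hx => by
    have h : x ∈ (⨅ n : ℕ, m ^ n • ⊤ : Submodule A A) := by simpa using hx
    obtain ⟨⟨r, hr⟩, hrx⟩ := (Ideal.mem_iInf_smul_pow_eq_bot_iff (I := m) x).1 h
    exact ⟨r, hr, hrx⟩
  let I : Ideal A :=
    { carrier := {x | ∃ u, e u ≠ 0 ∧ u * x = 0}
      zero_mem' := ⟨1, by simp [e], by simp⟩
      add_mem' := fun {a b} ⟨u, hu, hua⟩ ⟨v, hv, hvb⟩ => ⟨u * v, by rw [map_mul]; exact mul_ne_zero hu hv, by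
        rw [mul_add, show u * v * a = v * (u * a) by ring, hua, show u * v * b = u * (v * b) by ring, hvb]; simp⟩
      smul_mem' := fun c x ⟨u, hu, hux⟩ => ⟨u, hu, by rw [smul_eq_mul, mul_left_comm, hux, mul_zero]⟩ }
  obtain ⟨u, hu, huI⟩ : ∃ u, e u ≠ 0 ∧ ∀ x ∈ I, u * x = 0 := by
    obtain ⟨s, hs⟩ := (IsNoetherian.noetherian I : I.FG)
    choose v hv hvx using fun x : s => (show (x : A) ∈ I from hs ▸ Ideal.subset_span x.2)
    refine ⟨∏ x, v x, by rw [map_prod]; exact Finset.prod_ne_zero_iff.2 fun x _ => hv x, fun x hx => ?_⟩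
    rw [← hs] at hx
    induction hx using Submodule.span_induction with
    | mem x hx =>
      rw [← Finset.prod_erase_mul _ _ (Finset.mem_univ (⟨x, hx⟩ : s)), mul_assoc, hvx, mul_zero]
    | zero => rw [mul_zero]
    | add a b _ _ ha hb => rw [mul_add, ha, hb, add_zero]
    | smul c a _ ha => rw [smul_eq_mul, mul_left_comm, ha, mul_zero]
  rw [eq_bot_iff]
  intro x hx
  obtain ⟨r, hr, hrx⟩ := hI x hx
  let K : Ideal A := (⊥ : Ideal A).colon {x}
  have hK : ∀ a, a ∈ K ↔ a * x = 0 := fun a => by simp [K, Submodule.mem_colon_singleton]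
  -- vanishing near a point spreads to its translates
  have hvan : ∀ g : A →ₐ[k] k, (∃ a ∈ K, g a ≠ 0) ↔ T g x ∈ I := by
    intro g
    constructor
    · rintro ⟨a, ha, hga⟩
      exact ⟨T g a, by rw [heT]; exact hga, by rw [← map_mul, (hK a).1 ha, map_zero]⟩
    · rintro ⟨v, hv, hvx⟩
      let g' := ((WithConv.toConv g)⁻¹).ofConv
      have hinv : ∀ a, T g' (T g a) = a := fun a => by
        rw [← AlgHom.comp_apply, hTT, WithConv.toConv_ofConv, inv_mul_cancel]
        exact AlgHom.congr_fun hT1 a
      have hinv' : ∀ a, T g (T g' a) = a := fun a => by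
        rw [← AlgHom.comp_apply, hTT, WithConv.toConv_ofConv, mul_inv_cancel]
        exact AlgHom.congr_fun hT1 a
      refine ⟨T g' v, (hK _).2 ?_, by rw [← heT, hinv']; exact hv⟩
      rw [← hinv x, ← map_mul, hvx, map_zero]
  have hmove : ∀ g h : A →ₐ[k] k, h u ≠ 0 → (∃ a ∈ K, g a ≠ 0) →
      ∃ a ∈ K, (WithConv.toConv h * WithConv.toConv g).ofConv a ≠ 0 := by
    intro g h hh hg
    refine (hvan _).2 ?_
    rw [← hTT, AlgHom.comp_apply]
    refine ⟨T h u, by rw [heT]; exact hh, ?_⟩
    rw [← map_mul, huI _ ((hvan g).1 hg), map_zero]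
  let w := u * HopfAlgebraStruct.antipode k u
  have hopen : IsOpen (PrimeSpectrum.zeroLocus (K : Set A)) := by
    rw [isOpen_iff_forall_mem_open]
    intro P hP
    obtain ⟨M, hM, hPM⟩ := P.asIdeal.exists_le_maximal P.2.ne_top
    obtain ⟨g, hg⟩ := GrothLib.AffQuot.exists_ker_eq (k := k) M
    have hgK : ∀ a ∈ K, g a = 0 := fun a ha => by
      rw [← RingHom.mem_ker, hg]; exact hPM (hP ha)
    let wg := T ((WithConv.toConv g)⁻¹).ofConv w
    have hwg : ∀ z : A →ₐ[k] k, z wg = (WithConv.toConv z * (WithConv.toConv g)⁻¹).ofConv w := fun z => by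
      have h : z.comp (T ((WithConv.toConv g)⁻¹).ofConv) = (WithConv.toConv z * (WithConv.toConv g)⁻¹).ofConv := by
        simp only [T]
        apply WithConv.toConv_injective
        rw [AlgHom.comp_convMul_distrib, AlgHom.comp_id, ← AlgHom.comp_assoc, show z.comp (Algebra.ofId k A) = AlgHom.id k k from AlgHom.ext fun c => z.commutes c, AlgHom.id_comp, WithConv.toConv_ofConv]
      exact AlgHom.congr_fun h w
    refine ⟨PrimeSpectrum.basicOpen wg, fun Q hQ => ?_, PrimeSpectrum.isOpen_basicOpen, ?_⟩
    · intro a ha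
      refine (Q.2.mem_or_mem ?_).resolve_left hQ
      have hnil : IsNilpotent (wg * a) := GrothLib.AffQuot.isNilpotent_of_forall (k := k) fun z => by
        rw [map_mul]
        by_contra hne
        rw [mul_eq_zero, not_or] at hne
        let h := (WithConv.toConv z * (WithConv.toConv g)⁻¹).ofConv
        have hh : h u ≠ 0 ∧ h (HopfAlgebraStruct.antipode k u) ≠ 0 := by
          have := hne.1
          rw [hwg, map_mul] at this
          exact mul_ne_zero_iff.1 this
        obtain ⟨b, hb, hbne⟩ := hmove z ((WithConv.toConv h)⁻¹).ofConv hh.2 ⟨a, ha, hne.2⟩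
        refine hbne ?_
        rw [WithConv.toConv_ofConv, show (WithConv.toConv h) = WithConv.toConv z * (WithConv.toConv g)⁻¹ from
          WithConv.toConv_ofConv _, mul_inv_rev, inv_inv, mul_assoc, inv_mul_cancel, mul_one]
        exact hgK b hb
      obtain ⟨N, hN⟩ := hnil
      exact Q.2.mem_of_pow_mem N (hN ▸ Q.asIdeal.zero_mem)
    · show wg ∉ P.asIdeal
      intro hwP
      have h1 : g wg = 0 := by rw [← RingHom.mem_ker, hg]; exact hPM hwP
      rw [hwg, mul_inv_cancel] at h1
      change e (u * HopfAlgebraStruct.antipode k u) = 0 at h1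
      rw [map_mul] at h1
      rcases mul_eq_zero.1 h1 with h2 | h2
      · exact hu h2
      · exact hu (by
          have := HopfAlgebra.counit_antipode (R := k) u
          exact this.symm.trans h2)
  obtain ⟨ε, hε, hεeq⟩ := PrimeSpectrum.isClopen_iff.1 ⟨PrimeSpectrum.isClosed_zeroLocus (K : Set A), hopen⟩
  have hempty : PrimeSpectrum.zeroLocus (K : Set A) = ∅ := by
    rcases hconn ε hε with rfl | rfl
    · rw [hεeq]; simp
    · exfalso
      let P₀ : PrimeSpectrum A := ⟨m, RingHom.ker_isPrime _⟩
      have : P₀ ∈ PrimeSpectrum.zeroLocus (K : Set A) := by rw [hεeq]; simp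
      have h1 : (1 - r) ∈ K := (hK _).2 (by rw [sub_mul, one_mul, hrx, sub_self])
      have h2 : e (1 - r) = 0 := this h1
      rw [map_sub, map_one, show e r = 0 from hr, sub_zero] at h2
      exact one_ne_zero h2
  have h1 : (1 : A) ∈ K := by rw [PrimeSpectrum.zeroLocus_empty_iff_eq_top.1 hempty]; trivial
  rw [Ideal.mem_bot, ← one_mul x]
  exact (hK 1).1 h1

end Groth.Agent.S17472
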