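import Groth.Statements.S17474
import Groth.Agent.Lib.Ample.Functorial
import Groth.Prelude.Def_PicGrp

set_option autoImplicit false
universe u
open CategoryTheory MonoidalCategory CartesianMonoidalCategory MonObj GrpObj AlgebraicGeometry CategoryTheory.Limits
open AlgGrp

namespace Groth.Agent.S17474

set_option backward.isDefEq.respectTransparency false


/-- Over an algebraically closed field k, let X be a projective variety (an integral k-scheme admitting
a closed immersion into some projective space over k) and let a connected k-group scheme of finite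
type G act on X. For a k-point g of G write t_g : X → X, x ↦ g · x. Then for every invertible
O_X-module L and every invertible M with L ⊗ M ≅ O_X (an inverse of L), the invertible module
t_g^*(L) ⊗ M is algebraically equivalent to zero. Equivalently, the neutral component of the
automorphism group scheme of X acts trivially on the Néron–Severi group of X. -/
theorem result (k : Type u) [Field k] [IsAlgClosed k]
    (G X : Over (Spec (CommRingCat.of k))) [GrpObj G] [LocallyOfFiniteType G.hom] [QuasiCompact G.hom]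
    [ConnectedSpace ↥G.left] [IsIntegral X.left] (hX : RelProj.IsHProjective X.hom)
    (a : AlgGrp.Action G X) (g : 𝟙_ (Over (Spec (CommRingCat.of k))) ⟶ G)
    (L M : X.left.Modules) (hL : PicF.IsInvertible L) (hM : PicF.IsInvertible M)
    (hLM : Nonempty (CohB1.tensorMod L M ≅ Coh.structureModule X.left)) :
    @Pic13.IsAlgEquivZero k _ X.left ⟨X.hom⟩
      (CohB1.tensorMod ((Scheme.Modules.pullback (lift (toUnit X ≫ g) (𝟙 X) ≫ a.act).left).obj L) M) := by
  letI : X.left.Over (Spec (CommRingCat.of k)) := ⟨X.hom⟩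
  let φ : Pic13.prodK k X.left G.hom ⟶ (G ⊗ X).left :=
    pullback.lift (pullback.snd _ _) (pullback.fst _ _) pullback.condition.symm
  let σ : Pic13.prodK k X.left G.hom ⟶ X.left := φ ≫ a.act.left
  have hη : (η[G]).left ≫ G.hom = 𝟙 _ := Over.w η[G]
  have hg : g.left ≫ G.hom = 𝟙 _ := Over.w g
  have hσ : ∀ (t : 𝟙_ (Over (Spec (CommRingCat.of k))) ⟶ G) (ht : t.left ≫ G.hom = 𝟙 _),
      Pic13.sliceAt k X.left G.hom t.left ht ≫ σ = (lift (toUnit X ≫ t) (𝟙 X) ≫ a.act).left := by
    intro t ht
    change Pic13.sliceAt k X.left G.hom t.left ht ≫ φ ≫ a.act.left = _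
    rw [Over.comp_left, ← Category.assoc]
    congr 1
    apply pullback.hom_ext
    · simp [φ, Pic13.sliceAt]
      rfl
    · simp [φ, Pic13.sliceAt]
  have hfst : ∀ (t : 𝟙_ (Over (Spec (CommRingCat.of k))) ⟶ G) (ht : t.left ≫ G.hom = 𝟙 _),
      Pic13.sliceAt k X.left G.hom t.left ht ≫ pullback.fst _ _ = 𝟙 X.left :=
    fun t ht => pullback.lift_fst _ _ _
  let M' := CohB1.tensorMod ((Scheme.Modules.pullback σ).obj L)
    ((Scheme.Modules.pullback (pullback.fst (X.left ↘ Spec (CommRingCat.of k)) G.hom)).obj M)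
  have hfib : ∀ (t : 𝟙_ (Over (Spec (CommRingCat.of k))) ⟶ G) (ht : t.left ≫ G.hom = 𝟙 _),
      Nonempty (Pic13.fibreMod k X.left G.hom t.left ht M' ≅
        CohB1.tensorMod ((Scheme.Modules.pullback (lift (toUnit X ≫ t) (𝟙 X) ≫ a.act).left).obj L) M) := by
    intro t ht
    obtain ⟨e⟩ := GrothLib.Ample.nonempty_pullback_tensorMod (Pic13.sliceAt k X.left G.hom t.left ht)
      (GrothLib.Ample.isInvertible_pullback σ hL)
      (GrothLib.Ample.isInvertible_pullback (pullback.fst (X.left ↘ Spec (CommRingCat.of k)) G.hom) hM)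
    let e₁ := (Scheme.Modules.pullbackComp (Pic13.sliceAt k X.left G.hom t.left ht) σ).app L ≪≫
      (Scheme.Modules.pullbackCongr (hσ t ht)).app L
    let e₂ := (Scheme.Modules.pullbackComp (Pic13.sliceAt k X.left G.hom t.left ht) _).app M ≪≫
      (Scheme.Modules.pullbackCongr (hfst t ht)).app M ≪≫ (Scheme.Modules.pullbackId X.left).app M
    exact ⟨e ≪≫ PicGrp.tensorModIso e₁ e₂⟩
  refine ⟨G.left, G.hom, inferInstance, inferInstance, inferInstance, M', ?_, g.left, (η[G]).left, hg, hη,
    hfib g hg, ?_⟩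
  · exact GrothLib.Ample.isInvertible_tensorMod (GrothLib.Ample.isInvertible_pullback _ hL)
      (GrothLib.Ample.isInvertible_pullback _ hM)
  · obtain ⟨e⟩ := hfib η[G] hη
    obtain ⟨eLM⟩ := hLM
    have h1 : (lift (toUnit X ≫ η[G]) (𝟙 X) ≫ a.act) = 𝟙 X := by
      have h2 : lift (toUnit X ≫ η[G]) (𝟙 X) = lift (toUnit X) (𝟙 X) ≫ (η[G] ▷ X) := by
        ext <;> simp
      rw [h2, Category.assoc, a.one_act]
      simp
    refine ⟨e ≪≫ PicGrp.tensorModIso ((Scheme.Modules.pullbackCongr ?_).app L ≪≫
      (Scheme.Modules.pullbackId X.left).app L) (Iso.refl M) ≪≫ eLM⟩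
    rw [h1]
    exact Over.id_left X

end Groth.Agent.S17474
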