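import Groth.Statements.S17476
import Groth.Agent.Lib.InvHartogs26.Basic
import Groth.Agent.Lib.FEt21.PunctSections
import Groth.Agent.Lib.Euler.Coh
import Groth.Agent.Lib.QCoh.Extension

set_option autoImplicit false
universe u
open CategoryTheory AlgebraicGeometry Opposite
open Coh

namespace Groth.Agent.S17476

/-- Let R be a Noetherian ring, Z = Spec R, M a finitely generated R-module with associated
quasi-coherent sheaf M~ (so that Hom_R(M, R) = Hom_Z(M~, O_Z)), and Z₀ ⊆ Z an open subscheme. (1) If
the restriction of functions Γ(Z, O_Z) → Γ(Z₀, O_Z) is injective, then the restriction map Hom_Z(M~,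
O_Z) → Hom_{Z₀}(M~|Z₀, O_{Z₀}) is injective. (2) If R is an integrally closed domain and the closed
complement of Z₀ has codimension at least 2 (every prime ideal outside Z₀ has height at least 2),
then that restriction map is bijective. (The published first assertion assumes only that Z₀ is
dense; for R = k[x,y]/(x², xy), M = R and Z₀ the locus y ≠ 0, which is dense, multiplication by x is
a nonzero element of Hom_R(M, R) restricting to zero, so schematic density is what is needed and
what the printed argument uses. The published second assertion is for a normal irreducible affine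
variety; any Noetherian integrally closed domain is allowed here.) -/
theorem result (R : Type u) [CommRing R] [IsNoetherianRing R]
    (M : ModuleCat.{u} (CommRingCat.of R)) [Module.Finite R M] (U : (Spec (CommRingCat.of R)).Opens) :
    (Function.Injective ((Spec (CommRingCat.of R)).presheaf.map (homOfLE (le_top : U ≤ ⊤)).op) →
      Function.Injective (fun φ : AlgebraicGeometry.tilde M ⟶ Coh.structureModule (Spec (CommRingCat.of R)) =>
        (Scheme.Modules.restrictFunctor U.ι).map φ)) ∧
    (IsDomain R → IsIntegrallyClosed R → (∀ p : PrimeSpectrum R, p ∉ U → (2 : ℕ∞) ≤ p.asIdeal.height) →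
      Function.Bijective (fun φ : AlgebraicGeometry.tilde M ⟶ Coh.structureModule (Spec (CommRingCat.of R)) =>
        (Scheme.Modules.restrictFunctor U.ι).map φ)) := by
  constructor
  · intro hinj φ ψ h
    apply ((AlgebraicGeometry.tilde.adjunction (R := CommRingCat.of R)).homEquiv M (Coh.structureModule _)).injective
    simp only [Adjunction.homEquiv_unit]
    congr 1
    ext s
    have hU : (U.ι ''ᵁ (⊤ : U.toScheme.Opens)) ≤ ⊤ := le_top
    change φ.app ⊤ s = ψ.app ⊤ s
    apply hinj
    have h2 : φ.app (U.ι ''ᵁ ⊤) = ψ.app (U.ι ''ᵁ ⊤) := by
      have h3 := congrArg (fun a => a.app ⊤) h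
      exact h3
    rw [Scheme.Opens.ι_image_top] at h2
    erw [GrothLib.QCoh.map_app φ, GrothLib.QCoh.map_app ψ, h2]
  · intro _ _ hh
    haveI : IsLocallyNoetherian (Spec (CommRingCat.of R)) := inferInstance
    haveI hQ := (GrothLib.Euler.isCoh_of_isInvertible (GrothLib.Euler.isInvertible_structure (X := Spec (CommRingCat.of R)))).1
    haveI hF := (GrothLib.Euler.isCoh_of_isInvertible (GrothLib.Euler.isInvertible_structure (X := Spec (CommRingCat.of R)))).2
    refine GrothLib.Depth.restrict_map_bijective (E := Coh.structureModule _) (F := AlgebraicGeometry.tilde M) fun x hx => ?_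
    rw [GrothLib.InvHartogs26.depth_eq GrothLib.Euler.isInvertible_structure x]
    let p : PrimeSpectrum R := x
    let A := (Spec (CommRingCat.of R)).presheaf.stalk x
    letI : Algebra R A := StructureSheaf.stalkAlgebra R p
    haveI : IsLocalization.AtPrime A p.asIdeal := StructureSheaf.IsLocalization.to_stalk R p
    haveI : IsDomain A := IsLocalization.isDomain_of_atPrime A p.asIdeal
    haveI : IsIntegrallyClosed A := isIntegrallyClosed_of_isLocalization A p.asIdeal.primeCompl (fun a ha =>
      mem_nonZeroDivisors_of_ne_zero fun h0 => ha (h0 ▸ p.asIdeal.zero_mem))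
    refine GrothLib.FEt21.two_le_depth_of_normal A ?_
    rw [IsLocalization.AtPrime.ringKrullDim_eq_height p.asIdeal A]
    exact WithBot.coe_le_coe.2 (hh p hx)

end Groth.Agent.S17476
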