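import Groth.Statements.S17480
import Groth.Agent.S3278
import Groth.Agent.S3279
import Groth.Agent.S8007
import Groth.Agent.Lib.FinQuot19.Basic
import Groth.Agent.Lib.Affine25.FiniteSurjective
import Groth.Agent.Lib.Neutral.Artin
import Groth.Agent.Lib.Neutral.OpenSubgroup
import Groth.Agent.Lib.AffHom13.Basic
import Groth.Agent.Lib.EtSite.FpqcDescent
import Groth.Agent.Lib.QuotMap19.Basic

set_option autoImplicit false
universe u
open CategoryTheory MonoidalCategory CartesianMonoidalCategory MonObj GrpObj AlgebraicGeometry CategoryTheory.Limits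
open AlgGrp

namespace Groth.Agent.S17480


open GrpObj CategoryTheory.Limits

section Aux

variable {k : Type u} [Field k]

/-- A rational point of a scheme locally of finite type is a closed immersion. -/
theorem isClosedImmersion_pt {Q : Over (Spec (CommRingCat.of k))} [LocallyOfFiniteType Q.hom]
    (o : 𝟙_ (Over (Spec (CommRingCat.of k))) ⟶ Q) : IsClosedImmersion o.left := by
  have hc : o.left ≫ Q.hom = 𝟙 _ := Over.w o
  haveI : IsImmersion (o.left ≫ Q.hom) := by rw [hc]; infer_instance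
  haveI : IsImmersion o.left := IsImmersion.of_comp o.left Q.hom
  haveI : JacobsonSpace Q.left := LocallyOfFiniteType.jacobsonSpace (Y := Spec _) Q.hom
  haveI : Subsingleton (𝟙_ (Over (Spec (CommRingCat.of k)))).left := inferInstanceAs (Subsingleton (PrimeSpectrum k))
  have hr : Set.range o.left = {o.left (IsLocalRing.closedPoint k)} := by
    ext y
    constructor
    · rintro ⟨z, rfl⟩
      rw [Set.mem_singleton_iff, Subsingleton.elim z (IsLocalRing.closedPoint k)]
    · rintro rfl
      exact ⟨_, rfl⟩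
  refine IsClosedImmersion.of_isPreimmersion _ ?_
  rw [hr]
  refine isClosed_singleton_of_isLocallyClosed_singleton ?_
  rw [← hr]
  exact o.left.isLocallyClosed_range

/-- The quotient map of a group by a kernel exhibits the quotient group as the orbit of its unit. -/
theorem exists_isQuotient {G N Q : Over (Spec (CommRingCat.of k))} [GrpObj G] [GrpObj N] [GrpObj Q]
    [LocallyOfFiniteType Q.hom] (i : N ⟶ G) [IsMonHom i] [Mono i] (q : G ⟶ Q) [IsMonHom q] [Flat q.left]
    [Surjective q.left] (hker : AlgGrp.IsKernel i q) :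
    ∃ (a : AlgGrp.Action G Q), a.orbitMap η[Q] = q ∧ AGF.IsQuotient i Q a η[Q] := by
  let a : AlgGrp.Action G Q :=
    { act := (q ▷ Q) ≫ μ[Q]
      one_act := by
        rw [← Category.assoc, ← comp_whiskerRight, IsMonHom.one_hom, MonObj.one_mul]
      mul_act := by
        have key : ∀ {T : Over (Spec (CommRingCat.of k))} (g : T ⟶ G) (x : T ⟶ Q),
            lift g x ≫ (q ▷ Q) ≫ μ[Q] = (g ≫ q) * x := fun g x => by
          rw [lift_whiskerRight_assoc, ← Hom.mul_def]
        have hid : 𝟙 ((G ⊗ G) ⊗ Q) = lift (lift (fst _ _ ≫ fst G G) (fst _ _ ≫ snd G G)) (snd _ _) := by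
          apply CartesianMonoidalCategory.hom_ext
          · apply CartesianMonoidalCategory.hom_ext <;> simp
          · simp
        rw [← Category.id_comp ((μ[G] ▷ Q) ≫ _), ← Category.id_comp ((α_ G G Q).hom ≫ _), hid,
          lift_whiskerRight_assoc, lift_lift_associator_hom_assoc, lift_whiskerLeft_assoc, key, key, key,
          ← Hom.mul_def, MonObj.mul_comp, _root_.mul_assoc] }
  have ha : a.orbitMap η[Q] = q := by
    change lift (𝟙 G) (toUnit G ≫ η[Q]) ≫ (q ▷ Q) ≫ μ[Q] = q
    rw [lift_whiskerRight_assoc, Category.id_comp, ← Hom.one_def, ← Hom.mul_def, _root_.mul_one]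
  refine ⟨a, ha, inferInstance, by rw [ha]; infer_instance, by rw [ha]; infer_instance, ?_⟩
  rw [ha]
  have hp : ∀ {T : Over (Spec (CommRingCat.of k))} (x : T ⟶ G), x ≫ q = 1 ↔ ∃ h : T ⟶ N, h ≫ i = x := by
    intro T x
    constructor
    · intro h
      obtain ⟨l, hl, -⟩ := IsPullback.exists_lift hker x (toUnit T) (by rw [h, Hom.one_def])
      exact ⟨l, hl⟩
    · rintro ⟨h, rfl⟩
      rw [Category.assoc, hker.w, ← Category.assoc, toUnit_unique (h ≫ toUnit N) (toUnit T), Hom.one_def]
  have hw : fst G N ≫ q = ((G ◁ i) ≫ μ[G]) ≫ q := by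
    have e : (G ◁ i) ≫ μ[G] = fst G N * (snd G N ≫ i) := by
      rw [Hom.mul_def]; congr 1
    rw [e, MonObj.mul_comp, Category.assoc, show snd G N ≫ i ≫ q = 1 by
      rw [← Category.assoc]; exact (hp _).mpr ⟨_, rfl⟩, _root_.mul_one]
  have hlift : ∀ s : PullbackCone q q, ∃ h : s.pt ⟶ N, h ≫ i = s.fst⁻¹ * s.snd := fun s => by
    refine (hp _).mp ?_
    rw [MonObj.mul_comp, GrpObj.inv_comp, s.condition, inv_mul_cancel]
  choose l hl using hlift
  have hlm : ∀ {T : Over (Spec (CommRingCat.of k))} (x : T ⟶ G) (h : T ⟶ N),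
      lift x h ≫ (G ◁ i) ≫ μ[G] = x * (h ≫ i) := fun x h => GrothLib.FpqcQuot14.lift_act x h
  refine ⟨⟨hw⟩, ⟨PullbackCone.IsLimit.mk _ (fun s => lift s.fst (l s)) (fun s => lift_fst _ _)
    (fun s => ?_) (fun s m h1 h2 => ?_)⟩⟩
  · rw [hlm, hl]
    group
  · apply CartesianMonoidalCategory.hom_ext
    · rw [h1, lift_fst]
    · rw [lift_snd, ← cancel_mono i, hl]
      have e : m = lift (m ≫ fst G N) (m ≫ snd G N) := by
        apply CartesianMonoidalCategory.hom_ext <;> simp
      rw [e, hlm, h1] at h2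
      rw [← h2]
      group

/-- Connected open subgroups are the neutral component. -/
theorem range_eq_neutralSet {H H₀ : Over (Spec (CommRingCat.of k))} [GrpObj H] [GrpObj H₀]
    [LocallyOfFiniteType H.hom] (j : H₀ ⟶ H) [IsMonHom j] [IsOpenImmersion j.left] [ConnectedSpace ↥H₀.left] :
    Set.range j.left = SGA3x.neutralSet H ∧ IsClosed (Set.range j.left) := by
  have hfib : ∀ s : ↥(Spec (CommRingCat.of k)), H.hom ⁻¹' {s} = Set.univ := fun s =>
    Set.eq_univ_of_forall fun x => Subsingleton.elim (α := PrimeSpectrum k) _ _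
  have h1 : SGA3x.neutralSet H ⊆ Set.range j.left :=
    GrothLib.Neutral.neutralSet_subset_range H H₀ j fun s => MorphismProperty.pullback_snd _ _ ‹_›
  have h2 : Set.range j.left ⊆ SGA3x.neutralSet H := by
    rintro _ ⟨x, rfl⟩
    rw [GrothLib.Neutral.mem_neutralSet_iff, hfib]
    exact (isPreconnected_range j.left.continuous).subset_connectedComponentIn
      ⟨_, GrothLib.Neutral.map_unit H H₀ j _⟩ (Set.subset_univ _) ⟨x, rfl⟩
  refine ⟨Set.Subset.antisymm h2 h1, ?_⟩
  rw [Set.Subset.antisymm h2 h1]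
  have hc : SGA3x.neutralSet H = connectedComponent (η[H].left (IsLocalRing.closedPoint k)) := by
    ext g
    rw [GrothLib.Neutral.mem_neutralSet_iff, hfib, connectedComponentIn_univ,
      Subsingleton.elim (α := PrimeSpectrum k) (H.hom g) (IsLocalRing.closedPoint k)]
  rw [hc]
  exact isClosed_connectedComponent

end Aux


/-- Over an algebraically closed field k, let G be a connected linear algebraic group (a smooth, affine,
connected k-group scheme), i : H → G a closed subgroup scheme (not necessarily reduced), j : H⁰ → H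
its neutral component (an open subgroup scheme which is connected), and n : N → G the normaliser of
H⁰ in G. Let Q₁ = G/H and Q₂ = G/N be the quotients (G-actions with base points o₁, o₂ whose orbit
maps are flat and surjective, with G × H ≅ G ×_{Q₁} G and likewise for N), and let f : Q₁ → Q₂ be
the morphism under which the orbit map of o₁ composes to the orbit map of o₂ (it exists since H ⊆
N). Then f is an affine morphism. -/
theorem result (k : Type u) [Field k] [IsAlgClosed k]
    (G H H₀ N Q₁ Q₂ : Over (Spec (CommRingCat.of k))) [GrpObj G] [GrpObj H] [GrpObj H₀] [GrpObj N]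
    [IsAffine G.left] [Smooth G.hom] [ConnectedSpace ↥G.left]
    (i : H ⟶ G) [IsMonHom i] (hi : IsClosedImmersion i.left)
    (j : H₀ ⟶ H) [IsMonHom j] (hj : IsOpenImmersion j.left) [ConnectedSpace ↥H₀.left]
    (n : N ⟶ G) (hN : Red.IsNormalizerOf (j ≫ i) n)
    (a₁ : AlgGrp.Action G Q₁) (o₁ : 𝟙_ (Over (Spec (CommRingCat.of k))) ⟶ Q₁) (hQ₁ : AGF.IsQuotient i Q₁ a₁ o₁)
    (a₂ : AlgGrp.Action G Q₂) (o₂ : 𝟙_ (Over (Spec (CommRingCat.of k))) ⟶ Q₂) (hQ₂ : AGF.IsQuotient n Q₂ a₂ o₂)
    (f : Q₁ ⟶ Q₂) (hf : a₁.orbitMap o₁ ≫ f = a₂.orbitMap o₂) :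
    IsAffineHom f.left := by
  haveI := hi
  haveI := hj
  haveI : Mono i := Over.mono_of_mono_left i
  haveI : Mono j := Over.mono_of_mono_left j
  haveI := hN.1
  haveI := hN.2.1
  haveI : LocallyOfFiniteType H.hom := by rw [← Over.w i]; infer_instance
  haveI : QuasiCompact G.hom := inferInstance
  haveI : QuasiCompact H.hom := by rw [← Over.w i]; infer_instance
  haveI : IsAffine H.left := isAffine_of_isAffineHom i.left
  obtain ⟨hjr, hjc⟩ := range_eq_neutralSet j
  haveI : IsClosedImmersion j.left := IsClosedImmersion.of_isPreimmersion _ hjc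
  haveI : LocallyOfFiniteType H₀.hom := by rw [← Over.w j]; infer_instance
  haveI : QuasiCompact H₀.hom := by rw [← Over.w j]; infer_instance
  have hHlft : ∀ s, LocallyOfFiniteType (H.hom.fiberToSpecResidueField s) :=
    fun s => MorphismProperty.pullback_snd _ _ ‹_›
  have hjn : AlgGrp.IsNormalHom j := by
    intro T g m
    have hr : Set.range (g * (m ≫ j) * g⁻¹).left ⊆ Set.range j.left := by
      rintro _ ⟨t, rfl⟩
      rw [hjr]
      refine GrothLib.Neutral.conj_mem_neutralSet H hHlft g (m ≫ j) t ?_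
      rw [← hjr, Over.comp_left, Scheme.Hom.comp_apply]
      exact ⟨_, rfl⟩
    refine ⟨Over.homMk (IsOpenImmersion.lift j.left _ hr) ?_, Over.OverMorphism.ext (IsOpenImmersion.lift_fac _ _ _).symm⟩
    show IsOpenImmersion.lift j.left _ hr ≫ H₀.hom = T.hom
    rw [← Over.w j, IsOpenImmersion.lift_fac_assoc, Over.w]
  -- `H` maps into the normaliser
  obtain ⟨l, hl⟩ := (hN.2.2 H i).2 fun X' x h => by
    constructor
    · obtain ⟨n', hn'⟩ := hjn X' x h
      refine ⟨n', ?_⟩
      have := congrArg (· ≫ i) hn'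
      simpa [MonObj.mul_comp, GrpObj.inv_comp, Category.assoc] using this
    · obtain ⟨n', hn'⟩ := hjn X' x⁻¹ h
      refine ⟨n', ?_⟩
      have := congrArg (· ≫ i) hn'
      simpa [MonObj.mul_comp, GrpObj.inv_comp, Category.assoc] using this
  haveI : IsMonHom l :=
    { one_hom := by rw [← cancel_mono n, Category.assoc, hl, IsMonHom.one_hom, IsMonHom.one_hom]
      mul_hom := by
        rw [← cancel_mono n, Category.assoc, hl, Category.assoc, IsMonHom.mul_hom, IsMonHom.mul_hom,
          ← Category.assoc, tensorHom_comp_tensorHom, hl] }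
  -- the normaliser is closed
  obtain ⟨hQ₂l, hQ₂f, hQ₂s, hpb₂⟩ := id hQ₂
  haveI := hQ₂l
  haveI := isClosedImmersion_pt (η[G] ≫ a₂.orbitMap o₂)
  haveI : IsClosedImmersion n.left :=
    MorphismProperty.of_isPullback (P := @IsClosedImmersion)
      ((GrothLib.FpqcQuot14.isPullback_unit hpb₂.flip).map (Over.forget _)).flip
      (isClosedImmersion_pt (η[G] ≫ a₂.orbitMap o₂))
  haveI : LocallyOfFiniteType N.hom := by rw [← Over.w n]; infer_instance
  haveI : QuasiCompact N.hom := by rw [← Over.w n]; infer_instance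
  haveI : IsAffine N.left := isAffine_of_isAffineHom n.left
  haveI : IsClosedImmersion l.left := by
    haveI : IsClosedImmersion (l.left ≫ n.left) := by rw [← Over.comp_left, hl]; infer_instance
    exact IsClosedImmersion.of_comp l.left n.left
  haveI : Mono l := Over.mono_of_mono_left l
  -- the quotient of the normaliser by `H₀`
  have hl₀ : AlgGrp.IsNormalHom (j ≫ l) := by
    intro X g m
    obtain ⟨h', hh'⟩ := ((hN.2.2 X (g ≫ n)).1 ⟨g, rfl⟩ X (𝟙 X) m).1
    refine ⟨h', ?_⟩
    rw [← cancel_mono n]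
    simpa [MonObj.mul_comp, GrpObj.inv_comp, Category.assoc, hl] using hh'
  haveI : IsClosedImmersion (j ≫ l).left := by rw [Over.comp_left]; infer_instance
  obtain ⟨Q₀, _, q₀, hq₀m, hQ₀a, hQ₀l, hq₀f, hq₀s, hker₀⟩ :=
    Groth.Agent.S3278.result k N H₀ (j ≫ l) hl₀
  haveI := hq₀m; haveI := hQ₀a; haveI := hQ₀l; haveI := hq₀f; haveI := hq₀s
  haveI : QuasiCompact Q₀.hom := inferInstance
  obtain ⟨a₀, ha₀, hQ₀⟩ := exists_isQuotient (j ≫ l) q₀ hker₀
  -- the quotient of the normaliser by `H`
  obtain ⟨Y, b, y, hYl, hYc, hYf, hYs, hYp⟩ := Groth.Agent.S3279.result k N H l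
  haveI := hYl; haveI := hYc; haveI := hYf; haveI := hYs
  have hY : AGF.IsQuotient l Y b y := ⟨hYl, hYf, hYs, hYp⟩
  -- `H/H₀` is finite
  obtain ⟨Z, c, z, hZl, hZc, hZf, hZs, hZp⟩ := Groth.Agent.S3279.result k H H₀ j
  have hZ : AGF.IsQuotient j Z c z := ⟨hZl, hZf, hZs, hZp⟩
  haveI : IsFinite Z.hom := GrothLib.FinQuot19.isFinite_of_isOpen hZ j.left.isOpenEmbedding.isOpen_range
  haveI : LocallyOfFinitePresentation q₀.left := GrothLib.QuotMap19.lfp_orbitMap q₀
  obtain ⟨qbar, hqbar⟩ := GrothLib.DiagGrp.exists_desc q₀ (b.orbitMap y) fun T u v huv => by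
    rw [← ha₀] at huv
    obtain ⟨h, hh⟩ := (GrothLib.FpqcQuot14.comp_eq_iff hQ₀.2.2.2.flip u v).1 huv
    exact (GrothLib.FpqcQuot14.comp_eq_iff hYp.flip u v).2 ⟨h ≫ j, by rw [hh]; simp⟩
  obtain ⟨⟨-, hqs⟩, -, hqfin⟩ := Groth.Agent.S8007.result k N H₀ H (j ≫ l) l j rfl Q₀ a₀ η[Q₀] hQ₀ Y b y hY
    Z c z hZ qbar (by rw [ha₀]; exact hqbar)
  haveI := (hqfin inferInstance).1
  haveI := hqs
  haveI : CompactSpace Y.left := QuasiCompact.compactSpace_of_compactSpace Y.hom
  haveI : IsLocallyNoetherian Y.left := LocallyOfFiniteType.isLocallyNoetherian Y.hom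
  haveI : AlgebraicGeometry.IsNoetherian Y.left := {}
  haveI : IsAffine Y.left := GrothLib.Affine25.isAffine_of_finite_surjective qbar.left
  -- pull back along the orbit map
  obtain ⟨e, he⟩ := GrothLib.QuotMap19.exists_property hl hQ₁ hQ₂ hY f hf
  haveI : IsAffineHom Y.hom := isAffineHom_of_isAffine _
  haveI : IsAffineHom (pullback.snd f.left (a₂.orbitMap o₂).left) := by
    rw [← MorphismProperty.cancel_left_of_respectsIso @IsAffineHom e.hom, he]
    exact MorphismProperty.pullback_fst (P := @IsAffineHom) G.hom Y.hom ‹_›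
  haveI := hQ₂f; haveI := hQ₂s
  haveI : IsLocallyNoetherian Q₂.left := LocallyOfFiniteType.isLocallyNoetherian Q₂.hom
  haveI : QuasiCompact (a₂.orbitMap o₂).left := by
    haveI : QuasiCompact ((a₂.orbitMap o₂).left ≫ Q₂.hom) := by rw [Over.w]; infer_instance
    exact QuasiCompact.of_comp _ Q₂.hom
  exact MorphismProperty.of_pullback_snd_of_descendsAlong (P := @IsAffineHom) (Q := GrothLib.EtSite.fpqcCov)
    ⟨⟨hQ₂s, hQ₂f⟩, inferInstance⟩ ‹IsAffineHom (pullback.snd f.left (a₂.orbitMap o₂).left)›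


end Groth.Agent.S17480
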