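import Groth.Statements.S17482
import Groth.Agent.Lib.ConnH0.Basic
import Groth.Agent.Lib.HodgeIndex.ProjConv

set_option autoImplicit false
set_option linter.all false
universe u
open CategoryTheory CategoryTheory.Limits AlgebraicGeometry
open Surf

namespace Groth.Agent.S17482

/-- Let k be an algebraically closed field of characteristic zero and X a smooth projective surface over
k (an integral scheme of dimension two with all local rings regular, admitting a closed immersion
into some P^n_k over k) such that H^1(X, O_X) = 0. Let D be a nonempty closed subscheme of X, given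
by a quasi-coherent ideal sheaf whose associated O_X-module I_D is invertible (a nonzero effective
divisor). If H^1(X, I_D) = 0, then D is connected. (The published statement is for rational
surfaces; this row assumes only H^1(X, O_X) = 0. Since H^1(X, I_D) depends only on the isomorphism
class of I_D, the same holds for every effective divisor linearly equivalent to D.) -/
theorem result
    (k : Type u) [Field k] [IsAlgClosed k] [CharZero k]
    (X : Scheme.{u}) [X.Over (Spec (CommRingCat.of k))] [AlgebraicGeometry.IsIntegral X]
    (hdim : topologicalKrullDim X = 2) (hreg : ∀ x : X, IsRegularLocalRing (X.presheaf.stalk x))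
    (hproj : ∃ (n : ℕ) (ι : X ⟶ CohB1.ProjSpace n k), IsClosedImmersion ι ∧
      ι ≫ CohB1.ProjSpace.toSpec n k = (X ↘ (Spec (CommRingCat.of k))))
    (hH1 : Subsingleton (Coh.HH X (Coh.structureModule X) 1))
    (D : X.IdealSheafData) (hD : PicF.IsInvertible (ClSub.idealMod D)) (hne : Nonempty ↥D.subscheme)
    (hvan : Subsingleton (Coh.HH X (ClSub.idealMod D) 1)) :
    ConnectedSpace ↥D.subscheme := by
  obtain ⟨n, ι, hι, hιk⟩ := hproj
  haveI := hι
  haveI := GrothLib.HodgeIndex.isProper_of_proj ι hιk
  letI : D.subscheme.Over (Spec (CommRingCat.of k)) := ⟨D.subschemeι ≫ X ↘ Spec (CommRingCat.of k)⟩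
  haveI : IsProper (D.subscheme ↘ Spec (CommRingCat.of k)) :=
    inferInstanceAs (IsProper (D.subschemeι ≫ X ↘ Spec (CommRingCat.of k)))
  obtain ⟨e⟩ := GrothLib.ConnH0.nonempty_H0_quotMod k D rfl 0
  haveI := GrothLib.Euler.finiteDimensional_HH k
    (GrothLib.Euler.isCoh_of_isInvertible (GrothLib.Euler.isInvertible_structure (X := D.subscheme))) 0
  exact GrothLib.ConnH0.connectedSpace_of_finrank_le k (e.finrank_eq.le.trans
    (GrothLib.ConnH0.finrank_H0_le_of_h1 k (GrothLib.CurveRR.finrank_H0_structure_eq_one k (X := X)).le D hvan))

end Groth.Agent.S17482
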