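import Groth.Statements.S17486
import Groth.Agent.Lib.FittSheaf.Basic
import Groth.Agent.Lib.Euler.Rank
import Groth.Agent.Lib.QCoh.DevissageSummands
import Groth.Agent.Lib.Euler.Coh
import Groth.Agent.Lib.FinCov.Frame
import Groth.Agent.Lib.OX.Exact
import Groth.Agent.Lib.QCoh.SupportExact
import Mathlib.LinearAlgebra.TensorProduct.RightExactness

set_option autoImplicit false
set_option maxHeartbeats 1000000
set_option linter.style.haveILetI false
set_option backward.isDefEq.respectTransparency.types false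
universe u
open CategoryTheory CategoryTheory.Limits AlgebraicGeometry
open Coherent

namespace Groth.Agent.S17486

/-- Let k be an algebraically closed field of characteristic zero and Y a smooth projective variety over
k (an integral scheme, smooth over k, with a closed immersion into some P^n_k over k). Let A = A₁ ⊕
A₂ and B = B₁ ⊕ B₂ be finite locally free O_Y-modules with A_i of rank a_i ≥ 1 and B_j of rank b_j ≥
1, a₁ + a₂ ≤ b₁ + b₂, such that the sheaves Hom(A₁, B₁), Hom(A₁, B₂), Hom(A₂, B₂) (right adjoints of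
A_i ⊗ -, whose existence is the stated instance hypothesis; it holds) are globally generated while
every morphism A₂ → B₁ is zero (the sheaf Hom(A₂, B₁) has no nonzero global section). For φ : A → B
let Z(φ) ⊆ Y be the closed set where φ drops rank, i.e. where the rank of φ on fibres is less than
a₁ + a₂: the zero set of the (b₁ + b₂ - a₁ - a₂)-th Fitting ideal sheaf of the cokernel of φ
(locally generated by the maximal minors of φ). If b₂ < a₂, then every φ : A → B drops rank at every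
point of Y, i.e. Z(φ) = Y. -/
theorem result
    (k : Type u) [Field k] [IsAlgClosed k] [CharZero k]
    (Y : Scheme.{u}) [Y.Over (Spec (CommRingCat.of k))] [AlgebraicGeometry.IsIntegral Y]
    [Smooth (Y ↘ Spec (CommRingCat.of k))]
    (hproj : ∃ (N : ℕ) (ι : Y ⟶ CohB1.ProjSpace N k), IsClosedImmersion ι ∧
      ι ≫ CohB1.ProjSpace.toSpec N k = (Y ↘ (Spec (CommRingCat.of k))))
    (A₁ A₂ B₁ B₂ : Y.Modules) (a₁ a₂ b₁ b₂ : ℕ)
    (hA₁ : FlatMod.IsFinLocFreeOfRank a₁ A₁) (hA₂ : FlatMod.IsFinLocFreeOfRank a₂ A₂)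
    (hB₁ : FlatMod.IsFinLocFreeOfRank b₁ B₁) (hB₂ : FlatMod.IsFinLocFreeOfRank b₂ B₂)
    (ha₁ : 1 ≤ a₁) (ha₂ : 1 ≤ a₂) (hb₁ : 1 ≤ b₁) (hb₂ : 1 ≤ b₂) (hab : a₁ + a₂ ≤ b₁ + b₂)
    [DCoh.HasSheafHom A₁] [DCoh.HasSheafHom A₂]
    (h₁₁ : Curv2.IsGloballyGenerated ((DCoh.sheafHom A₁).obj B₁))
    (h₁₂ : Curv2.IsGloballyGenerated ((DCoh.sheafHom A₁).obj B₂))
    (h₂₂ : Curv2.IsGloballyGenerated ((DCoh.sheafHom A₂).obj B₂))
    (h₂₁ : ∀ ψ : A₂ ⟶ B₁, ψ = 0) (hlt : b₂ < a₂) (φ : (A₁ ⊞ A₂) ⟶ (B₁ ⊞ B₂)) :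
    (((Fitt.sheafIdeal (cokernel φ) (b₁ + b₂ - (a₁ + a₂))).support : TopologicalSpace.Closeds Y) : Set Y) = Set.univ := by
  haveI : IsLocallyNoetherian Y :=
    LocallyOfFiniteType.isLocallyNoetherian (Y ↘ Spec (CommRingCat.of k))
  have coh : ∀ {M : Y.Modules} {r : ℕ}, FlatMod.IsFinLocFreeOfRank r M → Coh.IsCoh M := fun h =>
    GrothLib.Euler.isCoh_of_isFinLocFree (GrothLib.FinCov.isFinLocFree_of_rank h)
  set C := cokernel φ with hCdef
  have hC : Coh.IsCoh C :=
    GrothLib.QCoh.isCoh_cokernel φ (GrothLib.QCoh.isCoh_biprod' (coh hA₁) (coh hA₂))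
      (GrothLib.QCoh.isCoh_biprod' (coh hB₁) (coh hB₂))
  haveI := hC.1
  let ψ : A₁ ⟶ B₁ := biprod.inl ≫ φ ≫ biprod.fst
  let q : C ⟶ cokernel ψ := cokernel.desc φ (biprod.fst ≫ cokernel.π ψ) (by
    refine biprod.hom_ext' _ _ ?_ ?_
    · rw [comp_zero]
      simpa only [ψ, Category.assoc] using cokernel.condition ψ
    · rw [comp_zero, ← Category.assoc φ, ← Category.assoc,
        h₂₁ (biprod.inr ≫ φ ≫ biprod.fst), zero_comp])
  haveI : Epi q := by
    haveI : Epi (cokernel.π φ ≫ q) := by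
      rw [cokernel.π_desc]
      exact epi_comp _ _
    exact epi_of_epi (cokernel.π φ) q
  set r := b₁ + b₂ - (a₁ + a₂) with hr
  refine Set.eq_univ_of_forall fun x => ?_
  by_contra hx
  obtain ⟨U, hU, hxU, -⟩ := exists_isAffineOpen_mem_and_subset (x := x) (U := ⊤) trivial
  rw [SetLike.mem_coe, GrothLib.FittSheaf.notMem_support_iff_not_le hC.2 r ⟨U, hU⟩ hxU] at hx
  obtain ⟨d, hd, hdp⟩ := SetLike.not_le_iff_exists.mp hx
  let R : Type u := Y.presheaf.stalk x
  let K : Type u := (IsLocalRing.maximalIdeal R).ResidueField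
  have hfitC : Fitt.ideal R (C.presheaf.stalk x) r = ⊤ := by
    have hm := Ideal.mem_map_of_mem (Y.presheaf.germ U x hxU).hom hd
    haveI := GrothLib.FittSheaf.finite_sections hC.2 ⟨U, hU⟩
    rw [GrothLib.FittSheaf.map_germ_ideal C hU hxU] at hm
    refine Ideal.eq_top_of_isUnit_mem _ hm ?_
    simpa [GrothLib.WeakAss.primeAt] using hdp
  haveI := GrothLib.FittSheaf.finite_stalk hC.2 x
  have hfit : Fitt.ideal R ((cokernel ψ).presheaf.stalk x) r = ⊤ := top_le_iff.mp (hfitC.ge.trans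
    (GrothLib.Fitting.ideal_le_of_surjective _ (GrothLib.QCoh.stalkLin_surjective q x) r))
  haveI : Module.Finite R ((cokernel ψ).presheaf.stalk x) :=
    Module.Finite.of_surjective _ (GrothLib.QCoh.stalkLin_surjective q x)
  have h1 : Module.finrank K (TensorProduct R K ((cokernel ψ).presheaf.stalk x)) ≤ r :=
    (GrothLib.Fitting.not_le_iff_finrank_fiber_le r (IsLocalRing.maximalIdeal R)).mp fun hle =>
      (IsLocalRing.maximalIdeal.isMaximal R).ne_top (top_le_iff.mp (hfit.ge.trans hle))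
  obtain ⟨W₁, e₁, hx₁, he₁⟩ := GrothLib.FinCov.exists_frame_nhd_of_rank hA₁ x
  obtain ⟨β₁⟩ := GrothLib.Euler.stalk_basis_of_frame he₁ hx₁
  obtain ⟨W₂, e₂, hx₂, he₂⟩ := GrothLib.FinCov.exists_frame_nhd_of_rank hB₁ x
  obtain ⟨β₂⟩ := GrothLib.Euler.stalk_basis_of_frame he₂ hx₂
  haveI := Module.Free.of_basis β₁
  haveI := Module.Finite.of_basis β₁
  haveI := Module.Free.of_basis β₂
  haveI := Module.Finite.of_basis β₂
  have hA : Module.finrank K (TensorProduct R K (A₁.presheaf.stalk x)) = a₁ := by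
    rw [Module.finrank_baseChange, Module.finrank_eq_card_basis β₁, Fintype.card_fin]
  have hB : Module.finrank K (TensorProduct R K (B₁.presheaf.stalk x)) = b₁ := by
    rw [Module.finrank_baseChange, Module.finrank_eq_card_basis β₂, Fintype.card_fin]
  let T := ShortComplex.mk ψ (cokernel.π ψ) (cokernel.condition ψ)
  have hex : Function.Exact (GrothLib.QCoh.stalkLin ψ x) (GrothLib.QCoh.stalkLin (cokernel.π ψ) x) :=
    (ShortComplex.ShortExact.moduleCat_exact_iff_function_exact _).1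
      ((GrothLib.OX.exact_iff T).1 (ShortComplex.exact_of_g_is_cokernel _ (cokernelIsCokernel _)) x)
  have hexK := lTensor_exact K hex (GrothLib.QCoh.stalkLin_surjective (cokernel.π ψ) x)
  let f' := (GrothLib.QCoh.stalkLin ψ x).baseChange K
  let g' := (GrothLib.QCoh.stalkLin (cokernel.π ψ) x).baseChange K
  have hrn := LinearMap.finrank_range_add_finrank_ker g'
  have hker : LinearMap.ker g' = LinearMap.range f' := by
    ext z
    exact hexK z
  rw [hker] at hrn
  have hf' := LinearMap.finrank_range_le f'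
  have hg' : Module.finrank K (LinearMap.range g') ≤
      Module.finrank K (TensorProduct R K ((cokernel ψ).presheaf.stalk x)) := Submodule.finrank_le _
  rw [hB] at hrn
  rw [hA] at hf'
  omega

end Groth.Agent.S17486
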