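import Groth.Statements.S1749
import Groth.Agent.Lib.LocalDual.FiniteLength
-- import your own Groth.Agent.* helpers here

set_option autoImplicit false
universe u
open CategoryTheory
attribute [local instance] HasDerivedCategory.standard
open Dual

namespace Groth.Agent.S1749

/-- Let A be a Noetherian local ring with a normalized dualizing complex ω and κ → E an injective hull
of the residue field. For every A-module N of finite length, the maps N → ω[i] in D(A) vanish for i
≠ 0, and the A-module of maps N → ω is isomorphic to Hom_A(N, E). (The source gives this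
functorially in N; here only the existence of the isomorphism for each N is asserted.) -/
theorem result (A : Type u) [CommRing A] [IsLocalRing A] [IsNoetherianRing A] (ω : Dual.D A) (hω : Dual.IsDualizing A ω) (hn : Dual.IsNormalized A ω) (E : Type u) [AddCommGroup E] [Module A E] (f : IsLocalRing.ResidueField A →ₗ[A] E) (hf : InjHull.IsInjectiveHull f) (N : Type u) [AddCommGroup N] [Module A N] (hN : IsFiniteLength A N) : (∀ i : ℤ, i ≠ 0 → Subsingleton (Dual.inD A N ⟶ ω⟦i⟧)) ∧ Nonempty ((Dual.inD A N ⟶ ω) ≃ₗ[A] (N →ₗ[A] E)) := by
  haveI : IsNoetherian A N := (isFiniteLength_iff_isNoetherian_isArtinian.1 hN).1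
  obtain ⟨k, hk⟩ := GrothLib.LocalDual.exists_pow_kills_of_isFiniteLength hN
  exact ⟨fun i hi => GrothLib.LocalDual.subsingleton_EH_of_killed hω hn N hk hi, GrothLib.LocalDual.nonempty_hom_equiv_hull hω hn hf N hk⟩

end Groth.Agent.S1749
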