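import Groth.Statements.S17490
import Groth.Agent.Lib.GenHom20.Pure

set_option autoImplicit false
set_option maxHeartbeats 1000000
set_option linter.style.haveILetI false
set_option backward.isDefEq.respectTransparency false
universe u
open CategoryTheory CategoryTheory.Limits AlgebraicGeometry
open Coherent

namespace Groth.Agent.S17490

/-- Let k be an algebraically closed field of characteristic zero and P = P²_k with its line bundles
O(m). Fix natural numbers α₁, α₂, α₃ and consider morphisms φ : O(-2)^{α₁} → O(-1)^{α₂} ⊕ O^{α₃}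
(candidate Gaeta resolutions for the sequence (O(-2), O(-1), O)), which form a finite-dimensional
k-vector space; 'for general φ' means: for all φ at which some fixed nonzero polynomial in linear
coordinates on that space does not vanish. If r = α₂ + α₃ - α₁ = 1, then for general φ the map φ is
a monomorphism and its cokernel F_φ is torsion-free: a nonzero coherent O_P-module pure of dimension
two. -/
theorem result
    (k : Type u) [Field k] [IsAlgClosed k] [CharZero k] (α₁ α₂ α₃ : ℕ) (hr : α₂ + α₃ = α₁ + 1) :
    letI P := CohB1.ProjSpace 2 k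
    letI A : P.Modules := ∐ fun _ : Fin α₁ => Twist.twistProjSpace 2 k (-2)
    letI B : P.Modules := (∐ fun _ : Fin α₂ => Twist.twistProjSpace 2 k (-1)) ⊞ (∐ fun _ : Fin α₃ => Coh.structureModule P)
    ∃ (m : ℕ) (c : (A ⟶ B) ≃ₗ[k] (Fin m → k)) (p : MvPolynomial (Fin m) k), p ≠ 0 ∧
      ∀ φ : A ⟶ B, MvPolynomial.eval (c φ) p ≠ 0 →
        Mono φ ∧ Coh.IsCoh (cokernel φ) ∧ ¬ IsZero (cokernel φ) ∧ ShStab.IsPure P (cokernel φ) 2 := by
  obtain ⟨m, c, p, hp, h⟩ := GrothLib.GenHom20.exists_poly_pure (k := k) α₁ α₂ α₃ hr
  exact ⟨m, c, p, hp, h⟩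

end Groth.Agent.S17490
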