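import Groth.Statements.S17492
import Groth.Agent.Lib.GaetaPts20.Plane
import Groth.Agent.Lib.GenHom20.Main
import Groth.Agent.Lib.GenHom20.Poly
import Groth.Agent.Lib.Gaeta20.Main

set_option autoImplicit false
set_option maxHeartbeats 1000000
set_option linter.style.haveILetI false
set_option backward.isDefEq.respectTransparency false
universe u
open CategoryTheory CategoryTheory.Limits AlgebraicGeometry
open Coherent

namespace Groth.Agent.S17492

/-- Let k be an algebraically closed field of characteristic zero and P = P²_k with its line bundles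
O(m). Fix natural numbers α₁, α₂, α₃ and consider morphisms φ : O(-2)^{α₁} → O(-1)^{α₂} ⊕ O^{α₃}
(candidate Gaeta resolutions for the sequence (O(-2), O(-1), O)), which form a finite-dimensional
k-vector space; 'for general φ' means: for all φ at which some fixed nonzero polynomial in linear
coordinates on that space does not vanish. Let r ≥ 1 and ℓ ≥ 1 and take α₃ = ℓr and α₁ = α₂ + (ℓ -
1)r (so that the cokernel F_φ of an injective φ has rank r and, for Z of length ℓ, χ(F_φ ⊗ I_Z) =
0). Then for general φ: φ is a monomorphism, and there is a closed subscheme Z of P consisting of ℓ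
distinct reduced points (a reduced closed subscheme whose underlying set has exactly ℓ elements)
such that H^i(P, F_φ ⊗ I_Z) = 0 for every i, where I_Z is the ideal sheaf of Z as an O_P-module.
(The published statement is for φ general and Z a general point of the Hilbert scheme of ℓ points;
lacking that Hilbert scheme here, the row asserts the existence of one such reduced Z for general φ,
which the printed statement implies.) -/
theorem result
    (k : Type u) [Field k] [IsAlgClosed k] [CharZero k] (α₁ α₂ α₃ : ℕ) (r ℓ : ℕ) (hr : 1 ≤ r) (hℓ : 1 ≤ ℓ) (h₃ : α₃ = ℓ * r) (h₁ : α₁ = α₂ + (ℓ - 1) * r) :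
    letI P := CohB1.ProjSpace 2 k
    letI A : P.Modules := ∐ fun _ : Fin α₁ => Twist.twistProjSpace 2 k (-2)
    letI B : P.Modules := (∐ fun _ : Fin α₂ => Twist.twistProjSpace 2 k (-1)) ⊞ (∐ fun _ : Fin α₃ => Coh.structureModule P)
    ∃ (m : ℕ) (c : (A ⟶ B) ≃ₗ[k] (Fin m → k)) (p : MvPolynomial (Fin m) k), p ≠ 0 ∧
      ∀ φ : A ⟶ B, MvPolynomial.eval (c φ) p ≠ 0 →
        Mono φ ∧ ∃ Z : P.IdealSheafData, IsReduced Z.subscheme ∧ Nat.card ↥Z.subscheme = ℓ ∧
          ∀ i : ℕ, Subsingleton (Coh.HH P (CohB1.tensorMod (cokernel φ) (ClSub.idealMod Z)) i) := by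
  classical
  haveI : HasExt.{u} (CohB1.ProjSpace 2 k).Modules := GrothLib.ModSupp25.hasExt_mod (CohB1.ProjSpace 2 k).sheaf
  obtain ⟨L, rfl⟩ : ∃ L, ℓ = L + 1 := ⟨ℓ - 1, by omega⟩
  rw [Nat.add_sub_cancel] at h₁
  subst h₁ h₃
  have hmono : ∃ (m : ℕ) (co : ((∐ fun _ : Fin (α₂ + L * r) => GrothLib.GenHom20.O 2 k (-2)) ⟶
      GrothLib.GenHom20.target 2 k α₂ ((L + 1) * r)) ≃ₗ[k] (Fin m → k))
      (p : MvPolynomial (Fin m) k), p ≠ 0 ∧ ∀ φ, MvPolynomial.eval (co φ) p ≠ 0 → Mono φ := by
    rcases Nat.lt_or_ge r 2 with h | h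
    · obtain ⟨m, co, p, hp, hp'⟩ := GrothLib.GenHom20.exists_poly_pure (k := k) (α₂ + L * r) α₂ ((L + 1) * r)
        (by obtain rfl : r = 1 := by omega
            omega)
      exact ⟨m, co, p, hp, fun φ hφ => (hp' φ hφ).1⟩
    · obtain ⟨m, co, p, hp, hp'⟩ := GrothLib.GenHom20.exists_poly_bundle (n := 2) (k := k) (α₂ + L * r) α₂
        ((L + 1) * r) (by rw [Nat.succ_mul]; omega)
      exact ⟨m, co, p, hp, fun φ hφ => (hp' φ hφ).1⟩
  obtain ⟨m, co, p, hp, hp'⟩ := hmono
  let lam : Fin (L + 1) → k := fun t => ((t : ℕ) : k)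
  have hlam : Function.Injective lam := fun a b h => Fin.ext (Nat.cast_injective h)
  obtain ⟨q, hq, hq'⟩ := GrothLib.GaetaPts20.exists_poly_vanishing L r α₂ lam co hlam
  obtain ⟨s, hs, hs'⟩ := GrothLib.GenHom20.exists_poly_and co hp hq hp' hq'
  refine ⟨m, co, s, hs, fun φ hφ => ?_⟩
  obtain ⟨h1, h2⟩ := hs' φ hφ
  refine ⟨h1, GrothLib.GaetaPts20.ptsIdeal (fun t => GrothLib.GaetaPts20.linePoint (lam t))
    (fun t => GrothLib.GaetaPts20.isClosed_linePoint (lam t)), ?_, ?_, fun i => h2 h1 i⟩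
  · exact GrothLib.GaetaPts20.isReduced_ptsIdeal _ _
  · exact (GrothLib.GaetaPts20.card_ptsIdeal _ _ fun a b h => hlam (GrothLib.GaetaPts20.linePoint_injective h))

end Groth.Agent.S17492
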