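import Groth.Statements.S17499
-- import your own Groth.Agent.* helpers here


set_option autoImplicit false
universe u
open RelQuot

namespace GrothAux.S17499

open CategoryTheory Limits AlgebraicGeometry TopologicalSpace

theorem key {k : Type u} [Field k] {X Y F : Scheme.{u}}
    (pY : Y ⟶ Spec (CommRingCat.of k)) [LocallyOfFiniteType pY] [QuasiCompact pY]
    (pF : F ⟶ Spec (CommRingCat.of k)) [LocallyOfFiniteType pF] [QuasiCompact pF]
    (f : X ⟶ Y) [LocallyOfFiniteType f] [QuasiCompact f]
    (hf : ∀ y : Y, ∃ (U : Y.Opens) (e : (f ⁻¹ᵁ U).toScheme ≅ pullback (U.ι ≫ pY) pF),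
      y ∈ U ∧ e.hom ≫ pullback.fst (U.ι ≫ pY) pF = f ∣_ U)
    [IsNoetherian Y] (T : Closeds Y) :
    ∀ (Z : Scheme.{u}) (i : Z ⟶ Y) [IsClosedImmersion i], Set.range i = (T : Set Y) →
      K0Var.cl (pullback.snd f i ≫ i ≫ pY) = K0Var.cl (i ≫ pY) * K0Var.cl pF := by
  induction T using (wellFounded_lt (α := Closeds Y)).induction with
  | h T ih =>
    intro Z i _ hT
    rcases isEmpty_or_nonempty Z with hZ | ⟨⟨z⟩⟩
    · haveI : IsEmpty ↥(pullback f i) := (pullback.snd f i).base.hom.toFun |> Function.isEmpty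
      have h1 : K0Var.cl (pullback.snd f i ≫ i ≫ pY) = 0 := by
        rw [K0Var.cl_eq_gen_cl]
        haveI : IsEmpty (K0Var.Gen.mk (pullback f i) (pullback.snd f i ≫ i ≫ pY)).X := ‹_›
        exact K0Var.Gen.cl_eq_zero_of_isEmpty _
      have h2 : K0Var.cl (i ≫ pY) = 0 := by
        rw [K0Var.cl_eq_gen_cl]
        haveI : IsEmpty (K0Var.Gen.mk Z (i ≫ pY)).X := hZ
        exact K0Var.Gen.cl_eq_zero_of_isEmpty _
      rw [h1, h2, zero_mul]
    obtain ⟨U, e, hzU, he⟩ := hf (i z)
    haveI : IsLocallyNoetherian Z := LocallyOfFiniteType.isLocallyNoetherian i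
    haveI : CompactSpace Z := QuasiCompact.compactSpace_of_compactSpace i
    haveI : AlgebraicGeometry.IsNoetherian Z := {}
    let C : Closeds Z := ⟨((i ⁻¹ᵁ U : Z.Opens) : Set Z)ᶜ, (i ⁻¹ᵁ U).2.isClosed_compl⟩
    let W := (Scheme.IdealSheafData.vanishingIdeal C).subscheme
    let w : W ⟶ Z := (Scheme.IdealSheafData.vanishingIdeal C).subschemeι
    have hw : Set.range w = ((i ⁻¹ᵁ U : Z.Opens) : Set Z)ᶜ := by
      rw [Scheme.IdealSheafData.range_subschemeι, Scheme.IdealSheafData.coe_support_vanishingIdeal]; rfl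
    let j := (i ⁻¹ᵁ U).ι
    have hj : Set.range w = (Set.range j)ᶜ := by rw [hw, Scheme.Opens.range_ι]
    haveI : QuasiCompact j := inferInstance
    -- the two pieces upstairs
    let w' : pullback f (w ≫ i) ⟶ pullback f i :=
      pullback.lift (pullback.fst _ _) (pullback.snd _ _ ≫ w) (by rw [pullback.condition, Category.assoc])
    let j' : pullback f (j ≫ i) ⟶ pullback f i :=
      pullback.lift (pullback.fst _ _) (pullback.snd _ _ ≫ j) (by rw [pullback.condition, Category.assoc])
    have hw' : IsPullback w' (pullback.snd f (w ≫ i)) (pullback.snd f i) w :=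
      IsPullback.of_right (by rw [pullback.lift_fst]; exact IsPullback.of_hasPullback f (w ≫ i)) (pullback.lift_snd _ _ _)
        (IsPullback.of_hasPullback f i)
    have hj' : IsPullback j' (pullback.snd f (j ≫ i)) (pullback.snd f i) j :=
      IsPullback.of_right (by rw [pullback.lift_fst]; exact IsPullback.of_hasPullback f (j ≫ i)) (pullback.lift_snd _ _ _)
        (IsPullback.of_hasPullback f i)
    haveI : IsClosedImmersion w' := MorphismProperty.of_isPullback hw'.flip (inferInstance : IsClosedImmersion w)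
    haveI : IsOpenImmersion j' := MorphismProperty.of_isPullback hj'.flip inferInstance
    haveI : QuasiCompact j' := MorphismProperty.of_isPullback hj'.flip ‹QuasiCompact j›
    have hr : Set.range w' = (Set.range j')ᶜ := by
      ext p
      have hmem : ∀ {A : Scheme.{u}} {a : A ⟶ Z} {P : Scheme.{u}} {a' : P ⟶ pullback f i} {b : P ⟶ A},
          IsPullback a' b (pullback.snd f i) a → (p ∈ Set.range a' ↔ pullback.snd f i p ∈ Set.range a) := by
        intro A a P a' b h
        constructor
        · rintro ⟨q, rfl⟩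
          exact ⟨b q, by rw [← Scheme.Hom.comp_apply, ← Scheme.Hom.comp_apply, h.w]⟩
        · rintro ⟨q, hq⟩
          obtain ⟨r, hr, -⟩ := Scheme.exists_preimage_of_isPullback h p q hq.symm
          exact ⟨r, hr⟩
      rw [Set.mem_compl_iff, hmem hw', hmem hj', hj, Set.mem_compl_iff]
    rw [K0Var.cl_scissor (pullback.snd f i ≫ i ≫ pY) w' j' hr, K0Var.cl_scissor (i ≫ pY) w j hj, add_mul]
    congr 1
    · have ew : w' ≫ pullback.snd f i ≫ i ≫ pY = pullback.snd f (w ≫ i) ≫ (w ≫ i) ≫ pY := by
        rw [← Category.assoc, hw'.w, Category.assoc, Category.assoc]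
      let T' : Closeds Y := ⟨Set.range (w ≫ i), (w ≫ i).isClosedEmbedding.isClosed_range⟩
      have hlt : T' < T := by
        have hle : (T' : Set Y) ⊆ (T : Set Y) := by
          rw [← hT]
          rintro _ ⟨q, rfl⟩
          exact ⟨w q, by rw [Scheme.Hom.comp_apply]⟩
        refine lt_of_le_of_ne (SetLike.coe_subset_coe.1 hle) fun heq => ?_
        have hzT : i z ∈ (T' : Set Y) := by rw [heq, ← hT]; exact ⟨z, rfl⟩
        obtain ⟨q, hq⟩ := hzT
        rw [Scheme.Hom.comp_apply] at hq
        have hwq : w q ∈ Set.range w := ⟨q, rfl⟩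
        rw [hw] at hwq
        exact hwq (by rw [i.isClosedEmbedding.injective hq]; exact hzU)
      have := ih T' hlt W (w ≫ i) rfl
      simp only [Category.assoc] at this ew ⊢
      simp only [ew]
      exact this
    · let h := i ∣_ U
      have hh : j ≫ i = h ≫ U.ι := (morphismRestrict_ι i U).symm
      have hQ : IsPullback (pullback.map (h ≫ U.ι ≫ pY) pF (U.ι ≫ pY) pF h (𝟙 F) (𝟙 _) (by simp) (by simp))
          (pullback.fst (h ≫ U.ι ≫ pY) pF) (pullback.fst (U.ι ≫ pY) pF) h := by
        refine IsPullback.of_right ?_ (pullback.lift_fst _ _ _) (IsPullback.of_hasPullback (U.ι ≫ pY) pF).flip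
        rw [show pullback.map (h ≫ U.ι ≫ pY) pF (U.ι ≫ pY) pF h (𝟙 F) (𝟙 _) (by simp) (by simp) ≫ pullback.snd _ _ =
          pullback.snd (h ≫ U.ι ≫ pY) pF from (pullback.lift_snd _ _ _).trans (Category.comp_id _)]
        exact (IsPullback.of_hasPullback _ pF).flip
      have hR : IsPullback (e.inv ≫ (f ⁻¹ᵁ U).ι) (pullback.fst (U.ι ≫ pY) pF) f U.ι :=
        (isPullback_morphismRestrict f U).flip.of_iso e (Iso.refl _) (Iso.refl _) (Iso.refl _)
          (by simp) (by simp [he]) (by simp) (by simp)
      have hall := hQ.paste_horiz hR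
      have hp : j ≫ i ≫ pY = h ≫ U.ι ≫ pY := by rw [← Category.assoc, hh, Category.assoc]
      obtain ⟨a, ha⟩ : ∃ a, IsPullback a (pullback.fst (j ≫ i ≫ pY) pF) f (j ≫ i) := by
        rw [hh, hp]
        exact ⟨_, hall⟩
      rw [← K0Var.cl_mul (j ≫ i ≫ pY) pF]
      refine K0Var.cl_congr _ _ ha.isoPullback.symm ?_
      rw [reassoc_of% hj'.w, Iso.symm_hom, ← Category.assoc, ha.isoPullback_inv_snd]

end GrothAux.S17499

namespace Groth.Agent.S17499

open CategoryTheory CategoryTheory.Limits AlgebraicGeometry in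
/-- Let k be an algebraically closed field of characteristic zero, X, Y and F schemes of finite type
over k, and f : X → Y a morphism over k which is a Zariski locally trivial fibration with fibre F:
every point of Y has an open neighbourhood U together with an isomorphism from f⁻¹(U) to U ×_k F
whose composite with the first projection is the restriction of f. Then in the Grothendieck ring of
k-schemes of finite type the class of X equals [Y] · [F]. The published statement is for varieties;
it is stated here for schemes of finite type over k, which present the same ring. -/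
theorem result
    (k : Type u) [Field k] [IsAlgClosed k] [CharZero k] {X Y F : Scheme.{u}}
    (pY : Y ⟶ Spec (CommRingCat.of k)) [LocallyOfFiniteType pY] [QuasiCompact pY]
    (pF : F ⟶ Spec (CommRingCat.of k)) [LocallyOfFiniteType pF] [QuasiCompact pF]
    (f : X ⟶ Y) [LocallyOfFiniteType f] [QuasiCompact f]
    (hf : ∀ y : Y, ∃ (U : Y.Opens) (e : (f ⁻¹ᵁ U).toScheme ≅ pullback (U.ι ≫ pY) pF),
      y ∈ U ∧ e.hom ≫ pullback.fst (U.ι ≫ pY) pF = f ∣_ U) :
    K0Var.cl (f ≫ pY) = K0Var.cl pY * K0Var.cl pF := by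
  haveI : IsNoetherianRing (CommRingCat.of k : Type u) := inferInstanceAs (IsNoetherianRing k)
  haveI : IsLocallyNoetherian Y := LocallyOfFiniteType.isLocallyNoetherian pY
  haveI : CompactSpace Y := QuasiCompact.compactSpace_of_compactSpace pY
  haveI : AlgebraicGeometry.IsNoetherian Y := {}
  have h := GrothAux.S17499.key pY pF f hf ⊤ Y (𝟙 Y) (by simp)
  simp only [Category.id_comp] at h
  rw [← h]
  refine K0Var.cl_congr _ _ (asIso (Limits.pullback.fst f (𝟙 Y))).symm ?_
  simp [← Category.assoc, ← Limits.pullback.condition]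


end Groth.Agent.S17499
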