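import Groth.Statements.S1750
import Groth.Agent.S0311
import Groth.Agent.S8925

set_option autoImplicit false
universe u
open InjHull

namespace Groth.Agent.S1750

/-- Let R → S be a flat local homomorphism of Noetherian local rings with m_R S = m_S inducing a
bijection on residue fields. If κ_S → E is an injective hull of the residue field of S over S, then
E regarded as an R-module is an injective hull of the residue field of R (for a suitable R-linear
map κ_R → E). -/
theorem result (R S : Type u) [CommRing R] [CommRing S] [IsLocalRing R] [IsLocalRing S] [IsNoetherianRing R] [IsNoetherianRing S] [Algebra R S] [IsLocalHom (algebraMap R S)] [Module.Flat R S] (hm : (IsLocalRing.maximalIdeal R).map (algebraMap R S) = IsLocalRing.maximalIdeal S) (hk : Function.Bijective (IsLocalRing.ResidueField.map (algebraMap R S))) (E : Type u) [AddCommGroup E] [Module S E] [Module R E] [IsScalarTower R S E] (f : IsLocalRing.ResidueField S →ₗ[S] E) (hf : InjHull.IsInjectiveHull f) : ∃ g : IsLocalRing.ResidueField R →ₗ[R] E, InjHull.IsInjectiveHull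 g := by
  have htor := Groth.Agent.S0311.result S E f hf
  haveI := hf.isInjective
  have hmem : ∀ r ∈ IsLocalRing.maximalIdeal R, algebraMap R S r ∈ IsLocalRing.maximalIdeal S :=
    fun r hr => hm ▸ Ideal.mem_map_of_mem _ hr
  have hkill : ∀ a ∈ IsLocalRing.maximalIdeal S, a • f 1 = 0 := fun a ha => by
    rw [← map_smul, Algebra.smul_def]
    rw [show algebraMap S (IsLocalRing.ResidueField S) a = 0 from Ideal.Quotient.eq_zero_iff_mem.2 ha,
      zero_mul, map_zero]
  let g : IsLocalRing.ResidueField R →ₗ[R] E :=
    Submodule.liftQ (IsLocalRing.maximalIdeal R) (LinearMap.toSpanSingleton R E (f 1)) fun r hr => by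
      rw [LinearMap.mem_ker, LinearMap.toSpanSingleton_apply, ← algebraMap_smul S r]
      exact hkill _ (hmem r hr)
  have hg : ∀ r : R, g (IsLocalRing.residue R r) =
      f (IsLocalRing.residue S (algebraMap R S r)) := fun r => by
    show r • f 1 = _
    rw [← algebraMap_smul S r, ← map_smul, Algebra.smul_def, mul_one]
    rfl
  refine ⟨g, { injective := ?_, essential := ?_, isInjective := Groth.Agent.S8925.result R S E }⟩
  · refine (injective_iff_map_eq_zero g).2 fun x hx => ?_
    obtain ⟨r, rfl⟩ := IsLocalRing.residue_surjective x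
    rw [hg] at hx
    refine hk.1 ?_
    rw [map_zero, IsLocalRing.ResidueField.map_residue]
    exact hf.injective (hx.trans (map_zero f).symm)
  intro N hN
  obtain ⟨x, hxN, hx0⟩ := (Submodule.ne_bot_iff N).1 hN
  classical
  have hex : ∃ n : ℕ, ∀ a ∈ IsLocalRing.maximalIdeal R ^ n, a • x = 0 := by
    obtain ⟨n, hn⟩ := htor x
    refine ⟨n, fun a ha => ?_⟩
    rw [← algebraMap_smul S a]
    apply hn
    rw [← hm, ← Ideal.map_pow]
    exact Ideal.mem_map_of_mem _ ha
  obtain ⟨n, hn⟩ : ∃ n, Nat.find hex = n + 1 := by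
    refine ⟨Nat.find hex - 1, ?_⟩
    have : Nat.find hex ≠ 0 := fun h => hx0 (by
      have := Nat.find_spec hex 1 (by rw [h]; simp)
      rwa [one_smul] at this)
    omega
  obtain ⟨a, ha, hax⟩ : ∃ a ∈ IsLocalRing.maximalIdeal R ^ n, a • x ≠ 0 := by
    have := Nat.find_min hex (show n < Nat.find hex by omega)
    push Not at this; exact this
  have hy : ∀ b ∈ IsLocalRing.maximalIdeal S, b • (a • x) = 0 := by
    intro b hb
    rw [← hm, Ideal.map] at hb
    induction hb using Submodule.span_induction with
    | mem b hb =>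
      obtain ⟨r, hr, rfl⟩ := hb
      rw [algebraMap_smul, smul_smul]
      exact Nat.find_spec hex _ (by rw [hn, pow_succ']; exact Ideal.mul_mem_mul hr ha)
    | zero => rw [zero_smul]
    | add b c _ _ h h' => rw [add_smul, h, h', add_zero]
    | smul s b _ h => rw [smul_eq_mul, mul_smul, h, smul_zero]
  obtain ⟨z, hz, hz0⟩ := (Submodule.ne_bot_iff _).1 (hf.essential (Submodule.span S {a • x})
    (by simp [hax]))
  obtain ⟨s, rfl⟩ := Submodule.mem_span_singleton.1 hz.1
  have hs : IsUnit s := IsLocalRing.notMem_maximalIdeal.1 fun h => hz0 (hy s h)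
  have hyr : a • x ∈ LinearMap.range f := by
    have := Submodule.smul_mem _ (↑hs.unit⁻¹ : S) hz.2
    rwa [smul_smul, IsUnit.val_inv_mul, one_smul] at this
  obtain ⟨c, hc⟩ := hyr
  obtain ⟨r', hr'⟩ := hk.2 c
  obtain ⟨r, rfl⟩ := IsLocalRing.residue_surjective r'
  rw [IsLocalRing.ResidueField.map_residue] at hr'
  refine (Submodule.ne_bot_iff _).2 ⟨a • x, ⟨N.smul_mem a hxN, IsLocalRing.residue R r, ?_⟩, hax⟩
  rw [hg, hr', hc]

end Groth.Agent.S1750
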