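import Groth.Statements.S17500
import Mathlib.RingTheory.Flat.Tensor
import Mathlib.RingTheory.PrincipalIdealDomain
import Mathlib.RingTheory.ZMod
import Mathlib.NumberTheory.Padics.PadicVal.Basic

set_option autoImplicit false
universe u
open TorsMod

namespace Groth.Agent.S17500

open scoped TensorProduct


/-- Let p be a prime number, n a natural number and H a module over ℤ/p^nℤ. Then H is flat over ℤ/p^nℤ
if and only if, for every i with 0 ≤ i ≤ n, the kernel of multiplication by p^i on H coincides with
the image of multiplication by p^(n-i) on H. (The published item is phrased for an fppf sheaf of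
ℤ/p^nℤ-modules on a scheme; this is the case of a single module, which is the case the argument
treats.) -/
theorem result (p n : ℕ) [Fact p.Prime]
    (H : Type u) [AddCommGroup H] [Module (ZMod (p ^ n)) H] :
    Module.Flat (ZMod (p ^ n)) H ↔
      ∀ i : ℕ, i ≤ n →
        LinearMap.ker ((p ^ i : ZMod (p ^ n)) • (LinearMap.id : H →ₗ[ZMod (p ^ n)] H)) =
          LinearMap.range ((p ^ (n - i) : ZMod (p ^ n)) • (LinearMap.id : H →ₗ[ZMod (p ^ n)] H)) := by
  classical
  let R := ZMod (p ^ n)
  have hp := (Fact.out : p.Prime)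
  have hchar : ((p ^ n : ℕ) : R) = 0 := ZMod.natCast_self _
  have hann : ∀ i, i ≤ n → ∀ x : R, (p ^ i : R) * x = 0 → ∃ y : R, x = (p ^ (n - i) : R) * y := by
    intro i hi x hx
    obtain ⟨k, rfl⟩ := ZMod.natCast_zmod_surjective x
    have h : p ^ n ∣ p ^ i * k := by
      rw [← ZMod.natCast_eq_zero_iff]
      push_cast
      exact hx
    rw [← Nat.add_sub_cancel' hi, pow_add] at h
    obtain ⟨y, hy⟩ := (mul_dvd_mul_iff_left (pow_ne_zero i hp.ne_zero)).1 h
    exact ⟨y, by rw [hy]; push_cast; ring⟩
  have hpp : ∀ i, i ≤ n → (p ^ i : R) * (p ^ (n - i) : R) = 0 := fun i hi => by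
    rw [← pow_add, Nat.add_sub_cancel' hi, ← Nat.cast_pow, hchar]
  have hideal : ∀ I : Ideal R, ∃ i, i ≤ n ∧ I = Ideal.span {(p ^ i : R)} := fun I => by
    obtain ⟨d, hd⟩ := (IsPrincipalIdealRing.principal (I.comap (Int.castRingHom R))).principal
    have hdvd : d ∣ ((p ^ n : ℕ) : ℤ) := by
      rw [← Ideal.mem_span_singleton, ← Ideal.submodule_span_eq, ← hd, Ideal.mem_comap]
      simp only [eq_intCast, Int.cast_natCast, hchar, zero_mem]
    have hd' : d.natAbs ∣ p ^ n := by simpa using Int.natAbs_dvd_natAbs.2 hdvd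
    obtain ⟨i, hi, hia⟩ := (Nat.dvd_prime_pow hp).1 hd'
    refine ⟨i, hi, ?_⟩
    have hsurj : Function.Surjective (Int.castRingHom R) := ZMod.ringHom_surjective _
    rw [← Ideal.map_comap_of_surjective _ hsurj I, hd, Ideal.submodule_span_eq, Ideal.map_span,
      Set.image_singleton]
    rcases Int.natAbs_eq d with h | h <;> rw [h, hia] <;> simp
  constructor
  · intro hfl i hi
    have hex : Function.Exact (LinearMap.lsmul R R (p ^ (n - i) : R)) (LinearMap.lsmul R R (p ^ i : R)) := by
      intro x
      simp only [LinearMap.lsmul_apply, smul_eq_mul, Set.mem_range]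
      exact ⟨fun h => (hann i hi x h).imp fun y hy => hy.symm,
        fun ⟨y, hy⟩ => by rw [← hy, ← mul_assoc, hpp i hi, zero_mul]⟩
    have hex' := Module.Flat.lTensor_exact H hex
    have hc : ∀ (c : R) (h : H), TensorProduct.rid R H ((LinearMap.lsmul R R c).lTensor H (h ⊗ₜ 1)) = c • h :=
      fun c h => by simp
    ext h
    simp only [LinearMap.mem_ker, LinearMap.smul_apply, LinearMap.id_apply, LinearMap.mem_range]
    constructor
    · intro hh
      obtain ⟨z, hz⟩ := (hex' (h ⊗ₜ 1)).1
        ((TensorProduct.rid R H).injective (by rw [hc, hh, map_zero]))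
      refine ⟨TensorProduct.rid R H z, ?_⟩
      have h2 := congrArg (TensorProduct.rid R H) hz
      rw [show z = TensorProduct.rid R H z ⊗ₜ (1 : R) from ((TensorProduct.rid R H).symm_apply_apply z).symm, hc,
        TensorProduct.rid_tmul, one_smul] at h2
      exact h2
    · rintro ⟨y, rfl⟩
      rw [smul_smul, hpp i hi, zero_smul]
  · intro hk
    refine Module.Flat.iff_rTensor_injective'.2 fun I => ?_
    obtain ⟨i, hi, rfl⟩ := hideal I
    let c : Ideal.span {(p ^ i : R)} := ⟨(p ^ i : R), Ideal.mem_span_singleton_self _⟩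
    have hrep : ∀ z : (Ideal.span {(p ^ i : R)}) ⊗[R] H, ∃ h : H, z = c ⊗ₜ h := fun z => by
      induction z using TensorProduct.induction_on with
      | zero => exact ⟨0, (TensorProduct.tmul_zero _ _).symm⟩
      | tmul a h =>
        obtain ⟨r, hr⟩ := Ideal.mem_span_singleton'.1 a.2
        refine ⟨r • h, ?_⟩
        rw [← TensorProduct.smul_tmul, show r • c = a from Subtype.ext hr]
      | add z w hz hw =>
        obtain ⟨a, rfl⟩ := hz
        obtain ⟨b, rfl⟩ := hw
        exact ⟨a + b, (TensorProduct.tmul_add _ _ _).symm⟩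
    rw [injective_iff_map_eq_zero]
    intro z hz
    obtain ⟨h, rfl⟩ := hrep z
    have h0 : (p ^ i : R) • h = 0 := by
      have := congrArg (TensorProduct.lid R H) hz
      rwa [LinearMap.rTensor_tmul, TensorProduct.lid_tmul, map_zero] at this
    have hmem : h ∈ LinearMap.ker ((p ^ i : R) • (LinearMap.id : H →ₗ[R] H)) := by simpa using h0
    rw [hk i hi] at hmem
    obtain ⟨y, rfl⟩ := hmem
    rw [LinearMap.smul_apply, LinearMap.id_apply, ← TensorProduct.smul_tmul,
      show (p ^ (n - i) : R) • c = 0 from Subtype.ext (by simp [c, mul_comm, hpp i hi]),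
      TensorProduct.zero_tmul]

end Groth.Agent.S17500
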