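import Groth.Statements.S17501
-- import your own Groth.Agent.* helpers here
import Groth.Agent.Lib.Poincare.IndexMain

set_option autoImplicit false
universe u
open CategoryTheory CategoryTheory.Limits MonoidalCategory CartesianMonoidalCategory MonObj GrpObj AlgebraicGeometry
open AbVar

namespace Groth.Agent.S17501

/-- Let X be an abelian variety over a field k (a proper, geometrically integral k-group scheme), let L
be an invertible O_X-module and i a natural number such that the cohomology of L is concentrated in
degree i: H^j(X, L) = 0 for j ≠ i and H^i(X, L) ≠ 0, let H be an ample invertible O_X-module, and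
let Φ be a polynomial with rational coefficients such that Φ(n) = χ(X, L ⊗ H^{⊗ n}) for every
natural number n (the Hilbert polynomial of L with respect to H). Then all complex roots of Φ are
real — the number of real roots of Φ counted with multiplicity equals its degree — and i equals the
number of positive real roots of Φ counted with multiplicity. (A line bundle on an abelian variety
is non-degenerate with index i exactly when its cohomology vanishes outside degree i and is non-zero
in degree i; this is how non-degeneracy and the index are expressed here.) -/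
theorem result
    (k : Type u) [Field k] (X : Over (Spec (CommRingCat.of k))) [GrpObj X] [IsProper X.hom] [GeometricallyIntegral X.hom]
    (L : X.left.Modules) (hL : PicF.IsInvertible L) (i : ℕ)
    (hvan : ∀ j : ℕ, j ≠ i → Subsingleton (Coh.HH X.left L j)) (hne : Nontrivial (Coh.HH X.left L i))
    (H : X.left.Modules) (hH : CohB1.IsAmple H)
    (Φ : Polynomial ℚ)
    (hΦ : ∀ n : ℕ, Φ.eval (n : ℚ) =
      (@Curv2.euler k _ X.left ⟨X.hom⟩ (CohB1.tensorMod L (CohB1.tensorPow H n)) : ℚ)) :
    Multiset.card (Φ.map (algebraMap ℚ ℝ)).roots = Φ.natDegree ∧
      i = Multiset.card ((Φ.map (algebraMap ℚ ℝ)).roots.filter (fun t => 0 < t)) := by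
  haveI : IsCommMonObj X := GrothLib.Cube.isCommMonObj_abVar (A := X)
  obtain ⟨g, hg⟩ := GrothLib.AbTors.exists_dim (A := X)
  have hx := GrothLib.Cube.hasCls_clsMod hL
  have hc : GrothLib.Index.Conc (GrothLib.Cube.clsMod hL) i :=
    (GrothLib.Index.conc_iff hx i).2 ⟨hvan, not_subsingleton_iff_nontrivial.2 hne⟩
  obtain ⟨-, h1, h2⟩ := GrothLib.Index.index_roots hg hH hx hΦ 0 (i := i) (by rwa [pow_zero, _root_.mul_one])
  rw [Nat.cast_zero] at h1
  exact ⟨h2, h1⟩

end Groth.Agent.S17501
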