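import Groth.Statements.S17502
import Groth.Agent.Lib.GrowthBd20.Field
import Groth.Agent.Lib.ParaPair.Basic

set_option autoImplicit false
set_option maxHeartbeats 800000
set_option linter.style.haveILetI false
set_option backward.isDefEq.respectTransparency false
universe u
open CategoryTheory CategoryTheory.Limits MonoidalCategory CartesianMonoidalCategory MonObj GrpObj AlgebraicGeometry
open Coherent

namespace Groth.Agent.S17502

/-- Let k be a field, Y a projective k-scheme of dimension d (a k-scheme with a closed immersion c into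
projective N-space over k, compatible with the structure morphisms, whose underlying topological
space has Krull dimension d), L_1, …, L_r invertible O_Y-modules, and F a family of O_Y-modules
indexed by a ∈ ℤ^r with F(0) ≅ O_Y and F(a + e_j) ≅ F(a) ⊗ L_j for all a and j, so that F(a) ≅
L_1^{⊗ a_1} ⊗ ⋯ ⊗ L_r^{⊗ a_r} for every a. Then there is a real constant C > 0, depending only on Y
and the L_j, such that dim_k H^i(Y, F(a)) ≤ C · (1 + |a|^d) for every i and every a, where |a| =
|a_1| + ⋯ + |a_r|. (The published statement prints the exponent as the number r of line bundles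
instead of the dimension d of Y; that bound fails as soon as r < d — on the projective plane with r
= 1 and L_1 = O(1) the dimension of H^0(O(a)) grows like a²/2 — while the printed induction on d + r
over hyperplane sections yields the exponent d, which is what is stated here.) -/
theorem result
    (k : Type u) [Field k] (Y : Scheme.{u}) [Y.Over (Spec (CommRingCat.of k))]
    (N : ℕ) (c : Y ⟶ CohB1.ProjSpace N k) [IsClosedImmersion c]
    (hc : c ≫ CohB1.ProjSpace.toSpec N k = Y ↘ Spec (CommRingCat.of k))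
    (d : ℕ) (hd : topologicalKrullDim ↥Y = d)
    (r : ℕ) (Lb : Fin r → Y.Modules) (hLb : ∀ j, PicF.IsInvertible (Lb j))
    (F : (Fin r → ℤ) → Y.Modules) (hF0 : Nonempty (F 0 ≅ Coh.structureModule Y))
    (hF : ∀ (a : Fin r → ℤ) (j : Fin r), Nonempty (F (a + Pi.single j 1) ≅ CohB1.tensorMod (F a) (Lb j))) :
    ∃ C : ℝ, 0 < C ∧ ∀ (i : ℕ) (a : Fin r → ℤ),
      (Module.finrank k (Coh.HH Y (F a) i) : ℝ) ≤ C * (1 + (∑ j, |(a j : ℝ)|) ^ d) := by
  haveI : IsProper (Y ↘ Spec (CommRingCat.of k)) := by
    rw [← hc]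
    haveI := GrothLib.Chow.isProper_toSpec N k
    infer_instance
  haveI := GrothLib.Euler.isNoetherian_of_proper (X := Y) k
  obtain ⟨H, hH⟩ := GrothLib.NefGrowth.exists_isAmple_of_projSpace c
  let z : Fin r → GrothLib.Cube.Pic Y := fun j => GrothLib.Cube.clsMod (hLb j)
  let p : (Fin r → ℤ) → GrothLib.Cube.Pic Y := fun a => ∏ j, z j ^ a j
  have hp : ∀ (a : Fin r → ℤ) (j : Fin r), p (a + Pi.single j 1) = p a * z j := fun a j => by
    simp only [p]
    rw [← Finset.mul_prod_erase Finset.univ _ (Finset.mem_univ j),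
      ← Finset.mul_prod_erase Finset.univ (fun i => z i ^ a i) (Finset.mem_univ j)]
    simp only [Pi.add_apply, Pi.single_eq_same, zpow_add_one]
    rw [Finset.prod_congr rfl fun i hi => by
      rw [Pi.single_eq_of_ne (Finset.ne_of_mem_erase hi), add_zero]]
    rw [mul_right_comm]
  have hup : ∀ a j, GrothLib.Cube.HasCls (F a) (p a) → GrothLib.Cube.HasCls (F (a + Pi.single j 1)) (p (a + Pi.single j 1)) := by
    intro a j h
    obtain ⟨e⟩ := hF a j
    have h' := h.tensor (GrothLib.Cube.hasCls_clsMod (hLb j))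
    rw [hp]
    exact ⟨GrothLib.ParaPair.isInvertible_of_iso e h'.choose,
      ((GrothLib.Cube.clsMod_eq_iff _ h'.choose).2 ⟨e⟩).trans h'.choose_spec⟩
  have hdown : ∀ a j, GrothLib.Cube.HasCls (F (a + Pi.single j 1)) (p (a + Pi.single j 1)) → GrothLib.Cube.HasCls (F a) (p a) := by
    intro a j h
    obtain ⟨e⟩ := hF a j
    obtain ⟨T, hT, ⟨eT⟩⟩ := GrothLib.Kodaira.exists_inverse (hLb j)
    obtain ⟨e1⟩ := GrothLib.GrowthBd.tensor_inverse (M := F a) eT
    let e2 : CohB1.tensorMod (F (a + Pi.single j 1)) T ≅ F a :=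
      GrothLib.Ample.LineData.tensorModMapIso e (Iso.refl T) ≪≫ e1
    have hTz : GrothLib.Cube.HasCls T (z j)⁻¹ := by
      refine ⟨hT, eq_inv_of_mul_eq_one_left ?_⟩
      exact GrothLib.Cube.HasCls.eq ((GrothLib.Cube.hasCls_clsMod hT).tensor (GrothLib.Cube.hasCls_clsMod (hLb j)))
        (GrothLib.Cube.hasCls_structureModule Y) ⟨eT⟩
    have h' := h.tensor hTz
    rw [hp, mul_inv_cancel_right] at h'
    exact ⟨GrothLib.ParaPair.isInvertible_of_iso e2.symm h'.choose,
      ((GrothLib.Cube.clsMod_eq_iff _ h'.choose).2 ⟨e2.symm⟩).trans h'.choose_spec⟩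
  have hline : ∀ (a : Fin r → ℤ) (j : Fin r) (n : ℤ),
      GrothLib.Cube.HasCls (F a) (p a) → GrothLib.Cube.HasCls (F (a + Pi.single j n)) (p (a + Pi.single j n)) := by
    intro a j n h
    induction n using Int.induction_on with
    | zero => simpa using h
    | succ n ih =>
      rw [Pi.single_add, ← add_assoc]
      exact hup _ j ih
    | pred n ih =>
      refine hdown _ j ?_
      rwa [add_assoc, ← Pi.single_add, sub_add_cancel]
  have hcls : ∀ a, GrothLib.Cube.HasCls (F a) (p a) := by
    intro a
    classical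
    suffices hs : ∀ s : Finset (Fin r), GrothLib.Cube.HasCls (F (∑ j ∈ s, Pi.single j (a j))) (p (∑ j ∈ s, Pi.single j (a j))) by
      have := hs Finset.univ
      rwa [Finset.univ_sum_single] at this
    intro s
    induction s using Finset.induction_on with
    | empty =>
      obtain ⟨e⟩ := hF0
      have h1 := GrothLib.Cube.hasCls_structureModule Y
      simp only [Finset.sum_empty]
      rw [show p 0 = 1 by simp [p]]
      exact ⟨GrothLib.ParaPair.isInvertible_of_iso e h1.choose,
        ((GrothLib.Cube.clsMod_eq_iff _ h1.choose).2 ⟨e⟩).trans h1.choose_spec⟩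
    | insert j s hj ih =>
      rw [Finset.sum_insert hj, add_comm]
      exact hline _ j _ ih
  have hO : Coh.IsCoh (Coh.structureModule Y) :=
    GrothLib.Euler.isCoh_of_isInvertible GrothLib.Euler.isInvertible_structure
  have hdl : GrothLib.Snapper.DimLT (CohB1.support (Coh.structureModule Y)) (d + 1) :=
    GrothLib.Snapper.DimLT.mono (GrothLib.Snapper.dimLT_of_dim_le (S := (Set.univ : Set Y))
      (le_of_eq ((IsHomeomorph.topologicalKrullDim_eq _ (Homeomorph.Set.univ ↥Y).isHomeomorph).trans hd)))
      (Set.subset_univ _)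
  obtain ⟨C, hC⟩ := GrothLib.GrowthBd.exists_bound_field k hH hO hdl z
  refine ⟨(C : ℝ) * 2 ^ d + 1, by positivity, fun i a => ?_⟩
  have hfr : Module.finrank k (Coh.HH Y (F a) i) = GrothLib.Snapper.hf k (Coh.structureModule Y) (p a) i := by
    obtain ⟨e⟩ := GrothLib.Snapper.tw_iso (F := Coh.structureModule Y) (hcls a)
    exact GrothLib.NefGrowth.hl_iso k ((GrothLib.Euler.tFUnitIso (F a)).symm ≪≫
      (GrothLib.GrTilde.tensorModComm (F a) (Coh.structureModule Y)) ≪≫ e.symm) i
  rw [hfr]
  set s : ℝ := ∑ j, |(a j : ℝ)| with hs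
  have hs0 : 0 ≤ s := Finset.sum_nonneg fun j _ => abs_nonneg _
  have hwt : (GrothLib.GrowthBd.wt a : ℝ) = s + 1 := by
    simp [GrothLib.GrowthBd.wt, hs, Nat.cast_natAbs]
  have h1 : (GrothLib.Snapper.hf k (Coh.structureModule Y) (p a) i : ℝ) ≤ C * (s + 1) ^ d := by
    rw [← hwt]
    exact_mod_cast hC i a
  refine h1.trans ?_
  calc (C : ℝ) * (s + 1) ^ d ≤ C * (2 ^ d * (1 + s ^ d)) := by
        refine mul_le_mul_of_nonneg_left ?_ (Nat.cast_nonneg C)
        rcases le_total s 1 with h | h
        · calc (s + 1) ^ d ≤ (2 : ℝ) ^ d := pow_le_pow_left₀ (by linarith) (by linarith) d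
            _ ≤ 2 ^ d * (1 + s ^ d) := le_mul_of_one_le_right (by positivity) (by linarith [pow_nonneg hs0 d])
        · calc (s + 1) ^ d ≤ (2 * s) ^ d := pow_le_pow_left₀ (by linarith) (by linarith) d
            _ ≤ 2 ^ d * (1 + s ^ d) := by
              rw [mul_pow]
              exact mul_le_mul_of_nonneg_left (by linarith) (by positivity)
    _ ≤ (C * 2 ^ d + 1) * (1 + s ^ d) := by nlinarith [pow_nonneg hs0 d]

end Groth.Agent.S17502
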