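import Groth.Statements.S17503
-- import your own Groth.Agent.* helpers here
import Groth.Agent.Lib.Poincare.IndexMain

set_option autoImplicit false
universe u
open CategoryTheory CategoryTheory.Limits MonoidalCategory CartesianMonoidalCategory MonObj GrpObj AlgebraicGeometry
open AbVar

namespace Groth.Agent.S17503

/-- Let X be an abelian variety over a field k (a proper, geometrically integral k-group scheme), and
let L be an invertible O_X-module and i a natural number such that the cohomology of L is
concentrated in degree i: H^j(X, L) = 0 for j ≠ i and H^i(X, L) ≠ 0. Then for every integer m > 0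
the tensor power L^{⊗ m} has the same property: H^j(X, L^{⊗ m}) = 0 for j ≠ i and H^i(X, L^{⊗ m}) ≠
0; that is, L^{⊗ m} is non-degenerate with the same index as L. (A line bundle on an abelian variety
is non-degenerate with index i exactly when its cohomology vanishes outside degree i and is non-zero
in degree i; this is how non-degeneracy and the index are expressed here.) -/
theorem result
    (k : Type u) [Field k] (X : Over (Spec (CommRingCat.of k))) [GrpObj X] [IsProper X.hom] [GeometricallyIntegral X.hom]
    (L : X.left.Modules) (hL : PicF.IsInvertible L) (i : ℕ)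
    (hvan : ∀ j : ℕ, j ≠ i → Subsingleton (Coh.HH X.left L j)) (hne : Nontrivial (Coh.HH X.left L i))
    (m : ℕ) (hm : 0 < m) :
    (∀ j : ℕ, j ≠ i → Subsingleton (Coh.HH X.left (CohB1.tensorPow L m) j)) ∧
      Nontrivial (Coh.HH X.left (CohB1.tensorPow L m) i) := by
  haveI : IsCommMonObj X := GrothLib.Cube.isCommMonObj_abVar (A := X)
  obtain ⟨g, hg⟩ := GrothLib.AbTors.exists_dim (A := X)
  have hx := GrothLib.Cube.hasCls_clsMod hL
  have hc : GrothLib.Index.Conc (GrothLib.Cube.clsMod hL) i :=
    (GrothLib.Index.conc_iff hx i).2 ⟨hvan, not_subsingleton_iff_nontrivial.2 hne⟩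
  obtain ⟨h1, h2⟩ := (GrothLib.Index.conc_iff (hx.tensorPow m) i).1 (GrothLib.Index.conc_pow hg hc hm)
  exact ⟨h1, not_subsingleton_iff_nontrivial.1 h2⟩

end Groth.Agent.S17503
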