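import Groth.Statements.S17510
-- import your own Groth.Agent.* helpers here
import Groth.Agent.Lib.Poincare.IndexMain

set_option autoImplicit false
universe u
open CategoryTheory CategoryTheory.Limits MonoidalCategory CartesianMonoidalCategory MonObj GrpObj AlgebraicGeometry
open AbVar

namespace Groth.Agent.S17510

/-- Let X be an abelian variety over a field k (a proper, geometrically integral k-group scheme), let L
be an invertible O_X-module with H^j(X, L) = 0 for j ≠ i and H^i(X, L) ≠ 0, H an ample invertible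
O_X-module, and M an O_X-module isomorphic to L ⊗ H with H^j(X, M) = 0 for j ≠ i' and H^{i'}(X, M) ≠
0 (so L and L ⊗ H are non-degenerate with indices i and i'). Let Φ be a polynomial with rational
coefficients such that Φ(n) = χ(X, L ⊗ H^{⊗ n}) for every natural number n, and suppose Φ has
exactly one real root τ in the interval [0, 1], with τ ≠ 1. Then i ≤ i' + μ, where μ is the
multiplicity of τ as a root of Φ. (Non-degeneracy with index i is expressed by the equivalent
condition that the cohomology is concentrated in degree i and non-zero there.) -/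
theorem result
    (k : Type u) [Field k] (X : Over (Spec (CommRingCat.of k))) [GrpObj X] [IsProper X.hom] [GeometricallyIntegral X.hom]
    (L H M : X.left.Modules) (hL : PicF.IsInvertible L) (hH : CohB1.IsAmple H)
    (hM : Nonempty (M ≅ CohB1.tensorMod L H)) (i i' : ℕ)
    (hvan : ∀ j : ℕ, j ≠ i → Subsingleton (Coh.HH X.left L j)) (hne : Nontrivial (Coh.HH X.left L i))
    (hvan' : ∀ j : ℕ, j ≠ i' → Subsingleton (Coh.HH X.left M j)) (hne' : Nontrivial (Coh.HH X.left M i'))
    (Φ : Polynomial ℚ)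
    (hΦ : ∀ n : ℕ, Φ.eval (n : ℚ) =
      (@Curv2.euler k _ X.left ⟨X.hom⟩ (CohB1.tensorMod L (CohB1.tensorPow H n)) : ℚ))
    (τ : ℝ) (hτ0 : 0 ≤ τ) (hτ1 : τ < 1) (hτ : (Φ.map (algebraMap ℚ ℝ)).eval τ = 0)
    (huniq : ∀ t : ℝ, 0 ≤ t → t ≤ 1 → (Φ.map (algebraMap ℚ ℝ)).eval t = 0 → t = τ) :
    i ≤ i' + (Φ.map (algebraMap ℚ ℝ)).rootMultiplicity τ := by
  haveI : IsCommMonObj X := GrothLib.Cube.isCommMonObj_abVar (A := X)
  obtain ⟨g, hg⟩ := GrothLib.AbTors.exists_dim (A := X)
  have hx := GrothLib.Cube.hasCls_clsMod hL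
  have hc : GrothLib.Index.Conc (GrothLib.Cube.clsMod hL) i :=
    (GrothLib.Index.conc_iff hx i).2 ⟨hvan, not_subsingleton_iff_nontrivial.2 hne⟩
  obtain ⟨e⟩ := hM
  have hxy := hx.tensor (GrothLib.Cube.hasCls_clsMod hH.1)
  have hc' : GrothLib.Index.Conc (GrothLib.Cube.clsMod hL * GrothLib.Cube.clsMod hH.1 ^ 1) i' := by
    rw [pow_one, GrothLib.Index.conc_iff hxy i']
    exact ⟨fun j hj => GrothLib.PicZeroSurj.subsingleton_HH_of_iso e j (hvan' j hj),
      fun h => not_subsingleton_iff_nontrivial.2 hne' (GrothLib.PicZeroSurj.subsingleton_HH_of_iso e.symm i' h)⟩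
  obtain ⟨h0, h1, -⟩ := GrothLib.Index.index_roots hg hH hx hΦ 0 (i := i) (by rwa [pow_zero, _root_.mul_one])
  obtain ⟨h0', h1', -⟩ := GrothLib.Index.index_roots hg hH hx hΦ 1 hc'
  rw [Nat.cast_zero] at h0 h1
  rw [Nat.cast_one] at h0' h1'
  set P := Φ.map (algebraMap ℚ ℝ)
  rw [h1, h1', ← Polynomial.count_roots, ← Multiset.card_replicate (P.roots.count τ) τ, ← Multiset.card_add]
  refine Multiset.card_le_card (Multiset.le_iff_count.2 fun t => ?_)
  rw [Multiset.count_add, Multiset.count_filter, Multiset.count_filter, Multiset.count_replicate]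
  by_cases h1t : 1 < t
  · rw [if_pos (one_pos.trans h1t), if_pos h1t]; exact Nat.le_add_right _ _
  · rw [if_neg h1t, zero_add]
    split_ifs with h0t hτt
    · rw [hτt]
    · refine Nat.le_of_eq (Multiset.count_eq_zero.2 fun ht => hτt ?_)
      exact (huniq t h0t.le (not_lt.1 h1t) (Polynomial.isRoot_of_mem_roots ht)).symm
    all_goals exact Nat.zero_le _

end Groth.Agent.S17510
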