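import Groth.Statements.S17511
-- import your own Groth.Agent.* helpers here
import Groth.Agent.Lib.BCCrit.DimBound
import Groth.Agent.Lib.EulerConst10.Main
import Groth.Agent.Lib.Seesaw26.LocalGood
import Groth.Agent.Lib.ExtTilde20.Affine

set_option autoImplicit false
universe u
open CategoryTheory CategoryTheory.Limits MonoidalCategory CartesianMonoidalCategory MonObj GrpObj AlgebraicGeometry
open AbVar

namespace Groth.Agent.S17511

/-- In an algebraic family of line bundles the index cannot jump locally. Let X be an abelian variety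
over a field k (a proper, geometrically integral k-group scheme), let T be a locally Noetherian
k-scheme, M an invertible module on X ×_k T, and for each point t of T let M_t be the pull-back of M
to the fibre X ×_k Spec k(t). Suppose every M_t is non-degenerate, with index idx(t): H^j(X ×_k Spec
k(t), M_t) = 0 for j ≠ idx(t) and H^{idx(t)} ≠ 0. Then t ↦ idx(t) is a locally constant function on
T. (Non-degeneracy with index i is expressed by the equivalent condition that the cohomology is
concentrated in degree i and non-zero there.) -/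
theorem result
    (k : Type u) [Field k] (X : Over (Spec (CommRingCat.of k))) [GrpObj X] [IsProper X.hom] [GeometricallyIntegral X.hom]
    (T : Over (Spec (CommRingCat.of k))) [IsLocallyNoetherian T.left]
    (M : (X ⊗ T).left.Modules) (hM : PicF.IsInvertible M)
    (idx : ↥T.left → ℕ)
    (hidx : ∀ t : ↥T.left,
      (∀ j : ℕ, j ≠ idx t →
        Subsingleton (Coh.HH (pullback (snd X T).left (T.left.fromSpecResidueField t))
          ((Scheme.Modules.pullback (pullback.fst (snd X T).left (T.left.fromSpecResidueField t))).obj M) j)) ∧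
      Nontrivial (Coh.HH (pullback (snd X T).left (T.left.fromSpecResidueField t))
          ((Scheme.Modules.pullback (pullback.fst (snd X T).left (T.left.fromSpecResidueField t))).obj M) (idx t))) :
    IsLocallyConstant idx := by
  let f := (snd X T).left
  haveI : IsProper f := inferInstanceAs (IsProper (Limits.pullback.snd X.hom T.hom))
  haveI : Flat f := inferInstanceAs (Flat (Limits.pullback.snd X.hom T.hom))
  haveI : LocallyOfFinitePresentation f := LocallyOfFinitePresentation.iff_locallyOfFiniteType.2 inferInstance
  haveI : HasInjectiveResolutions (X ⊗ T).left.Modules := GrothLib.ExtTilde20.hasInjectiveResolutions_mod _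
  haveI : M.IsQuasicoherent := GrothLib.InvExt.isQuasicoherent_of_isInvertible hM
  have hfp : CohB1.IsFP M := GrothLib.LocFree8.isFP_of_isFinLocFree _ (GrothLib.Euler.isFinLocFree_of_isInvertible hM)
  haveI : SheafOfModules.IsFinitePresentation (R := (X ⊗ T).left.ringCatSheaf) M := hfp
  haveI : Coh.IsQCoh M := GrothLib.InvExt.isQuasicoherent_of_isInvertible hM
  have hfl : FlatMod.IsFlatOver f M := GrothLib.Seesaw26.isFlatOver_of_isInvertible f hM
  have hH : ∀ (t : T.left) (j : ℕ), Subsingleton (CohIII.fiberH f M t j) ↔ j ≠ idx t := fun t j =>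
    ⟨fun h e => by
      subst e
      exact not_nontrivial_iff_subsingleton.2 h (hidx t).2, fun h => (hidx t).1 j h⟩
  refine (IsLocallyConstant.iff_eventually_eq idx).2 fun t => ?_
  obtain ⟨V, hV, htV, -⟩ := exists_isAffineOpen_mem_and_subset (x := t) (U := (⊤ : T.left.Opens)) trivial
  obtain ⟨d, hd⟩ := GrothLib.EulerConst10.exists_dim_fiber_le_on (f := f) hV
  have hW : ∀ j : Fin (d + 1), ∃ W : T.left.Opens, t ∈ W ∧ ((j : ℕ) ≠ idx t → ∀ y ∈ W, (j : ℕ) ≠ idx y) := fun j => by
    by_cases hj : (j : ℕ) = idx t
    · exact ⟨⊤, trivial, fun h => absurd hj h⟩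
    · obtain ⟨W, htW, -, hW⟩ := GrothLib.BCCrit.exists_zero_near hfp hfl j t
        ((GrothLib.BCCrit.subsingleton_fiberH_iff hfp hfl _ t).1 ((hH t j).2 hj))
      exact ⟨W, htW, fun _ y hy => (hH y j).1 ((GrothLib.BCCrit.subsingleton_fiberH_iff hfp hfl _ y).2 (hW y hy))⟩
  choose W htW hW using hW
  have hopen : IsOpen ((V : Set T.left) ∩ ⋂ j, (W j : Set T.left)) :=
    V.isOpen.inter (isOpen_iInter_of_finite fun j => (W j).isOpen)
  filter_upwards [hopen.mem_nhds ⟨htV, Set.mem_iInter.2 htW⟩] with y hy
  by_contra hne
  have hle : idx y ≤ d := not_lt.1 fun hlt =>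
    (hH y (idx y)).1 (GrothLib.BCCrit.subsingleton_fiberH_of_dim_lt y d (idx y) (hd y hy.1) hlt) rfl
  exact hW ⟨idx y, Nat.lt_succ_of_le hle⟩ hne y (Set.mem_iInter.1 hy.2 _) rfl

end Groth.Agent.S17511
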