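import Groth.Statements.S17512
import Groth.Agent.Lib.ThetaRep.Group

set_option autoImplicit false
universe u
open ThetaRep

namespace Groth.Agent.S17512

/-- For the group of k-points of a non-degenerate theta group with constant K, let k be an algebraically
closed field and Γ a group given with an injective homomorphism ι from kˣ onto the centre of Γ such
that K = Γ/ι(kˣ) is finite and commutative (all commutators lie in ι(kˣ)) of order prime to the
characteristic exponent of k — the group of k-points of a non-degenerate theta group 1 → G_m → G → K
→ 1 with rank(K) prime to char(k). Subgroups of K correspond to subgroups H of Γ containing ι(kˣ);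
such an H is totally isotropic for the commutator pairing exactly when it is commutative, and its
orthogonal corresponds to the centralizer of H. For a subgroup H ⊇ ι(kˣ) the following are
equivalent: (i) H is commutative and maximal among commutative subgroups of Γ; (ii) H is commutative
and [H : ι(kˣ)]² = [Γ : ι(kˣ)]; (iii) H is its own centralizer. (The published lemma is for an
arbitrary non-degenerate theta group scheme, where (iii) ⇔ (ii) ⇒ (i) always and (i) ⇒ (iii) needs k
algebraically closed; this row is the case of the group of k-points with K constant.) -/
theorem result
    (k : Type u) [Field k] [IsAlgClosed k]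
    (Γ : Type u) [Group Γ] (ι : kˣ →* Γ) (hι : Function.Injective ι)
    (hcent : ι.range = Subgroup.center Γ) (hcomm : commutator Γ ≤ ι.range)
    [Finite (Γ ⧸ ι.range)] (hcop : (Nat.card (Γ ⧸ ι.range)).Coprime (ringExpChar k))
    (H : Subgroup Γ) (hH : ι.range ≤ H) :
    List.TFAE [
      IsMulCommutative H ∧ ∀ H' : Subgroup Γ, IsMulCommutative H' → H ≤ H' → H' = H,
      IsMulCommutative H ∧ (ι.range.relIndex H) ^ 2 = ι.range.index,
      H = Subgroup.centralizer (H : Set Γ)] := by
  exact (ThetaRep.ThetaHyp.mk (ι := ι) hι hcent hcomm inferInstance).lagrangian_tfae H hH

end Groth.Agent.S17512
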