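import Groth.Statements.S17513
-- import your own Groth.Agent.* helpers here
import Groth.Agent.Lib.Poincare.MatEndo

set_option autoImplicit false
universe u
open CategoryTheory CategoryTheory.Limits MonoidalCategory CartesianMonoidalCategory MonObj GrpObj AlgebraicGeometry
open AbVar

namespace Groth.Agent.S17513

/-- Let X be an abelian variety over a field k (a proper, geometrically integral, commutative k-group
scheme) whose underlying space has Krull dimension g, let r be a natural number and α an r × r
matrix with integer entries. Write X^r for the r-fold product of X over k and [α]_X : X^r → X^r for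
the homomorphism (x_1, …, x_r) ↦ (Σ_j α_{1j} x_j, …, Σ_j α_{rj} x_j), i.e. the map whose i-th
component is the product, in the commutative group of maps X^r → X, of the powers pr_j^{α_{ij}}. If
det α ≠ 0 then [α]_X is finite and flat of constant degree |det α|^{2g} = det(α)^{2g}. (The
published statement covers det α = 0 too, with the convention that a non-finite homomorphism has
degree 0; that case says only that [α]_X is not finite and is not part of this row.) -/
theorem result
    (k : Type u) [Field k] (X : Over (Spec (CommRingCat.of k))) [GrpObj X] [IsCommMonObj X]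
    [IsProper X.hom] [GeometricallyIntegral X.hom]
    (g : ℕ) (hg : topologicalKrullDim ↥X.left = g)
    (r : ℕ) (α : Matrix (Fin r) (Fin r) ℤ) (hα : α.det ≠ 0)
    (φ : (∏ᶜ fun _ : Fin r => X) ⟶ (∏ᶜ fun _ : Fin r => X))
    (hφ : φ = Pi.lift (fun i => ∏ j : Fin r, (Pi.π (fun _ : Fin r => X) j) ^ (α i j))) :
    IsFinite φ.left ∧ Flat φ.left ∧
      ∀ y : ↥(∏ᶜ fun _ : Fin r => X).left, Scheme.Hom.finrank φ.left y = α.det.natAbs ^ (2 * g) := by
  obtain ⟨h1, h2, -, h3⟩ := GrothLib.Poincare.isDeg_matEndo (A := X) hg α hα
  subst hφ
  exact ⟨h1, h2, h3⟩

end Groth.Agent.S17513
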