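import Groth.Statements.S17516
-- import your own Groth.Agent.* helpers here
import Groth.Agent.Lib.Poincare.PolPullback

set_option autoImplicit false
universe u
open CategoryTheory CategoryTheory.Limits MonoidalCategory CartesianMonoidalCategory MonObj GrpObj AlgebraicGeometry
open AbVar

namespace Groth.Agent.S17516

/-- Let X and Y be abelian varieties over a field k (proper, geometrically integral, commutative k-group
schemes) with given dual abelian varieties (X^t, φ_X) and (Y^t, φ_Y) for the fppf topology, let f :
X → Y be an isogeny — a homomorphism which is finite, flat and surjective — of constant degree d,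
with transpose f^t : Y^t → X^t, and let λ : Y → Y^t be a polarization of Y (a homomorphism whose
base change to every algebraically closed field is the homomorphism φ_M attached to some ample
invertible module M) which is finite and flat of constant degree e. Then f^*λ := f^t ∘ λ ∘ f : X →
X^t is a polarization of X, and it is finite and flat of constant degree d² · e = deg(f)² · deg(λ). -/
theorem result
    (k : Type u) [Field k] (X Xt Y Yt : Over (Spec (CommRingCat.of k)))
    [GrpObj X] [IsCommMonObj X] [IsProper X.hom] [GeometricallyIntegral X.hom] [GrpObj Xt] [IsCommMonObj Xt] [IsProper Xt.hom] [GeometricallyIntegral Xt.hom]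
    [GrpObj Y] [IsCommMonObj Y] [IsProper Y.hom] [GeometricallyIntegral Y.hom] [GrpObj Yt] [IsCommMonObj Yt] [IsProper Yt.hom] [GeometricallyIntegral Yt.hom]
    (φX : AgPol.DualMap X Xt) (hX : AbDual.IsDualAV Scheme.fppfPrecoverage X Xt φX)
    (φY : AgPol.DualMap Y Yt) (hY : AbDual.IsDualAV Scheme.fppfPrecoverage Y Yt φY)
    (f : X ⟶ Y) [IsMonHom f] [IsFinite f.left] [Flat f.left] [Surjective f.left]
    (d : ℕ) (hd : ∀ y : ↥Y.left, Scheme.Hom.finrank f.left y = d)
    (ft : Yt ⟶ Xt) (hft : AbDual.IsTranspose f φX φY ft)
    (lam : Y ⟶ Yt) (hlam : AgPol.IsPolarization Y Yt φY lam)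
    [IsFinite lam.left] [Flat lam.left] (e : ℕ) (he : ∀ y : ↥Yt.left, Scheme.Hom.finrank lam.left y = e) :
    AgPol.IsPolarization X Xt φX (f ≫ lam ≫ ft) ∧ IsFinite (f ≫ lam ≫ ft).left ∧ Flat (f ≫ lam ≫ ft).left ∧
      ∀ x : ↥Xt.left, Scheme.Hom.finrank (f ≫ lam ≫ ft).left x = d ^ 2 * e := by
  exact GrothLib.PolPullback.isPolarization_pullback φX hX φY hY f d hd ft hft lam hlam e he

end Groth.Agent.S17516
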