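import Groth.Statements.S17525
import Groth.Agent.S16709
import Groth.Agent.Lib.LinRedExt.Basic
import Groth.Agent.Lib.Hopf.Faithful
import Groth.Agent.Lib.HopfAG.LRCoh

set_option autoImplicit false
universe u
open HopfRep

namespace Groth.Agent.S17525

open scoped TensorProduct

/-- Let `k` be a field and `1 → K → G → Q → 1` an exact sequence of affine group schemes of finite type
over `k`, written on coordinate rings: `AQ`, `AG`, `AK` are commutative Hopf algebras of finite type
over `k`, `φ : AQ → AG` is an injective bialgebra map (so `G → Q` is faithfully flat) and `ψ : AG →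
AK` is a surjective bialgebra map (so `K` is a closed subgroup of `G`) whose kernel is the ideal
generated by the image under `φ` of the augmentation ideal of `AQ` (so `K` is the kernel of `G →
Q`). Then `G` is linearly reductive — every finite-dimensional comodule is semisimple — if and only
if both `K` and `Q` are. -/
theorem result
    (k : Type u) [Field k]
    (AQ AG AK : Type u) [CommRing AQ] [HopfAlgebra k AQ] [Algebra.FiniteType k AQ]
    [CommRing AG] [HopfAlgebra k AG] [Algebra.FiniteType k AG]
    [CommRing AK] [HopfAlgebra k AK] [Algebra.FiniteType k AK]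
    (φ : AQ →ₐc[k] AG) (hφ : Function.Injective φ)
    (ψ : AG →ₐc[k] AK) (hψ : Function.Surjective ψ)
    (hker : RingHom.ker (ψ : AG →ₐ[k] AK) =
      Ideal.map (φ : AQ →ₐ[k] AG) (RingHom.ker (Bialgebra.counitAlgHom k AQ))) :
    HopfRep.IsLinearlyReductive k AG ↔
      HopfRep.IsLinearlyReductive k AK ∧ HopfRep.IsLinearlyReductive k AQ := by
  letI : Algebra AQ AG := (φ : AQ →ₐ[k] AG).toRingHom.toAlgebra
  haveI : IsScalarTower k AQ AG := IsScalarTower.of_algebraMap_eq fun c => ((φ : AQ →ₐ[k] AG).commutes c).symm
  have hφa : ∀ b, algebraMap AQ AG b = φ b := fun _ => rfl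
  haveI : Module.FaithfullyFlat AQ AG := GrothLib.Hopf.faithfullyFlat φ hφa hφ
  have hker' : RingHom.ker (ψ : AG →ₐ[k] AK) = GrothLib.Hopf.kerIdeal k φ := hker
  have hψφ : ∀ b, ψ (φ b) = algebraMap k AK (Coalgebra.counit b) := by
    intro b
    have hb : φ (b - algebraMap k AQ (Coalgebra.counit b)) ∈ RingHom.ker (ψ : AG →ₐ[k] AK) := by
      rw [hker']
      exact Ideal.mem_map_of_mem _ (by simp [RingHom.mem_ker])
    have := RingHom.mem_ker.mp hb
    rw [map_sub φ, show φ (algebraMap k AQ (Coalgebra.counit b)) = algebraMap k AG (Coalgebra.counit b) from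
      (φ : AQ →ₐ[k] AG).commutes _, map_sub, AlgHom.commutes, sub_eq_zero] at this
    exact this
  refine ⟨fun hG => ⟨?_, ?_⟩, fun ⟨hK, hQ⟩ => ?_⟩
  · rw [Groth.Agent.S16709.result k AK inferInstance]
    intro V _ _ _ hfin π hπs hπ
    obtain ⟨α, hα, hα1⟩ := GrothLib.LRCoh.exists_integral hG
    exact GrothLib.LinRedExt.exists_fixed φ hφa ψ hψ hker' α hα hα1 π hπs hπ
  · rw [Groth.Agent.S16709.result k AQ inferInstance]
    intro V _ _ cV hfin π hπs hπ
    letI cG : HopfRep.Comod k AG V := @GrothLib.Comodule.pushAlong k _ AQ _ _ _ AG _ _ _ V _ _ cV φ.toCoalgHom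
    obtain ⟨v, hv, hv0⟩ := (Groth.Agent.S16709.result k AG inferInstance).mp hG V hfin π hπs (by
      refine LinearMap.ext fun x => ?_
      have h1 := congrArg (LinearMap.lTensor k (φ.toCoalgHom : AQ →ₗ[k] AG)) (LinearMap.congr_fun hπ x)
      simp only [LinearMap.comp_apply, LinearMap.flip_apply, TensorProduct.mk_apply, LinearMap.lTensor_tmul] at h1 ⊢
      rw [show (φ.toCoalgHom : AQ →ₗ[k] AG) 1 = 1 from map_one φ] at h1
      rw [← h1]
      show LinearMap.rTensor AG π (LinearMap.lTensor V (φ.toCoalgHom : AQ →ₗ[k] AG) (cV.coact x)) = _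
      rw [← LinearMap.comp_apply, LinearMap.rTensor_comp_lTensor, ← LinearMap.lTensor_comp_rTensor]
      rfl)
    refine ⟨v, ?_, hv0⟩
    refine GrothLib.Comodule.lTensor_injective (i := φ.toCoalgHom) hφ V ?_
    rw [LinearMap.lTensor_tmul, show (φ.toCoalgHom : AQ →ₗ[k] AG) 1 = 1 from map_one φ]
    exact hv
  · rw [Groth.Agent.S16709.result k AG inferInstance]
    intro V _ _ cV hfin π hπs hπ
    letI cK : HopfRep.Comod k AK V := @GrothLib.Comodule.pushAlong k _ AG _ _ _ AK _ _ _ V _ _ cV ψ.toCoalgHom
    obtain ⟨v, hv, hv0⟩ := (Groth.Agent.S16709.result k AK inferInstance).mp hK V hfin π hπs (by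
      refine LinearMap.ext fun x => ?_
      have h1 := congrArg (LinearMap.lTensor k (ψ.toCoalgHom : AG →ₗ[k] AK)) (LinearMap.congr_fun hπ x)
      simp only [LinearMap.comp_apply, LinearMap.flip_apply, TensorProduct.mk_apply, LinearMap.lTensor_tmul] at h1 ⊢
      rw [show (ψ.toCoalgHom : AG →ₗ[k] AK) 1 = 1 from map_one ψ] at h1
      rw [← h1]
      show LinearMap.rTensor AK π (LinearMap.lTensor V (ψ.toCoalgHom : AG →ₗ[k] AK) (cV.coact x)) = _
      rw [← LinearMap.comp_apply, LinearMap.rTensor_comp_lTensor, ← LinearMap.lTensor_comp_rTensor]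
      rfl)
    have hv' : LinearMap.lTensor V (ψ : AG →ₐ[k] AK).toLinearMap (cV.coact v) = v ⊗ₜ[k] (1 : AK) := hv
    let D : AG →ₗ[k] AG ⊗[k] AK := (GrothLib.LinRedExt.rc ψ).toLinearMap - (TensorProduct.mk k AG AK).flip 1
    have hDker : LinearMap.ker D ≤ LinearMap.range (φ : AQ →ₐ[k] AG).toLinearMap := by
      intro a ha
      obtain ⟨b, hb⟩ := GrothLib.LinRedExt.mem_range_of_rc_eq φ hφa ψ hψ hker' (sub_eq_zero.mp (LinearMap.mem_ker.mp ha))
      exact ⟨b, hb⟩
    have hzero : LinearMap.lTensor V D (cV.coact v) = 0 := by
      have hc := LinearMap.congr_fun cV.coassoc v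
      simp only [LinearMap.comp_apply, LinearEquiv.coe_coe] at hc
      have h1 : ∀ y : V ⊗[k] AG, LinearMap.lTensor V (GrothLib.LinRedExt.rc ψ).toLinearMap y =
          LinearMap.lTensor V ((ψ : AG →ₐ[k] AK).toLinearMap.lTensor AG)
            (LinearMap.lTensor V (CoalgebraStruct.comul (R := k) (A := AG)) y) := by
        intro y
        induction y using TensorProduct.induction_on with
        | zero => simp
        | add s t hs ht => simp only [map_add, hs, ht]
        | tmul s t =>
          simp only [LinearMap.lTensor_tmul]
          rfl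
      have h2 : ∀ y : V ⊗[k] AG, LinearMap.lTensor V ((ψ : AG →ₐ[k] AK).toLinearMap.lTensor AG)
          (TensorProduct.assoc k V AG AG (LinearMap.rTensor AG cV.coact y)) =
          TensorProduct.assoc k V AG AK (LinearMap.rTensor AK cV.coact
            (LinearMap.lTensor V (ψ : AG →ₐ[k] AK).toLinearMap y)) := by
        intro y
        induction y using TensorProduct.induction_on with
        | zero => simp
        | add s t hs ht => simp only [map_add, hs, ht]
        | tmul s t =>
          simp only [LinearMap.rTensor_tmul, LinearMap.lTensor_tmul]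
          induction cV.coact s using TensorProduct.induction_on with
          | zero => simp
          | add p q hp hq => simp only [TensorProduct.add_tmul, map_add, hp, hq]
          | tmul p q => simp
      simp only [D, LinearMap.lTensor_sub, LinearMap.sub_apply, sub_eq_zero]
      rw [h1, ← hc, h2, hv', LinearMap.rTensor_tmul]
      induction cV.coact v using TensorProduct.induction_on with
      | zero => simp
      | add p q hp hq => simp only [TensorProduct.add_tmul, map_add, hp, hq]
      | tmul p q => simp
    obtain ⟨z, hz⟩ : cV.coact v ∈ LinearMap.range (LinearMap.lTensor V (φ : AQ →ₐ[k] AG).toLinearMap) := by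
      obtain ⟨w, hw⟩ := (Module.Flat.lTensor_exact V (LinearMap.exact_subtype_ker_map D) (cV.coact v)).mp hzero
      rw [← hw]
      clear hw
      induction w using TensorProduct.induction_on with
      | zero => simp
      | add s t hs ht => rw [map_add]; exact add_mem hs ht
      | tmul s t =>
        obtain ⟨b, hb⟩ := hDker t.2
        exact ⟨s ⊗ₜ b, by simp only [LinearMap.lTensor_tmul, hb]; rfl⟩
    obtain ⟨α, hα, hα1⟩ := GrothLib.LRCoh.exists_integral hQ
    let ev : V ⊗[k] AQ →ₗ[k] V := (TensorProduct.rid k V).toLinearMap ∘ₗ α.lTensor V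
    refine ⟨ev z, ?_, ?_⟩
    · have hc := LinearMap.congr_fun cV.coassoc v
      simp only [LinearMap.comp_apply, LinearEquiv.coe_coe] at hc
      rw [← hz] at hc
      let Z : V ⊗[k] (AG ⊗[k] AQ) →ₗ[k] V ⊗[k] AG :=
        ((TensorProduct.rid k AG).toLinearMap ∘ₗ α.lTensor AG).lTensor V
      let M : V ⊗[k] (AG ⊗[k] AQ) →ₗ[k] V ⊗[k] (AG ⊗[k] AG) :=
        ((φ : AQ →ₐ[k] AG).toLinearMap.lTensor AG).lTensor V
      have hM : Function.Injective M := Module.Flat.lTensor_preserves_injective_linearMap _
        (Module.Flat.lTensor_preserves_injective_linearMap _ hφ)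
      have h1 : ∀ y : V ⊗[k] AQ, cV.coact (ev y) =
          Z (TensorProduct.assoc k V AG AQ (LinearMap.rTensor AQ cV.coact y)) := by
        intro y
        induction y using TensorProduct.induction_on with
        | zero => simp
        | add s t hs ht => simp only [map_add, hs, ht]
        | tmul s t =>
          simp only [ev, LinearMap.comp_apply, LinearEquiv.coe_coe, LinearMap.lTensor_tmul, TensorProduct.rid_tmul,
            map_smul, LinearMap.rTensor_tmul]
          induction cV.coact s using TensorProduct.induction_on with
          | zero => simp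
          | add p q hp hq => simp only [TensorProduct.add_tmul, map_add, smul_add, hp, hq]
          | tmul p q => simp [Z]
      let φ1 : AQ →ₗ[k] AG ⊗[k] AQ := (φ : AQ →ₐ[k] AG).toLinearMap.rTensor AQ ∘ₗ CoalgebraStruct.comul
      have h2 : TensorProduct.assoc k V AG AQ (LinearMap.rTensor AQ cV.coact z) = φ1.lTensor V z := by
        refine hM ?_
        have hl : ∀ y : V ⊗[k] AQ, M (TensorProduct.assoc k V AG AQ (LinearMap.rTensor AQ cV.coact y)) =
            TensorProduct.assoc k V AG AG (LinearMap.rTensor AG cV.coact
              (LinearMap.lTensor V (φ : AQ →ₐ[k] AG).toLinearMap y)) := by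
          intro y
          induction y using TensorProduct.induction_on with
          | zero => simp
          | add s t hs ht => simp only [map_add, hs, ht]
          | tmul s t =>
            simp only [LinearMap.rTensor_tmul, LinearMap.lTensor_tmul]
            induction cV.coact s using TensorProduct.induction_on with
            | zero => simp
            | add p q hp hq => simp only [TensorProduct.add_tmul, map_add, hp, hq]
            | tmul p q => simp [M]
        have hr : ∀ y : V ⊗[k] AQ, M (φ1.lTensor V y) = (CoalgebraStruct.comul (R := k) (A := AG)).lTensor V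
            (LinearMap.lTensor V (φ : AQ →ₐ[k] AG).toLinearMap y) := by
          intro y
          induction y using TensorProduct.induction_on with
          | zero => simp
          | add s t hs ht => simp only [map_add, hs, ht]
          | tmul s t =>
            simp only [M, φ1, LinearMap.lTensor_tmul, LinearMap.comp_apply]
            congr 1
            rw [show (φ : AQ →ₐ[k] AG).toLinearMap t = φ t from rfl, ← CoalgHomClass.map_comp_comul_apply φ t,
              ← LinearMap.comp_apply, LinearMap.lTensor_comp_rTensor]
            rfl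
        rw [hl, hr, hc]
      show cV.coact (ev z) = ev z ⊗ₜ[k] (1 : AG)
      rw [h1, h2]
      clear h2 hz hc
      induction z using TensorProduct.induction_on with
      | zero => simp
      | add s t hs ht => simp only [map_add, TensorProduct.add_tmul, hs, ht]
      | tmul s t =>
        have h3 : ∀ y : AQ ⊗[k] AQ, TensorProduct.rid k AG (α.lTensor AG ((φ : AQ →ₐ[k] AG).toLinearMap.rTensor AQ y)) =
            φ (TensorProduct.rid k AQ (α.lTensor AQ y)) := by
          intro y
          induction y using TensorProduct.induction_on with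
          | zero => simp
          | add p q hp hq => simp only [map_add, hp, hq]
          | tmul p q => simp
        simp only [ev, Z, φ1, LinearMap.lTensor_tmul, LinearMap.comp_apply, LinearEquiv.coe_coe, TensorProduct.rid_tmul]
        rw [h3, GrothLib.LRCoh.right_invariant hα hα1 t, map_smul, map_one, TensorProduct.tmul_smul,
          TensorProduct.smul_tmul']
    · have h1 : LinearMap.rTensor AQ π z = π v ⊗ₜ[k] (1 : AQ) := by
        refine Module.Flat.lTensor_preserves_injective_linearMap (M := k) (φ : AQ →ₐ[k] AG).toLinearMap hφ ?_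
        rw [← LinearMap.comp_apply, LinearMap.lTensor_comp_rTensor, ← LinearMap.rTensor_comp_lTensor,
          LinearMap.comp_apply, hz]
        refine (LinearMap.congr_fun hπ v).trans ?_
        rw [LinearMap.comp_apply, LinearMap.flip_apply, TensorProduct.mk_apply, LinearMap.lTensor_tmul]
        exact congrArg (π v ⊗ₜ[k] ·) (map_one φ).symm
      have h2 : ∀ y : V ⊗[k] AQ, π (ev y) = TensorProduct.rid k k (α.lTensor k (LinearMap.rTensor AQ π y)) := by
        intro y
        induction y using TensorProduct.induction_on with
        | zero => simp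
        | add p q hp hq => simp only [map_add, hp, hq]
        | tmul p q => simp [ev]
      rw [h2, h1, LinearMap.lTensor_tmul, hα1, TensorProduct.rid_tmul, one_smul]
      exact hv0

end Groth.Agent.S17525
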