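import Groth.Statements.S1753
import Groth.Agent.Lib.Lichtenbaum22.Main
import Groth.Agent.Lib.ConnDim.Basic

set_option autoImplicit false
universe u
open CategoryTheory AlgebraicGeometry
open Dual

namespace Groth.Agent.S1753

/-- Let U be a variety over a field k (integral, separated and of finite type over k) and F a coherent
O_U-module with H^d(U, F) ≠ 0. Then dim U ≥ d, and if dim U = d then U is proper over k. -/
theorem result (k : Type u) [Field k] (U : Scheme.{u}) (f : U ⟶ Spec (CommRingCat.of k)) [IsIntegral U] [IsSeparated f] [LocallyOfFiniteType f] [QuasiCompact f] (F : U.Modules) (hF : Coh.IsCoh F) (d : ℕ) (h : Nontrivial (Coh.HH U F d)) : (d : WithBot ℕ∞) ≤ topologicalKrullDim U ∧ (topologicalKrullDim U = d → IsProper f) := by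
  haveI : IsLocallyNoetherian U := LocallyOfFiniteType.isLocallyNoetherian f
  haveI : CompactSpace U := QuasiCompact.compactSpace_of_compactSpace f
  haveI : IsNoetherian U := {}
  haveI : F.IsQuasicoherent := hF.1
  obtain ⟨n, hn⟩ : ∃ n : ℕ, topologicalKrullDim U = (n : WithBot ℕ∞) := by
    obtain ⟨n, hn, -⟩ := GrothLib.Dim.exists_nat_dim_irreducible f (S := Set.univ) isClosed_univ
      (IrreducibleSpace.isIrreducible_univ U)
    exact ⟨n, by rw [← hn]; exact (IsHomeomorph.topologicalKrullDim_eq _ (Homeomorph.Set.univ U).isHomeomorph).symm⟩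
  refine ⟨?_, fun hd => ?_⟩
  · by_contra hlt
    rw [hn, Nat.cast_le, not_le] at hlt
    haveI := GrothLib.GVanish.subsingleton_H_of_krullDim_le (X := (U : TopCat.{u})) n hn.le (Coh.toAb F) d hlt
    exact not_subsingleton (Coh.HH U F d) this
  · by_contra hnp
    refine not_subsingleton (Coh.HH U F d) (GrothLib.Lichtenbaum22.subsingleton_HH_of_no_proper U f d hd.le
      (fun Z i _ _ hZd hZp => hnp ?_) F)
    have hr : Set.range i = Set.univ := by
      by_contra hne
      have h1 := GrothLib.ConnDim.dim_lt (Set.subset_univ (Set.range i)) hne i.isClosedEmbedding.isClosed_range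
        isClosed_univ (IrreducibleSpace.isIrreducible_univ U) ?_
      · rw [IsHomeomorph.topologicalKrullDim_eq _ (Homeomorph.Set.univ U).isHomeomorph, hd,
          ← IsHomeomorph.topologicalKrullDim_eq _ i.isEmbedding.toHomeomorph.isHomeomorph, hZd] at h1
        exact lt_irrefl _ h1
      · rw [IsHomeomorph.topologicalKrullDim_eq _ (Homeomorph.Set.univ U).isHomeomorph, hn]
        exact WithBot.coe_lt_coe.2 (ENat.coe_lt_top n)
    haveI : Surjective i := ⟨Set.range_eq_univ.1 hr⟩
    haveI := isIso_of_isClosedImmersion_of_surjective i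
    rwa [MorphismProperty.cancel_left_of_respectsIso (P := @IsProper)] at hZp

end Groth.Agent.S1753
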