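import Groth.Statements.S17533
import Groth.Agent.Lib.FppfQuot.Basic
import Groth.Agent.Lib.Comod.Reynolds
import Groth.Agent.Lib.Comod.Along
import Groth.Agent.Lib.LinRedExt.General
import Mathlib.AlgebraicGeometry.Morphisms.Affine
import Mathlib.RingTheory.Spectrum.Prime.Topology

set_option autoImplicit false
universe u
open CategoryTheory MonoidalCategory CartesianMonoidalCategory AlgebraicGeometry
open HopfRep

namespace Groth.Agent.S17533

attribute [local instance] CoactBr.braidedAlgSpecOf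

open scoped TensorProduct MonObj

variable {k : Type u} [Field k]

/-- The map of induced comodules given by a linear map. -/
noncomputable def indMap (C : Type u) [AddCommGroup C] [Module k C] {P Q : Type u} [AddCommGroup P]
    [Module k P] [AddCommGroup Q] [Module k Q] (φ : P →ₗ[k] Q) : Hoch.Ind k C P →ₗ[k] Hoch.Ind k C Q :=
  (Hoch.Ind.equiv k C Q).toLinearMap ∘ₗ φ.rTensor C ∘ₗ (Hoch.Ind.equiv k C P).symm.toLinearMap

theorem isComodHom_rTensor {C : Type u} [AddCommGroup C] [Module k C] [Coalgebra k C] {P Q : Type u} [AddCommGroup P]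
    [Module k P] [AddCommGroup Q] [Module k Q] (φ : P →ₗ[k] Q) :
    Hoch.IsComodHom C (indMap C φ) := by
  refine TensorProduct.ext' fun x a => ?_
  change Hoch.Ind.coactAux k C Q (φ.rTensor C (x ⊗ₜ[k] a)) =
    LinearMap.rTensor C (φ.rTensor C) (Hoch.Ind.coactAux k C P (x ⊗ₜ[k] a))
  rw [LinearMap.rTensor_tmul, Hoch.Ind.coactAux_tmul, Hoch.Ind.coactAux_tmul]
  generalize Coalgebra.comul (R := k) a = t
  induction t using TensorProduct.induction_on with
  | zero => simp
  | tmul p q => simp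
  | add p q hp hq => simp only [TensorProduct.tmul_add, map_add, hp, hq]

variable {AG AH : Type u} [CommRing AG] [HopfAlgebra k AG] [CommRing AH] [HopfAlgebra k AH]

theorem exists_invariant (hH : HopfRep.IsLinearlyReductive k AH) (ψ : AG →ₐc[k] AH) {κ : Type*} (J : κ → Ideal AG)
    (hJ : ∀ i, ∀ f ∈ J i, GrothLib.LinRedExt.Gen.rc ψ f ∈
      ((J i).map (Algebra.TensorProduct.includeLeft : AG →ₐ[k] AG ⊗[k] AH)).radical)
    (htop : ⨆ i, J i = ⊤) :
    ∃ (s : Finset κ) (e : κ → AG), (∀ i ∈ s, e i ∈ J i ∧ GrothLib.LinRedExt.Gen.rc ψ (e i) = e i ⊗ₜ[k] (1 : AH)) ∧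
      ∑ i ∈ s, e i = 1 := by
  classical
  let c : HopfRep.Comod k AH AG := GrothLib.Comodule.pushAlong (V := AG) (C := AG) (ψ : AG →ₗc[k] AH)
  letI := c
  have hc : ∀ f, HopfRep.Comod.coact (k := k) (A := AH) f = GrothLib.LinRedExt.Gen.rc ψ f := fun f => by
    change (ψ : AG →ₗ[k] AH).lTensor AG (Coalgebra.comul (R := k) f) =
      Algebra.TensorProduct.map (AlgHom.id k AG) (ψ : AG →ₐ[k] AH) (Coalgebra.comul (R := k) f)
    induction Coalgebra.comul (R := k) f using TensorProduct.induction_on with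
    | zero => simp
    | tmul p q => simp
    | add p q hp hq => simp only [map_add, hp, hq]
  let G : ∀ i, AG →ₐ[k] (AG ⧸ J i) ⊗[k] AH := fun i =>
    (Algebra.TensorProduct.map (Ideal.Quotient.mkₐ k (J i)) (AlgHom.id k AH)).comp (GrothLib.LinRedExt.Gen.rc ψ)
  let J' : κ → Ideal AG := fun i => RingHom.ker (G i)
  have hG : ∀ i f, G i f = (Ideal.Quotient.mkₐ k (J i)).toLinearMap.rTensor AH
      (HopfRep.Comod.coact (k := k) (A := AH) f) := fun i f => by
    rw [hc]
    change Algebra.TensorProduct.map _ _ (GrothLib.LinRedExt.Gen.rc ψ f) = _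
    induction GrothLib.LinRedExt.Gen.rc ψ f using TensorProduct.induction_on with
    | zero => simp
    | tmul p q => simp
    | add p q hp hq => simp only [map_add, hp, hq]
  have hsub : ∀ i, IsSubcomod (k := k) (A := AH) ((J' i).restrictScalars k) := fun i => by
    have h := GrothLib.Comodule.IsComodHom.ker_isSubcomod (C := AH) (V := AG)
      (GrothLib.Comodule.IsComodHom.comp
        (isComodHom_rTensor (C := AH) (Ideal.Quotient.mkₐ k (J i)).toLinearMap)
        (GrothLib.Comodule.isComodHom_toInd (C := AH) (V := AG)))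
    convert h using 1
    ext f
    rw [Submodule.restrictScalars_mem, RingHom.mem_ker, hG, LinearMap.mem_ker]
    rfl
  have hle : ∀ i, J' i ≤ J i := fun i f hf => by
    rw [RingHom.mem_ker, hG] at hf
    have h := congrArg ((TensorProduct.rid k (AG ⧸ J i)).toLinearMap ∘ₗ (Coalgebra.counit (R := k) (A := AH)).lTensor (AG ⧸ J i)) hf
    rw [map_zero] at h
    simp only [LinearMap.comp_apply, LinearEquiv.coe_coe] at h
    rw [← Ideal.Quotient.eq_zero_iff_mem, ← h]
    have hcu := LinearMap.congr_fun (HopfRep.Comod.counit_comp (k := k) (A := AH) (V := AG)) f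
    simp only [LinearMap.comp_apply, LinearMap.flip_apply, TensorProduct.mk_apply] at hcu
    rw [show Ideal.Quotient.mk (J i) f = Ideal.Quotient.mk (J i) (TensorProduct.rid k AG (f ⊗ₜ[k] (1 : k))) by
      rw [TensorProduct.rid_tmul, one_smul], ← hcu]
    generalize HopfRep.Comod.coact (k := k) (A := AH) f = t
    induction t using TensorProduct.induction_on with
    | zero => simp
    | tmul p q => simp [Algebra.smul_def]
    | add p q hp hq => simp only [map_add, hp, hq]
  have htop' : ⨆ i, J' i = ⊤ := by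
    refine Ideal.radical_eq_top.1 (top_le_iff.1 (htop.ge.trans (iSup_le fun i f hf => ?_)))
    obtain ⟨N, hN⟩ := hJ i f hf
    refine ⟨N, le_iSup J' i (RingHom.mem_ker.2 ?_)⟩
    change Algebra.TensorProduct.map _ _ (GrothLib.LinRedExt.Gen.rc ψ (f ^ N)) = 0
    rw [map_pow (GrothLib.LinRedExt.Gen.rc ψ)]
    refine (Ideal.map_le_iff_le_comap (K := RingHom.ker
      (Algebra.TensorProduct.map (Ideal.Quotient.mkₐ k (J i)) (AlgHom.id k AH)))).2 (fun x hx => ?_) hN
    rw [Ideal.mem_comap, RingHom.mem_ker, Algebra.TensorProduct.includeLeft_apply, Algebra.TensorProduct.map_tmul,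
      Ideal.Quotient.mkₐ_eq_mk, Ideal.Quotient.eq_zero_iff_mem.2 hx, TensorProduct.zero_tmul]
  obtain ⟨a, ha, hsum⟩ := (Submodule.mem_iSup_iff_exists_finsupp J' 1).1 (by rw [htop']; trivial)
  refine ⟨a.support, fun i => GrothLib.Comodule.Reynolds.reynolds hH (a i), fun i _ => ⟨?_, ?_⟩, ?_⟩
  · exact hle i (GrothLib.Comodule.Reynolds.reynolds_mem_sub hH (hsub i) (ha i))
  · rw [← hc]; exact GrothLib.Comodule.Reynolds.reynolds_mem hH (a i)
  · rw [← map_sum]
    rw [show ∑ i ∈ a.support, a i = 1 from hsum]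
    refine GrothLib.Comodule.Reynolds.reynolds_fixed hH ?_
    rw [GrothLib.Comodule.Reynolds.mem_fixedPts_iff, hc, map_one]
    rfl


/-- In the case where `H` acts on `U = G` by translations, let `k` be an algebraically closed field,
`AG` a commutative Hopf algebra of finite type over `k` (`G = Spec AG` an affine algebraic group),
`AH` a commutative Hopf algebra of finite type which is linearly reductive (every finite-dimensional
comodule semisimple) and `ψ : AG → AH` a surjective bialgebra map, so that `H = Spec AH → G` is a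
closed subgroup (assumed a homomorphism of group schemes), and let `q : G ⟶ Q` present the
`k`-scheme `Q` as the fppf quotient `G/H` (`q` surjective, flat and locally of finite presentation,
and the square with the projection and the multiplication `G × H → G` cartesian). Then `Q` is
affine. (The published statement is that the algebraic-space quotient of an affine scheme by a free
action of a linearly reductive group is affine; this row is its case of `H` acting on `G` by
translations, with the quotient given as a scheme.) -/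
theorem result
    (k : Type u) [Field k] [IsAlgClosed k]
    (AG AH : Type u) [CommRing AG] [HopfAlgebra k AG] [Algebra.FiniteType k AG]
    [CommRing AH] [HopfAlgebra k AH] [Algebra.FiniteType k AH]
    (hH : HopfRep.IsLinearlyReductive k AH)
    (ψ : AG →ₐc[k] AH) (hψ : Function.Surjective ψ)
    [IsMonHom (CoactBr.pt (ψ : AG →ₐ[k] AH))]
    (Q : Over (Spec (CommRingCat.of k))) (q : CoactBr.sp k AG ⟶ Q)
    (hq : RedSub.IsQuotient (CoactBr.pt (ψ : AG →ₐ[k] AH)) q) :
    IsAffine Q.left := by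
  obtain ⟨hqs, hqf, hqfp, hpb⟩ := hq
  haveI := hqs
  have hq' : RedSub.IsQuotient (CoactBr.pt (ψ : AG →ₐ[k] AH)) q := ⟨hqs, hqf, hqfp, hpb⟩
  have hcov := GrothLib.FppfQuot.isCover_of_isQuotient hq'
  haveI := hcov.epi
  let inL : AG →ₐ[k] AG ⊗[k] AH := Algebra.TensorProduct.includeLeft
  let inR : AH →ₐ[k] AG ⊗[k] AH := Algebra.TensorProduct.includeRight
  have hmul : CoactBr.pt inL * (CoactBr.pt inR ≫ CoactBr.pt (ψ : AG →ₐ[k] AH)) =
      CoactBr.pt (GrothLib.LinRedExt.Gen.rc ψ) := by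
    rw [← CoactBr.pt_comp, CoactBr.pt_mul_pt]
    congr 1
    refine AlgHom.ext fun a => ?_
    change Algebra.TensorProduct.lift inL (inR.comp (ψ : AG →ₐ[k] AH)) (fun _ _ => Commute.all _ _) (Coalgebra.comul (R := k) a) =
      Algebra.TensorProduct.map (AlgHom.id k AG) (ψ : AG →ₐ[k] AH) (Coalgebra.comul (R := k) a)
    induction Coalgebra.comul (R := k) a using TensorProduct.induction_on with
    | zero => simp
    | tmul x y => simp [inL, inR]
    | add x y hx hy => simp only [map_add, hx, hy]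
  have hact : CoactBr.pt inL ≫ q = CoactBr.pt (GrothLib.LinRedExt.Gen.rc ψ) ≫ q :=
    (GrothLib.FppfQuot.comp_eq_iff hq' _ _).2 ⟨CoactBr.pt inR, hmul.symm⟩
  let L := lift (CoactBr.pt inL) (CoactBr.pt inR)
  let μ' : CoactBr.sp k AG ⊗ CoactBr.sp k AH ⟶ CoactBr.sp k (AG ⊗[k] AH) :=
    Functor.LaxMonoidal.μ (algSpec (CommRingCat.of k)) (Opposite.op (.of k AG)) (Opposite.op (.of k AH))
  have hiso : IsIso μ' := inferInstanceAs (IsIso (Functor.LaxMonoidal.μ (algSpec (CommRingCat.of k))
    (Opposite.op (.of k AG)) (Opposite.op (.of k AH))))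
  have hL : L ≫ μ' = 𝟙 _ := by
    refine (CoactBr.lift_pt_pt inL inR).trans ((congrArg CoactBr.pt ?_).trans CoactBr.pt_id)
    ext <;> simp [inL, inR]
  have hLext : ∀ {T : Over (Spec (CommRingCat.of k))} (X Y : CoactBr.sp k AG ⊗ CoactBr.sp k AH ⟶ T),
      L ≫ X = L ≫ Y → X = Y := by
    intro T X Y hXY
    have h2 : μ' ≫ L = 𝟙 _ := by
      rw [← cancel_mono μ', Category.assoc, hL, Category.comp_id, Category.id_comp]
    calc X = (μ' ≫ L) ≫ X := by rw [h2, Category.id_comp]
      _ = (μ' ≫ L) ≫ Y := by rw [Category.assoc, hXY, ← Category.assoc]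
      _ = Y := by rw [h2, Category.id_comp]
  have hdesc : ∀ f : AG, GrothLib.LinRedExt.Gen.rc ψ f = f ⊗ₜ[k] (1 : AH) →
      ∃ d : Q ⟶ CoactBr.sp k (Polynomial k), q ≫ d = CoactBr.pt (Polynomial.aeval f : Polynomial k →ₐ[k] AG) := by
    intro f hf
    let e := CoactBr.pt (Polynomial.aeval f : Polynomial k →ₐ[k] AG)
    refine hcov.desc e fun {W} a b hab => ?_
    obtain ⟨h, rfl⟩ := (GrothLib.FppfQuot.comp_eq_iff hq' a b).1 hab
    have key : (fst (CoactBr.sp k AG) (CoactBr.sp k AH) * (snd _ _ ≫ CoactBr.pt (ψ : AG →ₐ[k] AH))) ≫ e =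
        fst _ _ ≫ e := by
      apply hLext
      rw [← Category.assoc, MonObj.comp_mul, lift_fst, lift_snd_assoc, hmul, ← Category.assoc, lift_fst,
        ← CoactBr.pt_comp, ← CoactBr.pt_comp]
      congr 1
      refine Polynomial.algHom_ext ?_
      simp only [AlgHom.comp_apply, Polynomial.aeval_X, hf]
      rfl
    have h2 := congrArg (lift a h ≫ ·) key
    simp only [← Category.assoc, MonObj.comp_mul, lift_fst, lift_snd] at h2
    exact h2.symm
  let ι' := {U : Q.left.Opens // IsAffineOpen U}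
  let V : ι' → Scheme.Opens (Spec (CommRingCat.of AG)) := fun U => q.left ⁻¹ᵁ U.1
  let Vs : ι' → Set (PrimeSpectrum AG) := fun U => (V U).carrier
  let J : ι' → Ideal AG := fun U => PrimeSpectrum.vanishingIdeal ((Vs U)ᶜ)
  have hZ : ∀ U (P : PrimeSpectrum AG), P ∉ V U ↔ J U ≤ P.asIdeal := by
    intro U P
    have h := PrimeSpectrum.zeroLocus_vanishingIdeal_eq_closure ((Vs U)ᶜ)
    rw [IsClosed.closure_eq (show IsClosed ((Vs U)ᶜ) from (V U).2.isClosed_compl)] at h
    rw [← SetLike.coe_subset_coe, ← PrimeSpectrum.mem_zeroLocus]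
    change P ∈ ((Vs U)ᶜ) ↔ _
    rw [← h]
  have hJ : ∀ U, ∀ f ∈ J U, GrothLib.LinRedExt.Gen.rc ψ f ∈ ((J U).map inL).radical := by
    intro U f hf
    rw [Ideal.radical_eq_sInf, Submodule.mem_sInf]
    rintro P ⟨hP, hPp⟩
    have h1 : q.left.base (Spec.map (CommRingCat.ofHom inL.toRingHom) |>.base (⟨P, hPp⟩ : PrimeSpectrum (AG ⊗[k] AH))) =
        q.left.base (Spec.map (CommRingCat.ofHom (GrothLib.LinRedExt.Gen.rc ψ).toRingHom) |>.base ⟨P, hPp⟩) :=
      congrArg (fun g => (g.left : _ ⟶ Q.left).base (⟨P, hPp⟩ : PrimeSpectrum (AG ⊗[k] AH))) hact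
    let P1 : PrimeSpectrum AG := PrimeSpectrum.comap inL.toRingHom ⟨P, hPp⟩
    let P2 : PrimeSpectrum AG := PrimeSpectrum.comap (GrothLib.LinRedExt.Gen.rc ψ).toRingHom ⟨P, hPp⟩
    have hP1 : P1 ∉ V U := (hZ U P1).2 (Ideal.map_le_iff_le_comap.1 hP)
    have hP2 : P2 ∉ V U := fun h => hP1 (show q.left.base P1 ∈ U.1 from by
      have h' : q.left.base P2 ∈ U.1 := h
      exact h1 ▸ h')
    exact (hZ U P2).1 hP2 hf
  have htop : ⨆ U, J U = ⊤ := by
    by_contra hne
    obtain ⟨M, hM, hle⟩ := Ideal.exists_le_maximal _ hne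
    obtain ⟨_, ⟨U, hU, rfl⟩, hxU, -⟩ := Q.left.isBasis_affineOpens.exists_subset_of_mem_open
      (Set.mem_univ (q.left.base (⟨M, hM.isPrime⟩ : PrimeSpectrum AG))) isOpen_univ
    exact ((hZ ⟨U, hU⟩ ⟨M, hM.isPrime⟩).2 ((le_iSup J ⟨U, hU⟩).trans hle)) hxU
  obtain ⟨s, e, he, hsum⟩ := exists_invariant hH ψ J hJ htop
  haveI : Nonempty (Q ⟶ CoactBr.sp k (Polynomial k)) :=
    let ⟨d, _⟩ := hdesc 1 (by rw [map_one]; rfl); ⟨d⟩
  choose! d hd using fun i (hi : i ∈ s) => hdesc (e i) (he i hi).2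
  let θ : CommRingCat.of AG ≅ Γ(Spec (CommRingCat.of AG), ⊤) := (Scheme.ΓSpecIso (CommRingCat.of AG)).symm
  let F : ι' → Γ(Q.left, ⊤) := fun i =>
    (d i).left.appTop ((Scheme.ΓSpecIso (CommRingCat.of (Polynomial k))).inv Polynomial.X)
  have hF : ∀ i ∈ s, q.left.appTop (F i) = θ.hom (e i) := by
    intro i hi
    have h1 : (q.left ≫ (d i).left).appTop =
        (Spec.map (CommRingCat.ofHom (Polynomial.aeval (e i) : Polynomial k →ₐ[k] AG).toRingHom)).appTop := by
      rw [← CoactBr.pt_left, ← hd i hi]; rfl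
    have h2 := congr($(h1) ((Scheme.ΓSpecIso (CommRingCat.of (Polynomial k))).inv Polynomial.X))
    have h3 := congr($(Scheme.ΓSpecIso_inv_naturality
      (CommRingCat.ofHom (Polynomial.aeval (e i) : Polynomial k →ₐ[k] AG).toRingHom)) Polynomial.X)
    refine Eq.trans ?_ (h2.trans (h3.symm.trans ?_))
    · rfl
    · change (Scheme.ΓSpecIso (CommRingCat.of AG)).inv ((Polynomial.aeval (e i) : Polynomial k →ₐ[k] AG) Polynomial.X) = _
      rw [Polynomial.aeval_X]
      rfl
  have hbasic : ∀ i ∈ s, q.left ⁻¹ᵁ (Q.left.basicOpen (F i)) = PrimeSpectrum.basicOpen (e i) := by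
    intro i hi
    refine (Scheme.preimage_basicOpen_top q.left (F i)).trans ?_
    rw [hF i hi]
    exact basicOpen_eq_of_affine (R := CommRingCat.of AG) (e i)
  have hle : ∀ i ∈ s, Q.left.basicOpen (F i) ≤ i.1 := by
    intro i hi x hx
    obtain ⟨y, rfl⟩ := q.left.surjective x
    have hy : y ∈ PrimeSpectrum.basicOpen (e i) := by
      rw [← hbasic i hi]; exact hx
    by_contra hn
    exact hy ((hZ i y).1 hn (he i hi).1)
  have hsumF : IsUnit (∑ i ∈ s, F i) := by
    have h1 : q.left.appTop (∑ i ∈ s, F i) = 1 := by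
      refine (map_sum _ _ _).trans ((Finset.sum_congr rfl hF).trans ?_)
      refine (map_sum θ.hom.hom _ _).symm.trans ?_
      rw [hsum]
      exact map_one θ.hom.hom
    refine Q.left.toRingedSpace.isUnit_of_isUnit_germ _ _ fun x hx => ?_
    refine (Scheme.mem_basicOpen _ _ x hx).1 ?_
    obtain ⟨y, rfl⟩ := q.left.surjective x
    show y ∈ q.left ⁻¹ᵁ Q.left.basicOpen (∑ i ∈ s, F i)
    rw [Scheme.preimage_basicOpen_top, h1]
    rw [Scheme.basicOpen_of_isUnit _ isUnit_one]
    trivial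
  refine isAffine_of_isAffineOpen_basicOpen (F '' (s : Set ι')) ?_ ?_
  · exact Ideal.eq_top_of_isUnit_mem _ (sum_mem fun i hi => Ideal.subset_span ⟨i, hi, rfl⟩) hsumF
  · rintro _ ⟨i, hi, rfl⟩
    have h : Q.left.basicOpen (Q.left.presheaf.map (homOfLE (le_top : i.1 ≤ ⊤)).op (F i)) = Q.left.basicOpen (F i) := by
      rw [Scheme.basicOpen_res, inf_eq_right.2 (hle i hi)]
    rw [← h]
    exact i.2.basicOpen _


end Groth.Agent.S17533
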