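import Groth.Statements.S17534
import Groth.Agent.S16709
import Groth.Agent.Lib.LinRedExt.General
import Groth.Agent.Lib.HopfAG.LRCoh
import Mathlib.AlgebraicGeometry.Morphisms.Flat
import Mathlib.RingTheory.RingHom.FaithfullyFlat

set_option autoImplicit false
universe u
open CategoryTheory MonoidalCategory CartesianMonoidalCategory AlgebraicGeometry
open HopfRep

namespace Groth.Agent.S17534

open scoped TensorProduct MonObj
open MonObj Opposite

/-- Let `k` be an algebraically closed field, `AG` a commutative Hopf algebra of finite type over `k`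
which is linearly reductive (every finite-dimensional comodule semisimple; `G = Spec AG`), `AH` a
commutative Hopf algebra of finite type and `ψ : AG → AH` a surjective bialgebra map, so that `H =
Spec AH → G` is a closed subgroup (assumed a homomorphism of group schemes), and let `q : G ⟶ Q`
present the `k`-scheme `Q` as the fppf quotient `G/H` (`q` surjective, flat and locally of finite
presentation, and the square with the projection and the multiplication `G × H → G` cartesian). If
`Q` is affine, then `H` is linearly reductive. (The direct direction — `Q` affine whenever `H` is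
linearly reductive — holds without hypothesis on `G`; together they form the published equivalence.) -/
theorem result
    (k : Type u) [Field k] [IsAlgClosed k]
    (AG AH : Type u) [CommRing AG] [HopfAlgebra k AG] [Algebra.FiniteType k AG]
    [CommRing AH] [HopfAlgebra k AH] [Algebra.FiniteType k AH]
    (hG : HopfRep.IsLinearlyReductive k AG)
    (ψ : AG →ₐc[k] AH) (hψ : Function.Surjective ψ)
    [IsMonHom (CoactBr.pt (ψ : AG →ₐ[k] AH))]
    (Q : Over (Spec (CommRingCat.of k))) (q : CoactBr.sp k AG ⟶ Q)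
    (hq : RedSub.IsQuotient (CoactBr.pt (ψ : AG →ₐ[k] AH)) q) :
    IsAffine Q.left → HopfRep.IsLinearlyReductive k AH := by
  intro hQ
  obtain ⟨hqs, hqf, -, hpb⟩ := hq
  haveI := hqs
  haveI := hqf
  haveI := hQ
  let fB : k →+* Γ(Q.left, ⊤) := ((Scheme.ΓSpecIso (CommRingCat.of k)).inv ≫ Q.hom.appTop).hom
  letI : Algebra k Γ(Q.left, ⊤) := fB.toAlgebra
  let e : Q ≅ CoactBr.sp k Γ(Q.left, ⊤) := Over.isoMk (Scheme.isoSpec Q.left) (by
    show Q.left.isoSpec.hom ≫ Spec.map (CommRingCat.ofHom (algebraMap k Γ(Q.left, ⊤))) = Q.hom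
    rw [show CommRingCat.ofHom (algebraMap k Γ(Q.left, ⊤)) = (Scheme.ΓSpecIso (CommRingCat.of k)).inv ≫ Q.hom.appTop
      from rfl, Spec.map_comp, Scheme.isoSpec_hom_naturality_assoc, Scheme.isoSpec_Spec_hom, ← Spec.map_comp,
      Iso.inv_hom_id, Spec.map_id, Category.comp_id])
  have full : ∀ {X Y : Type u} [CommRing X] [Algebra k X] [CommRing Y] [Algebra k Y]
      (f : CoactBr.sp k Y ⟶ CoactBr.sp k X), ∃ φ : X →ₐ[k] Y, CoactBr.pt φ = f := by
    intro X Y _ _ _ _ f
    have h : CommRingCat.ofHom (algebraMap k X) ≫ Spec.preimage f.left = CommRingCat.ofHom (algebraMap k Y) := by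
      apply Spec.map_injective
      rw [Spec.map_comp, Spec.map_preimage]
      exact Over.w f
    refine ⟨{ (Spec.preimage f.left).hom with
      commutes' := fun r => DFunLike.congr_fun (congrArg CommRingCat.Hom.hom h) r }, ?_⟩
    apply Over.OverMorphism.ext
    rw [CoactBr.pt_left]
    exact Spec.map_preimage f.left
  obtain ⟨φ, hφ⟩ := full (q ≫ e.hom)
  letI : Algebra Γ(Q.left, ⊤) AG := φ.toRingHom.toAlgebra
  haveI : IsScalarTower k Γ(Q.left, ⊤) AG := IsScalarTower.of_algebraMap_eq fun c => (φ.commutes c).symm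
  haveI : Module.FaithfullyFlat Γ(Q.left, ⊤) AG := by
    rw [← RingHom.faithfullyFlat_algebraMap_iff, RingHom.FaithfullyFlat.iff_flat_and_comap_surjective]
    have hφl : Spec.map (CommRingCat.ofHom φ.toRingHom) = q.left ≫ e.hom.left := by
      rw [← CoactBr.pt_left, hφ]; rfl
    haveI : IsIso e.hom.left := inferInstanceAs (IsIso (Scheme.isoSpec Q.left).hom)
    haveI : Flat (Spec.map (CommRingCat.ofHom φ.toRingHom)) := by
      rw [hφl]; exact inferInstanceAs (Flat (q.left ≫ (Scheme.isoSpec Q.left).hom))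
    haveI : Surjective (Spec.map (CommRingCat.ofHom φ.toRingHom)) := by
      rw [hφl]; exact inferInstanceAs (Surjective (q.left ≫ (Scheme.isoSpec Q.left).hom))
    exact ⟨(HasRingHomProperty.Spec_iff (P := @Flat)).mp ‹_›, (Spec.map (CommRingCat.ofHom φ.toRingHom)).surjective⟩
  have key : ∀ {K : Type u} [CommRing K] [Algebra k K] (a : AG →ₐ[k] K) (h : AH →ₐ[k] K),
      a.comp φ = (WithConv.toConv a * WithConv.toConv (h.comp (ψ : AG →ₐ[k] AH))).ofConv.comp φ := by
    intro K _ _ a h
    apply CoactBr.pt_injective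
    rw [CoactBr.pt_comp, CoactBr.pt_comp, hφ]
    have h1 := congrArg (fun f => lift (CoactBr.pt a) (CoactBr.pt h) ≫ f) hpb.w
    simp only [lift_fst_assoc, Category.assoc, lift_whiskerLeft_assoc] at h1
    rw [← Category.assoc, h1, show CoactBr.pt (WithConv.toConv a * WithConv.toConv (h.comp (ψ : AG →ₐ[k] AH))).ofConv =
        CoactBr.pt a * CoactBr.pt (h.comp (ψ : AG →ₐ[k] AH)) from
      map_mul Spec.mapMulEquiv (WithConv.toConv a) (WithConv.toConv (h.comp (ψ : AG →ₐ[k] AH))),
      CoactBr.pt_comp, Hom.mul_def]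
    simp only [Category.assoc]
  have hρB : ∀ b, GrothLib.LinRedExt.Gen.rc ψ (algebraMap Γ(Q.left, ⊤) AG b) =
      algebraMap Γ(Q.left, ⊤) AG b ⊗ₜ[k] (1 : AH) := by
    intro b
    have h1 := DFunLike.congr_fun (key (Algebra.TensorProduct.includeLeft : AG →ₐ[k] AG ⊗[k] AH)
      Algebra.TensorProduct.includeRight) b
    refine Eq.trans ?_ h1.symm
    show GrothLib.LinRedExt.Gen.rc ψ (φ b) = _
    rw [AlgHom.comp_apply, AlgHom.convMul_apply]
    show Algebra.TensorProduct.map (AlgHom.id k AG) (ψ : AG →ₐ[k] AH) (Coalgebra.comul (R := k) (φ b)) = _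
    induction Coalgebra.comul (R := k) (φ b) using TensorProduct.induction_on with
    | zero => simp
    | add x y hx hy => simp only [map_add, hx, hy]
    | tmul x y => simp
  let x' : AG →ₐ[k] AG ⊗[Γ(Q.left, ⊤)] AG := Algebra.TensorProduct.includeLeft
  let y' : AG →ₐ[k] AG ⊗[Γ(Q.left, ⊤)] AG :=
    (Algebra.TensorProduct.includeRight (R := Γ(Q.left, ⊤)) (A := AG) (B := AG)).restrictScalars k
  have hxy : CoactBr.pt x' ≫ q = CoactBr.pt y' ≫ q := by
    rw [← cancel_mono e.hom, Category.assoc, Category.assoc, ← hφ, ← CoactBr.pt_comp, ← CoactBr.pt_comp]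
    congr 1
    ext b
    change (algebraMap Γ(Q.left, ⊤) AG b) ⊗ₜ[Γ(Q.left, ⊤)] (1 : AG) = (1 : AG) ⊗ₜ (algebraMap Γ(Q.left, ⊤) AG b)
    rw [Algebra.algebraMap_eq_smul_one, TensorProduct.smul_tmul]
  obtain ⟨g, hg⟩ : ∃ g : AH →ₐ[k] AG ⊗[Γ(Q.left, ⊤)] AG, WithConv.toConv (g.comp (ψ : AG →ₐ[k] AH)) =
      GrothLib.Hopf.pinv (WithConv.toConv x') * WithConv.toConv y' := by
    let l := hpb.lift (CoactBr.pt x') (CoactBr.pt y') hxy
    obtain ⟨g, hg⟩ := full (l ≫ snd _ _)
    refine ⟨g, ?_⟩
    have h1 : WithConv.toConv y' = WithConv.toConv x' * WithConv.toConv (g.comp (ψ : AG →ₐ[k] AH)) := by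
      apply WithConv.ofConv_injective
      apply CoactBr.pt_injective
      rw [show CoactBr.pt (WithConv.toConv x' * WithConv.toConv (g.comp (ψ : AG →ₐ[k] AH))).ofConv =
          CoactBr.pt x' * CoactBr.pt (g.comp (ψ : AG →ₐ[k] AH)) from
        map_mul Spec.mapMulEquiv (WithConv.toConv x') (WithConv.toConv (g.comp (ψ : AG →ₐ[k] AH))),
        CoactBr.pt_comp, hg]
      show CoactBr.pt y' = _
      rw [← hpb.lift_snd (CoactBr.pt x') (CoactBr.pt y') hxy, Hom.mul_def, ← lift_whiskerLeft_assoc]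
      conv_rhs => rw [← hpb.lift_fst (CoactBr.pt x') (CoactBr.pt y') hxy]
      rw [← comp_lift, lift_fst_snd, Category.comp_id]
    rw [h1, ← _root_.mul_assoc, GrothLib.Hopf.pinv_mul, _root_.one_mul]
  rw [Groth.Agent.S16709.result k AH inferInstance]
  intro V _ _ _ hfin π hπs hπ
  obtain ⟨α, hα, hα1⟩ := GrothLib.LRCoh.exists_integral hG
  exact GrothLib.LinRedExt.Gen.exists_fixed ψ hψ hρB hg α hα hα1 π hπs hπ

end Groth.Agent.S17534
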