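import Groth.Statements.S17549
import Groth.Agent.Lib.Decaying.Basic
import Groth.Agent.Lib.AdicExtra.Complete
-- import your own Groth.Agent.* helpers here

set_option autoImplicit false
universe u
open W4c5adicflatcompl
open CAlg

namespace Groth.Agent.S17549

/-- Over a Noetherian ring A with I-adic completion Â, an A-module P is I-adically projective
(I-adically complete, and every A-linear map from P to the target of a surjection between I-adically
complete modules lifts along that surjection) exactly when P is a retract of some module of
I-adically decaying functions Z → Â: there are a set Z, an A-linear map i from P to the decaying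
functions Z → Â and an A-linear map r back with r ∘ i the identity of P. Test modules, P and Z live
in the universe of A. -/
theorem result {A : Type u} [CommRing A] [IsNoetherianRing A]
    (I : Ideal A) (P : Type u) [AddCommGroup P] [Module A P] :
    IsAdicProjective I P ↔
      ∃ (Z : Type u) (i : P →ₗ[A] decaying I Z (AdicCompletion I A))
        (r : decaying I Z (AdicCompletion I A) →ₗ[A] P), r ∘ₗ i = LinearMap.id := by
  classical
  have hI := IsNoetherian.noetherian I
  have := AdicCompletion.isAdicComplete (I := I) (M := A) hI
  constructor
  · rintro ⟨hc, hl⟩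
    obtain ⟨φ, hφ⟩ := GrothLib.Decaying.exists_extension (I := I) (Z := P) (M := P) id
    have hsurj : Function.Surjective φ := fun x => ⟨_, hφ x⟩
    obtain ⟨χ, hχ⟩ := hl _ P (GrothLib.Decaying.isAdicComplete_decaying hI) hc φ hsurj LinearMap.id
    exact ⟨P, χ, φ, hχ⟩
  · rintro ⟨Z, i, r, hri⟩
    have := GrothLib.Decaying.isAdicComplete_decaying (I := I) (Z := Z) (M := AdicCompletion I A) hI
    refine ⟨GrothLib.AdicExtra.isAdicComplete_of_retract i r (LinearMap.congr_fun hri), ?_⟩
    intro M N _ _ _ _ hM hN φ hφ ψ
    choose m hm using fun z => hφ (ψ (r (single I z (AdicCompletion.of I A 1))))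
    obtain ⟨χ, hχ⟩ := GrothLib.Decaying.exists_extension (I := I) m
    refine ⟨χ.comp i, ?_⟩
    rw [← LinearMap.comp_assoc, GrothLib.Decaying.hom_ext hI (φ := φ.comp χ) (ψ := ψ.comp r) fun z => by
      rw [LinearMap.comp_apply, hχ, hm, LinearMap.comp_apply], LinearMap.comp_assoc, hri, LinearMap.comp_id]

end Groth.Agent.S17549
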