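import Groth.Statements.S1755
import Groth.Agent.Lib.Kollar3.Quot

set_option autoImplicit false
universe u
open LocCoh

namespace Groth.Agent.S1755

/-- Kollár's criterion for finiteness of first local cohomology, sufficiency direction, in affine form.
Let A be a Noetherian ring, I an ideal and M a finite A-module. Suppose that for every associated
prime p of M not containing I, every prime q containing both p and I, and every associated prime P
of the completion C of the local ring A_q/pA_q at its maximal ideal, the quotient C/P has Krull
dimension at least 2. Then H¹_I(M) is a finite A-module. (The criterion is an equivalence; only this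
implication is asserted here.) -/
theorem result (A : Type u) [CommRing A] [IsNoetherianRing A] (I : Ideal A) (M : Type u) [AddCommGroup M] [Module A M] [Module.Finite A M] (h : ∀ p : Ideal A, p ∈ associatedPrimes A M → ¬ I ≤ p → ∀ (q : PrimeSpectrum A), p ≤ q.asIdeal → I ≤ q.asIdeal → ∀ P ∈ associatedPrimes (AdicCompletion ((IsLocalRing.maximalIdeal (Localization.AtPrime q.asIdeal)).map (Ideal.Quotient.mk (p.map (algebraMap A (Localization.AtPrime q.asIdeal))))) (Localization.AtPrime q.asIdeal ⧸ p.map (algebraMap A (Localization.AtPrime q.asIdeal)))) (AdicCompletion ((IsLocalRing.maximalIdeal (Localization.AtPrime q.asIdeal)).map (Ideal.Quotient.mk (p.map (algebraMap A (Localization.AtPrime q.asIdeal))))) (Localization.AtPrime q.asIdeal ⧸ p.map (algebraMap A (Localization.AtPrime q.asIdeal)))), (2 : WithBot ℕ∞) ≤ ringKrullDim (AdicCompletion ((IsLocalRing.maximalIdeal (Localization.AtPrime q.asIdeal)).map (Ideal.Quotient.mk (p.map (algebraMap A (Localization.AtPrime q.asIdeal))))) (Localization.AtPrime q.asIdeal ⧸ p.map (algebraMap A (Localization.AtPrime q.asIdeal))) ⧸ P)) : Module.Finite A (LocCoh.H I 1 M) := by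
    exact GrothLib.Kollar3.finite_H_one_module I M h

end Groth.Agent.S1755
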