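import Groth.Statements.S1757
import Groth.Agent.Lib.LechIndep

set_option autoImplicit false
universe u
open LocCoh

namespace Groth.Agent.S1757

/-- Let A be a local ring whose maximal ideal is generated by x_1, …, x_r, and let e_1, …, e_r be
positive integers such that x_1^{e_1}, …, x_r^{e_r} are independent. Then the length of
A/(x_1^{e_1}, …, x_r^{e_r}) equals the product e_1 ⋯ e_r. -/
theorem result (A : Type u) [CommRing A] [IsLocalRing A] (r : ℕ) (x : Fin r → A) (hx : Ideal.span (Set.range x) = IsLocalRing.maximalIdeal A) (e : Fin r → ℕ) (he : ∀ i, 0 < e i) (hind : Dual2.Independent (fun i => x i ^ e i)) : Module.length A (A ⧸ Ideal.span (Set.range (fun i => x i ^ e i))) = ∏ i, (e i : ℕ∞) := by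
  exact GrothLib.LechIndep.length_powers x hx _ e rfl he hind

end Groth.Agent.S1757
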