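import Groth.Statements.S17571
-- import your own Groth.Agent.* helpers here
import Groth.Agent.Lib.PBDeg17.ChernClass

set_option autoImplicit false
universe u
open CategoryTheory AlgebraicGeometry
open Bivar

namespace Groth.Agent.S17571

/-- Suppose E is an O_X-module that is finite locally free, of rank r. Then for 0 ≤ p ≤ r the rule
assigning to g : Y → X locally of finite type the operation c_p(g^*E) ∩ − : CH_k(Y) → CH_{k−p}(Y) is
a bivariant class of degree p, the p-th Chern class of E. Stated through the characterisation of the
Chern class operations by the projective bundle: there is a family of operational classes c_j ∈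
A^j(X), j ≥ 0, with c_0 = 1 and c_j = 0 for j > r (a convention for j > r), such that on every test
scheme g : Y → X (with induced dimension function), for every projective bundle (π : P → Y, O_P(1),
π^*g^*E → O_P(1)) of g^*E with its induced dimension function and every k-cycle α on Y, any cycles
ζ_0 = α, ζ_1, …, ζ_r representing the classes c_j ∩ [α] satisfy Σ_{i=0}^r (−1)^i c_1(O_P(1))^i ∩
π^*(ζ_{r−i}) ∼_rat 0 on P for every nowhere-zero choice of rational sections of O_P(1) (the binder
Bivar.IsChernClasses, which also records the rank of E). Here a pair (X, δ) with Cyc.IsSetup plays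
the role of a scheme locally of finite type over the base (S, δ) (X locally Noetherian with
universally catenary local rings, δ a dimension function), Cyc.DeltaCompat records that a dimension
function is the induced one, and bivariant classes are taken in the operational sense of the
prelude: additive operations on the Chow groups CH_k (k-cycles modulo rational equivalence) of all
test schemes, compatible with proper pushforward, flat pullback and the Gysin maps of zero schemes
of sections of invertible modules in representative form (Bivar.Cl for A^p(X → Y), Bivar.OpCl for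
A^p(X)). -/
theorem result (X : Scheme.{u}) (δX : X → ℤ) (hX : Cyc.IsSetup X δX) (E : X.Modules) (r : ℕ) (hE : FlatMod.IsFinLocFreeOfRank r E) : ∃ c : (j : ℕ) → Bivar.OpCl (j : ℤ) X δX, Bivar.IsChernClasses E r c := by
  classical
  rcases Nat.eq_zero_or_pos r with rfl | hr
  · refine ⟨fun j => match j with
      | 0 => Bivar.OpCl.one X δX
      | _ + 1 => 0, hE, rfl, fun j hj => ?_, fun s P π O q hB δP hδP k α hα ζ h0 hζ _ => ?_⟩
    · obtain ⟨n, rfl⟩ : ∃ n, j = n + 1 := ⟨j - 1, by omega⟩
      rfl
    · haveI := s.lft
      have hY := GrothLib.PBDeg.isSetup_of_lft hX s.g s.compat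
      have hEY := GrothLib.OX.isFinLocFreeOfRank_pullback s.g hE
      haveI := GrothLib.PBDeg.isProper_of_isProjBundle hEY hB
      have hP := GrothLib.PBDeg.isSetup_of_lft hY π hδP
      haveI := hP.1
      haveI : IsEmpty P := ⟨fun y => by
        haveI := hB.epi
        obtain ⟨bO⟩ := GrothLib.OmegaFree.exists_basis_stalk hB.invertible y
        obtain ⟨bV⟩ := GrothLib.OmegaFree.exists_basis_stalk (GrothLib.OX.isFinLocFreeOfRank_pullback π hEY) y
        obtain ⟨v, hv⟩ := GrothLib.QCoh.stalkLin_surjective q y (bO 0)
        rw [show v = 0 from bV.repr.injective (Subsingleton.elim _ _), map_zero] at hv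
        exact bO.ne_zero 0 hv.symm⟩
      exact ⟨h0, hζ, fun t _ β _ => GrothLib.C1.RZ.to_ratEquivZero hP.2.2
        ((GrothLib.C1.RZ.zero hP.2.2 _).congr fun y => isEmptyElim y)⟩
  obtain ⟨m, rfl⟩ : ∃ m, r = m + 1 := ⟨r - 1, by omega⟩
  exact GrothLib.PBDeg.exists_isChernClasses hX E m hE

end Groth.Agent.S17571
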