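import Groth.Statements.S17572
-- import your own Groth.Agent.* helpers here
import Groth.Agent.Lib.PBDeg17.Exists
import Groth.Agent.Lib.PBDeg17.Split
import Groth.Agent.Lib.OX.OneDegLocus
import Groth.Agent.Lib.C1.OpClass

set_option autoImplicit false
universe u
open CategoryTheory AlgebraicGeometry
open Bivar

namespace Groth.Agent.S17572

/-- Fix a finite locally free O_X-module E whose rank is r. Let π : P → X denote the projective bundle
attached to E and put ξ := c_1(O_P(1)); then the c_j(E) ∩ α form the only sequence of classes α_j,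
starting with α_0 = α, such that the alternating sum, taken over indices i from 0 up to r, of the
terms (−1)^i ξ^i ∩ π^*α_{r−i} vanishes in CH_*(P). Consequently two families of operational classes
c, c' : ℕ → A^*(X) which both are Chern classes of E in the sense of the binder Bivar.IsChernClasses
E r (c_0 = 1, c_j = 0 for j > r, and on every test scheme g : Y → X, every projective bundle of g^*E
with induced dimension function and every k-cycle α on Y, all representatives of the c_j ∩ [α]
satisfy that relation up to rational equivalence on P) coincide. Here a pair (X, δ) with Cyc.IsSetup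
plays the role of a scheme locally of finite type over the base (S, δ) (X locally Noetherian with
universally catenary local rings, δ a dimension function), Cyc.DeltaCompat records that a dimension
function is the induced one, and bivariant classes are taken in the operational sense of the
prelude: additive operations on the Chow groups CH_k (k-cycles modulo rational equivalence) of all
test schemes, compatible with proper pushforward, flat pullback and the Gysin maps of zero schemes
of sections of invertible modules in representative form (Bivar.Cl for A^p(X → Y), Bivar.OpCl for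
A^p(X)). -/
theorem result (X : Scheme.{u}) (δX : X → ℤ) (hX : Cyc.IsSetup X δX) (E : X.Modules) (r : ℕ) (hE : FlatMod.IsFinLocFreeOfRank r E) (c c' : (j : ℕ) → Bivar.OpCl (j : ℤ) X δX) (hc : Bivar.IsChernClasses E r c) (hc' : Bivar.IsChernClasses E r c') : c = c' := by
  classical
  haveI := hX.1
  obtain ⟨-, h0, hbig, hrel⟩ := hc
  obtain ⟨-, h0', hbig', hrel'⟩ := hc'
  funext j
  rcases Nat.lt_or_ge r j with hj | hj
  · rw [hbig j hj, hbig' j hj]
  refine Bivar.OpCl.ext (funext fun s => funext fun k => AddMonoidHom.ext fun x => ?_)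
  rcases Nat.eq_zero_or_pos j with rfl | hjp
  · rw [h0, h0']
  obtain ⟨m, rfl⟩ : ∃ m, r = m + 1 := ⟨r - 1, by omega⟩
  haveI := s.lft
  haveI : IsLocallyNoetherian s.Y := LocallyOfFiniteType.isLocallyNoetherian s.g
  have hY := GrothLib.PBDeg.isSetup_of_lft hX s.g s.compat
  have hEY := GrothLib.OX.isFinLocFreeOfRank_pullback s.g hE
  obtain ⟨P, π, O, q, hB, -, hπ⟩ := GrothLib.PBDeg.exists_isProjBundle hEY
  haveI := hπ
  obtain ⟨δP, hδP⟩ := GrothLib.CycP1.exists_deltaCompat π s.δ
  have hP := GrothLib.PBDeg.isSetup_of_lft hY π hδP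
  haveI := hP.1
  have S := GrothLib.PBDeg.setting_univ hY hEY hB hP hδP
  obtain ⟨α, hα, rfl⟩ := Bivar.exists_rep x
  have reps : ∀ (c : (i : ℕ) → Bivar.OpCl (i : ℤ) X δX), c 0 = Bivar.OpCl.one X δX →
      ∃ (ζ : Fin (m + 1 + 1) → AlgebraicCycle s.Y ℤ) (hζ : ∀ i : Fin (m + 1 + 1), ζ i ∈ Cyc.Zk s.Y s.δ (k - ((i : ℕ) : ℤ))),
        ζ 0 = α ∧ ∀ i : Fin (m + 1 + 1), (c i).op s k (ChowOps.cl α hα) = ChowOps.cl (ζ i) (hζ i) := by
    intro c h0
    choose z hz hzc using fun i : Fin (m + 1 + 1) => Bivar.exists_rep ((c i).op s k (ChowOps.cl α hα))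
    have hα0 : α ∈ Cyc.Zk s.Y s.δ (k - (((0 : Fin (m + 1 + 1)) : ℕ) : ℤ)) := by simpa using hα
    refine ⟨Function.update z 0 α, fun i => ?_, Function.update_self _ _ _, fun i => ?_⟩
    · rcases eq_or_ne i 0 with rfl | hi
      · rw [Function.update_self]; exact hα0
      · rw [Function.update_of_ne hi]; exact hz i
    · rcases eq_or_ne i 0 with rfl | hi
      · simp only [Function.update_self, Fin.val_zero]
        rw [h0]
        exact Bivar.chCast_cl _ _ _ α hα
      · simp only [Function.update_of_ne hi]
        exact (hzc i).symm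
  obtain ⟨ζ, hζ, hζ0, hζc⟩ := reps c h0
  obtain ⟨ζ', hζ', hζ0', hζc'⟩ := reps c' h0'
  let i : Fin (m + 1 + 1) := ⟨j, by omega⟩
  have hrefl : Cyc.RatEquiv s.δ k α α := by
    show Cyc.RatEquivZero s.δ k (α - α)
    rw [sub_self]
    exact GrothLib.C1.RZ.to_ratEquivZero hY.2.2 (GrothLib.C1.RZ.zero hY.2.2 _)
  show (c i).op s k _ = (c' i).op s k _
  rw [hζc i, hζc' i]
  exact GrothLib.C1.cl_eq_of_ratEquiv (hζ i) (hζ' i) (S.chernCap_unique hrefl
    (hrel s P π O q hB δP hδP k α hα ζ hζ0 hζ hζc) (hrel' s P π O q hB δP hδP k α hα ζ' hζ0' hζ' hζc') i)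


end Groth.Agent.S17572
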