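import Groth.Statements.S17574
-- import your own Groth.Agent.* helpers here
import Groth.Agent.Lib.PBDeg17.ZeroSec

set_option autoImplicit false
universe u
open CategoryTheory AlgebraicGeometry
open Bivar

namespace Groth.Agent.S17574

/-- Let f : X' → X be locally of finite type, L an invertible O_X-module, and c ∈ A^p(X' → X) a
bivariant class. Then c ∘ c_1(L) = c_1(f^*L) ∘ c in A^{p+1}(X' → X): for every cartesian square (g :
Y → X, Y' = Y ×_X X', g' : Y' → X') with g locally of finite type and every x ∈ CH_k(Y), c ∩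
(c_1(g^*L) ∩ x) = c_1((g')^*f^*L) ∩ (c ∩ x) in CH_{k−1−p}(Y'). Here the first Chern classes of L on
X and of f^*L on X' are given as operational classes cX ∈ A^1(X), cX' ∈ A^1(X') through the binder
Bivar.IsC1Class, evaluated on the test schemes Y → X and Y' → X' of the square (Y' → X' is locally
of finite type as a base change of g), and the two sides, of weights k − p − 1 and k − 1 − p, are
compared through the transport Bivar.chCast. Here a pair (X, δ) with Cyc.IsSetup plays the role of a
scheme locally of finite type over the base (S, δ) (X locally Noetherian with universally catenary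
local rings, δ a dimension function), Cyc.DeltaCompat records that a dimension function is the
induced one, and bivariant classes are taken in the operational sense of the prelude: additive
operations on the Chow groups CH_k (k-cycles modulo rational equivalence) of all test schemes,
compatible with proper pushforward, flat pullback and the Gysin maps of zero schemes of sections of
invertible modules in representative form (Bivar.Cl for A^p(X → Y), Bivar.OpCl for A^p(X)). -/
theorem result (X X' : Scheme.{u}) (δX : X → ℤ) (δX' : X' → ℤ) (hX : Cyc.IsSetup X δX) (hX' : Cyc.IsSetup X' δX') (f : X' ⟶ X) [LocallyOfFiniteType f] (hδ : Cyc.DeltaCompat f δX' δX) (L : X.Modules) (cX : Bivar.OpCl 1 X δX) (hcX : Bivar.IsC1Class L cX) (cX' : Bivar.OpCl 1 X' δX') (hcX' : Bivar.IsC1Class ((Scheme.Modules.pullback f).obj L) cX') (p : ℤ) (c : Bivar.Cl p f δX' δX) (s : Bivar.Sq f δX' δX) (k : ℤ) (x : ChowOps.CH s.Y' s.δY' k) : c.op s (k - 1) (cX.op ⟨s.Y', s.g, s.lft, s.δY', s.compatY⟩ k x) = Bivar.chCast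 s.X' s.δX' (sub_right_comm k p 1) (cX'.op ⟨s.X', s.g', MorphismProperty.of_isPullback s.isPullback s.lft, s.δX', s.compatX⟩ (k - p) (c.op s k x)) := by
  haveI := s.lft
  haveI := hX.1
  haveI := hX'.1
  haveI : IsLocallyNoetherian s.Y' := LocallyOfFiniteType.isLocallyNoetherian s.g
  have hg' : LocallyOfFiniteType s.g' := MorphismProperty.of_isPullback s.isPullback s.lft
  haveI := hg'
  haveI : IsLocallyNoetherian s.X' := LocallyOfFiniteType.isLocallyNoetherian s.g'
  have hδY : Cyc.IsDimFun s.Y' s.δY' := Groth.Agent.S9684.result s.g δX hX s.δY' s.compatY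
  have hδX : Cyc.IsDimFun s.X' s.δX' := Groth.Agent.S9684.result s.g' δX' hX' s.δX' s.compatX
  obtain ⟨hL, hcap⟩ := hcX
  obtain ⟨hL₁, hcap'⟩ := hcX'
  have hLY := GrothLib.C1.isInvertible_pullback s.g hL
  have hLX := GrothLib.C1.isInvertible_pullback s.f' hLY
  have hLX' := GrothLib.C1.isInvertible_pullback s.g' hL₁
  obtain ⟨w, hw⟩ := GrothLib.C1.exists_sec hLY
  obtain ⟨w', hw'⟩ := GrothLib.C1.exists_sec hLX
  obtain ⟨α, hα, rfl⟩ := Bivar.exists_rep x
  obtain ⟨β, hβ, hφ, hrest⟩ := c.gysin s s (𝟙 s.Y') (𝟙 s.X') (Category.id_comp _)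
    (by rw [Category.id_comp, Category.comp_id]) (Category.id_comp _) _ hLY 0
    (GrothLib.PBDeg.isZeroSchemeOf_id_zero hLY) 0 (GrothLib.PBDeg.isZeroSchemeOf_id_zero hLX) k α hα
  let γ : AlgebraicCycle s.Y' ℤ :=
    GrothLib.C1.toCycle _ (GrothLib.C1.lf_c1Cap hδY hLY (GrothLib.C1.LF.of_cycle α) hw)
  have hγ : γ ∈ Cyc.Zk s.Y' s.δY' (k - 1) := GrothLib.C1.c1_mem_Zk hα rfl
  obtain ⟨ζ, hζ, hζc, hψ⟩ := hrest w hw γ (fun y => by rw [GrothLib.PBDeg.gysinChoice_zero]; rfl) hγ w' hw'
  have hζ' : ⇑ζ = Cyc.c1CapFun s.δX' ((Scheme.Modules.pullback s.f').obj ((Scheme.Modules.pullback s.g).obj L)) ⇑β w' :=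
    funext fun y => by
      have h := hζc y
      rw [GrothLib.PBDeg.gysinChoice_zero] at h
      exact h
  let e := (Scheme.Modules.pullbackComp s.f' s.g).app L ≪≫ (Scheme.Modules.pullbackCongr s.isPullback.w).app L ≪≫
    ((Scheme.Modules.pullbackComp s.g' f).app L).symm
  rw [hcap ⟨s.Y', s.g, s.lft, s.δY', s.compatY⟩ k α hα w hw γ rfl hγ, hψ, hφ]
  rw [hcap' ⟨s.X', s.g', hg', s.δX', s.compatX⟩ (k - p) β hβ (fun ξ => GrothLib.C1.isoFib e ξ (w' ξ))
    (fun ξ => GrothLib.C1.isoFib_ne_zero e hLX (hw' ξ)) ζ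
    (hζ'.trans (GrothLib.C1.c1Cap_iso e hδX hLX hLX' ⇑β w').symm) (fun y hy => hζ y (fun e => hy (by show s.δX' y = _; rw [e]; ring))), Bivar.chCast_cl]


end Groth.Agent.S17574
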