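import Groth.Statements.S17575
-- import your own Groth.Agent.* helpers here
import Groth.Agent.Lib.PBDeg17.ChainVanish

set_option autoImplicit false
universe u
open CategoryTheory AlgebraicGeometry
open Bivar

namespace Groth.Agent.S17575

/-- Let X be a scheme which has an ample invertible module (in particular X is quasi-compact) and whose
dimension (the topological Krull dimension, not the δ-dimension) is at most d. Then for any
invertible modules L_0, …, L_d on X the composite c_1(L_d) ∘ ⋯ ∘ c_1(L_0) vanishes in A^{d+1}(X):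
for every test scheme g : Y → X locally of finite type (with induced dimension function), every x_0
∈ CH_k(Y) and every chain x_{j+1} = c_1(L_j) ∩ x_j ∈ CH_{k−j−1}(Y), j = 0, …, d, one has x_{d+1} =
0. Here each c_1(L_j) ∈ A^1(X) is an operational class given through the binder Bivar.IsC1Class, and
consecutive weights k − (j + 1) and k − j − 1 are matched by the transport Bivar.chCast. (The
published statement takes the dimension equal to d; dimension at most d follows at once, the
operations being additive.) Here a pair (X, δ) with Cyc.IsSetup plays the role of a scheme locally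
of finite type over the base (S, δ) (X locally Noetherian with universally catenary local rings, δ a
dimension function), Cyc.DeltaCompat records that a dimension function is the induced one, and
bivariant classes are taken in the operational sense of the prelude: additive operations on the Chow
groups CH_k (k-cycles modulo rational equivalence) of all test schemes, compatible with proper
pushforward, flat pullback and the Gysin maps of zero schemes of sections of invertible modules in
representative form (Bivar.Cl for A^p(X → Y), Bivar.OpCl for A^p(X)). -/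
theorem result (X : Scheme.{u}) (δX : X → ℤ) (hX : Cyc.IsSetup X δX) (A : X.Modules) (hA : CohB1.IsAmple A) (d : ℕ) (hd : topologicalKrullDim X ≤ (d : WithBot ℕ∞)) (L : ℕ → X.Modules) (c : ℕ → Bivar.OpCl 1 X δX) (hc : ∀ j, j ≤ d → Bivar.IsC1Class (L j) (c j)) (s : Bivar.OSq X δX) (k : ℤ) (x : (j : ℕ) → ChowOps.CH s.Y s.δ (k - (j : ℤ))) (hx : ∀ j, j ≤ d → (c j).op s (k - (j : ℤ)) (x j) = Bivar.chCast s.Y s.δ (((congrArg (fun t : ℤ => k - t) (Nat.cast_succ j)).trans (sub_sub k (j : ℤ) 1).symm)) (x (j + 1))) : x (d + 1) = 0 := by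
  haveI := s.lft
  haveI := hX.1
  haveI : IsLocallyNoetherian s.Y := LocallyOfFiniteType.isLocallyNoetherian s.g
  have hδ : Cyc.IsDimFun s.Y s.δ := Groth.Agent.S9684.result s.g δX hX s.δ s.compat
  suffices H : ∀ j : ℕ, j ≤ d + 1 → ∃ (α : AlgebraicCycle s.Y ℤ) (hα : α ∈ Cyc.Zk s.Y s.δ (k - (j : ℤ))),
      x j = ChowOps.cl α hα ∧ ∀ ξ, α ξ ≠ 0 → GrothLib.PBDeg.Below j (s.g ξ) by
    obtain ⟨α, hα, hxα, hb⟩ := H (d + 1) le_rfl
    have h0 : α = 0 := by
      ext ξ
      by_contra h
      have h' : (((d + 1 : ℕ) : WithBot ℕ∞)) ≤ (d : WithBot ℕ∞) := (hb ξ h).le_dim.trans hd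
      exact absurd (Nat.cast_le.1 h') (by omega)
    rw [hxα]
    subst h0
    exact Bivar.cl_zero
  intro j
  induction j with
  | zero =>
    intro _
    obtain ⟨α, hα, e⟩ := Bivar.exists_rep (x 0)
    exact ⟨α, hα, e.symm, fun _ _ => trivial⟩
  | succ j ih =>
    intro hj
    obtain ⟨α, hα, hxα, hb⟩ := ih (by omega)
    obtain ⟨hL, hcap⟩ := hc j (by omega)
    obtain ⟨t, ht⟩ := GrothLib.C1.exists_sec hL
    have hv : ∀ ξ, GrothLib.C1.pullChoice s.g hL t ξ ≠ 0 := fun ξ => GrothLib.C1.pullFib_ne_zero s.g hL (ht _)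
    let γ : AlgebraicCycle s.Y ℤ := GrothLib.C1.toCycle _
      (GrothLib.C1.lf_c1Cap hδ (GrothLib.C1.isInvertible_pullback s.g hL) (GrothLib.C1.LF.of_cycle α) hv)
    have hγ : γ ∈ Cyc.Zk s.Y s.δ (k - (j : ℤ) - 1) := GrothLib.C1.c1_mem_Zk hα rfl
    have hγ' : γ ∈ Cyc.Zk s.Y s.δ (k - ((j + 1 : ℕ) : ℤ)) := by
      rw [show k - ((j + 1 : ℕ) : ℤ) = k - (j : ℤ) - 1 by push_cast; ring]
      exact hγ
    refine ⟨γ, hγ', ?_, fun ξ hξ => ?_⟩
    · have h := hx j (by omega)
      rw [hxα, hcap s _ α hα _ hv γ rfl hγ] at h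
      refine (Bivar.chCast s.Y s.δ
        ((congrArg (fun t : ℤ => k - t) (Nat.cast_succ j)).trans (sub_sub k (j : ℤ) 1).symm)).injective ?_
      rw [Bivar.chCast_cl]
      exact h.symm
    · obtain ⟨η, h1, h2, h3⟩ := GrothLib.PBDeg.image_ne_of_c1Cap_pullChoice hδ s.g hL ht hξ
      exact ⟨s.g η, hb η h1, h2, h3⟩


end Groth.Agent.S17575
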