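import Groth.Statements.S6482
-- import your own Groth.Agent.* helpers here
import Mathlib.RingTheory.AlgebraicIndependent.Transcendental

set_option autoImplicit false
universe u
open CategoryTheory AlgebraicGeometry
open CategoryTheory.Limits
open Cyc

namespace Groth.Agent.S6482

/-- Let f : Y → X be an envelope. Then f_* : Z_k(Y) → Z_k(X) is surjective, hence so is f_* : CH_k(Y) →
CH_k(X). An envelope is a proper, completely decomposed morphism (every point of the target has a
point over it with trivial residue field extension; this prelude's Cyc.IsCompletelyDecomposed). Here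
a pair (X, δ) with Cyc.IsSetup plays the role of a scheme locally of finite type over the base (S,
δ) (X locally Noetherian with universally catenary local rings, δ a dimension function), and
Cyc.DeltaCompat records that the dimension function upstairs is the induced one. -/
theorem result (X Y : Scheme.{u}) (δ : X → ℤ) (δY : Y → ℤ) (hX : Cyc.IsSetup X δ) (hY : Cyc.IsSetup Y δY) (f : Y ⟶ X) [IsProper f] (hcd : Cyc.IsCompletelyDecomposed f) (hδ : Cyc.DeltaCompat f δY δ) (k : ℤ) (α : AlgebraicCycle X ℤ) (hα : α ∈ Cyc.Zk X δ k) : ∃ β : AlgebraicCycle Y ℤ, β ∈ Cyc.Zk Y δY k ∧ AlgebraicCycle.map f δY δ β = α := by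
  classical
  choose y hy hsurj using hcd
  have key : ∀ x : X, δY (y x) = δ x ∧ f.residueDegree (y x) = 1 := by
    intro x
    obtain ⟨n, hn, hδn⟩ := hδ (y x)
    letI := (f.residueFieldMap (y x)).hom.toAlgebra
    have hbij : Function.Bijective (algebraMap (X.residueField (f (y x))) (Y.residueField (y x))) :=
      ⟨RingHom.injective (f.residueFieldMap (y x)).hom, hsurj x⟩
    haveI : Algebra.IsAlgebraic (X.residueField (f (y x))) (Y.residueField (y x)) :=
      ⟨fun z => by obtain ⟨a, rfl⟩ := hbij.2 z; exact isAlgebraic_algebraMap a⟩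
    rw [trdeg_eq_zero_iff.2 inferInstance] at hn
    have h0 : n = 0 := by exact_mod_cast hn.symm
    refine ⟨by rw [hy x] at hδn; omega, ?_⟩
    show Module.finrank (X.residueField (f (y x))) (Y.residueField (y x)) = 1
    rw [← (LinearEquiv.ofBijective (Algebra.linearMap _ _) hbij).finrank_eq, Module.finrank_self]
  let b : Y → ℤ := fun z => if y (f z) = z then α (f z) else 0
  have hsupp : ∀ z, b z ≠ 0 → y (f z) = z ∧ α (f z) ≠ 0 := fun z hz => by
    by_cases h : y (f z) = z
    · exact ⟨h, by simpa [b, h] using hz⟩
    · simp [b, h] at hz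
  have hlf : ∀ z : Y, ∃ t ∈ nhds z, (t ∩ Function.support b).Finite := by
    intro z
    obtain ⟨U, hU, hzU, -⟩ := exists_isAffineOpen_mem_and_subset (x := f z) (U := ⊤) trivial
    refine ⟨f ⁻¹' (U : Set X), (U.2.preimage f.continuous).mem_nhds hzU, ?_⟩
    refine Set.Finite.subset ((α.locallyFiniteSupport.finite_inter_support_of_isCompact hU.isCompact).image y) ?_
    rintro w ⟨hwU, hw⟩
    exact ⟨f w, ⟨hwU, (hsupp w hw).2⟩, (hsupp w hw).1⟩
  let β : AlgebraicCycle Y ℤ :=
    { toFun := b, supportWithinDomain' := by simp, supportLocallyFiniteWithinDomain' := fun z _ => hlf z }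
  refine ⟨β, fun z hz => ?_, ?_⟩
  · by_contra h
    obtain ⟨h1, h2⟩ := hsupp z h
    refine h2 (hα _ fun h3 => hz ?_)
    rw [← h1, (key (f z)).1, h3]
  · ext x
    simp only [AlgebraicCycle.map, Function.locallyFinsupp.map_apply]
    rw [finsum_mem_eq_sum_of_inter_support_eq _ (t := {y x})]
    · rw [Finset.sum_singleton]
      show b (y x) * (AlgebraicCycle.mapCoeff f δY δ (y x) : ℤ) = α x
      have e : f.base (y x) = x := hy x
      rw [AlgebraicCycle.mapCoeff, if_pos (by rw [e]; exact (key x).1), (key x).2, Nat.cast_one, mul_one]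
      show (if y (f (y x)) = y x then α (f (y x)) else 0) = α x
      rw [hy x, if_pos rfl]
    · ext z
      rw [Finset.coe_singleton]
      constructor
      · rintro ⟨h1, h2⟩
        refine ⟨?_, h2⟩
        have h3 := (hsupp z (left_ne_zero_of_mul h2)).1
        rw [show f z = x from h1] at h3
        exact h3.symm
      · rintro ⟨h1, h2⟩
        exact ⟨by rw [Set.mem_singleton_iff] at h1; subst h1; exact hy x, h2⟩

end Groth.Agent.S6482
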