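import Groth.Statements.S17576
-- import your own Groth.Agent.* helpers here
import Groth.Agent.Lib.PBDeg17.BivPush
import Groth.Agent.S6482

set_option autoImplicit false
universe u
open CategoryTheory AlgebraicGeometry
open Bivar

namespace Groth.Agent.S17576

open CategoryTheory.Limits GrothLib.CycPush

theorem cd_fst {A B C : Scheme.{u}} (g : A ⟶ C) (f : B ⟶ C) (hf : Cyc.IsCompletelyDecomposed f) :
    Cyc.IsCompletelyDecomposed (pullback.fst g f) := by
  intro x
  obtain ⟨y, h, hy⟩ := hf (g x)
  let φ : B.residueField y ⟶ A.residueField x :=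
    CommRingCat.ofHom (((g.residueFieldMap x).hom.comp (C.residueFieldCongr h).hom.hom).comp
      (RingEquiv.ofBijective (f.residueFieldMap y).hom ⟨(f.residueFieldMap y).hom.injective, hy⟩).symm.toRingHom)
  have hφ : f.residueFieldMap y ≫ φ = (C.residueFieldCongr h).hom ≫ g.residueFieldMap x := by
    ext a
    show g.residueFieldMap x ((C.residueFieldCongr h).hom _) = _
    exact congrArg (fun t => g.residueFieldMap x ((C.residueFieldCongr h).hom t))
      ((RingEquiv.ofBijective (f.residueFieldMap y).hom ⟨(f.residueFieldMap y).hom.injective, hy⟩).symm_apply_apply a)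
  have hcond : A.fromSpecResidueField x ≫ g = (Spec.map φ ≫ B.fromSpecResidueField y) ≫ f := by
    rw [Category.assoc, ← Scheme.Hom.SpecMap_residueFieldMap_fromSpecResidueField f y,
      ← Spec.map_comp_assoc, hφ, Spec.map_comp, Category.assoc, Scheme.residueFieldCongr_fromSpecResidueField,
      Scheme.Hom.SpecMap_residueFieldMap_fromSpecResidueField]
  let s : Spec (A.residueField x) ⟶ pullback g f := pullback.lift _ _ hcond
  let pt : Spec (A.residueField x) := IsLocalRing.closedPoint (A.residueField x)
  refine ⟨s pt, ?_, ?_⟩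
  · rw [← Scheme.Hom.comp_apply, pullback.lift_fst]
    exact Scheme.fromSpecResidueField_apply _ _
  · haveI : SurjectiveOnStalks (s ≫ pullback.fst g f) := by
      rw [pullback.lift_fst]
      infer_instance
    have hc := (residueFieldMap_bijective (s ≫ pullback.fst g f) pt).2
    rw [Scheme.residueFieldMap_comp] at hc
    change Function.Surjective fun w => s.residueFieldMap pt ((pullback.fst g f).residueFieldMap (s pt) w) at hc
    intro z
    obtain ⟨w, hw⟩ := hc (s.residueFieldMap pt z)
    exact ⟨w, (s.residueFieldMap pt).hom.injective hw⟩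

end Groth.Agent.S17576

namespace Groth.Agent.S17576

/-- Let f : X → Y be locally of finite type, g : Y' → Y an envelope (a proper, completely decomposed
morphism: over every point of Y lies a point of Y' with trivial residue field extension) and X' = Y'
×_Y X. Then a bivariant class c ∈ A^p(X → Y) is determined by its restriction res(c) ∈ A^p(X' → Y'):
two classes with the same restriction along the square (g, X') are equal. (The existence part — a
class c' on X' → Y' whose two restrictions to X' ×_X X' → Y' ×_Y Y' agree descends — is not stated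
here.) Here a pair (X, δ) with Cyc.IsSetup plays the role of a scheme locally of finite type over
the base (S, δ) (X locally Noetherian with universally catenary local rings, δ a dimension
function), Cyc.DeltaCompat records that a dimension function is the induced one, and bivariant
classes are taken in the operational sense of the prelude: additive operations on the Chow groups
CH_k (k-cycles modulo rational equivalence) of all test schemes, compatible with proper pushforward,
flat pullback and the Gysin maps of zero schemes of sections of invertible modules in representative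
form (Bivar.Cl for A^p(X → Y), Bivar.OpCl for A^p(X)). -/
theorem result (X Y : Scheme.{u}) (δX : X → ℤ) (δY : Y → ℤ) (hX : Cyc.IsSetup X δX) (hY : Cyc.IsSetup Y δY) (f : X ⟶ Y) [LocallyOfFiniteType f] (hδ : Cyc.DeltaCompat f δX δY) (p : ℤ) (s₀ : Bivar.Sq f δX δY) [IsProper s₀.g] (hcd : Cyc.IsCompletelyDecomposed s₀.g) (c₁ c₂ : Bivar.Cl p f δX δY) (heq : c₁.res s₀ = c₂.res s₀) : c₁ = c₂ := by
  refine Bivar.Cl.ext (funext fun s => funext fun k => AddMonoidHom.ext fun a => ?_)
  obtain ⟨α, hα, rfl⟩ := Bivar.exists_rep a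
  haveI := (GrothLib.PBDeg.sq_setupY hY s₀).1
  haveI := (GrothLib.PBDeg.sq_setupX hX s₀).1
  haveI := s.lft
  let gu := Limits.pullback.snd s.g s₀.g
  obtain ⟨δu, hδu⟩ := GrothLib.CycP1.exists_deltaCompat gu s₀.δY'
  let fu := Limits.pullback.fst gu s₀.f'
  let gu' := Limits.pullback.snd gu s₀.f'
  haveI : LocallyOfFiniteType gu' := MorphismProperty.pullback_snd _ _ inferInstance
  obtain ⟨δu', hδu'⟩ := GrothLib.CycP1.exists_deltaCompat gu' s₀.δX'
  let v : Bivar.Sq s₀.f' s₀.δX' s₀.δY' :=
    ⟨_, _, gu, fu, gu', IsPullback.of_hasPullback gu s₀.f', inferInstance, δu, δu', hδu, hδu'⟩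
  let h : (s₀.paste v).Y' ⟶ s.Y' := Limits.pullback.fst s.g s₀.g
  have w₁ : h ≫ s.g = (s₀.paste v).g := Limits.pullback.condition
  let h' : (s₀.paste v).X' ⟶ s.X' := s.isPullback.lift (fu ≫ h) (gu' ≫ s₀.g') (by
    rw [Category.assoc, w₁]
    exact (s₀.paste v).isPullback.w)
  have w₂ : h' ≫ s.f' = (s₀.paste v).f' ≫ h := s.isPullback.lift_fst _ _ _
  have w₃ : h' ≫ s.g' = (s₀.paste v).g' := s.isPullback.lift_snd _ _ _
  haveI : IsProper h := MorphismProperty.pullback_fst _ _ inferInstance
  haveI : IsProper h' := MorphismProperty.of_isPullback (P := @IsProper)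
    (GrothLib.PBDeg.sq_isPullback w₁ w₂ w₃).flip inferInstance
  obtain ⟨β, hβ, hmap⟩ := Groth.Agent.S6482.result _ _ s.δY' (s₀.paste v).δY' (GrothLib.PBDeg.sq_setupY hY s)
    (GrothLib.PBDeg.sq_setupY hY (s₀.paste v)) h (Groth.Agent.S17576.cd_fst s.g s₀.g hcd)
    (GrothLib.PBDeg.sq_compat_hom w₁) k α hα
  subst hmap
  haveI := (GrothLib.PBDeg.sq_setupX hX s).1
  obtain ⟨β₁, hβ₁, e₁, e₁'⟩ := c₁.push s (s₀.paste v) h h' w₁ w₂ w₃ k β hβ
  obtain ⟨β₂, hβ₂, e₂, e₂'⟩ := c₂.push s (s₀.paste v) h h' w₁ w₂ w₃ k β hβ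
  obtain ⟨μ, hμ⟩ := GrothLib.PBDeg.exists_mapHom h' (GrothLib.PBDeg.sq_setupX hX (s₀.paste v))
    (GrothLib.PBDeg.sq_setupX hX s) (GrothLib.PBDeg.sq_compat_hom' w₃) (k - p)
  have hres : c₁.op (s₀.paste v) k = c₂.op (s₀.paste v) k :=
    congrArg (fun c : Bivar.Cl p s₀.f' s₀.δX' s₀.δY' => c.op v k) heq
  rw [e₁', e₂', ← hμ β₁ hβ₁ _, ← hμ β₂ hβ₂ _, ← e₁, ← e₂, hres]

end Groth.Agent.S17576
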