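import Groth.Statements.S17577
-- import your own Groth.Agent.* helpers here
import Groth.Agent.Lib.PBDeg17.BivPoints

set_option autoImplicit false
universe u
open CategoryTheory AlgebraicGeometry
open Bivar

namespace Groth.Agent.S17577

/-- (3) ⇒ (1): let f : X → Y be locally of finite type and c ∈ A^p(X → Y) a bivariant class. Suppose
that for every cartesian square whose test scheme Y' is integral (Y' → Y locally of finite type, X'
= Y' ×_Y X) there is a proper birational morphism Y'' → Y' (Y'' irreducible, not necessarily
reduced, its generic point mapping to the generic point of Y' with an isomorphism of local rings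
there) such that c ∩ [Y''] = 0 in CH_*(X''), where X'' = Y'' ×_Y X and [Y''] is the cycle with
coefficient 1 at the generic point of Y'' and 0 elsewhere. Then c = 0. Taking Y'' = Y' shows in
particular that c vanishes as soon as c ∩ [Y'] = 0 for every such square with Y' integral. The
squares are the prelude's Bivar.Sq (any fibre products), the second one pasted onto the first. Here
a pair (X, δ) with Cyc.IsSetup plays the role of a scheme locally of finite type over the base (S,
δ) (X locally Noetherian with universally catenary local rings, δ a dimension function),
Cyc.DeltaCompat records that a dimension function is the induced one, and bivariant classes are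
taken in the operational sense of the prelude: additive operations on the Chow groups CH_k (k-cycles
modulo rational equivalence) of all test schemes, compatible with proper pushforward, flat pullback
and the Gysin maps of zero schemes of sections of invertible modules in representative form
(Bivar.Cl for A^p(X → Y), Bivar.OpCl for A^p(X)). -/
theorem result (X Y : Scheme.{u}) (δX : X → ℤ) (δY : Y → ℤ) (hX : Cyc.IsSetup X δX) (hY : Cyc.IsSetup Y δY) (f : X ⟶ Y) [LocallyOfFiniteType f] (hδ : Cyc.DeltaCompat f δX δY) (p : ℤ) (c : Bivar.Cl p f δX δY) (h3 : ∀ (s : Bivar.Sq f δX δY) [AlgebraicGeometry.IsIntegral s.Y'], ∃ (t : Bivar.Sq s.f' s.δX' s.δY') (_ : IrreducibleSpace t.Y') (_ : IsProper t.g), t.g (genericPoint t.Y') = genericPoint s.Y' ∧ IsIso (t.g.stalkMap (genericPoint t.Y')) ∧ ∀ (k : ℤ) (α : AlgebraicCycle t.Y' ℤ) (hα : α ∈ Cyc.Zk t.Y' t.δY' k), α (genericPoint t.Y') = 1 → (∀ y : t.Y', y ≠ genericPoint t.Y' → α y = 0) → c.op (s.paste t) k (ChowOps.cl α hα) = 0) : c = 0 := by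
  exact GrothLib.PBDeg.eq_zero_of_birational hX hY c h3

end Groth.Agent.S17577
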