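import Groth.Statements.S17578
-- import your own Groth.Agent.* helpers here
import Groth.Agent.Lib.BivClopen17.Main

set_option autoImplicit false
universe u
open CategoryTheory AlgebraicGeometry
open Bivar

namespace Groth.Agent.S17578

/-- Let f : X → Y be locally of finite type and Y = ∐_{j ∈ J} Y_j a decomposition into open and closed
subschemes, given as open immersions Y_j → Y with pairwise disjoint images covering Y, each with a
fibre product X_j = Y_j ×_Y X (so X = ∐ X_j and f(X_j) ⊂ Y_j). Then A^p(X → Y) = ∏_j A^p(X_j → Y_j):
the map sending a bivariant class to the family of its restrictions along the squares (Y_j → Y, X_j)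
is bijective. (The published statement also allows a finer decomposition of X indexed by a set
mapping to J; that refinement is not stated here.) Here a pair (X, δ) with Cyc.IsSetup plays the
role of a scheme locally of finite type over the base (S, δ) (X locally Noetherian with universally
catenary local rings, δ a dimension function), Cyc.DeltaCompat records that a dimension function is
the induced one, and bivariant classes are taken in the operational sense of the prelude: additive
operations on the Chow groups CH_k (k-cycles modulo rational equivalence) of all test schemes,
compatible with proper pushforward, flat pullback and the Gysin maps of zero schemes of sections of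
invertible modules in representative form (Bivar.Cl for A^p(X → Y), Bivar.OpCl for A^p(X)). -/
theorem result (X Y : Scheme.{u}) (δX : X → ℤ) (δY : Y → ℤ) (hX : Cyc.IsSetup X δX) (hY : Cyc.IsSetup Y δY) (f : X ⟶ Y) [LocallyOfFiniteType f] (hδ : Cyc.DeltaCompat f δX δY) (p : ℤ) (J : Type u) (s : J → Bivar.Sq f δX δY) (hopen : ∀ j, IsOpenImmersion (s j).g) (hdisj : ∀ j j' : J, j ≠ j' → Disjoint (Set.range (s j).g.base) (Set.range (s j').g.base)) (hcov : ∀ y : Y, ∃ j, y ∈ Set.range (s j).g.base) : Function.Bijective (fun c : Bivar.Cl p f δX δY => fun j : J => c.res (s j)) := by
  exact ⟨GrothLib.BivClopen.res_injective (hs := hopen) s hX hY hdisj hcov,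
    GrothLib.BivClopen.res_surjective (hs := hopen) s hX hY hdisj hcov⟩

end Groth.Agent.S17578
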