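import Groth.Statements.S17583
import Groth.Agent.Lib.Ample.CocPullback

set_option autoImplicit false
set_option linter.all false
set_option backward.isDefEq.respectTransparency false
open CategoryTheory CategoryTheory.Limits AlgebraicGeometry
open PosLin

namespace Groth.Agent.S17583

/-- Let X and Y each be a projective variety over the complex numbers (an integral scheme, proper over
ℂ, with an ample invertible module), and let f : X → Y be an algebraic fibre space: a surjective
morphism over ℂ such that the canonical map O_Y → f_*O_X is an isomorphism. Then for every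
invertible O_Y-module L the unit L → f_* f^* L of the pullback–pushforward adjunction is an
isomorphism; taking global sections, H^0(X, f^*L) = H^0(Y, L) (the printed statement is this
equality for the powers L^⊗m, m > 0, and adds the equality of Iitaka dimensions, which is not stated
here). -/
theorem result (X : Scheme.{0}) [X.Over (Spec (CommRingCat.of ℂ))] [IsIntegral X] [IsProper (X ↘ Spec (CommRingCat.of ℂ))]
    (HX : X.Modules) (hHX : CohB1.IsAmple HX)
    (Y : Scheme.{0}) [Y.Over (Spec (CommRingCat.of ℂ))] [IsIntegral Y] [IsProper (Y ↘ Spec (CommRingCat.of ℂ))]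
    (HY : Y.Modules) (hHY : CohB1.IsAmple HY)
    (f : X ⟶ Y) (hf : f ≫ (Y ↘ Spec (CommRingCat.of ℂ)) = X ↘ Spec (CommRingCat.of ℂ)) [Surjective f]
    (hfs : IsIso (ClSub.unitToPush f))
    (L : Y.Modules) (hL : PicF.IsInvertible L) :
    IsIso ((Scheme.Modules.pullbackPushforwardAdjunction f).unit.app L) := by
  obtain ⟨c, ⟨e⟩⟩ := GrothLib.Ample.exists_cocycle hL
  let adj := Scheme.Modules.pullbackPushforwardAdjunction f
  have happ : ∀ W : Y.Opens, Function.Bijective (f.app W).hom := by
    intro W
    have h := Scheme.Modules.Hom.isIso_iff_isIso_app.1 hfs W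
    rw [ConcreteCategory.isIso_iff_bijective] at h
    exact h
  haveI hpush : IsIso (c.pushHom f 1) := by
    refine c.isIso_homOfFamily (c.isFamily_push f 1) fun i W hW => ?_
    have hb := (c.comap f).isGen_base 1 (V := f ⁻¹ᵁ c.D i) i le_rfl (f ⁻¹ᵁ W) (f.preimage_mono hW)
    refine (Function.Bijective.of_comp_iff' (Function.bijective_id) _).1 ?_
    have : (fun a : Γ(Y, W) => (show Γ((c.comap f).twist 1, f ⁻¹ᵁ W) from a • GrothLib.InvExt.mres
        ((Scheme.Modules.pushforward f).obj ((c.comap f).twist 1)) hW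
          ((c.comap f).base 1 (V := f ⁻¹ᵁ c.D i) i le_rfl))) =
        (fun b : Γ(X, f ⁻¹ᵁ W) => b • GrothLib.InvExt.mres ((c.comap f).twist 1) (f.preimage_mono hW)
          ((c.comap f).base 1 (V := f ⁻¹ᵁ c.D i) i le_rfl)) ∘ (f.app W).hom := rfl
    show Function.Bijective fun a : Γ(Y, W) => (show Γ((c.comap f).twist 1, f ⁻¹ᵁ W) from a • GrothLib.InvExt.mres
        ((Scheme.Modules.pushforward f).obj ((c.comap f).twist 1)) hW
          ((c.comap f).base 1 (V := f ⁻¹ᵁ c.D i) i le_rfl))
    rw [this]
    exact hb.comp (happ W)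
  let θ := (adj.homEquiv (c.twist 1) ((c.comap f).twist 1)).symm (c.pushHom f 1)
  have hθ : adj.unit.app (c.twist 1) ≫ (Scheme.Modules.pushforward f).map θ = c.pushHom f 1 :=
    (adj.homEquiv_unit (c.twist 1) ((c.comap f).twist 1) θ).symm.trans (Equiv.apply_symm_apply _ _)
  haveI : IsIso θ := by
    let ψ := c.pullHom f 1
    have h1 : ψ ≫ θ = 𝟙 _ := by
      refine (c.comap f).hom_ext fun i => ?_
      show θ.app _ ((c.pullHom f 1).app (f ⁻¹ᵁ c.D i) ((c.comap f).base 1 (V := f ⁻¹ᵁ c.D i) i le_rfl)) = _
      rw [c.pullHom_base]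
      exact (congrArg (fun g : c.twist 1 ⟶ _ => g.app (c.D i) (c.base 1 i le_rfl)) hθ).trans (c.pushHom_base f 1 i)
    have h2 : θ ≫ ψ = 𝟙 _ := by
      refine (adj.homEquiv _ _).injective ?_
      rw [adj.homEquiv_unit, adj.homEquiv_unit, Functor.map_comp, ← Category.assoc, hθ,
        CategoryTheory.Functor.map_id]
      refine Eq.trans ?_ (Category.comp_id (adj.unit.app (c.twist 1))).symm
      refine c.hom_ext fun i => ?_
      show (c.pullHom f 1).app (f ⁻¹ᵁ c.D i) ((c.pushHom f 1).app (c.D i) (c.base 1 i le_rfl)) = _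
      rw [c.pushHom_base]
      exact c.pullHom_base f 1 i
    exact ⟨ψ, h2, h1⟩
  haveI : IsIso (adj.unit.app (c.twist 1)) := by
    haveI : IsIso (adj.unit.app (c.twist 1) ≫ (Scheme.Modules.pushforward f).map θ) := by rw [hθ]; infer_instance
    exact IsIso.of_isIso_comp_right _ ((Scheme.Modules.pushforward f).map θ)
  exact (NatTrans.isIso_app_iff_of_iso adj.unit e).2 inferInstance

end Groth.Agent.S17583
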