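import Groth.Statements.S17584
import Groth.Agent.Lib.NormalExt.Basic

set_option autoImplicit false
set_option linter.all false
set_option backward.isDefEq.respectTransparency false
open CategoryTheory CategoryTheory.Limits AlgebraicGeometry
open PosLin

namespace Groth.Agent.S17584

/-- Let X and Y each be a projective variety over the complex numbers (an integral scheme, proper over
ℂ, with an ample invertible module), and f : X → Y an algebraic fibre space (a surjective morphism
over ℂ with O_Y → f_*O_X an isomorphism). If X is normal, then Y is normal. -/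
theorem result (X : Scheme.{0}) [X.Over (Spec (CommRingCat.of ℂ))] [IsIntegral X] [IsProper (X ↘ Spec (CommRingCat.of ℂ))]
    (HX : X.Modules) (hHX : CohB1.IsAmple HX)
    (Y : Scheme.{0}) [Y.Over (Spec (CommRingCat.of ℂ))] [IsIntegral Y] [IsProper (Y ↘ Spec (CommRingCat.of ℂ))]
    (HY : Y.Modules) (hHY : CohB1.IsAmple HY)
    (f : X ⟶ Y) (hf : f ≫ (Y ↘ Spec (CommRingCat.of ℂ)) = X ↘ Spec (CommRingCat.of ℂ)) [Surjective f]
    (hfs : IsIso (ClSub.unitToPush f))
    (hX : Pi1.IsNormalScheme X) : Pi1.IsNormalScheme Y := by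
  classical
  have happ : ∀ W : Y.Opens, Function.Bijective (f.app W).hom := by
    intro W
    have h := Scheme.Modules.Hom.isIso_iff_isIso_app.1 hfs W
    rw [ConcreteCategory.isIso_iff_bijective] at h
    exact h
  have key : ∀ V : X.Opens, ∀ [Nonempty V], IsIntegrallyClosed Γ(X, V) := by
    intro V _
    refine (isIntegrallyClosed_iff (FractionRing Γ(X, V))).2 fun {a} ha => ?_
    obtain ⟨x, s, hs, rfl⟩ := IsFractionRing.div_surjective Γ(X, V) a
    have hs0 : (s : Γ(X, V)) ≠ 0 := nonZeroDivisors.ne_zero hs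
    have hinj : ∀ W : X.Opens, ∀ [Nonempty W], ∀ h : W ≤ V, Function.Injective (X.presheaf.map (homOfLE h).op) :=
      fun W _ h => map_injective_of_isIntegral X (homOfLE h)
    have hloc : ∀ W : X.Opens, IsAffineOpen W → W ≤ V → Nonempty W →
        ∀ h : W ≤ V, ∃ y : Γ(X, W), X.presheaf.map (homOfLE h).op s * y = X.presheaf.map (homOfLE h).op x := by
      intro W hW hle hne h
      haveI := GrothLib.NormalExt.isIntegrallyClosed_Γ (fun z => (hX z).2) W hW
      let ρ : Γ(X, V) →+* Γ(X, W) := (X.presheaf.map (homOfLE h).op).hom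
      have hρ : Function.Injective ρ := hinj W h
      let σ : FractionRing Γ(X, V) →+* FractionRing Γ(X, W) :=
        IsFractionRing.map hρ
      have hσ : ∀ r, σ (algebraMap _ _ r) = algebraMap _ _ (ρ r) := fun r => IsLocalization.map_eq _ r
      have hi : IsIntegral Γ(X, W) (σ (algebraMap _ _ x / algebraMap _ _ s)) := by
        obtain ⟨p, hp, hp0⟩ := ha
        refine ⟨p.map ρ, hp.map ρ, ?_⟩
        rw [Polynomial.eval₂_map]
        have : (algebraMap Γ(X, W) (FractionRing Γ(X, W))).comp ρ = σ.comp (algebraMap _ _) :=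
          RingHom.ext fun r => (hσ r).symm
        rw [this, ← Polynomial.hom_eval₂, hp0, map_zero]
      obtain ⟨y, hy⟩ := IsIntegrallyClosed.isIntegral_iff.1 hi
      refine ⟨y, IsFractionRing.injective Γ(X, W) (FractionRing Γ(X, W)) ?_⟩
      rw [map_mul, hy, map_div₀, hσ, hσ]
      refine mul_div_cancel₀ _ ?_
      rw [ne_eq, IsFractionRing.to_map_eq_zero_iff]
      exact fun h0 => hs0 (hρ (h0.trans (map_zero ρ).symm))
    let ι := {W : X.affineOpens // W.1 ≤ V ∧ Nonempty W.1}
    choose y hy using fun W : ι => hloc W.1.1 W.1.2 W.2.1 W.2.2 W.2.1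
    have hcov : V ≤ ⨆ W : ι, W.1.1 := by
      intro p hp
      obtain ⟨_, ⟨W, hW, rfl⟩, hpW, hWV⟩ :=
        X.isBasis_affineOpens.exists_subset_of_mem_open hp V.isOpen
      exact TopologicalSpace.Opens.mem_iSup.2 ⟨⟨⟨W, hW⟩, hWV, ⟨⟨p, hpW⟩⟩⟩, hpW⟩
    have hagree : ∀ W W' : ι, X.presheaf.map (homOfLE (inf_le_left : W.1.1 ⊓ W'.1.1 ≤ W.1.1)).op (y W) =
        X.presheaf.map (homOfLE (inf_le_right : W.1.1 ⊓ W'.1.1 ≤ W'.1.1)).op (y W') := by
      intro W W'
      by_cases hne : Nonempty (W.1.1 ⊓ W'.1.1 : X.Opens)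
      · have e1 := congrArg (X.presheaf.map (homOfLE (inf_le_left : W.1.1 ⊓ W'.1.1 ≤ W.1.1)).op) (hy W)
        have e2 := congrArg (X.presheaf.map (homOfLE (inf_le_right : W.1.1 ⊓ W'.1.1 ≤ W'.1.1)).op) (hy W')
        simp only [map_mul, ← ConcreteCategory.comp_apply, ← Functor.map_comp, ← op_comp, homOfLE_comp] at e1 e2
        refine mul_left_cancel₀ ?_ (e1.trans e2.symm)
        exact fun h0 => hs0 (hinj _ _ (h0.trans (map_zero _).symm))
      · haveI : Subsingleton Γ(X, W.1.1 ⊓ W'.1.1) := by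
          rw [show W.1.1 ⊓ W'.1.1 = (⊥ : X.Opens) from eq_bot_iff.2 fun p hp => (hne ⟨⟨p, hp⟩⟩).elim]
          exact CommRingCat.subsingleton_of_isTerminal X.sheaf.isTerminalOfEmpty
        exact Subsingleton.elim _ _
    obtain ⟨z₀, hz, -⟩ := X.sheaf.existsUnique_gluing' (fun W : ι => W.1.1) V (fun W => homOfLE W.2.1) hcov y hagree
    let z : Γ(X, V) := z₀
    refine ⟨z, ?_⟩
    have hsz : s * z = x := by
      refine X.sheaf.eq_of_locally_eq' (fun W : ι => W.1.1) V (fun W => homOfLE W.2.1) hcov _ _ fun W => ?_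
      have hzW : X.presheaf.map (homOfLE W.2.1).op z = y W := hz W
      show X.presheaf.map (homOfLE W.2.1).op (s * z) = X.presheaf.map (homOfLE W.2.1).op x
      rw [map_mul, hzW]
      exact hy W
    have hne0 : algebraMap Γ(X, V) (FractionRing Γ(X, V)) s ≠ 0 := by
      rw [ne_eq, IsFractionRing.to_map_eq_zero_iff]; exact hs0
    rw [eq_div_iff hne0, ← map_mul, mul_comm, hsz]
  intro y
  refine ⟨inferInstance, ?_⟩
  obtain ⟨_, ⟨U, hU, rfl⟩, hyU, -⟩ := Y.isBasis_affineOpens.exists_subset_of_mem_open (Set.mem_univ y) isOpen_univ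
  haveI : Nonempty U := ⟨⟨y, hyU⟩⟩
  obtain ⟨x, hx⟩ := f.surjective y
  haveI : Nonempty (f ⁻¹ᵁ U : X.Opens) := ⟨⟨x, by show f x ∈ U; rw [hx]; exact hyU⟩⟩
  haveI := key (f ⁻¹ᵁ U)
  haveI : IsIntegrallyClosed Γ(Y, U) := IsIntegrallyClosed.of_equiv (RingEquiv.ofBijective _ (happ U)).symm
  letI := TopCat.Presheaf.algebra_section_stalk Y.presheaf (⟨y, hyU⟩ : U)
  haveI := hU.isLocalization_stalk ⟨y, hyU⟩
  exact isIntegrallyClosed_of_isLocalization (Y.presheaf.stalk y) _
    (Ideal.primeCompl_le_nonZeroDivisors (hU.primeIdealOf ⟨y, hyU⟩).asIdeal)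

end Groth.Agent.S17584
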