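import Groth.Statements.S17585
import Groth.Agent.Lib.Contract29.GGMap
import Groth.Agent.Lib.Contract29.Stein
import Groth.Agent.Lib.Contract29.Descent
import Groth.Agent.Lib.Stein.Main
import Groth.Agent.Lib.LefAmp7.Open
-- import your own Groth.Agent.* helpers here

set_option autoImplicit false
set_option backward.isDefEq.respectTransparency false
open CategoryTheory CategoryTheory.Limits AlgebraicGeometry
open PosLin

namespace Groth.Agent.S17585

open TopologicalSpace Opposite
open GrothLib
open GrothLib.InvExt (mres IsGen)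
open GrothLib.Cube (clsMod)
open GrothLib.Ample (Cocycle res)

/-- Sections of a pulled back cocycle descend along a map with trivial direct image. -/
theorem exists_pullSect_eq {X Y : Scheme.{0}} (b : X ⟶ Y) (hb : ∀ V, IsIso (b.app V)) (c : Cocycle Y) {n : ℕ}
    (s : (c.comap b).sect n ⊤) :
    ∃ t : c.sect n ⊤, c.pullSect b (le_top : (⊤ : X.Opens) ≤ b ⁻¹ᵁ ⊤) t = s := by
  have hbij : ∀ i, Function.Bijective (b.app ((⊤ : Y.Opens) ⊓ c.D i)) := fun i => by
    haveI := hb ((⊤ : Y.Opens) ⊓ c.D i)
    exact ConcreteCategory.bijective_of_isIso _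
  choose t ht using fun i => (hbij i).2 (s.1 i)
  refine ⟨⟨t, fun i k W hi hk => ?_⟩, (c.comap b).sect_ext fun i => ?_⟩
  · haveI := hb W
    apply (ConcreteCategory.bijective_of_isIso (b.app W)).1
    have hs := (c.comap b).sect_spec s i k (W := b ⁻¹ᵁ W) (b.preimage_mono hi) (b.preimage_mono hk)
    rw [← ht i, ← ht k, Cocycle.comap_G] at hs
    rw [map_mul, map_pow]
    have hn : ∀ (T : Y.Opens) (h : W ≤ T) (z : Γ(Y, T)),
        b.app W (res h z) = res (b.preimage_mono h) (b.app T z) := fun T h z =>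
      congr($(b.naturality (homOfLE h).op) z)
    rw [hn, hn]
    refine hs.trans ?_
    congr 2
    show (b.appLE (c.D i ⊓ c.D k) (b ⁻¹ᵁ W) _).hom (c.g i k) = b.app W (c.G i k _ _)
    rw [Scheme.Hom.appLE, CommRingCat.hom_comp]
    exact (hn (c.D i ⊓ c.D k) (le_inf (hi.trans inf_le_right) (hk.trans inf_le_right)) (c.g i k)).symm
  · rw [Cocycle.pullSect_apply]
    refine Eq.trans ?_ (ht i)
    rw [Scheme.Hom.app_eq_appLE]
    rfl


/-- Let X be a projective variety over the complex numbers (an integral scheme, proper over ℂ, with an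
ample invertible module) which is normal, and L a semiample invertible O_X-module: L^⊗m is globally
generated for some m > 0. Then there exist Y, a projective variety over the complex numbers (an
integral scheme, proper over ℂ, with an ample invertible module), and an algebraic fibre space φ : X
→ Y over ℂ (surjective, with O_Y → φ_*O_X an isomorphism), such that for every m > 0 with L^⊗m
globally generated there is an ample invertible O_Y-module A with φ^*A ≅ L^⊗m. (The published
statement says more: φ is the morphism defined by the complete linear series of L^⊗m for every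
sufficiently large such m, its image being Y, and the ample module with φ^*A ≅ L^⊗f, f the exponent
of the semigroup of such m, is fixed; this row keeps the existence of the fibre space and of the
ample modules pulling back to the globally generated powers.) -/
theorem result (X : Scheme.{0}) [X.Over (Spec (CommRingCat.of ℂ))] [IsIntegral X]
    [IsProper (X ↘ Spec (CommRingCat.of ℂ))] (H : X.Modules) (hH : CohB1.IsAmple H)
    (hXn : Pi1.IsNormalScheme X)
    (L : X.Modules) (hL : PicF.IsInvertible L)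
    (hsa : ∃ m : ℕ, 0 < m ∧ Curv2.IsGloballyGenerated (CohB1.tensorPow L m)) :
    ∃ (Y : Scheme.{0}) (g : Y ⟶ Spec (CommRingCat.of ℂ)) (HY : Y.Modules) (φ : X ⟶ Y),
      IsIntegral Y ∧ IsProper g ∧ CohB1.IsAmple HY ∧
      φ ≫ g = X ↘ Spec (CommRingCat.of ℂ) ∧ Surjective φ ∧ IsIso (ClSub.unitToPush φ) ∧
      ∀ m : ℕ, 0 < m → Curv2.IsGloballyGenerated (CohB1.tensorPow L m) →
        ∃ A : Y.Modules, CohB1.IsAmple A ∧ Nonempty ((Scheme.Modules.pullback φ).obj A ≅ CohB1.tensorPow L m) := by
  haveI := GrothLib.Euler.isNoetherian_of_proper (X := X) ℂ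
  obtain ⟨m₀, hm₀, hgg₀⟩ := hsa
  obtain ⟨N, φ, hφ, hpull⟩ := Contract29.exists_map_of_gg (X ↘ Spec (CommRingCat.of ℂ))
    (Ample.isInvertible_tensorPow hL m₀) hgg₀
  haveI : IsProper (CohB1.ProjSpace.toSpec N ℂ) := GrothLib.Chow.isProper_toSpec N ℂ
  haveI : IsLocallyNoetherian (CohB1.ProjSpace N ℂ) :=
    LocallyOfFiniteType.isLocallyNoetherian (CohB1.ProjSpace.toSpec N ℂ)
  haveI : IsProper (φ ≫ CohB1.ProjSpace.toSpec N ℂ) := by rw [hφ]; infer_instance
  haveI : IsProper φ := IsProper.of_comp φ (CohB1.ProjSpace.toSpec N ℂ)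
  let b := φ.toNormalization
  let g := φ.fromNormalization
  have hbg : b ≫ g = φ := φ.toNormalization_fromNormalization
  haveI : IsFinite g := Stein.isFinite_fromNormalization φ
  have hbij : ∀ V, Function.Bijective (b.app V) := fun V => Stein.bijective_toNormalization_app φ V
  have happ : ∀ V, IsIso (b.app V) := fun V => (ConcreteCategory.isIso_iff_bijective _).2 (hbij V)
  have hsurj : Function.Surjective b := Stein.surjective_toNormalization φ
  haveI : IrreducibleSpace φ.normalization := (irreducibleSpace_def _).2 (by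
    show IsIrreducible (Set.univ : Set φ.normalization)
    rw [← hsurj.range_eq, ← Set.image_univ]
    exact (IrreducibleSpace.isIrreducible_univ X).image _ b.continuous.continuousOn)
  haveI : IsIntegral φ.normalization := isIntegral_of_irreducibleSpace_of_isReduced _
  let O1 := Twist.twistProjSpace N ℂ 1
  have hO : CohB1.IsAmple O1 := Ample.isAmple_twistProjSpace_one N ℂ
  have hA₀ : CohB1.IsAmple ((Scheme.Modules.pullback g).obj O1) := Ample.isAmple_pullback_of_isAffineHom g hO
  have hP₀ : Cube.pull b (clsMod hA₀.1) = clsMod hL ^ m₀ := by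
    rw [Cube.clsMod_pullback g hO.1, Cube.pull_comp, hbg, ← Cube.clsMod_tensorPow hL]
    exact hpull
  refine ⟨φ.normalization, g ≫ CohB1.ProjSpace.toSpec N ℂ, _, b, inferInstance, inferInstance, hA₀, ?_,
    ⟨hsurj⟩, LefAmp7.isIso_unitToPush_of_bijective b hbij, fun m hm hgg => ?_⟩
  · rw [← Category.assoc, hbg, hφ]
  have hLm : PicF.IsInvertible (CohB1.tensorPow L m) := Ample.isInvertible_tensorPow hL m
  obtain ⟨c, ⟨e⟩⟩ := Ample.exists_cocycle hLm
  obtain ⟨r, a, ha⟩ := Semiample.exists_sections c (Ample.isGloballyGenerated_of_iso e hgg)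
  have hA₀m : PicF.IsInvertible (CohB1.tensorPow ((Scheme.Modules.pullback g).obj O1) m) :=
    Ample.isInvertible_tensorPow hA₀.1 m
  obtain ⟨c', ⟨e'⟩⟩ := Ample.exists_cocycle hA₀m
  obtain ⟨θ⟩ : Nonempty (c.twist (1 * m₀) ≅ (c'.comap b).twist 1) := by
    obtain ⟨d⟩ := c.nonempty_tensorPow_iso e (1 * m₀)
    obtain ⟨d'⟩ := c'.nonempty_pullback_iso b e'
    obtain ⟨i⟩ := (Cube.clsMod_eq_iff (Ample.isInvertible_tensorPow hLm (1 * m₀))
      (Ample.isInvertible_pullback b hA₀m)).1 (by
        rw [Cube.clsMod_tensorPow hLm, Cube.clsMod_tensorPow hL, Cube.clsMod_pullback b hA₀m,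
          Cube.clsMod_tensorPow hA₀.1, map_pow, hP₀, one_mul, ← pow_mul, ← pow_mul, mul_comm])
    exact ⟨d.symm ≪≫ i ≪≫ d'⟩
  obtain ⟨P, hP⟩ := Contract29.exists_descent b happ hLm fun y => by
    obtain ⟨x, rfl⟩ := hsurj y
    obtain ⟨i, hi⟩ := Opens.mem_iSup.1 (ha.ge (Opens.mem_top x))
    let s : c.sect (1 * m₀) ⊤ := c.sectPow (a i) m₀
    obtain ⟨t', ht'⟩ := (c'.comap b).exists_hom_eq (c.hom s ≫ θ.hom)
    obtain ⟨t, ht⟩ := exists_pullSect_eq b happ c' t'
    have hloc : b ⁻¹ᵁ c'.locus t = c.locus (a i) := by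
      rw [← Cocycle.locus_pullSect, ht, ← Cocycle.genLocus_hom, ht', Ample.genLocus_comp_iso,
        Cocycle.genLocus_hom, c.locus_sectPow _ hm₀]
    refine ⟨c'.locus t, mres (CohB1.tensorPow L m) le_top (show Γ(CohB1.tensorPow L m, ⊤) from e.inv.app ⊤ (a i)),
      ?_, ?_⟩
    · show x ∈ b ⁻¹ᵁ c'.locus t
      rw [hloc]
      exact hi
    · refine (Contract29.gen_iff_le_locus c e _ _).2 ?_
      rw [hloc, show (show c.sect 1 ⊤ from e.hom.app ⊤ (e.inv.app ⊤ (a i))) = a i from
        congrArg (fun φ : c.twist 1 ⟶ c.twist 1 => φ.app ⊤ (a i)) e.inv_hom_id]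
  obtain ⟨A, hA, hAc⟩ := Contract29.exists_mod P
  refine ⟨A, ?_, (Cube.clsMod_eq_iff (Ample.isInvertible_pullback b hA) hLm).1
    (by rw [Cube.clsMod_pullback b hA, hAc, hP])⟩
  obtain ⟨i⟩ := (Cube.clsMod_eq_iff (Ample.isInvertible_tensorPow hA m₀) hA₀m).1
    (Contract29.pull_injective b happ (by
      rw [Cube.clsMod_tensorPow hA, Cube.clsMod_tensorPow hA₀.1, map_pow, map_pow, hAc, hP, hP₀,
        Cube.clsMod_tensorPow hL, ← pow_mul, ← pow_mul, mul_comm]))
  exact (Ample.isAmple_tensorPow_iff hA hm₀).2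
    ((Ample.isAmple_iff_of_iso i).2 ((Ample.isAmple_tensorPow_iff hA₀.1 hm).1 hA₀))

end Groth.Agent.S17585
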