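import Groth.Statements.S17586
import Groth.Agent.Lib.Kodaira.Big

set_option autoImplicit false
set_option linter.all false
open CategoryTheory CategoryTheory.Limits AlgebraicGeometry
open PosLin

namespace Groth.Agent.S17586

/-- Let X be a projective variety over the complex numbers (an integral scheme, proper over ℂ, with an
ample invertible module) of dimension n, and L an invertible O_X-module (the module of a Cartier
divisor D). The following two characterisations of bigness of D are equivalent: (a) for every ample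
invertible O_X-module A there are m > 0 and a monomorphism A → L^⊗m (that is, mD is linearly
equivalent to A plus an effective divisor); (b) there are a constant C > 0 and m₁ such that dim_ℂ
H^0(X, L^⊗m) ≥ C·m^n for all m ≥ m₁. (In the text both are shown equivalent to D having Iitaka
dimension n; this row states their equivalence with each other.) -/
theorem result (X : Scheme.{0}) [X.Over (Spec (CommRingCat.of ℂ))] [IsIntegral X]
    [IsProper (X ↘ Spec (CommRingCat.of ℂ))] (H : X.Modules) (hH : CohB1.IsAmple H)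
    (n : ℕ) (hn : topologicalKrullDim X = n)
    (L : X.Modules) (hL : PicF.IsInvertible L) :
    (∀ A : X.Modules, CohB1.IsAmple A → ∃ (m : ℕ) (φ : A ⟶ CohB1.tensorPow L m), 0 < m ∧ Mono φ) ↔
      ∃ C : ℝ, 0 < C ∧ ∃ m₁ : ℕ, ∀ m : ℕ, m₁ ≤ m →
        C * (m : ℝ) ^ n ≤ (Module.finrank ℂ (Coh.HH X (CohB1.tensorPow L m) 0) : ℝ) := by
  open GrothLib in
  constructor
  · intro h
    obtain ⟨c, N, hc, hN⟩ := Kodaira.exists_h0_pow_ge ℂ hH hn
    set a := Cube.clsMod hH.1 with ha
    set l := Cube.clsMod hL with hl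
    obtain ⟨j₁, hj₁⟩ := Kodaira.exists_pLe_pow hH (1 : Cube.Pic X)
    obtain ⟨j₂, hj₂⟩ := Kodaira.exists_pLe_pow hH (a * l⁻¹)
    rw [← ha] at hj₁ hj₂
    obtain ⟨i, hi, hi1, hi2⟩ : ∃ i, 0 < i ∧ j₁ + 1 ≤ i ∧ j₂ ≤ i := ⟨j₁ + j₂ + 1, by omega, by omega, by omega⟩
    have hA : CohB1.IsAmple (CohB1.tensorPow H i) := (Ample.isAmple_tensorPow_iff hH.1 hi).1 hH
    obtain ⟨q, φ, hq, hφ⟩ := h _ hA
    have hiq : Kodaira.PLe (a ^ i) (l ^ q) := by
      rw [ha, hl, ← Cube.clsMod_tensorPow hH.1 i, ← Cube.clsMod_tensorPow hL q]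
      exact (Kodaira.pLe_iff _ _).2 ⟨φ, hφ⟩
    have b1 : Kodaira.PLe a (l ^ q) := by
      refine Kodaira.PLe.trans ?_ hiq
      have h1 := (hj₁ (i - 1) (by omega)).mul_right a
      rwa [one_mul, ← pow_succ, Nat.sub_add_cancel (by omega)] at h1
    have b2 : Kodaira.PLe a (l ^ (q + 1)) := by
      have h1 := (hj₂ i hi2).mul_right l
      rw [inv_mul_cancel_right] at h1
      rw [pow_succ]
      exact h1.trans (hiq.mul_right l)
    have key : ∀ t r, r ≤ t → Kodaira.h0 ℂ (CohB1.tensorPow H t) ≤ Kodaira.h0 ℂ (CohB1.tensorPow L (q * t + r)) := by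
      intro t r hr
      refine Kodaira.h0_le_of_pLe ℂ (Ample.isInvertible_tensorPow hH.1 t) (Ample.isInvertible_tensorPow hL _) ?_
      rw [Cube.clsMod_tensorPow hH.1, Cube.clsMod_tensorPow hL, ← ha, ← hl]
      obtain ⟨s, rfl⟩ : ∃ s, t = s + r := ⟨t - r, by omega⟩
      rw [pow_add, show q * (s + r) + r = q * s + (q + 1) * r by ring, pow_add, pow_mul, pow_mul]
      exact (b1.pow s).mul (b2.pow r)
    refine ⟨(c : ℝ) / (2 * (q : ℝ)) ^ n, by positivity, q * (N + q + 1), fun m hm => ?_⟩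
    have hr : m % q < q := Nat.mod_lt m hq
    have ht : N + q + 1 ≤ m / q := (Nat.le_div_iff_mul_le hq).2 (by rw [mul_comm]; exact hm)
    have hm' : q * (m / q) + m % q = m := Nat.div_add_mod m q
    have h1 := key (m / q) (m % q) (by omega)
    rw [hm'] at h1
    have h2 := hN (m / q) (by omega)
    have h2' : (c : ℝ) * ((m / q : ℕ) : ℝ) ^ n ≤ (Kodaira.h0 ℂ (CohB1.tensorPow H (m / q)) : ℝ) := by
      exact_mod_cast h2
    have h3 : (m : ℝ) ≤ 2 * (q : ℝ) * ((m / q : ℕ) : ℝ) := by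
      have : m ≤ 2 * q * (m / q) := by nlinarith
      exact_mod_cast this
    rw [div_mul_eq_mul_div, div_le_iff₀ (by positivity)]
    refine (mul_le_mul_of_nonneg_left (pow_le_pow_left₀ (by positivity) h3 n) (by positivity)).trans ?_
    rw [mul_pow _ _ n, ← mul_assoc, mul_comm (c : ℝ), mul_assoc, mul_comm _ ((2 * (q : ℝ)) ^ n)]
    exact mul_le_mul_of_nonneg_left (h2'.trans (by exact_mod_cast h1)) (by positivity)
  · rintro ⟨C, hC, m₁, h⟩ A hA
    obtain ⟨c, hc0, hcC⟩ := exists_rat_btwn hC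
    obtain ⟨μ, hμ, φ, hφ⟩ := Kodaira.exists_mono_of_growth ℂ hn hA hL (ν := 1) (c := c)
      (by exact_mod_cast hc0) (N := m₁) (fun μ hμ => by
        have h1 : (c : ℝ) * (μ : ℝ) ^ n ≤ (Kodaira.h0 ℂ (CohB1.tensorPow L μ) : ℝ) :=
          (mul_le_mul_of_nonneg_right hcC.le (by positivity)).trans (h μ hμ)
        rw [one_mul]
        exact_mod_cast h1)
    exact ⟨1 * μ, φ, by omega, hφ⟩

end Groth.Agent.S17586
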