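import Groth.Statements.S17587
import Groth.Agent.Lib.Ample.Criterion
import Groth.Agent.Lib.ProjCoh.Generic

set_option autoImplicit false
set_option linter.all false
set_option backward.isDefEq.respectTransparency false
open CategoryTheory CategoryTheory.Limits AlgebraicGeometry
open PosLin

namespace Groth.Agent.S17587

/-- Let X be a projective variety over the complex numbers (an integral scheme, proper over ℂ, with an
ample invertible module), and L an invertible O_X-module which is big, bigness being expressed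
through the equivalent condition that every ample invertible O_X-module A admits a monomorphism A →
L^⊗m for some m > 0. Then the exponent of L is 1, that is, H^0(X, L^⊗m) ≠ 0 for every sufficiently
large m. -/
theorem result (X : Scheme.{0}) [X.Over (Spec (CommRingCat.of ℂ))] [IsIntegral X]
    [IsProper (X ↘ Spec (CommRingCat.of ℂ))] (H : X.Modules) (hH : CohB1.IsAmple H)
    (L : X.Modules) (hL : PicF.IsInvertible L)
    (hbig : ∀ A : X.Modules, CohB1.IsAmple A → ∃ (m : ℕ) (φ : A ⟶ CohB1.tensorPow L m), 0 < m ∧ Mono φ) :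
    ∃ m₁ : ℕ, ∀ m : ℕ, m₁ ≤ m → Nontrivial (Coh.HH X (CohB1.tensorPow L m) 0) := by
  classical
  haveI := hH.2.1
  haveI := GrothLib.Ample.quasiSeparatedSpace_of_isAmple hH
  obtain ⟨c, ⟨e⟩⟩ := GrothLib.Ample.exists_cocycle hL
  set η := genericPoint X
  obtain ⟨i, hi⟩ := c.exists_mem η
  have hgen : ∀ U : X.Opens, (U : Set X).Nonempty → η ∈ U := fun U hU =>
    ((genericPoint_spec X).mem_open_set_iff U.isOpen).2 (by simpa using hU)
  obtain ⟨n, s₀, hs₀, hle₀, -⟩ := GrothLib.Ample.exists_affine_genLocus_le hH hi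
  have hA := (GrothLib.Ample.isAmple_tensorPow_iff hH.1 n.succ_pos).1 hH
  obtain ⟨m, φ, hm, hφ⟩ := hbig _ hA
  obtain ⟨d⟩ := c.nonempty_tensorPow_iso e m
  let φ' := φ ≫ d.hom
  haveI : Mono φ' := mono_comp _ _
  obtain ⟨b, hb⟩ := c.exists_hom_eq (s₀ ≫ φ')
  have hlocle : c.locus b ≤ c.D i := by
    rw [← c.genLocus_hom b, hb]
    refine le_trans (sSup_le fun U hU => ?_) hle₀
    refine le_sSup ?_
    simp only [Set.mem_setOf_eq, Functor.map_comp] at hU ⊢
    have hM : Mono ((Scheme.Modules.restrictFunctor U.ι).map φ') := inferInstance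
    haveI := hU
    haveI : Epi ((Scheme.Modules.restrictFunctor U.ι).map φ') :=
      epi_of_epi ((Scheme.Modules.restrictFunctor U.ι).map s₀) _
    haveI := isIso_of_mono_of_epi ((Scheme.Modules.restrictFunctor U.ι).map φ')
    exact IsIso.of_isIso_comp_right _ ((Scheme.Modules.restrictFunctor U.ι).map φ')
  have hne : b ≠ 0 := by
    rintro rfl
    have h0 : c.hom (0 : c.sect m ⊤) = 0 := by
      ext V r
      show (show c.sect m V from (c.hom (0 : c.sect m ⊤)).val.app (Opposite.op V) r) = 0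
      rw [c.hom_app_apply, map_zero, smul_zero]
    rw [h0] at hb
    have h1 : s₀ = 0 := (cancel_mono φ').1 (hb.symm.trans zero_comp.symm)
    obtain ⟨c', ⟨e'⟩⟩ := GrothLib.Ample.exists_cocycle hH.1
    obtain ⟨d'⟩ := c'.nonempty_tensorPow_iso e' (n + 1)
    have h2 : η ∈ c'.locus (0 : c'.sect (n + 1) ⊤) := by
      rw [← c'.genLocus_hom]
      have h3 : c'.hom (0 : c'.sect (n + 1) ⊤) = 0 := by
        ext V r
        show (show c'.sect (n + 1) V from (c'.hom (0 : c'.sect (n + 1) ⊤)).val.app (Opposite.op V) r) = 0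
        rw [c'.hom_app_apply, map_zero, smul_zero]
      rw [h3, ← zero_comp (f := d'.hom), GrothLib.Ample.genLocus_comp_iso d']
      exact h1 ▸ hs₀
    obtain ⟨j, hj⟩ := TopologicalSpace.Opens.mem_iSup.1 h2
    have : X.basicOpen ((0 : c'.sect (n + 1) (⊤ : X.Opens)).1 j) = ⊥ := Scheme.basicOpen_zero _ _
    rw [this] at hj
    exact hj
  have hηb : η ∈ c.locus b := by
    obtain ⟨j, hj⟩ : ∃ j, b.1 j ≠ 0 := by
      by_contra! h; exact hne (c.sect_ext h)
    refine TopologicalSpace.Opens.mem_iSup.2 ⟨j, hgen _ (Set.nonempty_iff_ne_empty.2 fun h => hj ?_)⟩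
    exact (basicOpen_eq_bot_iff _).1 (TopologicalSpace.Opens.ext (by simpa using h))
  obtain ⟨k, t, ht⟩ := c.exists_extend_sect b (c.base 1 i hlocle)
  have hηt : η ∈ c.locus t := by
    rw [c.mem_locus_iff t hi]
    have h := congrArg (fun x : c.sect (1 + m * k) (c.locus b) => X.basicOpen (x.1 i)) ht
    simp only [GrothLib.Ample.Cocycle.sectRes_apply, GrothLib.Ample.Cocycle.powMul_apply,
      GrothLib.Ample.Cocycle.base_self, map_one, one_mul, Scheme.basicOpen_res] at h
    have hmem : η ∈ X.basicOpen (GrothLib.Ample.res (inf_le_inf_right (c.D i) (le_top : c.locus b ≤ ⊤)) (b.1 i) ^ k) := by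
      rw [Scheme.mem_basicOpen _ _ _ (⟨hηb, hi⟩ : η ∈ c.locus b ⊓ c.D i), map_pow]
      refine IsUnit.pow k ?_
      rw [← Scheme.mem_basicOpen, Scheme.basicOpen_res]
      exact ⟨⟨hηb, hi⟩, (c.mem_locus_iff b hi).1 hηb⟩
    rw [← h] at hmem
    exact hmem.2
  refine ⟨m * (1 + m * k), fun N hN => ?_⟩
  have hr : (1 + m * k) * (N % m) ≤ N :=
    le_trans (Nat.mul_le_mul_left _ (Nat.mod_lt N hm).le) (by rw [mul_comm]; exact hN)
  obtain ⟨q, hq⟩ : ∃ q, N = m * q + (1 + m * k) * (N % m) := by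
    obtain ⟨q, hq⟩ : m ∣ N - (1 + m * k) * (N % m) :=
      (Nat.modEq_iff_dvd' hr).1 (by
        simp [Nat.ModEq, Nat.add_mul, mul_assoc])
    exact ⟨q, by omega⟩
  let u : c.sect N ⊤ := c.sectCast hq.symm (c.mul (c.sectPow b q) (c.sectPow t (N % m)))
  have hu : η ∈ c.locus u := by
    rw [c.locus_sectCast, c.locus_mul]
    exact ⟨c.le_locus_sectPow b q hηb, c.le_locus_sectPow t _ hηt⟩
  obtain ⟨dN⟩ := c.nonempty_tensorPow_iso e N
  let z : Γ(CohB1.tensorPow L N, ⊤) := (c.hom u ≫ dN.inv).app ⊤ (1 : Γ(X, ⊤))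
  refine ⟨(GrothLib.ProjCoh.H0top _).symm z, 0, fun h => ?_⟩
  have hz : z = 0 := (GrothLib.ProjCoh.H0top _).symm.injective (h.trans (map_zero _).symm)
  have hu0 : (show c.sect N ⊤ from (c.hom u).val.app (Opposite.op ⊤) (1 : Γ(X, ⊤))) = 0 := by
    have h' := congrArg (dN.hom.app ⊤) hz
    rw [map_zero] at h'
    have e1 : dN.hom.app ⊤ z = ((c.hom u ≫ dN.inv) ≫ dN.hom).app ⊤ (1 : Γ(X, ⊤)) := rfl
    rw [e1, Category.assoc, Iso.inv_hom_id, Category.comp_id] at h'
    exact h'
  rw [c.hom_app_apply] at hu0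
  obtain ⟨j, hj⟩ := TopologicalSpace.Opens.mem_iSup.1 hu
  have h1 : u.1 j = 0 := by
    have := congrArg (fun x : c.sect N (⊤ : X.Opens) => x.1 j) hu0
    simpa [GrothLib.Ample.Cocycle.smul_apply, GrothLib.Ample.Cocycle.sectRes_apply, GrothLib.Ample.res_self] using this
  rw [h1, Scheme.basicOpen_zero] at hj
  exact hj

end Groth.Agent.S17587
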