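import Groth.Statements.S17588
import Groth.Agent.Lib.NefGrowth.Big
import Groth.Agent.Lib.NefGrowth.IntNum

set_option autoImplicit false
set_option linter.all false
open CategoryTheory CategoryTheory.Limits AlgebraicGeometry
open PosLin

namespace Groth.Agent.S17588

/-- Let X be a projective variety over the complex numbers (an integral scheme, proper over ℂ, with an
ample invertible module) of dimension n, L an invertible O_X-module which is numerically effective
(its restriction to every integral one-dimensional closed subscheme has non-negative degree), and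
L⁻¹ a tensor inverse of L. Then L is big, bigness being expressed through the equivalent growth
condition dim_ℂ H^0(X, L^⊗m) ≥ C·m^n for some constant C > 0 and all sufficiently large m, if and
only if the self-intersection number (L^n) = ∫ c_1(L)^n · [O_X] (the alternating sum of Euler
characteristics attached to n copies of L⁻¹) is positive. -/
theorem result (X : Scheme.{0}) [X.Over (Spec (CommRingCat.of ℂ))] [IsIntegral X]
    [IsProper (X ↘ Spec (CommRingCat.of ℂ))] (H : X.Modules) (hH : CohB1.IsAmple H)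
    (n : ℕ) (hn : topologicalKrullDim X = n)
    (L Linv : X.Modules) (hL : PicF.IsInvertible L) (hLinv : ClSub.IsInverseOf Linv L)
    (hnef : ∀ (Z : Scheme.{0}) (i : Z ⟶ X) [IsClosedImmersion i], IsIntegral Z → topologicalKrullDim Z = 1 →
      0 ≤ Pic13.curveDeg ℂ (i ≫ (X ↘ Spec (CommRingCat.of ℂ))) ((Scheme.Modules.pullback i).obj L)) :
    (∃ C : ℝ, 0 < C ∧ ∃ m₁ : ℕ, ∀ m : ℕ, m₁ ≤ m →
        C * (m : ℝ) ^ n ≤ (Module.finrank ℂ (Coh.HH X (CohB1.tensorPow L m) 0) : ℝ)) ↔
      0 < FGA.intNum ℂ X n (fun _ : Fin n => Linv) (Coh.structureModule X) := by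
  haveI := GrothLib.Euler.isNoetherian_of_proper (X := X) ℂ
  have hO := GrothLib.Kleiman.isCoh_O (X := X) ℂ
  have hd : GrothLib.Snapper.DimLT (CohB1.support (Coh.structureModule X)) (n + 1) :=
    (GrothLib.Kleiman.dimLT_univ hn.le).mono fun _ _ => trivial
  have key : (FGA.intNum ℂ X n (fun _ : Fin n => Linv) (Coh.structureModule X) : ℚ) =
      GrothLib.Snapper.mixed n (GrothLib.Snapper.phi ℂ n (fun _ => L) (Coh.structureModule X)) :=
    GrothLib.NefGrowth.intNum_eq_mixed ℂ hH hn.le hL hLinv hO hd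
  constructor
  · rintro ⟨C, hC, m₁, hm⟩
    obtain ⟨c, hc0, hcC⟩ := exists_rat_btwn hC
    have hc : (0 : ℚ) < c := by exact_mod_cast hc0
    obtain ⟨μ, hμ, φ, hφ⟩ := GrothLib.Kodaira.exists_mono_of_growth ℂ hn hH hL (ν := 1) hc (N := m₁)
      (fun μ hμ => by
        rw [one_mul]
        have h := hm μ hμ
        have h2 : (c : ℝ) * (μ : ℝ) ^ n ≤ C * (μ : ℝ) ^ n := mul_le_mul_of_nonneg_right hcC.le (by positivity)
        have h3 := h2.trans h
        show c * (μ : ℚ) ^ n ≤ ((Module.finrank ℂ (Coh.HH X (CohB1.tensorPow L μ) 0) : ℕ) : ℚ)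
        exact_mod_cast h3)
    have hle : GrothLib.Kodaira.PLe (GrothLib.Cube.clsMod hH.1) (GrothLib.Cube.clsMod hL ^ (1 * μ)) := by
      rw [← GrothLib.Cube.clsMod_tensorPow hL]
      exact (GrothLib.Kodaira.pLe_iff hH.1 _).2 ⟨φ, hφ⟩
    have h := GrothLib.NefGrowth.mixed_pos_of_pLe ℂ hn hL hnef hH hle
    rw [← key] at h
    exact_mod_cast h
  · intro hpos
    obtain ⟨c, N, hc, hgrow⟩ := GrothLib.NefGrowth.exists_h0_ge_of_mixed_pos ℂ hn hL hnef hH
      (by rw [← key]; exact_mod_cast hpos)
    refine ⟨(c : ℝ), by exact_mod_cast hc, N, fun m hm => ?_⟩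
    have h : c * (m : ℚ) ^ n ≤ ((Module.finrank ℂ (Coh.HH X (CohB1.tensorPow L m) 0) : ℕ) : ℚ) := hgrow m hm
    exact_mod_cast h

end Groth.Agent.S17588
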