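import Groth.Statements.S17589
import Groth.Agent.Lib.CMReg.Mult
import Groth.Agent.Lib.CMReg.Resolution
import Groth.Agent.Lib.Regularity10.Transfer
import Groth.Agent.Lib.Ample.ProjSections
import Groth.Agent.Lib.Semiample.Criterion
-- import your own Groth.Agent.* helpers here

set_option autoImplicit false
set_option backward.isDefEq.respectTransparency false
open CategoryTheory CategoryTheory.Limits AlgebraicGeometry
open PosLin

namespace Groth.Agent.S17589

open TopologicalSpace Opposite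
open GrothLib GrothLib.CMReg
open GrothLib.InvExt (mres)
open GrothLib.Ample (Cocycle res)

theorem products_of_iso {X : Scheme.{0}} (c : Cocycle X) {M N : X.Modules} (α : M ≅ N) (n : ℕ)
    (h : products c M n = ⊤) : products c N n = ⊤ := by
  refine top_le_iff.1 fun w _ => ?_
  let pull : c.msect M n ⊤ →+ ∀ i, Γ(N, (⊤ : X.Opens) ⊓ c.D i) :=
    { toFun := fun u i => α.hom.app _ (u.1 i)
      map_zero' := funext fun i => map_zero _
      map_add' := fun u v => funext fun i => map_add _ _ _ }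
  let w' : c.msect M n ⊤ := ⟨fun i => α.inv.app _ (w.1 i), fun i j W hi hj => by
    rw [← Ample.app_mres, ← Ample.app_mres, c.msect_spec w i j hi hj]
    exact Ample.app_smul α.inv _ _⟩
  have hw : pull w' = w.1 := funext fun i => by
    show α.hom.app _ (α.inv.app _ (w.1 i)) = _
    rw [← ConcreteCategory.comp_apply, ← Scheme.Modules.Hom.comp_app, α.inv_hom_id]
    rfl
  have key : ∀ u ∈ products c M n, pull u ∈ (products c N n).map (AddSubgroup.subtype _) := by
    intro u hu
    induction hu using AddSubgroup.closure_induction with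
    | mem x hx =>
      obtain ⟨⟨μ, a⟩, rfl⟩ := hx
      refine ⟨c.smulSect (α.hom.app ⊤ μ) a, AddSubgroup.subset_closure ⟨(α.hom.app ⊤ μ, a), rfl⟩,
        funext fun i => ?_⟩
      show (c.smulSect (α.hom.app ⊤ μ) a).1 i = α.hom.app _ ((c.smulSect μ a).1 i)
      rw [Cocycle.smulSect_apply, Cocycle.smulSect_apply]
      refine Eq.trans ?_ (Ample.app_smul α.hom _ _).symm
      rw [Ample.app_mres]
    | zero => rw [map_zero]; exact AddSubgroup.zero_mem _
    | add x y _ _ hx hy => rw [map_add]; exact AddSubgroup.add_mem _ hx hy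
    | neg x _ hx => rw [map_neg]; exact AddSubgroup.neg_mem _ hx
  obtain ⟨v, hv, e⟩ := key w' (h ▸ AddSubgroup.mem_top _)
  exact Subtype.ext (e.trans hw) ▸ hv

theorem products_of_push {X Y : Scheme.{0}} (c : Cocycle Y) (j : X ⟶ Y) (M : X.Modules) (n : ℕ)
    (h : products c ((Scheme.Modules.pushforward j).obj M) n = ⊤) : products (c.comap j) M n = ⊤ := by
  refine top_le_iff.1 fun w _ => ?_
  have hle : ∀ i : c.ι, (⊤ : X.Opens) ⊓ j ⁻¹ᵁ c.D i ≤ j ⁻¹ᵁ (⊤ ⊓ c.D i) := fun i =>
    le_inf le_top inf_le_right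
  have hge : ∀ i : c.ι, j ⁻¹ᵁ (⊤ ⊓ c.D i) ≤ (⊤ : X.Opens) ⊓ j ⁻¹ᵁ c.D i := fun i =>
    le_inf le_top (j.preimage_mono inf_le_right)
  let pull : c.msect ((Scheme.Modules.pushforward j).obj M) n ⊤ →+
      ∀ i : c.ι, Γ(M, (⊤ : X.Opens) ⊓ j ⁻¹ᵁ c.D i) :=
    { toFun := fun u i => mres M (hle i) (show Γ(M, j ⁻¹ᵁ (⊤ ⊓ c.D i)) from u.1 i)
      map_zero' := funext fun i => map_zero _
      map_add' := fun u v => funext fun i => map_add _ _ _ }
  let w' : c.msect ((Scheme.Modules.pushforward j).obj M) n ⊤ :=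
    ⟨fun i => (show Γ(M, j ⁻¹ᵁ (⊤ ⊓ c.D i)) from mres M (hge i) (w.1 i)), fun i k W hi hk => by
      refine Eq.trans ?_ (Ample.pushforward_smul j M _ _).symm
      show mres M (j.preimage_mono hi) (mres M (hge i) (w.1 i)) =
        (j.appLE W (j ⁻¹ᵁ W) le_rfl).hom _ • mres M (j.preimage_mono hk) (mres M (hge k) (w.1 k))
      rw [InvExt.mres_mres, InvExt.mres_mres, map_pow, Cocycle.appLE_G]
      exact (c.comap j).msect_spec w i k ((j.preimage_mono hi).trans (hge i)) ((j.preimage_mono hk).trans (hge k))⟩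
  have hw : pull w' = w.1 := funext fun i => by
    show mres M (hle i) (mres M (hge i) (w.1 i)) = _
    rw [InvExt.mres_mres, InvExt.mres_self]
  have key : ∀ u ∈ products c ((Scheme.Modules.pushforward j).obj M) n,
      pull u ∈ (products (c.comap j) M n).map (AddSubgroup.subtype _) := by
    intro u hu
    induction hu using AddSubgroup.closure_induction with
    | mem x hx =>
      obtain ⟨⟨μ, a⟩, rfl⟩ := hx
      refine ⟨(c.comap j).smulSect (show Γ(M, ⊤) from μ) (c.pullSect j (le_top : (⊤ : X.Opens) ≤ j ⁻¹ᵁ ⊤) a),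
        AddSubgroup.subset_closure ⟨((show Γ(M, ⊤) from μ), c.pullSect j (le_top : (⊤ : X.Opens) ≤ j ⁻¹ᵁ ⊤) a), rfl⟩,
        funext fun i => ?_⟩
      show ((c.comap j).smulSect (show Γ(M, ⊤) from μ) (c.pullSect j (le_top : (⊤ : X.Opens) ≤ j ⁻¹ᵁ ⊤) a)).1 i =
        mres M (hle i) (show Γ(M, j ⁻¹ᵁ (⊤ ⊓ c.D i)) from (c.smulSect μ a).1 i)
      rw [Cocycle.smulSect_apply, Cocycle.smulSect_apply]
      refine Eq.trans ?_ (congrArg (mres M (hle i)) (Ample.pushforward_smul j M (a.1 i) _)).symm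
      show _ = mres M (hle i) (_ • mres M (j.preimage_mono (inf_le_left : (⊤ : Y.Opens) ⊓ c.D i ≤ ⊤)) _)
      rw [Ample.mres_smul', InvExt.mres_mres, Cocycle.pullSect_apply]
      congr 1
      erw [Ample.res_appLE]
    | zero => rw [map_zero]; exact AddSubgroup.zero_mem _
    | add x y _ _ hx hy => rw [map_add]; exact AddSubgroup.add_mem _ hx hy
    | neg x _ hx => rw [map_neg]; exact AddSubgroup.neg_mem _ hx
  obtain ⟨v, hv, e⟩ := key w' (h ▸ AddSubgroup.mem_top _)
  exact Subtype.ext (e.trans hw) ▸ hv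


/-- Let X be a projective variety over the complex numbers (an integral scheme, proper over ℂ, with an
ample invertible module) which is normal, L a globally generated invertible O_X-module and F a
coherent O_X-module. Then there is an integer m₀ > 0 such that for all a, b ≥ m₀ the map H^0(X, F ⊗
L^⊗a) ⊗ H^0(X, L^⊗b) → H^0(X, F ⊗ L^⊗a ⊗ L^⊗b) given by multiplication of sections is surjective
(such a multiplication map is written as the map from the global sections of the sectionwise tensor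
product presheaf to the global sections of its sheafification). The case F = O_X is the first
assertion of the lemma, surjectivity of H^0(X, L^⊗a) ⊗ H^0(X, L^⊗b) → H^0(X, L^⊗(a+b)) for a, b
large. -/
theorem result (X : Scheme.{0}) [X.Over (Spec (CommRingCat.of ℂ))] [IsIntegral X]
    [IsProper (X ↘ Spec (CommRingCat.of ℂ))] (H : X.Modules) (hH : CohB1.IsAmple H)
    (hXn : Pi1.IsNormalScheme X)
    (L : X.Modules) (hL : PicF.IsInvertible L) (hLg : Curv2.IsGloballyGenerated L)
    (F : X.Modules) (hF : Coh.IsCoh F) :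
    ∃ m₀ : ℕ, 0 < m₀ ∧ ∀ a b : ℕ, m₀ ≤ a → m₀ ≤ b →
      Function.Surjective
        ((toSheafify (Opens.grothendieckTopology X)
          (CohB1.tensorPre (CohB1.tensorMod F (CohB1.tensorPow L a)) (CohB1.tensorPow L b)).presheaf).app
          (Opposite.op ⊤)) := by
  haveI := GrothLib.Euler.isNoetherian_of_proper ℂ (X := X)
  obtain ⟨c, ⟨e⟩⟩ := Ample.exists_cocycle hL
  obtain ⟨n, a, ha⟩ := Semiample.exists_sections c (Ample.isGloballyGenerated_of_iso e hLg)
  obtain ⟨φ, hφ, τ, -⟩ := Ample.ProjMap.exists_toProjSpace c (Iso.refl (c.twist 1)) a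
    ha (X ↘ Spec (CommRingCat.of ℂ))
  haveI : IsProper (CohB1.ProjSpace.toSpec n ℂ) := GrothLib.Chow.isProper_toSpec n ℂ
  haveI : IsProper φ := by
    haveI : IsProper (φ ≫ CohB1.ProjSpace.toSpec n ℂ) := by rw [hφ]; infer_instance
    exact IsProper.of_comp φ (CohB1.ProjSpace.toSpec n ℂ)
  haveI : IsLocallyNoetherian (CohB1.ProjSpace n ℂ) :=
    LocallyOfFiniteType.isLocallyNoetherian (CohB1.ProjSpace.toSpec n ℂ)
  have hG : Coh.IsCoh ((Scheme.Modules.pushforward φ).obj F) := FormalExist7.isCoh_pushforward φ hF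
  obtain ⟨m, hm⟩ := exists_regular hG
  refine ⟨m.toNat + 1, Nat.succ_pos _, fun p q hp hq => ?_⟩
  let O1 := Twist.twistProjSpace n ℂ 1
  have hO1 : PicF.IsInvertible O1 := isInvertible_twist (n := n) (k := ℂ) 1
  let eL : L ≅ (Scheme.Modules.pullback φ).obj O1 := e ≪≫ τ.symm
  have hpull : ∀ l : ℕ, Nonempty (CohB1.tensorPow L l ≅
      (Scheme.Modules.pullback φ).obj (Twist.twistProjSpace n ℂ l)) := fun l => by
    obtain ⟨e₁⟩ := Regularity.nonempty_tensorPow_congr eL l
    obtain ⟨e₂⟩ := Ample.nonempty_pullback_tensorPow φ hO1 l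
    obtain ⟨e₃⟩ := GrTilde.nonempty_twist_iso_tensorPow (𝒜 := CohB1.polyGrading n ℂ) h1 l
    exact ⟨e₁ ≪≫ e₂.symm ≪≫ (Scheme.Modules.pullback φ).mapIso e₃.symm⟩
  obtain ⟨g⟩ := Regularity.nonempty_push_tensor φ
    (Euler.isFinLocFree_of_isInvertible (isInvertible_twist (n := n) (k := ℂ) p)) F (hpull p).some
  have hreg := products_of_regular hG m (p : ℤ) (by omega) hm q
  have hX := products_of_push (cc n ℂ) φ (CohB1.tensorMod F (CohB1.tensorPow L p)) q
    (products_of_iso (cc n ℂ) g.symm q hreg)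
  obtain ⟨t⟩ := nonempty_twist_iso (n := n) (k := ℂ) q
  obtain ⟨ψ⟩ := (cc n ℂ).nonempty_pullback_iso φ t
  exact surjective_toSheafify ((hpull q).some ≪≫ ψ) hX

end Groth.Agent.S17589
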