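import Groth.Statements.S17592
import Groth.Agent.Lib.Hensel.Henselization
import Groth.Agent.Lib.Hensel.Properties
-- import your own Groth.Agent.* helpers here

set_option autoImplicit false
universe u
open Hensel

namespace Groth.Agent.S17592

/-- Let R → S be an étale ring map and I an ideal of R such that the induced map R/I → S/IS is
bijective. Then a Henselization of the pair (S, IS), regarded as an R-algebra, is a Henselization of
the pair (R, I). -/
theorem result (R : Type u) [CommRing R] (I : Ideal R)
    (S : Type u) [CommRing S] [Algebra R S] [Algebra.Etale R S]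
    (hq : Function.Bijective
      (Ideal.quotientMap (I.map (algebraMap R S)) (algebraMap R S) Ideal.le_comap_map))
    (H : Type u) [CommRing H] [Algebra S H] [Algebra R H] [IsScalarTower R S H]
    (hH : Hens2.IsPairHenselization S (I.map (algebraMap R S)) H) :
    Hens2.IsPairHenselization R I H := by
  have hHmap : (I.map (algebraMap R S)).map (algebraMap S H) = I.map (algebraMap R H) := by
    rw [Ideal.map_map, ← IsScalarTower.algebraMap_eq]
  refine ⟨hHmap ▸ hH.1, fun C _ J f hJ hle ↦ ?_⟩
  let _ : Algebra R C := f.toAlgebra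
  let q : (R ⧸ I) →+* C ⧸ J :=
    Ideal.Quotient.lift I ((Ideal.Quotient.mk J).comp f) fun a ha ↦
      Ideal.Quotient.eq_zero_iff_mem.mpr (hle (Ideal.mem_map_of_mem f ha))
  let e := RingEquiv.ofBijective _ hq
  let σ : S →ₐ[R] C ⧸ J :=
    { q.comp (e.symm.toRingHom.comp (Ideal.Quotient.mk (I.map (algebraMap R S)))) with
      commutes' := fun r ↦ by
        show q (e.symm (Ideal.Quotient.mk (I.map (algebraMap R S)) (algebraMap R S r))) = Ideal.Quotient.mk J (f r)
        rw [show Ideal.Quotient.mk (I.map (algebraMap R S)) (algebraMap R S r) =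
          e (Ideal.Quotient.mk I r) from rfl, e.symm_apply_apply]
        rfl }
  obtain ⟨φ, hφ, huniq⟩ := GrothLib.Hensel.existsUnique_algHom_lift σ
  have hφJ : (I.map (algebraMap R S)).map φ.toRingHom ≤ J := by
    rw [Ideal.map_map, show φ.toRingHom.comp (algebraMap R S) = f from φ.comp_algebraMap]
    exact hle
  obtain ⟨g, hg, hguniq⟩ := hH.2 C J φ.toRingHom hJ hφJ
  refine ⟨g, ?_, fun g' hg' ↦ hguniq g' ?_⟩
  · show g.comp (algebraMap R H) = f
    rw [IsScalarTower.algebraMap_eq R S H, ← RingHom.comp_assoc, hg]
    exact φ.comp_algebraMap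
  let ψ : S →ₐ[R] C :=
    { g'.comp (algebraMap S H) with
      commutes' := fun r ↦ by
        show g' (algebraMap S H (algebraMap R S r)) = f r
        rw [← IsScalarTower.algebraMap_apply]
        exact RingHom.congr_fun hg' r }
  refine congrArg AlgHom.toRingHom (huniq ψ (AlgHom.ext fun s ↦ ?_))
  obtain ⟨r, hr⟩ := hq.2 (Ideal.Quotient.mk (I.map (algebraMap R S)) s)
  obtain ⟨r, rfl⟩ := Ideal.Quotient.mk_surjective r
  rw [Ideal.quotientMap_mk, Ideal.Quotient.eq] at hr
  have key : ∀ χ : S →ₐ[R] C ⧸ J, χ s = χ (algebraMap R S r) := fun χ ↦ by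
    have hz : ∀ y ∈ I.map (algebraMap R S), χ y = 0 := fun y hy ↦ by
      have h1 : (I.map (algebraMap R S)) ≤ RingHom.ker χ.toRingHom := by
        rw [Ideal.map_le_iff_le_comap]
        intro a ha
        show χ (algebraMap R S a) = 0
        rw [χ.commutes]
        exact Ideal.Quotient.eq_zero_iff_mem.mpr (hle (Ideal.mem_map_of_mem f ha))
      exact h1 hy
    have := hz _ hr
    rw [map_sub, sub_eq_zero] at this
    exact this.symm
  exact (key ((Ideal.Quotient.mkₐ R J).comp ψ)).trans
    ((AlgHom.commutes _ r).trans ((σ.commutes r).symm.trans (key σ).symm))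
end Groth.Agent.S17592
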