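import Groth.Statements.S17593
import Groth.Agent.Lib.Hensel.HFPFlat
-- import your own Groth.Agent.* helpers here

set_option autoImplicit false
universe u
open Hensel

namespace Groth.Agent.S17593

/-- Suppose (A, I) is a Henselian pair, and R is an A-algebra of finite presentation for which A → R is
flat at each prime of R that contains IR. Then there is an étale R-algebra R' such that R/IR →
R'/IR' is bijective and A → R' is flat. -/
theorem result (A : Type u) [CommRing A] (I : Ideal A) [HenselianRing A I]
    (R : Type u) [CommRing R] [Algebra A R] [Algebra.FinitePresentation A R]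
    (h : ∀ (p : Ideal R) [p.IsPrime], I.map (algebraMap A R) ≤ p → Module.Flat A (Localization.AtPrime p))
    : ∃ (R' : Type u) (_ : CommRing R') (_ : Algebra R R') (_ : Algebra A R') (_ : IsScalarTower A R R'),
      Algebra.Etale R R' ∧
      Function.Bijective (Ideal.quotientMap ((I.map (algebraMap A R)).map (algebraMap R R'))
        (algebraMap R R') Ideal.le_comap_map) ∧ Module.Flat A R' := by
  obtain ⟨g, hg, hfl⟩ := GrothLib.Hensel.exists_etale_flat_of_flat_at_zeroLocus (A := A)
    (I.map (algebraMap A R)) h
  exact ⟨Localization.Away g, inferInstance, inferInstance, inferInstance, inferInstance,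
    Algebra.Etale.of_isLocalizationAway g,
    GrothLib.Hensel.quotientMap_bijective_away _ hg, hfl⟩

end Groth.Agent.S17593
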