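import Groth.Statements.S17594
import Groth.Agent.Lib.Hensel.PairHull
import Mathlib.RingTheory.Smooth.Locus
import Mathlib.RingTheory.Spectrum.Prime.Topology
import Mathlib.RingTheory.Etale.Basic
-- import your own Groth.Agent.* helpers here

set_option autoImplicit false
universe u
open Hensel

namespace Groth.Agent.S17594

/-- Suppose (A, I) is a Henselian pair, and take an A-algebra R of finite presentation for which A → R
is smooth at every prime of R containing IR. Then there is an étale R-algebra R' such that R/IR →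
R'/IR' is bijective and A → R' is smooth. -/
theorem result (A : Type u) [CommRing A] (I : Ideal A) [HenselianRing A I]
    (R : Type u) [CommRing R] [Algebra A R] [Algebra.FinitePresentation A R]
    (h : ∀ (p : Ideal R) [p.IsPrime], I.map (algebraMap A R) ≤ p → Algebra.IsSmoothAt A p)
    : ∃ (R' : Type u) (_ : CommRing R') (_ : Algebra R R') (_ : Algebra A R') (_ : IsScalarTower A R R'),
      Algebra.Etale R R' ∧
      Function.Bijective (Ideal.quotientMap ((I.map (algebraMap A R)).map (algebraMap R R'))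
        (algebraMap R R') Ideal.le_comap_map) ∧ Algebra.Smooth A R' := by
  obtain ⟨J, hJ⟩ := (PrimeSpectrum.isClosed_iff_zeroLocus_ideal _).mp
    (Algebra.isOpen_smoothLocus (R := A) (A := R)).isClosed_compl
  have htop : J ⊔ I.map (algebraMap A R) = ⊤ := by
    by_contra hne
    obtain ⟨m, hm, hle⟩ := Ideal.exists_le_maximal _ hne
    have h1 : (⟨m, hm.isPrime⟩ : PrimeSpectrum R) ∈ Algebra.smoothLocus A R :=
      h m (le_sup_right.trans hle)
    have h2 : (⟨m, hm.isPrime⟩ : PrimeSpectrum R) ∈ (Algebra.smoothLocus A R)ᶜ := by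
      rw [hJ]; exact le_sup_left.trans hle
    exact h2 h1
  obtain ⟨g, hg, k, hk, hgk⟩ := Submodule.mem_sup.mp ((Ideal.eq_top_iff_one _).mp htop)
  have hsub : ↑(PrimeSpectrum.basicOpen g) ⊆ Algebra.smoothLocus A R := fun p hp ↦ by
    by_contra hns
    exact hp ((Set.ext_iff.mp hJ p).mp hns hg)
  refine ⟨Localization.Away g, inferInstance, inferInstance, inferInstance, inferInstance,
    Algebra.Etale.of_isLocalizationAway g, ?_,
    Algebra.basicOpen_subset_smoothLocus_iff_smooth.mp hsub⟩
  set K := I.map (algebraMap A R)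
  obtain ⟨hgK⟩ : Nonempty (∀ n : ℕ, 1 - g ^ n ∈ K) := ⟨fun n ↦ by
    have h1 : 1 - g ∈ K := by rw [← hgk, add_sub_cancel_left]; exact hk
    obtain ⟨c, hc⟩ := sub_dvd_pow_sub_pow (1 : R) g n
    rw [one_pow] at hc
    exact hc ▸ K.mul_mem_right c h1⟩
  refine GrothLib.Hensel.quotientMap_bijective_of K (fun x ↦ ?_) fun a ha ↦ ?_
  · obtain ⟨r, ⟨_, n, rfl⟩, rfl⟩ := IsLocalization.exists_mk'_eq (Submonoid.powers g) x
    refine ⟨r, ?_⟩
    set z := IsLocalization.mk' (Localization.Away g) r (⟨g ^ n, n, rfl⟩ : Submonoid.powers g)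
    have hz : z * algebraMap R _ (g ^ n) = algebraMap R _ r := IsLocalization.mk'_spec _ _ _
    rw [← hz, show z - z * algebraMap R _ (g ^ n) = z * algebraMap R _ (1 - g ^ n) by
      rw [map_sub, map_one]; ring]
    exact Ideal.mul_mem_left _ _ (Ideal.mem_map_of_mem _ (hgK n))
  · obtain ⟨⟨⟨b, hb⟩, ⟨_, n, rfl⟩⟩, hab⟩ :=
      (IsLocalization.mem_map_algebraMap_iff (Submonoid.powers g) _).mp ha
    obtain ⟨⟨_, l, rfl⟩, hl⟩ := (IsLocalization.eq_iff_exists (Submonoid.powers g) (Localization.Away g)).mp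
      (show algebraMap R (Localization.Away g) (a * g ^ n) = algebraMap R _ b by rw [map_mul]; exact hab)
    rw [show a = a * (1 - g ^ (l + n)) + g ^ l * (a * g ^ n) by ring, show g ^ l * (a * g ^ n) = g ^ l * b from hl]
    exact add_mem (K.mul_mem_left _ (hgK _)) (K.mul_mem_left _ hb)

end Groth.Agent.S17594
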