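import Groth.Statements.S17599
import Groth.Agent.Lib.Hensel.HFPFormal
import Groth.Agent.Lib.Hensel.HFP
import Groth.Agent.Lib.Hensel.FinitePairHens
import Groth.Agent.Lib.Hensel.SmoothAlgLift
import Groth.Agent.Lib.Hensel.SmoothLift
-- import your own Groth.Agent.* helpers here

set_option autoImplicit false
universe u
open Hensel

namespace Groth.Agent.S17599

/-- Let (A, I) be a Henselian pair and let B be a Henselization of the pair (R₀, IR₀) for a finitely
presented A-algebra R₀ (so A → B is a Henselian finitely presented map of Henselian pairs). Assume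
that A/I^r → B/I^rB is smooth for every r ≥ 1 (for Henselian finitely presented maps this is
equivalent to the h-formally smooth lifting property). Then there exist a smooth A-algebra R, a
Henselization H of the pair (R, IR) and a surjective A-algebra map H → B whose kernel is a finitely
generated ideal contained in I^n H for every n. -/
theorem result (A : Type u) [CommRing A] (I : Ideal A)
    [HenselianRing A I] (R₀ : Type u) [CommRing R₀] [Algebra A R₀] [Algebra.FinitePresentation A R₀]
    (B : Type u) [CommRing B] [Algebra R₀ B] [Algebra A B] [IsScalarTower A R₀ B]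
    (hB : Hens2.IsPairHenselization R₀ (I.map (algebraMap A R₀)) B)
    (het : ∀ r : ℕ, 1 ≤ r → Algebra.Smooth (A ⧸ I ^ r) (B ⧸ (I ^ r).map (algebraMap A B))) :
    ∃ (R : Type u) (_ : CommRing R) (_ : Algebra A R) (H : Type u) (_ : CommRing H) (_ : Algebra R H)
      (_ : Algebra A H) (_ : IsScalarTower A R H),
      Algebra.Smooth A R ∧ Hens2.IsPairHenselization R (I.map (algebraMap A R)) H ∧
      ∃ φ : H →ₐ[A] B, Function.Surjective φ ∧ (RingHom.ker φ).FG ∧
        ∀ n : ℕ, RingHom.ker φ ≤ (I ^ n).map (algebraMap A H) := by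
  classical
  have hT : ∀ J, J = I ^ 1 → Algebra.Smooth (A ⧸ J) (B ⧸ J.map (algebraMap A B)) := by
    rintro J rfl
    exact het 1 le_rfl
  have := hT I (pow_one I).symm
  set IB := I.map (algebraMap A B) with hIB
  obtain ⟨R, _, _, f, hR, hf, hfk⟩ := GrothLib.Hensel.exists_smooth_lift I (B ⧸ IB)
  have hBh : HenselianRing B IB := by
    have h := hB.1
    rwa [Ideal.map_map, ← IsScalarTower.algebraMap_eq] at h
  obtain ⟨τ, hτ⟩ := GrothLib.Hensel.exists_algHom_lift_of_smooth (R := A) (A := B) (I := IB) f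
  let K := I.map (algebraMap A R)
  let H := GrothLib.Hensel.Hull R (R ⧸ K)
  have hH : Hens2.IsPairHenselization R K H := GrothLib.Hensel.PairHull.isPairHenselization R K
  let _ : Algebra A H := ((algebraMap R H).comp (algebraMap A R)).toAlgebra
  have : IsScalarTower A R H := .of_algebraMap_eq' rfl
  obtain ⟨g, hg, -⟩ := hH.2 B IB τ.toRingHom hBh (by
    rw [Ideal.map_map]; exact le_of_eq (congrArg (fun χ ↦ I.map χ) τ.comp_algebraMap))
  have hgA : ∀ a, g (algebraMap A H a) = algebraMap A B a := fun a ↦ by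
    rw [IsScalarTower.algebraMap_apply A R H, ← RingHom.comp_apply, hg]
    exact τ.commutes a
  let φ : H →ₐ[A] B := { g with commutes' := hgA }
  have hφR : ∀ r, Ideal.Quotient.mk IB (φ (algebraMap R H r)) = f r := fun r ↦ by
    show Ideal.Quotient.mk IB (g (algebraMap R H r)) = _
    rw [← RingHom.comp_apply g, hg]
    exact AlgHom.congr_fun hτ r
  let ψ : H →ₐ[A] B ⧸ IB := (Ideal.Quotient.mkₐ A IB).comp φ
  have hψ : Function.Surjective ψ := fun z ↦ by
    obtain ⟨r, rfl⟩ := hf z
    exact ⟨algebraMap R H r, hφR r⟩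
  have hIH : K.map (algebraMap R H) = I.map (algebraMap A H) := by
    rw [Ideal.map_map, ← IsScalarTower.algebraMap_eq]
  have hψk : RingHom.ker ψ = I.map (algebraMap A H) := by
    refine le_antisymm (fun x hx ↦ ?_) ?_
    · obtain ⟨r, hr⟩ := GrothLib.Hensel.IsPairHenselization.exists_sub_mem hH x
      rw [hIH] at hr
      have hle : I.map (algebraMap A H) ≤ RingHom.ker ψ := by
        rw [Ideal.map_le_iff_le_comap]
        intro a ha
        show ψ (algebraMap A H a) = 0
        rw [ψ.commutes]
        exact Ideal.Quotient.eq_zero_iff_mem.mpr (Ideal.mem_map_of_mem _ ha)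
      have h0 : ψ (algebraMap R H r) = 0 := by
        have := hle hr
        rwa [RingHom.mem_ker, map_sub, RingHom.mem_ker.mp hx, zero_sub, neg_eq_zero] at this
      have hrK : r ∈ K := by
        rw [show K = RingHom.ker f from hfk.symm, RingHom.mem_ker, ← hφR]
        exact h0
      have h2 := Ideal.add_mem _ hr (show algebraMap R H r ∈ I.map (algebraMap A H) by
        rw [← hIH]; exact Ideal.mem_map_of_mem _ hrK)
      rwa [sub_add_cancel] at h2
    · rw [Ideal.map_le_iff_le_comap]
      intro a ha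
      show ψ (algebraMap A H a) = 0
      rw [ψ.commutes]
      exact Ideal.Quotient.eq_zero_iff_mem.mpr (Ideal.mem_map_of_mem _ ha)
  let _ : Algebra H B := φ.toRingHom.toAlgebra
  have : IsScalarTower A H B := .of_algebraMap_eq' φ.comp_algebraMap.symm
  have : HenselianRing H (I.map (algebraMap A H)) := by
    have h := hH.1
    rwa [hIH] at h
  obtain ⟨T, _, _, _, _, hTfp, hTB⟩ := GrothLib.Hensel.hfp_of_algHom (I := I) hH hB
  have hmapB : (I.map (algebraMap A H)).map (algebraMap H B) = IB := by
    rw [Ideal.map_map, ← IsScalarTower.algebraMap_eq]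
  have hsurjq : Function.Surjective (Ideal.quotientMap ((I.map (algebraMap A H)).map (algebraMap H B))
      (algebraMap H B) Ideal.le_comap_map) := by
    intro z
    obtain ⟨z, rfl⟩ := Ideal.Quotient.mk_surjective z
    obtain ⟨x, hx⟩ := hψ (Ideal.Quotient.mk IB z)
    refine ⟨Ideal.Quotient.mk _ x, Ideal.Quotient.eq.mpr ?_⟩
    rw [hmapB]
    exact Ideal.Quotient.eq.mp hx
  have hφs : Function.Surjective φ :=
    GrothLib.Hensel.surjective_of_quotientMap_surjective H (I.map (algebraMap A H)) T B hTB hsurjq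
  have : Algebra.FinitePresentation H B := (GrothLib.Hensel.finite_of_quotientMap_finite H
    (I.map (algebraMap A H)) T B hTB (RingHom.Finite.of_surjective _ hsurjq)).2
  refine ⟨R, inferInstance, inferInstance, H, inferInstance, inferInstance, inferInstance,
    inferInstance, hR, hH, φ, hφs, ?_, fun n ↦ ?_⟩
  · exact Algebra.FinitePresentation.ker_fG_of_surjective (Algebra.ofId H B) hφs
  rcases Nat.eq_zero_or_pos n with rfl | hn
  · simp [Ideal.one_eq_top, Ideal.map_top]
  set Jn := (I ^ n).map (algebraMap A H) with hJn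
  have hle : Jn ≤ I.map (algebraMap A H) := Ideal.map_mono (Ideal.pow_le_self hn.ne')
  have := het n hn
  let p : (H ⧸ Jn) →ₐ[A] H ⧸ I.map (algebraMap A H) := Ideal.Quotient.factorₐ A hle
  have hp : Function.Surjective p := Ideal.Quotient.factor_surjective hle
  have hpk : IsNilpotent (RingHom.ker p) := by
    refine ⟨n, ?_⟩
    have : RingHom.ker p ≤ (I.map (algebraMap A H)).map (Ideal.Quotient.mk Jn) := by
      intro z hz
      obtain ⟨z, rfl⟩ := Ideal.Quotient.mk_surjective z
      exact Ideal.mem_map_of_mem _ (Ideal.Quotient.eq_zero_iff_mem.mp hz)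
    refine le_bot_iff.mp ((Ideal.pow_right_mono this n).trans ?_)
    rw [← Ideal.map_pow, ← Ideal.map_pow, ← hJn, Ideal.map_quotient_self]
  let e₁ := (Ideal.quotientEquivAlgOfEq A hψk.symm).trans (Ideal.quotientKerAlgEquivOfSurjective hψ)
  let u : B →ₐ[A] H ⧸ I.map (algebraMap A H) := e₁.symm.toAlgHom.comp (Ideal.Quotient.mkₐ A IB)
  have hEn : (I ^ n).map (algebraMap A (H ⧸ Jn)) = ⊥ := by
    rw [IsScalarTower.algebraMap_eq A H (H ⧸ Jn), ← Ideal.map_map, ← hJn,
      Ideal.Quotient.algebraMap_eq, Ideal.map_quotient_self]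
  have hCn : (I ^ n).map (algebraMap A (H ⧸ I.map (algebraMap A H))) = ⊥ := by
    rw [← le_bot_iff, IsScalarTower.algebraMap_eq A H (H ⧸ I.map (algebraMap A H)), ← Ideal.map_map,
      ← hJn, Ideal.Quotient.algebraMap_eq]
    exact (Ideal.map_mono hle).trans (le_of_eq (Ideal.map_quotient_self _))
  obtain ⟨v, hv⟩ := GrothLib.Hensel.exists_lift_of_formallySmooth hEn hCn p hp hpk u
  intro x hx
  let w : H →ₗ[A] H ⧸ Jn := (v.comp φ).toLinearMap - (Ideal.Quotient.mkₐ A Jn).toLinearMap
  have hw : LinearMap.range w ≤ I • (⊤ : Submodule A (H ⧸ Jn)) := by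
    rintro _ ⟨z, rfl⟩
    rw [Ideal.smul_top_eq_map, Submodule.restrictScalars_mem]
    have h1 : p (v (φ z)) = p (Ideal.Quotient.mk Jn z) := by
      rw [← AlgHom.comp_apply p v, hv]
      show e₁.symm (Ideal.Quotient.mk IB (φ z)) = Ideal.Quotient.mk _ z
      rw [AlgEquiv.symm_apply_eq]
      rfl
    obtain ⟨y, hy⟩ := Ideal.Quotient.mk_surjective (v (φ z) - Ideal.Quotient.mk Jn z)
    have h2 : p (Ideal.Quotient.mk Jn y) = 0 := by rw [hy, map_sub, h1, sub_self]
    show v (φ z) - Ideal.Quotient.mk Jn z ∈ _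
    rw [← hy, IsScalarTower.algebraMap_eq A H (H ⧸ Jn), ← Ideal.map_map]
    exact Ideal.mem_map_of_mem _ (Ideal.Quotient.eq_zero_iff_mem.mp h2)
  suffices key : ∀ j ≤ n, x ∈ (I ^ j).map (algebraMap A H) from key n le_rfl
  intro j hj
  induction j with
  | zero => simp [Ideal.one_eq_top, Ideal.map_top]
  | succ j ih =>
    have hxj : x ∈ (I ^ j) • (⊤ : Submodule A H) := by
      rw [Ideal.smul_top_eq_map, Submodule.restrictScalars_mem]
      exact ih (Nat.le_of_succ_le hj)
    have h3 := Submodule.mem_map_of_mem (f := w) hxj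
    rw [Submodule.map_smul'', Submodule.map_top] at h3
    have h4 : w x ∈ (I ^ (j + 1)) • (⊤ : Submodule A (H ⧸ Jn)) := by
      rw [pow_succ, Submodule.mul_smul]
      exact Submodule.smul_mono le_rfl hw h3
    have hwx : w x = -Ideal.Quotient.mk Jn x := by
      show v (φ x) - Ideal.Quotient.mk Jn x = _
      rw [RingHom.mem_ker.mp hx, map_zero, zero_sub]
    rw [hwx, neg_mem_iff, Ideal.smul_top_eq_map, Submodule.restrictScalars_mem,
      IsScalarTower.algebraMap_eq A H (H ⧸ Jn), ← Ideal.map_map, Ideal.Quotient.algebraMap_eq,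
      Ideal.mem_quotient_iff_mem_sup] at h4
    have hsup : (I ^ (j + 1)).map (algebraMap A H) ⊔ Jn ≤ (I ^ (j + 1)).map (algebraMap A H) :=
      sup_le le_rfl (Ideal.map_mono (Ideal.pow_le_pow_right hj))
    exact hsup h4

end Groth.Agent.S17599
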