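import Groth.Statements.S17600
import Groth.Agent.Lib.Hensel.HFPFlat
-- import your own Groth.Agent.* helpers here

set_option autoImplicit false
universe u
open Hensel

namespace Groth.Agent.S17600

/-- Let (A, I) be a Henselian pair and let B be a Henselization of the pair (R₀, IR₀) for a finitely
presented A-algebra R₀ (so A → B is Henselian finitely presented). If B is flat over A and A/I^r →
B/I^rB is étale for every r ≥ 1 (the h-formally étale property, in its equivalent form for Henselian
finitely presented maps), then A → B is h-étale: there is an étale A-algebra R, with an R-algebra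
structure on B compatible with that of A, such that B is a Henselization of the pair (R, IR). -/
theorem result (A : Type u) [CommRing A] (I : Ideal A)
    [HenselianRing A I] (R₀ : Type u) [CommRing R₀] [Algebra A R₀] [Algebra.FinitePresentation A R₀]
    (B : Type u) [CommRing B] [Algebra R₀ B] [Algebra A B] [IsScalarTower A R₀ B]
    (hB : Hens2.IsPairHenselization R₀ (I.map (algebraMap A R₀)) B) [Module.Flat A B]
    (het : ∀ r : ℕ, 1 ≤ r → Algebra.Etale (A ⧸ I ^ r) (B ⧸ (I ^ r).map (algebraMap A B))) :
    ∃ (R : Type u) (_ : CommRing R) (_ : Algebra A R) (_ : Algebra R B) (_ : IsScalarTower A R B),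
      Algebra.Etale A R ∧ Hens2.IsPairHenselization R (I.map (algebraMap A R)) B := by
  have hT : ∀ J, J = I ^ 1 → Algebra.Etale (A ⧸ J) (B ⧸ J.map (algebraMap A B)) := by
    rintro J rfl
    exact het 1 le_rfl
  have := hT I (pow_one I).symm
  obtain ⟨e⟩ := GrothLib.Hensel.exists_quotient_algEquiv hB
  have : Algebra.Etale (A ⧸ I) (R₀ ⧸ I.map (algebraMap A R₀)) := .of_equiv e.symm
  obtain ⟨g, hg, het'⟩ := GrothLib.Hensel.exists_away_etale_of_flat_atPrime I
    fun p _ hp ↦ GrothLib.Hensel.flat_atPrime_of_flat hB p hp
  obtain ⟨_, _, hBg⟩ := GrothLib.Hensel.exists_isPairHenselization_away hB g hg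
  have : IsScalarTower A (Localization.Away g) B := .of_algebraMap_eq fun a ↦ by
    rw [IsScalarTower.algebraMap_apply A R₀ (Localization.Away g),
      ← IsScalarTower.algebraMap_apply R₀ (Localization.Away g) B, ← IsScalarTower.algebraMap_apply A R₀ B]
  refine ⟨Localization.Away g, inferInstance, inferInstance, inferInstance, inferInstance, het', ?_⟩
  rwa [Ideal.map_map, ← IsScalarTower.algebraMap_eq] at hBg

end Groth.Agent.S17600
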