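import Groth.Statements.S17603
import Groth.Agent.Lib.Hensel.PairHull
import Mathlib.RingTheory.TensorProduct.Quotient
-- import your own Groth.Agent.* helpers here

set_option autoImplicit false
universe u
open Hensel

namespace Groth.Agent.S17603

/-- With converse part: let (A, I) be a Henselian pair, R a smooth A-algebra and B a Henselization of
the pair (R, IR), with the induced A-algebra structure (so A → B is h-smooth). Then B is flat over A
and A/I^r → B/I^rB is smooth for every r ≥ 1. -/
theorem result (A : Type u) [CommRing A] (I : Ideal A) [HenselianRing A I]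
    (R : Type u) [CommRing R] [Algebra A R] [Algebra.Smooth A R]
    (B : Type u) [CommRing B] [Algebra R B] [Algebra A B] [IsScalarTower A R B]
    (hB : Hens2.IsPairHenselization R (I.map (algebraMap A R)) B) :
    Module.Flat A B ∧ ∀ r : ℕ, 1 ≤ r → Algebra.Smooth (A ⧸ I ^ r) (B ⧸ (I ^ r).map (algebraMap A B)) := by
  have : Module.Flat R B := GrothLib.Hensel.IsPairHenselization.flat hB
  refine ⟨Module.Flat.trans A R B, fun r _ ↦ ?_⟩
  have hJ : ((I.map (algebraMap A R)) ^ r).map (algebraMap R B) = (I ^ r).map (algebraMap A B) := by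
    rw [← Ideal.map_pow, Ideal.map_map, ← IsScalarTower.algebraMap_eq]
  have hJ' : (I.map (algebraMap A R)) ^ r = (I ^ r).map (algebraMap A R) := (Ideal.map_pow _ _ _).symm
  have hb := GrothLib.Hensel.IsPairHenselization.quotientMap_pow_bijective hB r
  let e₀ : R ⧸ (I ^ r).map (algebraMap A R) ≃+* B ⧸ (I ^ r).map (algebraMap A B) :=
    (Ideal.quotEquivOfEq hJ'.symm).trans ((RingEquiv.ofBijective _ hb).trans (Ideal.quotEquivOfEq hJ))
  let e : (R ⧸ (I ^ r).map (algebraMap A R)) ≃ₐ[A ⧸ I ^ r] (B ⧸ (I ^ r).map (algebraMap A B)) :=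
    AlgEquiv.ofRingEquiv (f := e₀) fun x ↦ by
      obtain ⟨a, rfl⟩ := Ideal.Quotient.mk_surjective x
      exact congrArg (Ideal.Quotient.mk _) (IsScalarTower.algebraMap_apply A R B a).symm
  exact .of_equiv ((Algebra.TensorProduct.quotIdealMapEquivQuotTensor R (I ^ r)).symm.trans e)

end Groth.Agent.S17603
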