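import Groth.Statements.S17604
import Groth.Agent.Lib.Hensel.PairHull
import Groth.Agent.Lib.Hensel.Properties
import Groth.Agent.Lib.Hensel.MultivarRoot
-- import your own Groth.Agent.* helpers here

set_option autoImplicit false
universe u
open Hensel

namespace Groth.Agent.S17604

/-- Let (A, I) be a Henselian pair, R and R' étale A-algebras, and B, B' Henselizations of the pairs (R,
IR), (R', IR') with their induced A-algebra structures (so B and B' are h-étale over A). Then
reduction modulo I is a bijection from A-algebra maps B → B' to A-algebra maps B/IB → B'/IB': two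
A-algebra maps B → B' that agree modulo IB' are equal, and every A-algebra map B/IB → B'/IB' is
induced by an A-algebra map B → B'. -/
theorem result (A : Type u) [CommRing A]
    (I : Ideal A) [HenselianRing A I]
    (R : Type u) [CommRing R] [Algebra A R] [Algebra.Etale A R]
    (B : Type u) [CommRing B] [Algebra R B] [Algebra A B] [IsScalarTower A R B]
    (hB : Hens2.IsPairHenselization R (I.map (algebraMap A R)) B)
    (R' : Type u) [CommRing R'] [Algebra A R'] [Algebra.Etale A R']
    (B' : Type u) [CommRing B'] [Algebra R' B'] [Algebra A B'] [IsScalarTower A R' B']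
    (hB' : Hens2.IsPairHenselization R' (I.map (algebraMap A R')) B') :
    (∀ φ ψ : B →ₐ[A] B', (∀ b : B, φ b - ψ b ∈ I.map (algebraMap A B')) → φ = ψ) ∧
    ∀ χ : (B ⧸ I.map (algebraMap A B)) →ₐ[A] (B' ⧸ I.map (algebraMap A B')),
      ∃ φ : B →ₐ[A] B', ∀ b : B,
        Ideal.Quotient.mk (I.map (algebraMap A B')) (φ b) = χ (Ideal.Quotient.mk (I.map (algebraMap A B)) b) := by
  have := hB'.1
  set J := I.map (algebraMap A B')
  have hIR : (I.map (algebraMap A R)).map (algebraMap R B) = I.map (algebraMap A B) := by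
    rw [Ideal.map_map, ← IsScalarTower.algebraMap_eq]
  have hIR' : (I.map (algebraMap A R')).map (algebraMap R' B') = J := by
    rw [Ideal.map_map, ← IsScalarTower.algebraMap_eq]
  have hJ : HenselianRing B' J := hIR' ▸ hB'.1
  have hle : ∀ ρ : R →ₐ[A] B', (I.map (algebraMap A R)).map ρ.toRingHom ≤ J := fun ρ ↦ by
    rw [Ideal.map_map]; exact le_of_eq (congrArg I.map ρ.comp_algebraMap)
  constructor
  · intro φ ψ hφψ
    let i := IsScalarTower.toAlgHom A R B
    obtain ⟨τ, -, huniq⟩ := GrothLib.Hensel.existsUnique_algHom_lift (I := J)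
      ((Ideal.Quotient.mkₐ A J).comp (φ.comp i))
    have h1 : φ.comp i = ψ.comp i := (huniq _ rfl).trans (huniq _ (AlgHom.ext fun x ↦
      Ideal.Quotient.eq.mpr (by
        have := J.neg_mem (hφψ (i x))
        rwa [neg_sub] at this))).symm
    obtain ⟨g, -, hg⟩ := hB.2 B' J (φ.comp i).toRingHom hJ (hle _)
    exact AlgHom.coe_ringHom_injective ((hg φ.toRingHom rfl).trans
      (hg ψ.toRingHom (congrArg AlgHom.toRingHom h1.symm)).symm)
  · intro χ
    let σ : R →ₐ[A] B' ⧸ J :=
      χ.comp ((Ideal.Quotient.mkₐ A (I.map (algebraMap A B))).comp (IsScalarTower.toAlgHom A R B))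
    obtain ⟨τ, hτ, -⟩ := GrothLib.Hensel.existsUnique_algHom_lift (I := J) σ
    obtain ⟨g, hg, -⟩ := hB.2 B' J τ.toRingHom hJ (hle τ)
    have hc : ∀ a, g (algebraMap A B a) = algebraMap A B' a := fun a ↦ by
      rw [IsScalarTower.algebraMap_apply A R B]
      exact (RingHom.congr_fun hg _).trans (τ.commutes a)
    refine ⟨{ g with commutes' := hc }, fun b ↦ ?_⟩
    have : HenselianRing (B' ⧸ J) (⊥ : Ideal (B' ⧸ J)) :=
      GrothLib.Hensel.henselianRing_of_isNilpotent _ fun x hx ↦ ⟨1, by simpa using hx⟩
    obtain ⟨u, -, hu⟩ := hB.2 (B' ⧸ J) ⊥ σ.toRingHom this (by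
      rw [Ideal.map_map, show σ.toRingHom.comp (algebraMap A R) = algebraMap A (B' ⧸ J) from
        σ.comp_algebraMap, IsScalarTower.algebraMap_eq A B' (B' ⧸ J), ← Ideal.map_map]
      exact (Ideal.map_quotient_self J).le)
    have h1 := hu ((Ideal.Quotient.mk J).comp g) (RingHom.ext fun x ↦ by
      show Ideal.Quotient.mk J (g (algebraMap R B x)) = σ x
      rw [show g (algebraMap R B x) = τ x from RingHom.congr_fun hg x]
      exact AlgHom.congr_fun hτ x)
    have h2 := hu (χ.toRingHom.comp (Ideal.Quotient.mk _)) rfl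
    exact RingHom.congr_fun (h1.trans h2.symm) b

end Groth.Agent.S17604
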