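import Groth.Statements.S17605
import Groth.Agent.Lib.Hensel.PairFP
-- import your own Groth.Agent.* helpers here

set_option autoImplicit false
universe u
open Hensel

namespace Groth.Agent.S17605

/-- Let A be a ring with an ideal I and let f₁, f₂ be elements of A such that D(f₂) ∩ V(I) ⊆ D(f₁) ∩
V(I) in Spec A. If H₁ is a Henselization of the pair (A_{f₁}, IA_{f₁}) and H₂ a Henselization of the
pair (A_{f₂}, IA_{f₂}), with their induced A-algebra structures, then there is exactly one A-algebra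
map H₁ → H₂. -/
theorem result (A : Type u) [CommRing A]
    (I : Ideal A) (f₁ f₂ : A)
    (h : (PrimeSpectrum.basicOpen f₂ : Set (PrimeSpectrum A)) ∩ PrimeSpectrum.zeroLocus (I : Set A) ⊆
      (PrimeSpectrum.basicOpen f₁ : Set (PrimeSpectrum A)) ∩ PrimeSpectrum.zeroLocus (I : Set A))
    (H₁ : Type u) [CommRing H₁] [Algebra (Localization.Away f₁) H₁] [Algebra A H₁]
    [IsScalarTower A (Localization.Away f₁) H₁]
    (hH₁ : Hens2.IsPairHenselization (Localization.Away f₁)
      (I.map (algebraMap A (Localization.Away f₁))) H₁)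
    (H₂ : Type u) [CommRing H₂] [Algebra (Localization.Away f₂) H₂] [Algebra A H₂]
    [IsScalarTower A (Localization.Away f₂) H₂]
    (hH₂ : Hens2.IsPairHenselization (Localization.Away f₂)
      (I.map (algebraMap A (Localization.Away f₂))) H₂) :
    Nonempty (H₁ →ₐ[A] H₂) ∧ Subsingleton (H₁ →ₐ[A] H₂) := by
  let S₁ := Localization.Away f₁
  let S₂ := Localization.Away f₂
  have hmap : (I.map (algebraMap A S₂)).map (algebraMap S₂ H₂) = I.map (algebraMap A H₂) := by
    rw [Ideal.map_map, ← IsScalarTower.algebraMap_eq]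
  have hu : IsUnit (algebraMap A H₂ f₁) := by
    have h2 : IsUnit (Ideal.Quotient.mk (I.map (algebraMap A S₂)) (algebraMap A S₂ f₁)) := by
      by_contra hnu
      obtain ⟨P, hP, hPm⟩ := exists_max_ideal_of_mem_nonunits hnu
      let Q := P.comap (Ideal.Quotient.mk (I.map (algebraMap A S₂)))
      have : Q.IsPrime := Ideal.IsPrime.comap _
      let p : PrimeSpectrum A := PrimeSpectrum.comap (algebraMap A S₂) ⟨Q, inferInstance⟩
      have hf₂ : p ∈ PrimeSpectrum.basicOpen f₂ := by
        intro hm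
        exact Ideal.IsPrime.ne_top' (Ideal.eq_top_of_isUnit_mem Q hm
          (IsLocalization.Away.algebraMap_isUnit f₂))
      have hI : p ∈ PrimeSpectrum.zeroLocus (I : Set A) := fun a ha ↦ by
        show Ideal.Quotient.mk _ (algebraMap A S₂ a) ∈ P
        rw [Ideal.Quotient.eq_zero_iff_mem.mpr (Ideal.mem_map_of_mem _ ha)]
        exact P.zero_mem
      exact (h ⟨hf₂, hI⟩).1 hPm
    obtain ⟨c, hc⟩ := h2.exists_right_inv
    obtain ⟨c, rfl⟩ := Ideal.Quotient.mk_surjective c
    rw [← map_mul, ← map_one (Ideal.Quotient.mk (I.map (algebraMap A S₂))), Ideal.Quotient.eq] at hc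
    have h3 := Ideal.mem_map_of_mem (algebraMap S₂ H₂) hc
    rw [map_sub, map_mul, map_one, ← IsScalarTower.algebraMap_apply A S₂ H₂] at h3
    have h4 := hH₂.1.jac h3
    rw [Ideal.mem_jacobson_bot] at h4
    exact isUnit_of_mul_isUnit_left (by simpa using h4 1)
  let g₀ : S₁ →+* H₂ := IsLocalization.Away.lift f₁ hu
  have hg₀ : g₀.comp (algebraMap A S₁) = algebraMap A H₂ := IsLocalization.Away.lift_comp f₁ hu
  have hle : (I.map (algebraMap A S₁)).map g₀ ≤ (I.map (algebraMap A S₂)).map (algebraMap S₂ H₂) := by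
    rw [hmap, Ideal.map_map, hg₀]
  refine ⟨?_, ⟨fun φ ψ ↦ ?_⟩⟩
  · obtain ⟨g, hg, -⟩ := hH₁.2 H₂ _ g₀ hH₂.1 hle
    refine ⟨{ g with commutes' := fun a ↦ ?_ }⟩
    show g (algebraMap A H₁ a) = _
    rw [IsScalarTower.algebraMap_apply A S₁ H₁, ← RingHom.comp_apply, hg, ← RingHom.comp_apply, hg₀]
  · refine AlgHom.ext fun x ↦ RingHom.congr_fun
      (GrothLib.Hensel.IsPairHenselization.ringHom_ext hH₁ _ (hJ := hH₂.1) (g₁ := φ.toRingHom)
        (g₂ := ψ.toRingHom) (IsLocalization.ringHom_ext (Submonoid.powers f₁) ?_) ?_) x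
    · ext a
      simp only [RingHom.comp_apply]
      rw [← IsScalarTower.algebraMap_apply A (Localization.Away f₁) H₁]
      exact (φ.commutes a).trans (ψ.commutes a).symm
    · rw [hmap, Ideal.map_map, RingHom.comp_assoc, ← IsScalarTower.algebraMap_eq]
      exact le_of_eq (congrArg (fun χ ↦ I.map χ) φ.comp_algebraMap)

end Groth.Agent.S17605
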