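import Groth.Statements.S17606
import Groth.Agent.Lib.HSheaf4.Main
-- import your own Groth.Agent.* helpers here

set_option autoImplicit false
set_option linter.all false
set_option backward.isDefEq.respectTransparency false
universe u
open Hensel

namespace Groth.Agent.S17606

/-- Let A be a ring with an ideal I and let g_i (i ∈ ι) be elements of A whose images generate the unit
ideal of A/I, so that the basic opens D(g_i) cover V(I). Let H be a Henselization of the pair (A,
I), H_i a Henselization of (A_{g_i}, IA_{g_i}) and H_{ij} a Henselization of (A_{g_i g_j}, IA_{g_i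
g_j}), all with their induced A-algebra structures, and fix A-algebra maps H → H_i, H_i → H_{ij} and
H_j → H_{ij} (each is the unique such map). Then the sequence H → ∏ H_i ⇉ ∏ H_{ij} is an equalizer:
an element of H is determined by its images in the H_i, and every family (s_i) with s_i ∈ H_i whose
images in each H_{ij} agree is the image of an element of H. (This is the sheaf condition, for the
covering of V(I) by the D(g_i), of the presheaf D(f) ∩ V(I) ↦ Henselization of (A_f, IA_f); the case
of a general basic open D(f) ∩ V(I) follows by replacing A with A_f.) -/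
theorem result (A : Type u) [CommRing A] (I : Ideal A)
    (ι : Type u) (g : ι → A) (hcov : I ⊔ Ideal.span (Set.range g) = ⊤)
    (H : Type u) [CommRing H] [Algebra A H] (hH : Hens2.IsPairHenselization A I H)
    (Hi : ι → Type u) [∀ i, CommRing (Hi i)] [∀ i, Algebra (Localization.Away (g i)) (Hi i)]
    [∀ i, Algebra A (Hi i)] [∀ i, IsScalarTower A (Localization.Away (g i)) (Hi i)]
    (hHi : ∀ i, Hens2.IsPairHenselization (Localization.Away (g i))
      (I.map (algebraMap A (Localization.Away (g i)))) (Hi i))
    (Hij : ι → ι → Type u) [∀ i j, CommRing (Hij i j)]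
    [∀ i j, Algebra (Localization.Away (g i * g j)) (Hij i j)]
    [∀ i j, Algebra A (Hij i j)] [∀ i j, IsScalarTower A (Localization.Away (g i * g j)) (Hij i j)]
    (hHij : ∀ i j, Hens2.IsPairHenselization (Localization.Away (g i * g j))
      (I.map (algebraMap A (Localization.Away (g i * g j)))) (Hij i j))
    (ρ : ∀ i, H →ₐ[A] Hi i) (σ : ∀ i j, Hi i →ₐ[A] Hij i j) (τ : ∀ i j, Hi j →ₐ[A] Hij i j) :
    (∀ x y : H, (∀ i, ρ i x = ρ i y) → x = y) ∧
    ∀ s : ∀ i, Hi i, (∀ i j, σ i j (s i) = τ i j (s j)) → ∃ x : H, ∀ i, ρ i x = s i := by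
  exact ⟨GrothLib.HSheaf4.eq_of_forall I g hcov hH hHi ρ,
    GrothLib.HSheaf4.exists_glued I g hcov hH hHi hHij ρ σ τ⟩

end Groth.Agent.S17606
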