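import Groth.Statements.S17607
import Groth.Agent.Lib.Hensel.HFP
-- import your own Groth.Agent.* helpers here

set_option autoImplicit false
universe u
open Hensel

namespace Groth.Agent.S17607

/-- Let (A, I) and (B, IB) be Henselian pairs with B an A-algebra. Then the following are equivalent:
(i) A → B is Henselian finitely presented, i.e. there are n, a Henselization P of the pair
(A[X₁,…,Xₙ], I·A[X₁,…,Xₙ]) (a Henselized polynomial ring) and a surjective A-algebra map P → B with
finitely generated kernel; (ii) there are a finitely presented A-algebra R and an R-algebra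
structure on B compatible with that of A for which B is a Henselization of the pair (R, IR). -/
theorem result (A : Type u) [CommRing A] (I : Ideal A)
    [HenselianRing A I] (B : Type u) [CommRing B] [Algebra A B]
    [HenselianRing B (I.map (algebraMap A B))] :
    (∃ (n : ℕ) (P : Type u) (_ : CommRing P) (_ : Algebra (MvPolynomial (Fin n) A) P) (_ : Algebra A P)
        (_ : IsScalarTower A (MvPolynomial (Fin n) A) P),
        Hens2.IsPairHenselization (MvPolynomial (Fin n) A)
          (I.map (algebraMap A (MvPolynomial (Fin n) A))) P ∧
        ∃ φ : P →ₐ[A] B, Function.Surjective φ ∧ (RingHom.ker φ).FG) ↔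
    ∃ (R : Type u) (_ : CommRing R) (_ : Algebra A R) (_ : Algebra R B) (_ : IsScalarTower A R B),
      Algebra.FinitePresentation A R ∧ Hens2.IsPairHenselization R (I.map (algebraMap A R)) B := by
  constructor
  · rintro ⟨n, P, _, _, _, _, hP, φ, hφ, hker⟩
    exact GrothLib.Hensel.exists_finitePresentation_of_quotient_henselizedPolynomial n P hP φ hφ hker
  · rintro ⟨R, _, _, _, _, _, hB⟩
    exact GrothLib.Hensel.exists_quotient_henselizedPolynomial_of_finitePresentation hB

end Groth.Agent.S17607
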