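import Groth.Statements.S17613
import Groth.Agent.Lib.Hensel.HFPMaps
-- import your own Groth.Agent.* helpers here

set_option autoImplicit false
universe u
open Hensel

namespace Groth.Agent.S17613

/-- Let (A, I) be a Henselian pair and let B be a Henselization of the pair (R₀, IR₀) for a finitely
presented A-algebra R₀ (so A → B is Henselian finitely presented). Let (R_a) be a directed system of
A-algebras with A-compatible transition maps such that each (R_a, IR_a) is a Henselian pair, and let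
L be its direct limit with the induced A-algebra structure. Then the canonical map from the colimit
of the Hom_A(B, R_a) to Hom_A(B, L) is bijective: every A-algebra map B → L factors through some
R_a, and two A-algebra maps B → R_a whose composites with R_a → L agree become equal after passing
to some R_b. (Index set in the universe of the rings.) -/
theorem result (A : Type u) [CommRing A] (I : Ideal A)
    [HenselianRing A I] (R₀ : Type u) [CommRing R₀] [Algebra A R₀] [Algebra.FinitePresentation A R₀]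
    (B : Type u) [CommRing B] [Algebra R₀ B] [Algebra A B] [IsScalarTower A R₀ B]
    (hB : Hens2.IsPairHenselization R₀ (I.map (algebraMap A R₀)) B)
    {κ : Type u} [Preorder κ] [IsDirectedOrder κ] [Nonempty κ]
    (Ra : κ → Type u) [∀ a, CommRing (Ra a)] [∀ a, Algebra A (Ra a)]
    [∀ a, HenselianRing (Ra a) (I.map (algebraMap A (Ra a)))]
    (t : ∀ a b : κ, a ≤ b → (Ra a →+* Ra b)) [DirectedSystem Ra (fun a b h => t a b h)]
    (ht : ∀ (a b : κ) (h : a ≤ b), (t a b h).comp (algebraMap A (Ra a)) = algebraMap A (Ra b))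
    [Algebra A (DirectLimit Ra t)]
    (halg : ∀ (a : κ) (x : A), algebraMap A (DirectLimit Ra t) x =
      DirectLimit.Ring.of Ra t a (algebraMap A (Ra a) x)) :
    (∀ χ : B →ₐ[A] DirectLimit Ra t, ∃ (a : κ) (φ : B →ₐ[A] Ra a),
        ∀ x : B, DirectLimit.Ring.of Ra t a (φ x) = χ x) ∧
    ∀ (a : κ) (φ ψ : B →ₐ[A] Ra a),
      (∀ x : B, DirectLimit.Ring.of Ra t a (φ x) = DirectLimit.Ring.of Ra t a (ψ x)) →
      ∃ (b : κ) (h : a ≤ b), ∀ x : B, t a b h (φ x) = t a b h (ψ x) := by
  classical
  let f : ∀ a b : κ, a ≤ b → (Ra a →ₐ[A] Ra b) := fun a b h ↦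
    { t a b h with commutes' := fun x ↦ RingHom.congr_fun (ht a b h) x }
  let φ : ∀ a, Ra a →ₐ[A] DirectLimit Ra t := fun a ↦
    { DirectLimit.Ring.of Ra t a with commutes' := fun x ↦ (halg a x).symm }
  have hsys : ∀ i j k (h₁ : i ≤ j) (h₂ : j ≤ k) x,
      f j k h₂ (f i j h₁ x) = f i k (h₁.trans h₂) x := fun i j k h₁ h₂ x ↦
    DirectedSystem.map_map' (f := fun a b h => t a b h) h₁ h₂ x
  have hφ : ∀ i j h x, φ j (f i j h x) = φ i x := fun i j h x ↦ DirectLimit.Ring.of_f h x
  have hsurj : ∀ x, ∃ i a, φ i a = x := fun x ↦ by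
    induction x using DirectLimit.induction with | _ i a => exact ⟨i, a, rfl⟩
  have hzero : ∀ i a, φ i a = 0 → ∃ j h, f i j h a = 0 := fun i a h ↦
    (DirectLimit.exists_eq_zero (f := t) ⟨i, a⟩).mp h
  have hL : HenselianRing (DirectLimit Ra t) (I.map (algebraMap A (DirectLimit Ra t))) := by
    have h := GrothLib.Hensel.henselianRing_of_directed (G := Ra) (f := fun a b h ↦ (f a b h).toRingHom)
      (φ := fun a ↦ (φ a).toRingHom) (I := fun a ↦ I.map (algebraMap A (Ra a))) hsys hφ hsurj hzero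
      (fun i j h ↦ le_of_eq (by rw [Ideal.map_map]; exact congrArg (fun χ ↦ I.map χ) (f i j h).comp_algebraMap))
      (fun _ ↦ inferInstance)
    convert h using 1
    have e : ∀ i, (I.map (algebraMap A (Ra i))).map (φ i).toRingHom =
        I.map (algebraMap A (DirectLimit Ra t)) := fun i ↦ by
      rw [Ideal.map_map]; exact congrArg (fun χ ↦ I.map χ) (φ i).comp_algebraMap
    simp only [e, iSup_const]
  let ι₀ : R₀ →ₐ[A] B := IsScalarTower.toAlgHom A R₀ B
  have key : ∀ {C : Type u} [CommRing C] [Algebra A C] (g : B →ₐ[A] C),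
      (I.map (algebraMap A R₀)).map (g.toRingHom.comp (algebraMap R₀ B)) ≤ I.map (algebraMap A C) := by
    intro C _ _ g
    rw [Ideal.map_map, RingHom.comp_assoc, ← IsScalarTower.algebraMap_eq]
    exact le_of_eq (congrArg (fun χ ↦ I.map χ) g.comp_algebraMap)
  refine ⟨fun χ ↦ ?_, fun a ψ₁ ψ₂ h ↦ ?_⟩
  · obtain ⟨a, ψ, hψ⟩ := GrothLib.Hensel.exists_algHom_factor hsys hφ hsurj hzero (χ.comp ι₀)
    obtain ⟨g, hg, -⟩ := hB.2 (Ra a) (I.map (algebraMap A (Ra a))) ψ.toRingHom inferInstance (by
      rw [Ideal.map_map]; exact le_of_eq (congrArg (fun χ ↦ I.map χ) ψ.comp_algebraMap))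
    have hg' : ∀ x : A, g (algebraMap A B x) = algebraMap A (Ra a) x := fun x ↦ by
      rw [IsScalarTower.algebraMap_apply A R₀ B, ← RingHom.comp_apply, hg]
      exact ψ.commutes x
    let g' : B →ₐ[A] Ra a := { g with commutes' := hg' }
    refine ⟨a, g', fun x ↦ ?_⟩
    refine RingHom.congr_fun (GrothLib.Hensel.IsPairHenselization.ringHom_ext hB _ (hJ := hL)
      (g₁ := ((φ a).comp g').toRingHom) (g₂ := χ.toRingHom) (RingHom.ext fun r ↦ ?_) (key _)) x
    show φ a (g (algebraMap R₀ B r)) = χ (ι₀ r)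
    rw [← RingHom.comp_apply g, hg]
    exact AlgHom.congr_fun hψ r
  · obtain ⟨b, hab, hb⟩ := GrothLib.Hensel.exists_algHom_eq_at_stage hsys hzero a (ψ₁.comp ι₀)
      (ψ₂.comp ι₀) (AlgHom.ext fun r ↦ h (ι₀ r))
    refine ⟨b, hab, fun x ↦ RingHom.congr_fun (GrothLib.Hensel.IsPairHenselization.ringHom_ext hB
      (I.map (algebraMap A (Ra b))) (hJ := inferInstance)
      (g₁ := ((f a b hab).comp ψ₁).toRingHom) (g₂ := ((f a b hab).comp ψ₂).toRingHom)
      (RingHom.ext fun r ↦ AlgHom.congr_fun hb r) (key _)) x⟩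

end Groth.Agent.S17613
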