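import Groth.Statements.S17617
import Groth.Agent.Lib.Hensel.PairHull

set_option autoImplicit false
universe u
open Hensel

namespace Groth.Agent.S17617

/-- Let (A, I) be a Henselian pair and let M' → M → M'' be A-linear maps with zero composite. Then M' →
M → M'' is exact if and only if for every prime ideal p of A containing I and every Henselization H
of the pair (A_p, IA_p), the sequence H ⊗_A M' → H ⊗_A M → H ⊗_A M'' is exact. (The modules H ⊗_A M
are the stalks at p of the sheaf associated to M on the affine Henselian scheme of (A, I), and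
exactness of a sequence of such sheaves is exactness at every stalk, so this is the statement that
the sequence of modules is exact exactly when the associated sequence of sheaves is.) -/
theorem result (A : Type u) [CommRing A]
    (I : Ideal A) [HenselianRing A I]
    (M' M M'' : Type u) [AddCommGroup M'] [Module A M'] [AddCommGroup M] [Module A M]
    [AddCommGroup M''] [Module A M''] (f : M' →ₗ[A] M) (g : M →ₗ[A] M'') (hfg : g.comp f = 0) :
    Function.Exact f g ↔
    ∀ (p : Ideal A) [p.IsPrime], I ≤ p →
      ∀ (H : Type u) [CommRing H] [Algebra (Localization.AtPrime p) H] [Algebra A H]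
        [IsScalarTower A (Localization.AtPrime p) H],
        Hens2.IsPairHenselization (Localization.AtPrime p)
          (I.map (algebraMap A (Localization.AtPrime p))) H →
        Function.Exact (f.baseChange H) (g.baseChange H) := by
  constructor
  · intro h p _ _ H _ _ _ _ hH
    haveI : Module.Flat (Localization.AtPrime p) H := GrothLib.Hensel.IsPairHenselization.flat hH
    haveI : Module.Flat A H := Module.Flat.trans A (Localization.AtPrime p) H
    rw [LinearMap.baseChange_eq_ltensor, LinearMap.baseChange_eq_ltensor]
    exact Module.Flat.lTensor_exact H h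
  · intro h x
    refine ⟨fun hx => ?_, fun ⟨y, hy⟩ => hy ▸ LinearMap.congr_fun hfg y⟩
    rw [← LinearMap.coe_range, SetLike.mem_coe, ← Submodule.Quotient.mk_eq_zero]
    by_contra hne
    let N := M ⧸ LinearMap.range f
    let 𝔞 : Ideal A := LinearMap.ker (LinearMap.toSpanSingleton A N (Submodule.Quotient.mk x))
    have h𝔞 : 𝔞 ≠ ⊤ := fun ht => hne (by
      have : (1 : A) ∈ 𝔞 := ht ▸ trivial
      rw [LinearMap.mem_ker, LinearMap.toSpanSingleton_apply, one_smul] at this
      exact this)
    obtain ⟨m, hm, hle⟩ := Ideal.exists_le_maximal 𝔞 h𝔞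
    have hIm : I ≤ m := fun a ha => by
      have := HenselianRing.jac (I := I) ha
      rw [Ideal.jacobson, Ideal.mem_sInf] at this
      exact this ⟨bot_le, hm⟩
    let R := Localization.AtPrime m
    let J := I.map (algebraMap A R)
    let H := GrothLib.Hensel.Hull R (R ⧸ J)
    letI : Algebra A H := ((algebraMap R H).comp (algebraMap A R)).toAlgebra
    haveI : IsScalarTower A R H := IsScalarTower.of_algebraMap_eq fun _ => rfl
    have hH : Hens2.IsPairHenselization R J H := GrothLib.Hensel.PairHull.isPairHenselization R J
    haveI : Module.Flat R H := GrothLib.Hensel.IsPairHenselization.flat hH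
    haveI : Module.Flat A H := Module.Flat.trans A R H
    obtain ⟨π, hπ, -⟩ := hH.2 (IsLocalRing.ResidueField R) ⊥ (IsLocalRing.residue R) inferInstance
      (le_bot_iff.2 ((Ideal.map_eq_bot_iff_le_ker _).2 (by
        rw [IsLocalRing.ker_residue]
        refine Ideal.map_le_iff_le_comap.2 (hIm.trans (le_of_eq ?_))
        exact (Localization.AtPrime.comap_maximalIdeal).symm)))
    have hex := h m hIm H hH
    have h1 : LinearMap.baseChange H g ((1 : H) ⊗ₜ[A] x) = 0 := by simp [hx]
    obtain ⟨y, hy⟩ := (hex _).1 h1
    have h2 : LinearMap.lTensor H (LinearMap.range f).mkQ ((1 : H) ⊗ₜ[A] x) = 0 := by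
      rw [← hy, LinearMap.baseChange_eq_ltensor, ← LinearMap.comp_apply, ← LinearMap.lTensor_comp,
        LinearMap.range_mkQ_comp, LinearMap.lTensor_zero, LinearMap.zero_apply]
    let ι : (A ⧸ 𝔞) →ₗ[A] N := Submodule.liftQ 𝔞 (LinearMap.toSpanSingleton A N (Submodule.Quotient.mk x)) le_rfl
    have hι : Function.Injective ι := LinearMap.ker_eq_bot.1 (Submodule.ker_liftQ_eq_bot' _ _ rfl)
    have h3 : (1 : H) ⊗ₜ[A] (Submodule.Quotient.mk (1 : A) : A ⧸ 𝔞) = 0 := by
      apply Module.Flat.lTensor_preserves_injective_linearMap ι hι (M := H)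
      rw [map_zero, LinearMap.lTensor_tmul]
      rw [show ι (Submodule.Quotient.mk (1 : A)) = Submodule.Quotient.mk x from by simp only [ι, Submodule.liftQ_apply, LinearMap.toSpanSingleton_apply, one_smul]]
      exact h2
    let πA : H →ₐ[A] IsLocalRing.ResidueField R :=
      AlgHom.mk π (fun a => by
        show π (algebraMap R H (algebraMap A R a)) = _
        rw [← RingHom.comp_apply, hπ, IsScalarTower.algebraMap_apply A R (IsLocalRing.ResidueField R)]
        rfl)
    let q : (A ⧸ 𝔞) →ₐ[A] IsLocalRing.ResidueField R :=
      Ideal.Quotient.liftₐ 𝔞 (Algebra.ofId A _) fun a ha => by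
        show algebraMap A (IsLocalRing.ResidueField R) a = 0
        rw [IsScalarTower.algebraMap_apply A R (IsLocalRing.ResidueField R), IsLocalRing.ResidueField.algebraMap_eq,
          IsLocalRing.residue_eq_zero_iff]
        exact (Localization.AtPrime.comap_maximalIdeal (I := m)).ge (hle ha)
    have h5 := congrArg (Algebra.TensorProduct.lift πA q fun _ _ => Commute.all _ _) h3
    rw [Algebra.TensorProduct.lift_tmul, map_zero, map_one, one_mul] at h5
    exact one_ne_zero ((map_one q).symm.trans h5)

end Groth.Agent.S17617
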