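import Groth.Statements.S17618
import Groth.Agent.Lib.Hensel.HFP
import Groth.Agent.Lib.Hensel.PairHull

set_option autoImplicit false
universe u
open Hensel

namespace Groth.Agent.S17618

open GrothLib.Hensel

/-- The hypothesis of the statement: maps out of `B` commute with directed colimits of pairs. -/
def CommutesColim (A : Type u) [CommRing A] (I : Ideal A) (B : Type u) [CommRing B] [Algebra A B] :
    Prop :=
  ∀ (κ : Type u) [Preorder κ] [IsDirectedOrder κ] [Nonempty κ]
      (Ra : κ → Type u) [∀ a, CommRing (Ra a)] [∀ a, Algebra A (Ra a)]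
      [∀ a, HenselianRing (Ra a) (I.map (algebraMap A (Ra a)))]
      (t : ∀ a b : κ, a ≤ b → (Ra a →+* Ra b)) [DirectedSystem Ra (fun a b hab => t a b hab)],
      (∀ (a b : κ) (hab : a ≤ b), (t a b hab).comp (algebraMap A (Ra a)) = algebraMap A (Ra b)) →
      ∀ [Algebra A (DirectLimit Ra t)],
      (∀ (a : κ) (x : A), algebraMap A (DirectLimit Ra t) x =
        DirectLimit.Ring.of Ra t a (algebraMap A (Ra a) x)) →
      (∀ χ : B →ₐ[A] DirectLimit Ra t, ∃ (a : κ) (φ : B →ₐ[A] Ra a),
          ∀ x : B, DirectLimit.Ring.of Ra t a (φ x) = χ x) ∧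
      ∀ (a : κ) (φ ψ : B →ₐ[A] Ra a),
        (∀ x : B, DirectLimit.Ring.of Ra t a (φ x) = DirectLimit.Ring.of Ra t a (ψ x)) →
        ∃ (b : κ) (hab : a ≤ b), ∀ x : B, t a b hab (φ x) = t a b hab (ψ x)

/-- If `B` is a directed colimit of henselian pairs, then a projection to `B` has a section at some
stage. -/
theorem exists_section {A : Type u} [CommRing A] {I : Ideal A} {B : Type u} [CommRing B]
    [Algebra A B] (h : CommutesColim A I B) {κ : Type u} [Preorder κ] [IsDirectedOrder κ]
    [Nonempty κ] (Ra : κ → Type u) [∀ a, CommRing (Ra a)] [∀ a, Algebra A (Ra a)]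
    [∀ a, HenselianRing (Ra a) (I.map (algebraMap A (Ra a)))]
    (t : ∀ a b : κ, a ≤ b → (Ra a →ₐ[A] Ra b))
    [DirectedSystem Ra (fun a b hab => (t a b hab).toRingHom)]
    (π : ∀ a, Ra a →ₐ[A] B) (hπ : ∀ a b hab x, π b (t a b hab x) = π a x)
    (hsurj : ∀ y : B, ∃ a x, π a x = y)
    (hzero : ∀ a x, π a x = 0 → ∃ b hab, t a b hab x = 0) :
    ∃ (a : κ) (φ : B →ₐ[A] Ra a), ∀ y, π a (φ y) = y := by
  let t' : ∀ a b : κ, a ≤ b → (Ra a →+* Ra b) := fun a b hab => (t a b hab).toRingHom
  obtain ⟨a₀⟩ := (inferInstance : Nonempty κ)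
  letI : Algebra A (DirectLimit Ra t') :=
    ((DirectLimit.Ring.of Ra t' a₀).comp (algebraMap A (Ra a₀))).toAlgebra
  have halg : ∀ (a : κ) (x : A), algebraMap A (DirectLimit Ra t') x =
      DirectLimit.Ring.of Ra t' a (algebraMap A (Ra a) x) := by
    intro a x
    obtain ⟨c, hac, ha₀c⟩ := directed_of (· ≤ ·) a a₀
    show DirectLimit.Ring.of Ra t' a₀ (algebraMap A (Ra a₀) x) = _
    rw [← DirectLimit.Ring.of_f ha₀c, ← DirectLimit.Ring.of_f hac]
    exact congrArg _ (((t a₀ c ha₀c).commutes x).trans ((t a c hac).commutes x).symm)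
  let g : DirectLimit Ra t' →+* B :=
    DirectLimit.Ring.lift Ra t' B (fun a => (π a).toRingHom) hπ
  have hg : ∀ a x, g (DirectLimit.Ring.of Ra t' a x) = π a x := fun a x => rfl
  have hgb : Function.Bijective g := by
    constructor
    · rw [injective_iff_map_eq_zero]
      intro z hz
      induction z using DirectLimit.induction with
      | _ a x =>
        obtain ⟨b, hab, hb⟩ := hzero a x hz
        show DirectLimit.Ring.of Ra t' a x = 0
        rw [← DirectLimit.Ring.of_f hab, show t' a b hab x = 0 from hb, map_zero]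
    · intro y
      obtain ⟨a, x, rfl⟩ := hsurj y
      exact ⟨DirectLimit.Ring.of Ra t' a x, rfl⟩
  let e := RingEquiv.ofBijective g hgb
  let χ : B →ₐ[A] DirectLimit Ra t' :=
    { e.symm.toRingHom with
      commutes' := fun x => by
        refine (RingEquiv.symm_apply_eq e).mpr ?_
        show algebraMap A B x = g (algebraMap A (DirectLimit Ra t') x)
        rw [halg a₀ x, hg, AlgHom.commutes] }
  obtain ⟨a, φ, hφ⟩ := (h κ Ra t' (fun a b hab => (t a b hab).comp_algebraMap) halg).1 χ
  refine ⟨a, φ, fun y => ?_⟩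
  rw [← hg a, hφ y]
  exact e.apply_symm_apply y

section Poly

variable (A : Type u) [CommRing A] (I : Ideal A) (n : ℕ)

/-- The henselized polynomial ring. -/
abbrev HP : Type u :=
  Hull (MvPolynomial (Fin n) A)
    (MvPolynomial (Fin n) A ⧸ I.map (algebraMap A (MvPolynomial (Fin n) A)))

end Poly

/-- The main argument. -/
theorem exists_quotient (A : Type u) [CommRing A] (I : Ideal A) (B : Type u) [CommRing B]
    [Algebra A B] [hBhens : HenselianRing B (I.map (algebraMap A B))] (h : CommutesColim A I B) :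
    ∃ (n : ℕ) (P : Type u) (_ : CommRing P) (_ : Algebra (MvPolynomial (Fin n) A) P)
        (_ : Algebra A P) (_ : IsScalarTower A (MvPolynomial (Fin n) A) P),
        Hens2.IsPairHenselization (MvPolynomial (Fin n) A)
          (I.map (algebraMap A (MvPolynomial (Fin n) A))) P ∧
        ∃ φ : P →ₐ[A] B, Function.Surjective φ ∧ (RingHom.ker φ).FG := by
  classical
  letI algP : ∀ n, Algebra A (HP A I n) := fun n => ((algebraMap (MvPolynomial (Fin n) A)
    (HP A I n)).comp (algebraMap A (MvPolynomial (Fin n) A))).toAlgebra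
  haveI towP : ∀ n, IsScalarTower A (MvPolynomial (Fin n) A) (HP A I n) := fun n =>
    .of_algebraMap_eq' rfl
  have hP : ∀ n, Hens2.IsPairHenselization (MvPolynomial (Fin n) A)
      (I.map (algebraMap A (MvPolynomial (Fin n) A))) (HP A I n) := fun n =>
    PairHull.isPairHenselization _ _
  have hPh : ∀ n, HenselianRing (HP A I n) (I.map (algebraMap A (HP A I n))) := fun n => by
    have := (hP n).1
    rwa [Ideal.map_map, ← IsScalarTower.algebraMap_eq] at this
  -- maps out of the henselized polynomial rings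
  have lift : ∀ (n : ℕ) (C : Type u) [CommRing C] [Algebra A C]
      [HenselianRing C (I.map (algebraMap A C))] (v : Fin n → C),
      ∃ g : HP A I n →ₐ[A] C,
        g.toRingHom.comp (algebraMap (MvPolynomial (Fin n) A) (HP A I n)) =
          (MvPolynomial.aeval v).toRingHom := by
    intro n C _ _ hC v
    obtain ⟨g, hg, -⟩ := (hP n).2 C (I.map (algebraMap A C)) (MvPolynomial.aeval v).toRingHom hC
      (le_of_eq (by
        rw [Ideal.map_map]
        exact congrArg (fun χ => I.map χ) (MvPolynomial.aeval v).comp_algebraMap))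
    let g' : HP A I n →ₐ[A] C :=
      { g with
        commutes' := fun x => by
          refine Eq.trans ?_ ((MvPolynomial.aeval v).commutes x)
          exact RingHom.congr_fun hg (algebraMap A (MvPolynomial (Fin n) A) x) }
    exact ⟨g', hg⟩
  have ext : ∀ (n : ℕ) (C : Type u) [CommRing C] [Algebra A C]
      [HenselianRing C (I.map (algebraMap A C))] (g₁ g₂ : HP A I n →ₐ[A] C),
      (∀ i, g₁ (algebraMap (MvPolynomial (Fin n) A) (HP A I n) (MvPolynomial.X i)) =
        g₂ (algebraMap (MvPolynomial (Fin n) A) (HP A I n) (MvPolynomial.X i))) → g₁ = g₂ := by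
    intro n C _ _ hC g₁ g₂ hx
    have h1 : g₁.comp (IsScalarTower.toAlgHom A (MvPolynomial (Fin n) A) (HP A I n)) =
        g₂.comp (IsScalarTower.toAlgHom A (MvPolynomial (Fin n) A) (HP A I n)) :=
      MvPolynomial.algHom_ext hx
    refine AlgHom.coe_ringHom_injective (IsPairHenselization.ringHom_ext (hP n)
      (I.map (algebraMap A C)) (hJ := hC) (congrArg AlgHom.toRingHom h1) ?_)
    refine le_of_eq ?_
    rw [Ideal.map_map, RingHom.comp_assoc, ← IsScalarTower.algebraMap_eq]
    exact congrArg (fun χ => I.map χ) g₁.comp_algebraMap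
  -- stage 1: finite generation
  let v : ∀ s : Finset B, Fin s.card → B := fun s i => (s.equivFin.symm i).1
  choose G hG using fun s : Finset B => lift s.card B (v s)
  have hGX : ∀ s i, G s (algebraMap (MvPolynomial (Fin s.card) A) (HP A I s.card)
      (MvPolynomial.X i)) = v s i := fun s i => by
    refine (RingHom.congr_fun (hG s) (MvPolynomial.X i)).trans ?_
    exact MvPolynomial.aeval_X _ _
  let S : Finset B → Subalgebra A B := fun s => (G s).range
  have hmono : ∀ s s' : Finset B, s ≤ s' → S s ≤ S s' := by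
    intro s s' hss
    obtain ⟨m, hm⟩ := lift s.card (HP A I s'.card) (fun i => algebraMap
      (MvPolynomial (Fin s'.card) A) (HP A I s'.card)
      (MvPolynomial.X (s'.equivFin ⟨v s i, hss (s.equivFin.symm i).2⟩)))
    have : (G s').comp m = G s := ext _ B _ _ fun i => by
      rw [AlgHom.comp_apply, hGX]
      show G s' (m.toRingHom.comp (algebraMap _ _) (MvPolynomial.X i)) = _
      rw [hm]
      show G s' (MvPolynomial.aeval _ (MvPolynomial.X i)) = _
      rw [MvPolynomial.aeval_X, hGX]
      exact congrArg Subtype.val (s'.equivFin.symm_apply_apply _)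
    show (G s).range ≤ (G s').range
    rw [← this]
    exact AlgHom.range_comp_le_range m (G s')
  haveI hSh : ∀ s, HenselianRing (S s) (I.map (algebraMap A (S s))) := fun s => by
    let _ : Algebra (HP A I s.card) (S s) := (G s).rangeRestrict.toRingHom.toAlgebra
    have : Algebra.IsIntegral (HP A I s.card) (S s) := ⟨fun x => by
      obtain ⟨y, rfl⟩ := (G s).rangeRestrict_surjective x
      exact isIntegral_algebraMap (R := HP A I s.card) (A := S s) (x := y)⟩
    have := hPh s.card
    have h2 := henselianRing_of_isIntegral (I.map (algebraMap A (HP A I s.card))) (S s)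
    rw [Ideal.map_map] at h2
    convert h2 using 2
    exact ((G s).rangeRestrict.comp_algebraMap).symm
  haveI : DirectedSystem (fun s => ↥(S s))
      (fun a b hab => (Subalgebra.inclusion (hmono a b hab)).toRingHom) :=
    { map_self := fun a x => rfl, map_map := fun k j i hij hjk x => rfl }
  obtain ⟨s, φ, hφ⟩ := exists_section h (fun s => ↥(S s))
    (fun a b hab => Subalgebra.inclusion (hmono a b hab)) (fun s => (S s).val)
    (fun a b hab x => rfl)
    (fun y => ⟨{y}, ⟨y, ⟨algebraMap _ (HP A I _) (MvPolynomial.X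
      (({y} : Finset B).equivFin ⟨y, Finset.mem_singleton_self y⟩)), (hGX _ _).trans
        (congrArg Subtype.val (({y} : Finset B).equivFin.symm_apply_apply _))⟩⟩, rfl⟩)
    (fun a x hx => ⟨a, le_rfl, Subtype.ext hx⟩)
  have hsur : Function.Surjective (G s) := fun y => by
    obtain ⟨z, hz⟩ : ((φ y : S s) : B) ∈ (G s).range := (φ y).2
    exact ⟨z, hz.trans (hφ y)⟩
  -- stage 2: finitely many relations
  let P : Type u := HP A I s.card
  let κ : Type u := {F : Finset P // (F : Set P) ⊆ (RingHom.ker (G s) : Set P)}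
  let J : κ → Ideal P := fun F => Ideal.span (F.1 : Set P)
  haveI : Nonempty κ := ⟨⟨∅, by simp⟩⟩
  haveI : IsDirectedOrder κ := ⟨fun F F' => ⟨⟨F.1 ∪ F'.1, by
    rw [Finset.coe_union]; exact Set.union_subset F.2 F'.2⟩,
    Finset.subset_union_left, Finset.subset_union_right⟩⟩
  have hJle : ∀ F : κ, J F ≤ RingHom.ker (G s) := fun F => Ideal.span_le.mpr F.2
  have hJmono : ∀ F F' : κ, F ≤ F' → J F ≤ J F' := fun F F' hFF =>
    Ideal.span_mono (Finset.coe_subset.mpr hFF)
  haveI hQh : ∀ F : κ, HenselianRing (P ⧸ J F) (I.map (algebraMap A (P ⧸ J F))) := fun F => by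
    have := hPh s.card
    have h2 := henselianRing_quotient (J F) (I.map (algebraMap A P))
    rw [Ideal.map_map] at h2
    convert h2 using 2
    exact ((Ideal.Quotient.mkₐ A (J F)).comp_algebraMap).symm
  let q : ∀ F F' : κ, F ≤ F' → (P ⧸ J F →ₐ[A] P ⧸ J F') := fun F F' hFF =>
    Ideal.Quotient.factorₐ A (hJmono F F' hFF)
  haveI : DirectedSystem (fun F => P ⧸ J F) (fun a b hab => (q a b hab).toRingHom) :=
    { map_self := fun a x => by obtain ⟨x, rfl⟩ := Ideal.Quotient.mk_surjective x; rfl
      map_map := fun k j i hij hjk x => by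
        obtain ⟨x, rfl⟩ := Ideal.Quotient.mk_surjective x; rfl }
  let π : ∀ F : κ, P ⧸ J F →ₐ[A] B := fun F => Ideal.Quotient.liftₐ (J F) (G s) (hJle F)
  obtain ⟨F, ψ, hψ⟩ := exists_section h (fun F => P ⧸ J F) q π
    (fun a b hab x => by obtain ⟨x, rfl⟩ := Ideal.Quotient.mk_surjective x; rfl)
    (fun y => by
      obtain ⟨x, rfl⟩ := hsur y
      exact ⟨⟨∅, by simp⟩, Ideal.Quotient.mk _ x, rfl⟩)
    (fun a x hx => by
      obtain ⟨x, rfl⟩ := Ideal.Quotient.mk_surjective x
      have hx' : G s x = 0 := hx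
      refine ⟨⟨insert x a.1, ?_⟩, Finset.subset_insert _ _, ?_⟩
      · rw [Finset.coe_insert]; exact Set.insert_subset hx' a.2
      · exact Ideal.Quotient.eq_zero_iff_mem.mpr
          (Ideal.subset_span (Finset.mem_coe.mpr (Finset.mem_insert_self _ _))))
  let X : Fin s.card → P := fun i => algebraMap (MvPolynomial (Fin s.card) A) P (MvPolynomial.X i)
  choose r hr using fun i => Ideal.Quotient.mk_surjective (ψ (G s (X i)))
  have hrk : ∀ i, G s (r i - X i) = 0 := fun i => by
    rw [map_sub, sub_eq_zero, ← hψ (G s (X i)), ← hr i]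
    rfl
  let F' : κ := ⟨F.1 ∪ Finset.univ.image (fun i => r i - X i), by
    rw [Finset.coe_union, Finset.coe_image]
    exact Set.union_subset F.2 (Set.image_subset_iff.mpr fun i _ => hrk i)⟩
  have hFF : F ≤ F' := Finset.subset_union_left
  let m : P →ₐ[A] P ⧸ J F' := Ideal.Quotient.mkₐ A (J F')
  have key : ((q F F' hFF).comp ψ).comp (G s) = m := ext _ (P ⧸ J F') _ _ fun i => by
    show q F F' hFF (ψ (G s (X i))) = Ideal.Quotient.mk (J F') (X i)
    rw [← hr i]
    refine Ideal.Quotient.eq.mpr (Ideal.subset_span ?_)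
    rw [Finset.coe_union, Finset.coe_image]
    exact Or.inr ⟨i, Finset.mem_univ i, rfl⟩
  refine ⟨s.card, P, inferInstance, inferInstance, algP _, towP _, hP _, G s, hsur, F'.1, ?_⟩
  refine le_antisymm (hJle F') fun x hx => ?_
  have h2 := AlgHom.congr_fun key x
  rw [AlgHom.comp_apply, RingHom.mem_ker.mp hx, map_zero] at h2
  exact Ideal.Quotient.eq_zero_iff_mem.mp h2.symm

end Groth.Agent.S17618

namespace Groth.Agent.S17618

/-- Let (A, I) and (B, IB) be Henselian pairs with B an A-algebra. Assume that for every directed system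
(R_a) of A-algebras with A-compatible transition maps such that each (R_a, IR_a) is a Henselian
pair, with direct limit L carrying the induced A-algebra structure, the canonical map from the
colimit of the Hom_A(B, R_a) to Hom_A(B, L) is bijective (every A-algebra map B → L factors through
some R_a, and two A-algebra maps B → R_a with equal composites to L agree after passing to some
R_b). Then A → B is Henselian finitely presented: there are a finitely presented A-algebra R and an
R-algebra structure on B compatible with that of A for which B is a Henselization of the pair (R,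
IR). (Index sets in the universe of the rings.) -/
theorem result (A : Type u) [CommRing A] (I : Ideal A)
    [HenselianRing A I] (B : Type u) [CommRing B] [Algebra A B]
    [HenselianRing B (I.map (algebraMap A B))]
    (h : ∀ (κ : Type u) [Preorder κ] [IsDirectedOrder κ] [Nonempty κ]
      (Ra : κ → Type u) [∀ a, CommRing (Ra a)] [∀ a, Algebra A (Ra a)]
      [∀ a, HenselianRing (Ra a) (I.map (algebraMap A (Ra a)))]
      (t : ∀ a b : κ, a ≤ b → (Ra a →+* Ra b)) [DirectedSystem Ra (fun a b hab => t a b hab)],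
      (∀ (a b : κ) (hab : a ≤ b), (t a b hab).comp (algebraMap A (Ra a)) = algebraMap A (Ra b)) →
      ∀ [Algebra A (DirectLimit Ra t)],
      (∀ (a : κ) (x : A), algebraMap A (DirectLimit Ra t) x =
        DirectLimit.Ring.of Ra t a (algebraMap A (Ra a) x)) →
      (∀ χ : B →ₐ[A] DirectLimit Ra t, ∃ (a : κ) (φ : B →ₐ[A] Ra a),
          ∀ x : B, DirectLimit.Ring.of Ra t a (φ x) = χ x) ∧
      ∀ (a : κ) (φ ψ : B →ₐ[A] Ra a),
        (∀ x : B, DirectLimit.Ring.of Ra t a (φ x) = DirectLimit.Ring.of Ra t a (ψ x)) →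
        ∃ (b : κ) (hab : a ≤ b), ∀ x : B, t a b hab (φ x) = t a b hab (ψ x)) :
    ∃ (R : Type u) (_ : CommRing R) (_ : Algebra A R) (_ : Algebra R B) (_ : IsScalarTower A R B),
      Algebra.FinitePresentation A R ∧ Hens2.IsPairHenselization R (I.map (algebraMap A R)) B := by
  obtain ⟨n, P, _, _, _, _, hP, φ, hφ, hker⟩ := exists_quotient A I B h
  exact GrothLib.Hensel.exists_finitePresentation_of_quotient_henselizedPolynomial n P hP φ hφ hker

end Groth.Agent.S17618
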