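import Groth.Statements.S17619
import Groth.Agent.Lib.RG6.GenericBasis
import Mathlib.RingTheory.Smooth.Flat
import Mathlib.RingTheory.Filtration
import Mathlib.Algebra.Colimit.TensorProduct
import Mathlib.RingTheory.TensorProduct.Finite

set_option autoImplicit false
universe u
open FlatMor

namespace Groth.Agent.S17619


open TensorProduct

/-- An element congruent to one modulo the kernel of a retraction is regular after tensoring. -/
theorem eq_zero_of_smul_eq_zero {A B : Type u} [CommRing A] [CommRing B] [Algebra A B]
    [Algebra.Smooth A B] (hfib : FlatCA.GeomIntegralFibres A B) (u : B →ₐ[A] A) (g : B) (hg : u g = 1)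
    (Q : Type u) [AddCommGroup Q] [Module A Q] (w : B ⊗[A] Q) (hw : g • w = 0) : w = 0 := by
  let inc : B →ₗ[B] (Fin 1 → B) := LinearMap.single B (fun _ : Fin 1 => B) 0
  let z := AlgebraTensorModule.rTensor A Q inc w
  obtain ⟨t, ⟨a, ha, hat⟩, htz⟩ := GrothLib.RG6.exists_mem_smul_eq_zero hfib ⊥ g
    (fun p' hp _ v hv hvg => hv (by
      have h1 : u (v • g) ∈ p' :=
        ((Ideal.map_le_iff_le_comap.mpr fun a ha => show algebraMap A B a ∈ p'.comap u from Ideal.mem_comap.mpr (by rw [u.commutes]; exact ha) : p'.map (algebraMap A B) ≤ p'.comap u)) hvg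
      rwa [map_smul, hg, smul_eq_mul, mul_one] at h1))
    Q z (by rw [show g • z = AlgebraTensorModule.rTensor A Q inc (g • w) from (map_smul _ g w).symm, hw, map_zero])
  rw [Submonoid.mem_bot.mp ha, map_one] at hat
  rw [← hat, one_smul] at htz
  let pr : (Fin 1 → B) →ₗ[B] B := LinearMap.proj 0
  have h2 := congrArg (AlgebraTensorModule.rTensor A Q pr) htz
  rw [map_zero] at h2
  have h3 : ∀ v : B ⊗[A] Q,
      AlgebraTensorModule.rTensor A Q pr (AlgebraTensorModule.rTensor A Q inc v) = v := fun v => by
    induction v using TensorProduct.induction_on with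
    | zero => simp
    | tmul b q => simp [inc, pr]
    | add x y hx hy => simp only [map_add, hx, hy]
  rwa [h3] at h2


/-- Let A be a Noetherian ring and B a smooth A-algebra whose fibres are geometrically integral, and let
u : B → A be an A-algebra retraction with kernel I (the situation reached, after a faithfully flat
base change, in the proof that flat and pure modules are projective). Let B̂ be the I-adic
completion of B, presented as a B-algebra, compatibly an A-algebra, that is I B̂-adically complete
and for which every truncation B/I^n → B̂/I^n B̂ is bijective. Then the canonical map B → B̂ is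
universally injective over A: it remains injective after tensoring over A with any A-module (modules
in the universe of A). -/
theorem result (A : Type u) [CommRing A]
    [IsNoetherianRing A] (B : Type u) [CommRing B] [Algebra A B] [Algebra.Smooth A B]
    (hfib : FlatCA.GeomIntegralFibres A B) (u : B →ₐ[A] A)
    (Bh : Type u) [CommRing Bh] [Algebra B Bh] [Algebra A Bh] [IsScalarTower A B Bh]
    [IsAdicComplete ((RingHom.ker u).map (algebraMap B Bh)) Bh]
    (hq : ∀ n : ℕ, Function.Bijective (Ideal.quotientMap ((RingHom.ker u ^ n).map (algebraMap B Bh))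
      (algebraMap B Bh) Ideal.le_comap_map)) :
    FlatCA.UnivInj A (IsScalarTower.toAlgHom A B Bh).toLinearMap := by
  classical
  intro Q _ _
  set f := (IsScalarTower.toAlgHom A B Bh).toLinearMap with hf
  -- finite modules
  have hfin : ∀ (Q : Type u) [AddCommGroup Q] [Module A Q], Module.Finite A Q →
      Function.Injective (f.lTensor Q) := by
    intro Q _ _ hQ
    haveI := hQ
    rw [LinearMap.lTensor_inj_iff_rTensor_inj]
    refine (injective_iff_map_eq_zero _).mpr fun w hw => ?_
    haveI : IsNoetherianRing B := Algebra.FiniteType.isNoetherianRing A B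
    have hmem : ∀ n, w ∈ ((RingHom.ker u) ^ n • ⊤ : Submodule B (B ⊗[A] Q)) := by
      intro n
      let J : Submodule A B := ((RingHom.ker u) ^ n).restrictScalars A
      let e := RingEquiv.ofBijective _ (hq n)
      let g : Bh →ₗ[A] B ⧸ J :=
        { toFun := fun x => Submodule.Quotient.restrictScalarsEquiv A ((RingHom.ker u) ^ n) |>.symm
            (e.symm (Ideal.Quotient.mk _ x))
          map_add' := fun x y => by rw [map_add, map_add, map_add]
          map_smul' := fun a x => by
            rw [Algebra.smul_def a x, IsScalarTower.algebraMap_apply A B Bh, map_mul, map_mul,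
              show e.symm (Ideal.Quotient.mk _ (algebraMap B Bh (algebraMap A B a))) =
                Ideal.Quotient.mk _ (algebraMap A B a) from e.symm_apply_eq.mpr rfl,
              RingHom.id_apply, ← map_smul, Algebra.smul_def a (e.symm _)]
            rfl }
      have hgf : g ∘ₗ f = J.mkQ := LinearMap.ext fun x => by
        show (Submodule.Quotient.restrictScalarsEquiv A ((RingHom.ker u) ^ n)).symm
          (e.symm (Ideal.Quotient.mk _ (algebraMap B Bh x))) = J.mkQ x
        rw [show e.symm (Ideal.Quotient.mk _ (algebraMap B Bh x)) = Ideal.Quotient.mk _ x from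
          e.symm_apply_eq.mpr rfl]
        rfl
      have h0 : J.mkQ.rTensor Q w = 0 := by
        rw [← hgf, LinearMap.rTensor_comp_apply, hw, map_zero]
      obtain ⟨v, hv⟩ := (rTensor_exact Q (LinearMap.exact_subtype_mkQ J) (Submodule.mkQ_surjective J) w).mp h0
      rw [← hv]
      clear hv h0
      induction v using TensorProduct.induction_on with
      | zero => simp
      | tmul b q =>
        rw [LinearMap.rTensor_tmul, show (J.subtype b) ⊗ₜ[A] q = (b : B) • ((1 : B) ⊗ₜ[A] q) by
          rw [TensorProduct.smul_tmul', smul_eq_mul, mul_one]; rfl]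
        exact Submodule.smul_mem_smul b.2 Submodule.mem_top
      | add x y hx hy =>
        rw [map_add]
        exact Submodule.add_mem _ hx hy
    obtain ⟨r, hr⟩ := (Ideal.mem_iInf_smul_pow_eq_bot_iff _ w).mp (Submodule.mem_iInf _ |>.mpr hmem)
    exact eq_zero_of_smul_eq_zero hfib u (1 - r.1) (by rw [map_sub, map_one, RingHom.mem_ker.mp r.2, sub_zero])
      Q w ((sub_smul (1 : B) r.1 w).trans (sub_eq_zero.mpr ((one_smul B w).trans hr.symm)))
  refine (injective_iff_map_eq_zero _).mpr fun z hz => ?_
  obtain ⟨N, hN, hsub⟩ := Submodule.exists_fg_le_subset_range_rTensor_subtype {z} (Set.finite_singleton z)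
  obtain ⟨z', rfl⟩ := hsub (Set.mem_singleton z)
  have hz' : N.subtype.rTensor Bh (f.lTensor N z') = N.subtype.rTensor Bh 0 := by
    rw [map_zero, ← LinearMap.comp_apply, LinearMap.rTensor_comp_lTensor, ← LinearMap.lTensor_comp_rTensor]
    exact hz
  obtain ⟨N', hN', hle, heq⟩ := hN.exists_rTensor_fg_inclusion_eq hz'
  rw [map_zero, ← LinearMap.comp_apply, LinearMap.rTensor_comp_lTensor, ← LinearMap.lTensor_comp_rTensor,
    LinearMap.comp_apply] at heq
  have h1 : (N.inclusion hle).rTensor B z' = 0 :=
    (hfin N' (Module.Finite.iff_fg.mpr hN')) (by rw [heq, map_zero])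
  rw [← Submodule.subtype_comp_inclusion N N' hle, LinearMap.rTensor_comp_apply, h1, map_zero]

end Groth.Agent.S17619
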