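import Groth.Statements.S17620
import Groth.Agent.Lib.Hensel.PairHull
-- import your own Groth.Agent.* helpers here

set_option autoImplicit false
universe u
open Hensel

namespace Groth.Agent.S17620

/-- Let R be a local ring and J an ideal of R contained in the maximal ideal, let H be a Henselization
of the pair (R, J) which is a local ring with local structure map R → H, and let S be a strict
Henselization of the local ring H. Then S, with its composite R-algebra structure, is a strict
Henselization of the local ring R. (This is the identification of the strict Henselization of the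
local ring of a scheme at a point with that of the local ring of its Henselization along a closed
subscheme through the point.) -/
theorem result
    (R : Type u) [CommRing R] [IsLocalRing R] (J : Ideal R) (hJ : J ≤ IsLocalRing.maximalIdeal R)
    (H : Type u) [CommRing H] [IsLocalRing H] [Algebra R H] [IsLocalHom (algebraMap R H)]
    (hH : Hens2.IsPairHenselization R J H)
    (S : Type u) [CommRing S] [IsLocalRing S] [Algebra H S] [IsLocalHom (algebraMap H S)]
    [Hensel.IsStrictHenselization H S]
    [Algebra R S] [IsScalarTower R H S] [IsLocalHom (algebraMap R S)] :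
    Hensel.IsStrictHenselization R S := by
  open IsLocalRing in
  have hsurj : ∀ x : H, ∃ a : R, x - algebraMap R H a ∈ maximalIdeal H := fun x ↦ by
    obtain ⟨a, ha⟩ := GrothLib.Hensel.IsPairHenselization.exists_sub_mem hH x
    refine ⟨a, Ideal.map_le_iff_le_comap.mpr (fun r hr ↦ ?_) ha⟩
    exact map_nonunit (algebraMap R H) r (hJ hr)
  have hS := (inferInstance : Hensel.IsStrictHenselization H S)
  have := hS.henselian
  have := hS.isSepClosure
  have hres : Function.Surjective (algebraMap (IsLocalRing.ResidueField R) (IsLocalRing.ResidueField H)) :=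
    fun x ↦ by
      obtain ⟨x, rfl⟩ := IsLocalRing.residue_surjective x
      obtain ⟨a, ha⟩ := hsurj x
      exact ⟨IsLocalRing.residue R a, (Ideal.Quotient.eq.mpr ha).symm⟩
  have htow : IsScalarTower (IsLocalRing.ResidueField R) (IsLocalRing.ResidueField H)
      (IsLocalRing.ResidueField S) := .of_algebraMap_eq fun x ↦ by
    obtain ⟨x, rfl⟩ := IsLocalRing.residue_surjective x
    show IsLocalRing.residue S (algebraMap R S x) =
      IsLocalRing.residue S (algebraMap H S (algebraMap R H x))
    rw [← IsScalarTower.algebraMap_apply R H S]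
  refine ⟨hS.henselian, ⟨IsSepClosure.sep_closed (IsLocalRing.ResidueField H), ?_⟩, fun T _ _ f hf τ hτ ↦ ?_⟩
  · have : Algebra.IsSeparable (IsLocalRing.ResidueField R) (IsLocalRing.ResidueField H) := ⟨fun x ↦ by
      obtain ⟨a, rfl⟩ := hres x
      exact isSeparable_algebraMap _⟩
    have : Algebra.IsSeparable (IsLocalRing.ResidueField H) (IsLocalRing.ResidueField S) :=
      IsSepClosure.separable
    exact Algebra.IsSeparable.trans (IsLocalRing.ResidueField R) (IsLocalRing.ResidueField H) _
  · have hT : HenselianRing T (IsLocalRing.maximalIdeal T) := inferInstance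
    have hJT : J.map f ≤ IsLocalRing.maximalIdeal T :=
      Ideal.map_le_iff_le_comap.mpr fun r hr ↦ map_nonunit f r (hJ hr)
    obtain ⟨g₁, hg₁, hg₁u⟩ := hH.2 T _ f hT hJT
    have hJm : (J.map (algebraMap R H)).map g₁ ≤ IsLocalRing.maximalIdeal T := by
      rw [Ideal.map_map, hg₁]; exact hJT
    have hloc : IsLocalHom g₁ := ⟨fun x hx ↦ by
      by_contra hn
      obtain ⟨a, ha⟩ := GrothLib.Hensel.IsPairHenselization.exists_sub_mem hH x
      have hJH : J.map (algebraMap R H) ≤ IsLocalRing.maximalIdeal H :=
        Ideal.map_le_iff_le_comap.mpr fun r hr ↦ map_nonunit (algebraMap R H) r (hJ hr)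
      have h1 := Ideal.sub_mem _ hn (hJH ha)
      rw [sub_sub_cancel] at h1
      have h3 : f a ∈ IsLocalRing.maximalIdeal T :=
        map_nonunit f a fun hu ↦ h1 (hu.map (algebraMap R H))
      have h4 := hJm (Ideal.mem_map_of_mem g₁ ha)
      rw [map_sub, ← RingHom.comp_apply g₁, hg₁] at h4
      exact (IsLocalRing.mem_maximalIdeal _).mp (by simpa using Ideal.add_mem _ h4 h3) hx⟩
    have hτ' : τ.comp (IsLocalRing.ResidueField.map (algebraMap H S)) =
        IsLocalRing.ResidueField.map g₁ := RingHom.ext fun x ↦ by
      obtain ⟨y, rfl⟩ := hres x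
      obtain ⟨y, rfl⟩ := IsLocalRing.residue_surjective y
      have := RingHom.congr_fun hτ (IsLocalRing.residue R y)
      simp only [RingHom.comp_apply, IsLocalRing.ResidueField.map_residue] at this
      show τ (IsLocalRing.residue S (algebraMap H S (algebraMap R H y))) =
        IsLocalRing.residue T (g₁ (algebraMap R H y))
      rw [← IsScalarTower.algebraMap_apply R H S, this, ← RingHom.comp_apply g₁, hg₁]
    obtain ⟨g, ⟨hg, hgr⟩, hgu⟩ := hS.universal T g₁ τ hτ'
    refine ⟨g, ⟨by rw [IsScalarTower.algebraMap_eq R H S, ← RingHom.comp_assoc, hg, hg₁], hgr⟩,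
      fun g' hg' ↦ hgu g' ⟨hg₁u _ ?_, hg'.2⟩⟩
    show (g'.comp (algebraMap H S)).comp (algebraMap R H) = f
    rw [RingHom.comp_assoc, ← IsScalarTower.algebraMap_eq, hg'.1]

end Groth.Agent.S17620
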