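import Groth.Statements.S17622
import Groth.Agent.Lib.AsympCoh5.NumInv

set_option autoImplicit false
universe u
open CategoryTheory CategoryTheory.Limits AlgebraicGeometry
open Variety

namespace Groth.Agent.S17622

/-- Let X be an integral scheme, proper over an uncountable algebraically closed field k of
characteristic zero and admitting an ample invertible module, of dimension n (stated in the source
over the complex numbers), L an invertible O_X-module and P an invertible O_X-module which is
numerically equivalent to zero, i.e. of degree 0 on every integral closed curve in X. Then ĥ^i(X, L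
⊗ P) = ĥ^i(X, L) for every i ≥ 0, where ĥ^i(X, L) = limsup_m dim_k H^i(X, L^{⊗m}) · n!/m^n; so ĥ^i
only depends on the numerical class of L. -/
theorem result (k : Type u) [Field k] [IsAlgClosed k] [CharZero k] [Uncountable k] (X : Scheme.{u})
    [X.Over (Spec (CommRingCat.of k))] [AlgebraicGeometry.IsIntegral X]
    [IsProper (X ↘ Spec (CommRingCat.of k))] (hproj : ∃ A : X.Modules, CohB1.IsAmple A)
    (n : ℕ) (hn : topologicalKrullDim X = n)
    (L : X.Modules) (hL : PicF.IsInvertible L) (P : X.Modules) (hP : PicF.IsInvertible P)
    (hnum : Pic13.IsNumEquivZero k X P) (i : ℕ) :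
    W4c5asymptcohfn.hhat k X n i (CohB1.tensorMod L P) = W4c5asymptcohfn.hhat k X n i L := by
  obtain ⟨H, hH⟩ := hproj
  rw [GrothLib.AsympCoh5.hhat_eq k ((GrothLib.Cube.hasCls_clsMod hL).tensor (GrothLib.Cube.hasCls_clsMod hP)),
    GrothLib.AsympCoh5.hhat_eq k (GrothLib.Cube.hasCls_clsMod hL)]
  exact GrothLib.AsympCoh5.limsup_numTriv hH hn (GrothLib.Cube.clsMod hL)
    ((GrothLib.NumReg26.numCls_iff k (GrothLib.Cube.hasCls_clsMod hP)).2 hnum) i


end Groth.Agent.S17622
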