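import Groth.Statements.S17627
import Groth.Agent.Lib.AsympCoh5.Rank

set_option autoImplicit false
universe u
open CategoryTheory CategoryTheory.Limits AlgebraicGeometry
open Variety

namespace Groth.Agent.S17627

/-- Let X be an integral scheme, proper over an algebraically closed field k of characteristic zero and
admitting an ample invertible module, of dimension n (stated in the source over the complex
numbers), F a coherent O_X-module whose generic rank — the dimension of its stalk at the generic
point of X over the function field — is r, and L an invertible O_X-module. Then limsup_m dim_k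
H^i(X, F ⊗ L^{⊗m}) · n!/m^n = r · ĥ^i(X, L) for every i ≥ 0, where ĥ^i(X, L) = limsup_m dim_k H^i(X,
L^{⊗m}) · n!/m^n. -/
theorem result (k : Type u) [Field k] [IsAlgClosed k] [CharZero k] (X : Scheme.{u})
    [X.Over (Spec (CommRingCat.of k))] [AlgebraicGeometry.IsIntegral X]
    [IsProper (X ↘ Spec (CommRingCat.of k))] (hproj : ∃ A : X.Modules, CohB1.IsAmple A)
    (n : ℕ) (hn : topologicalKrullDim X = n)
    (F : X.Modules) (hF : Coh.IsCoh F) (r : ℕ)
    (hr : Module.finrank (X.presheaf.stalk (genericPoint X)) (F.presheaf.stalk (genericPoint X)) = r)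
    (L : X.Modules) (hL : PicF.IsInvertible L) (i : ℕ) :
    W4c5asymptcohfn.hhatF k X n i F L = (r : ℝ) * W4c5asymptcohfn.hhat k X n i L := by
  haveI := GrothLib.Euler.isNoetherian_of_proper (X := X) k
  obtain ⟨H, hH⟩ := hproj
  rw [GrothLib.AsympCoh5.hhatF_eq k (GrothLib.Cube.hasCls_clsMod hL), GrothLib.AsympCoh5.hhat_eq k (GrothLib.Cube.hasCls_clsMod hL),
    GrothLib.AsympCoh5.limsup_eq_rank_mul hH hn hF (GrothLib.Cube.clsMod hL) i,
    show GrothLib.Euler.grank F = r from hr]


end Groth.Agent.S17627
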