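import Groth.Statements.S17629
import Groth.Agent.Lib.AsympCoh5.Exact

set_option autoImplicit false
universe u
open CategoryTheory CategoryTheory.Limits AlgebraicGeometry
open Variety

namespace Groth.Agent.S17629

set_option linter.style.haveILetI false
set_option linter.unusedVariables false

/-- Let X be an integral scheme, proper over an algebraically closed field k of characteristic zero and
admitting an ample invertible module, of dimension n (stated in the source over the complex
numbers), let 0 → A → B → C → 0 be a short exact sequence of coherent O_X-modules and L an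
invertible O_X-module. If the support of C has dimension < n, then limsup_m dim_k H^i(X, A ⊗ L^{⊗m})
· n!/m^n = limsup_m dim_k H^i(X, B ⊗ L^{⊗m}) · n!/m^n for every i ≥ 0. -/
theorem result (k : Type u) [Field k] [IsAlgClosed k] [CharZero k] (X : Scheme.{u})
    [X.Over (Spec (CommRingCat.of k))] [AlgebraicGeometry.IsIntegral X]
    [IsProper (X ↘ Spec (CommRingCat.of k))] (hproj : ∃ A : X.Modules, CohB1.IsAmple A)
    (n : ℕ) (hn : topologicalKrullDim X = n)
    (S : ShortComplex X.Modules) (hS : S.ShortExact)
    (hA : Coh.IsCoh S.X₁) (hB : Coh.IsCoh S.X₂) (hC : Coh.IsCoh S.X₃)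
    (hdim : topologicalKrullDim (CohB1.support S.X₃) < (n : WithBot ℕ∞))
    (L : X.Modules) (hL : PicF.IsInvertible L) (i : ℕ) :
    W4c5asymptcohfn.hhatF k X n i S.X₁ L = W4c5asymptcohfn.hhatF k X n i S.X₂ L := by
  obtain ⟨H, hH⟩ := hproj
  have hd := fun F : X.Modules => GrothLib.AsympCoh5.dimLT_support_of_dim (S := CohB1.support F) hn
  rw [GrothLib.AsympCoh5.hhatF_eq k (GrothLib.Cube.hasCls_clsMod hL), GrothLib.AsympCoh5.hhatF_eq k (GrothLib.Cube.hasCls_clsMod hL)]
  refine GrothLib.AsympCoh5.limsup_eq_of_small hH hA hB (hd _) (hd _) hC (GrothLib.AsympCoh5.dimLT_of_dim_lt hdim) _ i fun v => ?_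
  obtain ⟨h1, -, -, h4⟩ := GrothLib.AsympCoh5.hf_ses k hS hA hB hC v i
  cases i with
  | zero => constructor <;> omega
  | succ j =>
    obtain ⟨-, -, h3, -⟩ := GrothLib.AsympCoh5.hf_ses k hS hA hB hC v j
    rw [Nat.add_sub_cancel]
    constructor <;> omega

end Groth.Agent.S17629
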