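import Groth.Statements.S17630
import Groth.Agent.Lib.Euler.Basic
import Groth.Agent.Lib.QCoh.SupportExact

set_option autoImplicit false
set_option maxHeartbeats 400000
set_option linter.style.haveILetI false
universe u
open CategoryTheory CategoryTheory.Limits AlgebraicGeometry
open Coherent

namespace Groth.Agent.S17630

/-- Let X be a scheme proper over a field k and 0 → C_0 → C_1 → C_2 → ⋯ an exact sequence of coherent
O_X-modules: the composite of consecutive maps is zero, the sequence is exact at every C_j with j ≥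
1, and C_0 → C_1 is a monomorphism (the source numbers the sequence from C_{−1}; its argument and
its application use that the first map is injective). Then for every i ≥ 0, |dim_k H^i(X, C_0) −
dim_k H^i(X, C_1)| ≤ Σ_{j=1}^{i+1} dim_k H^{i+1−j}(X, C_{j+1}) + Σ_{j=1}^{i} dim_k H^{i−j}(X,
C_{j+1}). (The published bound is 2 · Σ_{j=1}^{i+1} dim_k H^{i+1−j}(X, C_{j+1}); the argument given
yields the two sums here, and the published form fails for the sequence 0 → O(−3) → O(−1) → O_Z → 0
on the projective line, Z a subscheme of length 2, with i = 1: the left side is 2 and the published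
right side is 0.) -/
theorem result (k : Type u) [Field k] (X : Scheme.{u})
    [X.Over (Spec (CommRingCat.of k))] [IsProper (X ↘ Spec (CommRingCat.of k))]
    (C : ℕ → X.Modules) (hC : ∀ j, Coh.IsCoh (C j)) (d : ∀ j, C j ⟶ C (j + 1))
    (hd : ∀ j, d j ≫ d (j + 1) = 0) [Mono (d 0)]
    (hex : ∀ j, (ShortComplex.mk (d j) (d (j + 1)) (hd j)).Exact) (i : ℕ) :
    |(Module.finrank k (Coh.HH X (C 0) i) : ℤ) - (Module.finrank k (Coh.HH X (C 1) i) : ℤ)| ≤
      (Finset.Icc 1 (i + 1)).sum (fun j => ((Module.finrank k (Coh.HH X (C (j + 1)) (i + 1 - j))) : ℤ)) +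
        (Finset.Icc 1 i).sum (fun j => ((Module.finrank k (Coh.HH X (C (j + 1)) (i - j))) : ℤ)) := by
  have : IsLocallyNoetherian X := LocallyOfFiniteType.isLocallyNoetherian (X ↘ Spec (CommRingCat.of k))
  let K : ℕ → X.Modules := fun j => kernel (d j)
  have hK : ∀ j, Coh.IsCoh (K j) := fun j => GrothLib.QCoh.isCoh_kernel _ (hC j) (hC (j + 1))
  haveI fC : ∀ j m, FiniteDimensional k (Coh.HH X (C j) m) := fun j m =>
    GrothLib.ProjCoh.moduleFinite_HH k _ (hC j) m
  haveI fK : ∀ j m, FiniteDimensional k (Coh.HH X (K j) m) := fun j m =>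
    GrothLib.ProjCoh.moduleFinite_HH k _ (hK j) m
  let S : ℕ → ShortComplex X.Modules := fun j =>
    ShortComplex.mk (kernel.ι (d j)) (kernel.lift (d (j + 1)) (d j) (hd j))
      (by rw [← cancel_mono (kernel.ι (d (j + 1)))]; simp)
  have hS : ∀ j, (S j).ShortExact := fun j => by
    let φ : S j ⟶ ShortComplex.mk (kernel.ι (d j)) (d j) (kernel.condition _) :=
      { τ₁ := 𝟙 _, τ₂ := 𝟙 _, τ₃ := kernel.ι (d (j + 1))
        comm₁₂ := by simp [S]
        comm₂₃ := by simp [S] }
    have : Epi φ.τ₁ := inferInstanceAs (Epi (𝟙 _))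
    have : IsIso φ.τ₂ := inferInstanceAs (IsIso (𝟙 _))
    have : Mono φ.τ₃ := inferInstanceAs (Mono (kernel.ι _))
    exact
      { exact := (ShortComplex.exact_iff_of_epi_of_isIso_of_mono φ).2
          (ShortComplex.exact_of_f_is_kernel _ (kernelIsKernel _))
        mono_f := inferInstanceAs (Mono (kernel.ι _))
        epi_g := (ShortComplex.exact_iff_epi_kernel_lift _).1 (hex j) }
  let c : ℕ → ℕ → ℤ := fun j m => Module.finrank k (Coh.HH X (C j) m)
  let h : ℕ → ℕ → ℤ := fun j m => Module.finrank k (Coh.HH X (K j) m)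
  -- consecutive bounds
  have b0 : ∀ j, h j 0 ≤ c j 0 := fun j => by
    simp only [h, c]
    exact_mod_cast LinearMap.finrank_le_finrank_of_injective
      (GrothLib.Euler.hhMap_zero_injective (A := k) (hS j))
  have bE : ∀ {A B D : Type u} [AddCommGroup A] [Module k A] [AddCommGroup B] [Module k B]
      [AddCommGroup D] [Module k D] [FiniteDimensional k A] [FiniteDimensional k B]
      [FiniteDimensional k D] {f : A →ₗ[k] B} {g : B →ₗ[k] D}, Function.Exact f g →
      (Module.finrank k B : ℤ) ≤ Module.finrank k A + Module.finrank k D := by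
    intro A B D _ _ _ _ _ _ _ _ _ f g hfg
    have h1 := GrothLib.Euler.finrank_eq_add_of_exact hfg
    have h2 := LinearMap.finrank_range_le f
    have h3 := Submodule.finrank_le (LinearMap.range g)
    omega
  have b1 : ∀ j m, h j (m + 1) ≤ h (j + 1) m + c j (m + 1) := fun j m =>
    bE (GrothLib.Cohom.exact₁ (A := k) (hS j) m)
  have b2 : ∀ j m, c j m ≤ h j m + h (j + 1) m := fun j m =>
    bE (GrothLib.Cohom.exact₂ (A := k) (hS j) m)
  have bK : ∀ m j, h j m ≤ ∑ t ∈ Finset.range (m + 1), c (j + t) (m - t) := by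
    intro m
    induction m with
    | zero => intro j; simpa using b0 j
    | succ m ih =>
      intro j
      rw [Finset.sum_range_succ']
      refine (b1 j m).trans (add_le_add ((ih (j + 1)).trans (le_of_eq ?_)) (le_of_eq (by simp)))
      refine Finset.sum_congr rfl fun t ht => ?_
      congr 1 <;> omega
  -- the first two terms: `C 0 ≅ K 1`
  have hK0 : IsZero (K 0) := isZero_kernel_of_mono (d 0)
  haveI : IsIso (kernel.lift (d (0 + 1)) (d 0) (hd 0)) := by
    haveI := (hS 0).epi_g
    haveI : Mono (S 0).g := (hS 0).exact.mono_g (hK0.eq_of_src _ _)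
    exact isIso_of_mono_of_epi (S 0).g
  have e0 : c 0 i = h 1 i := by
    simp only [c, h]
    exact_mod_cast (GrothLib.Euler.hhEquiv (A := k) (asIso (kernel.lift (d (0 + 1)) (d 0) (hd 0))) i).finrank_eq
  have hcv : ∀ m, ∑ t ∈ Finset.range (m + 1), c (2 + t) (m - t) =
      ∑ j ∈ Finset.Icc 1 (m + 1), c (j + 1) (m + 1 - j) := by
    intro m
    rw [show Finset.Icc 1 (m + 1) = Finset.Ico 1 (m + 1 + 1) by rfl, Finset.sum_Ico_eq_sum_range]
    refine Finset.sum_congr (by simp) fun t ht => ?_
    congr 1 <;> omega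
  have hA : h 2 i ≤ ∑ j ∈ Finset.Icc 1 (i + 1), c (j + 1) (i + 1 - j) := (bK i 2).trans (hcv i).le
  change |c 0 i - c 1 i| ≤ ∑ j ∈ Finset.Icc 1 (i + 1), c (j + 1) (i + 1 - j) +
    ∑ j ∈ Finset.Icc 1 i, c (j + 1) (i - j)
  rw [e0, abs_sub_le_iff]
  have hnn1 : (0 : ℤ) ≤ ∑ j ∈ Finset.Icc 1 (i + 1), c (j + 1) (i + 1 - j) :=
    Finset.sum_nonneg fun j _ => Int.natCast_nonneg _
  have hnn2 : (0 : ℤ) ≤ ∑ j ∈ Finset.Icc 1 i, c (j + 1) (i - j) :=
    Finset.sum_nonneg fun j _ => Int.natCast_nonneg _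
  refine ⟨?_, by linarith [b2 1 i]⟩
  cases i with
  | zero => linarith [b0 1]
  | succ m => linarith [b1 1 m, (bK m 2).trans (hcv m).le]

end Groth.Agent.S17630
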