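import Groth.Statements.S17632
import Groth.Agent.Lib.AsympCoh5.Main

set_option autoImplicit false
universe u
open CategoryTheory CategoryTheory.Limits AlgebraicGeometry
open Variety

namespace Groth.Agent.S17632

set_option linter.style.haveILetI false
set_option linter.unusedVariables false

/-- Let X be an integral scheme, proper over an uncountable algebraically closed field k of
characteristic zero and admitting an ample invertible module, of dimension n (stated in the source
over the complex numbers), L an invertible O_X-module and A an ample invertible O_X-module with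
inverse A', i.e. A ⊗ A' ≅ O_X. Then for every i ≥ 0, (ĥ^i(X, L^{⊗p} ⊗ A') − ĥ^i(X, L^{⊗p})) / p^n
tends to 0 as p → ∞, where ĥ^i(X, M) = limsup_m dim_k H^i(X, M^{⊗m}) · n!/m^n. -/
theorem result (k : Type u) [Field k] [IsAlgClosed k] [CharZero k] [Uncountable k] (X : Scheme.{u})
    [X.Over (Spec (CommRingCat.of k))] [AlgebraicGeometry.IsIntegral X]
    [IsProper (X ↘ Spec (CommRingCat.of k))] (hproj : ∃ A : X.Modules, CohB1.IsAmple A)
    (n : ℕ) (hn : topologicalKrullDim X = n)
    (L : X.Modules) (hL : PicF.IsInvertible L) (A A' : X.Modules) (hA : CohB1.IsAmple A)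
    (hA' : ClSub.IsInverseOf A A') (i : ℕ) :
    Filter.Tendsto (fun p : ℕ =>
        (W4c5asymptcohfn.hhat k X n i (CohB1.tensorMod (CohB1.tensorPow L p) A') -
          W4c5asymptcohfn.hhat k X n i (CohB1.tensorPow L p)) / (p : ℝ) ^ n)
      Filter.atTop (nhds 0) := by
  haveI := GrothLib.Euler.isNoetherian_of_proper (X := X) k
  obtain ⟨H, hH⟩ := hproj
  have hF := GrothLib.AsympCoh5.isCoh_structure (X := X) k
  have hd := GrothLib.AsympCoh5.dimLT_support_of_dim (S := CohB1.support (Coh.structureModule X)) hn
  have key := GrothLib.AsympCoh5.tendsto_sub_div_pow (k := k) hH hF hd (GrothLib.Cube.clsMod hL) (GrothLib.Cube.clsMod hA.1)⁻¹ i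
  refine key.congr fun p => ?_
  rw [GrothLib.AsympCoh5.hhat_eq k (((GrothLib.Cube.hasCls_clsMod hL).tensorPow p).tensor (GrothLib.AsympCoh5.hasCls_inverse hA.1 hA').2),
    GrothLib.AsympCoh5.hhat_eq k ((GrothLib.Cube.hasCls_clsMod hL).tensorPow p)]

end Groth.Agent.S17632
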