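import Groth.Statements.S17633
import Groth.Agent.Lib.AsympCoh5.Main

set_option autoImplicit false
universe u
open CategoryTheory CategoryTheory.Limits AlgebraicGeometry
open Variety

namespace Groth.Agent.S17633

set_option linter.style.haveILetI false
set_option linter.unusedVariables false

/-- Let X be an integral scheme, proper over an uncountable algebraically closed field k of
characteristic zero and admitting an ample invertible module, of dimension n (the published
statement is over the complex numbers), and let L_1, …, L_r be invertible O_X-modules with inverses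
M_1, …, M_r. For a ∈ ℤ^r write L^a = ⊗_j L_j^{a_j} (negative powers taken through the M_j) and ‖a‖ =
max_j |a_j|. Then for every i (the published statement takes 0 ≤ i ≤ n; for i > n both sides vanish)
there is a constant C such that for all a, b ∈ ℤ^r, |ĥ^i(X, L^a) − ĥ^i(X, L^b)| ≤ C · Σ_{q=1}^{n}
max(‖a‖, ‖b‖)^{n−q} · ‖a − b‖^q, where ĥ^i(X, L) = limsup_m dim_k H^i(X, L^{⊗m}) · n!/m^n. (The
published statement gives this Lipschitz-type estimate for ĥ^i as a function on the rational
Néron–Severi space with any fixed norm, together with its homogeneity of degree n; restricted to the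
classes spanned by L_1, …, L_r with the maximum norm on coordinates it reads as here.) -/
theorem result (k : Type u) [Field k] [IsAlgClosed k] [CharZero k] [Uncountable k] (X : Scheme.{u})
    [X.Over (Spec (CommRingCat.of k))] [AlgebraicGeometry.IsIntegral X]
    [IsProper (X ↘ Spec (CommRingCat.of k))] (hproj : ∃ A : X.Modules, CohB1.IsAmple A)
    (n : ℕ) (hn : topologicalKrullDim X = n)
    (r : ℕ) (L M : Fin r → X.Modules) (hL : ∀ j, PicF.IsInvertible (L j))
    (hM : ∀ j, ClSub.IsInverseOf (L j) (M j)) (i : ℕ) :
    ∃ C : ℝ, ∀ a b : Fin r → ℤ,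
      |W4c5asymptcohfn.hhat k X n i (W4c5asymptcohfn.ztwist X L M a) -
          W4c5asymptcohfn.hhat k X n i (W4c5asymptcohfn.ztwist X L M b)| ≤
        C * (Finset.Icc 1 n).sum (fun q =>
          (max ‖(fun j => ((a j : ℤ) : ℝ))‖ ‖(fun j => ((b j : ℤ) : ℝ))‖) ^ (n - q) *
            ‖(fun j => ((a j - b j : ℤ) : ℝ))‖ ^ q) := by
  haveI := GrothLib.Euler.isNoetherian_of_proper (X := X) k
  obtain ⟨H, hH⟩ := hproj
  have hF := GrothLib.AsympCoh5.isCoh_structure (X := X) k
  have hd := GrothLib.AsympCoh5.dimLT_support_of_dim (S := CohB1.support (Coh.structureModule X)) hn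
  obtain ⟨C, hC⟩ := GrothLib.AsympCoh5.exists_norm_lipschitz (k := k) hH hF hd (fun j => GrothLib.Cube.clsMod (hL j)) i
  refine ⟨C, fun a b => ?_⟩
  rw [GrothLib.AsympCoh5.hhat_eq k (GrothLib.AsympCoh5.hasCls_ztwist hL hM a),
    GrothLib.AsympCoh5.hhat_eq k (GrothLib.AsympCoh5.hasCls_ztwist hL hM b)]
  exact hC a b

end Groth.Agent.S17633
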