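import Groth.Statements.S17635
import Mathlib.Analysis.Normed.Group.Constructions
import Mathlib.Algebra.BigOperators.Fin
import Mathlib.Algebra.Order.BigOperators.Ring.Finset
import Mathlib.Algebra.BigOperators.Intervals
import Mathlib.Data.Rat.Cast.Order
import Mathlib.Tactic.Ring
import Mathlib.Tactic.Linarith
import Mathlib.Analysis.Normed.Module.Basic
import Mathlib.Tactic.Abel
import Mathlib.Tactic.Positivity
import Mathlib.Tactic.FieldSimp
-- import your own Groth.Agent.* helpers here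

set_option autoImplicit false
open Finset
open Variety

namespace Groth.Agent.S17635

/-- Let r and n be natural numbers and f : ℚ^r → ℝ a nonnegative function which is homogeneous of degree
n for positive rational scalars, f(q · v) = q^n · f(v) for q > 0; give ℚ^r the maximum norm ‖v‖ =
max_j |v_j| of its standard basis. Suppose that for every standard basis vector e_i there is a
constant C_i with |f(v − b · e_i) − f(v)| ≤ C_i · Σ_{q=1}^{n} ‖v‖^{n−q} · b^q for all v ∈ ℚ^r and
all integers b ≥ 1. Then there is a constant C > 0 such that |f(v) − f(w)| ≤ C · Σ_{q=1}^{n}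
max(‖v‖, ‖w‖)^{n−q} · ‖v − w‖^q for all v, w ∈ ℚ^r. (The source allows any norm on an r-dimensional
rational vector space with a chosen basis and argues with the maximum norm of that basis, which is
the case stated here.) -/
theorem result (r n : ℕ) (f : (Fin r → ℚ) → ℝ)
    (hf0 : ∀ v, 0 ≤ f v)
    (hhom : ∀ (q : ℚ) (v : Fin r → ℚ), 0 < q → f (q • v) = (q : ℝ) ^ n * f v)
    (hdir : ∀ i : Fin r, ∃ Ci : ℝ, ∀ (v : Fin r → ℚ) (b : ℕ), 1 ≤ b →
      |f (v - (b : ℚ) • Pi.single i 1) - f v| ≤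
        Ci * (Finset.Icc 1 n).sum (fun q => ‖(fun j => ((v j : ℚ) : ℝ))‖ ^ (n - q) * (b : ℝ) ^ q)) :
    ∃ C : ℝ, 0 < C ∧ ∀ v w : Fin r → ℚ,
      |f v - f w| ≤ C * (Finset.Icc 1 n).sum (fun q =>
        (max ‖(fun j => ((v j : ℚ) : ℝ))‖ ‖(fun j => ((w j : ℚ) : ℝ))‖) ^ (n - q) *
          ‖(fun j => ((v j - w j : ℚ) : ℝ))‖ ^ q) := by
  classical
  choose Ci hCi using hdir
  let N : (Fin r → ℚ) → ℝ := fun v => ‖fun j => ((v j : ℚ) : ℝ)‖
  -- estimates for rational increments
  have hstep : ∀ (i : Fin r) (v : Fin r → ℚ) (t : ℚ), 0 < t →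
      |f (v - t • Pi.single i 1) - f v| ≤
        Ci i * ∑ q ∈ Finset.Icc 1 n, N v ^ (n - q) * (t : ℝ) ^ q := by
    intro i v t ht
    set d : ℕ := t.den with hd
    have hd0 : (0 : ℚ) < d := by exact_mod_cast t.den_pos
    have hdR : (0 : ℝ) < d := by exact_mod_cast t.den_pos
    obtain ⟨b, hb⟩ := Int.eq_ofNat_of_zero_le (Rat.num_nonneg.2 ht.le)
    have hb1 : 1 ≤ b := by
      have := Rat.num_pos.2 ht
      omega
    have htd : (d : ℚ) * t = b := by
      rw [mul_comm, hd, Rat.mul_den_eq_num, hb]; push_cast; rfl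
    have htdR : (d : ℝ) * (t : ℝ) = b := by exact_mod_cast htd
    have h := hCi i ((d : ℚ) • v) b hb1
    rw [← htd, ← smul_smul, ← smul_sub, hhom _ _ hd0, hhom _ _ hd0, ← mul_sub, abs_mul] at h
    have hN : ‖fun j => ((((d : ℚ) • v) j : ℚ) : ℝ)‖ = (d : ℝ) * N v := by
      rw [show (fun j => ((((d : ℚ) • v) j : ℚ) : ℝ)) = (d : ℝ) • (fun j => ((v j : ℚ) : ℝ)) from by
        funext j; simp, norm_smul, Real.norm_of_nonneg hdR.le]
    rw [hN] at h
    have hsum : ∑ q ∈ Finset.Icc 1 n, ((d : ℝ) * N v) ^ (n - q) * (b : ℝ) ^ q =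
        (d : ℝ) ^ n * ∑ q ∈ Finset.Icc 1 n, N v ^ (n - q) * (t : ℝ) ^ q := by
      rw [Finset.mul_sum]
      refine Finset.sum_congr rfl fun q hq => ?_
      have hqn : q ≤ n := (Finset.mem_Icc.1 hq).2
      rw [← htdR, mul_pow, mul_pow, ← Nat.sub_add_cancel hqn, pow_add, Nat.sub_add_cancel hqn]
      ring
    rw [hsum, Rat.cast_natCast, abs_of_pos (pow_pos hdR n), mul_left_comm] at h
    exact le_of_mul_le_mul_left h (pow_pos hdR n)
  let C : ℝ := ∑ i, max (Ci i) 0 + 1
  refine ⟨C, add_pos_of_nonneg_of_pos (Finset.sum_nonneg fun i _ => le_max_right _ _) one_pos,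
    fun v w => ?_⟩
  set M := max (N v) (N w) with hM
  set δ := ‖fun j => ((v j - w j : ℚ) : ℝ)‖ with hδ
  set S := ∑ q ∈ Finset.Icc 1 n, M ^ (n - q) * δ ^ q with hS
  have hM0 : 0 ≤ M := le_max_of_le_left (norm_nonneg _)
  have hS0 : 0 ≤ S := Finset.sum_nonneg fun q _ => mul_nonneg (pow_nonneg hM0 _) (pow_nonneg (norm_nonneg _) _)
  let mix : ℕ → Fin r → ℚ := fun k j => if (j : ℕ) < k then w j else v j
  have hmix : ∀ k, N (mix k) ≤ M := by
    intro k
    refine (pi_norm_le_iff_of_nonneg hM0).2 fun j => ?_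
    simp only [mix]
    split_ifs
    · exact (norm_le_pi_norm (fun j => ((w j : ℚ) : ℝ)) j).trans (le_max_right _ _)
    · exact (norm_le_pi_norm (fun j => ((v j : ℚ) : ℝ)) j).trans (le_max_left _ _)
  have hstep' : ∀ i : Fin r, |f (mix i) - f (mix (i + 1))| ≤ max (Ci i) 0 * S := by
    intro i
    set t := v i - w i with ht
    have hmix' : mix (i + 1) = mix i - t • Pi.single i 1 := by
      funext j
      rcases eq_or_ne j i with rfl | hji
      · simp [mix, t]
      · have : (j : ℕ) ≠ i := fun h => hji (Fin.ext h)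
        simp [mix, hji, show (j : ℕ) < i + 1 ↔ (j : ℕ) < i by omega]
    have habs : |(t : ℝ)| ≤ δ := by
      have := norm_le_pi_norm (fun j => ((v j - w j : ℚ) : ℝ)) i
      rwa [Real.norm_eq_abs] at this
    have hbound : ∀ (u : Fin r → ℚ) (s : ℚ), N u ≤ M → 0 < s → (s : ℝ) ≤ δ →
        Ci i * ∑ q ∈ Finset.Icc 1 n, N u ^ (n - q) * (s : ℝ) ^ q ≤ max (Ci i) 0 * S := by
      intro u s hu hs hsδ
      have hs' : (0 : ℝ) ≤ (s : ℝ) := by exact_mod_cast hs.le
      have hN0 : 0 ≤ N u := norm_nonneg _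
      refine mul_le_mul (le_max_left _ _) (Finset.sum_le_sum fun q _ => ?_)
        (Finset.sum_nonneg fun q _ => mul_nonneg (pow_nonneg hN0 _) (pow_nonneg hs' _)) (le_max_right _ _)
      exact mul_le_mul (pow_le_pow_left₀ hN0 hu _) (pow_le_pow_left₀ hs' hsδ _) (pow_nonneg hs' _)
        (pow_nonneg hM0 _)
    rcases lt_trichotomy t 0 with h | h | h
    · have h' : mix i = mix (i + 1) - (-t) • Pi.single i 1 := by rw [hmix', neg_smul]; abel
      rw [h']
      refine (hstep i _ (-t) (neg_pos.2 h)).trans (hbound _ _ (hmix _) (neg_pos.2 h) ?_)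
      push_cast
      exact (neg_le_abs _).trans habs
    · rw [hmix', h, zero_smul, sub_zero, sub_self, abs_zero]
      exact mul_nonneg (le_max_right _ _) hS0
    · rw [hmix', abs_sub_comm]
      exact (hstep i _ t h).trans (hbound _ _ (hmix _) h ((le_abs_self _).trans habs))
  have htel : f v - f w = ∑ i : Fin r, (f (mix i) - f (mix (i + 1))) := by
    rw [Fin.sum_univ_eq_sum_range (fun k => f (mix k) - f (mix (k + 1))), Finset.sum_range_sub']
    congr 2 <;> funext j <;> simp [mix]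
  show |f v - f w| ≤ C * S
  calc |f v - f w| ≤ ∑ i : Fin r, |f (mix i) - f (mix (i + 1))| := by
        rw [htel]; exact Finset.abs_sum_le_sum_abs _ _
    _ ≤ ∑ i : Fin r, max (Ci i) 0 * S := Finset.sum_le_sum fun i _ => hstep' i
    _ ≤ C * S := by rw [← Finset.sum_mul]; exact mul_le_mul_of_nonneg_right (by simp [C]) hS0

end Groth.Agent.S17635
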