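import Groth.Statements.S17636
import Groth.Agent.Lib.AsympCoh5.StableBase

set_option autoImplicit false
universe u
open CategoryTheory CategoryTheory.Limits AlgebraicGeometry
open Variety

namespace Groth.Agent.S17636

/-- Let X be an integral scheme, smooth and proper over an algebraically closed field k of
characteristic zero and admitting an ample invertible module, of dimension n (stated in the source
over the complex numbers), and let L be an invertible O_X-module which is big — its volume ĥ^0(X, L)
= limsup_m dim_k H^0(X, L^{⊗m}) · n!/m^n is positive — and whose stable base locus, the set of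
points of X at which every global section of every L^{⊗m}, m ≥ 1, vanishes, has dimension at most d.
Then ĥ^i(X, L) = limsup_m dim_k H^i(X, L^{⊗m}) · n!/m^n = 0 for every i > d. -/
theorem result (k : Type u) [Field k] [IsAlgClosed k] [CharZero k] (X : Scheme.{u})
    [X.Over (Spec (CommRingCat.of k))] [AlgebraicGeometry.IsIntegral X]
    [IsProper (X ↘ Spec (CommRingCat.of k))] (hproj : ∃ A : X.Modules, CohB1.IsAmple A)
    (n : ℕ) (hn : topologicalKrullDim X = n)
    [Smooth (X ↘ Spec (CommRingCat.of k))]
    (L : X.Modules) (hL : PicF.IsInvertible L) (hbig : 0 < W4c5asymptcohfn.hhat k X n 0 L)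
    (d : ℕ) (hd : topologicalKrullDim ↥(W4c5asymptcohfn.stableBaseLocus X L) ≤ (d : WithBot ℕ∞))
    (i : ℕ) (hi : d < i) :
    W4c5asymptcohfn.hhat k X n i L = 0 := by
  obtain ⟨H, hH⟩ := hproj
  rw [GrothLib.AsympCoh5.hhat_eq k (GrothLib.Cube.hasCls_clsMod hL)]
  exact GrothLib.AsympCoh5.limsup_eq_zero_of_stableBase hH hn hL hd hi


end Groth.Agent.S17636
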