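import Groth.Statements.S17637
import Groth.Agent.Lib.NumTau26.AmpleTwist
import Groth.Agent.Lib.Ample.VeryAmple
import Groth.Agent.Lib.Ample.VeryAmpleProd

set_option autoImplicit false
universe u
open CategoryTheory CategoryTheory.Limits AlgebraicGeometry
open Variety

namespace Groth.Agent.S17637

/-- Let X be an integral scheme, proper over an algebraically closed field k of characteristic zero and
admitting an ample invertible module (the published statement is over the complex numbers). Then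
there is a very ample invertible O_X-module A — A ≅ i^*O(1) for an immersion i : X → P^N_k over k —
such that A ⊗ N is again very ample for every invertible O_X-module N which is numerically
equivalent to zero. (The published statement also provides one flat family over a quasi-projective
base whose fibres include every divisor of every |A ⊗ N|; that clause is not stated here.) -/
theorem result (k : Type u) [Field k] [IsAlgClosed k] [CharZero k] (X : Scheme.{u})
    [X.Over (Spec (CommRingCat.of k))] [AlgebraicGeometry.IsIntegral X]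
    [IsProper (X ↘ Spec (CommRingCat.of k))] (hproj : ∃ A : X.Modules, CohB1.IsAmple A) :
    ∃ A : X.Modules, PicF.IsInvertible A ∧
      RelAmple.IsRelVeryAmplePn (X ↘ Spec (CommRingCat.of k)) A ∧
      ∀ N : X.Modules, PicF.IsInvertible N → Pic13.IsNumEquivZero k X N →
        RelAmple.IsRelVeryAmplePn (X ↘ Spec (CommRingCat.of k)) (CohB1.tensorMod A N) := by
  classical
  obtain ⟨H, hH⟩ := hproj
  haveI := GrothLib.Euler.isNoetherian_of_proper (X := X) k
  obtain ⟨r, N₀, i, hr, hi, hik, ⟨eH⟩⟩ := GrothLib.DecSh20.exists_embedding k hH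
  haveI := hi
  obtain ⟨m, hm⟩ := GrothLib.NumReg26.exists_regular_twists i hik
    (GrothLib.Euler.isCoh_of_isInvertible (GrothLib.Euler.isInvertible_structure (X := X)))
  let A₁ := fun t : ℤ => (Scheme.Modules.pullback i).obj (Twist.twistProjSpace N₀ k t)
  have hA1 : CohB1.IsAmple (A₁ 1) :=
    (GrothLib.Ample.isAmple_iff_of_iso eH).1 ((GrothLib.Ample.isAmple_tensorPow_iff hH.1 hr).1 hH)
  haveI := hA1.2.1
  obtain ⟨c, ⟨e⟩⟩ := GrothLib.Ample.exists_cocycle hA1.1
  obtain ⟨c', ⟨e'⟩⟩ := GrothLib.Ample.exists_cocycle (GrothLib.Euler.isInvertible_structure (X := X))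
  obtain ⟨n₀, hn₀⟩ := GrothLib.Ample.eventually_isRelVeryAmplePn (X ↘ Spec (CommRingCat.of k)) c c'
    ((c.isAmple_iff e).mp hA1).2
  obtain ⟨p⟩ := c.nonempty_tensorPow_iso_pow e n₀
  obtain ⟨d⟩ := (c.pow n₀).nonempty_tensorMod_iso_prod c' p e'
  have hva := hn₀ n₀ le_rfl d
  let V := CohB1.tensorMod (CohB1.tensorPow (A₁ 1) n₀) (Coh.structureModule X)
  have hV : GrothLib.Cube.HasCls V ((GrothLib.NumReg26.cl i ^ (1 : ℤ)) ^ n₀ * 1) :=
    ((GrothLib.NumReg26.hasCls_cl i (1 : ℤ)).tensorPow n₀).tensor (GrothLib.Cube.hasCls_structureModule X)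
  have hgg : ∀ W : X.Modules, PicF.IsInvertible W → Pic13.IsNumEquivZero k X W →
      Curv2.IsGloballyGenerated (Pic13.twistOn k i W m.toNat) := by
    intro W hW hWn
    refine GrothLib.NumTau26.isGloballyGenerated_of_regular i hik (GrothLib.Euler.isCoh_of_isInvertible hW)
      (fun q hq => ?_) (Int.self_le_toNat m)
    haveI : Subsingleton (Coh.HH X ((GrothLib.Euler.tF (A₁ (m - q))).obj
        (CohB1.tensorMod W (Coh.structureModule X))) q) := hm W hW hWn q hq
    exact (GrothLib.Euler.hhEquiv (A := k) ((GrothLib.Euler.tF _).mapIso (GrothLib.GrTilde.tensorModComm W _ ≪≫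
      GrothLib.OX.tensorUnitLeftIso W)) q).toEquiv.symm.subsingleton
  have hG : ∀ {W : X.Modules} (hW : PicF.IsInvertible W), GrothLib.Cube.HasCls (Pic13.twistOn k i W m.toNat)
      (GrothLib.Cube.clsMod hW * GrothLib.NumReg26.cl i ^ (m.toNat : ℤ)) := fun hW =>
    (GrothLib.Cube.hasCls_clsMod hW).tensor (GrothLib.NumReg26.hasCls_cl i _)
  have key : ∀ W : X.Modules, ∀ hW : PicF.IsInvertible W, Pic13.IsNumEquivZero k X W →
      RelAmple.IsRelVeryAmplePn (X ↘ Spec (CommRingCat.of k))
        (CohB1.tensorMod V (Pic13.twistOn k i W m.toNat)) := by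
    intro W hW hWn
    obtain ⟨c₁, ⟨e₁⟩⟩ := GrothLib.Ample.exists_cocycle hV.1
    obtain ⟨c₂, ⟨e₂⟩⟩ := GrothLib.Ample.exists_cocycle (hG hW).1
    obtain ⟨j, b, hb⟩ := GrothLib.Semiample.exists_sections c₂
      (GrothLib.Ample.isGloballyGenerated_of_iso e₂ (hgg W hW hWn))
    exact GrothLib.Ample.isRelVeryAmplePn_prod _ c₁ c₂ e₁ e₂ hva b hb
  have hO := GrothLib.Euler.isInvertible_structure (X := X)
  have hOn : Pic13.IsNumEquivZero k X (Coh.structureModule X) :=
    (GrothLib.NumReg26.numCls_iff k (GrothLib.Cube.hasCls_structureModule X)).1 (GrothLib.NumReg26.numCls_one k)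
  have hAc := hV.tensor (hG hO)
  refine ⟨_, hAc.1, key _ hO hOn, fun W hW hWn => ?_⟩
  obtain ⟨φ⟩ := ((hV.tensor (hG hO)).tensor (GrothLib.Cube.hasCls_clsMod hW)).iso (hV.tensor (hG hW))
    (by rw [(GrothLib.Cube.hasCls_clsMod hO).eq (GrothLib.Cube.hasCls_structureModule X) ⟨Iso.refl _⟩]; simp only [mul_one, one_mul]; ac_rfl)
  obtain ⟨n, j, hj, hjq, ⟨ψ⟩⟩ := key W hW hWn
  exact ⟨n, j, hj, hjq, ⟨φ ≪≫ ψ⟩⟩

end Groth.Agent.S17637
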