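import Groth.Statements.S17639
import Groth.Agent.Lib.RightAdj20.SuppAdj

set_option autoImplicit false
set_option maxHeartbeats 1000000
set_option linter.style.haveILetI false
set_option backward.isDefEq.respectTransparency false
universe u
open CategoryTheory CategoryTheory.Limits AlgebraicGeometry
attribute [local instance] HasDerivedCategory.standard
open Dual3

namespace Groth.Agent.S17639

/-- Let f : X ⟶ Y be a separated morphism of finite type of Noetherian schemes, factored as f = f̄ ∘ j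
with j : X ⟶ X̄ an open immersion and f̄ : X̄ ⟶ Y proper. Let Z ⊆ Y be a closed subset with open
complement U, and Z' ⊆ X a closed subset which is proper over Y and contained in f⁻¹(Z); such a Z'
has closed image in X̄, and it is given here as Z' = j⁻¹(X̄ ∖ W) for an open W ⊆ X̄ with X̄ ∖ W ⊆
j(X) and f⁻¹(U) ⊆ j⁻¹(W). Let Rf̄_* and Rj_* exist and preserve complexes with quasi-coherent
cohomology, let a be a right adjoint of Rf̄_* on D_qc with its adjunction (whose counit is the trace
map of f̄), let an adjunction j^* ⊣ Rj_* be given, put f^!G = (a G)|_X, and let θ : RΓ_{Z'}(j^* aG)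
⟶ j^*RΓ_{j(Z')}(aG) be the comparison morphism compatible with the two maps to j^*(aG), the unit
RΓ_{j(Z')}(aG) ⟶ Rj_* j^* RΓ_{j(Z')}(aG) being an isomorphism. Then for every F in D(O_X) with
quasi-coherent cohomology sheaves, bounded above and supported on Z', and every G in D_qc(O_Y),
bounded below with cohomology supported on Z, the map sending φ : F ⟶ RΓ_{Z'}(f^!G) to the composite
Rf̄_* Rj_* F ⟶ Rf̄_* Rj_* RΓ_{Z'}(f^!G) ⟶ Rf̄_* Rj_* j^* RΓ_{j(Z')}(aG) ⟶ Rf̄_* RΓ_{j(Z')}(aG) ⟶
Rf̄_*(aG) ⟶ G (Rf̄_*Rj_* of φ and θ, inverse of the unit, the canonical map out of RΓ, the trace) is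
a bijection from Hom(F, RΓ_{Z'} f^!G) onto Hom(Rf_* F, G), with Rf_* computed as Rf̄_* ∘ Rj_*: the
functor Rf_* is left adjoint to RΓ_{Z'} f^! on these objects. (Throughout, RΓ with support is the
total right derived functor of the sheaf of sections supported in the closed subset. The published
statement derives instead the functor of sections killed by some power of a defining ideal; on
complexes with quasi-coherent cohomology sheaves over a Noetherian scheme the two derived functors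
agree.) -/
theorem result {X Y : Scheme.{u}} [IsNoetherian X] [IsNoetherian Y]
    (f : X ⟶ Y) [IsSeparated f] [LocallyOfFiniteType f] (c : DEt.Compactification f)
    (U : Y.Opens) (W : c.Xbar.Opens) (hW : (W : Set c.Xbar)ᶜ ⊆ Set.range c.j.base) (hZ : f ⁻¹ᵁ U ≤ c.j ⁻¹ᵁ W)
    [DCoh.HasRpush c.fbar] [DCoh.HasRpush c.j] (hfbar : DCoh.RpushPreservesQCoh c.fbar) (hj : DCoh.RpushPreservesQCoh c.j)
    (a : DCoh.DQCoh Y ⥤ DCoh.DQCoh c.Xbar) (adj : DCoh.RpushQ c.fbar hfbar ⊣ a)
    (adjj : DCoh.restrictD c.j ⊣ DCoh.Rpush c.j)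
    [CxOX.HasRgammaZ W.ι] [CxOX.HasRgammaZ (c.j ⁻¹ᵁ W).ι]
    (G : DCoh.DQCoh Y) (n : ℤ) (hGn : DerivedCategory.IsGE G.obj n) (hGZ : CxOX.IsSuppD U.ι G.obj)
    (θ : (CxOX.RgammaZ (c.j ⁻¹ᵁ W).ι).obj ((Dual3.shriekC c a).obj G) ⟶
      (DCoh.restrictD c.j).obj ((CxOX.RgammaZ W.ι).obj (a.obj G).obj))
    (hθ : θ ≫ (DCoh.restrictD c.j).map ((CxOX.RgammaZToId W.ι).app (a.obj G).obj) =
      (CxOX.RgammaZToId (c.j ⁻¹ᵁ W).ι).app ((Dual3.shriekC c a).obj G))
    [IsIso (adjj.unit.app ((CxOX.RgammaZ W.ι).obj (a.obj G).obj))]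
    (F : DCoh.D X) (hF : DCoh.IsQCohD F) (m : ℤ) (hFm : DerivedCategory.IsLE F m)
    (hFZ : CxOX.IsSuppD (c.j ⁻¹ᵁ W).ι F) :
    Function.Bijective (fun φ : F ⟶ (CxOX.RgammaZ (c.j ⁻¹ᵁ W).ι).obj ((Dual3.shriekC c a).obj G) =>
      (DCoh.Rpush c.fbar).map ((DCoh.Rpush c.j).map (φ ≫ θ) ≫
          inv (adjj.unit.app ((CxOX.RgammaZ W.ι).obj (a.obj G).obj)) ≫
          (CxOX.RgammaZToId W.ι).app (a.obj G).obj) ≫
        (adj.counit.app G).hom) := by
  have h1 := GrothLib.RightAdj20.bijective_supp_transpose c.j W adjj hW (a.obj G).obj θ hθ F hFZ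
  let Fb : DCoh.DQCoh c.Xbar := ⟨(DCoh.Rpush c.j).obj F, hj F hF⟩
  have h2 : Function.Bijective (fun g : (DCoh.Rpush c.j).obj F ⟶ (a.obj G).obj =>
      (DCoh.Rpush c.fbar).map g ≫ (adj.counit.app G).hom) := by
    refine ⟨fun x y h => ?_, fun g => ?_⟩
    · have h' : (ObjectProperty.homMk x : Fb ⟶ a.obj G) = ObjectProperty.homMk y := by
        refine (adj.homEquiv Fb G).symm.injective (ObjectProperty.hom_ext _ ?_)
        rw [Adjunction.homEquiv_counit, Adjunction.homEquiv_counit]
        exact h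
      exact congrArg (fun t => t.hom) h'
    · obtain ⟨x, hx⟩ := (adj.homEquiv Fb G).symm.surjective (ObjectProperty.homMk g)
      refine ⟨x.hom, ?_⟩
      have hx' := congrArg (fun t => t.hom) hx
      rw [Adjunction.homEquiv_counit] at hx'
      exact hx'
  exact h2.comp h1

end Groth.Agent.S17639
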