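import Groth.Statements.S1764
import Groth.Agent.Lib.FaltingsD3.Bridge
-- import your own Groth.Agent.* helpers here

set_option autoImplicit false
universe u
open CategoryTheory
attribute [local instance] HasDerivedCategory.standard
open LocCoh

namespace Groth.Agent.S1764

/-- (1)⇔(2): Let A be a Noetherian ring, T ⊆ Spec A stable under specialization, n an integer and K an
object of D(A) which is bounded below with finite cohomology modules. Then H^i_T(K) (the direct
limit of Hom(A/J, K[i]) over ideals J with V(J) ⊆ T) is a finite A-module for every i ≤ n if and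
only if there is an ideal J with V(J) ⊆ T annihilating H^i_T(K) for every i ≤ n. -/
theorem result (A : Type u) [CommRing A] [IsNoetherianRing A] (T : Set (PrimeSpectrum A)) (hT : StableUnderSpecialization T) (K : Dual.D A) (a : ℤ) (hKa : ∀ i : ℤ, i < a → Subsingleton (Dual.HD A K i)) (hK : ∀ i : ℤ, Module.Finite A (Dual.HD A K i)) (n : ℤ) : (∀ i : ℤ, i ≤ n → Module.Finite A (Dual2.HDT A T K i)) ↔ ∃ J : Ideal A, PrimeSpectrum.zeroLocus (J : Set A) ⊆ T ∧ ∀ i : ℤ, i ≤ n → ∀ x : A, x ∈ J → ∀ y : Dual2.HDT A T K i, x • y = 0 := by
  obtain ⟨P⟩ := GrothLib.FaltingsD3.nonempty_modelOf K a hKa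
  constructor
  · intro h
    by_cases hn : n < a
    · refine ⟨⊤, GrothLib.LCSupp.mem_top, fun i hi x _ y => ?_⟩
      haveI := P.subsingleton_HDT hT i (lt_of_le_of_lt hi hn)
      exact Subsingleton.elim _ _
    · have hfin := P.finite_H hK (a - 1) (by omega)
      obtain ⟨J, hJ, hk⟩ := (GrothLib.FaltingsD3.Cx.finite_HG_iff (L := P.cx (a - 1) (by omega)) hT hfin (n - a).toNat).1
        fun m hm => by
          obtain ⟨e⟩ := P.nonempty_equiv (a - 1) (by omega) hT (a + m) m (by push_cast; ring)
          haveI := h (a + m) (by omega)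
          exact Module.Finite.equiv e
      refine ⟨J, hJ, fun i hi x hx y => ?_⟩
      by_cases hia : i < a
      · haveI := P.subsingleton_HDT hT i hia
        exact Subsingleton.elim _ _
      · obtain ⟨e⟩ := P.nonempty_equiv (a - 1) (by omega) hT i (i - a).toNat (by push_cast; omega)
        refine e.injective ?_
        rw [map_smul, map_zero]
        exact hk _ (by omega) x hx _
  · rintro ⟨J, hJ, hk⟩ i hi
    by_cases hia : i < a
    · haveI := P.subsingleton_HDT hT i hia
      exact Module.Finite.of_finite
    · have hfin := P.finite_H hK (a - 1) (by omega)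
      have hG := (GrothLib.FaltingsD3.Cx.finite_HG_iff (L := P.cx (a - 1) (by omega)) hT hfin (i - a).toNat).2
        ⟨J, hJ, fun m hm x hx z => by
          obtain ⟨e⟩ := P.nonempty_equiv (a - 1) (by omega) hT (a + m) m (by push_cast; ring)
          obtain ⟨y, rfl⟩ := e.surjective z
          rw [← map_smul, hk (a + m) (by omega) x hx y, map_zero]⟩ _ le_rfl
      obtain ⟨e⟩ := P.nonempty_equiv (a - 1) (by omega) hT i (i - a).toNat (by push_cast; omega)
      exact Module.Finite.equiv e.symm

end Groth.Agent.S1764
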