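import Groth.Statements.S17642
import Groth.Agent.Lib.AffProjChart.Basic

set_option autoImplicit false
set_option linter.style.haveILetI false
universe u
open CategoryTheory AlgebraicGeometry
open DerSch

namespace Groth.Agent.S17642

/-- Consider Noetherian schemes X and Y together with a morphism f : X ⟶ Y that is locally of finite
type. Given affine open subsets U ⊆ X and V ⊆ Y such that f(U) ⊆ V, the restriction of f to U can be
written as a composite U ⟶ W ⟶ P ⟶ Y in which the first map U ⟶ W is an open immersion, the middle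
map W ⟶ P is a closed immersion, and the last map P ⟶ Y is both smooth and proper. In the published
section every morphism is taken to be separated as a standing convention; since the printed proof
never uses this, no separatedness hypothesis appears here. -/
theorem result {X Y : Scheme.{u}}
    [IsNoetherian X] [IsNoetherian Y] (f : X ⟶ Y) [LocallyOfFiniteType f]
    (U : X.Opens) (hU : IsAffineOpen U) (V : Y.Opens) (hV : IsAffineOpen V) (hUV : U ≤ f ⁻¹ᵁ V) :
    ∃ (W P : Scheme.{u}) (g : (U : Scheme.{u}) ⟶ W) (h : W ⟶ P) (k : P ⟶ Y),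
      IsOpenImmersion g ∧ IsClosedImmersion h ∧ Smooth k ∧ IsProper k ∧ g ≫ h ≫ k = U.ι ≫ f := by
    haveI : IsAffine (U : Scheme.{u}) := hU
    haveI : QuasiCompact hV.fromSpec := inferInstance
    let f' : (U : Scheme.{u}) ⟶ Spec Γ(Y, V) := hU.isoSpec.hom ≫ Spec.map (f.appLE V U hUV)
    have hf' : f' ≫ hV.fromSpec = U.ι ≫ f := by
      rw [Category.assoc, hV.SpecMap_appLE_fromSpec f hU hUV, ← Category.assoc, hU.isoSpec_hom_fromSpec]
    haveI : LocallyOfFiniteType (f' ≫ hV.fromSpec) := hf' ▸ inferInstance
    haveI : LocallyOfFiniteType f' := locallyOfFiniteType_of_comp f' hV.fromSpec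
    obtain ⟨W, P, g, h, p, h1, h2, h3, h4, h5⟩ :=
      GrothLib.AffProjChart.exists_factor (R := Γ(Y, V)) hV.fromSpec f'
    exact ⟨W, P, g, h, p, h1, h2, h3, h4, h5.trans hf'⟩

end Groth.Agent.S17642
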