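import Groth.Statements.S17646
import Groth.Agent.Lib.Uniform18.Basic
-- import your own Groth.Agent.* helpers here

set_option autoImplicit false
universe w v u
open CategoryTheory CategoryTheory.Limits
open GabLoc

namespace Groth.Agent.S17646

/-- Let C be a Grothendieck abelian category, E an indecomposable injective object of C (E is nonzero
and whenever E ≅ A ⊞ B one of A, B is zero) and S₁, S₂ localizing classes of objects (Serre classes
closed under coproducts). If there are an object of S₁ with a nonzero morphism to E and an object of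
S₂ with a nonzero morphism to E, then there is an object belonging to both S₁ and S₂ with a nonzero
morphism to E. Thus, on the set of isomorphism classes of indecomposable injectives, the subsets of
those having S-torsion, S localizing, are closed under finite intersections (they are also closed
under unions, and form a topology). The published definition of the injective spectrum says
injective objects without the word indecomposable; the published proof of this step uses that each
point of the spectrum is uniform, which is the indecomposable reading taken here. -/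
theorem result {C : Type u} [Category.{v} C] [Abelian C]
    [IsGrothendieckAbelian.{w} C] (E : C) [Injective E] (hE : ¬ IsZero E)
    (hind : ∀ (A B : C), Nonempty (E ≅ A ⊞ B) → IsZero A ∨ IsZero B)
    (S₁ S₂ : ObjectProperty C) (h₁ : GabLoc.IsLocalizing.{w} S₁) (h₂ : GabLoc.IsLocalizing.{w} S₂)
    (ht₁ : GabLoc.HasTorsion S₁ E) (ht₂ : GabLoc.HasTorsion S₂ E) :
    GabLoc.HasTorsion (S₁ ⊓ S₂) E := by
  obtain ⟨Y₁, hY₁, f₁, hf₁⟩ := ht₁
  obtain ⟨Y₂, hY₂, f₂, hf₂⟩ := ht₂
  haveI := h₁.isSerreClass
  haveI := h₂.isSerreClass
  have hI₁ : S₁ (Abelian.image f₁) := S₁.prop_of_epi (Abelian.factorThruImage f₁) hY₁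
  have hI₂ : S₂ (Abelian.image f₂) := S₂.prop_of_epi (Abelian.factorThruImage f₂) hY₂
  have hne : ∀ {Y : C} (f : Y ⟶ E), f ≠ 0 → ¬ IsZero (Abelian.image f) := fun {Y} f hf hz => hf (by
    rw [← Abelian.image.fac f, hz.eq_of_tgt (Abelian.factorThruImage f) 0, zero_comp])
  obtain ⟨T, x, y, hxy, hx⟩ := GrothLib.Uniform18.exists_meet.{w} hind (Abelian.image.ι f₁)
    (Abelian.image.ι f₂) (hne f₁ hf₁) (hne f₂ hf₂)
  let h := x ≫ Abelian.image.ι f₁
  let F₁ : MonoFactorisation h := { I := _, m := Abelian.image.ι f₁, e := x, fac := rfl }
  let F₂ : MonoFactorisation h := { I := _, m := Abelian.image.ι f₂, e := y, fac := hxy.symm }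
  haveI hm1 : Mono (image.lift F₁) := mono_of_mono_fac (image.lift_fac F₁)
  haveI hm2 : Mono (image.lift F₂) := mono_of_mono_fac (image.lift_fac F₂)
  refine ⟨Limits.image h, ⟨S₁.prop_of_mono (image.lift F₁) hI₁, S₂.prop_of_mono (image.lift F₂) hI₂⟩,
    image.ι h, fun h0 => hx ?_⟩
  refine (cancel_mono (Abelian.image.ι f₁)).1 ?_
  rw [zero_comp]
  exact (image.fac h).symm.trans (by rw [h0, comp_zero])

end Groth.Agent.S17646
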