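import Groth.Statements.S17647
import Groth.Agent.Lib.QCoh.Abelian
import Groth.Agent.Lib.QCoh.Qcqs
import Groth.Agent.Lib.OX.Support
import Mathlib.CategoryTheory.Localization.Adjunction
import Mathlib.CategoryTheory.Adjunction.Restrict

set_option autoImplicit false
set_option linter.style.haveILetI false
universe u
open CategoryTheory CategoryTheory.Limits AlgebraicGeometry
open QCohCat

namespace Groth.Agent.S17647

/-- Let X be a scheme and U ⊆ X an open subset whose inclusion U ⟶ X is quasi-compact, Z = X ∖ U. Then
the restriction functor QCoh(X) ⥤ QCoh(U) between the categories of quasi-coherent modules is a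
localization functor for the class of morphisms of quasi-coherent O_X-modules whose kernel and
cokernel (computed in O_X-modules) have support contained in Z: the category QCoh(U) is the quotient
of QCoh(X) by the localizing subcategory of quasi-coherent modules supported in Z, the direct image
along U ⟶ X being the fully faithful right adjoint. No hypothesis is made on X beyond the
quasi-compactness of U ⟶ X. -/
theorem result (X : Scheme.{u})
    (U : X.Opens) [QuasiCompact U.ι] :
    (ObjectProperty.lift (QCohCat.isQCoh (↑U : Scheme.{u}))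
        (ObjectProperty.ι (QCohCat.isQCoh X) ⋙ Scheme.Modules.restrictFunctor U.ι)
        (fun M => @Scheme.Modules.isQuasicoherent_restrictFunctor (↑U : Scheme.{u}) X U.ι
          inferInstance M.obj M.property)).IsLocalization
      (fun (A B : QCohCat.QCoh X) (f : A ⟶ B) =>
        CohB1.support (kernel f.hom) ⊆ (↑U : Set X)ᶜ ∧
          CohB1.support (cokernel f.hom) ⊆ (↑U : Set X)ᶜ) := by
  let R := Scheme.Modules.restrictFunctor U.ι
  let L : QCohCat.QCoh X ⥤ QCohCat.QCoh (↑U : Scheme.{u}) :=
    ObjectProperty.lift (QCohCat.isQCoh (↑U : Scheme.{u}))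
      (ObjectProperty.ι (QCohCat.isQCoh X) ⋙ Scheme.Modules.restrictFunctor U.ι)
      (fun M => @Scheme.Modules.isQuasicoherent_restrictFunctor (↑U : Scheme.{u}) X U.ι
        inferInstance M.obj M.property)
  let P : QCohCat.QCoh (↑U : Scheme.{u}) ⥤ QCohCat.QCoh X :=
    ObjectProperty.lift (QCohCat.isQCoh X)
      (ObjectProperty.ι (QCohCat.isQCoh (↑U : Scheme.{u})) ⋙ Scheme.Modules.pushforward U.ι)
      (fun M => by
        haveI : M.obj.IsQuasicoherent := M.property
        exact GrothLib.QCoh.isQuasicoherent_pushforward U.ι M.obj)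
  let adj : L ⊣ P := (Scheme.Modules.restrictAdjunction U.ι).restrictFullyFaithful
    (ObjectProperty.fullyFaithfulι _) (ObjectProperty.fullyFaithfulι _) (Iso.refl _) (Iso.refl _)
  haveI : P.Full := Functor.Full.of_comp_faithful_iso
    (F := P) (G := ObjectProperty.ι (QCohCat.isQCoh X))
    (H := ObjectProperty.ι (QCohCat.isQCoh (↑U : Scheme.{u})) ⋙ Scheme.Modules.pushforward U.ι) (Iso.refl _)
  haveI : P.Faithful := Functor.Faithful.of_comp_iso
    (F := P) (G := ObjectProperty.ι (QCohCat.isQCoh X))
    (H := ObjectProperty.ι (QCohCat.isQCoh (↑U : Scheme.{u})) ⋙ Scheme.Modules.pushforward U.ι) (Iso.refl _)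
  have hloc := adj.isLocalization
  suffices e : (fun (A B : QCohCat.QCoh X) (f : A ⟶ B) => CohB1.support (kernel f.hom) ⊆ (↑U : Set X)ᶜ ∧
      CohB1.support (cokernel f.hom) ⊆ (↑U : Set X)ᶜ) = ((MorphismProperty.isomorphisms _).inverseImage L) by
    have e' : (fun (A B : QCohCat.QCoh X) (f : A ⟶ B) => CohB1.support (kernel f.hom) ⊆ (↑U : Set X)ᶜ ∧
      CohB1.support (cokernel f.hom) ⊆ (↑U : Set X)ᶜ : MorphismProperty (QCohCat.QCoh X)) =
        (MorphismProperty.isomorphisms _).inverseImage L := e
    rw [e']; exact hloc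
  funext A B f
  refine propext ?_
  have hrange : (Set.range U.ι)ᶜ = (↑U : Set X)ᶜ := by rw [Scheme.Opens.range_ι]
  haveI : R.PreservesZeroMorphisms := Functor.preservesZeroMorphisms_of_additive R
  constructor
  · rintro ⟨hk, hc⟩
    haveI : IsIso (R.map f.hom) := by
      have hk' : IsZero (kernel (R.map f.hom)) :=
        (GrothLib.OX.isZero_restrict_of_support U.ι fun y hy => hk hy y.2).of_iso (PreservesKernel.iso R f.hom).symm
      have hc' : IsZero (cokernel (R.map f.hom)) :=
        (GrothLib.OX.isZero_restrict_of_support U.ι fun y hy => hc hy y.2).of_iso (PreservesCokernel.iso R f.hom).symm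
      haveI : Mono (R.map f.hom) := Preadditive.mono_of_kernel_zero (hk'.eq_zero_of_src _)
      haveI : Epi (R.map f.hom) := Preadditive.epi_of_cokernel_zero (hc'.eq_zero_of_tgt _)
      exact isIso_of_mono_of_epi _
    haveI : IsIso ((ObjectProperty.ι (QCohCat.isQCoh (↑U : Scheme.{u}))).map (L.map f)) := this
    exact isIso_of_fully_faithful (ObjectProperty.ι (QCohCat.isQCoh (↑U : Scheme.{u}))) (L.map f)
  · intro h
    haveI : IsIso (L.map f) := h
    haveI : IsIso (R.map f.hom) :=
      inferInstanceAs (IsIso ((ObjectProperty.ι (QCohCat.isQCoh (↑U : Scheme.{u}))).map (L.map f)))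
    refine ⟨hrange ▸ GrothLib.OX.support_subset_of_isZero_restrict U.ι ?_,
      hrange ▸ GrothLib.OX.support_subset_of_isZero_restrict U.ι ?_⟩
    · exact IsZero.of_iso (isZero_kernel_of_mono (R.map f.hom)) (PreservesKernel.iso R f.hom)
    · exact IsZero.of_iso (isZero_cokernel_of_epi (R.map f.hom)) (PreservesCokernel.iso R f.hom)

end Groth.Agent.S17647
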