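import Groth.Statements.S17649
import Groth.Agent.Lib.QCoh.Abelian
import Groth.Agent.Lib.QCoh.Qcqs
import Groth.Agent.Lib.QCoh.SupportExact
import Groth.Agent.Lib.OX.Support

set_option autoImplicit false
set_option linter.style.haveILetI false
universe u
open CategoryTheory CategoryTheory.Limits AlgebraicGeometry
open QCohCat

namespace Groth.Agent.S17649

/-- Suppose the scheme X is quasi-compact and quasi-separated, and take two quasi-compact opens U, V ⊆
X. Given a quasi-compact open W, denote by S_W the class of quasi-coherent O_X-modules that restrict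
to zero on W. Then S_{U ∩ V} is the smallest localizing subcategory of Qcoh(X) that contains both
S_U and S_V; concretely (this is the inclusion that is not formal): any quasi-coherent O_X-module F
satisfying F|_{U ∩ V} = 0 arises as an extension of a quasi-coherent module that is zero on V by a
quasi-coherent submodule that is zero on U — one can find a monomorphism A ⟶ F where A is
quasi-coherent, A|_U = 0 and (F/A)|_V = 0. -/
theorem result {X : Scheme.{u}}
    [CompactSpace X] [QuasiSeparatedSpace X] (U V : X.Opens) [QuasiCompact U.ι] [QuasiCompact V.ι]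
    (F : X.Modules) (hF : Coh.IsQCoh F) (h : IsZero ((Scheme.Modules.restrictFunctor (U ⊓ V).ι).obj F)) :
    ∃ (A : X.Modules) (i : A ⟶ F), Mono i ∧ Coh.IsQCoh A ∧
      IsZero ((Scheme.Modules.restrictFunctor U.ι).obj A) ∧
      IsZero ((Scheme.Modules.restrictFunctor V.ι).obj (cokernel i)) := by
  haveI : F.IsQuasicoherent := hF
  let adj := Scheme.Modules.restrictAdjunction U.ι
  let RU := Scheme.Modules.restrictFunctor U.ι
  let RV := Scheme.Modules.restrictFunctor V.ι
  let G := (Scheme.Modules.pushforward U.ι).obj (RU.obj F)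
  let η : F ⟶ G := adj.unit.app F
  haveI : (RU.obj F).IsQuasicoherent := Scheme.Modules.isQuasicoherent_restrictFunctor U.ι F
  haveI : G.IsQuasicoherent := GrothLib.QCoh.isQuasicoherent_pushforward U.ι _
  refine ⟨kernel η, kernel.ι η, inferInstance, GrothLib.QCoh.isQuasicoherent_kernel η, ?_, ?_⟩
  · haveI : RU.PreservesZeroMorphisms := Functor.preservesZeroMorphisms_of_additive RU
    haveI : IsIso (RU.map η) := IsIso.of_isIso_fac_right (adj.left_triangle_components F)
    exact IsZero.of_iso (isZero_kernel_of_mono (RU.map η)) (PreservesKernel.iso RU η)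
  · refine GrothLib.OX.isZero_restrict_of_support V.ι fun y hy => ?_
    have hF : ∀ z : X, z ∈ U → z ∈ V → Subsingleton (F.presheaf.stalk z) := fun z hzU hzV => by
      have := GrothLib.OX.support_subset_of_isZero_restrict (U ⊓ V).ι h
      exact not_not.1 fun hz => this hz ⟨⟨z, hzU, hzV⟩, rfl⟩
    have hG : (V.ι y) ∉ CohB1.support G := fun hG => hG <| subsingleton_of_forall_eq 0 fun e => by
      obtain ⟨W, hW, s, rfl⟩ := TopCat.Presheaf.exists_germ_eq G.presheaf e
      rw [← TopCat.Presheaf.germ_res_apply G.presheaf (homOfLE (inf_le_left : W ⊓ V ≤ W)) (V.ι y) ⟨hW, y.2⟩]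
      have hz : G.presheaf.map (homOfLE (inf_le_left : W ⊓ V ≤ W)).op s = 0 := by
        refine TopCat.Presheaf.section_ext (C := Ab.{u}) ⟨(RU.obj F).presheaf, (RU.obj F).isSheaf⟩
          (U.ι ⁻¹ᵁ (W ⊓ V)) _ _ fun z hz => ?_
        haveI : Subsingleton ↑((Scheme.Modules.toPresheaf X ⋙ TopCat.Presheaf.stalkFunctor Ab.{u} (U.ι z)).obj F) :=
          hF (U.ι z) z.2 hz.2
        exact @Subsingleton.elim _
          (((Scheme.Modules.restrictStalkNatIso U.ι z).app F).addCommGroupIsoToAddEquiv.toEquiv.subsingleton) _ _
      rw [hz, map_zero]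
    refine hG ?_
    have e : cokernel (kernel.ι η) ≅ Abelian.coimage η := Iso.refl _
    exact GrothLib.QCoh.support_subset_of_mono (Abelian.factorThruCoimage η) (by exact hy)

end Groth.Agent.S17649
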