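import Groth.Agent.Lib.DimPt.Basic
import Groth.Agent.Lib.Altitude.Scheme
import Mathlib.AlgebraicGeometry.ZariskisMainTheorem

set_option autoImplicit false
universe u
open CategoryTheory CategoryTheory.Limits AlgebraicGeometry TopologicalSpace

namespace Groth.Agent.S17653

open GrothLib

/-- The residue extension at a quasi-finite point is algebraic. -/
lemma trdeg_eq_zero_of_quasiFiniteAt {X Y : Scheme.{u}} (π : X ⟶ Y) {z : X} (hz : π.QuasiFiniteAt z) :
    (letI := (π.residueFieldMap z).hom.toAlgebra
     Algebra.trdeg (Y.residueField (π z)) (X.residueField z)) = 0 := by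
  letI := (π.residueFieldMap z).hom.toAlgebra
  have h : (π.residueFieldMap z).hom.QuasiFinite := by
    refine RingHom.QuasiFinite.of_comp (g := (Y.residue (π z)).hom) ?_
    rw [← CommRingCat.hom_comp, Scheme.residue_residueFieldMap, CommRingCat.hom_comp]
    exact (RingHom.QuasiFinite.of_finite
      (RingHom.Finite.of_surjective _ (X.residue_surjective z))).comp hz
  haveI : Algebra.QuasiFinite (Y.residueField (π z)) (X.residueField z) := h
  haveI : Module.Finite (Y.residueField (π z)) (X.residueField z) := Module.Finite.of_quasiFinite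
  haveI := Algebra.IsAlgebraic.of_finite (Y.residueField (π z)) (X.residueField z)
  exact trdeg_eq_zero


/-- Suppose X and Y are locally Noetherian schemes of the same pure dimension d (every irreducible
component of X and every irreducible component of Y has topological Krull dimension d), and π : X →
Y is a proper morphism between them. If there is a point x of X which is isolated in its fibre
π⁻¹(π(x)), i.e. some open neighbourhood of x meets that fibre only in x, then the image of π, with
the subspace topology, has the same dimension as Y. -/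
theorem result
    (X Y : Scheme.{u}) [IsLocallyNoetherian X] [IsLocallyNoetherian Y] (π : X ⟶ Y) [IsProper π]
    (d : WithBot ℕ∞) (hX : ∀ Z ∈ irreducibleComponents ↥X, topologicalKrullDim ↥Z = d)
    (hY : ∀ Z ∈ irreducibleComponents ↥Y, topologicalKrullDim ↥Z = d)
    (x : ↥X) (hx : ∃ U : X.Opens, x ∈ U ∧ ∀ x' ∈ U, π x' = π x → x' = x) :
    topologicalKrullDim ↥(Set.range (fun z : ↥X => π z)) = topologicalKrullDim ↥Y := by
  have hrange : IsClosed (Set.range fun z : X => π z) := π.isClosedMap.isClosed_range
  refine le_antisymm (topologicalKrullDim_subspace_le Y _) ((DimPt.dim_le_of_components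
    fun C hC => (hY C hC).le).trans ?_)
  obtain ⟨Z, hZ, hxZ⟩ : ∃ Z ∈ irreducibleComponents ↥X, x ∈ Z :=
    ⟨irreducibleComponent x, irreducibleComponent_mem_irreducibleComponents x, mem_irreducibleComponent⟩
  have hZc := isClosed_of_mem_irreducibleComponents Z hZ
  have hζ : IsGenericPoint hZ.1.genericPoint Z := hZ.1.isGenericPoint_genericPoint hZc
  have hxq : π.QuasiFiniteAt x := by
    obtain ⟨U, hxU, hU⟩ := hx
    rw [Scheme.Hom.quasiFiniteAt_iff_isOpen_singleton_asFiber, ← (π.fiberHomeo (π x)).isOpen_image,
      Set.image_singleton]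
    convert U.2.preimage (continuous_subtype_val (p := fun z => z ∈ π ⁻¹' {π x})) using 1
    ext ⟨z, hz⟩
    simp only [Scheme.Hom.asFiber, Homeomorph.apply_symm_apply, Set.mem_singleton_iff, Set.mem_preimage,
      Subtype.mk.injEq]
    exact ⟨fun h => h ▸ hxU, fun h => hU z h hz⟩
  have hζq : hZ.1.genericPoint ∈ π.quasiFiniteLocus :=
    (hζ.specializes hxZ).mem_open π.quasiFiniteLocus.2 hxq
  rw [← hX Z hZ]
  refine DimPt.dim_le_of_codimPt_le hZc hζ fun v hv => ?_
  have h := hζ.specializes hv
  obtain ⟨t, s, a, b, ht, -, ha, hb, hle, -⟩ := Altitude.dim_locQuot_add_trdeg π h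
  have ht0 : t = 0 := by exact_mod_cast ht.symm.trans (trdeg_eq_zero_of_quasiFiniteAt π hζq)
  rw [DimPt.ringKrullDim_locQuot] at ha hb
  refine le_trans ?_ (DimPt.codimPt_le_dim hrange (Set.mem_range_self _) (h.map π.continuous))
  rw [ha, hb]
  exact_mod_cast (by omega : a ≤ b)

end Groth.Agent.S17653
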