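import Groth.Statements.S17654
import Groth.Agent.Lib.FMAdj25.DefAmple
import Groth.Agent.S1589
-- import your own Groth.Agent.* helpers here

set_option autoImplicit false
set_option maxHeartbeats 1000000
set_option linter.style.haveILetI false
set_option backward.isDefEq.respectTransparency false
universe u
open CategoryTheory CategoryTheory.Limits AlgebraicGeometry TopologicalSpace
attribute [local instance] HasDerivedCategory.standard
open Curves

namespace Groth.Agent.S17654

/-- Let k be an algebraically closed field and B a connected scheme, proper over k, of dimension one,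
with at-worst-nodal singularities and H^1(B, O_B) = 0. Write ω_B for the dualizing module of B over
k, the cohomology sheaf in degree −1 of the upper-shriek pull-back of O_{Spec k} (the existence of
the upper-shriek functor is assumed), and similarly for closed subschemes of B. A locally free E on
such a curve is called deformation ample when it is generated by global sections and H^1(E ⊗ ω) = 0.
Let E be a finite locally free O_B-module such that (1) for every irreducible component Z of B,
taken with its reduced structure, E|_Z is generated by global sections, and (2) for some connected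
reduced closed subscheme B' of B whose support is a union of irreducible components of B, the
restriction E|_{B'} is deformation ample on B'. Then E is deformation ample: E is generated by
global sections and H^1(B, E ⊗ ω_B) = 0. (The source works over the complex numbers and with E of
positive rank; the proof is unchanged over any algebraically closed field, and rank zero is
trivially allowed.) -/
theorem result (k : Type u) [Field k] [IsAlgClosed k]
    (B : Scheme.{u}) [B.Over (Spec (CommRingCat.of k))] [IsProper (B ↘ Spec (CommRingCat.of k))]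
    [ConnectedSpace ↥B] (hdim : topologicalKrullDim ↥B = 1) (hnod : Curv2.AtWorstNodal k B)
    (hg : Subsingleton (Coh.HH B (Coh.structureModule B) 1))
    [DCoh.HasRpush (B ↘ Spec (CommRingCat.of k))] (h : DCoh.RpushPreservesQCoh (B ↘ Spec (CommRingCat.of k))) [DCoh.HasShriek (B ↘ Spec (CommRingCat.of k)) h]
    (OY : DCoh.DQCoh (Spec (CommRingCat.of k))) (hOY : Nonempty (OY.obj ≅ DCoh.inD (Spec (CommRingCat.of k)) (Coh.structureModule (Spec (CommRingCat.of k)))))
    (E : B.Modules) (hE : FlatMod.IsFinLocFree E)
    (hcomp : ∀ Z : B.IdealSheafData, IsIntegral Z.subscheme → topologicalKrullDim (Z.support : Set ↥B) = 1 →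
      Curv2.IsGloballyGenerated ((Scheme.Modules.pullback Z.subschemeι).obj E))
    (B' : B.IdealSheafData) [ConnectedSpace ↥B'.subscheme] [AlgebraicGeometry.IsReduced B'.subscheme]
    (hunion : ∀ x ∈ (B'.support : Set ↥B), ∃ Z : B.IdealSheafData, IsIntegral Z.subscheme ∧
      topologicalKrullDim (Z.support : Set ↥B) = 1 ∧ (Z.support : Set ↥B) ⊆ B'.support ∧ x ∈ (Z.support : Set ↥B))
    [DCoh.HasRpush (B'.subschemeι ≫ (B ↘ Spec (CommRingCat.of k)))] (h' : DCoh.RpushPreservesQCoh (B'.subschemeι ≫ (B ↘ Spec (CommRingCat.of k))))
    [DCoh.HasShriek (B'.subschemeι ≫ (B ↘ Spec (CommRingCat.of k))) h']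
    (hgg' : Curv2.IsGloballyGenerated ((Scheme.Modules.pullback B'.subschemeι).obj E))
    (hvan' : Subsingleton (Coh.HH B'.subscheme (CohB1.tensorMod ((Scheme.Modules.pullback B'.subschemeι).obj E)
      (DCoh.dualizingMod (B'.subschemeι ≫ (B ↘ Spec (CommRingCat.of k))) h' OY 1)) 1)) :
    Curv2.IsGloballyGenerated E ∧
      Subsingleton (Coh.HH B (CohB1.tensorMod E (DCoh.dualizingMod (B ↘ Spec (CommRingCat.of k)) h OY 1)) 1) := by
  open GrothLib GrothLib.SubCurve16 GrothLib.CurveSerre11 in
  haveI := Euler.isNoetherian_of_proper (X := B) k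
  haveI := Euler.isNoetherian_of_proper (X := B) k
  obtain ⟨hred, hω⟩ := nodal_data h OY hdim hOY (equidim_of_connected (k := k) hdim) hnod
  haveI := hred
  have hdimeq : ∀ J : B.IdealSheafData, topologicalKrullDim (J.support : Set B) = topologicalKrullDim J.subscheme :=
    fun J => GrothLib.Euler.homeomorph_range_dim J.subschemeι J.range_subschemeι
  have hggη : ∀ η ∈ genericPoints (B : Type u),
      Curv2.IsGloballyGenerated ((Scheme.Modules.pullback (JJ ({η} : Set B)).subschemeι).obj E) := by
    intro η hη
    have hd1 : topologicalKrullDim (JJ ({η} : Set B)).subscheme = 1 :=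
      dim_JJ hdim (Set.singleton_subset_iff.2 hη) (Set.singleton_nonempty η)
    exact hcomp _ (GrothLib.Euler.isIntegral_vanishingIdeal _ isIrreducible_singleton.closure)
      ((hdimeq _).trans hd1)
  have hggE : Curv2.IsGloballyGenerated E := by
    refine GrothLib.FMAdj25.isGloballyGenerated_of_cover (k := k) hE fun x => ?_
    obtain ⟨η, hη, hx⟩ : ∃ η ∈ genericPoints (B : Type u), x ∈ closure ({η} : Set B) := by
      let Z := irreducibleComponent x
      have hZ : Z ∈ irreducibleComponents (B : Type u) := irreducibleComponent_mem_irreducibleComponents x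
      have hcl := hZ.1.genericPoint_closure_eq.trans (isClosed_of_mem_irreducibleComponents Z hZ).closure_eq
      refine ⟨hZ.1.genericPoint, ?_, hcl.symm ▸ mem_irreducibleComponent⟩
      show closure ({hZ.1.genericPoint} : Set B) ∈ irreducibleComponents (B : Type u)
      exact hcl.symm ▸ hZ
    refine ⟨JJ ({η} : Set B), (support_JJ _).ge hx, ?_, hggη η hη⟩
    exact GrothLib.NodeSplit16.subsingleton_H1_chain k hdim hnod hg hE (Set.singleton_nonempty η)
      (fun η' hη' _ => hggη η' hη') ((genericPoints (B : Type u) \ {η}).ncard) {η}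
      (Set.singleton_subset_iff.2 hη) rfl subset_rfl isIrreducible_singleton.closure.isConnected
  refine ⟨hggE, ?_⟩
  by_contra hne
  have h0 := GrothLib.ConnH0.finrank_H0_eq_one k (X := B)
  obtain ⟨ψ, hψ⟩ := GrothLib.FMAdj25.exists_epi_structure h OY hOY hdim.le h0 hω hE hggE hne
  haveI := hψ
  let i := B'.subschemeι
  letI : B'.subscheme.Over (Spec (CommRingCat.of k)) := ⟨i ≫ B ↘ Spec (CommRingCat.of k)⟩
  haveI : IsProper (B'.subscheme ↘ Spec (CommRingCat.of k)) :=
    inferInstanceAs (IsProper (i ≫ B ↘ Spec (CommRingCat.of k)))
  haveI := GrothLib.Euler.isNoetherian_of_proper (X := B'.subscheme) k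
  have hd' : topologicalKrullDim B'.subscheme ≤ 1 :=
    (Scheme.Hom.isClosedEmbedding i).isInducing.topologicalKrullDim_le.trans hdim.le
  have hequi : ∀ Z ∈ irreducibleComponents (B'.subscheme : Type u), topologicalKrullDim Z = 1 := by
    intro C hC
    refine le_antisymm ((topologicalKrullDim_subspace_le _ C).trans hd') ?_
    obtain ⟨η', rfl⟩ : ∃ η', closure ({η'} : Set B'.subscheme) = C :=
      ⟨hC.1.genericPoint, hC.1.genericPoint_closure_eq.trans (isClosed_of_mem_irreducibleComponents C hC).closure_eq⟩
    obtain ⟨Z, hZi, hZ1, hZB, hηZ⟩ := hunion (i η') (B'.range_subschemeι.le ⟨η', rfl⟩)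
    haveI := hZi
    have hZirr : _root_.IsIrreducible (Z.support : Set B) := by
      rw [← Z.range_subschemeι, ← Set.image_univ]
      exact (IrreducibleSpace.isIrreducible_univ _).image _ Z.subschemeι.continuous.continuousOn
    have hzcl' : closure ({hZirr.genericPoint} : Set B) = (Z.support : Set B) :=
      hZirr.genericPoint_closure_eq.trans Z.support.isClosed.closure_eq
    obtain ⟨w, hw⟩ := B'.range_subschemeι.ge (hZB (show hZirr.genericPoint ∈ (Z.support : Set B) from hzcl'.le (subset_closure (Set.mem_singleton _))))
    have hzcl : closure ({hZirr.genericPoint} : Set B) = (Z.support : Set B) :=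
      hZirr.genericPoint_closure_eq.trans Z.support.isClosed.closure_eq
    have hsp : w ⤳ η' := (Scheme.Hom.isClosedEmbedding i).isInducing.specializes_iff.1
      (show i w ⤳ i η' from hw.symm ▸ specializes_iff_mem_closure.2 (hzcl.symm ▸ hηZ))
    have hwη : w = η' := GrothLib.FinAff13.mem_genericPoints_iff.1 hC w hsp
    have himg : i '' closure ({η'} : Set B'.subscheme) = (Z.support : Set B) := by
      rw [← (Scheme.Hom.isClosedEmbedding i).closure_image_eq, Set.image_singleton, ← hwη, hw, hzcl]
    rw [← hZ1]
    refine le_of_eq (IsHomeomorph.topologicalKrullDim_eq _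
      ((Homeomorph.setCongr himg.symm).trans
        ((Scheme.Hom.isClosedEmbedding i).isEmbedding.homeomorphImage _).symm).isHomeomorph)
  haveI : Epi ((Scheme.Modules.pullback i).map ψ ≫ (GrothLib.OX.pullUnitIso i).hom) := by
    haveI := (Scheme.Modules.pullbackPushforwardAdjunction i).isLeftAdjoint
    exact epi_comp' ((Scheme.Modules.pullback i).map_epi ψ) inferInstance
  haveI : Nonempty B'.subscheme := ConnectedSpace.toNonempty
  haveI : DCoh.HasRpush (B'.subscheme ↘ Spec (CommRingCat.of k)) :=
    inferInstanceAs (DCoh.HasRpush (B'.subschemeι ≫ B ↘ Spec (CommRingCat.of k)))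
  haveI : DCoh.HasShriek (B'.subscheme ↘ Spec (CommRingCat.of k)) h' := ‹DCoh.HasShriek (B'.subschemeι ≫ (B ↘ Spec (CommRingCat.of k))) h'›
  exact GrothLib.FMAdj25.not_epi_structure h' OY hOY hd' hequi hvan'
    ((Scheme.Modules.pullback i).map ψ ≫ (GrothLib.OX.pullUnitIso i).hom) inferInstance

end Groth.Agent.S17654
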