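import Groth.Statements.S17655
import Groth.Agent.Lib.CurveMult.GGCurve
import Groth.Agent.Lib.Euler.VB

set_option autoImplicit false
universe u
open CategoryTheory CategoryTheory.Limits AlgebraicGeometry TopologicalSpace
attribute [local instance] HasDerivedCategory.standard
open Curves

namespace Groth.Agent.S17655

/-- Let k be an algebraically closed field and B a connected scheme, proper over k, of dimension one,
with at-worst-nodal singularities and H^1(B, O_B) = 0, and let ω_B be its dualizing module over k
(the cohomology sheaf in degree −1 of the upper-shriek pull-back of O_{Spec k}; the existence of the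
upper-shriek functor is assumed). Call a finite locally free O_B-module deformation ample when it is
generated by global sections and H^1(B, E ⊗ ω_B) = 0. If φ : E₁ → E₂ is a morphism of finite locally
free O_B-modules whose cokernel is a torsion module (every point of its support is closed) and E₁ is
deformation ample, then E₂ is deformation ample. (The source states this for a family of prestable
genus-zero curves over an arbitrary base T, with relative global generation and R^1 of the direct
image in place of global generation and H^1; this is the case T = Spec k of a field base, the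
general case needing relative duality not available here. The source also assumes the sheaves
nonzero (positive rank), which the conclusion does not need.) -/
theorem result (k : Type u) [Field k] [IsAlgClosed k]
    (B : Scheme.{u}) [B.Over (Spec (CommRingCat.of k))] [IsProper (B ↘ Spec (CommRingCat.of k))]
    [ConnectedSpace ↥B] (hdim : topologicalKrullDim ↥B = 1) (hnod : Curv2.AtWorstNodal k B)
    (hg : Subsingleton (Coh.HH B (Coh.structureModule B) 1))
    [DCoh.HasRpush (B ↘ Spec (CommRingCat.of k))] (h : DCoh.RpushPreservesQCoh (B ↘ Spec (CommRingCat.of k))) [DCoh.HasShriek (B ↘ Spec (CommRingCat.of k)) h]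
    (OY : DCoh.DQCoh (Spec (CommRingCat.of k))) (hOY : Nonempty (OY.obj ≅ DCoh.inD (Spec (CommRingCat.of k)) (Coh.structureModule (Spec (CommRingCat.of k)))))
    (E₁ E₂ : B.Modules) (hE₁ : FlatMod.IsFinLocFree E₁) (hE₂ : FlatMod.IsFinLocFree E₂) (φ : E₁ ⟶ E₂)
    (htors : ∀ x ∈ CohB1.support (cokernel φ), IsClosed ({x} : Set ↥B))
    (h₁ : (Curv2.IsGloballyGenerated E₁ ∧ Subsingleton (Coh.HH B (CohB1.tensorMod E₁ (DCoh.dualizingMod (B ↘ Spec (CommRingCat.of k)) h OY 1)) 1))) :
    (Curv2.IsGloballyGenerated E₂ ∧ Subsingleton (Coh.HH B (CohB1.tensorMod E₂ (DCoh.dualizingMod (B ↘ Spec (CommRingCat.of k)) h OY 1)) 1)) := by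
  haveI := GrothLib.Euler.isNoetherian_of_proper (X := B) k
  have hEc₁ := GrothLib.Euler.isCoh_of_isFinLocFree hE₁
  have hEc₂ := GrothLib.Euler.isCoh_of_isFinLocFree hE₂
  have hfin := GrothLib.CurveMult.finite_support_of_closed_points (GrothLib.QCoh.isCoh_cokernel φ hEc₁ hEc₂) htors
  have h1 := GrothLib.CurveMult.subsingleton_H1_of_gg k hdim.le hg hEc₁ h₁.1
  let S := ShortComplex.mk φ (cokernel.π φ) (cokernel.condition φ)
  have hS : S.Exact := ShortComplex.exact_of_g_is_cokernel _ (cokernelIsCokernel φ)
  haveI : Epi S.g := inferInstanceAs (Epi (cokernel.π φ))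
  refine ⟨GrothLib.CurveMult.isGloballyGenerated_extension k hS
    (GrothLib.CurveMult.subsingleton_H1_of_epi k hdim.le (Abelian.factorThruImage φ) h1) h₁.1
    (GrothLib.CurveMult.isGloballyGenerated_of_finite_support hfin htors), ?_⟩
  let T := (DCoh.tensorBi (X := B)).flip.obj (DCoh.dualizingMod (B ↘ Spec (CommRingCat.of k)) h OY 1)
  haveI : Epi (T.map (cokernel.π φ)) := inferInstance
  have hT : (S.map T).Exact := ShortComplex.exact_of_g_is_cokernel _ (CokernelCofork.mapIsColimit _ (cokernelIsCokernel φ) T)
  haveI : Epi (S.map T).g := inferInstanceAs (Epi (T.map (cokernel.π φ)))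
  have hsub : CohB1.support (CohB1.tensorMod (cokernel φ) (DCoh.dualizingMod (B ↘ Spec (CommRingCat.of k)) h OY 1)) ⊆ CohB1.support (cokernel φ) :=
    GrothLib.CurveMult.support_tensor_subset _ _
  exact GrothLib.CurveMult.subsingleton_H1_of_rightExact k hdim.le hT h₁.2
    (GrothLib.Euler.subsingleton_HH_of_finite_support _ (hfin.subset hsub) (fun x hx => htors x (hsub hx)) 1 le_rfl)

end Groth.Agent.S17655
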