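import Groth.Statements.S17656
import Groth.Agent.Lib.CurveMult.GGCurve
import Groth.Agent.Lib.Euler.VB

set_option autoImplicit false
universe u
open CategoryTheory CategoryTheory.Limits AlgebraicGeometry TopologicalSpace
attribute [local instance] HasDerivedCategory.standard
open Curves

namespace Groth.Agent.S17656

/-- Let k be an algebraically closed field and B a connected scheme, proper over k, of dimension one,
with at-worst-nodal singularities and H^1(B, O_B) = 0, and let ω_B be its dualizing module over k
(the cohomology sheaf in degree −1 of the upper-shriek pull-back of O_{Spec k}; the existence of the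
upper-shriek functor is assumed). Call a finite locally free O_B-module deformation ample when it is
generated by global sections and H^1(B, E ⊗ ω_B) = 0. If 0 → E₁ → E₂ → E₃ → 0 is a short exact
sequence of finite locally free O_B-modules with E₁ and E₃ deformation ample, then E₂ is deformation
ample. (The source states this for a family of prestable genus-zero curves over an arbitrary base T,
with relative global generation and R^1 of the direct image in place of global generation and H^1;
this is the case T = Spec k of a field base, the general case needing relative duality not available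
here. The source also assumes the sheaves nonzero (positive rank), which the conclusion does not
need.) -/
theorem result (k : Type u) [Field k] [IsAlgClosed k]
    (B : Scheme.{u}) [B.Over (Spec (CommRingCat.of k))] [IsProper (B ↘ Spec (CommRingCat.of k))]
    [ConnectedSpace ↥B] (hdim : topologicalKrullDim ↥B = 1) (hnod : Curv2.AtWorstNodal k B)
    (hg : Subsingleton (Coh.HH B (Coh.structureModule B) 1))
    [DCoh.HasRpush (B ↘ Spec (CommRingCat.of k))] (h : DCoh.RpushPreservesQCoh (B ↘ Spec (CommRingCat.of k))) [DCoh.HasShriek (B ↘ Spec (CommRingCat.of k)) h]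
    (OY : DCoh.DQCoh (Spec (CommRingCat.of k))) (hOY : Nonempty (OY.obj ≅ DCoh.inD (Spec (CommRingCat.of k)) (Coh.structureModule (Spec (CommRingCat.of k)))))
    (S : ShortComplex B.Modules) (hS : S.ShortExact)
    (hE₁ : FlatMod.IsFinLocFree S.X₁) (hE₂ : FlatMod.IsFinLocFree S.X₂) (hE₃ : FlatMod.IsFinLocFree S.X₃)
    (h₁ : (Curv2.IsGloballyGenerated S.X₁ ∧ Subsingleton (Coh.HH B (CohB1.tensorMod S.X₁ (DCoh.dualizingMod (B ↘ Spec (CommRingCat.of k)) h OY 1)) 1))) (h₃ : (Curv2.IsGloballyGenerated S.X₃ ∧ Subsingleton (Coh.HH B (CohB1.tensorMod S.X₃ (DCoh.dualizingMod (B ↘ Spec (CommRingCat.of k)) h OY 1)) 1))) :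
    (Curv2.IsGloballyGenerated S.X₂ ∧ Subsingleton (Coh.HH B (CohB1.tensorMod S.X₂ (DCoh.dualizingMod (B ↘ Spec (CommRingCat.of k)) h OY 1)) 1)) := by
  haveI := GrothLib.Euler.isNoetherian_of_proper (X := B) k
  haveI := hS.mono_f
  haveI := hS.epi_g
  have h1 := GrothLib.CurveMult.subsingleton_H1_of_gg k hdim.le hg (GrothLib.Euler.isCoh_of_isFinLocFree hE₁) h₁.1
  haveI : Epi (kernel.lift S.g S.f S.zero) := (ShortComplex.exact_iff_epi_kernel_lift S).1 hS.exact
  refine ⟨GrothLib.CurveMult.isGloballyGenerated_extension k hS.exact
    (GrothLib.CurveMult.subsingleton_H1_of_epi k hdim.le (kernel.lift S.g S.f S.zero) h1) h₁.1 h₃.1, ?_⟩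
  let T := (DCoh.tensorBi (X := B)).flip.obj (DCoh.dualizingMod (B ↘ Spec (CommRingCat.of k)) h OY 1)
  haveI : Epi (T.map S.g) := inferInstance
  have hT : (S.map T).Exact := ShortComplex.exact_of_g_is_cokernel _ (CokernelCofork.mapIsColimit _ hS.gIsCokernel T)
  haveI : Epi (S.map T).g := inferInstanceAs (Epi (T.map S.g))
  exact GrothLib.CurveMult.subsingleton_H1_of_rightExact k hdim.le hT h₁.2 h₃.2

end Groth.Agent.S17656
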