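import Groth.Statements.S17657
import Groth.Agent.Lib.CurveMult.GGCurve
import Groth.Agent.Lib.Euler.VB
import Groth.Agent.Lib.OX.LocFreeTensor
import Groth.Agent.Lib.CMReg.Free

set_option autoImplicit false
universe u
open CategoryTheory CategoryTheory.Limits AlgebraicGeometry TopologicalSpace
attribute [local instance] HasDerivedCategory.standard
open Curves

namespace Groth.Agent.S17657

/-- Let k be an algebraically closed field and B a connected scheme, proper over k, of dimension one,
with at-worst-nodal singularities and H^1(B, O_B) = 0, and let ω_B be its dualizing module over k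
(the cohomology sheaf in degree −1 of the upper-shriek pull-back of O_{Spec k}; the existence of the
upper-shriek functor is assumed). Call a finite locally free O_B-module deformation ample when it is
generated by global sections and H^1(B, E ⊗ ω_B) = 0. If E is a deformation ample finite locally
free O_B-module then every tensor power E^{⊗ n} with n ≥ 1 is deformation ample. (The source states
this for a family of prestable genus-zero curves over an arbitrary base T, with relative global
generation and R^1 of the direct image in place of global generation and H^1; this is the case T =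
Spec k of a field base, the general case needing relative duality not available here. The source
also assumes the sheaves nonzero (positive rank), which the conclusion does not need.) -/
theorem result (k : Type u) [Field k] [IsAlgClosed k]
    (B : Scheme.{u}) [B.Over (Spec (CommRingCat.of k))] [IsProper (B ↘ Spec (CommRingCat.of k))]
    [ConnectedSpace ↥B] (hdim : topologicalKrullDim ↥B = 1) (hnod : Curv2.AtWorstNodal k B)
    (hg : Subsingleton (Coh.HH B (Coh.structureModule B) 1))
    [DCoh.HasRpush (B ↘ Spec (CommRingCat.of k))] (h : DCoh.RpushPreservesQCoh (B ↘ Spec (CommRingCat.of k))) [DCoh.HasShriek (B ↘ Spec (CommRingCat.of k)) h]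
    (OY : DCoh.DQCoh (Spec (CommRingCat.of k))) (hOY : Nonempty (OY.obj ≅ DCoh.inD (Spec (CommRingCat.of k)) (Coh.structureModule (Spec (CommRingCat.of k)))))
    (E : B.Modules) (hE : FlatMod.IsFinLocFree E) (h₁ : (Curv2.IsGloballyGenerated E ∧ Subsingleton (Coh.HH B (CohB1.tensorMod E (DCoh.dualizingMod (B ↘ Spec (CommRingCat.of k)) h OY 1)) 1))) (n : ℕ) (hn : 1 ≤ n) :
    (Curv2.IsGloballyGenerated (CohB1.tensorPow E n) ∧ Subsingleton (Coh.HH B (CohB1.tensorMod (CohB1.tensorPow E n) (DCoh.dualizingMod (B ↘ Spec (CommRingCat.of k)) h OY 1)) 1)) := by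
  haveI := GrothLib.Euler.isNoetherian_of_proper (X := B) k
  let ω := (DCoh.dualizingMod (B ↘ Spec (CommRingCat.of k)) h OY 1)
  have key : ∀ m : ℕ, FlatMod.IsFinLocFree (CohB1.tensorPow E m) ∧ Curv2.IsGloballyGenerated (CohB1.tensorPow E m) ∧
      Subsingleton (Coh.HH B (CohB1.tensorMod (CohB1.tensorPow E (m + 1)) ω) 1) ∧
      Curv2.IsGloballyGenerated (CohB1.tensorPow E (m + 1)) := by
    intro m
    have step : ∀ P : B.Modules, FlatMod.IsFinLocFree P → Curv2.IsGloballyGenerated P →
        Subsingleton (Coh.HH B (CohB1.tensorMod (CohB1.tensorMod P E) ω) 1) ∧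
          Curv2.IsGloballyGenerated (CohB1.tensorMod P E) := by
      intro P hP hPg
      obtain ⟨l, p, hp⟩ := GrothLib.CurveMult.exists_epi_freeMod (GrothLib.Euler.isCoh_of_isFinLocFree hP) hPg
      haveI := hp
      let e : CohB1.tensorMod (FlatMod.freeMod B l) E ≅ ∐ fun _ : Fin l => E :=
        GrothLib.CMReg.tensorSigmaIso (fun _ : Fin l => Coh.structureModule B) E ≪≫
          Sigma.mapIso fun _ => GrothLib.OX.tensorUnitLeftIso E
      let T := (DCoh.tensorBi (X := B)).flip.obj E
      let W := (DCoh.tensorBi (X := B)).flip.obj ω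
      let f : (∐ fun _ : Fin l => E) ⟶ CohB1.tensorMod P E := e.inv ≫ T.map p
      haveI : T.PreservesEpimorphisms := inferInstance
      have hTp : Epi (T.map p) := T.map_epi p
      haveI : Epi f := @epi_comp _ _ _ _ _ e.inv inferInstance (T.map p) hTp
      refine ⟨?_, GrothLib.CurveMult.isGloballyGenerated_of_epi f (GrothLib.CurveMult.isGloballyGenerated_sigma h₁.1 l)⟩
      let g : (∐ fun _ : Fin l => CohB1.tensorMod E ω) ⟶ CohB1.tensorMod (CohB1.tensorMod P E) ω :=
        (GrothLib.CMReg.tensorSigmaIso (fun _ : Fin l => E) ω).inv ≫ W.map f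
      haveI : Epi g := epi_comp _ (W.map f)
      exact GrothLib.CurveMult.subsingleton_H1_of_epi k hdim.le g
        (GrothLib.CMReg.subsingleton_HH_sigma (fun _ : Fin l => CohB1.tensorMod E ω) fun _ => h₁.2)
    induction m with
    | zero =>
      have hO : Curv2.IsGloballyGenerated (Coh.structureModule B) := by
        let q : (SheafOfModules.free (R := B.ringCatSheaf) PUnit.{u+1} : B.Modules) ⟶ Coh.structureModule B :=
          Sigma.desc fun _ : PUnit.{u+1} => 𝟙 (Coh.structureModule B)
        refine ⟨PUnit.{u+1}, q, ⟨fun {N} g g' hgg => ?_⟩⟩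
        have h1 := congrArg (fun f => Sigma.ι (fun _ : PUnit.{u+1} => Coh.structureModule B) PUnit.unit ≫ f) hgg
        have h2 : Sigma.ι (fun _ : PUnit.{u+1} => Coh.structureModule B) PUnit.unit ≫ q = 𝟙 (Coh.structureModule B) :=
          Sigma.ι_desc _ _
        exact (Category.id_comp g).symm.trans ((congrArg (· ≫ g) h2).symm.trans ((Category.assoc _ _ _).trans
          (h1.trans ((Category.assoc _ _ _).symm.trans ((congrArg (· ≫ g') h2).trans (Category.id_comp g'))))))
      have hl : FlatMod.IsFinLocFree (Coh.structureModule B) :=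
        GrothLib.Euler.isFinLocFree_of_isInvertible GrothLib.Euler.isInvertible_structure
      exact ⟨hl, hO, step _ hl hO⟩
    | succ m ih =>
      have hl : FlatMod.IsFinLocFree (CohB1.tensorPow E (m + 1)) := GrothLib.OX.isFinLocFree_tensor ih.1 hE
      exact ⟨hl, ih.2.2.2, step _ hl ih.2.2.2⟩
  obtain ⟨m, rfl⟩ := Nat.exists_eq_succ_of_ne_zero (show n ≠ 0 by omega)
  exact ⟨(key m).2.2.2, (key m).2.2.1⟩

end Groth.Agent.S17657
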