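import Groth.Statements.S17658
import Mathlib

set_option autoImplicit false
set_option linter.all false
universe u
open Surf

namespace Groth.Agent.S17658

/-- In the polynomial ring k[T₀,T₁,U,V] over a field k, bigraded by deg T₀ = deg T₁ = (0,1), deg U =
(1,−1), deg V = (1,0) (the Cox ring of the Hirzebruch surface F₁; its piece of bidegree (a,b) is the
space of sections of O(a(E+F)+bF)), let S_(a,b) denote the k-span of the monomials of bidegree
(a,b), so that S_(0,c) is the space of forms of degree c in T₀, T₁. A subspace W ⊆ S_(a,b) is called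
c-generating when W·S_(0,c) = S_(a,b+c). Fix a monomial order and natural numbers a, b, c, and let
W₀(a,b,c) be the set of monomials U^i V^(a−i) T₀^(b+i−j(c+1)) T₁^(j(c+1)) with 0 ≤ i ≤ a, j ≥ 0 and
j(c+1) < b+i, together with the monomials U^i V^(a−i) T₁^(b+i) with 0 ≤ i ≤ a. If every monomial of
W₀(a,b,c) is the leading monomial of some nonzero element of W, then W is c-generating. (The source
fixes the graded lexicographic order with U > V > T₀ > T₁ and works over the complex numbers; its
argument uses only that leading monomials are multiplicative and that W₀(a,b,c)·S_(0,c) contains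
every monomial of S_(a,b+c), so any monomial order and any field are allowed here. The printed index
j runs from 1; with that range the statement fails already for a = 0, b = c = 1 and W spanned by T₁,
and the range from 0 used here is the one matching the accompanying dimension count.) Variables are
indexed T₀ = 0, T₁ = 1, U = 2, V = 3. -/
theorem result (k : Type u) [Field k]
    (mo : MonomialOrder (Fin 4)) (a b c : ℕ) (W : Submodule k (MvPolynomial (Fin 4) k))
    (hW : W ≤ Submodule.span k {f : MvPolynomial (Fin 4) k | ∃ e : Fin 4 →₀ ℕ, e 2 + e 3 = a ∧ e 0 + e 1 = b + e 2 ∧ f = MvPolynomial.monomial e 1})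
    (h₁ : ∀ i j : ℕ, i ≤ a → j * (c + 1) < b + i → ∃ w ∈ W, w ≠ 0 ∧
      mo.degree w = Finsupp.single 0 (b + i - j * (c + 1)) + Finsupp.single 1 (j * (c + 1)) +
        Finsupp.single 2 i + Finsupp.single 3 (a - i))
    (h₂ : ∀ i : ℕ, i ≤ a → ∃ w ∈ W, w ≠ 0 ∧
      mo.degree w = Finsupp.single 1 (b + i) + Finsupp.single 2 i + Finsupp.single 3 (a - i)) :
    W * Submodule.span k {f : MvPolynomial (Fin 4) k | ∃ e : Fin 4 →₀ ℕ, e 2 + e 3 = 0 ∧ e 0 + e 1 = c + e 2 ∧ f = MvPolynomial.monomial e 1} =
      Submodule.span k {f : MvPolynomial (Fin 4) k | ∃ e : Fin 4 →₀ ℕ, e 2 + e 3 = a ∧ e 0 + e 1 = (b + c) + e 2 ∧ f = MvPolynomial.monomial e 1} := by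
  classical
  let P : ℕ → ℕ → (Fin 4 →₀ ℕ) → Prop := fun a b e => e 2 + e 3 = a ∧ e 0 + e 1 = b + e 2
  let M : ℕ → ℕ → Submodule k (MvPolynomial (Fin 4) k) := fun a b =>
    Submodule.span k {f : MvPolynomial (Fin 4) k | ∃ e : Fin 4 →₀ ℕ, e 2 + e 3 = a ∧ e 0 + e 1 = b + e 2 ∧ f = MvPolynomial.monomial e 1}
  change W * M 0 c = M a (b + c)
  have hmon : ∀ a b e, P a b e → MvPolynomial.monomial e (1 : k) ∈ M a b := fun a b e he =>
    Submodule.subset_span ⟨e, he.1, he.2, rfl⟩
  have hle : W * M 0 c ≤ M a (b + c) := by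
    refine (Submodule.mul_le.mpr fun x hx y hy => Submodule.mul_mem_mul (hW hx) hy).trans ?_
    rw [Submodule.span_mul_span, Submodule.span_le]
    rintro _ ⟨_, ⟨e, he1, he2, rfl⟩, _, ⟨e', he1', he2', rfl⟩, rfl⟩
    simp only [MvPolynomial.monomial_mul, mul_one, SetLike.mem_coe]
    refine hmon _ _ _ ⟨?_, ?_⟩ <;> simp only [Finsupp.add_apply] <;> omega
  have hsupp : ∀ f ∈ M a (b + c), ∀ e ∈ f.support, P a (b + c) e := by
    intro f hf
    induction hf using Submodule.span_induction with
    | mem x hx =>
      obtain ⟨e, he1, he2, rfl⟩ := hx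
      intro d hd
      rw [MvPolynomial.support_monomial, if_neg one_ne_zero, Finset.mem_singleton] at hd
      exact hd ▸ ⟨he1, he2⟩
    | zero => simp
    | add x y _ _ hx hy =>
      intro d hd
      rcases Finset.mem_union.mp (MvPolynomial.support_add hd) with h | h
      · exact hx d h
      · exact hy d h
    | smul r x _ hx => intro d hd; exact hx d (MvPolynomial.support_smul hd)
  -- every target monomial is the leading monomial of some product
  have hlead : ∀ e, P a (b + c) e → ∃ g ∈ W * M 0 c, g.coeff e ≠ 0 ∧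
      ∀ e' ∈ g.support, mo.toSyn e' ≤ mo.toSyn e := by
    intro e he
    obtain ⟨he1, he2⟩ := he
    obtain ⟨w, hw, hw0, d, hd, hde0, hde1, hde2, hde3⟩ : ∃ w ∈ W, w ≠ 0 ∧ ∃ d, mo.degree w = d ∧
        d 0 ≤ e 0 ∧ d 1 ≤ e 1 ∧ d 2 = e 2 ∧ d 3 = e 3 := by
      by_cases hq : b + e 2 ≤ e 1
      · obtain ⟨w, hw, hw0, hd⟩ := h₂ (e 2) (by omega)
        refine ⟨w, hw, hw0, _, hd, ?_⟩
        refine ⟨?_, ?_, ?_, ?_⟩ <;> simp <;> omega
      · have h1 := Nat.div_add_mod (e 1) (c + 1)
        have h2 := Nat.mod_lt (e 1) (show c + 1 > 0 by omega)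
        have h3 : e 1 / (c + 1) * (c + 1) = (c + 1) * (e 1 / (c + 1)) := mul_comm _ _
        obtain ⟨w, hw, hw0, hd⟩ := h₁ (e 2) (e 1 / (c + 1)) (by omega) (by omega)
        refine ⟨w, hw, hw0, _, hd, ?_⟩
        refine ⟨?_, ?_, ?_, ?_⟩ <;> simp <;> omega
    have hdle : d ≤ e := by
      intro i
      fin_cases i <;> simp_all
    have hdP : d 2 + d 3 = a ∧ d 0 + d 1 = b + d 2 := by
      have hmem : d ∈ w.support := hd ▸ (mo.degree_mem_support_iff w).mpr hw0
      have : ∀ f ∈ M a b, ∀ x ∈ f.support, x 2 + x 3 = a ∧ x 0 + x 1 = b + x 2 := by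
        intro f hf
        induction hf using Submodule.span_induction with
        | mem x hx =>
          obtain ⟨e, he1, he2, rfl⟩ := hx
          intro d hd
          rw [MvPolynomial.support_monomial, if_neg one_ne_zero, Finset.mem_singleton] at hd
          exact hd ▸ ⟨he1, he2⟩
        | zero => simp
        | add x y _ _ hx hy =>
          intro d hd
          rcases Finset.mem_union.mp (MvPolynomial.support_add hd) with h | h
          · exact hx d h
          · exact hy d h
        | smul r x _ hx => intro d hd; exact hx d (MvPolynomial.support_smul hd)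
      exact this w (hW hw) d hmem
    have hr : P 0 c (e - d) := by
      refine ⟨?_, ?_⟩ <;> simp only [Finsupp.tsub_apply] <;> omega
    refine ⟨w * MvPolynomial.monomial (e - d) 1, Submodule.mul_mem_mul hw (hmon _ _ _ hr), ?_, ?_⟩
    · rw [MvPolynomial.coeff_mul_monomial', if_pos tsub_le_self, mul_one, tsub_tsub_cancel_of_le hdle,
        ← hd]
      exact mo.coeff_degree_ne_zero_iff.mpr hw0
    · intro e' he'
      rw [MvPolynomial.mem_support_iff, MvPolynomial.coeff_mul_monomial'] at he'
      split_ifs at he' with h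
      · rw [mul_one] at he'
        have := mo.le_degree (MvPolynomial.mem_support_iff.mpr he')
        rw [hd] at this
        calc mo.toSyn e' = mo.toSyn (e' - (e - d)) + mo.toSyn (e - d) := by
              rw [← map_add, tsub_add_cancel_of_le h]
          _ ≤ mo.toSyn d + mo.toSyn (e - d) := by gcongr
          _ = mo.toSyn e := by rw [← map_add, add_tsub_cancel_of_le hdle]
      · exact absurd rfl he'
  have hall : ∀ x : mo.syn, ∀ e, mo.toSyn e = x → P a (b + c) e →
      MvPolynomial.monomial e (1 : k) ∈ W * M 0 c := by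
    intro x
    induction x using WellFoundedLT.induction with
    | _ x ih =>
      rintro e rfl he
      obtain ⟨g, hg, hge, hgle⟩ := hlead e he
      have hs := hsupp g (hle hg)
      have hmem : e ∈ g.support := MvPolynomial.mem_support_iff.mpr hge
      have hrest : ∑ d ∈ g.support.erase e, MvPolynomial.monomial d (g.coeff d) ∈ W * M 0 c := by
        refine Submodule.sum_mem _ fun d hd => ?_
        rw [Finset.mem_erase] at hd
        have := Submodule.smul_mem _ (g.coeff d) (ih _ ((hgle d hd.2).lt_of_ne fun h => hd.1 (mo.toSyn.injective h))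
          d rfl (hs d hd.2))
        rwa [MvPolynomial.smul_monomial, smul_eq_mul, mul_one] at this
      have he' : MvPolynomial.monomial e (g.coeff e) ∈ W * M 0 c := by
        have := sub_mem hg hrest
        convert this using 1
        rw [eq_sub_iff_add_eq, Finset.add_sum_erase g.support (fun d => MvPolynomial.monomial d (g.coeff d)) hmem]
        exact (MvPolynomial.as_sum g).symm
      have := Submodule.smul_mem _ (g.coeff e)⁻¹ he'
      rwa [MvPolynomial.smul_monomial, smul_eq_mul, inv_mul_cancel₀ hge] at this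
  refine le_antisymm hle (Submodule.span_le.mpr ?_)
  rintro _ ⟨e, he1, he2, rfl⟩
  exact hall _ e rfl ⟨he1, he2⟩

end Groth.Agent.S17658
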