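import Groth.Statements.S17659
import Groth.Agent.Lib.Snapper.Degree

set_option autoImplicit false
set_option backward.isDefEq.respectTransparency false
universe u
open CategoryTheory CategoryTheory.Limits AlgebraicGeometry
open CIDisc

namespace Groth.Agent.S17659

/-- Let X be a proper scheme over a field k all of whose irreducible components have dimension one, E a
finite locally free O_X-module of constant rank n and F a coherent O_X-module. Then χ(X, E ⊗ F) =
Σ_Z r_Z(F) · deg(E|_{Z_red}) + n · χ(X, F), the sum running over the irreducible components Z of X,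
where r_Z(F) is the length of the stalk of F at the generic point ξ_Z of Z as a module over
O_{X,ξ_Z}, and Z_red is Z with its reduced induced structure (the closed subscheme cut out by the
radical of the ideal of the component). The Noetherian hypothesis on X is a consequence of
properness over k and is stated for convenience. -/
theorem result (k : Type u) [Field k] (X : Scheme.{u}) [X.Over (Spec (CommRingCat.of k))]
    [IsProper (X ↘ (Spec (CommRingCat.of k)))] [IsNoetherian X]
    (hdim : ∀ Z ∈ irreducibleComponents (X : Type u), topologicalKrullDim Z = 1)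
    (n : ℕ) (E : X.Modules) (hE : FlatMod.IsFinLocFreeOfRank n E) (F : X.Modules) (hF : Coh.IsCoh F) :
    Curv2.euler k X (CohB1.tensorMod E F) =
      (∑ᶠ Z : irreducibleComponents (X : Type u),
        ((Module.length (X.presheaf.stalk Z.2.1.genericPoint) (F.presheaf.stalk Z.2.1.genericPoint)).toNat : ℤ) *
          @Curv2.deg k _ (X.irreducibleComponentIdeal Z.1 Z.2).radical.subscheme
            ⟨(X.irreducibleComponentIdeal Z.1 Z.2).radical.subschemeι ≫ (X ↘ (Spec (CommRingCat.of k)))⟩
            ((Scheme.Modules.pullback (X.irreducibleComponentIdeal Z.1 Z.2).radical.subschemeι).obj E) n) +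
        (n : ℤ) * Curv2.euler k X F := by
  classical
  have hu : GrothLib.Snapper.DimLT (Set.univ : Set X) (1 + 1) := by
    intro l _
    obtain ⟨η, hη, hηx⟩ : ∃ η ∈ genericPoints (X : Type u), η ⤳ l.last :=
      ⟨_, (genericPoints.ofComponent ⟨_, irreducibleComponent_mem_irreducibleComponents l.last⟩).2,
        (genericPoints.isGenericPoint_ofComponent _).specializes mem_irreducibleComponent⟩
    have hZ := hdim _ (genericPoints.component ⟨η, hη⟩).2
    change topologicalKrullDim (closure ({η} : Set X)) = 1 at hZ
    refine GrothLib.Snapper.dimLT_of_dim_le (d := 1) (le_of_eq (by exact_mod_cast hZ)) l fun i => ?_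
    exact specializes_iff_mem_closure.1 (hηx.trans (show l.last ⤳ l i from l.monotone (Fin.le_last i)))
  have hd1 : topologicalKrullDim X ≤ 1 := by
    have := GrothLib.Snapper.dim_le_of_dimLT isClosed_univ hu
    exact ((IsHomeomorph.topologicalKrullDim_eq _ (Homeomorph.Set.univ X).isHomeomorph).symm).le.trans (by exact_mod_cast this)
  have hlf := GrothLib.FinCov.isFinLocFree_of_rank hE
  have hbr : Curv2.euler k X (CohB1.tensorMod E F) = Curv2.euler k X ((GrothLib.Euler.tF E).obj F) :=
    GrothLib.Euler.euler_of_iso k (((GrothLib.OX.tensorBraiding (X := X)).app E).app F).symm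
  have hmain := GrothLib.Snapper.degFun_eq_finsum k hd1 hE hF
  let f : X → ℤ := GrothLib.Snapper.topTerm (GrothLib.Snapper.degFun k E n) 1 F
  have hf : ∀ x : X, x ∉ genericPoints (X : Type u) → f x = 0 := by
    intro x hx
    simp only [f, GrothLib.Snapper.topTerm]
    rw [if_neg fun ht => hx ?_]
    obtain ⟨η, hη, hηx⟩ : ∃ η ∈ genericPoints (X : Type u), η ⤳ x :=
      ⟨_, (genericPoints.ofComponent ⟨_, irreducibleComponent_mem_irreducibleComponents x⟩).2,
        (genericPoints.isGenericPoint_ofComponent _).specializes mem_irreducibleComponent⟩
    exact ht.eq_of_specializes hηx (hu.mono (Set.subset_univ _)) ▸ hη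
  have key : GrothLib.Snapper.degFun k E n F = ∑ᶠ Z : irreducibleComponents (X : Type u),
      ((Module.length (X.presheaf.stalk Z.2.1.genericPoint) (F.presheaf.stalk Z.2.1.genericPoint)).toNat : ℤ) *
        @Curv2.deg k _ (X.irreducibleComponentIdeal Z.1 Z.2).radical.subscheme
          ⟨(X.irreducibleComponentIdeal Z.1 Z.2).radical.subschemeι ≫ (X ↘ (Spec (CommRingCat.of k)))⟩
          ((Scheme.Modules.pullback (X.irreducibleComponentIdeal Z.1 Z.2).radical.subschemeι).obj E) n := by
    rw [hmain]
    calc ∑ᶠ x : X, f x = ∑ᶠ x ∈ genericPoints (X : Type u), f x := by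
          refine finsum_congr fun x => ?_
          by_cases hx : x ∈ genericPoints (X : Type u)
          · rw [finsum_eq_if, if_pos hx]
          · rw [finsum_eq_if, if_neg hx, hf x hx]
      _ = ∑ᶠ x : genericPoints (X : Type u), f x.1 := (finsum_set_coe_eq_finsum_mem _).symm
      _ = ∑ᶠ Z : irreducibleComponents (X : Type u), f (genericPoints.ofComponent Z).1 :=
          (finsum_comp_equiv (genericPoints.equiv (α := (X : Type u))).symm).symm
      _ = _ := by
          refine finsum_congr fun Z => ?_
          obtain ⟨C, hC⟩ := Z
          have hcl : closure ({(genericPoints.ofComponent (⟨C, hC⟩ : irreducibleComponents (X : Type u))).1} : Set X) = C :=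
            (genericPoints.isGenericPoint_ofComponent (⟨C, hC⟩ : irreducibleComponents (X : Type u))).def
          have hI : Scheme.IdealSheafData.vanishingIdeal
                (⟨closure ({(genericPoints.ofComponent (⟨C, hC⟩ : irreducibleComponents (X : Type u))).1} : Set X),
                  isClosed_closure⟩ : TopologicalSpace.Closeds X) =
              (X.irreducibleComponentIdeal C hC).radical := by
            rw [show (X.irreducibleComponentIdeal C hC).radical = Scheme.IdealSheafData.vanishingIdeal
                ⟨C, isClosed_of_mem_irreducibleComponents C hC⟩ from by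
              rw [← Scheme.IdealSheafData.vanishingIdeal_support]; rfl]
            exact congrArg _ (TopologicalSpace.Closeds.ext hcl)
          simp only [f, GrothLib.Snapper.topTerm, GrothLib.Snapper.IsTop]
          rw [if_pos (by rw [hcl]; exact_mod_cast hdim C hC), nsmul_eq_mul, GrothLib.Snapper.degFun_quotMod k hlf, hI]
          rfl
  rw [hbr, ← key, GrothLib.Snapper.degFun]
  ring

end Groth.Agent.S17659
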