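import Groth.Statements.S17660
import Groth.Agent.Lib.FMAdj25.RibbonDeg
-- import your own Groth.Agent.* helpers here

set_option autoImplicit false
set_option maxHeartbeats 1000000
set_option linter.style.haveILetI false
set_option backward.isDefEq.respectTransparency false
universe u
open CategoryTheory CategoryTheory.Limits AlgebraicGeometry
open Ribbon

namespace Groth.Agent.S17660

/-- Let C be a proper scheme over a field k and I ⊂ O_C a quasi-coherent ideal with I² = 0 whose closed
subscheme D ⊂ C is isomorphic over k to the projective line, and suppose that I, regarded as an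
O_D-module, is isomorphic to O_{P^1}(-g-1) (so C is a ribbon of arithmetic genus g on P^1 with
conormal bundle I). If L is an invertible O_C-module whose restriction to D is isomorphic to
O_{P^1}(n), then the degree χ(C, L) - χ(C, O_C) of L equals 2n. (Stated over an arbitrary ground
field; the source works with rational ribbons over an algebraically closed field, and also
identifies I·L with O_{P^1}(n-g-1), which is not asserted here.) -/
theorem result (k : Type u) [Field k] (C : Scheme.{u}) [C.Over (Spec (CommRingCat.of k))]
    [IsProper (C ↘ (Spec (CommRingCat.of k)))]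
    (I : C.IdealSheafData) (hI : I ^ 2 = ⊥)
    (e : I.subscheme ≅ CohB1.ProjSpace 1 k)
    (he : e.hom ≫ CohB1.ProjSpace.toSpec 1 k = I.subschemeι ≫ (C ↘ (Spec (CommRingCat.of k))))
    (g : ℕ)
    (hconormal : Nonempty ((Scheme.Modules.pullback I.subschemeι).obj (ClSub.idealMod I) ≅
      (Scheme.Modules.pullback e.hom).obj (Twist.twistProjSpace 1 k (-((g : ℤ) + 1)))))
    (L : C.Modules) (hL : PicF.IsInvertible L) (n : ℤ)
    (hLD : Nonempty ((Scheme.Modules.pullback I.subschemeι).obj L ≅
      (Scheme.Modules.pullback e.hom).obj (Twist.twistProjSpace 1 k n))) :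
    Curv2.deg k C L 1 = 2 * n := by
  exact GrothLib.FMAdj25.deg_ribbon C I hI e he g hconormal L hL n hLD

end Groth.Agent.S17660
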