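import Groth.Statements.S17661
import Groth.Agent.Lib.Thickening.Affine

set_option autoImplicit false
set_option linter.all false
universe u
open CategoryTheory CategoryTheory.Limits AlgebraicGeometry
open Ribbon

namespace Groth.Agent.S17661

/-- Let k be a field, C a scheme locally of finite type over k and I ⊂ O_C a quasi-coherent ideal with
I² = 0, with closed subscheme D ⊂ C; suppose D is affine, connected and smooth over k and that I,
regarded as an O_D-module, is invertible (so C is a ribbon on the smooth affine scheme D, and D is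
the reduced scheme underlying C). Then the ribbon is split: the inclusion D → C admits a retraction
C → D over k. -/
theorem result (k : Type u) [Field k] (C : Scheme.{u}) [C.Over (Spec (CommRingCat.of k))]
    [LocallyOfFiniteType (C ↘ (Spec (CommRingCat.of k)))]
    (I : C.IdealSheafData) (hI : I ^ 2 = ⊥) [IsAffine I.subscheme] [ConnectedSpace I.subscheme]
    [Smooth (I.subschemeι ≫ (C ↘ (Spec (CommRingCat.of k))))]
    (hconormal : PicF.IsInvertible ((Scheme.Modules.pullback I.subschemeι).obj (ClSub.idealMod I))) :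
    ∃ r : C ⟶ I.subscheme, I.subschemeι ≫ r = 𝟙 I.subscheme ∧
      r ≫ I.subschemeι ≫ (C ↘ (Spec (CommRingCat.of k))) = C ↘ (Spec (CommRingCat.of k)) := by
  let j := I.subschemeι
  let s := C ↘ (Spec (CommRingCat.of k))
  haveI : Surjective j := ⟨fun c => by
    have h : (I.support : Set C) = Set.univ := by
      rw [← Scheme.IdealSheafData.support_pow I 2 (by norm_num), hI, Scheme.IdealSheafData.support_bot]
      rfl
    rw [← I.range_subschemeι] at h
    exact (h.ge trivial :)⟩
  haveI : IsAffine C := GrothLib.Thickening.isAffine_of_thickening j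
  haveI : Smooth (j ≫ s) := inferInstanceAs (Smooth (I.subschemeι ≫ _))
  let R := Γ(Spec (CommRingCat.of k), ⊤)
  letI aB : Algebra R Γ(C, ⊤) := s.appTop.hom.toAlgebra
  letI aA : Algebra R Γ(I.subscheme, ⊤) := (j ≫ s).appTop.hom.toAlgebra
  have hsm : (j ≫ s).appTop.hom.Smooth := (HasRingHomProperty.iff_of_isAffine (P := @Smooth)).1 inferInstance
  haveI : Algebra.Smooth R Γ(I.subscheme, ⊤) := hsm
  let g : Γ(C, ⊤) →ₐ[R] Γ(I.subscheme, ⊤) :=
    { j.appTop.hom with
      commutes' := fun x => by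
        show j.appTop.hom (s.appTop.hom x) = (j ≫ s).appTop.hom x
        rw [Scheme.Hom.comp_appTop]
        rfl }
  have hg : Function.Surjective g := j.app_surjective ⊤ (isAffineOpen_top C)
  have hnil : IsNilpotent (RingHom.ker (g : Γ(C, ⊤) →+* Γ(I.subscheme, ⊤))) := by
    refine ⟨2, ?_⟩
    have e : RingHom.ker (g : Γ(C, ⊤) →+* Γ(I.subscheme, ⊤)) = I.ideal ⟨⊤, isAffineOpen_top C⟩ :=
      I.ker_subschemeι_app ⟨⊤, isAffineOpen_top C⟩
    rw [e, ← Pi.pow_apply, ← Scheme.IdealSheafData.ideal_pow, hI]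
    rfl
  let ψ : Γ(I.subscheme, ⊤) →ₐ[R] Γ(C, ⊤) :=
    Algebra.FormallySmooth.liftOfSurjective (AlgHom.id R Γ(I.subscheme, ⊤)) g hg hnil
  let r : C ⟶ I.subscheme :=
    C.isoSpec.hom ≫ Spec.map (CommRingCat.ofHom ψ.toRingHom) ≫ I.subscheme.isoSpec.inv
  have hinv : I.subscheme.isoSpec.inv.appTop = (Scheme.ΓSpecIso Γ(I.subscheme, ⊤)).inv := by
    rw [← Iso.hom_comp_eq_id, ← Scheme.toSpecΓ_appTop, ← Scheme.isoSpec_hom, ← Scheme.Hom.comp_appTop,
      Iso.inv_hom_id, Scheme.Hom.id_appTop]
  have hr : r.appTop = CommRingCat.ofHom ψ.toRingHom := by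
    simp only [r, Scheme.Hom.comp_appTop, Category.assoc, Scheme.isoSpec_hom, Scheme.toSpecΓ_appTop,
      Scheme.ΓSpecIso_naturality, hinv]
    exact (Scheme.ΓSpecIso Γ(I.subscheme, ⊤)).inv_hom_id_assoc _
  refine ⟨r, ext_of_isAffine ?_, ext_of_isAffine ?_⟩
  · rw [Scheme.Hom.comp_appTop, hr, Scheme.Hom.id_appTop]
    refine CommRingCat.hom_ext (RingHom.ext fun x => ?_)
    exact Algebra.FormallySmooth.liftOfSurjective_apply (AlgHom.id R Γ(I.subscheme, ⊤)) g hg hnil x
  · rw [← Category.assoc, Category.assoc, Scheme.Hom.comp_appTop r, hr]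
    refine CommRingCat.hom_ext (RingHom.ext fun x => ?_)
    exact ψ.commutes x

end Groth.Agent.S17661
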