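import Groth.Statements.S17662
import Groth.Agent.Lib.LabGraph.CauchyBinet
import Mathlib.LinearAlgebra.Matrix.NonsingularInverse
import Mathlib.RingTheory.Ideal.Span

set_option autoImplicit false
set_option linter.all false
universe u
open CIDisc

namespace Groth.Agent.S17662

open Finset in
theorem cauchyBinet {R : Type u} [CommRing R] {e r : ℕ} (A : Matrix (Fin e) (Fin r) R)
    (N : Matrix (Fin r) (Fin e) R) :
    (A * N).det = ∑ L : {s : Finset (Fin r) // s.card = e},
      (A.submatrix id (L.1.orderEmbOfFin L.2)).det * (N.submatrix (L.1.orderEmbOfFin L.2) id).det := by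
  classical
  rw [GrothLib.LabGraph.det_mul_expand]
  rw [← Finset.sum_filter_add_sum_filter_not univ (fun g : Fin e → Fin r => Function.Injective g),
    Finset.sum_eq_zero (s := univ.filter fun g : Fin e → Fin r => ¬ Function.Injective g) fun g hg => ?_, add_zero]
  · rw [← Finset.sum_fiberwise_of_maps_to (g := fun g : Fin e → Fin r => Finset.image g univ)
      (t := univ.powerset.filter (fun S : Finset (Fin r) => S.card = e))]
    · rw [Finset.sum_subtype (univ.powerset.filter (fun S : Finset (Fin r) => S.card = e))
        (p := fun S : Finset (Fin r) => S.card = e) (fun S => by simp)]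
      refine Finset.sum_congr rfl fun L _ => ?_
      rw [Finset.filter_filter, GrothLib.LabGraph.sum_image_eq (L.1.orderEmbOfFin L.2)
        (L.1.orderEmbOfFin L.2).injective (Finset.image_orderEmbOfFin_univ L.1 L.2)]
      rw [← Matrix.det_transpose (A.submatrix id (L.1.orderEmbOfFin L.2)), Matrix.det_apply', Finset.sum_mul]
      refine Finset.sum_congr rfl fun σ _ => ?_
      rw [show N.submatrix ((L.1.orderEmbOfFin L.2) ∘ σ) id =
        (N.submatrix (L.1.orderEmbOfFin L.2) id).submatrix σ id from rfl, Matrix.det_permute]
      simp only [Function.comp_apply, Matrix.transpose_apply, Matrix.submatrix_apply, id_eq]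
      ring
    · intro g hg
      simp only [Finset.mem_filter, Finset.mem_univ, true_and] at hg
      simp [Finset.card_image_of_injective _ hg]
  · simp only [Finset.mem_filter, Finset.mem_univ, true_and] at hg
    obtain ⟨a, b, hab, hne⟩ := Function.not_injective_iff.mp hg
    rw [Matrix.det_zero_of_row_eq hne (by funext j; simp [hab]), mul_zero]

/-- Let R be a commutative ring, M an r × n matrix over R and e ≥ 0; for each e-element set L of row
indices let A_L be an e × r matrix over R, and form the square matrix, indexed by the e-element sets
of row indices, whose (L, L') entry is the e × e minor of A_L on the columns L'. If the determinant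
of that square matrix is a unit, then the sum over L of the ideals generated by the e × e minors of
the products A_L · M is the ideal generated by all e × e minors of M. (In the source R is the
coordinate ring of an affine scheme X of codimension e cut out by f_1, …, f_r in affine n-space, M
is the image of the Jacobian matrix of the f_j, the A_L have entries in the ground field and cut out
complete intersections Z_L = V(A_L · f), so that the two sides are Σ_L Jac(Z_L) and Jac(X); the
source states the equality for general A_L and establishes it under the present invertibility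
condition, which it shows to be generic.) -/
theorem result {R : Type u} [CommRing R] (e r n : ℕ)
    (M : Matrix (Fin r) (Fin n) R)
    (A : {s : Finset (Fin r) // s.card = e} → Matrix (Fin e) (Fin r) R)
    (hA : IsUnit (Matrix.det (Matrix.of fun i j : {s : Finset (Fin r) // s.card = e} =>
      ((A i).submatrix id (j.1.orderEmbOfFin j.2)).det))) :
    (⨆ i, Ideal.span (Set.range fun t : {s : Finset (Fin n) // s.card = e} =>
        ((A i * M).submatrix id (t.1.orderEmbOfFin t.2)).det)) =
      Ideal.span (Set.range fun p : {s : Finset (Fin r) // s.card = e} × {s : Finset (Fin n) // s.card = e} =>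
        (M.submatrix (p.1.1.orderEmbOfFin p.1.2) (p.2.1.orderEmbOfFin p.2.2)).det) := by
  classical
  let P : Matrix {s : Finset (Fin r) // s.card = e} {s : Finset (Fin r) // s.card = e} R :=
    Matrix.of fun i j => ((A i).submatrix id (j.1.orderEmbOfFin j.2)).det
  let m : {s : Finset (Fin r) // s.card = e} → {s : Finset (Fin n) // s.card = e} → R :=
    fun L t => (M.submatrix (L.1.orderEmbOfFin L.2) (t.1.orderEmbOfFin t.2)).det
  let x : {s : Finset (Fin r) // s.card = e} → {s : Finset (Fin n) // s.card = e} → R :=
    fun i t => ((A i * M).submatrix id (t.1.orderEmbOfFin t.2)).det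
  have hx : ∀ i t, x i t = ∑ L, P i L * m L t := fun i t => by
    simp only [x, P, m, Matrix.of_apply]
    rw [Matrix.submatrix_mul (A i) M id id (t.1.orderEmbOfFin t.2) Function.bijective_id, cauchyBinet]
    refine Finset.sum_congr rfl fun L _ => ?_
    rfl
  have hinv : ∀ L t, m L t = ∑ i, P⁻¹ L i * x i t := fun L t => by
    simp only [hx, Finset.mul_sum, ← mul_assoc]
    rw [Finset.sum_comm]
    simp only [← Finset.sum_mul, ← Matrix.mul_apply, Matrix.nonsing_inv_mul P hA, Matrix.one_apply, ite_mul,
      one_mul, zero_mul, Finset.sum_ite_eq, Finset.mem_univ, if_true]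
  refine le_antisymm (iSup_le fun i => Ideal.span_le.2 ?_) (Ideal.span_le.2 ?_)
  · rintro _ ⟨t, rfl⟩
    show x i t ∈ _
    rw [hx]
    exact sum_mem fun L _ => Ideal.mul_mem_left _ _ (Ideal.subset_span ⟨(L, t), rfl⟩)
  · rintro _ ⟨⟨L, t⟩, rfl⟩
    show m L t ∈ _
    rw [hinv]
    exact sum_mem fun i _ => Ideal.mul_mem_left _ _
      (Ideal.mem_iSup_of_mem i (Ideal.subset_span ⟨t, rfl⟩))

end Groth.Agent.S17662
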