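import Groth.Statements.S17663
import Groth.Agent.Lib.Ribbon10.Main


set_option autoImplicit false
universe u
open CategoryTheory CategoryTheory.Limits AlgebraicGeometry
open Ribbon

namespace Groth.Agent.S17663

/-- Let D be a reduced connected scheme of finite type over a field k and 𝓛 an invertible O_D-module.
Then some split ribbon on D has conormal bundle 𝓛: there are a k-scheme C locally of finite type
together with a quasi-coherent ideal I ⊂ O_C with I² = 0, a k-isomorphism from the closed subscheme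
V(I) to D, a retraction C → V(I) over k of the inclusion, and an isomorphism of O_D-modules between
I (regarded as a module on V(I) ≅ D) and 𝓛. -/
theorem result (k : Type u) [Field k] (D : Scheme.{u}) [D.Over (Spec (CommRingCat.of k))]
    [LocallyOfFiniteType (D ↘ (Spec (CommRingCat.of k)))] [QuasiCompact (D ↘ (Spec (CommRingCat.of k)))]
    [AlgebraicGeometry.IsReduced D] [ConnectedSpace D]
    (𝓛 : D.Modules) (h𝓛 : PicF.IsInvertible 𝓛) :
    ∃ (C : Scheme.{u}) (sC : C ⟶ (Spec (CommRingCat.of k))) (I : C.IdealSheafData) (φ : I.subscheme ≅ D) (r : C ⟶ I.subscheme),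
      LocallyOfFiniteType sC ∧ I ^ 2 = ⊥ ∧ φ.hom ≫ (D ↘ (Spec (CommRingCat.of k))) = I.subschemeι ≫ sC ∧ I.subschemeι ≫ r = 𝟙 I.subscheme ∧
        r ≫ I.subschemeι ≫ sC = sC ∧
        Nonempty ((Scheme.Modules.pullback (φ.inv ≫ I.subschemeι)).obj (ClSub.idealMod I) ≅ 𝓛) := by
  have hq := GrothLib.InvExt.isQuasicoherent_of_isInvertible h𝓛
  let C := GrothLib.Ribbon10.C 𝓛 hq
  let π : C ⟶ D := GrothLib.Ribbon10.pr 𝓛 hq
  let ε : D ⟶ C := GrothLib.Ribbon10.sec 𝓛 hq
  let sk : D ⟶ Spec (CommRingCat.of k) := D ↘ Spec (CommRingCat.of k)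
  have hεπ : ε ≫ π = 𝟙 D := GrothLib.Ribbon10.sec_pr 𝓛 hq
  haveI : IsClosedImmersion ε := inferInstanceAs (IsClosedImmersion (GrothLib.Ribbon10.sec 𝓛 hq))
  haveI : LocallyOfFiniteType π := GrothLib.Ribbon10.locallyOfFiniteType_pr 𝓛 hq h𝓛
  let φ : ε.ker.subscheme ≅ D := (asIso ε.toImage).symm
  have hφ : φ.inv ≫ ε.ker.subschemeι = ε := ε.toImage_imageι
  have hι : ε.ker.subschemeι = φ.hom ≫ ε := (Iso.inv_comp_eq φ).1 hφ
  have h1 : ε.ker.subschemeι ≫ π = φ.hom := by rw [hι, Category.assoc, hεπ, Category.comp_id]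
  refine ⟨C, π ≫ sk, ε.ker, φ, π ≫ φ.inv, inferInstance, GrothLib.Ribbon10.ker_sq 𝓛 hq, ?_, ?_, ?_, ?_⟩
  · show φ.hom ≫ sk = _
    rw [reassoc_of% h1]
  · rw [reassoc_of% h1, Iso.hom_inv_id]
  · rw [Category.assoc, reassoc_of% h1, Iso.inv_hom_id_assoc]
  · obtain ⟨e⟩ := GrothLib.Ribbon10.exists_conormal_iso 𝓛 hq
    exact ⟨(Scheme.Modules.pullbackCongr hφ).app _ ≪≫ e⟩


end Groth.Agent.S17663
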