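import Groth.Statements.S17664
import Groth.Agent.Lib.SqZero11.Iso
import Groth.Agent.Lib.SqZero11.Split
import Groth.Agent.Lib.OmegaLocal4.Compat
import Groth.Agent.Lib.ConStalk4.DiffMap
import Groth.Agent.S5005
import Groth.Agent.S9384


set_option autoImplicit false
set_option backward.isDefEq.respectTransparency false
universe u
open CategoryTheory CategoryTheory.Limits AlgebraicGeometry
open Ribbon

namespace Groth.Agent.S17664

open GrothLib in
theorem exists_ses {D C S : Scheme.{u}} (i : D ⟶ C) [IsClosedImmersion i] (hI : i.ker ^ 2 = ⊥) (pC : C ⟶ S)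
    [QuasiSeparated pC] (r : C ⟶ D) (hr : i ≫ r = 𝟙 D) (hrS : r ≫ i ≫ pC = pC) (pD : D ⟶ S) (hp : i ≫ pC = pD)
    [HasExt.{u + 1} D.Modules] (d₂ : OmegaSh.Der pD (Omega.sheaf pD)) (hd₂ : OmegaSh.IsUniversal d₂) :
    ∃ (φ : Omega.conormal i ⟶ (Scheme.Modules.pullback i).obj (Omega.sheaf pC))
      (c : (Scheme.Modules.pullback i).obj (Omega.sheaf pC) ⟶ Omega.sheaf pD)
      (hw : φ ≫ c = 0) (hS : (ShortComplex.mk φ c hw).ShortExact),
      OmegaSh.IsConormalDiff i (OmegaSh.dOmega pC) φ ∧ OmegaSh.IsDiffCompat i (OmegaSh.dOmega pC) d₂ c ∧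
        hS.extClass = 0 := by
  subst hp
  have h1 := Groth.Agent.S5005.result pC
  obtain ⟨c, hc, -⟩ := OmegaLocal4.existsUnique_compat i (𝟙 S) (Category.comp_id (i ≫ pC)) (OmegaSh.dOmega pC) h1 d₂
  have hφ := ConStalk4.isConormalDiff_conormalDiff i (OmegaSh.dOmega pC)
  obtain ⟨w, hex, ⟨ρ, hρ⟩, ⟨σ, hσ⟩⟩ := Groth.Agent.S9384.result pC i r hr hrS _ _ h1 _ _ hd₂ _ hφ c hc
  haveI : Mono (ConStalk4.conormalDiff i (OmegaSh.dOmega pC)) := (SplitMono.mk ρ hρ).mono
  haveI : Epi c := (SplitEpi.mk σ hσ).epi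
  have hS : (ShortComplex.mk _ c w).ShortExact := { exact := hex }
  exact ⟨_, c, w, hS, hφ, hc, (SqZero11.exists_retraction_iff i hI pC _ hφ hc hS hd₂).1 ⟨r, hr, hrS⟩⟩


/-- Let D be a reduced connected scheme of finite type over a field k. Let C and C' be two split ribbons
on D with isomorphic conormal bundles: k-schemes with quasi-coherent ideals I ⊂ O_C, I' ⊂ O_{C'} of
square zero, k-isomorphisms φ : V(I) ≅ D, φ' : V(I') ≅ D, retractions C → V(I), C' → V(I') over k,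
with I and I' invertible when regarded as O_D-modules and an isomorphism θ between them. Then C and
C' are isomorphic over D: there is an isomorphism ψ : C ≅ C' with (V(I) → C → C') = (V(I) ≅ D ≅
V(I') → C'). -/
theorem result (k : Type u) [Field k] (D : Scheme.{u}) [D.Over (Spec (CommRingCat.of k))]
    [LocallyOfFiniteType (D ↘ (Spec (CommRingCat.of k)))] [QuasiCompact (D ↘ (Spec (CommRingCat.of k)))]
    [AlgebraicGeometry.IsReduced D] [ConnectedSpace D]
    (C : Scheme.{u}) (sC : C ⟶ (Spec (CommRingCat.of k))) (I : C.IdealSheafData) (hI : I ^ 2 = ⊥)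
    (φ : I.subscheme ≅ D) (hφ : φ.hom ≫ (D ↘ (Spec (CommRingCat.of k))) = I.subschemeι ≫ sC)
    (r : C ⟶ I.subscheme) (hr : I.subschemeι ≫ r = 𝟙 I.subscheme) (hrk : r ≫ I.subschemeι ≫ sC = sC)
    (C' : Scheme.{u}) (sC' : C' ⟶ (Spec (CommRingCat.of k))) (I' : C'.IdealSheafData) (hI' : I' ^ 2 = ⊥)
    (φ' : I'.subscheme ≅ D) (hφ' : φ'.hom ≫ (D ↘ (Spec (CommRingCat.of k))) = I'.subschemeι ≫ sC')
    (r' : C' ⟶ I'.subscheme) (hr' : I'.subschemeι ≫ r' = 𝟙 I'.subscheme) (hrk' : r' ≫ I'.subschemeι ≫ sC' = sC')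
    (h𝓛 : PicF.IsInvertible ((Scheme.Modules.pullback (φ.inv ≫ I.subschemeι)).obj (ClSub.idealMod I)))
    (h𝓛' : PicF.IsInvertible ((Scheme.Modules.pullback (φ'.inv ≫ I'.subschemeι)).obj (ClSub.idealMod I')))
    (θ : (Scheme.Modules.pullback (φ.inv ≫ I.subschemeι)).obj (ClSub.idealMod I) ≅
      (Scheme.Modules.pullback (φ'.inv ≫ I'.subschemeι)).obj (ClSub.idealMod I')) :
    ∃ ψ : C ≅ C', I.subschemeι ≫ ψ.hom = φ.hom ≫ φ'.inv ≫ I'.subschemeι ∧ ψ.hom ≫ sC' = sC := by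
  classical
  haveI : IsLocallyNoetherian D := LocallyOfFiniteType.isLocallyNoetherian (D ↘ Spec (CommRingCat.of k))
  haveI : CompactSpace D := QuasiCompact.compactSpace_of_compactSpace (D ↘ Spec (CommRingCat.of k))
  haveI : IsNoetherian D := {}
  have qs : ∀ {Y : Scheme.{u}} (J : Y.IdealSheafData) (hJ : J ^ 2 = ⊥) (e : J.subscheme ≅ D)
      (p : Y ⟶ Spec (CommRingCat.of k)), QuasiSeparated p := by
    intro Y J hJ e p
    haveI : TopologicalSpace.NoetherianSpace J.subscheme :=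
      (TopologicalSpace.noetherianSpace_iff_of_homeomorph (Scheme.homeoOfIso e)).2 inferInstance
    have hh : IsHomeomorph J.subschemeι := GrothLib.SqZero11.isHomeomorph_base J.subschemeι
      (by rw [Scheme.IdealSheafData.ker_subschemeι]; exact hJ)
    haveI : TopologicalSpace.NoetherianSpace Y :=
      (TopologicalSpace.noetherianSpace_iff_of_homeomorph (hh.homeomorph _)).1 inferInstance
    infer_instance
  haveI := qs I hI φ sC
  haveI := qs I' hI' φ' sC'
  let i' : I.subscheme ⟶ C' := φ.hom ≫ φ'.inv ≫ I'.subschemeι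
  have hk : i'.ker = I' := by
    simp only [i', ← Category.assoc]
    rw [Scheme.Hom.ker_comp_of_isIso, Scheme.IdealSheafData.ker_subschemeι]
  have hki : I.subschemeι.ker = I := Scheme.IdealSheafData.ker_subschemeι I
  have hp : i' ≫ sC' = I.subschemeι ≫ sC := by
    simp only [i', Category.assoc]
    rw [← hφ', Iso.inv_hom_id_assoc, hφ]
  have hgi : i' ≫ r' ≫ φ'.hom ≫ φ.inv = 𝟙 _ := by
    simp only [i', Category.assoc]
    rw [reassoc_of% hr', Iso.inv_hom_id_assoc, Iso.hom_inv_id]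
  have hgS : (r' ≫ φ'.hom ≫ φ.inv) ≫ i' ≫ sC' = sC' := by
    simp [i', hrk']
  haveI : HasExt.{u + 1} I.subscheme.Modules := HasExt.standard _
  have hd₂ : OmegaSh.IsUniversal (OmegaSh.dOmega (I.subschemeι ≫ sC)) := Groth.Agent.S5005.result _
  obtain ⟨f, c, w, hS, hf, hc, he⟩ := exists_ses I.subschemeι (by rw [hki]; exact hI) sC r hr hrk _ rfl _ hd₂
  obtain ⟨f', c', w', hS', hf', hc', he'⟩ := exists_ses i' (by rw [hk]; exact hI') sC' (r' ≫ φ'.hom ≫ φ.inv) hgi hgS
    _ hp _ hd₂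
  let α : Omega.conormal I.subschemeι ≅ Omega.conormal i' :=
    (Scheme.Modules.pullback _).mapIso (eqToIso (congrArg ClSub.idealMod hki)) ≪≫
      (Scheme.Modules.pullbackCongr (Iso.hom_inv_id_assoc φ I.subschemeι).symm).app _ ≪≫
      ((Scheme.Modules.pullbackComp φ.hom (φ.inv ≫ I.subschemeι)).app _).symm ≪≫
      (Scheme.Modules.pullback φ.hom).mapIso θ ≪≫
      (Scheme.Modules.pullbackComp φ.hom (φ'.inv ≫ I'.subschemeι)).app _ ≪≫
      (Scheme.Modules.pullback i').mapIso (eqToIso (congrArg ClSub.idealMod hk.symm))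
  exact GrothLib.SqZero11.exists_scheme_iso (I.subschemeι ≫ sC) _ I.subschemeι (by rw [hki]; exact hI) sC _ hf hc hS
    i' (by rw [hk]; exact hI') sC' hf' hc' hS' hp α (by rw [he, he']; simp)

end Groth.Agent.S17664
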