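import Groth.Statements.S17671
import Groth.Agent.Lib.FMAdj25.Linked
import Groth.Agent.Lib.VA.QCohPullback
-- import your own Groth.Agent.* helpers here

set_option autoImplicit false
set_option maxHeartbeats 1000000
set_option linter.style.haveILetI false
set_option backward.isDefEq.respectTransparency false
universe u
open CategoryTheory CategoryTheory.Limits AlgebraicGeometry
attribute [local instance] HasDerivedCategory.standard
open CIDisc

namespace Groth.Agent.S17671

/-- Let Z be a proper scheme over a field k, equidimensional of dimension d with Gorenstein local rings,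
and X ⊂ Z the closed subscheme of a quasi-coherent ideal I_X, also equidimensional of dimension d,
with Cohen–Macaulay local rings, and equal to Z at the generic points of its irreducible components
(the stalk of I_X vanishes there). Let I_W be the ideal (0 : I_X), i.e. on every affine open the
annihilator of I_X (the ideal of the residual scheme W, linked to X by Z), and let ω_X, ω_Z be the
dualizing modules of X and Z over k (cohomology sheaves in degree -d of the upper-shriek of O, the
existence of the derived direct images on D_QCoh and of their right adjoints being carried as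
hypotheses). Then ω_X ≅ i^*(I_W ⊗ ω_Z), the pullback to X of I_W ⊗ ω_Z. (Existence of an
isomorphism; the source states the identity ω_X = i^*(I_W ω_Z) for X, Z of finite type, reducing to
the affine case through duality for the finite morphism i; here X and Z are taken proper over k so
that the dualizing modules are those of the upper-shriek functor.) (Stated over an arbitrary field
k; the published setting is an algebraically closed field, which the argument does not use.) -/
theorem result (k : Type u) [Field k] (Z : Scheme.{u}) [Z.Over (Spec (CommRingCat.of k))]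
    [IsProper (Z ↘ (Spec (CommRingCat.of k)))] (d : ℕ)
    (hZdim : ∀ T ∈ irreducibleComponents (Z : Type u), topologicalKrullDim T = d)
    (hZgor : ∀ z : Z, LocCoh.IsGorensteinLocalRing (Z.presheaf.stalk z))
    (IX : Z.IdealSheafData)
    (hXdim : ∀ T ∈ irreducibleComponents (IX.subscheme : Type u), topologicalKrullDim T = d)
    (hXcm : ∀ x : IX.subscheme, LocCoh.IsCohenMacaulayLocalRing (IX.subscheme.presheaf.stalk x))
    (hgen : ∀ T (hT : T ∈ irreducibleComponents (IX.subscheme : Type u)),
      Subsingleton ((ClSub.idealMod IX).presheaf.stalk (IX.subschemeι.base hT.1.genericPoint)))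
    (IW : Z.IdealSheafData) (hW : ∀ U : Z.affineOpens, IW.ideal U = (IX.ideal U).annihilator)
    [DCoh.HasRpush (Z ↘ (Spec (CommRingCat.of k)))] (hZ : DCoh.RpushPreservesQCoh (Z ↘ (Spec (CommRingCat.of k)))) [DCoh.HasShriek (Z ↘ (Spec (CommRingCat.of k))) hZ]
    [DCoh.HasRpush (IX.subschemeι ≫ (Z ↘ (Spec (CommRingCat.of k))))] (hX : DCoh.RpushPreservesQCoh (IX.subschemeι ≫ (Z ↘ (Spec (CommRingCat.of k)))))
    [DCoh.HasShriek (IX.subschemeι ≫ (Z ↘ (Spec (CommRingCat.of k)))) hX]
    (OY : DCoh.DQCoh (Spec (CommRingCat.of k)))
    (hOY : Nonempty (OY.obj ≅ DCoh.inD (Spec (CommRingCat.of k)) (Coh.structureModule (Spec (CommRingCat.of k))))) :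
    Nonempty (DCoh.dualizingMod (IX.subschemeι ≫ (Z ↘ (Spec (CommRingCat.of k)))) hX OY d ≅
      (Scheme.Modules.pullback IX.subschemeι).obj
        (CohB1.tensorMod (ClSub.idealMod IW) (DCoh.dualizingMod (Z ↘ (Spec (CommRingCat.of k))) hZ OY d))) := by
  let π := Z ↘ Spec (CommRingCat.of k)
  let f := IX.subschemeι
  haveI : Dual3.HasHomO f := GrothLib.OX.isLeftAdjoint_pushforward f
  have hω := GrothLib.FMAdj25.isInvertible_dualizingMod π d hZdim hZgor hZ OY hOY
  obtain ⟨e⟩ := GrothLib.FMAdj25.nonempty_homO_twist f IX IW (Scheme.IdealSheafData.ker_subschemeι IX) hW hω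
  have hq : Coh.IsQCoh ((Dual3.homO f).obj (DCoh.dualizingMod π hZ OY d)) := by
    haveI : (CohB1.tensorMod (ClSub.idealMod IW) (DCoh.dualizingMod π hZ OY d)).IsQuasicoherent :=
      GrothLib.VA.isQCoh_tensor (GrothLib.H1Sheaf6.isQuasicoherent_idealMod IW)
        (haveI : IsLocallyNoetherian Z := LocallyOfFiniteType.isLocallyNoetherian π; (GrothLib.Euler.isCoh_of_isInvertible hω).1)
    exact GrothLib.OX.isQCoh_of_iso e.symm (GrothLib.VA.isQCoh_pullback f ‹(CohB1.tensorMod (ClSub.idealMod IW) (DCoh.dualizingMod π hZ OY d)).IsQuasicoherent›)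
  obtain ⟨a⟩ := GrothLib.FMAdj25.nonempty_dualizingMod_iso_homO π f d
    (GrothLib.SerrePn27.topologicalKrullDim_le_of_components fun T hT => (hZdim T hT).le) hZ hX OY hOY hq
  exact ⟨a ≪≫ e⟩

end Groth.Agent.S17671
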