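import Groth.Statements.S17672
import Groth.Agent.S17671
import Groth.Agent.Lib.FMAdj25.Residual
-- import your own Groth.Agent.* helpers here

set_option autoImplicit false
set_option maxHeartbeats 1000000
set_option linter.style.haveILetI false
set_option backward.isDefEq.respectTransparency false
universe u
open CategoryTheory CategoryTheory.Limits AlgebraicGeometry
attribute [local instance] HasDerivedCategory.standard
open CIDisc

namespace Groth.Agent.S17672

/-- Let Z be a proper scheme over a field k, equidimensional of dimension d with Gorenstein local rings,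
and X ⊂ Z the closed subscheme of a quasi-coherent ideal I_X, equidimensional of dimension d, with
Gorenstein local rings, equal to Z at the generic points of its irreducible components (the stalk of
I_X vanishes there); let I_W = (0 : I_X) (affine-locally the annihilator of I_X) be the ideal of the
residual scheme W, and ω_X, ω_Z the dualizing modules over k (degree -d cohomology sheaves of the
upper-shriek of O, existence hypotheses carried). Then the inverse image ideal I_W · O_X is the
ideal of an effective Cartier divisor D_W on X, and ω_X ≅ i^*ω_Z ⊗ I_{D_W}; in terms of canonical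
classes, K_X = K_Z|_X - D_W. (Existence of an isomorphism; X and Z are taken proper over k, the
published statement allowing schemes of finite type.) (Stated over an arbitrary field k; the
published setting is an algebraically closed field, which the argument does not use.) -/
theorem result (k : Type u) [Field k] (Z : Scheme.{u}) [Z.Over (Spec (CommRingCat.of k))]
    [IsProper (Z ↘ (Spec (CommRingCat.of k)))] (d : ℕ)
    (hZdim : ∀ T ∈ irreducibleComponents (Z : Type u), topologicalKrullDim T = d)
    (hZgor : ∀ z : Z, LocCoh.IsGorensteinLocalRing (Z.presheaf.stalk z))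
    (IX : Z.IdealSheafData)
    (hXdim : ∀ T ∈ irreducibleComponents (IX.subscheme : Type u), topologicalKrullDim T = d)
    (hXgor : ∀ x : IX.subscheme, LocCoh.IsGorensteinLocalRing (IX.subscheme.presheaf.stalk x))
    (hgen : ∀ T (hT : T ∈ irreducibleComponents (IX.subscheme : Type u)),
      Subsingleton ((ClSub.idealMod IX).presheaf.stalk (IX.subschemeι.base hT.1.genericPoint)))
    (IW : Z.IdealSheafData) (hW : ∀ U : Z.affineOpens, IW.ideal U = (IX.ideal U).annihilator)
    [DCoh.HasRpush (Z ↘ (Spec (CommRingCat.of k)))] (hZ : DCoh.RpushPreservesQCoh (Z ↘ (Spec (CommRingCat.of k)))) [DCoh.HasShriek (Z ↘ (Spec (CommRingCat.of k))) hZ]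
    [DCoh.HasRpush (IX.subschemeι ≫ (Z ↘ (Spec (CommRingCat.of k))))] (hX : DCoh.RpushPreservesQCoh (IX.subschemeι ≫ (Z ↘ (Spec (CommRingCat.of k)))))
    [DCoh.HasShriek (IX.subschemeι ≫ (Z ↘ (Spec (CommRingCat.of k)))) hX]
    (OY : DCoh.DQCoh (Spec (CommRingCat.of k)))
    (hOY : Nonempty (OY.obj ≅ DCoh.inD (Spec (CommRingCat.of k)) (Coh.structureModule (Spec (CommRingCat.of k))))) :
    BlowUp.IsEffCartierIdeal (IW.comap IX.subschemeι) ∧
    Nonempty (DCoh.dualizingMod (IX.subschemeι ≫ (Z ↘ (Spec (CommRingCat.of k)))) hX OY d ≅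
      CohB1.tensorMod ((Scheme.Modules.pullback IX.subschemeι).obj (DCoh.dualizingMod (Z ↘ (Spec (CommRingCat.of k))) hZ OY d))
        (ClSub.idealMod (IW.comap IX.subschemeι))) := by
  let π := Z ↘ Spec (CommRingCat.of k)
  let f := IX.subschemeι
  have hker : f.ker = IX := Scheme.IdealSheafData.ker_subschemeι IX
  have hω := GrothLib.FMAdj25.isInvertible_dualizingMod π d hZdim hZgor hZ OY hOY
  have hωX := GrothLib.FMAdj25.isInvertible_dualizingMod (f ≫ π) d hXdim hXgor hX OY hOY
  obtain ⟨e⟩ := S17671.result k Z d hZdim hZgor IX hXdim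
    (fun x => haveI := hXgor x; GrothLib.Gor.isCohenMacaulayLocalRing _) hgen IW hW hZ hX OY hOY
  let P := Scheme.Modules.pullback f
  have hPω := GrothLib.RelProjK.isInvertible_pullback f hω
  obtain ⟨t⟩ := GrothLib.FMAdj25.nonempty_pullback_tensor_of_killed f
    (GrothLib.FMAdj25.killed_annihilator f IX IW hker hW) hω
  have hL : PicF.IsInvertible (P.obj (ClSub.idealMod IW)) :=
    GrothLib.FMAdj25.isInvertible_of_tensor hPω (GrothLib.RelProjK.isInvertible_of_iso (e ≪≫ t).symm hωX)
  haveI : IsLocallyNoetherian Z := LocallyOfFiniteType.isLocallyNoetherian π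
  obtain ⟨g⟩ := GrothLib.FMAdj25.nonempty_pullback_residual IX IW hW hXgor hgen hL
  refine ⟨GrothLib.IdealModSec.isEffCartier_of_isInvertible (GrothLib.RelProjK.isInvertible_of_iso g.symm hL), ⟨?_⟩⟩
  exact e ≪≫ t ≪≫ PicGrp.tensorModIso g (Iso.refl _) ≪≫ GrothLib.GrTilde.tensorModComm _ _

end Groth.Agent.S17672
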