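import Groth.Statements.S17675
-- import your own Groth.Agent.* helpers here
import Groth.Agent.Lib.ExtP17.Kron

set_option autoImplicit false
universe u
open CategoryTheory CategoryTheory.Limits AlgebraicGeometry
open Bivar

namespace Groth.Agent.S17675

/-- Together with the observation preceding it: let k be a field, X proper over k, Y locally of finite
type over k, P = X ×_k Y with its projections q₁, q₂, and let X, Y, P carry the dimension functions
induced from the base point (dimension of the closure of a point). Let f : Y → X be a k-morphism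
with graph γ : Y → P, let c be an operational class of degree p on X (an element of the operational
Chow group A^p(X): compatible operations on the Chow groups of all schemes locally of finite type
over X, not a cycle class), and let z be an m-cycle on Y. Suppose that in the Chow group CH_m(P) the
class of the pushforward γ_* z is a finite combination Σ_i n_i [u_i × v_i] of classes of exterior
products, u_i an a_i-cycle on X and v_i an (m − a_i)-cycle on Y; here the exterior product u × v is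
the m-cycle on P whose coefficient at a point z over (x, y) with dim z = dim x + dim y is u(x) v(y)
times the length of O_{P,z}/(m_x, m_y), and 0 at other points. Let β_i be any (a_i − p)-cycle on X
whose class is c ∩ [u_i]. Then c ∩ [z], with c acting on Y through f, is the class in CH_{m−p}(Y) of
the cycle Σ_i n_i deg(β_i) v_i; the degree of β_i is zero unless a_i = p. (The published statement
takes k algebraically closed, X complete with finitely many orbits of a connected solvable group, Y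
= X, f the identity and γ the diagonal, and decomposes the push-forward along the diagonal of the
class of an invariant subvariety into products of classes of invariant subvarieties; in the printed
argument f is any morphism, any such decomposition is allowed, and k only needs to be a field. The
printed schemes are separated and of finite type over k; here Y may be any scheme locally of finite
type over k, a wider class of test schemes.) -/
theorem result
    {k : Type u} [Field k] {X Y P : Scheme.{u}}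
    (pX : X ⟶ Spec (.of k)) (pY : Y ⟶ Spec (.of k)) [IsProper pX] [LocallyOfFiniteType pY]
    (q₁ : P ⟶ X) (q₂ : P ⟶ Y) (hP : IsPullback q₁ q₂ pX pY)
    (δX : X → ℤ) (δY : Y → ℤ) (δP : P → ℤ)
    (hX : Cyc.IsSetup X δX) (hY : Cyc.IsSetup Y δY) (hPδ : Cyc.IsSetup P δP)
    (hδX : Cyc.DeltaCompat pX δX (fun _ => 0)) (hδY : Cyc.DeltaCompat pY δY (fun _ => 0))
    (hδP : Cyc.DeltaCompat q₁ δP δX)
    (f : Y ⟶ X) (hf : f ≫ pX = pY) (hfl : LocallyOfFiniteType f) (hfδ : Cyc.DeltaCompat f δY δX)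
    (γ : Y ⟶ P) [IsClosedImmersion γ] (hγ₁ : γ ≫ q₁ = f) (hγ₂ : γ ≫ q₂ = 𝟙 Y)
    {p m : ℤ} (c : Bivar.OpCl p X δX) (z : AlgebraicCycle Y ℤ) (hz : z ∈ Cyc.Zk Y δY m)
    {ι : Type} [Fintype ι] (n : ι → ℤ) (a : ι → ℤ)
    (u : ι → AlgebraicCycle X ℤ) (hu : ∀ i, u i ∈ Cyc.Zk X δX (a i))
    (v : ι → AlgebraicCycle Y ℤ) (hv : ∀ i, v i ∈ Cyc.Zk Y δY (m - a i))
    (ζ : ι → AlgebraicCycle P ℤ) (hζm : ∀ i, ζ i ∈ Cyc.Zk P δP m)
    (hζ : ∀ (i : ι) (t : P), ζ i t =
          if δP t = δX (q₁ t) + δY (q₂ t) then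
            u i (q₁ t) * v i (q₂ t) *
              ((Module.length (P.presheaf.stalk t) (P.presheaf.stalk t ⧸
                (Ideal.map (q₁.stalkMap t).hom (IsLocalRing.maximalIdeal (X.presheaf.stalk (q₁ t))) ⊔
                  Ideal.map (q₂.stalkMap t).hom (IsLocalRing.maximalIdeal (Y.presheaf.stalk (q₂ t)))))).toNat : ℤ)
          else 0)
    (hdec : ChowOps.cl (AlgebraicCycle.map γ δY δP z) (Bivar.cycMap_mem_Zk γ δY δP m hz) =
      ∑ i, n i • ChowOps.cl (ζ i) (hζm i))
    (β : ι → AlgebraicCycle X ℤ) (hβ : ∀ i, β i ∈ Cyc.Zk X δX (a i - p))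
    (hcβ : ∀ i, c.cap (a i) (ChowOps.cl (u i) (hu i)) = ChowOps.cl (β i) (hβ i))
    (H : (∑ i, (n i * ChowOps.deg pX δX (β i)) • v i) ∈ Cyc.Zk Y δY (m - p)) :
    c.op ⟨Y, f, hfl, δY, hfδ⟩ m (ChowOps.cl z hz) =
      ChowOps.cl (∑ i, (n i * ChowOps.deg pX δX (β i)) • v i) H := by
  classical
  haveI := hfl
  haveI : LocallyOfFiniteType q₁ := MorphismProperty.of_isPullback (P := @LocallyOfFiniteType) hP.flip inferInstance
  haveI : IsProper q₂ := MorphismProperty.of_isPullback (P := @IsProper) hP inferInstance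
  have hPc : Cyc.DeltaCompat (q₁ ≫ pX) δP (fun _ => 0) := Bivar.deltaCompat_comp q₁ pX δP δX _ hδP hδX
  have hq₂ : Cyc.DeltaCompat q₂ δP δY := GrothLib.ExtP17.compat_snd hδX hδY hP hPc
  haveI := hY.1
  haveI := hPδ.1
  let sP : Bivar.OSq X δX := ⟨P, q₁, inferInstance, δP, hδP⟩
  let sY : Bivar.OSq X δX := ⟨Y, f, hfl, δY, hfδ⟩
  obtain ⟨B, hB, e₁, e₂⟩ := c.push sP sY γ hγ₁ m z hz
  obtain ⟨μ, hμ⟩ := GrothLib.PBDeg.exists_mapHom q₂ hPδ hY hq₂ (m - p)
  have hγδ : Cyc.DeltaCompat γ δY δP :=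
    GrothLib.C1.deltaCompat_of_comp γ q₁ f hγ₁ hδP hfδ
  have hid : AlgebraicCycle.map q₂ δP δY (AlgebraicCycle.map γ δY δP B) = B := by
    rw [GrothLib.CycBasic.map_map γ q₂ δY δP δY hγδ hq₂, GrothLib.ExtP17.map_congr_hom hγ₂,
      GrothLib.PBDeg.map_id_cycle]
  have hmq : ∀ C : AlgebraicCycle P ℤ, C ∈ Cyc.Zk P δP (m - p) → AlgebraicCycle.map q₂ δP δY C ∈ Cyc.Zk Y δY (m - p) :=
    fun C hC => Bivar.cycMap_mem_Zk q₂ δP δY (m - p) hC
  refine e₁.trans ?_
  have hL : μ (c.op sP m (ChowOps.cl (AlgebraicCycle.map γ δY δP z) (Bivar.cycMap_mem_Zk γ δY δP m hz))) =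
      ChowOps.cl B hB := by
    rw [e₂, hμ _ _ (hmq _ (Bivar.cycMap_mem_Zk γ δY δP _ hB))]
    exact Bivar.cl_congr hid _ _
  rw [← hL, hdec, map_sum, map_sum]
  have key : ∀ i, ∃ hi : ChowOps.deg pX δX (β i) • v i ∈ Cyc.Zk Y δY (m - p),
      μ (c.op sP m (ChowOps.cl (ζ i) (hζm i))) = ChowOps.cl (ChowOps.deg pX δX (β i) • v i) hi := by
    intro i
    let vp : AlgebraicCycle Y ℤ := GrothLib.C1.toCycle (fun y => max (v i y) 0) fun y => by
      obtain ⟨U, hy, hfin⟩ := GrothLib.C1.LF.of_cycle (v i) y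
      refine ⟨U, hy, hfin.subset fun t ht => ⟨ht.1, fun h => ht.2 ?_⟩⟩
      show max (v i t) 0 = 0
      rw [h, max_self]
    have hvp : ∀ y, vp y = max (v i y) 0 := fun y => rfl
    have hvpk : vp ∈ Cyc.Zk Y δY (m - a i) := fun y hy => by rw [hvp, hv i y hy, max_self]
    obtain ⟨U₁, B₁, hU₁, hB₁, hU₁e, ho₁, hd₁⟩ := GrothLib.ExtP17.exists_prodData hδX hδY hP hPc c hδP inferInstance
      (a := a i) (b := m - a i) (m := m) (by ring) (hu i) (hβ i) (hcβ i) hvpk fun y => le_max_right _ _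
    obtain ⟨U₂, B₂, hU₂, hB₂, hU₂e, ho₂, hd₂⟩ := GrothLib.ExtP17.exists_prodData hδX hδY hP hPc c hδP inferInstance
      (a := a i) (b := m - a i) (m := m) (by ring) (hu i) (hβ i) (hcβ i)
      (v := vp - v i) ((ChowOps.zk Y δY (m - a i)).sub_mem hvpk (hv i)) fun y => by
        rw [Function.locallyFinsuppWithin.coe_sub, Pi.sub_apply, hvp]
        exact sub_nonneg.2 (le_max_left _ _)
    have hU : ζ i = U₁ - U₂ := by
      ext t
      rw [Function.locallyFinsuppWithin.coe_sub, Pi.sub_apply, hU₁e, hU₂e, hζ i t, GrothLib.ExtP17.prodFun,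
        GrothLib.ExtP17.prodFun, Function.locallyFinsuppWithin.coe_sub, Pi.sub_apply, GrothLib.ExtP17.pointProd]
      by_cases h : δP t = δX (q₁ t) + δY (q₂ t)
      · rw [if_pos h, if_pos ⟨rfl, h⟩]
        ring
      · rw [if_neg h, if_neg fun h' => h h'.2]
        ring
    have hmem : ChowOps.deg pX δX (β i) • v i ∈ Cyc.Zk Y δY (m - p) := by
      by_cases hap : a i = p
      · exact (ChowOps.zk Y δY (m - p)).zsmul_mem (hap ▸ hv i) _
      · rw [show ChowOps.deg pX δX (β i) = 0 from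
          Bivar.cycMap_mem_Zk pX δX (fun _ => (0 : ℤ)) (a i - p) (hβ i) (IsLocalRing.closedPoint k)
            (Ne.symm (sub_ne_zero.2 hap)), zero_smul]
        exact (ChowOps.zk Y δY (m - p)).zero_mem
    refine ⟨hmem, ?_⟩
    have hcl : ChowOps.cl (ζ i) (hζm i) = ChowOps.cl U₁ hU₁ - ChowOps.cl U₂ hU₂ :=
      (Bivar.cl_congr hU _ ((ChowOps.zk P δP m).sub_mem hU₁ hU₂)).trans
        (map_sub (ChowOps.clHom P δP m) ⟨U₁, hU₁⟩ ⟨U₂, hU₂⟩)
    rw [hcl, map_sub, ho₁, ho₂, map_sub, hμ _ _ (hmq _ hB₁), hμ _ _ (hmq _ hB₂)]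
    refine (map_sub (ChowOps.clHom Y δY (m - p)) ⟨_, hmq _ hB₁⟩ ⟨_, hmq _ hB₂⟩).symm.trans (Bivar.cl_congr ?_ _ _)
    ext y
    show (AlgebraicCycle.map q₂ δP δY B₁ - AlgebraicCycle.map q₂ δP δY B₂) y = _
    rw [Function.locallyFinsuppWithin.coe_sub, Pi.sub_apply, hd₁, hd₂, Function.locallyFinsuppWithin.coe_sub,
      Pi.sub_apply, Function.locallyFinsuppWithin.coe_zsmul, Pi.smul_apply, smul_eq_mul]
    ring
  choose hk hkey using key
  refine (Finset.sum_congr rfl fun i _ => ?_).trans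
    (map_sum (ChowOps.clHom Y δY (m - p))
      (fun i => ⟨_, (ChowOps.zk Y δY (m - p)).zsmul_mem (hk i) (n i)⟩) Finset.univ).symm |>.trans ?_
  · rw [map_zsmul, map_zsmul, hkey i]
    exact (map_zsmul (ChowOps.clHom Y δY (m - p)) (n i) ⟨_, hk i⟩).symm
  · refine congrArg (ChowOps.clHom Y δY (m - p)) (Subtype.ext ?_)
    rw [AddSubmonoidClass.coe_finset_sum]
    exact Finset.sum_congr rfl fun i _ => smul_smul _ _ _

end Groth.Agent.S17675
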