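import Groth.Statements.S17677
import Mathlib.RingTheory.Bialgebra.MonoidAlgebra

set_option autoImplicit false
universe u
open Hoch

namespace Groth.Agent.S17677

open TensorProduct

/-- Let k be a commutative ring, M a commutative monoid and V a right comodule over the monoid bialgebra
k[M] (a quasi-coherent module with an action of the diagonalizable monoid scheme Spec k[M]). Then
every 1-cocycle of the Hochschild complex of V is a 1-coboundary, i.e. the first Hochschild
cohomology module of the diagonalizable monoid with coefficients in V is zero. (The source works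
over an algebraic space with M finitely generated and cancellative, hypotheses it uses only to
identify modules under the monoid with comodules; the cocycle computation, which is the affine
statement given here, uses neither.) -/
theorem result (k : Type u) [CommRing k] (M : Type u)
    [AddCommMonoid M] (V : Type u) [AddCommGroup V] [Module k V]
    [HopfRep.Comod k (AddMonoidAlgebra k M) V] :
    Hoch.cocycles k (AddMonoidAlgebra k M) V 1 ≤ Hoch.coboundaries k (AddMonoidAlgebra k M) V 1 := by
  intro z hz
  let χ : AddMonoidAlgebra k M →ₗ[k] k :=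
    Finsupp.lapply 0 ∘ₗ (AddMonoidAlgebra.coeffLinearEquiv k).toLinearMap
  have hχs : ∀ (m : M) (r : k), χ (AddMonoidAlgebra.single m r) = Finsupp.single m r 0 := fun m r => rfl
  have hχ1 : χ 1 = 1 := by
    rw [AddMonoidAlgebra.one_def, hχs, Finsupp.single_eq_same]
  have hχΔ : ∀ a, TensorProduct.rid k _ (χ.lTensor (AddMonoidAlgebra k M) (Coalgebra.comul (R := k) a)) =
      χ a • (1 : AddMonoidAlgebra k M) := by
    intro a
    induction a using AddMonoidAlgebra.induction_linear with
    | zero => simp
    | add f g hf hg => simp only [map_add, add_smul, hf, hg]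
    | single m r =>
      rw [AddMonoidAlgebra.comul_single, CommSemiring.comul_apply, TensorProduct.map_tmul,
        LinearMap.lTensor_tmul, TensorProduct.rid_tmul, AddMonoidAlgebra.lsingle_apply,
        AddMonoidAlgebra.lsingle_apply, hχs]
      by_cases hm : m = 0
      · subst hm
        rw [Finsupp.single_eq_same, AddMonoidAlgebra.one_def]
      · simp [Finsupp.single_eq_of_ne (Ne.symm hm)]
  let Q : ((V ⊗[k] AddMonoidAlgebra k M) ⊗[k] AddMonoidAlgebra k M) →ₗ[k] V ⊗[k] AddMonoidAlgebra k M :=
    (TensorProduct.rid k _).toLinearMap ∘ₗ χ.lTensor _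
  let v0 : V ⊗[k] AddMonoidAlgebra k M →ₗ[k] V := (TensorProduct.rid k V).toLinearMap ∘ₗ χ.lTensor V
  have hQ : ∀ y : V ⊗[k] AddMonoidAlgebra k M,
      Q (Hoch.d k (AddMonoidAlgebra k M) V 1 y) = Hoch.d k (AddMonoidAlgebra k M) V 0 (v0 y) + y := by
    intro y
    induction y using TensorProduct.induction_on with
    | zero => simp
    | add a b ha hb =>
      rw [map_add, map_add, map_add, map_add, ha, hb]
      abel
    | tmul x a =>
      have hv0 : v0 (x ⊗ₜ[k] a) = χ a • x := by simp [v0]
      have htail : ∀ w : AddMonoidAlgebra k M ⊗[k] AddMonoidAlgebra k M,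
          Q ((TensorProduct.assoc k V _ _).symm (x ⊗ₜ[k] w)) =
            x ⊗ₜ[k] TensorProduct.rid k _ (χ.lTensor (AddMonoidAlgebra k M) w) := by
        intro w
        induction w using TensorProduct.induction_on with
        | zero => simp
        | add a b ha hb => simp only [TensorProduct.tmul_add, map_add, ha, hb]
        | tmul c e => simp [Q, TensorProduct.tmul_smul]
      have hd0 : ∀ u : V, Hoch.d k (AddMonoidAlgebra k M) V 0 u =
          HopfRep.Comod.coact (k := k) (A := AddMonoidAlgebra k M) u -
            u ⊗ₜ[k] (1 : AddMonoidAlgebra k M) := fun u => rfl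
      have hQt : ∀ (w : V ⊗[k] AddMonoidAlgebra k M), Q (w ⊗ₜ[k] a) = χ a • w := fun w => by simp [Q]
      show Q ((Hoch.d k (AddMonoidAlgebra k M) V 0).rTensor _ (x ⊗ₜ[k] a) +
          ((-1 : k) ^ 1) • Hoch.tail k (AddMonoidAlgebra k M) V (x ⊗ₜ[k] a)) = _
      rw [map_add, map_smul, LinearMap.rTensor_tmul, hQt, Hoch.tail_tmul, htail, hv0, map_smul, hd0,
        pow_one, neg_one_smul]
      simp only [map_sub, hχΔ, LinearMap.lTensor_tmul, TensorProduct.rid_tmul, hχ1, one_smul,
        TensorProduct.tmul_sub, TensorProduct.tmul_smul]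
      abel
  refine ⟨-v0 z, ?_⟩
  have h := hQ z
  rw [LinearMap.mem_ker.1 hz, map_zero] at h
  rw [map_neg]
  exact neg_eq_of_add_eq_zero_right h.symm

end Groth.Agent.S17677
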