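import Groth.Statements.S17679
import Mathlib.LinearAlgebra.Dimension.OrzechProperty
import Mathlib.LinearAlgebra.StdBasis
import Mathlib.Algebra.Algebra.Rat
import Mathlib.Tactic.Linarith
import Mathlib.LinearAlgebra.Dimension.Constructions

set_option autoImplicit false
open DiagMon

namespace Groth.Agent.S17679

/-- For n ≥ 1 the minimal number of generators of ℤ^n as an additive monoid is n + 1: some n + 1
elements generate ℤ^n as a monoid, and every finite set generating ℤ^n as a monoid has at least n +
1 elements. (For n = 0 the empty set generates the zero monoid, so the count n + 1 is stated for n ≥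
1 only.) -/
theorem result (n : ℕ) (hn : 1 ≤ n) :
    (∃ s : Finset (Fin n → ℤ), s.card = n + 1 ∧ AddSubmonoid.closure (s : Set (Fin n → ℤ)) = ⊤) ∧
    ∀ s : Finset (Fin n → ℤ), AddSubmonoid.closure (s : Set (Fin n → ℤ)) = ⊤ → n + 1 ≤ s.card := by
  classical
  constructor
  · let v : Fin n → ℤ := fun _ => -1
    let E : Finset (Fin n → ℤ) := Finset.univ.image fun i => Pi.single i (1 : ℤ)
    have hv : v ∉ E := by
      simp only [E, Finset.mem_image, Finset.mem_univ, true_and, not_exists]
      intro i h
      have := congrFun h i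
      simp [v] at this
    refine ⟨insert v E, ?_, ?_⟩
    · rw [Finset.card_insert_of_notMem hv, Finset.card_image_of_injective]
      · simp
      · intro i j h
        by_contra hij
        have := congrFun h i
        simp [Pi.single_eq_of_ne hij] at this
    · refine eq_top_iff.2 fun x _ => ?_
      set C := AddSubmonoid.closure ((insert v E : Finset (Fin n → ℤ)) : Set (Fin n → ℤ))
      have hC1 : ∀ i, Pi.single i (1 : ℤ) ∈ C := fun i => AddSubmonoid.subset_closure (by simp [E])
      have hCv : v ∈ C := AddSubmonoid.subset_closure (by simp)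
      let t : ℕ := Finset.univ.sup fun i => (-x i).toNat
      have hx : x = t • v + ∑ i, (x i + t).toNat • Pi.single i (1 : ℤ) := by
        ext j
        have h1 : (-x j).toNat ≤ t := Finset.le_sup (f := fun i => (-x i).toNat) (Finset.mem_univ j)
        simp [v, Finset.sum_apply, Pi.single_apply]
        omega
      rw [hx]
      exact add_mem (nsmul_mem hCv _) (sum_mem fun i _ => nsmul_mem (hC1 i) _)
  · intro s hs
    by_contra hlt
    push Not at hlt
    let c : (Fin n → ℤ) →+ (Fin n → ℚ) := (Int.castAddHom ℚ).compLeft (Fin n)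
    let w : s → (Fin n → ℚ) := fun x => c x
    have hC : ∀ x : Fin n → ℤ, ∃ f : s → ℕ, c x = ∑ y, (f y : ℚ) • w y := by
      intro x
      have hx : x ∈ AddSubmonoid.closure (s : Set (Fin n → ℤ)) := hs ▸ AddSubmonoid.mem_top x
      induction hx using AddSubmonoid.closure_induction with
      | mem y hy => exact ⟨fun z => if z = ⟨y, hy⟩ then 1 else 0, by simp [w, ite_smul]⟩
      | zero => exact ⟨0, by simp⟩
      | add y z _ _ hy hz =>
        obtain ⟨f, hf⟩ := hy
        obtain ⟨g, hg⟩ := hz
        exact ⟨f + g, by simp [map_add, hf, hg, add_smul, Finset.sum_add_distrib]⟩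
    have hspan : ⊤ ≤ Submodule.span ℚ (Set.range w) := by
      rw [← (Pi.basisFun ℚ (Fin n)).span_eq, Submodule.span_le]
      rintro _ ⟨i, rfl⟩
      obtain ⟨f, hf⟩ := hC (Pi.single i 1)
      have e : c (Pi.single i 1) = Pi.basisFun ℚ (Fin n) i := by
        ext j
        simp [c, Pi.single_apply]
      rw [SetLike.mem_coe, ← e, hf]
      exact sum_mem fun y _ => Submodule.smul_mem _ _ (Submodule.subset_span ⟨y, rfl⟩)
    have hcard : Fintype.card s = n := by
      have h1 : Module.finrank ℚ (Fin n → ℚ) ≤ Fintype.card s := by
        rw [← finrank_top ℚ (Fin n → ℚ), ← top_le_iff.1 hspan]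
        exact finrank_range_le_card w
      rw [Module.finrank_fin_fun] at h1
      rw [Fintype.card_coe] at h1 ⊢
      omega
    have hli : LinearIndependent ℚ w :=
      linearIndependent_of_top_le_span_of_card_eq_finrank hspan (by rw [hcard, Module.finrank_fin_fun])
    obtain ⟨a⟩ : Nonempty s := Fintype.card_pos_iff.1 (by omega)
    obtain ⟨f, hf⟩ := hC (-(a : Fin n → ℤ))
    have h0 : ∑ y, ((f y : ℚ) + if y = a then 1 else 0) • w y = 0 := by
      simp only [add_smul, ite_smul, one_smul, zero_smul, Finset.sum_add_distrib, Finset.sum_ite_eq',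
        Finset.mem_univ, if_true, ← hf, map_neg]
      exact neg_add_cancel _
    have := Fintype.linearIndependent_iff.1 hli _ h0 a
    simp only [if_true] at this
    have h2 : (0 : ℚ) ≤ (f a : ℚ) := Nat.cast_nonneg _
    linarith


end Groth.Agent.S17679
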