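import Groth.Statements.S17682
import Mathlib.RingTheory.GradedAlgebra.Basic
import Mathlib.RingTheory.Bialgebra.MonoidAlgebra

set_option autoImplicit false
universe u v w u'
open DiagMon

namespace Groth.Agent.S17682

/-- Let R be a commutative ring, A a commutative R-algebra graded by a commutative monoid M, N a
submonoid of M and R' a commutative R-algebra. For every R-algebra homomorphism F : A → R' vanishing
on the homogeneous elements of degree outside N there is a unique R-algebra homomorphism f : A →
R'[M] which is graded (a homogeneous element of degree m goes to a multiple of X^m), vanishes on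
homogeneous elements of degree outside N, and composes with the augmentation X^m ↦ 1 to F. In the
dictionary where an M-grading of A is an action of the diagonalizable monoid scheme Spec R[M] on
Spec A and graded maps A → R'[M] supported on N are equivariant maps from the monoid scheme of N
over R', this says that the attractor of Spec A for the magnet N is represented by the closed
subscheme of Spec A defined by the homogeneous elements of degree outside N. -/
theorem result (R : Type u) [CommRing R]
    (A : Type v) [CommRing A] [Algebra R A] (M : Type w) [AddCommMonoid M] [DecidableEq M]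
    (𝒜 : M → Submodule R A) [GradedAlgebra 𝒜] (N : AddSubmonoid M) (R' : Type u') [CommRing R']
    [Algebra R R'] (F : A →ₐ[R] R') (hF : ∀ m, m ∉ N → ∀ a ∈ 𝒜 m, F a = 0) :
    ∃! f : A →ₐ[R] AddMonoidAlgebra R' M,
      (∀ m, ∀ a ∈ 𝒜 m, f a =
          AddMonoidAlgebra.single m (Bialgebra.counitAlgHom R' (AddMonoidAlgebra R' M) (f a))) ∧
      (∀ m, m ∉ N → ∀ a ∈ 𝒜 m, f a = 0) ∧
      ∀ a, Bialgebra.counitAlgHom R' (AddMonoidAlgebra R' M) (f a) = F a := by
  classical
  let g : ∀ m, 𝒜 m →ₗ[R] AddMonoidAlgebra R' M := fun m =>
    { toFun := fun a => AddMonoidAlgebra.single m (F a)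
      map_add' := fun a b => by simp
      map_smul' := fun c a => by
        rw [Submodule.coe_smul, map_smul, RingHom.id_apply, Algebra.smul_def, Algebra.smul_def,
          AddMonoidAlgebra.coe_algebraMap, Function.comp_apply, AddMonoidAlgebra.single_mul_single, zero_add] }
  let G : (DirectSum M fun m => 𝒜 m) →ₐ[R] AddMonoidAlgebra R' M := DirectSum.toAlgebra R (fun m => 𝒜 m) g
    (by show AddMonoidAlgebra.single 0 (F (1 : A)) = _; rw [map_one, AddMonoidAlgebra.one_def])
    (fun {i j} ai aj => by
      show AddMonoidAlgebra.single (i + j) (F ((ai : A) * aj)) = _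
      rw [map_mul]
      exact (AddMonoidAlgebra.single_mul_single _ _ _ _).symm)
  let f : A →ₐ[R] AddMonoidAlgebra R' M := G.comp (DirectSum.decomposeAlgEquiv 𝒜).toAlgHom
  have hf : ∀ m, ∀ a ∈ 𝒜 m, f a = AddMonoidAlgebra.single m (F a) := by
    intro m a ha
    show G (DirectSum.decompose 𝒜 a) = _
    rw [DirectSum.decompose_of_mem 𝒜 ha]
    simp only [G, DirectSum.toAlgebra]
    refine Eq.trans ?_ (rfl : g m ⟨a, ha⟩ = _)
    exact DirectSum.toAddMonoid_of (φ := fun i => (g i).toAddMonoidHom) m ⟨a, ha⟩
  have hε : ∀ (m : M) (c : R'), Bialgebra.counitAlgHom R' (AddMonoidAlgebra R' M) (AddMonoidAlgebra.single m c) = c :=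
    fun m c => by simp
  have hc : ∀ a, Bialgebra.counitAlgHom R' (AddMonoidAlgebra R' M) (f a) = F a := by
    intro a
    rw [← DirectSum.sum_support_decompose 𝒜 a]
    simp only [map_sum]
    exact Finset.sum_congr rfl fun m _ => by rw [hf m _ (DirectSum.decompose 𝒜 a m).2, hε]
  refine ⟨f, ⟨fun m a ha => by rw [hf m a ha, hε], fun m hm a ha => by rw [hf m a ha, hF m hm a ha, AddMonoidAlgebra.single_zero], hc⟩, ?_⟩
  rintro f' ⟨h1, h2, h3⟩
  refine AlgHom.ext fun a => ?_
  rw [← DirectSum.sum_support_decompose 𝒜 a]
  simp only [map_sum]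
  exact Finset.sum_congr rfl fun m _ => by
    rw [hf m _ (DirectSum.decompose 𝒜 a m).2, h1 m _ (DirectSum.decompose 𝒜 a m).2, h3]

end Groth.Agent.S17682
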