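import Groth.Statements.S17683
import Mathlib.Algebra.MonoidAlgebra.MapDomain

set_option autoImplicit false
universe u
open DiagMon

namespace Groth.Agent.S17683

/-- Let N be a commutative monoid and F a submonoid of N. The additive projection ℤ[N] → ℤ[F] of monoid
algebras keeping the monomials with exponent in F and killing the others is multiplicative, i.e. F
is a face of N, if and only if for all x, y in N the sum x + y lies in F exactly when both x and y
do. -/
theorem result {N : Type u} [AddCommMonoid N] (F : AddSubmonoid N) :
    (∀ a b : AddMonoidAlgebra ℤ N,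
        AddMonoidAlgebra.comapDomain ((↑) : F → N) Subtype.val_injective (a * b) =
          AddMonoidAlgebra.comapDomain ((↑) : F → N) Subtype.val_injective a *
            AddMonoidAlgebra.comapDomain ((↑) : F → N) Subtype.val_injective b) ↔
      ∀ x y : N, x + y ∈ F ↔ (x ∈ F ∧ y ∈ F) := by
  classical
  let φ := AddMonoidAlgebra.comapDomain (R := ℤ) ((↑) : F → N) Subtype.val_injective
  have hmem : ∀ (x : N) (c : ℤ) (hx : x ∈ F), φ (AddMonoidAlgebra.single x c) = AddMonoidAlgebra.single ⟨x, hx⟩ c :=
    fun x c hx => AddMonoidAlgebra.comapDomain_single_map ((↑) : F → N) Subtype.val_injective ⟨x, hx⟩ c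
  have hnot : ∀ (x : N) (c : ℤ), x ∉ F → φ (AddMonoidAlgebra.single x c) = 0 := by
    intro x c hx
    ext y
    simp only [φ, AddMonoidAlgebra.coeff_comapDomain, Finsupp.comapDomain_apply, AddMonoidAlgebra.coeff_single,
      AddMonoidAlgebra.coeff_zero, Finsupp.zero_apply]
    exact Finsupp.single_eq_of_ne fun (h : (y : N) = x) => hx (h ▸ y.2)
  constructor
  · intro h x y
    refine ⟨fun hxy => ?_, fun hh => add_mem hh.1 hh.2⟩
    have h1 := h (AddMonoidAlgebra.single x 1) (AddMonoidAlgebra.single y 1)
    rw [AddMonoidAlgebra.single_mul_single] at h1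
    change φ _ = φ _ * φ _ at h1
    rw [hmem _ _ hxy] at h1
    by_contra hh
    rcases not_and_or.mp hh with h2 | h2
    · rw [hnot _ _ h2, zero_mul] at h1
      simp at h1
    · rw [hnot _ _ h2, mul_zero] at h1
      simp at h1
  · intro h a b
    show φ (a * b) = φ a * φ b
    induction a using AddMonoidAlgebra.induction_linear with
    | zero => simp [φ]
    | add u v hu hv =>
      rw [add_mul, show φ (u * b + v * b) = φ (u * b) + φ (v * b) from AddMonoidAlgebra.comapDomain_add _ _ _ _,
        hu, hv, show φ (u + v) = φ u + φ v from AddMonoidAlgebra.comapDomain_add _ _ _ _, add_mul]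
    | single x r =>
      induction b using AddMonoidAlgebra.induction_linear with
      | zero => simp [φ]
      | add u v hu hv =>
        rw [mul_add, show φ (AddMonoidAlgebra.single x r * u + AddMonoidAlgebra.single x r * v) = φ (AddMonoidAlgebra.single x r * u) + φ (AddMonoidAlgebra.single x r * v) from AddMonoidAlgebra.comapDomain_add _ _ _ _, hu, hv,
          show φ (u + v) = φ u + φ v from AddMonoidAlgebra.comapDomain_add _ _ _ _, mul_add]
      | single y s =>
        rw [AddMonoidAlgebra.single_mul_single]
        by_cases hxy : x + y ∈ F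
        · rw [hmem _ _ hxy, hmem _ _ ((h x y).mp hxy).1, hmem _ _ ((h x y).mp hxy).2,
            AddMonoidAlgebra.single_mul_single]
          rfl
        · rw [hnot _ _ hxy]
          rcases not_and_or.mp (fun hh => hxy ((h x y).mpr hh)) with h2 | h2
          · rw [hnot _ _ h2, zero_mul]
          · rw [hnot _ _ h2, mul_zero]

end Groth.Agent.S17683
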