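import Groth.Statements.S17685
import Groth.Agent.Lib.EssFree.Over

set_option autoImplicit false
universe u
open CategoryTheory MonoidalCategory CartesianMonoidalCategory MonObj GrpObj AlgebraicGeometry
open AlgGrp

namespace Groth.Agent.S17685

/-- Let S be a scheme, F an S-scheme that is finite locally free over S (finite, flat and locally of
finite presentation) with a section e of F over S which is a surjective closed immersion (an
infinitesimal pointed S-scheme), and X an S-scheme with an action of the pointed scheme F, i.e. an
S-morphism F ×_S X → X through which e acts as the identity. Then the subfunctor of F-fixed points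
of X, whose T-points are the T-points x of X with g · x_{T'} = x_{T'} for every S-scheme T' over T
and every T'-point g of F, is represented by a closed subscheme of X. (The source allows F and X to
be algebraic spaces over S; this row is the case of schemes.) -/
theorem result (S : Scheme.{u})
    (F X : Over S) (e : 𝟙_ (Over S) ⟶ F) (act : F ⊗ X ⟶ X) (he : (e ▷ X) ≫ act = (λ_ X).hom)
    [IsFinite F.hom] [Flat F.hom] [LocallyOfFinitePresentation F.hom]
    [IsClosedImmersion e.left] [Surjective e.left] :
    ∃ (Z : Scheme.{u}) (i : Z ⟶ X.left), IsClosedImmersion i ∧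
      ∀ (T : Over S) (x : T ⟶ X), (∃ y : T.left ⟶ Z, y ≫ i = x.left) ↔
        ∀ (T' : Over S) (t : T' ⟶ T) (g : T' ⟶ F), lift g (t ≫ x) ≫ act = t ≫ x := by
  have hfst : (CartesianMonoidalCategory.fst X F).left = CategoryTheory.Limits.pullback.fst X.hom F.hom := rfl
  let a : X ⊗ F ⟶ X :=
    lift (CartesianMonoidalCategory.snd X F) (CartesianMonoidalCategory.fst X F) ≫ act
  let b : X ⊗ F ⟶ X := CartesianMonoidalCategory.fst X F
  let Δ : X ⟶ X ⊗ X := lift (𝟙 X) (𝟙 X)
  let w : X ⟶ X ⊗ F := lift (𝟙 X) (toUnit X ≫ e)
  have hwe : lift (toUnit X ≫ e) (𝟙 X) ≫ act = 𝟙 X := by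
    have h := congrArg (lift (toUnit X) (𝟙 X) ≫ ·) he
    simpa [← Category.assoc, CartesianMonoidalCategory.leftUnitor_hom] using h
  have hw : w ≫ lift a b = 𝟙 X ≫ Δ := by
    apply CartesianMonoidalCategory.hom_ext <;>
      simp [w, a, b, Δ, comp_lift_assoc, hwe]
  have hws : Surjective w.left := by
    have sq : IsPullback w (toUnit X) (CartesianMonoidalCategory.snd X F) e := by
      refine IsPullback.of_isLimit' ⟨by simp [w]⟩ (Limits.PullbackCone.IsLimit.mk _
        (fun s => s.fst ≫ CartesianMonoidalCategory.fst X F) (fun s => ?_) (fun s => ?_)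
        (fun s m h₁ _ => ?_))
      · apply CartesianMonoidalCategory.hom_ext
        · simp [w]
        · have hc : s.fst ≫ CartesianMonoidalCategory.snd X F = s.snd ≫ e := s.condition
          simp [w, hc, toUnit_unique s.snd (toUnit s.pt)]
      · exact toUnit_unique _ _
      · rw [← h₁]; simp [w]
    exact MorphismProperty.of_isPullback (sq.map (Over.forget S)).flip (inferInstanceAs (Surjective e.left))
  have hΔi : IsImmersion Δ.left := by
    show IsImmersion (lift (𝟙 X) (𝟙 X)).left
    rw [Over.lift_left]
    exact inferInstanceAs (IsImmersion (CategoryTheory.Limits.pullback.diagonal X.hom))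
  let p := CategoryTheory.Limits.pullback.fst (lift a b) Δ
  have hpi : IsImmersion p.left :=
    MorphismProperty.of_isPullback (((IsPullback.of_hasPullback (lift a b) Δ).map (Over.forget S))).flip hΔi
  have hps : Surjective p.left := by
    have : Surjective ((CategoryTheory.Limits.pullback.lift w (𝟙 X) hw).left ≫ p.left) := by
      rw [← Over.comp_left, CategoryTheory.Limits.pullback.lift_fst]; exact hws
    exact Surjective.of_comp (CategoryTheory.Limits.pullback.lift w (𝟙 X) hw).left p.left
  have hpc : IsClosedImmersion p.left :=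
    IsClosedImmersion.of_isPreimmersion _ (by rw [Set.range_eq_univ.mpr p.left.surjective]; exact isClosed_univ)
  obtain ⟨Z, z, hz, hZ⟩ := GrothLib.EssFree.exists_closed_forall_eq' a b
    (by rw [hfst]; exact GrothLib.EssFree.projCover_finLocFree _)
  refine ⟨Z.left, z.left, hz, fun T x => ?_⟩
  constructor
  · rintro ⟨y, hy⟩ T' t g
    have h := (hZ T x).mp ⟨Over.homMk y (by rw [← Over.w z, reassoc_of% hy, Over.w]), Over.OverMorphism.ext hy⟩ T' t g
    simpa [a, b, comp_lift_assoc] using h
  · intro h
    obtain ⟨y, hy⟩ := (hZ T x).mpr fun T' t g => by simpa [a, b, comp_lift_assoc] using h T' t g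
    exact ⟨y.left, congrArg CommaMorphism.left hy⟩

end Groth.Agent.S17685
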