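import Groth.Statements.S17687


set_option autoImplicit false
universe u v w
open DiagMon

namespace Groth.Agent.S17687

/-- Let R be a commutative ring and A a commutative R-algebra of finite type graded by a commutative
monoid M. Then the set of ideals J_N, N running over all submonoids of M, where J_N is generated by
the homogeneous elements of degree not in N (the ideal of the attractor of Spec A for the magnet N),
is finite: Spec A has finitely many attractors and hence finitely many pure magnets. (The source
assumes Spec A of finite presentation over the base; its proof uses only a finite set of homogeneous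
algebra generators, so finite type is assumed here.) -/
theorem result (R : Type u) [CommRing R] (A : Type v) [CommRing A]
    [Algebra R A] [Algebra.FiniteType R A] (M : Type w) [AddCommMonoid M] [DecidableEq M]
    (𝒜 : M → Submodule R A) [GradedAlgebra 𝒜] :
    (Set.range fun N : AddSubmonoid M => Ideal.span {a : A | ∃ m : M, m ∉ N ∧ a ∈ 𝒜 m}).Finite := by
  classical
  obtain ⟨s, hs⟩ := Algebra.FiniteType.out (R := R) (A := A)
  let T : Finset (M × A) := s.biUnion fun a => (DirectSum.decompose 𝒜 a).support.image fun m =>
    (m, (DirectSum.decompose 𝒜 a m : A))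
  refine (T.powerset.finite_toSet.image fun U : Finset (M × A) =>
    Ideal.span ((fun x => x.2) '' (U : Set (M × A)))).subset ?_
  rintro _ ⟨N, rfl⟩
  refine ⟨T.filter (fun x => x.1 ∉ N), Finset.mem_powerset.2 (Finset.filter_subset _ _), ?_⟩
  set I : Ideal A := Ideal.span ((fun x : M × A => x.2) '' (T.filter (fun x => x.1 ∉ N) : Set (M × A)))
  refine le_antisymm (Ideal.span_le.2 ?_) (Ideal.span_le.2 ?_)
  · rintro _ ⟨⟨m, a⟩, hma, rfl⟩
    simp only [Finset.coe_filter, Set.mem_ofPred_eq, T, Finset.mem_biUnion, Finset.mem_image, Prod.mk.injEq] at hma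
    obtain ⟨⟨b, -, m', -, rfl, rfl⟩, hm⟩ := hma
    exact Ideal.subset_span ⟨_, hm, (DirectSum.decompose 𝒜 b m').2⟩
  · rintro a ⟨m, hm, ha⟩
    have key : ∀ x : A, ∀ m ∉ N, (DirectSum.decompose 𝒜 x m : A) ∈ I := by
      intro x
      have hx : x ∈ Algebra.adjoin R (s : Set A) := hs ▸ Algebra.mem_top
      induction hx using Algebra.adjoin_induction with
      | mem b hb =>
        intro m hm
        by_cases h0 : (DirectSum.decompose 𝒜 b m : A) = 0
        · rw [h0]; exact zero_mem _
        · refine Ideal.subset_span ⟨(m, _), ?_, rfl⟩
          simp only [Finset.coe_filter, Set.mem_ofPred_eq, T, Finset.mem_biUnion, Finset.mem_image]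
          exact ⟨⟨b, hb, m, DFinsupp.mem_support_iff.2 (fun h => h0 (by rw [h]; rfl)), rfl⟩, hm⟩
      | algebraMap r =>
        intro m hm
        have h0 : algebraMap R A r ∈ 𝒜 0 := by
          rw [Algebra.algebraMap_eq_smul_one]
          exact Submodule.smul_mem _ _ SetLike.GradedOne.one_mem
        rw [DirectSum.decompose_of_mem_ne 𝒜 h0 (fun h : (0 : M) = m => hm (h ▸ N.zero_mem))]
        exact zero_mem _
      | add x y _ _ hx hy =>
        intro m hm
        rw [DirectSum.decompose_add, DirectSum.add_apply, Submodule.coe_add]
        exact Ideal.add_mem _ (hx m hm) (hy m hm)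
      | mul x y _ _ hx hy =>
        intro m hm
        rw [DirectSum.decompose_mul, DirectSum.coe_mul_apply]
        refine sum_mem fun ij hij => ?_
        obtain ⟨-, hsum⟩ := Finset.mem_filter.1 hij
        by_cases h1 : ij.1 ∈ N
        · refine Ideal.mul_mem_left _ _ (hy _ fun h2 => hm ?_)
          rw [← hsum]
          exact N.add_mem h1 h2
        · exact Ideal.mul_mem_right _ _ (hx _ h1)
    rw [SetLike.mem_coe, ← DirectSum.decompose_of_mem_same 𝒜 ha]
    exact key a m hm

end Groth.Agent.S17687
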