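import Groth.Statements.S17688
-- import your own Groth.Agent.* helpers here
import Groth.Agent.Lib.SchDense.Basic
import Mathlib.Algebra.CharP.Lemmas
import Mathlib.CategoryTheory.Monoidal.Cartesian.Mon

set_option autoImplicit false
universe u
open CategoryTheory CategoryTheory.Limits AlgebraicGeometry MonObj
open Neron

namespace Groth.Agent.S17688

/-- Let R be a discrete valuation ring whose fraction field K has characteristic p > 0, and let U be a
flat, separated, commutative group scheme over Spec R whose generic fibre U_K is annihilated by a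
power p^N of p (in the group of endomorphisms of U_K as a K-scheme, the p^N-th power of the identity
is the unit). Then for every prime ℓ invertible in R the ℓ-th power map of U (the ℓ-th power of the
identity in the group of R-morphisms U → U) is an isomorphism. -/
theorem result
    (R : Type u) [CommRing R] [IsDomain R] [IsDiscreteValuationRing R]
    (p : ℕ) (hp : p.Prime) [CharP (FractionRing R) p]
    (U : Over (Spec (CommRingCat.of R))) [GrpObj U] [IsCommMonObj U] [Flat U.hom] [IsSeparated U.hom]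
    (N : ℕ) (hN : (𝟙 (Red.bc (Neron.genPt R) U) : Red.bc (Neron.genPt R) U ⟶ Red.bc (Neron.genPt R) U) ^ (p ^ N) = 1)
    (ℓ : ℕ) (hℓ : ℓ.Prime) (hℓu : IsUnit (ℓ : R)) :
    IsIso ((𝟙 U : U ⟶ U) ^ ℓ) := by
  haveI : IsSchemeTheoreticallyDominant (Neron.genPt R) := by
    haveI : IsDominant (Neron.genPt R) := ⟨(PrimeSpectrum.denseRange_comap_iff_ker_le_nilRadical _).mpr
      (by simp [(RingHom.injective_iff_ker_eq_bot _).mp (IsFractionRing.injective R (FractionRing R))])⟩
    exact IsSchemeTheoreticallyDominant.of_isDominant _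
  have hℓp : ℓ.Coprime (p ^ N) := by
    refine Nat.Coprime.pow_right _ ((Nat.coprime_primes hℓ hp).mpr ?_)
    rintro rfl
    have := hℓu.map (algebraMap R (FractionRing R))
    rw [map_natCast, CharP.cast_eq_zero] at this
    exact not_isUnit_zero this
  obtain ⟨m, hm⟩ : ∃ m, (ℓ * m) % (p ^ N) = 1 % (p ^ N) := by
    obtain ⟨z, hz, hz'⟩ := Nat.chineseRemainder hℓp 0 1
    obtain ⟨m, rfl⟩ := Nat.modEq_zero_iff_dvd.mp hz
    exact ⟨m, hz'⟩
  let F := Over.pullback (Neron.genPt R)
  have hmapl : ∀ n : ℕ, F.map ((𝟙 U : U ⟶ U) ^ n) = (𝟙 (F.obj U)) ^ n := fun n => by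
    have := map_pow (F.homMonoidHom (X := U) (M := U)) (𝟙 U) n
    simp only [Functor.homMonoidHom_apply] at this
    rw [this, CategoryTheory.Functor.map_id]
  have hd : ∀ d d' : U ⟶ U, F.map d = F.map d' → d = d' := fun d d' h => by
    refine Over.OverMorphism.ext (GrothLib.SchDense.ext_of_schDominant U.hom ((Over.w d).trans (Over.w d').symm)
      (Limits.pullback.fst U.hom (Neron.genPt R)) ?_)
    have e : ∀ φ : U ⟶ U, (F.map φ).left ≫ Limits.pullback.fst U.hom (Neron.genPt R) =
        Limits.pullback.fst U.hom (Neron.genPt R) ≫ φ.left := fun φ => Limits.pullback.lift_fst _ _ _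
    rw [← e d, ← e d', h]
  have hN' : (𝟙 (F.obj U)) ^ (p ^ N) = 1 := hN
  have hone : (𝟙 (F.obj U)) ^ (ℓ * m) = 𝟙 (F.obj U) := by
    rw [← Nat.mod_add_div (ℓ * m) (p ^ N), pow_add, pow_mul, hN', one_pow, _root_.mul_one, hm]
    conv_rhs => rw [← pow_one (𝟙 (F.obj U)), ← Nat.mod_add_div 1 (p ^ N), pow_add, pow_mul, hN', one_pow, _root_.mul_one]
  have hc : ∀ a b : ℕ, ((𝟙 U : U ⟶ U) ^ a) ≫ ((𝟙 U : U ⟶ U) ^ b) = (𝟙 U : U ⟶ U) ^ (a * b) := fun a b => by
    rw [MonObj.comp_pow, Category.comp_id, ← pow_mul]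
  have hid : (𝟙 U : U ⟶ U) ^ (ℓ * m) = 𝟙 U := hd _ _ (by rw [hmapl, hone, CategoryTheory.Functor.map_id])
  exact ⟨(𝟙 U : U ⟶ U) ^ m, by rw [hc, hid], by rw [hc, mul_comm, hid]⟩

end Groth.Agent.S17688
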