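import Groth.Statements.S17689
-- import your own Groth.Agent.* helpers here
import Groth.Agent.Lib.Frob.Basic
import Mathlib.AlgebraicGeometry.Morphisms.Integral
import Mathlib.RingTheory.Polynomial.RationalRoot
import Mathlib.RingTheory.Ideal.GoingUp

set_option autoImplicit false
universe u
open CategoryTheory AlgebraicGeometry
open Neron

namespace Groth.Agent.S17689

/-- Let R ⊆ S be a finite extension of discrete valuation rings (the structure map R → S is injective
and S is a finite R-module) such that the induced extension K ⊆ L of fraction fields is purely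
inseparable. Then the morphism Spec S → Spec R is a universal homeomorphism: every base change of it
is a homeomorphism on underlying spaces. (No excellence hypothesis is needed here.) -/
theorem result
    (R S K L : Type u) [CommRing R] [IsDomain R] [IsDiscreteValuationRing R]
    [CommRing S] [IsDomain S] [IsDiscreteValuationRing S] [Algebra R S] [Module.Finite R S] [FaithfulSMul R S]
    [Field K] [Field L] [Algebra R K] [IsFractionRing R K] [Algebra S L] [IsFractionRing S L]
    [Algebra K L] [Algebra R L] [IsScalarTower R S L] [IsScalarTower R K L] [IsPurelyInseparable K L] :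
    FlatMor.IsUnivHomeo (Spec.map (CommRingCat.ofHom (algebraMap R S))) := by
  have hinjR : Function.Injective (algebraMap R K) := IsFractionRing.injective R K
  have hinjS : Function.Injective (algebraMap S L) := IsFractionRing.injective S L
  obtain ⟨q, hq⟩ := ExpChar.exists K
  haveI : Algebra.IsIntegral R S := inferInstance
  haveI : ExpChar R q := RingHom.expChar (algebraMap R K) hinjR q
  have hpow : ∀ x : S, ∃ (n : ℕ) (r : R), x ^ q ^ n = algebraMap R S r := by
    intro x
    obtain ⟨n, y, hy⟩ := IsPurelyInseparable.pow_mem K q (algebraMap S L x)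
    have hint : IsIntegral R y := by
      rw [← isIntegral_algHom_iff (IsScalarTower.toAlgHom R K L) (algebraMap K L).injective]
      show IsIntegral R (algebraMap K L y)
      rw [hy, ← map_pow]
      exact ((Algebra.IsIntegral.isIntegral (x ^ q ^ n)).algebraMap)
    obtain ⟨r, hr⟩ := IsIntegrallyClosed.isIntegral_iff.mp hint
    refine ⟨n, r, hinjS ?_⟩
    rw [map_pow, ← hy, ← hr, ← IsScalarTower.algebraMap_apply R K L, IsScalarTower.algebraMap_apply R S L]
  have hint : (algebraMap R S).IsIntegral := fun x => Algebra.IsIntegral.isIntegral x
  rw [GrothLib.Frob.isUnivHomeo_iff]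
  haveI : IsIntegralHom (Spec.map (CommRingCat.ofHom (algebraMap R S))) := IsIntegralHom.SpecMap_iff.mpr hint
  refine ⟨inferInstance, ?_, ?_⟩
  · refine GrothLib.Frob.universallyInjective_of_algClosed _ fun F _ _ g₁ g₂ h => ?_
    obtain ⟨φ₁, rfl⟩ := Spec.map_surjective g₁
    obtain ⟨φ₂, rfl⟩ := Spec.map_surjective g₂
    rw [← Spec.map_comp, ← Spec.map_comp] at h
    have h' := Spec.map_injective h
    congr 1
    refine CommRingCat.hom_ext (RingHom.ext fun x => ?_)
    obtain ⟨n, r, hr⟩ := hpow x
    obtain ⟨qF, hqF⟩ := ExpChar.exists F
    have e : φ₁.hom x ^ q ^ n = φ₂.hom x ^ q ^ n := by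
      rw [← map_pow, ← map_pow, hr]
      exact congrArg (fun ψ => ψ.hom r) h'
    haveI : ExpChar F q ∨ q = 1 := by
      rcases ‹ExpChar R q› with _ | ⟨hp⟩
      · exact Or.inr rfl
      · left
        haveI := Fact.mk hp
        haveI : CharP F q := by
          have h0 : ((q : ℕ) : F) = 0 := by
            rw [← map_natCast (φ₁.hom.comp (algebraMap R S)), CharP.cast_eq_zero R q, map_zero]
          exact (CharP.charP_iff_prime_eq_zero hp).mpr h0
        exact ExpChar.prime hp
    rcases this with h1 | h1
    · exact iterateFrobenius_inj F q n (by simpa [iterateFrobenius_def] using e)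
    · simpa [h1] using e
  · refine ⟨hint.comap_surjective ?_⟩
    exact FaithfulSMul.algebraMap_injective R S

end Groth.Agent.S17689
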