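import Groth.Statements.S17690
import Groth.Agent.Lib.RLpsi8.ExcellentNagata
import Groth.Agent.Lib.N2.AdjoinN1
import Mathlib.RingTheory.DiscreteValuationRing.TFAE
import Mathlib.FieldTheory.PurelyInseparable.Basic

set_option autoImplicit false
universe u
open Neron

namespace Groth.Agent.S17690

/-- Let R be an excellent discrete valuation ring (Noetherian, universally catenary, G-ring, J-2) with
fraction field K, and let L be a finite purely inseparable field extension of K. Then the integral
closure S of R in L is a discrete valuation ring, and S is a finite R-module. -/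
theorem result
    (R K L : Type u) [CommRing R] [IsDomain R] [IsDiscreteValuationRing R] (hR : EGA4.IsExcellent R)
    [Field K] [Algebra R K] [IsFractionRing R K] [Field L] [Algebra K L] [FiniteDimensional K L]
    [IsPurelyInseparable K L] [Algebra R L] [IsScalarTower R K L] :
    IsDiscreteValuationRing ↥(integralClosure R L) ∧ Module.Finite R ↥(integralClosure R L) := by
  classical
  have hN2 : CAlg.IsN2 R := GrothLib.N2.isN2_of_isNagata (GrothLib.RLpsi8.isNagata_of_isExcellent hR)
  have hfin : Module.Finite R (integralClosure R L) := GrothLib.N2.finite_of_isN2 (K := K) hN2 L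
  refine ⟨?_, hfin⟩
  haveI := hfin
  set S := integralClosure R L with hS
  haveI : IsNoetherianRing S :=
    isNoetherianRing_iff.2 (isNoetherian_of_tower R (inferInstanceAs (IsNoetherian R S)))
  haveI : IsFractionRing S L :=
    IsIntegralClosure.isFractionRing_of_finite_extension R K L S
  haveI : IsIntegrallyClosed S :=
    (isIntegrallyClosed_iff_isIntegrallyClosedIn L).2 inferInstance
  haveI : Ring.DimensionLEOne S := inferInstance
  haveI : IsDedekindDomain S :=
    (isDedekindDomain_iff S L).2 ⟨inferInstance, inferInstance, inferInstance, fun {x} hx => IsIntegrallyClosed.isIntegral_iff.1 hx⟩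
  have hinj : Function.Injective (algebraMap R L) := by
    rw [IsScalarTower.algebraMap_eq R K L]
    exact (algebraMap K L).injective.comp (IsFractionRing.injective R K)
  have hinjS : Function.Injective (algebraMap R S) := fun a b h =>
    hinj (congrArg Subtype.val h)
  haveI : FaithfulSMul R S := (faithfulSMul_iff_algebraMap_injective R S).2 hinjS
  -- uniqueness of the prime over the maximal ideal
  have key : ∀ P Q : Ideal S, P.IsMaximal → Q.IsMaximal → P ≤ Q := by
    intro P Q hP hQ x hx
    obtain ⟨n, y, hy⟩ := IsPurelyInseparable.pow_mem K (ringExpChar K) (x : L)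
    have hr : IsIntegral R y := by
      have h1 : IsIntegral R ((x : L) ^ ringExpChar K ^ n) := IsIntegral.pow x.2 _
      rw [← hy] at h1
      exact (isIntegral_algebraMap_iff (algebraMap K L).injective).1 h1
    obtain ⟨r, rfl⟩ := IsIntegrallyClosed.isIntegral_iff.1 hr
    have he : algebraMap R S r = x ^ ringExpChar K ^ n := by
      refine Subtype.ext ?_
      show algebraMap R L r = (x : L) ^ ringExpChar K ^ n
      rw [← hy, ← IsScalarTower.algebraMap_apply R K L]
    have hq : 0 < ringExpChar K ^ n := pow_pos (expChar_pos K (ringExpChar K)) n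
    have hm : ∀ T : Ideal S, T.IsMaximal → T.comap (algebraMap R S) = IsLocalRing.maximalIdeal R := by
      intro T hT
      exact IsLocalRing.eq_maximalIdeal (Ideal.isMaximal_comap_of_isIntegral_of_isMaximal T)
    have h1 : r ∈ P.comap (algebraMap R S) := by
      show algebraMap R S r ∈ P
      rw [he]
      exact P.pow_mem_of_mem hx _ hq
    rw [hm P hP, ← hm Q hQ] at h1
    have h2 : x ^ ringExpChar K ^ n ∈ Q := he ▸ h1
    exact hQ.isPrime.mem_of_pow_mem _ h2
  obtain ⟨M, hM⟩ := Ideal.exists_maximal S
  haveI : IsLocalRing S := IsLocalRing.of_unique_max_ideal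
    ⟨M, hM, fun P hP => le_antisymm (key P M hP hM) (key M P hM hP)⟩
  have hnf : ¬ IsField S := fun h =>
    IsDiscreteValuationRing.not_isField R ((Algebra.IsIntegral.isField_iff_isField hinjS).2 h)
  exact ((IsDiscreteValuationRing.TFAE S hnf).out 0 2).2 ‹IsDedekindDomain S›


end Groth.Agent.S17690
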