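import Groth.Statements.S17693
import Groth.Agent.Lib.WeilFinite6.Main
import Groth.Agent.Lib.WeilFinite6.GroupAffine
-- import your own Groth.Agent.* helpers here

set_option autoImplicit false
universe u
open CategoryTheory CategoryTheory.Limits AlgebraicGeometry
open WeilRes

namespace Groth.Agent.S17693

/-- Let k be a field, A a finite k-algebra and G a group scheme of finite type over Spec A, not
necessarily smooth. Then the Weil restriction of G along Spec A → Spec k is representable: there
exist a k-scheme R and an A-morphism q : R ×_k Spec A → G such that for every k-scheme T the map g ↦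
(g ×_k Spec A) ≫ q is a bijection from k-morphisms T → R onto A-morphisms T ×_k Spec A → G. (The
published statement adds that the representing k-group scheme is quasi-projective; only
representability is stated here.) -/
theorem result
    (k A : Type u) [Field k] [CommRing A] [Algebra k A] [Module.Finite k A]
    (G : Over (Spec (CommRingCat.of A))) [GrpObj G] [LocallyOfFiniteType G.hom] [QuasiCompact G.hom] :
    ∃ (R : Over (Spec (CommRingCat.of k)))
      (q : Red.bc (Spec.map (CommRingCat.ofHom (algebraMap k A))) R ⟶ G),
      WeilRes.IsWeilRes (Spec.map (CommRingCat.ofHom (algebraMap k A))) G R q := by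
  let f := Spec.map (CommRingCat.ofHom (algebraMap k A))
  haveI : IsFinite f := by
    rw [IsFinite.SpecMap_iff, CommRingCat.hom_ofHom, RingHom.finite_algebraMap]
    infer_instance
  haveI : Flat f := inferInstance
  haveI : LocallyOfFinitePresentation f := inferInstance
  haveI : IsArtinianRing A := IsArtinianRing.of_finite k A
  refine GrothLib.WeilFinite6.exists_weilRes f G fun V _ F hF hFV => ?_
  obtain ⟨U, hU, hFU⟩ := GrothLib.WeilFinite6.exists_affine_artinian A G F hF
  rcases F.eq_empty_or_nonempty with rfl | ⟨x, hx⟩
  · exact ⟨⊥, isAffineOpen_bot _, Set.empty_subset _, bot_le⟩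
  · refine ⟨U, hU, hFU, fun y _ => ?_⟩
    have hV : f (G.hom x) ∈ V := hFV hx
    show f (G.hom y) ∈ V
    rwa [Subsingleton.elim (α := PrimeSpectrum k) (f (G.hom y)) (f (G.hom x))]

end Groth.Agent.S17693
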