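import Groth.Statements.S17694
-- import your own Groth.Agent.* helpers here
import Groth.Agent.Lib.Rigidity.Smooth.Torus
import Groth.Agent.Lib.DiagGrp.CharHom
import Groth.Agent.Lib.GrpSchField.Points

set_option autoImplicit false
universe u
open CategoryTheory CategoryTheory.Limits AlgebraicGeometry MonObj
open WeilRes

namespace Groth.Agent.S17694

/-- Let κ be a field, B a finite κ-algebra and E an abelian scheme over B, that is a proper smooth
B-group scheme whose geometric fibres are connected. Let R be a κ-group scheme which, with the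
homomorphism q : R ×_κ Spec B → E, is the Weil restriction of E along Spec B → Spec κ. Then the
maximal torus of R is trivial; precisely, as the proof establishes, for every algebraically closed
field Ω over κ every homomorphism of Ω-group schemes from the multiplicative group over Ω to the
base change of R to Ω is trivial. -/
theorem result
    (κ B : Type u) [Field κ] [CommRing B] [Algebra κ B] [Module.Finite κ B]
    (E : Over (Spec (CommRingCat.of B))) [GrpObj E] [IsProper E.hom] [Smooth E.hom]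
    (hEc : ∀ (Ω' : Type u) [Field Ω'] (t : Spec (CommRingCat.of Ω') ⟶ Spec (CommRingCat.of B)),
      ConnectedSpace ↥(pullback E.hom t))
    (R : Over (Spec (CommRingCat.of κ))) [GrpObj R]
    (q : Red.bc (Spec.map (CommRingCat.ofHom (algebraMap κ B))) R ⟶ E) [IsMonHom q]
    (hR : WeilRes.IsWeilRes (Spec.map (CommRingCat.ofHom (algebraMap κ B))) E R q)
    (Ω : Type u) [Field Ω] [IsAlgClosed Ω] [Algebra κ Ω]
    (φ : Red.Gm (Spec (CommRingCat.of Ω)) ⟶ Red.bc (Spec.map (CommRingCat.ofHom (algebraMap κ Ω))) R)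
    [IsMonHom φ] :
    φ = 1 := by
  open CategoryTheory.MonoidalCategory CategoryTheory.CartesianMonoidalCategory in
  let fB := Spec.map (CommRingCat.ofHom (algebraMap κ B))
  let aΩ := Spec.map (CommRingCat.ofHom (algebraMap κ Ω))
  let S'' := pullback aΩ fB
  let p₁ : S'' ⟶ Spec (CommRingCat.of Ω) := pullback.fst aΩ fB
  let p₂ : S'' ⟶ Spec (CommRingCat.of B) := pullback.snd aΩ fB
  let G := Red.Gm (Spec (CommRingCat.of Ω))
  -- the transfer of points
  let toR : ∀ P : Over S'', ((Over.map p₁).obj P ⟶ G) → ((Over.map fB).obj ((Over.map p₂).obj P) ⟶ R) := fun P x =>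
    Over.homMk ((GrothLib.DiagGrp.bcPointMulEquiv aΩ R ((Over.map p₁).obj P)).symm (x ≫ φ)).left (by
      refine (Over.w ((GrothLib.DiagGrp.bcPointMulEquiv aΩ R ((Over.map p₁).obj P)).symm (x ≫ φ))).trans ?_
      show (P.hom ≫ p₁) ≫ aΩ = (P.hom ≫ p₂) ≫ fB
      rw [Category.assoc, Category.assoc]
      exact congrArg (P.hom ≫ ·) pullback.condition)
  let e : ∀ P : Over S'', ((Over.map fB).obj ((Over.map p₂).obj P)) ⟶ ((Over.map aΩ).obj ((Over.map p₁).obj P)) := fun P =>
    Over.homMk (𝟙 P.left) (by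
      show 𝟙 _ ≫ (P.hom ≫ p₁) ≫ aΩ = (P.hom ≫ p₂) ≫ fB
      rw [Category.id_comp, Category.assoc, Category.assoc]
      exact congrArg (P.hom ≫ ·) pullback.condition)
  have htoR : ∀ P x, toR P x = e P ≫ (GrothLib.DiagGrp.bcPointMulEquiv aΩ R _).symm (x ≫ φ) := fun P x =>
    Over.OverMorphism.ext (Category.id_comp _).symm
  let V : ∀ P : Over S'', ((Over.map p₁).obj P ⟶ G) → (P ⟶ Red.bc p₂ E) := fun P x =>
    GrothLib.DiagGrp.bcPointMulEquiv p₂ E P
      (GrothLib.DiagGrp.bcPointMulEquiv fB R ((Over.map p₂).obj P) (toR P x) ≫ q)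
  have hVmul : ∀ P x y, V P (x * y) = V P x * V P y := fun P x y => by
    simp only [V, htoR, MonObj.mul_comp, map_mul, MonObj.comp_mul]
  have hVnat : ∀ (P P' : Over S'') (g : P' ⟶ P) x, V P' ((Over.map p₁).map g ≫ x) = g ≫ V P x := fun P P' g x => by
    have h1 : toR P' ((Over.map p₁).map g ≫ x) = (Over.map fB).map ((Over.map p₂).map g) ≫ toR P x := by
      refine Over.OverMorphism.ext ?_
      have h := congrArg (GrothLib.DiagGrp.bcPointMulEquiv aΩ R ((Over.map p₁).obj P')).symm
        (show ((Over.map p₁).map g ≫ x) ≫ φ = (Over.map p₁).map g ≫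
          GrothLib.DiagGrp.bcPointMulEquiv aΩ R _ ((GrothLib.DiagGrp.bcPointMulEquiv aΩ R _).symm (x ≫ φ)) by
          rw [MulEquiv.apply_symm_apply, Category.assoc])
      have h' : (Over.map p₁).map g ≫
          GrothLib.DiagGrp.bcPointMulEquiv aΩ R _ ((GrothLib.DiagGrp.bcPointMulEquiv aΩ R _).symm (x ≫ φ)) =
          GrothLib.DiagGrp.bcPointMulEquiv aΩ R _ ((Over.map aΩ).map ((Over.map p₁).map g) ≫
            (GrothLib.DiagGrp.bcPointMulEquiv aΩ R _).symm (x ≫ φ)) :=
        (GrothLib.DiagGrp.bcPoint_comp aΩ _ _).symm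
      rw [h', MulEquiv.symm_apply_apply] at h
      have h9 := congrArg Over.Hom.left h; exact h9
    show GrothLib.DiagGrp.bcPoint p₂ E P' (GrothLib.DiagGrp.bcPoint fB R _ (toR P' _) ≫ q) = _
    rw [h1, GrothLib.DiagGrp.bcPoint_comp, Category.assoc, GrothLib.DiagGrp.bcPoint_comp]
    rfl
  let T' := Red.bc p₁ G
  let idT : (Over.map p₁).obj T' ⟶ G := (GrothLib.DiagGrp.bcPointMulEquiv p₁ G T').symm (𝟙 T')
  let u : T' ⟶ Red.bc p₂ E := V T' idT
  have hV : ∀ P x, V P x = GrothLib.DiagGrp.bcPointMulEquiv p₁ G P x ≫ u := fun P x => by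
    show _ = GrothLib.DiagGrp.bcPointMulEquiv p₁ G P x ≫ V T' idT
    rw [← hVnat]
    congr 1
    apply (GrothLib.DiagGrp.bcPointMulEquiv p₁ G P).injective
    show _ = GrothLib.DiagGrp.bcPoint p₁ G P ((Over.map p₁).map _ ≫ idT)
    rw [GrothLib.DiagGrp.bcPoint_comp]
    show _ = _ ≫ GrothLib.DiagGrp.bcPointMulEquiv p₁ G T' ((GrothLib.DiagGrp.bcPointMulEquiv p₁ G T').symm (𝟙 T'))
    rw [MulEquiv.apply_symm_apply, Category.comp_id]
  haveI : IsMonHom u := by
    refine GrothLib.GrpSchField.isMonHom_of_mul u ?_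
    obtain ⟨x, hx⟩ := (GrothLib.DiagGrp.bcPointMulEquiv p₁ G (T' ⊗ T')).surjective (fst T' T')
    obtain ⟨y, hy⟩ := (GrothLib.DiagGrp.bcPointMulEquiv p₁ G (T' ⊗ T')).surjective (snd T' T')
    have e : μ[T'] = fst T' T' * snd T' T' := by rw [Hom.mul_def, lift_fst_snd, Category.id_comp]
    have h := hVmul _ x y
    rw [hV, hV, hV, map_mul, hx, hy] at h
    rw [e, h, Hom.mul_def, ← tensorHom_fst u u, ← tensorHom_snd u u, ← comp_lift_assoc, lift_fst_snd,
      Category.id_comp]
  haveI : IsProper (Red.bc p₂ E).hom := inferInstanceAs (IsProper (pullback.snd E.hom p₂))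
  have hu : u = 1 := GrothLib.Rigidity.hom_eq_one_of_charts T' (Red.bc p₂ E)
    ((GrothLib.DiagGrp.hasChartsFpqc_DS (M := ℤ) (Spec (CommRingCat.of Ω)) GrothLib.Rigidity.freeM
      ⟨1, ⟨(AddEquiv.funUnique (Fin 1) ℤ).symm⟩⟩).baseChange p₁) u
  have hV1 : ∀ P x, V P x = 1 := fun P x => by rw [hV, hu, MonObj.comp_one]
  -- the tautological test object
  let T : Over (Spec (CommRingCat.of κ)) := (Over.map aΩ).obj G
  let φ' : T ⟶ R := (GrothLib.DiagGrp.bcPointMulEquiv aΩ R G).symm φ
  let TB := Red.bc fB T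
  have hTB : (pullback.fst T.hom fB ≫ G.hom) ≫ aΩ = TB.hom ≫ fB :=
    (Category.assoc _ _ _).trans pullback.condition
  let P : Over S'' := Over.mk (pullback.lift (pullback.fst T.hom fB ≫ G.hom) TB.hom hTB)
  let x : (Over.map p₁).obj P ⟶ G := Over.homMk (pullback.fst T.hom fB) (pullback.lift_fst _ _ _).symm
  have hres : WeilRes.restr fB q T φ' = 1 := by
    let c : TB ⟶ (Over.map p₂).obj P := Over.homMk (𝟙 _) (by
      show 𝟙 _ ≫ pullback.lift _ _ hTB ≫ p₂ = TB.hom
      rw [Category.id_comp, pullback.lift_snd])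
    have h := hV1 P x
    have h1 : GrothLib.DiagGrp.bcPointMulEquiv fB R _ (toR P x) ≫ q = 1 :=
      (GrothLib.DiagGrp.bcPointMulEquiv p₂ E P).injective (h.trans (map_one _).symm)
    have h2 := congrArg (fun t => c ≫ t) h1
    simp only [MonObj.comp_one] at h2
    refine Eq.trans ?_ h2
    show (Over.pullback fB).map φ' ≫ q = c ≫ GrothLib.DiagGrp.bcPoint fB R _ (toR P x) ≫ q
    rw [← Category.assoc]
    refine congrArg (· ≫ q) ?_
    rw [← GrothLib.DiagGrp.bcPoint_comp]
    have key : GrothLib.DiagGrp.bcPoint fB R TB ((Over.mapPullbackAdj fB).counit.app T ≫ φ') = (Over.pullback fB).map φ' := by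
      simp only [GrothLib.DiagGrp.bcPoint, Adjunction.homEquiv_unit, Functor.map_comp]
      exact (Over.mapPullbackAdj fB).right_triangle_components_assoc T ((Over.pullback fB).map φ')
    rw [← key]
    refine congrArg _ (Over.OverMorphism.ext ?_)
    have h3 : ((GrothLib.DiagGrp.bcPointMulEquiv aΩ R ((Over.map p₁).obj P)).symm (x ≫ φ)).left =
        pullback.fst T.hom fB ≫ φ'.left := by
      have h4 : (GrothLib.DiagGrp.bcPointMulEquiv aΩ R ((Over.map p₁).obj P)).symm (x ≫ φ) =
          (Over.map aΩ).map x ≫ φ' := by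
        apply (GrothLib.DiagGrp.bcPointMulEquiv aΩ R ((Over.map p₁).obj P)).injective
        rw [MulEquiv.apply_symm_apply]
        show _ = GrothLib.DiagGrp.bcPoint aΩ R _ ((Over.map aΩ).map x ≫ φ')
        rw [GrothLib.DiagGrp.bcPoint_comp]
        show _ = x ≫ GrothLib.DiagGrp.bcPointMulEquiv aΩ R G ((GrothLib.DiagGrp.bcPointMulEquiv aΩ R G).symm φ)
        rw [MulEquiv.apply_symm_apply]
      exact congrArg Over.Hom.left h4
    show _ = 𝟙 _ ≫ ((GrothLib.DiagGrp.bcPointMulEquiv aΩ R ((Over.map p₁).obj P)).symm (x ≫ φ)).left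
    rw [Category.id_comp, h3]
    rfl
  have hφ' : φ' = 1 := (hR T).1 (hres.trans (WeilRes.restr_one fB q T).symm)
  exact (MulEquiv.apply_symm_apply (GrothLib.DiagGrp.bcPointMulEquiv aΩ R G) φ).symm.trans
    ((congrArg _ hφ').trans (map_one _))

end Groth.Agent.S17694
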