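import Groth.Statements.S17697
import Groth.Agent.Lib.SplitRed1.MulLqf
import Groth.Agent.Lib.NeronIsog24.Dim
import Groth.Agent.Lib.CartTorsor.StabDim
import Groth.Agent.Lib.Neutral.Open
import Groth.Agent.Lib.FibreDimAt6.Scheme
import Groth.Agent.Lib.AlgSp.FibreDimZero
import Groth.Agent.Lib.GrpSchField.HomFlat
import Groth.Agent.Lib.UnipFix19.Solvable
import Groth.Agent.Lib.AlgGrp14.Core
import Groth.Agent.Lib.Dim.QuasiFinite
-- import your own Groth.Agent.* helpers here

set_option autoImplicit false
set_option backward.isDefEq.respectTransparency false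
set_option maxHeartbeats 2000000
universe u
open CategoryTheory CategoryTheory.Limits MonoidalCategory CartesianMonoidalCategory AlgebraicGeometry MonObj
open Neron

namespace Groth.Agent.S17697

open GrothLib in
/-- If a power map is quasi-finite on the special geometric fibre, it is surjective on a connected generic fibre. -/
theorem surjective_pow_genFib (R K : Type u) [CommRing R] [IsDomain R] [IsDiscreteValuationRing R] [Field K]
    [Algebra R K] [IsFractionRing R K] (G : Over (Spec (CommRingCat.of R))) [GrpObj G] [IsCommMonObj G]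
    [Smooth G.hom] [IsSeparated G.hom] [QuasiCompact G.hom]
    [ConnectedSpace ↥(Red.bc (Spec.map (CommRingCat.ofHom (algebraMap R K))) G).left] (n : ℕ)
    {L : Type u} [Field L] (c : Spec (CommRingCat.of L) ⟶ Spec (CommRingCat.of R))
    (hc : c (IsLocalRing.closedPoint L) = IsLocalRing.closedPoint R)
    (hq : LocallyQuasiFinite ((Over.pullback c).map ((𝟙 G : G ⟶ G) ^ n)).left) :
    Surjective ((Over.pullback (Spec.map (CommRingCat.ofHom (algebraMap R K)))).map ((𝟙 G : G ⟶ G) ^ n)).left := by
  let S := Spec (CommRingCat.of R)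
  let f : G ⟶ G := 𝟙 G ^ n
  haveI : IsMonHom f := GrpDeligne.isMonHom_pow (𝟙 G) n
  let Kr : Over S := pullback f η[G]
  let iK : Kr ⟶ G := pullback.fst f η[G]
  let pK : Kr ⟶ 𝟙_ (Over S) := pullback.snd f η[G]
  have hK : AlgGrp.IsKernel iK f := by
    show IsPullback _ _ _ _
    rw [show toUnit Kr = pK from toUnit_unique _ _]
    exact IsPullback.of_hasPullback f η[G]
  obtain ⟨_, _⟩ := GrpDeligne.exists_grpObj_kernel f iK hK
  haveI : LocallyOfFiniteType f.left := by
    have : LocallyOfFiniteType (f.left ≫ G.hom) := by rw [Over.w f]; infer_instance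
    exact locallyOfFiniteType_of_comp f.left G.hom
  have h0 : IsPullback iK pK f η[G] := IsPullback.of_hasPullback f η[G]
  haveI : LocallyOfFiniteType pK.left := MorphismProperty.of_isPullback (h0.map (Over.forget _)) ‹LocallyOfFiniteType f.left›
  haveI : IsIso (𝟙_ (Over S)).hom := inferInstanceAs (IsIso (𝟙 S))
  haveI : LocallyOfFiniteType Kr.hom := by rw [← Over.w pK]; infer_instance
  -- the special geometric kernel
  let Kc := Red.bc c Kr
  have hc1 := (h0.map (Over.pullback c)).map (Over.forget _)
  haveI : LocallyQuasiFinite ((Over.pullback c).map pK).left := MorphismProperty.of_isPullback hc1 hq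
  haveI : IsIso ((Over.pullback c).obj (𝟙_ (Over S))).hom := inferInstanceAs (IsIso (pullback.snd (𝟙 S) c))
  haveI : LocallyQuasiFinite Kc.hom := by
    show LocallyQuasiFinite ((Over.pullback c).obj Kr).hom
    rw [← Over.w ((Over.pullback c).map pK)]; infer_instance
  haveI : LocallyOfFiniteType Kc.hom := MorphismProperty.pullback_snd Kr.hom c ‹LocallyOfFiniteType Kr.hom›
  let s : S := IsLocalRing.closedPoint R
  have hs0 : FlatMor.fibreDimAt Kr.hom (η[Kr].left s) ≤ 0 := by
    have h1 := (AlgSp.lqf_iff_fibreDimAt Kc.hom).1 inferInstance (η[Kc].left (IsLocalRing.closedPoint L))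
    have hb : FlatMor.fibreDimAt Kc.hom (η[Kc].left (IsLocalRing.closedPoint L)) =
        FlatMor.fibreDimAt Kr.hom (pullback.fst Kr.hom c (η[Kc].left (IsLocalRing.closedPoint L))) :=
      AlgSp.fibreDimAt_of_isPullback (IsPullback.of_hasPullback Kr.hom c) _
    refine le_of_eq_of_le (congrArg _ ?_) (hb ▸ h1)
    refine Eq.trans ?_ (congr($(Neutral.unit_fst Kr c) (IsLocalRing.closedPoint L))).symm
    rw [Scheme.Hom.comp_apply]
    exact congrArg _ hc.symm
  -- the generic kernel
  let cK := Spec.map (CommRingCat.ofHom (algebraMap R K))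
  let t : S := cK (IsLocalRing.closedPoint K)
  have ht0 : FlatMor.fibreDimAt Kr.hom (η[Kr].left t) ≤ 0 := by
    have hsp : η[Kr].left t ⤳ η[Kr].left s :=
      (IsLocalRing.specializes_closedPoint t).map η[Kr].left.continuous
    exact hsp.mem_open (FibreDimAt6.isOpen_fibreDimAt_le Kr.hom 0) hs0
  let Kk := Red.bc cK Kr
  haveI : LocallyOfFiniteType Kk.hom := MorphismProperty.pullback_snd Kr.hom cK ‹LocallyOfFiniteType Kr.hom›
  have hdimK : topologicalKrullDim Kk.left ≤ 0 := by
    rw [← CartTorsor.localDim_eq_dim Kk (η[Kk].left (IsLocalRing.closedPoint K)),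
      ← AlgSp.fibreDimAt_eq_localDim_of_subsingleton Kk.hom]
    refine le_of_eq_of_le (AlgSp.fibreDimAt_of_isPullback (IsPullback.of_hasPullback Kr.hom cK) _) ?_
    refine le_of_eq_of_le (congrArg _ ?_) ht0
    exact congr($(Neutral.unit_fst Kr cK) (IsLocalRing.closedPoint K))
  -- dimensions
  let Gk := Red.bc cK G
  let φ : Gk ⟶ Gk := (Over.pullback cK).map f
  haveI : IsMonHom φ := inferInstanceAs (IsMonHom ((Over.pullback cK).map f))
  haveI : Smooth Gk.hom := MorphismProperty.pullback_snd G.hom cK ‹Smooth G.hom›
  haveI : QuasiCompact Gk.hom := MorphismProperty.pullback_snd G.hom cK ‹QuasiCompact G.hom›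
  haveI : ConnectedSpace Gk.left := ‹_›
  haveI : IsIntegral Gk.left := Euler.isIntegral_of_smooth_connected K Gk.hom
  haveI : IsSeparated Gk.hom := GrpSchField.isSeparated Gk
  haveI : QuasiCompact φ.left := by
    haveI : QuasiCompact (φ.left ≫ Gk.hom) := by rw [Over.w φ]; infer_instance
    exact QuasiCompact.of_comp φ.left Gk.hom
  have h1 : IsPullback ((Over.pullback cK).map iK) ((Over.pullback cK).map pK) φ ((Over.pullback cK).map η[G]) :=
    h0.map (Over.pullback cK)
  have h2 : IsPullback ((Over.pullback cK).map iK) ((Over.pullback cK).map pK ≫ inv (Functor.LaxMonoidal.ε (Over.pullback cK)))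
      φ η[Gk] :=
    h1.of_iso (Iso.refl _) (Iso.refl _) (asIso (Functor.LaxMonoidal.ε (Over.pullback cK))).symm (Iso.refl _)
      (by simp) (by simp) (by simp) (by
        show _ = _
        simp only [Iso.symm_hom, asIso_inv, Iso.refl_hom, Category.comp_id]
        rw [show η[Gk] = Functor.LaxMonoidal.ε (Over.pullback cK) ≫ (Over.pullback cK).map η[G] from Functor.obj.η_def _,
          IsIso.inv_hom_id_assoc])
  have e := (h2.map (Over.forget _)).isoPullback.hom.homeomorph.isHomeomorph.topologicalKrullDim_eq
  have hker : topologicalKrullDim ↥(pullback φ.left η[Gk].left) ≤ 0 := le_of_eq_of_le e.symm hdimK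
  have hdim := Neutral.dim_eq_add_field φ
  obtain ⟨d, hd⟩ := Chev24.exists_nat_dim (k := K) Gk
  have hle : topologicalKrullDim Gk.left ≤ topologicalKrullDim ↥(Set.range φ.left) := by
    rw [hdim]
    exact add_le_of_nonpos_right hker
  have hm : topologicalKrullDim ↥(Set.range φ.left) = (d : WithBot ℕ∞) :=
    hd ▸ le_antisymm Topology.IsEmbedding.subtypeVal.topologicalKrullDim_le hle
  haveI : IrreducibleSpace Gk.left := inferInstance
  exact ⟨Set.range_eq_univ.1 (GrothLib.Dim.eq_univ_of_dim_le (Neutral.isClosed_range_hom φ) hle hm)⟩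

open GrothLib in
/-- In positive characteristic a connected commutative affine group without subtori on which the
`p`-th power map is surjective is trivial. -/
theorem subsingleton_of_surjective_pow {K : Type u} [Field K] {p : ℕ} (hp : (p : K) = 0)
    (V : Over (Spec (CommRingCat.of K))) [GrpObj V] [IsCommMonObj V] [Smooth V.hom] [ConnectedSpace V.left]
    [IsAffine V.left]
    (hV : Red.HasNoSubtorus (AlgebraicClosure K) (Red.bc (Spec.map (CommRingCat.ofHom (algebraMap K (AlgebraicClosure K)))) V))
    (hs : Surjective ((𝟙 V : V ⟶ V) ^ p).left) : Subsingleton V.left := by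
  let L := AlgebraicClosure K
  let q := Spec.map (CommRingCat.ofHom (algebraMap K L))
  let W := Red.bc q V
  haveI : IsAffineHom V.hom := isAffineHom_of_isAffine _
  haveI : IsAffineHom W.hom := MorphismProperty.pullback_snd V.hom q ‹IsAffineHom V.hom›
  haveI : IsAffine W.left := isAffine_of_isAffineHom W.hom
  haveI : Smooth W.hom := MorphismProperty.pullback_snd V.hom q ‹Smooth V.hom›
  haveI : GeometricallyConnected V.hom :=
    Neutral.geometricallyConnected_of_point V.hom η[V].left (Over.w η[V])
  haveI : ConnectedSpace W.left :=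
    GeometricallyConnected.geometrically_connectedSpace (f := V.hom) q (pullback.fst V.hom q) (pullback.snd V.hom q)
      (IsPullback.of_hasPullback V.hom q)
  haveI : IsCommMonObj W := Functor.isCommMonObj_obj
  let f : W ⟶ W := 𝟙 W ^ p
  haveI : IsMonHom f := GrpDeligne.isMonHom_pow (𝟙 W) p
  have hfW : Surjective f.left := by
    rw [show f = (Over.pullback q).map ((𝟙 V : V ⟶ V) ^ p) by
      refine ((map_pow (Over.pullback q).homMonoidHom (𝟙 V) p).trans ?_).symm
      show ((Over.pullback q).map (𝟙 V)) ^ p = _
      rw [CategoryTheory.Functor.map_id]]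
    exact MorphismProperty.of_isPullback (SplitRed1.isPullback_map q ((𝟙 V : V ⟶ V) ^ p)) hs
  have hq : LocallyQuasiFinite f.left := SplitRed1.locallyQuasiFinite_of_surjective f hfW
  haveI : IsIntegral W.left := Euler.isIntegral_of_smooth_connected L W.hom
  obtain ⟨n, hn⟩ := Chev24.exists_nat_dim (k := L) W
  have hn0 : n = 0 := by
    by_contra hn0
    obtain ⟨u, hu₁, hu₂⟩ := SplitRed1.exists_Ga_hom n W
      (Flag27.isSolvable_points (UnipFix19.isSolvableGrp_of_comm W)) hV hn hn0
    haveI := hu₁; haveI := hu₂
    haveI : LocallyOfFiniteType (Red.Ga (Spec (CommRingCat.of L))).hom := RankCell14.lft_Ga _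
    haveI : QuasiCompact (Red.Ga (Spec (CommRingCat.of L))).hom := by
      haveI : IsAffine Red.GaZ.{u}.left := inferInstanceAs (IsAffine (Spec (CommRingCat.of _)))
      haveI : IsAffineHom Red.GaZ.{u}.hom := isAffineHom_of_isAffine _
      exact MorphismProperty.pullback_snd _ _ (inferInstanceAs (QuasiCompact Red.GaZ.{u}.hom))
    haveI : IsClosedImmersion u.left := AlgGrp14.isClosedImmersion_of_mono u
    have hpL : (p : L) = 0 := by rw [← map_natCast (algebraMap K L), hp, map_zero]
    exact SplitRed1.false_of_Ga hpL u hq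
  subst hn0
  haveI : IsFinite W.hom := Chev24.isFinite_of_dim_zero W (by rw [hn]; simp)
  haveI : DiscreteTopology W.left := by
    refine discreteTopology_iff_isOpen_singleton.mpr fun z => ?_
    have huniv : W.hom ⁻¹' {IsLocalRing.closedPoint L} = Set.univ :=
      Set.eq_univ_of_forall fun x => Subsingleton.elim (α := PrimeSpectrum L) _ _
    haveI : DiscreteTopology ↥(W.hom ⁻¹' {IsLocalRing.closedPoint L}) :=
      (W.hom.isDiscrete_preimage_singleton _).to_subtype
    have h2 : IsOpen (Subtype.val ⁻¹' {z} : Set ↥(W.hom ⁻¹' {IsLocalRing.closedPoint L})) := isOpen_discrete _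
    have h3 := (huniv ▸ isOpen_univ : IsOpen (W.hom ⁻¹' {IsLocalRing.closedPoint L})).isOpenMap_subtype_val _ h2
    rwa [Set.image_preimage_eq_inter_range, Subtype.range_val, huniv, Set.inter_univ] at h3
  haveI : Subsingleton W.left := PreconnectedSpace.trivial_of_discrete
  haveI : Surjective q := ⟨fun x => ⟨IsLocalRing.closedPoint L, Subsingleton.elim (α := PrimeSpectrum K) _ _⟩⟩
  haveI : Surjective (pullback.fst V.hom q) := MorphismProperty.pullback_fst _ _ ‹Surjective q›
  haveI : Subsingleton ↥(pullback V.hom q) := ‹Subsingleton W.left›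
  exact (pullback.fst V.hom q).surjective.subsingleton

/-- Let R be an excellent discrete valuation ring of equal characteristic p > 0 with fraction field K, P
a pseudo-abelian variety over K, that is a smooth connected commutative K-group scheme of finite
type all of whose smooth connected affine closed subgroup schemes are trivial (unit section an
isomorphism), given together with an exact sequence of K-group schemes 0 → E → P → V → 0 in which E
is an abelian variety, embedded as a closed subgroup and equal to the kernel of the surjective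
homomorphism P → V, and V is smooth, connected, affine and unipotent (no non-trivial subtorus over
an algebraic closure of K), and P' a smooth separated R-group scheme with an isomorphism of K-group
schemes from its generic fibre onto P (a smooth separated model of P) such that the identity
component of the special fibre of P' is semiabelian, rendered as: the geometric special fibre of P'
admits no closed subgroup scheme isomorphic to the additive group. Then P is proper over K, so an
abelian variety (equivalently V is trivial and E → P an isomorphism), and P has semiabelian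
reduction over R. (The published statement does not mention E and V: every pseudo-abelian variety
admits such a sequence, with E its maximal abelian subvariety, by a structure result that the
published proof takes from the literature without proof, so the sequence is carried here as data.) -/
theorem result
    (R K : Type u) [CommRing R] [IsDomain R] [IsDiscreteValuationRing R] (hR : EGA4.IsExcellent R)
    (p : ℕ) (hp : p.Prime) [CharP R p] [Field K] [Algebra R K] [IsFractionRing R K]
    (P : Over (Spec (CommRingCat.of K))) [GrpObj P] [IsCommMonObj P]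
    [Smooth P.hom] [LocallyOfFiniteType P.hom] [QuasiCompact P.hom] [ConnectedSpace ↥P.left]
    (hP : ∀ (H : Over (Spec (CommRingCat.of K))) [GrpObj H] (j : H ⟶ P) [IsMonHom j],
      IsClosedImmersion j.left → Smooth H.hom → ConnectedSpace ↥H.left → IsAffine H.left → IsIso η[H])
    (E V : Over (Spec (CommRingCat.of K))) [GrpObj E] [GrpObj V]
    [IsProper E.hom] [GeometricallyIntegral E.hom]
    (jE : E ⟶ P) [IsMonHom jE] (πV : P ⟶ V) [IsMonHom πV]
    (hjE : IsClosedImmersion jE.left) (hker : AlgGrp.IsKernel jE πV) (hπV : Surjective πV.left)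
    [Smooth V.hom] [ConnectedSpace ↥V.left] [IsAffine V.left]
    (hV : Red.HasNoSubtorus (AlgebraicClosure K) (Red.bc (Spec.map (CommRingCat.ofHom (algebraMap K (AlgebraicClosure K)))) V))
    (P' : Over (Spec (CommRingCat.of R))) [GrpObj P'] [Smooth P'.hom] [IsSeparated P'.hom]
    (e : Red.bc (Spec.map (CommRingCat.ofHom (algebraMap R K))) P' ≅ P) [IsMonHom e.hom]
    (h0 : SGA7.FibreUnipotentRankZero (IsLocalRing.closedPoint R) P') :
    IsProper P.hom ∧ SGA7.HasSemistableReduction R K P := by
  let cK := Spec.map (CommRingCat.ofHom (algebraMap R K))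
  let S := Spec (CommRingCat.of R)
  obtain ⟨G, _, i, hi, hio, hrange, hsm, hqc⟩ := GrothLib.Neutral.exists_neutralPart P'
  haveI := hi; haveI := hio; haveI := hsm; haveI := hqc
  haveI : IsSeparated G.hom := by rw [← Over.w i]; infer_instance
  let ic : Red.bc cK G ⟶ Red.bc cK P' := (Over.pullback cK).map i
  haveI : IsMonHom ic := inferInstanceAs (IsMonHom ((Over.pullback cK).map i))
  have sq := GrothLib.SplitRed1.isPullback_map cK i
  haveI : IsOpenImmersion ic.left := MorphismProperty.of_isPullback sq hio
  haveI : IsIso e.hom.left := inferInstanceAs (IsIso ((Over.forget _).map e.hom))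
  haveI : ConnectedSpace ↥(Red.bc cK P').left :=
    e.hom.left.homeomorph.symm.surjective.connectedSpace e.hom.left.homeomorph.symm.continuous
  haveI : Surjective ic.left := by
    refine ⟨fun z => (GrothLib.GITQuot.range_eq_preimage sq.flip).ge ?_⟩
    show (pullback.fst P'.hom cK) z ∈ Set.range i.left
    let pr := pullback.fst P'.hom cK
    let pt : ↥(Spec (CommRingCat.of K)) := IsLocalRing.closedPoint K
    have hpr : ∀ w, P'.hom (pr w) = cK pt := fun w => by
      rw [← Scheme.Hom.comp_apply, pullback.condition, Scheme.Hom.comp_apply]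
      exact congrArg _ (Subsingleton.elim (α := PrimeSpectrum K) _ _)
    rw [hrange]
    show pr z ∈ SGA3x.neutralSet P'
    rw [GrothLib.Neutral.mem_neutralSet_iff, hpr z]
    haveI : PreconnectedSpace ↥(pullback P'.hom cK) :=
      inferInstanceAs (PreconnectedSpace ↥(Red.bc cK P').left)
    refine (isPreconnected_range pr.continuous).subset_connectedComponentIn
      ⟨η[Red.bc cK P'].left pt, congr($(GrothLib.Neutral.unit_fst P' cK) pt)⟩ ?_ ⟨z, rfl⟩
    rintro _ ⟨w, rfl⟩
    exact hpr w
  haveI : IsIso ic.left := (isIso_iff_isOpenImmersion_and_epi_base ic.left).2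
    ⟨inferInstance, (TopCat.epi_iff_surjective _).2 ic.left.surjective⟩
  haveI : IsIso ic := by
    haveI : IsIso ((Over.forget _).map ic) := ‹IsIso ic.left›
    exact isIso_of_reflects_iso ic (Over.forget _)
  let e₀ : Red.bc cK G ≅ P := asIso ic ≪≫ e
  haveI : IsMonHom e₀.hom := inferInstanceAs (IsMonHom (ic ≫ e.hom))
  haveI : IsIso e₀.hom.left := inferInstanceAs (IsIso ((Over.forget _).map e₀.hom))
  let Gk := Red.bc cK G
  haveI : ConnectedSpace ↥Gk.left :=
    e₀.hom.left.homeomorph.symm.surjective.connectedSpace e₀.hom.left.homeomorph.symm.continuous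
  haveI hGk : IsCommMonObj Gk := GrothLib.AlgGrp14.isCommMonObj_of_mono e₀.hom
  haveI : IsCommMonObj ((SGA7.genFib R K).obj G) := hGk
  haveI : IsCommMonObj G := GrothLib.SplitRed1.isCommMonObj_of_genFib K G
  -- no additive subgroups in the special geometric fibre
  let s : S := IsLocalRing.closedPoint R
  have hga : SGA7.FibreUnipotentRankZero s G := by
    intro v hv hvc
    haveI := hv; haveI := hvc
    let c := Red.geomPt s
    let ig : Red.geomFibre s G ⟶ Red.geomFibre s P' := (Over.pullback c).map i
    haveI : IsMonHom ig := inferInstanceAs (IsMonHom ((Over.pullback c).map i))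
    haveI : IsOpenImmersion ig.left := MorphismProperty.of_isPullback (GrothLib.SplitRed1.isPullback_map c i) hio
    haveI : Smooth (Red.geomFibre s G).hom := MorphismProperty.pullback_snd G.hom c hsm
    haveI : QuasiCompact (Red.geomFibre s G).hom := MorphismProperty.pullback_snd G.hom c hqc
    haveI : Smooth (Red.geomFibre s P').hom := MorphismProperty.pullback_snd P'.hom c ‹Smooth P'.hom›
    haveI : IsClosedImmersion ig.left :=
      IsClosedImmersion.of_isPreimmersion _ (GrothLib.GrpSchField.isClosed_range_of_isLocallyClosed ig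
        ig.left.isOpenEmbedding.isOpen_range.isLocallyClosed)
    exact h0 (v ≫ ig) inferInstance (inferInstanceAs (IsClosedImmersion (v.left ≫ ig.left)))
  have hqs : LocallyQuasiFinite ((Over.pullback (Red.geomPt s)).map ((𝟙 G : G ⟶ G) ^ p)).left := by
    rw [GrothLib.SplitRed1.geomFibre_map_pow]
    haveI : Smooth (Red.geomFibre s G).hom := MorphismProperty.pullback_snd _ _ hsm
    haveI : QuasiCompact (Red.geomFibre s G).hom := MorphismProperty.pullback_snd _ _ hqc
    haveI : IsCommMonObj (Red.geomFibre s G) := Functor.isCommMonObj_obj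
    exact GrothLib.SplitRed1.lqf_pow_of_noGa _ hga hp.ne_zero
  have hsurj := surjective_pow_genFib R K G p (Red.geomPt s) (GrothLib.SplitRed1.geomPt_apply _ _) hqs
  rw [show (Over.pullback cK).map ((𝟙 G : G ⟶ G) ^ p) = (𝟙 Gk : Gk ⟶ Gk) ^ p by
    refine (map_pow (Over.pullback cK).homMonoidHom (𝟙 G) p).trans ?_
    show ((Over.pullback cK).map (𝟙 G)) ^ p = _
    rw [CategoryTheory.Functor.map_id]] at hsurj
  -- the unipotent quotient
  let π : Gk ⟶ V := e₀.hom ≫ πV
  haveI := hπV
  haveI : Surjective π.left := inferInstanceAs (Surjective (e₀.hom.left ≫ πV.left))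
  haveI : Smooth Gk.hom := MorphismProperty.pullback_snd _ _ hsm
  haveI : QuasiCompact Gk.hom := MorphismProperty.pullback_snd _ _ hqc
  haveI : IsAffineHom V.hom := isAffineHom_of_isAffine _
  haveI : IsReduced V.left := GrothLib.Rigidity.isReduced_of_smooth V.hom
  haveI : QuasiCompact π.left := by
    haveI : QuasiCompact (π.left ≫ V.hom) := by rw [Over.w π]; infer_instance
    exact QuasiCompact.of_comp π.left V.hom
  haveI : Flat π.left := GrothLib.GrpSchField.flat_hom π
  haveI : IsCommMonObj V := GrothLib.AlgGrp14.isCommMonObj_of_epi π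
  haveI : CharP K p := charP_of_injective_algebraMap (IsFractionRing.injective R K) p
  have hVs : Surjective ((𝟙 V : V ⟶ V) ^ p).left := by
    have hcomm : ((𝟙 Gk : Gk ⟶ Gk) ^ p) ≫ π = π ≫ ((𝟙 V : V ⟶ V) ^ p) := by
      rw [MonObj.pow_comp, MonObj.comp_pow, Category.id_comp, Category.comp_id]
    haveI := hsurj
    haveI : Surjective (((𝟙 Gk : Gk ⟶ Gk) ^ p).left ≫ π.left) := inferInstance
    haveI : Surjective (π.left ≫ ((𝟙 V : V ⟶ V) ^ p).left) := by
      rw [← Over.comp_left, ← hcomm, Over.comp_left]; infer_instance
    exact Surjective.of_comp π.left _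
  haveI : Subsingleton V.left := subsingleton_of_surjective_pow (CharP.cast_eq_zero K p) V hV hVs
  haveI := GrothLib.Chev24.isIso_hom_of_subsingleton V
  haveI : IsIso η[V].left := by
    haveI : IsIso (η[V].left ≫ V.hom) := by
      rw [Over.w η[V]]; exact inferInstanceAs (IsIso (𝟙 _))
    exact IsIso.of_isIso_comp_right η[V].left V.hom
  haveI : IsIso η[V] := by
    haveI : IsIso ((Over.forget _).map η[V]) := ‹IsIso η[V].left›
    exact isIso_of_reflects_iso η[V] (Over.forget _)
  haveI : IsIso jE := IsPullback.isIso_fst_of_isIso (show IsPullback jE (toUnit E) πV η[V] from hker)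
  haveI : IsIso jE.left := inferInstanceAs (IsIso ((Over.forget _).map jE))
  have hPE : P.hom = inv jE.left ≫ E.hom := by rw [← Over.w jE, IsIso.inv_hom_id_assoc]
  have hPp : IsProper P.hom := by
    rw [hPE]; exact MorphismProperty.RespectsIso.precomp _ _ _ ‹IsProper E.hom›
  refine ⟨hPp, G, inferInstance, e₀, inferInstance, hsm, inferInstance, hqc, fun x => ?_⟩
  by_cases hx : x = s
  · exact hx ▸ hga
  · intro v hv hvc
    obtain ⟨q, hq⟩ := GrothLib.SplitRed1.exists_factor_generic K (Red.geomPt x)
      (by rw [GrothLib.SplitRed1.geomPt_apply]; exact hx)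
    let ε := GrothLib.DiagGrp.bcGrpComp G cK q (Red.geomPt x) hq
    haveI : IsIso ε.hom.hom.hom := inferInstanceAs (IsIso ((Grp.forget _).mapIso ε).hom)
    haveI : IsIso ε.hom.hom.hom.left := inferInstanceAs (IsIso ((Over.forget _).map ε.hom.hom.hom))
    let B := Red.bc q Gk
    have hGE : Gk.hom = (e₀.hom.left ≫ inv jE.left) ≫ E.hom := by
      rw [Category.assoc, ← hPE, Over.w e₀.hom]
    haveI : IsProper Gk.hom := by
      rw [hGE]; exact MorphismProperty.RespectsIso.precomp _ _ _ ‹IsProper E.hom›
    haveI : GeometricallyIntegral Gk.hom := by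
      rw [hGE]; exact MorphismProperty.RespectsIso.precomp _ _ _ ‹GeometricallyIntegral E.hom›
    haveI : Smooth B.hom := MorphismProperty.pullback_snd _ _ ‹Smooth Gk.hom›
    haveI : IsProper B.hom := MorphismProperty.pullback_snd _ _ ‹IsProper Gk.hom›
    haveI : GeometricallyIntegral B.hom := MorphismProperty.pullback_snd _ _ ‹GeometricallyIntegral Gk.hom›
    haveI : IsIntegral B.left := GeometricallyIntegral.isIntegral_of_subsingleton B.hom
    haveI := hvc
    haveI : IsClosedImmersion (v ≫ ε.hom.hom.hom).left :=
      inferInstanceAs (IsClosedImmersion (v.left ≫ ε.hom.hom.hom.left))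
    exact GrothLib.SplitRed1.false_of_Ga_proper (B := B) (v ≫ ε.hom.hom.hom)

end Groth.Agent.S17697
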