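import Groth.Statements.S17698
import Groth.Agent.S17697
import Groth.Agent.Lib.ProperFib19.Main
import Groth.Agent.Lib.ProperFib19.DVR
import Groth.Agent.Lib.RedSmooth.Basic
import Groth.Agent.Lib.SplitRed1.GaBC
import Groth.Agent.Lib.Chev24.Boundary
import Groth.Agent.Lib.EtSite.FpqcDescent
-- import your own Groth.Agent.* helpers here

set_option autoImplicit false
set_option backward.isDefEq.respectTransparency false
set_option maxHeartbeats 2000000
universe u
open CategoryTheory CategoryTheory.Limits MonoidalCategory CartesianMonoidalCategory AlgebraicGeometry MonObj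
open Neron

namespace Groth.Agent.S17698

open GrothLib in
/-- A connected commutative algebraic group without additive subgroups and without tori is proper. -/
theorem isProper_of_noGa_noSubtorus {L : Type u} [Field L] [IsAlgClosed L] (G : Over (Spec (CommRingCat.of L)))
    [GrpObj G] [IsCommMonObj G] [Smooth G.hom] [QuasiCompact G.hom] [ConnectedSpace G.left]
    (hga : ∀ v : Red.Ga (Spec (CommRingCat.of L)) ⟶ G, IsMonHom v → IsClosedImmersion v.left → False)
    (ht : Red.HasNoSubtorus L G) : IsProper G.hom := by
  by_contra hX
  haveI : IsIntegral G.left := Euler.isIntegral_of_smooth_connected L G.hom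
  obtain ⟨H, _, j, hj, hjc, hHs, hHa, hHd⟩ := Chev24.exists_affine_of_not_isProper hX
  haveI := hj; haveI := hjc; haveI := hHs; haveI := hHa
  haveI : QuasiCompact H.hom := by rw [← Over.w j]; infer_instance
  obtain ⟨H₀, _, j₀, hj₀, hj₀c, hs₀, hc₀, hd₀, -⟩ := Chev24.exists_redNeutral H
  haveI := hj₀; haveI := hj₀c; haveI := hs₀; haveI := hc₀
  haveI : IsAffine H₀.left := isAffine_of_isAffineHom j₀.left
  let v : H₀ ⟶ G := j₀ ≫ j
  haveI : IsMonHom v := inferInstanceAs (IsMonHom (j₀ ≫ j))
  haveI : IsClosedImmersion v.left := inferInstanceAs (IsClosedImmersion (j₀.left ≫ j.left))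
  haveI : Mono v := Over.mono_of_mono_left v
  haveI : IsCommMonObj H₀ := AlgGrp14.isCommMonObj_of_mono v
  haveI : IsIntegral H₀.left := Euler.isIntegral_of_smooth_connected L H₀.hom
  have hnt : Red.HasNoSubtorus L H₀ := fun T _ w _ _ hT => ht T (w ≫ v) hT
  obtain ⟨n, hn⟩ := Chev24.exists_nat_dim (k := L) H₀
  have hn0 : n ≠ 0 := fun h => by
    rw [← hd₀, hn, h] at hHd
    exact lt_irrefl _ hHd
  obtain ⟨u, hu₁, hu₂⟩ := SplitRed1.exists_Ga_hom n H₀
    (Flag27.isSolvable_points (UnipFix19.isSolvableGrp_of_comm H₀)) hnt hn hn0
  haveI := hu₁; haveI := hu₂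
  haveI : LocallyOfFiniteType (Red.Ga (Spec (CommRingCat.of L))).hom := RankCell14.lft_Ga _
  haveI : QuasiCompact (Red.Ga (Spec (CommRingCat.of L))).hom := by
    haveI : IsAffine Red.GaZ.{u}.left := inferInstanceAs (IsAffine (Spec (CommRingCat.of _)))
    haveI : IsAffineHom Red.GaZ.{u}.hom := isAffineHom_of_isAffine _
    exact MorphismProperty.pullback_snd _ _ (inferInstanceAs (QuasiCompact Red.GaZ.{u}.hom))
  haveI : QuasiCompact H₀.hom := by rw [← Over.w v]; infer_instance
  haveI : IsClosedImmersion u.left := AlgGrp14.isClosedImmersion_of_mono u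
  exact hga (u ≫ v) inferInstance (inferInstanceAs (IsClosedImmersion (u.left ≫ v.left)))

open GrothLib in
/-- A group scheme with connected fibres has geometrically connected structure map. -/
theorem geometricallyConnected_of_fibres {S : Scheme.{u}} (G : Over S) [GrpObj G]
    (hconn : ∀ s : S, ConnectedSpace ↥(Red.bc (S.fromSpecResidueField s) G).left) : GeometricallyConnected G.hom := by
  refine ⟨fun {k'} _ t P fst snd hP => ?_⟩
  let s := ((Scheme.SpecToEquivOfField k' S) t).1
  let ψ := ((Scheme.SpecToEquivOfField k' S) t).2
  have ht : Spec.map ψ ≫ S.fromSpecResidueField s = t := (Scheme.SpecToEquivOfField k' S).left_inv t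
  let G' := Red.bc (S.fromSpecResidueField s) G
  haveI := hconn s
  haveI : GeometricallyConnected G'.hom :=
    Neutral.geometricallyConnected_of_point G'.hom η[G'].left (Over.w η[G'])
  have hh : IsPullback (pullback.lift fst (snd ≫ Spec.map ψ) (by rw [Category.assoc, ht]; exact hP.w)) snd G'.hom (Spec.map ψ) :=
    IsPullback.of_right (h₁₂ := pullback.fst G.hom (S.fromSpecResidueField s))
      (by rw [pullback.lift_fst, ht]; exact hP) (pullback.lift_snd _ _ _) (IsPullback.of_hasPullback G.hom _)
  exact GeometricallyConnected.geometrically_connectedSpace (f := G'.hom) (Spec.map ψ) _ _ hh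

/-- Let R be an excellent discrete valuation ring of equal characteristic p > 0 with fraction field K, P
a pseudo-abelian variety over K, that is a smooth connected commutative K-group scheme of finite
type all of whose smooth connected affine closed subgroup schemes are trivial (unit section an
isomorphism), given together with an exact sequence of K-group schemes 0 → E → P → V → 0 in which E
is an abelian variety, embedded as a closed subgroup and equal to the kernel of the surjective
homomorphism P → V, and V is smooth, connected, affine and unipotent (no non-trivial subtorus over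
an algebraic closure of K), and P' a smooth separated R-group scheme with an isomorphism of K-group
schemes from its generic fibre onto P, such that the identity component of the special fibre of P'
is an abelian variety, rendered as: the geometric special fibre of P' admits no closed subgroup
scheme isomorphic to the additive group, and for every algebraically closed field Ω' and every ring
homomorphism R → Ω' killing the maximal ideal, the base change of P' to Ω' contains no non-trivial
subtorus. Then P has good reduction over R: P is K-isomorphic, as a group scheme, to the generic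
fibre of an abelian scheme over Spec R. (The published statement does not mention E and V: every
pseudo-abelian variety admits such a sequence, with E its maximal abelian subvariety, by a structure
result that the published proof takes from the literature without proof, so the sequence is carried
here as data.) -/
theorem result
    (R K : Type u) [CommRing R] [IsDomain R] [IsDiscreteValuationRing R] (hR : EGA4.IsExcellent R)
    (p : ℕ) (hp : p.Prime) [CharP R p] [Field K] [Algebra R K] [IsFractionRing R K]
    (P : Over (Spec (CommRingCat.of K))) [GrpObj P] [IsCommMonObj P]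
    [Smooth P.hom] [LocallyOfFiniteType P.hom] [QuasiCompact P.hom] [ConnectedSpace ↥P.left]
    (hP : ∀ (H : Over (Spec (CommRingCat.of K))) [GrpObj H] (j : H ⟶ P) [IsMonHom j],
      IsClosedImmersion j.left → Smooth H.hom → ConnectedSpace ↥H.left → IsAffine H.left → IsIso η[H])
    (E V : Over (Spec (CommRingCat.of K))) [GrpObj E] [GrpObj V]
    [IsProper E.hom] [GeometricallyIntegral E.hom]
    (jE : E ⟶ P) [IsMonHom jE] (πV : P ⟶ V) [IsMonHom πV]
    (hjE : IsClosedImmersion jE.left) (hker : AlgGrp.IsKernel jE πV) (hπV : Surjective πV.left)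
    [Smooth V.hom] [ConnectedSpace ↥V.left] [IsAffine V.left]
    (hV : Red.HasNoSubtorus (AlgebraicClosure K) (Red.bc (Spec.map (CommRingCat.ofHom (algebraMap K (AlgebraicClosure K)))) V))
    (P' : Over (Spec (CommRingCat.of R))) [GrpObj P'] [Smooth P'.hom] [IsSeparated P'.hom]
    (e : Red.bc (Spec.map (CommRingCat.ofHom (algebraMap R K))) P' ≅ P) [IsMonHom e.hom]
    (h0 : SGA7.FibreUnipotentRankZero (IsLocalRing.closedPoint R) P')
    (ht : ∀ (Ω' : Type u) [Field Ω'] [IsAlgClosed Ω'] (φ : R →+* Ω'),
      (∀ r ∈ IsLocalRing.maximalIdeal R, φ r = 0) →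
      Red.HasNoSubtorus Ω' (Red.bc (Spec.map (CommRingCat.ofHom φ)) P')) :
    SGA7.HasGoodReduction R K P := by
  have hPp : IsProper P.hom := (Groth.Agent.S17697.result R K hR p hp P hP E V jE πV hjE hker hπV hV P' e h0).1
  let cK := Spec.map (CommRingCat.ofHom (algebraMap R K))
  let S := Spec (CommRingCat.of R)
  obtain ⟨G, _, i, hi, hio, hrange, hsm, hqc⟩ := GrothLib.Neutral.exists_neutralPart P'
  haveI := hi; haveI := hio; haveI := hsm; haveI := hqc
  haveI : IsSeparated G.hom := by rw [← Over.w i]; infer_instance
  let ic : Red.bc cK G ⟶ Red.bc cK P' := (Over.pullback cK).map i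
  haveI : IsMonHom ic := inferInstanceAs (IsMonHom ((Over.pullback cK).map i))
  have sq := GrothLib.SplitRed1.isPullback_map cK i
  haveI : IsOpenImmersion ic.left := MorphismProperty.of_isPullback sq hio
  haveI : IsIso e.hom.left := inferInstanceAs (IsIso ((Over.forget _).map e.hom))
  haveI : ConnectedSpace ↥(Red.bc cK P').left :=
    e.hom.left.homeomorph.symm.surjective.connectedSpace e.hom.left.homeomorph.symm.continuous
  haveI : Surjective ic.left := by
    refine ⟨fun z => (GrothLib.GITQuot.range_eq_preimage sq.flip).ge ?_⟩
    show (pullback.fst P'.hom cK) z ∈ Set.range i.left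
    let pr := pullback.fst P'.hom cK
    let pt : ↥(Spec (CommRingCat.of K)) := IsLocalRing.closedPoint K
    have hpr : ∀ w, P'.hom (pr w) = cK pt := fun w => by
      rw [← Scheme.Hom.comp_apply, pullback.condition, Scheme.Hom.comp_apply]
      exact congrArg _ (Subsingleton.elim (α := PrimeSpectrum K) _ _)
    rw [hrange]
    show pr z ∈ SGA3x.neutralSet P'
    rw [GrothLib.Neutral.mem_neutralSet_iff, hpr z]
    haveI : PreconnectedSpace ↥(pullback P'.hom cK) :=
      inferInstanceAs (PreconnectedSpace ↥(Red.bc cK P').left)
    refine (isPreconnected_range pr.continuous).subset_connectedComponentIn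
      ⟨η[Red.bc cK P'].left pt, congr($(GrothLib.Neutral.unit_fst P' cK) pt)⟩ ?_ ⟨z, rfl⟩
    rintro _ ⟨w, rfl⟩
    exact hpr w
  haveI : IsIso ic.left := (isIso_iff_isOpenImmersion_and_epi_base ic.left).2
    ⟨inferInstance, (TopCat.epi_iff_surjective _).2 ic.left.surjective⟩
  haveI : IsIso ic := by
    haveI : IsIso ((Over.forget _).map ic) := ‹IsIso ic.left›
    exact isIso_of_reflects_iso ic (Over.forget _)
  let e₀ : Red.bc cK G ≅ P := asIso ic ≪≫ e
  haveI : IsMonHom e₀.hom := inferInstanceAs (IsMonHom (ic ≫ e.hom))
  haveI : IsIso e₀.hom.left := inferInstanceAs (IsIso ((Over.forget _).map e₀.hom))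
  let Gk := Red.bc cK G
  haveI : ConnectedSpace ↥Gk.left :=
    e₀.hom.left.homeomorph.symm.surjective.connectedSpace e₀.hom.left.homeomorph.symm.continuous
  haveI hGk : IsCommMonObj Gk := GrothLib.AlgGrp14.isCommMonObj_of_mono e₀.hom
  haveI : IsCommMonObj ((SGA7.genFib R K).obj G) := hGk
  haveI : IsCommMonObj G := GrothLib.SplitRed1.isCommMonObj_of_genFib K G
  -- no additive subgroups in the special geometric fibre
  let s : S := IsLocalRing.closedPoint R
  have hga : SGA7.FibreUnipotentRankZero s G := by
    intro v hv hvc
    haveI := hv; haveI := hvc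
    let c := Red.geomPt s
    let ig : Red.geomFibre s G ⟶ Red.geomFibre s P' := (Over.pullback c).map i
    haveI : IsMonHom ig := inferInstanceAs (IsMonHom ((Over.pullback c).map i))
    haveI : IsOpenImmersion ig.left := MorphismProperty.of_isPullback (GrothLib.SplitRed1.isPullback_map c i) hio
    haveI : Smooth (Red.geomFibre s G).hom := MorphismProperty.pullback_snd G.hom c hsm
    haveI : QuasiCompact (Red.geomFibre s G).hom := MorphismProperty.pullback_snd G.hom c hqc
    haveI : Smooth (Red.geomFibre s P').hom := MorphismProperty.pullback_snd P'.hom c ‹Smooth P'.hom›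
    haveI : IsClosedImmersion ig.left :=
      IsClosedImmersion.of_isPreimmersion _ (GrothLib.GrpSchField.isClosed_range_of_isLocallyClosed ig
        ig.left.isOpenEmbedding.isOpen_range.isLocallyClosed)
    exact h0 (v ≫ ig) inferInstance (inferInstanceAs (IsClosedImmersion (v.left ≫ ig.left)))
  haveI := hPp
  haveI : Smooth Gk.hom := MorphismProperty.pullback_snd _ _ hsm
  haveI : QuasiCompact Gk.hom := MorphismProperty.pullback_snd _ _ hqc
  haveI : IsProper Gk.hom := by
    rw [← Over.w e₀.hom]; exact MorphismProperty.RespectsIso.precomp _ _ _ hPp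
  haveI : IsIntegral Gk.left := GrothLib.Euler.isIntegral_of_smooth_connected K Gk.hom
  -- connected fibres
  have hconn : ∀ t : S, ConnectedSpace ↥(Red.bc (S.fromSpecResidueField t) G).left := fun t => by
    have e : i.left '' (G.hom ⁻¹' {t}) = connectedComponentIn (P'.hom ⁻¹' {t}) (η[P'].left t) := by
      ext y
      constructor
      · rintro ⟨z, hz, rfl⟩
        have h1 : i.left z ∈ SGA3x.neutralSet P' := hrange ▸ Set.mem_range_self z
        have h2 : P'.hom (i.left z) = t := by rw [← Scheme.Hom.comp_apply, Over.w]; exact hz
        rwa [GrothLib.Neutral.mem_neutralSet_iff, h2] at h1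
      · intro hy
        have h2 : P'.hom y = t := connectedComponentIn_subset (P'.hom ⁻¹' {t}) _ hy
        have h1 : y ∈ SGA3x.neutralSet P' := by rw [GrothLib.Neutral.mem_neutralSet_iff, h2]; exact hy
        obtain ⟨z, rfl⟩ : y ∈ Set.range i.left := hrange ▸ h1
        refine ⟨z, ?_, rfl⟩
        rw [← Scheme.Hom.comp_apply, Over.w] at h2
        exact h2
    have hc : _root_.IsConnected (G.hom ⁻¹' {t}) := by
      refine ⟨⟨η[G].left t, GrothLib.Neutral.hom_unit G t⟩, ?_⟩
      rw [← i.left.isOpenEmbedding.isInducing.isPreconnected_image, e]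
      exact isPreconnected_connectedComponentIn
    rw [← G.hom.range_fiberι] at hc
    haveI : ConnectedSpace (Set.range (G.hom.fiberι t)) := Subtype.connectedSpace hc
    exact (G.hom.fiberι t).isEmbedding.toHomeomorph.symm.surjective.connectedSpace
      (G.hom.fiberι t).isEmbedding.toHomeomorph.symm.continuous
  haveI : GeometricallyConnected G.hom := geometricallyConnected_of_fibres G hconn
  -- the special geometric fibre
  let c := Red.geomPt s
  let L := AlgebraicClosure (S.residueField s)
  let Gs := Red.geomFibre s G
  haveI : Smooth Gs.hom := MorphismProperty.pullback_snd _ _ hsm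
  haveI : QuasiCompact Gs.hom := MorphismProperty.pullback_snd _ _ hqc
  haveI : IsCommMonObj Gs := Functor.isCommMonObj_obj
  haveI : ConnectedSpace Gs.left :=
    GeometricallyConnected.geometrically_connectedSpace (f := G.hom) c (pullback.fst G.hom c) (pullback.snd G.hom c)
      (IsPullback.of_hasPullback G.hom c)
  have hnt : Red.HasNoSubtorus L Gs := by
    obtain ⟨φ, hφ⟩ := Spec.map_surjective c
    have hm : ∀ r ∈ IsLocalRing.maximalIdeal R, φ.hom r = 0 := by
      intro r hr
      have h1 : (Spec.map φ) (IsLocalRing.closedPoint L) = s := by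
        rw [hφ]; exact GrothLib.SplitRed1.geomPt_apply s _
      have h2 : r ∈ ((Spec.map φ) (IsLocalRing.closedPoint L)).asIdeal := by rw [h1]; exact hr
      have h3 : φ.hom r ∈ IsLocalRing.maximalIdeal L := h2
      rwa [IsLocalRing.maximalIdeal_eq_bot, Ideal.mem_bot] at h3
    have h1 : Red.HasNoSubtorus L (Red.bc (Spec.map φ) P') := ht L φ.hom hm
    rw [hφ] at h1
    intro T _ w _ _ hT
    let ig : Gs ⟶ Red.bc c P' := (Over.pullback c).map i
    haveI : IsMonHom ig := inferInstanceAs (IsMonHom ((Over.pullback c).map i))
    haveI : IsOpenImmersion ig.left := MorphismProperty.of_isPullback (GrothLib.SplitRed1.isPullback_map c i) hio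
    haveI : Mono ig := Over.mono_of_mono_left ig
    exact h1 T (w ≫ ig) hT
  have hps : IsProper Gs.hom := isProper_of_noGa_noSubtorus Gs hga hnt
  let ik := S.fromSpecResidueField s
  let b := Spec.map (CommRingCat.ofHom (algebraMap (S.residueField s) L))
  have hpb : IsProper (pullback.snd (pullback.snd G.hom ik) b) := by
    rw [← pullbackLeftPullbackSndIso_hom_snd G.hom ik b]
    exact MorphismProperty.RespectsIso.precomp _ _ _ hps
  have hpk : IsProper (pullback.snd G.hom ik) := by
    haveI : Surjective b := ⟨fun x => ⟨IsLocalRing.closedPoint L, Subsingleton.elim (α := PrimeSpectrum (S.residueField s)) _ _⟩⟩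
    haveI : Flat b := GrothLib.Flag27.flat_to_field b
    exact MorphismProperty.of_pullback_snd_of_descendsAlong (P := @IsProper) (Q := GrothLib.EtSite.fpqcCov.{u})
      (f := pullback.snd G.hom ik) (g := b) ⟨⟨‹_›, ‹_›⟩, inferInstance⟩ hpb
  -- properness
  let f : G.left ⟶ S := G.hom
  haveI : IsReduced G.left := GrothLib.RedSmooth.isReduced_of_smooth f
  have hsec : Function.Surjective f.base := fun y => ⟨η[G].left y, GrothLib.Neutral.hom_unit G y⟩
  haveI : IrreducibleSpace ↥(GrothLib.ProperFib19.genFibre R K f) := inferInstanceAs (IrreducibleSpace ↥Gk.left)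
  haveI : IsIntegral G.left := GrothLib.ProperFib19.isIntegral_of_generic R K f f.isOpenMap
  have hGp : IsProper G.hom := by
    refine GrothLib.ProperFib19.isProper_of_geometric_fibres f (GrothLib.ProperFib19.isNormalScheme_spec R) hsec
      (fun Ω _ _ y => ?_) (fun Ω _ _ y _ => (GeometricallyConnected.geometrically_connectedSpace (f := G.hom) y
        (pullback.fst f y) (pullback.snd f y) (IsPullback.of_hasPullback f y)).toPreconnectedSpace)
    by_cases hy : y (IsLocalRing.closedPoint Ω) = s
    · let s' := ((Scheme.SpecToEquivOfField Ω S) y).1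
      let ψ := ((Scheme.SpecToEquivOfField Ω S) y).2
      have hψ : Spec.map ψ ≫ S.fromSpecResidueField s' = y := (Scheme.SpecToEquivOfField Ω S).left_inv y
      have hs' : s' = s := hy
      have hpk' : IsProper (pullback.snd f (S.fromSpecResidueField s')) := by rw [hs']; exact hpk
      rw [← hψ]
      exact (MorphismProperty.cancel_left_of_respectsIso @IsProper
        (pullbackLeftPullbackSndIso f (S.fromSpecResidueField s') (Spec.map ψ)).hom _).1
          (by rw [pullbackLeftPullbackSndIso_hom_snd]; infer_instance)
    · obtain ⟨q, rfl⟩ := GrothLib.SplitRed1.exists_factor_generic K y hy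
      haveI : IsProper (pullback.snd f cK) := ‹IsProper Gk.hom›
      exact (MorphismProperty.cancel_left_of_respectsIso @IsProper
        (pullbackLeftPullbackSndIso f cK q).hom _).1
          (by rw [pullbackLeftPullbackSndIso_hom_snd]; infer_instance)
  exact ⟨G, inferInstance, e₀, inferInstance, hGp, hsm, fun k' _ t =>
    GeometricallyConnected.geometrically_connectedSpace (f := G.hom) t (pullback.fst G.hom t) (pullback.snd G.hom t)
      (IsPullback.of_hasPullback G.hom t)⟩

end Groth.Agent.S17698
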