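import Groth.Statements.S1770
import Groth.Agent.Lib.RightAdj22.Coprod
import Groth.Agent.Lib.TorBC25.Perfect

set_option autoImplicit false
universe u
open CategoryTheory CategoryTheory.Limits AlgebraicGeometry
attribute [local instance] HasDerivedCategory.standard
open Dual

namespace Groth.Agent.S1770

/-- Let f : X → Y be a flat proper morphism of Noetherian schemes. Assume the derived direct image Rf_*
exists and preserves quasi-coherence of cohomology sheaves (both known results), so that it
restricts to a functor D_QCoh(O_X) → D_QCoh(O_Y), and let a : D_QCoh(O_Y) → D_QCoh(O_X) be a right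
adjoint of this restricted functor. Then a commutes with direct sums: it preserves all coproducts
indexed by types in the ambient universe. (The published statement is for perfect proper morphisms;
a flat proper morphism is a special case.) -/
theorem result (X Y : Scheme.{u}) [IsNoetherian X] [IsNoetherian Y] (f : X ⟶ Y) [IsProper f] [Flat f] [DCoh.HasRpush f] (h : ∀ K : DCoh.D X, DCoh.IsQCohD K → DCoh.IsQCohD ((DCoh.Rpush f).obj K)) (a : DCoh.DQCoh Y ⥤ DCoh.DQCoh X) (adj : (ObjectProperty.lift DCoh.IsQCohD (ObjectProperty.ι DCoh.IsQCohD ⋙ DCoh.Rpush f) (fun K => h K.obj K.property)) ⊣ a) (J : Type u) : PreservesColimitsOfShape (Discrete J) a := by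
  haveI : CompactSpace X := QuasiCompact.compactSpace_of_compactSpace f
  haveI : QuasiSeparatedSpace X := quasiSeparatedSpace_of_quasiSeparated f
  refine GrothLib.RightAdj22.preservesColimitsOfShape adj (fun P hP => ?_) J
  exact GrothLib.OX.isPerfect_of_iso (GrothLib.TorBC25.isPerfect_RR f hP) ((GrothLib.OX.rpushIsoRres f).app P.obj).symm

end Groth.Agent.S1770
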