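import Groth.Statements.S17701
import Groth.Agent.Lib.AbTors.Tate
import Groth.Agent.Lib.DegPoly.BaseChange
import Groth.Agent.Lib.AlgSp.EtTopPoints
import Groth.Agent.Lib.AbMul.EtalePow
import Groth.Agent.Lib.UnipFix19.UnipBC
import Groth.Agent.Lib.Flag27.TorusConj
import Groth.Agent.Lib.Flag27.NoSubtorus
import Groth.Agent.Lib.SplitRed1.MulLqf
-- import your own Groth.Agent.* helpers here

set_option autoImplicit false
set_option backward.isDefEq.respectTransparency false
set_option maxHeartbeats 2000000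
universe u
open CategoryTheory CategoryTheory.Limits MonoidalCategory CartesianMonoidalCategory AlgebraicGeometry MonObj
open Neron

namespace Groth.Agent.S17701

open AbDual in
/-- A homomorphism of point groups which is bijective on `ℓ`-power torsion induces an isomorphism of Tate modules. -/
theorem nonempty_tateMod_equiv {S S' : Scheme.{u}} {A : Over S} [GrpObj A] [IsCommMonObj A] {B : Over S'} [GrpObj B]
    [IsCommMonObj B] {T : Over S} {T' : Over S'} (ℓ : ℕ) [Fact ℓ.Prime] (Φ : (T ⟶ A) →* (T' ⟶ B))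
    (hinj : ∀ (n : ℕ) (x : T ⟶ A), x ^ (ℓ ^ n) = 1 → Φ x = 1 → x = 1)
    (hsurj : ∀ (n : ℕ) (y : T' ⟶ B), y ^ (ℓ ^ n) = 1 → ∃ x : T ⟶ A, x ^ (ℓ ^ n) = 1 ∧ Φ x = y) :
    Nonempty (TateMod A ℓ T ≃ₗ[ℤ_[ℓ]] TateMod B ℓ T') := by
  let φ := Φ.toAdditive
  let f : TateMod A ℓ T →ₗ[ℤ_[ℓ]] TateMod B ℓ T' :=
    { toFun := fun z => ⟨fun n => φ ((z : ℕ → Additive (T ⟶ A)) n),
        ⟨fun n => by rw [← map_nsmul, z.torsion, map_zero], fun n => by rw [← map_nsmul, z.compat]⟩⟩
      map_add' := fun z z' => TateMod.ext fun n => map_add φ _ _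
      map_smul' := fun a z => TateMod.ext fun n => by
        rw [RingHom.id_apply, smul_component]
        exact map_nsmul φ _ _ }
  have hinj' : ∀ (n : ℕ) (v w : Additive (T ⟶ A)), (ℓ ^ n) • v = 0 → (ℓ ^ n) • w = 0 → φ v = φ w → v = w := by
    intro n v w hv hw h
    have h1 : (ℓ ^ n) • (v - w) = 0 := by rw [smul_sub, hv, hw, sub_zero]
    have h2 : φ (v - w) = 0 := by rw [map_sub, h, sub_self]
    exact sub_eq_zero.1 (hinj n (v - w).toMul h1 h2)
  refine ⟨LinearEquiv.ofBijective f ⟨fun z z' h => TateMod.ext fun n => ?_, fun z => ?_⟩⟩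
  · exact hinj' n _ _ (z.torsion n) (z'.torsion n) (congrFun (congrArg Subtype.val h) n)
  · choose x hx hxy using fun n => hsurj n ((z : ℕ → Additive (T' ⟶ B)) n).toMul (z.torsion n)
    let v : ℕ → Additive (T ⟶ A) := fun n => Additive.ofMul (x n)
    have hv : ∀ n, (ℓ ^ n) • v n = 0 := fun n => hx n
    have hφ : ∀ n, φ (v n) = (z : ℕ → Additive (T' ⟶ B)) n := fun n => hxy n
    refine ⟨⟨v, hv, fun n => hinj' n _ _ ?_ (hv n) ?_⟩, TateMod.ext hφ⟩
    · rw [← mul_nsmul, ← pow_succ']; exact hv (n + 1)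
    · rw [map_nsmul, hφ, hφ, z.compat]

open GrothLib in
/-- Torsion points of invertible order descend to separably closed fields. -/
theorem exists_descend_torsion {k Ω F : Type u} [Field k] [Field Ω] [IsSepClosed Ω] [Field F]
    (P : Over (Spec (CommRingCat.of k))) [GrpObj P] [IsCommMonObj P] [Smooth P.hom] [QuasiCompact P.hom]
    (s : Spec (CommRingCat.of Ω) ⟶ Spec (CommRingCat.of k)) (j : Spec (CommRingCat.of F) ⟶ Spec (CommRingCat.of Ω))
    {N : ℕ} (hN : (N : k) ≠ 0) (y : Over.mk (j ≫ s) ⟶ P) (hy : y ^ N = 1) :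
    ∃ x : Over.mk s ⟶ P, x ^ N = 1 ∧ j ≫ x.left = y.left := by
  let fP : P ⟶ P := 𝟙 P ^ N
  haveI : Etale fP.left := by
    rw [show fP = 𝟙 P ^ (N : ℤ) from (zpow_natCast _ _).symm]
    exact GrothLib.AbMul.etale_pow_field P (N : ℤ) (by exact_mod_cast hN)
  let pE := pullback.snd fP.left η[P].left
  haveI : Etale pE := MorphismProperty.pullback_snd _ _ ‹Etale fP.left›
  have hy' : y ≫ fP = 1 := by rw [MonObj.comp_pow, Category.comp_id, hy]
  let b : Spec (CommRingCat.of F) ⟶ pullback fP.left η[P].left := pullback.lift y.left (j ≫ s) (by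
    show (y ≫ fP).left = _
    rw [hy', Hom.one_def, Over.comp_left]
    rfl)
  obtain ⟨a, ha, hab⟩ := GrothLib.AlgSp.EtTopPoints.exists_descend j pE s b (pullback.lift_snd _ _ _)
  have hP : η[P].left ≫ P.hom = 𝟙 _ := Over.w η[P]
  have hw : (a ≫ pullback.fst fP.left η[P].left) ≫ P.hom = s := by
    rw [← Over.w fP, Category.assoc, pullback.condition_assoc]
    erw [hP]
    erw [Category.comp_id]
    exact ha
  refine ⟨Over.homMk (a ≫ pullback.fst fP.left η[P].left) hw, ?_, ?_⟩
  · rw [show (Over.homMk (a ≫ pullback.fst fP.left η[P].left) hw : Over.mk s ⟶ P) ^ N =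
        (Over.homMk (a ≫ pullback.fst fP.left η[P].left) hw : Over.mk s ⟶ P) ≫ fP by
      rw [MonObj.comp_pow, Category.comp_id]]
    apply Over.OverMorphism.ext
    show (a ≫ pullback.fst fP.left η[P].left) ≫ fP.left = _
    rw [Category.assoc, pullback.condition, Hom.one_def, Over.comp_left, ← Category.assoc]
    erw [ha]
    rfl
  · show j ≫ a ≫ pullback.fst fP.left η[P].left = y.left
    rw [reassoc_of% hab, pullback.lift_fst]

open GrothLib in
/-- Absence of subtori over an algebraic closure passes to all algebraically closed extensions. -/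
theorem hasNoSubtorus_bc_of_algClosure {L : Type u} [Field L] (U : Over (Spec (CommRingCat.of L))) [GrpObj U]
    [IsAffine U.left] [Smooth U.hom] [ConnectedSpace U.left]
    (hU : Red.HasNoSubtorus (AlgebraicClosure L) (Red.bc (Spec.map (CommRingCat.ofHom (algebraMap L (AlgebraicClosure L)))) U))
    {F : Type u} [Field F] [IsAlgClosed F] (h : Spec (CommRingCat.of F) ⟶ Spec (CommRingCat.of L)) :
    Red.HasNoSubtorus F (Red.bc h U) := by
  obtain ⟨f₀, hf₀⟩ : ∃ f₀, f₀ = Spec.map (CommRingCat.ofHom (algebraMap L (AlgebraicClosure L))) := ⟨_, rfl⟩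
  obtain ⟨g, hg⟩ : ∃ g, g ≫ f₀ = h := by
    obtain ⟨φ, rfl⟩ := Spec.map_surjective h
    letI : Algebra L F := φ.hom.toAlgebra
    let ψ : AlgebraicClosure L →ₐ[L] F := IsAlgClosed.lift
    refine ⟨Spec.map (CommRingCat.ofHom ψ.toRingHom), ?_⟩
    rw [hf₀, ← Spec.map_comp]
    congr 1
    exact CommRingCat.hom_ext ψ.comp_algebraMap
  haveI := GrothLib.Flag27.isAffine_bc f₀ U
  haveI := GrothLib.Flag27.smooth_bc f₀ U
  haveI := GrothLib.Flag27.connectedSpace_bc f₀ U
  have hU' : Red.HasNoSubtorus _ (Red.bc f₀ U) := by rw [hf₀]; exact hU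
  obtain ⟨A, iA₁, iA₂, -, hu, ⟨eA⟩⟩ := (GrothLib.Flag27.isUnip_of_noSubtorus hU').1
  intro T _ j _ _ hT
  let e := GrothLib.DiagGrp.bcGrpComp U f₀ g h hg.symm
  haveI : IsMonHom e.hom.hom.hom := e.hom.hom.isMonHom_hom
  haveI : Mono e.hom.hom.hom := inferInstanceAs (Mono ((Grp.forget _).mapIso e).hom)
  let a := (Over.pullback g).mapGrp.mapIso eA
  haveI : IsMonHom a.inv.hom.hom := a.inv.hom.isMonHom_hom
  haveI : Mono a.inv.hom.hom := inferInstanceAs (Mono ((Grp.forget _).mapIso a).inv)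
  let u := j ≫ e.hom.hom.hom ≫ a.inv.hom.hom
  haveI : Mono u := inferInstance
  have h1 : u = 1 := GrothLib.CentMT14.hom_eq_one A g (GrothLib.DiagGrp.hasChartsFpqc_of_isTorus hT) hu u
  have hid : 𝟙 T = 1 := by
    rw [← cancel_mono u, Category.id_comp, MonObj.one_comp]
    exact h1
  refine ⟨η[T].left, ?_, Over.w η[T]⟩
  have h2 : toUnit T ≫ η[T] = 𝟙 T := by rw [hid, Hom.one_def]
  exact congrArg Over.Hom.left h2

open GrothLib in
/-- Geometric points of a connected affine group without subtori are uniquely divisible by invertible numbers. -/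
theorem bijective_pow_geom {L F : Type u} [Field L] [Field F] [IsAlgClosed F]
    (H : Over (Spec (CommRingCat.of L))) [GrpObj H] [Smooth H.hom] [ConnectedSpace H.left] [IsAffine H.left]
    (σ : Spec (CommRingCat.of F) ⟶ Spec (CommRingCat.of L))
    (hH : Red.HasNoSubtorus (AlgebraicClosure L) (Red.bc (Spec.map (CommRingCat.ofHom (algebraMap L (AlgebraicClosure L)))) H))
    {N : ℕ} (hN : (N : L) ≠ 0) : Function.Bijective fun g : Over.mk σ ⟶ H => g ^ N := by
  haveI := GrothLib.Flag27.isAffine_bc σ H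
  haveI := GrothLib.Flag27.smooth_bc σ H
  haveI := GrothLib.Flag27.connectedSpace_bc σ H
  have hNF : (N : F) ≠ 0 := by
    obtain ⟨φ, hφ⟩ := Spec.map_surjective σ
    exact fun h => hN (φ.hom.injective (by rw [map_natCast, map_zero]; exact h))
  have hnt : Red.HasNoSubtorus F (Red.bc σ H) := hasNoSubtorus_bc_of_algClosure H hH σ
  have hb := (GrothLib.Flag27.isUnip_of_noSubtorus hnt).1.bijective_pow hNF
  let e : VecGrp.pt F F ≅ Over.mk (𝟙 (Spec (CommRingCat.of F))) := Over.isoMk (Iso.refl _) (by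
    show 𝟙 _ ≫ 𝟙 _ = Spec.map (CommRingCat.ofHom (algebraMap F F))
    rw [Algebra.algebraMap_self, CommRingCat.ofHom_id, Spec.map_id, Category.id_comp])
  let E : (Over.mk σ ⟶ H) ≃ (VecGrp.pt F F ⟶ Red.bc σ H) :=
    (GrothLib.DegPoly.ptsEquiv σ (A := H)).toEquiv.trans
      ⟨fun x => e.hom ≫ x, fun x => e.inv ≫ x, fun x => e.inv_hom_id_assoc x, fun x => e.hom_inv_id_assoc x⟩
  have : (fun g : Over.mk σ ⟶ H => g ^ N) = E.symm ∘ (fun g => g ^ N) ∘ E := by
    funext g
    simp only [Function.comp_apply]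
    apply E.injective
    rw [Equiv.apply_symm_apply]
    show e.hom ≫ GrothLib.DegPoly.ptsEquiv σ (g ^ N) = (e.hom ≫ GrothLib.DegPoly.ptsEquiv σ g) ^ N
    rw [map_pow, MonObj.comp_pow]
  rw [this]
  exact E.symm.bijective.comp (hb.comp E.bijective)

/-- Let k be a field, Ω a separable closure of k, ℓ a prime invertible in k and P a pseudo-abelian
variety over k, that is a smooth connected commutative k-group scheme of finite type all of whose
smooth connected affine closed subgroup schemes are trivial (unit section an isomorphism). Suppose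
L/k is a finite purely inseparable field extension and H is a smooth connected affine closed
subgroup scheme of P_L, unipotent in the sense that after base change to an algebraic closure of L
it has no non-trivial subtorus, such that the quotient P_L → A (a surjective homomorphism with
kernel H) is an abelian variety A over L of dimension g; g is then the virtual abelian rank of P.
Then the ℓ-adic Tate module of P built from Ω-points (compatible sequences of ℓ-power torsion
Ω-points) is a finitely generated free ℤ_ℓ-module of rank 2g. -/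
theorem result
    (k Ω : Type u) [Field k] [Field Ω] [Algebra k Ω] [IsSepClosure k Ω] (ℓ : ℕ) [Fact ℓ.Prime] (hℓ : (ℓ : k) ≠ 0)
    (P : Over (Spec (CommRingCat.of k))) [GrpObj P] [IsCommMonObj P]
    [Smooth P.hom] [LocallyOfFiniteType P.hom] [QuasiCompact P.hom] [ConnectedSpace ↥P.left]
    (hP : ∀ (H : Over (Spec (CommRingCat.of k))) [GrpObj H] (j : H ⟶ P) [IsMonHom j],
      IsClosedImmersion j.left → Smooth H.hom → ConnectedSpace ↥H.left → IsAffine H.left → IsIso η[H])
    (L : Type u) [Field L] [Algebra k L] [FiniteDimensional k L] [IsPurelyInseparable k L]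
    (H A : Over (Spec (CommRingCat.of L))) [GrpObj H] [GrpObj A]
    (i : H ⟶ Red.bc (Spec.map (CommRingCat.ofHom (algebraMap k L))) P) [IsMonHom i] (π : Red.bc (Spec.map (CommRingCat.ofHom (algebraMap k L))) P ⟶ A) [IsMonHom π]
    (hi : IsClosedImmersion i.left) (hker : AlgGrp.IsKernel i π) (hπ : Surjective π.left)
    [Smooth H.hom] [ConnectedSpace ↥H.left] [IsAffine H.left]
    (hH : Red.HasNoSubtorus (AlgebraicClosure L) (Red.bc (Spec.map (CommRingCat.ofHom (algebraMap L (AlgebraicClosure L)))) H))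
    [IsProper A.hom] [Smooth A.hom] [GeometricallyIntegral A.hom]
    (g : ℕ) (hg : topologicalKrullDim ↥A.left = g) :
    Module.Free ℤ_[ℓ] (AbDual.TateMod P ℓ (SGA7.pt Ω)) ∧ Module.Finite ℤ_[ℓ] (AbDual.TateMod P ℓ (SGA7.pt Ω)) ∧
      Module.finrank ℤ_[ℓ] (AbDual.TateMod P ℓ (SGA7.pt Ω)) = 2 * g := by
  let F := AlgebraicClosure Ω
  haveI : IsSepClosed Ω := IsSepClosure.sep_closed k
  letI : Algebra k F := ((algebraMap Ω F).comp (algebraMap k Ω)).toAlgebra
  let φL : L →ₐ[k] F := IsAlgClosed.lift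
  let j := Spec.map (CommRingCat.ofHom (algebraMap Ω F))
  let f := Spec.map (CommRingCat.ofHom (algebraMap k L))
  let s := Spec.map (CommRingCat.ofHom (algebraMap k Ω))
  let σ := Spec.map (CommRingCat.ofHom φL.toRingHom)
  have hσ : σ ≫ f = j ≫ s := by
    rw [← Spec.map_comp, ← Spec.map_comp, ← CommRingCat.ofHom_comp, ← CommRingCat.ofHom_comp]
    congr 2
    exact φL.comp_algebraMap
  let PL := Red.bc f P
  haveI : Smooth PL.hom := MorphismProperty.pullback_snd _ _ ‹Smooth P.hom›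
  haveI : QuasiCompact PL.hom := MorphismProperty.pullback_snd _ _ ‹QuasiCompact P.hom›
  haveI : IsCommMonObj PL := Functor.isCommMonObj_obj
  haveI : IsCommMonObj A := GrothLib.Cube.isCommMonObj_abVar (A := A)
  haveI : Mono i := by haveI := hi; exact Over.mono_of_mono_left i
  haveI := hi
  have hℓL : (ℓ : L) ≠ 0 := fun h => hℓ ((algebraMap k L).injective (by rw [map_natCast, map_zero]; exact h))
  have hℓn : ∀ n : ℕ, ((ℓ ^ n : ℕ) : L) ≠ 0 := fun n => by rw [Nat.cast_pow]; exact pow_ne_zero _ hℓL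
  have hH' := fun n : ℕ => bijective_pow_geom H σ hH (hℓn n)
  -- the comparison map
  let r : Over.mk (σ ≫ f) ⟶ SGA7.pt (K := k) Ω := Over.homMk j hσ.symm
  let Φ : (SGA7.pt (K := k) Ω ⟶ P) →* (Over.mk σ ⟶ A) :=
    { toFun := fun x => GrothLib.DiagGrp.bcPointMulEquiv f P (Over.mk σ) (r ≫ x) ≫ π
      map_one' := by
        rw [MonObj.comp_one r]
        erw [map_one]
        exact MonObj.one_comp π
      map_mul' := fun x y => by
        rw [MonObj.comp_mul r]
        erw [map_mul]
        exact MonObj.mul_comp _ _ π }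
  have hinj : ∀ (n : ℕ) (x : SGA7.pt (K := k) Ω ⟶ P), x ^ (ℓ ^ n) = 1 → Φ x = 1 → x = 1 := by
    intro n x hx hΦ
    let z := GrothLib.DiagGrp.bcPointMulEquiv f P (Over.mk σ) (r ≫ x)
    have hz : z ≫ π = 1 := hΦ
    obtain ⟨h, hh, -⟩ := hker.exists_lift z (toUnit _) (by rw [hz, Hom.one_def])
    have hzN : z ^ (ℓ ^ n) = 1 := by
      have h1 : (r ≫ x) ^ (ℓ ^ n) = 1 := by rw [← MonObj.comp_pow, hx, MonObj.comp_one]
      show (GrothLib.DiagGrp.bcPointMulEquiv f P (Over.mk σ) (r ≫ x)) ^ (ℓ ^ n) = 1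
      erw [← map_pow, h1, map_one]
    have hhN : h ^ (ℓ ^ n) = 1 := by
      rw [← cancel_mono i, MonObj.pow_comp, hh, hzN, MonObj.one_comp]
    have hh1 : h = 1 := (hH' n).1 (hhN.trans (one_pow _).symm)
    have hz1 : z = 1 := by rw [← hh, hh1, MonObj.one_comp]
    have hrx : r ≫ x = 1 := (GrothLib.DiagGrp.bcPointMulEquiv f P (Over.mk σ)).injective (hz1.trans (map_one _).symm)
    haveI : Surjective j := GrothLib.Flag27.surjective_to_field j
    haveI : Flat j := GrothLib.Flag27.flat_to_field j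
    haveI : QuasiCompact j := inferInstance
    haveI : Epi j := Flat.epi_of_flat_of_surjective j
    apply Over.OverMorphism.ext
    rw [← cancel_epi j]
    have h2 := congrArg (fun u => u.left) hrx
    rw [← MonObj.comp_one r] at h2
    exact h2
  have hsurj : ∀ (n : ℕ) (y : Over.mk σ ⟶ A), y ^ (ℓ ^ n) = 1 →
      ∃ x : SGA7.pt (K := k) Ω ⟶ P, x ^ (ℓ ^ n) = 1 ∧ Φ x = y := by
    intro n y hy
    haveI := hπ
    obtain ⟨z₀, hz₀⟩ : ∃ z₀ : Over.mk σ ⟶ PL, z₀ ≫ π = y := by
      let W := pullback π.left y.left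
      let pW : W ⟶ Spec (CommRingCat.of F) := pullback.snd π.left y.left
      haveI : Surjective pW := MorphismProperty.pullback_snd _ _ ‹Surjective π.left›
      obtain ⟨w₀, -⟩ := pW.surjective (IsLocalRing.closedPoint F)
      haveI : LocallyOfFiniteType π.left := by
        haveI : LocallyOfFiniteType (π.left ≫ A.hom) := by rw [Over.w π]; infer_instance
        exact locallyOfFiniteType_of_comp π.left A.hom
      haveI : LocallyOfFiniteType pW := MorphismProperty.pullback_snd _ _ ‹LocallyOfFiniteType π.left›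
      haveI : JacobsonSpace W := LocallyOfFiniteType.jacobsonSpace pW
      obtain ⟨w, -, hw⟩ : ∃ w : W, w ∈ Set.univ ∧ w ∈ closedPoints W :=
        nonempty_inter_closedPoints ⟨w₀, trivial⟩ isClosed_univ.isLocallyClosed
      let t := pointOfClosedPoint (K := F) pW w hw
      have ht : t ≫ pW = 𝟙 _ := pointOfClosedPoint_comp pW w hw
      refine ⟨Over.homMk (t ≫ pullback.fst π.left y.left) ?_, Over.OverMorphism.ext ?_⟩
      · rw [← Over.w π, Category.assoc, pullback.condition_assoc, reassoc_of% ht]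
        exact Over.w y
      · show (t ≫ pullback.fst π.left y.left) ≫ π.left = y.left
        rw [Category.assoc, pullback.condition, reassoc_of% ht]
    have h1 : (z₀ ^ (ℓ ^ n)) ≫ π = 1 := by rw [MonObj.pow_comp, hz₀, hy]
    obtain ⟨h, hh, -⟩ := hker.exists_lift (z₀ ^ (ℓ ^ n)) (toUnit _) (by rw [h1, Hom.one_def])
    obtain ⟨h', hh'⟩ := (hH' n).2 h
    have hiπ : i ≫ π = 1 := by rw [hker.w, Hom.one_def]
    let z := z₀ * (h' ≫ i)⁻¹
    have hzN : z ^ (ℓ ^ n) = 1 := by
      have h3 : (h' ≫ i) ^ (ℓ ^ n) = z₀ ^ (ℓ ^ n) := by rw [← MonObj.pow_comp]; exact (congrArg (· ≫ i) hh').trans hh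
      rw [mul_pow, inv_pow, h3, mul_inv_cancel]
    have hzπ : z ≫ π = y := by
      rw [MonObj.mul_comp, GrpObj.inv_comp, Category.assoc, hiπ, MonObj.comp_one, inv_one, _root_.mul_one, hz₀]
    let E := GrothLib.DiagGrp.bcPointMulEquiv f P (Over.mk σ)
    let q : Over.mk (σ ≫ f) ⟶ P := E.symm z
    have hqN : q ^ (ℓ ^ n) = 1 := by
      show (E.symm z) ^ (ℓ ^ n) = 1
      exact (map_pow E.symm z _).symm.trans ((congrArg E.symm hzN).trans (map_one E.symm))
    let y' : Over.mk (j ≫ s) ⟶ P := Over.homMk q.left (by rw [← hσ]; exact Over.w q)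
    have hy' : y' ^ (ℓ ^ n) = 1 := by
      let e' : Over.mk (j ≫ s) ⟶ Over.mk (σ ≫ f) := Over.homMk (𝟙 _) (by rw [Category.id_comp]; exact hσ)
      have : y' = e' ≫ q := Over.OverMorphism.ext (Category.id_comp _).symm
      rw [this, ← MonObj.comp_pow, hqN, MonObj.comp_one]
    have hℓk : ((ℓ ^ n : ℕ) : k) ≠ 0 := by rw [Nat.cast_pow]; exact pow_ne_zero _ hℓ
    obtain ⟨x, hxN, hx⟩ := exists_descend_torsion P s j hℓk y' hy'
    refine ⟨x, hxN, ?_⟩
    show E (r ≫ x) ≫ π = y
    rw [show r ≫ x = q from Over.OverMorphism.ext hx, show E q = z from E.apply_symm_apply z, hzπ]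
  obtain ⟨e⟩ := nonempty_tateMod_equiv ℓ Φ hinj hsurj
  haveI := GrothLib.AbTors.module_finite A (Ω := F) σ ℓ hℓL
  exact ⟨Module.Free.of_equiv' (Module.free_of_finite_type_torsion_free' (R := ℤ_[ℓ]) (M := AbDual.TateMod A ℓ (Over.mk σ))) e.symm,
    Module.Finite.equiv e.symm, e.finrank_eq.trans (GrothLib.AbTors.finrank_eq A (Ω := F) σ ℓ hℓL hg)⟩

end Groth.Agent.S17701
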