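import Groth.Statements.S2047
import Mathlib
import Groth.Agent.Lib.FormalDescent.Basic
import Groth.Agent.Lib.GRingComplete.Main
-- import your own Groth.Agent.* helpers here

set_option autoImplicit false
universe u
open CAlg

namespace Groth.Agent.S2047

/-- A Noetherian ring `R` is a G-ring if and only if for every maximal ideal `𝔪` the completion map of
`R_𝔪` is a regular ring map. -/
theorem result {R : Type u} [CommRing R] [IsNoetherianRing R] :
    CAlg.IsGRing R ↔ ∀ (m : Ideal R) [m.IsMaximal],
      CAlg.IsRegularHom (Localization.AtPrime m)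
        (AdicCompletion (IsLocalRing.maximalIdeal (Localization.AtPrime m)) (Localization.AtPrime m)) := by
  refine ⟨fun h m _ => h.2 m, fun h => ⟨inferInstance, fun p hp => ?_⟩⟩
  obtain ⟨m, hm, hpm⟩ := Ideal.exists_le_maximal p hp.ne_top
  haveI := hm
  let R' := Localization.AtPrime m
  let Rp := Localization.AtPrime p
  haveI : IsNoetherianRing R' := IsLocalization.isNoetherianRing m.primeCompl _ inferInstance
  haveI : IsNoetherianRing Rp := IsLocalization.isNoetherianRing p.primeCompl _ inferInstance
  let C := AdicCompletion (IsLocalRing.maximalIdeal R') R'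
  have hmaxfg : (IsLocalRing.maximalIdeal R').FG := IsNoetherian.noetherian _
  haveI : IsNoetherianRing C := inferInstance
  haveI : IsAdicComplete (IsLocalRing.maximalIdeal C) C := inferInstance
  have hC : CAlg.IsGRing C := GrothLib.GRingComplete.isGRing_of_isAdicComplete C
  have hreg : CAlg.IsRegularHom R' C := h m
  haveI : Module.Flat R' C := hreg.1
  haveI : Module.FaithfullyFlat R' C := Module.FaithfullyFlat.of_flat_of_isLocalHom
  let M := p.primeCompl.map (algebraMap R R')
  letI : Algebra R' Rp := (IsLocalization.map (M := m.primeCompl) (T := p.primeCompl) Rp (RingHom.id R)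
    (fun x hx hxp => hx (hpm hxp)) : R' →+* Rp).toAlgebra
  haveI : IsScalarTower R R' Rp := IsScalarTower.of_algebraMap_eq fun r => by
    rw [RingHom.algebraMap_toAlgebra, IsLocalization.map_eq, RingHom.id_apply]
  haveI : IsLocalization M Rp := IsLocalization.isLocalization_of_submonoid_le R' Rp m.primeCompl p.primeCompl
    (fun x hx hxp => hx (hpm hxp))
  let q : Ideal R' := (IsLocalRing.maximalIdeal Rp).comap (algebraMap R' Rp)
  haveI : q.IsPrime := Ideal.comap_isPrime _ _
  obtain ⟨P, hP⟩ := PrimeSpectrum.comap_surjective_of_faithfullyFlat (A := R') (B := C) ⟨q, inferInstance⟩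
  have hPq : P.asIdeal.comap (algebraMap R' C) = q := congrArg PrimeSpectrum.asIdeal hP
  let CP := Localization.AtPrime P.asIdeal
  haveI : IsNoetherianRing CP := IsLocalization.isNoetherianRing P.asIdeal.primeCompl _ inferInstance
  have hunit : ∀ y : M, IsUnit (algebraMap R' CP y) := fun y => by
    rw [IsScalarTower.algebraMap_apply R' C CP]
    refine IsLocalization.map_units CP (⟨algebraMap R' C y, fun hy => ?_⟩ : P.asIdeal.primeCompl)
    have hyq : (y : R') ∈ q := hPq ▸ (Ideal.mem_comap.2 hy)
    exact (IsLocalRing.mem_maximalIdeal _).1 hyq (IsLocalization.map_units Rp y)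
  let φ : Rp →+* CP := IsLocalization.lift hunit
  letI : Algebra Rp CP := φ.toAlgebra
  haveI : IsScalarTower R' Rp CP := IsScalarTower.of_algebraMap_eq fun x => (IsLocalization.lift_eq hunit x).symm
  haveI : IsLocalHom (algebraMap Rp CP) := by
    refine ⟨fun x hx => ?_⟩
    obtain ⟨a, s, rfl⟩ := IsLocalization.exists_mk'_eq M x
    have hau : IsUnit (algebraMap R' CP a) := by
      have h1 := hx.mul (hunit s)
      rw [IsScalarTower.algebraMap_apply R' Rp CP (s : R'), ← map_mul, IsLocalization.mk'_spec,
        ← IsScalarTower.algebraMap_apply] at h1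
      exact h1
    have haq : a ∉ q := fun haq => by
      have hmem : algebraMap R' C a ∈ P.asIdeal := Ideal.mem_comap.1 (hPq.symm ▸ haq)
      rw [IsScalarTower.algebraMap_apply R' C CP] at hau
      exact (IsLocalRing.mem_maximalIdeal _).1
        ((IsLocalization.AtPrime.to_map_mem_maximal_iff CP P.asIdeal _).2 hmem) hau
    have hu : IsUnit (algebraMap R' Rp a) := by_contra fun hn => haq ((IsLocalRing.mem_maximalIdeal _).2 hn)
    exact isUnit_of_mul_isUnit_left (show IsUnit (IsLocalization.mk' Rp a s * algebraMap R' Rp s) by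
      rw [IsLocalization.mk'_spec]; exact hu)
  have hR'CP : CAlg.IsRegularHom R' CP := GrothLib.GeomReg.isRegularHom_localization_right hreg P.asIdeal.primeCompl
  have hf : CAlg.IsRegularHom Rp CP :=
    (GrothLib.GeomReg.isRegularHom_localization_left (R := R') (R' := Rp) (S := CP) M).2 hR'CP
  haveI : Module.Flat Rp CP := hf.1
  exact GrothLib.FormalDescent.isRegularHom_descent Rp CP hf (hC.2 P.asIdeal)

end Groth.Agent.S2047
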