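import Groth.Statements.S17703
import Groth.Agent.S2047
import Groth.Agent.S2620
import Groth.Agent.Lib.Excellent.Dedekind
import Groth.Agent.Lib.Excellent.Localization
import Groth.Agent.Lib.FormalDescent.Basic
import Groth.Agent.Lib.Ratliff.Excellent

set_option autoImplicit false
universe u
open Neron

namespace Groth.Agent.S17703

open TensorProduct

/-- Let R be a discrete valuation ring with fraction field K, R̂ its completion and K̂ = Frac R̂. Then R
is excellent (Noetherian, universally catenary, G-ring and J-2) if and only if K̂ is geometrically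
reduced over K, i.e. K ⊆ K̂ is separable; here K̂ is written as the generic formal fibre κ(0) ⊗_R R̂
of R, which is R̂ with the uniformizer inverted. -/
theorem result
    (R : Type u) [CommRing R] [IsDomain R] [IsDiscreteValuationRing R] :
    EGA4.IsExcellent R ↔
      Algebra.IsGeometricallyReduced (⊥ : Ideal R).ResidueField (EGA4.formalFibre R (⊥ : Ideal R)) := by
  classical
  constructor
  · intro h
    exact GrothLib.FormalDescent.geomReduced_of_isRegularHom
      (GrothLib.Ratliff.isRegularHom_cpl_of_isGRing R h.2.2.1) ⊥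
  intro hred
  have hdim : ringKrullDim R ≤ 1 := Ring.krullDimLE_iff.mp inferInstance
  have hsl : {I : Ideal R | I.IsMaximal}.Finite :=
    (Set.finite_singleton (IsLocalRing.maximalIdeal R)).subset fun I hI => IsLocalRing.eq_maximalIdeal hI
  refine ⟨inferInstance, GrothLib.CatCM.isUniversallyCatenary_of_isRegularRing R, ?_,
    Groth.Agent.S2620.result R hsl hdim⟩
  -- the completion map
  have key : CAlg.IsRegularHom R (EGA4.Cpl R) := by
    haveI := GrothLib.AdicExtra.isRegularLocalRing_adicCompletion_iff.1 (inferInstance : IsRegularLocalRing R)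
    haveI : IsDomain (EGA4.Cpl R) := GrothLib.CMFree.isDomain_of_isRegularLocalRing _
    refine ⟨inferInstance, fun q hq => ⟨GrothLib.FormalDescent.isNoetherianRing_fiber R (EGA4.Cpl R) q, ?_⟩⟩
    intro L _ _ hL
    by_cases h0 : q = ⊥
    · subst h0
      haveI := hred
      haveI : Subsingleton (PrimeSpectrum ((⊥ : Ideal R).Fiber (EGA4.Cpl R))) := by
        refine (PrimeSpectrum.primesOverOrderIsoFiber R (EGA4.Cpl R) (⊥ : Ideal R)).toEquiv.subsingleton_congr.mp ⟨?_⟩
        suffices ∀ Q : (⊥ : Ideal R).primesOver (EGA4.Cpl R), (Q : Ideal (EGA4.Cpl R)) = ⊥ from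
          fun a b => Subtype.ext ((this a).trans (this b).symm)
        rintro ⟨Q, hQ, hQo⟩
        obtain ⟨π, hπ⟩ := IsDiscreteValuationRing.exists_irreducible R
        have hmax : IsLocalRing.maximalIdeal (EGA4.Cpl R) =
            Ideal.span {algebraMap R (EGA4.Cpl R) π} := by
          refine AdicCompletion.maximalIdeal_eq_map.trans
            ((congrArg (Ideal.map (algebraMap R (EGA4.Cpl R))) hπ.maximalIdeal_eq).trans ?_)
          rw [Ideal.map_span, Set.image_singleton]
        have hπQ : algebraMap R (EGA4.Cpl R) π ∉ Q := fun h => hπ.ne_zero (by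
          have h' : π ∈ Q.under R := h
          rw [← hQo.over, Ideal.mem_bot] at h'
          exact h')
        show Q = ⊥
        refine Submodule.eq_bot_of_le_smul_of_le_jacobson_bot (IsLocalRing.maximalIdeal (EGA4.Cpl R)) Q
          (IsNoetherian.noetherian Q) (fun x hx => ?_) (IsLocalRing.maximalIdeal_le_jacobson _)
        have hxm : x ∈ Ideal.span {algebraMap R (EGA4.Cpl R) π} := hmax ▸ IsLocalRing.le_maximalIdeal hQ.ne_top hx
        obtain ⟨y, rfl⟩ := Ideal.mem_span_singleton'.mp hxm
        rw [smul_eq_mul, mul_comm y]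
        exact Ideal.mul_mem_mul (hmax ▸ Ideal.mem_span_singleton_self _) ((hQ.mem_or_mem hx).resolve_right hπQ)
      haveI : IsNoetherianRing ((⊥ : Ideal R).Fiber (EGA4.Cpl R)) :=
        GrothLib.FormalDescent.isNoetherianRing_fiber R (EGA4.Cpl R) _
      haveI : Ring.KrullDimLE 0 ((⊥ : Ideal R).Fiber (EGA4.Cpl R)) :=
        Ring.krullDimLE_iff.mpr Order.krullDim_nonpos_of_subsingleton
      haveI : IsArtinianRing ((⊥ : Ideal R).Fiber (EGA4.Cpl R)) :=
        isArtinianRing_iff_krullDimLE_zero.mpr inferInstance
      haveI : IsArtinianRing (L ⊗[(⊥ : Ideal R).ResidueField] ((⊥ : Ideal R).Fiber (EGA4.Cpl R))) := by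
        haveI : IsArtinianRing (((⊥ : Ideal R).Fiber (EGA4.Cpl R)) ⊗[(⊥ : Ideal R).ResidueField] L) := by
          haveI := hL
          exact IsArtinianRing.of_finite ((⊥ : Ideal R).Fiber (EGA4.Cpl R))
            (((⊥ : Ideal R).Fiber (EGA4.Cpl R)) ⊗[(⊥ : Ideal R).ResidueField] L)
        exact (Algebra.TensorProduct.comm _ _ L).toRingEquiv.surjective.isArtinianRing
          (f := (Algebra.TensorProduct.comm _ _ L).toRingEquiv.toRingHom)
      haveI : IsReduced (L ⊗[(⊥ : Ideal R).ResidueField] ((⊥ : Ideal R).Fiber (EGA4.Cpl R))) := by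
        haveI := hL
        let f : L →ₐ[(⊥ : Ideal R).ResidueField] AlgebraicClosure (⊥ : Ideal R).ResidueField :=
          IsAlgClosed.lift
        haveI := (Algebra.isGeometricallyReduced_field_iff _ _).mp hred
        exact isReduced_of_injective (Algebra.TensorProduct.map f (AlgHom.id _ _))
          (Module.Flat.rTensor_preserves_injective_linearMap f.toLinearMap f.toRingHom.injective)
      exact GrothLib.GeomReg.isRegularRing_of_isArtinian_of_isReduced _
    · have hqm : q = IsLocalRing.maximalIdeal R :=
        IsLocalRing.eq_maximalIdeal (hq.isMaximal h0)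
      let e : q.ResidueField ≃ₐ[q.ResidueField] q.Fiber (EGA4.Cpl R) :=
        AlgEquiv.ofBijective (Algebra.ofId _ _) (GrothLib.Excellent.algebraMap_closedFibre_bijective R q hqm)
      exact IsRegularRing.of_ringEquiv (R := L)
        ((Algebra.TensorProduct.rid q.ResidueField q.ResidueField L).symm.toRingEquiv.trans
          (Algebra.TensorProduct.congr (AlgEquiv.refl (R := q.ResidueField) (A₁ := L)) e).toRingEquiv)
  refine Groth.Agent.S2047.result.mpr fun m _ => ?_
  obtain rfl := IsLocalRing.eq_maximalIdeal (inferInstance : m.IsMaximal)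
  haveI : IsNoetherianRing (Localization.AtPrime (IsLocalRing.maximalIdeal R)) :=
    IsLocalization.isNoetherianRing (IsLocalRing.maximalIdeal R).primeCompl _ inferInstance
  let e : R ≃ₐ[R] Localization.AtPrime (IsLocalRing.maximalIdeal R) :=
    IsLocalization.atUnits R (IsLocalRing.maximalIdeal R).primeCompl fun x hx =>
      (IsUnit.mem_submonoid_iff x).2 (IsLocalRing.notMem_maximalIdeal.1 hx)
  exact GrothLib.Excellent.isRegularHom_completion_congr e.toRingEquiv key

end Groth.Agent.S17703
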