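import Groth.Statements.S17713
-- import your own Groth.Agent.* helpers here
import Groth.Agent.Lib.MoretBailly


set_option autoImplicit false
open MoretBailly

namespace Groth.Agent.S17713

/-- Let n ≥ 2 and d ≥ 1 be natural numbers and s an integer, and write B(x) = x/(1 - e^(-x)) for the
exponential generating series of the Bernoulli numbers B'_i (convention B'_1 = 1/2). For a natural
number p consider the product B(-dx)^(-1) B(-dpx) B(x)^(n+1) e^((dp-d-n-1+s)x) in ℚ[[x]] (the
Todd-class integrand of a Hirzebruch–Riemann–Roch computation) and let λ_n(p) be its coefficient of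
x^n. Then λ_n(p) is a polynomial in p whose two top terms are B'_n (dp)^n/n! and ((2s-d-n-1)/2)
B'_(n-1) (dp)^(n-1)/(n-1)!: there is a polynomial P over ℚ of degree at most n - 2 with λ_n(p) equal
to the sum of these two terms and P(p), for every p. -/
theorem result (n d : ℕ) (s : ℤ) (hn : 2 ≤ n) (hd : 1 ≤ d) :
    ∃ P : Polynomial ℚ, P.natDegree ≤ n - 2 ∧ ∀ p : ℕ,
      PowerSeries.coeff n ((PowerSeries.rescale (-(d : ℚ)) (bernoulli'PowerSeries ℚ))⁻¹ * PowerSeries.rescale (-((d : ℚ) * p)) (bernoulli'PowerSeries ℚ) * bernoulli'PowerSeries ℚ ^ (n + 1) * PowerSeries.rescale ((d : ℚ) * p - d - n - 1 + s) (PowerSeries.exp ℚ)) =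
        bernoulli' n * ((d : ℚ) * p) ^ n / (Nat.factorial n : ℚ) +
          (2 * (s : ℚ) - d - n - 1) / 2 * bernoulli' (n - 1) * ((d : ℚ) * p) ^ (n - 1) / (Nat.factorial (n - 1) : ℚ) +
          P.eval (p : ℚ) := by
  open GrothLib.MoretBailly in
  obtain ⟨m, rfl⟩ : ∃ m, n = m + 2 := ⟨n - 2, by omega⟩
  set G := GrothLib.MoretBailly.F (m + 2) (d : ℚ) ((s : ℚ) - d - (m + 2 : ℕ) - 1) with hG
  refine ⟨∑ i ∈ Finset.range (m + 1), Polynomial.C (PowerSeries.coeff (i + 2) G * ((d : ℚ) ^ (m - i) *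
      (bernoulli' (m - i) / ((m - i).factorial : ℚ)))) * Polynomial.X ^ (m - i), ?_, fun p => ?_⟩
  · refine Polynomial.natDegree_sum_le_of_forall_le _ _ fun i _ => ?_
    exact (Polynomial.natDegree_C_mul_X_pow_le _ _).trans (by omega)
  · rw [show (d : ℚ) * p - d - (m + 2 : ℕ) - 1 + s = (d : ℚ) * p + ((s : ℚ) - d - (m + 2 : ℕ) - 1) by ring,
      GrothLib.MoretBailly.product_eq_F, ← hG, GrothLib.MoretBailly.coeff_F_mul, Finset.sum_range_succ',
      Finset.sum_range_succ', hG, GrothLib.MoretBailly.coeff_zero_F, GrothLib.MoretBailly.coeff_one_F, ← hG,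
      Polynomial.eval_finset_sum]
    have hsum : ∑ i ∈ Finset.range (m + 1), PowerSeries.coeff (i + 1 + 1) G *
        (((d : ℚ) * p) ^ (m + 2 - (i + 1 + 1)) *
          (bernoulli' (m + 2 - (i + 1 + 1)) / ((m + 2 - (i + 1 + 1)).factorial : ℚ))) =
        ∑ i ∈ Finset.range (m + 1), (Polynomial.C (PowerSeries.coeff (i + 2) G * ((d : ℚ) ^ (m - i) *
          (bernoulli' (m - i) / ((m - i).factorial : ℚ)))) * Polynomial.X ^ (m - i)).eval (p : ℚ) := by
      refine Finset.sum_congr rfl fun i _ => ?_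
      rw [show m + 2 - (i + 1 + 1) = m - i by omega, mul_pow]
      simp
      ring
    rw [hsum]
    simp only [Nat.zero_add, Nat.sub_zero, show m + 2 - 1 = m + 1 by omega]
    push_cast
    ring


end Groth.Agent.S17713
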