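import Groth.Statements.S17714
-- import your own Groth.Agent.* helpers here
import Groth.Agent.Lib.MoretBailly
import Groth.Agent.S17713


set_option autoImplicit false
open MoretBailly

namespace Groth.Agent.S17714

/-- Let n ≥ 2 and d ≥ 1 be natural numbers with n congruent to 0 or 1 modulo 4, and s an integer with 2s
> n + d + 1. Write B(x) = x/(1 - e^(-x)) for the exponential generating series of the Bernoulli
numbers (B'_1 = 1/2). Then for all sufficiently large natural numbers p the coefficient of x^n in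
B(-dx)^(-1) B(-dpx) B(x)^(n+1) e^((dp-d-n-1+s)x) is strictly negative. (The published statement
asserts this for every n ≥ 2 not congruent to 2 modulo 4. For n congruent to 3 modulo 4 the
coefficient is a polynomial in p of degree n - 1 with leading coefficient (2s-d-n-1) B'_(n-1)
d^(n-1)/(2 (n-1)!) > 0, so it is eventually positive: for n = 3, d = 1, s = 3 it equals (p^2 -
1)/24. The residues 0 and 1 are exactly the ones the leading-term argument gives.) -/
theorem result (n d : ℕ) (s : ℤ) (hn : 2 ≤ n)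
    (hmod : n % 4 = 0 ∨ n % 4 = 1) (hd : 1 ≤ d) (hs : (n : ℤ) + d + 1 < 2 * s) :
    ∃ P : ℕ, ∀ p : ℕ, P ≤ p →
      PowerSeries.coeff n ((PowerSeries.rescale (-(d : ℚ)) (bernoulli'PowerSeries ℚ))⁻¹ * PowerSeries.rescale (-((d : ℚ) * p)) (bernoulli'PowerSeries ℚ) * bernoulli'PowerSeries ℚ ^ (n + 1) * PowerSeries.rescale ((d : ℚ) * p - d - n - 1 + s) (PowerSeries.exp ℚ)) < 0 := by
  obtain ⟨Q, hQ, hval⟩ := Groth.Agent.S17713.result n d s hn hd
  have hd' : (0 : ℚ) < d := by exact_mod_cast hd
  rcases hmod with h0 | h1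
  · have hb : bernoulli' (n - 1) = 0 ∨ n - 1 = 1 := by
      rcases Nat.lt_or_ge 1 (n - 1) with h | h
      · exact Or.inl (bernoulli'_eq_zero_of_odd ⟨(n - 2) / 2, by omega⟩ h)
      · exact Or.inr (by omega)
    have hb' : bernoulli' (n - 1) = 0 := hb.resolve_right (by omega)
    have hc : bernoulli' n * (d : ℚ) ^ n / (n.factorial : ℚ) < 0 :=
      div_neg_of_neg_of_pos (mul_neg_of_neg_of_pos (GrothLib.MoretBailly.bernoulli'_neg_of_mod_four h0 (by omega))
        (pow_pos hd' n)) (by positivity)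
    obtain ⟨P₀, hP₀⟩ := GrothLib.MoretBailly.eventually_neg hc (m := n) (Q := Q) (by omega)
    refine ⟨P₀, fun p hp => ?_⟩
    rw [hval p, hb', mul_pow]
    have := hP₀ p hp
    ring_nf at this ⊢
    linarith
  · have hb' : bernoulli' n = 0 := bernoulli'_eq_zero_of_odd ⟨n / 2, by omega⟩ (by omega)
    have hs' : 0 < (2 * (s : ℚ) - d - n - 1) / 2 := by
      have h2 : ((n : ℚ) + d + 1) < 2 * (s : ℚ) := by exact_mod_cast hs
      linarith
    have hc : (2 * (s : ℚ) - d - n - 1) / 2 * bernoulli' (n - 1) * (d : ℚ) ^ (n - 1) / ((n - 1).factorial : ℚ) < 0 :=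
      div_neg_of_neg_of_pos (mul_neg_of_neg_of_pos (mul_neg_of_pos_of_neg hs'
        (GrothLib.MoretBailly.bernoulli'_neg_of_mod_four (by omega) (by omega))) (pow_pos hd' _)) (by positivity)
    obtain ⟨P₀, hP₀⟩ := GrothLib.MoretBailly.eventually_neg hc (m := n - 1) (Q := Q) (by omega)
    refine ⟨P₀, fun p hp => ?_⟩
    rw [hval p, hb', mul_pow, mul_pow]
    have := hP₀ p hp
    ring_nf at this ⊢
    linarith


end Groth.Agent.S17714
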