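import Groth.Statements.S17715
-- import your own Groth.Agent.* helpers here
import Groth.Agent.Lib.MoretBailly


set_option autoImplicit false
open MoretBailly

namespace Groth.Agent.S17715

/-- Write B(x) = x/(1 - e^(-x)) for the exponential generating series of the Bernoulli numbers (B'_1 =
1/2). For all natural numbers d and p the coefficient of x^3 in B(-dx)^(-1) B(-dpx) B(x)^4
e^((dp-d-3)x), i.e. the case n = 3, s = 1 of the Todd-class integrand, equals
-d(d+2)(p-1)(dp-d-2)/24 = -(d^3+2d^2) p^2/24 + (d^3+3d^2+2d) p/12 - (d^3+4d^2+4d)/24. (The published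
closed form has the same p^2 and p coefficients but constant term -(d^3+2d^2+2d)/24; direct
expansion gives the value stated here, which vanishes at p = 1.) -/
theorem result (d p : ℕ) :
    PowerSeries.coeff 3 ((PowerSeries.rescale (-(d : ℚ)) (bernoulli'PowerSeries ℚ))⁻¹ * PowerSeries.rescale (-((d : ℚ) * p)) (bernoulli'PowerSeries ℚ) * bernoulli'PowerSeries ℚ ^ (4) * PowerSeries.rescale ((d : ℚ) * p - d - 3) (PowerSeries.exp ℚ)) =
      -((d : ℚ) * (d + 2) * (p - 1) * (d * p - d - 2)) / 24 := by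
  open GrothLib.MoretBailly in
  have e := product_eq_F 3 (d : ℚ) ((d : ℚ) * p) (-(d : ℚ) - 3)
  rw [show (d : ℚ) * p - d - 3 = (d : ℚ) * p + (-(d : ℚ) - 3) by ring, e, GrothLib.MoretBailly.coeff_F_mul,
    Finset.sum_range_succ, Finset.sum_range_succ, Finset.sum_range_succ, Finset.sum_range_one]
  have hB0 : PowerSeries.coeff 0 (bernoulli'PowerSeries ℚ) = 1 := by
    simp [GrothLib.MoretBailly.coeff_B, bernoulli'_zero]
  have hB1 : PowerSeries.coeff 1 (bernoulli'PowerSeries ℚ) = 1 / 2 := by
    simp [GrothLib.MoretBailly.coeff_B, bernoulli'_one]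
  have hB2 : PowerSeries.coeff 2 (bernoulli'PowerSeries ℚ) = 1 / 12 := by
    rw [GrothLib.MoretBailly.coeff_B, bernoulli'_two]; norm_num
  have hB3 : PowerSeries.coeff 3 (bernoulli'PowerSeries ℚ) = 0 := by
    rw [GrothLib.MoretBailly.coeff_B, bernoulli'_three]; norm_num
  have hi0 := GrothLib.MoretBailly.coeff_zero_inv (d : ℚ)
  have hi1 := GrothLib.MoretBailly.coeff_one_inv (d : ℚ)
  have hi2 : PowerSeries.coeff 2 (PowerSeries.rescale (-(d : ℚ)) (bernoulli'PowerSeries ℚ))⁻¹ = (d : ℚ) ^ 2 / 6 := by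
    have h := congrArg (PowerSeries.coeff 2) (GrothLib.MoretBailly.inv_mul (d : ℚ))
    simp only [GrothLib.MoretBailly.c2, PowerSeries.coeff_rescale, hB0, hB1, hB2, hi0, hi1, PowerSeries.coeff_one] at h
    norm_num at h
    linear_combination h
  have hi3 : PowerSeries.coeff 3 (PowerSeries.rescale (-(d : ℚ)) (bernoulli'PowerSeries ℚ))⁻¹ = (d : ℚ) ^ 3 / 24 := by
    have h := congrArg (PowerSeries.coeff 3) (GrothLib.MoretBailly.inv_mul (d : ℚ))
    simp only [GrothLib.MoretBailly.c3, PowerSeries.coeff_rescale, hB0, hB1, hB2, hB3, hi0, hi1, hi2,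
      PowerSeries.coeff_one] at h
    norm_num at h
    linear_combination h
  simp only [GrothLib.MoretBailly.F, show (3 : ℕ) + 1 = 4 from rfl, pow_succ, pow_zero, one_mul,
    GrothLib.MoretBailly.c0, GrothLib.MoretBailly.c1, GrothLib.MoretBailly.c2, GrothLib.MoretBailly.c3,
    PowerSeries.coeff_rescale, PowerSeries.coeff_exp, hB0, hB1, hB2, hB3, hi0, hi1, hi2, hi3,
    Algebra.algebraMap_self, RingHom.id_apply]
  norm_num [bernoulli'_zero, bernoulli'_one, bernoulli'_two, bernoulli'_three, Nat.factorial]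
  ring


end Groth.Agent.S17715
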