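import Groth.Statements.S17718
-- import your own Groth.Agent.* helpers here
import Groth.Agent.Lib.MoretBailly
import Groth.Agent.S17713
import Groth.Agent.S17714


set_option autoImplicit false
open MoretBailly

namespace Groth.Agent.S17718

/-- Let n ≥ 2 and d ≥ 1 be natural numbers with n not congruent to 2 modulo 4, and write B(x) = x/(1 -
e^(-x)) for the exponential generating series of the Bernoulli numbers (B'_1 = 1/2). Then there is
an integer s ≥ 1 such that for all sufficiently large natural numbers p the coefficient of x^n in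
B(-dx)^(-1) B(-dpx) B(x)^(n+1) e^((dp-d-n-1+s)x) is strictly negative. (The published argument fixes
any s with 2s > n + d + 1, which gives the sign only for n congruent to 0 or 1 modulo 4; for n
congruent to 3 modulo 4 the choice s = 1 makes the leading coefficient (2s-d-n-1) B'_(n-1)
d^(n-1)/(2 (n-1)!) negative instead.) -/
theorem result (n d : ℕ) (hn : 2 ≤ n)
    (hmod : n % 4 ≠ 2) (hd : 1 ≤ d) :
    ∃ s : ℤ, 1 ≤ s ∧ ∃ P : ℕ, ∀ p : ℕ, P ≤ p →
      PowerSeries.coeff n ((PowerSeries.rescale (-(d : ℚ)) (bernoulli'PowerSeries ℚ))⁻¹ * PowerSeries.rescale (-((d : ℚ) * p)) (bernoulli'PowerSeries ℚ) * bernoulli'PowerSeries ℚ ^ (n + 1) * PowerSeries.rescale ((d : ℚ) * p - d - n - 1 + s) (PowerSeries.exp ℚ)) < 0 := by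
  by_cases h3 : n % 4 = 3
  · obtain ⟨Q, hQ, hval⟩ := Groth.Agent.S17713.result n d 1 hn hd
    have hd' : (0 : ℚ) < d := by exact_mod_cast hd
    have hb' : bernoulli' n = 0 := bernoulli'_eq_zero_of_odd ⟨n / 2, by omega⟩ (by omega)
    have hs' : (2 * ((1 : ℤ) : ℚ) - d - n - 1) / 2 < 0 := by
      have : (2 : ℚ) ≤ n := by exact_mod_cast hn
      push_cast
      linarith
    have hc : (2 * ((1 : ℤ) : ℚ) - d - n - 1) / 2 * bernoulli' (n - 1) * (d : ℚ) ^ (n - 1) /
        ((n - 1).factorial : ℚ) < 0 :=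
      div_neg_of_neg_of_pos (mul_neg_of_neg_of_pos (mul_neg_of_neg_of_pos hs'
        (GrothLib.MoretBailly.bernoulli'_pos_of_mod_four (by omega))) (pow_pos hd' _)) (by positivity)
    obtain ⟨P₀, hP₀⟩ := GrothLib.MoretBailly.eventually_neg hc (m := n - 1) (Q := Q) (by omega)
    refine ⟨1, le_rfl, P₀, fun p hp => ?_⟩
    rw [hval p, hb', mul_pow, mul_pow]
    have := hP₀ p hp
    ring_nf at this ⊢
    linarith
  · obtain ⟨P₀, hP₀⟩ := Groth.Agent.S17714.result n d ((n : ℤ) + d + 2) hn (by omega) hd (by omega)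
    exact ⟨(n : ℤ) + d + 2, by omega, P₀, hP₀⟩


end Groth.Agent.S17718
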