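import Groth.Statements.S17719
import Groth.Agent.Lib.NodeLaurent.Unit
-- import your own Groth.Agent.* helpers here

set_option autoImplicit false
universe u
open scoped TensorProduct
open CAlg

namespace Groth.Agent.S17719

open MvPowerSeries in
/-- Let R be a regular local ring, complete for its maximal ideal, with fraction field K; let r be a
non-zero element of R and A the quotient of the power series ring in two variables x, y over R by
the ideal generated by xy − r. If an element a of A maps to a unit of A ⊗_R K, then there are an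
element s of R, natural numbers m and n with mn = 0 and a unit u of A with a = s xⁿ yᵐ u. -/
theorem result
    (R : Type u) [CommRing R] [IsRegularLocalRing R]
    [IsAdicComplete (IsLocalRing.maximalIdeal R) R]
    (r : R) (hr : r ≠ 0)
    (a : (MvPowerSeries (Fin 2) R ⧸ Ideal.span {(X 0 * X 1 - C r : MvPowerSeries (Fin 2) R)}))
    (ha : IsUnit (a ⊗ₜ[R] (1 : FractionRing R) :
      (MvPowerSeries (Fin 2) R ⧸ Ideal.span {(X 0 * X 1 - C r : MvPowerSeries (Fin 2) R)}) ⊗[R] FractionRing R)) :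
    ∃ (s : R) (m n : ℕ) (u : (MvPowerSeries (Fin 2) R ⧸ Ideal.span {(X 0 * X 1 - C r : MvPowerSeries (Fin 2) R)})ˣ),
      m * n = 0 ∧ a = Ideal.Quotient.mk _ (C s * X 0 ^ n * X 1 ^ m) * (u : (MvPowerSeries (Fin 2) R ⧸ Ideal.span {(X 0 * X 1 - C r : MvPowerSeries (Fin 2) R)})) := by
  haveI : IsDomain R := GrothLib.CMFree.isDomain_of_isRegularLocalRing R
  haveI : UniqueFactorizationMonoid R := GrothLib.RegUFD.ufd_of_isRegularLocalRing R
  by_cases hu : IsUnit r
  · have : Ideal.span {(X 0 * X 1 - C r : MvPowerSeries (Fin 2) R)} = ⊤ := by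
      refine Ideal.span_singleton_eq_top.2 (MvPowerSeries.isUnit_iff_constantCoeff.2 ?_)
      rw [map_sub, map_mul, constantCoeff_X, zero_mul, constantCoeff_C, zero_sub]
      exact hu.neg
    haveI := Ideal.Quotient.subsingleton_iff.2 this
    exact ⟨0, 0, 0, 1, rfl, Subsingleton.elim _ _⟩
  have hr' : r ∈ IsLocalRing.maximalIdeal R := (IsLocalRing.mem_maximalIdeal r).2 hu
  haveI : IsDomain (MvPowerSeries (Fin 2) R ⧸ Ideal.span {(X 0 * X 1 - C r : MvPowerSeries (Fin 2) R)}) :=
    GrothLib.NodeLaurent.isDomain hr' hr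
  haveI : IsLocalization (Algebra.algebraMapSubmonoid
      (MvPowerSeries (Fin 2) R ⧸ Ideal.span {(X 0 * X 1 - C r : MvPowerSeries (Fin 2) R)}) (nonZeroDivisors R))
      ((MvPowerSeries (Fin 2) R ⧸ Ideal.span {(X 0 * X 1 - C r : MvPowerSeries (Fin 2) R)}) ⊗[R] FractionRing R) :=
    IsLocalization.tensor _ _
  have hle : Algebra.algebraMapSubmonoid
      (MvPowerSeries (Fin 2) R ⧸ Ideal.span {(X 0 * X 1 - C r : MvPowerSeries (Fin 2) R)}) (nonZeroDivisors R) ≤
      nonZeroDivisors _ := by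
    rintro _ ⟨t, ht, rfl⟩
    refine mem_nonZeroDivisors_of_ne_zero fun h => nonZeroDivisors.ne_zero ht ?_
    have h1 := GrothLib.NodeLaurent.lc_algebraMap hr' t 0
    have h2 := GrothLib.NodeLaurent.lc_algebraMap hr' (0 : R) 0
    rw [map_zero] at h2
    rw [h, h2] at h1
    simpa using h1.symm
  obtain ⟨w, hw⟩ := ha.exists_right_inv
  obtain ⟨⟨b, ⟨_, t, ht, rfl⟩⟩, hb⟩ := IsLocalization.surj (Algebra.algebraMapSubmonoid
    (MvPowerSeries (Fin 2) R ⧸ Ideal.span {(X 0 * X 1 - C r : MvPowerSeries (Fin 2) R)}) (nonZeroDivisors R)) w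
  have hab : a * b = algebraMap R _ t := by
    refine IsLocalization.injective ((MvPowerSeries (Fin 2) R ⧸
      Ideal.span {(X 0 * X 1 - C r : MvPowerSeries (Fin 2) R)}) ⊗[R] FractionRing R) hle ?_
    rw [map_mul, ← hb, ← mul_assoc]
    exact (congrArg (· * _) hw).trans (one_mul _)
  obtain ⟨s, n, u, h | h⟩ := GrothLib.NodeLaurent.exists_eq_monomial hr' hr (nonZeroDivisors.ne_zero ht) a b hab
  · refine ⟨s, 0, n, u, zero_mul _, ?_⟩
    rw [h, pow_zero, mul_one, map_mul, map_pow]
    rfl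
  · refine ⟨s, n, 0, u, mul_zero _, ?_⟩
    rw [h, pow_zero, mul_one, map_mul, map_pow]
    rfl

end Groth.Agent.S17719
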