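import Groth.Statements.S1772
import Groth.Agent.Lib.DualCx22.CoindDual

set_option autoImplicit false
universe u
open CategoryTheory
attribute [local instance] HasDerivedCategory.standard
open Dual

namespace Groth.Agent.S1772

/-- Let A → B be a finite homomorphism of Noetherian rings and ω a dualizing complex for A. If R : D(A)
→ D(B) is a right adjoint of the restriction of scalars D(B) → D(A) (so that R computes RHom_A(B,
−)), then R(ω) is a dualizing complex for B. -/
theorem result (A B : Type u) [CommRing A] [CommRing B] [Algebra A B] [IsNoetherianRing A] [IsNoetherianRing B] [Module.Finite A B] (R : Dual.D A ⥤ Dual.D B) (adj : DRing.restrictD (algebraMap A B) ⊣ R) (ω : Dual.D A) (hω : Dual.IsDualizing A ω) : Dual.IsDualizing B (R.obj ω) := by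
  exact GrothLib.DualCx22.isDualizing_rightAdjoint R adj hω

end Groth.Agent.S1772
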