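import Groth.Statements.S17720
import Groth.Agent.Lib.AdicFS.PowerSeries

set_option autoImplicit false
universe u
open CAlg

namespace Groth.Agent.S17720

open MvPowerSeries IsLocalRing in
theorem dvd_aux {A : Type u} [CommRing A] [IsLocalRing A] (α β : A) (hα : α ∈ maximalIdeal A)
    (hβ : β ∈ maximalIdeal A)
    (φ : (MvPowerSeries (Fin 2) A ⧸ Ideal.span {(X 0 * X 1 - C α : MvPowerSeries (Fin 2) A)}) ≃ₐ[A]
      (MvPowerSeries (Fin 2) A ⧸ Ideal.span {(X 0 * X 1 - C β : MvPowerSeries (Fin 2) A)})) :
    Ideal.span {α} ≤ Ideal.span {β} := by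
  classical
  set e : MvPowerSeries (Fin 2) A := X 0 * X 1 - C α with he
  set e' : MvPowerSeries (Fin 2) A := X 0 * X 1 - C β with he'
  let q : MvPowerSeries (Fin 2) A →+* MvPowerSeries (Fin 2) A ⧸ Ideal.span {e} := Ideal.Quotient.mk _
  let q' : MvPowerSeries (Fin 2) A →+* MvPowerSeries (Fin 2) A ⧸ Ideal.span {e'} := Ideal.Quotient.mk _
  choose lift hlift using fun z : MvPowerSeries (Fin 2) A => Ideal.Quotient.mk_surjective (φ (q z))
  let f := lift (X 0)
  let g := lift (X 1)
  have hC : ∀ a : A, φ (q (C a)) = q' (C a) := fun a => φ.commutes a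
  -- the equation
  obtain ⟨u, hu⟩ : ∃ u, f * g - C α = u * e' := by
    suffices h : f * g - C α ∈ Ideal.span {e'} from
      (Ideal.mem_span_singleton'.1 h).imp fun a ha => ha.symm
    rw [← Ideal.Quotient.eq, map_mul, hlift, hlift, ← map_mul]
    refine Eq.trans ?_ (hC α)
    rw [← map_mul, show q (X 0 * X 1) = q (C α) from Ideal.Quotient.eq.2 (Ideal.mem_span_singleton_self _)]
  let c0 : MvPowerSeries (Fin 2) A →+* A := constantCoeff
  have hc0e : c0 e' = -β := by simp [c0, he']
  have hmul : ∀ (i : Fin 2) (a b : MvPowerSeries (Fin 2) A), coeff (Finsupp.single i 1) (a * b) =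
      c0 a * coeff (Finsupp.single i 1) b + coeff (Finsupp.single i 1) a * c0 b := by
    intro i a b
    rw [coeff_mul, Finsupp.antidiagonal_single]
    simp [Finset.sum_map, Finset.Nat.antidiagonal_succ, c0]
  have hce : ∀ i : Fin 2, coeff (Finsupp.single i 1) e' = 0 := by
    intro i
    rw [he', map_sub, hmul]
    simp [c0, coeff_C]
  -- f and g are not units
  have hnu : ∀ i : Fin 2, c0 (lift (X i)) ∈ maximalIdeal A := by
    intro i
    by_contra hne
    have h1 : IsUnit (lift (X i)) :=
      isUnit_iff_constantCoeff.2 (notMem_maximalIdeal.1 hne)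
    have h2 : IsUnit (q (X i)) := by
      have h3 := h1.map q'
      rw [show q' (lift (X i)) = φ (q (X i)) from hlift _] at h3
      simpa using h3.map φ.symm
    obtain ⟨w, hw⟩ := h2.exists_right_inv
    obtain ⟨w, rfl⟩ := Ideal.Quotient.mk_surjective w
    rw [← map_mul, ← map_one q, Ideal.Quotient.eq, Ideal.mem_span_singleton'] at hw
    obtain ⟨v, hv⟩ := hw
    have h4 := congrArg c0 hv
    simp [c0, he] at h4
    exact (maximalIdeal A).ne_top_iff_one.1 Ideal.IsPrime.ne_top'
      (h4 ▸ Ideal.mul_mem_left _ _ hα)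
  -- the Jacobian
  let J : Matrix (Fin 2) (Fin 2) A :=
    Matrix.of fun i j => coeff (Finsupp.single i 1) (lift (X j))
  have hdet : IsUnit J.det := by
    have hcol : ∀ k : Fin 2, ∃ v : Fin 2 → A, ∀ i,
        (J.mulVec v i) - (if i = k then 1 else 0) ∈ maximalIdeal A := by
      intro k
      obtain ⟨p, hp⟩ := Ideal.Quotient.mk_surjective (φ.symm (q' (X k)))
      have hmem : p - C (c0 p) ∈ RingHom.ker (constantCoeff : MvPowerSeries (Fin 2) A →+* A) := by
        simp [c0]
      rw [GrothLib.AdicFS.ker_constantCoeff, GrothLib.AdicFS.varsIdeal, MvPolynomial.idealOfVars,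
        Ideal.map_span, ← Set.range_comp] at hmem
      obtain ⟨r, hr⟩ := (Ideal.mem_span_range_iff_exists_fun).1 hmem
      simp only [Fin.sum_univ_two, Function.comp_apply, MvPowerSeries.algebraMap_apply'] at hr
      have hp' : p = C (c0 p) + r 0 * X 0 + r 1 * X 1 := by
        simp at hr; linear_combination -hr
      have hx : X k - (C (c0 p) + lift (r 0) * f + lift (r 1) * g) ∈ Ideal.span {e'} := by
        rw [← Ideal.Quotient.eq]
        show q' (X k) = q' _
        have h5 : q' (X k) = φ (q p) := by rw [show q p = φ.symm (q' (X k)) from hp, φ.apply_symm_apply]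
        rw [h5]
        conv_lhs => rw [hp']
        simp only [map_add, map_mul, f, g, hC, show ∀ z, q' (lift z) = φ (q z) from hlift]
      obtain ⟨v, hv⟩ := Ideal.mem_span_singleton'.1 hx
      refine ⟨![c0 (lift (r 0)), c0 (lift (r 1))], fun i => ?_⟩
      have h6 := congrArg (coeff (Finsupp.single i 1)) hv
      rw [hmul, hce, hc0e, mul_zero, zero_add, map_sub, map_add, map_add, hmul, hmul, coeff_C] at h6
      have hX : coeff (Finsupp.single i 1) (X k : MvPowerSeries (Fin 2) A) = if i = k then 1 else 0 := by
        rw [MvPowerSeries.coeff_index_single_X]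
      rw [hX, if_neg (show ¬(Finsupp.single i 1 : Fin 2 →₀ ℕ) = 0 by simp)] at h6
      have h7 : J.mulVec ![c0 (lift (r 0)), c0 (lift (r 1))] i - (if i = k then 1 else 0)
          = coeff (Finsupp.single i 1) v * β
            - coeff (Finsupp.single i 1) (lift (r 0)) * c0 f
            - coeff (Finsupp.single i 1) (lift (r 1)) * c0 g := by
        simp only [Matrix.mulVec, dotProduct, Fin.sum_univ_two, J, Matrix.of_apply,
          Matrix.cons_val_zero, Matrix.cons_val_one, f, g] at h6 ⊢
        linear_combination h6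
      rw [h7]
      exact sub_mem (sub_mem (Ideal.mul_mem_left _ _ hβ) (Ideal.mul_mem_left _ _ (hnu 0)))
        (Ideal.mul_mem_left _ _ (hnu 1))
    choose v hv using hcol
    let V : Matrix (Fin 2) (Fin 2) A := Matrix.of fun j k => v k j
    let π := IsLocalRing.residue A
    have h1 : π.mapMatrix (J * V) = 1 := by
      ext i k
      have h8 : π (J.mulVec (v k) i) = π (if i = k then 1 else 0) :=
        Ideal.Quotient.eq.2 (hv k i)
      rw [RingHom.mapMatrix_apply, Matrix.map_apply, Matrix.one_apply]
      exact h8.trans (by split_ifs <;> simp)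
    have h2 : IsUnit (π (J * V).det) := by
      rw [RingHom.map_det, h1, Matrix.det_one]; exact isUnit_one
    rw [Matrix.det_mul] at h2
    exact isUnit_of_mul_isUnit_left ((isUnit_map_iff π _).1 h2)
  have hlin : J.mulVec ![c0 g, c0 f] = fun i => -β * coeff (Finsupp.single i 1) u := by
    funext i
    have h := congrArg (coeff (Finsupp.single i 1)) hu
    rw [map_sub, hmul, hmul, hce, hc0e, coeff_C, if_neg (by simp)] at h
    simp only [Matrix.mulVec, dotProduct, Fin.sum_univ_two, J, Matrix.of_apply,
      Matrix.cons_val_zero, Matrix.cons_val_one]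
    linear_combination h
  have hsol : ∀ i, ![c0 g, c0 f] i ∈ Ideal.span {β} := by
    intro i
    have h := congrArg (fun w => J⁻¹.mulVec w i) hlin
    simp only [Matrix.mulVec_mulVec, Matrix.nonsing_inv_mul J hdet, Matrix.one_mulVec] at h
    rw [h]
    simp only [Matrix.mulVec, dotProduct]
    exact Ideal.sum_mem _ fun j _ => Ideal.mul_mem_left _ _
      (Ideal.mul_mem_right _ _ (neg_mem (Ideal.mem_span_singleton_self β)))
  have h0 := congrArg c0 hu
  rw [map_sub, map_mul, map_mul, hc0e, show c0 (C α) = α from constantCoeff_C α] at h0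
  rw [Ideal.span_singleton_le_iff_mem, show α = c0 f * c0 g + c0 u * β by linear_combination -h0]
  exact add_mem (Ideal.mul_mem_left _ _ (by simpa using hsol 0))
    (Ideal.mul_mem_left _ _ (Ideal.mem_span_singleton_self β))

open MvPowerSeries IsLocalRing in
/-- Let A be a Noetherian local ring and α, β two elements of its maximal ideal. If the quotient of the
power series ring in two variables over A by xy − α is isomorphic, as an A-algebra, to the quotient
by xy − β, then αA = βA. (The published statement allows any local ring A; it is taken Noetherian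
here, the case in which an algebra isomorphism between these complete local rings is continuous for
their adic topologies.) -/
theorem result
    (A : Type u) [CommRing A] [IsLocalRing A] [IsNoetherianRing A]
    (α β : A) (hα : α ∈ maximalIdeal A) (hβ : β ∈ maximalIdeal A)
    (φ : (MvPowerSeries (Fin 2) A ⧸ Ideal.span {(X 0 * X 1 - C α : MvPowerSeries (Fin 2) A)}) ≃ₐ[A] (MvPowerSeries (Fin 2) A ⧸ Ideal.span {(X 0 * X 1 - C β : MvPowerSeries (Fin 2) A)})) :
    Ideal.span {α} = Ideal.span {β} := by
  exact le_antisymm (dvd_aux α β hα hβ φ) (dvd_aux β α hβ hα φ.symm)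

end Groth.Agent.S17720
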