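import Groth.Statements.S17721
import Mathlib

set_option autoImplicit false
universe u
open CAlg

namespace Groth.Agent.S17721

open PowerSeries IsLocalRing in
theorem dvd_of_mul_eq_C {R : Type u} [CommRing R] [IsDomain R] [IsDiscreteValuationRing R] (ϖ : R)
    (hϖ : Irreducible ϖ) : ∀ (n : ℕ) (v : Rˣ) (g f : PowerSeries R),
    g * f = PowerSeries.C ((v : R) * ϖ ^ n) → ∀ i, constantCoeff f ∣ coeff i f := by
  have hdiv : ∀ h : PowerSeries R, h.map (residue R) = 0 → ∃ h' : PowerSeries R, h = C ϖ * h' := by
    intro h hh
    have : ∀ i, ϖ ∣ coeff i h := fun i => by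
      have h1 : residue R (coeff i h) = 0 := by rw [← coeff_map, hh, map_zero]
      rw [residue_eq_zero_iff, hϖ.maximalIdeal_eq, Ideal.mem_span_singleton] at h1
      exact h1
    choose c hc using this
    exact ⟨PowerSeries.mk c, PowerSeries.ext fun i => by rw [coeff_C_mul, coeff_mk]; exact hc i⟩
  intro n
  induction n with
  | zero =>
    intro v g f h i
    have h1 := congrArg constantCoeff h
    rw [pow_zero, mul_one, map_mul, constantCoeff_C] at h1
    have hu : IsUnit (constantCoeff f) := isUnit_of_mul_isUnit_right (h1 ▸ v.isUnit)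
    exact hu.dvd
  | succ n ih =>
    intro v g f h i
    have h0 : g.map (residue R) * f.map (residue R) = 0 := by
      rw [← map_mul, h, map_C, map_mul, map_pow,
        show residue R ϖ = 0 by rw [residue_eq_zero_iff, hϖ.maximalIdeal_eq]; exact Ideal.mem_span_singleton_self ϖ,
        zero_pow (Nat.succ_ne_zero n), mul_zero, map_zero]
    have hC : C ϖ ≠ 0 := fun h => hϖ.ne_zero ((map_eq_zero_iff _ PowerSeries.C_injective).1 h)
    have hpow : C ((v : R) * ϖ ^ (n + 1)) = C ϖ * C ((v : R) * ϖ ^ n) := by
      rw [← map_mul]; ring_nf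
    rcases mul_eq_zero.1 h0 with h1 | h1
    · obtain ⟨g', rfl⟩ := hdiv g h1
      exact ih v g' f (mul_left_cancel₀ hC (by rw [← mul_assoc, h, hpow])) i
    · obtain ⟨f', rfl⟩ := hdiv f h1
      rw [map_mul, constantCoeff_C, coeff_C_mul]
      exact mul_dvd_mul_left ϖ (ih v g f' (mul_left_cancel₀ hC (by rw [mul_left_comm, h, hpow])) i)

open Polynomial IsLocalRing in
/-- Let R be a complete discrete valuation ring with fraction field K, and f a polynomial over R with
non-zero constant term a₀ such that a₀ does not divide some coefficient of f of positive degree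
(equivalently, the Newton polygon of f has a side of negative slope). Let b be the power series over
K with b · f = a₀, the expansion of the geometric series in 1 − f/a₀. Then the valuations of the
coefficients b_j are not bounded below: for every non-zero c in R there is an index j with c · b_j
outside R. -/
theorem result
    (R : Type u) [CommRing R] [IsDomain R] [IsDiscreteValuationRing R]
    [IsAdicComplete (maximalIdeal R) R]
    (K : Type u) [Field K] [Algebra R K] [IsFractionRing R K]
    (f : R[X]) (h0 : f.coeff 0 ≠ 0) (hslope : ∃ i : ℕ, 0 < i ∧ ¬ (f.coeff 0 ∣ f.coeff i))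
    (b : PowerSeries K)
    (hb : b * ((f.map (algebraMap R K) : K[X]) : PowerSeries K) = PowerSeries.C (algebraMap R K (f.coeff 0))) :
    ∀ c : R, c ≠ 0 → ∃ j : ℕ, algebraMap R K c * PowerSeries.coeff j b ∉ (algebraMap R K).range := by
  intro c hc
  by_contra hcon
  push Not at hcon
  choose d hd using fun j => RingHom.mem_range.1 (hcon j)
  obtain ⟨i, -, hi⟩ := hslope
  obtain ⟨ϖ, hϖ⟩ := IsDiscreteValuationRing.exists_irreducible R
  obtain ⟨n, v, hnv⟩ := IsDiscreteValuationRing.eq_unit_mul_pow_irreducible
    (mul_ne_zero hc h0) hϖ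
  have hinj : Function.Injective (PowerSeries.map (algebraMap R K)) := fun x y h => PowerSeries.ext fun j =>
    IsFractionRing.injective R K (by rw [← PowerSeries.coeff_map, h, PowerSeries.coeff_map])
  have hd' : PowerSeries.map (algebraMap R K) (PowerSeries.mk d) = PowerSeries.C (algebraMap R K c) * b := by
    ext j
    rw [PowerSeries.coeff_map, PowerSeries.coeff_mk, PowerSeries.coeff_C_mul]
    exact hd j
  have key : PowerSeries.mk d * (f : PowerSeries R) = PowerSeries.C ((v : R) * ϖ ^ n) := by
    apply hinj
    rw [map_mul, hd', ← hnv, PowerSeries.map_C, map_mul, map_mul, ← hb, mul_assoc,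
      Polynomial.polynomial_map_coe]
  exact hi (by simpa [Polynomial.constantCoeff_coe] using dvd_of_mul_eq_C ϖ hϖ n v _ _ key i)

end Groth.Agent.S17721
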