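import Groth.Statements.S17722
import Mathlib.RingTheory.Flat.FaithfullyFlat.Algebra
import Mathlib.RingTheory.Nakayama
-- import your own Groth.Agent.* helpers here

set_option autoImplicit false
universe u
open CAlg

namespace Groth.Agent.S17722

/-- Let R → R' be a faithfully flat ring map between Noetherian integrally closed local domains, and p
an ideal of R. If the ideal pR' generated by the image of p is principal, then p is principal. (The
second assertion of the published lemma, descent of unique factorization, is not part of this row.) -/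
theorem result
    (R R' : Type u) [CommRing R] [CommRing R'] [IsDomain R] [IsDomain R']
    [IsNoetherianRing R] [IsNoetherianRing R'] [IsLocalRing R] [IsLocalRing R']
    [IsIntegrallyClosed R] [IsIntegrallyClosed R']
    [Algebra R R'] [Module.FaithfullyFlat R R']
    (p : Ideal R) (hp : (p.map (algebraMap R R')).IsPrincipal) :
    p.IsPrincipal := by
  classical
  obtain ⟨⟨a, ha⟩⟩ := hp
  rw [Ideal.submodule_span_eq] at ha
  by_cases h : ∃ x ∈ p, Ideal.span {algebraMap R R' x} = p.map (algebraMap R R')
  · obtain ⟨x, hx, hspan⟩ := h
    refine ⟨⟨x, ?_⟩⟩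
    rw [Ideal.submodule_span_eq]
    rw [← Ideal.comap_map_eq_self_of_faithfullyFlat (B := R') p,
      ← Ideal.comap_map_eq_self_of_faithfullyFlat (B := R') (Ideal.span {x}),
      Ideal.map_span, Set.image_singleton, hspan]
  · refine absurd ?_ h
    have key : ∀ x ∈ p, ∃ c : R', algebraMap R R' x = c * a := fun x hx => by
      obtain ⟨c, hc⟩ := Ideal.mem_span_singleton'.1 (ha ▸ Ideal.mem_map_of_mem (algebraMap R R') hx)
      exact ⟨c, hc.symm⟩
    choose! c hc using key
    by_cases hu : ∃ x ∈ p, IsUnit (c x)
    · obtain ⟨x, hx, hux⟩ := hu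
      refine ⟨x, hx, ?_⟩
      rw [ha, hc x hx]
      exact Ideal.span_singleton_mul_left_unit hux a
    · simp only [not_exists, not_and] at hu
      have hle : p.map (algebraMap R R') ≤ IsLocalRing.maximalIdeal R' * Ideal.span {a} :=
        Ideal.map_le_iff_le_comap.2 fun x hx => by
          rw [Ideal.mem_comap, hc x hx]
          exact Ideal.mul_mem_mul (hu x hx) (Ideal.mem_span_singleton_self a)
      have hbot : Ideal.span ({a} : Set R') = ⊥ := by
        refine Submodule.eq_bot_of_le_smul_of_le_jacobson_bot _ _ (Submodule.fg_span_singleton a) ?_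
          (IsLocalRing.maximalIdeal_le_jacobson _)
        exact le_of_eq_of_le ha.symm hle
      refine ⟨0, p.zero_mem, ?_⟩
      rw [map_zero, ha, hbot]
      exact Ideal.span_singleton_eq_bot.2 rfl

end Groth.Agent.S17722
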