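import Groth.Statements.S17725
import Groth.Agent.Lib.NoethTop.KrullDim

set_option autoImplicit false
universe u
open SpecSp

namespace Groth.Agent.S17725

open AlgebraicGeometry in
/-- In a connected Noetherian scheme any two points p, q are linked by a finite chain of points p = x₁,
…, xₙ = q such that for each i one of x_i, x_{i+1} is a specialization of the other; equivalently, p
and q are related by the equivalence relation generated by the specialization relation. -/
theorem result
    (X : Scheme.{u}) [IsNoetherian X] [ConnectedSpace X] (p q : X) :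
    Relation.EqvGen (fun x y : X => x ⤳ y) p q := by
  let C : Set X := {y | Relation.EqvGen (fun x y : X => x ⤳ y) p y}
  have key : ∀ Z ∈ irreducibleComponents X, (Z ∩ C).Nonempty → Z ⊆ C := by
    rintro Z hZ ⟨a, haZ, haC⟩ b hb
    obtain ⟨η, hη⟩ := QuasiSober.sober hZ.1 (isClosed_of_mem_irreducibleComponents Z hZ)
    exact (haC.trans _ _ _ ((Relation.EqvGen.rel _ _ (hη.specializes haZ)).symm _ _)).trans _ _ _
      (Relation.EqvGen.rel _ _ (hη.specializes hb))
  have hfin := TopologicalSpace.NoetherianSpace.finite_irreducibleComponents (α := X)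
  have hclosed : ∀ (P : Set X → Prop), IsClosed (⋃₀ {Z ∈ irreducibleComponents X | P Z}) := fun P => by
    rw [Set.sUnion_eq_biUnion]
    exact (hfin.subset (fun Z hZ => hZ.1)).isClosed_biUnion fun Z hZ =>
      isClosed_of_mem_irreducibleComponents Z hZ.1
  have e1 : C = ⋃₀ {Z ∈ irreducibleComponents X | (Z ∩ C).Nonempty} := by
    refine subset_antisymm (fun y hy => ?_) (Set.sUnion_subset fun Z hZ => key Z hZ.1 hZ.2)
    exact ⟨_, ⟨irreducibleComponent_mem_irreducibleComponents y, y, mem_irreducibleComponent, hy⟩,
      mem_irreducibleComponent⟩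
  have e2 : Cᶜ = ⋃₀ {Z ∈ irreducibleComponents X | ¬(Z ∩ C).Nonempty} := by
    refine subset_antisymm (fun y hy => ?_) ?_
    · exact ⟨_, ⟨irreducibleComponent_mem_irreducibleComponents y,
        fun h => hy (key _ (irreducibleComponent_mem_irreducibleComponents y) h mem_irreducibleComponent)⟩,
        mem_irreducibleComponent⟩
    · rintro y ⟨Z, ⟨_, hn⟩, hyZ⟩ hy
      exact hn ⟨y, hyZ, hy⟩
  have hC : IsClopen C := ⟨e1 ▸ hclosed _, isClosed_compl_iff.1 (e2 ▸ hclosed _)⟩
  have := hC.eq_univ ⟨p, Relation.EqvGen.refl p⟩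
  exact (Set.eq_univ_iff_forall.1 this q)

end Groth.Agent.S17725
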