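import Groth.Statements.S17726
import Mathlib.RingTheory.Ideal.Span
import Mathlib.Tactic.LinearCombination

set_option autoImplicit false
universe u
open CAlg

namespace Groth.Agent.S17726

/-- Let f and g be non-zero-divisors of a commutative ring A, not both units; think of them as local
equations, at a point of the union of the supports, of two effective Cartier divisors E and D. If
the ideals generated by g^{m₁} and f^{n₁} coincide, and likewise for g^{m₂} and f^{n₂}, then m₁ n₂ =
m₂ n₁. So all pairs (m, n) with m D = n E locally at the point are proportional, and the saturation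
of the monoid they form is generated by a single element. -/
theorem result
    (A : Type u) [CommRing A] (f g : A)
    (hf : f ∈ nonZeroDivisors A) (hg : g ∈ nonZeroDivisors A) (hfg : ¬ (IsUnit f ∧ IsUnit g))
    (m₁ n₁ m₂ n₂ : ℕ)
    (h₁ : Ideal.span {g ^ m₁} = Ideal.span {f ^ n₁})
    (h₂ : Ideal.span {g ^ m₂} = Ideal.span {f ^ n₂}) :
    m₁ * n₂ = m₂ * n₁ := by
  have unit_of : ∀ (x : A), x ∈ nonZeroDivisors A → ∀ a b : ℕ, a < b → x ^ b ∣ x ^ a → IsUnit x := by
    intro x hx a b hab hd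
    obtain ⟨c, hc⟩ := hd
    obtain ⟨d, rfl⟩ := Nat.exists_eq_add_of_lt hab
    refine IsUnit.of_mul_eq_one (x ^ d * c) ?_
    apply sub_eq_zero.1
    apply (mem_nonZeroDivisors_iff.1 (pow_mem hx a)).1
    linear_combination -hc
  rw [le_antisymm_iff, Ideal.span_singleton_le_span_singleton, Ideal.span_singleton_le_span_singleton]
    at h₁ h₂
  have hg' : g ^ (m₁ * n₂) ∣ g ^ (m₂ * n₁) ∧ g ^ (m₂ * n₁) ∣ g ^ (m₁ * n₂) := by
    simp only [pow_mul]
    constructor
    · exact (pow_dvd_pow_of_dvd h₁.2 n₂).trans (by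
        rw [← pow_mul, mul_comm, pow_mul]
        exact pow_dvd_pow_of_dvd h₂.1 n₁)
    · refine (pow_dvd_pow_of_dvd h₂.2 n₁).trans ?_
      rw [← pow_mul, mul_comm, pow_mul]
      exact pow_dvd_pow_of_dvd h₁.1 n₂
  have hf' : f ^ (n₁ * m₂) ∣ f ^ (n₂ * m₁) ∧ f ^ (n₂ * m₁) ∣ f ^ (n₁ * m₂) := by
    simp only [pow_mul]
    constructor
    · exact (pow_dvd_pow_of_dvd h₁.1 m₂).trans (by
        rw [← pow_mul, mul_comm, pow_mul]
        exact pow_dvd_pow_of_dvd h₂.2 m₁)
    · refine (pow_dvd_pow_of_dvd h₂.1 m₁).trans ?_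
      rw [← pow_mul, mul_comm, pow_mul]
      exact pow_dvd_pow_of_dvd h₁.2 m₂
  by_contra hne
  apply hfg
  rcases Nat.lt_or_gt_of_ne hne with h | h
  · exact ⟨unit_of f hf _ _ (by rw [mul_comm n₁, mul_comm n₂]; exact h) hf'.1,
      unit_of g hg _ _ h hg'.2⟩
  · exact ⟨unit_of f hf _ _ (by rw [mul_comm n₁, mul_comm n₂]; exact h) hf'.2,
      unit_of g hg _ _ h hg'.1⟩

end Groth.Agent.S17726
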