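import Groth.Statements.S17727
-- import your own Groth.Agent.* helpers here
import Mathlib.AlgebraicGeometry.AffineScheme

set_option autoImplicit false
universe u
open Neron

namespace Groth.Agent.S17727

open CategoryTheory AlgebraicGeometry in
/-- Let f : E → S be a morphism of schemes and U ⊆ S a schematically dense open subscheme such that f
restricts to an isomorphism over U and the preimage of U is schematically dense in E. Then for every
section σ of f and every point s of S there is an open neighbourhood W of σ(s) in E on which f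
restricts to an open immersion. (The published statements conclude that the section lands in the
étale locus of f, in one published form for an algebraic space E, in another for f locally of finite
type over a Noetherian base; the affine-local argument gives the sharper conclusion recorded here,
for schemes.) -/
theorem result
    {E S : Scheme.{u}} (f : E ⟶ S) (U : S.Opens) (hU : CInt.IsSchematicallyDense U)
    (hiso : IsIso (morphismRestrict f U)) (hdense : CInt.IsSchematicallyDense (f ⁻¹ᵁ U))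
    (σ : S ⟶ E) (hσ : σ ≫ f = 𝟙 S) (s : S) :
    ∃ W : E.Opens, σ.base s ∈ W ∧ IsOpenImmersion (W.ι ≫ f) := by
  obtain ⟨_, ⟨S₀, hS₀, rfl⟩, hsS₀, -⟩ := S.isBasis_affineOpens.exists_subset_of_mem_open (Set.mem_univ s) isOpen_univ
  have hs : σ.base s ∈ f ⁻¹ᵁ S₀ := by
    show f (σ s) ∈ S₀
    rw [← Scheme.Hom.comp_apply, hσ]; exact hsS₀
  obtain ⟨_, ⟨E₀, hE₀, rfl⟩, hsE₀, hE₀S : E₀ ≤ f ⁻¹ᵁ S₀⟩ := E.isBasis_affineOpens.exists_subset_of_mem_open hs (f ⁻¹ᵁ S₀).2
  obtain ⟨r, hrle, hsr⟩ := hS₀.exists_basicOpen_le (V := σ ⁻¹ᵁ E₀) ⟨s, hsE₀⟩ hsS₀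
  let S₁ := S.basicOpen r
  let W : E.Opens := E₀ ⊓ f ⁻¹ᵁ S₁
  have hS₁ : IsAffineOpen S₁ := hS₀.basicOpen r
  have hW : IsAffineOpen W := by
    have e : W = E.basicOpen (f.appLE S₀ E₀ hE₀S r) := by
      rw [Scheme.Hom.appLE, CommRingCat.comp_apply, Scheme.basicOpen_res, ← Scheme.preimage_basicOpen]
    rw [e]; exact hE₀.basicOpen _
  have hσW : ∀ x ∈ S₁, σ.base x ∈ W := fun x hx => ⟨hrle hx, by
    show f (σ x) ∈ S₁
    rw [← Scheme.Hom.comp_apply, hσ]; exact hx⟩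
  refine ⟨W, hσW s hsr, ?_⟩
  let fW : (W : Scheme.{u}) ⟶ S₁ := IsOpenImmersion.lift S₁.ι (W.ι ≫ f) (by
    rw [Scheme.Opens.range_ι]; rintro _ ⟨x, rfl⟩; exact x.2.2)
  let σW : (S₁ : Scheme.{u}) ⟶ W := IsOpenImmersion.lift W.ι (S₁.ι ≫ σ) (by
    rw [Scheme.Opens.range_ι]; rintro _ ⟨x, rfl⟩; exact hσW x.1 x.2)
  have hfW : fW ≫ S₁.ι = W.ι ≫ f := IsOpenImmersion.lift_fac _ _ _
  have hσW' : σW ≫ W.ι = S₁.ι ≫ σ := IsOpenImmersion.lift_fac _ _ _
  have h1 : σW ≫ fW = 𝟙 _ := by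
    rw [← cancel_mono S₁.ι, Category.assoc, hfW, reassoc_of% hσW', hσ, Category.id_comp, Category.comp_id]
  have h2 : fW ≫ σW = 𝟙 _ := by
    haveI : IsAffine (W : Scheme.{u}) := hW
    let W₀ : (W : Scheme.{u}).Opens := W.ι ⁻¹ᵁ (f ⁻¹ᵁ U)
    have hagree : W₀.ι ≫ fW ≫ σW = W₀.ι := by
      rw [← cancel_mono W.ι, Category.assoc, Category.assoc, hσW', reassoc_of% hfW]
      let P : ((f ⁻¹ᵁ U : E.Opens) : Scheme.{u}) ⟶ (U : Scheme.{u}) := f ∣_ U
      let a : (W₀ : Scheme.{u}) ⟶ ((f ⁻¹ᵁ U : E.Opens) : Scheme.{u}) := IsOpenImmersion.lift (f ⁻¹ᵁ U).ι (W₀.ι ≫ W.ι) (by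
        rw [Scheme.Opens.range_ι]; rintro _ ⟨x, rfl⟩; exact x.2)
      have ha : a ≫ (f ⁻¹ᵁ U).ι = W₀.ι ≫ W.ι := IsOpenImmersion.lift_fac _ _ _
      haveI := hiso
      let b : ((f ⁻¹ᵁ U : E.Opens) : Scheme.{u}) ⟶ (f ⁻¹ᵁ U : E.Opens) :=
        IsOpenImmersion.lift (f ⁻¹ᵁ U).ι ((f ⁻¹ᵁ U).ι ≫ f ≫ σ) (by
          rw [Scheme.Opens.range_ι]; rintro _ ⟨x, rfl⟩
          show f (σ (f x.1)) ∈ U
          rw [← Scheme.Hom.comp_apply σ f, hσ]; exact x.2)
      have hb : b ≫ (f ⁻¹ᵁ U).ι = (f ⁻¹ᵁ U).ι ≫ f ≫ σ := IsOpenImmersion.lift_fac _ _ _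
      have hb1 : b = 𝟙 _ := by
        rw [← cancel_mono P, ← cancel_mono U.ι, Category.assoc, Category.id_comp, morphismRestrict_ι, reassoc_of% hb, hσ, Category.comp_id]
      rw [← reassoc_of% ha, ← hb, hb1, Category.id_comp, ha]
    refine ext_of_isAffine ?_
    have hinj : Function.Injective W₀.ι.appTop := by
      rw [injective_iff_map_eq_zero]
      intro u hu
      haveI : IsIso (W.ι.appLE W ⊤ (fun x _ => x.2)) := by
        rw [Scheme.Hom.appLE]
        haveI : IsIso (W.ι.app W) := W.ι.isIso_app _ (by rw [Scheme.Opens.opensRange_ι])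
        have e : (⊤ : (W : Scheme.{u}).Opens) = W.ι ⁻¹ᵁ W := TopologicalSpace.Opens.ext (Set.ext fun x => ⟨fun _ => x.2, fun _ => trivial⟩)
        haveI : IsIso ((W : Scheme.{u}).presheaf.map (homOfLE e.le).op) := by
          haveI : IsIso (homOfLE e.le) := ⟨homOfLE e.ge, Subsingleton.elim _ _, Subsingleton.elim _ _⟩
          infer_instance
        infer_instance
      obtain ⟨v, rfl⟩ := (ConcreteCategory.bijective_of_isIso (W.ι.appLE W ⊤ (fun x _ => x.2))).2 u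
      let g := W₀.ι ≫ W.ι
      have hV : W ⊓ (f ⁻¹ᵁ U) ≤ g.opensRange := by
        intro x hx
        exact ⟨⟨⟨x, hx.1⟩, hx.2⟩, rfl⟩
      haveI : IsIso (g.app (W ⊓ (f ⁻¹ᵁ U))) := g.isIso_app _ hV
      suffices v = 0 by rw [this, map_zero]
      apply hdense W
      rw [map_zero]
      apply (ConcreteCategory.bijective_of_isIso (g.app (W ⊓ (f ⁻¹ᵁ U)))).1
      have e1 : g.appLE W ⊤ (fun x _ => (W₀.ι x).2) v = 0 := by
        rw [← Scheme.Hom.appLE_comp_appLE W₀.ι W.ι W ⊤ ⊤ (fun x _ => x.2) le_top]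
        have e : W₀.ι.appLE ⊤ ⊤ le_top = W₀.ι.appTop := by
          rw [Scheme.Hom.appLE, Subsingleton.elim (homOfLE _).op (𝟙 _)]
          simp [Scheme.Hom.appTop]
          exact Category.comp_id _
        rw [CommRingCat.comp_apply]
        erw [e]
        exact hu
      rw [map_zero]
      have hle : (⊤ : (W₀ : Scheme.{u}).Opens) ≤ g ⁻¹ᵁ (W ⊓ (f ⁻¹ᵁ U)) := fun x _ => ⟨(W₀.ι x).2, x.2⟩
      have hle' : g ⁻¹ᵁ (W ⊓ (f ⁻¹ᵁ U)) ≤ ⊤ := le_top
      have e2 : (g.app (W ⊓ (f ⁻¹ᵁ U))) ((E.presheaf.map (homOfLE (inf_le_left : W ⊓ (f ⁻¹ᵁ U) ≤ W)).op) v) =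
          ((W₀ : Scheme.{u}).presheaf.map (homOfLE hle').op) (g.appLE W ⊤ (fun x _ => (W₀.ι x).2) v) := by
        simp only [Scheme.Hom.app_eq_appLE, ← CommRingCat.comp_apply, Scheme.Hom.map_appLE, Scheme.Hom.appLE_map]
      rw [e2, e1, map_zero]
    refine CommRingCat.hom_ext (RingHom.ext fun t => hinj ?_)
    have h := congrArg (fun φ => (Scheme.Hom.appTop φ).hom t) hagree
    simpa [Scheme.Hom.comp_appTop] using h
  haveI : IsIso fW := ⟨σW, h2, h1⟩
  rw [← hfW]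
  infer_instance

end Groth.Agent.S17727
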