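import Groth.Statements.S17728
import Mathlib
import Groth.Agent.Lib.SchDense.CIntDense
import Groth.Agent.Lib.LocProp.Stalk

set_option autoImplicit false
universe u
open Neron

namespace Groth.Agent.S17728

open CategoryTheory AlgebraicGeometry TensorProduct

/-- A faithfully flat algebra in which `b ⊗ 1 = 1 ⊗ b` is the base ring. -/
theorem surjective_of_tmul_eq {A B : Type u} [CommRing A] [CommRing B] [Algebra A B]
    [Module.FaithfullyFlat A B] (h : ∀ b : B, b ⊗ₜ[A] (1 : B) = 1 ⊗ₜ[A] b) :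
    Function.Surjective (algebraMap A B) := by
  refine (Module.FaithfullyFlat.lTensor_surjective_iff_surjective A B (Algebra.linearMap A B)).mp ?_
  intro y
  induction y using TensorProduct.induction_on with
  | zero => exact ⟨0, map_zero _⟩
  | tmul b b' =>
    refine ⟨(b * b') ⊗ₜ 1, ?_⟩
    simp only [LinearMap.lTensor_tmul, Algebra.linearMap_apply, map_one]
    rw [show (b * b') ⊗ₜ[A] (1 : B) = (b ⊗ₜ[A] 1) * (b' ⊗ₜ[A] 1) by simp, h b']
    simp
  | add y z hy hz =>
    obtain ⟨a, rfl⟩ := hy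
    obtain ⟨c, rfl⟩ := hz
    exact ⟨a + c, map_add _ _ _⟩

/-- If no nonzero element of a flat algebra is killed by powers of the `aᵢ`, then none of its
tensor square is, and the two maps to the tensor square agree as soon as they agree after inverting
each `aᵢ`. -/
theorem tmul_eq_of_forall_away {A B : Type u} [CommRing A] [CommRing B] [Algebra A B]
    [Module.Flat A B] {σ : Type u} [Fintype σ] (a : σ → A)
    (hB : ∀ (n : ℕ) (b : B), (∀ i, a i ^ n • b = 0) → b = 0)
    (hagree : ∀ i (b : B), algebraMap (B ⊗[A] B)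
      (Localization.Away (algebraMap A (B ⊗[A] B) (a i))) (b ⊗ₜ 1) = algebraMap (B ⊗[A] B) _ ((1 : B) ⊗ₜ[A] b))
    (b : B) : b ⊗ₜ[A] (1 : B) = 1 ⊗ₜ[A] b := by
  classical
  have h : ∀ i, ∃ n : ℕ, a i ^ n • (b ⊗ₜ[A] (1 : B) - 1 ⊗ₜ[A] b) = 0 := fun i => by
    obtain ⟨⟨_, n, rfl⟩, hn⟩ := (IsLocalization.eq_iff_exists
      (Submonoid.powers (algebraMap A (B ⊗[A] B) (a i))) _).mp (hagree i b)
    refine ⟨n, ?_⟩
    rw [Algebra.smul_def, map_pow, mul_sub, sub_eq_zero]
    exact hn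
  choose n hn using h
  let N := ∑ i, n i
  let L : B →ₗ[A] (σ → B) := LinearMap.pi fun i => a i ^ N • LinearMap.id
  have hL : Function.Injective L := (injective_iff_map_eq_zero L).mpr fun c hc =>
    hB N c fun i => congrFun hc i
  have key : ∀ t : B ⊗[A] B, (∀ i, a i ^ N • t = 0) → t = 0 := by
    intro t ht
    apply Module.Flat.lTensor_preserves_injective_linearMap (M := B) L hL
    rw [map_zero]
    refine (TensorProduct.piRight A A B fun _ : σ => B).injective ?_
    rw [map_zero]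
    funext i
    have e : ∀ u : B ⊗[A] B,
        (TensorProduct.piRight A A B fun _ : σ => B) (L.lTensor B u) i = a i ^ N • u := by
      intro u
      induction u using TensorProduct.induction_on with
      | zero => simp
      | tmul c d => simp [L, TensorProduct.tmul_smul]
      | add c d hc hd => rw [map_add, map_add, Pi.add_apply, hc, hd, smul_add]
    rw [e, ht]
    rfl
  refine sub_eq_zero.mp (key _ fun i => ?_)
  rw [show N = (N - n i) + n i from (Nat.sub_add_cancel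
    (Finset.single_le_sum (fun j _ => Nat.zero_le (n j)) (Finset.mem_univ i))).symm, pow_add,
    mul_smul, hn i, smul_zero]

/-- A flat local map which is a monomorphism after inverting elements jointly regular on the target
is bijective. -/
theorem bijective_of_flat_of_away {A B : CommRingCat.{u}} (φ : A ⟶ B) [IsLocalRing A]
    [IsLocalRing B] (hloc : IsLocalHom φ.hom) (hflat : φ.hom.Flat) {σ : Type u} [Fintype σ] (a : σ → A)
    (hB : ∀ (n : ℕ) (b : B), (∀ i, φ (a i) ^ n * b = 0) → b = 0)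
    (hagree : ∀ (C : CommRingCat.{u}) (r₁ r₂ : B ⟶ C) (i : σ), φ ≫ r₁ = φ ≫ r₂ →
      IsUnit ((φ ≫ r₁) (a i)) → r₁ = r₂) :
    Function.Bijective φ.hom := by
  let _ : Algebra A B := φ.hom.toAlgebra
  have : Module.Flat A B := hflat
  have : IsLocalHom (algebraMap A B) := hloc
  have : Module.FaithfullyFlat A B := Module.FaithfullyFlat.of_flat_of_isLocalHom
  refine ⟨(FaithfulSMul.algebraMap_injective A B : _), surjective_of_tmul_eq ?_⟩
  refine tmul_eq_of_forall_away a (fun n b hb => hB n b fun i => ?_) fun i b => ?_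
  · rw [← map_pow]
    exact hb i
  · let C := Localization.Away (algebraMap A (B ⊗[A] B) (a i))
    let r₁ : B ⟶ CommRingCat.of C := CommRingCat.ofHom
      ((algebraMap (B ⊗[A] B) C).comp Algebra.TensorProduct.includeLeftRingHom)
    let r₂ : B ⟶ CommRingCat.of C := CommRingCat.ofHom
      ((algebraMap (B ⊗[A] B) C).comp Algebra.TensorProduct.includeRight.toRingHom)
    have h : φ ≫ r₁ = φ ≫ r₂ := by
      ext c
      exact congrArg (algebraMap (B ⊗[A] B) C)
        ((Algebra.TensorProduct.includeRight (R := A) (A := B) (B := B)).commutes c).symm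
    exact ConcreteCategory.congr_hom (hagree _ r₁ r₂ i h
      (IsLocalization.Away.algebraMap_isUnit (algebraMap A (B ⊗[A] B) (a i)))) b

/-- Morphisms into the locus where `f` is an isomorphism are determined by their composite with `f`. -/
theorem hom_ext_of_isIso {X S T : Scheme.{u}} (f : X ⟶ S) (U : S.Opens)
    (hiso : IsIso (morphismRestrict f U)) (a b : T ⟶ X) (ha : ∀ z, a z ∈ f ⁻¹ᵁ U)
    (hab : a ≫ f = b ≫ f) : a = b := by
  have hb : ∀ z, b z ∈ f ⁻¹ᵁ U := fun z => by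
    show f (b z) ∈ U
    rw [← Scheme.Hom.comp_apply, ← hab]
    exact ha z
  let a' := IsOpenImmersion.lift (f ⁻¹ᵁ U).ι a (by
    rintro _ ⟨z, rfl⟩; rw [Scheme.Opens.range_ι]; exact ha z)
  let b' := IsOpenImmersion.lift (f ⁻¹ᵁ U).ι b (by
    rintro _ ⟨z, rfl⟩; rw [Scheme.Opens.range_ι]; exact hb z)
  have ha' : a' ≫ (f ⁻¹ᵁ U).ι = a := IsOpenImmersion.lift_fac _ _ _
  have hb' : b' ≫ (f ⁻¹ᵁ U).ι = b := IsOpenImmersion.lift_fac _ _ _
  have : a' = b' := by
    rw [← cancel_mono (morphismRestrict f U), ← cancel_mono U.ι, Category.assoc, Category.assoc,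
      morphismRestrict_ι, reassoc_of% ha', reassoc_of% hb', hab]
  rw [← ha', ← hb', this]

/-- At a point where `f` is flat the stalk map is bijective. -/
theorem bijective_stalkMap {X S : Scheme.{u}} [IsNoetherian S] (f : X ⟶ S) (U : S.Opens)
    (hiso : IsIso (morphismRestrict f U)) (hdense : CInt.IsSchematicallyDense (f ⁻¹ᵁ U))
    (x : X) (hflat : (f.stalkMap x).hom.Flat) : Function.Bijective (f.stalkMap x).hom := by
  obtain ⟨_, ⟨S₀, hS₀, rfl⟩, hsS₀, -⟩ :=
    S.isBasis_affineOpens.exists_subset_of_mem_open (Set.mem_univ (f x)) isOpen_univ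
  obtain ⟨_, ⟨X₀, hX₀, rfl⟩, hxX₀, hle⟩ :=
    X.isBasis_affineOpens.exists_subset_of_mem_open (show x ∈ f ⁻¹ᵁ S₀ from hsS₀) (f ⁻¹ᵁ S₀).2
  have hle : X₀ ≤ f ⁻¹ᵁ S₀ := hle
  -- the equations
  obtain ⟨σ, hσ, a, haU, hacov⟩ : ∃ (σ : Type u) (_ : Fintype σ) (a : σ → Γ(S, S₀)),
      (∀ i, S.basicOpen (a i) ≤ U) ∧
      (∀ y ∈ S₀ ⊓ U, ∃ i, y ∈ S.basicOpen (a i)) := by
    have hcpt : IsCompact ((S₀ ⊓ U : S.Opens) : Set S) := TopologicalSpace.NoetherianSpace.isCompact _
    choose g hg using fun y : ↥(S₀ ⊓ U) => hS₀.exists_basicOpen_le ⟨y.1, y.2.2⟩ y.2.1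
    obtain ⟨t, ht⟩ := hcpt.elim_finite_subcover (fun y : ↥(S₀ ⊓ U) => (S.basicOpen (g y) : Set S))
      (fun y => (S.basicOpen (g y)).2) (fun y hy => Set.mem_iUnion.mpr ⟨⟨y, hy⟩, (hg _).2⟩)
    refine ⟨t, inferInstance, fun i => g i.1, fun i => (hg i.1).1, fun y hy => ?_⟩
    obtain ⟨i, hit, hi⟩ := Set.mem_iUnion₂.mp (ht hy)
    exact ⟨⟨i, hit⟩, hi⟩
  let A₀ := Γ(S, S₀)
  let B₀ := Γ(X, X₀)
  let ψ : A₀ ⟶ B₀ := f.appLE S₀ X₀ hle
  have hD : ∀ (n : ℕ) (b : B₀), (∀ i, ψ (a i) ^ n * b = 0) → b = 0 := by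
    intro n b hb
    apply hdense X₀
    rw [map_zero]
    refine X.sheaf.eq_of_locally_eq' (fun i => X.basicOpen (ψ (a i))) (X₀ ⊓ f ⁻¹ᵁ U)
      (fun i => homOfLE ?_) ?_ _ _ fun i => ?_
    · refine le_inf (X.basicOpen_le _) ?_
      rw [Scheme.basicOpen_appLE]
      exact inf_le_right.trans (f.preimage_mono (haU i))
    · rintro y ⟨hy₀, hyU⟩
      obtain ⟨i, hi⟩ := hacov (f y) ⟨hle hy₀, hyU⟩
      refine TopologicalSpace.Opens.mem_iSup.mpr ⟨i, ?_⟩
      rw [Scheme.basicOpen_appLE]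
      exact ⟨hy₀, hi⟩
    · refine Eq.trans ?_ (map_zero _).symm
      refine (CommRingCat.comp_apply _ _ b).symm.trans ?_
      refine (ConcreteCategory.congr_hom (X.presheaf.map_comp _ _).symm b).trans ?_
      have hu : IsUnit (X.presheaf.map (homOfLE (X.basicOpen_le (ψ (a i)))).op (ψ (a i))) :=
        RingedSpace.isUnit_res_basicOpen _ _
      refine (hu.pow n).mul_right_eq_zero.mp ?_
      rw [← map_pow]
      refine Eq.trans ?_ ((congrArg (X.presheaf.map (homOfLE (X.basicOpen_le (ψ (a i)))).op) (hb i)).trans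
        (map_zero _))
      rw [map_mul]
      rfl
  let B := X.presheaf.stalk x
  let a' : σ → S.presheaf.stalk (f x) := fun i => S.presheaf.germ S₀ (f x) hsS₀ (a i)
  have hgerm : ∀ i, f.stalkMap x (a' i) = X.presheaf.germ X₀ x hxX₀ (ψ (a i)) := fun i => by
    rw [Scheme.Hom.germ_stalkMap_apply]
    simp only [ψ, Scheme.Hom.appLE, CommRingCat.comp_apply]
    exact (TopCat.Presheaf.germ_res_apply X.presheaf (homOfLE hle) x hxX₀ (f.app S₀ (a i))).symm
  refine bijective_of_flat_of_away (f.stalkMap x) (f.toLRSHom.prop x) hflat a' ?_ ?_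
  · intro n b hb
    let _ : Algebra B₀ B := (X.presheaf.germ X₀ x hxX₀).hom.toAlgebra
    have : IsLocalization.AtPrime B (hX₀.primeIdealOf ⟨x, hxX₀⟩).asIdeal :=
      hX₀.isLocalization_stalk ⟨x, hxX₀⟩
    set M := (hX₀.primeIdealOf ⟨x, hxX₀⟩).asIdeal.primeCompl
    obtain ⟨c, t, rfl⟩ := IsLocalization.exists_mk'_eq M b
    have hc : ∀ i, ∃ u : M, (u : B₀) * (ψ (a i) ^ n * c) = 0 := fun i => by
      have h := hb i
      rw [hgerm, ← map_pow,
        show X.presheaf.germ X₀ x hxX₀ (ψ (a i) ^ n) = algebraMap B₀ B (ψ (a i) ^ n) from rfl,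
        IsLocalization.mul_mk'_eq_mk'_of_mul, IsLocalization.mk'_eq_zero_iff] at h
      exact h
    choose u hu using hc
    have h0 : ((∏ i, u i : M) : B₀) * c = 0 := hD n _ fun i => by
      obtain ⟨v, hv⟩ := Finset.dvd_prod_of_mem u (Finset.mem_univ i)
      rw [hv, Submonoid.coe_mul]
      linear_combination (v : B₀) * hu i
    exact (IsLocalization.mk'_eq_zero_iff c t).mpr ⟨_, h0⟩
  · intro C r₁ r₂ i h hu
    set r := f.stalkMap x ≫ r₁
    have e : ∀ r' : X.presheaf.stalk x ⟶ C, f.stalkMap x ≫ r' = r →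
        (Spec.map r' ≫ X.fromSpecStalk x) ≫ f = Spec.map r ≫ S.fromSpecStalk (f x) := by
      intro r' h
      rw [Category.assoc, ← Scheme.SpecMap_stalkMap_fromSpecStalk, ← Spec.map_comp_assoc, h]
    have heq : Spec.map r₁ ≫ X.fromSpecStalk x = Spec.map r₂ ≫ X.fromSpecStalk x := by
      refine hom_ext_of_isIso f U hiso _ _ (fun z => ?_) ((e r₁ rfl).trans (e r₂ h.symm).symm)
      show f ((Spec.map r₁ ≫ X.fromSpecStalk x) z) ∈ U
      rw [← Scheme.Hom.comp_apply, e r₁ rfl, ← hS₀.fromSpecStalk_eq_fromSpecStalk hsS₀]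
      refine haU i ?_
      rw [Scheme.Hom.comp_apply]
      show _ ∈ hS₀.fromSpec ⁻¹ᵁ S.basicOpen (a i)
      rw [hS₀.fromSpec_preimage_basicOpen]
      show a i ∉ (Spec.map (S.presheaf.germ S₀ (f x) hsS₀) (Spec.map r z)).asIdeal
      intro hmem
      exact z.isPrime.ne_top (Ideal.eq_top_of_isUnit_mem _ hmem hu)
    exact Spec.map_injective ((cancel_mono _).mp heq)

/-- A schematically dense open stays so in an open subscheme. -/
theorem isSchematicallyDense_restrict {X : Scheme.{u}} (D W : X.Opens)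
    (hD : CInt.IsSchematicallyDense D) : CInt.IsSchematicallyDense (W.ι ⁻¹ᵁ D) := fun V => by
  refine (GrothLib.SchDense.presheaf_map_injective_iff (X := X) (W.ι.image_mono inf_le_left)
    (inf_le_left : W.ι ''ᵁ V ⊓ D ≤ W.ι ''ᵁ V) ?_).mpr (hD _)
  ext y
  constructor
  · rintro ⟨z, ⟨hzV, hzD⟩, rfl⟩
    exact ⟨⟨z, hzV, rfl⟩, hzD⟩
  · rintro ⟨⟨z, hzV, rfl⟩, hzD⟩
    exact ⟨z, ⟨hzV, hzD⟩, rfl⟩

/-- A section makes `f` an isomorphism near it. -/
theorem etale_of_section {X S : Scheme.{u}} (f : X ⟶ S) (U : S.Opens)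
    (hiso : IsIso (morphismRestrict f U)) (hdense : CInt.IsSchematicallyDense (f ⁻¹ᵁ U))
    (V : S.Opens) (σ : (V : Scheme.{u}) ⟶ X) (hσ : σ ≫ f = V.ι) (t : (V : Scheme.{u})) :
    ∃ W : X.Opens, σ t ∈ W ∧ Etale (W.ι ≫ f) := by
  obtain ⟨_, ⟨X₀, hX₀, rfl⟩, hxX₀, -⟩ :=
    X.isBasis_affineOpens.exists_subset_of_mem_open (Set.mem_univ (σ t)) isOpen_univ
  let V' : S.Opens := V.ι ''ᵁ (σ ⁻¹ᵁ X₀)
  let W : X.Opens := X₀ ⊓ f ⁻¹ᵁ V'
  have hfσ : ∀ v, f (σ v) = V.ι v := fun v => by rw [← Scheme.Hom.comp_apply, hσ]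
  have htW : σ t ∈ W := ⟨hxX₀, by show f (σ t) ∈ V'; rw [hfσ]; exact ⟨t, hxX₀, rfl⟩⟩
  refine ⟨W, htW, ?_⟩
  let g : (W : Scheme.{u}) ⟶ V' := IsOpenImmersion.lift V'.ι (W.ι ≫ f) (by
    rintro _ ⟨z, rfl⟩; rw [Scheme.Opens.range_ι]; exact z.2.2)
  have hg : g ≫ V'.ι = W.ι ≫ f := IsOpenImmersion.lift_fac _ _ _
  let e : (V' : Scheme.{u}) ⟶ V := S.homOfLE (show V' ≤ V from fun y hy => by
    obtain ⟨v, -, rfl⟩ := hy
    exact v.2)
  let τ : (V' : Scheme.{u}) ⟶ W := IsOpenImmersion.lift W.ι (e ≫ σ) (by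
    rintro _ ⟨z, rfl⟩
    rw [Scheme.Opens.range_ι]
    have h1 : e z ∈ σ ⁻¹ᵁ X₀ := by
      obtain ⟨v, hv, hvz⟩ := z.2
      have : e z = v := V.ι.isOpenEmbedding.injective (by
        rw [← Scheme.Hom.comp_apply, Scheme.homOfLE_ι]
        exact hvz.symm)
      rw [this]; exact hv
    exact ⟨h1, by
      show f (σ (e z)) ∈ V'
      rw [hfσ, ← Scheme.Hom.comp_apply, Scheme.homOfLE_ι]
      exact z.2⟩)
  have hτ : τ ≫ W.ι = e ≫ σ := IsOpenImmersion.lift_fac _ _ _
  have hτg : τ ≫ g = 𝟙 _ := by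
    rw [← cancel_mono V'.ι, Category.assoc, hg, reassoc_of% hτ, hσ, Scheme.homOfLE_ι,
      Category.id_comp]
  have hsepW : IsSeparated (W.ι ≫ f) := by
    have : IsAffine X₀ := hX₀
    have h0 : W ≤ X₀ := inf_le_left
    have : (W : Scheme.{u}).IsSeparated :=
      ⟨by
        rw [← Limits.terminal.comp_from (X.homOfLE h0)]
        infer_instance⟩
    infer_instance
  have hgτ : g ≫ τ = 𝟙 _ := by
    have hc : (g ≫ τ) ≫ W.ι ≫ f = 𝟙 _ ≫ W.ι ≫ f := by
      rw [Category.id_comp, Category.assoc, ← hg, reassoc_of% hτg]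
    refine GrothLib.SchDense.ext_of_isSchematicallyDense (W.ι ≫ f) hc
      (isSchematicallyDense_restrict _ W hdense) ?_
    set j := (W.ι ⁻¹ᵁ (f ⁻¹ᵁ U)).ι
    rw [Category.comp_id, ← cancel_mono W.ι]
    refine (hom_ext_of_isIso f U hiso (j ≫ W.ι) ((j ≫ g ≫ τ) ≫ W.ι) (fun z => z.2) ?_).symm
    simp only [Category.assoc] at hc ⊢
    rw [hc, Category.id_comp]
  have : IsIso g := ⟨τ, hgτ, hτg⟩
  rw [← hg]
  infer_instance

end Groth.Agent.S17728

namespace Groth.Agent.S17728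

open CategoryTheory AlgebraicGeometry in
/-- Let S be a Noetherian scheme, U ⊆ S a dense open subscheme and f : X → S a morphism locally of
finite type which restricts to an isomorphism over U and for which the preimage of U is
schematically dense in X. For a point x of X the following are equivalent: f is étale on some open
neighbourhood of x; f is flat at x, that is, the local ring of X at x is flat over the local ring of
S at f(x); some open neighbourhood V of f(x) carries a section σ of f over V passing through x. -/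
theorem result
    {X S : Scheme.{u}} [IsNoetherian S] (f : X ⟶ S) [LocallyOfFiniteType f]
    (U : S.Opens) (hU : Dense (U : Set S))
    (hiso : IsIso (morphismRestrict f U)) (hdense : CInt.IsSchematicallyDense (f ⁻¹ᵁ U))
    (x : X) :
    List.TFAE [
      ∃ W : X.Opens, x ∈ W ∧ Etale (W.ι ≫ f),
      (f.stalkMap x).hom.Flat,
      ∃ (V : S.Opens) (hV : f.base x ∈ V) (σ : (V : Scheme.{u}) ⟶ X),
        σ ≫ f = V.ι ∧ σ.base ⟨f.base x, hV⟩ = x] := by
  tfae_have 1 → 2 := by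
    rintro ⟨W, hxW, h⟩
    exact (GrothLib.LocProp.stalkMap_comp_ι_iff RingHom.Flat.respectsIso W.ι f ⟨x, hxW⟩).mp
      (Flat.stalkMap (W.ι ≫ f) _)
  tfae_have 2 → 3 := by
    intro hflat
    have : IsIso (f.stalkMap x) :=
      (ConcreteCategory.isIso_iff_bijective _).mpr (bijective_stalkMap f U hiso hdense x hflat)
    obtain ⟨V, hV, σ, h1, h2⟩ := spread_out_of_isGermInjective' (𝟙 S) f
      (x := f.base x) (Spec.map (inv (f.stalkMap x)) ≫ X.fromSpecStalk x) (by
        rw [Category.assoc, ← Scheme.SpecMap_stalkMap_fromSpecStalk, ← Spec.map_comp_assoc,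
          IsIso.hom_inv_id, Spec.map_id, Category.id_comp, Category.comp_id])
    refine ⟨V, hV, σ, by simpa using h2, ?_⟩
    have h3 := congr($h1 (IsLocalRing.closedPoint (S.presheaf.stalk (f.base x))))
    rw [Scheme.Hom.comp_apply, Scheme.Hom.comp_apply] at h3
    have e1 : Spec.map (inv (f.stalkMap x)) (IsLocalRing.closedPoint (S.presheaf.stalk (f.base x))) =
        IsLocalRing.closedPoint (X.presheaf.stalk x) := IsLocalRing.comap_closedPoint _
    have e2 : V.fromSpecStalkOfMem (f.base x) hV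
        (IsLocalRing.closedPoint (S.presheaf.stalk (f.base x))) = ⟨f.base x, hV⟩ := by
      refine V.ι.isOpenEmbedding.injective ?_
      rw [← Scheme.Hom.comp_apply, Scheme.Opens.fromSpecStalkOfMem_ι, Scheme.fromSpecStalk_closedPoint]
      rfl
    rw [e1, e2, Scheme.fromSpecStalk_closedPoint] at h3
    exact h3.symm
  tfae_have 3 → 1 := by
    rintro ⟨V, hV, σ, hσ, hσx⟩
    obtain ⟨W, hW, het⟩ := etale_of_section f U hiso hdense V σ hσ ⟨_, hV⟩
    exact ⟨W, hσx ▸ hW, het⟩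
  tfae_finish

end Groth.Agent.S17728
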