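import Groth.Statements.S17729
import Groth.Agent.Lib.NodeNzd13.Core
import Mathlib.AlgebraicGeometry.Morphisms.Smooth
-- import your own Groth.Agent.* helpers here

set_option autoImplicit false
universe u
open DualGr

namespace Groth.Agent.S17729


open CategoryTheory AlgebraicGeometry IsLocalRing in
theorem exists_mem_of_schematicallyDense {R : Type u} [CommRing R] (U : (Spec (CommRingCat.of R)).Opens)
    (hU : CInt.IsSchematicallyDense U) {a b : R} (hab : a * b = 0) (hb : b ≠ 0) :
    ∃ p ∈ U, a ∈ p.asIdeal := by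
  suffices H : ∀ ga gb : Γ(Spec (CommRingCat.of R), ⊤), ga * gb = 0 →
      U ≤ (Spec (CommRingCat.of R)).basicOpen ga → gb = 0 by
    by_contra hcon
    push_neg at hcon
    apply hb
    let ε := (Scheme.ΓSpecIso (CommRingCat.of R)).commRingCatIsoToRingEquiv.symm
    refine ε.injective ((H (ε a) (ε b) (by rw [← map_mul, hab, map_zero]) ?_).trans (map_zero _).symm)
    intro p hp
    show p ∈ (Spec (CommRingCat.of R)).basicOpen ((Scheme.ΓSpecIso (CommRingCat.of R)).inv a)
    rw [basicOpen_eq_of_affine]
    exact hcon p hp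
  intro ga gb hgab hUa
  have h1 : IsUnit ((Spec (CommRingCat.of R)).presheaf.map
      (homOfLE ((Spec (CommRingCat.of R)).basicOpen_le ga)).op ga) :=
    RingedSpace.isUnit_res_basicOpen _ ga
  have h2 := h1.map ((Spec (CommRingCat.of R)).presheaf.map (homOfLE hUa).op).hom
  have hu : IsUnit ((Spec (CommRingCat.of R)).presheaf.map (homOfLE (le_top : U ≤ ⊤)).op ga) := by
    rw [← homOfLE_comp hUa ((Spec (CommRingCat.of R)).basicOpen_le ga), op_comp, Functor.map_comp]
    exact h2
  have h0 : (Spec (CommRingCat.of R)).presheaf.map (homOfLE (le_top : U ≤ ⊤)).op gb = 0 := by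
    refine (hu.mul_right_eq_zero).1 ?_
    rw [← map_mul, hgab, map_zero]
  have h3 : (Spec (CommRingCat.of R)).presheaf.map
      (homOfLE (inf_le_left : (⊤ : (Spec (CommRingCat.of R)).Opens) ⊓ U ≤ ⊤)).op gb = 0 := by
    rw [← homOfLE_comp (inf_le_right : (⊤ : (Spec (CommRingCat.of R)).Opens) ⊓ U ≤ U) le_top,
      op_comp, Functor.map_comp, CommRingCat.comp_apply, h0, map_zero]
  exact hU ⊤ (h3.trans (map_zero _).symm)

open CategoryTheory AlgebraicGeometry in
set_option backward.isDefEq.respectTransparency false in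
theorem smooth_appLE_of_le {X : Scheme.{u}} {R : Type u} [CommRing R]
    (f : X ⟶ Spec (CommRingCat.of R)) (U : (Spec (CommRingCat.of R)).Opens)
    (hsm : Smooth (morphismRestrict f U)) {W : X.Opens} (hW : IsAffineOpen W) (hWU : W ≤ f ⁻¹ᵁ U) :
    ((X.presheaf.map (homOfLE (le_top : W ≤ ⊤)).op).hom.comp (Coh.toGlobal f)).Smooth := by
  have : IsAffine W.toScheme := hW
  have h1 : Smooth (W.ι ≫ f) := by
    have : W.ι ≫ f = (X.homOfLE hWU ≫ (f ∣_ U)) ≫ U.ι := by
      rw [Category.assoc, morphismRestrict_ι, ← Category.assoc, Scheme.homOfLE_ι]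
    rw [this]; infer_instance
  have h2 : ((W.ι ≫ f).appTop).hom.Smooth :=
    HasRingHomProperty.appTop @Smooth (W.ι ≫ f) h1
  have e : X.presheaf.map (homOfLE (le_top : W ≤ ⊤)).op =
      (W.ι).appTop ≫ W.topIso.hom := by
    rw [Scheme.Opens.ι_appTop, Scheme.Opens.topIso_hom, ← Functor.map_comp]
    rfl
  rw [Coh.toGlobal, ← RingHom.comp_assoc, ← CommRingCat.hom_comp, e, ← Category.assoc,
    CommRingCat.hom_comp]
  rw [← Scheme.Hom.comp_appTop]
  refine RingHom.Smooth.respectsIso.2 _ (Scheme.ΓSpecIso (CommRingCat.of R)).symm.commRingCatIsoToRingEquiv ?_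
  exact RingHom.Smooth.respectsIso.1 _ W.topIso.commRingCatIsoToRingEquiv h2


open CategoryTheory AlgebraicGeometry IsLocalRing in
/-- Let R be a complete Noetherian local ring and C → Spec R a morphism locally of finite type, smooth
over a schematically dense open subscheme U of Spec R. Let c be a point of C over the closed point
whose local ring is formally a node of thickness (a) over R for an element a of R: the completion of
the local ring at c is isomorphic, compatibly with R, to R̂[[x,y]]/(xy − a). Then a is a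
non-zero-divisor in R. (The published statement is for a semistable curve over a locally Noetherian
base and a non-smooth point over a separably closed field, with the node presentation supplied by
the local structure of such curves; it is stated here over the spectrum of a complete Noetherian
local ring with the node presentation as a hypothesis, the case to which the argument reduces, and
semistability plays no further role.) -/
theorem result
    (R : Type u) [CommRing R] [IsNoetherianRing R] [IsLocalRing R]
    [IsAdicComplete (maximalIdeal R) R]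
    {C : Scheme.{u}} (f : C ⟶ Spec (CommRingCat.of R)) [LocallyOfFiniteType f]
    (U : (Spec (CommRingCat.of R)).Opens) (hU : CInt.IsSchematicallyDense U)
    (hsm : Smooth (morphismRestrict f U))
    (c : C) (hc : f.base c = closedPoint R) (a : R)
    (hnode : DualGr.IsThickNode (DualGr.stalkHom f c) a) :
    a ∈ nonZeroDivisors R := by
  by_contra ha
  obtain ⟨b, hba, hb⟩ : ∃ b, b * a = 0 ∧ b ≠ 0 := by
    by_contra h
    push_neg at h
    exact ha (mem_nonZeroDivisors_iff_right.2 h)
  obtain ⟨p, hpU, hap⟩ := exists_mem_of_schematicallyDense U hU (mul_comm b a ▸ hba) hb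
  -- an affine chart at `c`
  obtain ⟨_, ⟨V, hV, rfl⟩, hcV, -⟩ :=
    C.isBasis_affineOpens.exists_subset_of_mem_open (Set.mem_univ c) isOpen_univ
  let φA : R →+* Γ(C, V) :=
    (C.presheaf.map (homOfLE (le_top : V ≤ ⊤)).op).hom.comp (Coh.toGlobal f)
  have hres : ∀ {W' : C.Opens} (hW' : W' ≤ V) (x : Γ(C, ⊤)),
      C.presheaf.map (homOfLE hW').op (C.presheaf.map (homOfLE (le_top : V ≤ ⊤)).op x) =
        C.presheaf.map (homOfLE (le_top : W' ≤ ⊤)).op x := fun hW' x => by
    rw [← homOfLE_comp hW' (le_top : V ≤ ⊤), op_comp, Functor.map_comp, CommRingCat.comp_apply]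
  letI : Algebra R Γ(C, V) := φA.toAlgebra
  letI : Algebra Γ(C, V) (C.presheaf.stalk c) := (C.presheaf.germ V c hcV).hom.toAlgebra
  haveI : IsLocalization.AtPrime (C.presheaf.stalk c) (hV.primeIdealOf ⟨c, hcV⟩).asIdeal :=
    hV.isLocalization_stalk ⟨c, hcV⟩
  letI : Algebra R (C.presheaf.stalk c) := (DualGr.stalkHom f c).toAlgebra
  haveI : IsScalarTower R Γ(C, V) (C.presheaf.stalk c) := IsScalarTower.of_algebraMap_eq fun r => by
    show C.presheaf.germ ⊤ c trivial (Coh.toGlobal f r) = C.presheaf.germ V c hcV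
      (C.presheaf.map (homOfLE (le_top : V ≤ ⊤)).op (Coh.toGlobal f r))
    exact (TopCat.Presheaf.germ_res_apply C.presheaf (homOfLE (le_top : V ≤ ⊤)) c hcV _).symm
  haveI : IsLocallyNoetherian C := LocallyOfFiniteType.isLocallyNoetherian f
  haveI : Algebra.FiniteType R Γ(C, V) := by
    have h1 := f.finiteType_appLE (isAffineOpen_top (Spec (CommRingCat.of R))) hV le_top
    have h2 := h1.comp (RingHom.FiniteType.of_surjective _
      (Scheme.ΓSpecIso (CommRingCat.of R)).symm.commRingCatIsoToRingEquiv.surjective)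
    have e : φA = (f.appLE ⊤ V le_top).hom.comp
        (Scheme.ΓSpecIso (CommRingCat.of R)).symm.commRingCatIsoToRingEquiv.toRingHom := rfl
    rw [← RingHom.finiteType_algebraMap, RingHom.algebraMap_toAlgebra, e]
    exact h2
  haveI : Algebra.EssFiniteType Γ(C, V) (C.presheaf.stalk c) :=
    Algebra.EssFiniteType.of_isLocalization _ (hV.primeIdealOf ⟨c, hcV⟩).asIdeal.primeCompl
  haveI : Algebra.EssFiniteType R (C.presheaf.stalk c) :=
    Algebra.EssFiniteType.comp R Γ(C, V) _
  haveI : IsNoetherianRing (C.presheaf.stalk c) := inferInstance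
  haveI : p.asIdeal.IsPrime := p.2
  refine GrothLib.NodeNzd13.false_of_formallySmooth R (C.presheaf.stalk c) a hnode p.asIdeal hap ?_
  intro q hq hqp
  -- a basic open around the prime over `p`, inside `U`
  obtain ⟨_, ⟨_, ⟨t, rfl⟩, rfl⟩, hpt, htU⟩ :=
    PrimeSpectrum.isBasis_basic_opens.exists_subset_of_mem_open hpU U.2
  let s : Γ(C, V) := φA t
  let W : C.Opens := C.basicOpen s
  haveI : IsLocalization.Away s Γ(C, W) := hV.isLocalization_basicOpen s
  letI : Algebra R Γ(C, W) := ((algebraMap Γ(C, V) Γ(C, W)).comp φA).toAlgebra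
  haveI : IsScalarTower R Γ(C, V) Γ(C, W) := IsScalarTower.of_algebraMap_eq fun _ => rfl
  haveI : Algebra.Smooth R Γ(C, W) := by
    have hWU : W ≤ f ⁻¹ᵁ U := by
      intro z hz
      refine htU ?_
      have h1 : z ∈ C.basicOpen (Coh.toGlobal f t) := by
        have h2 : z ∈ C.basicOpen s := hz
        exact ((C.basicOpen_res (Coh.toGlobal f t) (homOfLE (le_top : V ≤ ⊤)).op).le h2).2
      have h3 : f ⁻¹ᵁ ((Spec (CommRingCat.of R)).basicOpen ((Scheme.ΓSpecIso (CommRingCat.of R)).inv t)) =
          C.basicOpen (Coh.toGlobal f t) := Scheme.preimage_basicOpen_top f _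
      rw [← h3, basicOpen_eq_of_affine] at h1
      exact h1
    have h := smooth_appLE_of_le f U hsm (hV.basicOpen s) hWU
    rw [← RingHom.smooth_algebraMap, RingHom.algebraMap_toAlgebra]
    refine cast (congrArg RingHom.Smooth (RingHom.ext fun r => ?_)) h
    show C.presheaf.map (homOfLE le_top).op (Coh.toGlobal f r) =
      C.presheaf.map (homOfLE (C.basicOpen_le s)).op
        (C.presheaf.map (homOfLE (le_top : V ≤ ⊤)).op (Coh.toGlobal f r))
    exact (hres (C.basicOpen_le s) (Coh.toGlobal f r)).symm
  -- `O_q` is a localisation of `Γ(C, W)`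
  haveI : IsLocalization.AtPrime (Localization.AtPrime q) (q.comap (algebraMap Γ(C, V) (C.presheaf.stalk c))) :=
    IsLocalization.isLocalization_isLocalization_atPrime_isLocalization
      (hV.primeIdealOf ⟨c, hcV⟩).asIdeal.primeCompl (Localization.AtPrime q) q
  have hs : s ∈ (q.comap (algebraMap Γ(C, V) (C.presheaf.stalk c))).primeCompl := by
    intro h
    have h' : algebraMap R (C.presheaf.stalk c) t ∈ q := by
      rw [IsScalarTower.algebraMap_apply R Γ(C, V) (C.presheaf.stalk c)]; exact h
    rw [← Ideal.mem_comap, hqp] at h'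
    exact hpt h'
  letI : Algebra Γ(C, W) (Localization.AtPrime q) :=
    (IsLocalization.Away.lift (S := Γ(C, W)) s
      (g := algebraMap Γ(C, V) (Localization.AtPrime q))
      (IsLocalization.map_units (M := (q.comap (algebraMap Γ(C, V) (C.presheaf.stalk c))).primeCompl)
        (Localization.AtPrime q) ⟨s, hs⟩)).toAlgebra
  haveI : IsScalarTower Γ(C, V) Γ(C, W) (Localization.AtPrime q) :=
    IsScalarTower.of_algebraMap_eq fun x => by
      rw [RingHom.algebraMap_toAlgebra, IsLocalization.Away.lift_eq]
  haveI : IsScalarTower R Γ(C, W) (Localization.AtPrime q) :=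
    IsScalarTower.of_algebraMap_eq fun r => by
      rw [IsScalarTower.algebraMap_apply R Γ(C, V) Γ(C, W), ← IsScalarTower.algebraMap_apply Γ(C, V) Γ(C, W),
        ← IsScalarTower.algebraMap_apply R Γ(C, V)]
  haveI := IsLocalization.isLocalization_of_submonoid_le Γ(C, W) (Localization.AtPrime q)
    (Submonoid.powers s) (q.comap (algebraMap Γ(C, V) (C.presheaf.stalk c))).primeCompl
    (Submonoid.powers_le.2 hs)
  haveI : Algebra.FormallySmooth Γ(C, W) (Localization.AtPrime q) :=
    Algebra.FormallySmooth.of_isLocalization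
      ((q.comap (algebraMap Γ(C, V) (C.presheaf.stalk c))).primeCompl.map (algebraMap Γ(C, V) Γ(C, W)))
  exact Algebra.FormallySmooth.comp R Γ(C, W) (Localization.AtPrime q)

end Groth.Agent.S17729
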