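import Groth.Statements.S17730
import Groth.Agent.Lib.GeomUnib.Prime

set_option autoImplicit false
set_option backward.isDefEq.respectTransparency false
universe u
open Hensel

namespace Groth.Agent.S17730

open IsLocalRing in
/-- Let R be a Noetherian local ring which is strictly henselian (henselian with separably closed
residue field), Δ a prime element of R, R' a smooth R-algebra, q a prime ideal of R' containing the
image of the maximal ideal of R, and T a strict henselization of the localization R'_q. Then the
image of Δ in T is a prime element of T. (This is the published statement, that a prime element of
the étale local ring of the base at a geometric point remains prime in the étale local ring of a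
smooth scheme over it at a geometric point above, written for the base the spectrum of R; the
published hypothesis that the base be smooth-factorial, meaning that all its smooth schemes are
locally factorial, is not used by the argument and is omitted; R is taken Noetherian, which the
published statement does not state and the argument requires.) -/
theorem result
    (R R' T : Type u) [CommRing R] [IsNoetherianRing R] [HenselianLocalRing R]
    [IsSepClosed (ResidueField R)]
    [CommRing R'] [Algebra R R'] [Algebra.Smooth R R']
    (q : Ideal R') [q.IsPrime] (hq : (maximalIdeal R).map (algebraMap R R') ≤ q)
    [CommRing T] [IsLocalRing T] [Algebra (Localization.AtPrime q) T]
    [IsLocalHom (algebraMap (Localization.AtPrime q) T)]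
    [Hensel.IsStrictHenselization (Localization.AtPrime q) T]
    (Δ : R) (hΔ : Prime Δ) :
    Prime (algebraMap (Localization.AtPrime q) T
      (algebraMap R' (Localization.AtPrime q) (algebraMap R R' Δ))) := GrothLib.GeomUnib.prime_map_strictHenselization_of_smooth q hq Δ hΔ

end Groth.Agent.S17730
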