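import Groth.Statements.S17732
import Mathlib
import Groth.Agent.Lib.CartierDescent.Conditions

set_option autoImplicit false
universe u
open CDiv

namespace Groth.Agent.S17732

open AlgebraicGeometry in
/-- Let X be a Noetherian scheme and D, E effective Cartier divisors on X, encoded by their ideal
sheaves, each locally generated on an affine open by a single non-zero-divisor. Assume that the
union of the supports of D and E is connected (or empty) and that every point of X has an affine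
open neighbourhood on which the m-th power of the ideal of D equals the n-th power of the ideal of E
for some (m, n) ≠ (0, 0). Then there is a pair (m, n) ≠ (0, 0) for which this equality holds on
every affine open of X, that is, m D = n E globally. -/
theorem result
    (X : Scheme.{u}) [IsNoetherian X] (D E : X.IdealSheafData)
    (hD : (∀ x : X, ∃ U : X.affineOpens, x ∈ (U : X.Opens) ∧ ∃ g : Γ(X, U), g ∈ nonZeroDivisors Γ(X, U) ∧ D.ideal U = Ideal.span {g}))
    (hE : (∀ x : X, ∃ U : X.affineOpens, x ∈ (U : X.Opens) ∧ ∃ g : Γ(X, U), g ∈ nonZeroDivisors Γ(X, U) ∧ E.ideal U = Ideal.span {g}))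
    (hconn : IsPreconnected ((D.support : Set X) ∪ (E.support : Set X)))
    (hloc : ∀ x : X, ∃ U : X.affineOpens, x ∈ (U : X.Opens) ∧
      ∃ m n : ℕ, (m, n) ≠ (0, 0) ∧ D.ideal U ^ m = E.ideal U ^ n) :
    ∃ m n : ℕ, (m, n) ≠ (0, 0) ∧ ∀ U : X.affineOpens, D.ideal U ^ m = E.ideal U ^ n := by
  open AlgebraicGeometry GrothLib.CartierDescent in
  classical
  choose U hxU m n hne heq using hloc
  let S : Set X := (D.support : Set X) ∪ (E.support : Set X)
  have hgen : ∀ (I : X.IdealSheafData), (∀ x : X, ∃ U : X.affineOpens, x ∈ (U : X.Opens) ∧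
      ∃ g : Γ(X, U), g ∈ nonZeroDivisors Γ(X, U) ∧ I.ideal U = Ideal.span {g}) → ∀ (y : X),
      ∃ d, d ∈ nonZeroDivisors (X.presheaf.stalk y) ∧ stalkIdeal I y = Ideal.span {d} := by
    intro I hI y
    obtain ⟨V, hy, g, hg, hIg⟩ := hI y
    let _ := TopCat.Presheaf.algebra_section_stalk X.presheaf (⟨y, hy⟩ : (V : X.Opens))
    haveI := V.2.isLocalization_stalk ⟨y, hy⟩
    refine ⟨algebraMap _ _ g, IsLocalization.map_nonZeroDivisors_le
      (V.2.primeIdealOf ⟨y, hy⟩).asIdeal.primeCompl (X.presheaf.stalk y) ⟨g, hg, rfl⟩, ?_⟩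
    rw [stalkIdeal_eq I V hy, hIg, Ideal.map_span, Set.image_singleton]
    rfl
  have hpow : ∀ (I : X.IdealSheafData), (∀ x : X, ∃ U : X.affineOpens, x ∈ (U : X.Opens) ∧
      ∃ g : Γ(X, U), g ∈ nonZeroDivisors Γ(X, U) ∧ I.ideal U = Ideal.span {g}) → ∀ (y : X), y ∈ I.support →
      ∀ a b : ℕ, a < b → stalkIdeal I y ^ a ≠ stalkIdeal I y ^ b := by
    intro I hI y hy a b hab h
    obtain ⟨d, hd, hId⟩ := hgen I hI y
    have hnu : ¬ IsUnit d := fun hu => (stalkIdeal_eq_top_iff I y).1 (hId.trans (Ideal.span_singleton_eq_top.2 hu)) hy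
    rw [hId, Ideal.span_singleton_pow, Ideal.span_singleton_pow] at h
    obtain ⟨r, hr⟩ := Ideal.mem_span_singleton'.1 (h.le (Ideal.mem_span_singleton_self (d ^ a)))
    obtain ⟨c, rfl⟩ := Nat.exists_eq_add_of_lt hab
    refine hnu (IsUnit.of_mul_eq_one (r * d ^ c) ?_)
    refine (mem_nonZeroDivisors_iff_right.1 (pow_mem hd a) _ ?_ : d * (r * d ^ c) - 1 = 0) |> sub_eq_zero.1
    calc (d * (r * d ^ c) - 1) * d ^ a = r * d ^ (a + c + 1) - d ^ a := by ring
      _ = 0 := sub_eq_zero.2 hr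
  have hrel : ∀ x y, y ∈ (U x : X.Opens) → stalkIdeal D y ^ m x = stalkIdeal E y ^ n x := by
    intro x y hy
    rw [stalkIdeal_eq D (U x) hy, stalkIdeal_eq E (U x) hy, ← Ideal.map_pow, ← Ideal.map_pow, heq x]
  have hcross : ∀ y ∈ S, ∀ a b c d : ℕ, stalkIdeal D y ^ a = stalkIdeal E y ^ b →
      stalkIdeal D y ^ c = stalkIdeal E y ^ d → a * d = b * c := by
    intro y hy a b c d h1 h2
    by_cases hyD : y ∈ D.support
    · have h3 : stalkIdeal D y ^ (a * d) = stalkIdeal D y ^ (b * c) := by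
        rw [pow_mul, h1, ← pow_mul, mul_comm b c, pow_mul (stalkIdeal D y), h2, ← pow_mul, mul_comm]
      rcases lt_trichotomy (a * d) (b * c) with h | h | h
      · exact absurd h3 (hpow D hD y hyD _ _ h)
      · exact h
      · exact absurd h3.symm (hpow D hD y hyD _ _ h)
    · have hyE : y ∈ E.support := hy.resolve_left hyD
      rw [(stalkIdeal_eq_top_iff D y).2 hyD, ← Ideal.one_eq_top, one_pow] at h1 h2
      have h0 : ∀ b : ℕ, 1 = stalkIdeal E y ^ b → b = 0 := fun b hb => by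
        by_contra hb0
        exact hpow E hE y hyE 0 b (Nat.pos_of_ne_zero hb0) (by rw [pow_zero]; exact hb)
      rw [h0 b h1, h0 d h2, mul_zero, zero_mul]
  have hempty : ∀ (x : X), (∀ y, y ∈ (U x : X.Opens) → y ∉ S) → D.ideal (U x) = ⊤ ∧ E.ideal (U x) = ⊤ := by
    intro x hx
    have key : ∀ (I : X.IdealSheafData), (∀ y, y ∈ (U x : X.Opens) → y ∉ I.support) → I.ideal (U x) = ⊤ := by
      intro I hI
      by_contra hne'
      obtain ⟨P, hP, hle⟩ := Ideal.exists_le_maximal _ hne'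
      obtain ⟨y, hy, hyP⟩ := exists_primeIdealOf_eq (U x).2 P
      refine hI y hy ?_
      by_contra hns
      have htop := (stalkIdeal_eq_top_iff I y).2 hns
      rw [stalkIdeal_eq I (U x) hy] at htop
      let _ := TopCat.Presheaf.algebra_section_stalk X.presheaf (⟨y, hy⟩ : (U x : X.Opens))
      haveI := (U x).2.isLocalization_stalk ⟨y, hy⟩
      obtain ⟨b, hb, hbP⟩ := Set.not_disjoint_iff.1 ((IsLocalization.map_algebraMap_ne_top_iff_disjoint
        ((U x).2.primeIdealOf ⟨y, hy⟩).asIdeal.primeCompl (X.presheaf.stalk y) (I.ideal (U x))).not.1 (not_not.2 htop))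
      exact hb (hyP.ge (hle hbP))
    exact ⟨key D fun y hy h => hx y hy (Or.inl h), key E fun y hy h => hx y hy (Or.inr h)⟩
  obtain ⟨m₀, n₀, h₀, hall⟩ : ∃ m₀ n₀ : ℕ, 0 < m₀ + n₀ ∧
      ∀ x, (∃ y, y ∈ (U x : X.Opens) ∧ y ∈ S) → m₀ * n x = n₀ * m x := by
    rcases Set.eq_empty_or_nonempty S with hS | ⟨x₀, hx₀⟩
    · exact ⟨1, 0, one_pos, fun x ⟨y, _, hy⟩ => absurd hy (hS ▸ Set.notMem_empty y)⟩
    have hpos : ∀ x, 0 < m x + n x := fun x => by
      rcases Nat.eq_zero_or_pos (m x + n x) with h | h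
      · exact absurd (Prod.ext (by omega) (by omega) : (m x, n x) = (0, 0)) (hne x)
      · exact h
    have htrans : ∀ a b c d e f : ℕ, 0 < c + d → a * d = b * c → c * f = d * e → a * f = b * e := by
      intro a b c d e f hcd h1 h2
      rcases Nat.eq_zero_or_pos c with rfl | hc
      · have hd : 0 < d := by omega
        rw [zero_mul] at h2
        rw [mul_zero] at h1
        rw [(Nat.mul_eq_zero.1 h1).resolve_right hd.ne', (Nat.mul_eq_zero.1 h2.symm).resolve_left hd.ne', zero_mul, mul_zero]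
      · refine Nat.eq_of_mul_eq_mul_left hc ?_
        calc c * (a * f) = a * (c * f) := by ring
          _ = a * (d * e) := by rw [h2]
          _ = (a * d) * e := by ring
          _ = (b * c) * e := by rw [h1]
          _ = c * (b * e) := by ring
    refine ⟨m x₀, n x₀, hpos x₀, fun x ⟨y, hy, hyS⟩ => ?_⟩
    suffices hQ : m x₀ * n y = n x₀ * m y from
      htrans _ _ _ _ _ _ (hpos y) hQ (hcross y hyS _ _ _ _ (hrel y y (hxU y)) (hrel x y hy))
    by_contra hnQ
    let u : Set X := ⋃ z ∈ {z | z ∈ S ∧ m x₀ * n z = n x₀ * m z}, ((U z : X.Opens) : Set X)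
    let v : Set X := ⋃ z ∈ {z | z ∈ S ∧ m x₀ * n z ≠ n x₀ * m z}, ((U z : X.Opens) : Set X)
    obtain ⟨w, hw, hwu, hwv⟩ := hconn u v (isOpen_biUnion fun z _ => (U z).1.2) (isOpen_biUnion fun z _ => (U z).1.2)
      (fun z hz => by
        by_cases h : m x₀ * n z = n x₀ * m z
        · exact Or.inl (Set.mem_biUnion (show z ∈ {z | z ∈ S ∧ _} from ⟨hz, h⟩) (hxU z))
        · exact Or.inr (Set.mem_biUnion (show z ∈ {z | z ∈ S ∧ _} from ⟨hz, h⟩) (hxU z)))
      ⟨x₀, hx₀, Set.mem_biUnion (show x₀ ∈ {z | z ∈ S ∧ _} from ⟨hx₀, mul_comm _ _⟩) (hxU x₀)⟩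
      ⟨y, hyS, Set.mem_biUnion (show y ∈ {z | z ∈ S ∧ _} from ⟨hyS, hnQ⟩) (hxU y)⟩
    simp only [u, v, Set.mem_iUnion] at hwu hwv
    obtain ⟨z₁, ⟨hz₁, hQ₁⟩, hw₁⟩ := hwu
    obtain ⟨z₂, ⟨hz₂, hQ₂⟩, hw₂⟩ := hwv
    exact hQ₂ (htrans _ _ _ _ _ _ (hpos z₁) hQ₁ (hcross w hw _ _ _ _ (hrel z₁ w hw₁) (hrel z₂ w hw₂)))
  have hpos : ∀ x, 0 < m x + n x := fun x => by
    rcases Nat.eq_zero_or_pos (m x + n x) with h | h
    · exact absurd (Prod.ext (by omega) (by omega) : (m x, n x) = (0, 0)) (hne x)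
    · exact h
  obtain ⟨t, ht⟩ := isCompact_univ.elim_finite_subcover (fun x => ((U x : X.Opens) : Set X))
    (fun x => (U x).1.2) (fun x _ => Set.mem_iUnion.2 ⟨x, hxU x⟩)
  let K := ∏ x ∈ t, (m x + n x)
  have hK : 0 < K := Finset.prod_pos fun x _ => hpos x
  refine ⟨m₀ * K, n₀ * K, fun h => ?_, fun V => ?_⟩
  · have h1 : m₀ * K = 0 := congrArg Prod.fst h
    have h2 : n₀ * K = 0 := congrArg Prod.snd h
    rcases Nat.mul_eq_zero.1 h1 with h1 | h1 <;> rcases Nat.mul_eq_zero.1 h2 with h2 | h2 <;> omega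
  suffices h : D ^ (m₀ * K) = E ^ (n₀ * K) by
    simpa using congrArg (fun I : X.IdealSheafData => I.ideal V) h
  refine Scheme.IdealSheafData.ext_of_iSup_eq_top (fun x : t => U x.1) ?_ fun x => ?_
  · refine top_le_iff.1 fun z _ => ?_
    obtain ⟨x, hx, hz⟩ := Set.mem_iUnion₂.1 (ht (Set.mem_univ z))
    exact TopologicalSpace.Opens.mem_iSup.2 ⟨⟨x, hx⟩, hz⟩
  obtain ⟨x, hxt⟩ := x
  change D.ideal (U x) ^ (m₀ * K) = E.ideal (U x) ^ (n₀ * K)
  by_cases hx : ∃ y, y ∈ (U x : X.Opens) ∧ y ∈ S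
  · have hc := hall x hx
    obtain ⟨c, hc'⟩ := Finset.dvd_prod_of_mem (fun x => m x + n x) hxt
    have e1 : m₀ * K = m x * ((m₀ + n₀) * c) := by
      change m₀ * (∏ x ∈ t, (m x + n x)) = _
      rw [hc']
      calc m₀ * ((m x + n x) * c) = (m₀ * m x + m₀ * n x) * c := by ring
        _ = (m₀ * m x + n₀ * m x) * c := by rw [hc]
        _ = m x * ((m₀ + n₀) * c) := by ring
    have e2 : n₀ * K = n x * ((m₀ + n₀) * c) := by
      change n₀ * (∏ x ∈ t, (m x + n x)) = _
      rw [hc']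
      calc n₀ * ((m x + n x) * c) = (n₀ * m x + n₀ * n x) * c := by ring
        _ = (m₀ * n x + n₀ * n x) * c := by rw [hc]
        _ = n x * ((m₀ + n₀) * c) := by ring
    rw [e1, e2, pow_mul, heq x, ← pow_mul]
  · push Not at hx
    obtain ⟨h1, h2⟩ := hempty x hx
    rw [h1, h2, ← Ideal.one_eq_top, one_pow, one_pow]

end Groth.Agent.S17732
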