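import Groth.Statements.S17734
-- import your own Groth.Agent.* helpers here
import Groth.Agent.Lib.EtDescent21.StalkLimit
import Groth.Agent.Lib.AmpSpread10.Descend
import Groth.Agent.Lib.Ample.Functorial

set_option autoImplicit false
universe u
open PicF

set_option backward.isDefEq.respectTransparency false
set_option linter.style.haveILetI false

noncomputable section

open CategoryTheory CategoryTheory.Limits AlgebraicGeometry

open GrothLib.EtDescent21 in
/-- The base changes to the affine neighbourhoods of a point. -/
def bcDiag {X S : Scheme.{u}} (f : X ⟶ S) (s : S) : AffNhd s ⥤ Scheme.{u} where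
  obj W := pullback f W.1.ι
  map φ := pullback.map _ _ _ _ (𝟙 X) ((nhdDiag s).map φ) (𝟙 S) (by simp) (by simp [nhdDiag_map_ι])
  map_id W := by apply pullback.hom_ext <;> simp [pullback.map, nhdDiag]
  map_comp φ ψ := by apply pullback.hom_ext <;> simp [pullback.map, nhdDiag]

open GrothLib.EtDescent21 in
/-- The cone from the base change to the local scheme. -/
def bcCone {X S : Scheme.{u}} (f : X ⟶ S) (s : S) : Cone (bcDiag f s) where
  pt := pullback f (S.fromSpecStalk s)
  π :=
    { app := fun W => pullback.map _ _ _ _ (𝟙 X) ((nhdCone s).π.app W) (𝟙 S) (by simp) (by simp [nhdCone_ι])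
      naturality := fun V W φ => by
        refine (Category.id_comp _).trans ?_
        apply pullback.hom_ext
        · simp [bcDiag, pullback.map]
        · simp [bcDiag, pullback.map] }

open GrothLib.EtDescent21 in
/-- The base change to the local scheme is the limit. -/
def isLimitBcCone {X S : Scheme.{u}} (f : X ⟶ S) (s : S) : IsLimit (bcCone f s) := by
  haveI : IsConnected (AffNhd s) := IsCofiltered.isConnected _
  have hconst : ∀ (c : Cone (bcDiag f s)) (j k : AffNhd s),
      c.π.app j ≫ pullback.fst _ _ = c.π.app k ≫ pullback.fst _ _ := fun c j k => by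
    refine constant_of_preserves_morphisms (fun j => c.π.app j ≫ pullback.fst f j.1.ι) (fun V W φ => ?_) j k
    rw [← c.w φ]
    simp [bcDiag, pullback.map]
  let sN : ∀ c : Cone (bcDiag f s), Cone (nhdDiag s) := fun c =>
    { pt := c.pt
      π :=
        { app := fun W => c.π.app W ≫ pullback.snd f W.1.ι
          naturality := fun V W φ => by
            refine (Category.id_comp _).trans ?_
            rw [← c.w φ]
            simp [bcDiag, pullback.map] } }
  let W₀ : AffNhd s := Classical.arbitrary _
  have hm : ∀ c : Cone (bcDiag f s), (c.π.app W₀ ≫ pullback.fst _ _) ≫ f =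
      (isLimitNhdCone s).lift (sN c) ≫ S.fromSpecStalk s := fun c => by
    rw [← nhdCone_ι W₀, ← Category.assoc, (isLimitNhdCone s).fac, Category.assoc, pullback.condition]
    simp [sN]
  refine { lift := fun c => pullback.lift _ _ (hm c), fac := fun c W => ?_, uniq := fun c m h => ?_ }
  · apply pullback.hom_ext
    · rw [hconst c W W₀]
      simp [bcCone, pullback.map]
    · have := (isLimitNhdCone s).fac (sN c) W
      simp [bcCone, pullback.map]
      rfl
  · apply pullback.hom_ext
    · rw [pullback.lift_fst, ← h W₀]
      simp [bcCone, pullback.map]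
    · rw [pullback.lift_snd]
      refine (isLimitNhdCone s).hom_ext fun W => ?_
      rw [(isLimitNhdCone s).fac]
      change _ = c.π.app W ≫ pullback.snd f W.1.ι
      rw [← h W]
      simp [bcCone, pullback.map]

open GrothLib.EtDescent21 in
theorem isAffineHom_bcDiag {X S : Scheme.{u}} (f : X ⟶ S) (s : S) {V W : AffNhd s} (φ : V ⟶ W) :
    IsAffineHom ((bcDiag f s).map φ) := by
  have h : IsPullback ((bcDiag f s).map φ) (pullback.snd f V.1.ι) (pullback.snd f W.1.ι) ((nhdDiag s).map φ) := by
    refine IsPullback.of_right ?_ (by simp [bcDiag, pullback.map]) (IsPullback.of_hasPullback f W.1.ι)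
    rw [show (bcDiag f s).map φ ≫ pullback.fst f W.1.ι = pullback.fst f V.1.ι by simp [bcDiag, pullback.map],
      nhdDiag_map_ι]
    exact IsPullback.of_hasPullback f V.1.ι
  exact MorphismProperty.of_isPullback (P := @IsAffineHom) h.flip (inferInstance : IsAffineHom ((nhdDiag s).map φ))
namespace Groth.Agent.S17734

open CategoryTheory AlgebraicGeometry Limits in
/-- Let f : X → S be a proper morphism of finite presentation, s a point of S, and L an invertible
module on the base change X^s of X to the spectrum of the local ring of S at s. Then there are an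
open neighbourhood V of s in S and an invertible module L' on the open subscheme f⁻¹(V) = X ×_S V
such that the pullback of L' along the canonical morphism X^s → f⁻¹(V) (the unique one compatible
with the projection X^s → X) is isomorphic to L. -/
theorem result
    {X S : Scheme.{u}} (f : X ⟶ S) [IsProper f] [LocallyOfFinitePresentation f] (s : S)
    (L : (pullback f (S.fromSpecStalk s)).Modules) (hL : PicF.IsInvertible L) :
    ∃ (V : S.Opens) (_ : s ∈ V) (L' : (↑(f ⁻¹ᵁ V) : Scheme.{u}).Modules), PicF.IsInvertible L' ∧
      ∀ (ι : pullback f (S.fromSpecStalk s) ⟶ ↑(f ⁻¹ᵁ V)),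
        ι ≫ (f ⁻¹ᵁ V).ι = pullback.fst f (S.fromSpecStalk s) →
        Nonempty ((Scheme.Modules.pullback ι).obj L' ≅ L) := by
  haveI : ∀ (i j : GrothLib.EtDescent21.AffNhd s) (φ : i ⟶ j), IsAffineHom ((bcDiag f s).map φ) :=
    fun i j φ => isAffineHom_bcDiag f s φ
  haveI : ∀ i, CompactSpace ((bcDiag f s).obj i) := fun i => by
    haveI : IsAffine (i.1 : Scheme.{u}) := i.2.1
    exact QuasiCompact.compactSpace_of_compactSpace (pullback.snd f i.1.ι)
  haveI : ∀ i, QuasiSeparatedSpace ((bcDiag f s).obj i) := fun i => by
    haveI : IsAffine (i.1 : Scheme.{u}) := i.2.1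
    exact quasiSeparatedSpace_of_quasiSeparated (pullback.snd f i.1.ι)
  obtain ⟨W, L₀, hL₀, ⟨θ⟩⟩ := GrothLib.AmpSpread10.exists_stage_invertible (isLimitBcCone f s) hL
  refine ⟨W.1, W.2.2, (Scheme.Modules.pullback (pullbackRestrictIsoRestrict f W.1).inv).obj L₀,
    GrothLib.Ample.isInvertible_pullback _ hL₀, fun ι hι => ⟨?_⟩⟩
  have e : ι ≫ (pullbackRestrictIsoRestrict f W.1).inv = (bcCone f s).π.app W := by
    rw [Iso.comp_inv_eq, ← cancel_mono (f ⁻¹ᵁ W.1).ι, hι, Category.assoc, pullbackRestrictIsoRestrict_hom_ι]
    simp [bcCone, pullback.map]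
  exact (Scheme.Modules.pullbackComp ι (pullbackRestrictIsoRestrict f W.1).inv).app L₀ ≪≫
    (Scheme.Modules.pullbackCongr e).app L₀ ≪≫ θ

end Groth.Agent.S17734
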