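import Groth.Statements.S17735
import Groth.Agent.Lib.NodeLaurent.PolyNode
-- import your own Groth.Agent.* helpers here

set_option autoImplicit false
universe u
open CAlg

namespace Groth.Agent.S17735

open IsLocalRing in
/-- Let R be a regular local ring complete for its maximal ideal, r a non-zero element of R, A the
quotient of the power series ring in x, y over R by xy − r, B the quotient of the polynomial ring in
x, y over R by xy − r, ι : B → A the natural map, P the ideal of B generated by x, y and the maximal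
ideal of R, à the localization of B at P and φ : à → A the map extending ι. Call a prime of height
one of A (or of Ã) fibral when it contains a non-zero element of R. Then contraction along φ is a
bijection from the set of fibral height-one primes of A onto the set of fibral height-one primes of
Ã; equivalently it induces an isomorphism between the free abelian groups of fibral Weil divisors. -/
theorem result
    (R : Type u) [CommRing R] [IsRegularLocalRing R]
    [IsAdicComplete (maximalIdeal R) R]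
    (r : R) (hr : r ≠ 0)
    (ι : (MvPolynomial (Fin 2) R ⧸ Ideal.span {(MvPolynomial.X 0 * MvPolynomial.X 1 - MvPolynomial.C r : MvPolynomial (Fin 2) R)}) →+*
      (MvPowerSeries (Fin 2) R ⧸ Ideal.span {(MvPowerSeries.X 0 * MvPowerSeries.X 1 - MvPowerSeries.C r : MvPowerSeries (Fin 2) R)}))
    (hι : ι.comp (Ideal.Quotient.mk _) =
      (Ideal.Quotient.mk _).comp (MvPolynomial.coeToMvPowerSeries.ringHom : MvPolynomial (Fin 2) R →+* MvPowerSeries (Fin 2) R))
    (P : Ideal (MvPolynomial (Fin 2) R ⧸ Ideal.span {(MvPolynomial.X 0 * MvPolynomial.X 1 - MvPolynomial.C r : MvPolynomial (Fin 2) R)})) [P.IsPrime]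
    (hP : P = Ideal.span {Ideal.Quotient.mk _ (MvPolynomial.X 0), Ideal.Quotient.mk _ (MvPolynomial.X 1)} ⊔
      (maximalIdeal R).map (algebraMap R _))
    (φ : Localization.AtPrime P →+* (MvPowerSeries (Fin 2) R ⧸ Ideal.span {(MvPowerSeries.X 0 * MvPowerSeries.X 1 - MvPowerSeries.C r : MvPowerSeries (Fin 2) R)}))
    (hφ : φ.comp (algebraMap _ (Localization.AtPrime P)) = ι) :
    Set.BijOn (fun 𝔓 => Ideal.comap φ 𝔓)
      {𝔓 | 𝔓.IsPrime ∧ 𝔓.height = 1 ∧ Ideal.comap (algebraMap R _) 𝔓 ≠ ⊥}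
      {𝔮 : Ideal (Localization.AtPrime P) | 𝔮.IsPrime ∧ @Ideal.height (Localization.AtPrime P) _ 𝔮 = 1 ∧ Ideal.comap (algebraMap R (Localization.AtPrime P)) 𝔮 ≠ ⊥} := by
  classical
  haveI : IsDomain R := GrothLib.CMFree.isDomain_of_isRegularLocalRing R
  haveI : UniqueFactorizationMonoid R := GrothLib.RegUFD.ufd_of_isRegularLocalRing R
  have hrm : r ∈ maximalIdeal R := by
    by_contra h
    have hu : IsUnit (algebraMap R (SpinCurv.PolyNodeRing R r) r) :=
      (IsLocalRing.notMem_maximalIdeal.1 h).map _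
    rw [← GrothLib.NodeLaurent.poly_x_mul_y] at hu
    refine (‹P.IsPrime›).ne_top (Ideal.eq_top_of_isUnit_mem _ ?_ hu)
    rw [hP]
    exact Ideal.mem_sup_left (Ideal.mul_mem_right _ _ (Ideal.subset_span (Set.mem_insert _ _)))
  haveI : IsDomain (SpinCurv.NodeRing R r) := GrothLib.NodeLaurent.isDomain hrm hr
  haveI : IsDomain (SpinCurv.PolyNodeRing R r) := (GrothLib.NodeLaurent.hom_injective ι hι hrm).isDomain ι
  haveI : IsDomain (Localization.AtPrime P) := IsLocalization.isDomain_localization P.primeCompl_le_nonZeroDivisors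
  haveI : IsNoetherianRing (SpinCurv.NodeRing R r) := inferInstance
  haveI : IsNoetherianRing (Localization.AtPrime P) := IsLocalization.isNoetherianRing P.primeCompl _ inferInstance
  have hφb : ∀ b : SpinCurv.PolyNodeRing R r, φ (algebraMap _ (Localization.AtPrime P) b) = ι b :=
    fun b => DFunLike.congr_fun hφ b
  have hφR : ∀ t : R, φ (algebraMap R (Localization.AtPrime P) t) = algebraMap R (SpinCurv.NodeRing R r) t := fun t => by
    rw [IsScalarTower.algebraMap_apply R (SpinCurv.PolyNodeRing R r) (Localization.AtPrime P), hφb,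
      GrothLib.NodeLaurent.hom_algebraMap ι hι]
  let Cand : R → Ideal (SpinCurv.NodeRing R r) → Prop := fun π J =>
    (¬ π ∣ r ∧ J = Ideal.span {algebraMap R _ π}) ∨
    (π ∣ r ∧ (J = Ideal.span {algebraMap R _ π, SpinCurv.NodeRing.x R r} ∨
      J = Ideal.span {algebraMap R _ π, SpinCurv.NodeRing.y R r}))
  have hCprime : ∀ π, Prime π → ∀ J, Cand π J → J.IsPrime := by
    rintro π hπ J (⟨hπr, rfl⟩ | ⟨hπr, rfl | rfl⟩)
    · exact GrothLib.NodeLaurent.isPrime_span hrm hπ hπr
    all_goals haveI : (Ideal.span {π}).IsPrime := (Ideal.span_singleton_prime hπ.ne_zero).2 hπ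
    · rw [← GrothLib.NodeLaurent.ker_branchY hrm hπr]; exact RingHom.ker_isPrime _
    · rw [← GrothLib.NodeLaurent.ker_branchX hrm hπr]; exact RingHom.ker_isPrime _
  have hCmem : ∀ π, ∀ J, Cand π J → algebraMap R _ π ∈ J := by
    rintro π J (⟨-, rfl⟩ | ⟨-, rfl | rfl⟩)
    · exact Ideal.mem_span_singleton_self _
    all_goals exact Ideal.subset_span (Set.mem_insert _ _)
  have hA : ∀ π, ∀ Q : Ideal (SpinCurv.NodeRing R r), Q.IsPrime → algebraMap R _ π ∈ Q →
      ∃ J, Cand π J ∧ J ≤ Q := by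
    intro π Q hQ hmem
    by_cases hπr : π ∣ r
    · have hxy : SpinCurv.NodeRing.x R r * SpinCurv.NodeRing.y R r ∈ Q := by
        rw [GrothLib.NodeLaurent.x_mul_y]
        obtain ⟨c, hc⟩ := hπr
        rw [congrArg (algebraMap R (SpinCurv.NodeRing R r)) hc, map_mul]
        exact Q.mul_mem_right _ hmem
      rcases hQ.mem_or_mem hxy with h | h
      · exact ⟨_, Or.inr ⟨hπr, Or.inl rfl⟩, Ideal.span_le.2 (Set.insert_subset hmem (Set.singleton_subset_iff.2 h))⟩
      · exact ⟨_, Or.inr ⟨hπr, Or.inr rfl⟩, Ideal.span_le.2 (Set.insert_subset hmem (Set.singleton_subset_iff.2 h))⟩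
    · exact ⟨_, Or.inl ⟨hπr, rfl⟩, (Ideal.span_singleton_le_iff_mem Q).2 hmem⟩
  have hcomap : ∀ J : Ideal (SpinCurv.NodeRing R r),
      J.comap φ = (J.comap ι).map (algebraMap _ (Localization.AtPrime P)) := fun J => by
    conv_lhs => rw [← IsLocalization.map_under P.primeCompl (Localization.AtPrime P) (J.comap φ)]
    rw [Ideal.under_def, Ideal.comap_comap, hφ]
  have hL : ∀ π, Prime π → ∀ q : Ideal (Localization.AtPrime P), q.IsPrime → algebraMap R _ π ∈ q →
      ∃ J, Cand π J ∧ J.comap φ ≤ q := by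
    intro π hπ q hq hmem
    have hmem' : algebraMap R (SpinCurv.PolyNodeRing R r) π ∈ q.comap (algebraMap _ (Localization.AtPrime P)) := by
      rw [Ideal.mem_comap, ← IsScalarTower.algebraMap_apply]; exact hmem
    by_cases hπr : π ∣ r
    · haveI := hq.comap (algebraMap (SpinCurv.PolyNodeRing R r) (Localization.AtPrime P))
      have hxy : SpinCurv.PolyNodeRing.x R r * SpinCurv.PolyNodeRing.y R r ∈
          q.comap (algebraMap _ (Localization.AtPrime P)) := by
        rw [GrothLib.NodeLaurent.poly_x_mul_y]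
        obtain ⟨c, hc⟩ := hπr
        rw [congrArg (algebraMap R (SpinCurv.PolyNodeRing R r)) hc, map_mul]
        exact Ideal.mul_mem_right _ _ hmem'
      rcases this.mem_or_mem hxy with h | h
      · refine ⟨_, Or.inr ⟨hπr, Or.inl rfl⟩, ?_⟩
        rw [hcomap, Ideal.map_le_iff_le_comap]
        exact (GrothLib.NodeLaurent.comap_spanX_le hrm hπr ι hι).trans
          (Ideal.span_le.2 (Set.insert_subset hmem' (Set.singleton_subset_iff.2 h)))
      · refine ⟨_, Or.inr ⟨hπr, Or.inr rfl⟩, ?_⟩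
        rw [hcomap, Ideal.map_le_iff_le_comap]
        exact (GrothLib.NodeLaurent.comap_spanY_le hrm hπr ι hι).trans
          (Ideal.span_le.2 (Set.insert_subset hmem' (Set.singleton_subset_iff.2 h)))
    · refine ⟨_, Or.inl ⟨hπr, rfl⟩, ?_⟩
      rw [hcomap, Ideal.map_le_iff_le_comap]
      exact (GrothLib.NodeLaurent.comap_span_le ι hι hrm hπ hπr).trans
        ((Ideal.span_singleton_le_iff_mem _).2 hmem')
  have hinc : ∀ π, Prime π → ∀ J₁ J₂, Cand π J₁ → Cand π J₂ → J₁.comap φ ≤ J₂.comap φ → J₁ = J₂ := by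
    intro π hπ J₁ J₂ h₁ h₂ hle
    haveI : (Ideal.span {π}).IsPrime := (Ideal.span_singleton_prime hπ.ne_zero).2 hπ
    have hlx : algebraMap _ (Localization.AtPrime P) (SpinCurv.PolyNodeRing.x R r) ∈ J₁.comap φ →
        SpinCurv.NodeRing.x R r ∈ J₂ := fun h => by
      have := hle h
      rwa [Ideal.mem_comap, hφb, GrothLib.NodeLaurent.hom_x ι hι] at this
    have hly : algebraMap _ (Localization.AtPrime P) (SpinCurv.PolyNodeRing.y R r) ∈ J₁.comap φ →
        SpinCurv.NodeRing.y R r ∈ J₂ := fun h => by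
      have := hle h
      rwa [Ideal.mem_comap, hφb, GrothLib.NodeLaurent.hom_y ι hι] at this
    rcases h₁ with ⟨hπr, rfl⟩ | ⟨hπr, h₁⟩
    · rcases h₂ with ⟨-, rfl⟩ | ⟨h, -⟩
      · rfl
      · exact absurd h hπr
    rcases h₂ with ⟨h, -⟩ | ⟨-, h₂⟩
    · exact absurd hπr h
    rcases h₁ with rfl | rfl <;> rcases h₂ with rfl | rfl
    · rfl
    · have h := hlx (by
        rw [Ideal.mem_comap, hφb, GrothLib.NodeLaurent.hom_x ι hι]
        exact Ideal.subset_span (Set.mem_insert_of_mem _ rfl))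
      rw [← GrothLib.NodeLaurent.ker_branchX hrm hπr, RingHom.mem_ker, GrothLib.NodeLaurent.branchX_x] at h
      exact absurd h PowerSeries.X_ne_zero
    · have h := hly (by
        rw [Ideal.mem_comap, hφb, GrothLib.NodeLaurent.hom_y ι hι]
        exact Ideal.subset_span (Set.mem_insert_of_mem _ rfl))
      rw [← GrothLib.NodeLaurent.ker_branchY hrm hπr, RingHom.mem_ker, GrothLib.NodeLaurent.branchY_y] at h
      exact absurd h PowerSeries.X_ne_zero
    · rfl
  have hne0 : ∀ π : R, π ≠ 0 → algebraMap R (SpinCurv.NodeRing R r) π ≠ 0 := fun π h0 h => h0 (by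
    have h1 := GrothLib.NodeLaurent.lc_algebraMap hrm π 0
    have h2 := GrothLib.NodeLaurent.lc_algebraMap hrm (0 : R) 0
    rw [map_zero] at h2
    rw [h, h2] at h1
    simpa using h1.symm)
  have hprime : ∀ {Z : Type u} [CommRing Z] [Algebra R Z] (𝔓 : Ideal Z), 𝔓.IsPrime →
      𝔓.comap (algebraMap R Z) ≠ ⊥ → ∃ π, Prime π ∧ algebraMap R Z π ∈ 𝔓 := fun 𝔓 h𝔓 h0 => by
    haveI := h𝔓
    obtain ⟨π, hπm, hπ⟩ := Ideal.IsPrime.exists_mem_prime_of_ne_bot
      (inferInstance : (𝔓.comap (algebraMap R _)).IsPrime) h0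
    exact ⟨π, hπ, hπm⟩
  have hnot : ∀ {Z : Type u} [CommRing Z] [IsDomain Z] (π₀ : Z), π₀ ≠ 0 → ∀ q : Ideal Z, q.IsPrime →
      π₀ ∈ q → 1 ≤ q.height := fun π₀ h0 q hq hmem => by
    haveI := hq
    rw [Order.one_le_iff_pos, pos_iff_ne_zero, ne_eq, Ideal.height_eq_zero_iff_eq_bot]
    rintro rfl
    exact h0 (Ideal.mem_bot.1 hmem)
  have hnotL : ∀ π : R, π ≠ 0 → ∀ q : Ideal (Localization.AtPrime P), q.IsPrime →
      algebraMap R (Localization.AtPrime P) π ∈ q → 1 ≤ @Ideal.height (Localization.AtPrime P) _ q := by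
    intro π hπ0 q hq hmem
    have h0 : algebraMap R (Localization.AtPrime P) π ≠ 0 := fun h =>
      hne0 π hπ0 (by rw [← hφR, h, map_zero])
    exact @hnot (Localization.AtPrime P) _ _ _ h0 q hq hmem
  have hcand : ∀ π, Prime π → ∀ (𝔓 : Ideal (SpinCurv.NodeRing R r)), 𝔓.IsPrime → 𝔓.height = 1 →
      algebraMap R _ π ∈ 𝔓 → Cand π 𝔓 := by
    intro π hπ 𝔓 h𝔓 hht hmem
    obtain ⟨J, hJ, hle⟩ := hA π 𝔓 h𝔓 hmem
    haveI := hCprime π hπ J hJ
    rcases eq_or_lt_of_le hle with rfl | hlt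
    · exact hJ
    · have h1 := hnot _ (hne0 π hπ.ne_zero) J inferInstance (hCmem π J hJ)
      have h2 := Ideal.height_strict_mono_of_isPrime hlt
      rw [hht] at h2
      exact absurd h2 (not_lt.2 h1)
  have hcandL : ∀ π, Prime π → ∀ (q : Ideal (Localization.AtPrime P)), q.IsPrime →
      @Ideal.height (Localization.AtPrime P) _ q = 1 →
      algebraMap R _ π ∈ q → ∃ J, Cand π J ∧ J.comap φ = q := by
    intro π hπ q hq hht hmem
    obtain ⟨J, hJ, hle⟩ := hL π hπ q hq hmem
    haveI : (J.comap φ).IsPrime :=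
      haveI := hCprime π hπ J hJ
      Ideal.comap_isPrime φ J
    have hmJ : algebraMap R (Localization.AtPrime P) π ∈ J.comap φ := by
      rw [Ideal.mem_comap, hφR]; exact hCmem π J hJ
    have h0 : algebraMap R (Localization.AtPrime P) π ≠ 0 := fun h =>
      hne0 π hπ.ne_zero (by rw [← hφR, h, map_zero])
    exact ⟨J, hJ, @GrothLib.NodeLaurent.eq_of_le_of_height_eq_one (Localization.AtPrime P) _ _ _ _ inferInstance hq
      (fun x hx => hle hx) hht _ h0 hmJ⟩
  refine ⟨fun 𝔓 h => ?_, fun 𝔓₁ h₁ 𝔓₂ h₂ heq => ?_, fun q h => ?_⟩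
  · obtain ⟨h𝔓, hht, h0⟩ := h
    obtain ⟨π, hπ, hmem⟩ := hprime 𝔓 h𝔓 h0
    have hC := hcand π hπ 𝔓 h𝔓 hht hmem
    haveI : (𝔓.comap φ).IsPrime := Ideal.comap_isPrime φ 𝔓
    have hmq : algebraMap R (Localization.AtPrime P) π ∈ 𝔓.comap φ := by
      rw [Ideal.mem_comap, hφR]; exact hmem
    refine ⟨inferInstance, le_antisymm ?_ (hnotL π hπ.ne_zero (𝔓.comap φ) inferInstance hmq), fun h => hπ.ne_zero ?_⟩
    · refine Ideal.height_le_one_of_isPrincipal_of_mem_minimalPrimes
        (Ideal.span {algebraMap R (Localization.AtPrime P) π}) _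
        ⟨⟨inferInstance, (Ideal.span_singleton_le_iff_mem _).2 hmq⟩, ?_⟩
      rintro q' ⟨hq', hπq'⟩ hle
      obtain ⟨J, hJ, hJle⟩ := hL π hπ q' hq' (hπq' (Ideal.mem_span_singleton_self _))
      exact (hinc π hπ J 𝔓 hJ hC (hJle.trans hle)).symm ▸ hJle
    · exact (Ideal.mem_bot (R := R)).1 (h ▸ (hmq : π ∈ (𝔓.comap φ).comap (algebraMap R _)))
  · obtain ⟨h𝔓₁, hht₁, h0₁⟩ := h₁
    obtain ⟨π, hπ, hmem₁⟩ := hprime 𝔓₁ h𝔓₁ h0₁
    have hmem₂ : algebraMap R _ π ∈ 𝔓₂ := by
      have : algebraMap R (Localization.AtPrime P) π ∈ 𝔓₁.comap φ := by rw [Ideal.mem_comap, hφR]; exact hmem₁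
      rw [show 𝔓₁.comap φ = 𝔓₂.comap φ from heq, Ideal.mem_comap, hφR] at this
      exact this
    exact hinc π hπ _ _ (hcand π hπ 𝔓₁ h𝔓₁ hht₁ hmem₁) (hcand π hπ 𝔓₂ h₂.1 h₂.2.1 hmem₂) (le_of_eq heq)
  · obtain ⟨hq, hht, h0⟩ := h
    obtain ⟨π, hπ, hmem⟩ := hprime (Z := Localization.AtPrime P) q hq h0
    obtain ⟨J, hJ, hJq⟩ := hcandL π hπ q hq hht hmem
    haveI := hCprime π hπ J hJ
    refine ⟨J, ⟨inferInstance, le_antisymm ?_ (hnot _ (hne0 π hπ.ne_zero) J inferInstance (hCmem π J hJ)),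
      fun h => hπ.ne_zero ((Ideal.mem_bot (R := R)).1 (h ▸ (hCmem π J hJ : π ∈ J.comap (algebraMap R _))))⟩, hJq⟩
    refine Ideal.height_le_one_of_isPrincipal_of_mem_minimalPrimes
      (Ideal.span {algebraMap R (SpinCurv.NodeRing R r) π}) _
      ⟨⟨inferInstance, (Ideal.span_singleton_le_iff_mem _).2 (hCmem π J hJ)⟩, ?_⟩
    rintro Q ⟨hQ, hπQ⟩ hle
    obtain ⟨J', hJ', hJ'le⟩ := hA π Q hQ (hπQ (Ideal.mem_span_singleton_self _))
    exact (hinc π hπ J' J hJ' hJ (Ideal.comap_mono (hJ'le.trans hle))).symm ▸ hJ'le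

end Groth.Agent.S17735
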