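import Groth.Statements.S17737
import Groth.Agent.Lib.ThickNode.Basic

set_option autoImplicit false
universe u
open DualGr

namespace Groth.Agent.S17737

open IsLocalRing in
/-- Let R be a Noetherian local ring, A a local ring with a ring map φ : R → A, and a, b two elements of
the maximal ideal of R such that A is formally a node over R both of thickness (a) and of thickness
(b): the completion of A is isomorphic, compatibly with R, to R̂[[x,y]]/(xy − a) and also to
R̂[[x,y]]/(xy − b). Then aR = bR. (This is the uniqueness assertion: the element in a node
presentation is not unique but the principal ideal it generates is; it is stated for presentations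
with the element taken in R, whose ideal in R is then determined.) -/
theorem result
    (R A : Type u) [CommRing R] [IsLocalRing R] [IsNoetherianRing R] [CommRing A] [IsLocalRing A]
    (φ : R →+* A) (a b : R) (ha : a ∈ maximalIdeal R) (hb : b ∈ maximalIdeal R)
    (h₁ : DualGr.IsThickNode φ a) (h₂ : DualGr.IsThickNode φ b) :
    Ideal.span {a} = Ideal.span {b} := by
  apply le_antisymm <;> rw [Ideal.span_singleton_le_iff_mem]
  · exact GrothLib.ThickNode.mem_span φ hb ha h₂ h₁
  · exact GrothLib.ThickNode.mem_span φ ha hb h₁ h₂

end Groth.Agent.S17737
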