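import Groth.Statements.S17738
import Groth.Agent.Lib.QsChow21.Irred
import Mathlib.AlgebraicGeometry.Properties

set_option autoImplicit false
universe u
open CategoryTheory AlgebraicGeometry
open QsChow

namespace Groth.Agent.S17738

open TensorProduct in
theorem isReduced_of_normal (X : Scheme.{u}) (hX : Pi1.IsNormalScheme X) : IsReduced X := by
  have : ∀ x : X, _root_.IsReduced (X.presheaf.stalk x) := fun x => by
    have := (hX x).1
    infer_instance
  exact isReduced_of_isReduced_stalk X

/-- Take a field k and an irreducible normal k-variety X (a separated scheme of finite type over k all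
of whose local rings are integrally closed domains) and let L be a finite Galois extension of k. If
the base change of X to L is not irreducible, then there is an intermediate field F of L over k,
different from k, such that the structure morphism of X factors through a k-morphism from X to Spec
F. -/
theorem result
    (k : Type u) [Field k] (X : Scheme.{u}) [X.Over (Spec (CommRingCat.of k))]
    [IrreducibleSpace X] (hX : Pi1.IsNormalScheme X)
    [IsSeparated (X ↘ Spec (CommRingCat.of k))] [LocallyOfFiniteType (X ↘ Spec (CommRingCat.of k))]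
    [QuasiCompact (X ↘ Spec (CommRingCat.of k))]
    (L : Type u) [Field L] [Algebra k L] [FiniteDimensional k L] [IsGalois k L]
    (hred : ¬ IrreducibleSpace ↥(Curv2.bc k X L)) :
    ∃ F : IntermediateField k L, F ≠ ⊥ ∧
      ∃ g : X ⟶ Spec (CommRingCat.of F),
        g ≫ Spec.map (CommRingCat.ofHom (algebraMap k F)) = X ↘ Spec (CommRingCat.of k) := by
  have := isReduced_of_normal X hX
  have : IsIntegral X := isIntegral_of_irreducibleSpace_of_isReduced X
  let η := genericPoint X
  let str := X ↘ Spec (CommRingCat.of k)
  let c : CommRingCat.of k ⟶ Γ(X, ⊤) := (Scheme.ΓSpecIso (CommRingCat.of k)).inv ≫ str.appTop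
  have hstr : X.toSpecΓ ≫ Spec.map c = str := by
    rw [Spec.map_comp, ← Scheme.toSpecΓ_naturality_assoc, toSpecΓ_SpecMap_ΓSpecIso_inv,
      Category.comp_id]
  let κ : Γ(X, ⊤) ⟶ X.functionField := X.presheaf.germ ⊤ η trivial
  have hκ : Function.Injective κ := germ_injective_of_isIntegral X η (U := ⊤) trivial
  let _ : Algebra k X.functionField := (c ≫ κ).hom.toAlgebra
  have hη : X.fromSpecStalk η ≫ str =
      Spec.map (CommRingCat.ofHom (algebraMap k X.functionField)) := by
    rw [← hstr, Scheme.fromSpecStalk_toSpecΓ_assoc, ← Spec.map_comp]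
    rfl
  let E := AlgebraicClosure X.functionField
  let f : L →ₐ[k] E := IsAlgClosed.lift
  let fB : X.functionField →ₐ[k] E := IsScalarTower.toAlgHom k X.functionField E
  let F := fB.fieldRange.comap f
  have hF : F ≠ ⊥ := by
    intro hbot
    have hfield : IsField (TensorProduct k X.functionField L) := GrothLib.QsChow21.isField_tensor f hbot
    let _ := hfield.toField
    apply hred
    let q := Limits.pullback.fst str (Spec.map (CommRingCat.ofHom (algebraMap k L)))
    have hsub : ∀ y y' : ↥(Curv2.bc k X L), q y = η → q y' = η → y = y' := by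
      let j := (Limits.pullback.congrHom hη rfl).hom ≫ (pullbackSpecIso k X.functionField L).hom
      have hss : Subsingleton ↥(Limits.pullback (X.fromSpecStalk η ≫ str)
          (Spec.map (CommRingCat.ofHom (algebraMap k L)))) :=
        (Scheme.homeoOfIso (asIso j)).injective.subsingleton
      let e := Limits.pullbackRightPullbackFstIso str (Spec.map (CommRingCat.ofHom (algebraMap k L)))
        (X.fromSpecStalk η)
      have hss' : Subsingleton ↥(Limits.pullback (X.fromSpecStalk η) q) :=
        (Scheme.homeoOfIso e).injective.subsingleton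
      have hcl : X.fromSpecStalk η (IsLocalRing.closedPoint _) = η := Scheme.fromSpecStalk_closedPoint
      intro y y' hy hy'
      obtain ⟨z, -, hz⟩ := Scheme.Pullback.exists_preimage_pullback
        (f := X.fromSpecStalk η) (g := q) (IsLocalRing.closedPoint _) y (hcl.trans hy.symm)
      obtain ⟨z', -, hz'⟩ := Scheme.Pullback.exists_preimage_pullback
        (f := X.fromSpecStalk η) (g := q) (IsLocalRing.closedPoint _) y' (hcl.trans hy'.symm)
      rw [← hz, ← hz', Subsingleton.elim z z']
    have hgen : ∀ U : Set ↥(Curv2.bc k X L), IsOpen U → U.Nonempty → ∃ y ∈ U, q y = η := by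
      intro U hU hne
      have hmem : η ∈ q '' U :=
        ((genericPoint_spec X).mem_open_set_iff (q.isOpenMap U hU)).2
          (by simpa using hne.image q)
      exact hmem
    have hne : Nonempty ↥(Curv2.bc k X L) := by
      have : Surjective (Spec.map (CommRingCat.ofHom (algebraMap k L))) :=
        ⟨fun x => ⟨default, Subsingleton.elim _ _⟩⟩
      obtain ⟨y, -⟩ := q.surjective (η : X)
      exact ⟨y⟩
    exact { toNonempty := hne
            isPreirreducible_univ := fun U V hU hV hU' hV' => by
              obtain ⟨y, hy, hyη⟩ := hgen U hU (by simpa using hU')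
              obtain ⟨y', hy', hyη'⟩ := hgen V hV (by simpa using hV')
              exact ⟨y, trivial, hy, hsub y y' hyη hyη' ▸ hy'⟩ }
  refine ⟨F, hF, ?_⟩
  let φ : F →ₐ[k] X.functionField :=
    (AlgEquiv.ofInjectiveField fB).symm.toAlgHom.comp
      ((f.comp F.val).codRestrict fB.fieldRange.toSubalgebra fun x => x.2)
  have hmem : ∀ x : F, φ x ∈ κ.hom.range := by
    intro x
    refine GrothLib.QsChow21.exists_global (φ x) fun y => ?_
    have := (hX y).2
    have := (hX y).1
    let _ : Algebra k (X.presheaf.stalk y) := (c ≫ X.presheaf.germ ⊤ y trivial).hom.toAlgebra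
    have : IsScalarTower k (X.presheaf.stalk y) X.functionField := .of_algebraMap_eq fun a =>
      (X.presheaf.germ_stalkSpecializes_apply (U := ⊤) trivial
        ((genericPoint_spec X).specializes trivial) (c a)).symm
    exact IsIntegrallyClosed.isIntegral_iff.1 (((IsIntegral.of_finite k x).map φ).tower_top)
  let e := RingEquiv.ofBijective κ.hom.rangeRestrict
    ⟨fun a b h => hκ (congrArg Subtype.val h), κ.hom.rangeRestrict_surjective⟩
  let ψ : CommRingCat.of F ⟶ Γ(X, ⊤) :=
    CommRingCat.ofHom (e.symm.toRingHom.comp (φ.toRingHom.codRestrict κ.hom.range hmem))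
  refine ⟨X.toSpecΓ ≫ Spec.map ψ, ?_⟩
  rw [Category.assoc, ← Spec.map_comp]
  refine Eq.trans ?_ hstr
  congr 2
  ext a
  apply hκ
  have h2 : ∀ x, κ (ψ x) = φ x := fun x => congrArg Subtype.val (e.apply_symm_apply _)
  exact (h2 _).trans (φ.commutes a)

end Groth.Agent.S17738
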