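import Groth.Statements.S17743
import Groth.Agent.Lib.QsChow21.Point
import Mathlib.GroupTheory.Archimedean

set_option autoImplicit false
universe u
open CategoryTheory AlgebraicGeometry
open QsChow

namespace Groth.Agent.S17743

/-- Let K be a separable algebraic field extension of k and suppose that some intermediate field L of K
over k is finite Galois over k with degree [L:k] not of the form p^n for a prime p and n ≥ 0 (so
[L:k] has at least two prime factors). Then the subgroup of the Chow group of zero-cycles of Spec k
generated by the classes of push-forwards from Spec F, over the intermediate fields F of K over k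
that are finite over k and different from k, is the whole group; that is, the conormed Chow group of
the point relative to K over k is zero. (Degree 1 = p^0 must be excluded: for L = K = k the quotient
is ℤ.) -/
theorem result
    (k : Type u) [Field k] (K : Type u) [Field K] [Algebra k K] [Algebra.IsSeparable k K]
    (L : IntermediateField k K) [FiniteDimensional k L] [IsGalois k L]
    (hL : ∀ p n : ℕ, p.Prime → Module.finrank k L ≠ p ^ n) :
    QsChow.ptNormSubgroup k K = ⊤ := by
  let e := GrothLib.QsChow21.chEquiv k
  refine AddSubgroup.map_injective (f := (e : _ →+ ℤ)) e.injective ?_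
  rw [AddSubgroup.map_top_of_surjective _ e.surjective, GrothLib.QsChow21.map_ptNormSubgroup]
  set S := {n : ℤ | ∃ (F : IntermediateField k K), FiniteDimensional k F ∧ F ≠ ⊥ ∧ ∃ m : ℤ, n = m * Module.finrank k F}
  obtain ⟨d, hd⟩ := Int.subgroup_cyclic (AddSubgroup.closure S)
  by_contra hne
  have hdu : d.natAbs ≠ 1 := fun h1 => hne (by
    rw [hd, ← AddSubgroup.zmultiples_eq_closure]
    refine (AddSubgroup.eq_top_iff' _).2 fun n => Int.mem_zmultiples_iff.2 ?_
    exact Int.natAbs_dvd.1 (by rw [h1]; exact one_dvd _))
  obtain ⟨q, hq, hqd⟩ := Nat.exists_prime_and_dvd hdu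
  haveI : Fact q.Prime := ⟨hq⟩
  obtain ⟨P⟩ : Nonempty (Sylow q (L ≃ₐ[k] L)) := inferInstance
  let H : Subgroup (L ≃ₐ[k] L) := P
  have hqH : ¬ q ∣ H.index := P.not_dvd_index
  have hH1 : H.index ≠ 1 := fun h1 => by
    obtain ⟨n, hn⟩ := P.isPGroup'.exists_card_eq
    refine hL q n hq ?_
    rw [← IsGalois.card_aut_eq_finrank k L, ← Subgroup.card_mul_index H, h1, mul_one]
    exact hn
  let F := IntermediateField.lift (IntermediateField.fixedField H)
  have hF : Module.finrank k F = H.index := GrothLib.QsChow21.finrank_fixedField k K L H
  haveI : FiniteDimensional k F := Module.finite_of_finrank_pos (by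
    rw [hF]; exact Nat.pos_of_ne_zero Subgroup.index_ne_zero_of_finite)
  have hmem : (Module.finrank k F : ℤ) ∈ AddSubgroup.closure S := by
    refine AddSubgroup.subset_closure ⟨F, inferInstance, fun hb => hH1 ?_, 1, (one_mul _).symm⟩
    rw [← hF, IntermediateField.finrank_eq_one_iff]
    exact hb
  rw [hd, ← AddSubgroup.zmultiples_eq_closure, Int.mem_zmultiples_iff, hF] at hmem
  exact hqH (hqd.trans (Int.natAbs_dvd_natAbs.2 hmem))

end Groth.Agent.S17743
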