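import Groth.Statements.S17744
import Groth.Agent.Lib.QsChow21.Point
import Mathlib.GroupTheory.Archimedean

set_option autoImplicit false
universe u
open CategoryTheory AlgebraicGeometry
open QsChow

namespace Groth.Agent.S17744

/-- Let K be a separable algebraic field extension of k, let L be an intermediate field of K over k that
is finite Galois over k of degree p^n with p prime and n ≥ 1, and suppose that every intermediate
field of K over k that is finite over k has degree a power of p. Then the subgroup of the Chow group
of zero-cycles of Spec k generated by the classes of push-forwards from Spec F, over the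
intermediate fields F of K over k that are finite over k and different from k, has index p; that is,
the conormed Chow group of the point relative to K over k is cyclic of order p (the field with p
elements, in the source's ring language). (For n = 0, i.e. L = k, the assertion fails with K = k, so
n ≥ 1 is required.) -/
theorem result
    (k : Type u) [Field k] (K : Type u) [Field K] [Algebra k K] [Algebra.IsSeparable k K]
    (L : IntermediateField k K) [FiniteDimensional k L] [IsGalois k L]
    (p n : ℕ) (hp : p.Prime) (hn : 1 ≤ n) (hL : Module.finrank k L = p ^ n)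
    (hF : ∀ F : IntermediateField k K, FiniteDimensional k F → ∃ e : ℕ, Module.finrank k F = p ^ e) :
    (QsChow.ptNormSubgroup k K).index = p := by
  let e := GrothLib.QsChow21.chEquiv k
  rw [← AddSubgroup.index_map_equiv _ e, GrothLib.QsChow21.map_ptNormSubgroup]
  set S := {n : ℤ | ∃ (F : IntermediateField k K), FiniteDimensional k F ∧ F ≠ ⊥ ∧ ∃ m : ℤ, n = m * Module.finrank k F}
  suffices AddSubgroup.closure S = AddSubgroup.zmultiples (p : ℤ) by
    rw [this, Int.index_zmultiples, Int.natAbs_natCast]
  refine le_antisymm ((AddSubgroup.closure_le _).2 ?_) ?_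
  · rintro _ ⟨F, hFd, hne, m, rfl⟩
    obtain ⟨c, hc⟩ := hF F hFd
    refine Int.mem_zmultiples_iff.2 (Dvd.dvd.mul_left ?_ _)
    have hc0 : c ≠ 0 := fun h0 => hne (IntermediateField.finrank_eq_one_iff.1 (by rw [hc, h0, pow_zero]))
    exact_mod_cast hc ▸ dvd_pow_self p hc0
  · rw [AddSubgroup.zmultiples_le]
    haveI : Fact p.Prime := ⟨hp⟩
    have hcard : Nat.card (L ≃ₐ[k] L) = p ^ n := (IsGalois.card_aut_eq_finrank k L).trans hL
    obtain ⟨H, hH⟩ := Sylow.exists_subgroup_card_pow_prime p (n := n - 1) (G := (L ≃ₐ[k] L))
      (hcard ▸ pow_dvd_pow p (Nat.sub_le n 1))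
    have hi : H.index = p := by
      have := Subgroup.card_mul_index H
      rw [hH, hcard, show p ^ n = p ^ (n - 1) * p by rw [← pow_succ, Nat.sub_add_cancel hn]] at this
      exact Nat.eq_of_mul_eq_mul_left (pow_pos hp.pos _) this
    let F := IntermediateField.lift (IntermediateField.fixedField H)
    have hF' : Module.finrank k F = p := (GrothLib.QsChow21.finrank_fixedField k K L H).trans hi
    haveI : FiniteDimensional k F := Module.finite_of_finrank_pos (by rw [hF']; exact hp.pos)
    refine AddSubgroup.subset_closure ⟨F, inferInstance, fun hb => ?_, 1, by rw [hF', one_mul]⟩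
    have : Module.finrank k F = 1 := IntermediateField.finrank_eq_one_iff.2 hb
    exact hp.one_lt.ne' (hF'.symm.trans this)

end Groth.Agent.S17744
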