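import Groth.Statements.S17745
import Groth.Agent.Lib.CycPush.Finite
import Groth.Agent.Lib.CycBasic.Push
import Groth.Agent.Lib.Weight.GeomPoints

set_option autoImplicit false
universe u
open CategoryTheory AlgebraicGeometry
open QsChow

namespace Groth.Agent.S17745

theorem deltaCompat_of_finite {X Y : Scheme.{u}} (p : X ⟶ Y) (h : ∀ x, (p.residueFieldMap x).hom.Finite)
    (δ : Y → ℤ) : Cyc.DeltaCompat p (δ ∘ ⇑p.base) δ := fun x =>
  ⟨0, by rw [Nat.cast_zero]; exact GrothLib.CycPush.resTrdeg_finite p (h x), by simp⟩

/-- For a field extension K of k (separable algebraic) and a k-scheme X with weight function δ, call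
norm subgroup of CH_j(X) the subgroup generated by the classes of the push-forwards to X of j-cycles
on the base changes X_F, over the intermediate fields F of K over k that are finite over k and
different from k (the quotient by it is the degree-j part of the conormed Chow group of X relative
to K over k). Let F be an intermediate field of K over k, finite over k and different from k, and
let X be a smooth variety over F (a scheme with a smooth, separated and quasi-compact morphism g to
Spec F), regarded as a k-scheme by composing g with Spec F → Spec k. Then for every weight function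
δ on X (a dimension function induced from weight 0 on Spec k) and every integer j the norm subgroup
of CH_j(X) relative to K over k is the whole Chow group: all conormed Chow groups of X vanish. (The
source's F is tacitly different from k; for F = k the assertion fails, e.g. with K = k.) -/
theorem result
    (k : Type u) [Field k] (K : Type u) [Field K] [Algebra k K] [Algebra.IsSeparable k K]
    (F : IntermediateField k K) [FiniteDimensional k F] (hF : F ≠ ⊥)
    (X : Scheme.{u}) [X.Over (Spec (CommRingCat.of k))] (g : X ⟶ Spec (CommRingCat.of F))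
    (hg : g ≫ Spec.map (CommRingCat.ofHom (algebraMap k F)) = X ↘ Spec (CommRingCat.of k))
    (hsm : Smooth g) [IsSeparated g] [QuasiCompact g]
    (δ : X → ℤ) (hδ : Cyc.IsSetup X δ)
    (hcompat : Cyc.DeltaCompat (X ↘ Spec (CommRingCat.of k)) δ (fun _ => 0)) (j : ℤ) :
    QsChow.normSubgroup k K X δ j = ⊤ := by
  rw [eq_top_iff]
  rintro c -
  obtain ⟨⟨β, hβ⟩, rfl⟩ := QuotientAddGroup.mk_surjective c
  have : IsFinite (Spec.map (CommRingCat.ofHom (algebraMap k F))) :=
    (IsFinite.SpecMap_iff _).mpr (RingHom.finite_algebraMap.mpr inferInstance)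
  let π := Curv2.bcFst k X F
  let s : X ⟶ Curv2.bc k X F := Limits.pullback.lift (𝟙 X) g (by rw [Category.id_comp, hg])
  have hs : s ≫ π = 𝟙 X := Limits.pullback.lift_fst _ _ _
  have : IsFinite π := inferInstance
  have : IsClosedImmersion (s ≫ π) := by rw [hs]; infer_instance
  have : IsClosedImmersion s := IsClosedImmersion.of_comp s π
  have hπ : Cyc.DeltaCompat π (δ ∘ ⇑π.base) δ :=
    deltaCompat_of_finite π (fun x => GrothLib.Weight.finite_residueFieldMap π x) δ
  have hδs : ∀ x, δ (π.base (s.base x)) = δ x := fun x => by
    show δ ((s ≫ π).base x) = δ x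
    rw [hs]; rfl
  have hs' : Cyc.DeltaCompat s δ (δ ∘ ⇑π.base) := fun x =>
    ⟨0, by rw [Nat.cast_zero]; exact GrothLib.CycPush.resTrdeg_finite s (GrothLib.Weight.finite_residueFieldMap s x),
      by simp only [Function.comp_apply, Nat.cast_zero, add_zero]; exact (hδs x).symm⟩
  let α := AlgebraicCycle.map s δ (δ ∘ ⇑π.base) β
  have hα : α ∈ Cyc.Zk (Curv2.bc k X F) (δ ∘ ⇑π.base) j := by
    intro z hz
    show Function.locallyFinsupp.map s _ s.isSpectralMap β z = 0
    rw [Function.locallyFinsupp.map_apply]
    refine finsum_mem_eq_zero_of_forall_eq_zero fun x hx => ?_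
    rw [hβ x (fun h => hz ?_), zero_mul]
    rw [← show s.base x = z from hx]
    exact (hδs x).trans h
  have hmap : AlgebraicCycle.map π (δ ∘ ⇑π.base) δ α = β := by
    rw [GrothLib.CycBasic.map_map s π δ (δ ∘ ⇑π.base) δ hs' hπ]
    simp [hs]
  refine AddSubgroup.subset_closure ⟨F, inferInstance, hF, α, hα, by rw [hmap]; exact hβ, ?_⟩
  simp only [π] at hmap
  simp only [hmap]
  rfl

end Groth.Agent.S17745
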