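import Groth.Statements.S17746
import Groth.Agent.S17738
import Groth.Agent.S17745
import Groth.Agent.Lib.Hilb20.Reflexive
import Groth.Agent.Lib.Ref1.Connected
import Groth.Agent.Lib.GrpSchField.Neron

set_option autoImplicit false
universe u
open CategoryTheory AlgebraicGeometry
open QsChow

namespace Groth.Agent.S17746

/-- For a field extension K of k (separable algebraic) and a k-scheme X with weight function δ, call
norm subgroup of CH_j(X) the subgroup generated by the classes of the push-forwards to X of j-cycles
on the base changes X_F, over the intermediate fields F of K over k that are finite over k and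
different from k (the quotient by it is the degree-j part of the conormed Chow group of X relative
to K over k). Let L be an intermediate field of K over k that is finite Galois over k, and let X be
a smooth variety over k (smooth, separated and quasi-compact structure morphism) that is connected
and whose base change X_L is not connected. Then for every weight function δ on X (a dimension
function induced from weight 0 on Spec k) and every integer j the norm subgroup of CH_j(X) relative
to K over k is the whole Chow group: all conormed Chow groups of X vanish. -/
theorem result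
    (k : Type u) [Field k] (K : Type u) [Field K] [Algebra k K] [Algebra.IsSeparable k K]
    (L : IntermediateField k K) [FiniteDimensional k L] [IsGalois k L]
    (X : Scheme.{u}) [X.Over (Spec (CommRingCat.of k))]
    (hsm : Smooth (X ↘ Spec (CommRingCat.of k))) [IsSeparated (X ↘ Spec (CommRingCat.of k))]
    [QuasiCompact (X ↘ Spec (CommRingCat.of k))]
    [ConnectedSpace X] (hdisc : ¬ ConnectedSpace ↥(Curv2.bc k X L))
    (δ : X → ℤ) (hδ : Cyc.IsSetup X δ)
    (hcompat : Cyc.DeltaCompat (X ↘ Spec (CommRingCat.of k)) δ (fun _ => 0)) (j : ℤ) :
    QsChow.normSubgroup k K X δ j = ⊤ := by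
  haveI := hsm
  have : LocallyOfFiniteType (X ↘ Spec (CommRingCat.of k)) := inferInstance
  have hX : Pi1.IsNormalScheme X := GrothLib.Hilb20.isNormalScheme_of_smooth (k := k)
  have : IsLocallyNoetherian X := LocallyOfFiniteType.isLocallyNoetherian (X ↘ Spec (CommRingCat.of k))
  have : CompactSpace X := QuasiCompact.compactSpace_of_compactSpace (X ↘ Spec (CommRingCat.of k))
  have : IsNoetherian X := {}
  have : IsIntegral X := GrothLib.Ref1.isIntegral_of_connected fun x => (hX x).1
  obtain ⟨F, hF, g, hg⟩ := Groth.Agent.S17738.result k X hX L (fun h => hdisc inferInstance)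
  let F' : IntermediateField k K := IntermediateField.lift F
  let e : F ≃ₐ[k] F' := IntermediateField.liftAlgEquiv F
  have : FiniteDimensional k F' := e.toLinearEquiv.finiteDimensional
  have hF' : F' ≠ ⊥ := fun h => hF ((IntermediateField.lift_inj F ⊥).mp (by rw [IntermediateField.lift_bot]; exact h))
  let g' : X ⟶ Spec (CommRingCat.of F') :=
    g ≫ Spec.map (CommRingCat.ofHom e.symm.toAlgHom.toRingHom)
  have hg' : g' ≫ Spec.map (CommRingCat.ofHom (algebraMap k F')) = X ↘ Spec (CommRingCat.of k) := by
    rw [Category.assoc, ← Spec.map_comp, ← hg]
    congr 3
  have : Algebra.IsSeparable k F' := Algebra.isSeparable_tower_bot_of_isSeparable k F' K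
  have hF'e : Algebra.FormallyEtale k F' := Algebra.FormallyEtale.of_isSeparable k F'
  have : Algebra.Etale k F' := { formallyEtale := hF'e, finitePresentation := Algebra.FinitePresentation.of_finiteType.mp inferInstance }
  have : Etale (Spec.map (CommRingCat.ofHom (algebraMap k F'))) := by
    rw [HasRingHomProperty.Spec_iff (P := @Etale)]
    exact RingHom.etale_algebraMap.mpr inferInstance
  have hsm' : Smooth g' :=
    GrothLib.GrpSchField.smooth_of_comp_etale g' (Spec.map (CommRingCat.ofHom (algebraMap k F')))
      (hg'.symm ▸ hsm)
  have : IsSeparated (g' ≫ Spec.map (CommRingCat.ofHom (algebraMap k F'))) := hg'.symm ▸ inferInstance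
  have : IsSeparated g' := IsSeparated.of_comp g' (Spec.map (CommRingCat.ofHom (algebraMap k F')))
  have : QuasiCompact g' :=
    (quasiCompact_iff_compactSpace g').mpr inferInstance
  exact Groth.Agent.S17745.result k K F' hF' X g' hg' hsm' δ hδ hcompat j

end Groth.Agent.S17746
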