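import Groth.Statements.S17747
import Groth.Agent.Lib.QsPn21.Cases

set_option autoImplicit false
open QsChow

namespace Groth.Agent.S17747

open QsChow GrothLib.QsPn21 in
theorem J_eq {n : ℕ} (hn : 2 ≤ n) (hodd : Odd n) : J n 1 = oddIdeal n := by
  have hne : n ≠ 2 ^ klog n 2 := fun h => by
    have h2 : Even (2 ^ klog n 2) := by
      rw [Nat.even_pow]; exact ⟨even_two, by have := one_le_klog_two hn; omega⟩
    rw [← h] at h2
    exact (Nat.not_even_iff_odd.2 hodd) h2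
  obtain ⟨hk2, hlt⟩ := kprime_two hn hne
  have hjn : ∀ j, 3 ≤ j → j ≤ numVars n → 2 * j - 3 ≠ n := fun j h3 hjs => by
    unfold numVars at hjs
    obtain ⟨r, rfl⟩ := hodd
    omega
  have hkj : ∀ j, 3 ≤ j → j ≤ numVars n → kprime n j = klog n j := fun j h3 hjs =>
    kprime_eq_klog hn h3 hjs fun t ht => hjn j h3 hjs
      ((odd_two_pow_unique (t := t) (s := 1) ⟨j - 2, by omega⟩ hodd (by rw [ht, pow_one, mul_comm])).2)
  have hexp : ∀ j, 3 ≤ j → j ≤ numVars n → 1 ≤ (2 * j - 3) * 2 ^ klog n j - n := fun j h3 hjs => by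
    have h1 := le_mul_klog hn (show 2 ≤ j by omega)
    have : (2 * j - 3) * 2 ^ klog n j ≠ n := fun he => hjn j h3 hjs
      ((odd_two_pow_unique (t := klog n j) (s := 0) ⟨j - 2, by omega⟩ hodd (by rw [he, pow_zero, mul_one])).2)
    omega
  have hE : evar n 1 ∈ oddIdeal n := Ideal.subset_span (Or.inl (by simp))
  have hpow : ∀ m, 1 ≤ m → evar n 1 ^ m ∈ oddIdeal n := fun m hm => Ideal.pow_mem_of_mem _ hE _ hm
  have hev : ∀ j, 1 ≤ j → j ≤ numVars n → evar n j ^ 2 ^ kprime n j ∈ oddIdeal n := fun j hj hjs =>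
    Ideal.subset_span (Or.inr ⟨⟨j - 1, by omega⟩,
      show evar n (j - 1 + 1) ^ 2 ^ kprime n (j - 1 + 1) = _ by rw [show j - 1 + 1 = j by omega]⟩)
  have hp0 : ∀ j, 3 ≤ j → 1 ≤ (2 * j - 4) * 2 ^ klog n j := fun j h3 =>
    Nat.one_le_iff_ne_zero.2 (Nat.mul_ne_zero (by omega) (Nat.two_pow_pos _).ne')
  refine le_antisymm (J_le (hpow n (by omega)) (Ideal.mul_mem_right _ _ hE) (Ideal.subset_span (Or.inl (by simp)))
    (hpow 1 le_rfl) fun j hj hjs => ?_) (Ideal.span_le.2 ?_)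
  · unfold hrel
    rcases (show j = 2 ∨ 3 ≤ j by omega) with rfl | h3
    · rw [if_pos rfl, sPoly_two hk2]
      refine Ideal.add_mem _ (Ideal.mul_mem_right _ _ (hpow _ (by omega)))
        (Ideal.add_mem _ (sum_low_mem Nat.one_le_two_pow hpow) (hev 2 (by omega) hjs))
    · rw [if_neg (by omega), if_pos ⟨h3, hjs⟩]
      exact Ideal.add_mem _ (Ideal.add_mem _ (hkj j h3 hjs ▸ hev j (by omega) hjs)
        (Ideal.mul_mem_right _ _ (hpow _ (hexp j h3 hjs)))) (Ideal.mul_mem_right _ _ (hpow _ (hp0 j h3)))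
  · rintro z (hz | ⟨i, rfl⟩)
    · simp only [Set.mem_insert_iff, Set.mem_singleton_iff] at hz
      rcases hz with rfl | rfl
      · simpa using evar_pow_mem_J (n := n) (le_refl 1)
      · exact xvar_sq_mem_J 1
    · show evar n (i.val + 1) ^ 2 ^ kprime n (i.val + 1) ∈ J n 1
      generalize hj : i.val + 1 = j
      have hjs : j ≤ numVars n := by have := i.2; omega
      rcases (show j = 1 ∨ j = 2 ∨ 3 ≤ j by omega) with rfl | rfl | h3
      · exact evar_pow_mem_J Nat.one_le_two_pow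
      · have h := hrel_mem_J (n := n) 1 (j := 2) (by omega) hjs
        rw [hrel, if_pos rfl, sPoly_two hk2] at h
        rw [Ideal.add_mem_iff_right _ (evar_mul_xvar_mem_J 1 (by omega)),
          Ideal.add_mem_iff_right _ (sum_low_mem Nat.one_le_two_pow fun m => evar_pow_mem_J)] at h
        exact h
      · have h := hrel_mem_J (n := n) 1 (j := j) (by omega) hjs
        rw [hrel, if_neg (by omega), if_pos ⟨h3, hjs⟩,
          Ideal.add_mem_iff_left _ (Ideal.mul_mem_right _ _ (evar_pow_mem_J (hp0 j h3))),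
          Ideal.add_mem_iff_left _ (evar_mul_xvar_mem_J 1 (hexp j h3 hjs))] at h
        rwa [hkj j h3 hjs]

/-- Let n ≥ 2, s := n / 2 + 1, k_j the integer part of log_2((2n-1)/(2j-3)) for 2 ≤ j ≤ s, P := F_2[ε_1,
…, ε_s]/(ε_1^n, ε_2^(2^k_2), …, ε_s^(2^k_s)), τ the F_2-algebra involution of P fixing ε_1 and
sending ε_j to ε_j + ε_1^(2j-3) (2 ≤ j ≤ s), and ē_1 := ε_1, ē_2 := ε_2^2 + ε_1ε_2, ē_j := ε_j +
ε_1^(2j-4)ε_2 (j ≥ 3), x̄ := ε_1^(n-1)ε_2; write 2^a for the exact power of 2 dividing n, l for the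
integer with n = 2^a(2l-3), and k'_1 := a, k'_2 := the integer part of log_2 n, k'_j := the integer
part of log_2(2n/(2j-3)) for j ≥ 3. Suppose n is odd (so a = 0). Then for a polynomial q in F_2[e_1,
…, e_s, x] the image φ(q) (φ : e_j ↦ ē_j, x ↦ x̄) lies in ε_1 · P^τ, P^τ the τ-fixed subalgebra, if
and only if q lies in the ideal generated by e_1, x^2 and the powers e_j^(2^k'_j) for 2 ≤ j ≤ s.
Since φ maps onto P^τ, this says that P^τ modulo ε_1 is F_2[e_2, …, e_s, x]/(e_2^(2^k'_2), …,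
e_s^(2^k'_s), x^2). -/
theorem result (n : ℕ) (hn : 2 ≤ n)
    (τ : QsChow.P n →ₐ[ZMod 2] QsChow.P n) (hτ1 : τ (QsChow.eps n 1) = QsChow.eps n 1)
    (hτ : ∀ j : ℕ, 2 ≤ j → j ≤ QsChow.numVars n →
      τ (QsChow.eps n j) = QsChow.eps n j + QsChow.eps n 1 ^ (2 * j - 3))
    (hodd : Odd n) (q : QsChow.FreeE n) :
    (∃ w : QsChow.P n, τ w = w ∧ QsChow.phi n q = QsChow.eps n 1 * w) ↔ q ∈ QsChow.oddIdeal n := by
  rw [← J_eq hn hodd, ← (show GrothLib.QsPn21.IsTau τ from ⟨hn, hτ1, hτ⟩).mem_J_iff 1 q, pow_one]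

end Groth.Agent.S17747
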