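import Groth.Statements.S17748
import Groth.Agent.Lib.QsPn21.Cases
import Mathlib.Tactic.LinearCombination

set_option autoImplicit false
open QsChow

namespace Groth.Agent.S17748

open QsChow GrothLib.QsPn21 in
theorem key {n : ℕ} (hn : 2 ≤ n) (ha : 1 ≤ twoExp n) (hne : n ≠ 2 ^ twoExp n) :
    xvar n - incl n (evarE n (lIdx n) ^ 2 ^ twoExp n) ∈ J n (2 ^ twoExp n) ∧
    J n (2 ^ twoExp n) ≤ (evenIdeal n).comap (subst n (evarE n (lIdx n) ^ 2 ^ twoExp n)) ∧
    evenIdeal n ≤ (J n (2 ^ twoExp n)).comap (incl n) := by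
  set a := twoExp n with hadef
  have hdvd : 2 ^ a ∣ n := pow_padicValNat_dvd
  obtain ⟨o, ho⟩ := hdvd
  have hoodd : Odd o := by
    rw [← Nat.not_even_iff_odd]
    rintro ⟨r, hr⟩
    have : 2 ^ (a + 1) ∣ n := ⟨r, by rw [ho, hr, pow_succ]; ring⟩
    have := (padicValNat_dvd_iff_le (p := 2) (by omega : n ≠ 0)).1 this
    unfold twoExp at hadef
    omega
  have hodiv : n / 2 ^ a = o := by rw [ho, Nat.mul_div_cancel_left _ (Nat.two_pow_pos a)]
  have ho3 : 3 ≤ o := by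
    obtain ⟨r, rfl⟩ := hoodd
    rcases Nat.eq_zero_or_pos r with rfl | hr
    · exact absurd (by simpa using ho) hne
    · omega
  set l := lIdx n with hl
  have hl2 : 2 * l - 3 = o ∧ 3 ≤ l := by
    have : l = (o + 3) / 2 := by rw [hl, lIdx, ← hadef, hodiv]
    obtain ⟨r, rfl⟩ := hoodd
    omega
  have h2a : 2 ≤ 2 ^ a := Nat.le_self_pow (by omega) 2
  have hls : l ≤ numVars n := by
    have : 2 * o ≤ n := by rw [ho]; exact Nat.mul_le_mul_right o h2a
    unfold numVars; omega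
  have hne2 : n ≠ 2 ^ klog n 2 := fun h => by
    have h2 : (2 * 0 + 1) * 2 ^ klog n 2 = o * 2 ^ a := by
      rw [show 2 * 0 + 1 = 1 from rfl, one_mul, ← h, ho, mul_comm]
    have := (odd_two_pow_unique ⟨0, rfl⟩ hoodd h2).2
    omega
  obtain ⟨hk2, hlt⟩ := kprime_two hn hne2
  have hne3 : ∀ j, 3 ≤ j → j ≠ l → ∀ t s, (2 * j - 3) * 2 ^ t ≠ o * 2 ^ s := fun j h3 hjl t s h => by
    have := (odd_two_pow_unique ⟨j - 2, by omega⟩ hoodd h).2
    omega
  have hkj : ∀ j, 3 ≤ j → j ≤ numVars n → j ≠ l → kprime n j = klog n j := fun j h3 hjs hjl =>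
    kprime_eq_klog hn h3 hjs fun t ht => hne3 j h3 hjl t (a + 1) (by rw [ht, ho, pow_succ]; ring)
  have hexp : ∀ j, 3 ≤ j → j ≠ l → 1 ≤ (2 * j - 3) * 2 ^ klog n j - n := fun j h3 hjl => by
    have h1 := le_mul_klog hn (show 2 ≤ j by omega)
    have : (2 * j - 3) * 2 ^ klog n j ≠ n := fun h => hne3 j h3 hjl _ a (by rw [h, ho, mul_comm])
    omega
  have hlog : klog n l = a ∧ kprime n l = a + 1 := by
    have h1 : 2 * n / o = 2 ^ (a + 1) := by
      rw [ho, pow_succ, show 2 * (2 ^ a * o) = 2 ^ a * 2 * o by ring, Nat.mul_div_cancel _ (by omega)]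
    refine ⟨?_, by rw [kprime, if_neg (by omega), if_neg (by omega), hl2.1, h1, Nat.log_pow (by omega)]⟩
    rw [klog, hl2.1]
    refine Nat.log_eq_of_pow_le_of_lt_pow ((Nat.le_div_iff_mul_le (by omega)).2 (by rw [ho]; omega))
      ((Nat.div_lt_iff_lt_mul (by omega)).2 ?_)
    rw [pow_succ, ho, mul_comm (2 ^ a) 2, mul_assoc]
    omega
  have hexpl : (2 * l - 3) * 2 ^ klog n l - n = 0 := by rw [hl2.1, hlog.1, ho, mul_comm]; omega
  have hc2 : 2 ^ a ≤ 2 ^ kprime n 2 := by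
    have h1 : 2 ^ a * 3 ≤ n := by rw [ho]; exact Nat.mul_le_mul_left _ ho3
    rw [hk2, pow_succ] at hlt
    omega
  have hbig : ∀ j, 3 ≤ j → j ≤ numVars n → 2 ^ a ≤ (2 * j - 4) * 2 ^ klog n j := fun j h3 _ => by
    have h1 := le_mul_klog hn (show 2 ≤ j by omega)
    have h2 : 2 ^ a * 3 ≤ n := by rw [ho]; exact Nat.mul_le_mul_left _ ho3
    have h4 : (2 * j - 3) * 2 ^ klog n j = (2 * j - 4) * 2 ^ klog n j + 2 ^ klog n j := by
      rw [← Nat.succ_mul]; congr 1; omega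
    have h5 : 2 ^ klog n j ≤ (2 * j - 4) * 2 ^ klog n j := Nat.le_mul_of_pos_left _ (by omega)
    omega
  set v := evarE n l ^ 2 ^ a with hv
  have hvinc : incl n v = evar n l ^ 2 ^ a := by rw [hv, map_pow, incl_evarE]
  have hx : xvar n - incl n v ∈ J n (2 ^ a) := by
    have h := hrel_mem_J (n := n) (2 ^ a) (j := l) (by omega) hls
    rw [hrel, if_neg (by omega), if_pos ⟨hl2.2, hls⟩, hexpl, pow_zero, one_mul,
      Ideal.add_mem_iff_left _ (Ideal.mul_mem_right _ _ (evar_pow_mem_J (hbig l hl2.2 hls))), hlog.1] at h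
    rw [hvinc, show xvar n - evar n l ^ 2 ^ a = evar n l ^ 2 ^ a + xvar n by
      linear_combination (-(evar n l ^ 2 ^ a)) * (two_eq_zero (Q := FreeE n))]
    exact h
  refine ⟨hx, ?_, ?_⟩
  · have hev : ∀ j, 1 ≤ j → j ≤ numVars n → evarE n j ^ 2 ^ kprime n j ∈ evenIdeal n := fun j hj hjs =>
      Ideal.subset_span (Or.inr ⟨⟨j - 1, by omega⟩,
        show evarE n (j - 1 + 1) ^ 2 ^ kprime n (j - 1 + 1) = _ by rw [show j - 1 + 1 = j by omega]⟩)
    have hsp : evarE n 1 * v ∈ evenIdeal n := by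
      refine Ideal.subset_span (Or.inl ?_)
      rw [Set.mem_singleton_iff, hv, hlog.2, Nat.add_sub_cancel]
    have hE : ∀ m, 2 ^ a ≤ m → evar n 1 ^ m ∈ (evenIdeal n).comap (subst n v) := fun m hm => by
      rw [Ideal.mem_comap, map_pow, subst_evar]
      refine Ideal.pow_mem_of_pow_mem _ ?_ hm
      have := hev 1 le_rfl (by have := two_le_numVars hn; omega)
      rwa [kprime, if_pos rfl] at this
    have hEx : ∀ m, 1 ≤ m → evar n 1 ^ m * xvar n ∈ (evenIdeal n).comap (subst n v) := fun m hm => by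
      obtain ⟨r, rfl⟩ : ∃ r, m = r + 1 := ⟨m - 1, by omega⟩
      rw [Ideal.mem_comap, map_mul, map_pow, subst_evar, subst_xvar, pow_succ, mul_assoc]
      exact Ideal.mul_mem_left _ _ hsp
    have hej : ∀ j, 1 ≤ j → j ≤ numVars n → evar n j ^ 2 ^ kprime n j ∈ (evenIdeal n).comap (subst n v) :=
      fun j hj hjs => by rw [Ideal.mem_comap, map_pow, subst_evar]; exact hev j hj hjs
    refine J_le (hE n (by rw [ho]; exact Nat.le_mul_of_pos_right _ (by omega))) (by simpa using hEx 1 le_rfl) ?_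
      (hE _ le_rfl) fun j hj hjs => ?_
    · rw [Ideal.mem_comap, map_pow, subst_xvar, hv, ← pow_mul, ← pow_succ, ← hlog.2]
      exact hev l (by omega) hls
    · unfold hrel
      rcases (show j = 2 ∨ 3 ≤ j by omega) with rfl | h3
      · rw [if_pos rfl, sPoly_two hk2]
        exact Ideal.add_mem _ (hEx _ (by omega)) (Ideal.add_mem _ (sum_low_mem hc2 hE) (hej 2 (by omega) hjs))
      · rw [if_neg (by omega), if_pos ⟨h3, hjs⟩]
        refine Ideal.add_mem _ ?_ (Ideal.mul_mem_right _ _ (hE _ (hbig j h3 hjs)))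
        by_cases hjl : j = l
        · subst hjl
          rw [hexpl, pow_zero, one_mul, hlog.1, Ideal.mem_comap, map_add, map_pow, subst_evar, subst_xvar, hv, add_self]
          exact Submodule.zero_mem _
        · exact Ideal.add_mem _ (hkj j h3 hjs hjl ▸ hej j (by omega) hjs) (hEx _ (hexp j h3 hjl))
  · refine Ideal.span_le.2 ?_
    rintro z (hz | ⟨i, rfl⟩)
    · rw [Set.mem_singleton_iff] at hz
      subst hz
      show incl n _ ∈ J n (2 ^ a)
      rw [hlog.2, Nat.add_sub_cancel, ← hv, map_mul, incl_evarE, ← sub_sub_cancel (xvar n) (incl n v), mul_sub]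
      exact Ideal.sub_mem _ (by simpa using evar_mul_xvar_mem_J (n := n) (2 ^ a) le_rfl) (Ideal.mul_mem_left _ _ hx)
    · show incl n (evarE n (i.val + 1) ^ 2 ^ kprime n (i.val + 1)) ∈ J n (2 ^ a)
      rw [map_pow, incl_evarE]
      generalize hj : i.val + 1 = j
      have hjs : j ≤ numVars n := by have := i.2; omega
      rcases (show j = 1 ∨ j = 2 ∨ 3 ≤ j by omega) with rfl | rfl | h3
      · rw [kprime, if_pos rfl]
        exact evar_pow_mem_J le_rfl
      · have h := hrel_mem_J (n := n) (2 ^ a) (j := 2) (by omega) hjs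
        rw [hrel, if_pos rfl, sPoly_two hk2, Ideal.add_mem_iff_right _ (evar_mul_xvar_mem_J _ (by omega)),
          Ideal.add_mem_iff_right _ (sum_low_mem hc2 fun m => evar_pow_mem_J)] at h
        exact h
      · by_cases hjl : j = l
        · subst hjl
          rw [hlog.2, pow_succ, pow_mul, ← hvinc, show incl n v ^ 2 = xvar n ^ 2 + (xvar n - incl n v) ^ 2 by
            linear_combination (-(xvar n ^ 2) + xvar n * incl n v) * (two_eq_zero (Q := FreeE n))]
          exact Ideal.add_mem _ (xvar_sq_mem_J _) (Ideal.pow_mem_of_mem _ hx _ (by omega))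
        · have h := hrel_mem_J (n := n) (2 ^ a) (j := j) (by omega) hjs
          rw [hrel, if_neg (by omega), if_pos ⟨h3, hjs⟩,
            Ideal.add_mem_iff_left _ (Ideal.mul_mem_right _ _ (evar_pow_mem_J (hbig j h3 hjs))),
            Ideal.add_mem_iff_left _ (evar_mul_xvar_mem_J _ (hexp j h3 hjl))] at h
          rwa [hkj j h3 hjs hjl]

/-- Let n ≥ 2, s := n / 2 + 1, k_j the integer part of log_2((2n-1)/(2j-3)) for 2 ≤ j ≤ s, P := F_2[ε_1,
…, ε_s]/(ε_1^n, ε_2^(2^k_2), …, ε_s^(2^k_s)), τ the F_2-algebra involution of P fixing ε_1 and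
sending ε_j to ε_j + ε_1^(2j-3) (2 ≤ j ≤ s), and ē_1 := ε_1, ē_2 := ε_2^2 + ε_1ε_2, ē_j := ε_j +
ε_1^(2j-4)ε_2 (j ≥ 3), x̄ := ε_1^(n-1)ε_2; write 2^a for the exact power of 2 dividing n, l for the
integer with n = 2^a(2l-3), and k'_1 := a, k'_2 := the integer part of log_2 n, k'_j := the integer
part of log_2(2n/(2j-3)) for j ≥ 3. Suppose n is even and not a power of 2 — equivalently a ≥ 1 and
n ≠ 2^a, which is how the hypothesis is written — and let ψ : F_2[e_1, …, e_s] → P be the algebra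
map with e_j ↦ ē_j. Then (i) for a polynomial q, ψ(q) lies in ε_1^(2^a) · P^τ (P^τ the τ-fixed
subalgebra) if and only if q lies in the ideal generated by the powers e_j^(2^k'_j) for 1 ≤ j ≤ s
and the product e_1 · e_l^(2^(k'_l - 1)); (ii) every τ-fixed element of P is ψ(q) plus an element of
ε_1^(2^a) · P^τ for some q. That is, P^τ modulo ε_1^(2^a) is F_2[e_1, …, e_s]/(e_1^(2^k'_1), …,
e_s^(2^k'_s), e_1 e_l^(2^(k'_l - 1))) via ψ. -/
theorem result (n : ℕ) (hn : 2 ≤ n)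
    (τ : QsChow.P n →ₐ[ZMod 2] QsChow.P n) (hτ1 : τ (QsChow.eps n 1) = QsChow.eps n 1)
    (hτ : ∀ j : ℕ, 2 ≤ j → j ≤ QsChow.numVars n →
      τ (QsChow.eps n j) = QsChow.eps n j + QsChow.eps n 1 ^ (2 * j - 3))
    (ha : 1 ≤ QsChow.twoExp n) (hne : n ≠ 2 ^ QsChow.twoExp n) :
    (∀ q : QsChow.FreeP n,
      (∃ w : QsChow.P n, τ w = w ∧ QsChow.psi n q = QsChow.eps n 1 ^ 2 ^ QsChow.twoExp n * w) ↔
        q ∈ QsChow.evenIdeal n) ∧
    (∀ z : QsChow.P n, τ z = z → ∃ q : QsChow.FreeP n, ∃ w : QsChow.P n,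
      τ w = w ∧ z = QsChow.psi n q + QsChow.eps n 1 ^ 2 ^ QsChow.twoExp n * w) := by
  have h : GrothLib.QsPn21.IsTau τ := ⟨hn, hτ1, hτ⟩
  obtain ⟨hx, h1, h2⟩ := key hn ha hne
  exact ⟨h.psi_mem_iff _ _ _ hx h1 h2, fun z hz => h.exists_psi_add _ _ hx hz⟩

end Groth.Agent.S17748
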