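import Groth.Statements.S17749
import Groth.Agent.Lib.QsPn21.Cases
import Mathlib.Tactic.LinearCombination

set_option autoImplicit false
open QsChow

namespace Groth.Agent.S17749

open QsChow GrothLib.QsPn21 in
theorem key {n b : ℕ} (hn : 2 ≤ n) (hb : 1 ≤ b) (hnb : n = 2 ^ b) :
    xvar n - incl n (∑ t ∈ Finset.range (kprime n 2), evarE n 1 ^ (2 ^ kprime n 2 - 2 ^ (t + 1)) * evarE n 2 ^ 2 ^ t) ∈
      presIdeal n ∧
    presIdeal n ≤ (powIdeal n).comap (subst n (∑ t ∈ Finset.range (kprime n 2),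
      evarE n 1 ^ (2 ^ kprime n 2 - 2 ^ (t + 1)) * evarE n 2 ^ 2 ^ t)) ∧
    powIdeal n ≤ (presIdeal n).comap (incl n) := by
  have hJ : J n n = presIdeal n := sup_eq_left.2 (Ideal.span_le.2
    (Set.singleton_subset_iff.2 (Ideal.subset_span (Or.inl (by simp)))))
  rw [← hJ]
  have hk1 : kprime n 1 = b := by
    rw [kprime, if_pos rfl, twoExp, hnb, padicValNat.prime_pow]
  have hk' : kprime n 2 = b := by rw [kprime, if_neg (by omega), if_pos rfl, hnb, Nat.log_pow (by omega)]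
  have hK : klog n 2 = b := by
    have := one_le_klog_two hn
    rw [klog_two, hnb]
    obtain ⟨c, rfl⟩ : ∃ c, b = c + 1 := ⟨b - 1, by omega⟩
    have := Nat.one_le_two_pow (n := c)
    exact Nat.log_eq_of_pow_le_of_lt_pow (by rw [pow_succ]; omega) (by simp only [pow_succ]; omega)
  have hne : ∀ j, 3 ≤ j → ∀ t s, (2 * j - 3) * 2 ^ t ≠ 1 * 2 ^ s := fun j h3 t s h => by
    have := (odd_two_pow_unique ⟨j - 2, by omega⟩ odd_one h).2
    omega
  have hkj : ∀ j, 3 ≤ j → j ≤ numVars n → kprime n j = klog n j := fun j h3 hjs =>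
    kprime_eq_klog hn h3 hjs fun t ht => hne j h3 t (b + 1) (by rw [ht, hnb, pow_succ]; ring)
  have hexp : ∀ j, 3 ≤ j → 1 ≤ (2 * j - 3) * 2 ^ klog n j - n := fun j h3 => by
    have h1 := le_mul_klog hn (show 2 ≤ j by omega)
    have : (2 * j - 3) * 2 ^ klog n j ≠ n := fun h => hne j h3 _ b (by rw [h, hnb, one_mul])
    omega
  have hbig : ∀ j, 3 ≤ j → n ≤ (2 * j - 4) * 2 ^ klog n j := fun j h3 => by
    rcases le_or_gt b (klog n j) with hle | hle
    · calc n = 2 ^ b := hnb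
        _ ≤ 2 ^ klog n j := Nat.pow_le_pow_right (by omega) hle
        _ ≤ _ := Nat.le_mul_of_pos_left _ (by omega)
    · obtain ⟨c, rfl⟩ : ∃ c, b = klog n j + c := ⟨b - klog n j, by omega⟩
      have h1 := hexp j h3
      have h2 : 2 ^ c * 2 ^ klog n j = n := by rw [← pow_add, add_comm]; exact hnb.symm
      have h4 : 2 ^ c < 2 * j - 3 := Nat.lt_of_mul_lt_mul_right (a := 2 ^ klog n j) (by omega)
      calc n = 2 ^ c * 2 ^ klog n j := h2.symm
        _ ≤ (2 * j - 4) * 2 ^ klog n j := Nat.mul_le_mul_right _ (by omega)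
  rw [hk']
  set v := ∑ t ∈ Finset.range b, evarE n 1 ^ (2 ^ b - 2 ^ (t + 1)) * evarE n 2 ^ 2 ^ t with hv
  have hS : incl n v = sPoly n 2 := by simp only [hv, sPoly, hK, map_sum, map_mul, map_pow, incl_evarE]
  have hsub : ∀ w, subst n w (sPoly n 2) = v := fun w => by simp only [hv, sPoly, hK, map_sum, map_mul, map_pow, subst_evar]
  have hs2 : 2 ≤ numVars n := two_le_numVars hn
  have hx : xvar n - incl n v ∈ J n n := by
    have h := hrel_mem_J (n := n) n (j := 2) (by omega) hs2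
    rw [hrel, if_pos rfl, hK, show 2 ^ b - n = 0 by omega, pow_zero, one_mul] at h
    rw [hS, show xvar n - sPoly n 2 = xvar n + sPoly n 2 by
      linear_combination (-(sPoly n 2)) * (two_eq_zero (Q := FreeE n))]
    exact h
  obtain ⟨c, hc⟩ : ∃ c, b = c + 1 := ⟨b - 1, by omega⟩
  -- the square of the telescoping sum
  have hsq : ∃ r, v ^ 2 = evarE n 1 ^ n * r + evarE n 2 ^ 2 ^ b := by
    refine ⟨∑ t ∈ Finset.range c, evarE n 1 ^ (2 * (2 ^ b - 2 ^ (t + 1)) - n) * evarE n 2 ^ (2 ^ t * 2), ?_⟩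
    rw [hv, sum_sq, show Finset.range b = Finset.range (c + 1) by rw [hc], Finset.sum_range_succ, Finset.mul_sum,
      show 2 ^ b - 2 ^ (c + 1) = 0 by rw [hc, Nat.sub_self], pow_zero, one_mul, ← pow_mul, ← pow_succ, ← hc]
    congr 1
    refine Finset.sum_congr rfl fun t ht => ?_
    have h1 : 2 ^ (t + 1) ≤ 2 ^ c := Nat.pow_le_pow_right (by omega) (Finset.mem_range.1 ht)
    have h2 : 2 ^ b = 2 ^ c * 2 := by rw [hc, pow_succ]
    rw [mul_pow, ← pow_mul, ← pow_mul, ← mul_assoc, ← pow_add]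
    congr 2
    omega
  obtain ⟨r, hr⟩ := hsq
  refine ⟨hx, ?_, ?_⟩
  · have hev : ∀ j, 1 ≤ j → j ≤ numVars n → evarE n j ^ 2 ^ kprime n j ∈ powIdeal n := fun j hj hjs =>
      Ideal.subset_span (Or.inr ⟨⟨j - 1, by omega⟩,
        show evarE n (j - 1 + 1) ^ 2 ^ kprime n (j - 1 + 1) = _ by rw [show j - 1 + 1 = j by omega]⟩)
    have hsp : evarE n 1 * v ∈ powIdeal n := by
      refine Ideal.subset_span (Or.inl ?_)
      rw [Set.mem_singleton_iff, hk', hv]
    have hp : evarE n 1 ^ n ∈ powIdeal n := by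
      have := hev 1 le_rfl (by omega)
      rwa [hk1, ← hnb] at this
    have hE : ∀ m, n ≤ m → evar n 1 ^ m ∈ (powIdeal n).comap (subst n v) := fun m hm => by
      rw [Ideal.mem_comap, map_pow, subst_evar]
      exact Ideal.pow_mem_of_pow_mem _ hp hm
    have hEx : ∀ m, 1 ≤ m → evar n 1 ^ m * xvar n ∈ (powIdeal n).comap (subst n v) := fun m hm => by
      obtain ⟨s, rfl⟩ : ∃ s, m = s + 1 := ⟨m - 1, by omega⟩
      rw [Ideal.mem_comap, map_mul, map_pow, subst_evar, subst_xvar, pow_succ, mul_assoc]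
      exact Ideal.mul_mem_left _ _ hsp
    refine J_le (hE n le_rfl) (by simpa using hEx 1 le_rfl) ?_ (hE _ le_rfl) fun j hj hjs => ?_
    · rw [Ideal.mem_comap, map_pow, subst_xvar, hr]
      refine Ideal.add_mem _ (Ideal.mul_mem_right _ _ hp) ?_
      rw [← hk']
      exact hev 2 (by omega) hs2
    · unfold hrel
      rcases (show j = 2 ∨ 3 ≤ j by omega) with rfl | h3
      · rw [if_pos rfl, hK, show 2 ^ b - n = 0 by omega, pow_zero, one_mul, Ideal.mem_comap, map_add, subst_xvar, hsub, add_self]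
        exact Submodule.zero_mem _
      · rw [if_neg (by omega), if_pos ⟨h3, hjs⟩]
        refine Ideal.add_mem _ (Ideal.add_mem _ ?_ (hEx _ (hexp j h3))) (Ideal.mul_mem_right _ _ (hE _ (hbig j h3)))
        rw [Ideal.mem_comap, map_pow, subst_evar, ← hkj j h3 hjs]
        exact hev j (by omega) hjs
  · refine Ideal.span_le.2 ?_
    rintro z (hz | ⟨i, rfl⟩)
    · rw [Set.mem_singleton_iff] at hz
      subst hz
      show incl n _ ∈ J n n
      rw [hk', ← hv, map_mul, incl_evarE, ← sub_sub_cancel (xvar n) (incl n v), mul_sub]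
      exact Ideal.sub_mem _ (by simpa using evar_mul_xvar_mem_J (n := n) n le_rfl) (Ideal.mul_mem_left _ _ hx)
    · show incl n (evarE n (i.val + 1) ^ 2 ^ kprime n (i.val + 1)) ∈ J n n
      rw [map_pow, incl_evarE]
      generalize hj : i.val + 1 = j
      have hjs : j ≤ numVars n := by have := i.2; omega
      rcases (show j = 1 ∨ j = 2 ∨ 3 ≤ j by omega) with rfl | rfl | h3
      · rw [hk1, ← hnb]
        exact evar_pow_mem_J le_rfl
      · have h := congrArg (incl n) hr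
        simp only [map_add, map_mul, map_pow, incl_evarE] at h
        rw [hk', show evar n 2 ^ 2 ^ b = incl n v ^ 2 - evar n 1 ^ n * incl n r by rw [h]; ring,
          show incl n v ^ 2 = xvar n ^ 2 + (xvar n - incl n v) ^ 2 by
            linear_combination (-(xvar n ^ 2) + xvar n * incl n v) * (two_eq_zero (Q := FreeE n))]
        exact Ideal.sub_mem _ (Ideal.add_mem _ (xvar_sq_mem_J _) (Ideal.pow_mem_of_mem _ hx _ (by omega)))
          (Ideal.mul_mem_right _ _ (evar_pow_mem_J le_rfl))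
      · have h := hrel_mem_J (n := n) n (j := j) (by omega) hjs
        rw [hrel, if_neg (by omega), if_pos ⟨h3, hjs⟩,
          Ideal.add_mem_iff_left _ (Ideal.mul_mem_right _ _ (evar_pow_mem_J (hbig j h3))),
          Ideal.add_mem_iff_left _ (evar_mul_xvar_mem_J _ (hexp j h3))] at h
        rwa [hkj j h3 hjs]

/-- Let n ≥ 2, s := n / 2 + 1, k_j the integer part of log_2((2n-1)/(2j-3)) for 2 ≤ j ≤ s, P := F_2[ε_1,
…, ε_s]/(ε_1^n, ε_2^(2^k_2), …, ε_s^(2^k_s)), τ the F_2-algebra involution of P fixing ε_1 and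
sending ε_j to ε_j + ε_1^(2j-3) (2 ≤ j ≤ s), and ē_1 := ε_1, ē_2 := ε_2^2 + ε_1ε_2, ē_j := ε_j +
ε_1^(2j-4)ε_2 (j ≥ 3), x̄ := ε_1^(n-1)ε_2; write 2^a for the exact power of 2 dividing n, l for the
integer with n = 2^a(2l-3), and k'_1 := a, k'_2 := the integer part of log_2 n, k'_j := the integer
part of log_2(2n/(2j-3)) for j ≥ 3. Suppose n = 2^a with a ≥ 1 (so ε_1^(2^a) = 0 in P) and let ψ :
F_2[e_1, …, e_s] → P be the algebra map with e_j ↦ ē_j. Then the range of ψ is the τ-fixed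
subalgebra P^τ and the kernel of ψ is the ideal generated by the powers e_j^(2^k'_j) for 1 ≤ j ≤ s
together with e_1 · Σ_{t < k'_2} e_1^(2^k'_2 - 2^(t+1)) e_2^(2^t). That is, P^τ ≅ F_2[e_1, …,
e_s]/(e_1^(2^k'_1), …, e_s^(2^k'_s), e_1 Σ_{t<k'_2} e_1^(2^k'_2 - 2^(t+1)) e_2^(2^t)) via ψ. -/
theorem result (n : ℕ) (hn : 2 ≤ n)
    (τ : QsChow.P n →ₐ[ZMod 2] QsChow.P n) (hτ1 : τ (QsChow.eps n 1) = QsChow.eps n 1)
    (hτ : ∀ j : ℕ, 2 ≤ j → j ≤ QsChow.numVars n →
      τ (QsChow.eps n j) = QsChow.eps n j + QsChow.eps n 1 ^ (2 * j - 3))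
    (b : ℕ) (hb : 1 ≤ b) (hnb : n = 2 ^ b) :
    (QsChow.psi n).range = AlgHom.equalizer τ (AlgHom.id (ZMod 2) (QsChow.P n)) ∧
      RingHom.ker (QsChow.psi n) = QsChow.powIdeal n := by
  have h : GrothLib.QsPn21.IsTau τ := ⟨hn, hτ1, hτ⟩
  obtain ⟨hx, h1, h2⟩ := key hn hb hnb
  constructor
  · rw [← h.range_phi]
    refine le_antisymm ?_ ?_
    · rintro _ ⟨q, rfl⟩
      exact ⟨GrothLib.QsPn21.incl n q, GrothLib.QsPn21.phi_incl q⟩
    · rintro _ ⟨p, rfl⟩
      have := GrothLib.QsPn21.presIdeal_le hn (GrothLib.QsPn21.sub_incl_subst_mem _ hx p)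
      rw [RingHom.mem_ker, map_sub, sub_eq_zero, GrothLib.QsPn21.phi_incl] at this
      exact ⟨_, this.symm⟩
  · refine Ideal.ext fun q => ?_
    rw [RingHom.mem_ker, ← GrothLib.QsPn21.phi_incl, ← RingHom.mem_ker, GrothLib.QsPn21.ker_phi hn]
    refine ⟨fun hq => ?_, fun hq => h2 hq⟩
    have := h1 hq
    rwa [Ideal.mem_comap, GrothLib.QsPn21.subst_incl] at this

end Groth.Agent.S17749
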