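import Groth.Statements.S17751
import Mathlib.RingTheory.Ideal.KrullsHeightTheorem

set_option autoImplicit false
universe u
open LocCoh

namespace Groth.Agent.S17751

/-- Suppose R is a Noetherian ring, r is a natural number, and I is an ideal of R. Then there are
elements f_1, …, f_r of I such that for every prime ideal p of R of height less than r, p contains I
if and only if p contains f_1, …, f_r. (For r = 0 there is nothing to prove.) -/
theorem result (R : Type u) [CommRing R] [IsNoetherianRing R] (I : Ideal R) (r : ℕ) : ∃ f : Fin r → R, (∀ i, f i ∈ I) ∧ ∀ (p : Ideal R) [p.IsPrime], p.height < r → (I ≤ p ↔ Ideal.span (Set.range f) ≤ p) := by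
  induction r with
  | zero => exact ⟨Fin.elim0, fun i => i.elim0, fun p _ h => absurd h (by simp)⟩
  | succ r ih =>
    obtain ⟨f, hf, hr⟩ := ih
    classical
    let S := {P ∈ (Ideal.span (Set.range f)).minimalPrimes | ¬ I ≤ P}
    have hfin : S.Finite := (Ideal.finite_minimalPrimes_of_isNoetherianRing R _).subset fun P h => h.1
    obtain ⟨g, hg, hgS⟩ : ∃ g ∈ I, ∀ P ∈ S, g ∉ P := by
      have hnot : ¬ (I : Set R) ⊆ ⋃ P ∈ (hfin.toFinset : Set (Ideal R)), (P : Set R) := fun h => by
        obtain ⟨P, hP, hle⟩ := (Ideal.subset_union_prime (f := fun P : Ideal R => P) ⊥ ⊥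
          fun P hP _ _ => (hfin.mem_toFinset.1 hP).1.1.1).1 h
        exact (hfin.mem_toFinset.1 hP).2 hle
      obtain ⟨g, hg, hg'⟩ := Set.not_subset.1 hnot
      exact ⟨g, hg, fun P hP h => hg' (Set.mem_biUnion (hfin.mem_toFinset.2 hP) h)⟩
    refine ⟨Fin.cons g f, Fin.cases hg hf, fun p hp hht => ⟨fun h => ?_, fun h => ?_⟩⟩
    · exact Ideal.span_le.2 (Set.range_subset_iff.2 fun i => h (Fin.cases hg hf i))
    · by_contra hI
      have hfp : Ideal.span (Set.range f) ≤ p := le_trans (Ideal.span_mono (by
        rintro _ ⟨i, rfl⟩; exact ⟨i.succ, by simp⟩)) h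
      have hgp : g ∈ p := h (Ideal.subset_span ⟨0, by simp⟩)
      obtain ⟨P, hP, hPp⟩ := Ideal.exists_minimalPrimes_le hfp
      have := hP.1.1
      have hPI : ¬ I ≤ P := fun h' => hI (h'.trans hPp)
      rcases hPp.eq_or_lt with rfl | hlt
      · exact hgS P ⟨hP, hPI⟩ hgp
      · have h1 := Ideal.height_add_one_le_of_lt_of_isPrime hlt
        have h2 : P.height < r := by
          have h3 : P.height + 1 < (r : ℕ∞) + 1 := lt_of_le_of_lt h1 (by exact_mod_cast hht)
          exact (WithTop.add_lt_add_iff_right ENat.one_ne_top).1 h3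
        exact hPI ((hr P h2).2 hP.1.2)

end Groth.Agent.S17751
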