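import Groth.Statements.S17753
import Groth.Agent.Lib.AraDim

set_option autoImplicit false
universe u
open LocCoh

namespace Groth.Agent.S17753

/-- Let R be a Noetherian local ring of Krull dimension d and I a proper ideal of R. Then there are d
elements f_1, …, f_d of I such that I and the ideal they generate have the same radical, so the
arithmetic rank of I is at most d. (The published statement has no properness hypothesis; for the
unit ideal of a field, d = 0 and no empty family generates the unit ideal up to radical, and the
published proof uses that the maximal ideal contains I.) -/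
theorem result (R : Type u) [CommRing R] [IsNoetherianRing R] [IsLocalRing R] (d : ℕ) (hd : ringKrullDim R = d) (I : Ideal R) (hI : I ≠ ⊤) : ∃ f : Fin d → R, (∀ i, f i ∈ I) ∧ I.radical = (Ideal.span (Set.range f)).radical := by
  obtain ⟨f, hf, hh⟩ := GrothLib.AraDim.exists_elements I d
  refine ⟨f, hf, GrothLib.AraDim.radical_eq hf fun p hp hle => ?_⟩
  by_contra hI
  haveI := hp
  have hne : p ≠ IsLocalRing.maximalIdeal R := fun h => hI (h ▸ IsLocalRing.le_maximalIdeal ‹I ≠ ⊤›)
  have hlt : p < IsLocalRing.maximalIdeal R :=
    lt_of_le_of_ne (IsLocalRing.le_maximalIdeal hp.ne_top) hne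
  have hm : (IsLocalRing.maximalIdeal R).height = (d : ℕ∞) := by
    have h := IsLocalRing.maximalIdeal_height_eq_ringKrullDim (R := R)
    rw [hd] at h
    exact WithBot.coe_inj.1 h
  have h2 := (add_le_add (hh p hp hle hI) le_rfl).trans
    ((Ideal.height_add_one_le_of_lt_of_isPrime hlt).trans hm.le)
  norm_cast at h2
  omega

end Groth.Agent.S17753
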