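import Groth.Statements.S17754
import Groth.Agent.Lib.AdicExtra.Local
-- import your own Groth.Agent.* helpers here

set_option autoImplicit false
universe u
open CAlg

namespace Groth.Agent.S17754

/-- Let R be a complete Noetherian local ring with maximal ideal m, and let I_0 ⊇ I_1 ⊇ I_2 ⊇ ⋯ be a
descending sequence of ideals of R whose intersection is zero. Then for every natural number n there
is an index s with I_s contained in m^n; that is, the filtration by the I_s is at least as fine as
the m-adic one. -/
theorem result (R : Type u) [CommRing R] [IsNoetherianRing R] [IsLocalRing R] [IsAdicComplete (IsLocalRing.maximalIdeal R) R] (I : ℕ → Ideal R) (hI : Antitone I) (hinf : ⨅ s, I s = ⊥) (n : ℕ) : ∃ s : ℕ, I s ≤ IsLocalRing.maximalIdeal R ^ n := by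
  exact GrothLib.AdicExtra.exists_le_maximalIdeal_pow I hI hinf n

end Groth.Agent.S17754
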