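import Groth.Statements.S17756
import Groth.Agent.Lib.InjMod.Matlis
import Mathlib.Algebra.Module.SpanRankOperations

set_option autoImplicit false
universe u
open Matlis

namespace Groth.Agent.S17756

/-- Let R be a Noetherian local ring with maximal ideal m and residue field k, E an injective hull of k,
and M a finitely generated R-module with Matlis dual M^v = Hom_R(M, E). Then the minimal number of
generators of M equals the k-dimension of the socle of M^v, the submodule of elements of M^v killed
by m (stated as its length as an R-module). -/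
theorem result (R : Type u) [CommRing R] [IsNoetherianRing R] [IsLocalRing R] (E : Type u) [AddCommGroup E] [Module R E] (f : IsLocalRing.ResidueField R →ₗ[R] E) (hf : InjHull.IsInjectiveHull f) (M : Type u) [AddCommGroup M] [Module R M] [Module.Finite R M] : ((⊤ : Submodule R M).spanFinrank : ℕ∞) = Module.length R (LocCoh.torsionBy (IsLocalRing.maximalIdeal R) (M →ₗ[R] E)) := by
    let Q := M ⧸ (IsLocalRing.maximalIdeal R) • (⊤ : Submodule R M)
    let e : (Q →ₗ[R] E) ≃ₗ[R] LocCoh.torsionBy (IsLocalRing.maximalIdeal R) (M →ₗ[R] E) :=
      { toFun := fun ψ => ⟨ψ ∘ₗ Submodule.mkQ _, (Submodule.mem_torsionBySet_iff _ _).2 fun a =>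
          LinearMap.ext fun x => by
            show (a : R) • ψ (Submodule.Quotient.mk x) = 0
            rw [← map_smul, ← Submodule.Quotient.mk_smul,
              (Submodule.Quotient.mk_eq_zero _).2 (Submodule.smul_mem_smul a.2 Submodule.mem_top), map_zero]⟩
        map_add' := fun _ _ => rfl
        map_smul' := fun _ _ => rfl
        invFun := fun φ => Submodule.liftQ _ φ.1 (Submodule.smul_le.2 fun a ha x _ => LinearMap.mem_ker.2 (by
          rw [map_smul]
          exact LinearMap.congr_fun ((Submodule.mem_torsionBySet_iff _ _).1 φ.2 ⟨a, ha⟩) x))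
        left_inv := fun ψ => Submodule.linearMap_qext _ rfl
        right_inv := fun φ => Subtype.ext rfl }
    letI : Field (R ⧸ IsLocalRing.maximalIdeal R) := Ideal.Quotient.field _
    haveI : Module.Finite (R ⧸ IsLocalRing.maximalIdeal R) Q := Module.Finite.of_restrictScalars_finite R _ _
    have hlen : Module.length R Q = Module.finrank (R ⧸ IsLocalRing.maximalIdeal R) Q := by
      rw [← Module.length_eq_finrank]
      exact Module.length_eq_of_surjective Ideal.Quotient.mk_surjective
    have hfl : IsFiniteLength R Q := Module.length_ne_top_iff.1 (by rw [hlen]; exact ENat.coe_ne_top _)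
    rw [← e.length_eq, GrothLib.Matlis.length_linearMap hf hfl, hlen, Nat.cast_inj,
      IsLocalRing.spanFinrank_eq_finrank_quotient ⊤ Module.Finite.fg_top]
    let σ : Q ≃ₗ[R] ((⊤ : Submodule R M) ⧸ (IsLocalRing.maximalIdeal R) • (⊤ : Submodule R (⊤ : Submodule R M))) :=
      Submodule.Quotient.equiv _ _ Submodule.topEquiv.symm (by rw [Submodule.map_smul'', Submodule.map_top, LinearEquiv.range])
    exact (σ.extendScalarsOfSurjective Ideal.Quotient.mk_surjective).finrank_eq.symm

end Groth.Agent.S17756
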