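import Groth.Statements.S17758
import Groth.Agent.Lib.HLVT.Ara
import Groth.Agent.S11667

set_option autoImplicit false
universe u
open LocCoh

namespace Groth.Agent.S17758

/-- Let R be a complete Noetherian local domain of Krull dimension d with maximal ideal m, and I a
proper ideal of R of arithmetic rank at most d − 2: there are elements f_1, …, f_t with t + 2 ≤ d
such that I and (f_1, …, f_t) have the same radical. Then the punctured spectrum of R ⧸ I, viewed as
the set of prime ideals of R that contain I and differ from m, is a nonempty connected subset of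
Spec R. (Connectedness is taken here to include nonemptiness, so the unit ideal, whose punctured
spectrum is empty, is excluded; for a proper I nonemptiness is automatic, since otherwise I would be
m-primary and m would be minimal over an ideal generated by t ≤ d − 2 elements, against Krull's
height bound.) -/
theorem result (R : Type u) [CommRing R] [IsDomain R] [IsNoetherianRing R] [IsLocalRing R] [IsAdicComplete (IsLocalRing.maximalIdeal R) R] (d : ℕ) (hd : ringKrullDim R = d) (t : ℕ) (ht : t + 2 ≤ d) (f : Fin t → R) (I : Ideal R) (hItop : I ≠ ⊤) (hI : I.radical = (Ideal.span (Set.range f)).radical) : IsConnected {x : PrimeSpectrum R | I ≤ x.asIdeal ∧ x.asIdeal ≠ IsLocalRing.maximalIdeal R} := by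
  classical
  set S : Set (PrimeSpectrum R) := {x : PrimeSpectrum R | I ≤ x.asIdeal ∧ x.asIdeal ≠ IsLocalRing.maximalIdeal R} with hS
  have hX := GrothLib.HLVT.min_connDim_subdim_le_ara I hItop (Finset.univ.image f)
    (by rw [Finset.coe_image, Finset.coe_univ, Set.image_univ]; exact hI.symm)
  have hfin : topologicalKrullDim (PrimeSpectrum R) < ⊤ := by
    rw [PrimeSpectrum.topologicalKrullDim_eq_ringKrullDim, hd]
    exact WithBot.coe_lt_coe.2 (ENat.natCast_lt_top d)
  have hsub : (d : WithBot ℕ∞) ≤ LocCoh.subdim (PrimeSpectrum R) := by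
    refine le_iInf₂ fun Z hZ => ?_
    rw [irreducibleComponents_eq_singleton] at hZ
    rw [Set.mem_singleton_iff.1 hZ, GrothLib.ConnDim.dim_univ, PrimeSpectrum.topologicalKrullDim_eq_ringKrullDim, hd]
  have hc : LocCoh.connDim (PrimeSpectrum R) = LocCoh.subdim (PrimeSpectrum R) :=
    (Groth.Agent.S11667.result (PrimeSpectrum R) hfin).2.2 inferInstance
  rw [hc] at hX
  have hdle : (d : WithBot ℕ∞) ≤ LocCoh.connDim (PrimeSpectrum (R ⧸ I)) + ((t + 1 : ℕ) : WithBot ℕ∞) := by
    refine ((le_min (hsub.trans (le_add_of_nonneg_right zero_le_one)) hsub).trans hX).trans ?_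
    push_cast
    rw [← add_assoc]
    exact add_le_add (add_le_add le_rfl (by exact_mod_cast Finset.card_image_le.trans (by simp))) le_rfl
  by_contra hcon
  have hnt : Nontrivial (R ⧸ I) := Ideal.Quotient.nontrivial_iff.2 hItop
  have : IsLocalRing (R ⧸ I) := IsLocalRing.of_surjective' (Ideal.Quotient.mk I) Ideal.Quotient.mk_surjective
  let ι := PrimeSpectrum.comap (Ideal.Quotient.mk I)
  have hι := PrimeSpectrum.isClosedEmbedding_comap_of_surjective (R ⧸ I) (Ideal.Quotient.mk I) Ideal.Quotient.mk_surjective
  let m' : PrimeSpectrum (R ⧸ I) := ⟨IsLocalRing.maximalIdeal (R ⧸ I), inferInstance⟩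
  have hm' : (ι m').asIdeal = IsLocalRing.maximalIdeal R :=
    IsLocalRing.eq_maximalIdeal (Ideal.comap_isMaximal_of_surjective (Ideal.Quotient.mk I) Ideal.Quotient.mk_surjective)
  have him : ι '' ({m'}ᶜ) = S := by
    ext x
    constructor
    · rintro ⟨y, hy, rfl⟩
      refine ⟨fun a ha => ?_, fun h => hy (hι.injective (PrimeSpectrum.ext (h.trans hm'.symm)))⟩
      show Ideal.Quotient.mk I a ∈ y.asIdeal
      rw [Ideal.Quotient.eq_zero_iff_mem.2 ha]
      exact zero_mem _
    · rintro ⟨hle, hne⟩
      obtain ⟨y, rfl⟩ : x ∈ Set.range ι := by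
        rw [range_comap_of_surjective _ _ Ideal.Quotient.mk_surjective, Ideal.mk_ker]
        exact hle
      exact ⟨y, fun h => hne (Set.mem_singleton_iff.1 h ▸ hm'), rfl⟩
  have h0 : LocCoh.connDim (PrimeSpectrum (R ⧸ I)) ≤ 0 := by
    have hclosed : IsClosed ({m'} : Set (PrimeSpectrum (R ⧸ I))) :=
      (PrimeSpectrum.isClosed_singleton_iff_isMaximal m').2 (IsLocalRing.maximalIdeal.isMaximal _)
    refine (iInf₂_le {m'} ⟨hclosed, fun h => hcon (him ▸ h.image ι hι.continuous.continuousOn)⟩).trans ?_
    have : Subsingleton (TopologicalSpace.IrreducibleCloseds ↥({m'} : Set (PrimeSpectrum (R ⧸ I)))) :=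
      ⟨fun a b => SetLike.coe_injective (Subsingleton.eq_univ_of_nonempty a.2.nonempty |>.trans (Subsingleton.eq_univ_of_nonempty b.2.nonempty).symm)⟩
    exact Order.krullDim_nonpos_of_subsingleton
  have := hdle.trans (add_le_add h0 le_rfl)
  rw [zero_add] at this
  have : d ≤ t + 1 := by exact_mod_cast this
  omega

end Groth.Agent.S17758
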