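import Groth.Statements.S17762
import Groth.Agent.Lib.CanonMod.AnnLoc

set_option autoImplicit false
universe u
open LocCoh

namespace Groth.Agent.S17762

/-- Let R be a Noetherian local ring with maximal ideal m which is a homomorphic image of a Gorenstein
local ring, M a finitely generated R-module, J an ideal of R and i a natural number. Then J is
contained in the radical of the annihilator of H^i_m(M) if and only if for every prime ideal p of R
not containing J, the local cohomology module H^j_{pR_p}(M_p) over R_p vanishes for the index j with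
j + dim(R ⧸ p) = i (no condition when i < dim(R ⧸ p)). -/
theorem result (R : Type u) [CommRing R] [IsNoetherianRing R] [IsLocalRing R] (R' : Type u) [CommRing R'] [LocCoh.IsGorensteinLocalRing R'] (g : R' →+* R) (hg : Function.Surjective g) (M : Type u) [AddCommGroup M] [Module R M] [Module.Finite R M] (J : Ideal R) (i : ℕ) : J ≤ (Module.annihilator R (LocCoh.H (IsLocalRing.maximalIdeal R) i M)).radical ↔ ∀ (p : Ideal R) [p.IsPrime], ¬ J ≤ p → ∀ j : ℕ, (j : WithBot ℕ∞) + ringKrullDim (R ⧸ p) = i → Subsingleton (LocCoh.H (IsLocalRing.maximalIdeal (Localization.AtPrime p)) j (LocalizedModule p.primeCompl M)) := by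
  letI := g.toAlgebra
  letI : Module R' M := Module.compHom M g
  haveI : IsScalarTower R' R M := IsScalarTower.of_algebraMap_smul fun _ _ => rfl
  obtain ⟨d, hd, -, -⟩ := GrothLib.Gor.exists_dim R'
  have hrad : J ≤ (Module.annihilator R (LocCoh.H (IsLocalRing.maximalIdeal R) i M)).radical ↔
      ∀ (p : Ideal R) [p.IsPrime], ¬ J ≤ p →
        ∃ r : R, r ∉ p ∧ ∀ x : LocCoh.H (IsLocalRing.maximalIdeal R) i M, r • x = 0 := by
    rw [Ideal.radical_eq_sInf, le_sInf_iff]
    refine ⟨fun h p hp hJ => ?_, fun h p hp => ?_⟩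
    · by_contra hcon
      push Not at hcon
      refine hJ (h p ⟨fun r hr => ?_, hp⟩)
      by_contra hrp
      obtain ⟨x, hx⟩ := hcon r hrp
      exact hx (Module.mem_annihilator.1 hr x)
    · haveI := hp.2
      by_contra hJ
      obtain ⟨r, hr, hk⟩ := h p hJ
      exact hr (hp.1 (Module.mem_annihilator.2 hk))
  rw [hrad]
  rcases le_or_gt i d with hi | hi
  · exact forall₃_congr fun p _ _ => GrothLib.CanonMod.exists_smul_H_eq_zero_iff (A := R') hg M hd i hi p
  have hdR : ringKrullDim R ≤ (d : WithBot ℕ∞) := hd ▸ ringKrullDim_le_of_surjective g hg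
  haveI : Subsingleton (LocCoh.H (IsLocalRing.maximalIdeal R) i M) :=
    GrothLib.LC.subsingleton_of_supportDim_lt i R _ M
      (((Module.supportDim_le_ringKrullDim R M).trans hdR).trans_lt (by exact_mod_cast hi))
  refine iff_of_true (fun p _ _ => ⟨1, ?_, fun x => Subsingleton.elim _ _⟩) fun p _ _ j hj => ?_
  · exact fun h => (Ideal.IsPrime.ne_top ‹p.IsPrime›) ((Ideal.eq_top_iff_one _).2 h)
  haveI : IsNoetherianRing (Localization.AtPrime p) := IsLocalization.isNoetherianRing p.primeCompl _ inferInstance
  refine GrothLib.LC.subsingleton_of_supportDim_lt j _ _ _ ((Module.supportDim_le_ringKrullDim _ _).trans_lt ?_)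
  rw [IsLocalization.AtPrime.ringKrullDim_eq_height p]
  by_contra hlt
  obtain ⟨t, ht⟩ := GrothLib.HLVT.exists_nat_ringKrullDim_quotient (I := p) (Ideal.IsPrime.ne_top ‹_›)
  have h1 := (GrothLib.HLVT.height_add_dim_quotient_le p).trans hdR
  have h2 := le_trans (add_le_add (not_lt.1 hlt) (le_refl (ringKrullDim (R ⧸ p)))) h1
  rw [hj] at h2
  exact absurd (by exact_mod_cast h2 : i ≤ d) (by omega)

end Groth.Agent.S17762
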