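import Groth.Statements.S17764
-- no helpers

set_option autoImplicit false
universe u
open InjHull

namespace Groth.Agent.S17764

/-- Let R be a commutative ring and M an R-module which is torsion-free (no nonzero element of R kills a
nonzero element of M) and divisible (multiplication by every nonzero element of R is surjective on
M). Then M is an injective R-module. (Over a ring with zero divisors the two hypotheses force M =
0.) -/
theorem result (R : Type u) [CommRing R] (M : Type u) [AddCommGroup M] [Module R M] [NoZeroSMulDivisors R M] (hdiv : ∀ r : R, r ≠ 0 → Function.Surjective (fun m : M => r • m)) : Module.Injective R M := by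
  apply Module.Baer.injective
  intro a g
  by_cases ha : ∀ r ∈ a, r = 0
  · refine ⟨0, fun r hr => ?_⟩
    rw [LinearMap.zero_apply, show (⟨r, hr⟩ : a) = 0 from Subtype.ext (ha r hr), map_zero]
  push Not at ha
  obtain ⟨a₀, ha₀, hne⟩ := ha
  obtain ⟨x, hx⟩ := hdiv a₀ hne (g ⟨a₀, ha₀⟩)
  refine ⟨LinearMap.toSpanSingleton R M x, fun r hr => ?_⟩
  simp only [LinearMap.toSpanSingleton_apply]
  refine sub_eq_zero.1 ((eq_zero_or_eq_zero_of_smul_eq_zero (?_ : a₀ • (r • x - g ⟨r, hr⟩) = 0)).resolve_left hne)
  rw [smul_sub, sub_eq_zero]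
  rw [smul_comm, show a₀ • x = g ⟨a₀, ha₀⟩ from hx, ← map_smul, ← map_smul]
  congr 1
  exact Subtype.ext (mul_comm r a₀)

end Groth.Agent.S17764
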