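import Groth.Statements.S17765
import Groth.Agent.Lib.Depth.CM
import Groth.Agent.Lib.Serre.Regular
import Mathlib.RingTheory.LocalProperties.ProjectiveDimension

set_option autoImplicit false
universe u
open CategoryTheory
open LocCoh

namespace Groth.Agent.S17765

/-- Let B be a regular local ring, M a finitely generated B-module and p an associated prime ideal of M.
Then the height of p is at most the projective dimension of M: for every n such that M has
projective dimension at most n, ht p ≤ n. -/
theorem result (B : Type u) [CommRing B] [IsRegularLocalRing B] (M : Type u) [AddCommGroup M] [Module B M] [Module.Finite B M] (p : Ideal B) (hp : p ∈ associatedPrimes B M) (n : ℕ) (hn : HasProjectiveDimensionLE (ModuleCat.of B M) n) : p.height ≤ n := by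
  haveI := hp.isPrime
  let Bp := Localization.AtPrime p
  haveI : IsRegularLocalRing Bp := GrothLib.Serre.isRegularLocalRing_localization B p Bp
  let Mp := LocalizedModule p.primeCompl M
  obtain ⟨d, hd⟩ : ∃ d : ℕ, ringKrullDim Bp = d :=
    ⟨_, (IsRegularLocalRing.spanFinrank_maximalIdeal (R := Bp)).symm⟩
  have hht : p.height = d := by
    have h := IsLocalization.AtPrime.ringKrullDim_eq_height p Bp
    rw [hd] at h
    exact_mod_cast h.symm
  rw [hht]
  by_contra hlt
  rw [Nat.cast_le, not_le] at hlt
  haveI := hn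
  haveI h1 := ModuleCat.localizedModule_hasProjectiveDimensionLE n p.primeCompl (ModuleCat.of B M)
  haveI h2 : HasProjectiveDimensionLE (ModuleCat.of Bp Mp) n :=
    ModuleCat.hasProjectiveDimensionLE_of_linearEquiv
      (M := (ModuleCat.of B M).localizedModule p.primeCompl) (N := ModuleCat.of Bp Mp)
      (Shrink.linearEquiv _ _) n
  haveI hE : Subsingleton (Abelian.Ext (ModuleCat.of Bp Mp) (ModuleCat.of Bp Bp) d) :=
    HasProjectiveDimensionLT.subsingleton _ (n + 1) d hlt _
  obtain ⟨-, f, hf⟩ := (isAssociatedPrime_iff_exists_injective_linearMap _ _).1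
    (Module.associatedPrimes.mem_associatedPrimes_atPrime_of_mem_associatedPrimes hp :
      IsLocalRing.maximalIdeal Bp ∈ associatedPrimes Bp Mp)
  let S : ShortComplex (ModuleCat.{u} Bp) := ShortComplex.mk (ModuleCat.ofHom f)
    (ModuleCat.ofHom (LinearMap.range f).mkQ) (ModuleCat.hom_ext (LinearMap.ext fun x =>
      (Submodule.Quotient.mk_eq_zero _).2 (LinearMap.mem_range_self f x)))
  have hS : S.ShortExact :=
    { exact := (ShortComplex.moduleCat_exact_iff _).2 fun x hx => (Submodule.Quotient.mk_eq_zero _).1 hx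
      mono_f := (ModuleCat.mono_iff_injective _).2 hf
      epi_g := (ModuleCat.epi_iff_surjective _).2 (Submodule.mkQ_surjective _) }
  haveI hQ : Subsingleton (Abelian.Ext S.X₃ (ModuleCat.of Bp Bp) (d + 1)) :=
    haveI h : HasProjectiveDimensionLT S.X₃ (d + 1) :=
      GrothLib.Serre.pdLE_of_isRegularLocalRing Bp d hd S.X₃
    HasProjectiveDimensionLT.subsingleton _ (d + 1) (d + 1) le_rfl _
  have hk : Subsingleton (Abelian.Ext S.X₁ (ModuleCat.of Bp Bp) d) :=
    subsingleton_of_forall_eq 0 fun e => by
      obtain ⟨y, hy⟩ := Abelian.Ext.contravariant_sequence_exact₁ hS (ModuleCat.of Bp Bp) e (add_comm 1 d)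
        (Subsingleton.elim _ _)
      rw [← hy, @Subsingleton.elim _ hE y 0, Abelian.Ext.comp_zero]
  obtain ⟨rs, hreg, hmem, hlen⟩ := GrothLib.CMFree.exists_weaklyRegular_of_isRegularLocalRing Bp
  have hlen' : rs.length = d := by rw [hd] at hlen; exact_mod_cast hlen
  have hsm : IsLocalRing.maximalIdeal Bp • (⊤ : Submodule Bp Bp) ≠ ⊤ :=
    GrothLib.Depth.smul_top_ne_top (IsLocalRing.maximalIdeal.isMaximal Bp).ne_top
  have hge : (d : ℕ∞) ≤ LocCoh.idealDepth (IsLocalRing.maximalIdeal Bp) Bp :=
    (GrothLib.Depth.le_idealDepth_iff_exists _ hsm d).2 ⟨rs, hlen', hmem, hreg⟩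
  have hge' : ((d + 1 : ℕ) : ℕ∞) ≤ LocCoh.idealDepth (IsLocalRing.maximalIdeal Bp) Bp := by
    refine (GrothLib.Depth.le_idealDepth_iff_ext _ _).2 fun i hi => ?_
    rcases Nat.lt_succ_iff_lt_or_eq.1 hi with hi | rfl
    · exact (GrothLib.Depth.le_idealDepth_iff_ext _ d).1 hge i hi
    · exact hk
  have h3 := (WithBot.coe_le_coe.2 hge').trans (GrothLib.Depth.depth_le_supportDim Bp Bp)
  rw [Module.supportDim_self_eq_ringKrullDim, hd] at h3
  exact Nat.not_succ_le_self d (by exact_mod_cast h3)

end Groth.Agent.S17765
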