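import Groth.Statements.S17766
import Groth.Agent.Lib.CanonMod.UnmixedIdeal
import Groth.Agent.Lib.GorFlat.Rings

set_option autoImplicit false
universe u
open CategoryTheory Opposite
open LocCoh

namespace Groth.Agent.S17766

/-- Let B be a regular local ring, p a prime ideal of B of height r, and suppose that A = B ⧸ p is
Cohen–Macaulay. Then the B-module Ext^r_B(A, B) is isomorphic either to A itself or to a proper
ideal I of A which is unmixed of height one, i.e. every associated prime of A ⧸ I has height one in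
A (existence of a B-linear isomorphism in each case). -/
theorem result (B : Type u) [CommRing B] [IsRegularLocalRing B] (p : Ideal B) [p.IsPrime] [LocCoh.IsCohenMacaulayLocalRing (B ⧸ p)] (r : ℕ) (hr : p.height = r) : Nonempty (((Ext B (ModuleCat.{u} B) r).obj (op (ModuleCat.of B (B ⧸ p)))).obj (ModuleCat.of B B) ≃ₗ[B] (B ⧸ p)) ∨ ∃ I : Ideal (B ⧸ p), I ≠ ⊤ ∧ (∀ q ∈ associatedPrimes (B ⧸ p) ((B ⧸ p) ⧸ I), q.height = 1) ∧ Nonempty (((Ext B (ModuleCat.{u} B) r).obj (op (ModuleCat.of B (B ⧸ p)))).obj (ModuleCat.of B B) ≃ₗ[B] I) := by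
  haveI := GrothLib.GorFlat.gorenstein_of_isRegularLocalRing B
  haveI := GrothLib.Gor.isCohenMacaulayLocalRing (A := B)
  obtain ⟨d, hd⟩ := GrothLib.GorFlat.exists_dim_nat B
  obtain ⟨n, hn⟩ := GrothLib.GorFlat.exists_dim_nat (B ⧸ p)
  have hsum := GrothLib.CanonMod.height_add_dim_quotient p (Ideal.IsPrime.ne_top ‹_›) hr hn hd
  obtain ⟨E, _, _, f, hf⟩ := GrothLib.InjMod.exists_injective_hull (R := B ⧸ p) (IsLocalRing.ResidueField (B ⧸ p))
  obtain ⟨K, hK, ⟨eK⟩, hext⟩ := GrothLib.CanonMod.exists_canonMod_ext B (B ⧸ p) Ideal.Quotient.mk_surjective n hn E f hf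
  haveI := hK
  obtain ⟨-, hx⟩ := hext d hd
  rw [show d - n = r by omega] at hx
  obtain ⟨e, he⟩ := hx
  letI : Module B K := Module.compHom K (algebraMap B (B ⧸ p))
  haveI : IsScalarTower B (B ⧸ p) K := IsScalarTower.of_algebraMap_smul fun _ _ => rfl
  let eB : K ≃ₗ[B] Abelian.Ext (ModuleCat.of B (B ⧸ p)) (ModuleCat.of B B) r := { e with map_smul' := he }
  let u := (GrothLib.LC.extEquiv (ModuleCat.of B (B ⧸ p)) (ModuleCat.of B B) r).trans eB.symm
  rcases GrothLib.CanonMod.exists_unmixed_ideal hn hf eK with ⟨⟨v⟩⟩ | ⟨I, hI, hass, ⟨v⟩⟩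
  · exact Or.inl ⟨u.trans (v.restrictScalars B)⟩
  · exact Or.inr ⟨I, hI, hass, ⟨u.trans (v.restrictScalars B)⟩⟩

end Groth.Agent.S17766
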