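import Groth.Statements.S1777
import Groth.Agent.Lib.DualCx22.Transfer

set_option autoImplicit false
universe u
open CategoryTheory
attribute [local instance] HasDerivedCategory.standard
open Dual

namespace Groth.Agent.S1777

/-- Let A → B be a flat local homomorphism of Noetherian local rings with m_A B = m_B and ω a normalized
dualizing complex for A. Assuming the derived base change functor D(A) → D(B) exists, the base
change of ω is a normalized dualizing complex for B. -/
theorem result (A B : Type u) [CommRing A] [CommRing B] [IsLocalRing A] [IsLocalRing B] [Algebra A B] [IsLocalHom (algebraMap A B)] [IsNoetherianRing A] [IsNoetherianRing B] [Module.Flat A B] (hm : (IsLocalRing.maximalIdeal A).map (algebraMap A B) = IsLocalRing.maximalIdeal B) [DRing.HasLBaseChange (algebraMap A B)] (ω : Dual.D A) (hω : Dual.IsDualizing A ω) (hn : Dual.IsNormalized A ω) : Dual.IsDualizing B ((DRing.LBaseChange (algebraMap A B)).obj ω) ∧ Dual.IsNormalized B ((DRing.LBaseChange (algebraMap A B)).obj ω) := by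
  haveI := hω.isNoetherianRing
  haveI := GrothLib.DR.preservesFiniteLimits_extendScalars (algebraMap A B) GrothLib.DR.flat_algebraMap
  obtain ⟨e⟩ := GrothLib.DualCx22.nonempty_lBase_iso_bcD (A := A) B
  obtain ⟨a, b, hab⟩ := hω.finite_injective_dimension
  have hres : ∀ (m : Ideal B) [m.IsMaximal] (i : ℤ), i ≠ 0 →
      Subsingleton (Dual.inD B (B ⧸ m) ⟶ ((GrothLib.DualCx22.bcD (A := A) B).obj ω)⟦i⟧) := by
    intro m hmax i hi
    obtain rfl := IsLocalRing.eq_maximalIdeal hmax
    exact GrothLib.DualCx22.subsingleton_residue_bcD B hω a b hab (IsLocalRing.maximalIdeal A) _ hm i (hn i hi)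
  refine ⟨GrothLib.DualCx22.isDualizing_of_iso (e.app ω).symm
    (GrothLib.DualCx22.isDualizing_bcD B hω 0 fun m _ i hi => hres m i (ne_of_gt hi)), fun i hi => ?_⟩
  haveI := hres (IsLocalRing.maximalIdeal B) i hi
  exact (((shiftFunctor (Dual.D B) i).mapIso (e.app ω)).homToEquiv
    (Z := Dual.inD B (B ⧸ IsLocalRing.maximalIdeal B))).subsingleton

end Groth.Agent.S1777
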