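import Groth.Statements.S17771
import Groth.Agent.Lib.GrLC.Radical
import Groth.Agent.Lib.GrLC.CM
import Groth.Agent.Lib.GrLC.Pos
import Groth.Agent.Lib.GrLC.Koszul

set_option autoImplicit false
universe u
open GrLC

namespace Groth.Agent.S17771

/-- Let R = ⊕_{n ≥ 0} R_n be a positively ℤ-graded ring which is standard graded (irrelevant ideal
generated by R_1), with R_0 Artinian, *local with unique homogeneous maximal ideal m, and
Cohen–Macaulay of Krull dimension d. Then the a-invariant of R is at least −d: the end (largest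
nonzero degree) of the graded local cohomology module H^d_m(R), computed from any *injective
resolution of R in the graded category, is ≥ −d. (Equality holds exactly for polynomial rings
R_0[T_1, …, T_d]; that characterisation is not part of this statement.) -/
theorem result (R : Type u) [CommRing R] [LocCoh.IsCohenMacaulayRing R] (𝒜 : ℤ → AddSubgroup R) [GradedRing 𝒜] (hpos : ∀ n : ℤ, n < 0 → 𝒜 n = ⊥) (hstd : Ideal.span (⋃ n ∈ Set.Ioi (0 : ℤ), (𝒜 n : Set R)) = Ideal.span ((𝒜 1 : AddSubgroup R) : Set R)) [IsArtinianRing (GrLC.deg0 𝒜)] (m : HomogeneousIdeal 𝒜) (hm : GrLC.IsStarLocal 𝒜 m) (d : ℕ) (hd : ringKrullDim R = d) (I : GrLC.StarInjRes 𝒜 𝒜) : (((-(d : ℤ) : ℤ) : WithTop ℤ) : WithBot (WithTop ℤ)) ≤ GrLC.endDeg (I.Hgr m d) := by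
  have hpos' : ∀ n : ℤ, n < 0 → ∀ r ∈ 𝒜 n, r = 0 := fun j hj r hr => by
    rw [hpos j hj] at hr; exact hr
  let a : HomogeneousIdeal 𝒜 := ⟨Ideal.span ((𝒜 1 : AddSubgroup R) : Set R),
    Ideal.homogeneous_span _ _ fun x hx => ⟨1, hx⟩⟩
  have ha : ∀ n : ℤ, 0 < n → ∀ r ∈ 𝒜 n, r ∈ a.toIdeal := fun j hj r hr =>
    hstd.le (Ideal.subset_span (Set.mem_iUnion₂.2 ⟨j, hj, hr⟩))
  have ham : a.toIdeal ≤ m.toIdeal :=
    Ideal.span_le.2 fun r hr => GrothLib.GrLC.pos_mem_of_isStarLocal hpos' hm 1 one_pos r hr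
  obtain ⟨l, he, hl⟩ := GrothLib.GrLC.exists_deg_one_list (𝒜 := 𝒜) (a := a) rfl
  obtain ⟨L, hL⟩ := GrothLib.GrLC.exists_hspan (𝒜 := 𝒜) (a := m)
  have hrad : (GrothLib.GrLC.hspan l).toIdeal.radical = (GrothLib.GrLC.hspan L).toIdeal.radical := by
    rw [hl, hL]; exact GrothLib.GrLC.radical_eq_of_isArtinian_deg0 hpos' hm ha ham
  by_contra hlt
  rw [not_le] at hlt
  have htop : ∀ g : ℤ, -(d : ℤ) ≤ g → I.Hcomp m d g = ⊥ := fun g hg => by
    rw [GrothLib.GrLC.Hcomp_eq_bot_iff_Hgr]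
    by_contra hne
    exact not_le.2 hlt ((WithBot.coe_le_coe.2 (WithTop.coe_le_coe.2 hg)).trans (GrothLib.GrLC.le_endDeg _ hne))
  have hall : ∀ (i : ℕ) (g : ℤ), -(i : ℤ) ≤ g →
      GrothLib.GrLC.Van l (GrothLib.GrLC.gmod 𝒜 𝒜) i g := by
    intro i g hg
    rw [GrothLib.GrLC.van_congr_radical hrad]
    refine (GrothLib.GrLC.Hcomp_eq_bot_iff_van I hL i g).1 ?_
    rcases lt_trichotomy i d with h | rfl | h
    · exact GrothLib.GrLC.Hcomp_eq_bot_of_lt_dim hpos' hm hd I h g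
    · exact htop g hg
    · refine GrothLib.GrLC.Hcomp_eq_bot_of_supportDim_lt I m ?_ g
      rw [Module.supportDim_self_eq_ringKrullDim, hd]
      exact_mod_cast h
  have h1 := GrothLib.GrLC.mem_smul_top_of_van (X := GrothLib.GrLC.gmod 𝒜 𝒜) (l := l) (e := 1) he a.toIdeal
    (fun y hy => hl.le (Ideal.subset_span ⟨y, hy, rfl⟩)) (g := -1)
    (hall 0 _ (by norm_num)) (fun j _ => hall (1 + j) _ (by simp only [nsmul_eq_mul, mul_one]; push_cast; omega))
    (m := (1 : R)) (show (1 : R) ∈ 𝒜 (-1 + 1) by rw [neg_add_cancel]; exact SetLike.GradedOne.one_mem)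
  replace h1 : (1 : R) ∈ a.toIdeal • (⊤ : Submodule R R) := h1
  rw [Ideal.smul_top_eq_map, Algebra.algebraMap_self, Ideal.map_id] at h1
  exact hm.1.1 (HomogeneousIdeal.toIdeal_injective (by
    rw [HomogeneousIdeal.toIdeal_top, Ideal.eq_top_iff_one]; exact ham h1))

end Groth.Agent.S17771
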