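import Groth.Statements.S17772
import Groth.Agent.Lib.GrLC.Serre27
import Groth.Agent.Lib.GrLC.CM
import Groth.Agent.Lib.GrLC.Degree

set_option autoImplicit false
universe u
open GrLC

namespace Groth.Agent.S17772

/-- Let R = ⊕_{n ≥ 0} R_n be a positively ℤ-graded ring which is standard graded (irrelevant ideal
generated by R_1), with R_0 Artinian, *local with unique homogeneous maximal ideal m, and
Cohen–Macaulay of Krull dimension d; let H_R(n) = ℓ_{R_0}(R_n) be its Hilbert function and P_R ∈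
ℚ[X] its Hilbert polynomial (a polynomial agreeing with H_R for all large n, taken as given). Then
the a-invariant of R, the largest degree in which H^d_m(R) is nonzero (computed from any *injective
resolution of R), equals the supremum of the integers n with P_R(n) ≠ H_R(n). (The published text
writes 'min' for this supremum; the set of such n is unbounded below whenever it is nonempty, e.g.
all n < 0 for a polynomial ring over a field, and the published one-line proof H_R(n) − P_R(n) =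
(−1)^d ℓ(H^d_m(R)_n) identifies the set with the nonzero degrees of H^d_m(R), whose largest element
is a(R).) -/
theorem result (R : Type u) [CommRing R] [LocCoh.IsCohenMacaulayRing R] (𝒜 : ℤ → AddSubgroup R) [GradedRing 𝒜] (hpos : ∀ n : ℤ, n < 0 → 𝒜 n = ⊥) (hstd : Ideal.span (⋃ n ∈ Set.Ioi (0 : ℤ), (𝒜 n : Set R)) = Ideal.span ((𝒜 1 : AddSubgroup R) : Set R)) [IsArtinianRing (GrLC.deg0 𝒜)] (m : HomogeneousIdeal 𝒜) (hm : GrLC.IsStarLocal 𝒜 m) (d : ℕ) (hd : ringKrullDim R = d) (I : GrLC.StarInjRes 𝒜 𝒜) (P : Polynomial ℚ) (hP : ∃ N : ℤ, ∀ n : ℤ, N ≤ n → P.eval (n : ℚ) = ((Module.length (GrLC.deg0 𝒜) (GrLC.comp 𝒜 𝒜 n)).toNat : ℚ)) : GrLC.endDeg (I.Hgr m d) = ⨆ (n : ℤ) (_ : P.eval (n : ℚ) ≠ ((Module.length (GrLC.deg0 𝒜) (GrLC.comp 𝒜 𝒜 n)).toNat : ℚ)), ((n : WithTop ℤ) : WithBot (WithTop ℤ)) := by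
  haveI : IsNoetherianRing R := inferInstance
  have hp : ∀ n : ℤ, n < 0 → ∀ r ∈ 𝒜 n, r = 0 := fun n hn r hr => by rw [hpos n hn] at hr; exact hr
  haveI : Module.Finite R R := inferInstance
  have key : ∀ n : ℤ, I.Hgr m d n ≠ ⊥ ↔
      P.eval (n : ℚ) ≠ ((Module.length (GrLC.deg0 𝒜) (GrLC.comp 𝒜 𝒜 n)).toNat : ℚ) := by
    intro n
    have h := GrothLib.GrLC.hilbert_sub_eq_sum (M := R) (ℳ := 𝒜) I hp hstd hm hd P hP n
    rw [Finset.sum_range_succ, Finset.sum_eq_zero (fun i hi => by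
      rw [GrothLib.GrLC.qlen_eq_zero (by
        rw [GrothLib.GrLC.Hcomp_eq_bot_of_lt_dim hp hm hd I (Finset.mem_range.1 hi) n]; infer_instance), mul_zero]),
      zero_add] at h
    haveI := GrothLib.GrLC.finite_Hcomp_starLocal I hp hstd hm d n
    rw [not_iff_not, ← GrothLib.GrLC.Hcomp_eq_bot_iff_Hgr, eq_comm (a := P.eval _)]
    refine Iff.trans ?_ sub_eq_zero
    change _ ↔ GrothLib.GrLC.qlen (GrLC.deg0 𝒜) (GrLC.comp 𝒜 𝒜 n) - P.eval (n : ℚ) = 0
    rw [h, mul_eq_zero, or_iff_right (pow_ne_zero _ (neg_ne_zero.2 one_ne_zero))]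
    constructor
    · intro h0
      exact GrothLib.GrLC.qlen_eq_zero (by rw [h0]; infer_instance)
    · intro h0
      rw [GrothLib.GrLC.qlen, Nat.cast_eq_zero, ENat.toNat_eq_zero] at h0
      exact Submodule.subsingleton_iff_eq_bot.1 (Module.length_eq_zero_iff.1 (h0.resolve_right Module.length_ne_top))
  simp only [GrLC.endDeg]
  exact iSup_congr fun n => iSup_congr_Prop (key n) fun _ => rfl

end Groth.Agent.S17772
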