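import Groth.Statements.S17773
import Groth.Agent.Lib.TorBal22.Basic


set_option autoImplicit false
universe u
open CategoryTheory CategoryTheory.Limits
open CAlg

namespace Groth.Agent.S17773

attribute [local instance] HasDerivedCategory.standard



/-- Let R be a commutative ring, M and N two R-modules, and F a flat resolution of M: a chain complex F
of flat R-modules concentrated in non-negative degrees together with a quasi-isomorphism from F to M
placed in degree 0. Then for every i ≥ 0 the i-th homology module of the complex F ⊗_R N is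
isomorphic to Tor_i^R(M, N), the i-th left derived functor of − ⊗_R N evaluated at M (existence of
an isomorphism of R-modules). -/
theorem result (R : Type u) [CommRing R] (M N : Type u) [AddCommGroup M] [Module R M] [AddCommGroup N] [Module R N] (F : ChainComplex (ModuleCat.{u} R) ℕ) (hF : ∀ i : ℕ, Module.Flat R (F.X i)) (φ : F ⟶ (ChainComplex.single₀ (ModuleCat.{u} R)).obj (ModuleCat.of R M)) [QuasiIso φ] (i : ℕ) : Nonempty ((((MonoidalCategory.tensorRight (ModuleCat.of R N)).mapHomologicalComplex (ComplexShape.down ℕ)).obj F).homology i ≅ ((Tor' (ModuleCat.{u} R) i).obj (ModuleCat.of R M)).obj (ModuleCat.of R N)) := by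
  let M' := ModuleCat.of R M
  let N' := ModuleCat.of R N
  let Pc : DRing.Cx R := F.extend ComplexShape.embeddingDownNat
  let q : Pc ⟶ (HomologicalComplex.single (ModuleCat.{u} R) (ComplexShape.up ℤ) 0).obj M' :=
    (ComplexShape.embeddingDownNat.extendFunctor _).map φ ≫
      (HomologicalComplex.extendSingleIso _ _ _ _ (by simp)).hom
  have hq' : QuasiIso ((ComplexShape.embeddingDownNat.extendFunctor (ModuleCat.{u} R)).map φ) :=
    (HomologicalComplex.quasiIso_extendMap_iff φ ComplexShape.embeddingDownNat).2 inferInstance
  let e₀ := HomologicalComplex.extendSingleIso ComplexShape.embeddingDownNat M' (0 : ℕ) (0 : ℤ) (by simp)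
  have he₀ : QuasiIso e₀.hom := inferInstance
  have hq : QuasiIso q := @quasiIso_comp _ _ _ _ _ _ _ _ _ _ _ _ _ hq' he₀
  have hflat : DRing.TermwiseFlat Pc := fun n => by
    by_cases hn : n ≤ 0
    · obtain ⟨k, rfl⟩ := Int.exists_eq_neg_ofNat hn
      have := hF k
      exact Module.Flat.of_linearEquiv (HomologicalComplex.extendXIso F ComplexShape.embeddingDownNat
        (show ComplexShape.embeddingDownNat.f k = -(k : ℤ) from rfl)).toLinearEquiv
    · have : Subsingleton (Pc.X n) := ModuleCat.subsingleton_of_isZero
        (F.isZero_extend_X ComplexShape.embeddingDownNat n (fun k hk => hn (by simp at hk; omega)))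
      infer_instance
  have hle : DRing.VanishesAbove Pc 0 := fun n hn =>
    F.isZero_extend_X ComplexShape.embeddingDownNat n (fun k hk => by simp at hk; omega)
  let P := CategoryTheory.projectiveResolution M'
  let Q := CategoryTheory.projectiveResolution N'
  have hK := GrothLib.KF.isKFlat_of_vanishesAbove hle hflat
  obtain ⟨e₁⟩ := @GrothLib.TorBal22.nonempty_homology_swap _ _ Pc Q.cochainComplex M' N' q Q.π'
    hq (inferInstanceAs (QuasiIso Q.π')) hK (GrothLib.KF.isKFlat_cochainComplex Q) (-(i : ℤ))
  obtain ⟨e₂⟩ := @GrothLib.TorBal22.nonempty_homology_swap _ _ P.cochainComplex Q.cochainComplex M' N' P.π' Q.π'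
    (inferInstanceAs (QuasiIso P.π')) (inferInstanceAs (QuasiIso Q.π'))
    (GrothLib.KF.isKFlat_cochainComplex P) (GrothLib.KF.isKFlat_cochainComplex Q) (-(i : ℤ))
  let h₁ : (((MonoidalCategory.tensorRight N').mapHomologicalComplex (ComplexShape.down ℕ)).obj F).homology i ≅
      (DRing.tensorCx Pc N').homology (-(i : ℤ)) :=
    (HomologicalComplex.extendHomologyIso (((MonoidalCategory.tensorRight N').mapHomologicalComplex (ComplexShape.down ℕ)).obj F)
      ComplexShape.embeddingDownNat (j := i) (j' := -(i : ℤ)) rfl).symm ≪≫
      HomologicalComplex.homologyMapIso (GrothLib.TorBal22.mapExtendIso (MonoidalCategory.tensorRight N') F ComplexShape.embeddingDownNat).symm (-(i : ℤ))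
  exact ⟨h₁ ≪≫ e₁ ≪≫ e₂.symm ≪≫ (GrothLib.TorBal22.homologyTensorIso P N' i).symm ≪≫
    (P.isoLeftDerivedObj (MonoidalCategory.tensorRight N') i).symm⟩

end Groth.Agent.S17773
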