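import Groth.Statements.S17774
import Groth.Agent.Lib.CanonMod.CM
import Groth.Agent.Lib.Gor.Hull
import Groth.Agent.Lib.Gor.Basic
import Groth.Agent.Lib.InjMod.Essential

set_option autoImplicit false
universe u
open CategoryTheory Opposite
open LocCoh

namespace Groth.Agent.S17774

/-- Let (S, n) be a Gorenstein local ring, I an ideal of S of height g such that R = S ⧸ I is a
Cohen–Macaulay local ring, of Krull dimension d, and E an injective hull of the residue field of S.
Then the canonical module of R is Ext^g_S(R, S), in the following sense: the Matlis dual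
Hom_S(Ext^g_S(R, S), E) is isomorphic as an S-module to the top local cohomology H^d_n(R) of R
regarded as an S-module (existence of an S-linear isomorphism; Hom into E over S and local
cohomology with support in n agree with the corresponding notions over R for R-modules). -/
theorem result (S : Type u) [CommRing S] [LocCoh.IsGorensteinLocalRing S] (I : Ideal S) (g : ℕ) (hg : I.height = g) [LocCoh.IsCohenMacaulayLocalRing (S ⧸ I)] (d : ℕ) (hd : ringKrullDim (S ⧸ I) = d) (E : Type u) [AddCommGroup E] [Module S E] (f : IsLocalRing.ResidueField S →ₗ[S] E) (hf : InjHull.IsInjectiveHull f) : Nonempty ((((Ext S (ModuleCat.{u} S) g).obj (op (ModuleCat.of S (S ⧸ I)))).obj (ModuleCat.of S S) →ₗ[S] E) ≃ₗ[S] LocCoh.H (IsLocalRing.maximalIdeal S) d (S ⧸ I)) := by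
  haveI := GrothLib.Gor.isCohenMacaulayLocalRing (A := S)
  obtain ⟨n, hn⟩ : ∃ n : ℕ, ringKrullDim S = n := by
    obtain ⟨m, hm, -, -⟩ := GrothLib.Gor.exists_dim S
    exact ⟨m, hm⟩
  have hI : I ≠ ⊤ := fun h => by
    have : Subsingleton (S ⧸ I) := Ideal.Quotient.subsingleton_iff.2 h
    exact not_nontrivial (S ⧸ I) inferInstance
  have hgd := GrothLib.CanonMod.height_add_dim_quotient I hI hg hd hn
  obtain ⟨f', hf'⟩ := GrothLib.Gor.exists_isInjectiveHull S hn
  obtain ⟨e, -⟩ := GrothLib.InjMod.hull_unique hf hf'
  obtain ⟨e'⟩ := GrothLib.CanonMod.local_duality (K := S) hn hf (GrothLib.CanonMod.cm_le_idealDepth hn)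
    ((LinearMap.ringLmapEquivSelf S S E).trans e) g (ModuleCat.of S (S ⧸ I)) (by omega)
  rw [show d = n - g by omega]
  exact ⟨((LinearEquiv.congrLeft E S
    (GrothLib.LC.extEquiv (ModuleCat.of S (S ⧸ I)) (ModuleCat.of S S) g)).trans e'.symm)⟩

end Groth.Agent.S17774
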