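import Groth.Statements.S17775
import Groth.Agent.Lib.CechHull29.Main

set_option autoImplicit false
universe u
open BigOperators
open Goren

namespace Groth.Agent.S17775

/-- Let R be a Gorenstein local ring of Krull dimension d with maximal ideal m and residue field k, and
let x_1, …, x_d be a system of parameters of R, i.e. d elements generating an ideal whose radical is
m. Put t = x_1 ⋯ x_d. Then the R-module R_t ⧸ Σ_i R_{x_1⋯x̂_i⋯x_d}, realised as the quotient of the
localization R_t by the R-submodule spanned by the fractions x_i^n / t^n (i = 1, …, d, n ≥ 0), is an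
injective hull of k: some R-linear map from k into it is an injective hull. -/
theorem result (R : Type u) [CommRing R] [LocCoh.IsGorensteinLocalRing R] (d : ℕ) (hd : ringKrullDim R = d) (x : Fin d → R) (hx : (Ideal.span (Set.range x)).radical = IsLocalRing.maximalIdeal R) : ∃ f : IsLocalRing.ResidueField R →ₗ[R] (Localization.Away (∏ i, x i) ⧸ Submodule.span R {y : Localization.Away (∏ i, x i) | ∃ (i : Fin d) (n : ℕ), y = algebraMap R (Localization.Away (∏ i, x i)) (x i ^ n) * IsLocalization.Away.invSelf (∏ i, x i) ^ n}), InjHull.IsInjectiveHull f := by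
  obtain ⟨e⟩ := CechHull29.nonempty_equiv_H x (IsLocalRing.maximalIdeal R)
    (by rw [hx, (IsLocalRing.maximalIdeal.isMaximal R).isPrime.radical])
  obtain ⟨g, hg⟩ := GrothLib.Gor.exists_isInjectiveHull R hd
  refine ⟨e.symm.toLinearMap ∘ₗ g, ⟨⟨e.symm.injective.comp hg.injective, fun N hN h => ?_⟩, ?_⟩⟩
  · refine hg.essential (N.map e.toLinearMap) (fun h0 => hN ?_) ?_
    · exact Submodule.map_injective_of_injective e.injective (h0.trans (Submodule.map_bot _).symm)
    · rw [eq_bot_iff] at h ⊢
      rintro _ ⟨⟨y, hy, rfl⟩, k, hk⟩
      have : y = 0 := h ⟨hy, k, by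
        show e.symm (g k) = y
        rw [hk]
        exact e.symm_apply_apply y⟩
      rw [this]
      exact map_zero e.toLinearMap
  · haveI := hg.isInjective
    exact Module.Baer.injective (Module.Baer.of_equiv e.symm (Module.Baer.of_injective this))

end Groth.Agent.S17775
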