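import Groth.Statements.S17778
import Groth.Agent.Lib.ExtCech.Compare

set_option autoImplicit false
universe u
open CategoryTheory CategoryTheory.Limits
attribute [local instance] HasDerivedCategory.standard
open LocCoh

namespace Groth.Agent.S17778

/-- Let R be a Noetherian commutative ring, x_1, …, x_n a finite list of elements of R and E an
injective R-module. Then the cohomology of the extended Čech complex of E on x_1, …, x_n vanishes in
every positive degree. -/
theorem result (R : Type u) [CommRing R] [IsNoetherianRing R] (fs : List R) (E : Type u) [AddCommGroup E] [Module R E] [Module.Injective R E] (q : ℤ) (hq : 1 ≤ q) : IsZero (DerCA.extCechH fs (ModuleCat.of R E) q) := by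
  exact GrothLib.ExtCech.isZero_H_pos_of_injective (ModuleCat.of R E) fs q hq

end Groth.Agent.S17778
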