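import Groth.Statements.S17779
import Mathlib.Data.Nat.Choose.Sum
import Mathlib.Tactic.Ring
import Mathlib.Tactic.Push

set_option autoImplicit false
open DRR

namespace Groth.Agent.S17779

/-- For natural numbers n and k with k ≤ n + 1, the alternating sum over j = 0, …, n of (−1)^(n−j) C(n,
j) j^k (with the convention 0^0 = 1) equals n! · n(n+1)/2 when k = n + 1, equals n! when k = n, and
vanishes when k < n. (The published statement takes n ≥ 1 and divides through by n!; the case n = 0
holds as well and is included.) -/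
theorem result (n k : ℕ) (hk : k ≤ n + 1) :
    (∑ j ∈ Finset.range (n + 1), (-1 : ℤ) ^ (n - j) * (n.choose j : ℤ) * (j : ℤ) ^ k) =
      (if k = n + 1 then (((n + 1).choose 2 * n.factorial : ℕ) : ℤ)
        else if k = n then (n.factorial : ℤ) else 0) := by
  let T : ℕ → ℕ → ℤ := fun n k =>
    ∑ j ∈ Finset.range (n + 1), (-1 : ℤ) ^ (n - j) * (n.choose j : ℤ) * (j : ℤ) ^ k
  show T n k = _
  have hrec : ∀ n k, T (n + 1) (k + 1) = (n + 1 : ℤ) * ∑ l ∈ Finset.range (k + 1), (k.choose l : ℤ) * T n l := by
    intro n k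
    have e1 : T (n + 1) (k + 1) =
        ∑ i ∈ Finset.range (n + 1), (-1 : ℤ) ^ (n - i) * ((n + 1).choose (i + 1) * (i + 1 : ℕ) : ℕ) * ((i : ℤ) + 1) ^ k := by
      simp only [T]
      rw [Finset.sum_range_succ']
      simp only [Nat.cast_zero, ne_eq, Nat.succ_ne_zero, not_false_eq_true, zero_pow, mul_zero, add_zero]
      refine Finset.sum_congr rfl fun i _ => ?_
      rw [Nat.add_sub_add_right]
      push_cast
      ring
    have e2 : ∀ i : ℕ, ((i : ℤ) + 1) ^ k = ∑ l ∈ Finset.range (k + 1), (k.choose l : ℤ) * (i : ℤ) ^ l := by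
      intro i
      rw [add_pow]
      exact Finset.sum_congr rfl fun l _ => by ring
    rw [e1]
    simp only [T, Finset.mul_sum, e2]
    rw [Finset.sum_comm]
    refine Finset.sum_congr rfl fun l _ => Finset.sum_congr rfl fun i _ => ?_
    rw [← Nat.add_one_mul_choose_eq]
    push_cast
    ring
  have h0 : ∀ n, T n 0 = if n = 0 then 1 else 0 := by
    intro n
    simp only [T, pow_zero, mul_one]
    have e : ∀ j ∈ Finset.range (n + 1), (-1 : ℤ) ^ (n - j) * (n.choose j : ℤ) = (-1) ^ n * ((-1) ^ j * (n.choose j : ℤ)) := by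
      intro j hj
      rw [Finset.mem_range] at hj
      rw [← mul_assoc, ← pow_add, show n + j = (n - j) + 2 * j by omega, pow_add, pow_mul, neg_one_sq, one_pow, mul_one]
    rw [Finset.sum_congr rfl e, ← Finset.mul_sum, Int.alternating_sum_range_choose]
    split_ifs with h <;> simp [h]
  suffices main : ∀ n, (∀ k, k < n → T n k = 0) ∧ T n n = n.factorial ∧
      T n (n + 1) = ((n + 1).choose 2 * n.factorial : ℕ) by
    obtain ⟨hlt, heq, hsucc⟩ := main n
    split_ifs with a b
    · subst a; exact hsucc
    · subst b; exact heq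
    · exact hlt k (by omega)
  intro n
  induction n with
  | zero =>
    refine ⟨fun k hk => absurd hk (Nat.not_lt_zero k), ?_, ?_⟩
    · simp [T]
    · simp [T, Nat.choose_eq_zero_of_lt]
  | succ n ih =>
    obtain ⟨hlt, heq, hsucc⟩ := ih
    refine ⟨fun k hk => ?_, ?_, ?_⟩
    · rcases k with _ | k
      · simp [h0]
      · rw [hrec, Finset.sum_eq_zero fun l hl => ?_, mul_zero]
        rw [Finset.mem_range] at hl
        rw [hlt l (by omega), mul_zero]
    · rw [hrec, Finset.sum_eq_single_of_mem n (by simp) fun l hl hne => ?_]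
      · rw [Nat.choose_self, heq, Nat.factorial_succ]
        push_cast; ring
      · rw [Finset.mem_range] at hl
        rw [hlt l (by omega), mul_zero]
    · rw [hrec, Finset.sum_range_succ, Finset.sum_range_succ, Finset.sum_eq_zero fun l hl => ?_]
      · rw [Nat.choose_self, heq, hsucc, Nat.choose_succ_self_right, Nat.choose_succ_succ' (n + 1) 1,
          Nat.choose_one_right, Nat.factorial_succ]
        push_cast; ring
      · rw [Finset.mem_range] at hl
        rw [hlt l (by omega), mul_zero]

end Groth.Agent.S17779
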