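import Groth.Statements.S17780
import Groth.Agent.S17779
import Mathlib.Data.Nat.Choose.Basic
import Mathlib.Tactic.Ring

set_option autoImplicit false
universe u
open DRR

namespace Groth.Agent.S17780

/-- For x, y in a commutative ring and a natural number n, (n+1)! · x · y^n equals the sum over j = 0,
…, n of (−1)^(n−j) C(n, j) (x + j y)^(n+1), minus (n · (n+1)!/2) · y^(n+1). (The published identity
is stated in ℚ[x, y] with an overall factor 1/(n+1) and the coefficients C(n, j)(−1)^(n−j)/n!; it is
given here multiplied through by (n+1)!, which makes it an identity with integer coefficients valid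
in every commutative ring; n · (n+1)!/2 is an integer.) -/
theorem result (A : Type u) [CommRing A] (x y : A) (n : ℕ) :
    ((n + 1).factorial : A) * x * y ^ n =
      (∑ j ∈ Finset.range (n + 1), (-1 : A) ^ (n - j) * (n.choose j : A) * (x + (j : A) * y) ^ (n + 1))
        - ((n * (n + 1).factorial / 2 : ℕ) : A) * y ^ (n + 1) := by
  let T : ℕ → ℤ := fun k =>
    ∑ j ∈ Finset.range (n + 1), (-1 : ℤ) ^ (n - j) * (n.choose j : ℤ) * (j : ℤ) ^ k
  have hT : ∀ k ≤ n + 1, T k = if k = n + 1 then (((n + 1).choose 2 * n.factorial : ℕ) : ℤ)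
      else if k = n then (n.factorial : ℤ) else 0 := fun k hk => Groth.Agent.S17779.result n k hk
  have hexp : (∑ j ∈ Finset.range (n + 1), (-1 : A) ^ (n - j) * (n.choose j : A) * (x + (j : A) * y) ^ (n + 1)) =
      ∑ l ∈ Finset.range (n + 2), ((n + 1).choose l : A) * x ^ (n + 1 - l) * y ^ l * (T l : A) := by
    simp only [T, Int.cast_sum, Int.cast_mul, Int.cast_pow, Int.cast_neg, Int.cast_one, Int.cast_natCast,
      Finset.mul_sum]
    rw [Finset.sum_comm]
    refine Finset.sum_congr rfl fun j _ => ?_
    rw [add_comm x, add_pow, Finset.mul_sum]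
    refine Finset.sum_congr rfl fun l _ => ?_
    rw [mul_pow]
    ring
  have hdiv : n * (n + 1).factorial / 2 = (n + 1).choose 2 * n.factorial := by
    rw [Nat.choose_two_right, Nat.add_sub_cancel, Nat.factorial_succ]
    have h2 : 2 ∣ (n + 1) * n := by
      rw [mul_comm]; exact (Nat.even_mul_succ_self n).two_dvd
    obtain ⟨t, ht⟩ := h2
    rw [ht, Nat.mul_div_cancel_left _ (by omega), show n * ((n + 1) * n.factorial) = 2 * (t * n.factorial) by
      rw [← mul_assoc, mul_comm n, ht]; ring, Nat.mul_div_cancel_left _ (by omega)]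
  rw [hexp, hdiv, Finset.sum_range_succ, Finset.sum_range_succ, hT (n + 1) le_rfl, hT n (by omega),
    Finset.sum_eq_zero fun l hl => ?_]
  · rw [if_pos rfl, if_neg (by omega), if_pos rfl, Nat.choose_self, Nat.choose_succ_self_right,
      Nat.factorial_succ, Nat.sub_self, show n + 1 - n = 1 by omega]
    push_cast
    ring
  · rw [Finset.mem_range] at hl
    rw [hT l (by omega), if_neg (by omega), if_neg (by omega)]
    simp

end Groth.Agent.S17780
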