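import Mathlib

set_option autoImplicit false

namespace Groth.Agent.S17781

lemma alt_succ (d n : ℕ) (hd : 1 ≤ d) :
    (1 - (-1 : ℤ) ^ (n + 1) * ((d - 1).choose (n + 1) : ℤ)) =
      (1 - (-1 : ℤ) ^ n * ((d - 1).choose n : ℤ)) + (-1) ^ n * (d.choose (n + 1) : ℤ) := by
  obtain ⟨e, rfl⟩ := Nat.exists_eq_add_of_le hd
  rw [show 1 + e = e + 1 from add_comm 1 e, Nat.choose_succ_succ' e n, Nat.add_sub_cancel]
  push_cast
  ring

lemma not_dvd_choose {p : ℕ} (hp : p.Prime) : ∀ (a d : ℕ), 1 ≤ d → p ^ a ∣ d →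
    ¬ p ∣ (d - 1).choose (p ^ a - 1) := by
  intro a
  induction a with
  | zero => intro d _ _; simpa using hp.one_lt.ne'
  | succ a ih =>
    intro d hd hdvd
    haveI := Fact.mk hp
    have hp1 := hp.one_lt
    obtain ⟨e, rfl⟩ : p ∣ d := (dvd_pow_self p a.succ_ne_zero).trans hdvd
    have he : 1 ≤ e := by
      rcases Nat.eq_zero_or_pos e with rfl | h
      · simp at hd
      · exact h
    have h1 : p ^ a ∣ e := by
      rw [pow_succ', Nat.mul_dvd_mul_iff_left hp.pos] at hdvd
      exact hdvd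
    have hq : ∀ x : ℕ, 1 ≤ x → (p * x - 1) % p = p - 1 ∧ (p * x - 1) / p = x - 1 := by
      intro x hx
      have : p * x - 1 = (p - 1) + p * (x - 1) := by
        obtain ⟨y, rfl⟩ := Nat.exists_eq_add_of_le hx
        rw [Nat.add_sub_cancel_left, Nat.mul_add, Nat.mul_one]; omega
      rw [this]
      constructor
      · rw [Nat.add_mul_mod_self_left, Nat.mod_eq_of_lt (by omega)]
      · rw [Nat.add_mul_div_left _ _ hp.pos, Nat.div_eq_of_lt (by omega), zero_add]
    have hm := Choose.choose_modEq_choose_mod_mul_choose_div_nat (p := p) (n := p * e - 1)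
      (k := p ^ (a + 1) - 1)
    rw [pow_succ'] at hm ⊢
    rw [(hq e he).1, (hq e he).2, (hq _ (Nat.one_le_pow _ _ hp.pos)).1,
      (hq _ (Nat.one_le_pow _ _ hp.pos)).2, Nat.choose_self, one_mul] at hm
    rw [hm.dvd_iff dvd_rfl]
    exact ih e he h1


/-- Let d ≥ 1 and N ≥ 1 be integers and let I(d, N) be the greatest common divisor of the quotients d/δ
over the divisors δ of d with 1 ≤ δ ≤ N. Then I(d, N) equals the greatest common divisor of the
integers χ(d, n) = 1 − (−1)^n C(d − 1, n) for 1 ≤ n ≤ N (χ(d, n) is the Euler characteristic of O_H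
for a degree-d hypersurface H in projective n-space). Both greatest common divisors are taken in ℤ,
normalised to be non-negative. -/
theorem result (d N : ℕ) (hd : 1 ≤ d) (hN : 1 ≤ N) :
    (Finset.Icc 1 N).gcd (fun n => 1 - (-1 : ℤ) ^ n * ((d - 1).choose n : ℤ)) =
      ((Finset.Icc 1 N).filter (fun δ => δ ∣ d)).gcd (fun δ => ((d / δ : ℕ) : ℤ)) := by
  refine Int.dvd_antisymm (Int.nonneg_of_normalize_eq_self Finset.normalize_gcd)
    (Int.nonneg_of_normalize_eq_self Finset.normalize_gcd) ?_ ?_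
  · -- the left gcd divides every `d / δ`
    refine Finset.dvd_gcd fun δ hδ => ?_
    set G := (Finset.Icc 1 N).gcd (fun n => 1 - (-1 : ℤ) ^ n * ((d - 1).choose n : ℤ))
    have hC : ∀ n, 1 ≤ n → n ≤ N → G ∣ (d.choose n : ℤ) := by
      intro n h1 h2
      obtain ⟨m, rfl⟩ := Nat.exists_eq_add_of_le h1
      rw [add_comm] at h2 ⊢
      have ha : ∀ j, j ≤ N → G ∣ 1 - (-1 : ℤ) ^ j * ((d - 1).choose j : ℤ) := by
        intro j hj
        rcases Nat.eq_zero_or_pos j with rfl | h
        · simp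
        · exact Finset.gcd_dvd (Finset.mem_Icc.2 ⟨h, hj⟩)
      have := dvd_sub (ha _ h2) (ha m (by omega))
      rw [alt_succ d m hd, add_sub_cancel_left] at this
      exact (IsUnit.dvd_mul_left ((isUnit_one.neg).pow m)).1 this
    simp only [Finset.mem_filter, Finset.mem_Icc] at hδ
    obtain ⟨⟨hδ1, hδN⟩, hδd⟩ := hδ
    rw [← Int.natAbs_dvd_natAbs, Int.natAbs_natCast]
    have hGd : G.natAbs ∣ d := by
      have := Int.natAbs_dvd_natAbs.2 (hC 1 le_rfl hN)
      simpa using this
    have hG0 : G.natAbs ≠ 0 := fun h => by simp [h] at hGd; omega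
    have hq0 : d / δ ≠ 0 := (Nat.div_pos (Nat.le_of_dvd hd hδd) hδ1).ne'
    rw [← Nat.factorization_le_iff_dvd hG0 hq0]
    intro p
    rw [Nat.factorization_div hδd, Finsupp.tsub_apply]
    by_cases hp : p.Prime
    swap
    · simp [Nat.factorization_eq_zero_of_not_prime _ hp]
    set a := δ.factorization p
    have hpa : p ^ a ∣ δ := Nat.ordProj_dvd δ p
    have hpN : p ^ a ≤ N := (Nat.le_of_dvd hδ1 hpa).trans hδN
    have hp1 : 1 ≤ p ^ a := Nat.one_le_pow _ _ hp.pos
    have hC' := Int.natAbs_dvd_natAbs.2 (hC (p ^ a) hp1 hpN)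
    rw [Int.natAbs_natCast] at hC'
    have hc0 : d.choose (p ^ a) ≠ 0 :=
      (Nat.choose_pos (Nat.le_of_dvd hd (hpa.trans hδd))).ne'
    have hid : d * (d - 1).choose (p ^ a - 1) = d.choose (p ^ a) * p ^ a := by
      have := Nat.add_one_mul_choose_eq (d - 1) (p ^ a - 1)
      rwa [Nat.sub_add_cancel hd, Nat.sub_add_cancel hp1] at this
    have hc1 : (d - 1).choose (p ^ a - 1) ≠ 0 := fun h => by
      rw [h, mul_zero] at hid
      exact mul_ne_zero hc0 (by omega : p ^ a ≠ 0) hid.symm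
    have hv := congrArg (fun x => x.factorization p) hid
    simp only [Nat.factorization_mul (by omega : d ≠ 0) hc1, Nat.factorization_mul hc0 (by omega : p ^ a ≠ 0),
      Finsupp.add_apply, Nat.factorization_eq_zero_of_not_dvd (not_dvd_choose hp a d hd (hpa.trans hδd)),
      hp.factorization_pow, Finsupp.single_eq_same, add_zero] at hv
    have := (Nat.factorization_le_iff_dvd hG0 hc0).2 hC' p
    omega
  · -- the right gcd divides every term
    refine Finset.dvd_gcd fun n hn => ?_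
    rw [Finset.mem_Icc] at hn
    set R := ((Finset.Icc 1 N).filter (fun δ => δ ∣ d)).gcd (fun δ => ((d / δ : ℕ) : ℤ))
    have hC : ∀ m, 1 ≤ m → m ≤ N → R ∣ (d.choose m : ℤ) := by
      intro m h1 h2
      have hg : 0 < d.gcd m := Nat.gcd_pos_of_pos_right _ h1
      have hR : R ∣ ((d / d.gcd m : ℕ) : ℤ) := Finset.gcd_dvd (Finset.mem_filter.2 ⟨Finset.mem_Icc.2
        ⟨hg, (Nat.le_of_dvd h1 (Nat.gcd_dvd_right d m)).trans h2⟩, Nat.gcd_dvd_left d m⟩)
      refine hR.trans (Int.natCast_dvd_natCast.2 ?_)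
      have hid : d * (d - 1).choose (m - 1) = d.choose m * m := by
        have := Nat.add_one_mul_choose_eq (d - 1) (m - 1)
        rwa [Nat.sub_add_cancel hd, Nat.sub_add_cancel h1] at this
      refine (Nat.coprime_div_gcd_div_gcd hg).dvd_of_dvd_mul_right ?_
      refine Dvd.intro ((d - 1).choose (m - 1)) (Nat.eq_of_mul_eq_mul_left hg ?_)
      calc d.gcd m * (d / d.gcd m * (d - 1).choose (m - 1))
          = (d.gcd m * (d / d.gcd m)) * (d - 1).choose (m - 1) := (mul_assoc _ _ _).symm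
        _ = d * (d - 1).choose (m - 1) := by rw [Nat.mul_div_cancel' (Nat.gcd_dvd_left d m)]
        _ = d.choose m * (d.gcd m * (m / d.gcd m)) := by
          rw [hid, Nat.mul_div_cancel' (Nat.gcd_dvd_right d m)]
        _ = d.gcd m * (d.choose m * (m / d.gcd m)) := by ring
    obtain ⟨-, hn⟩ := hn
    induction n with
    | zero => simp
    | succ m ih =>
      rw [alt_succ d m hd]
      exact dvd_add (ih (by omega)) (dvd_mul_of_dvd_right (hC _ (by omega) hn) _)

end Groth.Agent.S17781
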