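import Groth.Statements.S17783
import Groth.Agent.Lib.MultFib5.Main
-- import your own Groth.Agent.* helpers here

set_option autoImplicit false
universe u
open CategoryTheory CategoryTheory.Limits AlgebraicGeometry
open Variety

namespace Groth.Agent.S17783

/-- Let R be a discrete valuation ring with fraction field K, let 𝒳 be a normal scheme, proper and flat
over Spec R, with generic fibre the K-scheme X, and let m ≥ 1 be an integer such that the special
fibre of 𝒳 is m times an effective Cartier divisor D, i.e. the ideal sheaf 𝔪_R · O_𝒳 of the special
fibre is the m-th power of the ideal sheaf of D. Then m divides the Euler characteristic χ(X, O_X).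
(The published statement asks only that the special fibre be divisible by m as a Cartier divisor and
deduces from normality that the quotient divisor is effective; the divisor is taken effective here.) -/
theorem result (R : Type u) [CommRing R] [IsDomain R]
    [IsDiscreteValuationRing R] (𝒳 : Scheme.{u}) (p : 𝒳 ⟶ Spec (CommRingCat.of R)) [IsProper p] [Flat p]
    (hn : Pi1.IsNormalScheme 𝒳) (X : Scheme.{u}) [X.Over (Spec (CommRingCat.of (FractionRing R)))]
    (hX : Models.IsModel R 𝒳 p X (X ↘ Spec (CommRingCat.of (FractionRing R)))) (m : ℕ) (hm : 1 ≤ m)
    (I : 𝒳.IdealSheafData) (hI : BlowUp.IsEffCartierIdeal I)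
    (hIm : I ^ m = Models.specialFibreIdeal R (Over.mk p)) :
    (m : ℤ) ∣ Curv2.euler (FractionRing R) X (Coh.structureModule X) := by
  obtain ⟨-, -, -, g, H⟩ := hX
  exact GrothLib.MultFib5.dvd_euler p (X ↘ Spec (CommRingCat.of (FractionRing R))) g H hm I hI hIm

end Groth.Agent.S17783
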