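import Groth.Statements.S19920
import Groth.Agent.Lib.ArSurf29.IndexCore
import Groth.Agent.Lib.ArSurf29.SmoothFibre
import Groth.Agent.Lib.CycBasic.Push
import Groth.Agent.Lib.QsChow21.Point

set_option autoImplicit false
universe u
open CategoryTheory CategoryTheory.Limits AlgebraicGeometry
open Models

namespace Groth.Agent.S19920

/-- Let R be a discrete valuation ring that is Henselian, whose residue field k is algebraically closed,
with fraction field K, and let 𝒳 be an R-scheme of finite type, flat over R, whose generic fibre is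
X (𝒳 is a model of the K-scheme X) and special fibre Y = 𝒳 ⊗_R k. Then the index of X over K (the
greatest common divisor of the degrees of its closed points) divides the multiplicity of Y (the
greatest common divisor of the lengths of the local rings of Y at its points of codimension 0): for
every point η of Y which is maximal for specialization, the local ring O_{Y,η} has finite length ℓ
and ℓ lies in the subgroup of ℤ generated by the degrees of the closed points of X. -/
theorem result (R : Type u) [CommRing R]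
    [IsDomain R] [IsDiscreteValuationRing R] [HenselianLocalRing R] (hk : IsAlgClosed (IsLocalRing.ResidueField R))
    (X : Scheme.{u}) (f : X ⟶ Spec (CommRingCat.of (FractionRing R)))
    (𝒳 : Scheme.{u}) (p : 𝒳 ⟶ Spec (CommRingCat.of R)) (h𝒳 : Models.IsModel R 𝒳 p X f)
    (η : ↥(Models.specialFibre R 𝒳 p)) (hη : ∀ y : ↥(Models.specialFibre R 𝒳 p), y ⤳ η → y = η) :
    ∃ ℓ : ℕ, Module.length ((Models.specialFibre R 𝒳 p).presheaf.stalk η) ((Models.specialFibre R 𝒳 p).presheaf.stalk η) = ℓ ∧
      (ℓ : ℤ) ∈ Curv2.indexSubgroup f := by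
  classical
  haveI : Flat p := h𝒳.1
  haveI : LocallyOfFiniteType p := h𝒳.2.1
  haveI : IsLocallyNoetherian 𝒳 := LocallyOfFiniteType.isLocallyNoetherian p
  obtain ⟨g, hg⟩ := h𝒳.2.2.2
  unfold Models.specialFibre at η hη ⊢
  haveI : IsClosedImmersion (Spec.map (CommRingCat.ofHom (algebraMap R (IsLocalRing.ResidueField R)))) :=
    IsClosedImmersion.spec_of_surjective _ IsLocalRing.residue_surjective
  let i := Limits.pullback.fst p (Spec.map (CommRingCat.ofHom (algebraMap R (IsLocalRing.ResidueField R))))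
  haveI : IsClosedImmersion i := MorphismProperty.pullback_fst _ _ inferInstance
  obtain ⟨V, hV, -⟩ := GrothLib.BlowUp.exists_affine_mem_le (W := (⊤ : 𝒳.Opens)) (x := i η) trivial
  let ρ : R →+* Γ(𝒳, V) := ((Scheme.ΓSpecIso (CommRingCat.of R)).inv ≫ p.appLE ⊤ V le_top).hom
  letI : Algebra R Γ(𝒳, V) := ρ.toAlgebra
  haveI : Algebra.FiniteType R Γ(𝒳, V) := RingHom.FiniteType.comp
    (p.finiteType_appLE (isAffineOpen_top _) V.2 le_top)
    (RingHom.FiniteType.of_surjective _ (ConcreteCategory.bijective_of_isIso (Scheme.ΓSpecIso (CommRingCat.of R)).inv).2)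
  haveI : Module.Flat R Γ(𝒳, V) := RingHom.Flat.comp
    (RingHom.Flat.of_bijective (ConcreteCategory.bijective_of_isIso (Scheme.ΓSpecIso (CommRingCat.of R)).inv))
    (p.flat_appLE (isAffineOpen_top _) V.2 le_top)
  obtain ⟨π, hπ⟩ := IsDiscreteValuationRing.exists_irreducible R
  let P := V.2.primeIdealOf ⟨i η, hV⟩
  have hfp : V.2.fromSpec P = i η := V.2.fromSpec_primeIdealOf _
  letI := TopCat.Presheaf.algebra_section_stalk 𝒳.presheaf (⟨i η, hV⟩ : (V : 𝒳.Opens))
  haveI := V.2.isLocalization_stalk ⟨i η, hV⟩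
  have hfrom : V.2.fromSpec ≫ p = Spec.map (CommRingCat.ofHom ρ) := by
    rw [← IsAffineOpen.SpecMap_appLE_fromSpec p (isAffineOpen_top _) V.2 le_top, IsAffineOpen.fromSpec_top,
      Scheme.isoSpec_Spec_inv, ← Spec.map_comp]
    rfl
  have hker : RingHom.ker (i.stalkMap η).hom = (IsLocalRing.maximalIdeal R).map (Models.stalkHom R (Over.mk p) (i η)) :=
    (GrothLib.ArSurf29.ker_stalkMap_eq_stalkIdeal i η).trans (by
      rw [show i.ker = Models.specialFibreIdeal R (Over.mk p) from GrothLib.ArSurf29.ker_fst_residue (X := Over.mk p)]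
      exact GrothLib.ArSurf29.st_fibre (X := Over.mk p) (i η))
  have hsh : ∀ r, Models.stalkHom R (Over.mk p) (i η) r = algebraMap Γ(𝒳, V) (𝒳.presheaf.stalk (i η)) (ρ r) := fun r =>
    (TopCat.Presheaf.germ_res_apply 𝒳.presheaf (homOfLE le_top) (i η) hV _).symm
  have hker' : RingHom.ker (i.stalkMap η).hom = (Ideal.span {algebraMap R Γ(𝒳, V) π}).map (algebraMap Γ(𝒳, V) (𝒳.presheaf.stalk (i η))) := by
    rw [hker, hπ.maximalIdeal_eq, Ideal.map_span, Ideal.map_span, Set.image_singleton, Set.image_singleton, hsh]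
    rfl
  have hπP : algebraMap R Γ(𝒳, V) π ∈ P.asIdeal := by
    rw [← IsLocalization.AtPrime.to_map_mem_maximal_iff (𝒳.presheaf.stalk (i η)) P.asIdeal]
    exact (IsLocalRing.le_maximalIdeal (RingHom.ker_ne_top _)) (hker'.ge (Ideal.mem_map_of_mem _ (Ideal.mem_span_singleton_self _)))
  have hmin : ∀ Q : Ideal Γ(𝒳, V), Q.IsPrime → algebraMap R Γ(𝒳, V) π ∈ Q → Q ≤ P.asIdeal → Q = P.asIdeal := by
    intro Q hQ hπQ hle
    let y : Spec Γ(𝒳, V) := ⟨Q, hQ⟩
    have hyP : y ⤳ P := (PrimeSpectrum.le_iff_specializes _ _).1 hle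
    have hy : p (V.2.fromSpec y) = IsLocalRing.closedPoint R := by
      rw [← Scheme.Hom.comp_apply, hfrom]
      refine PrimeSpectrum.ext ((IsLocalRing.maximalIdeal.isMaximal R).eq_of_le Ideal.IsPrime.ne_top' ?_).symm
      rw [hπ.maximalIdeal_eq, Ideal.span_singleton_le_iff_mem]
      exact hπQ
    obtain ⟨y', hy'⟩ : V.2.fromSpec y ∈ Set.range i := by
      rw [Scheme.Pullback.range_fst]
      show p (V.2.fromSpec y) ∈ Set.range (Spec.map (CommRingCat.ofHom (algebraMap R (IsLocalRing.ResidueField R))))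
      haveI : IsLocalHom (algebraMap R (IsLocalRing.ResidueField R)) := IsLocalHom.of_surjective _ IsLocalRing.residue_surjective
      exact ⟨IsLocalRing.closedPoint (IsLocalRing.ResidueField R), (IsLocalRing.comap_closedPoint _).trans hy.symm⟩
    have hy'η : y' ⤳ η := by
      rw [← i.isClosedEmbedding.toIsInducing.specializes_iff, hy', ← hfp]
      exact hyP.map V.2.fromSpec.continuous
    have := congrArg i (hη y' hy'η)
    rw [hy', ← hfp] at this
    exact congrArg PrimeSpectrum.asIdeal (V.2.fromSpec.isOpenEmbedding.injective this)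
  obtain ⟨ℓ, hℓ, hmem⟩ := GrothLib.ArSurf29.length_mem_of_forall hk hπ P.asIdeal hπP hmin (Curv2.indexSubgroup f) (by
    intro L _ _ _ _ _ φ
    let a : Spec (CommRingCat.of L) ⟶ 𝒳 := Spec.map (CommRingCat.ofHom φ.toRingHom) ≫ V.2.fromSpec
    have hw : a ≫ p = Spec.map (CommRingCat.ofHom (algebraMap (FractionRing R) L)) ≫
        Spec.map (CommRingCat.ofHom (algebraMap R (FractionRing R))) := by
      show (Spec.map (CommRingCat.ofHom φ.toRingHom) ≫ V.2.fromSpec) ≫ p = _
      rw [Category.assoc, hfrom, ← Spec.map_comp, ← Spec.map_comp]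
      refine congrArg Spec.map (CommRingCat.hom_ext ?_)
      exact φ.comp_algebraMap.trans (IsScalarTower.algebraMap_eq R (FractionRing R) L)
    let l := hg.lift a (Spec.map (CommRingCat.ofHom (algebraMap (FractionRing R) L))) hw
    have hl : l ≫ f = Spec.map (CommRingCat.ofHom (algebraMap (FractionRing R) L)) := hg.lift_snd _ _ _
    let pt : Spec (CommRingCat.of L) := IsLocalRing.closedPoint L
    haveI : LocallyOfFiniteType f := MorphismProperty.of_isPullback hg (inferInstanceAs (LocallyOfFiniteType p))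
    haveI : IsFinite (Spec.map (CommRingCat.ofHom (algebraMap (FractionRing R) L))) :=
      (IsFinite.SpecMap_iff _).2 (RingHom.finite_algebraMap.2 inferInstance)
    haveI : LocallyOfFiniteType (l ≫ f) := by rw [hl]; infer_instance
    haveI : LocallyOfFiniteType l := locallyOfFiniteType_of_comp l f
    haveI : JacobsonSpace X := LocallyOfFiniteType.jacobsonSpace f
    have hcl : IsClosed ({l pt} : Set X) :=
      l.closePoints_subset_preimage_closedPoints (IsLocalRing.isClosed_singleton_closedPoint L)
    have hdeg : Module.finrank (FractionRing R) L = f.residueDegree (l pt) * l.residueDegree pt := by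
      rw [← GrothLib.CycBasic.residueDegree_comp, hl]
      exact (GrothLib.QsChow21.residueDegree_eq (FractionRing R) L pt).symm
    rw [hdeg, Nat.cast_mul, mul_comm, ← smul_eq_mul]
    exact AddSubgroup.zsmul_mem (Curv2.indexSubgroup f) (AddSubgroup.subset_closure ⟨l pt, hcl, rfl⟩) _)
  refine ⟨ℓ, ?_, hmem⟩
  rw [← hℓ]
  exact GrothLib.ArSurf29.length_self_of_surjective P.asIdeal (i.stalkMap η).hom (i.stalkMap_surjective η) _ hker'

end Groth.Agent.S19920
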