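import Groth.Statements.S17784
import Groth.Agent.S19920
import Groth.Agent.Lib.MultFib5.Root
-- import your own Groth.Agent.* helpers here

set_option autoImplicit false
universe u
open CategoryTheory CategoryTheory.Limits AlgebraicGeometry
open Variety

namespace Groth.Agent.S17784

/-- Suppose R is a discrete valuation ring that is Henselian, whose residue field is algebraically
closed, and write K for its fraction field; let X be a regular proper K-scheme which admits a
regular proper model over R (a flat finite-type R-scheme, proper over R and with all local rings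
regular, whose generic fibre is X). Then the index of X over K divides χ(X, O_X): the Euler
characteristic of the structure sheaf lies in the subgroup of ℤ generated by the degrees of the
closed points of X. -/
theorem result (R : Type u) [CommRing R]
    [IsDomain R] [IsDiscreteValuationRing R] [HenselianLocalRing R] (hk : IsAlgClosed (IsLocalRing.ResidueField R))
    (X : Scheme.{u}) [X.Over (Spec (CommRingCat.of (FractionRing R)))] [IsProper (X ↘ Spec (CommRingCat.of (FractionRing R)))] (hXreg : Models.IsRegularScheme X)
    (𝒳 : Scheme.{u}) (p : 𝒳 ⟶ Spec (CommRingCat.of R)) (h𝒳 : Models.IsRegularProperModel R 𝒳 p X (X ↘ Spec (CommRingCat.of (FractionRing R)))) :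
    Curv2.euler (FractionRing R) X (Coh.structureModule X) ∈ Curv2.indexSubgroup (X ↘ Spec (CommRingCat.of (FractionRing R))) := by
  classical
  obtain ⟨hmodel, hproper, h𝒳reg⟩ := h𝒳
  haveI := hproper
  haveI : Flat p := hmodel.1
  haveI : LocallyOfFiniteType p := hmodel.2.1
  obtain ⟨g, hg⟩ := hmodel.2.2.2
  haveI : IsLocallyNoetherian 𝒳 := LocallyOfFiniteType.isLocallyNoetherian p
  haveI : CompactSpace 𝒳 := QuasiCompact.compactSpace_of_compactSpace p
  haveI : Flat (Over.mk p).hom := ‹Flat p›
  haveI : IsLocallyNoetherian (Over.mk p).left := ‹IsLocallyNoetherian 𝒳›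
  haveI : CompactSpace (Over.mk p).left := ‹CompactSpace 𝒳›
  let H := Curv2.indexSubgroup (X ↘ Spec (CommRingCat.of (FractionRing R)))
  obtain ⟨d, hd⟩ := Int.subgroup_cyclic H
  have hmem : ∀ z : ℤ, z ∈ H ↔ d ∣ z := fun z => by
    rw [hd, ← AddSubgroup.zmultiples_eq_closure, Int.mem_zmultiples_iff]
  have hdvd : ∀ y ∈ Models.specialFibreSet R (Over.mk p),
      (∀ w ∈ Models.specialFibreSet R (Over.mk p), w ⤳ y → w = y) →
      (GrothLib.ArSurf29.oAt (Models.specialFibreIdeal R (Over.mk p)) y : ℤ) ∈ H := by
    intro y hy hmax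
    let j := Spec.map (CommRingCat.ofHom (algebraMap R (IsLocalRing.ResidueField R)))
    haveI : IsClosedImmersion j := IsClosedImmersion.spec_of_surjective _ IsLocalRing.residue_surjective
    let i : Models.specialFibre R 𝒳 p ⟶ (Over.mk p).left := pullback.fst p j
    haveI : IsClosedImmersion i := MorphismProperty.pullback_fst _ _ inferInstance
    have hker : i.ker = Models.specialFibreIdeal R (Over.mk p) := GrothLib.ArSurf29.ker_fst_residue (X := Over.mk p)
    have hrange : Set.range i = Models.specialFibreSet R (Over.mk p) := by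
      rw [← GrothLib.ArSurf29.support_fibre (X := Over.mk p), ← hker, Scheme.Hom.support_ker]
      exact i.isClosedEmbedding.isClosed_range.closure_eq.symm
    obtain ⟨η, hη⟩ := hrange.ge hy
    obtain ⟨ℓ, hℓ, hmemℓ⟩ := S19920.result R hk X _ 𝒳 p hmodel η (fun z hz =>
      i.isClosedEmbedding.injective ((hmax (i z) (hrange.le ⟨z, rfl⟩) (hη ▸ hz.map i.continuous)).trans hη.symm))
    have hsurj : Function.Surjective (i.stalkMap η).hom := i.stalkMap_surjective η
    have hlen : Module.length ((Over.mk p).left.presheaf.stalk (i η))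
        ((Over.mk p).left.presheaf.stalk (i η) ⧸
          GrothLib.CartierDescent.stalkIdeal (Models.specialFibreIdeal R (Over.mk p)) (i η)) = ℓ := by
      have hk' := GrothLib.ArSurf29.ker_stalkMap_eq_stalkIdeal i η
      rw [hker] at hk'
      rw [← hk', ← hℓ]
      letI := (i.stalkMap η).hom.toAlgebra
      exact (LinearEquiv.length_eq (LinearMap.quotKerEquivOfSurjective
        (Algebra.linearMap ((Over.mk p).left.presheaf.stalk (i η)) ((Models.specialFibre R 𝒳 p).presheaf.stalk η)) hsurj)).trans
        (Module.length_eq_of_surjective hsurj)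
    rw [← hη]
    show ((Module.length _ _).toNat : ℤ) ∈ H
    rw [hlen, ENat.toNat_coe]
    exact hmemℓ
  -- every positive multiple-free divisor of all the multiplicities divides `χ`
  have key : ∀ m : ℕ, 1 ≤ m → (d = 0 ∨ m = d.natAbs) →
      (m : ℤ) ∣ Curv2.euler (FractionRing R) X (Coh.structureModule X) := by
    intro m hm hmd
    obtain ⟨I, hI, hIm⟩ := GrothLib.MultFib5.exists_root (X := Over.mk p) h𝒳reg m fun y hy hmax => by
      have h := (hmem _).1 (hdvd y hy hmax)
      rcases hmd with rfl | rfl
      · rw [zero_dvd_iff] at h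
        rw [show GrothLib.ArSurf29.oAt (Models.specialFibreIdeal R (Over.mk p)) y = 0 by exact_mod_cast h]
        exact dvd_zero m
      · exact Int.natCast_dvd_natCast.1 (Int.natAbs_dvd.2 h)
    exact GrothLib.MultFib5.dvd_euler p (X ↘ Spec (CommRingCat.of (FractionRing R))) g hg hm I hI hIm
  show _ ∈ H
  rw [hmem]
  rcases eq_or_ne d 0 with h0 | h0
  · rw [h0, zero_dvd_iff]
    refine Int.eq_zero_of_dvd_of_natAbs_lt_natAbs (key ((Curv2.euler (FractionRing R) X (Coh.structureModule X)).natAbs + 1)
      (by omega) (Or.inl h0)) ?_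
    omega
  · exact Int.natAbs_dvd.1 (key d.natAbs (Int.natAbs_pos.2 h0) (Or.inr rfl))

end Groth.Agent.S17784
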