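import Groth.Statements.S17785
import Mathlib

set_option autoImplicit false
universe u
open Variety

namespace Groth.Agent.S17785

open Polynomial UniqueFactorizationMonoid

universe v

set_option maxHeartbeats 1000000

/-- the index `I(d, N)` -/
abbrev idx (d N : ℕ) : ℕ := ((Finset.Icc 1 N).filter (fun δ => δ ∣ d)).gcd (fun δ => d / δ)

/-- In an extension where the equation is solvable, every ramification index is, up to the factor
`q`, divisible by the index. -/
theorem sep_dvd (R : Type v) [CommRing R] [IsDomain R] [IsDiscreteValuationRing R] (K : Type v) [Field K]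
    [Algebra R K] [IsFractionRing R K] (F : Type v) [Field F] [Algebra K F] [Algebra R F] [IsScalarTower R K F]
    [FiniteDimensional K F] [Algebra.IsSeparable K F] (ϖ : R) (hϖ : Irreducible ϖ) (d N q : ℕ) (hd : 1 ≤ d)
    (y : Fin (N + 1) → F) (hy : y ≠ 0)
    (heq : y 0 ^ d = ∑ i : Fin N, algebraMap R F ϖ ^ (((i : ℕ) + 1) * q) * y i.succ ^ d) :
    idx d N ∣ q * Module.finrank K F := by
  classical
  let S := integralClosure R F
  haveI : Module.Finite R S := IsIntegralClosure.finite R K F S
  haveI := IsIntegralClosure.isDedekindDomain R K F S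
  haveI := IsIntegralClosure.isFractionRing_of_finite_extension R K F S
  have hinj : Function.Injective (algebraMap R F) := by
    rw [IsScalarTower.algebraMap_eq R K F]
    exact (algebraMap K F).injective.comp (IsFractionRing.injective R K)
  haveI : Module.IsTorsionFree R F := Module.isTorsionFree_iff_algebraMap_injective.2 hinj
  have hinjS : Function.Injective (algebraMap R S) := fun a b h => hinj (congrArg Subtype.val h)
  haveI : Module.IsTorsionFree R S := Module.isTorsionFree_iff_algebraMap_injective.2 hinjS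
  let p : Ideal R := Ideal.span {ϖ}
  haveI hpmax : p.IsMaximal := PrincipalIdealRing.isMaximal_of_irreducible hϖ
  have hmap : p.map (algebraMap R S) = Ideal.span {algebraMap R S ϖ} := by
    rw [Ideal.map_span, Set.image_singleton]
  have hϖS : algebraMap R S ϖ ≠ 0 := fun h => hϖ.ne_zero (hinjS (by rw [h, map_zero]))
  have hp0 : p.map (algebraMap R S) ≠ ⊥ := by
    rw [hmap, ne_eq, Ideal.span_singleton_eq_bot]; exact hϖS
  haveI : Finite (p.primesOver S) := (Algebra.QuasiFinite.finite_primesOver p).to_subtype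
  haveI := Fintype.ofFinite (p.primesOver S)
  rw [← IsIntegralClosure.rank R K F S, ← Ideal.sum_ramification_inertia_eq_finrank (p := p) (S := S), Finset.mul_sum]
  refine Finset.dvd_sum fun P _ => ?_
  rw [← mul_assoc]
  refine Dvd.dvd.mul_right ?_ _
  haveI := P.2.1
  haveI := P.2.2
  have hP0 : P.1 ≠ ⊥ := ne_bot_of_le_ne_bot hp0 (Ideal.map_le_of_le_comap (P.1.over_def p).le)
  let w : IsDedekindDomain.HeightOneSpectrum S := ⟨P.1, P.2.1, hP0⟩
  let v := w.valuation F
  let e := P.1.ramificationIdx R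
  have hv : v (algebraMap R F ϖ) = WithZero.exp (-(e : ℤ)) := by
    rw [IsScalarTower.algebraMap_apply R S F, IsDedekindDomain.HeightOneSpectrum.valuation_of_algebraMap,
      w.intValuation_eq_exp_neg_multiplicity hϖS]
    show WithZero.exp (-((multiplicity P.1 (Ideal.span {algebraMap R S ϖ}) : ℕ) : ℤ)) = _
    rw [← hmap, ← Ideal.IsDedekindDomain.ramificationIdx_eq_multiplicity p P.1 hp0]
  let z : Fin (N + 1) → F := fun i => (if i = 0 then -1 else 1) * (algebraMap R F ϖ ^ ((i : ℕ) * q) * y i ^ d)
  have hvz : ∀ i, v (z i) = v (algebraMap R F ϖ) ^ ((i : ℕ) * q) * v (y i) ^ d := fun i => by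
    simp only [z]
    split_ifs <;> simp [map_mul, map_pow, Valuation.map_neg]
  have hsum : ∑ i, z i = 0 := by
    rw [Fin.sum_univ_succ]
    simp only [z, Fin.succ_ne_zero, if_true, if_false, one_mul, Fin.val_zero, zero_mul, pow_zero, Fin.val_succ]
    rw [← heq]; ring
  have hπ : algebraMap R F ϖ ≠ 0 := fun h => hϖ.ne_zero (hinj (by rw [h, map_zero]))
  obtain ⟨j, -, hj⟩ := Finset.exists_max_image Finset.univ (fun i => v (z i)) Finset.univ_nonempty
  obtain ⟨i₀, hi₀⟩ := Function.ne_iff.1 hy
  have hj0 : v (z j) ≠ 0 := fun h => by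
    have h1 : v (z i₀) ≤ 0 := h ▸ hj i₀ (Finset.mem_univ _)
    rw [le_zero_iff, hvz, mul_eq_zero, pow_eq_zero_iff' , pow_eq_zero_iff'] at h1
    rcases h1 with h1 | h1
    · exact hπ ((map_eq_zero v).1 h1.1)
    · exact hi₀ ((map_eq_zero v).1 h1.1)
  obtain ⟨i, hij, hvi⟩ : ∃ i, i ≠ j ∧ v (z i) = v (z j) := by
    by_contra! hc
    have h := Valuation.map_sum_eq_of_lt v (Finset.mem_univ j) (f := z) fun i hi =>
      lt_of_le_of_ne (hj i (Finset.mem_univ _)) (hc i (by simpa using hi))
    rw [hsum, map_zero] at h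
    exact hj0 h.symm
  have hne : ∀ k, v (z k) ≠ 0 → v (y k) ≠ 0 := fun k h h0 => h (by rw [hvz, h0, zero_pow (by omega), mul_zero])
  obtain ⟨a, ha⟩ : ∃ a, v (y i) = WithZero.exp a := ⟨_, (WithZero.exp_log (hne i (hvi ▸ hj0))).symm⟩
  obtain ⟨b, hb⟩ : ∃ b, v (y j) = WithZero.exp b := ⟨_, (WithZero.exp_log (hne j hj0)).symm⟩
  rw [hvz, hvz, hv, ha, hb] at hvi
  simp only [← WithZero.exp_nsmul, ← WithZero.exp_add, WithZero.exp_inj, nsmul_eq_mul, Nat.cast_mul] at hvi
  let δ := (((j : ℕ) : ℤ) - (i : ℕ)).natAbs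
  have hdvd : d ∣ δ * (q * e) := by
    have h1 : (d : ℤ) ∣ (((j : ℕ) : ℤ) - (i : ℕ)) * ((q * e : ℕ) : ℤ) := ⟨b - a, by push_cast; linear_combination hvi⟩
    have h2 := Int.natAbs_dvd_natAbs.2 h1
    rwa [Int.natAbs_mul, Int.natAbs_natCast, Int.natAbs_natCast] at h2
  have hij' : (i : ℕ) ≠ (j : ℕ) := fun h => hij (Fin.ext h)
  have hδ0 : 0 < δ := Int.natAbs_pos.2 (by omega)
  have hδN : δ ≤ N := by have := i.2; have := j.2; simp only [δ]; omega
  have hg : 0 < Nat.gcd d δ := Nat.gcd_pos_of_pos_right _ hδ0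
  have hI : idx d N ∣ d / Nat.gcd d δ := Finset.gcd_dvd (Finset.mem_filter.2
    ⟨Finset.mem_Icc.2 ⟨hg, (Nat.le_of_dvd hδ0 (Nat.gcd_dvd_right d δ)).trans hδN⟩, Nat.gcd_dvd_left d δ⟩)
  refine hI.trans ((Nat.coprime_div_gcd_div_gcd hg).dvd_of_dvd_mul_left ?_)
  obtain ⟨c, hc⟩ := hdvd
  refine ⟨c, Nat.eq_of_mul_eq_mul_left hg ?_⟩
  rw [← mul_assoc, Nat.mul_div_cancel' (Nat.gcd_dvd_right d δ), ← mul_assoc (Nat.gcd d δ) (d / _), Nat.mul_div_cancel' (Nat.gcd_dvd_left d δ), ← hc]


/-- Let R be a discrete valuation ring with fraction field K and uniformizer π, and let d, N ≥ 1.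
Consider the hypersurface X in projective N-space over K defined by x_0^d = π x_1^d + π^2 x_2^d + ⋯
+ π^N x_N^d. Its index over K — the greatest common divisor of the degrees of its closed points,
equivalently of the degrees [L : K] of the finite field extensions L over which the equation has a
non-zero solution — equals I(d, N), the greatest common divisor of the quotients d/δ over the
divisors δ of d with 1 ≤ δ ≤ N. Stated as an equality of subgroups of ℤ: the subgroup generated by
those degrees [L : K] is the subgroup generated by I(d, N). -/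
theorem result (R : Type u) [CommRing R] [IsDomain R]
    [IsDiscreteValuationRing R] (K : Type u) [Field K] [Algebra R K] [IsFractionRing R K]
    (ϖ : R) (hϖ : Irreducible ϖ) (d N : ℕ) (hd : 1 ≤ d) (hN : 1 ≤ N) :
    AddSubgroup.closure {m : ℤ | ∃ (L : Type u) (_ : Field L) (_ : Algebra K L),
        FiniteDimensional K L ∧ m = (Module.finrank K L : ℤ) ∧
        ∃ x : Fin (N + 1) → L, x ≠ 0 ∧
          x 0 ^ d = ∑ i : Fin N, algebraMap K L (algebraMap R K (ϖ ^ ((i : ℕ) + 1))) * x i.succ ^ d} =
      AddSubgroup.zmultiples ((((Finset.Icc 1 N).filter (fun δ => δ ∣ d)).gcd (fun δ => d / δ) : ℕ) : ℤ) := by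
  classical
  apply le_antisymm
  · rw [AddSubgroup.closure_le]
    rintro m ⟨L, _, _, hfin, rfl, x, hx, heq⟩
    rw [SetLike.mem_coe, Int.mem_zmultiples_iff, Int.natCast_dvd_natCast]
    let F := separableClosure K L
    letI : Algebra R F := ((algebraMap K F).comp (algebraMap R K)).toAlgebra
    haveI : IsScalarTower R K F := IsScalarTower.of_algebraMap_eq fun _ => rfl
    obtain ⟨p, hp⟩ : ∃ p, ExpChar F p := ⟨_, ringExpChar.expChar F⟩
    haveI := hp
    haveI : ExpChar L p := expChar_of_injective_ringHom (algebraMap F L).injective p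
    obtain ⟨t, ht⟩ := IsPurelyInseparable.finrank_eq_pow F L p
    have hmem : ∀ a : L, a ^ (p ^ t) ∈ (algebraMap F L).range := fun a => by
      have h1 : p ^ IsPurelyInseparable.elemExponent F a ∣ p ^ t := by
        rw [← IsPurelyInseparable.minpoly_natDegree_eq' F p a, ← ht]
        exact minpoly.degree_dvd (IsIntegral.of_finite F a)
      obtain ⟨c, hc⟩ := h1
      rw [hc, pow_mul]
      exact pow_mem (IsPurelyInseparable.elemExponent_def' F p a) c
    choose y hy using fun i => hmem (x i)
    have hy0 : y ≠ 0 := fun h => hx (funext fun i => by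
      have := hy i
      rw [h, Pi.zero_apply, map_zero, eq_comm, pow_eq_zero_iff'] at this
      exact this.1)
    have hRL : ∀ r : R, algebraMap F L (algebraMap R F r) = algebraMap K L (algebraMap R K r) := fun r => rfl
    have h := sep_dvd R K F ϖ hϖ d N (p ^ t) hd y hy0 ((algebraMap F L).injective (by
      simp only [map_pow, map_sum, map_mul, hy, hRL]
      rw [← pow_mul, mul_comm, pow_mul, heq, sum_pow_char_pow]
      refine Finset.sum_congr rfl fun i _ => ?_
      rw [mul_pow, map_pow, map_pow, ← pow_mul, ← pow_mul, mul_comm d, pow_mul (x i.succ)]))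
    rwa [← ht, mul_comm, Module.finrank_mul_finrank] at h
  · rw [AddSubgroup.zmultiples_le]
    let G := AddSubgroup.closure {m : ℤ | ∃ (L : Type u) (_ : Field L) (_ : Algebra K L),
        FiniteDimensional K L ∧ m = (Module.finrank K L : ℤ) ∧
        ∃ x : Fin (N + 1) → L, x ≠ 0 ∧
          x 0 ^ d = ∑ i : Fin N, algebraMap K L (algebraMap R K (ϖ ^ ((i : ℕ) + 1))) * x i.succ ^ d}
    have hone : ∀ δ ∈ (Finset.Icc 1 N).filter (fun δ => δ ∣ d), ((d / δ : ℕ) : ℤ) ∈ G := by
      intro δ hδ
      obtain ⟨hδ1, hδd⟩ := Finset.mem_filter.1 hδ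
      obtain ⟨hδ0, hδN⟩ := Finset.mem_Icc.1 hδ1
      let m := d / δ
      have hm : 0 < m := Nat.div_pos (Nat.le_of_dvd (by omega) hδd) hδ0
      let f : R[X] := X ^ m - C ϖ
      have hmon : f.Monic := monic_X_pow_sub_C ϖ hm.ne'
      have hf : f.IsEisensteinAt (Ideal.span {ϖ}) := by
        refine hmon.isEisensteinAt_of_mem_of_notMem (Ideal.span_singleton_eq_top.not.2 hϖ.not_isUnit) (fun {k} hk => ?_) ?_
        · rw [natDegree_X_pow_sub_C] at hk
          rw [coeff_sub, coeff_X_pow, if_neg (by omega), coeff_C, zero_sub, neg_mem_iff]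
          split_ifs
          exacts [Ideal.mem_span_singleton_self ϖ, Ideal.zero_mem _]
        · rw [coeff_sub, coeff_X_pow, if_neg (by omega), coeff_C_zero, zero_sub, neg_mem_iff,
            Ideal.span_singleton_pow, Ideal.mem_span_singleton]
          intro h
          have h2 : ϖ * ϖ ∣ ϖ * 1 := by rwa [mul_one, ← sq]
          exact hϖ.not_isUnit (isUnit_of_dvd_one ((mul_dvd_mul_iff_left hϖ.ne_zero).1 h2))
      have hirr : Irreducible f := hf.irreducible ((Ideal.span_singleton_prime hϖ.ne_zero).2 hϖ.prime) hmon.isPrimitive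
        (by rw [natDegree_X_pow_sub_C]; exact hm)
      haveI : Fact (Irreducible (f.map (algebraMap R K))) := ⟨hmon.irreducible_iff_irreducible_map_fraction_map.1 hirr⟩
      have hmonK : (f.map (algebraMap R K)).Monic := hmon.map _
      let L := AdjoinRoot (f.map (algebraMap R K))
      refine AddSubgroup.subset_closure ⟨L, inferInstance, inferInstance, (AdjoinRoot.powerBasis hmonK.ne_zero).finite, ?_, ?_⟩
      · rw [(AdjoinRoot.powerBasis hmonK.ne_zero).finrank, AdjoinRoot.powerBasis_dim, hmon.natDegree_map, natDegree_X_pow_sub_C]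
      · have hroot : AdjoinRoot.root (f.map (algebraMap R K)) ^ m = algebraMap K L (algebraMap R K ϖ) := by
          have h := AdjoinRoot.eval₂_root (f.map (algebraMap R K))
          rw [eval₂_map, eval₂_sub, eval₂_X_pow, eval₂_C, sub_eq_zero] at h
          exact h
        let j : Fin N := ⟨δ - 1, by omega⟩
        let x : Fin (N + 1) → L := fun i =>
          if i = 0 then AdjoinRoot.root (f.map (algebraMap R K)) else if i = j.succ then 1 else 0
        refine ⟨x, fun h => ?_, ?_⟩
        · have := congrFun h j.succ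
          simp [x, Fin.succ_ne_zero] at this
        · rw [Finset.sum_eq_single j (fun i _ hi => by
              simp [x, Fin.succ_ne_zero, hi, show d ≠ 0 by omega]) (by simp)]
          simp only [x, if_true, Fin.succ_ne_zero, if_false, one_pow, mul_one]
          rw [show d = m * δ from (Nat.div_mul_cancel hδd).symm, pow_mul, hroot, ← map_pow, ← map_pow,
            show ((j : ℕ) + 1) = δ from Nat.sub_add_cancel hδ0]
    have hall : ∀ s : Finset ℕ, (∀ δ ∈ s, ((d / δ : ℕ) : ℤ) ∈ G) → ((s.gcd (fun δ => d / δ) : ℕ) : ℤ) ∈ G := by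
      intro s
      induction s using Finset.induction_on with
      | empty => intro _; simp
      | insert a s ha ih =>
        intro hs
        rw [Finset.gcd_insert, show GCDMonoid.gcd (d / a) (s.gcd fun δ => d / δ) = Nat.gcd (d / a) (s.gcd fun δ => d / δ) from rfl,
          Nat.gcd_eq_gcd_ab, mul_comm _ (Nat.gcdA _ _), mul_comm _ (Nat.gcdB _ _), ← smul_eq_mul, ← smul_eq_mul]
        exact G.add_mem (G.zsmul_mem (hs a (Finset.mem_insert_self a s)) _)
          (G.zsmul_mem (ih fun δ hδ => hs δ (Finset.mem_insert_of_mem hδ)) _)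
    exact hall _ hone


end Groth.Agent.S17785
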