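import Groth.Statements.S17788
import Groth.Agent.SmDepth21.RamPure
import Groth.Agent.SmDepth21.DvrImpure
import Groth.Agent.Lib.HeightOneHull5.Basic
import Groth.Agent.Lib.AffDom.Formula
import Groth.Agent.Lib.CMBasics.Basic
import Groth.Agent.Lib.N2.MoriNagata
import Mathlib.RingTheory.Flat.TorsionFree

set_option autoImplicit false
universe u
open CategoryTheory CategoryTheory.Limits AlgebraicGeometry
open Pi1

namespace Groth.Agent.S17788

open IsLocalRing

/-- The residue map of the completion of `A_P` into the residue field of a prime over `P`. -/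
theorem exists_resA (A B : Type u) [CommRing A] [IsNoetherianRing A] [CommRing B] [Algebra A B] (q : Ideal B) [q.IsPrime] :
    Nonempty (AdicCompletion (maximalIdeal (Localization.AtPrime (q.under A))) (Localization.AtPrime (q.under A))
      →ₐ[A] q.ResidueField) := by
  let P := q.under A
  letI : Algebra P.ResidueField q.ResidueField :=
    (Ideal.ResidueField.mapₐ P q (Algebra.ofId A B) rfl).toRingHom.toAlgebra
  haveI : IsScalarTower A P.ResidueField q.ResidueField :=
    IsScalarTower.of_algebraMap_eq fun x =>
      ((Ideal.ResidueField.mapₐ P q (Algebra.ofId A B) rfl).commutes x).symm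
  let ρ₀ : Localization.AtPrime P →ₐ[A] q.ResidueField :=
    (IsScalarTower.toAlgHom A P.ResidueField q.ResidueField).comp
      (IsScalarTower.toAlgHom A (Localization.AtPrime P) P.ResidueField)
  exact ⟨(Ideal.Quotient.liftₐ (maximalIdeal (Localization.AtPrime P)) ρ₀ fun a ha => by
      show algebraMap P.ResidueField q.ResidueField (residue (Localization.AtPrime P) a) = 0
      rw [(residue_eq_zero_iff a).mpr ha, map_zero]).comp
      ((AdicCompletion.evalOneₐ (maximalIdeal (Localization.AtPrime P))).restrictScalars A)⟩

/-- Let A be an excellent normal local domain and r a natural number such that A is pure in codimension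
at least r, in the sense that for every prime ideal P of A of height at least r the completion of
the local ring A_P at its maximal ideal is pure (for every open V of its spectrum, restriction of
finite étale covers from V to the part of V outside the closed point is an equivalence of
categories). Let B be a normal domain which is a finite extension of A with injective structure map.
Then every prime ideal q of B which is minimal among the primes at which B is not unramified over A
(B_q not formally unramified over A) has height less than r. -/
theorem result (A : Type u) [CommRing A] [IsDomain A] [IsLocalRing A] [IsNoetherianRing A] [IsIntegrallyClosed A] (hA : EGA4.IsExcellent A) (r : ℕ) (hpure : ∀ (P : Ideal A) [P.IsPrime], (r : ℕ∞) ≤ P.height → SGA2.IsPurePair (Spec (CommRingCat.of (AdicCompletion (IsLocalRing.maximalIdeal (Localization.AtPrime P)) (Localization.AtPrime P)))) (FEt.puncturedSpec (AdicCompletion (IsLocalRing.maximalIdeal (Localization.AtPrime P)) (Localization.AtPrime P)))) (B : Type u) [CommRing B] [IsDomain B] [IsIntegrallyClosed B] [Algebra A B] [Module.Finite A B]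 (hinj : Function.Injective (algebraMap A B)) (q : Ideal B) [q.IsPrime] (hq : ¬ Algebra.IsUnramifiedAt A q) (hmin : ∀ (q' : Ideal B) [q'.IsPrime], q' ≤ q → ¬ Algebra.IsUnramifiedAt A q' → q' = q) : q.height < (r : ℕ∞) := by
  by_contra hlt
  rw [not_lt] at hlt
  haveI : FaithfulSMul A B := (faithfulSMul_iff_algebraMap_injective A B).2 hinj
  haveI : IsNoetherianRing B := IsNoetherianRing.of_finite A B
  let P := q.under A
  have hPh : (r : ℕ∞) ≤ P.height :=
    hlt.trans (GrothLib.HeightOneHull5.height_le_height_comap (A := A) q)
  rcases Nat.eq_zero_or_pos r with rfl | hr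
  · haveI : (⊥ : Ideal A).IsPrime := Ideal.isPrime_bot
    let K := Localization.AtPrime (⊥ : Ideal A)
    haveI : IsFractionRing A K := by
      show IsLocalization (nonZeroDivisors A) K
      rw [show nonZeroDivisors A = (⊥ : Ideal A).primeCompl from Submonoid.ext fun x => by
        simp [mem_nonZeroDivisors_iff_ne_zero, Ideal.primeCompl]]
      exact Localization.isLocalization
    letI : Field K := IsFractionRing.toField A
    refine GrothLib.SmDepth21.not_isPurePair_of_field ?_ (hpure ⊥ (by simp))
    rw [IsLocalRing.isField_iff_maximalIdeal_eq, AdicCompletion.maximalIdeal_eq_map,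
      IsLocalRing.isField_iff_maximalIdeal_eq.1 (Semifield.toIsField K), Ideal.map_bot]
  rcases Nat.lt_or_ge r 2 with hr2 | hr2
  · obtain rfl : r = 1 := by omega
    obtain ⟨P₁, hP₁, -, h1⟩ := GrothLib.AffDom.exists_height_one_le A P (by
      intro h0
      rw [h0, Ideal.height_bot] at hPh
      simp at hPh)
    haveI := hP₁
    let O := Localization.AtPrime P₁
    haveI : IsDomain O := IsLocalization.isDomain_localization P₁.primeCompl_le_nonZeroDivisors
    haveI : IsIntegrallyClosed O :=
      isIntegrallyClosed_of_isLocalization _ P₁.primeCompl P₁.primeCompl_le_nonZeroDivisors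
    haveI : IsNoetherianRing O := IsLocalization.isNoetherianRing P₁.primeCompl O inferInstance
    haveI : IsDiscreteValuationRing O := GrothLib.MoriNagata.isDiscreteValuationRing_of_height_one P₁ h1
    obtain ⟨ϖ, hϖ⟩ := IsDiscreteValuationRing.exists_irreducible O
    refine GrothLib.SmDepth21.not_isPurePair_of_principal (π := algebraMap O _ ϖ) ?_ ?_ (hpure P₁ (by rw [h1]; rfl))
    · rw [AdicCompletion.maximalIdeal_eq_map, hϖ.maximalIdeal_eq, Ideal.map_span, Set.image_singleton]
    · haveI := AdicCompletion.flat_of_isNoetherian (R := O) (maximalIdeal O)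
      have h := IsSMulRegular.of_flat (S := AdicCompletion (maximalIdeal O) O)
        (isRegular_of_ne_zero hϖ.ne_zero).left.isSMulRegular
      refine isRegular_iff_eq_zero_of_mul.2 ⟨fun c hc => ?_, fun c hc => ?_⟩
      all_goals exact h.right_eq_zero_of_smul (by rw [Algebra.smul_def]; simpa [mul_comm] using hc)
  let AP := Localization.AtPrime P
  haveI : IsDomain AP := IsLocalization.isDomain_localization P.primeCompl_le_nonZeroDivisors
  haveI : IsIntegrallyClosed AP :=
    isIntegrallyClosed_of_isLocalization _ P.primeCompl P.primeCompl_le_nonZeroDivisors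
  haveI : IsNoetherianRing AP := IsLocalization.isNoetherianRing P.primeCompl AP inferInstance
  let Bq := Localization.AtPrime q
  haveI : IsDomain Bq := IsLocalization.isDomain_localization q.primeCompl_le_nonZeroDivisors
  haveI : IsIntegrallyClosed Bq :=
    isIntegrallyClosed_of_isLocalization _ q.primeCompl q.primeCompl_le_nonZeroDivisors
  haveI : IsNoetherianRing Bq := IsLocalization.isNoetherianRing q.primeCompl Bq inferInstance
  have h2r : (2 : ℕ∞) ≤ (r : ℕ∞) := by exact_mod_cast hr2
  have hdAP : (2 : ℕ∞) ≤ LocCoh.depth AP AP := GrothLib.FEt21.two_le_depth_of_normal AP (by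
    rw [IsLocalization.AtPrime.ringKrullDim_eq_height P AP]
    exact WithBot.coe_le_coe.2 (h2r.trans hPh))
  have hdBq : (2 : ℕ∞) ≤ LocCoh.depth Bq Bq := GrothLib.FEt21.two_le_depth_of_normal Bq (by
    rw [IsLocalization.AtPrime.ringKrullDim_eq_height q Bq]
    exact WithBot.coe_le_coe.2 (h2r.trans hlt))
  let Ah := AdicCompletion (maximalIdeal AP) AP
  haveI : Module.Flat AP Ah := AdicCompletion.flat_of_isNoetherian _
  haveI : Module.Flat A Ah := Module.Flat.trans A AP Ah
  haveI : IsAdicComplete (maximalIdeal Ah) Ah := AdicCompletion.isAdicComplete_of_fg (IsNoetherian.noetherian _)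
  obtain ⟨resA⟩ := exists_resA A B q
  refine hq (GrothLib.SmDepth21.isUnramifiedAt_of_purity A B Ah hinj q ?_ ?_ resA ?_ hdBq
    (fun q' _ hlt' => by
      by_contra h
      exact hlt'.ne (hmin q' hlt'.le h)) ?_)
  · refine Eq.trans ?_ ((congrArg (Ideal.map (algebraMap AP Ah))
      (Localization.AtPrime.map_eq_maximalIdeal (I := P))).trans (AdicCompletion.maximalIdeal_eq_map (R := AP)).symm)
    rw [Ideal.map_map, ← IsScalarTower.algebraMap_eq]
  · exact (AdicCompletion.residueField_map_bijective AP).2
  · exact hdAP.trans (GrothLib.FlatExt.depth_le_of_flat_local AP Ah)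
  · haveI := GrothLib.PunctPure21.isEquivalence_ι (hpure P hPh)
    exact Functor.IsEquivalence.essSurj (F := FEt.restrict (FEt.puncturedSpec Ah).ι)

end Groth.Agent.S17788
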