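import Groth.Statements.S2946
import Groth.Agent.Lib.LefEt7.Sec
import Groth.Agent.Lib.OX.RHomDual


set_option autoImplicit false
universe u
open CategoryTheory CategoryTheory.Limits AlgebraicGeometry
open Lef

namespace Groth.Agent.S2946

/-- Let X be a locally Noetherian scheme and 𝓘 a quasi-coherent ideal sheaf with Y = V(𝓘), and suppose
Lef(X, Y) holds (this prelude's Lef.LefCond). Then for every open U of X containing Y, Y is
connected if and only if U is connected. -/
theorem result (X : Scheme.{u}) [IsLocallyNoetherian X] (𝓘 : X.IdealSheafData) (h : Lef.LefCond X 𝓘) (U : X.Opens) (hU : (𝓘.support : Set X) ⊆ (U : Set X)) : ConnectedSpace (𝓘.support : Set X) ↔ ConnectedSpace U := by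
  have hbij := GrothLib.LefEt7.secBij_of_unit (𝓘.comap U.ι)
    (h U hU _ (GrothLib.OX.isFinLocFree_structureModule _))
  have hs : ∀ n, ((𝓘.comap U.ι) ^ (n + 1)).support = ((𝓘.comap U.ι) ^ (0 + 1)).support := fun n => by
    rw [Scheme.IdealSheafData.support_pow_succ, Scheme.IdealSheafData.support_pow_succ]
  have key := GrothLib.LefEt7.connectedSpace_iff hbij hs
  rw [Scheme.IdealSheafData.support_pow_succ] at key
  refine Iff.trans ?_ key
  rw [← isConnected_iff_connectedSpace, ← isConnected_iff_connectedSpace]
  suffices hsuff : _root_.IsConnected (U.ι '' ((𝓘.comap U.ι).support : Set (U : Scheme.{u}))) ↔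
      _root_.IsConnected ((𝓘.comap U.ι).support : Set (U : Scheme.{u})) by
    refine Iff.trans ?_ hsuff
    have himg : U.ι '' ((𝓘.comap U.ι).support : Set _) = (𝓘.support : Set X) := by
      rw [Scheme.IdealSheafData.support_comap]
      show U.ι '' (U.ι ⁻¹' (𝓘.support : Set X)) = _
      rw [Set.image_preimage_eq_inter_range, Scheme.Opens.range_ι]
      exact Set.inter_eq_left.2 hU
    rw [himg]
  exact and_congr Set.image_nonempty U.ι.isOpenEmbedding.isInducing.isPreconnected_image

end Groth.Agent.S2946
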