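import Groth.Statements.S17790
import Groth.Statements.S17790
import Groth.Agent.PunctPure21.Basic
import Groth.Agent.S0252
import Groth.Agent.S2946

set_option autoImplicit false
universe u
open CategoryTheory CategoryTheory.Limits AlgebraicGeometry
open Pi1

namespace Groth.Agent.S17790

/-- Let A be a Noetherian local ring and I an ideal for which A is I-adically complete and A/I is local;
write X = Spec A, Y = V(I) and U for the punctured spectrum. Suppose that A is pure (the pair formed
by X and its closed point is pure) and that the effective Lefschetz condition Leff(U, U ∩ Y) holds.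
Then Y minus the closed point, i.e. U ∩ Y, is a connected (nonempty) subset of X. -/
theorem result (A : Type u) [CommRing A] [IsLocalRing A] [IsNoetherianRing A] (I : Ideal A) [IsAdicComplete I A] [IsLocalRing (A ⧸ I)] (hpure : SGA2.IsPurePair (Spec (CommRingCat.of A)) (FEt.puncturedSpec A)) (hleff : LefX.LeffCond (↑(FEt.puncturedSpec A) : Scheme.{u}) ((Spec.map (CommRingCat.ofHom (Ideal.Quotient.mk I))).ker.comap (FEt.puncturedSpec A).ι)) : IsConnected (((Spec.map (CommRingCat.ofHom (Ideal.Quotient.mk I))).ker.support : Set ↥(Spec (CommRingCat.of A))) ∩ (FEt.puncturedSpec A : Set ↥(Spec (CommRingCat.of A)))) := by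
  haveI : CompactSpace (FEt.puncturedSpec A : Scheme.{u}) :=
    isCompact_iff_compactSpace.1 (TopologicalSpace.NoetherianSpace.isCompact _)
  haveI : IsLocallyNoetherian (FEt.puncturedSpec A : Scheme.{u}) :=
    isLocallyNoetherian_of_isOpenImmersion (FEt.puncturedSpec A).ι
  haveI hU := GrothLib.PunctPure21.connectedSpace_puncturedSpec (Groth.Agent.S0252.result (FEt.puncturedSpec A).ι
    (GrothLib.PunctPure21.isEquivalence_ι hpure))
  have key := (Groth.Agent.S2946.result _ _ hleff.1 ⊤ (Set.subset_univ _)).2 (by
    haveI := hU
    exact (FEt.puncturedSpec A : Scheme.{u}).topIso.hom.homeomorph.symm.surjective.connectedSpace (FEt.puncturedSpec A : Scheme.{u}).topIso.hom.homeomorph.symm.continuous)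
  rw [← isConnected_iff_connectedSpace] at key
  have := key.image (FEt.puncturedSpec A).ι (FEt.puncturedSpec A).ι.continuous.continuousOn
  rw [Scheme.IdealSheafData.support_comap] at this
  convert this using 1
  erw [TopologicalSpace.Closeds.coe_preimage]
  rw [Set.image_preimage_eq_inter_range, Scheme.Opens.range_ι]

end Groth.Agent.S17790
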