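import Groth.Statements.S17791
import Groth.Agent.FewEq21.Deviation

set_option autoImplicit false
universe u
open CategoryTheory CategoryTheory.Limits AlgebraicGeometry
open Pi1

namespace Groth.Agent.S17791

/-- Write A = R/I with R a regular local ring and I generated by a finite set s of elements of the
maximal ideal, let c = dim R − dim A, and call δ = |s| − c the deviation of this presentation (for a
minimal generating set this is the deviation of A). Suppose A is excellent, equidimensional of Krull
dimension at least 3, and a complete intersection in codimension at most 2 + δ: for every prime Q of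
A with height(Q) + c ≤ 2 + |s|, the ideal generated by s in the localization of R at the preimage of
Q is generated by a regular sequence. Then A is pure: for every open V of Spec A, restriction of
finite étale covers from V to V minus the closed point is an equivalence of categories. -/
theorem result (R : Type u) [CommRing R] [IsRegularLocalRing R] (s : Finset R) (hs : ∀ x ∈ s, x ∈ IsLocalRing.maximalIdeal R) [IsLocalRing (R ⧸ Ideal.span (↑s : Set R))] (hexc : EGA4.IsExcellent (R ⧸ Ideal.span (↑s : Set R))) (heq : EGA4.IsEquidim (R ⧸ Ideal.span (↑s : Set R))) (hdim : (3 : WithBot ℕ∞) ≤ ringKrullDim (R ⧸ Ideal.span (↑s : Set R))) (c : ℕ) (hc : ringKrullDim R = ringKrullDim (R ⧸ Ideal.span (↑s : Set R)) + (c : WithBot ℕ∞)) (hci : ∀ (Q : Ideal (R ⧸ Ideal.span (↑s : Set R))) [Q.IsPrime], Q.height + (c : ℕ∞) ≤ ((2 + s.card : ℕ) : ℕ∞) → CInt.IsRegularIdeal ((Ideal.span (↑s : Set R)).map (algebraMap R (Localization.AtPrime (Q.comap (Ideal.Quotient.mk (Ideal.span (↑s : Set R)))))))) : SGA2.IsPurePair (Spec (CommRingCat.of (R ⧸ Ideal.span (↑s : Set R)))) (FEt.puncturedSpec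 (R ⧸ Ideal.span (↑s : Set R))) := by
  let I : Ideal R := Ideal.span (↑s : Set R)
  let A := R ⧸ I
  let Q := IsLocalRing.maximalIdeal A
  obtain ⟨a, ha, hQa⟩ := GrothLib.FewEq21.exists_dim_eq A
  have hQ : (3 : ℕ∞) ≤ Q.height := WithBot.coe_le_coe.1 (by
    rw [IsLocalRing.maximalIdeal_height_eq_ringKrullDim]
    exact hdim)
  obtain ⟨rs, hm, hspan, hlen⟩ := GrothLib.FewEq21.exists_few_atPrime s c hc Q hQ fun h => hci Q h
  let q : Ideal R := Q.comap (Ideal.Quotient.mk I)
  have hq : q = IsLocalRing.maximalIdeal R :=
    IsLocalRing.eq_maximalIdeal (Ideal.comap_isMaximal_of_surjective _ Ideal.Quotient.mk_surjective)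
  let L := Localization.AtPrime q
  let σ : R ≃+* L := (IsLocalization.atUnits R q.primeCompl (S := L) fun r hr => by
    show IsUnit r
    by_contra h
    exact hr (hq ▸ (IsLocalRing.mem_maximalIdeal r).2 h)).toRingEquiv
  have hσ : σ.toRingHom = algebraMap R L := RingHom.ext fun r => rfl
  haveI : IsRegularLocalRing L := Groth.Agent.S0564.result R q
  refine GrothLib.FewEq21.isPurePair_few L rs hm hlen A ((Ideal.Quotient.mk I).comp σ.symm.toRingHom)
    (Ideal.Quotient.mk_surjective.comp σ.symm.surjective) ?_
  rw [hspan, ← RingHom.comap_ker, Ideal.mk_ker, ← hσ]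
  exact Ideal.comap_symm σ

end Groth.Agent.S17791
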