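import Groth.Statements.S17794
import Groth.Agent.Lib.GrpdQuot.EffectiveRel
import Groth.Agent.Lib.GrpdQuot.QuotCriteria
import Groth.Agent.Lib.AlgSp.FppfDescent
import Groth.Agent.Lib.DiagGrp.KernelFP
-- import your own Groth.Agent.* helpers here

set_option autoImplicit false
universe u
open CategoryTheory CategoryTheory.Limits MonoidalCategory CartesianMonoidalCategory MonObj GrpObj AlgebraicGeometry
open GrpSch

namespace Groth.Agent.S17794

set_option backward.isDefEq.respectTransparency.types false in
/-- Let S be a scheme and f : G → H a homomorphism of S-group schemes, both of finite presentation over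
S (locally of finite presentation, quasi-compact and quasi-separated), and let i : N → G be the
kernel of f (the square formed by i, f, the unit section of H and N → S is cartesian). Then f is
faithfully flat (flat and surjective) if and only if the map of representable sheaves h_G → h_H
induced by f on the big fppf site of S is an epimorphism of sheaves of sets and N is flat over S. -/
theorem result {S : Scheme.{u}} {G H N : Over S} [GrpObj G] [GrpObj H] (f : G ⟶ H) [IsMonHom f] [LocallyOfFinitePresentation G.hom] [QuasiCompact G.hom] [QuasiSeparated G.hom] [LocallyOfFinitePresentation H.hom] [QuasiCompact H.hom] [QuasiSeparated H.hom] (i : N ⟶ G) (hi : AlgGrp.IsKernel i f) : (Flat f.left ∧ Surjective f.left) ↔ (Epi (QuotSh.repMap Scheme.fppfPrecoverage f) ∧ Flat N.hom) := by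
  have hsq : IsPullback i.left N.hom f.left η[H].left := hi.map (Over.forget S)
  constructor
  · rintro ⟨_, _⟩
    haveI : LocallyOfFinitePresentation (f.left ≫ H.hom) := by rw [Over.w f]; infer_instance
    haveI : LocallyOfFinitePresentation f.left :=
      GrothLib.DiagGrp.lfp_of_comp_of_lft f.left H.hom inferInstance inferInstance
    exact ⟨GrothLib.GrpdQuot.epi_repMap_of_mem Scheme.fppfPrecoverage f
      (GrothLib.GrpdQuot.singleton_mem_fppf f.left),
      MorphismProperty.of_isPullback hsq (inferInstance : Flat f.left)⟩
  · rintro ⟨hepi, hN⟩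
    haveI : (@Flat ⊓ @LocallyOfFinitePresentation : MorphismProperty Scheme.{u}).IsMultiplicative :=
      { id_mem := fun X => ⟨inferInstance, inferInstance⟩
        comp_mem := fun f g ⟨_, _⟩ ⟨_, _⟩ => ⟨inferInstance, inferInstance⟩ }
    haveI : Epi (QuotSh.repMap (Scheme.precoverage (@Flat ⊓ @LocallyOfFinitePresentation)) f) := hepi
    choose V e l he hx hl using fun x : H.left =>
      GrothLib.GrpdQuot.exists_cover_lift (@Flat ⊓ @LocallyOfFinitePresentation) (q := f) x
    let c : (∐ V) ⟶ H.left := Limits.Sigma.desc e
    let L : (∐ V) ⟶ G.left := Limits.Sigma.desc l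
    have hLc : L ≫ f.left = c := Sigma.hom_ext _ _ fun x => by simp [L, c, hl]
    have hcf : Flat c := by
      rw [IsZariskiLocalAtSource.iff_of_openCover (P := @Flat) (sigmaOpenCover V)]
      intro x
      rw [show (sigmaOpenCover V).f x ≫ c = e x from Sigma.ι_desc _ _]
      exact (he x).1
    have hcp : LocallyOfFinitePresentation c := by
      rw [IsZariskiLocalAtSource.iff_of_openCover (P := @LocallyOfFinitePresentation) (sigmaOpenCover V)]
      intro x
      rw [show (sigmaOpenCover V).f x ≫ c = e x from Sigma.ι_desc _ _]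
      exact (he x).2
    have hcs : Surjective c := ⟨fun x => by
      obtain ⟨y, hy⟩ := hx x
      exact ⟨Sigma.ι V x y, by rw [← Scheme.Hom.comp_apply, Sigma.ι_desc]; exact hy⟩⟩
    let V' : Over S := Over.mk (c ≫ H.hom)
    let c' : V' ⟶ H := Over.homMk c rfl
    let l' : V' ⟶ G := Over.homMk L (by
      change L ≫ G.hom = c ≫ H.hom
      rw [← Over.w f, reassoc_of% hLc])
    have hl' : l' ≫ f = c' := Over.OverMorphism.ext hLc
    haveI : Mono η[H] := mono_of_mono_fac (show η[H] ≫ toUnit H = 𝟙 _ from toUnit_unique _ _)
    haveI : Mono i := PullbackCone.mono_fst_of_is_pullback_of_mono hi.isLimit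
    have hker : ∀ {T : Over S} (n : T ⟶ N), (n ≫ i) ≫ f = 1 := fun {T} n => by
      rw [Category.assoc, hi.w, ← Category.assoc, Hom.one_def]
      congr 1
      exact toUnit_unique _ _
    have hP : IsPullback ((fst N V' ≫ i) * (snd N V' ≫ l')) (snd N V') f c' := by
      have w : ((fst N V' ≫ i) * (snd N V' ≫ l')) ≫ f = snd N V' ≫ c' := by
        rw [MonObj.mul_comp, hker, _root_.one_mul, Category.assoc, hl']
      refine ⟨⟨w⟩, ⟨PullbackCone.IsLimit.mk w (fun s => lift
        (hi.lift (s.fst * (s.snd ≫ l')⁻¹) (toUnit _) (by
          rw [MonObj.mul_comp, GrpObj.inv_comp, Category.assoc, hl', s.condition, mul_inv_cancel,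
            Hom.one_def])) s.snd) (fun s => ?_) (fun s => lift_snd _ _) (fun s m h₁ h₂ => ?_)⟩⟩
      · rw [MonObj.comp_mul, lift_fst_assoc, lift_snd_assoc, hi.lift_fst, inv_mul_cancel_right]
      · apply CartesianMonoidalCategory.hom_ext
        · rw [lift_fst, ← cancel_mono i, hi.lift_fst, ← h₁, ← h₂, MonObj.comp_mul, Category.assoc,
            Category.assoc, mul_inv_cancel_right]
        · rw [lift_snd, h₂]
    have hP' : IsPullback ((fst N V' ≫ i) * (snd N V' ≫ l')).left (snd N V').left f.left c :=
      hP.map (Over.forget S)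
    haveI : Flat N.hom := hN
    have hfl : Flat (snd N V').left := MorphismProperty.pullback_snd N.hom V'.hom hN
    refine ⟨GrothLib.AlgSp.fppfDescends_flat f.left c _ _ hP' hcf hcp hcs hfl, ?_⟩
    haveI : Surjective (L ≫ f.left) := hLc ▸ hcs
    exact Surjective.of_comp L f.left

end Groth.Agent.S17794
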