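import Groth.Statements.S17797
import Mathlib

set_option autoImplicit false
universe u
open CAlg

namespace Groth.Agent.S17797

/-- Suppose k is a field of characteristic zero and S is a local domain that is an essentially
finite-type k-algebra. Then there are an extension field K of k, a K-algebra A of finite type and a
maximal ideal m of A such that S is isomorphic over k to the localization A_m. -/
theorem result (k : Type u) [Field k] [CharZero k] (S : Type u) [CommRing S] [IsDomain S] [IsLocalRing S] [Algebra k S] [Algebra.EssFiniteType k S] : ∃ (K : Type u) (_ : Field K) (_ : Algebra k K) (A : Type u) (_ : CommRing A) (_ : Algebra K A) (_ : Algebra k A) (_ : IsScalarTower k K A) (_ : Algebra.FiniteType K A) (m : Ideal A) (_ : m.IsMaximal), Nonempty (S ≃ₐ[k] Localization.AtPrime m) := by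
  classical
  obtain ⟨s, hs⟩ := Algebra.EssFiniteType.cond (R := k) (S := S)
  let κ := IsLocalRing.ResidueField S
  let res : S →ₐ[k] κ := IsScalarTower.toAlgHom k S κ
  let sκ : Set κ := res '' (↑s : Set S)
  have hadj : ∀ a ∈ Algebra.adjoin k (↑s : Set S), res a ∈ Algebra.adjoin k sκ := fun a ha => by
    rw [← AlgHom.map_adjoin]
    exact ⟨a, ha, rfl⟩
  haveI : Algebra.IsAlgebraic (Algebra.adjoin k sκ) κ := ⟨fun z => by
    obtain ⟨x, rfl⟩ := IsLocalRing.residue_surjective z
    obtain ⟨⟨a, b⟩, hab⟩ := IsLocalization.surj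
      ((IsUnit.submonoid S).comap (algebraMap (Algebra.adjoin k (↑s : Set S)) S)) x
    let A' := Algebra.adjoin k sκ
    let a' : A' := ⟨res a, hadj _ a.2⟩
    let b' : A' := ⟨res b.1, hadj _ b.1.2⟩
    have hb : IsUnit (res b.1) := (show IsUnit ((b.1 : S)) from b.2).map res
    have hb0 : b' ≠ 0 := fun e => hb.ne_zero (congrArg Subtype.val e)
    refine ⟨Polynomial.C b' * Polynomial.X - Polynomial.C a', ?_, ?_⟩
    · intro e
      have := congrArg (fun p => Polynomial.coeff p 1) e
      simp at this
      exact hb0 this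
    · simp only [map_sub, map_mul, Polynomial.aeval_C, Polynomial.aeval_X]
      show res b.1 * res x - res a = 0
      rw [sub_eq_zero, ← map_mul, mul_comm]
      exact congrArg res hab⟩
  obtain ⟨T, hT, hbasis⟩ := exists_isTranscendenceBasis_subset (R := k) sκ
  have hlift : ∀ t : T, ∃ y : S, y ∈ s ∧ res y = t.1 := fun t => hT t.2
  choose y hy hyt using hlift
  let P := MvPolynomial T k
  let K := FractionRing P
  let ψ : P →ₐ[k] S := MvPolynomial.aeval y
  have hψ : ∀ p : P, res (ψ p) = MvPolynomial.aeval (Subtype.val : T → κ) p := fun p => by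
    rw [← AlgHom.comp_apply, MvPolynomial.comp_aeval]
    congr 1
    exact MvPolynomial.algHom_ext fun i => by simp [hyt]
  have hunit : ∀ p : nonZeroDivisors P, IsUnit (ψ p) := fun p => by
    rw [← IsLocalRing.residue_ne_zero_iff_isUnit]
    show res (ψ p) ≠ 0
    rw [hψ]
    exact fun e => nonZeroDivisors.ne_zero p.2 (hbasis.1 (by rw [e, map_zero]))
  letI : Algebra K S := (IsLocalization.lift (S := K) (g := (ψ : P →+* S)) hunit).toAlgebra
  haveI : IsScalarTower k K S := IsScalarTower.of_algebraMap_eq fun c => by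
    rw [RingHom.algebraMap_toAlgebra, IsScalarTower.algebraMap_apply k P K, IsLocalization.lift_eq]
    exact (ψ.commutes c).symm
  haveI : IsScalarTower k K κ := IsScalarTower.of_algebraMap_eq fun c => by
    rw [IsScalarTower.algebraMap_apply K S κ, ← IsScalarTower.algebraMap_apply k K S,
      ← IsScalarTower.algebraMap_apply k S κ]
  haveI : Algebra.IsAlgebraic K κ := by
    let B := Algebra.adjoin k (Set.range (Subtype.val : T → κ))
    haveI : Algebra.IsAlgebraic B κ := hbasis.isAlgebraic
    let g : B →+* K := (algebraMap P K).comp hbasis.1.aevalEquiv.symm.toRingHom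
    letI : Algebra B K := g.toAlgebra
    haveI : IsScalarTower B K κ := IsScalarTower.of_algebraMap_eq fun b => by
      rw [RingHom.algebraMap_toAlgebra, RingHom.comp_apply, IsScalarTower.algebraMap_apply K S κ,
        RingHom.algebraMap_toAlgebra, IsLocalization.lift_eq]
      show (b : κ) = res (ψ (hbasis.1.aevalEquiv.symm b))
      rw [hψ, ← AlgebraicIndependent.algebraMap_aevalEquiv hbasis.1, AlgEquiv.apply_symm_apply]
      rfl
    haveI : FaithfulSMul B K := (faithfulSMul_iff_algebraMap_injective B K).2
      ((IsFractionRing.injective P K).comp hbasis.1.aevalEquiv.symm.injective)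
    exact Algebra.IsAlgebraic.extendScalars (FaithfulSMul.algebraMap_injective B K)
  let A := Algebra.adjoin K (↑s : Set S)
  let m : Ideal A := (IsLocalRing.maximalIdeal S).comap (algebraMap A S)
  have hm : m.IsMaximal := by
    have hF := Subalgebra.isField_of_algebraic (A.map (IsScalarTower.toAlgHom K S κ))
    refine Ideal.isMaximal_iff.2 ⟨fun h => ?_, fun J a hJ ha haJ => ?_⟩
    · exact (IsLocalRing.maximalIdeal.isMaximal S).ne_top
        ((Ideal.eq_top_iff_one _).2 (by simpa [m] using h))
    · have hne : IsLocalRing.residue S (a : S) ≠ 0 := fun e => ha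
        (show (a : S) ∈ IsLocalRing.maximalIdeal S from (IsLocalRing.residue_eq_zero_iff _).1 e)
      obtain ⟨⟨_, b, hb, rfl⟩, hc⟩ := hF.mul_inv_cancel
        (show (⟨IsLocalRing.residue S (a : S), ⟨a, a.2, rfl⟩⟩ : A.map (IsScalarTower.toAlgHom K S κ)) ≠ 0
          from fun e => hne (congrArg Subtype.val e))
      have hc' : IsLocalRing.residue S ((a : S) * b) = 1 := by
        rw [map_mul]
        exact congrArg Subtype.val hc
      have hmem : a * ⟨b, hb⟩ - 1 ∈ m := by
        show (a : S) * b - 1 ∈ IsLocalRing.maximalIdeal S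
        rw [← IsLocalRing.residue_eq_zero_iff, map_sub, hc', map_one, sub_self]
      have := J.sub_mem (J.mul_mem_right ⟨b, hb⟩ haJ) (hJ hmem)
      simpa using this
  haveI := hm
  haveI : Algebra.FiniteType K A := (Subalgebra.fg_iff_finiteType A).1 ⟨s, rfl⟩
  haveI : IsLocalization.AtPrime S m := by
    refine (isLocalization_iff m.primeCompl S).2 ⟨fun a => ?_, fun x => ?_, fun {a b} h => ⟨1, ?_⟩⟩
    · exact IsLocalRing.notMem_maximalIdeal.1 a.2
    · obtain ⟨⟨a, b⟩, hab⟩ := IsLocalization.surj
        ((IsUnit.submonoid S).comap (algebraMap (Algebra.adjoin k (↑s : Set S)) S)) x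
      have hle : ∀ z ∈ Algebra.adjoin k (↑s : Set S), z ∈ A :=
        Algebra.adjoin_le (S := A.restrictScalars k) Algebra.subset_adjoin
      exact ⟨⟨⟨a, hle _ a.2⟩, ⟨⟨b.1, hle _ b.1.2⟩, fun h => h b.2⟩⟩, hab⟩
    · rw [Subtype.ext h]
  exact ⟨K, inferInstance, inferInstance, A, inferInstance, inferInstance, inferInstance,
    inferInstance, inferInstance, m, hm,
    ⟨(IsLocalization.algEquiv m.primeCompl S (Localization.AtPrime m)).restrictScalars k⟩⟩

end Groth.Agent.S17797
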