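import Groth.Statements.S17798
import Groth.Agent.ClTors21.Class
import Groth.Agent.S17788

set_option autoImplicit false
universe u
open CategoryTheory CategoryTheory.Limits AlgebraicGeometry
open RefFun

namespace Groth.Agent.S17798

/-- Let A be an excellent normal local domain which is equicharacteristic (A and its residue field have
the same characteristic p, possibly 0) and pure in codimension at least 2: for every prime P of A of
height at least 2 the completion of A_P at its maximal ideal is pure. Consider the divisor class
group of A, realized as the group of isomorphism classes of rank-one coherent reflexive modules on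
Spec A under the reflexive tensor product. Then it has no torsion of order prime to the
characteristic: for every integer s ≥ 1 invertible in A and every class c with c^s = 1, c = 1. -/
theorem result (A : Type u) [CommRing A] [IsDomain A] [IsLocalRing A] [IsNoetherianRing A] [IsIntegrallyClosed A] (hA : EGA4.IsExcellent A) (p : ℕ) [CharP A p] [CharP (IsLocalRing.ResidueField A) p] (hpure : ∀ (P : Ideal A) [P.IsPrime], (2 : ℕ∞) ≤ P.height → SGA2.IsPurePair (Spec (CommRingCat.of (AdicCompletion (IsLocalRing.maximalIdeal (Localization.AtPrime P)) (Localization.AtPrime P)))) (FEt.puncturedSpec (AdicCompletion (IsLocalRing.maximalIdeal (Localization.AtPrime P)) (Localization.AtPrime P)))) [RefFun.Law (Spec (CommRingCat.of A))] (s : ℕ) (hs : 0 < s) (hsu : IsUnit ((s : ℕ) : A)) (c : RefFun.Ref1Set (Spec (CommRingCat.of A))) (hc : c ^ s = 1) : c = 1 := by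
  haveI : Module.Finite A (integralClosure A (FractionRing A)) :=
    Module.Finite.of_surjective (Algebra.linearMap A (integralClosure A (FractionRing A))) fun x => by
      obtain ⟨a, ha⟩ := (IsIntegrallyClosed.isIntegral_iff (R := A) (K := FractionRing A)).1 x.2
      exact ⟨a, Subtype.ext ha⟩
  refine GrothLib.ClTors21.eq_one_of_pow_eq_one s hs (fun g hg hloc => ?_) c hc
  exact GrothLib.ClTors21.exists_root
    (GrothLib.HeightOneHull5.heightOneHullFinite_of_univCatenary hA.2.1 inferInstance)
    (fun B _ _ _ _ _ hinj q _ hq hmin => by
      exact_mod_cast Groth.Agent.S17788.result A hA 2 (fun P _ h => hpure P h) B hinj q hq hmin)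
    s hs hsu g hg hloc

end Groth.Agent.S17798
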