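import Groth.Statements.S17799
import Groth.Agent.S17798
import Groth.Agent.S17792
import Groth.Agent.FewEq21.Main
import Groth.Agent.Lib.AdicExtra.Completion

set_option autoImplicit false
universe u
open CategoryTheory CategoryTheory.Limits AlgebraicGeometry
open RefFun

namespace Groth.Agent.S17799

/-- Write A = R/I with R a regular local ring and I generated by a finite set s of elements of the
maximal ideal, let c = dim R − dim A, and call δ = |s| − c the deviation of this presentation (for a
minimal generating set this is the deviation of A). Suppose A is an excellent normal domain which is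
equicharacteristic (A and its residue field have the same characteristic p, possibly 0), satisfies
Serre's condition R₂ (the localization at every prime of height at most 2 is regular), and is a
complete intersection in codimension at most 2 + δ: for every prime Q of A with height(Q) + c ≤ 2 +
|s|, the ideal generated by s in the localization of R at the preimage of Q is generated by a
regular sequence. Then the divisor class group of A, realized as the group of isomorphism classes of
rank-one coherent reflexive modules on Spec A under the reflexive tensor product, has no torsion of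
order prime to the characteristic: for every integer t ≥ 1 invertible in A and every class x with
x^t = 1, x = 1. -/
theorem result (R : Type u) [CommRing R] [IsRegularLocalRing R] (s : Finset R) (hs : ∀ x ∈ s, x ∈ IsLocalRing.maximalIdeal R) [IsDomain (R ⧸ Ideal.span (↑s : Set R))] [IsIntegrallyClosed (R ⧸ Ideal.span (↑s : Set R))] (hexc : EGA4.IsExcellent (R ⧸ Ideal.span (↑s : Set R))) (p : ℕ) [CharP (R ⧸ Ideal.span (↑s : Set R)) p] [CharP (IsLocalRing.ResidueField (R ⧸ Ideal.span (↑s : Set R))) p] (hR2 : LocCoh.HasRk 2 (R ⧸ Ideal.span (↑s : Set R))) (c : ℕ) (hc : ringKrullDim R = ringKrullDim (R ⧸ Ideal.span (↑s : Set R)) + (c : WithBot ℕ∞)) (hci : ∀ (Q : Ideal (R ⧸ Ideal.span (↑s : Set R))) [Q.IsPrime], Q.height + (c : ℕ∞) ≤ ((2 + s.card : ℕ) : ℕ∞) → CInt.IsRegularIdeal ((Ideal.span (↑s : Set R)).map (algebraMap R (Localization.AtPrime (Q.comap (Ideal.Quotient.mk (Ideal.span (↑s : Set R)))))))) [RefFun.Law (Spec (CommRingCat.of (R ⧸ Ideal.span (↑s : Set R))))] (t : ℕ) (ht : 0 < t) (htu : IsUnit ((t : ℕ) : (R ⧸ Ideal.span (↑s : Set R)))) (x : RefFun.Ref1Set (Spec (CommRingCat.of (R ⧸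 Ideal.span (↑s : Set R))))) (hx : x ^ t = 1) : x = 1 := by
  haveI : IsLocalRing (R ⧸ Ideal.span (↑s : Set R)) :=
    IsLocalRing.of_surjective' _ Ideal.Quotient.mk_surjective
  have heq : EGA4.IsEquidim (R ⧸ Ideal.span (↑s : Set R)) := by
    intro P hP
    rw [IsDomain.minimalPrimes_eq_singleton_bot, Set.mem_singleton_iff] at hP
    subst hP
    exact ringKrullDim_eq_of_ringEquiv (RingEquiv.quotientBot _)
  refine Groth.Agent.S17798.result _ hexc p (fun Q _ hQ => ?_) t ht htu x hx
  by_cases h3 : (3 : ℕ∞) ≤ Q.height
  · exact Groth.Agent.S17792.result R s hs hexc heq c hc hci Q h3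
  · have h2 : Q.height = 2 := le_antisymm (Order.le_of_lt_add_one ((not_le.1 h3).trans_eq (by norm_num))) hQ
    haveI : IsRegularLocalRing (Localization.AtPrime Q) := hR2 Q (by rw [h2]; rfl)
    haveI := GrothLib.AdicExtra.isRegularLocalRing_adicCompletion_iff.1
      (inferInstance : IsRegularLocalRing (Localization.AtPrime Q))
    refine GrothLib.PunctPure21.isPurePair_of_isEquivalence (GrothLib.FewEq21.punctEquiv_of_regular _ ?_)
    rw [GrothLib.AdicExtra.ringKrullDim_adicCompletion, IsLocalization.AtPrime.ringKrullDim_eq_height Q, h2]
    rfl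

end Groth.Agent.S17799
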