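import Groth.Statements.S17803
import Groth.Agent.Lib.RegCompl.Basic
import Groth.Agent.Lib.Smoothing.Approx.GRing
import Groth.Agent.Lib.NormalHom.Colimit
import Groth.Agent.Lib.Excellent.Localization
import Groth.Agent.Lib.GeomReg.Local

set_option autoImplicit false
universe u
open EGA4

namespace Groth.Agent.S17803

theorem exists_surjective_completion {R A : Type u} [CommRing R] [CommRing A] (π : R →+* A)
    (hπ : Function.Surjective π) (I : Ideal A) :
    ∃ Ψ : AdicCompletion (I.comap π) R →+* AdicCompletion I A, Function.Surjective Ψ := by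
  set J := I.comap π
  have hJ : ∀ n, (J ^ n).map π = I ^ n := fun n => by rw [Ideal.map_pow, Ideal.map_comap_of_surjective π hπ]
  let f : (n : ℕ) → AdicCompletion J R →+* A ⧸ I ^ n := fun n =>
    (Ideal.quotientMap (I ^ n) π (Ideal.map_le_iff_le_comap.1 (hJ n).le)).comp (AdicCompletion.evalₐ J n).toRingHom
  have hmk : ∀ (n : ℕ) (a : AdicCompletion.AdicCauchySequence J R),
      f n (AdicCompletion.mk J R a) = Ideal.Quotient.mk _ (π (a.val n)) := fun n a => by
    show Ideal.quotientMap _ π (Ideal.map_le_iff_le_comap.1 (hJ n).le) (AdicCompletion.evalₐ J n (AdicCompletion.mk J R a)) = _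
    rw [AdicCompletion.evalₐ_mk, Ideal.quotientMap_mk]
  have hf : ∀ {m n : ℕ} (hle : m ≤ n), (Ideal.Quotient.factorPow I hle).comp (f n) = f m := fun {m n} hle => by
    refine RingHom.ext fun x => ?_
    obtain ⟨a, rfl⟩ := AdicCompletion.mk_surjective J R x
    rw [RingHom.comp_apply, hmk, hmk, Ideal.Quotient.factor_mk, Ideal.Quotient.eq, ← map_sub]
    have h := (SModEq.sub_mem.1 (a.property hle).symm)
    rw [smul_eq_mul, Ideal.mul_top] at h
    exact Ideal.map_le_iff_le_comap.1 (hJ m).le h
  refine ⟨AdicCompletion.liftRingHom I f hf, fun y => ?_⟩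
  obtain ⟨a, rfl⟩ := AdicCompletion.mk_surjective I A y
  have hstep : ∀ n, ∃ d ∈ J ^ n, π d = a.val (n + 1) - a.val n := fun n => by
    refine (Ideal.mem_map_iff_of_surjective π hπ).1 ?_
    rw [hJ]
    have h := SModEq.sub_mem.1 (a.property (Nat.le_succ n)).symm
    rwa [smul_eq_mul, Ideal.mul_top] at h
  choose d hd hπd using hstep
  obtain ⟨b₀, hb₀⟩ := hπ (a.val 0)
  let b : ℕ → R := fun n => b₀ + ∑ i ∈ Finset.range n, d i
  have hb : ∀ n, π (b n) = a.val n := fun n => by
    induction n with
    | zero => simp [b, hb₀]
    | succ n ih =>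
      rw [show b (n + 1) = b n + d n by simp [b, Finset.sum_range_succ, add_assoc], map_add, ih, hπd]
      ring
  refine ⟨AdicCompletion.mk J R (AdicCompletion.AdicCauchySequence.mk J R b fun n => ?_), AdicCompletion.ext_evalₐ fun n => ?_⟩
  · rw [SModEq.sub_mem, smul_eq_mul, Ideal.mul_top, show b (n + 1) = b n + d n by simp [b, Finset.sum_range_succ, add_assoc]]
    simpa using hd n
  · rw [AdicCompletion.evalₐ_liftRingHom, hmk, AdicCompletion.evalₐ_mk]
    exact congrArg _ (hb n)

/-- Let A be an excellent normal domain which is a quotient of a regular ring, I an ideal of A and f ∈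
A. Then the I-adic completion of the localization A_f is a normal ring (its localization at every
prime ideal is an integrally closed domain), and it is a quotient of a regular ring. -/
theorem result (A : Type u) [CommRing A] [IsDomain A] [IsIntegrallyClosed A] (hexc : EGA4.IsExcellent A) (hreg : ∃ (R : Type u) (_ : CommRing R) (_ : IsRegularRing R) (φ : R →+* A), Function.Surjective φ) (I : Ideal A) (f : A) : EGA4.IsNormalRing (AdicCompletion (I.map (algebraMap A (Localization.Away f))) (Localization.Away f)) ∧ ∃ (R' : Type u) (_ : CommRing R') (_ : IsRegularRing R') (ψ : R' →+* AdicCompletion (I.map (algebraMap A (Localization.Away f))) (Localization.Away f)), Function.Surjective ψ := by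
  haveI : IsNoetherianRing A := hexc.1
  let A' := Localization.Away f
  let I' := I.map (algebraMap A A')
  haveI : IsNoetherianRing A' := IsLocalization.isNoetherianRing (Submonoid.powers f) _ inferInstance
  haveI : IsNoetherianRing (AdicCompletion I' A') :=
    GrothLib.AdicExtra.isNoetherianRing_adicCompletion_of_fg I' (IsNoetherian.noetherian I')
  constructor
  · haveI : Module.Flat A' (AdicCompletion I' A') := AdicCompletion.flat_of_isNoetherian I'
    have hA : EGA4.IsNormalRing A := fun p _ =>
      ⟨IsLocalization.isDomain_of_le_nonZeroDivisors _ p.primeCompl_le_nonZeroDivisors,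
        isIntegrallyClosed_of_isLocalization (Localization.AtPrime p) p.primeCompl p.primeCompl_le_nonZeroDivisors⟩
    have hn : EGA4.IsNormalHom A' (AdicCompletion I' A') := GrothLib.NormalHom.isNormalHom_of_isRegularHom
      (Smoothing.Approx.isRegularHom_adicCompletion
        (GrothLib.Excellent.isExcellent_localization (A' := A') (Submonoid.powers f) hexc).2.2.1 I')
    refine GrothLib.NormalHom.isNormalRing_of_flat_of_fibres
      (GrothLib.Excellent.isNormalRing_isLocalization (T := A') (Submonoid.powers f) hA) fun p _ => ?_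
    exact GrothLib.Excellent.isNormalRing_of_isGeomNormal (hn.2 p)
  · obtain ⟨R, _, _, φ, hφ⟩ := hreg
    obtain ⟨g, rfl⟩ := hφ f
    let R' := Localization.Away g
    haveI : IsRegularRing R' := GrothLib.GeomReg.isRegularRing_of_isLocalization (Submonoid.powers g) _
    let π : R' →+* A' := IsLocalization.Away.map R' A' φ g
    have hπ : Function.Surjective π := by
      intro z
      obtain ⟨a, ⟨_, n, rfl⟩, rfl⟩ := IsLocalization.exists_mk'_eq (Submonoid.powers (φ g)) z
      obtain ⟨r, rfl⟩ := hφ a
      refine ⟨IsLocalization.mk' R' r (⟨g ^ n, n, rfl⟩ : Submonoid.powers g), ?_⟩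
      show IsLocalization.map _ φ _ (IsLocalization.mk' R' r _) = _
      rw [IsLocalization.map_mk']
      simp only [map_pow]
    obtain ⟨Ψ, hΨ⟩ := exists_surjective_completion π hπ I'
    exact ⟨_, _, GrothLib.RegCompl.isRegularRing_adicCompletion _, Ψ, hΨ⟩

end Groth.Agent.S17803
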