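import Groth.Statements.S17808
-- import your own Groth.Agent.* helpers here
import Groth.Agent.Lib.CurveBase26.H0Div

set_option autoImplicit false
universe u
open CategoryTheory CategoryTheory.Limits AlgebraicGeometry
open JacVar

set_option backward.isDefEq.respectTransparency false
set_option linter.style.haveILetI false

noncomputable section

open GrothLib

namespace Groth.Agent.S17808

/-- Let C be a smooth proper connected curve of genus g > 0 over an algebraically closed field k (with a
chosen point), and let r ≤ g. Then there is a nonempty open subset U of the r-fold fibre power C ×_k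
⋯ ×_k C such that for every k-point (P_1, …, P_r) of U (closed points, k being algebraically closed)
and every invertible module M on C with M ⊗ I_{P_1} ⊗ ⋯ ⊗ I_{P_r} ≅ O_C (so M is O(P_1 + ⋯ + P_r)),
h⁰(C, M) = 1. (The published statement, over the ground field of the section, says only that U is
open; this row also asserts that U is non-empty; k is taken algebraically closed so that the
k-points of U are its closed points.) -/
theorem result (k : Type u) [Field k] [IsAlgClosed k]
    (C : Scheme.{u}) [C.Over (Spec (CommRingCat.of k))]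
    [IsProper (C ↘ Spec (CommRingCat.of k))] [Smooth (C ↘ Spec (CommRingCat.of k))] [GeometricallyConnected (C ↘ Spec (CommRingCat.of k))]
    (hdim : topologicalKrullDim ↥C = 1)
    (hg : 0 < Curv2.genus k C)
    (σ₀ : Spec (CommRingCat.of k) ⟶ C) (hσ₀ : σ₀ ≫ (C ↘ Spec (CommRingCat.of k)) = 𝟙 _)
    (r : ℕ) (hr : r ≤ Curv2.genus k C) :
    ∃ U : (SymProd.fibPow (C ↘ Spec (CommRingCat.of k)) r).Opens, (U : Set ↥(SymProd.fibPow (C ↘ Spec (CommRingCat.of k)) r)).Nonempty ∧
      ∀ (x : Spec (CommRingCat.of k) ⟶ SymProd.fibPow (C ↘ Spec (CommRingCat.of k)) r)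
        (hx : x ≫ WidePullback.base (fun (_ : Fin r) => (C ↘ Spec (CommRingCat.of k))) = 𝟙 _)
        (hxU : ∀ p, x.base p ∈ U) (M : C.Modules) (hM : PicF.IsInvertible M)
        (hMD : Nonempty (CohB1.tensorMod M (FGA.tensorList (List.ofFn fun i : Fin r =>
          ClSub.idealMod (x ≫ WidePullback.π (fun (_ : Fin r) => (C ↘ Spec (CommRingCat.of k))) i).ker)) ≅ Coh.structureModule C)),
        Module.finrank k (Coh.HH C M 0) = 1 := by
  haveI : ConnectedSpace C :=
    GeometricallyConnected.connectedSpace_of_subsingleton (C ↘ Spec (CommRingCat.of k))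
  haveI := GrothLib.Euler.isIntegral_of_smooth_connected k (C ↘ Spec (CommRingCat.of k))
  haveI := GrothLib.Euler.isNoetherian_of_proper (X := C) k
  haveI := GrothLib.CurveRR.regCurve_of_smooth (C ↘ Spec (CommRingCat.of k)) hdim
  have h0 := GrothLib.CurveMult.finrank_H0_eq_one_of_geometricallyConnected k (C := C)
  have hK := GrothLib.CurveRR.isFunctionField k h0
  have hgen := GrothLib.CurveRR.genus_eq k h0
  obtain ⟨K, hKc⟩ := GrothLib.FunFld.exists_isCanonical hK
  have hellK := GrothLib.FunFld.ell_canonical hK hKc
  obtain ⟨U, hUne, hU⟩ := GrothLib.CurveBase26.exists_open_indep k K (id : Fin r → Fin r) Function.injective_id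
    (by omega)
  refine ⟨U, hUne, fun x hx hxU M hM hMD => ?_⟩
  choose P hP hdeg hiso using fun i : Fin r => GrothLib.CurveBase26.exists_point k hdim
    (x ≫ WidePullback.π (fun (_ : Fin r) => (C ↘ Spec (CommRingCat.of k))) i)
    (by rw [Category.assoc, WidePullback.π_arrow]; exact hx)
  obtain ⟨eA⟩ := GrothLib.CurveBase26.nonempty_tensorList_oD k _ _ hiso
  rw [GrothLib.CurveBase26.finrank_H0_of_tensor k hM eA
    (GrothLib.CurveRR.nonempty_iso_oD_zero k).some hMD]
  have hind := hU x hx hxU P hP
  simp only [id] at hind
  rw [Finset.sum_neg_distrib, zero_sub, neg_neg]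
  have hd : FunFld.Divisor.deg (∑ i : Fin r, (Finsupp.single (GrothLib.CurveRR.place k (P i)) 1 :
      FunFld.Divisor k C.functionField)) = (r : ℤ) := by
    rw [GrothLib.FunFld.deg_sum]
    simp [GrothLib.FunFld.deg_single, hdeg]
  have hRR := GrothLib.FunFld.riemann_roch' hK hKc
    (∑ i : Fin r, (Finsupp.single (GrothLib.CurveRR.place k (P i)) 1 : FunFld.Divisor k C.functionField))
  rw [hd, hind] at hRR
  omega

end Groth.Agent.S17808
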