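import Groth.Statements.S1781
import Groth.Agent.Lib.DualRing.ShriekIndep
-- import your own Groth.Agent.* helpers here

set_option autoImplicit false
universe u
open CategoryTheory
attribute [local instance] HasDerivedCategory.standard
open Dual2

namespace Groth.Agent.S1781

/-- Let R → A be a ring map of finite type between Noetherian rings. Here φ^!(K) is formed from a
presentation ψ : R[x_1, …, x_n] → A as RHom_P(A, K ⊗^L_R P)[n], assuming the derived base change to
P exists and taking for RHom_P(A, −) a right adjoint of restriction of scalars along ψ. For two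
presentations (with n and m variables) the resulting objects of D(A) are isomorphic, for every K in
D(R). -/
theorem result (R A : Type u) [CommRing R] [CommRing A] [IsNoetherianRing R] [IsNoetherianRing A] [Algebra R A] (n : ℕ) (ψ : MvPolynomial (Fin n) R →ₐ[R] A) (hψ : Function.Surjective ψ) [DRing.HasLBaseChange (algebraMap R (MvPolynomial (Fin n) R))] (Rψ : Dual.D (MvPolynomial (Fin n) R) ⥤ Dual.D A) (adj : DRing.restrictD ψ.toRingHom ⊣ Rψ) (m : ℕ) (ψ' : MvPolynomial (Fin m) R →ₐ[R] A) (hψ' : Function.Surjective ψ') [DRing.HasLBaseChange (algebraMap R (MvPolynomial (Fin m) R))] (Rψ' : Dual.D (MvPolynomial (Fin m) R) ⥤ Dual.D A) (adj' : DRing.restrictD ψ'.toRingHom ⊣ Rψ') (K : Dual.D R) : Nonempty (Dual2.shriekVia n Rψ K ≅ Dual2.shriekVia m Rψ' K) := by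
  have key : ∀ (k : ℕ) (φ : MvPolynomial (Fin k) R →ₐ[R] A) [DRing.HasLBaseChange (algebraMap R (MvPolynomial (Fin k) R))]
      (F : Dual.D (MvPolynomial (Fin k) R) ⥤ Dual.D A), (DRing.restrictD φ.toRingHom ⊣ F) →
      haveI := GrothLib.DualRing.Shriek.pfl_of_flat R (P := MvPolynomial (Fin k) R)
      Nonempty (Dual2.shriekVia k F K ≅ GrothLib.DualRing.Shriek.GP φ K) := fun k φ _ F adjF => by
    haveI := GrothLib.DualRing.Shriek.pfl_of_flat R (P := MvPolynomial (Fin k) R)
    obtain ⟨e⟩ := GrothLib.DualCx22.nonempty_lBase_iso_bcD (A := R) (MvPolynomial (Fin k) R)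
    exact ⟨(shiftFunctor (Dual.D A) (k : ℤ)).mapIso
      (F.mapIso (e.app K) ≪≫ (adjF.rightAdjointUniq (GrothLib.DualRing.Shriek.radj φ.toRingHom)).app _)⟩
  obtain ⟨e1⟩ := key n ψ Rψ adj
  obtain ⟨e2⟩ := key m ψ' Rψ' adj'
  obtain ⟨e3⟩ := GrothLib.DualRing.Shriek.nonempty_GP_indep ψ hψ ψ' hψ' K
  exact ⟨e1 ≪≫ e3 ≪≫ e2.symm⟩

end Groth.Agent.S1781
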