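import Groth.Statements.S17813
-- import your own Groth.Agent.* helpers here
import Groth.Agent.Lib.JacSym26.Points

set_option autoImplicit false
universe u
open CategoryTheory CategoryTheory.Limits AlgebraicGeometry MonoidalCategory CartesianMonoidalCategory MonObj
open JacVar

set_option backward.isDefEq.respectTransparency false
set_option linter.style.haveILetI false

noncomputable section

open GrothLib

namespace Groth.Agent.S17813

/-- Let k be an algebraically closed field, C a smooth proper connected curve of genus g ≥ 2 over k with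
a k-point P, (J, ψ) its Jacobian (a commutative group scheme over k, coarse moduli scheme on all
k-schemes for degree-0 line bundles modulo twisting from the base, group law induced by tensor
product) and j : C ⟶ J the Abel map with base point P. Write W^r ⊂ J for the image of the r-fold
product C ×_k ⋯ ×_k C under (x_1, …, x_r) ↦ j(x_1) ⋯ j(x_r) (the image of the r-th symmetric power;
W^0 is the origin), and W^r_a for its translate by a k-point a of J. Then for 0 ≤ r ≤ g − 1 the set
W^{g−1−r} is the intersection of the translates W^{g−1}_{a⁻¹} over all k-points a of J lying in W^r.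
(The companion equality for the images under x ↦ κ·x⁻¹, κ the image of a canonical divisor, is not
stated.) -/
theorem result (k : Type u) [Field k] [IsAlgClosed k]
    (C : Scheme.{u}) [C.Over (Spec (CommRingCat.of k))]
    [IsProper (C ↘ Spec (CommRingCat.of k))] [Smooth (C ↘ Spec (CommRingCat.of k))] [GeometricallyConnected (C ↘ Spec (CommRingCat.of k))]
    (hdim : topologicalKrullDim ↥C = 1)
    (g : ℕ) (hg : Curv2.genus k C = g) (hg2 : 2 ≤ g)
    (σ : Spec (CommRingCat.of k) ⟶ C) (hσ : σ ≫ (C ↘ Spec (CommRingCat.of k)) = 𝟙 _)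
    (J : Over (Spec (CommRingCat.of k))) [GrpObj J] [IsCommMonObj J]
    (ψ : (ModFun.PicDeg (C ↘ Spec (CommRingCat.of k)) 0).Hom ⊤ J) (hJ : Jac.IsJacobian (C ↘ Spec (CommRingCat.of k)) ⊤ J ψ)
    (j : Over.mk (C ↘ Spec (CommRingCat.of k)) ⟶ J) (hj : Jac.IsAbelJacobiAt (C ↘ Spec (CommRingCat.of k)) σ ψ j)
    (r : ℕ) (hr : r ≤ g - 1) :
    Set.range ((List.ofFn fun i : Fin (g - 1 - r) =>
        (Over.homMk (WidePullback.π (fun (_ : Fin (g - 1 - r)) => (C ↘ Spec (CommRingCat.of k))) i)
          (WidePullback.π_arrow (fun (_ : Fin (g - 1 - r)) => (C ↘ Spec (CommRingCat.of k))) i) : Over.mk (WidePullback.base fun (_ : Fin (g - 1 - r)) => (C ↘ Spec (CommRingCat.of k))) ⟶ Over.mk (C ↘ Spec (CommRingCat.of k))) ≫ j).prod).left.base =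
      ⋂ (a : 𝟙_ (Over (Spec (CommRingCat.of k))) ⟶ J) (_ : ∀ p, a.left.base p ∈ Set.range ((List.ofFn fun i : Fin r =>
        (Over.homMk (WidePullback.π (fun (_ : Fin r) => (C ↘ Spec (CommRingCat.of k))) i)
          (WidePullback.π_arrow (fun (_ : Fin r) => (C ↘ Spec (CommRingCat.of k))) i) : Over.mk (WidePullback.base fun (_ : Fin r) => (C ↘ Spec (CommRingCat.of k))) ⟶ Over.mk (C ↘ Spec (CommRingCat.of k))) ≫ j).prod).left.base),
        ((Jac.transl J a⁻¹).left.base '' Set.range ((List.ofFn fun i : Fin (g - 1) =>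
        (Over.homMk (WidePullback.π (fun (_ : Fin (g - 1)) => (C ↘ Spec (CommRingCat.of k))) i)
          (WidePullback.π_arrow (fun (_ : Fin (g - 1)) => (C ↘ Spec (CommRingCat.of k))) i) : Over.mk (WidePullback.base fun (_ : Fin (g - 1)) => (C ↘ Spec (CommRingCat.of k))) ⟶ Over.mk (C ↘ Spec (CommRingCat.of k))) ≫ j).prod).left.base) := by
  haveI : ConnectedSpace C :=
    GeometricallyConnected.connectedSpace_of_subsingleton (C ↘ Spec (CommRingCat.of k))
  haveI := GrothLib.Euler.isIntegral_of_smooth_connected k (C ↘ Spec (CommRingCat.of k))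
  haveI := GrothLib.Euler.isNoetherian_of_proper (X := C) k
  haveI := GrothLib.CurveRR.regCurve_of_smooth (C ↘ Spec (CommRingCat.of k)) hdim
  obtain ⟨Q, hQ, -, -⟩ := GrothLib.CurveBase26.exists_point k (X := C) hdim σ hσ
  have hc := fun ξ => GrothLib.JacSym26.core j hJ hdim σ hσ hj Q hQ hg (g - 1 - r) r (by omega) (by omega) ξ
  show Set.range (GrothLib.JacSym26.q j (g - 1 - r)).left = ⋂ (a : GrothLib.JacSym26.T₀ k ⟶ J)
    (_ : ∀ p, a.left p ∈ Set.range (GrothLib.JacSym26.q j r).left),
    (Jac.transl J a⁻¹).left '' Set.range (GrothLib.JacSym26.q j (g - 1)).left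
  refine Set.Subset.antisymm (Set.subset_iInter₂ fun a ha => ?_) fun y hy => ?_
  · have := (GrothLib.JacSym26.subset_iff j (g - 1 - r) (g - 1) 1 a⁻¹).2 fun η' hη => by
      rw [_root_.mul_one, inv_inv, mul_comm]
      exact (hc η').2 hη a ((GrothLib.JacSym26.mem_range_q j a).1 ha)
    rw [GrothLib.JacSym26.transl_one] at this
    exact fun y hy => this ⟨y, hy, rfl⟩
  · simp only [GrothLib.JacSym26.image_transl, inv_inv, Set.mem_iInter, Set.mem_preimage] at hy
    have h1 : (1 : GrothLib.JacSym26.T₀ k ⟶ J) ∈ GrothLib.JacSym26.W j r := by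
      refine ⟨fun _ => Over.homMk σ hσ, ?_⟩
      obtain ⟨Q', hQ', -, -⟩ := GrothLib.CurveBase26.exists_point k (X := C) hdim σ hσ
      have hp := GrothLib.JacSym26.pt_prod j hJ hdim σ hσ hj Q hQ r (fun _ => Over.homMk σ hσ) (fun _ => Q)
        (fun _ => hQ)
      exact ((GrothLib.JacSym26.Pt.one hJ).eq_of_sub_mem hp (by simp))
    obtain ⟨z, hz⟩ := hy 1 ((GrothLib.JacSym26.mem_range_q j 1).2 h1)
    rw [GrothLib.JacSym26.transl_one] at hz
    change (GrothLib.JacSym26.q j (g - 1)).left z = y at hz
    subst hz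
    haveI := GrothLib.JacSym26.jacobson (k := k) (C := C) (g - 1)
    let I : Set ↥(GrothLib.JacSym26.Cp k C (g - 1)).left := ⋂ (a : GrothLib.JacSym26.T₀ k ⟶ J)
      (_ : ∀ p, a.left p ∈ Set.range (GrothLib.JacSym26.q j r).left), (GrothLib.JacSym26.q j (g - 1)).left ⁻¹'
        ((Jac.transl J a).left ⁻¹' Set.range (GrothLib.JacSym26.q j (g - 1)).left)
    have hI : IsClosed I := isClosed_iInter fun a => isClosed_iInter fun _ =>
      ((GrothLib.JacSym26.isClosed_range_q j (g - 1)).preimage (Jac.transl J a).left.continuous).preimage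
        (GrothLib.JacSym26.q j (g - 1)).left.continuous
    have hzI : z ∈ I := Set.mem_iInter₂.2 hy
    have hsub : I ∩ closedPoints _ ⊆ (GrothLib.JacSym26.q j (g - 1)).left ⁻¹'
        Set.range (GrothLib.JacSym26.q j (g - 1 - r)).left := by
      rintro w ⟨hw, hwc⟩
      obtain ⟨x, hx⟩ := GrothLib.JacSym26.exists_pt hwc
      have hmem : x ≫ GrothLib.JacSym26.q j (g - 1) ∈ GrothLib.JacSym26.W j (g - 1 - r) := by
        refine (hc _).1 fun a ha => (GrothLib.JacSym26.mem_range_q j _).1 fun p => ?_
        rw [mul_comm, ← GrothLib.JacSym26.transl_apply]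
        have := Set.mem_iInter₂.1 hw a ((GrothLib.JacSym26.mem_range_q j a).2 ha)
        show (Jac.transl J a).left ((GrothLib.JacSym26.q j (g - 1)).left (x.left p)) ∈ _
        rw [hx]
        exact this
      have h2 := (GrothLib.JacSym26.mem_range_q j _).2 hmem (IsLocalRing.closedPoint k)
      simp only [Set.mem_preimage]
      rw [← hx (IsLocalRing.closedPoint k)]
      exact h2
    have := closure_minimal hsub ((GrothLib.JacSym26.isClosed_range_q j (g - 1 - r)).preimage
      (GrothLib.JacSym26.q j (g - 1)).left.continuous)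
    rw [closure_inter_closedPoints hI] at this
    exact this hzI

end Groth.Agent.S17813
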