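import Groth.Statements.S17814
import Groth.Agent.Lib.BlowUp.IdealComap
import Groth.Agent.Lib.BlowUp.EffCartier
import Groth.Agent.Lib.AssPts.Points
import Groth.Agent.Lib.FlatFP.Sheaf
import Groth.Agent.Lib.BlowUp.Regular
import Mathlib.AlgebraicGeometry.Morphisms.Flat

set_option autoImplicit false
universe u
open CategoryTheory CategoryTheory.Limits AlgebraicGeometry
open SDiv

namespace Groth.Agent.S17814

theorem exists_notMem_mul_eq_zero {R : Type*} [CommRing R] [_root_.IsReduced R] {p : Ideal R}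
    (hp : p ∈ minimalPrimes R) {a : R} (ha : a ∈ p) : ∃ y, y ∉ p ∧ a * y = 0 := by
  have hpp : p.IsPrime := hp.1.1
  have hzero : (0 : R) ∈ p.primeCompl ⊔ Submonoid.powers a := by
    by_contra h0
    obtain ⟨q, hq, -, hqM⟩ := Ideal.exists_le_prime_disjoint (⊥ : Ideal R) (p.primeCompl ⊔ Submonoid.powers a)
      (Set.disjoint_left.mpr fun w hw => by rw [Ideal.mem_bot.mp hw]; exact h0)
    have hqp : q ≤ p := fun w hw => by
      by_contra hwp
      exact Set.disjoint_left.mp hqM hw (Submonoid.mem_sup_left hwp)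
    exact Set.disjoint_left.mp hqM (hp.2 ⟨hq, bot_le⟩ hqp ha)
      (Submonoid.mem_sup_right (Submonoid.mem_powers a))
  obtain ⟨y, hy, _, ⟨n, rfl⟩, hyn⟩ := Submonoid.mem_sup.mp hzero
  refine ⟨y, hy, IsNilpotent.eq_zero ⟨n + 1, ?_⟩⟩
  calc (a * y) ^ (n + 1) = (y * a ^ n) * (a * y ^ n) := by ring
    _ = 0 := by rw [hyn, zero_mul]

theorem appLE_fromSpec {X : Scheme.{u}} {W : X.Opens} (hW : IsAffineOpen W) {L : CommRingCat.{u}}
    (α : Γ(X, W) ⟶ L) (h : (⊤ : (Spec L).Opens) ≤ (Spec.map α ≫ hW.fromSpec) ⁻¹ᵁ W) :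
    (Spec.map α ≫ hW.fromSpec).appLE W ⊤ h = α ≫ (Scheme.ΓSpecIso L).inv := by
  rw [← Scheme.Hom.appLE_comp_appLE (Spec.map α) hW.fromSpec W ⊤ ⊤ (by rw [hW.fromSpec_preimage_self]) le_top]
  have h1 : hW.fromSpec.appLE W ⊤ (by rw [hW.fromSpec_preimage_self]) = (Scheme.ΓSpecIso Γ(X, W)).inv := by
    rw [Scheme.Hom.appLE, hW.fromSpec_app_self, Category.assoc, ← Functor.map_comp]
    convert Category.comp_id _
    exact CategoryTheory.Functor.map_id _ _
  rw [h1, Scheme.ΓSpecIso_inv_naturality]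
  exact congrArg _ (Scheme.Hom.appLE_eq_app (Spec.map α) (U := ⊤))

/-- Let T be a reduced locally Noetherian scheme, π : 𝒞 ⟶ T a proper smooth morphism of relative
dimension 1, and D, D' relative effective divisors on 𝒞/T: closed subschemes whose ideal sheaves are
locally generated by a single nonzerodivisor and which are flat over T. If for every point t of T
the fibre of D over t contains the fibre of D' as closed subschemes of 𝒞_t (containment of ideal
sheaves the other way), then D contains D': the ideal sheaf of D is contained in that of D'. (The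
published statement has no hypothesis on T; over T = Spec k[ε] the divisors x = 0 and x = ε on the
projective line have equal fibres while neither contains the other. This row assumes T reduced and
locally Noetherian.) -/
theorem result {𝒞 T : Scheme.{u}} [IsLocallyNoetherian T] [AlgebraicGeometry.IsReduced T]
    (π : 𝒞 ⟶ T) [IsProper π] [SmoothOfRelativeDimension 1 π]
    (D D' : 𝒞.IdealSheafData)
    (hD : BlowUp.IsEffCartierIdeal D ∧ Flat (D.subschemeι ≫ π))
    (hD' : BlowUp.IsEffCartierIdeal D' ∧ Flat (D'.subschemeι ≫ π))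
    (hfib : ∀ t : ↥T, D.comap (pullback.fst π (T.fromSpecResidueField t)) ≤
      D'.comap (pullback.fst π (T.fromSpecResidueField t))) :
    D ≤ D' := by
  intro W₀
  classical
  refine Scheme.IdealSheafData.le_of_iSup_eq_top
    (fun p : {p : T.affineOpens × 𝒞.affineOpens // p.2.1 ≤ π ⁻¹ᵁ p.1.1} => p.1.2) ?_ (fun p => ?_) W₀
  · rw [eq_top_iff]
    intro x _
    obtain ⟨V, hxV, -⟩ := GrothLib.BlowUp.exists_affine_mem_le (W := (⊤ : T.Opens)) (x := π x) trivial
    obtain ⟨W, hxW, hW⟩ := GrothLib.BlowUp.exists_affine_mem_le (W := π ⁻¹ᵁ V.1) (x := x) hxV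
    exact TopologicalSpace.Opens.mem_iSup.2 ⟨⟨(V, W), hW⟩, hxW⟩
  obtain ⟨⟨V, W⟩, hWV⟩ := p
  intro d hd
  change W.1 ≤ π ⁻¹ᵁ V.1 at hWV
  change d ∈ D.ideal W at hd
  show d ∈ D'.ideal W
  let φ := (π.appLE V.1 W.1 hWV).hom
  let C := Γ(D'.subscheme, D'.subschemeι ⁻¹ᵁ W.1)
  have hW' : IsAffineOpen (D'.subschemeι ⁻¹ᵁ W.1) := W.2.preimage _
  have hle : D'.subschemeι ⁻¹ᵁ W.1 ≤ (D'.subschemeι ≫ π) ⁻¹ᵁ V.1 := fun z hz => hWV hz
  let ψ := ((D'.subschemeι ≫ π).appLE V.1 (D'.subschemeι ⁻¹ᵁ W.1) hle).hom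
  have hψ : ∀ a, ψ a = D'.subschemeι.app W.1 (φ a) := fun a => by
    show (D'.subschemeι ≫ π).appLE V.1 _ hle a = D'.subschemeι.app W.1 (π.appLE V.1 W.1 hWV a)
    rw [← Scheme.Hom.appLE_comp_appLE D'.subschemeι π V.1 W.1 (D'.subschemeι ⁻¹ᵁ W.1) hWV le_rfl,
      Scheme.Hom.appLE_eq_app]
    rfl
  have hflat : ψ.Flat :=
    HasRingHomProperty.appLE (P := @Flat) (D'.subschemeι ≫ π) hD'.2 V ⟨_, hW'⟩ hle
  let z : C := D'.subschemeι.app W.1 d
  suffices hz : z = 0 by
    rw [← D'.ker_subschemeι_app W]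
    exact hz
  haveI := IsLocallyNoetherian.component_noetherian V
  have : _root_.IsReduced Γ(T, V.1) := IsReduced.component_reduced V.1
  have hp : ∀ p ∈ minimalPrimes Γ(T, V.1), ∃ c ∉ p, ψ c * z = 0 := by
    intro p hp
    have hpp : p.IsPrime := hp.1.1
    let M : Submonoid Γ(𝒞, W.1) := p.primeCompl.map φ.toMonoidHom
    let L : CommRingCat.{u} := CommRingCat.of (Localization M)
    let α : Γ(𝒞, W.1) ⟶ L := CommRingCat.ofHom (algebraMap Γ(𝒞, W.1) (Localization M))
    let u : Spec L ⟶ 𝒞 := Spec.map α ≫ W.2.fromSpec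
    obtain ⟨η, hη, rfl⟩ := GrothLib.AssPts.exists_point V.2 p hpp
    let _ := T.presheaf.algebra_section_stalk ⟨η, hη⟩
    haveI := GrothLib.FlatFP.isLocalization_stalk_primeAt V.2 hη
    have hunit : ∀ a : (GrothLib.WeakAss.primeAt η hη).primeCompl, IsUnit (((π.appLE V.1 W.1 hWV) ≫ α).hom a) :=
      fun a => IsLocalization.map_units (Localization M) (⟨φ a.1, a.1, a.2, rfl⟩ : M)
    let β : T.presheaf.stalk η →+* L := IsLocalization.lift hunit
    have hβ : ∀ a, β (T.presheaf.germ V.1 η hη a) = ((π.appLE V.1 W.1 hWV) ≫ α).hom a :=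
      fun a => IsLocalization.lift_eq hunit a
    have hβm : ∀ a ∈ IsLocalRing.maximalIdeal (T.presheaf.stalk η), β a = 0 := by
      suffices h : IsLocalRing.maximalIdeal (T.presheaf.stalk η) ≤ RingHom.ker β from fun a ha => h ha
      rw [← IsLocalization.AtPrime.map_eq_maximalIdeal (GrothLib.WeakAss.primeAt η hη), Ideal.map_le_iff_le_comap]
      intro a ha
      obtain ⟨y, hy, hay⟩ := exists_notMem_mul_eq_zero hp ha
      show β (T.presheaf.germ V.1 η hη a) = 0
      rw [hβ]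
      refine (hunit ⟨y, hy⟩).mul_left_eq_zero.1 ?_
      rw [← map_mul, hay, map_zero]
    let κ : T.residueField η ⟶ L := CommRingCat.ofHom (Ideal.Quotient.lift _ β hβm)
    have hfac : u ≫ π = Spec.map κ ≫ T.fromSpecResidueField η := by
      have h1 : T.residue η ≫ κ = CommRingCat.ofHom β := rfl
      have h2 : T.presheaf.germ V.1 η hη ≫ CommRingCat.ofHom β = π.appLE V.1 W.1 hWV ≫ α :=
        CommRingCat.hom_ext (RingHom.ext hβ)
      rw [Scheme.fromSpecResidueField, ← Category.assoc, ← Spec.map_comp, h1, ← V.2.fromSpecStalk_eq_fromSpecStalk hη,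
        IsAffineOpen.fromSpecStalk, ← Category.assoc, ← Spec.map_comp]
      erw [h2]
      simp only [u, Spec.map_comp, Category.assoc, IsAffineOpen.SpecMap_appLE_fromSpec π V.2 W.2 hWV]
    let v : Spec L ⟶ pullback π (T.fromSpecResidueField η) := pullback.lift u (Spec.map κ) hfac
    have hle' : D.comap u ≤ D'.comap u := by
      have := Scheme.IdealSheafData.comap_mono v (hfib η)
      simp only [← Scheme.IdealSheafData.comap_comp, v, pullback.lift_fst] at this
      exact this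
    have hpre : (⊤ : (Spec L).Opens) ≤ u ⁻¹ᵁ W.1 := fun x _ => by
      show W.2.fromSpec (Spec.map α x) ∈ W.1
      exact GrothLib.WeakAss.fromSpec_mem W.2 _
    have hu : u.appLE W.1 ⊤ hpre = α ≫ (Scheme.ΓSpecIso L).inv := appLE_fromSpec W.2 α hpre
    have hmem : (u.appLE W.1 ⊤ hpre).hom d ∈ (D'.ideal W).map (u.appLE W.1 ⊤ hpre).hom := by
      rw [← GrothLib.BlowUp.ideal_comap_eq_map D' u W ⟨⊤, isAffineOpen_top _⟩ hpre]
      apply hle' ⟨⊤, isAffineOpen_top _⟩
      rw [GrothLib.BlowUp.ideal_comap_eq_map D u W ⟨⊤, isAffineOpen_top _⟩ hpre]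
      exact Ideal.mem_map_of_mem _ hd
    have hd' : algebraMap Γ(𝒞, W.1) (Localization M) d ∈ (D'.ideal W).map (algebraMap Γ(𝒞, W.1) (Localization M)) := by
      rw [hu, CommRingCat.hom_comp, ← Ideal.map_map] at hmem
      have h3 := Ideal.mem_map_of_mem (Scheme.ΓSpecIso L).hom.hom hmem
      rw [Ideal.map_map, ← CommRingCat.hom_comp, Iso.inv_hom_id, CommRingCat.hom_id, Ideal.map_id] at h3
      simpa [α] using h3
    obtain ⟨m, hm, hmd⟩ := (IsLocalization.algebraMap_mem_map_algebraMap_iff M (Localization M) (D'.ideal W) d).1 hd'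
    obtain ⟨c, hc, rfl⟩ := hm
    refine ⟨c, hc, ?_⟩
    rw [hψ]
    rw [← D'.ker_subschemeι_app W, RingHom.mem_ker, map_mul] at hmd
    exact hmd
  obtain ⟨c, hcJ, hc⟩ : ∃ c ∈ ((⊥ : Ideal C).colon {z}).comap ψ, ∀ p ∈ minimalPrimes Γ(T, V.1), c ∉ p := by
    by_contra! hno
    have hsub : ((((⊥ : Ideal C).colon {z}).comap ψ : Ideal Γ(T, V.1)) : Set Γ(T, V.1)) ⊆
        ⋃ p ∈ minimalPrimes Γ(T, V.1), ((id p : Ideal Γ(T, V.1)) : Set Γ(T, V.1)) := fun c hc => by
      obtain ⟨p, hp', hcp⟩ := hno c hc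
      exact Set.mem_iUnion₂.2 ⟨p, hp', hcp⟩
    obtain ⟨p, hp', hle2⟩ := (Ideal.subset_union_prime_finite
      (minimalPrimes.finite_of_isNoetherianRing Γ(T, V.1)) ⊥ ⊥ fun p hp' _ _ => hp'.1.1).1 hsub
    obtain ⟨c, hc, hcz⟩ := hp p hp'
    refine hc (hle2 ?_)
    rw [Ideal.mem_comap, Submodule.mem_colon_singleton, Submodule.mem_bot, smul_eq_mul]
    exact hcz
  rw [Ideal.mem_comap, Submodule.mem_colon_singleton, Submodule.mem_bot, smul_eq_mul] at hcJ
  have hcnz : c ∈ nonZeroDivisors Γ(T, V.1) := by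
    rw [mem_nonZeroDivisors_iff_right]
    intro a hac
    have hnil : a ∈ nilradical Γ(T, V.1) := by
      rw [nilradical, ← Ideal.sInf_minimalPrimes, Submodule.mem_sInf]
      intro p hp'
      exact (hp'.1.1.mem_or_mem (show a * c ∈ p by rw [hac]; exact zero_mem _)).resolve_right (hc p hp')
    rwa [nilradical_eq_zero, Ideal.zero_eq_bot, Ideal.mem_bot] at hnil
  have hnz := GrothLib.BlowUp.mem_nonZeroDivisors_of_flat ψ hflat hcnz
  exact mem_nonZeroDivisors_iff_left.1 hnz z hcJ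

end Groth.Agent.S17814
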