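import Groth.Statements.S19877
-- import your own Groth.Agent.* helpers here
import Groth.Agent.Lib.JacSym26.Crit
import Groth.Agent.Lib.JacSym26.Torelli

set_option autoImplicit false
universe u
open CategoryTheory CategoryTheory.Limits AlgebraicGeometry MonoidalCategory CartesianMonoidalCategory MonObj
open JacVar

set_option backward.isDefEq.respectTransparency false
set_option linter.style.haveILetI false

noncomputable section

open GrothLib

theorem cc_ext {k : Type u} [Field k] [IsAlgClosed k] {C : Scheme.{u}} [C.Over (Spec (CommRingCat.of k))]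
    {C' : Scheme.{u}} [C'.Over (Spec (CommRingCat.of k))] {J J' : Over (Spec (CommRingCat.of k))} [GrpObj J] [GrpObj J']
    [IsCommMonObj J'] (j : Over.mk (C ↘ Spec (CommRingCat.of k)) ⟶ J) (j' : Over.mk (C' ↘ Spec (CommRingCat.of k)) ⟶ J')
    (β : J ⟶ J') (a : Over.mk (C ↘ Spec (CommRingCat.of k)) ⟶ Over.mk (C' ↘ Spec (CommRingCat.of k)))
    (c : 𝟙_ (Over (Spec (CommRingCat.of k))) ⟶ J') (s : ℤ) (hs : s = 1 ∨ s = -1)
    (h : a ≫ j' = (j ≫ β) ^ s * (toUnit (Over.mk (C ↘ Spec (CommRingCat.of k))) ≫ c))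
    (t : 𝟙_ (Over (Spec (CommRingCat.of k))) ⟶ Over.mk (C ↘ Spec (CommRingCat.of k))) :
    t ≫ a ≫ j' = ((t ≫ j) ≫ β) ^ s * c := by
  rw [h, MonObj.comp_mul, ← Category.assoc t (toUnit _) c,
    show t ≫ toUnit (Over.mk (C ↘ Spec (CommRingCat.of k))) = 𝟙 _ from toUnit_unique _ _, Category.id_comp]
  congr 1
  rcases hs with rfl | rfl
  · rw [zpow_one, zpow_one, Category.assoc]
  · rw [zpow_neg_one, zpow_neg_one, GrothLib.JacSym26.comp_inv', Category.assoc]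

theorem cc_transl {k : Type u} [Field k] [IsAlgClosed k] {C : Scheme.{u}} [C.Over (Spec (CommRingCat.of k))]
    {C' : Scheme.{u}} [C'.Over (Spec (CommRingCat.of k))] {J J' : Over (Spec (CommRingCat.of k))} [GrpObj J] [GrpObj J']
    [IsCommMonObj J'] (j : Over.mk (C ↘ Spec (CommRingCat.of k)) ⟶ J) (j' : Over.mk (C' ↘ Spec (CommRingCat.of k)) ⟶ J')
    (β : J ≅ J') [IsMonHom β.hom]
    (a₁ a₂ : Over.mk (C ↘ Spec (CommRingCat.of k)) ≅ Over.mk (C' ↘ Spec (CommRingCat.of k)))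
    (c₁ c₂ : 𝟙_ (Over (Spec (CommRingCat.of k))) ⟶ J') (s : ℤ) (hs : s = 1 ∨ s = -1)
    (h₁ : a₁.hom ≫ j' = (j ≫ β.hom) ^ s * (toUnit (Over.mk (C ↘ Spec (CommRingCat.of k))) ≫ c₁))
    (h₂ : a₂.hom ≫ j' = (j ≫ β.hom) ^ s * (toUnit (Over.mk (C ↘ Spec (CommRingCat.of k))) ≫ c₂)) :
    ∃ d : 𝟙_ (Over (Spec (CommRingCat.of k))) ⟶ J, ∀ t, (t ≫ a₁.hom ≫ a₂.inv) ≫ j = t ≫ j * d := by
  refine ⟨((c₁ * c₂⁻¹) ^ s) ≫ β.inv, fun t => ?_⟩
  have e1 := cc_ext j j' β.hom a₁.hom c₁ s hs h₁ t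
  have e2 := cc_ext j j' β.hom a₂.hom c₂ s hs h₂ (t ≫ a₁.hom ≫ a₂.inv)
  rw [show (t ≫ a₁.hom ≫ a₂.inv) ≫ a₂.hom ≫ j' = t ≫ a₁.hom ≫ j' by simp, e1] at e2
  have e3 : (((t ≫ a₁.hom ≫ a₂.inv) ≫ j) ≫ β.hom) ^ s = ((t ≫ j) ≫ β.hom) ^ s * (c₁ * c₂⁻¹) := by
    rw [← _root_.mul_assoc, e2, mul_inv_cancel_right]
  rw [← cancel_mono β.hom, MonObj.mul_comp, Category.assoc ((c₁ * c₂⁻¹) ^ s), Iso.inv_hom_id, Category.comp_id]
  rcases hs with rfl | rfl
  · rw [zpow_one, zpow_one] at e3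
    rw [zpow_one]
    exact e3
  · rw [zpow_neg_one, zpow_neg_one] at e3
    rw [zpow_neg_one, ← inv_inv (((t ≫ a₁.hom ≫ a₂.inv) ≫ j) ≫ β.hom), e3, mul_inv, inv_inv]

theorem cc_eq {k : Type u} [Field k] [IsAlgClosed k] {C : Scheme.{u}} [C.Over (Spec (CommRingCat.of k))]
    {C' : Scheme.{u}} [C'.Over (Spec (CommRingCat.of k))] {J J' : Over (Spec (CommRingCat.of k))} [GrpObj J] [GrpObj J']
    [IsCommMonObj J'] (j : Over.mk (C ↘ Spec (CommRingCat.of k)) ⟶ J) (j' : Over.mk (C' ↘ Spec (CommRingCat.of k)) ⟶ J')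
    (β : J ⟶ J') (a : Over.mk (C ↘ Spec (CommRingCat.of k)) ⟶ Over.mk (C' ↘ Spec (CommRingCat.of k)))
    (c₁ c₂ : 𝟙_ (Over (Spec (CommRingCat.of k))) ⟶ J') (s : ℤ) (hs : s = 1 ∨ s = -1)
    (h₁ : a ≫ j' = (j ≫ β) ^ s * (toUnit (Over.mk (C ↘ Spec (CommRingCat.of k))) ≫ c₁))
    (h₂ : a ≫ j' = (j ≫ β) ^ s * (toUnit (Over.mk (C ↘ Spec (CommRingCat.of k))) ≫ c₂))
    (t : 𝟙_ (Over (Spec (CommRingCat.of k))) ⟶ Over.mk (C ↘ Spec (CommRingCat.of k))) : c₁ = c₂ :=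
  mul_left_cancel ((cc_ext j j' β a c₁ s hs h₁ t).symm.trans (cc_ext j j' β a c₂ s hs h₂ t))

namespace Groth.Agent.S19877

/-- Let k be an algebraically closed field, C and C' smooth proper connected curves of the same genus g
≥ 2 over k with k-points P and P', (J, ψ) and (J', ψ') their Jacobians (commutative group schemes
over k, coarse moduli schemes on all k-schemes for degree-0 line bundles modulo twisting from the
base, group law induced by tensor product), j and j' the Abel maps with base points P and P', and β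
: J ≅ J' an isomorphism of group schemes over k. Fix a sign s ∈ {1, −1}. If isomorphisms α₁, α₂ : C
≅ C' over k and k-points c₁, c₂ of J' satisfy j' ∘ α_i = (β ∘ j)^s · c_i for i = 1, 2 (group of
morphisms C ⟶ J'), then α₁ = α₂ and c₁ = c₂. This holds whether or not C is hyperelliptic; for C not
hyperelliptic the sign is determined as well, which is a separate statement. (The published
statement takes β an isomorphism of the canonically polarized Jacobians; this row allows any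
isomorphism of group schemes β.) -/
theorem result (k : Type u) [Field k] [IsAlgClosed k]
    (C : Scheme.{u}) [C.Over (Spec (CommRingCat.of k))]
    [IsProper (C ↘ Spec (CommRingCat.of k))] [Smooth (C ↘ Spec (CommRingCat.of k))] [GeometricallyConnected (C ↘ Spec (CommRingCat.of k))]
    (hdim : topologicalKrullDim ↥C = 1)
    (C' : Scheme.{u}) [C'.Over (Spec (CommRingCat.of k))]
    [IsProper (C' ↘ Spec (CommRingCat.of k))] [Smooth (C' ↘ Spec (CommRingCat.of k))] [GeometricallyConnected (C' ↘ Spec (CommRingCat.of k))]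
    (hdim' : topologicalKrullDim ↥C' = 1)
    (g : ℕ) (hg : Curv2.genus k C = g) (hg' : Curv2.genus k C' = g) (hg2 : 2 ≤ g)
    (σ : Spec (CommRingCat.of k) ⟶ C) (hσ : σ ≫ (C ↘ Spec (CommRingCat.of k)) = 𝟙 _) (σ' : Spec (CommRingCat.of k) ⟶ C') (hσ' : σ' ≫ (C' ↘ Spec (CommRingCat.of k)) = 𝟙 _)
    (J : Over (Spec (CommRingCat.of k))) [GrpObj J] [IsCommMonObj J]
    (ψ : (ModFun.PicDeg (C ↘ Spec (CommRingCat.of k)) 0).Hom ⊤ J) (hJ : Jac.IsJacobian (C ↘ Spec (CommRingCat.of k)) ⊤ J ψ)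
    (J' : Over (Spec (CommRingCat.of k))) [GrpObj J'] [IsCommMonObj J']
    (ψ' : (ModFun.PicDeg (C' ↘ Spec (CommRingCat.of k)) 0).Hom ⊤ J') (hJ' : Jac.IsJacobian (C' ↘ Spec (CommRingCat.of k)) ⊤ J' ψ')
    (j : Over.mk (C ↘ Spec (CommRingCat.of k)) ⟶ J) (hj : Jac.IsAbelJacobiAt (C ↘ Spec (CommRingCat.of k)) σ ψ j)
    (j' : Over.mk (C' ↘ Spec (CommRingCat.of k)) ⟶ J') (hj' : Jac.IsAbelJacobiAt (C' ↘ Spec (CommRingCat.of k)) σ' ψ' j')
    (β : J ≅ J') [IsMonHom β.hom]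
    (α₁ α₂ : C ≅ C') (hα₁ : α₁.hom ≫ (C' ↘ Spec (CommRingCat.of k)) = (C ↘ Spec (CommRingCat.of k))) (hα₂ : α₂.hom ≫ (C' ↘ Spec (CommRingCat.of k)) = (C ↘ Spec (CommRingCat.of k)))
    (c₁ c₂ : 𝟙_ (Over (Spec (CommRingCat.of k))) ⟶ J') (s : ℤ) (hs : s = 1 ∨ s = -1)
    (h₁ : Over.homMk α₁.hom hα₁ ≫ j' = (j ≫ β.hom) ^ s * (toUnit (Over.mk (C ↘ Spec (CommRingCat.of k))) ≫ c₁))
    (h₂ : Over.homMk α₂.hom hα₂ ≫ j' = (j ≫ β.hom) ^ s * (toUnit (Over.mk (C ↘ Spec (CommRingCat.of k))) ≫ c₂)) :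
    α₁ = α₂ ∧ c₁ = c₂ := by
  haveI : ConnectedSpace C :=
    GeometricallyConnected.connectedSpace_of_subsingleton (C ↘ Spec (CommRingCat.of k))
  haveI := GrothLib.Euler.isIntegral_of_smooth_connected k (C ↘ Spec (CommRingCat.of k))
  haveI := GrothLib.Euler.isNoetherian_of_proper (X := C) k
  haveI := GrothLib.CurveRR.regCurve_of_smooth (C ↘ Spec (CommRingCat.of k)) hdim
  obtain ⟨Q, hQ, -, -⟩ := GrothLib.CurveBase26.exists_point k (X := C) hdim σ hσ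
  let a₁ : Over.mk (C ↘ Spec (CommRingCat.of k)) ≅ Over.mk (C' ↘ Spec (CommRingCat.of k)) := Over.isoMk α₁ hα₁
  let a₂ : Over.mk (C ↘ Spec (CommRingCat.of k)) ≅ Over.mk (C' ↘ Spec (CommRingCat.of k)) := Over.isoMk α₂ hα₂
  obtain ⟨d, hd⟩ := cc_transl j j' β a₁ a₂ c₁ c₂ s hs h₁ h₂
  have hid := GrothLib.JacSym26.rigid j hJ hdim σ hσ hj Q hQ (by omega) (a₁.hom ≫ a₂.inv) d hd
  have ha : a₁.hom = a₂.hom := (Iso.comp_inv_eq a₂).1 hid |>.trans (Category.id_comp _)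
  have hα : α₁ = α₂ := Iso.ext (congrArg CategoryTheory.CommaMorphism.left ha)
  subst hα
  exact ⟨rfl, cc_eq j j' β.hom (Over.homMk α₁.hom hα₁) c₁ c₂ s hs h₁ h₂ (Over.homMk σ hσ)⟩

end Groth.Agent.S19877
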