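import Groth.Statements.S17815
-- import your own Groth.Agent.* helpers here
import Groth.Agent.Lib.JacSym26.Crit
import Groth.Agent.Lib.JacSym26.Torelli
import Groth.Agent.S19877

set_option autoImplicit false
universe u
open CategoryTheory CategoryTheory.Limits AlgebraicGeometry MonoidalCategory CartesianMonoidalCategory MonObj
open JacVar

set_option backward.isDefEq.respectTransparency false
set_option linter.style.haveILetI false

noncomputable section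

open GrothLib

theorem cc_sum {k : Type u} [Field k] [IsAlgClosed k] {C : Scheme.{u}} [C.Over (Spec (CommRingCat.of k))]
    {J J' : Over (Spec (CommRingCat.of k))} [GrpObj J] [GrpObj J'] [IsCommMonObj J']
    (j : Over.mk (C ↘ Spec (CommRingCat.of k)) ⟶ J) {X' : Over (Spec (CommRingCat.of k))} (j' : X' ⟶ J')
    (β : J ≅ J') [IsMonHom β.hom] (a₁ a₂ : Over.mk (C ↘ Spec (CommRingCat.of k)) ≅ X')
    (c₁ c₂ : 𝟙_ (Over (Spec (CommRingCat.of k))) ⟶ J') (s₁ s₂ : ℤ) (hs₁ : s₁ = 1 ∨ s₁ = -1) (hs : s₂ = -s₁)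
    (h₁ : a₁.hom ≫ j' = (j ≫ β.hom) ^ s₁ * (toUnit (Over.mk (C ↘ Spec (CommRingCat.of k))) ≫ c₁))
    (h₂ : a₂.hom ≫ j' = (j ≫ β.hom) ^ s₂ * (toUnit (Over.mk (C ↘ Spec (CommRingCat.of k))) ≫ c₂)) :
    ∃ d : 𝟙_ (Over (Spec (CommRingCat.of k))) ⟶ J,
      ∀ t : 𝟙_ (Over (Spec (CommRingCat.of k))) ⟶ Over.mk (C ↘ Spec (CommRingCat.of k)),
        (t ≫ a₁.hom ≫ a₂.inv) ≫ j * (t ≫ j) = d := by
  have key : ∀ (t : 𝟙_ (Over (Spec (CommRingCat.of k))) ⟶ Over.mk (C ↘ Spec (CommRingCat.of k)))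
      (a : Over.mk (C ↘ Spec (CommRingCat.of k)) ⟶ X') (c : 𝟙_ (Over (Spec (CommRingCat.of k))) ⟶ J') (s : ℤ),
      s = 1 ∨ s = -1 → a ≫ j' = (j ≫ β.hom) ^ s * (toUnit (Over.mk (C ↘ Spec (CommRingCat.of k))) ≫ c) →
      t ≫ a ≫ j' = ((t ≫ j) ≫ β.hom) ^ s * c := by
    intro t a c s hs' h
    rw [h, MonObj.comp_mul, ← Category.assoc t (toUnit _) c,
      show t ≫ toUnit (Over.mk (C ↘ Spec (CommRingCat.of k))) = 𝟙 _ from toUnit_unique _ _, Category.id_comp]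
    congr 1
    rcases hs' with rfl | rfl
    · rw [zpow_one, zpow_one, Category.assoc]
    · rw [zpow_neg_one, zpow_neg_one, GrothLib.JacSym26.comp_inv', Category.assoc]
  have hs₂ : s₂ = 1 ∨ s₂ = -1 := by omega
  refine ⟨((c₂ * c₁⁻¹) ^ s₁) ≫ β.inv, fun t => ?_⟩
  have e1 := key t a₁.hom c₁ s₁ hs₁ h₁
  have e2 := key (t ≫ a₁.hom ≫ a₂.inv) a₂.hom c₂ s₂ hs₂ h₂
  rw [show (t ≫ a₁.hom ≫ a₂.inv) ≫ a₂.hom ≫ j' = t ≫ a₁.hom ≫ j' by simp, e1, hs, zpow_neg] at e2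
  have e3 : (((t ≫ a₁.hom ≫ a₂.inv) ≫ j) ≫ β.hom) ^ s₁ * ((t ≫ j) ≫ β.hom) ^ s₁ = c₂ * c₁⁻¹ := by
    rw [eq_mul_inv_of_mul_eq e2]
    apply Additive.ofMul.injective; simp only [ofMul_mul, ofMul_inv]; abel
  rw [← cancel_mono β.hom, MonObj.mul_comp, Category.assoc ((c₂ * c₁⁻¹) ^ s₁), Iso.inv_hom_id, Category.comp_id]
  rw [← e3, mul_zpow]
  rcases hs₁ with rfl | rfl <;> simp

namespace Groth.Agent.S17815

/-- The non-hyperelliptic case. Let k be an algebraically closed field, C and C' smooth proper connected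
curves of genus g ≥ 2 over k with k-points P and P', (J, ψ) and (J', ψ') their Jacobians
(commutative group schemes over k, coarse moduli schemes on all k-schemes for degree-0 line bundles
modulo twisting from the base, group law induced by tensor product), j and j' the Abel maps with
base points P and P', and β : J ≅ J' an isomorphism of group schemes over k. Suppose C is not
hyperelliptic: no invertible module of degree 2 on C has a two-dimensional space of global sections.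
Then the isomorphism, the sign and the translation in Torelli's conclusion are uniquely determined
by β, P and P': if isomorphisms α₁, α₂ : C ≅ C' over k, k-points c₁, c₂ of J' and signs s₁, s₂ ∈ {1,
−1} satisfy j' ∘ α_i = (β ∘ j)^{s_i} · c_i for i = 1, 2, then α₁ = α₂, s₁ = s₂ and c₁ = c₂. (The
published statement takes β an isomorphism of the canonically polarized Jacobians; this row allows
any isomorphism of group schemes β.) -/
theorem result (k : Type u) [Field k] [IsAlgClosed k]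
    (C : Scheme.{u}) [C.Over (Spec (CommRingCat.of k))]
    [IsProper (C ↘ Spec (CommRingCat.of k))] [Smooth (C ↘ Spec (CommRingCat.of k))] [GeometricallyConnected (C ↘ Spec (CommRingCat.of k))]
    (hdim : topologicalKrullDim ↥C = 1)
    (C' : Scheme.{u}) [C'.Over (Spec (CommRingCat.of k))]
    [IsProper (C' ↘ Spec (CommRingCat.of k))] [Smooth (C' ↘ Spec (CommRingCat.of k))] [GeometricallyConnected (C' ↘ Spec (CommRingCat.of k))]
    (hdim' : topologicalKrullDim ↥C' = 1)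
    (g : ℕ) (hg : Curv2.genus k C = g) (hg' : Curv2.genus k C' = g) (hg2 : 2 ≤ g)
    (σ : Spec (CommRingCat.of k) ⟶ C) (hσ : σ ≫ (C ↘ Spec (CommRingCat.of k)) = 𝟙 _) (σ' : Spec (CommRingCat.of k) ⟶ C') (hσ' : σ' ≫ (C' ↘ Spec (CommRingCat.of k)) = 𝟙 _)
    (J : Over (Spec (CommRingCat.of k))) [GrpObj J] [IsCommMonObj J]
    (ψ : (ModFun.PicDeg (C ↘ Spec (CommRingCat.of k)) 0).Hom ⊤ J) (hJ : Jac.IsJacobian (C ↘ Spec (CommRingCat.of k)) ⊤ J ψ)
    (J' : Over (Spec (CommRingCat.of k))) [GrpObj J'] [IsCommMonObj J']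
    (ψ' : (ModFun.PicDeg (C' ↘ Spec (CommRingCat.of k)) 0).Hom ⊤ J') (hJ' : Jac.IsJacobian (C' ↘ Spec (CommRingCat.of k)) ⊤ J' ψ')
    (j : Over.mk (C ↘ Spec (CommRingCat.of k)) ⟶ J) (hj : Jac.IsAbelJacobiAt (C ↘ Spec (CommRingCat.of k)) σ ψ j)
    (j' : Over.mk (C' ↘ Spec (CommRingCat.of k)) ⟶ J') (hj' : Jac.IsAbelJacobiAt (C' ↘ Spec (CommRingCat.of k)) σ' ψ' j')
    (β : J ≅ J') [IsMonHom β.hom]
    (hnh : ¬ ∃ L : C.Modules, PicF.IsInvertible L ∧ Curv2.deg k C L 1 = 2 ∧ Module.finrank k (Coh.HH C L 0) = 2)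
    (α₁ α₂ : C ≅ C') (hα₁ : α₁.hom ≫ (C' ↘ Spec (CommRingCat.of k)) = (C ↘ Spec (CommRingCat.of k))) (hα₂ : α₂.hom ≫ (C' ↘ Spec (CommRingCat.of k)) = (C ↘ Spec (CommRingCat.of k)))
    (c₁ c₂ : 𝟙_ (Over (Spec (CommRingCat.of k))) ⟶ J') (s₁ s₂ : ℤ) (hs₁ : s₁ = 1 ∨ s₁ = -1) (hs₂ : s₂ = 1 ∨ s₂ = -1)
    (h₁ : Over.homMk α₁.hom hα₁ ≫ j' = (j ≫ β.hom) ^ s₁ * (toUnit (Over.mk (C ↘ Spec (CommRingCat.of k))) ≫ c₁))
    (h₂ : Over.homMk α₂.hom hα₂ ≫ j' = (j ≫ β.hom) ^ s₂ * (toUnit (Over.mk (C ↘ Spec (CommRingCat.of k))) ≫ c₂)) :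
    α₁ = α₂ ∧ s₁ = s₂ ∧ c₁ = c₂ := by
  haveI : ConnectedSpace C :=
    GeometricallyConnected.connectedSpace_of_subsingleton (C ↘ Spec (CommRingCat.of k))
  haveI := GrothLib.Euler.isIntegral_of_smooth_connected k (C ↘ Spec (CommRingCat.of k))
  haveI := GrothLib.Euler.isNoetherian_of_proper (X := C) k
  haveI := GrothLib.CurveRR.regCurve_of_smooth (C ↘ Spec (CommRingCat.of k)) hdim
  obtain ⟨Q, hQ, -, -⟩ := GrothLib.CurveBase26.exists_point k (X := C) hdim σ hσ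
  have hsame : s₁ = s₂ := by
    by_contra hne
    let a₁ : Over.mk (C ↘ Spec (CommRingCat.of k)) ≅ Over.mk (C' ↘ Spec (CommRingCat.of k)) := Over.isoMk α₁ hα₁
    let a₂ : Over.mk (C ↘ Spec (CommRingCat.of k)) ≅ Over.mk (C' ↘ Spec (CommRingCat.of k)) := Over.isoMk α₂ hα₂
    obtain ⟨d, hd⟩ := cc_sum j j' β a₁ a₂ c₁ c₂ s₁ s₂ hs₁ (by omega) h₁ h₂
    obtain ⟨D, hD, hDl⟩ := GrothLib.JacSym26.exists_pencil j hJ hdim σ hσ hj Q hQ (by omega) (a₁.hom ≫ a₂.inv) d hd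
    refine hnh ⟨GrothLib.CurveRR.oD k D, GrothLib.CurveRR.isInvertible_oD k D, ?_, ?_⟩
    · rw [GrothLib.CurveRR.deg_oD, hD]
    · rw [GrothLib.CurveRR.finrank_H0_oD, hDl]
  subst hsame
  obtain ⟨e1, e2⟩ := Groth.Agent.S19877.result k C hdim C' hdim' g hg hg' hg2 σ hσ σ' hσ' J ψ hJ J' ψ' hJ' j hj j' hj' β
    α₁ α₂ hα₁ hα₂ c₁ c₂ s₁ hs₁ h₁ h₂
  exact ⟨e1, rfl, e2⟩

end Groth.Agent.S17815
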