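import Groth.Statements.S17819
-- import your own Groth.Agent.* helpers here
import Groth.Agent.Lib.JacSym26.Crit

set_option autoImplicit false
universe u
open CategoryTheory CategoryTheory.Limits AlgebraicGeometry MonoidalCategory CartesianMonoidalCategory MonObj
open JacVar

set_option backward.isDefEq.respectTransparency false
set_option linter.style.haveILetI false

noncomputable section

open GrothLib

namespace Groth.Agent.S17819

/-- Let k be an algebraically closed field, C a smooth proper connected curve of genus g ≥ 2 over k with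
a k-point P, (J, ψ) its Jacobian (a commutative group scheme over k, coarse moduli scheme on all
k-schemes for degree-0 line bundles modulo twisting from the base, group law induced by tensor
product) and j : C ⟶ J the Abel map with base point P. Write W^r ⊂ J for the image of the r-fold
product C ×_k ⋯ ×_k C under (x_1, …, x_r) ↦ j(x_1) ⋯ j(x_r) (the image of the r-th symmetric power;
W^0 is the origin), and W^r_a for its translate by a k-point a of J. Let κ be the k-point of J given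
by ψ on the degree-0 module Ω_{C/k} ⊗ I_P^{⊗(2g−2)} (the image of a canonical divisor), and for Z ⊂
J let Z^* be the image of Z under x ↦ κ·x⁻¹. Then for every k-point a of J one has (W^{g−1}_a)^* =
W^{g−1}_{a⁻¹} as subsets of J. -/
theorem result (k : Type u) [Field k] [IsAlgClosed k]
    (C : Scheme.{u}) [C.Over (Spec (CommRingCat.of k))]
    [IsProper (C ↘ Spec (CommRingCat.of k))] [Smooth (C ↘ Spec (CommRingCat.of k))] [GeometricallyConnected (C ↘ Spec (CommRingCat.of k))]
    (hdim : topologicalKrullDim ↥C = 1)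
    (g : ℕ) (hg : Curv2.genus k C = g) (hg2 : 2 ≤ g)
    (σ : Spec (CommRingCat.of k) ⟶ C) (hσ : σ ≫ (C ↘ Spec (CommRingCat.of k)) = 𝟙 _)
    (J : Over (Spec (CommRingCat.of k))) [GrpObj J] [IsCommMonObj J]
    (ψ : (ModFun.PicDeg (C ↘ Spec (CommRingCat.of k)) 0).Hom ⊤ J) (hJ : Jac.IsJacobian (C ↘ Spec (CommRingCat.of k)) ⊤ J ψ)
    (j : Over.mk (C ↘ Spec (CommRingCat.of k)) ⟶ J) (hj : Jac.IsAbelJacobiAt (C ↘ Spec (CommRingCat.of k)) σ ψ j)
    (Kf : (PicF.XT (C ↘ Spec (CommRingCat.of k)) (𝟙_ (Over (Spec (CommRingCat.of k))))).Modules)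
    (hKf : Nonempty (Kf ≅ (Scheme.Modules.pullback (pullback.fst (C ↘ Spec (CommRingCat.of k)) (𝟙_ (Over (Spec (CommRingCat.of k)))).hom)).obj
      (CohB1.tensorMod (Omega.sheaf (C ↘ Spec (CommRingCat.of k))) (CohB1.tensorPow (ClSub.idealMod σ.ker) (2 * g - 2)))))
    (hT₁ : (⊤ : ObjectProperty (Over (Spec (CommRingCat.of k)))) (𝟙_ (Over (Spec (CommRingCat.of k))))) (hKok : (ModFun.PicDeg (C ↘ Spec (CommRingCat.of k)) 0).ok (𝟙_ (Over (Spec (CommRingCat.of k)))) Kf)
    (κ : (𝟙_ (Over (Spec (CommRingCat.of k)))) ⟶ J) (hκ : ψ.app (𝟙_ (Over (Spec (CommRingCat.of k)))) Kf hT₁ hKok = κ)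
    (a : (𝟙_ (Over (Spec (CommRingCat.of k)))) ⟶ J) :
    (Jac.transl J κ).left.base '' (((𝟙 J)⁻¹).left.base '' ((Jac.transl J a).left.base '' Set.range ((List.ofFn fun i : Fin (g - 1) =>
        (Over.homMk (WidePullback.π (fun (_ : Fin (g - 1)) => (C ↘ Spec (CommRingCat.of k))) i)
          (WidePullback.π_arrow (fun (_ : Fin (g - 1)) => (C ↘ Spec (CommRingCat.of k))) i) : Over.mk (WidePullback.base fun (_ : Fin (g - 1)) => (C ↘ Spec (CommRingCat.of k))) ⟶ Over.mk (C ↘ Spec (CommRingCat.of k))) ≫ j).prod).left.base)) =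
      ((Jac.transl J a⁻¹).left.base '' Set.range ((List.ofFn fun i : Fin (g - 1) =>
        (Over.homMk (WidePullback.π (fun (_ : Fin (g - 1)) => (C ↘ Spec (CommRingCat.of k))) i)
          (WidePullback.π_arrow (fun (_ : Fin (g - 1)) => (C ↘ Spec (CommRingCat.of k))) i) : Over.mk (WidePullback.base fun (_ : Fin (g - 1)) => (C ↘ Spec (CommRingCat.of k))) ⟶ Over.mk (C ↘ Spec (CommRingCat.of k))) ≫ j).prod).left.base) := by
  haveI : ConnectedSpace C :=
    GeometricallyConnected.connectedSpace_of_subsingleton (C ↘ Spec (CommRingCat.of k))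
  haveI := GrothLib.Euler.isIntegral_of_smooth_connected k (C ↘ Spec (CommRingCat.of k))
  haveI := GrothLib.Euler.isNoetherian_of_proper (X := C) k
  haveI := GrothLib.CurveRR.regCurve_of_smooth (C ↘ Spec (CommRingCat.of k)) hdim
  obtain ⟨Q, hQ, -, -⟩ := GrothLib.CurveBase26.exists_point k (X := C) hdim σ hσ
  obtain ⟨K, hKc, hκ'⟩ := GrothLib.JacSym26.pt_kappa (ψ := ψ) hdim σ hσ Q hQ (2 * g - 2) Kf hKf hKok
  rw [show ψ.app (GrothLib.JacSym26.T₀ k) Kf trivial hKok = κ from hκ] at hκ'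
  have h0 := GrothLib.CurveMult.finrank_H0_eq_one_of_geometricallyConnected k (C := C)
  have hK := GrothLib.CurveRR.isFunctionField k h0
  have hgen := GrothLib.CurveRR.genus_eq k h0
  rw [hg] at hgen
  -- the involution preserves the image
  have key : ∀ η' ∈ GrothLib.JacSym26.W j (g - 1), κ * η'⁻¹ ∈ GrothLib.JacSym26.W j (g - 1) := by
    intro η' hη
    obtain ⟨D, hD⟩ := GrothLib.JacSym26.Pt.exists_div hJ η'
    rw [GrothLib.JacSym26.mem_W_iff j hJ hdim σ hσ hj Q hQ hD] at hη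
    rw [GrothLib.JacSym26.mem_W_iff j hJ hdim σ hσ hj Q hQ (hκ'.div hJ hD)]
    have hRR := GrothLib.FunFld.riemann_roch' hK hKc (D + ((g - 1 : ℕ) : ℤ) • Finsupp.single (GrothLib.CurveRR.place k Q) 1)
    rw [GrothLib.FunFld.deg_add, hD.deg_eq, Finsupp.smul_single, GrothLib.FunFld.deg_single,
      GrothLib.FunFld.IsFG.deg_eq_one (GrothLib.CurveRR.isFG k), smul_eq_mul] at hRR
    rw [Finsupp.smul_single, smul_eq_mul] at hη
    have e : K - ((2 * g - 2 : ℕ) : ℤ) • Finsupp.single (GrothLib.CurveRR.place k Q) 1 - D +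
        ((g - 1 : ℕ) : ℤ) • Finsupp.single (GrothLib.CurveRR.place k Q) 1 =
        K - (D + Finsupp.single (GrothLib.CurveRR.place k Q) (((g - 1 : ℕ) : ℤ) * 1)) := by
      rw [show ((2 * g - 2 : ℕ) : ℤ) = ((g - 1 : ℕ) : ℤ) + ((g - 1 : ℕ) : ℤ) by omega, add_smul, Finsupp.smul_single,
        smul_eq_mul]
      abel
    rw [e]
    omega
  show (Jac.transl J κ).left '' (((𝟙 J)⁻¹ : J ⟶ J).left '' ((Jac.transl J a).left '' Set.range (GrothLib.JacSym26.q j (g - 1)).left)) =
      (Jac.transl J a⁻¹).left '' Set.range (GrothLib.JacSym26.q j (g - 1)).left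
  have hcl := GrothLib.JacSym26.isClosed_range_q j (g - 1)
  refine Set.Subset.antisymm ?_ ?_
  · have := GrothLib.JacSym26.subset_of j (g - 1) (Jac.transl J a ≫ (𝟙 J)⁻¹ ≫ Jac.transl J κ) _
      (GrothLib.JacSym26.isClosed_image_transl a⁻¹ hcl) (fun ξ hξ => by
        rw [GrothLib.JacSym26.mem_image_transl_range, inv_inv]
        rw [← Category.assoc, ← Category.assoc, GrothLib.JacSym26.comp_transl, GrothLib.JacSym26.comp_transl,
          GrothLib.JacSym26.comp_inv', Category.comp_id]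
        have e : (ξ * a)⁻¹ * κ * a = κ * ξ⁻¹ := by
          rw [mul_inv, mul_comm κ ξ⁻¹, _root_.mul_assoc ξ⁻¹ a⁻¹ κ, mul_comm a⁻¹ κ, ← _root_.mul_assoc, inv_mul_cancel_right]
        rw [e]
        exact key ξ hξ)
    rintro _ ⟨_, ⟨_, ⟨y, hy, rfl⟩, rfl⟩, rfl⟩
    exact this ⟨y, hy, rfl⟩
  · refine GrothLib.JacSym26.subset_of j (g - 1) (Jac.transl J a⁻¹) _ (GrothLib.JacSym26.isClosed_image_transl κ
      (GrothLib.JacSym26.isClosed_image_inv (GrothLib.JacSym26.isClosed_image_transl a hcl))) fun ξ hξ => ?_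
    rw [GrothLib.JacSym26.mem_image_reflect, GrothLib.JacSym26.comp_transl]
    have e : (ξ * a⁻¹ * κ⁻¹)⁻¹ * a⁻¹ = κ * ξ⁻¹ := by
      rw [mul_inv, mul_inv, inv_inv, inv_inv, mul_comm κ ξ⁻¹, _root_.mul_assoc ξ⁻¹ a κ, mul_comm a κ, ← _root_.mul_assoc, mul_inv_cancel_right]
    rw [e]
    exact key ξ hξ

end Groth.Agent.S17819
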