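import Groth.Statements.S17822
-- import your own Groth.Agent.* helpers here
import Groth.Agent.Lib.JacSym26.Crit

set_option autoImplicit false
universe u
open CategoryTheory CategoryTheory.Limits AlgebraicGeometry MonoidalCategory CartesianMonoidalCategory MonObj
open JacVar

set_option backward.isDefEq.respectTransparency false
set_option linter.style.haveILetI false

noncomputable section

open GrothLib

theorem aux_mem_of_single_le {k : Type u} [Field k] {K : Type u} [Field K] [Algebra k K]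
    (h : GrothLib.FunFld.IsFG k K) (hK : _root_.FunFld.IsFunctionField k K) {U Y : _root_.FunFld.Divisor k K}
    (X : _root_.FunFld.Place k K) (hU : 0 ≤ U) (hY : 0 ≤ Y) (h1 : _root_.FunFld.ell (U + Y) = 1)
    (h2 : 0 < _root_.FunFld.ell (U + Y - Finsupp.single X 1))
    (h3 : _root_.FunFld.ell (Y - Finsupp.single X 1) = 0) : 0 < _root_.FunFld.ell (U - Finsupp.single X 1) := by
  classical
  have hz := GrothLib.FunFld.ell_zero hK
  have hX : (0 : _root_.FunFld.Divisor k K) ≤ Finsupp.single X 1 := Finsupp.single_nonneg.2 zero_le_one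
  haveI := h.finite_L (U + Y)
  have hle : U + Y - Finsupp.single X 1 ≤ U + Y := sub_le_self _ hX
  have heq : _root_.FunFld.L (U + Y - Finsupp.single X 1) = _root_.FunFld.L (U + Y) :=
    Submodule.eq_of_le_of_finrank_le (GrothLib.FunFld.L_mono hle) (by
      show _root_.FunFld.ell (U + Y) ≤ _root_.FunFld.ell (U + Y - Finsupp.single X 1)
      omega)
  have h1L : (1 : K) ∈ _root_.FunFld.L (U + Y) := by
    refine (GrothLib.FunFld.mem_L_iff_ord one_ne_zero).2 fun P => ?_
    rw [GrothLib.FunFld.ord_one, zero_add]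
    exact add_nonneg (hU P) (hY P)
  rw [← heq] at h1L
  have hpos := (GrothLib.FunFld.mem_L_iff_ord one_ne_zero).1 h1L X
  rw [GrothLib.FunFld.ord_one, zero_add, Finsupp.sub_apply, Finsupp.single_eq_same, Finsupp.add_apply] at hpos
  have hY0 : Y X = 0 := by
    by_contra hne
    have h4 := h.ell_mono (D₁ := (0 : _root_.FunFld.Divisor k K)) (D₂ := Y - Finsupp.single X 1) (fun P => by
      rw [Finsupp.sub_apply, Finsupp.zero_apply]
      by_cases hP : P = X
      · subst hP; rw [Finsupp.single_eq_same]; have h5 : (0 : ℤ) ≤ Y P := hY P; omega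
      · rw [Finsupp.single_eq_of_ne hP, sub_zero]; exact hY P)
    omega
  have h4 := h.ell_mono (D₁ := (0 : _root_.FunFld.Divisor k K)) (D₂ := U - Finsupp.single X 1) (fun P => by
    rw [Finsupp.sub_apply, Finsupp.zero_apply]
    by_cases hP : P = X
    · subst hP; rw [Finsupp.single_eq_same]; omega
    · rw [Finsupp.single_eq_of_ne hP, sub_zero]; exact hU P)
  omega

namespace Groth.Agent.S17822

/-- Let k be an algebraically closed field, C a smooth proper connected curve of genus g ≥ 2 over k with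
a k-point P, (J, ψ) its Jacobian (a commutative group scheme over k, coarse moduli scheme on all
k-schemes for degree-0 line bundles modulo twisting from the base, group law induced by tensor
product) and j : C ⟶ J the Abel map with base point P. Write W^r ⊂ J for the image of the r-fold
product C ×_k ⋯ ×_k C under (x_1, …, x_r) ↦ j(x_1) ⋯ j(x_r) (the image of the r-th symmetric power;
W^0 is the origin), and W^r_a for its translate by a k-point a of J. Let κ be the k-point of J given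
by ψ on Ω_{C/k} ⊗ I_P^{⊗(2g−2)} and Z^* the image of Z ⊂ J under x ↦ κ·x⁻¹. Let 0 ≤ r ≤ g − 2 and
let a, b, x, y be k-points of J with x in W^1, y in W^{g−1−r} and a·x = b·y. If W^{r+1}_a is not
contained in W^{g−1}_b, then W^{r+1}_a ∩ W^{g−1}_b = W^r_{a·x} ∪ (W^{r+1}_a ∩ (W^{g−2}_{y·a⁻¹})^*)
as subsets of J. -/
theorem result (k : Type u) [Field k] [IsAlgClosed k]
    (C : Scheme.{u}) [C.Over (Spec (CommRingCat.of k))]
    [IsProper (C ↘ Spec (CommRingCat.of k))] [Smooth (C ↘ Spec (CommRingCat.of k))] [GeometricallyConnected (C ↘ Spec (CommRingCat.of k))]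
    (hdim : topologicalKrullDim ↥C = 1)
    (g : ℕ) (hg : Curv2.genus k C = g) (hg2 : 2 ≤ g)
    (σ : Spec (CommRingCat.of k) ⟶ C) (hσ : σ ≫ (C ↘ Spec (CommRingCat.of k)) = 𝟙 _)
    (J : Over (Spec (CommRingCat.of k))) [GrpObj J] [IsCommMonObj J]
    (ψ : (ModFun.PicDeg (C ↘ Spec (CommRingCat.of k)) 0).Hom ⊤ J) (hJ : Jac.IsJacobian (C ↘ Spec (CommRingCat.of k)) ⊤ J ψ)
    (j : Over.mk (C ↘ Spec (CommRingCat.of k)) ⟶ J) (hj : Jac.IsAbelJacobiAt (C ↘ Spec (CommRingCat.of k)) σ ψ j)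
    (Kf : (PicF.XT (C ↘ Spec (CommRingCat.of k)) (𝟙_ (Over (Spec (CommRingCat.of k))))).Modules)
    (hKf : Nonempty (Kf ≅ (Scheme.Modules.pullback (pullback.fst (C ↘ Spec (CommRingCat.of k)) (𝟙_ (Over (Spec (CommRingCat.of k)))).hom)).obj
      (CohB1.tensorMod (Omega.sheaf (C ↘ Spec (CommRingCat.of k))) (CohB1.tensorPow (ClSub.idealMod σ.ker) (2 * g - 2)))))
    (hT₁ : (⊤ : ObjectProperty (Over (Spec (CommRingCat.of k)))) (𝟙_ (Over (Spec (CommRingCat.of k))))) (hKok : (ModFun.PicDeg (C ↘ Spec (CommRingCat.of k)) 0).ok (𝟙_ (Over (Spec (CommRingCat.of k)))) Kf)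
    (κ : (𝟙_ (Over (Spec (CommRingCat.of k)))) ⟶ J) (hκ : ψ.app (𝟙_ (Over (Spec (CommRingCat.of k)))) Kf hT₁ hKok = κ)
    (r : ℕ) (hr : r ≤ g - 2) (a b x y : (𝟙_ (Over (Spec (CommRingCat.of k)))) ⟶ J)
    (hx : ∀ p, x.left.base p ∈ Set.range ((List.ofFn fun i : Fin 1 =>
        (Over.homMk (WidePullback.π (fun (_ : Fin 1) => (C ↘ Spec (CommRingCat.of k))) i)
          (WidePullback.π_arrow (fun (_ : Fin 1) => (C ↘ Spec (CommRingCat.of k))) i) : Over.mk (WidePullback.base fun (_ : Fin 1) => (C ↘ Spec (CommRingCat.of k))) ⟶ Over.mk (C ↘ Spec (CommRingCat.of k))) ≫ j).prod).left.base)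
    (hy : ∀ p, y.left.base p ∈ Set.range ((List.ofFn fun i : Fin (g - 1 - r) =>
        (Over.homMk (WidePullback.π (fun (_ : Fin (g - 1 - r)) => (C ↘ Spec (CommRingCat.of k))) i)
          (WidePullback.π_arrow (fun (_ : Fin (g - 1 - r)) => (C ↘ Spec (CommRingCat.of k))) i) : Over.mk (WidePullback.base fun (_ : Fin (g - 1 - r)) => (C ↘ Spec (CommRingCat.of k))) ⟶ Over.mk (C ↘ Spec (CommRingCat.of k))) ≫ j).prod).left.base)
    (hab : a * x = b * y)
    (hnot : ¬ (((Jac.transl J a).left.base '' Set.range ((List.ofFn fun i : Fin (r + 1) =>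
        (Over.homMk (WidePullback.π (fun (_ : Fin (r + 1)) => (C ↘ Spec (CommRingCat.of k))) i)
          (WidePullback.π_arrow (fun (_ : Fin (r + 1)) => (C ↘ Spec (CommRingCat.of k))) i) : Over.mk (WidePullback.base fun (_ : Fin (r + 1)) => (C ↘ Spec (CommRingCat.of k))) ⟶ Over.mk (C ↘ Spec (CommRingCat.of k))) ≫ j).prod).left.base) ⊆ ((Jac.transl J b).left.base '' Set.range ((List.ofFn fun i : Fin (g - 1) =>
        (Over.homMk (WidePullback.π (fun (_ : Fin (g - 1)) => (C ↘ Spec (CommRingCat.of k))) i)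
          (WidePullback.π_arrow (fun (_ : Fin (g - 1)) => (C ↘ Spec (CommRingCat.of k))) i) : Over.mk (WidePullback.base fun (_ : Fin (g - 1)) => (C ↘ Spec (CommRingCat.of k))) ⟶ Over.mk (C ↘ Spec (CommRingCat.of k))) ≫ j).prod).left.base))) :
    ((Jac.transl J a).left.base '' Set.range ((List.ofFn fun i : Fin (r + 1) =>
        (Over.homMk (WidePullback.π (fun (_ : Fin (r + 1)) => (C ↘ Spec (CommRingCat.of k))) i)
          (WidePullback.π_arrow (fun (_ : Fin (r + 1)) => (C ↘ Spec (CommRingCat.of k))) i) : Over.mk (WidePullback.base fun (_ : Fin (r + 1)) => (C ↘ Spec (CommRingCat.of k))) ⟶ Over.mk (C ↘ Spec (CommRingCat.of k))) ≫ j).prod).left.base) ∩ ((Jac.transl J b).left.base '' Set.range ((List.ofFn fun i : Fin (g - 1) =>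
        (Over.homMk (WidePullback.π (fun (_ : Fin (g - 1)) => (C ↘ Spec (CommRingCat.of k))) i)
          (WidePullback.π_arrow (fun (_ : Fin (g - 1)) => (C ↘ Spec (CommRingCat.of k))) i) : Over.mk (WidePullback.base fun (_ : Fin (g - 1)) => (C ↘ Spec (CommRingCat.of k))) ⟶ Over.mk (C ↘ Spec (CommRingCat.of k))) ≫ j).prod).left.base) =
      ((Jac.transl J (a * x)).left.base '' Set.range ((List.ofFn fun i : Fin r =>
        (Over.homMk (WidePullback.π (fun (_ : Fin r) => (C ↘ Spec (CommRingCat.of k))) i)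
          (WidePullback.π_arrow (fun (_ : Fin r) => (C ↘ Spec (CommRingCat.of k))) i) : Over.mk (WidePullback.base fun (_ : Fin r) => (C ↘ Spec (CommRingCat.of k))) ⟶ Over.mk (C ↘ Spec (CommRingCat.of k))) ≫ j).prod).left.base) ∪
      (((Jac.transl J a).left.base '' Set.range ((List.ofFn fun i : Fin (r + 1) =>
        (Over.homMk (WidePullback.π (fun (_ : Fin (r + 1)) => (C ↘ Spec (CommRingCat.of k))) i)
          (WidePullback.π_arrow (fun (_ : Fin (r + 1)) => (C ↘ Spec (CommRingCat.of k))) i) : Over.mk (WidePullback.base fun (_ : Fin (r + 1)) => (C ↘ Spec (CommRingCat.of k))) ⟶ Over.mk (C ↘ Spec (CommRingCat.of k))) ≫ j).prod).left.base) ∩ ((Jac.transl J κ).left.base '' (((𝟙 J)⁻¹).left.base '' ((Jac.transl J (y * a⁻¹)).left.base '' Set.range ((List.ofFn fun i : Fin (g - 2) =>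
        (Over.homMk (WidePullback.π (fun (_ : Fin (g - 2)) => (C ↘ Spec (CommRingCat.of k))) i)
          (WidePullback.π_arrow (fun (_ : Fin (g - 2)) => (C ↘ Spec (CommRingCat.of k))) i) : Over.mk (WidePullback.base fun (_ : Fin (g - 2)) => (C ↘ Spec (CommRingCat.of k))) ⟶ Over.mk (C ↘ Spec (CommRingCat.of k))) ≫ j).prod).left.base)))) := by
  haveI : ConnectedSpace C :=
    GeometricallyConnected.connectedSpace_of_subsingleton (C ↘ Spec (CommRingCat.of k))
  haveI := GrothLib.Euler.isIntegral_of_smooth_connected k (C ↘ Spec (CommRingCat.of k))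
  haveI := GrothLib.Euler.isNoetherian_of_proper (X := C) k
  haveI := GrothLib.CurveRR.regCurve_of_smooth (C ↘ Spec (CommRingCat.of k)) hdim
  obtain ⟨Q, hQ, -, -⟩ := GrothLib.CurveBase26.exists_point k (X := C) hdim σ hσ
  obtain ⟨K, hKc, hκ'⟩ := GrothLib.JacSym26.pt_kappa (ψ := ψ) hdim σ hσ Q hQ (2 * g - 2) Kf hKf hKok
  rw [show ψ.app (GrothLib.JacSym26.T₀ k) Kf trivial hKok = κ from hκ] at hκ'
  have h0 := GrothLib.CurveMult.finrank_H0_eq_one_of_geometricallyConnected k (C := C)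
  have hK := GrothLib.CurveRR.isFunctionField k h0
  have hgen := GrothLib.CurveRR.genus_eq k h0
  rw [hg] at hgen
  have hfg := GrothLib.CurveRR.isFG (X := C) k
  have hdeg1 : ∀ R : GrothLib.CurveRR.CP C, (GrothLib.CurveRR.place k R).deg = 1 := fun R => hfg.deg_eq_one _
  have hell0 := GrothLib.FunFld.ell_zero hK
  have hdiv : ∀ {m : ℕ} {η' : GrothLib.JacSym26.T₀ k ⟶ J}, η' ∈ GrothLib.JacSym26.W j m →
      ∃ E : _root_.FunFld.Divisor k C.functionField, 0 ≤ E ∧ E.deg = m ∧
        GrothLib.JacSym26.Pt ψ (E - (m : ℤ) • Finsupp.single (GrothLib.CurveRR.place k Q) 1) η' := by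
    rintro m η' ⟨t, rfl⟩
    choose R hR hRd hRiso using fun i => GrothLib.CurveBase26.exists_point k (X := C) hdim (t i).left (Over.w (t i))
    refine ⟨_, Finset.sum_nonneg fun i _ => Finsupp.single_nonneg.2 zero_le_one, ?_,
      GrothLib.JacSym26.pt_prod j hJ hdim σ hσ hj Q hQ m t R hR⟩
    rw [GrothLib.FunFld.deg_sum]
    simp [GrothLib.FunFld.deg_single, hdeg1]
  obtain ⟨X, hX0, hXd, hPx⟩ := hdiv ((GrothLib.JacSym26.mem_range_q j x).1 hx)
  obtain ⟨Y, hY0, hYd, hPy⟩ := hdiv ((GrothLib.JacSym26.mem_range_q j y).1 hy)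
  obtain ⟨P, hP⟩ := GrothLib.JacSym26.pts_of_effective hfg 1 X hX0 hXd
  rw [Fin.sum_univ_one] at hP
  have hab' : a * b⁻¹ = y * x⁻¹ := by
    rw [mul_inv_eq_iff_eq_mul, _root_.mul_assoc, mul_comm x⁻¹ b, ← _root_.mul_assoc, eq_mul_inv_iff_mul_eq,
      mul_comm y b]
    exact hab
  have hellYX : _root_.FunFld.ell (Y - Finsupp.single (P 0) 1) = 0 := by
    by_contra hne
    refine hnot ((GrothLib.JacSym26.subset_iff j (r + 1) (g - 1) a b).2 fun η' hη => ?_)
    have hc := GrothLib.JacSym26.core j hJ hdim σ hσ hj Q hQ hg (g - 2 - r) (r + 1) (by omega) (by omega) (a * b⁻¹)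
    rw [_root_.mul_assoc]
    refine hc.2 ?_ η' hη
    rw [hab', GrothLib.JacSym26.mem_W_iff j hJ hdim σ hσ hj Q hQ (hPy.div hJ hPx)]
    convert Nat.pos_of_ne_zero hne using 2
    rw [← hP, show ((g - 1 - r : ℕ) : ℤ) = ((g - 2 - r : ℕ) : ℤ) + 1 by omega, add_smul, Nat.cast_one, one_smul]
    abel
  rw [← hP] at hellYX
  -- the three conditions on a point of `W_(r+1)`
  have condB : ∀ {u : GrothLib.JacSym26.T₀ k ⟶ J} {U : _root_.FunFld.Divisor k C.functionField},
      GrothLib.JacSym26.Pt ψ (U - ((r + 1 : ℕ) : ℤ) • Finsupp.single (GrothLib.CurveRR.place k Q) 1) u →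
      (u * a * b⁻¹ ∈ GrothLib.JacSym26.W j (g - 1) ↔ 0 < _root_.FunFld.ell (U + Y - X)) := by
    intro u U hu
    rw [_root_.mul_assoc, hab', GrothLib.JacSym26.mem_W_iff j hJ hdim σ hσ hj Q hQ (hu.mul hJ (hPy.div hJ hPx))]
    refine iff_of_eq (congrArg (fun D => 0 < _root_.FunFld.ell D) ?_)
    rw [show ((g - 1 : ℕ) : ℤ) = ((r + 1 : ℕ) : ℤ) + ((g - 1 - r : ℕ) : ℤ) - ((1 : ℕ) : ℤ) by omega, sub_smul,
      add_smul]
    abel
  have cond1 : ∀ {u : GrothLib.JacSym26.T₀ k ⟶ J} {U : _root_.FunFld.Divisor k C.functionField},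
      GrothLib.JacSym26.Pt ψ (U - ((r + 1 : ℕ) : ℤ) • Finsupp.single (GrothLib.CurveRR.place k Q) 1) u →
      (u * a * (a * x)⁻¹ ∈ GrothLib.JacSym26.W j r ↔ 0 < _root_.FunFld.ell (U - X)) := by
    intro u U hu
    rw [show u * a * (a * x)⁻¹ = u * x⁻¹ by rw [mul_inv, _root_.mul_assoc, ← _root_.mul_assoc a, mul_inv_cancel, _root_.one_mul],
      GrothLib.JacSym26.mem_W_iff j hJ hdim σ hσ hj Q hQ (hu.div hJ hPx)]
    refine iff_of_eq (congrArg (fun D => 0 < _root_.FunFld.ell D) ?_)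
    rw [show ((r + 1 : ℕ) : ℤ) = (r : ℤ) + ((1 : ℕ) : ℤ) by omega, add_smul]
    abel
  have cond2 : ∀ {u : GrothLib.JacSym26.T₀ k ⟶ J} {U : _root_.FunFld.Divisor k C.functionField},
      GrothLib.JacSym26.Pt ψ (U - ((r + 1 : ℕ) : ℤ) • Finsupp.single (GrothLib.CurveRR.place k Q) 1) u →
      ((u * a * κ⁻¹)⁻¹ * (y * a⁻¹)⁻¹ ∈ GrothLib.JacSym26.W j (g - 2) ↔ 0 < _root_.FunFld.ell (K - (U + Y))) := by
    intro u U hu
    rw [show (u * a * κ⁻¹)⁻¹ * (y * a⁻¹)⁻¹ = κ * (u * y)⁻¹ by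
        apply Additive.ofMul.injective; simp only [ofMul_mul, ofMul_inv]; abel,
      GrothLib.JacSym26.mem_W_iff j hJ hdim σ hσ hj Q hQ (hκ'.div hJ (hu.mul hJ hPy))]
    refine iff_of_eq (congrArg (fun D => 0 < _root_.FunFld.ell D) ?_)
    rw [show ((2 * g - 2 : ℕ) : ℤ) = ((r + 1 : ℕ) : ℤ) + ((g - 1 - r : ℕ) : ℤ) + ((g - 2 : ℕ) : ℤ) by omega,
      add_smul, add_smul]
    abel
  have hrr : ∀ {U : _root_.FunFld.Divisor k C.functionField}, U.deg = ((r + 1 : ℕ) : ℤ) →
      (_root_.FunFld.ell (U + Y) : ℤ) = _root_.FunFld.ell (K - (U + Y)) + 1 := by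
    intro U hU
    have := GrothLib.FunFld.riemann_roch' hK hKc (U + Y)
    rw [GrothLib.FunFld.deg_add, hU, hYd] at this
    omega
  set A := (Jac.transl J a).left '' Set.range (GrothLib.JacSym26.q j (r + 1)).left with hA
  set B := (Jac.transl J b).left '' Set.range (GrothLib.JacSym26.q j (g - 1)).left with hB
  set R₁ := (Jac.transl J (a * x)).left '' Set.range (GrothLib.JacSym26.q j r).left with hR₁
  set R₂ := (Jac.transl J κ).left '' (((𝟙 J)⁻¹ : J ⟶ J).left '' ((Jac.transl J (y * a⁻¹)).left ''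
    Set.range (GrothLib.JacSym26.q j (g - 2)).left)) with hR₂
  show A ∩ B = R₁ ∪ (A ∩ R₂)
  have hAc : IsClosed A := GrothLib.JacSym26.isClosed_image_transl a (GrothLib.JacSym26.isClosed_range_q j _)
  have hBc : IsClosed B := GrothLib.JacSym26.isClosed_image_transl b (GrothLib.JacSym26.isClosed_range_q j _)
  have hR₁c : IsClosed R₁ := GrothLib.JacSym26.isClosed_image_transl _ (GrothLib.JacSym26.isClosed_range_q j _)
  have hR₂c : IsClosed R₂ := GrothLib.JacSym26.isClosed_image_transl κ (GrothLib.JacSym26.isClosed_image_inv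
    (GrothLib.JacSym26.isClosed_image_transl _ (GrothLib.JacSym26.isClosed_range_q j _)))
  refine Set.Subset.antisymm ?_ (Set.union_subset ?_ ?_)
  · refine GrothLib.JacSym26.inter_subset_of j (r + 1) (Jac.transl J a) B (R₁ ∪ A ∩ R₂) hBc
      (hR₁c.union (hAc.inter hR₂c)) fun u hu hpB => ?_
    obtain ⟨U, hU0, hUd, hPu⟩ := hdiv hu
    rw [GrothLib.JacSym26.comp_transl, hB, GrothLib.JacSym26.mem_image_transl_range, condB hPu] at hpB
    rw [GrothLib.JacSym26.comp_transl]
    have huA : ∀ p, (u * a).left p ∈ A := by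
      rw [hA, GrothLib.JacSym26.mem_image_transl_range, mul_inv_cancel_right]; exact hu
    have hR := hrr hUd
    by_cases h2 : 0 < _root_.FunFld.ell (K - (U + Y))
    · rw [← cond2 hPu, ← GrothLib.JacSym26.mem_image_reflect] at h2
      exact fun p => Or.inr ⟨huA p, h2 p⟩
    · rw [hP] at hpB hellYX
      have h1 := aux_mem_of_single_le hfg hK (P 0) hU0 hY0 (by omega) hpB hellYX
      rw [← hP, ← cond1 hPu, ← GrothLib.JacSym26.mem_image_transl_range] at h1
      exact fun p => Or.inl (h1 p)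
  · refine GrothLib.JacSym26.subset_of j r (Jac.transl J (a * x)) (A ∩ B) (hAc.inter hBc) fun ξ hξ => ?_
    obtain ⟨E, hE0, hEd, hPξ⟩ := hdiv hξ
    have hPu : GrothLib.JacSym26.Pt ψ (E + X - ((r + 1 : ℕ) : ℤ) • Finsupp.single (GrothLib.CurveRR.place k Q) 1) (ξ * x) := by
      convert hPξ.mul hJ hPx using 1
      rw [show ((r + 1 : ℕ) : ℤ) = (r : ℤ) + ((1 : ℕ) : ℤ) by omega, add_smul]
      abel
    rw [GrothLib.JacSym26.comp_transl, show ξ * (a * x) = ξ * x * a by rw [mul_comm a x, _root_.mul_assoc]]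
    have h1 : ξ * x ∈ GrothLib.JacSym26.W j (r + 1) := by
      rw [GrothLib.JacSym26.mem_W_iff j hJ hdim σ hσ hj Q hQ hPu, sub_add_cancel]
      have := hfg.ell_mono (D₁ := (0 : _root_.FunFld.Divisor k C.functionField)) (D₂ := E + X) (add_nonneg hE0 hX0)
      omega
    have h2 : ξ * x * a * b⁻¹ ∈ GrothLib.JacSym26.W j (g - 1) := by
      rw [condB hPu, show E + X + Y - X = E + Y by abel]
      have := hfg.ell_mono (D₁ := (0 : _root_.FunFld.Divisor k C.functionField)) (D₂ := E + Y) (add_nonneg hE0 hY0)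
      omega
    exact fun p => ⟨(GrothLib.JacSym26.mem_image_transl_range j (r + 1) a _).2 (by rwa [mul_inv_cancel_right]) p,
      (GrothLib.JacSym26.mem_image_transl_range j (g - 1) b _).2 h2 p⟩
  · refine Set.subset_inter Set.inter_subset_left ?_
    refine GrothLib.JacSym26.inter_subset_of j (r + 1) (Jac.transl J a) R₂ B hR₂c hBc fun u hu hp => ?_
    obtain ⟨U, hU0, hUd, hPu⟩ := hdiv hu
    rw [GrothLib.JacSym26.comp_transl, hR₂, GrothLib.JacSym26.mem_image_reflect, cond2 hPu] at hp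
    rw [GrothLib.JacSym26.comp_transl, hB, GrothLib.JacSym26.mem_image_transl_range, condB hPu]
    have hR := hrr hUd
    have h3 := hfg.ell_sub_ell_le (D₁ := U + Y - X) (D₂ := U + Y) (sub_le_self _ hX0)
    rw [GrothLib.FunFld.deg_sub, hXd] at h3
    omega

end Groth.Agent.S17822
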