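import Groth.Statements.S17824
-- import your own Groth.Agent.* helpers here
import Groth.Agent.Lib.CurveBase26.H0Div
import Groth.Agent.Lib.CurveBase26.GenDiff

set_option autoImplicit false
universe u
open CategoryTheory CategoryTheory.Limits AlgebraicGeometry
open JacVar

set_option backward.isDefEq.respectTransparency false
set_option linter.style.haveILetI false

noncomputable section

open GrothLib

namespace Groth.Agent.S17824

/-- Parts (a) and (b) over an algebraically closed field. Let C be a smooth proper connected curve of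
genus g > 0 over an algebraically closed field k with a k-point P, and consider the 2g-fold fibre
power C ×_k ⋯ ×_k C, a k-rational point of which is a pair (D, D') of g-tuples of k-points (the
first g and the last g coordinates). (a) There is a nonempty open subset U of it such that for every
k-rational point (P_1, …, P_{2g}) of U and every invertible module M with M ⊗ I_{P_1} ⊗ ⋯ ⊗
I_{P_{2g}} ≅ I_P^{⊗g}, i.e. M ≅ O(D + D' − gP), one has h⁰(C, M) = 1. (b) There is a nonempty open
subset V such that for every k-rational point of V and every invertible M with M ⊗ I_{P_{g+1}} ⊗ ⋯ ⊗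
I_{P_{2g}} ⊗ I_P^{⊗g} ≅ I_{P_1} ⊗ ⋯ ⊗ I_{P_g}, i.e. M ≅ O(D' − D + gP), one has h⁰(C, M) = 1. (The
published lemma is phrased on C^(g) × C^(g), over the ground field, and for points with values in
every field containing it; this row takes k algebraically closed and k-points of the 2g-fold fibre
power.) -/
theorem result (k : Type u) [Field k] [IsAlgClosed k]
    (C : Scheme.{u}) [C.Over (Spec (CommRingCat.of k))]
    [IsProper (C ↘ Spec (CommRingCat.of k))] [Smooth (C ↘ Spec (CommRingCat.of k))] [GeometricallyConnected (C ↘ Spec (CommRingCat.of k))]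
    (hdim : topologicalKrullDim ↥C = 1)
    (g : ℕ) (hg : Curv2.genus k C = g) (hg1 : 1 ≤ g)
    (σ : Spec (CommRingCat.of k) ⟶ C) (hσ : σ ≫ (C ↘ Spec (CommRingCat.of k)) = 𝟙 _) :
    (∃ U : (SymProd.fibPow (C ↘ Spec (CommRingCat.of k)) (2 * g)).Opens, (U : Set ↥(SymProd.fibPow (C ↘ Spec (CommRingCat.of k)) (2 * g))).Nonempty ∧
      ∀ (x : Spec (CommRingCat.of k) ⟶ SymProd.fibPow (C ↘ Spec (CommRingCat.of k)) (2 * g))
        (hx : x ≫ WidePullback.base (fun (_ : Fin (2 * g)) => (C ↘ Spec (CommRingCat.of k))) = 𝟙 _)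
        (hxU : ∀ p, x.base p ∈ U) (M : C.Modules) (hM : PicF.IsInvertible M)
        (hMD : Nonempty (CohB1.tensorMod M (FGA.tensorList (List.ofFn fun i : Fin (2 * g) => ClSub.idealMod (x ≫ WidePullback.π (fun (_ : Fin (2 * g)) => (C ↘ Spec (CommRingCat.of k))) i).ker)) ≅
          CohB1.tensorPow (ClSub.idealMod σ.ker) g)),
        Module.finrank k (Coh.HH C M 0) = 1) ∧
    (∃ V : (SymProd.fibPow (C ↘ Spec (CommRingCat.of k)) (2 * g)).Opens, (V : Set ↥(SymProd.fibPow (C ↘ Spec (CommRingCat.of k)) (2 * g))).Nonempty ∧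
      ∀ (x : Spec (CommRingCat.of k) ⟶ SymProd.fibPow (C ↘ Spec (CommRingCat.of k)) (2 * g))
        (hx : x ≫ WidePullback.base (fun (_ : Fin (2 * g)) => (C ↘ Spec (CommRingCat.of k))) = 𝟙 _)
        (hxV : ∀ p, x.base p ∈ V) (M : C.Modules) (hM : PicF.IsInvertible M)
        (hMD : Nonempty (CohB1.tensorMod M (CohB1.tensorMod
            (FGA.tensorList (List.ofFn fun i : Fin g => ClSub.idealMod (x ≫ WidePullback.π (fun (_ : Fin (2 * g)) => (C ↘ Spec (CommRingCat.of k))) (Fin.cast (two_mul g).symm (Fin.natAdd g i))).ker))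
            (CohB1.tensorPow (ClSub.idealMod σ.ker) g)) ≅
          FGA.tensorList (List.ofFn fun i : Fin g => ClSub.idealMod (x ≫ WidePullback.π (fun (_ : Fin (2 * g)) => (C ↘ Spec (CommRingCat.of k))) (Fin.cast (two_mul g).symm (Fin.castAdd g i))).ker))),
        Module.finrank k (Coh.HH C M 0) = 1) := by
  haveI : ConnectedSpace C :=
    GeometricallyConnected.connectedSpace_of_subsingleton (C ↘ Spec (CommRingCat.of k))
  haveI := GrothLib.Euler.isIntegral_of_smooth_connected k (C ↘ Spec (CommRingCat.of k))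
  haveI := GrothLib.Euler.isNoetherian_of_proper (X := C) k
  haveI := GrothLib.CurveRR.regCurve_of_smooth (C ↘ Spec (CommRingCat.of k)) hdim
  have h0 := GrothLib.CurveMult.finrank_H0_eq_one_of_geometricallyConnected k (C := C)
  have hK := GrothLib.CurveRR.isFunctionField k h0
  have hgen := GrothLib.CurveRR.genus_eq k h0
  obtain ⟨K, hKc⟩ := GrothLib.FunFld.exists_isCanonical hK
  have hellK := GrothLib.FunFld.ell_canonical hK hKc
  obtain ⟨Q, -, hQdeg, ⟨eQ⟩⟩ := GrothLib.CurveBase26.exists_point k hdim σ hσ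
  obtain ⟨eQg⟩ := GrothLib.CurveRR.nonempty_tensorPow_iso k eQ g
  set q : FunFld.Divisor k C.functionField := Finsupp.single (GrothLib.CurveRR.place k Q) 1 with hq
  have hdq : FunFld.Divisor.deg q = 1 := by rw [hq, GrothLib.FunFld.deg_single, hQdeg]; norm_num
  have hdeg1 : ∀ {n : ℕ} (P : Fin n → GrothLib.CurveRR.CP C), FunFld.Divisor.deg
      (∑ i : Fin n, (Finsupp.single (GrothLib.CurveRR.place k (P i)) 1 : FunFld.Divisor k C.functionField)) = (n : ℤ) :=
    fun P => by
      rw [GrothLib.FunFld.deg_sum]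
      simp [GrothLib.FunFld.deg_single, GrothLib.FunFld.IsFG.deg_eq_one hK.1]
  constructor
  · have hE : (FunFld.ell (K + g • q) : ℤ) = 2 * g - 1 := by
      rw [GrothLib.FunFld.ell_eq_of_deg_ge hK (by
        rw [GrothLib.FunFld.deg_add, GrothLib.FunFld.deg_nsmul, hellK.2, hdq]; omega)]
      rw [GrothLib.FunFld.deg_add, GrothLib.FunFld.deg_nsmul, hellK.2, hdq]; omega
    have hle : FunFld.ell (K + g • q) ≤ 2 * g := by omega
    obtain ⟨U, hUne, hU⟩ := GrothLib.CurveBase26.exists_open_indep k (K + g • q)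
      (Fin.castLE hle) (Fin.castLE_injective hle) le_rfl
    refine ⟨U, hUne, fun x hx hxU M hM hMD => ?_⟩
    choose P hP hdeg hiso using fun i : Fin (2 * g) => GrothLib.CurveBase26.exists_point k hdim
      (x ≫ WidePullback.π (fun (_ : Fin (2 * g)) => (C ↘ Spec (CommRingCat.of k))) i)
      (by rw [Category.assoc, WidePullback.π_arrow]; exact hx)
    obtain ⟨eA⟩ := GrothLib.CurveBase26.nonempty_tensorList_oD k _ _ hiso
    rw [GrothLib.CurveBase26.finrank_H0_of_tensor k hM eA eQg hMD, Finset.sum_neg_distrib, smul_neg]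
    have hind := hU x hx hxU P hP
    rw [Nat.sub_self] at hind
    set D : FunFld.Divisor k C.functionField :=
      ∑ i : Fin (2 * g), Finsupp.single (GrothLib.CurveRR.place k (P i)) 1 with hD
    haveI := GrothLib.FunFld.IsFG.finite_L hK.1 (K + g • q - ∑ i, Finsupp.single (GrothLib.CurveRR.place k (P (Fin.castLE hle i))) 1)
    have hzero : FunFld.ell (K - (-(g • q) - -D)) = 0 := by
      refine Nat.le_zero.1 (le_of_le_of_eq ?_ hind)
      refine Submodule.finrank_mono (GrothLib.FunFld.L_mono ?_)
      rw [show K - (-(g • q) - -D) = K + g • q - D by abel]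
      refine sub_le_sub_left ?_ _
      rw [hD, ← Finset.sum_image (s := Finset.univ) (g := Fin.castLE hle)
        (f := fun i => (Finsupp.single (GrothLib.CurveRR.place k (P i)) 1 : FunFld.Divisor k C.functionField))
        (fun a _ b _ h => Fin.castLE_injective hle h)]
      exact Finset.sum_le_sum_of_subset_of_nonneg (Finset.subset_univ _)
        fun i _ _ => Finsupp.single_nonneg.2 zero_le_one
    have hRR := GrothLib.FunFld.riemann_roch' hK hKc (-(g • q) - -D)
    rw [hzero, GrothLib.FunFld.deg_sub, GrothLib.FunFld.deg_neg, GrothLib.FunFld.deg_neg,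
      GrothLib.FunFld.deg_nsmul, hdq, hdeg1] at hRR
    omega
  · obtain ⟨V, hVne, hV⟩ := GrothLib.CurveBase26.exists_open_diff k hK (K - g • q) ((4 * g) • q)
      (fun i : Fin g => Fin.cast (two_mul g).symm (Fin.castAdd g i))
      (fun i : Fin g => Fin.cast (two_mul g).symm (Fin.natAdd g i))
      (fun a b h => by simpa [Fin.ext_iff] using h)
      (fun a b h => by simpa [Fin.ext_iff] using h)
      (fun a b h => by simp [Fin.ext_iff] at h; omega)
      (by rw [GrothLib.FunFld.deg_nsmul, hdq]; push_cast; omega)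
      (by rw [GrothLib.FunFld.deg_sub, GrothLib.FunFld.deg_nsmul, GrothLib.FunFld.deg_nsmul, hellK.2, hdq]
          push_cast; omega)
      (fun D hD => by
        have hRR := GrothLib.FunFld.riemann_roch' hK hKc (K - g • q + D)
        rw [GrothLib.FunFld.deg_add, GrothLib.FunFld.deg_sub, GrothLib.FunFld.deg_nsmul, hellK.2, hdq, hD] at hRR
        have h1 := GrothLib.FunFld.ell_le_deg_succ hK (K - (K - g • q + D)) (by
          rw [GrothLib.FunFld.deg_sub, GrothLib.FunFld.deg_add, GrothLib.FunFld.deg_sub,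
            GrothLib.FunFld.deg_nsmul, hellK.2, hdq, hD]; omega)
        rw [GrothLib.FunFld.deg_sub, GrothLib.FunFld.deg_add, GrothLib.FunFld.deg_sub,
          GrothLib.FunFld.deg_nsmul, hellK.2, hdq, hD] at h1
        omega)
    refine ⟨V, hVne, fun x hx hxV M hM hMD => ?_⟩
    choose P hP hdeg hiso using fun i : Fin (2 * g) => GrothLib.CurveBase26.exists_point k hdim
      (x ≫ WidePullback.π (fun (_ : Fin (2 * g)) => (C ↘ Spec (CommRingCat.of k))) i)
      (by rw [Category.assoc, WidePullback.π_arrow]; exact hx)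
    obtain ⟨eA'⟩ := GrothLib.CurveBase26.nonempty_tensorList_oD k _ _
      (fun i : Fin g => hiso (Fin.cast (two_mul g).symm (Fin.natAdd g i)))
    obtain ⟨eA⟩ := GrothLib.CurveRR.nonempty_tensor_iso k eA' eQg
    obtain ⟨eB⟩ := GrothLib.CurveBase26.nonempty_tensorList_oD k _ _
      (fun i : Fin g => hiso (Fin.cast (two_mul g).symm (Fin.castAdd g i)))
    rw [GrothLib.CurveBase26.finrank_H0_of_tensor k hM eA eB hMD, Finset.sum_neg_distrib,
      Finset.sum_neg_distrib, smul_neg]
    have hzero := hV x hx hxV P hP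
    set D₁ : FunFld.Divisor k C.functionField :=
      ∑ i : Fin g, Finsupp.single (GrothLib.CurveRR.place k (P (Fin.cast (two_mul g).symm (Fin.castAdd g i)))) 1 with hD₁
    set D₂ : FunFld.Divisor k C.functionField :=
      ∑ i : Fin g, Finsupp.single (GrothLib.CurveRR.place k (P (Fin.cast (two_mul g).symm (Fin.natAdd g i)))) 1 with hD₂
    have hRR := GrothLib.FunFld.riemann_roch' hK hKc (-D₁ - (-D₂ + -(g • q)))
    rw [show K - (-D₁ - (-D₂ + -(g • q))) = K - g • q + D₁ - D₂ by abel, hzero, GrothLib.FunFld.deg_sub,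
      GrothLib.FunFld.deg_add, GrothLib.FunFld.deg_neg, GrothLib.FunFld.deg_neg, GrothLib.FunFld.deg_neg,
      GrothLib.FunFld.deg_nsmul, hdq, hdeg1, hdeg1] at hRR
    omega

end Groth.Agent.S17824
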