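import Groth.Statements.S1783
import Groth.Agent.Lib.DualCx22.CoindDual
import Groth.Agent.Lib.DualCx22.FlatHom
import Groth.Agent.Lib.DualRing.Shift
-- import your own Groth.Agent.* helpers here

set_option autoImplicit false
universe u
open CategoryTheory
attribute [local instance] HasDerivedCategory.standard
open Dual2

namespace Groth.Agent.S1783

/-- Let R → A be a ring map of finite type between Noetherian rings, where φ^!(K) is formed from a
presentation ψ : R[x_1, …, x_n] → A as RHom_P(A, K ⊗^L_R P)[n], assuming the derived base change to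
P exists and taking for RHom_P(A, −) a right adjoint of restriction of scalars along ψ. If K in D(R)
has vanishing cohomology below some degree, then so does φ^!(K); if moreover all cohomology modules
of K are finite R-modules, then all cohomology modules of φ^!(K) are finite A-modules. -/
theorem result (R A : Type u) [CommRing R] [CommRing A] [IsNoetherianRing R] [IsNoetherianRing A] [Algebra R A] (n : ℕ) (ψ : MvPolynomial (Fin n) R →ₐ[R] A) (hψ : Function.Surjective ψ) [DRing.HasLBaseChange (algebraMap R (MvPolynomial (Fin n) R))] (Rψ : Dual.D (MvPolynomial (Fin n) R) ⥤ Dual.D A) (adj : DRing.restrictD ψ.toRingHom ⊣ Rψ) (K : Dual.D R) (a : ℤ) (hKa : ∀ i : ℤ, i < a → Subsingleton (Dual.HD R K i)) : (∃ b : ℤ, ∀ i : ℤ, i < b → Subsingleton (Dual.HD A (Dual2.shriekVia n Rψ K) i)) ∧ ((∀ i : ℤ, Module.Finite R (Dual.HD R K i)) → ∀ i : ℤ, Module.Finite A (Dual.HD A (Dual2.shriekVia n Rψ K) i)) := by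
  haveI : K.IsGE a := (DerivedCategory.isGE_iff K a).2 fun i hi => GrothLib.DR.subsingleton_iff_isZero _ |>.1 (hKa i hi)
  haveI : Module.Flat R (MvPolynomial (Fin n) R) := inferInstance
  haveI := GrothLib.DR.preservesFiniteLimits_extendScalars (algebraMap R (MvPolynomial (Fin n) R)) GrothLib.DR.flat_algebraMap
  obtain ⟨e⟩ := GrothLib.DualCx22.nonempty_lBase_iso_bcD (A := R) (MvPolynomial (Fin n) R)
  let L := (DRing.LBaseChange (algebraMap R (MvPolynomial (Fin n) R))).obj K
  haveI := GrothLib.DualCx22.isGE_bcD (MvPolynomial (Fin n) R) K a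
  haveI : L.IsGE a := DerivedCategory.TStructure.t.isGE_of_iso (e.app K).symm a
  letI : Algebra (MvPolynomial (Fin n) R) A := ψ.toRingHom.toAlgebra
  haveI : Module.Finite (MvPolynomial (Fin n) R) A :=
    Module.Finite.of_surjective (Algebra.linearMap (MvPolynomial (Fin n) R) A) hψ
  refine ⟨⟨a - n, fun i hi => ?_⟩, fun hfin i => ?_⟩
  · obtain ⟨e1⟩ := GrothLib.DualRing.nonempty_HD_shift (Rψ.obj L) (n : ℤ) i (n + i) rfl
    haveI : Subsingleton (Dual.HD A (Rψ.obj L) (n + i)) :=
      GrothLib.DR.subsingleton_HD_of_hom_ring _ _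
        (GrothLib.DualCx22.subsingleton_hom_rightAdjoint ψ.toRingHom adj L A (n + i)
          (GrothLib.DualCx22.subsingleton_hom_of_isLE L a _ 0 (n + i) (by omega)))
    exact e1.toEquiv.subsingleton
  · obtain ⟨e1⟩ := GrothLib.DualRing.nonempty_HD_shift (Rψ.obj L) (n : ℤ) i (n + i) rfl
    haveI : Module.Finite A (Dual.HD A (Rψ.obj L) (n + i)) :=
      GrothLib.DualCx22.finite_HD_rightAdjoint Rψ adj L a (fun j => by
        haveI := GrothLib.DualCx22.finite_HD_bcD (MvPolynomial (Fin n) R) K j (hfin j)
        exact Module.Finite.equiv ((DerivedCategory.homologyFunctor (ModuleCat.{u} (MvPolynomial (Fin n) R)) j).mapIso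
          (e.app K).symm).toLinearEquiv) (n + i)
    exact Module.Finite.equiv e1.symm

end Groth.Agent.S1783
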