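import Groth.Statements.S17833
import Groth.Agent.Lib.DiagGrp.Bihom
import Groth.Agent.Lib.Rigidity.Field
import Groth.Agent.Lib.Rigidity.SmoothGroup
import Groth.Agent.Lib.FlatFactor.OrbitImmersion
import Groth.Agent.Lib.GrpSchField.Open
-- import your own Groth.Agent.* helpers here

set_option autoImplicit false
universe u
open CategoryTheory MonoidalCategory CartesianMonoidalCategory MonObj GrpObj AlgebraicGeometry
open AlgGrp

namespace Groth.Agent.S17833

/-- Over an algebraically closed field k, let G be a connected smooth k-group scheme of finite type (in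
the terminology of the notes, a smooth connected algebraic group), and H an affine normal subgroup
scheme of G such that the quotient G/H is an abelian variety: here j : H → G is the kernel of a flat
surjective homomorphism q : G → Q of k-group schemes with Q proper over k, and H is affine. Then an
automorphism u of the algebraic group G which fixes H pointwise (j ∘ u = j) and induces the identity
of Q (q ∘ u = q) is the identity. Equivalently, the map from the group of automorphisms of G fixing
H pointwise to the automorphism group of G/H is injective. -/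
theorem result (k : Type u) [Field k] [IsAlgClosed k]
    (G H Q : Over (Spec (CommRingCat.of k))) [GrpObj G] [GrpObj H] [GrpObj Q]
    [Smooth G.hom] [QuasiCompact G.hom] [ConnectedSpace ↥G.left]
    [IsAffine H.left] [IsProper Q.hom]
    (j : H ⟶ G) [IsMonHom j] (q : G ⟶ Q) [IsMonHom q] [Flat q.left] [Surjective q.left]
    (hker : AlgGrp.IsKernel j q)
    (u : G ≅ G) [IsMonHom u.hom] (hH : j ≫ u.hom = j) (hQ : u.hom ≫ q = q) :
    u.hom = 𝟙 G := by
  classical
  have : Mono j := GrothLib.GrpSchField.mono_of_kernel hker
  let d0 : G ⟶ G := u.hom * (𝟙 G)⁻¹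
  have hd0 : d0 ≫ q = 1 := by
    rw [MonObj.mul_comp, GrpObj.inv_comp, Category.id_comp, hQ, mul_inv_cancel]
  obtain ⟨d, hd⟩ := GrothLib.GrpSchField.exists_lift_of_comp_eq_one hker d0 hd0
  have : IsReduced G.left := GrothLib.Rigidity.isReduced_of_smooth G.hom
  have : IrreducibleSpace G.left := GrothLib.Rigidity.irreducibleSpace_of_connected G
  have : LocallyOfFiniteType q.left := by
    have : LocallyOfFiniteType (q.left ≫ Q.hom) := by rw [Over.w q]; infer_instance
    exact locallyOfFiniteType_of_comp q.left Q.hom
  have : IsLocallyNoetherian Q.left := LocallyOfFiniteType.isLocallyNoetherian Q.hom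
  have : LocallyOfFinitePresentation q.left := inferInstance
  obtain ⟨d', hd'⟩ := GrothLib.DiagGrp.exists_desc q d fun T a a' haa => by
    rw [← cancel_mono j, Category.assoc, Category.assoc, hd]
    have hn : (a⁻¹ * a') ≫ q = 1 := by
      rw [MonObj.mul_comp, GrpObj.inv_comp, haa, inv_mul_cancel]
    obtain ⟨n, hn'⟩ := GrothLib.GrpSchField.exists_lift_of_comp_eq_one hker (a⁻¹ * a') hn
    have hu : (a⁻¹ * a') ≫ u.hom = a⁻¹ * a' := by
      rw [← hn', Category.assoc, hH]
    have hu' : a' ≫ u.hom = (a ≫ u.hom) * (a⁻¹ * a') := by
      conv_rhs => rw [← hu, ← MonObj.mul_comp, mul_inv_cancel_left]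
    simp only [d0, MonObj.comp_mul, GrpObj.comp_inv, Category.comp_id, hu']
    group
  have : IsReduced Q.left := GrothLib.FlatFactor.isReduced_of_flat_surjective q.left
  have : IrreducibleSpace Q.left := q.left.surjective.irreducibleSpace q.left.continuous
  have : IsIntegral Q.left := isIntegral_of_irreducibleSpace_of_isReduced Q.left
  have hη : η[Q] = η[G] ≫ q := (IsMonHom.one_hom q).symm
  have h0 : η[G] ≫ d = η[H] := by
    rw [← cancel_mono j, Category.assoc, hd, IsMonHom.one_hom j]
    simp only [d0, MonObj.comp_mul, GrpObj.comp_inv, Category.comp_id, IsMonHom.one_hom u.hom, mul_inv_cancel]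
    rw [MonObj.one_eq_one]
  have hconst := GrothLib.Rigidity.eq_comp_section_of_isAffine Q.hom η[Q].left (Over.w η[Q]) d'.left
  have hd1 : d' = toUnit Q ≫ η[H] := by
    ext1
    rw [hconst, ← Over.comp_left, hη, Category.assoc, hd', h0]
    rfl
  have hfin : d0 = 1 := by
    rw [← hd, ← hd', hd1, Category.assoc, Category.assoc, IsMonHom.one_hom j]
    rw [← Category.assoc, CartesianMonoidalCategory.comp_toUnit]
    rfl
  exact mul_inv_eq_one.1 hfin

end Groth.Agent.S17833
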