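import Groth.Statements.S17839
-- import your own Groth.Agent.* helpers here
import Groth.Agent.Lib.IntMult4.Regular
import Groth.Agent.Lib.CanonMod.CM
import Groth.Agent.Lib.CycBasic.DimFun
import Groth.Agent.Lib.CycDiv.Stalk
import Groth.Agent.S9684


set_option autoImplicit false
universe u
open CategoryTheory AlgebraicGeometry
open Cyc

namespace Groth.Agent.S17839
theorem isDimFun_reg {S : Scheme.{u}} [IsLocallyNoetherian S]
    (hreg : ∀ s : S, IsRegularLocalRing (S.presheaf.stalk s)) {δ : S → ℤ}
    (hδ : ∀ s : S, ringKrullDim (S.presheaf.stalk s) = ((-δ s).toNat : WithBot ℕ∞) ∧ δ s ≤ 0) :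
    Cyc.IsDimFun S δ := by
  intro x y h hne
  haveI := hreg y
  haveI := GrothLib.IntMult4.isCohenMacaulayLocalRing (A := S.presheaf.stalk y)
  letI := (S.presheaf.stalkSpecializes h).hom.toAlgebra
  haveI := GrothLib.CycDiv.isLocalization_stalkSpecializes h
  obtain ⟨hy, hy0⟩ := hδ y
  obtain ⟨hx, hx0⟩ := hδ x
  let P : PrimeSpectrum (S.presheaf.stalk y) := ⟨GrothLib.CycDiv.primeOf h, inferInstance⟩
  have hP : S.fromSpecStalk y P = x := by
    rw [show P = PrimeSpectrum.comap (S.presheaf.stalkSpecializes h).hom (IsLocalRing.closedPoint _) from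
      PrimeSpectrum.ext (GrothLib.CycBasic.ker_specMap h)]
    exact GrothLib.CycBasic.fromSpecStalk_comap_closedPoint h
  have hg : (GrothLib.CycDiv.primeOf h).height = ((-δ x).toNat : ℕ∞) := by
    have := (IsLocalization.AtPrime.ringKrullDim_eq_height (GrothLib.CycDiv.primeOf h) (S.presheaf.stalk x)).symm.trans hx
    exact WithBot.coe_inj.1 this
  have hd := GrothLib.AffDom.ringKrullDim_quotient_eq_coheight P
  obtain ⟨d, hd'⟩ : ∃ d : ℕ, Order.coheight P = d := by
    refine ENat.ne_top_iff_exists.1 ?_ |>.imp fun d hd => hd.symm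
    intro htop
    have hle := GrothLib.AffDom.height_add_ringKrullDim_quotient_le (GrothLib.CycDiv.primeOf h)
    rw [hg, hd, htop, hy] at hle
    rw [← WithBot.coe_add, add_top] at hle
    exact absurd (top_le_iff.1 (WithBot.coe_le_coe.1 hle)) (ENat.coe_ne_top _)
  rw [hd'] at hd
  have hsum : (-δ x).toNat + d = (-δ y).toNat :=
    GrothLib.CanonMod.height_add_dim_quotient _ P.2.ne_top hg hd hy
  have hMne : P ≠ IsLocalRing.closedPoint _ := fun e => hne (by
    rw [← hP, e]; exact Scheme.fromSpecStalk_closedPoint)
  have hd1 : 1 ≤ d := by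
    have h1 := Order.coheight_add_one_le (lt_of_le_of_ne (show P ≤ IsLocalRing.closedPoint _ from
      IsLocalRing.le_maximalIdeal P.2.ne_top) hMne)
    rw [hd'] at h1
    exact_mod_cast le_trans le_add_self h1
  refine ⟨by omega, fun himm => ?_⟩
  have : d ≤ 1 := by
    have h1 : Order.coheight P ≤ ((1 : ℕ) : ℕ∞) := Order.coheight_le_coe_iff.2 fun Q hQ => by
      have hQy : S.fromSpecStalk y Q = y := by
        rcases himm (S.fromSpecStalk y Q) (hP ▸ GrothLib.CycBasic.le_iff_specializes.1 hQ.le)
          (GrothLib.CycBasic.specializes_fromSpecStalk Q) with e | e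
        · exact absurd ((S.fromSpecStalk y).isEmbedding.injective (hP.trans e.symm)) hQ.ne
        · exact e
      have hQM : Q = IsLocalRing.closedPoint (S.presheaf.stalk y) :=
        (S.fromSpecStalk y).isEmbedding.injective (hQy.trans (Scheme.fromSpecStalk_closedPoint (X := S) (x := y)).symm)
      rw [hQM, Order.coheight_eq_zero.2 fun (R : PrimeSpectrum (S.presheaf.stalk y)) _ => IsLocalRing.le_maximalIdeal R.2.ne_top]
      norm_num
    rw [hd'] at h1
    exact_mod_cast h1
  omega

end Groth.Agent.S17839

namespace Groth.Agent.S17839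

/-- Let S be a locally Noetherian scheme all of whose local rings are regular and universally catenary,
and δS : S → ℤ the function with δS(s) = −dim O_{S,s}. Let f : X ⟶ S be locally of finite type and δ
: X → ℤ the induced function, δ(x) = δS(f x) + trdeg_{κ(f x)} κ(x) — the S-dimension: for X
irreducible with generic point ξ, δ(ξ) is the transcendence degree of the function field of X over
κ(f ξ) minus dim O_{S, f ξ}. Then δ is a dimension function on X: it drops strictly along every
nontrivial specialization and by exactly one along immediate ones; equivalently, for irreducible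
closed subsets V ⊆ W of X with generic points v and w, codim(V, W) = δ(w) − δ(v). (The published
statement fixes S Noetherian, excellent, regular and separated and X separated of finite type over
S; its proof uses only the hypotheses listed.) -/
theorem result {X S : Scheme.{u}} (f : X ⟶ S)
    [LocallyOfFiniteType f] [IsLocallyNoetherian S]
    (hreg : ∀ s : S, IsRegularLocalRing (S.presheaf.stalk s))
    (huc : ∀ s : S, CAlg.IsUniversallyCatenary (S.presheaf.stalk s))
    (δS : S → ℤ) (hδS : ∀ s : S, ringKrullDim (S.presheaf.stalk s) = ((-δS s).toNat : WithBot ℕ∞) ∧ δS s ≤ 0)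
    (δ : X → ℤ) (hδ : Cyc.DeltaCompat f δ δS) :
    Cyc.IsDimFun X δ := by
  exact Groth.Agent.S9684.result f δS ⟨inferInstance, huc, Groth.Agent.S17839.isDimFun_reg hreg hδS⟩ δ hδ

end Groth.Agent.S17839
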