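import Groth.Statements.S17840
-- import your own Groth.Agent.* helpers here
import Groth.Agent.Lib.CycFlat.Fibre
import Groth.Agent.Lib.FibreDim5.StalkDim
import Groth.Agent.Lib.DimCut.StalkFibre
import Groth.Agent.Lib.CycBasic.DimFun
import Groth.Agent.Lib.AffDom.PointDim
import Groth.Agent.S9684


set_option autoImplicit false
universe u
open CategoryTheory AlgebraicGeometry
open Cyc

namespace GrothAux.S17840

open CategoryTheory AlgebraicGeometry GrothLib

theorem dim_stalk {X : Scheme.{u}} [IrreducibleSpace X] {δ : X → ℤ} (hδ : Cyc.IsDimFun X δ) (x : X) :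
    ringKrullDim (X.presheaf.stalk x) = ((δ (genericPoint X) - δ x).toNat : WithBot ℕ∞) := by
  have hgp : genericPoint X ⤳ x := genericPoint_specializes x
  have key : ∀ Q : PrimeSpectrum (X.presheaf.stalk x),
      Order.coheight Q = ((δ (X.fromSpecStalk x Q) - δ x).toNat : ℕ∞) := fun Q =>
    CycBasic.coheight_eq hδ x _ Q (by
      have := CycBasic.delta_le hδ (CycBasic.specializes_fromSpecStalk Q)
      omega)
  rw [ringKrullDim, Order.krullDim_eq_iSup_coheight_of_nonempty]
  refine le_antisymm (WithBot.coe_le_coe.2 (iSup_le fun Q => ?_)) ?_
  · rw [key]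
    have := CycBasic.delta_le hδ (genericPoint_specializes (X.fromSpecStalk x Q))
    exact Nat.cast_le.2 (by omega)
  · obtain ⟨P, hP⟩ := CycBasic.exists_fromSpecStalk_eq hgp
    refine WithBot.coe_le_coe.2 (le_iSup_of_le P ?_)
    rw [key, hP]

theorem dim_stalk_fiber {X Y : Scheme.{u}} (f : X ⟶ Y) (x : X) (h : CycFlat.MaxFib f x) :
    ringKrullDim ((f.fiber (f x)).presheaf.stalk (f.asFiber x)) = 0 := by
  have h' := (CycFlat.maxFib_fiberι_iff f (f x) (f.asFiber x)).1 ((f.fiberι_asFiber x).symm ▸ h)
  rw [ringKrullDim_stalk_eq_coheight, Order.coheight_eq_zero.2 (fun w hw => (h' w hw) ▸ le_rfl)]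
  rfl

end GrothAux.S17840

namespace Groth.Agent.S17840

/-- Let (Y, δY) be a locally Noetherian scheme with universally catenary local rings and a dimension
function, f : X ⟶ Y a flat morphism locally of finite type between irreducible schemes with generic
points ξ and η, and δX the induced function on X, δX(x) = δY(f x) + trdeg_{κ(f x)} κ(x). Put d =
δX(ξ) − δY(η). Then d ≥ 0, every irreducible component of every fibre of f has dimension d, and for
every point x of X the fibre of f over f(x) has dimension d. (The published statement is for schemes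
separated of finite type over a Noetherian excellent regular separated base S with δ the S-dimension
— transcendence degree of the residue field minus the dimension of the local ring of S at the image
point — and for the fibre over every point of Y; the fibre over a point outside f(X) is empty, so
the dimension statement is made here at points of the image; this row allows any dimension function
δY on a locally Noetherian Y with universally catenary local rings, with δX induced from it.) -/
theorem result {X Y : Scheme.{u}} (f : X ⟶ Y) [Flat f] [LocallyOfFiniteType f]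
    [IrreducibleSpace X] [IrreducibleSpace Y] (δX : X → ℤ) (δY : Y → ℤ) (hY : Cyc.IsSetup Y δY)
    (hδ : Cyc.DeltaCompat f δX δY) :
    0 ≤ δX (genericPoint X) - δY (genericPoint Y) ∧
      Cyc.HasRelDim f (δX (genericPoint X) - δY (genericPoint Y)).toNat ∧
      ∀ x : X, topologicalKrullDim ↥(f.fiber (f x)) =
        ((δX (genericPoint X) - δY (genericPoint Y)).toNat : WithBot ℕ∞) := by
  open GrothLib GrothAux.S17840 in
  classical
  haveI := hY.1
  haveI : IsLocallyNoetherian X := LocallyOfFiniteType.isLocallyNoetherian f
  have hX : Cyc.IsDimFun X δX := Groth.Agent.S9684.result f δY hY δX hδ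
  have key : ∀ x, CycFlat.MaxFib f x →
      δX x - δY (f x) = δX (genericPoint X) - δY (genericPoint Y) := by
    intro x hx
    have h1 := FibreDim5.dim_stalk_le_add f x
    rw [dim_stalk_fiber f x hx, add_zero] at h1
    have h2 := (h1.antisymm (DimCut.dim_stalk_le_of_flat f x))
    rw [dim_stalk hX, dim_stalk hY.2.2] at h2
    have h3 : (δX (genericPoint X) - δX x).toNat = (δY (genericPoint Y) - δY (f x)).toNat := by exact_mod_cast h2
    have h4 := CycBasic.delta_le hX (genericPoint_specializes x)
    have h5 := CycBasic.delta_le hY.2.2 (genericPoint_specializes (f x))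
    omega
  have hd : 0 ≤ δX (genericPoint X) - δY (genericPoint Y) := by
    obtain ⟨x₀, h0, -, -⟩ := CycFlat.exists_maxFib_specializes f (genericPoint X)
    obtain ⟨n, -, hn⟩ := hδ x₀
    have := key x₀ h0
    omega
  have hr : Cyc.HasRelDim f (δX (genericPoint X) - δY (genericPoint Y)).toNat := by
    rw [CycFlat.hasRelDim_iff]
    intro x hx
    obtain ⟨n, hn, hn'⟩ := hδ x
    have := key x hx
    refine hn.trans ?_
    exact_mod_cast (show n = (δX (genericPoint X) - δY (genericPoint Y)).toNat by omega)
  refine ⟨hd, hr, fun x => ?_⟩
  rw [AffDom.topologicalKrullDim_eq_iSup]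
  refine le_antisymm (iSup_le fun w => ?_) ?_
  · obtain ⟨T, hT, hwT⟩ := exists_mem_irreducibleComponents_subset_of_isIrreducible (closure {w})
      isIrreducible_singleton.closure
    rw [← hr (f x) T hT]
    exact (Topology.IsEmbedding.inclusion hwT).isInducing.topologicalKrullDim_le
  · obtain ⟨T, hT, hwT⟩ := exists_mem_irreducibleComponents_subset_of_isIrreducible (closure {f.asFiber x})
      isIrreducible_singleton.closure
    obtain ⟨z, hz⟩ := QuasiSober.sober hT.1 (isClosed_of_mem_irreducibleComponents T hT)
    refine le_iSup_of_le z ?_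
    rw [hz.def, hr (f x) T hT]

end Groth.Agent.S17840
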