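import Groth.Statements.S17843
import Mathlib

set_option autoImplicit false
universe u v
open CAlg

namespace Groth.Agent.S17843

section
variable (A : Type*) [CommRing A]

/-- T ↦ aT. -/
noncomputable def resc (a : A) : Polynomial A →ₐ[A] Polynomial A :=
  Polynomial.aeval (Polynomial.C a * Polynomial.X)

lemma resc_coeff (a : A) (P : Polynomial A) (j : ℕ) : (resc A a P).coeff j = a ^ j * P.coeff j := by
  induction P using Polynomial.induction_on' with
  | add p q hp hq => simp [map_add, hp, hq, mul_add]
  | monomial n c =>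
    rw [resc, Polynomial.aeval_monomial, mul_pow, ← Polynomial.C_pow, Polynomial.algebraMap_eq, ← mul_assoc,
      ← Polynomial.C_mul, Polynomial.coeff_C_mul_X_pow, Polynomial.coeff_monomial]
    by_cases h : n = j
    · subst h; simp [mul_comm]
    · simp [h, Ne.symm h]

lemma resc_eval_zero (a : A) (P : Polynomial A) : (resc A a P).eval 0 = P.eval 0 := by
  rw [← Polynomial.coeff_zero_eq_eval_zero, ← Polynomial.coeff_zero_eq_eval_zero, resc_coeff, pow_zero,
    one_mul]

lemma resc_resc (a b : A) (P : Polynomial A) : resc A a (resc A b P) = resc A (b * a) P := by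
  ext j
  rw [resc_coeff, resc_coeff, resc_coeff, mul_pow]; ring

lemma resc_map {B : Type*} [CommRing B] (φ : A →+* B) (a : A) (P : Polynomial A) :
    Polynomial.map φ (resc A a P) = resc B (φ a) (Polynomial.map φ P) := by
  ext j
  simp [resc_coeff]

end

lemma lifts (R L : Type*) [CommRing R] [CommRing L] [Algebra R L] (r : R) [IsLocalization.Away r L]
    {ι : Type*} [Fintype ι] (c : ι → Polynomial L) (c₀ : ι → R)
    (h0 : ∀ i, (c i).coeff 0 = algebraMap R L (c₀ i)) :
    ∃ (N : ℕ) (P : ι → Polynomial R), (∀ i, (P i).eval 0 = c₀ i) ∧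
      ∀ i, Polynomial.map (algebraMap R L) (P i) = resc L (algebraMap R L (r ^ N)) (c i) := by
  classical
  have : ∀ i j, ∃ (e : ℕ) (a : R), algebraMap R L a = algebraMap R L (r ^ e) * (c i).coeff j := fun i j => by
    obtain ⟨⟨a, _, e, rfl⟩, h⟩ := IsLocalization.surj (Submonoid.powers r) ((c i).coeff j)
    exact ⟨e, a, by rw [mul_comm]; exact h.symm⟩
  choose e a ha using this
  let N := Finset.univ.sup fun i => (c i).support.sup (e i)
  refine ⟨N, fun i => Polynomial.C (c₀ i) +
    ∑ j ∈ (c i).support.erase 0, Polynomial.C (r ^ (N * j - e i j) * a i j) * Polynomial.X ^ j,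
    fun i => ?_, fun i => ?_⟩
  · simp only [Polynomial.eval_add, Polynomial.eval_C, Polynomial.eval_finsetSum]
    rw [Finset.sum_eq_zero fun j hj => ?_, add_zero]
    simp [(Finset.mem_erase.1 hj).1]
  · ext j
    simp only [Polynomial.coeff_map, Polynomial.coeff_add, Polynomial.finsetSum_coeff,
      Polynomial.coeff_C_mul_X_pow, Finset.sum_ite_eq, resc_coeff]
    rcases Nat.eq_zero_or_pos j with rfl | hj
    · simp [h0]
    · rw [Polynomial.coeff_C, if_neg hj.ne', zero_add]
      by_cases hjs : j ∈ (c i).support
      · have hle : e i j ≤ N * j :=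
          ((Finset.le_sup (f := e i) hjs).trans
            (Finset.le_sup (f := fun i => (c i).support.sup (e i)) (Finset.mem_univ i))).trans
            (Nat.le_mul_of_pos_right N hj)
        rw [if_pos (Finset.mem_erase.2 ⟨hj.ne', hjs⟩), map_mul, ha, ← mul_assoc, ← map_mul, ← pow_add,
          Nat.sub_add_cancel hle, ← map_pow, ← pow_mul]
      · rw [if_neg fun h => hjs (Finset.mem_erase.1 h).2, Polynomial.notMem_support_iff.1 hjs, map_zero,
          mul_zero]


/-- In the case of an affine scheme of finite presentation, let B be a finitely presented R-algebra, r ∈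
R, and x : B → R[1/r][T] an R-algebra homomorphism whose value at T = 0, a homomorphism B → R[1/r],
is induced by a homomorphism x̃₀ : B → R. Then for every large enough n, the homomorphism x(rⁿT) : B
→ R[1/r][T] is induced by a homomorphism x̃ : B → R[T] whose value at T = 0 is x̃₀. The published
statement is for algebraic spaces locally of finite presentation over R; this row takes an affine
scheme of finite presentation. -/
theorem result
    (R : Type u) (B : Type v) [CommRing R] [CommRing B] [Algebra R B]
    [Algebra.FinitePresentation R B] (r : R)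
    (x : B →ₐ[R] Polynomial (Localization.Away r))
    (x₀ : B →ₐ[R] R)
    (hx₀ : (algebraMap R (Localization.Away r)).comp x₀.toRingHom =
      (Polynomial.evalRingHom 0).comp x.toRingHom) :
    ∃ N : ℕ, ∀ n : ℕ, N ≤ n →
      ∃ y : B →ₐ[R] Polynomial R,
        (Polynomial.evalRingHom 0).comp y.toRingHom = x₀.toRingHom ∧
        (Polynomial.mapRingHom (algebraMap R (Localization.Away r))).comp y.toRingHom =
          (Polynomial.aeval (Polynomial.C (algebraMap R (Localization.Away r) (r ^ n)) * Polynomial.X) :
              Polynomial (Localization.Away r) →ₐ[Localization.Away r] Polynomial (Localization.Away r)).toRingHom.comp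
            x.toRingHom := by
  classical
  obtain ⟨m', π, hπ, hker⟩ := (inferInstance : Algebra.FinitePresentation R B).out
  let ι := Fin m'
  obtain ⟨G, hG⟩ := hker
  let L := Localization.Away r
  let mp : Polynomial R →ₐ[R] Polynomial L := Polynomial.mapAlgHom (Algebra.ofId R L)
  have hx0 : ∀ b, (x b).coeff 0 = algebraMap R L (x₀ b) := fun b => by
    have := DFunLike.congr_fun hx₀ b
    simpa [Polynomial.coeff_zero_eq_eval_zero] using this.symm
  obtain ⟨N₁, P, hP0, hPm⟩ := lifts R L r (fun i => x (π (MvPolynomial.X i)))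
    (fun i => x₀ (π (MvPolynomial.X i))) (fun i => hx0 _)
  let ψ : ℕ → MvPolynomial ι R →ₐ[R] Polynomial R := fun n =>
    MvPolynomial.aeval fun i => resc R (r ^ n) (P i)
  have hψ0 : ∀ n f, (ψ n f).eval 0 = x₀ (π f) := fun n f => by
    have : (Polynomial.aeval (0 : R)).comp (ψ n) = x₀.comp π := MvPolynomial.algHom_ext fun i => by
      simp [ψ, resc_eval_zero, hP0]
    simpa [Polynomial.coe_aeval_eq_eval] using DFunLike.congr_fun this f
  have hψm : ∀ n f, mp (ψ n f) = resc L (algebraMap R L (r ^ (N₁ + n))) (x (π f)) := fun n f => by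
    have : mp.comp (ψ n) = (((resc L (algebraMap R L (r ^ (N₁ + n)))).restrictScalars R).comp x).comp π :=
      MvPolynomial.algHom_ext fun i => by
        simp only [AlgHom.comp_apply, ψ, MvPolynomial.aeval_X, AlgHom.restrictScalars_apply]
        show Polynomial.map (algebraMap R L) _ = _
        rw [resc_map, show Polynomial.map (algebraMap R L) (P i) = _ from hPm i, resc_resc, ← map_mul,
          pow_add]
    exact DFunLike.congr_fun this f
  have hkill : ∀ g ∈ G, ∃ e, ∀ n, e ≤ n → ψ n g = 0 := by
    intro g hg
    have hg0 : π g = 0 := by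
      have : g ∈ RingHom.ker π.toRingHom := hG ▸ Ideal.subset_span hg
      exact this
    have hm : mp (ψ 0 g) = 0 := by rw [hψm, hg0, map_zero, map_zero]
    have hc : ∀ j, ∃ e : ℕ, r ^ e * (ψ 0 g).coeff j = 0 := fun j => by
      have : algebraMap R L ((ψ 0 g).coeff j) = 0 := by
        have := congrArg (Polynomial.coeff · j) hm
        simpa [mp] using this
      obtain ⟨⟨_, e, rfl⟩, he⟩ := (IsLocalization.map_eq_zero_iff (Submonoid.powers r) L _).1 this
      exact ⟨e, he⟩
    choose e he using hc
    refine ⟨(ψ 0 g).support.sup e, fun n hn => ?_⟩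
    have hresc : ψ n g = resc R (r ^ n) (ψ 0 g) := by
      have : ψ n = (resc R (r ^ n)).comp (ψ 0) := MvPolynomial.algHom_ext fun i => by
        simp [ψ, resc_resc]
      exact DFunLike.congr_fun this g
    rw [hresc]
    ext j
    rw [resc_coeff, Polynomial.coeff_zero, ← pow_mul]
    rcases Nat.eq_zero_or_pos j with rfl | hj
    · rw [mul_zero, pow_zero, one_mul, Polynomial.coeff_zero_eq_eval_zero, hψ0, hg0, map_zero]
    · by_cases hjs : j ∈ (ψ 0 g).support
      · have h1 : e j ≤ n * j := ((Finset.le_sup hjs).trans hn).trans (Nat.le_mul_of_pos_right n hj)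
        rw [← Nat.sub_add_cancel h1, pow_add, mul_assoc, he, mul_zero]
      · rw [Polynomial.notMem_support_iff.1 hjs, mul_zero]
  choose e he using hkill
  refine ⟨N₁ + G.attach.sup (fun g => e g.1 g.2), fun m hm => ?_⟩
  obtain ⟨n, rfl⟩ := Nat.exists_eq_add_of_le ((Nat.le_add_right _ _).trans hm)
  have hker' : RingHom.ker π.toRingHom ≤ RingHom.ker (ψ n).toRingHom := by
    rw [← hG, Ideal.span_le]
    intro g hg
    exact he g hg n ((Finset.le_sup (f := fun g : {g // g ∈ G} => e g.1 g.2)
      (Finset.mem_attach G ⟨g, hg⟩)).trans (by omega))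
  let y : B →ₐ[R] Polynomial R := AlgHom.liftOfSurjective π hπ (ψ n) hker'
  have hy : ∀ f, y (π f) = ψ n f := fun f => AlgHom.liftOfSurjective_apply π hπ (ψ n) hker' f
  refine ⟨y, ?_, ?_⟩
  · ext b
    obtain ⟨f, rfl⟩ := hπ b
    simpa [hy] using hψ0 n f
  · ext1 b
    obtain ⟨f, rfl⟩ := hπ b
    simp only [RingHom.comp_apply, AlgHom.toRingHom_eq_coe, RingHom.coe_coe, hy]
    exact hψm n f

end Groth.Agent.S17843
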