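import Groth.Statements.S17849
import Groth.Agent.Lib.Coflasque20.Basic

set_option autoImplicit false
set_option linter.style.haveILetI false
open CategoryTheory
open GalLat

namespace Groth.Agent.S17849

/-- For a finite group Γ and a Γ-lattice Λ (finitely generated free ℤ-module with Γ-action) the
following are equivalent: (i) H¹(Γ', Λ) = 0 for every subgroup Γ' ≤ Γ; (ii) Ext¹ over ℤ[Γ] of P into
Λ vanishes for every permutation lattice P = ℤ[X], X a finite Γ-set. Condition (ii) is stated
through Yoneda extensions: every short exact sequence 0 → Λ' → E → P → 0 of ℤ-linear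
Γ-representations with Λ' ≅ Λ and P ≅ ℤ[X] splits. (These are the lattices called coflasque.) The
group, the lattice and the Γ-sets are taken in the lowest universe. -/
theorem result
    (Γ : Type) [Group Γ] [Finite Γ] (Λ : Rep ℤ Γ) [Module.Free ℤ Λ.V] [Module.Finite ℤ Λ.V] :
    (∀ Γ' : Subgroup Γ, Limits.IsZero (groupCohomology (Rep.res Γ'.subtype Λ) 1)) ↔
      ∀ (X : Type) [MulAction Γ X] [Finite X] (E : ShortComplex (Rep ℤ Γ)),
        E.ShortExact → Nonempty (E.X₁ ≅ Λ) → Nonempty (E.X₃ ≅ Rep.ofMulAction ℤ Γ X) →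
          Nonempty E.Splitting := by
  constructor
  · intro hΛ X _ _ E hE e₁ e₃
    obtain ⟨a⟩ := e₁
    obtain ⟨b⟩ := e₃
    haveI := hE.mono_f
    haveI := hE.epi_g
    obtain ⟨σ, hσ⟩ := GrothLib.Coflasque20.exists_section hΛ (a.inv ≫ E.f) (E.g ≫ b.hom)
      ((Rep.mono_iff_injective _).1 inferInstance) ((Rep.epi_iff_surjective _).1 inferInstance)
      (fun l => by
        have h0 := congrArg (fun φ : Λ ⟶ _ => φ.hom l)
          (show (a.inv ≫ E.f) ≫ (E.g ≫ b.hom) = 0 by simp)
        exact h0)
      (fun m hm => by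
        obtain ⟨l, hl⟩ := GrothLib.Coflasque20.exists_preimage_of_exact hE.exact (m := m) ((Rep.mono_iff_injective b.hom).1 inferInstance (hm.trans (map_zero _).symm))
        exact ⟨a.hom.hom l, (congrArg E.f.hom (Rep.inv_hom_apply _ _ a l)).trans hl⟩)
    exact ⟨ShortComplex.Splitting.ofExactOfSection E hE.exact (b.hom ≫ σ)
      (by rw [← cancel_mono b.hom, CategoryTheory.Category.id_comp, CategoryTheory.Category.assoc,
        CategoryTheory.Category.assoc, hσ, CategoryTheory.Category.comp_id]) hE.mono_f⟩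
  · intro h Γ'
    rw [GrothLib.Coflasque20.isZero_H1_iff]
    intro c hc
    obtain ⟨s⟩ := h (Γ ⧸ Γ') _ (GrothLib.Coflasque20.shortExact_extSeq (c := c) hc) ⟨Iso.refl _⟩ ⟨Iso.refl _⟩
    exact GrothLib.Coflasque20.isCoboundary_of_splitting hc s

end Groth.Agent.S17849
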