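import Groth.Statements.S17854
import Groth.Agent.Lib.LocProp.EtaleCoord
-- import your own Groth.Agent.* helpers here

set_option autoImplicit false
open TensorProduct
universe u
open EtAlg

namespace Groth.Agent.S17854

/-- In the case of a base with finite residue field, let k be a local ring whose residue field is
finite, R a finitely presented k-algebra and m a maximal ideal of R over the maximal ideal of k such
that R is smooth over k at m of relative dimension d > 0 (the module of Kähler differentials of R
over k has rank d at m). Then there are g ∉ m and an étale k-algebra homomorphism φ : k[x₁, …, x_d]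
→ R[1/g] which induces an isomorphism of residue fields at m, i.e. k[x₁, …, x_d] → R[1/g]/m R[1/g]
is surjective. The published statement is for any local ring k; this row takes the residue field of
k finite. -/
theorem result
    (k : Type u) [CommRing k] [IsLocalRing k] [Finite (IsLocalRing.ResidueField k)]
    (R : Type u) [CommRing R] [Algebra k R] [Algebra.FinitePresentation k R]
    (m : Ideal R) [m.IsMaximal] (hm : m.comap (algebraMap k R) = IsLocalRing.maximalIdeal k)
    [Algebra.IsSmoothAt k m] (d : ℕ) (hd : 0 < d)
    (hdim : Module.finrank (R ⧸ m) ((R ⧸ m) ⊗[R] KaehlerDifferential k R) = d) :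
    ∃ g : R, g ∉ m ∧ ∃ φ : MvPolynomial (Fin d) k →ₐ[k] Localization.Away g,
      φ.toRingHom.Etale ∧
      Function.Surjective
        ((Ideal.Quotient.mk (m.map (algebraMap R (Localization.Away g)))).comp φ.toRingHom) := by
  exact GrothLib.LocProp.exists_etale_chart_of_finite_residueField k R m hm d hd hdim

end Groth.Agent.S17854
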