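import Groth.Statements.S17855
import Groth.Agent.Lib.QuillenG21.Key
import Mathlib.RingTheory.PolynomialAlgebra
import Mathlib.RingTheory.Localization.Algebra
import Mathlib.RingTheory.Localization.Away.Basic

set_option autoImplicit false
open CategoryTheory CategoryTheory.Limits MonoidalCategory CartesianMonoidalCategory MonObj GrpObj AlgebraicGeometry
universe u
open NonAbH1

namespace Groth.Agent.S17855

open GrothLib.QuillenG21
open scoped MonObj

theorem isLocalization_away_of_mul {R : Type u} [CommRing R] (r r' : R) (A B : Type u) [CommRing A]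
    [CommRing B] [Algebra R A] [Algebra R B] [Algebra A B] [IsScalarTower R A B]
    [IsLocalization.Away r A] [IsLocalization.Away (r * r') B] :
    IsLocalization.Away (algebraMap R A r') B := by
  let T := Localization.Away (algebraMap R A r')
  have : IsLocalization.Away (r * r') T := IsLocalization.Away.mul' A T r r'
  let e : T ≃ₐ[R] B := IsLocalization.algEquiv (Submonoid.powers (r * r')) T B
  have h : (e.toAlgHom.comp (IsScalarTower.toAlgHom R A T)) = IsScalarTower.toAlgHom R A B :=
    AlgHom.coe_ringHom_injective (IsLocalization.ringHom_ext (Submonoid.powers r) (RingHom.ext fun x => by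
      simp [← IsScalarTower.algebraMap_apply]))
  let e' : T ≃ₐ[A] B := AlgEquiv.ofRingEquiv (f := e.toRingEquiv) fun x => AlgHom.congr_fun h x
  exact IsLocalization.isLocalization_of_algEquiv _ e'

open Polynomial in
theorem split_points {R : Type u} [CommRing R] {G : Over (Spec (CommRingCat.of R))} [GrpObj G]
    [LocallyOfFinitePresentation G.hom] (r r' : R) (hrr : Ideal.span ({r, r'} : Set R) = ⊤)
    (A A' B : Type u) [CommRing A] [CommRing A'] [CommRing B] [Algebra R A] [Algebra R A'] [Algebra R B]
    [IsLocalization.Away r A] [IsLocalization.Away r' A'] [IsLocalization.Away (r * r') B]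
    [Algebra A B] [Algebra A' B] [IsScalarTower R A B] [IsScalarTower R A' B]
    (g : sp B[X] ⟶ G) (hg : pull (ev0 B) g = 1) :
    ∃ (g₁ : sp A[X] ⟶ G) (g₂ : sp A'[X] ⟶ G), pull (ev0 A) g₁ = 1 ∧ pull (ev0 A') g₂ = 1 ∧
      g = pull (scaleB A B 1) g₁ * pull (scaleB A' B 1) g₂ := by
  have hB := isLocalization_away_of_mul r r' A B
  have hB' : IsLocalization.Away (algebraMap R A' r) B := by
    have : IsLocalization.Away (r' * r) B := mul_comm r r' ▸ ‹IsLocalization.Away (r * r') B›
    exact isLocalization_away_of_mul r' r A' B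
  letI : Algebra A[X] B[X] := Polynomial.algebra A B
  have htow : IsScalarTower R A[X] B[X] := IsScalarTower.of_algebraMap_eq fun c => by
    rw [Polynomial.algebraMap_def, coe_mapRingHom, Polynomial.algebraMap_apply,
      Polynomial.algebraMap_apply, map_C, ← IsScalarTower.algebraMap_apply]
  have hloc : IsLocalization.Away (C (algebraMap R A r') : A[X]) B[X] := by
    have := Polynomial.isLocalization (Submonoid.powers (algebraMap R A r')) B
    rwa [Submonoid.map_powers] at this
  let ι₁ : B[X] →ₐ[R] B[X][X] := (aeval (C X : B[X][X])).restrictScalars R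
  let ι₂ : B[X] →ₐ[R] B[X][X] := (aeval ((1 - X) * C X : B[X][X])).restrictScalars R
  have hι₁ : (ev0 (R := R) B[X]).comp ι₁ = AlgHom.id R B[X] := by
    refine AlgHom.coe_ringHom_injective (Polynomial.ringHom_ext (fun b => ?_) ?_)
    · simp [ι₁, algebraMap_eq]
    · simp [ι₁]
  have hι₂ : (ev0 (R := R) B[X]).comp ι₂ = AlgHom.id R B[X] := by
    refine AlgHom.coe_ringHom_injective (Polynomial.ringHom_ext (fun b => ?_) ?_)
    · simp [ι₂, algebraMap_eq]
    · simp [ι₂]
  let h : sp B[X][X] ⟶ G := pull ι₁ g * (pull ι₂ g)⁻¹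
  have hh : pull (ev0 B[X]) h = 1 := by
    rw [pull_mul, pull_inv, pull_pull, pull_pull, hι₁, hι₂, pull_id, mul_inv_cancel]
  obtain ⟨N', h₁, -, hh₁⟩ := exists_scale_lift (R := R) (A := A[X]) (B := B[X])
    (C (algebraMap R A r')) h hh
  obtain ⟨N, g₂', hg₂0, hg₂⟩ := exists_scale_lift (R := R) (A := A') (B := B) (algebraMap R A' r) g hg
  obtain ⟨u, u', huu⟩ : ∃ u u' : R, u * r ^ N + u' * r' ^ N' = 1 := by
    obtain ⟨a, b, hab⟩ := Ideal.mem_span_pair.mp (hrr ▸ Submodule.mem_top : (1 : R) ∈ Ideal.span {r, r'})
    exact (IsCoprime.pow (R := R) (m := N) (n := N') ⟨a, b, hab⟩)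
  let a : B := algebraMap R B (u * r ^ N)
  -- the second factor
  let g₂ : sp A'[X] ⟶ G := pull (scaleA A' (algebraMap R A' u)) g₂'
  have hg₂e : pull (ev0 A') g₂ = 1 := by
    rw [pull_pull, show (ev0 (R := R) A').comp (scaleA A' (algebraMap R A' u)) = ev0 A' from
      AlgHom.ext fun q => by
        show aeval (0 : A') (scaleA (R := R) A' _ q) = aeval (0 : A') q
        rw [← coeff_zero_eq_aeval_zero, ← coeff_zero_eq_aeval_zero, coeff_scaleA, pow_zero,
          _root_.mul_one], hg₂0]
  have hg₂i : pull (scaleB A' B 1) g₂ = pull (scaleA B a) g := by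
    rw [pull_pull, show (scaleB (R := R) A' B 1).comp (scaleA A' (algebraMap R A' u)) =
      (scaleA B (algebraMap R B u)).comp (scaleB A' B 1) from
      AlgHom.ext fun q => Polynomial.ext fun i => by
        simp only [AlgHom.comp_apply, coeff_scaleB, coeff_scaleA, map_mul, map_pow, one_pow,
          _root_.mul_one, ← IsScalarTower.algebraMap_apply],
      ← pull_pull, hg₂, pull_pull]
    refine congrArg (fun e => pull e g) (AlgHom.ext fun q => Polynomial.ext fun i => ?_)
    simp only [AlgHom.comp_apply, coeff_scaleA, a, map_mul, map_pow, ← IsScalarTower.algebraMap_apply]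
    ring
  -- the first factor
  let e₁ : A[X][X] →ₐ[R] A[X] := (aeval (algebraMap R A[X] u')).restrictScalars R
  let e₁B : B[X][X] →ₐ[R] B[X] := (aeval (algebraMap R B[X] u')).restrictScalars R
  let g₁' : sp A[X] ⟶ G := pull e₁ h₁
  have hg₁i : pull (scaleB A B 1) g₁' = g * (pull (scaleA B a) g)⁻¹ := by
    rw [pull_pull, show (scaleB (R := R) A B 1).comp e₁ = e₁B.comp (scaleB A[X] B[X] 1) from
      AlgHom.coe_ringHom_injective (Polynomial.ringHom_ext
        (fun p => by
          show scaleB (R := R) A B 1 (aeval (algebraMap R A[X] u') (C p)) =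
            aeval (algebraMap R B[X] u') (aeval (C (1 : B[X]) * X) (C p))
          rw [aeval_C, aeval_C, IsScalarTower.algebraMap_apply A[X] B[X] B[X][X], algebraMap_eq, aeval_C,
            Algebra.algebraMap_self_apply, Algebra.algebraMap_self_apply, Polynomial.algebraMap_def,
            coe_mapRingHom]
          refine Polynomial.ext fun i => ?_
          rw [coeff_scaleB, coeff_map, one_pow, _root_.mul_one])
        (by simp [e₁, e₁B, scaleB, ← IsScalarTower.algebraMap_apply])),
      ← pull_pull, hh₁, pull_pull, pull_mul, pull_inv, pull_pull, pull_pull]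
    have hc : algebraMap A[X] B[X] (C (algebraMap R A r') ^ N') = C (algebraMap R B (r' ^ N')) := by
      rw [Polynomial.algebraMap_def, coe_mapRingHom, ← map_pow, map_C, ← map_pow,
        ← IsScalarTower.algebraMap_apply]
    congr 1
    · conv_rhs => rw [← pull_id g]
      refine congrArg (fun e => pull e g)
        (AlgHom.coe_ringHom_injective (Polynomial.ringHom_ext (fun b => ?_) ?_))
      · simp [e₁B, ι₁, scaleA, algebraMap_eq]
      · simp [e₁B, ι₁, scaleA]
    · congr 1
      refine congrArg (fun e => pull e g)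
        (AlgHom.coe_ringHom_injective (Polynomial.ringHom_ext (fun b => ?_) ?_))
      · simp [e₁B, ι₂, scaleA, algebraMap_eq]
      · have ha : a = 1 - algebraMap R B r' ^ N' * algebraMap R B u' := by
          rw [eq_sub_iff_add_eq, ← map_pow, ← map_mul, ← map_add, _root_.mul_comm (r' ^ N'), huu,
            map_one]
        simp [e₁B, ι₂, scaleA, ha, hc, Polynomial.algebraMap_apply, ← IsScalarTower.algebraMap_apply]
  let c : A →ₐ[R] A[X] := IsScalarTower.toAlgHom R A A[X]
  refine ⟨g₁' * (pull c (pull (ev0 A) g₁'))⁻¹, g₂, ?_, hg₂e, ?_⟩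
  · rw [pull_mul, pull_inv, pull_pull c, show (ev0 (R := R) A).comp c = AlgHom.id R A from
      AlgHom.ext fun x => aeval_C (0 : A) x, pull_id, mul_inv_cancel]
  · have hconst : pull (scaleB A B 1) (pull c (pull (ev0 A) g₁')) = 1 := by
      rw [pull_pull, pull_pull, show ((scaleB (R := R) A B 1).comp c).comp (ev0 A) =
        ((IsScalarTower.toAlgHom R B B[X]).comp (ev0 B)).comp (scaleB A B 1) from
        AlgHom.ext fun q => by
          show scaleB (R := R) A B 1 (C (aeval (0 : A) q)) = C (aeval (0 : B) (scaleB (R := R) A B 1 q))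
          rw [← coeff_zero_eq_aeval_zero, ← coeff_zero_eq_aeval_zero, coeff_scaleB]
          simp [scaleB, algebraMap_eq, IsScalarTower.algebraMap_apply A B B[X]],
        ← pull_pull, hg₁i, pull_mul, pull_inv, pull_pull, ← pull_pull (ev0 B), hg,
        show ((IsScalarTower.toAlgHom R B B[X]).comp (ev0 B)).comp (scaleA B a) =
          (IsScalarTower.toAlgHom R B B[X]).comp (ev0 B) from AlgHom.ext fun q => by
          show C (aeval (0 : B) (scaleA (R := R) B a q)) = C (aeval (0 : B) q)
          rw [← coeff_zero_eq_aeval_zero, ← coeff_zero_eq_aeval_zero, coeff_scaleA, pow_zero,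
            _root_.mul_one],
        ← pull_pull (ev0 B), hg, pull_one, inv_one, _root_.mul_one]
    rw [pull_mul, pull_inv, hconst, inv_one, _root_.mul_one, hg₁i, hg₂i, _root_.mul_assoc,
      inv_mul_cancel, _root_.mul_one]

/-- For a group scheme locally of finite presentation, let R be a ring, G an R-group scheme locally of
finite presentation over S = Spec R, and r, r' ∈ R generating the unit ideal; let A = R[1/r], A' =
R[1/r'], B = R[1/rr']. For an R-algebra C write G₀(C) for the set of S-morphisms Spec C[T] → G whose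
restriction along T ↦ 0 (the S-morphism Spec C → Spec C[T]) is the unit. Then G₀(B) = G₀(A)·G₀(A'):
every g ∈ G₀(B) is the product, in the group of Spec B[T]-points of G, of the pullback of some g₁ ∈
G₀(A) and the pullback of some g₂ ∈ G₀(A') along Spec B[T] → Spec A[T], Spec A'[T]. The S-morphisms
induced by T ↦ 0 and by the localisation maps are taken as data determined by their underlying
scheme maps. The published statement also allows more general group functors and graded algebras. -/
theorem result
    (R : Type u) [CommRing R]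
    (G : Over (Spec (CommRingCat.of R))) [GrpObj G] [LocallyOfFinitePresentation G.hom]
    (r r' : R) (hrr : Ideal.span ({r, r'} : Set R) = ⊤)
    (A A' B : Type u) [CommRing A] [CommRing A'] [CommRing B] [Algebra R A] [Algebra R A'] [Algebra R B]
    [IsLocalization.Away r A] [IsLocalization.Away r' A'] [IsLocalization.Away (r * r') B]
    [Algebra A B] [Algebra A' B] [IsScalarTower R A B] [IsScalarTower R A' B]
    (eA : Over.mk (Spec.map (CommRingCat.ofHom (algebraMap R (A)))) ⟶ Over.mk (Spec.map (CommRingCat.ofHom (algebraMap R (Polynomial A)))))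
    (heA : eA.left = Spec.map (CommRingCat.ofHom (Polynomial.evalRingHom (0 : A))))
    (eA' : Over.mk (Spec.map (CommRingCat.ofHom (algebraMap R (A')))) ⟶ Over.mk (Spec.map (CommRingCat.ofHom (algebraMap R (Polynomial A')))))
    (heA' : eA'.left = Spec.map (CommRingCat.ofHom (Polynomial.evalRingHom (0 : A'))))
    (eB : Over.mk (Spec.map (CommRingCat.ofHom (algebraMap R (B)))) ⟶ Over.mk (Spec.map (CommRingCat.ofHom (algebraMap R (Polynomial B)))))
    (heB : eB.left = Spec.map (CommRingCat.ofHom (Polynomial.evalRingHom (0 : B))))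
    (tA : Over.mk (Spec.map (CommRingCat.ofHom (algebraMap R (Polynomial B)))) ⟶ Over.mk (Spec.map (CommRingCat.ofHom (algebraMap R (Polynomial A)))))
    (htA : tA.left = Spec.map (CommRingCat.ofHom (Polynomial.mapRingHom (algebraMap A B))))
    (tA' : Over.mk (Spec.map (CommRingCat.ofHom (algebraMap R (Polynomial B)))) ⟶ Over.mk (Spec.map (CommRingCat.ofHom (algebraMap R (Polynomial A')))))
    (htA' : tA'.left = Spec.map (CommRingCat.ofHom (Polynomial.mapRingHom (algebraMap A' B))))
    (g : Over.mk (Spec.map (CommRingCat.ofHom (algebraMap R (Polynomial B)))) ⟶ G) (hg : eB ≫ g = 1) :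
    ∃ (g₁ : Over.mk (Spec.map (CommRingCat.ofHom (algebraMap R (Polynomial A)))) ⟶ G) (g₂ : Over.mk (Spec.map (CommRingCat.ofHom (algebraMap R (Polynomial A')))) ⟶ G),
      eA ≫ g₁ = 1 ∧ eA' ≫ g₂ = 1 ∧ g = (tA ≫ g₁) * (tA' ≫ g₂) := by
  have hA : ∀ (A : Type u) [CommRing A] [Algebra R A]
      (eA : sp A ⟶ sp (R := R) (Polynomial A))
      (_ : eA.left = Spec.map (CommRingCat.ofHom (Polynomial.evalRingHom (0 : A)))),
      eA = spMap (ev0 A) := by
    intro A _ _ eA h
    refine eq_spMap _ _ (h.trans ?_)
    rfl
  have hT : ∀ (A : Type u) [CommRing A] [Algebra R A] [Algebra A B] [IsScalarTower R A B]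
      (tA : sp (R := R) (Polynomial B) ⟶ sp (Polynomial A))
      (_ : tA.left = Spec.map (CommRingCat.ofHom (Polynomial.mapRingHom (algebraMap A B)))),
      tA = spMap (scaleB A B 1) := by
    intro A _ _ _ _ tA h
    refine eq_spMap _ _ (h.trans ?_)
    congr 2
    refine RingHom.ext fun q => Polynomial.ext fun i => ?_
    show (q.map (algebraMap A B)).coeff i = (scaleB (R := R) A B 1 q).coeff i
    rw [coeff_scaleB, Polynomial.coeff_map, one_pow, _root_.mul_one]
  have hg' : pull (ev0 B) g = 1 := by
    rw [pull, ← hA B eB heB, hg]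
  obtain ⟨g₁, g₂, h1, h2, h3⟩ := split_points r r' hrr A A' B g hg'
  refine ⟨g₁, g₂, ?_, ?_, ?_⟩
  · rw [hA A eA heA]; exact h1
  · rw [hA A' eA' heA']; exact h2
  · rw [hT A tA htA, hT A' tA' htA']; exact h3

end Groth.Agent.S17855
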