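import Groth.Statements.S17856
import Groth.Agent.Lib.ProdPoints.Basic

set_option autoImplicit false
open CategoryTheory AlgebraicGeometry
universe u
open Algz

namespace Groth.Agent.S17856

/-- Let `X` be a quasi-compact quasi-separated scheme and `A i` an arbitrary family of commutative
rings. Sending a morphism from the spectrum of the product ring to `X` to the family of its
composites with the morphisms `Spec (A i) ⟶ Spec (∏ A i)` induced by the projections is a bijection
onto the set of all families of morphisms `Spec (A i) ⟶ X`. (Both quasi-compactness and
quasi-separatedness of `X` are needed.) -/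
theorem result (X : Scheme.{u}) [CompactSpace X] [QuasiSeparatedSpace X]
    {ι : Type u} (A : ι → CommRingCat.{u}) :
    Function.Bijective (fun f : Spec (CommRingCat.of (∀ i, A i)) ⟶ X =>
      fun i : ι => Spec.map (CommRingCat.ofHom (Pi.evalRingHom (fun j => (A j : Type u)) i)) ≫ f) := by
  exact GrothLib.ProdPoints.bijective A

end Groth.Agent.S17856
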