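import Groth.Statements.S17859
import Mathlib

set_option autoImplicit false
open CategoryTheory MonoidalCategory
universe u
open Algz

namespace Groth.Agent.S17859

/-- Over an affine scheme, that is for modules over a commutative ring `R`, a finitely generated
projective `R`-module `M`, viewed as an object of the monoidal category of `R`-modules (tensor
product over `R`), has a right dual. (The published statement is the equivalence, for quasi-coherent
sheaves on a quasi-compact quasi-separated scheme, between being dualizable and being a vector
bundle; stated here is the affine case of the implication from vector bundle to dualizable. The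
converse implication, that a module admitting a dual is finitely generated projective, is stated
separately and is not repeated here.) -/
theorem result (R : Type u) [CommRing R] (M : ModuleCat.{u} R)
    [Module.Finite R M] [Module.Projective R M] : Nonempty (HasRightDual M) := by
  obtain ⟨n, p, hp⟩ := Module.Finite.exists_fin' R M
  obtain ⟨s, hs⟩ := Module.projective_lifting_property p LinearMap.id hp
  let x : Fin n → M := fun i => p (Pi.single i 1)
  let φ : Fin n → Module.Dual R M := fun i => LinearMap.proj i ∘ₗ s
  have hsum : ∀ m : M, ∑ i, φ i m • x i = m := fun m => by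
    have h1 := LinearMap.congr_fun hs m
    conv_rhs => rw [show m = p (s m) from h1.symm, pi_eq_sum_univ' (s m), map_sum]
    simp [x, φ, map_smul]
  have hsum' : ∀ l : Module.Dual R M, ∑ i, l (x i) • φ i = l := fun l => by
    ext m
    conv_rhs => rw [← hsum m]
    simp [mul_comm]
  let D : ModuleCat.{u} R := ModuleCat.of R (Module.Dual R M)
  refine ⟨@HasRightDual.mk _ _ _ M D ?_⟩
  refine
    { coevaluation' := ModuleCat.ofHom (LinearMap.toSpanSingleton R (M ⊗ D : ModuleCat.{u} R)
        (∑ i, x i ⊗ₜ[R] φ i))
      evaluation' := ModuleCat.ofHom (contractLeft R M)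
      coevaluation_evaluation' := ?_
      evaluation_coevaluation' := ?_ }
  · apply ModuleCat.hom_ext
    refine TensorProduct.ext' fun l r => ?_
    change TensorProduct.map (contractLeft R M) LinearMap.id ((TensorProduct.assoc R D M D).symm
      (TensorProduct.map LinearMap.id (LinearMap.toSpanSingleton R _ (∑ i, x i ⊗ₜ[R] φ i)) (l ⊗ₜ[R] r)))
      = (TensorProduct.lid R D).symm (TensorProduct.rid R D (l ⊗ₜ[R] r))
    simp only [TensorProduct.map_tmul, LinearMap.id_coe, id_eq, LinearMap.toSpanSingleton_apply,
      Finset.smul_sum, TensorProduct.smul_tmul', TensorProduct.tmul_sum, map_sum,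
      TensorProduct.assoc_symm_tmul, contractLeft_apply, map_smul]
    simp only [TensorProduct.rid_tmul, TensorProduct.lid_symm_apply]
    rw [← hsum' (r • l), TensorProduct.tmul_sum]
    refine Finset.sum_congr rfl fun i _ => ?_
    rw [← TensorProduct.smul_tmul]
    simp
    change ((r • l) (x i)) ⊗ₜ[R] φ i = _
    rw [TensorProduct.smul_tmul', smul_eq_mul, mul_one]
  · apply ModuleCat.hom_ext
    refine TensorProduct.ext' fun r m => ?_
    change TensorProduct.map LinearMap.id (contractLeft R M) (TensorProduct.assoc R M D M
      (TensorProduct.map (LinearMap.toSpanSingleton R _ (∑ i, x i ⊗ₜ[R] φ i)) LinearMap.id (r ⊗ₜ[R] m)))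
      = (TensorProduct.rid R M).symm (TensorProduct.lid R M (r ⊗ₜ[R] m))
    simp only [TensorProduct.map_tmul, LinearMap.id_coe, id_eq, LinearMap.toSpanSingleton_apply,
      Finset.smul_sum, TensorProduct.smul_tmul', TensorProduct.sum_tmul, map_sum,
      TensorProduct.assoc_tmul, contractLeft_apply]
    simp only [TensorProduct.lid_tmul, TensorProduct.rid_symm_apply]
    rw [← hsum (r • m), TensorProduct.sum_tmul]
    refine Finset.sum_congr rfl fun i _ => ?_
    rw [TensorProduct.smul_tmul]
    simp [TensorProduct.smul_tmul]
    rfl

end Groth.Agent.S17859
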