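import Groth.Statements.S1786
import Groth.Agent.Lib.DualRing.ShriekGorFibres
-- import your own Groth.Agent.* helpers here

set_option autoImplicit false
universe u
open CategoryTheory
attribute [local instance] HasDerivedCategory.standard
open scoped TensorProduct
open Dual2

namespace Groth.Agent.S1786

/-- Let R → A be a ring map between Noetherian rings which is flat and of finite type, presented as a
surjection ψ : P = R[x_1, …, x_n] → A. For K in D(R) form φ^!(K) = RHom_P(A, K ⊗^L_R P)[n], where
the derived base change D(R) → D(P) is assumed to exist and RHom_P(A, −) : D(P) → D(A) is taken to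
be a right adjoint of restriction of scalars along ψ, and put ω_{A/R} = φ^!(R); assume also that the
derived base change functors D(A) → D(A_f) exist for all f ∈ A. Then all fibre rings A ⊗_R κ(p), for
p a prime of R, are Gorenstein if and only if ω_{A/R} is invertible in the following sense: for
every prime q of A there are f ∈ A with f ∉ q and an integer m such that ω_{A/R} ⊗^L_A A_f ≅ A_f[m]
in D(A_f). -/
theorem result (R A : Type u) [CommRing R] [CommRing A] [IsNoetherianRing R] [IsNoetherianRing A] [Algebra R A] (n : ℕ) (ψ : MvPolynomial (Fin n) R →ₐ[R] A) (hψ : Function.Surjective ψ) [DRing.HasLBaseChange (algebraMap R (MvPolynomial (Fin n) R))] (Rψ : Dual.D (MvPolynomial (Fin n) R) ⥤ Dual.D A) (adj : DRing.restrictD ψ.toRingHom ⊣ Rψ) [Module.Flat R A] [hL : ∀ f : A, DRing.HasLBaseChange (algebraMap A (Localization.Away f))] : (∀ p : PrimeSpectrum R, LocCoh.IsGorensteinRing (A ⊗[R] p.asIdeal.ResidueField)) ↔ (∀ q : PrimeSpectrum A, ∃ (f : A) (_ : f ∉ q.asIdeal) (m : ℤ), Nonempty ((DRing.LBaseChange (algebraMap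 A (Localization.Away f))).obj (Dual2.shriekVia n Rψ (Dual.inD R R)) ≅ (Dual.inD (Localization.Away f) (Localization.Away f))⟦m⟧)) := by
  haveI := GrothLib.DualRing.Shriek.pfl_of_flat R (P := MvPolynomial (Fin n) R)
  haveI : Algebra.FiniteType R A := Algebra.FiniteType.of_surjective ψ hψ
  haveI : Algebra.FinitePresentation R A := Algebra.FinitePresentation.of_finiteType.1 inferInstance
  obtain ⟨e1⟩ := GrothLib.DualRing.Shriek.nonempty_shriekVia ψ Rψ adj (Dual.inD R R)
  obtain ⟨E, b, hb, hf, ⟨e⟩⟩ := (GrothLib.DualRing.Shriek.isRelPerfect_GP ψ hψ).1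
  have hE : GrothLib.KF.IsKFlat E := GrothLib.KF.isKFlat_of_bounded_above E b hb
    fun i => haveI := (hf i).2; inferInstanceAs (Module.Flat A (E.X i))
  have eL : ∀ f : A, Nonempty ((DRing.LBaseChange (algebraMap A (Localization.Away f))).obj
      (Dual2.shriekVia n Rψ (Dual.inD R R)) ≅
      DRing.toD ((GrothLib.DR.bc (algebraMap A (Localization.Away f))).obj E)) := fun f => by
    obtain ⟨t⟩ := GrothLib.KF.lBase_value (algebraMap A (Localization.Away f)) hE
    exact ⟨(DRing.LBaseChange _).mapIso (e1 ≪≫ e.symm) ≪≫ t⟩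
  constructor
  · intro hG q
    let p : PrimeSpectrum R := ⟨q.asIdeal.comap (algebraMap R A), inferInstance⟩
    haveI : q.asIdeal.LiesOver p.asIdeal := ⟨rfl⟩
    let Q := PrimeSpectrum.primesOverOrderIsoFiber R A p.asIdeal ⟨q.asIdeal, inferInstance, ⟨rfl⟩⟩
    have hQ : Q.asIdeal.comap (Algebra.TensorProduct.includeRight :
        A →ₐ[R] p.asIdeal.ResidueField ⊗[R] A).toRingHom = q.asIdeal := by
      have : Q.asIdeal.comap Algebra.TensorProduct.includeRight = q.asIdeal := by
        rw [← PrimeSpectrum.coe_primesOverOrderIsoFiber_symm_apply p.asIdeal Q, OrderIso.symm_apply_apply]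
      exact this
    obtain ⟨f, hfq, m, ⟨ef⟩⟩ := GrothLib.DualRing.Shriek.exists_away_invertible ψ hψ e hb hf q p Q.asIdeal hQ
      (GrothLib.GorFlat.isGorensteinRing_of_ringEquiv
        (Algebra.TensorProduct.comm R A p.asIdeal.ResidueField).toRingEquiv (hG p))
    exact ⟨f, hfq, m, ⟨(eL f).some ≪≫ ef⟩⟩
  · intro h p
    refine GrothLib.GorFlat.isGorensteinRing_of_ringEquiv
      (Algebra.TensorProduct.comm R p.asIdeal.ResidueField A).toRingEquiv
      (GrothLib.DualRing.Shriek.isGorensteinRing_fibre ψ hψ hE e (fun q => ?_) p)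
    obtain ⟨f, hfq, m, ⟨ef⟩⟩ := h q
    exact ⟨f, hfq, m, ⟨(eL f).some.symm ≪≫ ef⟩⟩

end Groth.Agent.S1786
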