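import Groth.Statements.S17862
import Groth.Agent.Lib.PiPoints7.Main

set_option autoImplicit false
open CategoryTheory AlgebraicGeometry
universe u
open Algz

namespace Groth.Agent.S17862

/-- Let `S` be an affine scheme, `X` a quasi-compact and quasi-separated algebraic space over `S`, and
`A i` a family of commutative rings indexed by an arbitrary type, with a morphism `h` from the
spectrum of the product ring to `S`. Two `S`-morphisms `Spec (Π i, A i) ⟶ X` that agree after
composition with every `Spec (A i) ⟶ Spec (Π i, A i)` are equal. (For schemes this is the
injectivity half of the corresponding bijection; the algebraic-space case is the one stated here.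
Over an affine base, relative and absolute quasi-separatedness agree.) -/
theorem result (S : Scheme.{u}) [IsAffine S]
    (X : AlgSp.Space S) (hqc : AlgSp.IsQuasiCompactSp X.obj) (hqs : AlgSp.IsQuasiSeparatedSp X.obj)
    {ι : Type u} (A : ι → CommRingCat.{u}) (h : Spec (CommRingCat.of (∀ i, A i)) ⟶ S) :
    Function.Injective (fun g : (AlgSp.ofScheme S).obj (Over.mk h) ⟶ X => fun i : ι =>
      (AlgSp.ofScheme S).map (Over.homMk
        (Spec.map (CommRingCat.ofHom (Pi.evalRingHom (fun j => (A j : Type u)) i)))
        rfl : Over.mk (Spec.map (CommRingCat.ofHom (Pi.evalRingHom (fun j => (A j : Type u)) i)) ≫ h) ⟶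
          Over.mk h) ≫ g) := by
  intro g g' hgg'
  refine ObjectProperty.hom_ext _ (GrothLib.PiPoints7.eq_of_forall X.property hqs A h g.hom g'.hom fun i => ?_)
  exact congrArg (fun φ => φ.hom) (congrFun hgg' i)

end Groth.Agent.S17862
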