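import Groth.Statements.S17861
import Groth.Agent.S10419
import Groth.Agent.S17862
import Groth.Agent.Lib.AlgSp.HenselPoint
import Groth.Agent.Lib.AlgSp.SchImageRed
import Groth.Agent.Lib.AlgSp.OpenSub
import Groth.Agent.Lib.AlgSp.SigmaChart
import Groth.Agent.Lib.AlgSp.BddFibres

set_option linter.all false
set_option backward.isDefEq.respectTransparency false

set_option autoImplicit false
open CategoryTheory AlgebraicGeometry
universe u
open Algz

namespace Groth.Agent.S17861

open GrothLib.AlgSp _root_.AlgSp CategoryTheory.Limits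

/-- Finitely many affine etale charts lift every field valued point. -/
theorem exists_affine_lifting_chart {S : Scheme.{u}} [QuasiSeparatedSpace ↥S] (X : AlgSp.Space S)
    (hqc : AlgSp.IsQuasiCompactSp X.obj) (hqs : AlgSp.IsQuasiSeparatedSp X.obj) :
    ∃ (Z : Over S) (b : (yon S).obj Z ⟶ X.obj), IsAffine Z.left ∧ RepWith @Etale b ∧
      ∀ q : FieldPt X.obj, ∃ l : q.pt ⟶ Z, (yon S).map l ≫ b = q.toHom := by
  classical
  obtain ⟨n, Uo, j, k, T, i, hj, hkj, hj1, hempty, hi, hV⟩ := Groth.Agent.S10419.result X hqc hqs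
  choose V f hVs hVc hfe hfs hfi using fun p : ℕ => hV (p + 1) (Nat.le_add_left 1 p)
  have hcov : ∀ p : Fin n, ∃ s : Finset (V p).left.affineOpens, ∀ x : (V p).left, ∃ A ∈ s, x ∈ A.1 := by
    intro p
    haveI := hVc p
    obtain ⟨s, hs⟩ := isCompact_univ.elim_finite_subcover (fun A : (V p).left.affineOpens => (A.1 : Set (V p).left))
      (fun A => A.1.isOpen) (fun x _ => by
        obtain ⟨_, ⟨A, hA, rfl⟩, hxA, -⟩ := (V p).left.isBasis_affineOpens.exists_subset_of_mem_open
          (Set.mem_univ x) isOpen_univ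
        exact Set.mem_iUnion.2 ⟨⟨A, hA⟩, hxA⟩)
    exact ⟨s, fun x => by simpa using hs (Set.mem_univ x)⟩
  choose s hs using hcov
  let I : Type u := ULift.{u} (Σ p : Fin n, {A // A ∈ s p})
  let W : I → Over S := fun a => Over.mk (a.down.2.1.1.ι ≫ (V a.down.1).hom)
  haveI : ∀ a, IsAffine (W a).left := fun a => a.down.2.1.2
  have hje : ∀ p, RepWith @Etale (j p).hom := fun p =>
    repWith_mono (hj p) fun _ _ g (hg : IsOpenImmersion g) => inferInstance
  let ι : ∀ a, W a ⟶ V a.down.1 := fun a => Over.homMk a.down.2.1.1.ι rfl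
  let π : ∀ a, (yon S).obj (W a) ⟶ X.obj := fun a =>
    (yon S).map (ι a) ≫ f a.down.1 ≫ (j (a.down.1 + 1)).hom
  obtain ⟨P, hP, -⟩ := exists_hom_of_sigma W π
  have hPe : RepWith @Etale P := repWith_sigma X.property.diag W π P hP @Etale fun a =>
    repWith_comp ((repWith_yon_map_iff @Etale (ι a)).2
        (inferInstanceAs (Etale a.down.2.1.1.ι)))
      (repWith_comp (hfe a.down.1) (hje _))
  refine ⟨sigmaOver W, P, inferInstanceAs (IsAffine (∐ fun a => (W a).left)), hPe, fun q => ?_⟩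
  have hsing : ∀ y, Points.map q.toHom y = Points.mk q := fun y => by
    obtain ⟨t, rfl⟩ := (Points.schemeHomeo q.pt).surjective y
    exact (Points.ofPt_eq_map_ofScheme q.toHom t).symm.trans (Points.ofPt_toHom q t)
  let Good : ℕ → Prop := fun p => Points.mk q ∈ Set.range (Points.map (j (p + 1)).hom)
  have h0 : Good 0 := by
    haveI : IsIso (j 1) := hj1
    refine ⟨Points.map (inv (j 1)).hom (Points.mk q), ?_⟩
    rw [← Points.map_comp, show (inv (j 1)).hom ≫ (j 1).hom = (inv (j 1) ≫ j 1).hom from rfl, IsIso.inv_hom_id]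
    exact Points.map_id _
  have hn : ¬ Good n := fun ⟨z, _⟩ => hempty.false z
  obtain ⟨p, hp1, hp2⟩ : ∃ p, Good p ∧ ¬ Good (p + 1) := by
    by_contra hcon
    simp only [not_exists, not_and, not_not] at hcon
    exact hn (Nat.rec h0 (fun m hm => hcon m hm) n)
  have hpn : p < n := by
    by_contra hle
    obtain ⟨z, hz⟩ := hp1
    have : ∀ m, n ≤ m → ∀ z : Points (Uo (m + 1)).obj, False := by
      intro m hm
      induction m, hm using Nat.le_induction with
      | base => exact fun z => hempty.false z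
      | succ m _ ih => exact fun z => ih (Points.map (k (m + 1)).hom z)
    exact this p (not_lt.1 hle) z
  obtain ⟨g₁, hg₁⟩ := (exists_factor_iff (hj (p + 1)) q.toHom).2 (by
    rintro _ ⟨y, rfl⟩
    rw [hsing]
    exact hp1)
  have hri : Set.range (Points.map g₁) ⊆ Set.range (Points.map (i (p + 1)).hom) := by
    rintro _ ⟨y, rfl⟩
    rw [(hi (p + 1)).2.1]
    rintro ⟨z, hz⟩
    refine hp2 ⟨z, ?_⟩
    rw [← hkj (p + 1), show (k (p + 1) ≫ j (p + 1)).hom = (k (p + 1)).hom ≫ (j (p + 1)).hom from rfl,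
      Points.map_comp, hz, ← Points.map_comp, hg₁, hsing]
  haveI : IsReduced q.pt.left := inferInstanceAs (IsReduced (Spec (CommRingCat.of q.K)))
  obtain ⟨g₂, hg₂⟩ := exists_factor_of_reduced (IsAlgSpace.yon_obj q.pt) (Uo (p + 1)).property
    (⟨q.pt, 𝟙 _, repWith_id _ _, repWith_id _ _, ‹_›⟩) (hi (p + 1)).1 hri
  haveI := hfi p _ _ _ (IsPullback.of_hasPullback (i (p + 1)).hom (f p))
  obtain ⟨l', hl'⟩ := (yon S).map_surjective
    (g₂ ≫ inv (pullback.fst (i (p + 1)).hom (f p)) ≫ pullback.snd (i (p + 1)).hom (f p))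
  have hl'f : (yon S).map l' ≫ f p = g₁ := by
    rw [hl', Category.assoc, Category.assoc, ← pullback.condition, IsIso.inv_hom_id_assoc, hg₂]
  obtain ⟨A, hAs, hA⟩ := hs ⟨p, hpn⟩ (l'.left (IsLocalRing.closedPoint q.K))
  obtain ⟨l'', hl''⟩ := exists_lift_opens (T := q.pt) (X := V p) l' A.1
    (range_subset_of_closedPoint l'.left A.1 hA)
  let a : I := ⟨⟨⟨p, hpn⟩, ⟨A, hAs⟩⟩⟩
  have hl3 : l'' ≫ ι a = l' := hl''
  refine ⟨l'' ≫ sigmaι W a, ?_⟩
  rw [Functor.map_comp, Category.assoc, hP a]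
  show (yon S).map l'' ≫ (yon S).map (ι a) ≫ f p ≫ (j (p + 1)).hom = q.toHom
  rw [← Category.assoc, ← Functor.map_comp, hl3, reassoc_of% hl'f, hg₁]

/-- Let `S` be an affine scheme, `X` a quasi-compact and quasi-separated algebraic space over `S`, and
`A i` a family of henselian local rings indexed by an arbitrary type, with a morphism `h` from the
spectrum of the product ring `Π i, A i` to `S` (so that each `Spec (A i)` is an `S`-scheme through
the projection). Sending an `S`-morphism `Spec (Π i, A i) ⟶ X` to the family of its composites with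
the morphisms `Spec (A i) ⟶ Spec (Π i, A i)` is a bijection onto the set of families of
`S`-morphisms `Spec (A i) ⟶ X`. (Over an affine base, quasi-separatedness relative to `S` agrees
with the absolute notion.) -/
theorem result (S : Scheme.{u}) [IsAffine S]
    (X : AlgSp.Space S) (hqc : AlgSp.IsQuasiCompactSp X.obj) (hqs : AlgSp.IsQuasiSeparatedSp X.obj)
    {ι : Type u} (A : ι → CommRingCat.{u}) [∀ i, HenselianLocalRing (A i)]
    (h : Spec (CommRingCat.of (∀ i, A i)) ⟶ S) :
    Function.Bijective (fun g : (AlgSp.ofScheme S).obj (Over.mk h) ⟶ X => fun i : ι =>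
      (AlgSp.ofScheme S).map (Over.homMk
        (Spec.map (CommRingCat.ofHom (Pi.evalRingHom (fun j => (A j : Type u)) i)))
        rfl : Over.mk (Spec.map (CommRingCat.ofHom (Pi.evalRingHom (fun j => (A j : Type u)) i)) ≫ h) ⟶
          Over.mk h) ≫ g) := by
  refine ⟨Groth.Agent.S17862.result S X hqc hqs (fun i => A i) h, fun φ => ?_⟩
  obtain ⟨Z, b, hZ, hb, hlift⟩ := exists_affine_lifting_chart X hqc hqs
  haveI := hZ
  let ev : ∀ i, Spec (A i) ⟶ Spec (CommRingCat.of (∀ i, A i)) := fun i =>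
    Spec.map (CommRingCat.ofHom (Pi.evalRingHom (fun j => (A j : Type u)) i))
  have hl : ∀ i, ∃ l : Over.mk (ev i ≫ h) ⟶ Z, (yon S).map l ≫ b = (φ i).hom := by
    intro i
    obtain ⟨l₀, hl₀⟩ := exists_residue_lift hlift (A i) (ev i ≫ h)
      ((yon S).map (Over.homMk (Spec.map (CommRingCat.ofHom (IsLocalRing.residue (A i)))) rfl :
        Over.mk (Spec.map (CommRingCat.ofHom (IsLocalRing.residue (A i))) ≫ ev i ≫ h) ⟶ Over.mk (ev i ≫ h)) ≫ (φ i).hom)
    exact exists_lift_of_residue_lift X.property hb (A i) (T := Over.mk (ev i ≫ h)) rfl (φ i).hom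
      (T₀ := Over.mk (Spec.map (CommRingCat.ofHom (IsLocalRing.residue (A i))) ≫ ev i ≫ h)) rfl _
      (by simp) l₀ hl₀
  choose l hl using hl
  choose γ hγ using fun i => Spec.map_surjective ((l i).left ≫ Z.left.isoSpec.hom)
  let Γ' : Γ(Z.left, ⊤) ⟶ CommRingCat.of (∀ i, A i) := CommRingCat.ofHom (RingHom.pi fun i => (γ i).hom)
  let m : Spec (CommRingCat.of (∀ i, A i)) ⟶ Z.left := Spec.map Γ' ≫ Z.left.isoSpec.inv
  have hm : ∀ i, ev i ≫ m = (l i).left := by
    intro i
    have e : Γ' ≫ CommRingCat.ofHom (Pi.evalRingHom (fun j => (A j : Type u)) i) = γ i := rfl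
    show Spec.map _ ≫ Spec.map Γ' ≫ Z.left.isoSpec.inv = _
    rw [← Category.assoc, ← Spec.map_comp, e, hγ, Category.assoc, Iso.hom_inv_id, Category.comp_id]
  have hext : ∀ u v : Spec (CommRingCat.of (∀ i, A i)) ⟶ S, (∀ i, ev i ≫ u = ev i ≫ v) → u = v := by
    intro u v huv
    obtain ⟨u', hu'⟩ := Spec.map_surjective (u ≫ S.isoSpec.hom)
    obtain ⟨v', hv'⟩ := Spec.map_surjective (v ≫ S.isoSpec.hom)
    rw [← cancel_mono S.isoSpec.hom, ← hu', ← hv']
    congr 1
    refine CommRingCat.hom_ext (RingHom.ext fun x => funext fun i => ?_)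
    have e := congrArg (· ≫ S.isoSpec.hom) (huv i)
    simp only [Category.assoc, ← hu', ← hv', ev, ← Spec.map_comp] at e
    exact congr($(Spec.map_injective e).hom x)
  have hms : m ≫ Z.hom = h := hext _ _ fun i => by rw [← Category.assoc, hm, Over.w (l i)]; rfl
  refine ⟨ObjectProperty.homMk ((yon S).map (Over.homMk m hms : Over.mk h ⟶ Z) ≫ b), funext fun i =>
    ObjectProperty.hom_ext _ ?_⟩
  show (yon S).map _ ≫ (yon S).map (Over.homMk m hms : Over.mk h ⟶ Z) ≫ b = (φ i).hom
  rw [← Category.assoc, ← Functor.map_comp, ← hl i]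
  congr 2
  exact Over.OverMorphism.ext (hm i)

end Groth.Agent.S17861
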