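import Groth.Statements.S17863
import Mathlib

set_option autoImplicit false
open CategoryTheory AlgebraicGeometry
universe u
open Algz

namespace Groth.Agent.S17863

/-- Let `A` be a commutative ring which is `I`-adically complete for an ideal `I` and let `X` be a
quasi-affine scheme. Then the natural map from `X(A)` to compatible systems in the `X(A/I^n)` is
bijective: two morphisms `Spec A ⟶ X` with the same restriction to every `Spec (A/I^n)` are equal,
and every family of morphisms `Spec (A/I^n) ⟶ X` compatible with the transition maps `Spec (A/I^n) ⟶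
Spec (A/I^(n+1))` is the family of restrictions of a morphism `Spec A ⟶ X`. -/
theorem result (A : Type u) [CommRing A] (I : Ideal A) [IsAdicComplete I A]
    (X : Scheme.{u}) [X.IsQuasiAffine] :
    (∀ f g : Spec (CommRingCat.of A) ⟶ X,
      (∀ n : ℕ, Spec.map (CommRingCat.ofHom (Ideal.Quotient.mk (I ^ n))) ≫ f =
        Spec.map (CommRingCat.ofHom (Ideal.Quotient.mk (I ^ n))) ≫ g) → f = g) ∧
    (∀ e : ∀ n : ℕ, Spec (CommRingCat.of (A ⧸ I ^ n)) ⟶ X,
      (∀ n : ℕ, Spec.map (CommRingCat.ofHom (Ideal.Quotient.factorPowSucc I n)) ≫ e (n + 1) = e n) →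
      ∃ f : Spec (CommRingCat.of A) ⟶ X,
        ∀ n : ℕ, Spec.map (CommRingCat.ofHom (Ideal.Quotient.mk (I ^ n))) ≫ f = e n) := by
  let j := X.toSpecΓ
  let q : ∀ n : ℕ, Spec (CommRingCat.of (A ⧸ I ^ n)) ⟶ Spec (CommRingCat.of A) :=
    fun n => Spec.map (CommRingCat.ofHom (Ideal.Quotient.mk (I ^ n)))
  refine ⟨fun f g h => ?_, fun e he => ?_⟩
  · rw [← cancel_mono j]
    obtain ⟨φ, hφ⟩ := Spec.map_surjective (f ≫ j)
    obtain ⟨ψ, hψ⟩ := Spec.map_surjective (g ≫ j)
    rw [← hφ, ← hψ]
    congr 1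
    ext x
    refine IsHausdorff.eq_iff_smodEq (I := I) (M := A) |>.2 fun n => ?_
    rw [smul_eq_mul, Ideal.mul_top, SModEq.sub_mem, ← Ideal.Quotient.mk_eq_mk_iff_sub_mem]
    have e1 : φ ≫ CommRingCat.ofHom (Ideal.Quotient.mk (I ^ n)) = ψ ≫ CommRingCat.ofHom (Ideal.Quotient.mk (I ^ n)) := by
      refine Spec.map_injective ?_
      rw [Spec.map_comp, Spec.map_comp, hφ, hψ, ← Category.assoc, ← Category.assoc, h n]
    exact congr($e1 x)
  · choose φ hφ using fun n => Spec.map_surjective (e n ≫ j)
    have hsucc : ∀ n, (Ideal.Quotient.factorPowSucc I n).comp (φ (n + 1)).hom = (φ n).hom := fun n => by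
      have e1 : φ (n + 1) ≫ CommRingCat.ofHom (Ideal.Quotient.factorPowSucc I n) = φ n := by
        refine Spec.map_injective ?_
        rw [Spec.map_comp, hφ, hφ, ← Category.assoc, he]
      exact congrArg CommRingCat.Hom.hom e1
    have hle : ∀ {m n : ℕ} (h : m ≤ n), (Ideal.Quotient.factorPow I h).comp (φ n).hom = (φ m).hom := by
      intro m n h
      induction h with
      | refl => ext x; obtain ⟨y, hy⟩ := Ideal.Quotient.mk_surjective ((φ m).hom x); simp [← hy]
      | @step n h ih =>
        rw [← ih, ← hsucc n, ← RingHom.comp_assoc]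
        congr 1
        refine Ideal.Quotient.ringHom_ext ?_
        ext y
        rfl
    let Φ : CommRingCat.of Γ(X, ⊤) ⟶ CommRingCat.of A :=
      CommRingCat.ofHom (IsAdicComplete.liftRingHom I (fun n => (φ n).hom) hle)
    let g : Spec (CommRingCat.of A) ⟶ Spec Γ(X, ⊤) := Spec.map Φ
    have hg : ∀ n, q n ≫ g = e n ≫ j := fun n => by
      show Spec.map _ ≫ Spec.map Φ = _
      rw [← Spec.map_comp, ← hφ]
      congr 1
      ext x
      exact IsAdicComplete.mk_liftRingHom I _ hle n x
    have hrange : Set.range g ⊆ Set.range j := by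
      rintro _ ⟨p, rfl⟩
      obtain ⟨m, hm, hpm⟩ := Ideal.exists_le_maximal p.asIdeal p.isPrime.ne_top
      let m' : Spec (CommRingCat.of A) := ⟨m, hm.isPrime⟩
      have hI : I ≤ m := (IsAdicComplete.le_jacobson_bot I).trans
        (sInf_le ⟨bot_le, hm⟩)
      obtain ⟨z, hz⟩ : m' ∈ Set.range (q 1) := by
        show m' ∈ Set.range (PrimeSpectrum.comap (Ideal.Quotient.mk (I ^ 1)))
        rw [range_comap_of_surjective _ _ Ideal.Quotient.mk_surjective, Ideal.mk_ker, pow_one]
        exact hI
      have hm' : g m' ∈ Set.range j := by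
        rw [← hz]
        exact ⟨e 1 z, (congr($(hg 1) z)).symm⟩
      exact ((PrimeSpectrum.le_iff_specializes p m').1 hpm).map g.continuous |>.mem_open j.isOpenEmbedding.isOpen_range hm'
    refine ⟨IsOpenImmersion.lift j g hrange, fun n => ?_⟩
    rw [← cancel_mono j, Category.assoc, IsOpenImmersion.lift_fac]
    exact hg n

end Groth.Agent.S17863
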