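import Groth.Statements.S17864
import Groth.Agent.Lib.AdicExtra.Complete

set_option autoImplicit false
universe u
open Algz

namespace Groth.Agent.S17864

/-- The full-faithfulness assertion. Let `A` be a commutative ring which is `I`-adically complete for an
ideal `I`, and `P`, `Q` finitely generated projective `A`-modules. An `A`-linear map `P → Q` is
determined by its reductions modulo the powers `I^n`, and every family of `A`-linear maps `P/I^n P →
Q/I^n Q` compatible with the transition maps is the family of reductions of an `A`-linear map `P →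
Q`. (The companion assertion, that compatible systems of finite projective modules over the rings
`A/I^n` lift to `A`, is not restated here.) -/
theorem result (A : Type u) [CommRing A] (I : Ideal A)
    [IsAdicComplete I A] (P Q : Type u) [AddCommGroup P] [Module A P] [Module.Finite A P]
    [Module.Projective A P] [AddCommGroup Q] [Module A Q] [Module.Finite A Q] [Module.Projective A Q] :
    (∀ f f' : P →ₗ[A] Q, (∀ n : ℕ, f.reduceModIdeal (I ^ n) = f'.reduceModIdeal (I ^ n)) → f = f') ∧
    (∀ g : ∀ n : ℕ, P ⧸ (I ^ n • ⊤ : Submodule A P) →ₗ[A] Q ⧸ (I ^ n • ⊤ : Submodule A Q),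
      (∀ n : ℕ, AdicCompletion.transitionMap I Q (Nat.le_succ n) ∘ₗ g (n + 1) =
        g n ∘ₗ AdicCompletion.transitionMap I P (Nat.le_succ n)) →
      ∃ f : P →ₗ[A] Q, ∀ n : ℕ, f.reduceModIdeal (I ^ n) = g n) := by
  obtain ⟨n, p, hp⟩ := Module.Finite.exists_fin' A Q
  obtain ⟨s, hs⟩ := Module.projective_lifting_property p LinearMap.id hp
  haveI hQ : IsAdicComplete I Q := by
    have hmem : ∀ (m : ℕ) (x : Fin n → A),
        x ∈ (I ^ m • ⊤ : Submodule A (Fin n → A)) ↔ ∀ k, x k ∈ I ^ m := fun m x => by
      refine ⟨fun hx k => ?_, fun hx => ?_⟩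
      · have := Submodule.smul_top_le_comap_smul_top (I ^ m) (LinearMap.proj k (R := A) (φ := fun _ => A)) hx
        simpa using this
      · rw [pi_eq_sum_univ' x]
        exact Submodule.sum_mem _ fun k _ => Submodule.smul_mem_smul (hx k) trivial
    haveI : IsAdicComplete I (Fin n → A) :=
      { haus' := fun x hx => funext fun k => IsHausdorff.haus (inferInstance : IsHausdorff I A) _ fun m => by
          rw [SModEq.zero]
          simpa using (hmem m x).1 (SModEq.zero.1 (hx m)) k
        prec' := fun x hx => by
          have hk : ∀ k, ∃ L : A, ∀ m, x m k ≡ L [SMOD (I ^ m • ⊤ : Submodule A A)] := fun k =>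
            IsPrecomplete.prec (inferInstance : IsPrecomplete I A) (f := fun m => x m k)
              fun {a b} hab => by
                rw [SModEq.sub_mem]
                simpa using (hmem a _).1 (SModEq.sub_mem.1 (hx hab)) k
          choose L hL using hk
          refine ⟨L, fun m => ?_⟩
          rw [SModEq.sub_mem, hmem]
          intro k
          simpa using SModEq.sub_mem.1 (hL k m) }
    exact GrothLib.AdicExtra.isAdicComplete_of_retract s p (LinearMap.congr_fun hs)
  refine ⟨fun f f' h => ?_, fun g hg => ?_⟩
  · ext x
    rw [IsHausdorff.eq_iff_smodEq (I := I)]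
    exact fun m => (Submodule.Quotient.eq _).2 <| (Submodule.Quotient.eq _).1 <| by
      have := LinearMap.congr_fun (h m) (Submodule.Quotient.mk x)
      simpa using this
  · have hcomp : ∀ {a b : ℕ} (hab : a ≤ b) (y : P),
        Submodule.factorPow I Q hab (g b (Submodule.Quotient.mk y)) = g a (Submodule.Quotient.mk y) := by
      intro a b hab
      induction hab with
      | refl => intro y; obtain ⟨z, hz⟩ := Submodule.Quotient.mk_surjective _ (g a (Submodule.Quotient.mk y)); rw [← hz]; rfl
      | @step b hab ih =>
        intro y
        obtain ⟨z, hz⟩ := Submodule.Quotient.mk_surjective _ (g (b + 1) (Submodule.Quotient.mk y))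
        have h1 := LinearMap.congr_fun (hg b) (Submodule.Quotient.mk y)
        simp only [LinearMap.coe_comp, Function.comp_apply] at h1
        rw [← hz] at h1 ⊢
        rw [← ih y]
        rw [show g b (Submodule.Quotient.mk y) = Submodule.Quotient.mk z from h1.symm]
        rfl
    let F : P →ₗ[A] Q := IsAdicComplete.lift I (fun m => g m ∘ₗ (I ^ m • ⊤ : Submodule A P).mkQ)
      (fun {a b} hab => LinearMap.ext fun y => hcomp hab y)
    refine ⟨F, fun m => ?_⟩
    refine LinearMap.ext fun z => ?_
    obtain ⟨y, rfl⟩ := Submodule.Quotient.mk_surjective _ z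
    exact IsAdicComplete.mk_lift I (f := fun m => g m ∘ₗ (I ^ m • ⊤ : Submodule A P).mkQ) _ m y

end Groth.Agent.S17864
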