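import Groth.Statements.S17869
import Groth.Agent.Lib.GenCover.NisComp

set_option autoImplicit false
open CategoryTheory AlgebraicGeometry
universe u
open Algz

namespace Groth.Agent.S17869

/-- In the case of schemes. Let `U` be a quasi-compact quasi-separated scheme and `V 0, …, V (k-1)`
quasi-compact open subschemes which cover `U`. Then the canonical morphism from the disjoint union
`∐ V i` to `U` is a Nisnevich cover of length at most `k`. (The published example states more
generally that, for a Nisnevich cover of `Y` of length at most `m` with source `U`, the composite
from the disjoint union `∐ V i` to `Y` has length at most `m * k`; stated here is the case of the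
identity of `U`, to which the published argument reduces, and the general bound follows by composing
Nisnevich covers. The original form is for quasi-compact quasi-separated algebraic spaces, with the
members of the cover quasi-compact; stated here for schemes.) -/
theorem result {U : Scheme.{u}} [CompactSpace U] [QuasiSeparatedSpace U]
    (k : ℕ) (V : Fin k → U.Opens) (hV : ∀ i, IsCompact (V i : Set U)) (hcov : ⨆ i, V i = ⊤) :
    W4c5algebraiztannaka.IsNisCoverLen
      (Limits.Sigma.desc (fun i => (V i).ι) : (∐ fun i => ((V i : U.Opens) : Scheme.{u})) ⟶ U) k := by
  exact GrothLib.GenCover.isNisCoverLen_sigma k V hV hcov

end Groth.Agent.S17869
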