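import Groth.Statements.S1787
import Groth.Agent.Lib.DualCx22.Cover

set_option autoImplicit false
universe u
open CategoryTheory CategoryTheory.Limits
attribute [local instance] HasDerivedCategory.standard
open Dual

namespace Groth.Agent.S1787

/-- Let A be a Noetherian ring and f_1, …, f_n elements generating the unit ideal. Let ω be an object of
D(A) such that for each i, assuming the derived base change functor D(A) → D(A_{f_i}) exists, the
base change of ω is a dualizing complex for A_{f_i}. Then ω is a dualizing complex for A. -/
theorem result (A : Type u) [CommRing A] [IsNoetherianRing A] (n : ℕ) (f : Fin n → A) (hf : Ideal.span (Set.range f) = ⊤) (ω : Dual.D A) (h : ∀ i : Fin n, ∃ _ : DRing.HasLBaseChange (algebraMap A (Localization.Away (f i))), Dual.IsDualizing (Localization.Away (f i)) ((DRing.LBaseChange (algebraMap A (Localization.Away (f i)))).obj ω)) : Dual.IsDualizing A ω := by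
  haveI : ∀ i, Module.Flat A (Localization.Away (f i)) := fun i => IsLocalization.flat _ (Submonoid.powers (f i))
  haveI : ∀ i, PreservesFiniteLimits (GrothLib.DualCx22.bcMod (A := A) (Localization.Away (f i))) := fun i =>
    GrothLib.DR.preservesFiniteLimits_extendScalars (algebraMap A (Localization.Away (f i))) GrothLib.DR.flat_algebraMap
  have hS : ∀ I : Ideal A, (∀ i, ∃ s ∈ Submonoid.powers (f i), s ∈ I) → I = ⊤ := by
    intro I hI
    choose s hs hsI using hI
    choose k hk using fun i => (hs i : ∃ k, f i ^ k = s i)
    rw [eq_top_iff, ← Ideal.span_range_pow_eq_top (Set.range f) hf (fun x => k x.2.choose), Ideal.span_le]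
    rintro _ ⟨x, rfl⟩
    have h1 := hsI x.2.choose
    rw [← hk, x.2.choose_spec] at h1
    exact h1
  refine GrothLib.DualCx22.isDualizing_of_finite_family (fun i => Localization.Away (f i))
    (GrothLib.DualCx22.detectsZero_localization (fun i => Submonoid.powers (f i)) hS _)
    (GrothLib.DualCx22.detectsZero_localization (fun i => Submonoid.powers (f i)) hS _) fun i => ?_
  obtain ⟨_, hd⟩ := h i
  obtain ⟨e⟩ := GrothLib.DualCx22.nonempty_lBase_iso_bcD (A := A) (Localization.Away (f i))
  exact GrothLib.DualCx22.isDualizing_of_iso (e.app ω) hd

end Groth.Agent.S1787
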