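import Groth.Statements.S17871
import Groth.Agent.Lib.FPProd7.Geom

set_option autoImplicit false
open CategoryTheory AlgebraicGeometry Opposite
universe u
open Algz

namespace Groth.Agent.S17871

/-- Let `X` be a quasi-compact quasi-separated scheme, `A i` a family of commutative rings indexed by an
arbitrary type together with morphisms `f i : Spec (A i) ⟶ X`, and `F` an `O_X`-module locally of
finite presentation (a finitely presented quasi-coherent sheaf). Then the product over `i` of the
modules of global sections of the pullbacks `(f i)^* F` is a finitely presented module over the
product of the rings of global sections `Γ(Spec (A i), O)` (that is, over `Π i, A i`). The point is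
that the index set may be infinite. -/
theorem result (X : Scheme.{u}) [CompactSpace X] [QuasiSeparatedSpace X]
    {ι : Type u} (A : ι → CommRingCat.{u}) (f : ∀ i, Spec (A i) ⟶ X) (F : X.Modules) (hF : CohB1.IsFP F) :
    Module.FinitePresentation (∀ i, Γ(Spec (A i), ⊤))
      (∀ i, Γ((Scheme.Modules.pullback (f i)).obj F, ⊤)) := by
  obtain ⟨N, R, h⟩ := GrothLib.FPProd7.exists_bound X F hF
  exact GrothLib.FPProd7.finitePresentation_pi _ _ N R fun i => h _ inferInstance (f i)

end Groth.Agent.S17871
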