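import Groth.Statements.S17873
-- import your own Groth.Agent.* helpers here
import Groth.Agent.Lib.Depth.CM
import Groth.Agent.Lib.Depth.Reduce
import Groth.Agent.Lib.AffUnion.Finset

set_option autoImplicit false
universe u
open GRRSing

namespace Groth.Agent.S17873

/-- Let T be a Cohen–Macaulay Noetherian local ring, J a proper ideal of T, j the grade of J (the
J-depth of T, i.e. the supremum of the lengths of T-regular sequences inside J; a natural number
here) and c the minimal number of generators of J (equal to the dimension of J/𝔪J over the residue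
field). Then j ≤ c and there is a generating sequence t_1, …, t_c of J such that t_1, …, t_j is a
T-regular sequence. (The published statement does not exclude J = T; there c = 1 while the grade,
read as the depth of T, can exceed 1, so this row assumes J proper.) -/
theorem result {T : Type u} [CommRing T] [LocCoh.IsCohenMacaulayLocalRing T]
    (J : Ideal T) (hJ : J ≠ ⊤) (j : ℕ) (hj : LocCoh.idealDepth J T = j) :
    j ≤ Submodule.spanFinrank J ∧
      ∃ ts : List T, ts.length = Submodule.spanFinrank J ∧ Ideal.ofList ts = J ∧
        RingTheory.Sequence.IsRegular T (ts.take j) := by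
  classical
  have key : ∀ k ≤ j, ∃ pre post : List T, pre.length = k ∧
      pre.length + post.length = Submodule.spanFinrank J ∧
      Ideal.ofList (pre ++ post) = J ∧ RingTheory.Sequence.IsWeaklyRegular T pre := by
    intro k hk
    induction k with
    | zero =>
      obtain ⟨s, hs, hspan⟩ :=
        Submodule.FG.exists_span_finset_card_eq_spanFinrank (p := J) (IsNoetherian.noetherian J)
      refine ⟨[], s.toList, rfl, by simpa using hs, ?_, RingTheory.Sequence.IsWeaklyRegular.nil T T⟩
      rw [List.nil_append, ← hspan, Ideal.ofList]
      congr 1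
      ext; simp
    | succ k ih =>
      obtain ⟨pre, post, hk', hlen, hJe, hreg⟩ := ih (by omega)
      have hmem : ∀ r ∈ pre, r ∈ J := fun r hr => hJe ▸ Ideal.subset_span (List.mem_append_left post hr)
      let M' := T ⧸ (Ideal.ofList pre • ⊤ : Submodule T T)
      have hle : Ideal.ofList pre • (⊤ : Submodule T T) ≤ J := by
        rw [smul_eq_mul, Ideal.mul_top]
        exact Ideal.span_le.2 hmem
      haveI : Nontrivial M' := Submodule.Quotient.nontrivial_iff.2
        (ne_top_of_le_ne_top hJ hle)
      have hd := GrothLib.Depth.idealDepth_ofList J pre hmem T hreg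
      rw [hj, hk'] at hd
      have h1 : 1 ≤ LocCoh.idealDepth J M' := by
        rw [ENat.one_le_iff_ne_zero]
        intro h0
        rw [h0, zero_add] at hd
        have : j = k := by exact_mod_cast hd
        omega
      obtain ⟨x, hxJ, hx⟩ := (GrothLib.Depth.one_le_idealDepth_iff hJ).1 h1
      have havoid : ∀ P ∈ associatedPrimes T M', ¬ J ≤ P := by
        intro P hP hJP
        have : x ∈ ⋃ p ∈ associatedPrimes T M', (p : Set T) := Set.mem_iUnion₂.2 ⟨P, hP, hJP hxJ⟩
        rw [biUnion_associatedPrimes_eq_zero_divisors] at this
        obtain ⟨m, hm, hxm⟩ := this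
        exact hm (hx (show x • m = x • 0 by rw [smul_zero, hxm]))
      obtain ⟨P₀, hP₀⟩ := associatedPrimes.nonempty T M'
      cases post with
      | nil =>
        rw [List.append_nil] at hJe
        exfalso
        haveI := hP₀.isPrime
        obtain ⟨-, m, hm⟩ := (isAssociatedPrime_iff_exists_injective_linearMap P₀ M').1 hP₀
        apply havoid P₀ hP₀
        intro y hy
        rw [← Ideal.Quotient.eq_zero_iff_mem]
        refine hm ?_
        rw [map_zero]
        have e : (Ideal.Quotient.mk P₀ y : T ⧸ P₀) = y • (1 : T ⧸ P₀) := by
          rw [Algebra.smul_def, mul_one]; rfl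
        rw [e, map_smul]
        obtain ⟨z, hz⟩ := Submodule.Quotient.mk_surjective _ (m 1)
        rw [← hz, ← Submodule.Quotient.mk_smul, Submodule.Quotient.mk_eq_zero]
        exact Submodule.smul_mem_smul (hJe.symm ▸ hy) Submodule.mem_top
      | cons g rest =>
        let B := Ideal.ofList pre ⊔ Ideal.ofList rest
        have hJB : J = B ⊔ Ideal.span {g} := by
          rw [← hJe, Ideal.ofList_append, Ideal.ofList_cons]
          simp only [B]
          ac_rfl
        have hfin := associatedPrimes.finite T M'
        obtain ⟨e, he, hav⟩ := GrothLib.AffUnion.exists_coset_notMem B g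
          (hfin.toFinset.filter fun P => ¬ B ≤ P)
          (fun P hP => (hfin.mem_toFinset.1 (Finset.mem_filter.1 hP).1).isPrime)
          (fun P hP => (Finset.mem_filter.1 hP).2)
        have hge : ∀ P ∈ associatedPrimes T M', g + e ∉ P := by
          intro P hP hmemP
          by_cases hB : B ≤ P
          · refine havoid P hP ?_
            rw [hJB]
            refine sup_le hB ((Ideal.span_singleton_le_iff_mem _).2 ?_)
            exact (Ideal.add_mem_iff_left _ (hB he)).1 hmemP
          · exact hav P (Finset.mem_filter.2 ⟨hfin.mem_toFinset.2 hP, hB⟩) hmemP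
        refine ⟨pre ++ [g + e], rest, by simp [hk'], by simp at hlen ⊢; omega, ?_, ?_⟩
        · rw [Ideal.ofList_append, Ideal.ofList_append, Ideal.ofList_singleton, hJB]
          have : Ideal.ofList pre ⊔ Ideal.span {g + e} ⊔ Ideal.ofList rest = B ⊔ Ideal.span {g + e} := by
            simp only [B]
            ac_rfl
          rw [this]
          apply le_antisymm <;> refine sup_le le_sup_left ((Ideal.span_singleton_le_iff_mem _).2 ?_)
          · exact add_mem (Ideal.mem_sup_right (Ideal.mem_span_singleton_self g)) (Ideal.mem_sup_left he)
          · have := sub_mem (Ideal.mem_sup_right (S := B) (Ideal.mem_span_singleton_self (g + e)))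
              (Ideal.mem_sup_left (T := Ideal.span {g + e}) he)
            simpa using this
        · rw [RingTheory.Sequence.isWeaklyRegular_append_iff,
            RingTheory.Sequence.isWeaklyRegular_singleton_iff]
          refine ⟨hreg, ?_⟩
          rw [isSMulRegular_iff_right_eq_zero_of_smul]
          intro z hz
          by_contra hz0
          have : g + e ∈ ⋃ p ∈ associatedPrimes T M', (p : Set T) := by
            rw [biUnion_associatedPrimes_eq_zero_divisors]
            exact ⟨z, hz0, hz⟩
          obtain ⟨P, hP, hgP⟩ := Set.mem_iUnion₂.1 this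
          exact hge P hP hgP
  obtain ⟨pre, post, hk, hlen, hJe, hreg⟩ := key j le_rfl
  refine ⟨by omega, pre ++ post, by simpa using hlen, hJe, ?_⟩
  rw [List.take_left' hk]
  refine ⟨hreg, fun h => hJ (top_le_iff.1 (le_trans h.le ?_))⟩
  rw [smul_eq_mul, Ideal.mul_top]
  exact Ideal.span_le.2 fun r hr => hJe ▸ Ideal.subset_span (List.mem_append_left post hr)

end Groth.Agent.S17873
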