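import Groth.Statements.S17874
import Groth.Agent.Lib.CMBasics.Basic
import Groth.Agent.Lib.Depth.Local
import Groth.Agent.Lib.Depth.Reduce
import Mathlib

set_option autoImplicit false
universe u
open GRRSing

namespace Groth.Agent.S17874

open IsLocalRing RingTheory.Sequence GrothLib

/-- In a Cohen–Macaulay local ring the grade of a prime is at least its height. -/
theorem height_le_idealDepth {T : Type u} [CommRing T] [LocCoh.IsCohenMacaulayLocalRing T] (Q : Ideal T) [Q.IsPrime] :
    Q.height ≤ LocCoh.idealDepth Q T := by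
  have hM : LocCoh.IsCohenMacaulayModule T T := LocCoh.IsCohenMacaulayLocalRing.supportDim_eq_depth
  by_contra hlt
  rw [not_le] at hlt
  obtain ⟨n, hn⟩ := ENat.ne_top_iff_exists.1 (ne_top_of_lt hlt)
  obtain ⟨P, hP, hd⟩ := Depth.exists_depth_localization_le (M := T) Q n hn.symm
  have hsupp : (⟨P.asIdeal, inferInstance⟩ : PrimeSpectrum T) ∈ Module.support T T :=
    (Module.mem_support_iff).2 ((LocalizedModule.equivTensorProduct P.asIdeal.primeCompl T).trans
      (TensorProduct.AlgebraTensorModule.rid T (Localization.AtPrime P.asIdeal) (Localization.AtPrime P.asIdeal))).toEquiv.nontrivial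
  have h1 := (CMBasics.isCM_localized_and_formula hM P.asIdeal hsupp).1
  unfold LocCoh.IsCohenMacaulayModule at h1
  rw [Module.supportDim_eq_of_equiv ((LocalizedModule.equivTensorProduct P.asIdeal.primeCompl T).trans
      (TensorProduct.AlgebraTensorModule.rid T (Localization.AtPrime P.asIdeal) (Localization.AtPrime P.asIdeal))),
    Module.supportDim_self_eq_ringKrullDim, IsLocalization.AtPrime.ringKrullDim_eq_height P.asIdeal,
    WithBot.coe_inj] at h1
  have h2 : Q.height ≤ (n : ℕ∞) := (Ideal.height_mono hP).trans (h1.le.trans hd)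
  exact absurd (h2.trans hn.le) (not_le.2 hlt)

/-- Primes of height larger than the length of a regular sequence are not in an associated prime of the quotient. -/
theorem not_le_associated {T : Type u} [CommRing T] [LocCoh.IsCohenMacaulayLocalRing T] (ts : List T) (Q : Ideal T)
    [Q.IsPrime] (hmem : ∀ t ∈ ts, t ∈ Q) (hreg : IsWeaklyRegular T ts) (hQ : (ts.length : ℕ∞) < Q.height)
    (P : Ideal T) (hP : P ∈ associatedPrimes T (T ⧸ (Ideal.ofList ts • ⊤ : Submodule T T))) : ¬ Q ≤ P := by
  intro hQP
  haveI : Nontrivial (T ⧸ (Ideal.ofList ts • ⊤ : Submodule T T)) := by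
    refine Submodule.Quotient.nontrivial_iff.2 fun h => ?_
    rw [smul_eq_mul, Ideal.mul_top] at h
    exact Ideal.IsPrime.ne_top' (top_le_iff.1 (h.ge.trans (Ideal.span_le.2 hmem) : ⊤ ≤ Q))
  have h0 := (height_le_idealDepth Q)
  have h1 := Depth.idealDepth_ofList Q ts hmem T hreg
  have h2 : (1 : ℕ∞) ≤ LocCoh.idealDepth Q (T ⧸ (Ideal.ofList ts • ⊤ : Submodule T T)) := by
    rw [Order.one_le_iff_pos, pos_iff_ne_zero]
    intro h
    rw [h, zero_add] at h1
    exact absurd (hQ.trans_le (h0.trans h1.le)) (lt_irrefl _)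
  obtain ⟨x, hx, hxreg⟩ := (Depth.one_le_idealDepth_iff Ideal.IsPrime.ne_top').1 h2
  have hxP : x ∈ ⋃ p ∈ associatedPrimes T (T ⧸ (Ideal.ofList ts • ⊤ : Submodule T T)), (p : Set T) :=
    Set.mem_iUnion₂.2 ⟨P, hP, hQP hx⟩
  rw [biUnion_associatedPrimes_eq_zero_divisors] at hxP
  obtain ⟨z, hz0, hz⟩ := hxP
  exact hz0 (hxreg.right_eq_zero_of_smul hz)

/-- Exchange of a generator. -/
theorem exchange {L : Type u} [CommRing L] [IsLocalRing L] (I J : Ideal L) (r : ℕ) (g : Fin (r + 1) → L)
    (hJ : J = I ⊔ Ideal.span (Set.range g)) (t : L) (ht : t ∈ J) (htn : t ∉ I ⊔ maximalIdeal L * J) :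
    ∃ g' : Fin r → L, J = I ⊔ Ideal.span {t} ⊔ Ideal.span (Set.range g') := by
  classical
  rw [hJ] at ht
  obtain ⟨a, ha, b, hb, rfl⟩ := Submodule.mem_sup.1 ht
  obtain ⟨c, rfl⟩ := (Ideal.mem_span_range_iff_exists_fun).1 hb
  have hg : ∀ i, g i ∈ J := fun i => hJ ▸ Ideal.mem_sup_right (Ideal.subset_span ⟨i, rfl⟩)
  obtain ⟨k, hk⟩ : ∃ k, IsUnit (c k) := by
    by_contra hc
    push Not at hc
    exact htn (Submodule.add_mem_sup ha (Ideal.sum_mem _ fun i _ => Ideal.mul_mem_mul (hc i) (hg i)))
  refine ⟨g ∘ k.succAbove, le_antisymm ?_ ?_⟩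
  · rw [hJ]
    refine sup_le (le_sup_of_le_left le_sup_left) (Ideal.span_le.2 ?_)
    rintro _ ⟨i, rfl⟩
    rcases Fin.eq_self_or_eq_succAbove k i with rfl | ⟨j, rfl⟩
    · have hsum : ∑ x, c x * g x = c i * g i + ∑ x : Fin r, c (i.succAbove x) * g (i.succAbove x) :=
        Fin.sum_univ_succAbove _ _
      refine (Ideal.unit_mul_mem_iff_mem _ hk).1 ?_
      have : c i * g i = (a + ∑ x, c x * g x) - a -
          ∑ x : Fin r, c (i.succAbove x) * g (i.succAbove x) := by rw [hsum]; ring
      rw [this]
      refine sub_mem (sub_mem ?_ ?_) (Ideal.sum_mem _ fun x _ => ?_)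
      · exact Ideal.mem_sup_left (Ideal.mem_sup_right (Ideal.mem_span_singleton_self _))
      · exact Ideal.mem_sup_left (Ideal.mem_sup_left ha)
      · exact Ideal.mul_mem_left _ _ (Ideal.mem_sup_right (Ideal.subset_span ⟨x, rfl⟩))
    · exact Ideal.mem_sup_right (Ideal.subset_span ⟨j, rfl⟩)
  · refine sup_le (sup_le (hJ ▸ le_sup_left) ((Ideal.span_singleton_le_iff_mem _).2 (hJ ▸ ht))) (Ideal.span_le.2 ?_)
    rintro _ ⟨i, rfl⟩
    exact hg _

theorem spanFinrank_ofList_le {L : Type u} [CommRing L] (l : List L) :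
    Submodule.spanFinrank (Ideal.ofList l) ≤ l.length := by
  classical
  have h : {r | r ∈ l} = ↑l.toFinset := by ext; simp
  show Submodule.spanFinrank (Submodule.span L {r | r ∈ l}) ≤ _
  rw [h]
  refine le_trans (Submodule.spanFinrank_span_le_ncard_of_finite (Finset.finite_toSet _)) ?_
  rw [Set.ncard_coe_finset]
  exact l.toFinset_card_le

theorem ofList_concat {L : Type u} [CommRing L] (l : List L) (t : L) :
    Ideal.ofList (l ++ [t]) = Ideal.ofList l ⊔ Ideal.span {t} := by
  rw [Ideal.ofList_append, Ideal.ofList_singleton]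

theorem exists_good_list {T : Type u} [CommRing T] [LocCoh.IsCohenMacaulayLocalRing T] (p : Ideal T) [p.IsPrime]
    [IsRegularLocalRing (Localization.AtPrime p)] (h : ℕ) (hh : p.height = h) (j : ℕ) (hj : j ≤ h) :
    ∃ ts : List T, ts.length = j ∧ (∀ t ∈ ts, t ∈ p) ∧ IsWeaklyRegular T ts ∧
      (∃ g : Fin (Submodule.spanFinrank p - j) → T, p = Ideal.ofList ts ⊔ Ideal.span (Set.range g)) ∧
      (∃ g : Fin (h - j) → Localization.AtPrime p, maximalIdeal (Localization.AtPrime p) =
        (Ideal.ofList ts).map (algebraMap T (Localization.AtPrime p)) ⊔ Ideal.span (Set.range g)) := by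
  classical
  have hn : h ≤ Submodule.spanFinrank p := by
    have := Ideal.height_le_spanFinrank p Ideal.IsPrime.ne_top'
    rw [hh] at this
    exact_mod_cast this
  induction j with
  | zero =>
    refine ⟨[], rfl, by simp, .nil T _, ?_, ?_⟩
    · obtain ⟨s, hs, hs'⟩ := Submodule.FG.exists_span_finset_card_eq_spanFinrank (IsNoetherian.noetherian p)
      refine ⟨fun i => (s.equivFinOfCardEq hs).symm i, ?_⟩
      rw [Ideal.ofList_nil, bot_sup_eq]
      refine hs'.symm.trans (congrArg Ideal.span ?_)
      ext x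
      exact ⟨fun hx => ⟨s.equivFinOfCardEq hs ⟨x, hx⟩, by simp⟩, by rintro ⟨i, rfl⟩; exact ((s.equivFinOfCardEq hs).symm i).2⟩
    · have hr : (maximalIdeal (Localization.AtPrime p)).spanFinrank = h := by
        have h1 := IsRegularLocalRing.spanFinrank_maximalIdeal (R := Localization.AtPrime p)
        rw [IsLocalization.AtPrime.ringKrullDim_eq_height p, hh] at h1
        exact_mod_cast h1
      obtain ⟨s, hs, hs'⟩ := Submodule.FG.exists_span_finset_card_eq_spanFinrank
        (IsNoetherian.noetherian (maximalIdeal (Localization.AtPrime p)))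
      rw [hr] at hs
      refine ⟨fun i => (s.equivFinOfCardEq (hs.trans (Nat.sub_zero h).symm)).symm i, ?_⟩
      rw [Ideal.ofList_nil, Ideal.map_bot, bot_sup_eq]
      refine hs'.symm.trans (congrArg Ideal.span ?_)
      ext x
      exact ⟨fun hx => ⟨s.equivFinOfCardEq (hs.trans (Nat.sub_zero h).symm) ⟨x, hx⟩, by simp⟩,
        by rintro ⟨i, rfl⟩; exact ((s.equivFinOfCardEq (hs.trans (Nat.sub_zero h).symm)).symm i).2⟩
  | succ j ih =>
    obtain ⟨ts, hlen, hmem, hreg, ⟨g, hg⟩, ⟨g', hg'⟩⟩ := ih (by omega)
    let L := Localization.AtPrime p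
    let I := Ideal.ofList ts
    let E₁ : Ideal T := I ⊔ maximalIdeal T * p
    let E₂ : Ideal T := ((I.map (algebraMap T L)) ⊔ maximalIdeal L * maximalIdeal L).comap (algebraMap T L)
    have hmapp : p.map (algebraMap T L) = maximalIdeal L := Localization.AtPrime.map_eq_maximalIdeal
    have hE₁ : ¬ p ≤ E₁ := fun hle => by
      have h1 : p ≤ I := Submodule.le_of_le_smul_of_le_jacobson_bot (IsNoetherian.noetherian p)
        (maximalIdeal_le_jacobson _) (by rwa [smul_eq_mul])
      have h2 : p = I := le_antisymm h1 (Ideal.span_le.2 hmem)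
      have h3 := spanFinrank_ofList_le ts
      rw [show Ideal.ofList ts = p from h2.symm, hlen] at h3
      omega
    have hE₂ : ¬ p ≤ E₂ := fun hle => by
      have h1 : maximalIdeal L ≤ I.map (algebraMap T L) ⊔ maximalIdeal L • maximalIdeal L := by
        rw [smul_eq_mul]
        exact hmapp.ge.trans (Ideal.map_le_iff_le_comap.2 hle)
      have h2 : maximalIdeal L ≤ I.map (algebraMap T L) := Submodule.le_of_le_smul_of_le_jacobson_bot
        (IsNoetherian.noetherian _) (maximalIdeal_le_jacobson _) h1
      have h3 : maximalIdeal L = Ideal.ofList (ts.map (algebraMap T L)) := by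
        rw [← Ideal.map_ofList]
        exact le_antisymm h2 ((Ideal.map_mono (Ideal.span_le.2 hmem)).trans hmapp.le)
      have h4 := spanFinrank_ofList_le (ts.map (algebraMap T L))
      have h5 := IsRegularLocalRing.spanFinrank_maximalIdeal (R := L)
      rw [IsLocalization.AtPrime.ringKrullDim_eq_height p, hh] at h5
      rw [← h3, List.length_map, hlen] at h4
      have h6 : (maximalIdeal L).spanFinrank = h := by exact_mod_cast h5
      omega
    have hfin : (associatedPrimes T (T ⧸ (I • ⊤ : Submodule T T))).Finite := associatedPrimes.finite _ _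
    obtain ⟨t, htp, ht₁, ht₂, ht₃⟩ : ∃ t ∈ p, t ∉ E₁ ∧ t ∉ E₂ ∧
        ∀ P ∈ associatedPrimes T (T ⧸ (I • ⊤ : Submodule T T)), t ∉ P := by
      by_contra hc
      push Not at hc
      let ι := Option (Option ↥(associatedPrimes T (T ⧸ (I • ⊤ : Submodule T T))))
      let f : ι → Ideal T
        | none => E₁
        | some none => E₂
        | some (some P) => P.1
      haveI := hfin.fintype
      have hsub : (p : Set T) ⊆ ⋃ i ∈ (↑(Finset.univ : Finset (Option (Option ↥(associatedPrimes T (T ⧸ (I • ⊤ : Submodule T T)))))) : Set _), (f i : Set T) := by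
        intro t ht
        simp only [Finset.coe_univ, Set.mem_univ, Set.iUnion_true, Set.mem_iUnion]
        by_cases h1 : t ∈ E₁
        · exact ⟨none, h1⟩
        by_cases h2 : t ∈ E₂
        · exact ⟨some none, h2⟩
        obtain ⟨P, hP, htP⟩ := hc t ht h1 h2
        exact ⟨some (some ⟨P, hP⟩), htP⟩
      obtain ⟨i, -, hi⟩ := (Ideal.subset_union_prime none (some none) (fun i _ h1 h2 => by
        rcases i with _ | _ | P
        · exact absurd rfl h1
        · exact absurd rfl h2
        · exact P.2.isPrime)).1 hsub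
      rcases i with _ | _ | P
      · exact hE₁ hi
      · exact hE₂ hi
      · exact not_le_associated ts p hmem hreg (by rw [hlen, hh]; exact_mod_cast (show j < h by omega)) P.1 P.2 hi
    refine ⟨ts ++ [t], by simp [hlen], ?_, ?_, ?_, ?_⟩
    · simp only [List.mem_append, List.mem_singleton]; rintro x (hx | rfl)
      · exact hmem x hx
      · exact htp
    · rw [isWeaklyRegular_append_iff, isWeaklyRegular_singleton_iff]
      refine ⟨hreg, isSMulRegular_iff_right_eq_zero_of_smul.2 fun z hz => ?_⟩
      by_contra hz0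
      have : t ∈ ⋃ q ∈ associatedPrimes T (T ⧸ (I • ⊤ : Submodule T T)), (q : Set T) := by
        rw [biUnion_associatedPrimes_eq_zero_divisors]; exact ⟨z, hz0, hz⟩
      obtain ⟨P, hP, htP⟩ := Set.mem_iUnion₂.1 this
      exact ht₃ P hP htP
    · have e : (Submodule.spanFinrank p - (j + 1)) + 1 = Submodule.spanFinrank p - j := by omega
      obtain ⟨g₂, hg₂⟩ := exchange I p _ (g ∘ Fin.cast e)
        (by rw [Function.Surjective.range_comp (f := Fin.cast e) (finCongr e).surjective g]; exact hg) t htp ht₁
      exact ⟨g₂, by rw [ofList_concat]; exact hg₂⟩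
    · have e : (h - (j + 1)) + 1 = h - j := by omega
      obtain ⟨g₂, hg₂⟩ := exchange (I.map (algebraMap T L)) (maximalIdeal L) _ (g' ∘ Fin.cast e)
        (by rw [Function.Surjective.range_comp (f := Fin.cast e) (finCongr e).surjective g']; exact hg') (algebraMap T L t)
        (hmapp ▸ Ideal.mem_map_of_mem _ htp) ht₂
      refine ⟨g₂, ?_⟩
      rw [ofList_concat, Ideal.map_sup, show (Ideal.span {t}).map (algebraMap T L) = Ideal.span {algebraMap T L t} by
        rw [Ideal.map_span, Set.image_singleton]]
      exact hg₂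

theorem notMem_others {T : Type u} [CommRing T] {p : Ideal T} (l : List T) (hl : Ideal.ofList l = p)
    (hn : l.length ≤ Submodule.spanFinrank p) (i : Fin l.length) :
    l[i] ∉ Ideal.span (Set.range fun j : {j : Fin l.length // j ≠ i} => l[(j : Fin l.length)]) := by
  classical
  intro hi
  have h1 : p = Ideal.span (Set.range fun j : {j : Fin l.length // j ≠ i} => l[(j : Fin l.length)]) := by
    apply le_antisymm <;> [rw [← hl, Ideal.ofList, Ideal.span_le]; rw [Ideal.span_le]]
    · intro x hx
      obtain ⟨k, hk'⟩ := List.mem_iff_get.1 hx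
      rw [← hk']
      by_cases hk : k = i
      · subst hk; exact hi
      · exact Ideal.subset_span ⟨⟨k, hk⟩, rfl⟩
    · rintro _ ⟨j, rfl⟩
      rw [← hl]
      exact Ideal.subset_span (List.getElem_mem _)
  have h2 : Submodule.spanFinrank p ≤ (Set.range fun j : {j : Fin l.length // j ≠ i} => l[(j : Fin l.length)]).ncard := by
    rw [h1]
    exact Submodule.spanFinrank_span_le_ncard_of_finite (Set.finite_range _)
  have h3 : (Set.range fun j : {j : Fin l.length // j ≠ i} => l[(j : Fin l.length)]).ncard ≤ l.length - 1 := by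
    rw [← Nat.card_coe_set_eq]
    refine (Finite.card_range_le _).trans ?_
    rw [Nat.card_eq_fintype_card, Fintype.card_subtype_compl, Fintype.card_fin, Fintype.card_subtype_eq]
  have := i.2
  omega



/-- Let T be a Cohen–Macaulay Noetherian local ring and p a prime ideal of T whose minimal number of
generators is at most height(p) + 1, and assume the localization T_p is a regular local ring. In
that case some d-sequence generates p: there is a list of elements generating p, no member of which
lies in the ideal of the others, and such that for all positions i ≤ k the colon ideals ((t_1, …,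
t_{i-1}) : t_k t_i) and ((t_1, …, t_{i-1}) : t_k) coincide. -/
theorem result {T : Type u} [CommRing T] [LocCoh.IsCohenMacaulayLocalRing T]
    (p : Ideal T) [p.IsPrime] (hgen : (Submodule.spanFinrank p : ℕ∞) ≤ p.height + 1)
    [IsRegularLocalRing (Localization.AtPrime p)] :
    ∃ ts : List T, Ideal.ofList ts = p ∧ W4c5grrsingularflat.IsDSeq ts := by
  classical
  obtain ⟨h, hh⟩ := ENat.ne_top_iff_exists.1 (Ideal.height_ne_top (I := p) Ideal.IsPrime.ne_top')
  obtain ⟨ts, hlen, hmem, hreg, ⟨g, hg⟩, ⟨g', hg'⟩⟩ := exists_good_list p h hh.symm h le_rfl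
  have hle : Submodule.spanFinrank p ≤ h + 1 := by rw [← hh] at hgen; exact_mod_cast hgen
  have hge : h ≤ Submodule.spanFinrank p := by
    have := Ideal.height_le_spanFinrank p Ideal.IsPrime.ne_top'
    rw [← hh] at this; exact_mod_cast this
  obtain ⟨extra, hlenE, hp⟩ : ∃ extra : List T, ts.length + extra.length = Submodule.spanFinrank p ∧
      Ideal.ofList (ts ++ extra) = p := by
    refine ⟨List.ofFn g, by simp [hlen]; omega, ?_⟩
    rw [Ideal.ofList_append]
    conv_rhs => rw [hg]
    simp only [Ideal.ofList, List.mem_ofFn]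
    rfl
  have hE : extra.length ≤ 1 := by omega
  refine ⟨ts ++ extra, hp, notMem_others _ hp (by simp; omega), fun i k hk hik => ?_⟩
  refine le_antisymm (fun x hx => ?_) (fun x hx => ?_)
  swap
  · rw [Submodule.mem_colon_singleton] at hx ⊢
    rw [smul_eq_mul] at hx ⊢
    rw [← mul_assoc]; exact Ideal.mul_mem_right _ _ hx
  rw [Submodule.mem_colon_singleton, smul_eq_mul] at hx ⊢
  generalize hz : x * (ts ++ extra)[k] = z
  rw [← mul_assoc, hz] at hx
  have hk' : k < ts.length + extra.length := by simpa using hk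
  rcases Nat.lt_or_ge i ts.length with hi | hi
  · rw [List.take_append_of_le_length hi.le] at hx ⊢
    rw [List.getElem_append_left hi] at hx
    have hr := hreg.regular_mod_prev i hi
    rw [isSMulRegular_quotient_iff_mem_of_smul_mem] at hr
    have e : (Ideal.ofList (List.take i ts) • ⊤ : Submodule T T) = Ideal.ofList (List.take i ts) := by
      rw [smul_eq_mul, Ideal.mul_top]
    rw [e] at hr
    exact hr z (by rwa [smul_eq_mul, mul_comm])
  · obtain rfl : i = ts.length := by omega
    obtain rfl : k = ts.length := by omega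
    rw [List.take_left'] at hx ⊢
    rotate_left
    · rfl
    · rfl
    obtain ⟨y, rfl⟩ : ∃ y, extra = [y] := List.length_eq_one_iff.1 (by omega)
    simp only [List.getElem_append_right (le_refl ts.length), Nat.sub_self, List.getElem_singleton] at hz hx
    subst hz
    have hyp : y ∈ p := hp ▸ Ideal.subset_span (by simp)
    obtain ⟨s, hs, hsy⟩ : ∃ s ∉ p, s * y ∈ Ideal.ofList ts := by
      have h1 : algebraMap T (Localization.AtPrime p) y ∈ (Ideal.ofList ts).map (algebraMap T (Localization.AtPrime p)) := by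
        have h2 : algebraMap T (Localization.AtPrime p) y ∈ IsLocalRing.maximalIdeal (Localization.AtPrime p) :=
          Localization.AtPrime.map_eq_maximalIdeal (I := p) ▸ Ideal.mem_map_of_mem _ hyp
        rw [hg', show Set.range g' = ∅ by
          haveI : IsEmpty (Fin (h - h)) := by rw [Nat.sub_self]; infer_instance
          exact Set.range_eq_empty g', Ideal.span_empty, sup_bot_eq] at h2
        exact h2
      obtain ⟨⟨⟨a, ha⟩, ⟨s, hs⟩⟩, e⟩ := (IsLocalization.mem_map_algebraMap_iff p.primeCompl _).1 h1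
      obtain ⟨⟨c, hc⟩, e'⟩ := (IsLocalization.eq_iff_exists p.primeCompl _).1 (show algebraMap T (Localization.AtPrime p) (y * s) = algebraMap T _ a by rw [map_mul]; exact e)
      refine ⟨c * s, fun hcs => (Ideal.IsPrime.mem_or_mem ‹_› hcs).elim hc hs, ?_⟩
      simp only at e'
      rw [mul_assoc, mul_comm s y, e']
      exact Ideal.mul_mem_left _ _ ha
    by_contra hxy
    let N : Submodule T T := Ideal.ofList ts • ⊤
    have eN : N = Ideal.ofList ts := by simp [N]
    have hz0 : N.mkQ (x * y) ≠ 0 := by
      rw [Submodule.mkQ_apply, Ne, Submodule.Quotient.mk_eq_zero, eN]; exact hxy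
    obtain ⟨P, hP, hle⟩ := exists_le_isAssociatedPrime_of_isNoetherianRing T (N.mkQ (x * y)) hz0
    have hann : ∀ r, r * (x * y) ∈ Ideal.ofList ts → r ∈ P := fun r hr => hle (by
      rw [Submodule.mem_colon_singleton, ← map_smul, Submodule.mkQ_apply, Submodule.mem_bot,
        Submodule.Quotient.mk_eq_zero, eN, smul_eq_mul]
      exact hr)
    haveI := hP.isPrime
    have hKP : Ideal.ofList ts ≤ P := fun r hr => hann r (Ideal.mul_mem_right _ _ hr)
    have hpP : p ≤ P := by
      rw [← hp, Ideal.ofList_append, Ideal.ofList_singleton]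
      refine sup_le hKP ((Ideal.span_singleton_le_iff_mem _).2 (hann y ?_))
      rwa [mul_comm]
    have hlt : p < P := lt_of_le_of_ne hpP fun e => hs (e ▸ hann s (by
      rw [mul_left_comm]; exact Ideal.mul_mem_left _ _ hsy))
    refine not_le_associated ts P (fun t ht => hKP (Ideal.subset_span ht)) hreg ?_ P hP le_rfl
    rw [hlen, hh]
    exact Ideal.height_strict_mono_of_isPrime hlt


end Groth.Agent.S17874
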