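import Groth.Statements.S17875
-- import your own Groth.Agent.* helpers here
import Mathlib.RingTheory.Polynomial.Pochhammer
import Mathlib.Tactic.FieldSimp
import Mathlib.Data.Nat.Choose.Cast

set_option autoImplicit false
universe u
open Polynomial
open GRRSing

namespace Groth.Agent.S17875

/-- Let R be a commutative ℚ-algebra, r an element of R and δ a natural number with (r - 1) ^ (δ + 1) =
0. Write s(k, j) for the signed Stirling numbers of the first kind, the coefficients of x (x - 1) ⋯
(x - k + 1) = Σ_j s(k, j) x ^ j. Then (i) for every natural number n, r ^ n = Σ_{k ≤ δ} [n (n - 1) ⋯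
(n - k + 1) / k!] (r - 1) ^ k; and (ii) in the polynomial ring R[x], Σ_{k ≤ δ} [x (x - 1) ⋯ (x - k +
1) / k!] (r - 1) ^ k = Σ_{j ≤ δ} [Σ_{k ≤ δ} Σ_{u ≤ k} (-1) ^ (k - u) s(k, j) / (u! (k - u)!) · r ^
u] x ^ j. -/
theorem result {R : Type u} [CommRing R] [Algebra ℚ R]
    (r : R) (δ : ℕ) (hr : (r - 1) ^ (δ + 1) = 0) :
    (∀ n : ℕ, r ^ n = ∑ k ∈ Finset.range (δ + 1), ((descPochhammer ℚ k).eval (n : ℚ) / (k.factorial : ℚ)) • (r - 1) ^ k) ∧
    (∑ k ∈ Finset.range (δ + 1), ((k.factorial : ℚ)⁻¹ • (descPochhammer R k * Polynomial.C ((r - 1) ^ k))) =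
      ∑ j ∈ Finset.range (δ + 1), Polynomial.C (∑ k ∈ Finset.range (δ + 1), ∑ u ∈ Finset.range (k + 1),
        (((-1 : ℚ) ^ (k - u) * (((descPochhammer ℤ k).coeff j : ℤ) : ℚ)) / ((u.factorial * (k - u).factorial : ℕ) : ℚ)) • r ^ u) * Polynomial.X ^ j) := by
  refine ⟨fun n => ?_, ?_⟩
  · have hcoef : ∀ k : ℕ, (descPochhammer ℚ k).eval (n : ℚ) / (k.factorial : ℚ) = (n.choose k : ℚ) := by
      intro k
      rw [descPochhammer_eval_eq_descFactorial, Nat.descFactorial_eq_factorial_mul_choose,
        Nat.cast_mul, mul_div_cancel_left₀ _ (Nat.cast_ne_zero.2 k.factorial_ne_zero)]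
    simp only [hcoef]
    have hcast : ∀ (m : ℕ) (x : R), ((m : ℚ) • x) = (m : R) * x := fun m x => by
      rw [Nat.cast_smul_eq_nsmul, nsmul_eq_mul]
    simp only [hcast]
    have h := add_pow (r - 1) 1 n
    rw [sub_add_cancel] at h
    simp only [one_pow, mul_one] at h
    rw [h]
    have e1 : ∑ k ∈ Finset.range (n + 1), (r - 1) ^ k * (n.choose k : R) =
        ∑ k ∈ Finset.range (n + 1 + (δ + 1)), (r - 1) ^ k * (n.choose k : R) := by
      refine Finset.sum_subset (Finset.range_mono (by omega)) fun k _ hk => ?_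
      rw [Finset.mem_range, not_lt] at hk
      rw [Nat.choose_eq_zero_of_lt (by omega), Nat.cast_zero, mul_zero]
    have e2 : ∑ k ∈ Finset.range (δ + 1), (n.choose k : R) * (r - 1) ^ k =
        ∑ k ∈ Finset.range (n + 1 + (δ + 1)), (n.choose k : R) * (r - 1) ^ k := by
      refine Finset.sum_subset (Finset.range_mono (by omega)) fun k _ hk => ?_
      rw [Finset.mem_range, not_lt] at hk
      rw [show k = (δ + 1) + (k - (δ + 1)) from by omega, pow_add, hr, zero_mul, mul_zero]
    rw [e1, e2]
    exact Finset.sum_congr rfl fun k _ => mul_comm _ _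
  · ext j
    simp only [Polynomial.finsetSum_coeff, Polynomial.coeff_smul, Polynomial.coeff_mul_C,
      Polynomial.coeff_C_mul_X_pow]
    have hdesc : ∀ k, (descPochhammer R k).coeff j = (((descPochhammer ℤ k).coeff j : ℤ) : R) := fun k => by
      rw [← descPochhammer_map (Int.castRingHom R) k, Polynomial.coeff_map]
      rfl
    simp only [hdesc]
    rw [Finset.sum_ite_eq]
    split_ifs with hj
    · refine Finset.sum_congr rfl fun k _ => ?_
      rw [sub_eq_add_neg r 1, add_pow, Finset.mul_sum, Finset.smul_sum]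
      refine Finset.sum_congr rfl fun u hu => ?_
      rw [Finset.mem_range] at hu
      have hc : ((k.choose u : ℚ)) = (k.factorial : ℚ) / ((u.factorial : ℚ) * ((k - u).factorial : ℚ)) := by
        rw [Nat.cast_choose ℚ (by omega : u ≤ k)]
      simp only [Algebra.smul_def, ← map_intCast (algebraMap ℚ R), ← map_natCast (algebraMap ℚ R)]
      rw [show ((-1 : R) ^ (k - u)) = algebraMap ℚ R ((-1) ^ (k - u)) from by simp,
        hc]
      have hk0 : (k.factorial : ℚ) ≠ 0 := Nat.cast_ne_zero.2 k.factorial_ne_zero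
      have key : ((k.factorial : ℚ))⁻¹ * (((descPochhammer ℤ k).coeff j : ℚ) * ((-1) ^ (k - u) * ((k.factorial : ℚ) / ((u.factorial : ℚ) * ((k - u).factorial : ℚ))))) =
          (-1) ^ (k - u) * ((descPochhammer ℤ k).coeff j : ℚ) / ((u.factorial * (k - u).factorial : ℕ) : ℚ) := by
        push_cast
        field_simp
      rw [← key]
      simp only [map_mul]
      ring
    · refine Finset.sum_eq_zero fun k hk => ?_
      rw [Finset.mem_range] at hk hj
      have hdeg : (descPochhammer ℤ k).natDegree < j := by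
        rw [descPochhammer_natDegree]; omega
      rw [Polynomial.coeff_eq_zero_of_natDegree_lt hdeg]
      simp

end Groth.Agent.S17875
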