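import Groth.Statements.S17876
-- import your own Groth.Agent.* helpers here
import Groth.Agent.Lib.K0Sub.RankNilp

set_option autoImplicit false
universe u
open CategoryTheory CategoryTheory.Limits AlgebraicGeometry
attribute [local instance] HasDerivedCategory.standard
open GRRSing

namespace Groth.Agent.S17876

/-- Let W be a Noetherian scheme and V a finite locally free O_W-module of constant rank r. Tensoring
with V is exact and preserves coherence (carried here as hypotheses), so it induces an endomorphism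
[V] ⊗ (−) of K_0(Coh W), the Grothendieck group of coherent O_W-modules. Then [V] ⊗ (−) − r · id is
a nilpotent endomorphism of K_0(Coh W): some iterate of it vanishes identically. (Equivalently:
rk(V) − V is nilpotent in the quotient of K^0(W) by the annihilator of K_0(W).) -/
theorem result {W : Scheme.{u}} [IsNoetherian W] (r : ℕ) (V : W.Modules)
    (hV : FlatMod.IsFinLocFreeOfRank r V)
    [((DCoh.tensorBi (X := W)).obj V).Additive] [PreservesFiniteLimits ((DCoh.tensorBi (X := W)).obj V)]
    [PreservesFiniteColimits ((DCoh.tensorBi (X := W)).obj V)]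
    (hVc : ∀ M : W.Modules, Coh.IsCoh M → Coh.IsCoh (((DCoh.tensorBi (X := W)).obj V).obj M)) :
    ∃ n : ℕ, ∀ y : SGA6.Kcoh W,
      (⇑(SGA6.mapSub ((DCoh.tensorBi (X := W)).obj V) (fun M : W.Modules => Coh.IsCoh M) (fun M : W.Modules => Coh.IsCoh M) hVc -
        r • AddMonoidHom.id (SGA6.Kcoh W)))^[n] y = 0 := by
  classical
  let Δ : AddMonoid.End (SGA6.Kcoh W) :=
    SGA6.mapSub ((DCoh.tensorBi (X := W)).obj V) (fun M : W.Modules => Coh.IsCoh M) (fun M : W.Modules => Coh.IsCoh M) hVc -
      r • AddMonoidHom.id (SGA6.Kcoh W)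
  choose U hxU hU using hV
  obtain ⟨t, ht⟩ := isCompact_univ.elim_finite_subcover (fun x => (U x : Set W)) (fun x => (U x).isOpen)
    fun x _ => Set.mem_iUnion.2 ⟨x, hxU x⟩
  have hstep : ∀ (x : W) (T : Set W), GrothLib.K0Sub.classesIn T ≤
      (GrothLib.K0Sub.classesIn (T ∩ (U x : Set W)ᶜ)).comap Δ := by
    intro x T
    refine (AddSubgroup.closure_le _).2 ?_
    rintro _ ⟨M, hM, hMT, rfl⟩
    change Δ _ ∈ GrothLib.K0Sub.classesIn _
    obtain ⟨e⟩ := hU x
    have h := GrothLib.K0Sub.rank_tensor_sub_mem (U x) (fun y => ⟨U y, hxU y, hU y⟩) e hM hMT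
    rw [show GrothLib.Euler.tF V = (DCoh.tensorBi (X := W)).flip.obj V from rfl,
      GrothLib.K0Sub.clSub_coh_iso ((GrothLib.OX.tensorBraiding (X := W)).app V |>.app M)] at h
    refine (?_ : _ = Δ (KZero.clSub (fun M : W.Modules => Coh.IsCoh M) M)) ▸ h
    exact congrArg (· - r • KZero.clSub (fun M : W.Modules => Coh.IsCoh M) M)
      (GrothLib.K0Sub.mapSub_clSub _ _ hVc hM).symm
  have hind : ∀ (s : Finset W) (T : Set W), T ⊆ ⋃ x ∈ s, (U x : Set W) →
      ∃ n : ℕ, ∀ y ∈ GrothLib.K0Sub.classesIn T, (⇑Δ)^[n] y = 0 := by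
    intro s
    induction s using Finset.induction_on with
    | empty =>
      intro T hT
      refine ⟨0, fun y hy => ?_⟩
      obtain rfl : T = ∅ := Set.subset_empty_iff.1 (by simpa using hT)
      rwa [GrothLib.K0Sub.classesIn_empty, AddSubgroup.mem_bot] at hy
    | insert a s ha ih =>
      intro T hT
      obtain ⟨n, hn⟩ := ih (T ∩ (U a : Set W)ᶜ) fun z hz => by
        have := hT hz.1
        rw [Finset.set_biUnion_insert] at this
        exact this.resolve_left hz.2
      refine ⟨n + 1, fun y hy => ?_⟩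
      rw [Function.iterate_succ_apply]
      exact hn _ (hstep a T hy)
  obtain ⟨n, hn⟩ := hind t Set.univ ht
  refine ⟨n, fun y => hn y ?_⟩
  have h0 : QuotientAddGroup.mk' (GrothLib.K0Sub.classesIn (Set.univ : Set W)) = 0 :=
    GrothLib.K0Sub.hom_ext fun M hM => (QuotientAddGroup.eq_zero_iff _).2
      (GrothLib.K0Sub.clSub_mem_classesIn hM (Set.subset_univ _))
  exact (QuotientAddGroup.eq_zero_iff y).1 (DFunLike.congr_fun h0 y)

end Groth.Agent.S17876
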