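import Groth.Statements.S17877
-- import your own Groth.Agent.* helpers here
import Groth.Agent.Lib.Dim.Ring
import Mathlib.RingTheory.Kaehler.TensorProduct
import Mathlib.RingTheory.Etale.Kaehler
import Mathlib.RingTheory.FiniteStability
import Mathlib.RingTheory.LocalRing.ResidueField.Ideal
import Mathlib.RingTheory.Jacobson.Ring
import Mathlib.FieldTheory.IsAlgClosed.AlgebraicClosure

set_option autoImplicit false
universe u
open GRRSing

open TensorProduct IsLocalRing

namespace GrothAux.S17877

theorem finrank_le_cotangent (k R : Type u) [Field k] [CommRing R] [IsLocalRing R] [IsNoetherianRing R] [Algebra k R]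
    (h : Function.Surjective (algebraMap k (ResidueField R))) :
    Module.finrank (ResidueField R) (ResidueField R ⊗[R] KaehlerDifferential k R) ≤
      Module.finrank (ResidueField R) (CotangentSpace R) := by
  haveI : Subsingleton (KaehlerDifferential k (ResidueField R)) := by
    refine subsingleton_of_forall_eq 0 fun w => ?_
    have hw : w ∈ Submodule.span (ResidueField R) (Set.range (KaehlerDifferential.D k (ResidueField R))) := by
      rw [KaehlerDifferential.span_range_derivation]; trivial
    induction hw using Submodule.span_induction with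
    | mem x hx =>
      obtain ⟨y, rfl⟩ := hx
      obtain ⟨c, rfl⟩ := h y
      exact Derivation.map_algebraMap _ c
    | zero => rfl
    | add x y _ _ hx hy => rw [hx, hy, add_zero]
    | smul c x _ hx => rw [hx, smul_zero]
  have hsurj : Function.Surjective (KaehlerDifferential.kerCotangentToTensor k R (ResidueField R)) := fun z =>
    (KaehlerDifferential.exact_kerCotangentToTensor_mapBaseChange k R (ResidueField R) residue_surjective z).1
      (Subsingleton.elim _ _)
  have key : ∀ (J : Ideal R), J = maximalIdeal R → ∀ φ : J.Cotangent →ₗ[R] ResidueField R ⊗[R] KaehlerDifferential k R,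
      Function.Surjective φ →
      Module.finrank (ResidueField R) (ResidueField R ⊗[R] KaehlerDifferential k R) ≤
        Module.finrank (ResidueField R) (CotangentSpace R) := by
    rintro J rfl φ hφ
    haveI : Module.Finite (ResidueField R) (CotangentSpace R) := inferInstance
    let ψ : CotangentSpace R →ₗ[ResidueField R] ResidueField R ⊗[R] KaehlerDifferential k R :=
      { φ with
        map_smul' := fun c w => by
          obtain ⟨c, rfl⟩ := residue_surjective c
          exact (φ.map_smul c w).trans (algebraMap_smul (ResidueField R) c (φ w)).symm }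
    exact LinearMap.finrank_le_finrank_of_surjective (f := ψ) hφ
  exact key _ ker_residue _ hsurj

end GrothAux.S17877

namespace Groth.Agent.S17877

/-- Let K be a field with algebraic closure K̄ and Z = Spec A an affine scheme of finite type over K of
dimension d whose geometric fibre Spec (K̄ ⊗_K A) is integral with at most hypersurface
singularities (at every prime the embedding dimension of the local ring, the dimension of 𝔪/𝔪² over
the residue field, is at most the height of the prime plus one). Then for every prime p of A the
(Ω_{A/K})_p is generated over A_p by at most d + 1 elements. (The published statement is for any Z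
of finite type over K; the assertion is local on Z and the hypotheses pass to affine opens.) -/
theorem result
    {K : Type u} [Field K] {A : Type u} [CommRing A] [Algebra K A] [Algebra.FiniteType K A]
    [IsDomain (TensorProduct K (AlgebraicClosure K) A)]
    (hhyp : ∀ (q : Ideal (TensorProduct K (AlgebraicClosure K) A)) [q.IsPrime],
      (Module.finrank (IsLocalRing.ResidueField (Localization.AtPrime q))
          (IsLocalRing.CotangentSpace (Localization.AtPrime q)) : ℕ∞) ≤ q.height + 1)
    (d : ℕ) (hd : ringKrullDim A = d) (p : Ideal A) [p.IsPrime] :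
    ∃ s : Finset (LocalizedModule p.primeCompl (KaehlerDifferential K A)),
      s.card ≤ d + 1 ∧ Submodule.span (Localization.AtPrime p) (s : Set (LocalizedModule p.primeCompl (KaehlerDifferential K A))) = ⊤ := by
  open scoped TensorProduct in
  classical
  let Kb := AlgebraicClosure K
  letI : Algebra A (Kb ⊗[K] A) := Algebra.TensorProduct.rightAlgebra
  haveI : Algebra.IsPushout K Kb A (Kb ⊗[K] A) := inferInstance
  haveI : Algebra.IsIntegral A (Kb ⊗[K] A) := ⟨fun w => by
    induction w using TensorProduct.induction_on with
    | zero => exact isIntegral_zero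
    | tmul c a =>
      have h1 : c ⊗ₜ[K] a = (c ⊗ₜ[K] (1 : A)) * algebraMap A (Kb ⊗[K] A) a := by
        rw [Algebra.TensorProduct.right_algebraMap_apply, Algebra.TensorProduct.tmul_mul_tmul, mul_one, one_mul]
      rw [h1]
      refine IsIntegral.mul ?_ isIntegral_algebraMap
      exact ((Algebra.IsIntegral.isIntegral (R := K) c).map (Algebra.TensorProduct.includeLeft : Kb →ₐ[K] Kb ⊗[K] A)).tower_top
    | add x y hx hy => exact hx.add hy⟩
  obtain ⟨m, hm, hpm⟩ := Ideal.exists_le_maximal p (Ideal.IsPrime.ne_top ‹_›)
  have hinj : Function.Injective (algebraMap A (Kb ⊗[K] A)) :=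
    Algebra.TensorProduct.includeRight_injective (algebraMap K Kb).injective
  obtain ⟨q, hq, hqm⟩ := Ideal.exists_ideal_over_maximal_of_isIntegral (S := Kb ⊗[K] A) m
    (by rw [(RingHom.injective_iff_ker_eq_bot _).1 hinj]; exact bot_le)
  haveI : q.IsPrime := hq.isPrime
  haveI : Algebra.FiniteType Kb (Kb ⊗[K] A) := inferInstance
  haveI : IsNoetherianRing (Kb ⊗[K] A) := Algebra.FiniteType.isNoetherianRing Kb _
  have hκ : Function.Surjective (algebraMap Kb q.ResidueField) := by
    letI := Ideal.Quotient.field q
    haveI : Module.Finite Kb ((Kb ⊗[K] A) ⧸ q) := finite_of_finite_type_of_isJacobsonRing Kb _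
    have h1 : Function.Bijective (algebraMap Kb ((Kb ⊗[K] A) ⧸ q)) := IsAlgClosed.algebraMap_bijective_of_isIntegral
    exact (q.bijective_algebraMap_quotient_residueField.2.comp h1.2)
  have h3 : Module.finrank q.ResidueField (q.ResidueField ⊗[Kb ⊗[K] A] KaehlerDifferential Kb (Kb ⊗[K] A)) ≤ d + 1 := by
    let Bq := Localization.AtPrime q
    letI : Algebra Bq q.ResidueField := inferInstanceAs (Algebra Bq (IsLocalRing.ResidueField Bq))
    haveI : IsScalarTower (Kb ⊗[K] A) Bq q.ResidueField := .of_algebraMap_eq fun _ => rfl
    let f := KaehlerDifferential.map Kb Kb (Kb ⊗[K] A) Bq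
    have hf : IsBaseChange Bq f :=
      (isLocalizedModule_iff_isBaseChange q.primeCompl Bq f).1 inferInstance
    have hc := hf.comp (TensorProduct.isBaseChange Bq (KaehlerDifferential Kb Bq) q.ResidueField)
    rw [hc.equiv.finrank_eq]
    refine (GrothAux.S17877.finrank_le_cotangent Kb Bq hκ).trans ?_
    have h1 := hhyp q
    have h2 : q.height ≤ (d : ℕ∞) := by
      have h4 := (Ideal.height_le_ringKrullDim_of_ne_top (I := q) (Ideal.IsPrime.ne_top ‹_›)).trans
        (GrothLib.Dim.ringKrullDim_le_of_isIntegral A (Kb ⊗[K] A))
      rw [hd] at h4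
      exact_mod_cast h4
    exact_mod_cast h1.trans (add_le_add h2 le_rfl)
  have h4 : Module.finrank q.ResidueField (q.ResidueField ⊗[A] KaehlerDifferential K A) ≤ d + 1 := by
    refine le_of_eq_of_le ?_ h3
    exact ((TensorProduct.AlgebraTensorModule.cancelBaseChange A (Kb ⊗[K] A) q.ResidueField q.ResidueField
      (KaehlerDifferential K A)).symm.trans
      (TensorProduct.AlgebraTensorModule.congr (LinearEquiv.refl q.ResidueField q.ResidueField)
        (KaehlerDifferential.tensorKaehlerEquiv K Kb A (Kb ⊗[K] A)))).finrank_eq
  letI := Ideal.Quotient.field m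
  let g : (A ⧸ m) →+* q.ResidueField := Ideal.Quotient.lift m (algebraMap A q.ResidueField) (fun a ha => by
    rw [IsScalarTower.algebraMap_apply A (Kb ⊗[K] A) q.ResidueField, Ideal.algebraMap_residueField_eq_zero]
    rw [← hqm] at ha
    exact ha)
  letI : Algebra (A ⧸ m) q.ResidueField := g.toAlgebra
  haveI : IsScalarTower A (A ⧸ m) q.ResidueField := .of_algebraMap_eq fun _ => rfl
  have h5 : Module.finrank (A ⧸ m) ((A ⧸ m) ⊗[A] KaehlerDifferential K A) ≤ d + 1 := by
    refine le_of_eq_of_le ?_ h4
    exact (Module.finrank_baseChange (R := q.ResidueField)).symm.trans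
      (TensorProduct.AlgebraTensorModule.cancelBaseChange A (A ⧸ m) q.ResidueField q.ResidueField
      (KaehlerDifferential K A)).finrank_eq
  let W := (A ⧸ m) ⊗[A] KaehlerDifferential K A
  have hsurj : Function.Surjective (TensorProduct.mk A (A ⧸ m) (KaehlerDifferential K A) 1) :=
    TensorProduct.mk_surjective A _ _ Ideal.Quotient.mk_surjective
  choose b hb using fun i => hsurj (Module.finBasis (A ⧸ m) W i)
  let N := Submodule.span A (Set.range b)
  have htop : (⊤ : Submodule A (KaehlerDifferential K A ⧸ N)) ≤ m • ⊤ := by
    intro w _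
    obtain ⟨w, rfl⟩ := N.mkQ_surjective w
    have h1 : (1 : A ⧸ m) ⊗ₜ[A] w ∈ N.map (TensorProduct.mk A (A ⧸ m) (KaehlerDifferential K A) 1) := by
      rw [Submodule.map_span, ← Set.range_comp]
      have h2 : (1 : A ⧸ m) ⊗ₜ[A] w ∈ (Submodule.span (A ⧸ m) (Set.range (Module.finBasis (A ⧸ m) W))).restrictScalars A := by
        rw [(Module.finBasis (A ⧸ m) W).span_eq]; trivial
      rw [Submodule.restrictScalars_span A (A ⧸ m) Ideal.Quotient.mk_surjective] at h2
      exact (show (TensorProduct.mk A (A ⧸ m) (KaehlerDifferential K A) 1) ∘ b = Module.finBasis (A ⧸ m) W from funext hb).symm ▸ h2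
    obtain ⟨v, hv, hvw⟩ := h1
    have h6 : w - v ∈ m • (⊤ : Submodule A (KaehlerDifferential K A)) := by
      have h7 : (TensorProduct.mk A (A ⧸ m) (KaehlerDifferential K A) 1) (w - v) = 0 := by
        rw [map_sub, hvw]; exact sub_self _
      have h8 := congrArg (TensorProduct.quotTensorEquivQuotSMul (KaehlerDifferential K A) m) h7
      rw [map_zero, TensorProduct.mk_apply, ← map_one (Ideal.Quotient.mk m), TensorProduct.quotTensorEquivQuotSMul_mk_tmul,
        one_smul, Submodule.Quotient.mk_eq_zero] at h8
      exact h8
    have h9 := Submodule.mem_map_of_mem (f := N.mkQ) h6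
    rw [Submodule.map_smul'', Submodule.map_top, Submodule.range_mkQ, map_sub,
      show N.mkQ v = 0 from (Submodule.Quotient.mk_eq_zero N).2 hv, sub_zero] at h9
    exact h9
  obtain ⟨r, hr1, hr0⟩ := Submodule.exists_sub_one_mem_and_smul_eq_zero_of_fg_of_le_smul m ⊤ Module.Finite.fg_top htop
  have hrp : r ∈ p.primeCompl := fun hrp => hm.ne_top ((Ideal.eq_top_iff_one m).2 (by
    simpa using m.sub_mem (hpm hrp) hr1))
  refine ⟨Finset.univ.image fun i => LocalizedModule.mkLinearMap p.primeCompl _ (b i),
    (Finset.card_image_le).trans (by simpa using h5), ?_⟩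
  rw [eq_top_iff, Finset.coe_image, Finset.coe_univ, Set.image_univ]
  intro z _
  induction z using LocalizedModule.induction_on with
  | h w s =>
    set T := Submodule.span (Localization.AtPrime p) (Set.range fun i => LocalizedModule.mkLinearMap p.primeCompl _ (b i))
    have hrw : r • w ∈ N := by
      rw [← Submodule.Quotient.mk_eq_zero, Submodule.Quotient.mk_smul]
      exact hr0 _ trivial
    have hN : N.map (LocalizedModule.mkLinearMap p.primeCompl _) ≤ T.restrictScalars A := by
      rw [Submodule.map_span, Submodule.span_le, ← Set.range_comp]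
      exact fun x hx => Submodule.subset_span hx
    have h10 : LocalizedModule.mk (r • w) 1 ∈ T := hN ⟨_, hrw, rfl⟩
    have h11 : LocalizedModule.mk w s = Localization.mk (1 : A) (⟨r, hrp⟩ * s) • LocalizedModule.mk (r • w) 1 := by
      rw [LocalizedModule.mk_smul_mk, one_smul, mul_one, LocalizedModule.mk_eq]
      exact ⟨1, by simp [Submonoid.smul_def, smul_smul, mul_comm]⟩
    rw [h11]
    exact T.smul_mem _ h10

end Groth.Agent.S17877
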