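import Groth.Statements.S17878
-- import your own Groth.Agent.* helpers here
import Mathlib.Analysis.SpecificLimits.Normed
import Mathlib.Algebra.Polynomial.Eval.Degree
import Mathlib.Algebra.BigOperators.Field
import Mathlib.Data.Nat.Choose.Cast
import Mathlib.Tactic

set_option autoImplicit false
universe u
open Filter Topology
open GRRSing

namespace Groth.Agent.S17878

/-- Let T be a nonzero commutative normed ℂ-algebra such that the map ℂ → T/nilradical(T) is surjective,
let P = Σ_j d_j x ^ j be a polynomial over T and put h_k = P(k). Let E_0, E_1, … be the rational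
numbers with 2/(e^t + 1) = Σ_j E_j t ^ j / j! (so E_0 = 1, E_1 = -1/2). Then for every complex y
with |y| < 1 the series Σ_k h_k y ^ k converges in T, and as y → -1 along real y in (-1, 1) its sum
tends to (1/2) Σ_j E_j d_j. (The published statement allows any norm topology on T as a complex
vector space; this row takes T a normed ℂ-algebra.) -/
theorem result {T : Type u} [NormedCommRing T] [NormedAlgebra ℂ T] [Nontrivial T]
    (hT : Function.Surjective (algebraMap ℂ (T ⧸ nilradical T)))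
    (E : ℕ → ℚ) (hE : PowerSeries.mk (fun j => E j / (j.factorial : ℚ)) * (PowerSeries.exp ℚ + 1) = 2)
    (P : Polynomial T) :
    (∀ y : ℂ, ‖y‖ < 1 → Summable (fun k : ℕ => y ^ k • P.eval (k : T))) ∧
    Tendsto (fun y : ℝ => ∑' k : ℕ, ((y : ℂ) ^ k) • P.eval (k : T)) (𝓝[Set.Ioo (-1 : ℝ) 1] (-1 : ℝ))
      (𝓝 ((2 : ℂ)⁻¹ • ∑ j ∈ Finset.range (P.natDegree + 1), ((E j : ℚ) : ℂ) • P.coeff j)) := by
  classical
  let f : ℕ → ℂ → ℂ := fun j y => ∑' k : ℕ, (k : ℂ) ^ j * y ^ k
  have hsum : ∀ (j : ℕ) (y : ℂ), ‖y‖ < 1 → Summable (fun k : ℕ => (k : ℂ) ^ j * y ^ k) := fun j y hy =>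
    summable_pow_mul_geometric_of_norm_lt_one j hy
  have hrec : ∀ (j : ℕ) (y : ℂ), ‖y‖ < 1 →
      f j y - (if j = 0 then 1 else 0) = y * ∑ i ∈ Finset.range (j + 1), (j.choose i : ℂ) * f i y := by
    intro j y hy
    have h0 := (hsum j y hy).tsum_eq_zero_add
    have hterm : ∀ k : ℕ, ((k + 1 : ℕ) : ℂ) ^ j * y ^ (k + 1) =
        ∑ i ∈ Finset.range (j + 1), y * ((j.choose i : ℂ) * ((k : ℂ) ^ i * y ^ k)) := fun k => by
      rw [Nat.cast_succ, add_pow, Finset.sum_mul]
      refine Finset.sum_congr rfl fun i _ => ?_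
      rw [one_pow, pow_succ]
      ring
    show (∑' k : ℕ, (k : ℂ) ^ j * y ^ k) - _ = _
    rw [h0]
    simp only [Nat.cast_zero, pow_zero, mul_one, hterm]
    rw [Summable.tsum_finsetSum fun i _ => ((hsum i y hy).mul_left _).mul_left _, Finset.mul_sum]
    simp only [tsum_mul_left]
    cases j <;> simp [f]
  have hE' : ∀ j : ℕ, (∑ i ∈ Finset.range j, (j.choose i : ℂ) * (E i : ℂ)) + 2 * (E j : ℂ) = if j = 0 then 2 else 0 := by
    intro j
    have h := congrArg (PowerSeries.coeff j) hE
    rw [mul_add, mul_one, map_add, PowerSeries.coeff_mul, Finset.Nat.sum_antidiagonal_eq_sum_range_succ_mk,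
      PowerSeries.coeff_mk, ← map_ofNat (PowerSeries.C (R := ℚ)) 2, PowerSeries.coeff_C] at h
    have h' : (∑ i ∈ Finset.range (j + 1), (j.choose i : ℚ) * E i) + E j = if j = 0 then 2 else 0 := by
      have := congrArg (fun q : ℚ => (j.factorial : ℚ) * q) h
      simp only [mul_add, Finset.mul_sum, PowerSeries.coeff_mk, PowerSeries.coeff_exp, eq_ratCast, Rat.cast_id] at this
      convert this using 1
      · congr 1
        · refine Finset.sum_congr rfl fun i hi => ?_
          rw [Nat.cast_choose ℚ (Finset.mem_range_succ_iff.mp hi)]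
          ring
        · field_simp
      · cases j <;> simp
    rw [Finset.sum_range_succ, Nat.choose_self, Nat.cast_one, one_mul] at h'
    have := congrArg (fun q : ℚ => (q : ℂ)) h'
    push_cast at this
    rw [two_mul, ← add_assoc, this]
    split_ifs <;> simp
  have hev : ∀ᶠ y : ℝ in 𝓝[Set.Ioo (-1 : ℝ) 1] (-1 : ℝ), ‖(y : ℂ)‖ < 1 := by
    filter_upwards [self_mem_nhdsWithin] with y hy
    rw [Complex.norm_real, Real.norm_eq_abs, abs_lt]
    exact ⟨hy.1, hy.2⟩
  have hy1 : Tendsto (fun y : ℝ => (y : ℂ)) (𝓝[Set.Ioo (-1 : ℝ) 1] (-1 : ℝ)) (𝓝 (-1)) :=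
    tendsto_nhdsWithin_of_tendsto_nhds (Complex.continuous_ofReal.tendsto' _ _ (by simp))
  have hlim : ∀ j, Tendsto (fun y : ℝ => f j (y : ℂ)) (𝓝[Set.Ioo (-1 : ℝ) 1] (-1 : ℝ)) (𝓝 ((E j : ℂ) / 2)) := by
    intro j
    induction j using Nat.strong_induction_on with
    | _ j ih =>
      have h2 : Tendsto (fun y : ℝ => ((if j = 0 then (1 : ℂ) else 0) +
          (y : ℂ) * ∑ i ∈ Finset.range j, (j.choose i : ℂ) * f i (y : ℂ)) / (1 - (y : ℂ)))
          (𝓝[Set.Ioo (-1 : ℝ) 1] (-1 : ℝ)) (𝓝 (((if j = 0 then (1 : ℂ) else 0) +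
          (-1) * ∑ i ∈ Finset.range j, (j.choose i : ℂ) * ((E i : ℂ) / 2)) / (1 - (-1)))) :=
        (tendsto_const_nhds.add (hy1.mul (tendsto_finsetSum _ fun i hi =>
          tendsto_const_nhds.mul (ih i (Finset.mem_range.mp hi))))).div (tendsto_const_nhds.sub hy1) (by norm_num)
      have hval : ((if j = 0 then (1 : ℂ) else 0) +
          (-1) * ∑ i ∈ Finset.range j, (j.choose i : ℂ) * ((E i : ℂ) / 2)) / (1 - (-1)) = (E j : ℂ) / 2 := by
        have := hE' j
        simp only [mul_div_assoc']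
        rw [← Finset.sum_div]
        split_ifs at this ⊢ <;> linear_combination (-1 / 4 : ℂ) * this
      rw [hval] at h2
      refine h2.congr' ?_
      filter_upwards [hev] with y hy
      have hne : 1 - (y : ℂ) ≠ 0 := sub_ne_zero.mpr fun h => by rw [← h] at hy; simp at hy
      have := hrec j (y : ℂ) hy
      rw [Finset.sum_range_succ, Nat.choose_self, Nat.cast_one, one_mul] at this
      rw [div_eq_iff hne]
      linear_combination -this
  have hterm : ∀ (y : ℂ) (k : ℕ), y ^ k • P.eval (k : T) =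
      ∑ j ∈ Finset.range (P.natDegree + 1), ((k : ℂ) ^ j * y ^ k) • P.coeff j := by
    intro y k
    rw [Polynomial.eval_eq_sum_range, Finset.smul_sum]
    refine Finset.sum_congr rfl fun j _ => ?_
    rw [Algebra.smul_def, Algebra.smul_def, map_mul, map_pow, map_pow, map_natCast]
    ring
  refine ⟨fun y hy => ?_, ?_⟩
  · simp only [hterm]
    exact summable_sum fun j _ => (hsum j y hy).smul_const _
  · have hmain : Tendsto (fun y : ℝ => ∑ j ∈ Finset.range (P.natDegree + 1), f j (y : ℂ) • P.coeff j)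
        (𝓝[Set.Ioo (-1 : ℝ) 1] (-1 : ℝ))
        (𝓝 (∑ j ∈ Finset.range (P.natDegree + 1), ((E j : ℂ) / 2) • P.coeff j)) :=
      tendsto_finsetSum _ fun j _ => (hlim j).smul_const _
    convert hmain.congr' ?_ using 2
    · rw [Finset.smul_sum]
      exact Finset.sum_congr rfl fun j _ => by rw [smul_smul, div_eq_inv_mul]
    · filter_upwards [hev] with y hy
      simp only [hterm]
      exact ((hasSum_sum fun j _ => (hsum j (y : ℂ) hy).hasSum.smul_const (P.coeff j)).tsum_eq).symm

end Groth.Agent.S17878
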