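import Groth.Statements.S17880
import Groth.Agent.Lib.AbsApprox.RelMain
import Groth.Agent.Lib.LimDesc.Eventual

set_option autoImplicit false
universe u
open CategoryTheory AlgebraicGeometry
open Lim

namespace Groth.Agent.S17880

/-- Let f : Y → X be a morphism of schemes with X and Y quasi-compact and quasi-separated. Then f is the
composite of an affine morphism Y → Z and a morphism Z → X of finite presentation (locally of finite
presentation, quasi-compact and quasi-separated); if f is separated, Z → X can in addition be chosen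
separated. Both assertions are packaged in one existential. -/
theorem result {X Y : Scheme.{u}} (f : Y ⟶ X)
    [CompactSpace X] [QuasiSeparatedSpace X] [CompactSpace Y] [QuasiSeparatedSpace Y] :
    ∃ (Z : Scheme.{u}) (g : Y ⟶ Z) (h : Z ⟶ X), IsAffineHom g ∧ LocallyOfFinitePresentation h ∧
      QuasiCompact h ∧ QuasiSeparated h ∧ (IsSeparated f → IsSeparated h) ∧ g ≫ h = f := by
    obtain ⟨I, _, _, _, D, π, hl, h1, h2, h3⟩ := GrothLib.AbsApprox.exists_rel_approx f
    haveI : ∀ (i j : Iᵒᵖ) (a : i ⟶ j), IsAffineHom ((D ⋙ Over.forget X).map a) := h2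
    haveI : ∀ i, CompactSpace ↥((D ⋙ Over.forget X).obj i) := fun i => (h1 i).2.2.2.1
    haveI : ∀ i, QuasiSeparatedSpace ↥((D ⋙ Over.forget X).obj i) := fun i => (h1 i).2.2.2.2
    let t : D ⋙ Over.forget X ⟶ (Functor.const Iᵒᵖ).obj X :=
      { app := fun i => (D.obj i).hom
        naturality := fun i j a => (Over.w (D.map a)).trans (Category.comp_id _).symm }
    have hl' := Limits.isLimitOfPreserves (Over.forget X) hl
    obtain ⟨i₀⟩ : Nonempty Iᵒᵖ := inferInstance
    by_cases hs : IsSeparated f
    · haveI : IsSeparated (((Over.forget X).mapCone (Limits.Cone.mk (Over.mk f) π)).π.app i₀ ≫ t.app i₀) := by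
        show IsSeparated ((π.app i₀).left ≫ (D.obj i₀).hom)
        rw [Over.w (π.app i₀)]
        exact hs
      obtain ⟨i, hi⟩ := GrothLib.LimDesc.eventually_isSeparated (D ⋙ Over.forget X) hl' t i₀
      exact ⟨_, (π.app i).left, (D.obj i).hom, h3 i, (h1 i).1, (h1 i).2.1, (h1 i).2.2.1,
        fun _ => hi i (𝟙 i), Over.w (π.app i)⟩
    · exact ⟨_, (π.app i₀).left, (D.obj i₀).hom, h3 i₀, (h1 i₀).1, (h1 i₀).2.1, (h1 i₀).2.2.1,
        fun h => absurd h hs, Over.w (π.app i₀)⟩

end Groth.Agent.S17880
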