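import Groth.Statements.S17879
import Groth.Agent.S17880
import Groth.Agent.Lib.Nagata6.Absolute
import Groth.Agent.Lib.ModPair19.Basic
import Groth.Agent.Lib.FgSupport6.Exists
import Groth.Agent.Lib.BlowUp.Exists

set_option autoImplicit false
set_option backward.isDefEq.respectTransparency false
universe u
open CategoryTheory AlgebraicGeometry
open Lim

namespace Groth.Agent.S17879

/-- Let f : Y → X be a morphism of schemes with X and Y quasi-compact and quasi-separated. Then f is
separated if and only if it is the composite of an affine morphism Y → Z and a proper morphism Z →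
X, for some scheme Z. -/
theorem result {X Y : Scheme.{u}} (f : Y ⟶ X)
    [CompactSpace X] [QuasiSeparatedSpace X] [CompactSpace Y] [QuasiSeparatedSpace Y] :
    IsSeparated f ↔
      ∃ (Z : Scheme.{u}) (g : Y ⟶ Z) (h : Z ⟶ X), IsAffineHom g ∧ IsProper h ∧ g ≫ h = f := by
  constructor
  · intro hf
    obtain ⟨Z, g, h, hg, hfp, hqc, hqs, hsep, hgh⟩ := Groth.Agent.S17880.result f
    have : IsSeparated h := hsep hf
    have : CompactSpace Z := QuasiCompact.compactSpace_of_compactSpace h
    obtain ⟨Zb, j, p, hj, hjc, hp, hjp⟩ := GrothLib.Nagata6.exists_compactification h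
    have : CompactSpace Zb := QuasiCompact.compactSpace_of_compactSpace p
    have : QuasiSeparatedSpace Zb := quasiSeparatedSpace_of_quasiSeparated p
    obtain ⟨I, hI, hIs⟩ := GrothLib.FgSupport6.exists_fg_support_eq j.opensRange
      (isCompact_range j.continuous)
    obtain ⟨Zt, b, hb⟩ := GrothLib.BlowUp.exists_isBlowUp Zb I
    have : IsProper b := GrothLib.Nagata6.isProper_of_isBlowUp hI hb
    have hV : I.support.compl = j.opensRange :=
      TopologicalSpace.Opens.ext (by
        show (I.support : Set Zb)ᶜ = (j.opensRange : Set Zb)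
        rw [hIs, compl_compl])
    have : IsIso (b ∣_ j.opensRange) := hV ▸ GrothLib.BlowUp.isIso_off_center hb
    let O : Zt.Opens := b ⁻¹ᵁ j.opensRange
    have hO : ModPair.interior (I.comap b) = O := TopologicalSpace.Opens.ext (by
      show ((I.comap b).support : Set Zt)ᶜ = b ⁻¹' (j.opensRange : Set Zb)
      rw [Scheme.IdealSheafData.support_comap]
      show (b ⁻¹' (I.support : Set Zb))ᶜ = _
      rw [hIs, Set.preimage_compl, compl_compl])
    have : IsAffineHom O.ι := hO ▸ GrothLib.ModPair19.isAffineHom_interior hb.1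
    let e : Z ≅ (j.opensRange : Scheme.{u}) := j.isoOpensRange
    refine ⟨Zt, g ≫ e.hom ≫ inv (b ∣_ j.opensRange) ≫ O.ι, b ≫ p, inferInstance, inferInstance, ?_⟩
    have h1 : inv (b ∣_ j.opensRange) ≫ O.ι ≫ b = j.opensRange.ι := by
      rw [← morphismRestrict_ι, IsIso.inv_hom_id_assoc]
    have h2 : e.hom ≫ j.opensRange.ι = j := j.isoOpensRange_hom_ι
    simp only [Category.assoc]
    rw [reassoc_of% h1, reassoc_of% h2, hjp, hgh]
  · rintro ⟨Z, g, h, _, _, rfl⟩
    infer_instance

end Groth.Agent.S17879
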