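import Groth.Statements.S1788
import Groth.Agent.Lib.DualRing.GorGlobal
import Groth.Agent.Lib.DualRing.Local
-- import your own Groth.Agent.* helpers here

set_option autoImplicit false
universe u
open CategoryTheory
attribute [local instance] HasDerivedCategory.standard
open scoped TensorProduct
open Dual

namespace Groth.Agent.S1788

/-- Let A → B be a faithfully flat finite type homomorphism of Noetherian rings all of whose fibre rings
B ⊗_A κ(p) are Gorenstein, and K an object of D(A). Assuming the derived base change functor D(A) →
D(B) exists, K is a dualizing complex for A if and only if its base change is a dualizing complex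
for B. -/
theorem result (A B : Type u) [CommRing A] [CommRing B] [Algebra A B] [IsNoetherianRing A] [IsNoetherianRing B] [Module.FaithfullyFlat A B] [Algebra.FiniteType A B] (hG : ∀ p : PrimeSpectrum A, LocCoh.IsGorensteinRing (B ⊗[A] p.asIdeal.ResidueField)) [DRing.HasLBaseChange (algebraMap A B)] (K : Dual.D A) : Dual.IsDualizing A K ↔ Dual.IsDualizing B ((DRing.LBaseChange (algebraMap A B)).obj K) := by
  haveI := GrothLib.DR.preservesFiniteLimits_extendScalars (algebraMap A B) GrothLib.DR.flat_algebraMap
  obtain ⟨e⟩ := GrothLib.DualCx22.nonempty_lBase_iso_bcD (A := A) B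
  constructor
  · intro hK
    obtain ⟨D, hD⟩ := GrothLib.DualRing.exists_dim_bound_finiteType (GrothLib.DualRing.ringKrullDim_lt_top hK) B
    exact GrothLib.DualCx22.isDualizing_of_iso (e.app K).symm
      (GrothLib.DualRing.isDualizing_bcD_gorenstein B hK D hD fun m _ =>
        GrothLib.DualRing.gorenstein_fibLocRing_of_fiber B hG m)
  · intro hK
    exact GrothLib.DualCx22.isDualizing_of_bcD B (GrothLib.DualCx22.isDualizing_of_iso (e.app K) hK)


end Groth.Agent.S1788
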