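import Groth.Statements.S17881
import Mathlib


set_option autoImplicit false
universe u
open CAlg

namespace Groth.Agent.S17881

/-- Let O be a subring of a nontrivial commutative ring A. The following are equivalent: (i) A is a
local ring, every non-unit of A belongs to O, and for every unit u of A one of u, u⁻¹ belongs to O —
equivalently O is the preimage in the local ring A of a valuation ring of the residue field of A,
which makes O a semi-valuation ring with semi-fraction ring A; (ii) for all f, g in A generating the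
unit ideal, either f ∈ gO or g ∈ fO. (A is taken nontrivial: over the zero ring (ii) holds and (i)
fails.) -/
theorem result (A : Type u) [CommRing A] [Nontrivial A]
    (O : Subring A) :
    (IsLocalRing A ∧ (∀ a : A, ¬ IsUnit a → a ∈ O) ∧ (∀ u : Aˣ, (u : A) ∈ O ∨ ((u⁻¹ : Aˣ) : A) ∈ O)) ↔
      ∀ f g : A, IsCoprime f g → (∃ o ∈ O, f = g * o) ∨ (∃ o ∈ O, g = f * o) := by
  constructor
  · rintro ⟨hl, hn, hu⟩ f g ⟨a, b, hab⟩
    rcases IsLocalRing.isUnit_or_isUnit_of_add_one hab with h | h
    · obtain ⟨w, hw⟩ := isUnit_of_mul_isUnit_right h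
      by_cases hg : IsUnit g
      · obtain ⟨z, hz⟩ := hg
        rcases hu (w * z⁻¹) with h' | h'
        · exact Or.inl ⟨_, h', by rw [← hw, ← hz, ← Units.val_mul, mul_left_comm]; simp⟩
        · exact Or.inr ⟨_, h', by rw [← hw, ← hz, ← Units.val_mul]; simp⟩
      · refine Or.inr ⟨(w⁻¹ : Aˣ) * g, hn _ fun h' => hg (isUnit_of_mul_isUnit_right h'), ?_⟩
        rw [← hw, ← mul_assoc, Units.mul_inv, one_mul]
    · obtain ⟨z, hz⟩ := isUnit_of_mul_isUnit_right h
      by_cases hf : IsUnit f
      · obtain ⟨w, hw⟩ := hf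
        rcases hu (w * z⁻¹) with h' | h'
        · exact Or.inl ⟨_, h', by rw [← hw, ← hz, ← Units.val_mul, mul_left_comm]; simp⟩
        · exact Or.inr ⟨_, h', by rw [← hw, ← hz, ← Units.val_mul]; simp⟩
      · refine Or.inl ⟨(z⁻¹ : Aˣ) * f, hn _ fun h' => hf (isUnit_of_mul_isUnit_right h'), ?_⟩
        rw [← hz, ← mul_assoc, Units.mul_inv, one_mul]
  · intro H
    have h1 : ∀ a : A, a ∈ O ∨ ∃ o ∈ O, a * o = 1 := fun a => by
      rcases H a 1 isCoprime_one_right with ⟨o, ho, h⟩ | ⟨o, ho, h⟩
      · exact Or.inl (by rwa [h, one_mul])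
      · exact Or.inr ⟨o, ho, h.symm⟩
    refine ⟨IsLocalRing.of_isUnit_or_isUnit_one_sub_self fun a => ?_, fun a ha => ?_, fun u => ?_⟩
    · rcases H a (1 - a) ⟨1, 1, by ring⟩ with ⟨o, ho, h⟩ | ⟨o, ho, h⟩
      · exact Or.inr (IsUnit.of_mul_eq_one (1 + o) (by linear_combination -h))
      · exact Or.inl (IsUnit.of_mul_eq_one (1 + o) (by linear_combination -h))
    · exact (h1 a).resolve_right fun ⟨o, _, h⟩ => ha (IsUnit.of_mul_eq_one o h)
    · refine (h1 u).imp id fun ⟨o, ho, h⟩ => ?_
      rwa [Units.inv_eq_of_mul_eq_one_right h]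

end Groth.Agent.S17881
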