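import Groth.Statements.S17882
import Mathlib


set_option autoImplicit false
universe u
open CAlg

namespace Groth.Agent.S17882

/-- Let B be a commutative ring, r ≥ 1, N a finitely generated submodule of B^r, and n_1, …, n_r ∈ N.
Suppose the determinant of the matrix with rows n_1, …, n_r is a nonzerodivisor of B and that the
determinant of every matrix whose rows lie in N is a multiple of it (the image of the top exterior
power of N in that of B^r ≅ B is the principal ideal generated by n_1 ∧ ⋯ ∧ n_r, a nonzerodivisor).
Then n_1, …, n_r are linearly independent over B and span N: N is free of rank r with this basis. -/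
theorem result (B : Type u) [CommRing B] (r : ℕ) (hr : 0 < r)
    (N : Submodule B (Fin r → B)) (hN : N.FG) (n : Fin r → (Fin r → B)) (hn : ∀ i, n i ∈ N)
    (hgen : ∀ m : Fin r → (Fin r → B), (∀ i, m i ∈ N) →
      Matrix.det (Matrix.of m) ∈ Ideal.span {Matrix.det (Matrix.of n)})
    (hnzd : Matrix.det (Matrix.of n) ∈ nonZeroDivisors B) :
    LinearIndependent B n ∧ Submodule.span B (Set.range n) = N := by
  have hli : LinearIndependent B n :=
    Fintype.linearIndependent_iff.2 fun g hg => by
      have h : Matrix.vecMul g (Matrix.of n) = 0 := by
        funext j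
        have := congrFun hg j
        simpa [Matrix.vecMul, dotProduct, Finset.sum_apply] using this
      have h2 := congrArg (fun v => Matrix.vecMul v (Matrix.of n).adjugate) h
      simp only [Matrix.vecMul_vecMul, Matrix.mul_adjugate, Matrix.vecMul_smul, Matrix.vecMul_one,
        Matrix.zero_vecMul] at h2
      intro i
      exact (mul_left_mem_nonZeroDivisors_eq_zero_iff hnzd).1 (congrFun h2 i)
  refine ⟨hli, le_antisymm (Submodule.span_le.2 (by rintro _ ⟨i, rfl⟩; exact hn i)) fun m hm => ?_⟩
  have hc : ∀ i, ∃ c : B, c * (Matrix.of n).det = ((Matrix.of n).updateRow i m).det := fun i => by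
    refine Ideal.mem_span_singleton'.1 (hgen (Function.update n i m) fun k => ?_)
    by_cases hk : k = i
    · subst hk; rwa [Function.update_self]
    · rw [Function.update_of_ne hk]; exact hn k
  choose c hc using hc
  have key := Matrix.mulVec_cramer (Matrix.of n).transpose m
  rw [Matrix.det_transpose, Matrix.mulVec_transpose] at key
  have : m = ∑ i, c i • n i := by
    funext j
    have hj := congrFun key j
    simp only [Matrix.vecMul, dotProduct, Matrix.cramer_apply, Matrix.updateCol_transpose,
      Matrix.det_transpose, ← hc, Pi.smul_apply, smul_eq_mul, Matrix.of_apply] at hj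
    refine sub_eq_zero.1 ((mul_left_mem_nonZeroDivisors_eq_zero_iff hnzd).1 ?_)
    rw [mul_sub, ← hj, Finset.sum_apply, Finset.mul_sum, ← Finset.sum_sub_distrib]
    refine Finset.sum_eq_zero fun i _ => ?_
    simp only [Pi.smul_apply, smul_eq_mul]
    ring
  rw [this]
  exact Submodule.sum_mem _ fun i _ => Submodule.smul_mem _ _ (Submodule.subset_span ⟨i, rfl⟩)

end Groth.Agent.S17882
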