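import Groth.Statements.S17883
import Groth.Agent.Lib.ExtLocFree8.Main
import Groth.Agent.S0384
import Groth.Agent.Lib.Chow.Core

set_option autoImplicit false
universe u v
open CategoryTheory AlgebraicGeometry
open FlatMor

open GrothLib
set_option backward.isDefEq.respectTransparency false

namespace Groth.Agent.S17883

/-- Let S be a Noetherian scheme and f : X → S a separated morphism of finite type, and let (E_i) be a
finite family of finite locally free O_X-modules. Then there exist a scheme X', an open immersion j
: X → X' with schematically dense image (scheme-theoretically dominant and quasi-compact) and a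
proper morphism g : X' → S with j ≫ g = f, and for each i a finite locally free module E'_i on X'
whose pullback along j is isomorphic to E_i. For the empty family this is Nagata's embedding into a
proper S-scheme with schematically dense image. -/
theorem result {S X : Scheme.{u}} (f : X ⟶ S)
    [IsNoetherian S] [IsSeparated f] [QuasiCompact f] [LocallyOfFiniteType f]
    {ι : Type v} [Finite ι] (E : ι → X.Modules) (hE : ∀ i, FlatMod.IsFinLocFree (E i)) :
    ∃ (X' : Scheme.{u}) (j : X ⟶ X') (g : X' ⟶ S), IsOpenImmersion j ∧ QuasiCompact j ∧
      IsSchemeTheoreticallyDominant j ∧ IsProper g ∧ j ≫ g = f ∧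
      ∀ i, ∃ E' : X'.Modules, FlatMod.IsFinLocFree E' ∧
        Nonempty ((Scheme.Modules.pullback j).obj E' ≅ E i) := by
  obtain ⟨Xc, j, g, hj, hjq, hg, hjg⟩ := Groth.Agent.S0384.result f
  haveI := hj
  haveI := hjq
  haveI := hg
  haveI : IsLocallyNoetherian j.image := LocallyOfFiniteType.isLocallyNoetherian (j.imageι ≫ g)
  haveI : CompactSpace j.image := QuasiCompact.compactSpace_of_compactSpace (j.imageι ≫ g)
  haveI : IsNoetherian j.image := {}
  haveI : IsSchemeTheoreticallyDominant j.toImage := GrothLib.Chow.stdDominant_toImage j
  obtain ⟨X', b, j', hb, -, h1, h2, h3, h4, h5⟩ := GrothLib.ExtLocFree8.exists_family j.toImage E hE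
  haveI := hb
  refine ⟨X', j', b ≫ j.imageι ≫ g, h1, h2, h3, inferInstance, ?_, h5⟩
  rw [← Category.assoc, h4, Scheme.Hom.toImage_imageι_assoc, hjg]

end Groth.Agent.S17883
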