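import Groth.Statements.S17884
import Groth.Agent.Lib.ExtLocFree8.Main
import Groth.Agent.Lib.ProjQ8.Bundle
import Groth.Agent.Lib.Chow.Core

set_option autoImplicit false
universe u v
open CategoryTheory AlgebraicGeometry
open FlatMor

open GrothLib
set_option backward.isDefEq.respectTransparency false

namespace Groth.Agent.S17884

/-- Let S be a Noetherian scheme and f : X → S a separated quasi-projective morphism (of finite type,
with an f-ample invertible module), and let (E_i) be a finite family of finite locally free
O_X-modules. Then there exist a scheme X', an open immersion j : X → X' with schematically dense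
image and a projective morphism g : X' → S with j ≫ g = f, and for each i a finite locally free
module on X' whose pullback along j is isomorphic to E_i. -/
theorem result {S X : Scheme.{u}} (f : X ⟶ S)
    [IsNoetherian S] [IsSeparated f] (hf : RelProj.IsQuasiProjective f)
    {ι : Type v} [Finite ι] (E : ι → X.Modules) (hE : ∀ i, FlatMod.IsFinLocFree (E i)) :
    ∃ (X' : Scheme.{u}) (j : X ⟶ X') (g : X' ⟶ S), IsOpenImmersion j ∧ QuasiCompact j ∧
      IsSchemeTheoreticallyDominant j ∧ RelProj.IsProjective g ∧ j ≫ g = f ∧
      ∀ i, ∃ E' : X'.Modules, FlatMod.IsFinLocFree E' ∧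
        Nonempty ((Scheme.Modules.pullback j).obj E' ≅ E i) := by
  obtain ⟨_, _, L, hL⟩ := hf
  have hinv : PicF.IsInvertible L := GrothLib.Ample.isInvertible_of_isRelAmple hL
  obtain ⟨n, hn⟩ := GrothLib.VA.eventually_isRelVeryAmple f hinv hinv hL
  obtain ⟨B, φ, r, θ, hft, hr, hi⟩ := GrothLib.VA.exists_lift_finiteType f
    (GrothLib.Ample.isInvertible_tensorMod (GrothLib.Ample.isInvertible_tensorPow hinv n) hinv) (hn n le_rfl)
  haveI := hi
  haveI := GrothLib.RelProjK.isSeparated_of_isRelProj B.isProj
  have hg : RelProj.IsProjective (r.imageι ≫ B.p) :=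
    GrothLib.VA.isProjective_of_isClosedImmersion_bundle B.isQCoh hft B.isSym B.isProj r.imageι
  haveI : QuasiCompact (r ≫ B.p) := by rw [hr.comp]; infer_instance
  haveI : QuasiCompact r := QuasiCompact.of_comp r B.p
  haveI := GrothLib.ProjAlg.isProper_of_isProjective hg
  haveI : IsLocallyNoetherian r.image := LocallyOfFiniteType.isLocallyNoetherian (r.imageι ≫ B.p)
  haveI : CompactSpace r.image := QuasiCompact.compactSpace_of_compactSpace (r.imageι ≫ B.p)
  haveI : IsNoetherian r.image := {}
  haveI : IsSchemeTheoreticallyDominant r.toImage := GrothLib.Chow.stdDominant_toImage r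
  obtain ⟨X', b, j', -, hP, h1, h2, h3, h4, h5⟩ := GrothLib.ExtLocFree8.exists_family r.toImage E hE
  refine ⟨X', j', b ≫ r.imageι ≫ B.p, h1, h2, h3, hP _ hg, ?_, h5⟩
  rw [← Category.assoc, h4, Scheme.Hom.toImage_imageι_assoc, hr.comp]

end Groth.Agent.S17884
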