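import Groth.Statements.S17885
import Groth.Agent.Lib.AbsApprox.ClosedProps
import Groth.Agent.Lib.LimDesc.Single

set_option autoImplicit false
universe u
open CategoryTheory AlgebraicGeometry
open Lim

namespace Groth.Agent.S17885

/-- Let f : Y → X be a morphism of schemes with X and Y quasi-compact and quasi-separated. Then f is
affine if and only if the X-scheme Y is a limit, in the category of schemes over X, of a filtered
inverse system of X-schemes that are affine and of finite presentation over X. -/
theorem result {X Y : Scheme.{u}} (f : Y ⟶ X)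
    [CompactSpace X] [QuasiSeparatedSpace X] [CompactSpace Y] [QuasiSeparatedSpace Y] :
    IsAffineHom f ↔
      ∃ (I : Type u) (_ : SmallCategory I) (_ : IsFiltered I) (D : Iᵒᵖ ⥤ Over X)
        (c : Limits.Cone D) (_ : Limits.IsLimit c),
        (∀ i, IsAffineHom (D.obj i).hom ∧ LocallyOfFinitePresentation (D.obj i).hom) ∧
        Nonempty (c.pt ≅ Over.mk f) := by
    constructor
    · intro hf
      obtain ⟨I, _, _, _, D, π, hl, h1, h2, -⟩ := GrothLib.AbsApprox.exists_rel_approx f
      haveI : ∀ (i j : Iᵒᵖ) (a : i ⟶ j), IsAffineHom ((D ⋙ Over.forget X).map a) := h2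
      haveI : ∀ i, CompactSpace ↥((D ⋙ Over.forget X).obj i) := fun i => (h1 i).2.2.2.1
      haveI : ∀ i, QuasiSeparatedSpace ↥((D ⋙ Over.forget X).obj i) := fun i => (h1 i).2.2.2.2
      have hl' := Limits.isLimitOfPreserves (Over.forget X) hl
      obtain ⟨i₀⟩ : Nonempty Iᵒᵖ := inferInstance
      haveI : IsAffineHom (((Over.forget X).mapCone (Limits.Cone.mk (Over.mk f) π)).π.app i₀ ≫
          (GrothLib.AbsApprox.overHom D).app i₀) := by
        show IsAffineHom ((π.app i₀).left ≫ (D.obj i₀).hom)
        rw [Over.w (π.app i₀)]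
        exact hf
      obtain ⟨k, -, hk⟩ := GrothLib.LimDesc.eventually_isAffineHom (D ⋙ Over.forget X) _ hl'
        (GrothLib.AbsApprox.overHom D) i₀
      obtain ⟨I', _, _, _, ρ, ⟨hρ⟩, hle⟩ := GrothLib.AbsApprox.exists_tail D _ hl k
      haveI : IsFiltered I' := inferInstance
      refine ⟨I', inferInstance, inferInstance, ρ ⋙ D, _, hρ, fun i => ⟨?_, (h1 (ρ.obj i)).1⟩, ⟨Iso.refl _⟩⟩
      haveI : IsAffineHom (D.map (hle i).some).left := h2 _ _ _
      haveI : IsAffineHom (D.obj k).hom := hk
      show IsAffineHom (D.obj (ρ.obj i)).hom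
      rw [← Over.w (D.map (hle i).some)]
      infer_instance
    · rintro ⟨I, _, _, D, c, hc, hD, ⟨e⟩⟩
      haveI : ∀ i, IsAffineHom (D.obj i).hom := fun i => (hD i).1
      haveI : ∀ (i j : Iᵒᵖ) (a : i ⟶ j), IsAffineHom ((D ⋙ Over.forget X).map a) := fun i j a => by
        haveI : IsAffineHom ((D.map a).left ≫ (D.obj j).hom) := by rw [Over.w (D.map a)]; infer_instance
        exact MorphismProperty.of_postcomp @IsAffineHom (W' := @IsSeparated) (D.map a).left (D.obj j).hom
          inferInstance inferInstance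
      have hl' := Limits.isLimitOfPreserves (Over.forget X) hc
      obtain ⟨i₀⟩ := IsCofiltered.nonempty (C := Iᵒᵖ)
      haveI : IsAffineHom (c.π.app i₀).left := AlgebraicGeometry.isAffineHom_π_app (D ⋙ Over.forget X) _ hl' i₀
      haveI : IsIso e.inv.left := inferInstanceAs (IsIso ((Over.forget X).map e.inv))
      have hf : f = e.inv.left ≫ (c.π.app i₀).left ≫ (D.obj i₀).hom := by
        have h1 : (c.π.app i₀).left ≫ (D.obj i₀).hom = c.pt.hom := Over.w (c.π.app i₀)
        rw [h1]
        exact (Over.w e.inv).symm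
      rw [hf]
      infer_instance

end Groth.Agent.S17885
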