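import Groth.Statements.S17886
import Groth.Agent.Lib.Nagata6.Noetherian
import Groth.Agent.Lib.Ample.QuasiProj
-- import your own Groth.Agent.* helpers here

set_option autoImplicit false
universe u
open CategoryTheory AlgebraicGeometry
open FlatMor

namespace Groth.Agent.S17886

/-- Let S be a Noetherian scheme and f : X → S separated and of finite type. Then X is covered by
finitely many affine opens U_1, …, U_n each of which is dense in X and quasi-projective over S (of
finite type with a relatively ample invertible module). -/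
theorem result {S X : Scheme.{u}} (f : X ⟶ S)
    [IsNoetherian S] [IsSeparated f] [QuasiCompact f] [LocallyOfFiniteType f] :
    ∃ (n : ℕ) (U : Fin n → X.Opens), (⨆ i, U i) = ⊤ ∧
      ∀ i, IsAffineOpen (U i) ∧ Dense ((U i : Set X)) ∧ RelProj.IsQuasiProjective ((U i).ι ≫ f) := by
    obtain ⟨t, V, hV, ht⟩ := GrothLib.Nagata6.exists_finite_cover_dense_affine f
    refine ⟨t.card, fun k => V (t.equivFin.symm k).1, top_le_iff.mp fun x _ => ?_, fun k => ⟨(hV _).1, (hV _).2, ?_⟩⟩
    · obtain ⟨y, hy, hxy⟩ := Set.mem_iUnion₂.mp (ht.ge (Set.mem_univ x))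
      exact TopologicalSpace.Opens.mem_iSup.mpr ⟨t.equivFin ⟨y, hy⟩, by simpa using hxy⟩
    · haveI : IsAffine (V (t.equivFin.symm k).1).toScheme := (hV _).1
      obtain ⟨N, i, hi, -, hib⟩ := GrothLib.Chow.exists_immersion ((V (t.equivFin.symm k).1).ι ≫ f)
      haveI := hi
      haveI := GrothLib.Nagata6.isNoetherian_of_ft f
      exact GrothLib.Ample.isQuasiProjective_of_isImmersion _ i hib

end Groth.Agent.S17886
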