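import Groth.Statements.S17888
import Groth.Agent.Lib.ExtLocFree8.Main
import Groth.Agent.Lib.Nagata6.GlueMutual

set_option autoImplicit false
universe u
open CategoryTheory AlgebraicGeometry
open FlatMor

open GrothLib
set_option backward.isDefEq.respectTransparency false

namespace Groth.Agent.S17888

/-- S is a Noetherian scheme and f : X → S is separated and of finite type; X is covered by two open
subschemes X₁ and X₂, both containing an open subscheme U that is schematically dense in X; and E₁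
on X₁, E₂ on X₂ are finite locally free modules that become isomorphic after restricting to U. Then
there exist a proper morphism π : X' → X which restricts to an isomorphism over U and under which
the preimage of U is schematically dense in X', and a finite locally free module E' on X' whose
restriction to π⁻¹(U) is isomorphic to the pullback of E₁|_U along π⁻¹(U) → U. -/
theorem result {S X : Scheme.{u}} (f : X ⟶ S)
    [IsNoetherian S] [IsSeparated f] [QuasiCompact f] [LocallyOfFiniteType f]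
    (U X₁ X₂ : X.Opens) (hU₁ : U ≤ X₁) (hU₂ : U ≤ X₂) (hX : X₁ ⊔ X₂ = ⊤)
    [IsSchemeTheoreticallyDominant U.ι]
    (E₁ : (↑X₁ : Scheme.{u}).Modules) (E₂ : (↑X₂ : Scheme.{u}).Modules)
    (hE₁ : FlatMod.IsFinLocFree E₁) (hE₂ : FlatMod.IsFinLocFree E₂)
    (φ : (Scheme.Modules.pullback (X.homOfLE hU₁)).obj E₁ ≅ (Scheme.Modules.pullback (X.homOfLE hU₂)).obj E₂) :
    ∃ (X' : Scheme.{u}) (π : X' ⟶ X) (E' : X'.Modules), IsProper π ∧ IsIso (π ∣_ U) ∧
      IsSchemeTheoreticallyDominant (π ⁻¹ᵁ U).ι ∧ FlatMod.IsFinLocFree E' ∧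
      Nonempty ((Scheme.Modules.pullback (π ⁻¹ᵁ U).ι).obj E' ≅
        (Scheme.Modules.pullback (π ∣_ U ≫ X.homOfLE hU₁)).obj E₁) := by
  haveI : IsLocallyNoetherian X := LocallyOfFiniteType.isLocallyNoetherian f
  haveI : CompactSpace X := QuasiCompact.compactSpace_of_compactSpace f
  haveI : IsNoetherian X := {}
  let j : (U : Scheme.{u}) ⟶ X := U.ι
  let E₀ := (Scheme.Modules.pullback (X.homOfLE hU₁)).obj E₁
  obtain ⟨X', b, j', hb, -, hjo, hjq, hjd, hjb, hext⟩ := GrothLib.ExtLocFree8.exists_family U.ι (fun _ : PUnit.{1} => E₀)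
    fun _ => GrothLib.OX.isFinLocFree_pullback (X.homOfLE hU₁) hE₁
  obtain ⟨E', hE', ⟨e'⟩⟩ := hext PUnit.unit
  haveI := hb
  haveI := hjo
  haveI := hjq
  haveI := hjd
  have hr : Set.range j' ⊆ Set.range (b ⁻¹ᵁ U).ι := by
    rw [Scheme.Opens.range_ι]
    rintro _ ⟨x, rfl⟩
    show b (j' x) ∈ U
    rw [← Scheme.Hom.comp_apply, hjb]
    exact x.2
  let k : (U : Scheme.{u}) ⟶ (b ⁻¹ᵁ U : Scheme.{u}) := IsOpenImmersion.lift (b ⁻¹ᵁ U).ι j' hr
  have hk : k ≫ (b ⁻¹ᵁ U).ι = j' := IsOpenImmersion.lift_fac _ _ _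
  have hkb : k ≫ (b ∣_ U) = 𝟙 _ := by
    rw [← cancel_mono U.ι, Category.assoc, morphismRestrict_ι, ← Category.assoc, hk, hjb, Category.id_comp]
  obtain ⟨hkd, hkq⟩ := GrothLib.Nagata6.dominant_of_factor j' (b ⁻¹ᵁ U) k hk
  haveI := hkd
  haveI : IsClosedImmersion (k ≫ (b ∣_ U)) := by rw [hkb]; infer_instance
  haveI : IsClosedImmersion k := IsClosedImmersion.of_comp k (b ∣_ U)
  haveI : IsIso k := IsClosedImmersion.isIso_iff_ker_eq_bot.mpr (Scheme.Hom.ker_eq_bot k)
  have hbk : b ∣_ U = inv k := IsIso.eq_inv_of_hom_inv_id hkb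
  have hι : inv k ≫ j' = (b ⁻¹ᵁ U).ι := by rw [← hk, IsIso.inv_hom_id_assoc]
  refine ⟨X', b, E', hb, by rw [hbk]; infer_instance, by rw [← hι]; infer_instance, hE', ⟨?_⟩⟩
  exact (Scheme.Modules.pullbackCongr hι.symm).app E' ≪≫ ((Scheme.Modules.pullbackComp (inv k) j').app E').symm ≪≫
    (Scheme.Modules.pullback (inv k)).mapIso e' ≪≫ (Scheme.Modules.pullbackComp (inv k) (X.homOfLE hU₁)).app E₁ ≪≫
    (Scheme.Modules.pullbackCongr (by rw [hbk])).app E₁

end Groth.Agent.S17888
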