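import Groth.Statements.S17889
import Groth.Agent.Lib.BlowAdm8.Basic

set_option autoImplicit false
set_option backward.isDefEq.respectTransparency false
universe u
open CategoryTheory AlgebraicGeometry TopologicalSpace
open BlowUp

namespace Groth.Agent.S17889

/-- Let X be a Noetherian scheme, X₀ ⊆ X an open subscheme, p : Z → X a morphism of finite type with Z
Noetherian, and F ⊆ X, G ⊆ Z closed subsets with p⁻¹(F ∩ X₀) ∩ G = ∅. Let a be a quasi-coherent
ideal sheaf on X whose support does not meet X₀, which contains the vanishing ideal I_F of F, and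
which is contained in the kernel ideal of V(I_F·O_Z + I_G) → Z → X (the ideal of the
scheme-theoretic image under p of p⁻¹(F) ∩ G). Let π : X' → X be a blowing-up along a, Z' = Z ×_X X'
with projections π' : Z' → Z and p' : Z' → X'. Then p'⁻¹ of the closure in X' of π⁻¹(F ∩ X₀) is
disjoint from the closure in Z' of π'⁻¹(G ∩ p⁻¹(X₀)). Taking a to be that kernel ideal shows such an
a exists. -/
theorem result
    {X Z : Scheme.{u}} [IsNoetherian X] [IsNoetherian Z] (p : Z ⟶ X) [LocallyOfFiniteType p]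
    (X₀ : X.Opens) (F : Closeds X) (G : Closeds Z)
    (hFG : p.base ⁻¹' ((F : Set X) ∩ (X₀ : Set X)) ∩ (G : Set Z) = ∅)
    (𝔞 : X.IdealSheafData) (h₁ : Disjoint (𝔞.support : Set X) (X₀ : Set X))
    (h₂ : Scheme.IdealSheafData.vanishingIdeal F ≤ 𝔞)
    (h₃ : 𝔞 ≤ (((Scheme.IdealSheafData.vanishingIdeal F).comap p ⊔
      Scheme.IdealSheafData.vanishingIdeal G).subschemeι ≫ p).ker)
    {X' : Scheme.{u}} (π : X' ⟶ X) (hπ : BlowUp.IsBlowUp π 𝔞) :
    (Limits.pullback.snd p π).base ⁻¹' closure (π.base ⁻¹' ((F : Set X) ∩ (X₀ : Set X))) ∩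
      closure ((Limits.pullback.fst p π).base ⁻¹' ((G : Set Z) ∩ (p ⁻¹ᵁ X₀ : Set Z))) = ∅ := by
  refine Set.eq_empty_iff_forall_notMem.mpr ?_
  rintro z ⟨hzA, hzY⟩
  have hsup : Scheme.IdealSheafData.vanishingIdeal F ⊔ 𝔞 = 𝔞 := sup_eq_right.mpr h₂
  obtain ⟨D, hyD, e, hDe, heB, hT⟩ := GrothLib.BlowAdm8.exists_chart π (Scheme.IdealSheafData.vanishingIdeal F) 𝔞
    (by rw [hsup]; exact hπ.1) ((F : Set X) ∩ (X₀ : Set X))
    (fun x hx => (Scheme.IdealSheafData.le_support_iff_le_vanishingIdeal).mpr le_rfl hx.1)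
    (Set.disjoint_left.mpr fun x hx hx' => by
      rw [hsup] at hx'
      exact Set.disjoint_left.mp h₁ hx' hx.2) _ hzA
  rw [hsup] at hDe
  let fs := Limits.pullback.fst p π
  let sn := Limits.pullback.snd p π
  obtain ⟨_, ⟨P₀, hP₀, rfl⟩, hzP, hPle⟩ := (Limits.pullback p π).isBasis_affineOpens.exists_subset_of_mem_open
    (show z ∈ ((sn ⁻¹ᵁ D.1 : (Limits.pullback p π).Opens) : Set (Limits.pullback p π : Scheme.{u})) from hyD)
    (sn ⁻¹ᵁ D.1).2
  let P : (Limits.pullback p π).affineOpens := ⟨P₀, hP₀⟩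
  have hPD : P.1 ≤ sn ⁻¹ᵁ D.1 := fun x hx => hPle hx
  let φ := (sn.appLE D.1 P.1 hPD).hom
  have e2 : ∀ K : X.IdealSheafData, (K.comap p).comap fs = (K.comap π).comap sn := fun K => by
    rw [← Scheme.IdealSheafData.comap_comp, ← Scheme.IdealSheafData.comap_comp, Limits.pullback.condition]
  have hp : 𝔞.comap p ≤ (Scheme.IdealSheafData.vanishingIdeal F).comap p ⊔ Scheme.IdealSheafData.vanishingIdeal G := by
    rw [← Scheme.IdealSheafData.le_map_iff_comap_le, Scheme.IdealSheafData.map]
    exact h₃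
  have hle : (𝔞.comap π).comap sn ≤ ((Scheme.IdealSheafData.vanishingIdeal F).comap π).comap sn ⊔
      (Scheme.IdealSheafData.vanishingIdeal G).comap fs := by
    rw [← e2, ← e2]
    refine (Scheme.IdealSheafData.comap_mono fs hp).trans ?_
    simp only [Scheme.IdealSheafData.comap_sup]
    exact le_rfl
  let T : Ideal Γ(X', D.1) := Submodule.comap (LinearMap.mulRight Γ(X', D.1) e)
    (((Scheme.IdealSheafData.vanishingIdeal F).comap π).ideal D)
  have hJT : ((Scheme.IdealSheafData.vanishingIdeal F).comap π).ideal D ≤ Ideal.span {e} * T := by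
    intro j hj
    obtain ⟨t, rfl⟩ := Ideal.mem_span_singleton'.mp (hDe.le ((Scheme.IdealSheafData.comap_mono π h₂ : _) D hj))
    rw [mul_comm t e]
    exact Ideal.mul_mem_mul (Ideal.mem_span_singleton_self e) hj
  have hmem : φ e ∈ Ideal.span {φ e} * T.map φ ⊔ ((Scheme.IdealSheafData.vanishingIdeal G).comap fs).ideal P := by
    have h : φ e ∈ ((𝔞.comap π).comap sn).ideal P := by
      rw [GrothLib.BlowUp.ideal_comap_eq_map _ sn D P hPD]
      exact Ideal.mem_map_of_mem φ heB
    have h' := hle P h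
    rw [Scheme.IdealSheafData.ideal_sup, Pi.sup_apply,
      GrothLib.BlowUp.ideal_comap_eq_map _ sn D P hPD] at h'
    have h'' := (sup_le_sup (Ideal.map_mono (f := φ) hJT) le_rfl) h'
    rwa [Ideal.map_mul, Ideal.map_span, Set.image_singleton] at h''
  obtain ⟨a, ha, k, hk, hak⟩ := Submodule.mem_sup.mp hmem
  obtain ⟨μ, hμ, rfl⟩ := Ideal.mem_span_singleton_mul.mp ha
  have hμz : z ∉ (Limits.pullback p π).basicOpen μ := by
    intro hzμ
    have h1 : T.map φ ≤ (IsLocalRing.maximalIdeal ((Limits.pullback p π).presheaf.stalk z)).comap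
        ((Limits.pullback p π).presheaf.germ P.1 z hzP).hom := by
      rw [Ideal.map_le_iff_le_comap]
      intro t ht
      rw [Ideal.mem_comap, Ideal.mem_comap, IsLocalRing.mem_maximalIdeal, mem_nonunits_iff]
      intro hu
      have h2 : z ∈ (Limits.pullback p π).basicOpen (sn.appLE D.1 P.1 hPD t) :=
        ((Limits.pullback p π).mem_basicOpen _ z hzP).mpr hu
      rw [Scheme.Hom.appLE, CategoryTheory.comp_apply, Scheme.basicOpen_res, ← Scheme.preimage_basicOpen] at h2
      exact hT t ht h2.2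
    exact (IsLocalRing.mem_maximalIdeal _).mp (h1 hμ) (((Limits.pullback p π).mem_basicOpen _ z hzP).mp hzμ)
  have hz1 : z ∈ (Limits.pullback p π).basicOpen (1 - μ) := by
    rw [(Limits.pullback p π).mem_basicOpen _ z hzP]
    have hu := IsLocalRing.isUnit_or_isUnit_of_add_one (a := (Limits.pullback p π).presheaf.germ P.1 z hzP μ)
      (b := (Limits.pullback p π).presheaf.germ P.1 z hzP (1 - μ)) (by rw [← map_add, add_sub_cancel, map_one])
    exact hu.resolve_left fun h => hμz (((Limits.pullback p π).mem_basicOpen _ z hzP).mpr h)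
  obtain ⟨w, hw1, hwG⟩ := mem_closure_iff.mp hzY _ ((Limits.pullback p π).basicOpen (1 - μ)).2 hz1
  have hwP : w ∈ P.1 := (Limits.pullback p π).basicOpen_le _ hw1
  have hwX : π (sn w) ∈ X₀ := by
    have e1 : p (fs w) = π (sn w) := congrArg (fun g : Limits.pullback p π ⟶ X => g w) Limits.pullback.condition
    rw [← e1]
    exact hwG.2
  have hwe : w ∈ (Limits.pullback p π).basicOpen (φ e) := by
    show w ∈ (Limits.pullback p π).basicOpen (sn.appLE D.1 P.1 hPD e)
    rw [Scheme.Hom.appLE, CategoryTheory.comp_apply, Scheme.basicOpen_res, ← Scheme.preimage_basicOpen]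
    refine ⟨hwP, ?_⟩
    by_contra hne
    have hs : sn w ∈ ((𝔞.comap π).support : Set X') := by
      refine (Scheme.IdealSheafData.mem_support_iff_of_mem (U := D) (hPD hwP)).mpr ?_
      rw [hDe, Scheme.zeroLocus_span, Scheme.mem_zeroLocus_iff]
      rintro _ rfl
      exact hne
    rw [Scheme.IdealSheafData.support_comap] at hs
    exact Set.disjoint_left.mp h₁ hs hwX
  have hk' : φ e * (1 - μ) = k := by rw [mul_sub, mul_one, sub_eq_iff_eq_add, add_comm, hak]
  have hws : w ∈ (((Scheme.IdealSheafData.vanishingIdeal G).comap fs).support : Set _) := by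
    rw [Scheme.IdealSheafData.support_comap]
    exact (Scheme.IdealSheafData.le_support_iff_le_vanishingIdeal).mpr le_rfl hwG.1
  refine (Scheme.mem_zeroLocus_iff _ _ _).mp
    ((Scheme.IdealSheafData.mem_support_iff_of_mem (U := P) hwP).mp hws) k hk ?_
  rw [← hk', Scheme.basicOpen_mul]
  exact ⟨hwe, hw1⟩

end Groth.Agent.S17889
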