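import Groth.Statements.S1789
import Groth.Agent.Lib.DualRing.RelNormalized
import Groth.Agent.S1782
-- import your own Groth.Agent.* helpers here

set_option autoImplicit false
universe u
open CategoryTheory
attribute [local instance] HasDerivedCategory.standard
open Dual2

namespace Groth.Agent.S1789

/-- Let R → A be a ring map of finite type between Noetherian rings with R local, where φ^!(K) is formed
from a presentation ψ : R[x_1, …, x_n] → A as RHom_P(A, K ⊗^L_R P)[n], assuming the derived base
change to P exists and taking for RHom_P(A, −) a right adjoint of restriction of scalars along ψ.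
Let m be a maximal ideal of A lying over the maximal ideal of R and ω a normalized dualizing complex
for R. Assuming the derived base change D(A) → D(A_m) exists, the base change of φ^!(ω) to A_m is a
normalized dualizing complex for A_m. -/
theorem result (R A : Type u) [CommRing R] [CommRing A] [IsNoetherianRing R] [IsNoetherianRing A] [Algebra R A] (n : ℕ) (ψ : MvPolynomial (Fin n) R →ₐ[R] A) (hψ : Function.Surjective ψ) [DRing.HasLBaseChange (algebraMap R (MvPolynomial (Fin n) R))] (Rψ : Dual.D (MvPolynomial (Fin n) R) ⥤ Dual.D A) (adj : DRing.restrictD ψ.toRingHom ⊣ Rψ) [IsLocalRing R] (m : Ideal A) [m.IsMaximal] (hm : m.comap (algebraMap R A) = IsLocalRing.maximalIdeal R) (ω : Dual.D R) (hω : Dual.IsDualizing R ω) (hn : Dual.IsNormalized R ω) [DRing.HasLBaseChange (algebraMap A (Localization.AtPrime m))] : Dual.IsDualizing (Localization.AtPrime m) ((DRing.LBaseChange (algebraMap A (Localization.AtPrime m))).obj (Dual2.shriekVia n Rψ ω)) ∧ Dual.IsNormalized (Localization.AtPrime m) ((DRing.LBaseChange (algebraMap A (Localization.AtPrime m))).obj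 (Dual2.shriekVia n Rψ ω)) := by
  haveI : Module.Flat R (MvPolynomial (Fin n) R) := inferInstance
  haveI := GrothLib.DR.preservesFiniteLimits_extendScalars (algebraMap R (MvPolynomial (Fin n) R)) GrothLib.DR.flat_algebraMap
  let S := Localization.AtPrime m
  haveI : Module.Flat A S := IsLocalization.flat S m.primeCompl
  haveI := GrothLib.DR.preservesFiniteLimits_extendScalars (algebraMap A S) GrothLib.DR.flat_algebraMap
  obtain ⟨eP⟩ := GrothLib.DualCx22.nonempty_lBase_iso_bcD (A := R) (MvPolynomial (Fin n) R)
  obtain ⟨eS⟩ := GrothLib.DualCx22.nonempty_lBase_iso_bcD (A := A) S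
  let W := Dual2.shriekVia n Rψ ω
  have hW : Dual.IsDualizing A W := Groth.Agent.S1782.result R A n ψ hψ Rψ adj ω hω
  have hdual : Dual.IsDualizing S ((GrothLib.DualCx22.bcD (A := A) S).obj W) :=
    GrothLib.DualCx22.isDualizing_bcD_localization m.primeCompl S hW
  refine ⟨GrothLib.DualCx22.isDualizing_of_iso (eS.app W).symm hdual, fun i hi => ?_⟩
  -- the closed point of affine space below
  let M := m.comap ψ.toRingHom
  haveI : M.IsMaximal := Ideal.comap_isMaximal_of_surjective _ hψ
  have hM : M.comap (algebraMap R (MvPolynomial (Fin n) R)) = IsLocalRing.maximalIdeal R := by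
    rw [← hm, Ideal.comap_comap]
    exact congrArg (fun φ => m.comap φ) (RingHom.ext fun r => ψ.commutes r)
  let L := (DRing.LBaseChange (algebraMap R (MvPolynomial (Fin n) R))).obj ω
  -- vanishing over affine space and over the algebra
  haveI hA : Subsingleton (GrothLib.DualRing.EH W (Dual.inD A (A ⧸ m)) i) := by
    haveI hP : Subsingleton (GrothLib.DualRing.EH L (Dual.inD (MvPolynomial (Fin n) R) (MvPolynomial (Fin n) R ⧸ M)) (i + n)) := by
      haveI := GrothLib.DualRing.subsingleton_residue_mvPolynomial hω hn n M hM (i + n) (by omega)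
      exact ((Iso.refl _).homCongr ((shiftFunctor (Dual.D (MvPolynomial (Fin n) R)) (i + n)).mapIso (eP.app ω).symm)).symm.subsingleton
    letI : Algebra (MvPolynomial (Fin n) R) A := ψ.toRingHom.toAlgebra
    let q : (MvPolynomial (Fin n) R ⧸ M) ≃ₗ[MvPolynomial (Fin n) R]
        (ModuleCat.restrictScalars.{u} ψ.toRingHom).obj (ModuleCat.of A (A ⧸ m)) :=
      LinearEquiv.ofBijective
        ({ toFun := fun x => Ideal.quotientMap m ψ.toRingHom le_rfl x
           map_add' := fun x y => map_add _ x y
           map_smul' := fun r x => by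
             obtain ⟨x, rfl⟩ := Ideal.Quotient.mk_surjective x
             exact map_mul (Ideal.quotientMap m ψ.toRingHom le_rfl) (Ideal.Quotient.mk M r) (Ideal.Quotient.mk M x) } :
          (MvPolynomial (Fin n) R ⧸ M) →ₗ[MvPolynomial (Fin n) R]
            (ModuleCat.restrictScalars.{u} ψ.toRingHom).obj (ModuleCat.of A (A ⧸ m)))
        ⟨Ideal.quotientMap_injective, Ideal.quotientMap_surjective (H := le_rfl) hψ⟩
    haveI h1 := GrothLib.DualCx22.subsingleton_hom_rightAdjoint ψ.toRingHom adj L (A ⧸ m) (i + n)
      ((((DerivedCategory.singleFunctor (ModuleCat.{u} (MvPolynomial (Fin n) R)) 0).mapIso q.toModuleIso).homFromEquiv).symm.subsingleton)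
    exact (GrothLib.DualRing.shiftTarget (Rψ.obj L) (Dual.inD A (A ⧸ m)) (n : ℤ) i (i + n) (add_comm _ _)).toEquiv.subsingleton
  -- vanishing at the local ring
  obtain ⟨a, b, hab⟩ := hW.finite_injective_dimension
  haveI : W.IsGE a := GrothLib.DualCx22.isGE_of_hom_ring W a fun j hj => hab A j (Or.inl hj)
  obtain ⟨E⟩ := GrothLib.DualRing.nonempty_equiv_quotient_bcD S W a m i
  haveI h2 : Subsingleton (GrothLib.DualRing.EH ((GrothLib.DualCx22.bcD (A := A) S).obj W) (Dual.inD S (S ⧸ m.map (algebraMap A S))) i) := by
    haveI : Subsingleton (TensorProduct A S (GrothLib.DualRing.EH W (Dual.inD A (A ⧸ m)) i)) :=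
      GrothLib.DualRing.subsingleton_tensor_of_killed S fun y => ⟨1, by simp, Subsingleton.elim _ _⟩
    exact E.toEquiv.subsingleton
  rw [Localization.AtPrime.map_eq_maximalIdeal] at h2
  haveI := h2
  exact ((Iso.refl (Dual.inD S (S ⧸ IsLocalRing.maximalIdeal S))).homCongr ((shiftFunctor (Dual.D S) i).mapIso (eS.app W))).subsingleton

end Groth.Agent.S1789
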