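import Groth.Statements.S17892
import Groth.Agent.S2331
import Groth.Agent.Lib.RLpsi8.SectionTensor

set_option autoImplicit false
universe u
open CategoryTheory AlgebraicGeometry
open FlatMor

namespace Groth.Agent.S17892

/-- Here f : Y → X is an affine morphism with X and Y quasi-compact and quasi-separated; a
Y-modification of X is a factorization f = fᵢ ≫ gᵢ with fᵢ : Y → Xᵢ schematically dominant and gᵢ :
Xᵢ → X proper, and it is a Y-blow-up of X when Xᵢ carries a gᵢ-ample module L with a section ε : O →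
L whose pullback along fᵢ is an isomorphism (a Y-trivialization). If (Xᵢ, fᵢ, gᵢ) is a Y-blow-up of
X and (Xⱼ, fⱼ, gᵢⱼ) is a Y-blow-up of Xᵢ (with respect to fᵢ : Y → Xᵢ), then (Xⱼ, fⱼ, gᵢⱼ ≫ gᵢ) is a
Y-blow-up of X. -/
theorem result {X Y : Scheme.{u}} (f : Y ⟶ X)
    [CompactSpace X] [QuasiSeparatedSpace X] [CompactSpace Y] [QuasiSeparatedSpace Y] [IsAffineHom f]
    {Xᵢ Xⱼ : Scheme.{u}} (fᵢ : Y ⟶ Xᵢ) (gᵢ : Xᵢ ⟶ X) (fⱼ : Y ⟶ Xⱼ) (gᵢⱼ : Xⱼ ⟶ Xᵢ)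
    (hᵢ : IsSchemeTheoreticallyDominant fᵢ ∧ IsProper gᵢ ∧ fᵢ ≫ gᵢ = f ∧
        ∃ (L : Xᵢ.Modules) (ε : Coh.structureModule Xᵢ ⟶ L),
          RelAmple.IsRelAmple gᵢ L ∧ IsIso ((Scheme.Modules.pullback fᵢ).map ε))
    (hⱼ : IsSchemeTheoreticallyDominant fⱼ ∧ IsProper gᵢⱼ ∧ fⱼ ≫ gᵢⱼ = fᵢ ∧
        ∃ (L : Xⱼ.Modules) (ε : Coh.structureModule Xⱼ ⟶ L),
          RelAmple.IsRelAmple gᵢⱼ L ∧ IsIso ((Scheme.Modules.pullback fⱼ).map ε)) :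
    IsSchemeTheoreticallyDominant fⱼ ∧ IsProper (gᵢⱼ ≫ gᵢ) ∧ fⱼ ≫ (gᵢⱼ ≫ gᵢ) = f ∧
        ∃ (L : Xⱼ.Modules) (ε : Coh.structureModule Xⱼ ⟶ L),
          RelAmple.IsRelAmple (gᵢⱼ ≫ gᵢ) L ∧ IsIso ((Scheme.Modules.pullback fⱼ).map ε) := by
  obtain ⟨hdi, hgi, hfgi, K, εi, hK, hεi⟩ := hᵢ
  obtain ⟨hdj, hgij, hfgij, L, εj, hL, hεj⟩ := hⱼ
  haveI := hgi
  haveI := hgij
  refine ⟨hdj, inferInstance, by rw [← Category.assoc, hfgij, hfgi], ?_⟩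
  obtain ⟨n₀, -, hn⟩ := Groth.Agent.S2331.result gᵢⱼ gᵢ L K hL hK
  have hKinv := GrothLib.Ample.isInvertible_of_isRelAmple hK
  have hLinv := GrothLib.Ample.isInvertible_of_isRelAmple hL
  obtain ⟨w, hw⟩ := GrothLib.RLpsi8.exists_combined_section gᵢⱼ hLinv hKinv εj εi n₀
  refine ⟨_, w, hn n₀ le_rfl, ?_⟩
  rw [GrothLib.RLpsi8.isIso_pullback_map_iff fⱼ (GrothLib.Ample.isInvertible_of_isRelAmple (hn n₀ le_rfl))]
  have h1 := (GrothLib.RLpsi8.isIso_pullback_map_iff fⱼ hLinv εj).mp hεj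
  have h2 := (GrothLib.RLpsi8.isIso_pullback_map_iff fᵢ hKinv εi).mp hεi
  refine top_le_iff.mp fun y hy => hw ⟨?_, ?_⟩
  · have : y ∈ fⱼ ⁻¹ᵁ CohB1.genLocus L εj := h1.symm ▸ hy
    exact this
  · have : y ∈ fᵢ ⁻¹ᵁ CohB1.genLocus K εi := h2.symm ▸ hy
    rw [← hfgij] at this
    exact this

end Groth.Agent.S17892
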