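import Groth.Statements.S17891
import Groth.Agent.S17892
import Groth.Agent.S2332
import Groth.Agent.Lib.RLpsi8.SectionTensor
import Groth.Agent.Lib.NormAmple.Descent
import Groth.Agent.Lib.Misc6.LiftClosed

set_option autoImplicit false
universe u
open CategoryTheory AlgebraicGeometry
open FlatMor

namespace Groth.Agent.S17891

/-- Here f : Y → X is an affine morphism with X and Y quasi-compact and quasi-separated; a
Y-modification of X is a factorization f = fᵢ ≫ gᵢ with fᵢ : Y → Xᵢ schematically dominant and gᵢ :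
Xᵢ → X proper, and it is a Y-blow-up of X when Xᵢ carries a gᵢ-ample module L with a section ε : O →
L whose pullback along fᵢ is an isomorphism (a Y-trivialization). Given two Y-blow-ups (X₁, f₁, g₁),
(X₂, f₂, g₂) of X there is a Y-blow-up (X₃, f₃, g₃) of X together with morphisms dᵢ : X₃ → Xᵢ
satisfying f₃ ≫ dᵢ = fᵢ and dᵢ ≫ gᵢ = g₃. -/
theorem result {X Y : Scheme.{u}} (f : Y ⟶ X)
    [CompactSpace X] [QuasiSeparatedSpace X] [CompactSpace Y] [QuasiSeparatedSpace Y] [IsAffineHom f]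
    {X₁ X₂ : Scheme.{u}} (f₁ : Y ⟶ X₁) (g₁ : X₁ ⟶ X) (f₂ : Y ⟶ X₂) (g₂ : X₂ ⟶ X)
    (h₁ : IsSchemeTheoreticallyDominant f₁ ∧ IsProper g₁ ∧ f₁ ≫ g₁ = f ∧
        ∃ (L : X₁.Modules) (ε : Coh.structureModule X₁ ⟶ L),
          RelAmple.IsRelAmple g₁ L ∧ IsIso ((Scheme.Modules.pullback f₁).map ε))
    (h₂ : IsSchemeTheoreticallyDominant f₂ ∧ IsProper g₂ ∧ f₂ ≫ g₂ = f ∧
        ∃ (L : X₂.Modules) (ε : Coh.structureModule X₂ ⟶ L),
          RelAmple.IsRelAmple g₂ L ∧ IsIso ((Scheme.Modules.pullback f₂).map ε)) :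
    ∃ (X₃ : Scheme.{u}) (f₃ : Y ⟶ X₃) (g₃ : X₃ ⟶ X) (d₁ : X₃ ⟶ X₁) (d₂ : X₃ ⟶ X₂),
      (IsSchemeTheoreticallyDominant f₃ ∧ IsProper g₃ ∧ f₃ ≫ g₃ = f ∧
        ∃ (L : X₃.Modules) (ε : Coh.structureModule X₃ ⟶ L),
          RelAmple.IsRelAmple g₃ L ∧ IsIso ((Scheme.Modules.pullback f₃).map ε)) ∧
      f₃ ≫ d₁ = f₁ ∧ d₁ ≫ g₁ = g₃ ∧ f₃ ≫ d₂ = f₂ ∧ d₂ ≫ g₂ = g₃ := by
  obtain ⟨hd₁, hg₁, hfg₁, L₁, ε₁, hL₁, hε₁⟩ := h₁
  obtain ⟨hd₂, hg₂, hfg₂, L₂, ε₂, hL₂, hε₂⟩ := h₂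
  haveI := hg₁
  haveI := hg₂
  let q := Limits.pullback.lift f₁ f₂ (by rw [hfg₁, hfg₂] : f₁ ≫ g₁ = f₂ ≫ g₂)
  haveI : QuasiCompact q := by
    haveI : QuasiCompact (q ≫ (Limits.pullback.fst g₁ g₂ ≫ g₁)) := by
      rw [← Category.assoc, Limits.pullback.lift_fst, hfg₁]; infer_instance
    exact QuasiCompact.of_comp q (Limits.pullback.fst g₁ g₂ ≫ g₁)
  haveI : IsProper (Limits.pullback.fst g₁ g₂) := MorphismProperty.pullback_fst _ _ inferInstance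
  haveI : QuasiCompact g₂ := inferInstance
  let d₁ := q.imageι ≫ Limits.pullback.fst g₁ g₂
  let d₂ := q.imageι ≫ Limits.pullback.snd g₁ g₂
  have hd₁f : q.toImage ≫ d₁ = f₁ := by rw [Scheme.Hom.toImage_imageι_assoc, Limits.pullback.lift_fst]
  have hd₂f : q.toImage ≫ d₂ = f₂ := by rw [Scheme.Hom.toImage_imageι_assoc, Limits.pullback.lift_snd]
  have hL₂inv := GrothLib.Ample.isInvertible_of_isRelAmple hL₂
  have hiso : ∀ {A B : Scheme.{u}} {h : A ⟶ B} {M M' : A.Modules}, RelAmple.IsRelAmple h M → (M ≅ M') →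
      RelAmple.IsRelAmple h M' := fun {A B h M M'} hM e => ⟨hM.1, fun V =>
    (GrothLib.Ample.isAmple_iff_of_iso ((Scheme.Modules.restrictFunctor (h ⁻¹ᵁ V.1).ι).mapIso e)).mp (hM.2 V)⟩
  have hrel : RelAmple.IsRelAmple d₁ ((Scheme.Modules.pullback d₂).obj L₂) := by
    have hb := Groth.Agent.S2332.result g₂ g₁ L₂ hL₂
    have hc : RelAmple.IsRelAmple (Limits.pullback.fst g₁ g₂) ((Scheme.Modules.pullback (Limits.pullback.snd g₁ g₂)).obj L₂) := by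
      let e := Limits.pullbackSymmetry g₁ g₂
      have h1 := GrothLib.NormAmple.isRelAmple_pullback (g := e.hom) (Limits.pullback.snd g₂ g₁) hb
      rw [Limits.pullbackSymmetry_hom_comp_snd] at h1
      refine hiso h1 ?_
      exact (Scheme.Modules.pullbackComp e.hom (Limits.pullback.fst g₂ g₁)).app L₂ ≪≫
        (Scheme.Modules.pullbackCongr (Limits.pullbackSymmetry_hom_comp_fst g₁ g₂)).app L₂
    exact hiso (GrothLib.NormAmple.isRelAmple_pullback (g := q.imageι) _ hc)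
      ((Scheme.Modules.pullbackComp q.imageι (Limits.pullback.snd g₁ g₂)).app L₂)
  obtain ⟨eS⟩ := GrothLib.Ample.nonempty_pullback_structureModule d₂
  let ε := eS.symm.hom ≫ (Scheme.Modules.pullback d₂).map ε₂
  have hε : IsIso ((Scheme.Modules.pullback q.toImage).map ε) := by
    rw [GrothLib.RLpsi8.isIso_pullback_map_iff _ (GrothLib.Ample.isInvertible_pullback d₂ hL₂inv),
      GrothLib.Ample.genLocus_pullback d₂ L₂ hL₂inv ε₂ eS.symm, ← Scheme.Hom.comp_preimage, hd₂f]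
    exact (GrothLib.RLpsi8.isIso_pullback_map_iff f₂ hL₂inv ε₂).mp hε₂
  have hstd := GrothLib.Misc6.isSchemeTheoreticallyDominant_toImage q
  obtain ⟨h3a, h3b, h3c, h3d⟩ := Groth.Agent.S17892.result f f₁ g₁ q.toImage d₁
    ⟨hd₁, hg₁, hfg₁, L₁, ε₁, hL₁, hε₁⟩ ⟨hstd, inferInstance, hd₁f, _, ε, hrel, hε⟩
  refine ⟨q.image, q.toImage, d₁ ≫ g₁, d₁, d₂, ⟨h3a, h3b, h3c, h3d⟩, hd₁f, rfl, hd₂f, ?_⟩
  show (q.imageι ≫ Limits.pullback.snd g₁ g₂) ≫ g₂ = (q.imageι ≫ Limits.pullback.fst g₁ g₂) ≫ g₁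
  rw [Category.assoc, Category.assoc, Limits.pullback.condition]

end Groth.Agent.S17891
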