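import Groth.Statements.S17896
import Groth.Agent.Lib.ExtLocFree8.Main
import Groth.Agent.Lib.ExtLocFree8.Domination
import Groth.Agent.S0384
import Groth.Agent.Lib.Chow.Core

set_option autoImplicit false
universe u
open CategoryTheory AlgebraicGeometry
open FlatMor

open GrothLib CategoryTheory.Limits
set_option backward.isDefEq.respectTransparency false

namespace Groth.Agent.S17896

/-- Let S be a Noetherian scheme, X₁ and X₂ separated S-schemes of finite type and j₁ : U → X₁, j₂ : U →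
X₂ open immersions over S with schematically dense images, and let E be an O_U-module extending to
finite locally free modules E₁ on X₁ and E₂ on X₂ (pullbacks along jᵢ isomorphic to E). Then there
exist a separated S-scheme X of finite type, an open immersion k : U → X over S with schematically
dense image, a finite locally free module E' on X whose pullback along k is isomorphic to E, and for
i = 1, 2 a proper quasi-domination of X over Xᵢ compatible with U: a schematically dense open Wᵢ ⊆ X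
through which k factors and a proper S-morphism φᵢ : Wᵢ → Xᵢ restricting to jᵢ on U, whose graph
morphism Wᵢ → X ×_S Xᵢ has closed image. -/
theorem result {S X₁ X₂ U : Scheme.{u}}
    [IsNoetherian S] (p₁ : X₁ ⟶ S) (p₂ : X₂ ⟶ S)
    [IsSeparated p₁] [QuasiCompact p₁] [LocallyOfFiniteType p₁]
    [IsSeparated p₂] [QuasiCompact p₂] [LocallyOfFiniteType p₂]
    (j₁ : U ⟶ X₁) (j₂ : U ⟶ X₂) [IsOpenImmersion j₁] [IsOpenImmersion j₂]
    [IsSchemeTheoreticallyDominant j₁] [IsSchemeTheoreticallyDominant j₂] (hj : j₁ ≫ p₁ = j₂ ≫ p₂)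
    (E : U.Modules) (E₁ : X₁.Modules) (E₂ : X₂.Modules)
    (hE₁ : FlatMod.IsFinLocFree E₁) (hE₂ : FlatMod.IsFinLocFree E₂)
    (e₁ : (Scheme.Modules.pullback j₁).obj E₁ ≅ E) (e₂ : (Scheme.Modules.pullback j₂).obj E₂ ≅ E) :
    ∃ (X : Scheme.{u}) (p : X ⟶ S) (k : U ⟶ X) (E' : X.Modules),
      IsSeparated p ∧ QuasiCompact p ∧ LocallyOfFiniteType p ∧ IsOpenImmersion k ∧ QuasiCompact k ∧
      IsSchemeTheoreticallyDominant k ∧ k ≫ p = j₁ ≫ p₁ ∧ FlatMod.IsFinLocFree E' ∧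
      Nonempty ((Scheme.Modules.pullback k).obj E' ≅ E) ∧
      (∃ (W₁ : X.Opens) (φ₁ : (↑W₁ : Scheme.{u}) ⟶ X₁) (hφ₁ : W₁.ι ≫ p = φ₁ ≫ p₁) (l₁ : U ⟶ ↑W₁),
        IsSchemeTheoreticallyDominant W₁.ι ∧ IsProper φ₁ ∧ l₁ ≫ W₁.ι = k ∧ l₁ ≫ φ₁ = j₁ ∧
        IsClosed (Set.range (fun w => (Limits.pullback.lift W₁.ι φ₁ hφ₁) w))) ∧
      (∃ (W₂ : X.Opens) (φ₂ : (↑W₂ : Scheme.{u}) ⟶ X₂) (hφ₂ : W₂.ι ≫ p = φ₂ ≫ p₂) (l₂ : U ⟶ ↑W₂),
        IsSchemeTheoreticallyDominant W₂.ι ∧ IsProper φ₂ ∧ l₂ ≫ W₂.ι = k ∧ l₂ ≫ φ₂ = j₂ ∧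
        IsClosed (Set.range (fun w => (Limits.pullback.lift W₂.ι φ₂ hφ₂) w))) := by
  haveI : IsLocallyNoetherian X₁ := LocallyOfFiniteType.isLocallyNoetherian p₁
  haveI : CompactSpace X₁ := QuasiCompact.compactSpace_of_compactSpace p₁
  haveI : IsNoetherian X₁ := {}
  haveI : CompactSpace U := QuasiCompact.compactSpace_of_compactSpace j₁
  obtain ⟨C₁, c₁, g₁, hc₁, -, hg₁, hcg₁⟩ := Groth.Agent.S0384.result p₁
  obtain ⟨C₂, c₂, g₂, hc₂, -, hg₂, hcg₂⟩ := Groth.Agent.S0384.result p₂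
  haveI := hc₁
  haveI := hc₂
  haveI := hg₁
  haveI := hg₂
  let t : U ⟶ pullback g₁ g₂ := pullback.lift (j₁ ≫ c₁) (j₂ ≫ c₂) (by rw [Category.assoc, Category.assoc, hcg₁, hcg₂, hj])
  have htf : t ≫ pullback.fst g₁ g₂ = j₁ ≫ c₁ := pullback.lift_fst _ _ _
  have hts : t ≫ pullback.snd g₁ g₂ = j₂ ≫ c₂ := pullback.lift_snd _ _ _
  haveI : IsImmersion (t ≫ pullback.fst g₁ g₂) := by rw [htf]; infer_instance
  haveI : IsImmersion t := IsImmersion.of_comp t (pullback.fst g₁ g₂)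
  haveI : IsLocallyNoetherian C₁ := LocallyOfFiniteType.isLocallyNoetherian g₁
  haveI : QuasiCompact (t ≫ pullback.fst g₁ g₂) := by rw [htf]; infer_instance
  haveI : QuasiCompact t := QuasiCompact.of_comp t (pullback.fst g₁ g₂)
  let Z := t.image
  let gZ : Z ⟶ S := t.imageι ≫ pullback.fst g₁ g₂ ≫ g₁
  haveI : IsLocallyNoetherian Z := LocallyOfFiniteType.isLocallyNoetherian gZ
  haveI : CompactSpace Z := QuasiCompact.compactSpace_of_compactSpace gZ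
  haveI : IsNoetherian Z := {}
  haveI : IsSchemeTheoreticallyDominant t.toImage := GrothLib.Chow.stdDominant_toImage t
  have hE : FlatMod.IsFinLocFree E := fun x =>
    let ⟨W, n, h, ⟨φ⟩⟩ := GrothLib.OX.isFinLocFree_pullback j₁ hE₁ x
    ⟨W, n, h, ⟨(Scheme.Modules.restrictFunctor W.ι).mapIso e₁.symm ≪≫ φ⟩⟩
  obtain ⟨X, b, k, hb, -, hko, hkq, hkd, hkb, hext⟩ := GrothLib.ExtLocFree8.exists_family t.toImage (fun _ : PUnit.{1} => E)
    fun _ => hE
  obtain ⟨E', hE', he'⟩ := hext PUnit.unit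
  haveI := hb
  haveI := hko
  haveI := hkq
  haveI := hkd
  let p : X ⟶ S := b ≫ gZ
  let ρ₁ : X ⟶ C₁ := b ≫ t.imageι ≫ pullback.fst g₁ g₂
  let ρ₂ : X ⟶ C₂ := b ≫ t.imageι ≫ pullback.snd g₁ g₂
  have hk₁ : k ≫ ρ₁ = j₁ ≫ c₁ := by simp only [ρ₁, reassoc_of% hkb, Scheme.Hom.toImage_imageι_assoc, htf]
  have hk₂ : k ≫ ρ₂ = j₂ ≫ c₂ := by simp only [ρ₂, reassoc_of% hkb, Scheme.Hom.toImage_imageι_assoc, hts]
  have hρ₁ : ρ₁ ≫ g₁ = p := by simp only [ρ₁, p, gZ, Category.assoc]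
  have hρ₂ : ρ₂ ≫ g₂ = p := by simp only [ρ₂, p, gZ, Category.assoc, pullback.condition]
  have hkp : k ≫ p = j₁ ≫ p₁ := by rw [← hρ₁, reassoc_of% hk₁, hcg₁]
  refine ⟨X, p, k, E', inferInstance, inferInstance, inferInstance, hko, hkq, hkd, hkp, hE', he', ?_, ?_⟩
  · exact GrothLib.ExtLocFree8.exists_quasiDomination p k p₁ c₁ g₁ hcg₁ ρ₁ hρ₁ j₁ hk₁
  · exact GrothLib.ExtLocFree8.exists_quasiDomination p k p₂ c₂ g₂ hcg₂ ρ₂ hρ₂ j₂ hk₂

end Groth.Agent.S17896
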