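import Groth.Statements.S17897
import Groth.Agent.Lib.DVRDom.Scheme

set_option autoImplicit false
universe u
open CategoryTheory AlgebraicGeometry
open ValCrit

namespace Groth.Agent.S17897

/-- Let f : Y → X be a morphism of schemes (not assumed separated), R a valuation ring with fraction
field K, and i : Spec K → Y, φ : Spec R → X with i ≫ f = (Spec K → Spec R) ≫ φ. Let y be the point
of Y hit by i and g : κ(y) → K the induced embedding, R' = g⁻¹(R) the induced valuation ring of κ(y)
and ρ : R' → R the restriction of g. Then φ factors uniquely through Spec R → Spec R': there is a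
unique φ' : Spec R' → X with (Spec ρ) ≫ φ' = φ whose restriction to the generic point Spec κ(y) is
the canonical morphism Spec κ(y) → Y followed by f. (Here y and g are given as data with Spec g
followed by Spec κ(y) → Y equal to i, and ρ as data by its defining equation.) -/
theorem result {X Y : Scheme.{u}} (f : Y ⟶ X)
    (K : Type u) [Field K] (R : ValuationSubring K)
    (i : Spec (CommRingCat.of K) ⟶ Y) (φ : Spec (CommRingCat.of ↥R) ⟶ X)
    (w : Spec.map (CommRingCat.ofHom R.subtype) ≫ φ = i ≫ f)
    (y : Y) (g : Y.residueField y ⟶ CommRingCat.of K) (hg : Spec.map g ≫ Y.fromSpecResidueField y = i)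
    (ρ : ↥(R.comap g.hom) →+* ↥R)
    (hρ : ∀ x : ↥(R.comap g.hom), ((ρ x : ↥R) : K) = g.hom (x : ↑(Y.residueField y))) :
    ∃! φ' : Spec (CommRingCat.of ↥(R.comap g.hom)) ⟶ X,
      Spec.map (CommRingCat.ofHom ρ) ≫ φ' = φ ∧
      Spec.map (CommRingCat.ofHom (R.comap g.hom).subtype) ≫ φ' = Y.fromSpecResidueField y ≫ f := by
  have hρl : IsLocalHom ρ := ⟨fun a ha ↦ by
    obtain ⟨b, hb⟩ := ha.exists_right_inv
    have hb' : g.hom (a : Y.residueField y) * (b : K) = 1 := by
      rw [← hρ]; exact congrArg Subtype.val hb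
    have hmem : (a : Y.residueField y)⁻¹ ∈ R.comap g.hom := by
      show g.hom _ ∈ R
      rw [map_inv₀, inv_eq_of_mul_eq_one_right hb']
      exact b.2
    exact isUnit_iff_exists_inv.mpr ⟨⟨_, hmem⟩, Subtype.ext (mul_inv_cancel₀ fun h0 ↦ by
      rw [h0, map_zero, zero_mul] at hb'; exact zero_ne_one hb')⟩⟩
  let x₀ : X := φ.base (IsLocalRing.closedPoint R)
  have hsp : f.base y ⤳ x₀ := by
    have h1 : f.base y = φ.base ((Spec.map (CommRingCat.ofHom R.subtype)).base (IsLocalRing.closedPoint K)) := by
      have h2 := congrArg (fun m ↦ m.base (IsLocalRing.closedPoint K)) w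
      refine Eq.trans ?_ h2.symm
      rw [← hg]
      exact congrArg f.base (Scheme.fromSpecResidueField_apply y _).symm
    rw [h1]
    exact (IsLocalRing.specializes_closedPoint _).map φ.continuous
  let ψ : X.presheaf.stalk x₀ ⟶ .of R := Scheme.stalkClosedPointTo φ
  let β := GrothLib.DVRDom.toResidue f y x₀ hsp
  have hψ : ψ ≫ CommRingCat.ofHom R.subtype = β ≫ g := by
    apply Spec.map_injective
    rw [← cancel_mono (X.fromSpecStalk x₀), Spec.map_comp, Spec.map_comp, Category.assoc, Category.assoc]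
    exact ((congrArg (Spec.map (CommRingCat.ofHom R.subtype) ≫ ·) (Scheme.Spec_stalkClosedPointTo_fromSpecStalk φ)).trans w).trans
      (((congrArg (Spec.map g ≫ ·) (GrothLib.DVRDom.specMap_toResidue f y x₀ hsp)).trans
        ((Category.assoc _ _ _).symm.trans (congrArg (· ≫ f) hg))).symm)
  have hmem : ∀ a, β.hom a ∈ R.comap g.hom := fun a ↦ by
    show g.hom (β.hom a) ∈ R
    rw [show g.hom (β.hom a) = (ψ.hom a : K) from (ConcreteCategory.congr_hom hψ a).symm]
    exact (ψ.hom a).2
  let c : X.presheaf.stalk x₀ →+* R.comap g.hom := β.hom.codRestrict (R.comap g.hom).toSubring hmem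
  have hc : ρ.comp c = ψ.hom := by
    ext a
    rw [RingHom.comp_apply, hρ]
    exact (ConcreteCategory.congr_hom hψ a).symm
  refine ⟨Spec.map (CommRingCat.ofHom c) ≫ X.fromSpecStalk x₀, ⟨?_, ?_⟩, fun φ' ⟨h1, h2⟩ ↦ ?_⟩
  · rw [← Category.assoc, ← Spec.map_comp, ← CommRingCat.ofHom_comp, hc]
    exact Scheme.Spec_stalkClosedPointTo_fromSpecStalk φ
  · rw [← Category.assoc, ← Spec.map_comp]
    exact GrothLib.DVRDom.specMap_toResidue f y x₀ hsp
  refine GrothLib.DVRDom.eq_of_closedPoint (R.comap g.hom).subtype Subtype.val_injective _ _ ?_ ?_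
  · have : IsLocalHom c := by
      refine ⟨fun a ha ↦ ?_⟩
      have hu : IsUnit (ψ.hom a) := by
        rw [← hc]; exact ha.map ρ
      exact (Scheme.isLocalHom_stalkClosedPointTo φ).map_nonunit a hu
    rw [← GrothLib.DVRDom.closedPoint_comp ρ φ', h1]
    show x₀ = _
    show x₀ = (X.fromSpecStalk x₀).base ((Spec.map (CommRingCat.ofHom c)).base (IsLocalRing.closedPoint _))
    rw [show (Spec.map (CommRingCat.ofHom c)).base (IsLocalRing.closedPoint _) = IsLocalRing.closedPoint _ from
      IsLocalRing.comap_closedPoint c, Scheme.fromSpecStalk_closedPoint]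
  · refine h2.trans ?_
    rw [← Category.assoc, ← Spec.map_comp]
    exact (GrothLib.DVRDom.specMap_toResidue f y x₀ hsp).symm

end Groth.Agent.S17897
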