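import Groth.Statements.S17898
import Groth.Agent.Lib.DVRDom.Scheme

set_option autoImplicit false
universe u
open CategoryTheory AlgebraicGeometry
open ValCrit

namespace Groth.Agent.S17898

/-- Let f : Y → X be a morphism of schemes (not assumed separated), K a field with valuation rings R ⊆
R' (inclusion ι), i : Spec K → Y and φ : Spec R → X a commutative square over f, and g : Spec R' → Y
a lift of Spec R' → Spec R → X restricting to i on Spec K. Let K̃ be the residue field of R', R̃ ⊆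
K̃ the image of R (a valuation ring of K̃) with the surjection σ : R → R̃. Then every h̃ : Spec R̃ →
Y whose restriction to Spec K̃ is Spec K̃ → Spec R' → Y (via g) and which lies over Spec R̃ → Spec R
→ X is induced by a unique h : Spec R → Y compatible with the whole diagram: h restricts to i on
Spec K, lies over φ, restricts to g along Spec R' → Spec R and to h̃ along Spec R̃ → Spec R. (ι, R̃,
σ are given as data pinned by their defining equations.) -/
theorem result {X Y : Scheme.{u}} (f : Y ⟶ X)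
    (K : Type u) [Field K] (R R' : ValuationSubring K) (hRR' : R ≤ R')
    (ι : ↥R →+* ↥R') (hι : ∀ x : ↥R, ((ι x : ↥R') : K) = (x : K))
    (i : Spec (CommRingCat.of K) ⟶ Y) (φ : Spec (CommRingCat.of ↥R) ⟶ X)
    (w : Spec.map (CommRingCat.ofHom R.subtype) ≫ φ = i ≫ f)
    (g : Spec (CommRingCat.of ↥R') ⟶ Y) (hg₁ : Spec.map (CommRingCat.ofHom R'.subtype) ≫ g = i)
    (hg₂ : g ≫ f = Spec.map (CommRingCat.ofHom ι) ≫ φ)
    (Rt : ValuationSubring (IsLocalRing.ResidueField ↥R')) (σ : ↥R →+* ↥Rt) (hσs : Function.Surjective σ)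
    (hσ : ∀ x : ↥R, ((σ x : ↥Rt) : IsLocalRing.ResidueField ↥R') = IsLocalRing.residue ↥R' (ι x))
    (ht : Spec (CommRingCat.of ↥Rt) ⟶ Y)
    (hht₁ : Spec.map (CommRingCat.ofHom Rt.subtype) ≫ ht =
      Spec.map (CommRingCat.ofHom (IsLocalRing.residue ↥R')) ≫ g)
    (hht₂ : ht ≫ f = Spec.map (CommRingCat.ofHom σ) ≫ φ) :
    ∃! h : Spec (CommRingCat.of ↥R) ⟶ Y, Spec.map (CommRingCat.ofHom R.subtype) ≫ h = i ∧ h ≫ f = φ ∧
      Spec.map (CommRingCat.ofHom ι) ≫ h = g ∧ Spec.map (CommRingCat.ofHom σ) ≫ h = ht := by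
  let y₀ : Y := ht.base (IsLocalRing.closedPoint Rt)
  obtain ⟨_, ⟨W, hW, rfl⟩, hyW, -⟩ :=
    Y.isBasis_affineOpens.exists_subset_of_mem_open (Set.mem_univ y₀) isOpen_univ
  have hgW : g.base (IsLocalRing.closedPoint R') ∈ W := by
    have h1 := GrothLib.DVRDom.closedPoint_comp (IsLocalRing.residue R') g
    rw [← h1, ← hht₁]
    exact GrothLib.DVRDom.mem_of_closedPoint_mem ht hyW _
  obtain ⟨a, ha⟩ := GrothLib.DVRDom.exists_specMap_eq g hW hgW
  obtain ⟨b, hb⟩ := GrothLib.DVRDom.exists_specMap_eq ht hW hyW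
  have hab : b ≫ CommRingCat.ofHom Rt.subtype = a ≫ CommRingCat.ofHom (IsLocalRing.residue R') := by
    apply GrothLib.DVRDom.specMap_injective hW
    rw [Spec.map_comp, Spec.map_comp, Category.assoc, Category.assoc, ha, hb]
    exact hht₁
  have hmem : ∀ s, (a.hom s : K) ∈ R := by
    intro s
    obtain ⟨r, hr⟩ := hσs (b.hom s)
    have h1 : IsLocalRing.residue R' (a.hom s - ι r) = 0 := by
      rw [map_sub, ← hσ, hr, sub_eq_zero]
      exact (ConcreteCategory.congr_hom hab s).symm
    have h2 : ((a.hom s - ι r : R') : K) ∈ R := by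
      by_contra hz
      have hinv := (R.mem_or_inv_mem _).resolve_left hz
      rw [IsLocalRing.residue_eq_zero_iff] at h1
      refine (IsLocalRing.mem_maximalIdeal _).mp h1 ?_
      exact isUnit_iff_exists_inv.mpr ⟨⟨_, hRR' hinv⟩, Subtype.ext (mul_inv_cancel₀ fun h0 ↦
        hz (h0.symm ▸ zero_mem R))⟩
    have h3 : (a.hom s : K) = ((a.hom s - ι r : R') : K) + (r : K) := by
      push_cast
      rw [hι, sub_add_cancel]
    rw [h3]
    exact R.add_mem _ _ h2 r.2
  let D : Γ(Y, W) ⟶ .of R := CommRingCat.ofHom ((R'.subtype.comp a.hom).codRestrict R.toSubring hmem)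
  have hDι : D ≫ CommRingCat.ofHom ι = a := by
    ext s
    exact hι (D.hom s)
  have hDσ : D ≫ CommRingCat.ofHom σ = b := by
    ext s
    refine (hσ _).trans ?_
    exact (congrArg (IsLocalRing.residue R') (ConcreteCategory.congr_hom hDι s)).trans
      (ConcreteCategory.congr_hom hab s).symm
  have hσl : IsLocalHom σ := IsLocalHom.of_surjective σ hσs
  let h : Spec (.of R) ⟶ Y := Spec.map D ≫ hW.fromSpec
  have hhi : Spec.map (CommRingCat.ofHom R.subtype) ≫ h = i := by
    rw [← hg₁, ← ha, ← Category.assoc, ← Category.assoc, ← Spec.map_comp, ← Spec.map_comp]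
    rfl
  have hhg : Spec.map (CommRingCat.ofHom ι) ≫ h = g := by
    rw [← Category.assoc, ← Spec.map_comp, hDι, ha]
  have hht : Spec.map (CommRingCat.ofHom σ) ≫ h = ht := by
    rw [← Category.assoc, ← Spec.map_comp, hDσ, hb]
  refine ⟨h, ⟨hhi, ?_, hhg, hht⟩, fun h' ⟨h1, _, _, h4⟩ ↦ ?_⟩
  · refine GrothLib.DVRDom.eq_of_closedPoint R.subtype Subtype.val_injective _ _ ?_ ?_
    · rw [← GrothLib.DVRDom.closedPoint_comp σ (h ≫ f), ← GrothLib.DVRDom.closedPoint_comp σ φ,
        ← Category.assoc, hht, hht₂]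
    · rw [← Category.assoc, hhi, w]
  · refine GrothLib.DVRDom.eq_of_closedPoint R.subtype Subtype.val_injective _ _ ?_ (h1.trans hhi.symm)
    rw [← GrothLib.DVRDom.closedPoint_comp σ h', ← GrothLib.DVRDom.closedPoint_comp σ h, h4, hht]

end Groth.Agent.S17898
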