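import Groth.Statements.S17899
import Groth.Agent.Lib.NagataFP.Basic
import Mathlib

set_option autoImplicit false
universe u
open TensorProduct
open CAlg

namespace Groth.Agent.S17899

variable {A : Type u} [CommRing A] [IsLocalRing A] {R : ValuationSubring (IsLocalRing.ResidueField A)}
  {O : Subring A}

theorem mem_O_iff (hO : O = R.toSubring.comap (IsLocalRing.residue A)) (a : A) :
    a ∈ O ↔ IsLocalRing.residue A a ∈ R := by rw [hO]; rfl

theorem mem_O_of_mem_maximal (hO : O = R.toSubring.comap (IsLocalRing.residue A)) {a : A}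
    (ha : a ∈ IsLocalRing.maximalIdeal A) : a ∈ O := by
  rw [mem_O_iff hO, IsLocalRing.residue_eq_zero_iff a |>.2 ha]; exact zero_mem _

theorem exists_denom (hO : O = R.toSubring.comap (IsLocalRing.residue A)) (a : A) :
    ∃ s : A, s ∈ O ∧ IsUnit s ∧ a * s ∈ O := by
  by_cases h : IsLocalRing.residue A a ∈ R
  · exact ⟨1, one_mem O, isUnit_one, by rw [mul_one, mem_O_iff hO]; exact h⟩
  · have ha : IsLocalRing.residue A a ≠ 0 := fun h0 => h (h0 ▸ zero_mem _)
    have hu : IsUnit a := IsLocalRing.notMem_maximalIdeal.1 fun hm => ha ((IsLocalRing.residue_eq_zero_iff a).2 hm)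
    refine ⟨↑hu.unit⁻¹, ?_, Units.isUnit _, by rw [IsUnit.mul_val_inv]; exact one_mem O⟩
    rw [mem_O_iff hO, map_units_inv, IsUnit.unit_spec]
    exact (R.mem_or_inv_mem _).resolve_left h

theorem exists_min_coeff (hO : O = R.toSubring.comap (IsLocalRing.residue A)) {ι : Type*} [Fintype ι]
    (r : ι → A) (hr : ∃ i, r i ∉ IsLocalRing.maximalIdeal A) :
    ∃ (k : ι) (c : A), c * r k = 1 ∧ ∀ i, c * r i ∈ O := by
  classical
  obtain ⟨i₀, hi₀⟩ := hr
  obtain ⟨k, -, hk⟩ := Finset.exists_max_image Finset.univ (fun i => R.valuation (IsLocalRing.residue A (r i)))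
    ⟨i₀, Finset.mem_univ _⟩
  have h0 : R.valuation (IsLocalRing.residue A (r k)) ≠ 0 := fun h => hi₀ ((IsLocalRing.residue_eq_zero_iff _).1
    (((Valuation.zero_iff _).1 (le_antisymm (h ▸ hk i₀ (Finset.mem_univ _)) zero_le))))
  have hu : IsUnit (r k) := IsLocalRing.notMem_maximalIdeal.1 fun hm => h0 (by
    rw [(IsLocalRing.residue_eq_zero_iff _).2 hm, map_zero])
  refine ⟨k, ↑hu.unit⁻¹, IsUnit.val_inv_mul _, fun i => ?_⟩
  rw [mem_O_iff hO, ← R.valuation_le_one_iff, map_mul, map_units_inv, map_mul, map_inv₀, IsUnit.unit_spec]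
  calc (R.valuation (IsLocalRing.residue A (r k)))⁻¹ * R.valuation (IsLocalRing.residue A (r i))
      ≤ (R.valuation (IsLocalRing.residue A (r k)))⁻¹ * R.valuation (IsLocalRing.residue A (r k)) := by
        gcongr; exact hk i (Finset.mem_univ _)
    _ = 1 := inv_mul_cancel₀ h0

open TensorProduct in
/-- Every element of `A ⊗_O M` is a fraction. -/
theorem exists_frac (hO : O = R.toSubring.comap (IsLocalRing.residue A)) {M : Type u} [AddCommGroup M] [Module O M]
    (z : A ⊗[O] M) : ∃ (t : A) (c : M), IsUnit t ∧ z = t ⊗ₜ[O] c := by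
  induction z with
  | zero => exact ⟨1, 0, isUnit_one, (TensorProduct.tmul_zero _ _).symm⟩
  | tmul a c =>
    obtain ⟨s, hs, hsu, has⟩ := exists_denom hO a
    refine ⟨↑hsu.unit⁻¹, (⟨a * s, has⟩ : O) • c, Units.isUnit _, ?_⟩
    rw [← TensorProduct.smul_tmul, Subring.smul_def, smul_eq_mul, mul_assoc, IsUnit.mul_val_inv, mul_one]
  | add y z hy hz =>
    obtain ⟨t₁, c₁, ht₁, rfl⟩ := hy
    obtain ⟨t₂, c₂, ht₂, rfl⟩ := hz
    obtain ⟨s, hs, hsu, hts⟩ := exists_denom hO (t₁ * ↑ht₂.unit⁻¹)
    refine ⟨t₂ * ↑hsu.unit⁻¹, (⟨t₁ * ↑ht₂.unit⁻¹ * s, hts⟩ : O) • c₁ + (⟨s, hs⟩ : O) • c₂,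
      ht₂.mul (Units.isUnit _), ?_⟩
    rw [TensorProduct.tmul_add, ← TensorProduct.smul_tmul, ← TensorProduct.smul_tmul, Subring.smul_def, Subring.smul_def,
      smul_eq_mul, smul_eq_mul]
    congr 2
    · linear_combination (-t₁ * (hsu.unit⁻¹ : Aˣ) * s) * (ht₂.mul_val_inv) + (-t₁) * (hsu.mul_val_inv)
    · linear_combination (-t₂) * (hsu.mul_val_inv)

open TensorProduct in
theorem eq_tmul_of (hO : O = R.toSubring.comap (IsLocalRing.residue A)) {M : Type u} [AddCommGroup M] [Module O M]
    (hinj : Function.Injective (fun c : M => (1 : A) ⊗ₜ[O] c)) {s : O} (hs : IsUnit (s : A)) {c : M}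
    (h : s • c = 0) : c = 0 := by
  refine hinj ?_
  show (1 : A) ⊗ₜ[O] c = (1 : A) ⊗ₜ[O] (0 : M)
  have h1 : (s : A) • ((1 : A) ⊗ₜ[O] c) = 0 := by
    rw [TensorProduct.smul_tmul', smul_eq_mul, mul_one,
      show (s : A) = s • (1 : A) by rw [Subring.smul_def, smul_eq_mul, mul_one],
      TensorProduct.smul_tmul, h, TensorProduct.tmul_zero]
  rw [TensorProduct.tmul_zero]
  exact hs.smul_eq_zero.1 h1

open TensorProduct in
theorem flat_main (hO : O = R.toSubring.comap (IsLocalRing.residue A)) {M : Type u} [AddCommGroup M] [Module O M]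
    (hinj : Function.Injective (fun c : M => (1 : A) ⊗ₜ[O] c)) (hflat : Module.Flat A (A ⊗[O] M)) :
    Module.Flat O M := by
  classical
  rw [Module.Flat.iff_rTensor_injective]
  intro I hI
  -- minimal generators
  obtain ⟨n, ⟨g, hg⟩, hmin⟩ : ∃ n, (∃ g : Fin n → O, Submodule.span O (Set.range g) = I) ∧
      ∀ m < n, ¬ ∃ g : Fin m → O, Submodule.span O (Set.range g) = I :=
    ⟨Nat.find (Submodule.fg_iff_exists_fin_generating_family.1 hI), Nat.find_spec (Submodule.fg_iff_exists_fin_generating_family.1 hI),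
      fun m hm => Nat.find_min _ hm⟩
  have hrel : ∀ r : Fin n → A, ∑ i, (g i : A) * r i = 0 → ∀ i, r i ∈ IsLocalRing.maximalIdeal A := by
    intro r hr
    by_contra hne
    push Not at hne
    obtain ⟨k, c, hck, hc⟩ := exists_min_coeff hO r hne
    have hk : g k = -∑ i ∈ Finset.univ.erase k, (⟨c * r i, hc i⟩ : O) * g i := by
      rw [eq_neg_iff_add_eq_zero]
      refine Subtype.ext ?_
      simp only [Subring.coe_add, AddSubmonoidClass.coe_finsetSum, Subring.coe_mul, Subring.coe_zero]
      have h1 := congrArg (fun y => c * y) hr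
      simp only [Finset.mul_sum, mul_zero] at h1
      rw [← h1, ← Finset.add_sum_erase _ _ (Finset.mem_univ k), mul_left_comm c, hck, mul_one]
      congr 1
      exact Finset.sum_congr rfl fun i _ => by ring
    cases n with
    | zero => exact k.elim0
    | succ m =>
      refine hmin m (Nat.lt_succ_self m) ⟨fun i => g (k.succAbove i), le_antisymm ?_ ?_⟩
      · rw [← hg, Submodule.span_le]
        rintro _ ⟨i, rfl⟩
        exact Submodule.subset_span ⟨_, rfl⟩
      · rw [← hg, Submodule.span_le]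
        rintro _ ⟨i, rfl⟩
        have hmem : ∀ i, i ≠ k → g i ∈ Submodule.span O (Set.range fun i => g (k.succAbove i)) := fun i hi => by
          obtain ⟨j, rfl⟩ := Fin.exists_succAbove_eq hi
          exact Submodule.subset_span ⟨j, rfl⟩
        by_cases hi : i = k
        · subst hi
          rw [SetLike.mem_coe, hk]
          exact neg_mem (sum_mem fun j hj => Submodule.smul_mem _ _ (hmem j (Finset.ne_of_mem_erase hj)))
        · exact hmem i hi
  have hgI : ∀ i, g i ∈ I := fun i => hg ▸ Submodule.subset_span ⟨i, rfl⟩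
  have hz : ∀ z : I ⊗[O] M, ∃ d : Fin n → M, z = ∑ i, (⟨g i, hgI i⟩ : I) ⊗ₜ[O] d i := by
    intro z
    induction z with
    | zero => exact ⟨0, by simp⟩
    | tmul y c =>
      obtain ⟨a, ha⟩ := (Submodule.mem_span_range_iff_exists_fun O).1 (show (y : O) ∈ Submodule.span O (Set.range g) by rw [hg]; exact y.2)
      refine ⟨fun i => a i • c, ?_⟩
      simp only [← TensorProduct.smul_tmul, ← TensorProduct.sum_tmul]
      congr 1
      exact Subtype.ext (by simpa using ha.symm)
    | add y z hy hz =>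
      obtain ⟨d, rfl⟩ := hy
      obtain ⟨e, rfl⟩ := hz
      exact ⟨d + e, by simp [TensorProduct.tmul_add, Finset.sum_add_distrib]⟩
  rw [injective_iff_map_eq_zero]
  intro z hz0
  obtain ⟨d, rfl⟩ := hz z
  have hsum : ∑ i, (g i : A) • ((1 : A) ⊗ₜ[O] d i) = 0 := by
    have h1 := congrArg (fun w => (TensorProduct.lid O M) w) hz0
    simp only [map_sum, LinearMap.rTensor_tmul, Submodule.subtype_apply, TensorProduct.lid_tmul, map_zero] at h1
    calc _ = (1 : A) ⊗ₜ[O] (∑ i, g i • d i) := by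
          rw [TensorProduct.tmul_sum]
          refine Finset.sum_congr rfl fun i _ => ?_
          rw [← TensorProduct.smul_tmul, Subring.smul_def, TensorProduct.smul_tmul']
      _ = 0 := by rw [h1, TensorProduct.tmul_zero]
  obtain ⟨m, a, y, hd, ha⟩ := Module.Flat.isTrivialRelation_of_sum_smul_eq_zero hsum
  choose t c ht hy using fun j => exists_frac hO (y j)
  have hat : ∀ i j, a i j * t j ∈ IsLocalRing.maximalIdeal A := fun i j =>
    Ideal.mul_mem_right _ _ (hrel (fun i => a i j) (ha j) i)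
  have hd' : ∀ i, d i = ∑ j, (⟨a i j * t j, mem_O_of_mem_maximal hO (hat i j)⟩ : O) • c j := fun i => by
    refine hinj ?_
    show (1 : A) ⊗ₜ[O] d i = (1 : A) ⊗ₜ[O] _
    rw [show (1 : A) ⊗ₜ[O] d i = _ from hd i, TensorProduct.tmul_sum]
    refine Finset.sum_congr rfl fun j _ => ?_
    rw [hy j, ← TensorProduct.smul_tmul, Subring.smul_def, TensorProduct.smul_tmul', smul_eq_mul, smul_eq_mul, mul_one]
  calc ∑ i, (⟨g i, hgI i⟩ : I) ⊗ₜ[O] d i
      = ∑ j, (∑ i, (⟨a i j * t j, mem_O_of_mem_maximal hO (hat i j)⟩ : O) • (⟨g i, hgI i⟩ : I)) ⊗ₜ[O] c j := by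
        simp only [hd', TensorProduct.tmul_sum, TensorProduct.sum_tmul, TensorProduct.smul_tmul]
        exact Finset.sum_comm
    _ = 0 := by
        refine Finset.sum_eq_zero fun j _ => ?_
        rw [show (∑ i, (⟨a i j * t j, mem_O_of_mem_maximal hO (hat i j)⟩ : O) • (⟨g i, hgI i⟩ : I)) = 0 from ?_,
          TensorProduct.zero_tmul]
        refine Subtype.ext (Subtype.ext ?_)
        simp only [Submodule.coe_sum, Submodule.coe_smul, smul_eq_mul, AddSubmonoidClass.coe_finsetSum, Subring.coe_mul,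
          Submodule.coe_zero, Subring.coe_zero]
        calc ∑ i, a i j * t j * (g i : A) = (∑ i, (g i : A) * a i j) * t j := by
              rw [Finset.sum_mul]; exact Finset.sum_congr rfl fun i _ => by ring
          _ = 0 := by rw [ha j, zero_mul]

open TensorProduct MvPolynomial in
theorem fp_main (hO : O = R.toSubring.comap (IsLocalRing.residue A)) {C : Type u} [CommRing C] [Algebra O C]
    [Algebra.FiniteType O C]
    (hinj : Function.Injective (fun c : C => (1 : A) ⊗ₜ[O] c)) (hflat : Module.Flat A (A ⊗[O] C))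
    (hfp : Algebra.FinitePresentation A (A ⊗[O] C)) : Algebra.FinitePresentation O C := by
  classical
  obtain ⟨n, π, hπ⟩ := Algebra.FiniteType.iff_quotient_mvPolynomial''.1 (inferInstance : Algebra.FiniteType O C)
  obtain ⟨inc, hinc⟩ : ∃ inc : MvPolynomial (Fin n) O →ₐ[O] MvPolynomial (Fin n) A,
      ∀ P, inc P = MvPolynomial.map O.subtype P :=
    ⟨{ MvPolynomial.map O.subtype with commutes' := fun r => MvPolynomial.map_C _ _ }, fun _ => rfl⟩
  obtain ⟨πA, hπAX⟩ : ∃ πA : MvPolynomial (Fin n) A →ₐ[A] A ⊗[O] C, ∀ i, πA (X i) = 1 ⊗ₜ π (X i) :=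
    ⟨MvPolynomial.aeval fun i => 1 ⊗ₜ π (X i), fun i => aeval_X _ i⟩
  have hcomp : ∀ P, πA (inc P) = 1 ⊗ₜ π P := by
    refine fun P => DFunLike.congr_fun (MvPolynomial.algHom_ext (f := (πA.restrictScalars O).comp inc)
      (g := Algebra.TensorProduct.includeRight.comp π) fun i => ?_) P
    show πA (inc (X i)) = 1 ⊗ₜ π (X i)
    rw [hinc, MvPolynomial.map_X, hπAX]
  have hπAsurj : Function.Surjective πA := by
    intro z
    obtain ⟨t, c, -, rfl⟩ := exists_frac hO z
    obtain ⟨P, rfl⟩ := hπ c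
    exact ⟨MvPolynomial.C t * inc P, by
      rw [map_mul, hcomp, ← MvPolynomial.algebraMap_eq, AlgHom.commutes, Algebra.TensorProduct.algebraMap_apply,
        Algebra.TensorProduct.tmul_mul_tmul, one_mul, mul_one]; rfl⟩
  have hkerA : RingHom.ker πA ≤ (RingHom.ker π).map inc := by
    obtain ⟨χ, hχ⟩ : ∃ χ : MvPolynomial (Fin n) O →ₐ[O] MvPolynomial (Fin n) A ⧸ (RingHom.ker π).map inc,
        ∀ P, χ P = Ideal.Quotient.mk _ (inc P) :=
      ⟨(Ideal.Quotient.mkₐ O _).comp inc, fun _ => rfl⟩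
    obtain ⟨ψ₀, hψ₀⟩ : ∃ ψ₀ : C →ₐ[O] MvPolynomial (Fin n) A ⧸ (RingHom.ker π).map inc, ∀ P, ψ₀ (π P) = χ P :=
      ⟨(Ideal.Quotient.liftₐ (RingHom.ker π) χ fun P hP => by
          rw [hχ]; exact Ideal.Quotient.eq_zero_iff_mem.2 (Ideal.mem_map_of_mem _ hP)).comp
          (Ideal.quotientKerAlgEquivOfSurjective hπ).symm.toAlgHom, fun P => by
        rw [AlgHom.comp_apply, AlgEquiv.toAlgHom_eq_coe, AlgEquiv.coe_algHom, show (Ideal.quotientKerAlgEquivOfSurjective hπ).symm (π P) = Ideal.Quotient.mk (RingHom.ker π) P from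
          (AlgEquiv.symm_apply_eq _).2 rfl]
        rfl⟩
    obtain ⟨ψ, hψ⟩ : ∃ ψ : A ⊗[O] C →ₐ[A] MvPolynomial (Fin n) A ⧸ (RingHom.ker π).map inc, ∀ c, ψ (1 ⊗ₜ c) = ψ₀ c :=
      ⟨Algebra.TensorProduct.lift (Algebra.ofId A _) ψ₀ fun _ _ => Commute.all _ _, fun c => by simp⟩
    intro z hz
    rw [← Ideal.Quotient.eq_zero_iff_mem]
    have : ψ.comp πA = Ideal.Quotient.mkₐ A _ := MvPolynomial.algHom_ext fun i => by
      rw [AlgHom.comp_apply, hπAX, hψ, hψ₀, hχ, hinc, MvPolynomial.map_X]
      rfl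
    exact (DFunLike.congr_fun this z).symm.trans ((congrArg ψ (RingHom.mem_ker.1 hz)).trans (map_zero ψ))
  -- finitely many generators over `A`
  obtain ⟨G₁, hG₁⟩ : ∃ G₁ : Finset (MvPolynomial (Fin n) O), (∀ q ∈ G₁, π q = 0) ∧
      RingHom.ker πA ≤ Ideal.span (inc '' (G₁ : Set _)) := by
    obtain ⟨T, hT⟩ := Algebra.FinitePresentation.ker_fG_of_surjective πA hπAsurj
    have hex : ∀ w ∈ T, ∃ S : Finset (MvPolynomial (Fin n) O), (∀ q ∈ S, π q = 0) ∧ w ∈ Ideal.span (inc '' (S : Set _)) := by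
      intro w hw
      have hw' := hkerA (hT ▸ Ideal.subset_span hw)
      obtain ⟨U, hU, hwU⟩ := Submodule.mem_span_finite_of_mem_span hw'
      obtain ⟨S, hS, rfl⟩ := Finset.subset_set_image_iff.1 hU
      exact ⟨S, fun q hq => hS (Finset.mem_coe.2 hq), by rwa [Finset.coe_image] at hwU⟩
    choose! S hS hwS using hex
    refine ⟨T.biUnion S, fun q hq => ?_, ?_⟩
    · obtain ⟨w, hw, hqw⟩ := Finset.mem_biUnion.1 hq
      exact hS w hw q hqw
    · refine hT.ge.trans (Ideal.span_le.2 fun w hw => ?_)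
      exact Ideal.span_mono (Set.image_mono (Finset.coe_subset.2 (Finset.subset_biUnion_of_mem S hw))) (hwS w hw)
  -- the closed fibre
  obtain ⟨ρ₀, hρ₀⟩ : ∃ ρ₀ : O →+* R, ∀ o, (ρ₀ o : IsLocalRing.ResidueField A) = IsLocalRing.residue A (o : A) :=
    ⟨((IsLocalRing.residue A).comp O.subtype).codRestrict R.toSubring fun o => (mem_O_iff hO _).1 o.2, fun _ => rfl⟩
  have hρs : Function.Surjective ρ₀ := fun r => by
    obtain ⟨a, ha⟩ := IsLocalRing.residue_surjective (r : IsLocalRing.ResidueField A)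
    exact ⟨⟨a, (mem_O_iff hO a).2 (ha ▸ r.2)⟩, Subtype.ext ((hρ₀ _).trans ha)⟩
  have hρker : ∀ o : O, ρ₀ o = 0 ↔ (o : A) ∈ IsLocalRing.maximalIdeal A := fun o => by
    rw [← IsLocalRing.residue_eq_zero_iff, ← hρ₀, ZeroMemClass.coe_eq_zero]
  obtain ⟨G₂, hG₂π, hG₂⟩ : ∃ G₂ : Finset (MvPolynomial (Fin n) O), (∀ q ∈ G₂, π q = 0) ∧
      (RingHom.ker π).map (MvPolynomial.map ρ₀) ≤ (Ideal.span (G₂ : Set _)).map (MvPolynomial.map ρ₀) := by
    have hsurjρ : Function.Surjective (MvPolynomial.map (σ := Fin n) ρ₀) := MvPolynomial.map_surjective _ hρs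
    have hsat : ∀ (r : R) (v : MvPolynomial (Fin n) R), r ≠ 0 → MvPolynomial.C r * v ∈ (RingHom.ker π).map (MvPolynomial.map ρ₀) →
        v ∈ (RingHom.ker π).map (MvPolynomial.map ρ₀) := by
      intro r v hr hv
      obtain ⟨s, rfl⟩ := hρs r
      obtain ⟨P, rfl⟩ := hsurjρ v
      obtain ⟨q, hq, hqe⟩ := (Ideal.mem_map_iff_of_surjective _ hsurjρ).1 hv
      have hsu : IsUnit (s : A) := IsLocalRing.notMem_maximalIdeal.1 fun h => hr ((hρker s).2 h)
      have hcoef : ∀ e, ((MvPolynomial.coeff e (MvPolynomial.C s * P - q) : O) : A) ∈ IsLocalRing.maximalIdeal A := fun e => by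
        rw [← hρker, ← MvPolynomial.coeff_map, map_sub, map_mul, MvPolynomial.map_C, hqe, sub_self, MvPolynomial.coeff_zero]
      obtain ⟨μ, hμ⟩ : ∃ μ : MvPolynomial (Fin n) O, MvPolynomial.C s * μ = MvPolynomial.C s * P - q ∧
          MvPolynomial.map ρ₀ μ = 0 := by
        refine ⟨∑ e ∈ (MvPolynomial.C s * P - q).support, MvPolynomial.monomial e
          (⟨↑hsu.unit⁻¹ * (MvPolynomial.coeff e (MvPolynomial.C s * P - q) : O), mem_O_of_mem_maximal hO (Ideal.mul_mem_left _ _ (hcoef e))⟩ : O), ?_, ?_⟩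
        · conv_rhs => rw [MvPolynomial.as_sum (MvPolynomial.C s * P - q)]
          rw [Finset.mul_sum]
          refine Finset.sum_congr rfl fun e _ => ?_
          rw [MvPolynomial.C_mul_monomial]
          congr 1
          exact Subtype.ext (by rw [Subring.coe_mul]; simp only; rw [← mul_assoc, IsUnit.mul_val_inv, one_mul])
        · rw [map_sum]
          refine Finset.sum_eq_zero fun e _ => ?_
          rw [MvPolynomial.map_monomial, (hρker _).2 (Ideal.mul_mem_left _ _ (hcoef e)), MvPolynomial.monomial_zero]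
      have hP : π (P - μ) = 0 := by
        refine eq_tmul_of hO hinj hsu ?_
        rw [Algebra.smul_def, ← π.commutes, ← map_mul, MvPolynomial.algebraMap_eq, mul_sub, hμ.1, sub_sub_cancel]
        exact hq
      have := Ideal.mem_map_of_mem (MvPolynomial.map ρ₀) (RingHom.mem_ker.2 hP : P - μ ∈ RingHom.ker π)
      rwa [map_sub, hμ.2, sub_zero] at this
    have : Module.FinitePresentation (MvPolynomial (Fin n) R) (MvPolynomial (Fin n) R ⧸ (RingHom.ker π).map (MvPolynomial.map ρ₀)) := by
      refine GrothLib.NagataFP.finitePresentation_of_torsionFree fun r v hr hv => ?_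
      obtain ⟨v, rfl⟩ := Ideal.Quotient.mk_surjective v
      change Ideal.Quotient.mk _ (MvPolynomial.C r * v) = 0 at hv
      rw [Ideal.Quotient.eq_zero_iff_mem] at hv
      exact Ideal.Quotient.eq_zero_iff_mem.2 (hsat r v hr hv)
    have hfg : ((RingHom.ker π).map (MvPolynomial.map ρ₀)).FG := by
      have h := Module.FinitePresentation.fg_ker (Submodule.mkQ ((RingHom.ker π).map (MvPolynomial.map ρ₀)))
        (Submodule.mkQ_surjective _)
      rwa [Submodule.ker_mkQ] at h
    obtain ⟨T, hT⟩ := hfg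
    have hex : ∀ w ∈ T, ∃ q, π q = 0 ∧ MvPolynomial.map ρ₀ q = w := fun w hw => by
      have hw' : w ∈ (RingHom.ker π).map (MvPolynomial.map ρ₀) := hT ▸ Submodule.subset_span hw
      obtain ⟨q, hq, hqw⟩ := (Ideal.mem_map_iff_of_surjective _ hsurjρ).1 hw'
      exact ⟨q, hq, hqw⟩
    choose! Q hQ hQw using hex
    refine ⟨T.image Q, fun q hq => ?_, ?_⟩
    · obtain ⟨w, hw, rfl⟩ := Finset.mem_image.1 hq
      exact hQ w hw
    · rw [← hT]
      refine Submodule.span_le.2 fun w hw => ?_
      exact hQw w hw ▸ Ideal.mem_map_of_mem _ (Ideal.subset_span (Finset.mem_coe.2 (Finset.mem_image_of_mem Q hw)))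
  refine Algebra.FinitePresentation.of_surjective hπ ⟨G₁ ∪ G₂, le_antisymm (Submodule.span_le.2 fun q hq => ?_) fun x hx => ?_⟩
  · rcases Finset.mem_union.1 (Finset.mem_coe.1 hq) with h | h
    · exact hG₁.1 q h
    · exact hG₂π q h
  have hG2le : Ideal.span (G₂ : Set (MvPolynomial (Fin n) O)) ≤ Ideal.span ((G₁ ∪ G₂ : Finset _) : Set _) :=
    Ideal.span_mono (Finset.coe_subset.2 Finset.subset_union_right)
  obtain ⟨y, hy, hyx⟩ := (Ideal.mem_map_iff_of_surjective _ (MvPolynomial.map_surjective _ hρs)).1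
    (hG₂ (Ideal.mem_map_of_mem _ hx))
  suffices h : x - y ∈ Ideal.span ((G₁ ∪ G₂ : Finset _) : Set (MvPolynomial (Fin n) O)) by
    simpa using add_mem h (hG2le hy)
  have hπy : π y = 0 := by
    refine (Submodule.span_le.2 (fun q hq => ?_) : Ideal.span (G₂ : Set _) ≤ RingHom.ker π) hy
    exact hG₂π q hq
  have hx0 : π x = 0 := hx
  have hz0 : π (x - y) = 0 := by rw [map_sub, hx0, hπy, sub_zero]
  have hcoef : ∀ e, ((MvPolynomial.coeff e (x - y) : O) : A) ∈ IsLocalRing.maximalIdeal A := fun e => by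
    rw [← hρker, ← MvPolynomial.coeff_map, map_sub, hyx, sub_self, MvPolynomial.coeff_zero]
  have hrel : ∑ e : (x - y).support, ((MvPolynomial.coeff e.1 (x - y) : O) : A) • πA (MvPolynomial.monomial e.1 1) = 0 := by
    simp only [← map_smul, ← map_sum, MvPolynomial.smul_monomial, smul_eq_mul, mul_one]
    have : (∑ e : (x - y).support, MvPolynomial.monomial e.1 ((MvPolynomial.coeff e.1 (x - y) : O) : A)) = inc (x - y) := by
      conv_rhs => rw [MvPolynomial.as_sum (x - y)]
      rw [hinc, map_sum, ← Finset.sum_coe_sort (x - y).support]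
      exact Finset.sum_congr rfl fun e _ => by rw [MvPolynomial.map_monomial]; rfl
    rw [this, hcomp, hz0, TensorProduct.tmul_zero]
  obtain ⟨l, a, w, hw, hwa⟩ := Module.Flat.isTrivialRelation_of_sum_smul_eq_zero hrel
  choose W hW using fun j => hπAsurj (w j)
  -- `x - y` is a combination with coefficients in the maximal ideal
  have hzA : inc (x - y) = ∑ e : (x - y).support, MvPolynomial.C ((MvPolynomial.coeff e.1 (x - y) : O) : A) *
      (MvPolynomial.monomial e.1 1 - ∑ j, MvPolynomial.C (a e j) * W j) := by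
    simp only [mul_sub, Finset.sum_sub_distrib, MvPolynomial.C_mul_monomial, mul_one]
    have h0 : (∑ e : (x - y).support, MvPolynomial.C ((MvPolynomial.coeff e.1 (x - y) : O) : A) *
        ∑ j, MvPolynomial.C (a e j) * W j) = 0 := by
      simp only [Finset.mul_sum]
      rw [Finset.sum_comm]
      refine Finset.sum_eq_zero fun j _ => ?_
      rw [← Finset.sum_congr rfl fun e (_ : e ∈ Finset.univ) => (mul_assoc _ _ (W j)), ← Finset.sum_mul]
      simp only [← map_mul, ← map_sum, hwa j, map_zero, zero_mul]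
    rw [h0, sub_zero]
    conv_lhs => rw [MvPolynomial.as_sum (x - y)]
    rw [hinc, map_sum, ← Finset.sum_coe_sort (x - y).support]
    exact Finset.sum_congr rfl fun e _ => by rw [MvPolynomial.map_monomial]; rfl
  have hker1 : ∀ e : (x - y).support, MvPolynomial.monomial e.1 1 - ∑ j, MvPolynomial.C (a e j) * W j ∈ RingHom.ker πA := by
    intro e
    rw [RingHom.mem_ker, map_sub, map_sum, show πA (MvPolynomial.monomial e.1 1) = _ from hw e, sub_eq_zero]
    refine Finset.sum_congr rfl fun j _ => ?_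
    rw [map_mul, ← MvPolynomial.algebraMap_eq, AlgHom.commutes, hW, Algebra.smul_def]
  have hdesc : ∀ c : A, c ∈ IsLocalRing.maximalIdeal A → ∀ v ∈ Ideal.span (inc '' (G₁ : Set _)),
      ∃ v' ∈ Ideal.span ((G₁ ∪ G₂ : Finset _) : Set (MvPolynomial (Fin n) O)), inc v' = MvPolynomial.C c * v := by
    intro c hc v hv
    induction hv using Submodule.span_induction generalizing c with
    | mem b hb =>
      obtain ⟨q, hq, rfl⟩ := hb
      exact ⟨MvPolynomial.C ⟨c, mem_O_of_mem_maximal hO hc⟩ * q,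
        Ideal.mul_mem_left _ _ (Ideal.subset_span (Finset.mem_coe.2 (Finset.mem_union_left _ hq))),
        by rw [map_mul, hinc (MvPolynomial.C _), MvPolynomial.map_C]; rfl⟩
    | zero => exact ⟨0, zero_mem _, by rw [map_zero, mul_zero]⟩
    | add b b' _ _ hb hb' =>
      obtain ⟨v, hv, hve⟩ := hb c hc
      obtain ⟨v', hv', hve'⟩ := hb' c hc
      exact ⟨v + v', add_mem hv hv', by rw [map_add, hve, hve', mul_add]⟩
    | smul P b _ hb =>
      induction P using MvPolynomial.induction_on generalizing c with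
      | C a =>
        obtain ⟨v, hv, hve⟩ := hb (c * a) (Ideal.mul_mem_right _ _ hc)
        exact ⟨v, hv, by rw [hve, smul_eq_mul, map_mul, mul_assoc]⟩
      | add P Q hP hQ =>
        obtain ⟨v, hv, hve⟩ := hP c hc
        obtain ⟨v', hv', hve'⟩ := hQ c hc
        exact ⟨v + v', add_mem hv hv', by rw [map_add, hve, hve', add_smul, mul_add]⟩
      | mul_X P i hP =>
        obtain ⟨v, hv, hve⟩ := hP c hc
        exact ⟨X i * v, Ideal.mul_mem_left _ _ hv, by
          rw [map_mul, hve, hinc (X i), MvPolynomial.map_X, smul_eq_mul, smul_eq_mul]; ring⟩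
  choose v' hv' hv'e using fun e : (x - y).support => hdesc _ (hcoef e.1) _ (hG₁.2 (hker1 e))
  have hinjinc : Function.Injective inc := fun P Q h => MvPolynomial.map_injective _ Subtype.val_injective (by
    rwa [hinc, hinc] at h)
  rw [show x - y = ∑ e, v' e from hinjinc (by rw [hzA, map_sum]; exact Finset.sum_congr rfl fun e _ => (hv'e e).symm)]
  exact sum_mem fun e _ => hv' e

/-- Let A be a local ring with residue field K, R a valuation ring of K and O ⊆ A the preimage of R
under A → K (so O is a semi-valuation ring with semi-fraction ring A, S = Spec O is glued from U =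
Spec A and T = Spec R). Let C be an O-algebra of finite type which is U-admissible (C → A ⊗_O C
injective) and such that A ⊗_O C is flat and of finite presentation over A. Then C is flat and of
finite presentation over O. (The published assertion is more general: the base may be any
quasi-compact quasi-separated U-admissible scheme over Spec O, and the scheme over it any
quasi-compact quasi-separated admissible scheme. This row is the case of an affine scheme over Spec
O itself, the case in which the published proof carries out its argument.) -/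
theorem result
    (A : Type u) [CommRing A] [IsLocalRing A] (R : ValuationSubring (IsLocalRing.ResidueField A))
    (O : Subring A) (hO : O = R.toSubring.comap (IsLocalRing.residue A))
    (C : Type u) [CommRing C] [Algebra ↥O C] [Algebra.FiniteType ↥O C]
    (hadm : Function.Injective (Algebra.TensorProduct.includeRight : C →ₐ[↥O] A ⊗[↥O] C))
    (hflat : Module.Flat A (A ⊗[↥O] C)) (hfp : Algebra.FinitePresentation A (A ⊗[↥O] C)) :
    Module.Flat ↥O C ∧ Algebra.FinitePresentation ↥O C :=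
  ⟨flat_main hO hadm hflat, fp_main hO hadm hflat hfp⟩

end Groth.Agent.S17899
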