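import Groth.Statements.S17900
import Groth.Agent.Lib.Milnor.OverBase
-- import your own Groth.Agent.* helpers here

set_option autoImplicit false
universe u
open TensorProduct
open Pinch

namespace Groth.Agent.S17900

/-- Let R be a commutative ring and let B' → B → A, B' → A' → A be a commutative square of R-algebras
which is a fibre square (B' = B ×_A A') with A' → A surjective. If B, A' and A are flat over R then
B' is flat over R. -/
theorem result (R B' B A' A : Type u) [CommRing R] [CommRing B'] [CommRing B] [CommRing A'] [CommRing A]
    [Algebra B' B] [Algebra B' A'] [Algebra B A] [Algebra A' A] [Algebra B' A]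
    [IsScalarTower B' B A] [IsScalarTower B' A' A]
    [Algebra R B'] [Algebra R B] [Algebra R A'] [Algebra R A]
    [IsScalarTower R B' B] [IsScalarTower R B' A'] [IsScalarTower R B' A] [IsScalarTower R B A] [IsScalarTower R A' A]
    (hsq : EtMil.IsFibreSquare B' B A' A)
    [Module.Flat R B] [Module.Flat R A'] [Module.Flat R A] :
    Module.Flat R B' := by
  exact Milnor.flat_corner hsq

end Groth.Agent.S17900
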