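import Groth.Statements.S17901
import Groth.Agent.Lib.Milnor.OverBase
-- import your own Groth.Agent.* helpers here

set_option autoImplicit false
universe u
open TensorProduct
open Pinch

namespace Groth.Agent.S17901

/-- Let R be a commutative ring and let B' → B → A, B' → A' → A be a fibre square of R-algebras (B' = B
×_A A') with A' → A surjective, where B, A' and A are flat over R. Then for every commutative
R-algebra R' the square obtained by applying R' ⊗_R − is again a fibre square: R' ⊗_R A' → R' ⊗_R A
is surjective and every pair of elements of R' ⊗_R B and R' ⊗_R A' with the same image in R' ⊗_R A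
is the image of a unique element of R' ⊗_R B'. (The published lemma concludes that the base-changed
square of spectra is co-cartesian in ringed spaces; this row states the ring form, surjective edge
and fibre product, which its proof establishes before translating it to ringed spaces.) -/
theorem result (R B' B A' A : Type u) [CommRing R] [CommRing B'] [CommRing B] [CommRing A'] [CommRing A]
    [Algebra B' B] [Algebra B' A'] [Algebra B A] [Algebra A' A] [Algebra B' A]
    [IsScalarTower B' B A] [IsScalarTower B' A' A]
    [Algebra R B'] [Algebra R B] [Algebra R A'] [Algebra R A]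
    [IsScalarTower R B' B] [IsScalarTower R B' A'] [IsScalarTower R B' A] [IsScalarTower R B A] [IsScalarTower R A' A]
    (hsq : EtMil.IsFibreSquare B' B A' A)
    [Module.Flat R B] [Module.Flat R A'] [Module.Flat R A]
    (R' : Type u) [CommRing R'] [Algebra R R'] :
    Function.Surjective (Algebra.TensorProduct.map (AlgHom.id R R') (IsScalarTower.toAlgHom R A' A)) ∧
    ∀ (x : R' ⊗[R] B) (y : R' ⊗[R] A'),
      Algebra.TensorProduct.map (AlgHom.id R R') (IsScalarTower.toAlgHom R B A) x =
        Algebra.TensorProduct.map (AlgHom.id R R') (IsScalarTower.toAlgHom R A' A) y →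
      ∃! z : R' ⊗[R] B',
        Algebra.TensorProduct.map (AlgHom.id R R') (IsScalarTower.toAlgHom R B' B) z = x ∧
        Algebra.TensorProduct.map (AlgHom.id R R') (IsScalarTower.toAlgHom R B' A') z = y := by
  set a := Milnor.pairMap R B' B A'
  set b := Milnor.diffMap R B A' A
  have hb : Function.Surjective b := Milnor.diffMap_surjective hsq
  have hinj : Function.Injective (a.lTensor R') :=
    LinearMap.lTensor_injective_of_exact_of_flat b hb _ (Milnor.pairMap_injective hsq) (Milnor.exact_pairMap hsq) R'
  have hex := lTensor_exact R' (Milnor.exact_pairMap (R := R) hsq) hb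
  let e := TensorProduct.prodRight R R R' B A'
  have h1 : ∀ z, (e (a.lTensor R' z)).1 =
      Algebra.TensorProduct.map (AlgHom.id R R') (IsScalarTower.toAlgHom R B' B) z := by
    intro z
    induction z with
    | zero => simp
    | tmul r x => simp [e, a, Milnor.pairMap]
    | add x y hx hy => simp only [map_add, Prod.fst_add, hx, hy]
  have h2 : ∀ z, (e (a.lTensor R' z)).2 =
      Algebra.TensorProduct.map (AlgHom.id R R') (IsScalarTower.toAlgHom R B' A') z := by
    intro z
    induction z with
    | zero => simp
    | tmul r x => simp [e, a, Milnor.pairMap]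
    | add x y hx hy => simp only [map_add, Prod.snd_add, hx, hy]
  have h3 : ∀ w, b.lTensor R' w =
      Algebra.TensorProduct.map (AlgHom.id R R') (IsScalarTower.toAlgHom R B A) (e w).1 -
        Algebra.TensorProduct.map (AlgHom.id R R') (IsScalarTower.toAlgHom R A' A) (e w).2 := by
    intro w
    induction w with
    | zero => simp
    | tmul r x => simp [e, b, Milnor.diffMap, TensorProduct.tmul_sub]
    | add x y hx hy => simp only [map_add, Prod.fst_add, Prod.snd_add, hx, hy]; abel
  refine ⟨LinearMap.lTensor_surjective R' (g := (IsScalarTower.toAlgHom R A' A).toLinearMap) hsq.1, fun x y hxy => ?_⟩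
  obtain ⟨z, hz⟩ := (hex (e.symm (x, y))).mp (by
    rw [h3, e.apply_symm_apply]
    exact sub_eq_zero.mpr hxy)
  have hz' : e (a.lTensor R' z) = (x, y) := by rw [hz, e.apply_symm_apply]
  refine ⟨z, ⟨by rw [← h1, hz'], by rw [← h2, hz']⟩, fun w hw => hinj (e.injective ?_)⟩
  rw [hz']
  exact Prod.ext ((h1 w).trans hw.1) ((h2 w).trans hw.2)

end Groth.Agent.S17901
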