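import Groth.Statements.S17902
import Mathlib.RingTheory.Spectrum.Prime.FreeLocus
import Mathlib.RingTheory.Nakayama
import Mathlib.RingTheory.Spectrum.Prime.Module

set_option autoImplicit false
universe u
open CAlg

namespace Groth.Agent.S17902

section

variable {A : Type u} [CommRing A] {M : Type u} [AddCommGroup M] [Module A M] (S : Submonoid A)

theorem exists_smul_mem_of_mk_mem_span {ι : Type} (v : ι → M) (s₀ : ι → S) (y : LocalizedModule S M)
    (hy : y ∈ Submodule.span (Localization S) (Set.range fun i => LocalizedModule.mk (v i) (s₀ i))) :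
    ∃ (t : S) (m : M), m ∈ Submodule.span A (Set.range v) ∧
      (t : A) • y = LocalizedModule.mk m 1 := by
  induction hy using Submodule.span_induction with
  | mem x hx =>
    obtain ⟨i, rfl⟩ := hx
    refine ⟨s₀ i, v i, Submodule.subset_span ⟨i, rfl⟩, ?_⟩
    rw [LocalizedModule.smul'_mk]
    exact LocalizedModule.mk_eq.2 ⟨1, by simp [Submonoid.smul_def]⟩
  | zero => exact ⟨1, 0, zero_mem _, by simp [LocalizedModule.zero_mk]⟩
  | add x x' _ _ hx hx' =>
    obtain ⟨t, m, hm, e⟩ := hx
    obtain ⟨t', m', hm', e'⟩ := hx'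
    refine ⟨t * t', (t' : A) • m + (t : A) • m', add_mem (Submodule.smul_mem _ _ hm)
      (Submodule.smul_mem _ _ hm'), ?_⟩
    have : LocalizedModule.mk ((t' : A) • m + (t : A) • m') (1 : S) =
        LocalizedModule.mk ((t' : A) • m) 1 + LocalizedModule.mk ((t : A) • m') 1 :=
      map_add (LocalizedModule.mkLinearMap S M) _ _
    rw [this, ← LocalizedModule.smul'_mk, ← LocalizedModule.smul'_mk, ← e, ← e',
      Submonoid.coe_mul, smul_add, smul_smul, smul_smul, mul_comm (t' : A)]
  | smul c x _ hx =>
    obtain ⟨t, m, hm, e⟩ := hx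
    induction c using Localization.induction_on with
    | H p =>
      obtain ⟨a, s⟩ := p
      refine ⟨t * s, a • m, Submodule.smul_mem _ _ hm, ?_⟩
      rw [← LocalizedModule.smul'_mk, ← e, Submonoid.coe_mul, smul_smul, ← algebraMap_smul
        (Localization S) ((t : A) * s), smul_smul, ← algebraMap_smul (Localization S) (a * t)]
      congr 1
      rw [map_mul, map_mul, Localization.mk_eq_mk']
      rw [mul_assoc, mul_comm (algebraMap A (Localization S) (s : A)),
        IsLocalization.mk'_spec]
      ring

theorem exists_smul_mem_of_span_eq_top {ι : Type} (v : ι → M) (s₀ : ι → S)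
    (h : Submodule.span (Localization S) (Set.range fun i => LocalizedModule.mk (v i) (s₀ i)) = ⊤)
    (x : M) : ∃ t ∈ S, t • x ∈ Submodule.span A (Set.range v) := by
  obtain ⟨t, m, hm, e⟩ := exists_smul_mem_of_mk_mem_span S v s₀ (LocalizedModule.mk x 1)
    (h ▸ Submodule.mem_top)
  rw [LocalizedModule.smul'_mk] at e
  obtain ⟨r, hr⟩ := LocalizedModule.mk_eq.1 e
  simp only [one_smul, Submonoid.smul_def, smul_smul] at hr
  exact ⟨r * t, mul_mem r.2 t.2, hr ▸ Submodule.smul_mem _ _ hm⟩

theorem span_eq_top_of_exists_smul_mem {ι : Type} (v : ι → M)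
    (h : ∀ x : M, ∃ t ∈ S, t • x ∈ Submodule.span A (Set.range v)) :
    Submodule.span (Localization S)
      (Set.range fun i => LocalizedModule.mkLinearMap S M (v i)) = ⊤ := by
  rw [eq_top_iff]
  intro y _
  induction y using LocalizedModule.induction_on with
  | h x s =>
    obtain ⟨t, ht, htx⟩ := h x
    have hmem : LocalizedModule.mkLinearMap S M (t • x) ∈ Submodule.span (Localization S)
        (Set.range fun i => LocalizedModule.mkLinearMap S M (v i)) := by
      have := Submodule.mem_map_of_mem (f := LocalizedModule.mkLinearMap S M) htx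
      rw [Submodule.map_span, ← Set.range_comp] at this
      exact Submodule.span_le_restrictScalars A (Localization S) _ this
    have hy : (LocalizedModule.mk x s : LocalizedModule S M) =
        Localization.mk (1 : A) (s * ⟨t, ht⟩) • LocalizedModule.mkLinearMap S M (t • x) := by
      rw [LocalizedModule.mkLinearMap_apply, LocalizedModule.mk_smul_mk, mul_one, one_smul]
      exact LocalizedModule.mk_eq.2 ⟨1, by simp [Submonoid.smul_def, smul_smul]⟩
    rw [hy]
    exact Submodule.smul_mem _ _ hmem

end



/-- Let A be a commutative ring, M a finitely generated projective A-module, n a natural number and P a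
finite set of prime ideals of A such that for every p in P there is g outside p with M_g free of
rank n over A_g. Then there exist n elements of M and an open subset U of Spec A containing P such
that for every prime q in U the images of these elements in M_q form a basis of M_q over A_q. (The
published conclusion is that the associated sheaf is free of rank n on some open neighbourhood of P;
the form given here, with n global elements of M, is what its proof produces.) -/
theorem result (A : Type u) [CommRing A] (M : Type u) [AddCommGroup M] [Module A M]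
    [Module.Finite A M] [Module.Projective A M] (n : ℕ) (P : Finset (PrimeSpectrum A))
    (hP : ∀ p ∈ P, ∃ g : A, g ∉ p.asIdeal ∧
      Nonempty (Module.Basis (Fin n) (Localization.Away g) (LocalizedModule (Submonoid.powers g) M))) :
    ∃ (s : Fin n → M) (U : Set (PrimeSpectrum A)), IsOpen U ∧ (∀ p ∈ P, p ∈ U) ∧
      ∀ q ∈ U,
        LinearIndependent (Localization.AtPrime q.asIdeal)
            (fun j => LocalizedModule.mkLinearMap q.asIdeal.primeCompl M (s j)) ∧
          Submodule.span (Localization.AtPrime q.asIdeal)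
            (Set.range fun j => LocalizedModule.mkLinearMap q.asIdeal.primeCompl M (s j)) = ⊤ := by
  classical
  -- data at each point
  choose g hg hb using hP
  let b := fun p hp => (hb p hp).some
  have hrep : ∀ p hp (j : Fin n), ∃ (m : M) (k : Submonoid.powers (g p hp)),
      b p hp j = LocalizedModule.mk m k := fun p hp j => by
    induction b p hp j using LocalizedModule.induction_on with
    | h m k => exact ⟨m, k, rfl⟩
  choose m k hmk using hrep
  have hspan : ∀ p hp (q : PrimeSpectrum A), g p hp ∉ q.asIdeal → ∀ x : M,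
      ∃ t ∈ q.asIdeal.primeCompl, t • x ∈ Submodule.span A (Set.range (m p hp)) := by
    intro p hp q hq x
    have htop : Submodule.span (Localization (Submonoid.powers (g p hp)))
        (Set.range fun j => LocalizedModule.mk (m p hp j) (k p hp j)) = ⊤ := by
      rw [← (b p hp).span_eq]
      congr 2
      funext j
      exact (hmk p hp j).symm
    obtain ⟨t, ⟨N, rfl⟩, ht⟩ := exists_smul_mem_of_span_eq_top _ _ _ htop x
    exact ⟨_, fun h => hq (q.2.mem_of_pow_mem N h), ht⟩
  have hrank : ∀ p hp (q : PrimeSpectrum A), g p hp ∉ q.asIdeal →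
      Module.rankAtStalk M q = n := by
    intro p hp q hq
    obtain ⟨Q, rfl⟩ : q ∈ Set.range (PrimeSpectrum.comap
        (algebraMap A (Localization.Away (g p hp)))) := by
      rw [PrimeSpectrum.localization_away_comap_range (Localization.Away (g p hp)) (g p hp)]
      exact hq
    haveI : Nontrivial (Localization.Away (g p hp)) := Q.nontrivial
    haveI := Module.Free.of_basis (b p hp)
    rw [← Module.rankAtStalk_isBaseChange (IsLocalizedModule.isBaseChange
      (Submonoid.powers (g p hp)) (Localization.Away (g p hp))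
      (LocalizedModule.mkLinearMap (Submonoid.powers (g p hp)) M)) Q,
      Module.rankAtStalk_eq_finrank_of_free]
    simp [Module.finrank_eq_card_basis (b p hp)]
  -- maximal elements
  let P' := P.filter fun p => ∀ q ∈ P, p ≤ q → q ≤ p
  have hP'le : ∀ p ∈ P, ∃ p' ∈ P', p ≤ p' := by
    intro p hp
    obtain ⟨p', hle, hmax⟩ := P.exists_le_maximal hp
    exact ⟨p', Finset.mem_filter.2 ⟨hmax.1, fun q hq h => hmax.2 hq h⟩, hle⟩
  have hsep : ∀ p ∈ P', ∀ q ∈ P', q ≠ p → ∃ a ∈ q.asIdeal, a ∉ p.asIdeal := by
    intro p hp q hq hne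
    by_contra hcon
    push Not at hcon
    have hle : q ≤ p := hcon
    exact hne (le_antisymm hle ((Finset.mem_filter.1 hq).2 p (Finset.mem_filter.1 hp).1 hle))
  have hsep' : ∀ p ∈ P', ∃ t : A, t ∉ p.asIdeal ∧ ∀ q ∈ P', q ≠ p → t ∈ q.asIdeal := by
    intro p hp
    choose a ha ha' using hsep p hp
    refine ⟨∏ q ∈ (P'.erase p).attach,
      a q.1 (Finset.mem_of_mem_erase q.2) (Finset.ne_of_mem_erase q.2), fun h => ?_, ?_⟩
    · obtain ⟨q, -, hq⟩ := p.2.prod_mem_iff.1 h
      exact ha' _ _ _ hq
    · intro q hq hne
      exact Ideal.mem_of_dvd _ (Finset.dvd_prod_of_mem _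
        (Finset.mem_attach _ ⟨q, Finset.mem_erase.2 ⟨hne, hq⟩⟩)) (ha q hq hne)
  choose t ht ht' using hsep'
  have hP'P : ∀ p : ↥P', p.1 ∈ P := fun p => (Finset.mem_filter.1 p.2).1
  let s : Fin n → M := fun j => ∑ p : ↥P', t p.1 p.2 • m p.1 (hP'P p) j
  set K := Submodule.span A (Set.range s) with hK
  let U : Set (PrimeSpectrum A) :=
    (⋃ p : ↥P', (PrimeSpectrum.basicOpen (g p.1 (hP'P p)) : Set (PrimeSpectrum A))) ∩
      (Module.support A (M ⧸ K))ᶜ
  have hUo : IsOpen U :=
    (isOpen_iUnion fun p => (PrimeSpectrum.basicOpen _).2).inter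
      (Module.isClosed_support (R := A) (M := M ⧸ K)).isOpen_compl
  have hsurj : ∀ q : PrimeSpectrum A, q ∉ Module.support A (M ⧸ K) ↔
      ∀ x : M, ∃ r ∈ q.asIdeal.primeCompl, r • x ∈ K := by
    intro q
    rw [Module.notMem_support_iff']
    constructor
    · intro h x
      obtain ⟨r, hr, hrx⟩ := h (Submodule.Quotient.mk x)
      exact ⟨r, hr, (Submodule.Quotient.mk_eq_zero K).1 hrx⟩
    · intro h y
      induction y using Submodule.Quotient.induction_on with
      | _ x =>
        obtain ⟨r, hr, hrx⟩ := h x
        exact ⟨r, hr, (Submodule.Quotient.mk_eq_zero K).2 hrx⟩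
  have hP'U : ∀ p : ↥P', p.1 ∈ U := by
    intro p
    refine ⟨Set.mem_iUnion.2 ⟨p, hg _ _⟩, (hsurj _).2 fun x => ?_⟩
    let S := p.1.asIdeal.primeCompl
    let L := Localization.AtPrime p.1.asIdeal
    let N := Submodule.span L (Set.range fun j => LocalizedModule.mk (s j) (1 : S))
    have hm_top := span_eq_top_of_exists_smul_mem S (m p.1 (hP'P p))
      (hspan _ _ p.1 (hg _ _))
    have hN : N = ⊤ := by
      rw [eq_top_iff]
      refine Submodule.le_of_le_smul_of_le_jacobson_bot (I := IsLocalRing.maximalIdeal L)
        Module.Finite.fg_top (IsLocalRing.maximalIdeal_le_jacobson _) ?_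
      rw [← hm_top, Submodule.span_le]
      rintro _ ⟨j, rfl⟩
      have hjs : LocalizedModule.mkLinearMap S M (s j) ∈ N := Submodule.subset_span ⟨j, rfl⟩
      have hu : IsUnit (algebraMap A L (t p.1 p.2)) :=
        IsLocalization.map_units L (⟨_, ht p.1 p.2⟩ : S)
      rw [SetLike.mem_coe, ← Submodule.smul_mem_iff_of_isUnit _ hu, algebraMap_smul, ← map_smul]
      have hrest : t p.1 p.2 • m p.1 (hP'P p) j = s j -
          ∑ q ∈ Finset.univ.erase p, t q.1 q.2 • m q.1 (hP'P q) j := by
        simp only [s]
        rw [← Finset.add_sum_erase _ _ (Finset.mem_univ p), add_sub_cancel_right]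
      rw [hrest, map_sub]
      refine sub_mem (Submodule.mem_sup_left hjs) (Submodule.mem_sup_right ?_)
      rw [map_sum]
      refine sum_mem fun q hq => ?_
      rw [map_smul, ← algebraMap_smul L (t q.1 q.2)]
      refine Submodule.smul_mem_smul ?_ (by rw [hm_top]; exact Submodule.mem_top)
      exact (IsLocalization.AtPrime.to_map_mem_maximal_iff L p.1.asIdeal _).2
        (ht' q.1 q.2 p.1 p.2 fun h => (Finset.mem_erase.1 hq).1 (Subtype.ext h.symm))
    exact exists_smul_mem_of_span_eq_top S s _ hN x
  refine ⟨s, U, hUo, fun p hp => ?_, fun q hq => ?_⟩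
  · obtain ⟨p', hp', hle⟩ := hP'le p hp
    exact hUo.stableUnderGeneralization ((PrimeSpectrum.le_iff_specializes p p').1 hle)
      (hP'U ⟨p', hp'⟩)
  · obtain ⟨hqD, hqs⟩ := hq
    obtain ⟨p, hp⟩ := Set.mem_iUnion.1 hqD
    have htop := span_eq_top_of_exists_smul_mem q.asIdeal.primeCompl s ((hsurj q).1 hqs)
    refine ⟨?_, htop⟩
    haveI : Module.Free (Localization.AtPrime q.asIdeal)
        (LocalizedModule q.asIdeal.primeCompl M) := Module.free_of_flat_of_isLocalRing
    let e := Module.finBasisOfFinrankEq (Localization.AtPrime q.asIdeal)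
      (LocalizedModule q.asIdeal.primeCompl M) (n := n) (hrank _ _ q hp)
    let f := e.constr ℕ fun j => LocalizedModule.mkLinearMap q.asIdeal.primeCompl M (s j)
    have hf : Function.Surjective f := by
      rw [← LinearMap.range_eq_top, e.constr_range]
      exact htop
    have hfi := OrzechProperty.injective_of_surjective_endomorphism f hf
    have := e.linearIndependent.map' f (LinearMap.ker_eq_bot.2 hfi)
    simpa [f, Function.comp_def, Module.Basis.constr_basis] using this

end Groth.Agent.S17902
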