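import Groth.Statements.S17903
import Groth.Agent.Lib.RingedPush4.Scheme
import Groth.Agent.Lib.Milnor.OverBase

set_option autoImplicit false
universe u
open CategoryTheory AlgebraicGeometry
open Pinch

namespace Groth.Agent.S17903

/-- Let S be a scheme and Z → X, Z → Z', X → X', Z' → X' a commutative square of S-schemes in which Z →
X and Z' → X' are closed immersions and Z → Z' and X → X' are affine, and which is a pushout square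
in the category of ringed spaces. If X, Z and Z' are flat over S then X' is flat over S. -/
theorem result {S X Z Z' X' : Scheme.{u}}
    (fX : X ⟶ S) (fZ' : Z' ⟶ S) (fX' : X' ⟶ S) (ι : Z ⟶ X) (q : Z ⟶ Z') (π : X ⟶ X') (ι' : Z' ⟶ X')
    [IsClosedImmersion ι] [IsClosedImmersion ι'] [IsAffineHom q] [IsAffineHom π]
    (hq : q ≫ fZ' = ι ≫ fX) (hπ : π ≫ fX' = fX) (hι' : ι' ≫ fX' = fZ')
    (hpo : IsPushout ((Scheme.forgetToLocallyRingedSpace ⋙ LocallyRingedSpace.forgetToSheafedSpace).map ι) ((Scheme.forgetToLocallyRingedSpace ⋙ LocallyRingedSpace.forgetToSheafedSpace).map q)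
      ((Scheme.forgetToLocallyRingedSpace ⋙ LocallyRingedSpace.forgetToSheafedSpace).map π) ((Scheme.forgetToLocallyRingedSpace ⋙ LocallyRingedSpace.forgetToSheafedSpace).map ι'))
    [Flat fX] [Flat (ι ≫ fX)] [Flat fZ'] :
    Flat fX' := by
  have hw : ι ≫ π = q ≫ ι' := by
    have := hpo.w
    rw [← Functor.map_comp, ← Functor.map_comp] at this
    exact (Scheme.forgetToLocallyRingedSpace ⋙ LocallyRingedSpace.forgetToSheafedSpace).map_injective this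
  rw [HasRingHomProperty.iff_appLE (P := @Flat)]
  intro V U e
  have hπU : IsAffineOpen (π ⁻¹ᵁ U.1) := U.2.preimage π
  have hι'U : IsAffineOpen (ι' ⁻¹ᵁ U.1) := U.2.preimage ι'
  have hqU : IsAffineOpen (q ⁻¹ᵁ ι' ⁻¹ᵁ U.1) := hι'U.preimage q
  have eW : q ⁻¹ᵁ ι' ⁻¹ᵁ U.1 = ι ⁻¹ᵁ π ⁻¹ᵁ U.1 := by
    rw [← Scheme.Hom.comp_preimage, ← Scheme.Hom.comp_preimage, hw]
  let α : Γ(X', U.1) ⟶ Γ(X, π ⁻¹ᵁ U.1) := π.appLE U.1 _ le_rfl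
  let β : Γ(X', U.1) ⟶ Γ(Z', ι' ⁻¹ᵁ U.1) := ι'.appLE U.1 _ le_rfl
  let a : Γ(X, π ⁻¹ᵁ U.1) ⟶ Γ(Z, q ⁻¹ᵁ ι' ⁻¹ᵁ U.1) := ι.appLE _ _ eW.le
  let c : Γ(Z', ι' ⁻¹ᵁ U.1) ⟶ Γ(Z, q ⁻¹ᵁ ι' ⁻¹ᵁ U.1) := q.appLE _ _ le_rfl
  let r : Γ(S, V.1) ⟶ Γ(X', U.1) := fX'.appLE V.1 U.1 e
  have hac : α ≫ a = β ≫ c := by
    simp only [α, β, a, c, Scheme.Hom.appLE_comp_appLE, hw]
  algebraize [r.hom, α.hom, β.hom, a.hom, c.hom, (α ≫ a).hom, (r ≫ α).hom, (r ≫ β).hom, (r ≫ α ≫ a).hom]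
  have h₁ : IsScalarTower Γ(X', U.1) Γ(Z', ι' ⁻¹ᵁ U.1) Γ(Z, q ⁻¹ᵁ ι' ⁻¹ᵁ U.1) :=
    .of_algebraMap_eq' (congrArg CommRingCat.Hom.hom hac)
  have h₀ : IsScalarTower Γ(X', U.1) Γ(X, π ⁻¹ᵁ U.1) Γ(Z, q ⁻¹ᵁ ι' ⁻¹ᵁ U.1) :=
    .of_algebraMap_eq' rfl
  have h₂ : IsScalarTower Γ(S, V.1) Γ(Z', ι' ⁻¹ᵁ U.1) Γ(Z, q ⁻¹ᵁ ι' ⁻¹ᵁ U.1) :=
    .of_algebraMap_eq' (congrArg CommRingCat.Hom.hom (show r ≫ α ≫ a = (r ≫ β) ≫ c by rw [hac, Category.assoc]))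
  have hsq : EtMil.IsFibreSquare Γ(X', U.1) Γ(Z', ι' ⁻¹ᵁ U.1) Γ(X, π ⁻¹ᵁ U.1) Γ(Z, q ⁻¹ᵁ ι' ⁻¹ᵁ U.1) := by
    have ha : a = ι.app _ ≫ Z.presheaf.map (eqToHom (congrArg Opposite.op eW.symm)) :=
      rfl
    refine ⟨fun z => ?_, fun x y hxy => ?_⟩
    · obtain ⟨x, hx⟩ := ι.app_surjective _ hπU
        (Z.presheaf.map (eqToHom (congrArg Opposite.op eW)) z)
      refine ⟨x, ?_⟩
      change Z.presheaf.map (eqToHom (congrArg Opposite.op eW.symm)) (ι.app _ x) = z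
      rw [hx, ← CommRingCat.comp_apply, ← Functor.map_comp, eqToHom_trans, eqToHom_refl, Z.presheaf.map_id]
      rfl
    · have hα : α = π.app U.1 := Scheme.Hom.appLE_eq_app _
      have hβ : β = ι'.app U.1 := Scheme.Hom.appLE_eq_app _
      have hc : c = q.app _ := Scheme.Hom.appLE_eq_app _
      obtain ⟨w, ⟨h1, h2⟩, huniq⟩ := GrothLib.RingedPush4.existsUnique_section_scheme hpo hw U.1 y x (by
        have h3 : c x = a y := hxy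
        rw [hc, ha] at h3
        exact h3.symm)
      refine ⟨w, ⟨?_, ?_⟩, fun w' hw' => huniq w' ⟨?_, ?_⟩⟩
      · change β w = x; rw [hβ]; exact h2
      · change α w = y; rw [hα]; exact h1
      · rw [← hα]; exact hw'.2
      · rw [← hβ]; exact hw'.1
  have flat_of : ∀ {W : Scheme.{u}} (g : W ⟶ X') (hg : Flat (g ≫ fX')) (O : W.Opens) (_ : IsAffineOpen O)
      (eO : O ≤ g ⁻¹ᵁ U.1), (r ≫ g.appLE U.1 O eO).hom.Flat := by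
    intro W g hg O hO eO
    have key : r ≫ g.appLE U.1 O eO =
        (g ≫ fX').appLE V.1 O (eO.trans (Scheme.Hom.preimage_mono g e)) :=
      Scheme.Hom.appLE_comp_appLE ..
    rw [key]
    exact (g ≫ fX').flat_appLE V.2 hO _
  have : Module.Flat Γ(S, V.1) Γ(Z', ι' ⁻¹ᵁ U.1) :=
    flat_of ι' (by rw [hι']; infer_instance) _ hι'U le_rfl
  have : Module.Flat Γ(S, V.1) Γ(X, π ⁻¹ᵁ U.1) :=
    flat_of π (by rw [hπ]; infer_instance) _ hπU le_rfl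
  have : Module.Flat Γ(S, V.1) Γ(Z, q ⁻¹ᵁ ι' ⁻¹ᵁ U.1) := by
    have := flat_of (ι ≫ π) (by rw [Category.assoc, hπ]; infer_instance) _ hqU
      (le_of_eq (by rw [hw, Scheme.Hom.comp_preimage]))
    rw [show r ≫ (ι ≫ π).appLE U.1 _ _ = r ≫ α ≫ a by simp only [α, a, Scheme.Hom.appLE_comp_appLE]] at this
    exact this
  have h₃ : IsScalarTower Γ(S, V.1) Γ(X', U.1) Γ(Z', ι' ⁻¹ᵁ U.1) := .of_algebraMap_eq' rfl
  have h₄ : IsScalarTower Γ(S, V.1) Γ(X', U.1) Γ(X, π ⁻¹ᵁ U.1) := .of_algebraMap_eq' rfl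
  have h₅ : IsScalarTower Γ(S, V.1) Γ(X, π ⁻¹ᵁ U.1) Γ(Z, q ⁻¹ᵁ ι' ⁻¹ᵁ U.1) := .of_algebraMap_eq' rfl
  exact Groth.Agent.Milnor.flat_corner hsq

end Groth.Agent.S17903
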