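import Groth.Statements.S17905
import Groth.Agent.Lib.RingedPush4.BaseChange

set_option autoImplicit false
universe u
open CategoryTheory AlgebraicGeometry
open Pinch

namespace Groth.Agent.S17905

/-- Let S be a scheme and Z → X, Z → Z', X → X', Z' → X' a commutative square of S-schemes which is a
pushout square in the category of ringed spaces, with Z → X and Z' → X' closed immersions, X → X'
affine, Z → Z' finite, flat and surjective, and X, Z, Z' flat over S. Suppose that for every T → S
the map O_T → (f_T)_* O_{X_T} induced by the base change f_T : X_T → T of X → S is an isomorphism.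
Then for every T → S the map O_T → (f'_T)_* O_{X'_T} induced by the base change of X' → S is an
isomorphism. (The published lemma is stated for the pinching of a finite surjective Z → Z' whose
fibres lie in affine opens of X, with X → S admitting a section; this row assumes X → X' only affine
and drops the affine-fibre and section conditions, which the printed proof does not use.) -/
theorem result {S X Z Z' X' : Scheme.{u}}
    (fX : X ⟶ S) (fZ' : Z' ⟶ S) (fX' : X' ⟶ S) (ι : Z ⟶ X) (q : Z ⟶ Z') (π : X ⟶ X') (ι' : Z' ⟶ X')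
    [IsClosedImmersion ι] [IsClosedImmersion ι'] [IsFinite q] [Flat q] [Surjective q] [IsAffineHom π]
    (hq : q ≫ fZ' = ι ≫ fX) (hπ : π ≫ fX' = fX) (hι' : ι' ≫ fX' = fZ')
    (hpo : IsPushout ((Scheme.forgetToLocallyRingedSpace ⋙ LocallyRingedSpace.forgetToSheafedSpace).map ι) ((Scheme.forgetToLocallyRingedSpace ⋙ LocallyRingedSpace.forgetToSheafedSpace).map q)
      ((Scheme.forgetToLocallyRingedSpace ⋙ LocallyRingedSpace.forgetToSheafedSpace).map π) ((Scheme.forgetToLocallyRingedSpace ⋙ LocallyRingedSpace.forgetToSheafedSpace).map ι'))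
    [Flat fX] [Flat (ι ≫ fX)] [Flat fZ']
    (hX : ∀ (T : Scheme.{u}) (g : T ⟶ S) (U : T.Opens), IsIso ((Limits.pullback.snd fX g).app U))
    (T : Scheme.{u}) (g : T ⟶ S) (U : T.Opens) :
    IsIso ((Limits.pullback.snd fX' g).app U) := by
  have hw : ι ≫ π = q ≫ ι' := by
    have := hpo.w
    rw [← Functor.map_comp, ← Functor.map_comp] at this
    exact (Scheme.forgetToLocallyRingedSpace ⋙ LocallyRingedSpace.forgetToSheafedSpace).map_injective this
  let πT : Limits.pullback fX g ⟶ Limits.pullback fX' g :=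
    Limits.pullback.lift (Limits.pullback.fst fX g ≫ π) (Limits.pullback.snd fX g)
      (by rw [Category.assoc, hπ, Limits.pullback.condition])
  let ιT : Limits.pullback fZ' g ⟶ Limits.pullback fX' g :=
    Limits.pullback.lift (Limits.pullback.fst fZ' g ≫ ι') (Limits.pullback.snd fZ' g)
      (by rw [Category.assoc, hι', Limits.pullback.condition])
  let qT : Limits.pullback (q ≫ fZ') g ⟶ Limits.pullback fZ' g :=
    Limits.pullback.lift (Limits.pullback.fst (q ≫ fZ') g ≫ q) (Limits.pullback.snd (q ≫ fZ') g)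
      (by rw [Category.assoc, Limits.pullback.condition])
  let jT : Limits.pullback (q ≫ fZ') g ⟶ Limits.pullback fX g :=
    Limits.pullback.lift (Limits.pullback.fst (q ≫ fZ') g ≫ ι) (Limits.pullback.snd (q ≫ fZ') g)
      (by rw [Category.assoc, ← hq, Limits.pullback.condition])
  have hπ₂ : πT ≫ Limits.pullback.snd fX' g = Limits.pullback.snd fX g := Limits.pullback.lift_snd _ _ _
  have hι₂ : ιT ≫ Limits.pullback.snd fX' g = Limits.pullback.snd fZ' g := Limits.pullback.lift_snd _ _ _
  have hqT : IsPullback (Limits.pullback.fst (q ≫ fZ') g) qT q (Limits.pullback.fst fZ' g) := by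
    refine (IsPullback.of_bot ?_ (Limits.pullback.lift_fst _ _ _).symm (IsPullback.of_hasPullback fZ' g))
    rw [show qT ≫ Limits.pullback.snd fZ' g = Limits.pullback.snd (q ≫ fZ') g from Limits.pullback.lift_snd _ _ _]
    exact IsPullback.of_hasPullback (q ≫ fZ') g
  have : Flat qT := MorphismProperty.of_isPullback hqT inferInstance
  have : Surjective qT := MorphismProperty.of_isPullback hqT inferInstance
  have hcomm : qT ≫ ιT = jT ≫ πT := by
    apply Limits.pullback.hom_ext <;>
      simp only [qT, ιT, jT, πT, Category.assoc, Limits.pullback.lift_fst, Limits.pullback.lift_snd,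
        Limits.pullback.lift_fst_assoc, Limits.pullback.lift_snd_assoc, hw]
  have := hX T g U
  have hinjX : Function.Bijective ((Limits.pullback.snd fX g).app U) :=
    ConcreteCategory.bijective_of_isIso _
  -- naturality of sections along `πT`, `ιT`
  have happ : ∀ {W : Scheme.{u}} (h : W ⟶ Limits.pullback fX' g) (m : W ⟶ T)
      (hm : h ≫ Limits.pullback.snd fX' g = m) (t : Γ(T, U)),
      h.appLE (Limits.pullback.snd fX' g ⁻¹ᵁ U) (m ⁻¹ᵁ U) (by rw [← hm]; rfl)
        ((Limits.pullback.snd fX' g).app U t) = m.app U t := by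
    intro W h m hm t
    subst hm
    rw [← Scheme.Hom.appLE_eq_app, ← Scheme.Hom.appLE_eq_app, ← CommRingCat.comp_apply,
      Scheme.Hom.appLE_comp_appLE]
  refine (ConcreteCategory.isIso_iff_bijective _).mpr ⟨?_, ?_⟩
  · intro t₁ t₂ h
    apply hinjX.1
    rw [← happ πT _ hπ₂, ← happ πT _ hπ₂, h]
  · intro y
    let s' := Limits.pullback.snd fX' g
    obtain ⟨t, ht⟩ := hinjX.2
      (πT.appLE (s' ⁻¹ᵁ U) (Limits.pullback.snd fX g ⁻¹ᵁ U) (by rw [← hπ₂]; rfl) y)
    refine ⟨t, sub_eq_zero.mp ?_⟩
    have eπ : Limits.pullback.snd fX g ⁻¹ᵁ U = πT ⁻¹ᵁ s' ⁻¹ᵁ U := by rw [← hπ₂]; rfl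
    have h1 : πT.app (s' ⁻¹ᵁ U) ((Limits.pullback.snd fX' g).app U t - y) = 0 := by
      have h0 : πT.appLE (s' ⁻¹ᵁ U) (Limits.pullback.snd fX g ⁻¹ᵁ U) eπ.le
          ((Limits.pullback.snd fX' g).app U t - y) = 0 := by
        rw [map_sub, happ πT _ hπ₂, ht, sub_self]
      rw [← Scheme.Hom.appLE_eq_app]
      rw [← Scheme.Hom.appLE_map πT (e := eπ.le) (i := (homOfLE eπ.ge).op), CommRingCat.comp_apply, h0,
        map_zero]
    refine GrothLib.RingedPush4.section_eq_zero fX fZ' fX' ι q π ι' hπ hι' hpo hw g U πT ιT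
      (Limits.pullback.lift_fst _ _ _) hπ₂ (Limits.pullback.lift_fst _ _ _) hι₂ _ h1 ?_
    apply GrothLib.RingedPush4.appLE_injective_of_flat_surjective qT
    rw [← Scheme.Hom.appLE_eq_app, ← Scheme.Hom.appLE_eq_app, ← CommRingCat.comp_apply,
      Scheme.Hom.appLE_comp_appLE]
    have key : ∀ (m : Limits.pullback (q ≫ fZ') g ⟶ Limits.pullback fX' g) (_ : m = jT ≫ πT)
        (O : (Limits.pullback (q ≫ fZ') g).Opens) (eO : O ≤ m ⁻¹ᵁ s' ⁻¹ᵁ U),
        m.appLE (s' ⁻¹ᵁ U) O eO ((Limits.pullback.snd fX' g).app U t - y) = 0 := by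
      intro m hm O eO
      subst hm
      rw [← Scheme.Hom.appLE_comp_appLE jT πT _ (πT ⁻¹ᵁ s' ⁻¹ᵁ U) _ le_rfl eO, CommRingCat.comp_apply,
        Scheme.Hom.appLE_eq_app, h1, map_zero]
    exact key _ hcomm _ _

end Groth.Agent.S17905
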