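import Groth.Statements.S17906
import Groth.Agent.Lib.RelPicBC26.Basic

set_option autoImplicit false
universe u
open CategoryTheory CategoryTheory.Limits AlgebraicGeometry
open PicRel

namespace Groth.Agent.S17906

/-- Let f : X → S be a morphism of schemes, g : S' → S a morphism and X' = X ×_S S'. If the relative
Picard functor of X over S, sheafified and described through a representing S-scheme P with maps φ_T
from classes of modules on X ×_S T to S-morphisms T → P, is represented by P, then the relative
Picard functor of X' over S' is represented by P ×_S S': a class c on (X ×_S S') ×_{S'} T is sent,
after transport along the canonical isomorphism of this scheme with X ×_S T, to the S'-morphism T →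
P ×_S S' whose components are φ(c) and the structure morphism of T. (The published statement is for
the fppf sheafification, asserts the isomorphism of functors Pic_{X/S} ×_S S' ≅ Pic_{X'/S'} in
general, and adds the compatibility of universal bundles and rigidifications; stated here is the
representability consequence for the étale sheafification, to which the same argument applies.) -/
theorem result {X S S' : Scheme.{u}} (f : X ⟶ S) (g : S' ⟶ S)
    (P : Over S) (φ : ∀ T : Over S, PicF.Cl (PicF.XT f T) → (T ⟶ P)) (hP : PicRel.IsRelPic f P φ) :
    PicRel.IsRelPic (pullback.snd f g) (Over.mk (pullback.snd P.hom g))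
      (fun T c => Over.homMk
        (pullback.lift (φ (Over.mk (T.hom ≫ g)) (PicF.pullCl (pullbackLeftPullbackSndIso f g T.hom).inv c)).left T.hom
          (Over.w (φ (Over.mk (T.hom ≫ g)) (PicF.pullCl (pullbackLeftPullbackSndIso f g T.hom).inv c))))
        (pullback.lift_snd _ _ _)) := by
  exact GrothLib.RelPicBC26.isRelPic_baseChange f g P φ hP

end Groth.Agent.S17906
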