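import Groth.Statements.S17907
import Groth.Agent.Lib.PinchGlue4.Basic
-- import your own Groth.Agent.* helpers here

set_option autoImplicit false
set_option linter.all false
set_option backward.isDefEq.respectTransparency false
universe u
open CategoryTheory AlgebraicGeometry
open Pinch

namespace Groth.Agent.S17907

/-- Let Z → X be a closed immersion and Z → Z' a finite surjective morphism such that every fibre of Z →
Z' lies in an affine open of X; let X → X', Z' → X' complete a commutative square of schemes which
is a pushout square in the category of ringed spaces, with Z' → X' a closed immersion, X → X' finite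
and an isomorphism over the open complement of the image of Z'. Given locally free modules L_X on X
and L_{Z'} on Z' of the same rank n and an isomorphism σ from the pullback of L_X to Z onto the
pullback of L_{Z'} to Z, there are a locally free module M of rank n on X', an isomorphism e_X from
the pullback of M to X onto L_X and an isomorphism e_{Z'} from the pullback of M to Z' onto L_{Z'},
compatible with σ: the canonical isomorphism between the two iterated pullbacks of M to Z (through X
and through Z') followed by the pullback of e_{Z'} to Z equals the pullback of e_X to Z followed by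
σ. (The published result is an equivalence of categories between locally free modules of rank n on
X' and such triples (L_X, L_{Z'}, σ); stated here is the essential surjectivity of the functor
towards triples, not its full faithfulness. Finiteness of X → X' and the isomorphism away from Z'
are part of the pinching construction and are taken as hypotheses.) -/
theorem result {X Z Z' X' : Scheme.{u}}
    (ι : Z ⟶ X) (q : Z ⟶ Z') (π : X ⟶ X') (ι' : Z' ⟶ X')
    [IsClosedImmersion ι] [IsClosedImmersion ι'] [IsFinite q] [Surjective q] [IsFinite π]
    (hw : ι ≫ π = q ≫ ι')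
    (hpo : IsPushout ((Scheme.forgetToLocallyRingedSpace ⋙ LocallyRingedSpace.forgetToSheafedSpace).map ι) ((Scheme.forgetToLocallyRingedSpace ⋙ LocallyRingedSpace.forgetToSheafedSpace).map q)
      ((Scheme.forgetToLocallyRingedSpace ⋙ LocallyRingedSpace.forgetToSheafedSpace).map π) ((Scheme.forgetToLocallyRingedSpace ⋙ LocallyRingedSpace.forgetToSheafedSpace).map ι'))
    (hAF : ∀ z' : Z', ∃ U : X.Opens, IsAffineOpen U ∧ ∀ z : Z, q.base z = z' → ι.base z ∈ U)
    (U : X'.Opens) (hU : (U : Set X') = (Set.range ι'.base)ᶜ) (hiso : IsIso (π ∣_ U))
    (n : ℕ) (LX : X.Modules) (LZ' : Z'.Modules)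
    (hLX : FlatMod.IsFinLocFreeOfRank n LX) (hLZ' : FlatMod.IsFinLocFreeOfRank n LZ')
    (σ : (Scheme.Modules.pullback ι).obj LX ≅ (Scheme.Modules.pullback q).obj LZ') :
    ∃ (M : X'.Modules) (eX : (Scheme.Modules.pullback π).obj M ≅ LX)
      (eZ' : (Scheme.Modules.pullback ι').obj M ≅ LZ'),
      FlatMod.IsFinLocFreeOfRank n M ∧
      (Scheme.Modules.pullbackComp ι π).app M ≪≫ (Scheme.Modules.pullbackCongr hw).app M ≪≫
          ((Scheme.Modules.pullbackComp q ι').app M).symm ≪≫ (Scheme.Modules.pullback q).mapIso eZ' =
        (Scheme.Modules.pullback ι).mapIso eX ≪≫ σ := by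
  obtain ⟨h1, h2, h3⟩ := GrothLib.PinchGlue4.exists_glued hw σ hpo hAF U hU hiso n hLX hLZ'
  refine ⟨GrothLib.PinchGlue4.M hw σ, asIso (GrothLib.PinchGlue4.eX hw σ), asIso (GrothLib.PinchGlue4.eY hw σ), h1, ?_⟩
  apply Iso.ext
  simp only [Iso.trans_hom, Functor.mapIso_hom, asIso_hom, Iso.symm_hom, Category.assoc]
  have h := GrothLib.PinchGlue4.eq_cmp hw σ
  simp only [GrothLib.PinchHom4.cmp, Iso.trans_hom, Iso.symm_hom, Category.assoc] at h
  exact h.symm

end Groth.Agent.S17907
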