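import Groth.Statements.S17909
import Groth.Agent.Lib.PolLaw.NormCoeff
import Mathlib.RingTheory.Norm.Basic

set_option autoImplicit false
universe u
open scoped TensorProduct
open PolLaw

namespace Groth.Agent.S17909

open TensorProduct

section bcm
variable {R : Type u} [CommRing R] {Q : Type u} [CommRing Q] [Algebra R Q]
  {X : Type u} [AddCommGroup X] [Module R X]
  {Y : Type u} [AddCommGroup Y] [Module R Y] [Module Q Y] [IsScalarTower R Q Y]
  (S : Type u) [CommSemiring S] [Algebra R S] [Algebra Q S] [IsScalarTower R Q S]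

variable (Q) in
/-- `s ⊗ x ↦ s ⊗ g x` -/
noncomputable def bcm (g : X →ₗ[R] Y) : S ⊗[R] X →ₗ[R] S ⊗[Q] Y :=
  TensorProduct.lift (LinearMap.mk₂ R (fun s x => s ⊗ₜ[Q] g x)
    (fun s s' x => TensorProduct.add_tmul s s' _)
    (fun r s x => by rw [TensorProduct.smul_tmul'])
    (fun s x x' => by rw [map_add, TensorProduct.tmul_add])
    (fun r s x => by rw [map_smul, TensorProduct.tmul_smul]))

@[simp] lemma bcm_tmul (g : X →ₗ[R] Y) (s : S) (x : X) : bcm Q S g (s ⊗ₜ[R] x) = s ⊗ₜ[Q] g x := rfl

lemma bcm_bijective (g : X →ₗ[R] Y) (hg : IsBaseChange Q g) : Function.Bijective (bcm Q S g) := by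
  let e : S ⊗[R] X ≃ₗ[Q] S ⊗[Q] Y :=
    (TensorProduct.AlgebraTensorModule.cancelBaseChange R Q Q S X).symm ≪≫ₗ LinearEquiv.lTensor S hg.equiv
  have h : ⇑(bcm Q S g) = ⇑e := by
    funext z
    induction z using TensorProduct.induction_on with
    | zero => simp
    | tmul s x => simp [e, IsBaseChange.equiv_tmul]
    | add a b ha hb => simp only [map_add, ha, hb]
  rw [h]; exact e.bijective

lemma bcm_nat {S' : Type u} [CommSemiring S'] [Algebra R S'] [Algebra Q S'] [IsScalarTower R Q S']
    (g : X →ₗ[R] Y) (φ : S →ₐ[Q] S') (z : S ⊗[R] X) :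
    φ.toLinearMap.rTensor Y (bcm Q S g z) = bcm Q S' g ((φ.restrictScalars R).toLinearMap.rTensor X z) := by
  induction z using TensorProduct.induction_on with
  | zero => simp
  | tmul s x => simp
  | add a b ha hb => simp only [map_add, ha, hb]

lemma bcm_comp {W : Type u} [AddCommGroup W] [Module R W] (g : X →ₗ[R] Y) (h : W →ₗ[R] X) (z : S ⊗[R] W) :
    bcm Q S (g ∘ₗ h) z = bcm Q S g (h.lTensor S z) := by
  induction z using TensorProduct.induction_on with
  | zero => simp
  | tmul s x => simp
  | add a b ha hb => simp only [map_add, ha, hb]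

lemma bcm_eq_bcAlong (g : X →ₗ[R] Y) (P : Type u) [CommRing P] [Algebra R P] [Algebra Q P] [IsScalarTower R Q P]
    (z : P ⊗[R] X) : PolLaw.bcAlong g P z = bcm Q P g z := by
  induction z using TensorProduct.induction_on with
  | zero => simp
  | tmul s x => simp [PolLaw.bcAlong]
  | add a b ha hb => simp only [map_add, ha, hb]

lemma bcm_smul (g : X →ₗ[R] Y) (a : S) (z : S ⊗[R] X) : bcm Q S g (a • z) = a • bcm Q S g z := by
  induction z using TensorProduct.induction_on with
  | zero => simp
  | tmul s x => simp [TensorProduct.smul_tmul']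
  | add x y hx hy => simp [map_add, smul_add, hx, hy]

/-- `(q ⊗ s) ⊗ y ↦ s ⊗ q • y` -/
noncomputable def psi (S : Type u) [CommSemiring S] [Algebra R S] :
    (Q ⊗[R] S) ⊗[Q] Y →ₗ[R] S ⊗[R] Y :=
  (_root_.TensorProduct.comm R Y S).toLinearMap ∘ₗ
    ((TensorProduct.AlgebraTensorModule.cancelBaseChange R Q Q Y S).toLinearMap.restrictScalars R ∘ₗ
      (_root_.TensorProduct.comm Q (Q ⊗[R] S) Y).toLinearMap.restrictScalars R)

lemma psi_tmul (S : Type u) [CommSemiring S] [Algebra R S] (q : Q) (s : S) (y : Y) :
    psi S ((q ⊗ₜ[R] s) ⊗ₜ[Q] y) = s ⊗ₜ[R] (q • y) := by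
  simp [psi]

end bcm

section Norm
variable {R : Type u} [CommRing R] {R' : Type u} [CommRing R'] [Algebra R R']

lemma norm_eq_detAct (P : Type u) [CommRing P] [Algebra R P] (x : P ⊗[R] R') :
    Algebra.norm P x = PolLaw.detAct R' P x := by
  rw [Algebra.norm_apply, PolLaw.detAct]
  congr 1
  ext m
  simp only [TensorProduct.AlgebraTensorModule.curry_apply, TensorProduct.curry_apply, LinearMap.coe_restrictScalars]
  induction x using TensorProduct.induction_on with
  | zero => simp
  | tmul s b => simp [PolLaw.actEnd_tmul_tmul, Algebra.TensorProduct.tmul_mul_tmul]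
  | add a b ha hb => rw [map_add, map_add, LinearMap.add_apply, LinearMap.add_apply, ha, hb]

end Norm

section Main
variable {R R' Q Q' : Type u} [CommRing R] [CommRing R'] [Algebra R R']
  [CommRing Q] [Algebra R Q] [CommRing Q'] [Algebra R Q'] [Algebra Q Q'] [Algebra R' Q']
  [IsScalarTower R Q Q'] [IsScalarTower R R' Q'] [Algebra.IsPushout R R' Q Q']
  [Module.Free R R'] [Module.Finite R R']
  {M' : Type u} [AddCommGroup M'] [Module R M'] [Module R' M'] [IsScalarTower R R' M']
  {M'' : Type u} [AddCommGroup M''] [Module R M''] [Module R' M''] [Module Q M''] [Module Q' M'']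
  [IsScalarTower R R' M''] [IsScalarTower R Q M''] [IsScalarTower R' Q' M''] [IsScalarTower Q Q' M'']
  (P : Type u) [CommRing P] [Algebra R P] [Algebra Q P] [IsScalarTower R Q P]

/-- `P ⊗ R' → P ⊗ Q'` -/
noncomputable def kap : P ⊗[R] R' →ₐ[P] P ⊗[Q] Q' :=
  Algebra.TensorProduct.lift (Algebra.ofId P _)
    (((Algebra.TensorProduct.includeRight : Q' →ₐ[Q] P ⊗[Q] Q').restrictScalars R).comp (IsScalarTower.toAlgHom R R' Q'))
    (fun _ _ => Commute.all _ _)

omit [Module.Free R R'] [Module.Finite R R'] [Algebra.IsPushout R R' Q Q'] in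
lemma kap_tmul (p : P) (b : R') : kap (Q := Q) (Q' := Q') P (p ⊗ₜ[R] b) = p ⊗ₜ[Q] algebraMap R' Q' b := by
  simp [kap, Algebra.ofId_apply, Algebra.TensorProduct.tmul_mul_tmul]

omit [Module.Free R R'] [Module.Finite R R'] in
lemma kap_bijective : Function.Bijective (kap (R := R) (R' := R') (Q := Q) (Q' := Q') P) := by
  have hp : Algebra.IsPushout R Q R' Q' := Algebra.IsPushout.symm ‹_›
  have h : ⇑(kap (R := R) (R' := R') (Q := Q) (Q' := Q') P) =
      ⇑(bcm Q P (IsScalarTower.toAlgHom R R' Q').toLinearMap) := by
    funext z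
    induction z using TensorProduct.induction_on with
    | zero => simp
    | tmul s x => simp [kap_tmul]
    | add a b ha hb => simp only [map_add, ha, hb]
  rw [h]; exact bcm_bijective P _ hp.out

omit [Module.Free R R'] [Module.Finite R R'] in
lemma norm_kap (x : P ⊗[R] R') : Algebra.norm P (kap (Q := Q) (Q' := Q') P x) = Algebra.norm P x :=
  Algebra.norm_eq_of_algEquiv (AlgEquiv.ofBijective _ (kap_bijective (Q := Q) (Q' := Q') P)) x

omit [Module.Free R R'] [Module.Finite R R'] [Algebra.IsPushout R R' Q Q'] in
lemma bcm_act (f : M' →ₗ[R'] M'') (x : P ⊗[R] R') (m : P ⊗[R] M') :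
    bcm Q P (f.restrictScalars R) (PolLaw.actEnd M' P x m) =
      PolLaw.actEnd M'' P (kap (Q := Q) (Q' := Q') P x) (bcm Q P (f.restrictScalars R) m) := by
  induction x using TensorProduct.induction_on with
  | zero => simp
  | tmul s b =>
    induction m using TensorProduct.induction_on with
    | zero => simp
    | tmul t n => simp [PolLaw.actEnd_tmul_tmul, kap_tmul, algebraMap_smul]
    | add a b ha hb => simp only [map_add, ha, hb]
  | add a b ha hb => simp [map_add, LinearMap.add_apply, ha, hb]

end Main

noncomputable def ringOfAlg (Q S : Type u) [CommRing Q] [CommSemiring S] [Algebra Q S] : CommRing S :=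
  { Algebra.semiringToRing Q (A := S), ‹CommSemiring S› with }



/-- Affine-free form, stated through the universal property of the norm module. Let R → R' be a
commutative algebra, free of finite rank as an R-module; let Q be a commutative R-algebra and Q' a
commutative ring under both Q and R' which is their pushout over R; let M' be an R'-module and f :
M' → M'' an R'-linear map into a Q'-module that exhibits M'' as Q' ⊗_{R'} M'. Let (N, ν) be a
universal normic pair for M' over R (ν a polynomial law M' → N over R with ν(x · m) = norm(x) · ν(m)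
over every commutative test ring, through which every normic law factors by a unique linear map) and
(N'', ν'') a universal normic pair for M'' over Q. Then there is an R-linear map u : N → N'' which
is compatible with the two laws over every commutative Q-algebra P, in the sense ν''_P (p ⊗ f m) =
(p ⊗ u)(ν_P (p ⊗ m)), and whose Q-linear extension Q ⊗_R N → N'' is an isomorphism (N'' is the base
change of N along R → Q via u). (The published statements are for the norm modules constructed from
divided powers, for a finite locally free extension of constant rank; here the extension is free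
over an affine base and the norm modules enter through their universal property.) -/
theorem result {R R' Q Q' : Type u} [CommRing R] [CommRing R'] [Algebra R R']
    [CommRing Q] [Algebra R Q] [CommRing Q'] [Algebra R Q'] [Algebra Q Q'] [Algebra R' Q']
    [IsScalarTower R Q Q'] [IsScalarTower R R' Q'] [Algebra.IsPushout R R' Q Q']
    [Module.Free R R'] [Module.Finite R R']
    {M' : Type u} [AddCommGroup M'] [Module R M'] [Module R' M'] [IsScalarTower R R' M']
    {M'' : Type u} [AddCommGroup M''] [Module R M''] [Module R' M''] [Module Q M''] [Module Q' M'']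
    [IsScalarTower R R' M''] [IsScalarTower R Q M''] [IsScalarTower R' Q' M''] [IsScalarTower Q Q' M'']
    (f : M' →ₗ[R'] M'') (hf : IsBaseChange Q' f)
    {N : Type u} [AddCommGroup N] [Module R N] (ν : M' →ₚₗ[R] N) (hν : PolLaw.IsUnivNormic R' ν)
    {N'' : Type u} [AddCommGroup N''] [Module R N''] [Module Q N''] [IsScalarTower R Q N'']
    (ν'' : M'' →ₚₗ[Q] N'') (hν'' : PolLaw.IsUnivNormic Q' ν'') :
    ∃ u : N →ₗ[R] N'',
      (∀ (P : Type u) [CommRing P] [Algebra R P] [Algebra Q P] [IsScalarTower R Q P] (m : P ⊗[R] M'),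
          ν''.toFun' P (PolLaw.bcAlong (f.restrictScalars R) P m) = PolLaw.bcAlong u P (ν.toFun' P m)) ∧
      IsBaseChange Q u := by
  classical
  obtain ⟨hν₁, hν₂⟩ := hν
  obtain ⟨hν''₁, hν''₂⟩ := hν''
  have hp : Algebra.IsPushout R Q R' Q' := Algebra.IsPushout.symm ‹_›
  let fR := f.restrictScalars R
  have hfQ : IsBaseChange Q fR := IsBaseChange.of_equiv
    ((Algebra.IsPushout.cancelBaseChange R Q R' Q' M').symm ≪≫ₗ hf.equiv.restrictScalars Q) (fun m => by
      simp [fR, IsBaseChange.equiv_tmul])
  -- restriction of the law `ν''` along `f`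
  let μ : M' →ₚₗ[R] N'' :=
    { toFun' := fun S _ _ z => psi S (ν''.toFun' (Q ⊗[R] S) (bcm Q (Q ⊗[R] S) fR
        ((Algebra.TensorProduct.includeRight : S →ₐ[R] Q ⊗[R] S).toLinearMap.rTensor M' z)))
      isCompat' := fun {S} _ _ {S'} _ _ φ => by
        funext z
        simp only [Function.comp_apply]
        let Φ : Q ⊗[R] S →ₐ[Q] Q ⊗[R] S' := Algebra.TensorProduct.map (AlgHom.id Q Q) φ
        have hz : (Algebra.TensorProduct.includeRight : S' →ₐ[R] Q ⊗[R] S').toLinearMap.rTensor M'
            (φ.toLinearMap.rTensor M' z) = (Φ.restrictScalars R).toLinearMap.rTensor M'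
              ((Algebra.TensorProduct.includeRight : S →ₐ[R] Q ⊗[R] S).toLinearMap.rTensor M' z) := by
          induction z using TensorProduct.induction_on with
          | zero => simp
          | tmul s x => simp [Φ]
          | add a b ha hb => simp only [map_add, ha, hb]
        have key : ∀ w : (Q ⊗[R] S) ⊗[Q] N'', psi S' (Φ.toLinearMap.rTensor N'' w) =
            φ.toLinearMap.rTensor N'' (psi S w) := by
          intro w
          induction w using TensorProduct.induction_on with
          | zero => simp
          | tmul t y =>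
            induction t using TensorProduct.induction_on with
            | zero => simp
            | tmul q s => simp [Φ, psi_tmul]
            | add a b ha hb => simp only [map_add, TensorProduct.add_tmul, ha, hb]
          | add a b ha hb => simp only [map_add, ha, hb]
        rw [hz, ← bcm_nat (Q ⊗[R] S) fR Φ, ← PolynomialLaw.isCompat_apply', key] }
  have hμ : PolLaw.IsNormic R' μ := by
    intro P _ _ x m
    let ι : P →ₐ[R] Q ⊗[R] P := Algebra.TensorProduct.includeRight
    have hact : ι.toLinearMap.rTensor M' (PolLaw.actEnd M' P x m) = PolLaw.actEnd M' (Q ⊗[R] P)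
        (Algebra.TensorProduct.map ι (AlgHom.id R R') x) (ι.toLinearMap.rTensor M' m) := PolLaw.rTensor_actEnd M' ι x m
    change psi P (ν''.toFun' (Q ⊗[R] P) (bcm Q (Q ⊗[R] P) fR (ι.toLinearMap.rTensor M' (PolLaw.actEnd M' P x m)))) =
      _ • psi P (ν''.toFun' (Q ⊗[R] P) (bcm Q (Q ⊗[R] P) fR (ι.toLinearMap.rTensor M' m)))
    rw [hact, bcm_act (Q' := Q') (Q ⊗[R] P) f, hν''₁, norm_kap, norm_eq_detAct, PolLaw.detAct_map R' ι, ← norm_eq_detAct]
    generalize ν''.toFun' (Q ⊗[R] P) _ = w
    induction w using TensorProduct.induction_on with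
    | zero => simp
    | tmul t y =>
      induction t using TensorProduct.induction_on with
      | zero => simp
      | tmul q s => simp [ι, TensorProduct.smul_tmul', psi_tmul, Algebra.TensorProduct.tmul_mul_tmul]
      | add a b ha hb => simp only [TensorProduct.add_tmul, map_add, smul_add, ha, hb]
    | add a b ha hb => simp only [map_add, smul_add, ha, hb]
  obtain ⟨u, hu, -⟩ := hν₂ N'' μ hμ
  have hu' : ∀ (S : Type u) [CommSemiring S] [Algebra R S] (z : S ⊗[R] M'),
      u.lTensor S (ν.toFun' S z) = μ.toFun' S z := fun S _ _ z => by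
    rw [← hu]; rfl
  have compat : ∀ (S : Type u) [CommSemiring S] [Algebra R S] [Algebra Q S] [IsScalarTower R Q S] (m : S ⊗[R] M'),
      ν''.toFun' S (bcm Q S fR m) = bcm Q S u (ν.toFun' S m) := by
    intro S _ _ _ _ m
    let π : Q ⊗[R] S →ₐ[Q] S := Algebra.TensorProduct.lift (Algebra.ofId Q S) (AlgHom.id R S) (fun _ _ => Commute.all _ _)
    have h1 : bcm Q S u (ν.toFun' S m) = bcm Q S (LinearMap.id : N'' →ₗ[R] N'') (μ.toFun' S m) := by
      rw [← hu', ← bcm_comp, LinearMap.id_comp]
    have key : ∀ w : (Q ⊗[R] S) ⊗[Q] N'', bcm Q S (LinearMap.id : N'' →ₗ[R] N'') (psi S w) = π.toLinearMap.rTensor N'' w := by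
      intro w
      induction w using TensorProduct.induction_on with
      | zero => simp
      | tmul t y =>
        induction t using TensorProduct.induction_on with
        | zero => simp
        | tmul q s => simp [π, psi_tmul, Algebra.ofId_apply, ← Algebra.smul_def, TensorProduct.smul_tmul]
        | add a b ha hb => simp only [TensorProduct.add_tmul, map_add, ha, hb]
      | add a b ha hb => simp only [map_add, ha, hb]
    have h2 : ∀ z : S ⊗[R] M', (π.restrictScalars R).toLinearMap.rTensor M'
        ((Algebra.TensorProduct.includeRight : S →ₐ[R] Q ⊗[R] S).toLinearMap.rTensor M' z) = z := by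
      intro z
      induction z using TensorProduct.induction_on with
      | zero => simp
      | tmul s x => simp [π]
      | add a b ha hb => rw [map_add, map_add, ha, hb]
    rw [h1, key, PolynomialLaw.isCompat_apply', bcm_nat, h2]
  refine ⟨u, fun P _ _ _ _ m => by rw [bcm_eq_bcAlong, bcm_eq_bcAlong]; exact compat P m, ?_⟩
  refine IsBaseChange.of_lift_unique _ ?_
  intro E _ _ _ _ g
  letI : AddCommGroup E := Module.addCommMonoidToAddCommGroup Q
  -- the inverse of `bcm Q S fR`
  let aux : ∀ (S : Type u) [CommSemiring S] [Algebra R S] [Algebra Q S] [IsScalarTower R Q S],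
      S ⊗[Q] M'' → S ⊗[Q] E := fun S _ _ _ _ w =>
    bcm Q S g (ν.toFun' S ((LinearEquiv.ofBijective (bcm Q S fR) (bcm_bijective S fR hfQ)).symm w))
  have aux_apply : ∀ (S : Type u) [CommSemiring S] [Algebra R S] [Algebra Q S] [IsScalarTower R Q S]
      (z : S ⊗[R] M'), aux S (bcm Q S fR z) = bcm Q S g (ν.toFun' S z) := by
    intro S _ _ _ _ z
    simp only [aux]
    congr 2
    exact LinearEquiv.ofBijective_symm_apply_apply _ z
  let μg : M'' →ₚₗ[Q] E :=
    { toFun' := fun S iS iQ w =>
        letI : Algebra R S := ((algebraMap Q S).comp (algebraMap R Q)).toAlgebra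
        haveI : IsScalarTower R Q S := IsScalarTower.of_algebraMap_eq fun _ => rfl
        aux S w
      isCompat' := fun {S} _ _ {S'} _ _ φ => by
        letI : Algebra R S := ((algebraMap Q S).comp (algebraMap R Q)).toAlgebra
        haveI : IsScalarTower R Q S := IsScalarTower.of_algebraMap_eq fun _ => rfl
        letI : Algebra R S' := ((algebraMap Q S').comp (algebraMap R Q)).toAlgebra
        haveI : IsScalarTower R Q S' := IsScalarTower.of_algebraMap_eq fun _ => rfl
        funext w
        obtain ⟨z, rfl⟩ := (bcm_bijective S fR hfQ).2 w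
        simp only [Function.comp_apply]
        rw [aux_apply, bcm_nat, bcm_nat, aux_apply, PolynomialLaw.isCompat_apply'] }
  have μg_spec : ∀ (S : Type u) [CommSemiring S] [iR : Algebra R S] [Algebra Q S] [IsScalarTower R Q S]
      (z : S ⊗[R] M'), μg.toFun' S (bcm Q S fR z) = bcm Q S g (ν.toFun' S z) := by
    intro S _ iR _ _ z
    obtain rfl : iR = ((algebraMap Q S).comp (algebraMap R Q)).toAlgebra :=
      Algebra.algebra_ext _ _ fun r => IsScalarTower.algebraMap_apply R Q S r
    letI : Algebra R S := ((algebraMap Q S).comp (algebraMap R Q)).toAlgebra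
    exact aux_apply S z
  have hμg : PolLaw.IsNormic Q' μg := by
    intro P _ iP y w
    letI : Algebra R P := ((algebraMap Q P).comp (algebraMap R Q)).toAlgebra
    haveI : IsScalarTower R Q P := IsScalarTower.of_algebraMap_eq fun _ => rfl
    obtain ⟨x, rfl⟩ := (kap_bijective (R := R) (R' := R') (Q := Q) (Q' := Q') P).2 y
    obtain ⟨m, rfl⟩ := (bcm_bijective P fR hfQ).2 w
    rw [← bcm_act (Q' := Q') P f, μg_spec, μg_spec, hν₁, norm_kap, bcm_smul]
  obtain ⟨g', hg', huniq⟩ := hν''₂ E μg hμg
  refine ⟨g', ?_, ?_⟩
  · have hn : PolLaw.IsNormic R' (PolLaw.postcomp g ν) := by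
      intro P _ _ x m
      change g.lTensor P _ = _ • g.lTensor P _
      rw [hν₁]
      generalize ν.toFun' P m = w
      induction w using TensorProduct.induction_on with
      | zero => simp
      | tmul t y => simp [TensorProduct.smul_tmul']
      | add a b ha hb => simp only [map_add, smul_add, ha, hb]
    obtain ⟨φ0, -, hφu⟩ := hν₂ E _ hn
    refine (hφu _ ?_).trans (hφu g rfl).symm
    ext S _ _ z
    change ((g'.restrictScalars R) ∘ₗ u).lTensor S (ν.toFun' S z) = g.lTensor S (ν.toFun' S z)
    rw [LinearMap.lTensor_comp, LinearMap.comp_apply, hu']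
    let ι : S →ₐ[R] Q ⊗[R] S := Algebra.TensorProduct.includeRight
    change (g'.restrictScalars R).lTensor S (psi S (ν''.toFun' (Q ⊗[R] S) (bcm Q (Q ⊗[R] S) fR (ι.toLinearMap.rTensor M' z)))) = _
    have key : ∀ w : (Q ⊗[R] S) ⊗[Q] N'', (g'.restrictScalars R).lTensor S (psi S w) = psi S (g'.lTensor (Q ⊗[R] S) w) := by
      intro w
      induction w using TensorProduct.induction_on with
      | zero => simp
      | tmul t y =>
        induction t using TensorProduct.induction_on with
        | zero => simp
        | tmul q s => simp [psi_tmul]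
        | add a b ha hb => simp only [TensorProduct.add_tmul, map_add, ha, hb]
      | add a b ha hb => simp only [map_add, ha, hb]
    rw [key]
    have h3 : g'.lTensor (Q ⊗[R] S) (ν''.toFun' (Q ⊗[R] S) (bcm Q (Q ⊗[R] S) fR (ι.toLinearMap.rTensor M' z))) =
        bcm Q (Q ⊗[R] S) g (ν.toFun' (Q ⊗[R] S) (ι.toLinearMap.rTensor M' z)) := by
      rw [← μg_spec, ← hg']; rfl
    rw [h3, ← PolynomialLaw.isCompat_apply']
    generalize ν.toFun' S z = w
    induction w using TensorProduct.induction_on with
    | zero => simp
    | tmul t y => simp [ι, psi_tmul]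
    | add a b ha hb => simp only [map_add, ha, hb]
  · intro g₂ hg₂
    refine huniq g₂ ?_
    ext S _ _ w
    letI : Algebra R S := ((algebraMap Q S).comp (algebraMap R Q)).toAlgebra
    haveI : IsScalarTower R Q S := IsScalarTower.of_algebraMap_eq fun _ => rfl
    obtain ⟨z, rfl⟩ := (bcm_bijective S fR hfQ).2 w
    change g₂.lTensor S (ν''.toFun' S (bcm Q S fR z)) = _
    rw [μg_spec, compat]
    generalize ν.toFun' S z = w
    induction w using TensorProduct.induction_on with
    | zero => simp
    | tmul t y => simp [← hg₂]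
    | add a b ha hb => simp only [map_add, ha, hb]


end Groth.Agent.S17909
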