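import Groth.Statements.S1791
import Groth.Agent.Lib.FaltingsD3.Main
import Groth.Agent.Lib.FaltingsD3.Trunc
-- import your own Groth.Agent.* helpers here

set_option autoImplicit false
universe u
open CategoryTheory
attribute [local instance] HasDerivedCategory.standard
open LocCoh

namespace Groth.Agent.S1791

/-- Let A be a Noetherian ring with a dualizing complex, T ⊆ T' subsets of Spec A stable under
specialization, s an integer, and K an object of D(A) which is bounded below with finite cohomology
modules. Assume the derived base change functors D(A) → D(A_p) exist. Then there is an ideal J with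
V(J) ⊆ T' annihilating H^i_T(K) for all i ≤ s if and only if for all primes p ∉ T' and q ∈ T with p
⊆ q, writing h for the length of the longest chain of primes from p to q, the local cohomology H^i
of K_p at the maximal ideal of A_p vanishes for every i ≤ s − h (that is, depth(K_p) + h > s). -/
theorem result (A : Type u) [CommRing A] [IsNoetherianRing A] (hA : ∃ ω : Dual.D A, Dual.IsDualizing A ω) (T T' : Set (PrimeSpectrum A)) (hT : StableUnderSpecialization T) (hT' : StableUnderSpecialization T') (hTT' : T ⊆ T') (s : ℤ) (K : Dual.D A) (a : ℤ) (hKa : ∀ i : ℤ, i < a → Subsingleton (Dual.HD A K i)) (hK : ∀ i : ℤ, Module.Finite A (Dual.HD A K i)) [∀ p : PrimeSpectrum A, DRing.HasLBaseChange (algebraMap A (Localization.AtPrime p.asIdeal))] : (∃ J : Ideal A, PrimeSpectrum.zeroLocus (J : Set A) ⊆ T' ∧ ∀ i : ℤ, i ≤ s → ∀ a ∈ J, ∀ x : Dual2.HDT A T K i, a • x = 0) ↔ (∀ (p q : PrimeSpectrum A) (hpq : p ≤ q), p ∉ T' → q ∈ T → ∀ h : ℕ, Order.height (⟨q, hpq⟩ : Set.Ici p) = h → ∀ i : ℤ, i ≤ s - h → Subsingleton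 (Dual2.HDI (Localization.AtPrime p.asIdeal) (IsLocalRing.maximalIdeal (Localization.AtPrime p.asIdeal)) ((DRing.LBaseChange (algebraMap A (Localization.AtPrime p.asIdeal))).obj K) i)) := by
  obtain ⟨ω, hω⟩ := hA
  obtain ⟨K', hle, hsub, hfin, hη⟩ := GrothLib.FaltingsD3.exists_trunc K (s + 1)
  haveI := hle
  have e1 : ∀ i : ℤ, i ≤ s → Nonempty (Dual2.HDT A T K' i ≅ Dual2.HDT A T K i) := fun i hi => by
    obtain ⟨η, hb⟩ := hη i (by omega)
    exact GrothLib.FaltingsD3.nonempty_colimit_iso (Dual2.idealsInDiagram T) η hb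
  have e2 : ∀ (p : PrimeSpectrum A) (i : ℤ), i ≤ s →
      Nonempty (Dual2.HDI (Localization.AtPrime p.asIdeal) (IsLocalRing.maximalIdeal (Localization.AtPrime p.asIdeal))
          ((DRing.LBaseChange (algebraMap A (Localization.AtPrime p.asIdeal))).obj K') i ≅
        Dual2.HDI (Localization.AtPrime p.asIdeal) (IsLocalRing.maximalIdeal (Localization.AtPrime p.asIdeal))
          ((DRing.LBaseChange (algebraMap A (Localization.AtPrime p.asIdeal))).obj K) i) := fun p i hi => by
    haveI : Module.Flat A (Localization.AtPrime p.asIdeal) :=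
      IsLocalization.flat (Localization.AtPrime p.asIdeal) p.asIdeal.primeCompl
    obtain ⟨η, hb⟩ := hη i (by omega)
    obtain ⟨c⟩ := GrothLib.FaltingsD3.nonempty_colimit_iso (localCohomology.idealPowersDiagram p.asIdeal) η hb
    obtain ⟨a₁⟩ := GrothLib.HDIRestrict3.nonempty_HDI_LBaseChange
      (A := A) (B := Localization.AtPrime p.asIdeal) p.asIdeal K' i
    obtain ⟨a₂⟩ := GrothLib.HDIRestrict3.nonempty_HDI_LBaseChange
      (A := A) (B := Localization.AtPrime p.asIdeal) p.asIdeal K i
    rw [← Localization.AtPrime.map_eq_maximalIdeal (I := p.asIdeal)]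
    exact ⟨a₁ ≪≫ (ModuleCat.extendScalars (algebraMap A (Localization.AtPrime p.asIdeal))).mapIso c ≪≫ a₂.symm⟩
  have key := GrothLib.FaltingsD3.annihilator_iff hT hT' hω K' a (fun i hi => hsub i (hKa i hi))
    (fun i => hfin i (hK i)) (s + 1) s
  constructor
  · rintro ⟨J, hJ, hJk⟩ p q hpq hp hq h hh i hi
    obtain ⟨c⟩ := e2 p i (by omega)
    haveI := key.1 ⟨J, hJ, fun j hj x hx z => by
      obtain ⟨d⟩ := e1 j hj
      refine d.toLinearEquiv.injective ?_
      rw [map_smul, map_zero]
      exact hJk j hj x hx _⟩ p q hpq hp hq h hh i hi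
    exact c.toLinearEquiv.symm.toEquiv.subsingleton
  · intro hr
    obtain ⟨J, hJ, hJk⟩ := key.2 fun p q hpq hp hq h hh i hi => by
      obtain ⟨c⟩ := e2 p i (by omega)
      haveI := hr p q hpq hp hq h hh i hi
      exact c.toLinearEquiv.toEquiv.subsingleton
    refine ⟨J, hJ, fun j hj x hx z => ?_⟩
    obtain ⟨d⟩ := e1 j hj
    obtain ⟨y, rfl⟩ := d.toLinearEquiv.surjective z
    rw [← map_smul, hJk j hj x hx y, map_zero]

end Groth.Agent.S1791
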