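import Groth.Statements.S17910
-- import your own Groth.Agent.* helpers here
import Mathlib.LinearAlgebra.PiTensorProduct.Basis

set_option autoImplicit false
universe u
open scoped TensorProduct
open SymTen

namespace Groth.Agent.S17910

/-- Let R be a commutative ring, A a commutative R-algebra, d ≥ 0, and P an A-module that is finitely
generated projective (finite locally free) as an R-module. Let the d-fold tensor power of A over R
act on the d-fold tensor power of P over R factor by factor, and let I_d be the R-span of the pure
tensors p_1 ⊗ ⋯ ⊗ p_d with two equal factors p_i = p_j, i ≠ j (the submodule by which the tensor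
power is divided to give the d-th exterior power). Then every symmetric tensor a ∈ TS^d_R(A) maps
I_d into itself, so that TS^d_R(A) acts on the d-th exterior power of P over R. -/
theorem result (R : Type u) [CommRing R] (A : Type u) [CommRing A] [Algebra R A]
    (P : Type u) [AddCommGroup P] [Module R P] [Module A P] [IsScalarTower R A P]
    [Module.Finite R P] [Module.Projective R P] (d : ℕ)
    (a : ⨂[R] _ : Fin d, A) (ha : a ∈ SymTen.TS R A d)
    (x : ⨂[R] _ : Fin d, P) (hx : x ∈ SymTen.altSpan R P d) :
    SymTen.tpowAct R A P d a x ∈ SymTen.altSpan R P d := by
  classical
  obtain ⟨s, hs⟩ := (Module.projective_def' (R := R) (P := P)).1 inferInstance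
  set π : (P →₀ R) →ₗ[R] P := Finsupp.linearCombination R id
  let b : Module.Basis P R (P →₀ R) := Finsupp.basisSingleOne
  let e := Basis.piTensorProduct fun _ : Fin d => b
  have hact : ∀ (σ : Equiv.Perm (Fin d)) (u : ⨂[R] _ : Fin d, A) (z : ⨂[R] _ : Fin d, P),
      PiTensorProduct.reindex R (fun _ : Fin d => P) σ (SymTen.tpowAct R A P d u z) =
        SymTen.tpowAct R A P d (PiTensorProduct.reindex R (fun _ : Fin d => A) σ u)
          (PiTensorProduct.reindex R (fun _ : Fin d => P) σ z) := by
    intro σ u z
    induction u using PiTensorProduct.induction_on with
    | smul_tprod r f =>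
      induction z using PiTensorProduct.induction_on with
      | smul_tprod r' g =>
        simp [SymTen.tpowAct, PiTensorProduct.reindex_tprod]
      | add x y hx hy => simp only [map_add, hx, hy]
    | add x y hx hy => simp only [map_add, LinearMap.add_apply, hx, hy]
  have hsmap : ∀ (σ : Equiv.Perm (Fin d)) (z : ⨂[R] _ : Fin d, P),
      PiTensorProduct.reindex R (fun _ : Fin d => P →₀ R) σ (PiTensorProduct.map (fun _ => s) z) =
        PiTensorProduct.map (fun _ => s) (PiTensorProduct.reindex R (fun _ : Fin d => P) σ z) := by
    intro σ z
    induction z using PiTensorProduct.induction_on with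
    | smul_tprod r f => simp [PiTensorProduct.reindex_tprod]
    | add x y hx hy => simp [hx, hy]
  unfold SymTen.altSpan at hx
  induction hx using Submodule.span_induction with
  | zero => rw [map_zero]; exact zero_mem _
  | add _ _ _ _ h1 h2 => rw [map_add]; exact add_mem h1 h2
  | smul r _ _ h => rw [map_smul]; exact Submodule.smul_mem _ r h
  | mem z hz =>
    obtain ⟨p, i, j, hij, hp, rfl⟩ := hz
    set τ := Equiv.swap i j
    set y := SymTen.tpowAct R A P d a (PiTensorProduct.tprod R p)
    have hy : PiTensorProduct.reindex R (fun _ : Fin d => P) τ y = y := by
      rw [hact, ha τ, PiTensorProduct.reindex_tprod]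
      congr 2
      funext l
      simp only [τ, Equiv.symm_swap]
      rcases eq_or_ne l i with rfl | hli
      · rw [Equiv.swap_apply_left, hp]
      · rcases eq_or_ne l j with rfl | hlj
        · rw [Equiv.swap_apply_right, hp]
        · rw [Equiv.swap_apply_of_ne_of_ne hli hlj]
    have hretr : ∀ z : ⨂[R] _ : Fin d, P,
        PiTensorProduct.map (fun _ => π) (PiTensorProduct.map (fun _ => s) z) = z := by
      intro z
      rw [← LinearMap.comp_apply, ← PiTensorProduct.map_comp]
      simp only [show π ∘ₗ s = LinearMap.id from hs, PiTensorProduct.map_id, LinearMap.id_apply]
    have hmapalt : ∀ w ∈ Submodule.span R {x : ⨂[R] _ : Fin d, P →₀ R | ∃ (p : Fin d → P →₀ R) (i j : Fin d),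
        i ≠ j ∧ p i = p j ∧ x = PiTensorProduct.tprod R p},
        PiTensorProduct.map (fun _ => π) w ∈ SymTen.altSpan R P d := by
      intro w hw
      induction hw using Submodule.span_induction with
      | zero => rw [map_zero]; exact zero_mem _
      | add _ _ _ _ h1 h2 => rw [map_add]; exact add_mem h1 h2
      | smul r _ _ h => rw [map_smul]; exact Submodule.smul_mem _ r h
      | mem w hw =>
        obtain ⟨q, i', j', hne, hq, rfl⟩ := hw
        rw [PiTensorProduct.map_tprod]
        exact Submodule.subset_span ⟨_, i', j', hne, congr_arg π hq, rfl⟩
    rw [← hretr y]
    refine hmapalt _ ?_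
    set z := PiTensorProduct.map (fun _ : Fin d => s) y
    have hz : PiTensorProduct.reindex R (fun _ : Fin d => P →₀ R) τ z = z := by rw [hsmap, hy]
    have hrepr : ∀ (w : ⨂[R] _ : Fin d, P →₀ R) (f : Fin d → P),
        e.repr (PiTensorProduct.reindex R (fun _ : Fin d => P →₀ R) τ w) f = e.repr w (f ∘ τ) := by
      intro w f
      induction w using PiTensorProduct.induction_on with
      | smul_tprod r g =>
        simp only [map_smul, Finsupp.smul_apply, PiTensorProduct.reindex_tprod, e,
          Basis.piTensorProduct_repr_tprod_apply]
        congr 1
        exact (Equiv.prod_comp τ fun l => b.repr (g (τ.symm l)) (f l)).symm.trans (by simp)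
      | add x y hx hy => simp [hx, hy]
    have key : ∀ (n : ℕ) (c : (Fin d → P) →₀ R), c.support.card ≤ n → (∀ f, c (f ∘ τ) = c f) →
        Finsupp.linearCombination R (fun f : Fin d → P => PiTensorProduct.tprod R fun l => b (f l)) c ∈
          Submodule.span R {x : ⨂[R] _ : Fin d, P →₀ R | ∃ (p : Fin d → P →₀ R) (i j : Fin d),
            i ≠ j ∧ p i = p j ∧ x = PiTensorProduct.tprod R p} := by
      intro n
      induction n with
      | zero =>
        intro c hc _
        rw [Nat.le_zero, Finset.card_eq_zero, Finsupp.support_eq_empty] at hc
        rw [hc, map_zero]; exact zero_mem _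
      | succ n ih =>
        intro c hc hinv
        rcases Finset.eq_empty_or_nonempty c.support with h0 | ⟨f, hf⟩
        · rw [Finsupp.support_eq_empty] at h0
          rw [h0, map_zero]; exact zero_mem _
        have hττ : (f ∘ τ) ∘ τ = f := by funext l; simp [τ]
        have halt : ∀ g : Fin d → P, g i = g j → (PiTensorProduct.tprod R fun l => b (g l)) ∈
            Submodule.span R {x : ⨂[R] _ : Fin d, P →₀ R | ∃ (p : Fin d → P →₀ R) (i j : Fin d),
              i ≠ j ∧ p i = p j ∧ x = PiTensorProduct.tprod R p} :=
          fun g hg => Submodule.subset_span ⟨_, i, j, hij, congr_arg b hg, rfl⟩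
        by_cases hfix : f i = f j
        · have hfτ : f ∘ τ = f := by
            funext l
            simp only [Function.comp_apply, τ]
            rcases eq_or_ne l i with rfl | hli
            · rw [Equiv.swap_apply_left, hfix]
            · rcases eq_or_ne l j with rfl | hlj
              · rw [Equiv.swap_apply_right, hfix]
              · rw [Equiv.swap_apply_of_ne_of_ne hli hlj]
          have hc' := ih (c.erase f) (by rw [Finsupp.support_erase, Finset.card_erase_of_mem hf]; omega)
            (fun g => by
              by_cases hg : g = f
              · subst hg; rw [hfτ]
              · have : g ∘ τ ≠ f := fun h => hg (by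
                  have := congr_arg (· ∘ τ) h
                  simp only [hfτ] at this
                  rw [← this]; funext l; simp [τ])
                rw [Finsupp.erase_ne hg, Finsupp.erase_ne this, hinv])
          rw [← Finsupp.single_add_erase f c, map_add, Finsupp.linearCombination_single]
          exact add_mem (Submodule.smul_mem _ _ (halt f hfix)) hc'
        · have hne : f ∘ τ ≠ f := fun h => hfix (by
            have := congr_fun h i
            simpa [τ] using this.symm)
          have hf2 : f ∘ τ ∈ c.support.erase f :=
            Finset.mem_erase.2 ⟨hne, by rw [Finsupp.mem_support_iff, hinv]; exact Finsupp.mem_support_iff.1 hf⟩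
          have hc' := ih ((c.erase f).erase (f ∘ τ)) (by
              rw [Finsupp.support_erase, Finsupp.support_erase, Finset.card_erase_of_mem hf2,
                Finset.card_erase_of_mem hf]
              omega)
            (fun g => by
              have e1 : g ∘ τ = f ∘ τ ↔ g = f := ⟨fun h => by
                have := congr_arg (· ∘ τ) h
                simp only [hττ] at this
                rw [← this]; funext l; simp [τ], fun h => by rw [h]⟩
              have e2 : g ∘ τ = f ↔ g = f ∘ τ := ⟨fun h => by rw [← h]; funext l; simp [τ],
                fun h => by rw [h, hττ]⟩
              simp only [Finsupp.erase_apply, e1, e2, hinv]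
              split_ifs <;> first | rfl | skip)
          have hsplit : c = Finsupp.single f (c f) + Finsupp.single (f ∘ τ) (c f) + (c.erase f).erase (f ∘ τ) := by
            have h1 := Finsupp.single_add_erase f c
            have h2 := Finsupp.single_add_erase (f ∘ τ) (c.erase f)
            rw [Finsupp.erase_ne hne, hinv] at h2
            conv_lhs => rw [← h1, ← h2]
            rw [add_assoc]
          rw [hsplit, map_add, map_add, Finsupp.linearCombination_single, Finsupp.linearCombination_single,
            ← smul_add]
          refine add_mem (Submodule.smul_mem _ _ ?_) hc'
          set q : Fin d → P →₀ R := fun l => b (f l) with hq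
          set u := Function.update (Function.update q i (q i + q j)) j (q i + q j)
          have hexp : PiTensorProduct.tprod R u =
              (PiTensorProduct.tprod R q + PiTensorProduct.tprod R (fun l => b ((f ∘ τ) l))) +
              (PiTensorProduct.tprod R (Function.update q j (q i)) +
                PiTensorProduct.tprod R (Function.update q i (q j))) := by
            have hqτ : (fun l => b ((f ∘ τ) l)) = Function.update (Function.update q i (q j)) j (q i) := by
              funext l
              rcases eq_or_ne l j with rfl | hlj
              · simp [τ, hq]
              · rcases eq_or_ne l i with rfl | hli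
                · simp [τ, hq, Function.update_of_ne hij]
                · simp [τ, hq, Function.update_of_ne hlj, Function.update_of_ne hli,
                    Equiv.swap_apply_of_ne_of_ne hli hlj]
            have hc1 : Function.update (Function.update q i (q i + q j)) j (q j) = Function.update q i (q i + q j) := by
              rw [Function.update_comm hij, Function.update_eq_self]
            rw [show u = Function.update (Function.update q i (q i + q j)) j (q i + q j) from rfl,
              MultilinearMap.map_update_add, hc1, MultilinearMap.map_update_add,
              Function.update_comm hij, MultilinearMap.map_update_add, Function.update_comm hij.symm,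
              Function.update_comm hij.symm, Function.update_eq_self, hqτ]
            abel
          have hmem : ∀ q' : Fin d → P →₀ R, q' i = q' j → PiTensorProduct.tprod R q' ∈
              Submodule.span R {x : ⨂[R] _ : Fin d, P →₀ R | ∃ (p : Fin d → P →₀ R) (i j : Fin d),
                i ≠ j ∧ p i = p j ∧ x = PiTensorProduct.tprod R p} :=
            fun q' h => Submodule.subset_span ⟨q', i, j, hij, h, rfl⟩
          have h3 := Submodule.add_mem _ (hmem u (by simp [u, Function.update_of_ne hij]))
            (Submodule.smul_mem _ (-1 : R) (Submodule.add_mem _
              (hmem (Function.update q j (q i)) (by simp [Function.update_of_ne hij]))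
              (hmem (Function.update q i (q j)) (by simp [Function.update_of_ne hij.symm]))))
          have hcancel : ∀ v w : (⨂[R] _ : Fin d, P →₀ R), (v + w) + (-1 : R) • w = v := fun v w => by
            rw [add_assoc]
            calc v + (w + (-1 : R) • w) = v + ((1 : R) • w + (-1 : R) • w) := by rw [one_smul]
              _ = v := by rw [← add_smul, add_neg_cancel, zero_smul, add_zero]
          rwa [hexp, hcancel] at h3
    have hfinal := key _ (e.repr z) le_rfl (fun f => by rw [← hrepr, hz])
    have heq : Finsupp.linearCombination R (fun f : Fin d → P => PiTensorProduct.tprod R fun l => b (f l))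
        (e.repr z) = z := by
      conv_rhs => rw [← e.linearCombination_repr z]
      congr 2
      funext f
      simp [e]
    rwa [heq] at hfinal

end Groth.Agent.S17910
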