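import Groth.Statements.S17911
import Groth.Agent.Lib.Stk.GerbeAut
import Groth.Agent.S12794


set_option autoImplicit false
set_option backward.isDefEq.respectTransparency false
set_option backward.isDefEq.respectTransparency.types false
universe u
open CategoryTheory AlgebraicGeometry
open Gerb

namespace Groth.Agent.S17911

open GrothLib.FibCat GrothLib.Stk CategoryTheory.Functor

/-- Let S be a scheme and let 𝒳, 𝒴 be gerbes over the big fppf site of schemes over S (stacks in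
groupoids in which objects exist locally and any two objects over the same scheme are locally
isomorphic), and let φ : 𝒳 → 𝒴 be a functor over Sch_S. Suppose 𝒳 has an object s over S itself such
that, for every object x of 𝒳 admitting a morphism to s (that is, for every pullback of s), φ
induces a bijection from the automorphisms of x over the identity to those of φ(x) — the induced
homomorphism of automorphism sheaves Aut(s) → Aut(φ s) is an isomorphism. Then φ is an equivalence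
over Sch_S: some functor over Sch_S in the other direction is inverse to φ up to isomorphisms over
Sch_S. -/
theorem result (S : Scheme.{u}) (𝒳 𝒴 : AlgSt.Cat S)
    (h𝒳 : Gerb.IsGerbe (QuotSh.J Scheme.fppfPrecoverage S) 𝒳)
    (h𝒴 : Gerb.IsGerbe (QuotSh.J Scheme.fppfPrecoverage S) 𝒴)
    (φ : 𝒳 ⥤ᵇ 𝒴) (s : 𝒳.obj) (hs : 𝒳.p.obj s = Over.mk (𝟙 S))
    (hφ : ∀ (x : 𝒳.obj) (c : x ⟶ s), Function.Bijective (Gerb.autMap φ x)) :
    FibCat.IsEquivOver φ := by
  have hterm : Limits.IsTerminal (𝒳.p.obj s) := hs.symm ▸ Over.mkIdTerminal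
  have H : ∀ x : 𝒳.obj, ∃ R ∈ QuotSh.J Scheme.fppfPrecoverage S (𝒳.p.obj x), ∀ ⦃V : Over S⦄ (f : V ⟶ 𝒳.p.obj x),
      R f → ∃ (x₁ : 𝒳.obj) (κ : x₁ ⟶ x), 𝒳.p.IsHomLift f κ ∧ Function.Bijective (Gerb.autMap φ x₁) := fun x => by
    obtain ⟨s₁, σ, hσ⟩ := h𝒳.1.1.exists_lift (x := s) (hterm.from (𝒳.p.obj x))
    obtain ⟨R, hR, hl⟩ := GerbeAut.exists_local_connected h𝒳.2.2 (rfl : 𝒳.p.obj x = _)
      (IsHomLift.domain_eq 𝒳.p (hterm.from (𝒳.p.obj x)) σ)
    refine ⟨R, hR, fun V f hf => ?_⟩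
    obtain ⟨x₀, a, b, ha, -⟩ := hl f hf
    exact ⟨x₀, a, ha, hφ x₀ (b ≫ σ)⟩
  have := GerbeAut.faithful_of_autMap φ H h𝒳.1 h𝒴.1.1
  have := GerbeAut.full_of_autMap φ H h𝒳 h𝒴.1
  exact (Groth.Agent.S12794.result (QuotSh.J Scheme.fppfPrecoverage S) h𝒳.1 h𝒴.1 φ).2
    (GerbeAut.locSurjObj_of_isGerbe φ h𝒳 h𝒴)

end Groth.Agent.S17911
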