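import Groth.Statements.S17912
import Groth.Agent.Lib.Stk.GerbeAut


set_option autoImplicit false
set_option backward.isDefEq.respectTransparency false
set_option backward.isDefEq.respectTransparency.types false
universe u
open CategoryTheory AlgebraicGeometry
open Gerb

namespace Groth.Agent.S17912

open GrothLib.FibCat GrothLib.Stk CategoryTheory.Functor

/-- Let S be a scheme, 𝒳 a gerbe over the big fppf site of schemes over S having an object x over S
itself, and φ : 𝒳 → 𝒳 a functor over Sch_S. Suppose given an isomorphism g : φ(x) → x lying over the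
identity of S such that 'conjugation by g after φ' is the identity of the automorphism sheaf of x:
whenever c : x' → x is a morphism of 𝒳 (a pullback of x) and g' : φ(x') → x' is the morphism over
the identity with φ(c) ≫ g = g' ≫ c (the pullback of g), every automorphism α of x' over the
identity satisfies φ(α) ≫ g' = g' ≫ α. Then on every fibre φ is naturally isomorphic to the identity
functor: there is a family of isomorphisms ρ_y : φ(y) → y, each lying over the identity of the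
scheme under y, such that φ(f) ≫ ρ_{y'} = ρ_y ≫ f for every morphism f : y → y' lying over an
identity. -/
theorem result (S : Scheme.{u}) (𝒳 : AlgSt.Cat S)
    (h𝒳 : Gerb.IsGerbe (QuotSh.J Scheme.fppfPrecoverage S) 𝒳)
    (φ : 𝒳 ⥤ᵇ 𝒳) (x : 𝒳.obj) (hx : 𝒳.p.obj x = Over.mk (𝟙 S))
    (g : φ.obj x ⟶ x) [IsIso g] (hg : 𝒳.p.IsHomLift (𝟙 (𝒳.p.obj x)) g)
    (hconj : ∀ (x' : 𝒳.obj) (c : x' ⟶ x) (g' : φ.obj x' ⟶ x'), 𝒳.p.IsHomLift (𝟙 (𝒳.p.obj x')) g' →
      φ.map c ≫ g = g' ≫ c → ∀ α : Gerb.AutO x', φ.map α.hom.1 ≫ g' = g' ≫ α.hom.1) :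
    ∃ ρ : ∀ y : 𝒳.obj, φ.obj y ⟶ y,
      (∀ y, IsIso (ρ y) ∧ 𝒳.p.IsHomLift (𝟙 (𝒳.p.obj y)) (ρ y)) ∧
      (∀ (y y' : 𝒳.obj) (f : y ⟶ y'), 𝒳.p.IsHomLift (𝟙 (𝒳.p.obj y)) f → φ.map f ≫ ρ y' = ρ y ≫ f) := by
  obtain ⟨ρ, h1, h2⟩ := GerbeAut.exists_natural_iso φ h𝒳 x (hx.symm ▸ Over.mkIdTerminal) g hg hconj
  exact ⟨ρ, h1, fun y y' f _ => h2 y y' f⟩

end Groth.Agent.S17912
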