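import Groth.Statements.S17913
import Groth.Agent.Lib.Stk.GerbeAut


set_option autoImplicit false
set_option backward.isDefEq.respectTransparency false
set_option backward.isDefEq.respectTransparency.types false
universe u
open CategoryTheory AlgebraicGeometry
open Gerb

namespace Groth.Agent.S17913

open GrothLib.FibCat GrothLib.Stk CategoryTheory.Functor

/-- Let S be a scheme, 𝒳 and 𝒴 gerbes over the big fppf site of schemes over S, φ : 𝒳 → 𝒴 and ψ : 𝒴 → 𝒳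
functors over Sch_S, and x an object of 𝒳 over S itself such that φ is surjective on automorphism
groups along x: for every object x' of 𝒳 admitting a morphism to x (every pullback of x), every
automorphism of φ(x') over the identity is φ(α) for some automorphism α of x' over the identity. Let
g : ψ(φ(x)) → x be an isomorphism lying over the identity such that conjugation by g after ψ ∘ φ is
the identity of the automorphism sheaf of x: whenever c : x' → x is a morphism of 𝒳 and g' :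
ψ(φ(x')) → x' is the morphism over the identity with ψ(φ(c)) ≫ g = g' ≫ c, every automorphism α of
x' over the identity satisfies ψ(φ(α)) ≫ g' = g' ≫ α. Then φ ∘ ψ is isomorphic to the identity on
every fibre of 𝒴: there are isomorphisms σ_z : φ(ψ(z)) → z for all objects z of 𝒴, lying over
identities and natural in morphisms lying over identities, so that φ and ψ are mutually
quasi-inverse on every fibre. (The published corollary does not assume that φ is surjective on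
automorphism groups; its proof uses that φ is full, and without that hypothesis the conclusion fails
— take for 𝒳 the base category over itself, for 𝒴 the gerbe of torsors under the group of order two,
for φ the trivial torsor and for ψ the structure functor. The published corollary also concludes
that ψ ∘ φ is isomorphic to the identity on every fibre of 𝒳; that part follows from the hypotheses
on g alone and is stated separately.) -/
theorem result (S : Scheme.{u}) (𝒳 𝒴 : AlgSt.Cat S)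
    (h𝒳 : Gerb.IsGerbe (QuotSh.J Scheme.fppfPrecoverage S) 𝒳)
    (h𝒴 : Gerb.IsGerbe (QuotSh.J Scheme.fppfPrecoverage S) 𝒴)
    (φ : 𝒳 ⥤ᵇ 𝒴) (ψ : 𝒴 ⥤ᵇ 𝒳) (x : 𝒳.obj) (hx : 𝒳.p.obj x = Over.mk (𝟙 S))
    (hφ : ∀ (x' : 𝒳.obj) (c : x' ⟶ x), Function.Surjective (Gerb.autMap φ x'))
    (g : ψ.obj (φ.obj x) ⟶ x) [IsIso g] (hg : 𝒳.p.IsHomLift (𝟙 (𝒳.p.obj x)) g)
    (hconj : ∀ (x' : 𝒳.obj) (c : x' ⟶ x) (g' : ψ.obj (φ.obj x') ⟶ x'), 𝒳.p.IsHomLift (𝟙 (𝒳.p.obj x')) g' →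
      ψ.map (φ.map c) ≫ g = g' ≫ c → ∀ α : Gerb.AutO x', ψ.map (φ.map α.hom.1) ≫ g' = g' ≫ α.hom.1) :
    ∃ σ : ∀ z : 𝒴.obj, φ.obj (ψ.obj z) ⟶ z,
      (∀ z, IsIso (σ z) ∧ 𝒴.p.IsHomLift (𝟙 (𝒴.p.obj z)) (σ z)) ∧
      (∀ (z z' : 𝒴.obj) (f : z ⟶ z'), 𝒴.p.IsHomLift (𝟙 (𝒴.p.obj z)) f →
        φ.map (ψ.map f) ≫ σ z' = σ z ≫ f) := by
  have hterm : Limits.IsTerminal (𝒴.p.obj (φ.obj x)) :=
    ((φ.w_obj x).trans hx).symm ▸ Over.mkIdTerminal
  have hg₁ : 𝒴.p.IsHomLift (𝟙 (𝒴.p.obj (φ.obj x))) (φ.map g) := by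
    rw [φ.w_obj x]; exact inferInstance
  have hconj' : ∀ (z' : 𝒴.obj) (d : z' ⟶ φ.obj x) (g' : φ.obj (ψ.obj z') ⟶ z'),
      𝒴.p.IsHomLift (𝟙 (𝒴.p.obj z')) g' → φ.map (ψ.map d) ≫ φ.map g = g' ≫ d →
        ∀ α : Gerb.AutO z', φ.map (ψ.map α.hom.1) ≫ g' = g' ≫ α.hom.1 := by
    intro z' d g' hg' hd α
    obtain ⟨x', c, hc⟩ := h𝒳.1.1.exists_lift (x := x) (𝒴.p.map d ≫ eqToHom (φ.w_obj x))
    have : 𝒴.p.IsHomLift (𝒴.p.map d ≫ eqToHom (φ.w_obj x)) d :=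
      IsHomLift.of_fac 𝒴.p _ _ rfl (φ.w_obj x) (by simp)
    obtain ⟨θ, hθ, eθ⟩ := IsFibGrpd.exists_iso_of_lifts h𝒴.1.1 (𝒴.p.map d ≫ eqToHom (φ.w_obj x)) (φ.map c) d
    obtain ⟨gx, hgx, egx⟩ : ∃ gx : ψ.obj (φ.obj x') ⟶ x',
        𝒳.p.IsHomLift (𝟙 (𝒳.p.obj x')) gx ∧ gx ≫ c = ψ.map (φ.map c) ≫ g :=
      (GerbeAut.existsUnique_conj (BasedFunctor.comp φ ψ) h𝒳.1.1 g hg c).exists
    have := isHomLift_id_inv 𝒴.p (R := 𝒴.p.obj z') θ
    have hx' : 𝒳.p.obj x' = 𝒴.p.obj z' := IsHomLift.domain_eq 𝒳.p (𝒴.p.map d ≫ eqToHom (φ.w_obj x)) c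
    have : 𝒳.p.IsHomLift (𝟙 (𝒴.p.obj z')) gx := hx' ▸ hgx
    -- transport `g'` to `gx`
    have : 𝒴.p.IsHomLift (𝟙 (𝒴.p.obj z')) (φ.map gx ≫ θ.inv) :=
      IsHomLift.comp_lift_id_right' 𝒴.p _ _ (𝒴.p.obj z') _
    have hl : 𝒴.p.IsHomLift (𝟙 (𝒴.p.obj z')) (φ.map (ψ.map θ.hom) ≫ φ.map gx ≫ θ.inv) :=
      IsHomLift.comp_lift_id_left' 𝒴.p (𝒴.p.obj z') (φ.map (ψ.map θ.hom)) (𝟙 (𝒴.p.obj z')) _
    have hg'' : g' = φ.map (ψ.map θ.hom) ≫ φ.map gx ≫ θ.inv := by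
      have : 𝒴.p.IsHomLift (𝟙 (𝒴.p.obj z')) g' := hg'
      apply IsFibGrpd.hom_ext h𝒴.1.1 (𝟙 (𝒴.p.obj z')) (𝒴.p.map d ≫ eqToHom (φ.w_obj x)) d
      have e1 : θ.inv ≫ d = φ.map c := by rw [← eθ, θ.inv_hom_id_assoc]
      rw [← hd, Category.assoc, Category.assoc, e1, ← φ.map_comp gx c, egx, ← φ.map_comp, ← φ.map_comp, ← Category.assoc,
        ← ψ.map_comp, eθ]
    -- the corresponding automorphism of `φ x'`
    have : 𝒴.p.IsHomLift (𝟙 (𝒴.p.obj z')) α.hom.1 := α.hom.2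
    have : 𝒴.p.IsHomLift (𝟙 (𝒴.p.obj z')) (α.hom.1 ≫ θ.hom) :=
      IsHomLift.comp_lift_id_left' 𝒴.p (𝒴.p.obj z') α.hom.1 (𝟙 (𝒴.p.obj z')) θ.hom
    have hβ : 𝒴.p.IsHomLift (𝟙 (𝒴.p.obj z')) (θ.inv ≫ α.hom.1 ≫ θ.hom) :=
      IsHomLift.comp_lift_id_left' 𝒴.p (𝒴.p.obj z') θ.inv (𝟙 (𝒴.p.obj z')) _
    let β : φ.obj x' ≅ φ.obj x' :=
      θ.symm ≪≫ ((Functor.Fiber.fiberInclusion (p := 𝒴.p)).mapIso α : z' ≅ z') ≪≫ θ
    obtain ⟨B, hB⟩ := hφ x' c (GerbeAut.autOfIso β (by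
      rw [φ.w_obj, hx']
      exact hβ))
    have eB : φ.map B.hom.1 = θ.inv ≫ α.hom.1 ≫ θ.hom := congrArg (fun (t : Gerb.AutO (φ.obj x')) => t.hom.1) hB
    have e0 := congrArg (fun t => φ.map t) (hconj x' c gx hgx egx.symm B)
    simp only [Functor.map_comp] at e0
    rw [eB] at e0
    rw [hg'']
    simp only [Functor.map_comp, Category.assoc] at e0 ⊢
    rw [← cancel_epi (φ.map (ψ.map θ.inv))]
    have e2 : φ.map (ψ.map θ.inv) ≫ φ.map (ψ.map θ.hom) = 𝟙 _ := by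
      rw [← φ.map_comp, ← ψ.map_comp, θ.inv_hom_id, ψ.map_id, φ.map_id]
    rw [reassoc_of% e0, θ.hom_inv_id, Category.comp_id, reassoc_of% e2]
  obtain ⟨σ, h1, h2⟩ := GerbeAut.exists_natural_iso (BasedFunctor.comp ψ φ) h𝒴 (φ.obj x) hterm (φ.map g) hg₁ hconj'
  exact ⟨σ, h1, fun z z' f _ => h2 z z' f⟩

end Groth.Agent.S17913
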