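import Groth.Statements.S17914
-- import your own Groth.Agent.* helpers here
import Groth.Agent.Lib.PolLaw.NormCoeff

set_option autoImplicit false
universe u
open scoped TensorProduct
open PolLaw

namespace Groth.Agent.S17914

/-- Affine-free form, stated through universal properties. Let R → R' be a commutative algebra that is
free of rank d as an R-module, Q a commutative R-algebra, and Q' a commutative ring under Q and R'
which is their pushout over R and is free of rank d over Q. Let (C, γ) be the degree-d divided power
algebra of R' over R with its universal multiplicative law (hypothesis: every multiplicative law of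
degree d out of R' factors uniquely through γ) and π : C → R the R-algebra map with π ∘ γ = the norm
law of R' over R; let (C', γ', π') be the analogous data for Q' over Q. Let θ : C → C' be an
R-algebra homomorphism compatible with the two universal laws over every commutative Q-algebra P:
γ'_P applied to the image of z ∈ P ⊗_R R' in P ⊗_Q Q' equals (p ⊗ c ↦ p ⊗ θ c) applied to γ_P(z) (so
θ is the base-change homomorphism of divided power algebras). Then π' (θ c) is the image in Q of π c
for every c ∈ C: the algebra map attached to the norm commutes with base change. (The published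
lemma is for a finite locally free extension of constant rank and states the commutativity of each
of three squares; this row assumes R' free over R and states the commutativity of the composite.) -/
theorem result {R R' Q Q' : Type u} [CommRing R] [CommRing R'] [Algebra R R']
    [CommRing Q] [Algebra R Q] [CommRing Q'] [Algebra R Q'] [Algebra Q Q'] [Algebra R' Q']
    [IsScalarTower R Q Q'] [IsScalarTower R R' Q'] [Algebra.IsPushout R R' Q Q']
    [Module.Free R R'] [Module.Finite R R'] [Module.Free Q Q'] [Module.Finite Q Q']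
    (d : ℕ) (hd : Module.finrank R R' = d) (hd' : Module.finrank Q Q' = d)
    {C : Type u} [CommRing C] [Algebra R C] (γ : PolLaw.MulLaw R R' C d) (hγ : PolLaw.IsGammaD γ)
    (π : C →ₐ[R] R) (hπ : PolLaw.MulLaw.postcomp π γ = PolLaw.normLaw R R' d hd)
    {C' : Type u} [CommRing C'] [Algebra R C'] [Algebra Q C'] [IsScalarTower R Q C']
    (γ' : PolLaw.MulLaw Q Q' C' d) (hγ' : PolLaw.IsGammaD γ')
    (π' : C' →ₐ[Q] Q) (hπ' : PolLaw.MulLaw.postcomp π' γ' = PolLaw.normLaw Q Q' d hd')
    (θ : C →ₐ[R] C')
    (hθ : ∀ (P : Type u) [CommRing P] [Algebra R P] [Algebra Q P] [IsScalarTower R Q P] (z : P ⊗[R] R'),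
      γ'.law.toFun' P (PolLaw.bcAlong (IsScalarTower.toAlgHom R R' Q').toLinearMap P z) =
        PolLaw.bcAlong θ.toLinearMap P (γ.law.toFun' P z)) :
    ∀ c : C, π' (θ c) = algebraMap R Q (π c) := by
  classical
  intro c
  have hc : c ∈ GrothLib.PolLaw.coeffSpan γ.law := GrothLib.PolLaw.coeffSpan_eq_top hγ ▸ Submodule.mem_top
  induction hc using Submodule.span_induction with
  | mem c hc =>
    obtain ⟨n, m, μ, rfl⟩ := hc
    let ι := IsScalarTower.toAlgHom R R' Q'
    have hb : ∀ {X Y : Type u} [AddCommGroup X] [Module R X] [AddCommGroup Y] [Module R Y] [Module Q Y]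
        [IsScalarTower R Q Y] (g : X →ₗ[R] Y) (p : MvPolynomial (Fin n) Q) (v : X),
        PolLaw.bcAlong g (MvPolynomial (Fin n) Q) (p ⊗ₜ[R] v) = p ⊗ₜ[Q] g v := by
      intro X Y _ _ _ _ _ _ g p v
      simp [PolLaw.bcAlong]
    have h := hθ (MvPolynomial (Fin n) Q) (∑ i, (MvPolynomial.X i : MvPolynomial (Fin n) Q) ⊗ₜ[R] m i)
    rw [GrothLib.PolLaw.toFun'_sum, map_sum, map_finsuppSum] at h
    simp only [hb, AlgHom.toLinearMap_apply] at h
    have hθc : θ (GrothLib.PolLaw.coeff γ.law m μ) = GrothLib.PolLaw.coeff γ'.law (ι ∘ m) μ := by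
      rw [GrothLib.PolLaw.coeff, GrothLib.PolLaw.coeff, GrothLib.PolLaw.univ, GrothLib.PolLaw.univ]
      simp only [Function.comp_apply, ι]
      rw [h, map_finsuppSum, Finsupp.sum_apply, Finsupp.sum]
      have hmon : ∀ ν : Fin n →₀ ℕ, ∏ i, (MvPolynomial.X i : MvPolynomial (Fin n) Q) ^ ν i =
          MvPolynomial.monomial ν 1 := fun ν => by
        rw [MvPolynomial.monomial_eq, map_one, one_mul, Finsupp.prod_fintype _ _ fun i => pow_zero _]
      simp only [hmon, GrothLib.PolLaw.coeffEquiv_tmul, MvPolynomial.coeff_monomial]
      rw [Finset.sum_eq_single μ (fun ν _ hν => by rw [if_neg hν, zero_smul])]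
      · rw [if_pos rfl, one_smul]; rfl
      · intro hν
        rw [if_pos rfl, one_smul, Finsupp.notMem_support_iff.mp hν, map_zero]
    have e1 : π' (θ (GrothLib.PolLaw.coeff γ.law m μ)) =
        GrothLib.PolLaw.coeff (PolLaw.normLaw Q Q' d hd').law (ι ∘ m) μ := by
      rw [hθc, ← hπ']
      exact (GrothLib.PolLaw.coeff_postcomp π'.toLinearMap γ'.law _ μ).symm
    have e2 : π (GrothLib.PolLaw.coeff γ.law m μ) = GrothLib.PolLaw.coeff (PolLaw.normLaw R R' d hd).law m μ := by
      rw [← hπ]
      exact (GrothLib.PolLaw.coeff_postcomp π.toLinearMap γ.law m μ).symm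
    let b := Module.Free.chooseBasis R R'
    have : Algebra.IsPushout R Q R' Q' := Algebra.IsPushout.symm ‹_›
    let e := Algebra.IsPushout.equiv R Q R' Q'
    let bQ := (Algebra.TensorProduct.basis Q b).map e.toLinearEquiv
    rw [e1, e2, GrothLib.PolLaw.coeff_normLaw_eq_det hd b, GrothLib.PolLaw.coeff_normLaw_eq_det hd' bQ,
      ← MvPolynomial.coeff_map, RingHom.map_det]
    congr 2
    have hmat : ∀ r : R', Algebra.leftMulMatrix bQ (ι r) = (Algebra.leftMulMatrix b r).map (algebraMap R Q) := by
      intro r
      refine Matrix.ext fun j k => ?_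
      rw [Algebra.leftMulMatrix_eq_repr_mul, Matrix.map_apply, Algebra.leftMulMatrix_eq_repr_mul]
      show (Algebra.TensorProduct.basis Q b).repr (e.symm (ι r * e (Algebra.TensorProduct.basis Q b k))) j = _
      rw [map_mul, e.symm_apply_apply, show e.symm (ι r) = 1 ⊗ₜ[R] r from
        Algebra.IsPushout.equiv_symm_algebraMap_right R Q R' Q' r,
        Algebra.TensorProduct.basis_apply, Algebra.TensorProduct.tmul_mul_tmul, one_mul,
        Algebra.TensorProduct.basis_repr_tmul, one_smul, Finsupp.mapRange_apply]
    simp only [Function.comp_apply, map_sum, RingHom.mapMatrix_apply, hmat]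
    refine Finset.sum_congr rfl fun i _ => Matrix.ext fun j k => ?_
    simp [MvPolynomial.map_X, MvPolynomial.map_C]
  | zero => simp
  | add a b _ _ ha hb => simp only [map_add, ha, hb]
  | smul r a _ ha =>
    rw [Algebra.smul_def, map_mul, AlgHom.commutes, map_mul, IsScalarTower.algebraMap_apply R Q C',
      AlgHom.commutes, ha, map_mul, AlgHom.commutes, map_mul]
    rfl

end Groth.Agent.S17914
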