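import Groth.Statements.S17917
import Groth.Agent.Lib.RefK12.Numeric

set_option autoImplicit false
universe u
open CategoryTheory CategoryTheory.Limits AlgebraicGeometry
open RefCh

namespace Groth.Agent.S17917

/-- Let k be an algebraically closed field, X an integral normal scheme of dimension s + 2 admitting a
closed immersion into some P^N_k over k, and L_1, …, L_s invertible O_X-modules with inverses M_1,
…, M_s. Let ℒ_1 be a coherent reflexive O_X-module of rank one (ℒ_1 = O_X(D_1) for a Weil divisor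
D_1, with dual ℒ_1^∨ = O_X(-D_1)) and ℒ_2 an invertible O_X-module (a Cartier divisor D_2) with
inverse 𝓜_2. With q(ℱ) the limit of 2 χ(c_1(L_1) ⋯ c_1(L_s) · [ℱ^[m]]) / m^2 (reflexive powers,
FGA.intNum in the M_i), assumed to exist for ℒ_1, ℒ_2 and the reflexive hull ℒ_1 ⊗̂ ℒ_2 of ℒ_1 ⊗
ℒ_2, one has (q(ℒ_1 ⊗̂ ℒ_2) - q(ℒ_1) - q(ℒ_2)) / 2 = χ(c_1(ℒ_2) c_1(L_1) ⋯ c_1(L_s) · ([O_X] -
[ℒ_1^∨])), the right side written as the difference of the alternating sums FGA.intNum in (𝓜_2, M_1,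
…, M_s) of O_X and of ℒ_1^∨; that is, D_1 · D_2 · L_1 ⋯ L_s equals the usual intersection number of
the Cartier divisor D_2 and the L_i with the cycle of D_1. (The published text normalises D^2 · L_1
⋯ L_s as twice the limit of χ(c_1(L_1) ⋯ c_1(L_s) · ([O_X] - [O_X(-mD)])) / m^2, the negative of the
number used here, and with that sign the identity fails for two lines on the projective plane, where
it would read -1 = 1.) -/
theorem result (k : Type u) [Field k] [IsAlgClosed k] (X : Scheme.{u}) [X.Over (Spec (CommRingCat.of k))]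
    [AlgebraicGeometry.IsIntegral X] (hnorm : Pi1.IsNormalScheme X) (s : ℕ) (hdim : topologicalKrullDim X = (s + 2 : ℕ))
    (hproj : ∃ (N : ℕ) (ι : X ⟶ CohB1.ProjSpace N k), IsClosedImmersion ι ∧ ι ≫ CohB1.ProjSpace.toSpec N k = X ↘ Spec (CommRingCat.of k))
    (L M : Fin s → X.Modules) (hL : ∀ i, PicF.IsInvertible (L i))
    (hLM : ∀ i, Nonempty (CohB1.tensorMod (L i) (M i) ≅ Coh.structureModule X))
    (ℒ₁ ℒ₂ 𝓜₂ : X.Modules) (h₁ : RefHull.IsRef1 ℒ₁) (h₂ : PicF.IsInvertible ℒ₂)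
    (h₂' : Nonempty (CohB1.tensorMod ℒ₂ 𝓜₂ ≅ Coh.structureModule X))
    (q₁ q₂ q₁₂ : ℝ)
    (hq₁ : Filter.Tendsto (fun m : ℕ => (2 : ℝ) * (FGA.intNum k X (s + 2) M (RefPow.refPow ℒ₁ m) : ℝ) / ((m : ℝ) ^ 2)) Filter.atTop (nhds q₁))
    (hq₂ : Filter.Tendsto (fun m : ℕ => (2 : ℝ) * (FGA.intNum k X (s + 2) M (RefPow.refPow ℒ₂ m) : ℝ) / ((m : ℝ) ^ 2)) Filter.atTop (nhds q₂))
    (hq₁₂ : Filter.Tendsto (fun m : ℕ => (2 : ℝ) * (FGA.intNum k X (s + 2) M (RefPow.refPow (RefPow.refTensor ℒ₁ ℒ₂) m) : ℝ) / ((m : ℝ) ^ 2)) Filter.atTop (nhds q₁₂)) :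
    (q₁₂ - q₁ - q₂) / 2 =
      ((FGA.intNum k X (s + 2) (Fin.cons 𝓜₂ M) (Coh.structureModule X) -
        FGA.intNum k X (s + 2) (Fin.cons 𝓜₂ M) (RefHull.dual ℒ₁) : ℤ) : ℝ) := by
  haveI := GrothLib.RefK12.isProper_proj hproj
  haveI := GrothLib.Euler.isNoetherian_of_proper (X := X) k
  obtain ⟨δ, hδ, hη⟩ := GrothLib.RefK12.exists_delta k hdim
  have h := GrothLib.RefK12.setting1 (δ := δ) k hnorm hproj hδ hη
  have h0 := GrothLib.RefK12.delta_nonneg hproj hδ hdim hη
  have hd : topologicalKrullDim X ≤ ((s + 2 : ℕ) : WithBot ℕ∞) := hdim.le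
  have hM := GrothLib.RefK12.isInvertible_inverses hL hLM
  obtain ⟨iso₂⟩ := h₂'
  have hM₂ := GrothLib.Seesaw26.isInvertible_of_tensor_iso iso₂ h₂
  have hc' : ∀ i, PicF.IsInvertible ((Fin.cons 𝓜₂ M : Fin (s + 1) → X.Modules) i) := Fin.cases hM₂ hM
  have h₂r : RefHull.IsRef1 ℒ₂ := GrothLib.FacDiv.isRef1_of_isInvertible h₂
  have hD := GrothLib.Ref1.isRef1_dual ℒ₁ h₁
  have hO : Coh.IsCoh (Coh.structureModule X) := GrothLib.HomSh.isCoh_structureModule X
  let w := GrothLib.Cube.clsMod h₂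
  let v := GrothLib.Cube.clsMod hM₂
  have hwv : GrothLib.RefK12.e w * GrothLib.RefK12.e v = 1 := by
    have h1 : w * v = 1 := by
      rw [← GrothLib.Cube.clsMod_tensorMod h₂ hM₂]
      exact (GrothLib.Cube.clsMod_eq_one_iff (GrothLib.Ample.isInvertible_tensorMod h₂ hM₂)).2 ⟨iso₂⟩
    show MonoidAlgebra.of ℤ _ w * MonoidAlgebra.of ℤ _ v = 1
    rw [← map_mul, h1, map_one]
  let S := h.toSetting
  let P : MonoidAlgebra ℤ (GrothLib.Cube.Pic X) := ∏ i, (1 - GrothLib.RefK12.e (GrothLib.Cube.clsMod (hM i)))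
  let u : MonoidAlgebra ℤ (GrothLib.Cube.Pic X) := 1 - GrothLib.RefK12.e w
  let N : ℤ := ((s + 2 : ℕ) : ℤ)
  let o := GrothLib.RefK12.cl δ N (Coh.structureModule X)
  let d := GrothLib.RefK12.cl δ N ℒ₁ - o
  let X' := GrothLib.RefK12.chi (δ := δ) (n := N) k
  let act := fun q c => X' (GrothLib.RefK12.act S q c)
  have hP : ∀ {m : ℤ} {c}, c ∈ GrothLib.RefK12.Kle δ N m → GrothLib.RefK12.act S P c ∈ GrothLib.RefK12.Kle δ N (m - s) := by
    intro m c hc
    have := GrothLib.RefK12.act_prod_mem S Finset.univ (fun i => GrothLib.Cube.clsMod (hM i)) hc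
    rwa [Finset.card_univ, Fintype.card_fin] at this
  have hkill : ∀ {m : ℤ} {c}, m < 0 → c ∈ GrothLib.RefK12.Kle δ N m → c = 0 := by
    intro m c hm hc
    rwa [GrothLib.RefK12.Kle_eq_bot (fun x => by have := h0 x; omega), AddSubgroup.mem_bot] at hc
  -- the values of the three families
  have hR := fun m => GrothLib.Ref1.isRef1_refPow h₁ m
  have hpow := fun m => GrothLib.RefK12.hasCls_refPow (GrothLib.Cube.hasCls_clsMod h₂) m
  have f₁ : ∀ m, FGA.intNum k X (s + 2) M (RefPow.refPow ℒ₁ m) = act P (GrothLib.RefK12.cl δ N (RefPow.refPow ℒ₁ m)) :=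
    fun m => GrothLib.RefK12.intNum_eq_chi k S hd hM (hR m).1
  have f₂ : ∀ m, FGA.intNum k X (s + 2) M (RefPow.refPow ℒ₂ m) = act (P * GrothLib.RefK12.e (w ^ m)) o := by
    intro m
    refine (GrothLib.RefK12.intNum_eq_chi k S hd hM (GrothLib.Ref1.isRef1_refPow h₂r m).1).trans ?_
    simp only [act]
    rw [GrothLib.RefK12.act_mul_apply, GrothLib.RefK12.act_e, GrothLib.RefK12.twist_cl_hasCls S (hpow m) hO]
    exact congrArg (fun c => X' (GrothLib.RefK12.act S _ c)) (GrothLib.RefK12.cl_iso S.le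
      (GrothLib.OX.tensorUnitLeftIso (RefPow.refPow ℒ₂ m)) (GrothLib.RefK12.isCoh_tensor hO (hpow m).1)).symm
  have f₁₂ : ∀ m, FGA.intNum k X (s + 2) M (RefPow.refPow (RefPow.refTensor ℒ₁ ℒ₂) m) =
      act (P * GrothLib.RefK12.e (w ^ m)) (GrothLib.RefK12.cl δ N (RefPow.refPow ℒ₁ m)) := by
    intro m
    refine (GrothLib.RefK12.intNum_eq_chi k S hd hM
      (GrothLib.Ref1.isRef1_refPow (GrothLib.Ref1.isRef1_refTensor h₁ h₂r) m).1).trans ?_
    simp only [act]
    obtain ⟨i₁⟩ := GrothLib.RefK12.nonempty_refPow_refTensor hnorm h₁ h₂r m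
    obtain ⟨i₂⟩ := GrothLib.RefK12.nonempty_refTensor_invertible (hR m) (hpow m).1
    rw [GrothLib.RefK12.act_mul_apply, GrothLib.RefK12.act_e, GrothLib.RefK12.twist_cl_hasCls S (hpow m) (hR m).1]
    exact congrArg (fun c => X' (GrothLib.RefK12.act S _ c)) (GrothLib.RefK12.cl_iso S.le (i₁ ≪≫ i₂.symm)
      (GrothLib.Ref1.isRef1_refPow (GrothLib.Ref1.isRef1_refTensor h₁ h₂r) m).1)
  let β := act (u * P) d
  have key : ∀ m : ℕ, FGA.intNum k X (s + 2) M (RefPow.refPow (RefPow.refTensor ℒ₁ ℒ₂) m) =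
      FGA.intNum k X (s + 2) M (RefPow.refPow ℒ₁ m) + FGA.intNum k X (s + 2) M (RefPow.refPow ℒ₂ m) -
        act P o - (m : ℤ) ^ 2 * β := by
    intro m
    rw [f₁₂, f₁, f₂]
    obtain ⟨q, hq⟩ := GrothLib.RefK12.exists_expand (GrothLib.RefK12.e w) m
    have he : GrothLib.RefK12.e (w ^ m) = GrothLib.RefK12.e w ^ m := map_pow _ w m
    have hu3 : ∀ c, GrothLib.RefK12.act S (P * (u ^ 3 * q)) c = 0 := fun c => by
      have e1 : P * (u ^ 3 * q) = u * (u * (u * P)) * q := by ring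
      rw [e1, GrothLib.RefK12.act_mul_apply, GrothLib.RefK12.act_mul_apply, GrothLib.RefK12.act_mul_apply,
        GrothLib.RefK12.act_mul_apply]
      refine hkill ?_ (GrothLib.RefK12.act_one_sub_mem S w (GrothLib.RefK12.act_one_sub_mem S w
        (GrothLib.RefK12.act_one_sub_mem S w (hP (GrothLib.RefK12.mem_Kle_top S.le _)))))
      (try simp only [N]); push_cast; omega
    have expand : ∀ c, act (P * GrothLib.RefK12.e (w ^ m)) c =
        act P c - (m : ℤ) * act (u * P) c + (m.choose 2 : ℤ) * act (u * (u * P)) c := by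
      intro c
      have e1 : P * GrothLib.RefK12.e (w ^ m) = P - ((m : ℤ) : MonoidAlgebra ℤ _) * (u * P) +
          ((m.choose 2 : ℤ) : MonoidAlgebra ℤ _) * (u * (u * P)) + P * (u ^ 3 * q) := by
        rw [he, hq]; push_cast; ring
      simp only [act]
      rw [e1, GrothLib.RefK12.act_add_apply, GrothLib.RefK12.act_add_apply, GrothLib.RefK12.act_sub_apply,
        GrothLib.RefK12.act_mul_apply S ((m : ℤ) : MonoidAlgebra ℤ _), GrothLib.RefK12.act_int_apply,
        GrothLib.RefK12.act_mul_apply S ((m.choose 2 : ℤ) : MonoidAlgebra ℤ _), GrothLib.RefK12.act_int_apply,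
        hu3, add_zero, map_add, map_sub, map_zsmul, map_zsmul, smul_eq_mul, smul_eq_mul]
    have hr := GrothLib.RefK12.refPow_sub_mem h h₁ m
    have k1 : act (u * P) (GrothLib.RefK12.cl δ N (RefPow.refPow ℒ₁ m)) = act (u * P) o + (m : ℤ) * β := by
      have h2 := hkill (by (try simp only [N]); push_cast; omega) (GrothLib.RefK12.act_one_sub_mem S w (hP hr))
      rw [← GrothLib.RefK12.act_mul_apply, map_sub, map_add, map_zsmul, sub_eq_zero] at h2
      exact (congrArg X' h2).trans (by rw [map_add, map_zsmul, smul_eq_mul])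
    have k2 : act (u * (u * P)) (GrothLib.RefK12.cl δ N (RefPow.refPow ℒ₁ m)) = act (u * (u * P)) o := by
      have hr' := (GrothLib.RefK12.Kle δ N (N - 1)).add_mem (GrothLib.RefK12.Kle_mono (by omega) hr)
        ((GrothLib.RefK12.Kle δ N (N - 1)).zsmul_mem (GrothLib.RefK12.ref1_sub_structure h h₁) (m : ℤ))
      have h2 := hkill (by (try simp only [N]); push_cast; omega)
        (GrothLib.RefK12.act_one_sub_mem S w (GrothLib.RefK12.act_one_sub_mem S w (hP hr')))
      rw [← GrothLib.RefK12.act_mul_apply, ← GrothLib.RefK12.act_mul_apply, mul_assoc] at h2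
      rw [show ∀ a b c : GrothLib.RefK12.K δ N, a - (b + c) + c = a - b from fun a b c => by abel, map_sub,
        sub_eq_zero] at h2
      exact congrArg X' h2
    rw [expand, expand, k1, k2]
    ring
  have hlim : Filter.Tendsto (fun m : ℕ => (2 : ℝ) * (FGA.intNum k X (s + 2) M (RefPow.refPow (RefPow.refTensor ℒ₁ ℒ₂) m) : ℝ) / ((m : ℝ) ^ 2)) Filter.atTop (nhds (q₁ + q₂ - 2 * (β : ℝ))) := by
    refine ((hq₁.add hq₂).sub (GrothLib.RefK12.tendsto_quadratic (2 * ((act P o : ℤ) : ℝ)) 0 (2 * (β : ℝ)))).congr fun m => ?_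
    rw [key m]
    push_cast
    ring
  rw [tendsto_nhds_unique hq₁₂ hlim]
  -- the right hand side
  have hdual : GrothLib.RefK12.cl δ N (Coh.structureModule X) - GrothLib.RefK12.cl δ N (RefHull.dual ℒ₁) - d ∈
      GrothLib.RefK12.Kle δ N (N - 2) := by
    obtain ⟨i⟩ := GrothLib.RefK12.nonempty_refTensor_dual hnorm h₁
    have := GrothLib.RefK12.refTensor_sub_mem h h₁ hD
    rw [GrothLib.RefK12.cl_iso S.le i (GrothLib.Ref1.isRef1_refTensor h₁ hD).1] at this
    convert this using 1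
    simp only [d, o]
    abel
  have hrhs : FGA.intNum k X (s + 2) (Fin.cons 𝓜₂ M) (Coh.structureModule X) -
      FGA.intNum k X (s + 2) (Fin.cons 𝓜₂ M) (RefHull.dual ℒ₁) = -β := by
    rw [GrothLib.RefK12.intNum_eq_chi k S hd hc' hO, GrothLib.RefK12.intNum_eq_chi k S hd hc' hD.1, ← map_sub, ← map_sub]
    simp only [Fin.prod_univ_succ, Fin.cons_zero, Fin.cons_succ]
    have h1 := hkill (by (try simp only [N]); push_cast; omega)
      (GrothLib.RefK12.act_one_sub_mem S v (hP hdual))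
    rw [← GrothLib.RefK12.act_mul_apply, map_sub, sub_eq_zero] at h1
    refine (congrArg X' h1).trans ?_
    have h2 := hkill (by (try simp only [N]); push_cast; omega)
      (GrothLib.RefK12.act_one_sub_mem S v (GrothLib.RefK12.act_one_sub_mem S w
        (hP (GrothLib.RefK12.ref1_sub_structure h h₁))))
    rw [← GrothLib.RefK12.act_mul_apply, ← GrothLib.RefK12.act_mul_apply, mul_assoc] at h2
    have e1 : (1 - GrothLib.RefK12.e v) * P = (1 - GrothLib.RefK12.e v) * (u * P) - u * P := by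
      linear_combination (-P) * hwv
    rw [e1, GrothLib.RefK12.act_sub_apply, h2, zero_sub, map_neg]
  rw [hrhs]
  push_cast
  ring

end Groth.Agent.S17917
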