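import Groth.Statements.S17919
import Groth.Agent.Lib.RefK12.FrobTop

set_option autoImplicit false
universe u
open CategoryTheory CategoryTheory.Limits AlgebraicGeometry
open RefCh

namespace Groth.Agent.S17919

/-- Let k be an algebraically closed field of characteristic p > 0, X an integral normal scheme of
dimension s + 3 admitting a closed immersion into some P^N_k over k, L_1, …, L_s, A and B invertible
O_X-modules with inverses M_1, …, M_s, A' and B', E a coherent reflexive O_X-module, and (G_m) its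
reflexive Frobenius pull-backs F_X^[m] E (G_0 = E, G_{m+1} ≅ (F_X^* G_m)^**). Suppose χ(c_1(A)
c_1(L_1) ⋯ c_1(L_s) · [G_m]) / p^{2m} → a, χ(c_1(B) c_1(L_1) ⋯ c_1(L_s) · [G_m]) / p^{2m} → b and
χ(c_1(A ⊗ B) c_1(L_1) ⋯ c_1(L_s) · [G_m]) / p^{2m} → c as m → ∞ (alternating sums FGA.intNum in (A',
M_1, …, M_s), (B', M_1, …, M_s) and (A' ⊗ B', M_1, …, M_s)). Then c = a + b: the number ∫_X ch_2(E)
L_0 L_1 ⋯ L_s, defined as such a limit, is additive in the invertible module L_0. -/
theorem result (k : Type u) [Field k] [IsAlgClosed k] (X : Scheme.{u}) [X.Over (Spec (CommRingCat.of k))]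
    [AlgebraicGeometry.IsIntegral X] (hnorm : Pi1.IsNormalScheme X) (s : ℕ) (hdim : topologicalKrullDim X = (s + 3 : ℕ))
    (hproj : ∃ (N : ℕ) (ι : X ⟶ CohB1.ProjSpace N k), IsClosedImmersion ι ∧ ι ≫ CohB1.ProjSpace.toSpec N k = X ↘ Spec (CommRingCat.of k))
    (p : ℕ) [Fact p.Prime] [CharP k p] [FrobSch.IsCharP X p]
    (L M : Fin s → X.Modules) (hL : ∀ i, PicF.IsInvertible (L i))
    (hLM : ∀ i, Nonempty (CohB1.tensorMod (L i) (M i) ≅ Coh.structureModule X))
    (A A' B B' : X.Modules) (hA : PicF.IsInvertible A) (hB : PicF.IsInvertible B)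
    (hAA' : Nonempty (CohB1.tensorMod A A' ≅ Coh.structureModule X))
    (hBB' : Nonempty (CohB1.tensorMod B B' ≅ Coh.structureModule X))
    (E : X.Modules) (hE : Coh.IsCoh E) (hEr : RefHull.IsReflexive E)
    (G : ℕ → X.Modules) (hG0 : G 0 = E)
    (hG : ∀ m, Nonempty (G (m + 1) ≅ RefHull.ddual ((Scheme.Modules.pullback (FrobSch.frob X p)).obj (G m)))) (a b c : ℝ)
    (ha : Filter.Tendsto (fun m : ℕ => (FGA.intNum k X (s + 3) (Fin.cons A' M) (G m) : ℝ) / ((p : ℝ) ^ (2 * m))) Filter.atTop (nhds a))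
    (hb : Filter.Tendsto (fun m : ℕ => (FGA.intNum k X (s + 3) (Fin.cons B' M) (G m) : ℝ) / ((p : ℝ) ^ (2 * m))) Filter.atTop (nhds b))
    (hc : Filter.Tendsto (fun m : ℕ => (FGA.intNum k X (s + 3) (Fin.cons (CohB1.tensorMod A' B') M) (G m) : ℝ) / ((p : ℝ) ^ (2 * m))) Filter.atTop (nhds c)) :
    c = a + b := by
  haveI := GrothLib.RefK12.isProper_proj hproj
  haveI := GrothLib.Euler.isNoetherian_of_proper (X := X) k
  obtain ⟨δ, hδ, hη⟩ := GrothLib.RefK12.exists_delta k hdim
  have h := GrothLib.RefK12.setting1 (δ := δ) k hnorm hproj hδ hη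
  have h0 := GrothLib.RefK12.delta_nonneg hproj hδ hdim hη
  have hd : topologicalKrullDim X ≤ ((s + 3 : ℕ) : WithBot ℕ∞) := hdim.le
  have hM := GrothLib.RefK12.isInvertible_inverses hL hLM
  obtain ⟨wA⟩ := hAA'
  obtain ⟨wB⟩ := hBB'
  have hA' := GrothLib.Seesaw26.isInvertible_of_tensor_iso wA hA
  have hB' := GrothLib.Seesaw26.isInvertible_of_tensor_iso wB hB
  have hAB := GrothLib.Ample.isInvertible_tensorMod hA' hB'
  have hc' : ∀ (N : X.Modules), PicF.IsInvertible N → ∀ i, PicF.IsInvertible ((Fin.cons N M : Fin (s + 1) → X.Modules) i) :=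
    fun N hN => Fin.cases hN hM
  have hE' := GrothLib.RefK12.good_of_isReflexive h hE hEr
  obtain ⟨α, β, hab⟩ := GrothLib.RefK12.exists_affine p h (by rw [hη]; omega) _ E hE' rfl
  have hiso : ∀ m, Nonempty (G m ≅ (GrothLib.RefK12.refFrob p)^[m] E) := by
    intro m
    induction m with
    | zero => exact ⟨eqToIso hG0⟩
    | succ m ih =>
      obtain ⟨i⟩ := ih
      obtain ⟨j⟩ := hG m
      exact ⟨j ≪≫ RefFun.ddualIso ((Scheme.Modules.pullback (FrobSch.frob X p)).mapIso i) ≪≫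
        eqToIso (Function.iterate_succ_apply' (GrothLib.RefK12.refFrob p) m E).symm⟩
  have hx : ∀ m, Coh.IsCoh (G m) := fun m =>
    GrothLib.QCoh.isCoh_of_iso (hiso m).some.symm (GrothLib.RefK12.good_iterate p h hE' m).coh
  let P : MonoidAlgebra ℤ (GrothLib.Cube.Pic X) := ∏ i, (1 - GrothLib.RefK12.e (GrothLib.Cube.clsMod (hM i)))
  let ua := 1 - GrothLib.RefK12.e (GrothLib.Cube.clsMod hA')
  let ub := 1 - GrothLib.RefK12.e (GrothLib.Cube.clsMod hB')
  have hf : ∀ (N : X.Modules) (hN : PicF.IsInvertible N) (m : ℕ),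
      FGA.intNum k X (s + 3) (Fin.cons N M) (G m) = GrothLib.RefK12.chi k (GrothLib.RefK12.act h.toSetting
        ((1 - GrothLib.RefK12.e (GrothLib.Cube.clsMod hN)) * P) (GrothLib.RefK12.cl δ _ (G m))) := by
    intro N hN m
    rw [GrothLib.RefK12.intNum_eq_chi k h.toSetting hd (hc' N hN) (hx m)]
    simp only [Fin.prod_univ_succ, Fin.cons_zero, Fin.cons_succ]
    rfl
  let r₀ := GrothLib.RefK12.chi k (GrothLib.RefK12.act h.toSetting (ua * (ub * P)) β)
  let r₁ := GrothLib.RefK12.chi k (GrothLib.RefK12.act h.toSetting (ua * (ub * P)) α)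
  have key : ∀ m : ℕ, FGA.intNum k X (s + 3) (Fin.cons (CohB1.tensorMod A' B') M) (G m) =
      FGA.intNum k X (s + 3) (Fin.cons A' M) (G m) +
      FGA.intNum k X (s + 3) (Fin.cons B' M) (G m) - (r₀ + ((p ^ m : ℕ) : ℤ) * r₁) := by
    intro m
    rw [hf _ hAB, hf _ hA', hf _ hB', GrothLib.Cube.clsMod_tensorMod hA' hB', GrothLib.RefK12.one_sub_e_mul,
      sub_mul, add_mul, GrothLib.RefK12.act_sub_apply, GrothLib.RefK12.act_add_apply, map_sub, map_add, mul_assoc]
    congr 1
    have hr := hab m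
    rw [← GrothLib.RefK12.cl_iso h.toSetting.le (hiso m).some (hx m)] at hr
    have h2 := GrothLib.RefK12.act_one_sub_mem h.toSetting (GrothLib.Cube.clsMod hA')
      (GrothLib.RefK12.act_one_sub_mem h.toSetting (GrothLib.Cube.clsMod hB')
        (GrothLib.RefK12.act_prod_mem h.toSetting Finset.univ (fun i => GrothLib.Cube.clsMod (hM i)) hr))
    rw [GrothLib.RefK12.Kle_eq_bot (fun x => by have := h0 x; simp only [Finset.card_univ, Fintype.card_fin]; push_cast; omega),
      AddSubgroup.mem_bot, ← GrothLib.RefK12.act_mul_apply, ← GrothLib.RefK12.act_mul_apply, mul_assoc, map_sub, map_add, map_zsmul, sub_eq_zero] at h2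
    exact (congrArg (GrothLib.RefK12.chi k) h2).trans (by rw [map_add, map_zsmul, smul_eq_mul])
  have hp : Filter.Tendsto (fun m : ℕ => p ^ m) Filter.atTop Filter.atTop :=
    tendsto_pow_atTop_atTop_of_one_lt (Fact.out : p.Prime).one_lt
  have hlim : Filter.Tendsto (fun m : ℕ => (FGA.intNum k X (s + 3) (Fin.cons (CohB1.tensorMod A' B') M) (G m) : ℝ) / ((p : ℝ) ^ (2 * m))) Filter.atTop (nhds (a + b - 0)) := by
    refine ((ha.add hb).sub ((GrothLib.RefK12.tendsto_quadratic (r₀ : ℝ) (r₁ : ℝ) 0).comp hp)).congr fun m => ?_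
    simp only [Function.comp_apply]
    rw [key m]
    push_cast
    ring
  rw [sub_zero] at hlim
  exact tendsto_nhds_unique hc hlim

end Groth.Agent.S17919
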