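import Groth.Statements.S17925
import Groth.Agent.Lib.RefK12.DetTop
import Groth.Agent.Lib.DetMod12.Wedge
import Groth.Agent.Lib.Ref1.Frame
import Groth.Agent.Lib.Ref1.Divisor

set_option autoImplicit false
universe u
open CategoryTheory CategoryTheory.Limits AlgebraicGeometry
open RefCh

namespace Groth.Agent.S17925

/-- Let k be an algebraically closed field, X an integral normal scheme of dimension n = s + 2 admitting
a closed immersion into some P^N_k over k, δ a dimension function on X (Cyc.IsSetup) with δ(generic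
point) = n, and F a torsion-free coherent O_X-module whose stalk at the generic point has dimension
r, with W = Λ^r F and W^** coherent (as it is), so that det F = W^** = O_X(c_1(F)) and [O_{-c_1(F)}]
= [O_X] - [W^**]. With K_m(X) ⊆ K_0(Coh(X)) the subgroup generated by coherent modules with support
of dimension at most m, the class α(F) = [F] - r [O_X] + ([O_X] - [W^**]) lies in K_{n-2}(X): it
vanishes in K_0(Coh(X)) / K_{n-2}(X) (Cyc.toK0CohQuot δ n (n - 2)). -/
theorem result (k : Type u) [Field k] [IsAlgClosed k] (X : Scheme.{u}) [X.Over (Spec (CommRingCat.of k))]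
    [AlgebraicGeometry.IsIntegral X] (hnorm : Pi1.IsNormalScheme X) (s : ℕ) (hdim : topologicalKrullDim X = (s + 2 : ℕ))
    (hproj : ∃ (N : ℕ) (ι : X ⟶ CohB1.ProjSpace N k), IsClosedImmersion ι ∧ ι ≫ CohB1.ProjSpace.toSpec N k = X ↘ Spec (CommRingCat.of k))
    (δ : X → ℤ) (hδ : Cyc.IsSetup X δ) (hδη : δ (genericPoint X) = (s + 2 : ℕ))
    (r : ℕ) (F : X.Modules) (hF : Coh.IsCoh F) (hFtf : TorSh.IsTorsionFree F)
    (hrk : Module.finrank (X.presheaf.stalk (genericPoint X)) (F.presheaf.stalk (genericPoint X)) = r) (W : X.Modules) (hW : ExtPow.IsExtPow r F W)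
    (hWc : Coh.IsCoh (RefHull.ddual W)) :
    Cyc.toK0CohQuot δ (s + 2 : ℕ) (s : ℕ) F - (r : ℤ) • Cyc.toK0CohQuot δ (s + 2 : ℕ) (s : ℕ) (Coh.structureModule X) +
      (Cyc.toK0CohQuot δ (s + 2 : ℕ) (s : ℕ) (Coh.structureModule X) -
        Cyc.toK0CohQuot δ (s + 2 : ℕ) (s : ℕ) (RefHull.ddual W)) = 0 := by
  haveI := GrothLib.RefK12.isProper_proj hproj
  haveI := GrothLib.Euler.isNoetherian_of_proper (X := X) k
  have h := GrothLib.RefK12.setting1 (δ := δ) k hnorm hproj hδ hδη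
  have hη₀ : ((s + 2 : ℕ) : ℤ) - 1 ≤ δ (genericPoint X) := by rw [hδη]; omega
  have hco : ∀ x : X, Order.coheight x = 1 → ((s + 2 : ℕ) : ℤ) - 1 ≤ δ x := by
    intro x hx
    have h1 := (hδ.2.2 (genericPoint X) x ((genericPoint_spec X).specializes (Set.mem_univ x))
      (GrothLib.Ref1.ne_genericPoint_of_coheight_one hx).symm).2 fun z _ hzx =>
        (Classical.em _).imp_right (GrothLib.Ref1.eq_of_specializes_coheight_one hx hzx)
    omega
  obtain ⟨e, ℒ, v, hℒ, hv, hcl, hloc⟩ :=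
    GrothLib.RefK12.exists_detCls h hη₀ hco r F (GrothLib.RefK12.good_of_torsionFree h hF hFtf) hrk
  obtain ⟨U, m, fr, hηU, hfr⟩ := GrothLib.Ref1.exists_frame_of_free (GrothLib.HomSh.hasRel_of_isCoh hF)
    (x := genericPoint X) (Module.Free.of_basis e)
  have hm : m = r := by
    have hb := LinearEquiv.ofBijective _ (GrothLib.Ref1.stalk_of_isFrame hfr (genericPoint X) hηU)
    rw [← hrk, ← hb.finrank_eq, Module.finrank_fintype_fun_eq_card, Fintype.card_fin]
  subst hm
  obtain ⟨φ⟩ := GrothLib.FinCov.exists_iso_of_frame hfr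
  have hFU : FlatMod.IsFinLocFreeOfRank m (F.restrict U.ι) := fun x =>
    ⟨⊤, trivial, ⟨(Scheme.Modules.restrictFunctor (⊤ : (U : Scheme.{u}).Opens).ι).mapIso φ ≪≫
      GrothLib.DCoh.restrictFreeModIso _ _⟩⟩
  obtain ⟨b, e₀, he₀, hw, hind⟩ := GrothLib.DetMod12.exists_wedge hW U hηU hFU
  have hWR := GrothLib.HomSh.hasRel_of_isCoh (GrothLib.DetMod12.isCoh_of_isExtPow hF hW)
  have href := GrothLib.Ref1.isRef1_ddual hWR he₀
  haveI := href.1.1
  have hc0 : IsUnit (b.det e) := b.isUnit_det e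
  have hbe : ∀ w, b.det w = b.det e * e.det w := fun w => by
    exact DFunLike.congr_fun (b.det.eq_smul_basis_det e) w
  have hu0 : b.det e • GrothLib.DetMod12.bidη W e₀ ≠ 0 := fun h0 =>
    (GrothLib.Ref1.gen_bidual hWR he₀).ne_zero (hc0.smul_eq_zero.1 h0)
  obtain ⟨iso⟩ := GrothLib.Ref1.nonempty_iso_of_secOrd_eq hnorm href hℒ hu0 hv fun x hx => by
    obtain ⟨ev, hd, hexp, hord⟩ := hloc x hx
    obtain ⟨⟨t, ht⟩, ho⟩ := GrothLib.DetMod12.secOrd_bid hnorm hWR he₀ hx (hw x) (hind x)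
      (by rw [hbe]; exact hc0.mul hd) hexp
    rw [GrothLib.Ref1.secOrd_smul hx ht hc0.ne_zero (GrothLib.Ref1.gen_bidual hWR he₀).ne_zero, ho, hord, hbe (fun i => GrothLib.Ref1.sp F (GrothLib.Ref1.hη x) (ev i)),
      GrothLib.FacDiv.ordg_mul hc0.ne_zero hd.ne_zero]
    ring
  rw [← GrothLib.RefK12.cl_iso h.toSetting.le iso href.1, show ((s + 2 : ℕ) : ℤ) - 2 = ((s : ℕ) : ℤ) by push_cast; ring] at hcl
  simp only [Cyc.toK0CohQuot]
  have h2 := (QuotientAddGroup.eq_zero_iff _).2 hcl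
  rw [QuotientAddGroup.mk_sub, QuotientAddGroup.mk_add, QuotientAddGroup.mk_sub, QuotientAddGroup.mk_zsmul] at h2
  convert h2 using 1
  abel

end Groth.Agent.S17925
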