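import Groth.Statements.S17929
import Groth.Agent.Lib.RefK12.Ops

set_option autoImplicit false
universe u
open CategoryTheory CategoryTheory.Limits AlgebraicGeometry
open RefCh

namespace Groth.Agent.S17929

/-- Let k be an algebraically closed field, X an integral normal scheme of dimension n = s + 2 admitting
a closed immersion into some P^N_k over k, δ a dimension function on X (Cyc.IsSetup) with δ(generic
point) = n, L_1, …, L_s, A and B invertible O_X-modules with inverses M_1, …, M_s, A' and B' (so A'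
⊗ B' is an inverse of A ⊗ B), and ℒ a coherent reflexive O_X-module of rank one (ℒ = O_X(-D)). For a
family (N_0, …, N_s) of modules put S_N(ℒ) = Σ_{I ⊆ {0, …, s}} (-1)^{|I|} ([N_I ⊗ O_X] - [N_I ⊗ ℒ])
in K(X) = K_0(Coh(X)) (classes KZero.clSub of coherent modules), N_I = ⊗_{i∈I} N_i, so that S_{(A',
M_1, …, M_s)}(O_X(-D)) = c_1(A) c_1(L_1) ⋯ c_1(L_s) · [O_D]. Then S_{(A' ⊗ B', M)}(ℒ) = S_{(A',
M)}(ℒ) + S_{(B', M)}(ℒ): the K(X)-valued symbol c_1(L_0) c_1(L_1) ⋯ c_1(L_s) · [O_D] is additive,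
hence ℤ-linear, in the invertible module L_0. -/
theorem result (k : Type u) [Field k] [IsAlgClosed k] (X : Scheme.{u}) [X.Over (Spec (CommRingCat.of k))]
    [AlgebraicGeometry.IsIntegral X] (hnorm : Pi1.IsNormalScheme X) (s : ℕ) (hdim : topologicalKrullDim X = (s + 2 : ℕ))
    (hproj : ∃ (N : ℕ) (ι : X ⟶ CohB1.ProjSpace N k), IsClosedImmersion ι ∧ ι ≫ CohB1.ProjSpace.toSpec N k = X ↘ Spec (CommRingCat.of k))
    (δ : X → ℤ) (hδ : Cyc.IsSetup X δ) (hδη : δ (genericPoint X) = (s + 2 : ℕ))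
    (L M : Fin s → X.Modules) (hL : ∀ i, PicF.IsInvertible (L i))
    (hLM : ∀ i, Nonempty (CohB1.tensorMod (L i) (M i) ≅ Coh.structureModule X))
    (A A' B B' : X.Modules) (hA : PicF.IsInvertible A) (hB : PicF.IsInvertible B)
    (hAA' : Nonempty (CohB1.tensorMod A A' ≅ Coh.structureModule X))
    (hBB' : Nonempty (CohB1.tensorMod B B' ≅ Coh.structureModule X))
    (ℒ : X.Modules) (hℒ : RefHull.IsRef1 ℒ) :
    (∑ I : Finset (Fin (s + 1)), ((-1 : ℤ) ^ I.card) •
        (KZero.clSub (Cyc.CohLe δ (s + 2 : ℕ)) (CohB1.tensorMod (FGA.tensorList ((I.sort (· ≤ ·)).map (Fin.cons (CohB1.tensorMod A' B') M))) (Coh.structureModule X)) -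
          KZero.clSub (Cyc.CohLe δ (s + 2 : ℕ)) (CohB1.tensorMod (FGA.tensorList ((I.sort (· ≤ ·)).map (Fin.cons (CohB1.tensorMod A' B') M))) ℒ))) =
      (∑ I : Finset (Fin (s + 1)), ((-1 : ℤ) ^ I.card) •
        (KZero.clSub (Cyc.CohLe δ (s + 2 : ℕ)) (CohB1.tensorMod (FGA.tensorList ((I.sort (· ≤ ·)).map (Fin.cons A' M))) (Coh.structureModule X)) -
          KZero.clSub (Cyc.CohLe δ (s + 2 : ℕ)) (CohB1.tensorMod (FGA.tensorList ((I.sort (· ≤ ·)).map (Fin.cons A' M))) ℒ))) +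
      (∑ I : Finset (Fin (s + 1)), ((-1 : ℤ) ^ I.card) •
        (KZero.clSub (Cyc.CohLe δ (s + 2 : ℕ)) (CohB1.tensorMod (FGA.tensorList ((I.sort (· ≤ ·)).map (Fin.cons B' M))) (Coh.structureModule X)) -
          KZero.clSub (Cyc.CohLe δ (s + 2 : ℕ)) (CohB1.tensorMod (FGA.tensorList ((I.sort (· ≤ ·)).map (Fin.cons B' M))) ℒ))) := by
  have h := GrothLib.RefK12.setting1 (δ := δ) k hnorm hproj hδ hδη
  have h0 := GrothLib.RefK12.delta_nonneg hproj hδ hdim hδη
  have hM := GrothLib.RefK12.isInvertible_inverses hL hLM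
  have hO := GrothLib.HomSh.isCoh_structureModule X
  obtain ⟨wA⟩ := hAA'
  obtain ⟨wB⟩ := hBB'
  have hA' := GrothLib.Seesaw26.isInvertible_of_tensor_iso wA hA
  have hB' := GrothLib.Seesaw26.isInvertible_of_tensor_iso wB hB
  have hAB := GrothLib.Ample.isInvertible_tensorMod hA' hB'
  have hc : ∀ (N : X.Modules), PicF.IsInvertible N → ∀ i, PicF.IsInvertible ((Fin.cons N M : Fin (s + 1) → X.Modules) i) :=
    fun N hN => Fin.cases hN hM
  rw [GrothLib.RefK12.sum_cl_tensorList h.toSetting (hc _ hAB) hO hℒ.1,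
    GrothLib.RefK12.sum_cl_tensorList h.toSetting (hc _ hA') hO hℒ.1,
    GrothLib.RefK12.sum_cl_tensorList h.toSetting (hc _ hB') hO hℒ.1]
  simp only [Fin.prod_univ_succ]
  simp only [Fin.cons_zero, Fin.cons_succ]
  set P := ∏ i, (1 - GrothLib.RefK12.e (GrothLib.Cube.clsMod (hM i))) with hP
  rw [GrothLib.Cube.clsMod_tensorMod hA' hB', GrothLib.RefK12.one_sub_e_mul, sub_mul, add_mul,
    GrothLib.RefK12.act_sub_apply, GrothLib.RefK12.act_add_apply, sub_eq_self, mul_assoc,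
    GrothLib.RefK12.act_mul_apply, GrothLib.RefK12.act_mul_apply]
  have m := GrothLib.RefK12.act_one_sub_mem h.toSetting (GrothLib.Cube.clsMod hA')
    (GrothLib.RefK12.act_one_sub_mem h.toSetting (GrothLib.Cube.clsMod hB')
      (GrothLib.RefK12.act_prod_mem h.toSetting Finset.univ (fun i => GrothLib.Cube.clsMod (hM i))
        (AddSubgroup.sub_mem_comm_iff _ |>.1 (GrothLib.RefK12.ref1_sub_structure h hℒ))))
  rw [GrothLib.RefK12.Kle_eq_bot (fun x => by have := h0 x; simp only [Finset.card_univ, Fintype.card_fin]; push_cast; omega),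
    AddSubgroup.mem_bot] at m
  exact m

end Groth.Agent.S17929
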