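import Groth.Statements.S17930
-- import your own Groth.Agent.* helpers here
import Groth.Agent.Lib.RefBC28.Basic
import Groth.Agent.Lib.FGAInt26.BaseChange
import Groth.Agent.Lib.RefK12.Setup
import Groth.Agent.Lib.Hilb20.FieldExt
import Groth.Agent.Lib.RegQCoh16.Basic
import Groth.Agent.Lib.RefK12.Basic
import Groth.Agent.Lib.RefK12.Ops

set_option autoImplicit false
set_option maxHeartbeats 1600000
set_option linter.style.haveILetI false
set_option backward.isDefEq.respectTransparency false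
universe u
open CategoryTheory CategoryTheory.Limits AlgebraicGeometry
open RefCh

namespace Groth.Agent.S17930

/-- Let k be an algebraically closed field of characteristic p > 0, X an integral normal scheme of
dimension s + 2 admitting a closed immersion into some P^N_k over k, L_1, …, L_s invertible
O_X-modules with inverses M_1, …, M_s, E a coherent reflexive O_X-module and (G_m) its reflexive
Frobenius pull-backs (G_0 = E, G_{m+1} ≅ (F_X^* G_m)^**). Let K ⊇ k be an algebraically closed
extension field, X_K = X ×_k Spec K with projection π : X_K → X, and (G'_m) reflexive Frobenius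
pull-backs of E_K = π^*E on X_K (G'_0 = π^*E, G'_{m+1} ≅ (F_{X_K}^* G'_m)^**). If χ(c_1(L_1) ⋯
c_1(L_s) · [G_m]) / p^{2m} → b (alternating sums FGA.intNum over k in the M_i) and χ(c_1(π^*L_1) ⋯
c_1(π^*L_s) · [G'_m]) / p^{2m} → b' (alternating sums FGA.intNum over K in the π^*M_i), then b' = b:
the number ∫_X ch_2(E) L_1 ⋯ L_s is unchanged by algebraically closed base field extension. -/
theorem result (k : Type u) [Field k] [IsAlgClosed k] (X : Scheme.{u}) [X.Over (Spec (CommRingCat.of k))]
    [AlgebraicGeometry.IsIntegral X] (hnorm : Pi1.IsNormalScheme X) (s : ℕ) (hdim : topologicalKrullDim X = (s + 2 : ℕ))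
    (hproj : ∃ (N : ℕ) (ι : X ⟶ CohB1.ProjSpace N k), IsClosedImmersion ι ∧ ι ≫ CohB1.ProjSpace.toSpec N k = X ↘ Spec (CommRingCat.of k))
    (p : ℕ) [Fact p.Prime] [CharP k p] [FrobSch.IsCharP X p]
    (L M : Fin s → X.Modules) (hL : ∀ i, PicF.IsInvertible (L i))
    (hLM : ∀ i, Nonempty (CohB1.tensorMod (L i) (M i) ≅ Coh.structureModule X))
    (E : X.Modules) (hE : Coh.IsCoh E) (hEr : RefHull.IsReflexive E)
    (G : ℕ → X.Modules) (hG0 : G 0 = E)
    (hG : ∀ m, Nonempty (G (m + 1) ≅ RefHull.ddual ((Scheme.Modules.pullback (FrobSch.frob X p)).obj (G m)))) (b : ℝ)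
    (hb : Filter.Tendsto (fun m : ℕ => (FGA.intNum k X (s + 2) M (G m) : ℝ) / ((p : ℝ) ^ (2 * m))) Filter.atTop (nhds b))
    (K : Type u) [Field K] [IsAlgClosed K] [Algebra k K] [FrobSch.IsCharP (Curv2.bc k X K) p]
    (G' : ℕ → (Curv2.bc k X K).Modules) (hG'0 : G' 0 = (Scheme.Modules.pullback (Curv2.bcFst k X K)).obj E)
    (hG' : ∀ m, Nonempty (G' (m + 1) ≅ RefHull.ddual ((Scheme.Modules.pullback (FrobSch.frob (Curv2.bc k X K) p)).obj (G' m))))
    (b' : ℝ)
    (hb' : letI : (Curv2.bc k X K).Over (Spec (CommRingCat.of K)) := ⟨Curv2.bcSnd k X K⟩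
      Filter.Tendsto (fun m : ℕ => (FGA.intNum K (Curv2.bc k X K) (s + 2) (fun i => (Scheme.Modules.pullback (Curv2.bcFst k X K)).obj (M i)) (G' m) : ℝ) / ((p : ℝ) ^ (2 * m))) Filter.atTop (nhds b')) :
    b' = b := by
  haveI := GrothLib.RefK12.isProper_proj hproj
  haveI := GrothLib.Euler.isNoetherian_of_proper (X := X) k
  letI : (Curv2.bc k X K).Over (Spec (CommRingCat.of K)) := ⟨Curv2.bcSnd k X K⟩
  haveI : IsProper (Curv2.bc k X K ↘ Spec (CommRingCat.of K)) := GrothLib.Hilb20.isProper_bc k (X := X) K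
  haveI := GrothLib.Euler.isNoetherian_of_proper (X := Curv2.bc k X K) K
  haveI : Flat (Curv2.bcFst k X K) := GrothLib.Hilb20.flat_bcFst' k (X := X) K
  let π := Curv2.bcFst k X K
  have hcoh : ∀ m, Coh.IsCoh (G m) := by
    intro m
    induction m with
    | zero => rw [hG0]; exact hE
    | succ m ih =>
      obtain ⟨i⟩ := hG m
      have h1 := GrothLib.RefBC28.isCoh_pullback (FrobSch.frob X p) ih
      exact GrothLib.QCoh.isCoh_of_iso i.symm
        (GrothLib.HomSh.isCoh_dual (GrothLib.HomSh.hasRel_dual (GrothLib.HomSh.hasRel_of_isCoh h1)))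
  have hiso : ∀ m, Nonempty (G' m ≅ (Scheme.Modules.pullback π).obj (G m)) := by
    intro m
    induction m with
    | zero => exact ⟨eqToIso (by rw [hG'0, hG0])⟩
    | succ m ih =>
      obtain ⟨a⟩ := ih
      obtain ⟨i⟩ := hG m
      obtain ⟨i'⟩ := hG' m
      obtain ⟨c⟩ := GrothLib.RefBC28.nonempty_ddual_pullback π
        (GrothLib.RefBC28.isCoh_pullback (FrobSch.frob X p) (hcoh m))
      exact ⟨i' ≪≫ RefFun.ddualIso ((Scheme.Modules.pullback (FrobSch.frob (Curv2.bc k X K) p)).mapIso a ≪≫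
        (Scheme.Modules.pullbackComp _ π).app (G m) ≪≫
        (Scheme.Modules.pullbackCongr (FrobSch.frob_comp p π)).app (G m) ≪≫
        ((Scheme.Modules.pullbackComp π _).app (G m)).symm) ≪≫ c ≪≫
        (Scheme.Modules.pullback π).mapIso i.symm⟩
  have hM := GrothLib.RefK12.isInvertible_inverses hL hLM
  have heq : ∀ m, FGA.intNum K (Curv2.bc k X K) (s + 2) (fun i => (Scheme.Modules.pullback π).obj (M i)) (G' m) =
      FGA.intNum k X (s + 2) M (G m) := by
    intro m
    obtain ⟨a⟩ := hiso m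
    unfold FGA.intNum
    refine Finset.sum_congr rfl fun I _ => ?_
    congr 1
    let l := (I.sort (· ≤ ·)).map M
    have hl : (I.sort (· ≤ ·)).map (fun i => (Scheme.Modules.pullback π).obj (M i)) =
        l.map (Scheme.Modules.pullback π).obj := by rw [List.map_map]; rfl
    obtain ⟨e⟩ := GrothLib.FGAInt26.nonempty_pullback_tensorList π l
    haveI := (GrothLib.RefK12.hasCls_tensorList hM I).1
    haveI : (FGA.tensorList l).IsQuasicoherent :=
      (GrothLib.FacDiv.isRef1_of_isInvertible (GrothLib.RefK12.hasCls_tensorList hM I).1).1.1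
    haveI := (hcoh m).1
    haveI : (((DCoh.tensorBi (X := X)).obj (FGA.tensorList l)).obj (G m)).IsQuasicoherent :=
      GrothLib.RegQCoh16.isQuasicoherent_tensorMod _ _
    rw [hl]
    rw [← GrothLib.FGAInt26.eulerCharLE_congr (k := K)
      (GrothLib.OX.pullTensorIso π (FGA.tensorList l) (G m) ≪≫
        GrothLib.Ample.LineData.tensorModMapIso e a.symm) (s + 2)]
    exact GrothLib.FGAInt26.eulerCharLE_isPullback (algebraMap k K) (X ↘ Spec (CommRingCat.of k))
      (Curv2.bcSnd k X K) π (IsPullback.of_hasPullback _ _) _ (s + 2)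
  refine tendsto_nhds_unique (f := fun m : ℕ => (FGA.intNum k X (s + 2) M (G m) : ℝ) / ((p : ℝ) ^ (2 * m))) ?_ hb
  exact hb'.congr fun m => by rw [heq m]

end Groth.Agent.S17930
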