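import Groth.Statements.S17937
import Mathlib
import Groth.Agent.Lib.MultCrv.Facts

set_option autoImplicit false
universe u
open MultCrv

namespace Groth.Agent.S17937

open CategoryTheory in
/-- Let R be a discrete valuation ring, n ≥ 1, A = R[X]/(X^n), and M a finitely generated A-module with
Ext^1_A(M, A) = 0. Then M is torsion-free as an R-module. (Statement at a closed point of the sheaf
statement on a primitive multiple curve of multiplicity n, whose local rings are of the form
R[X]/(X^n) with R the local ring of the reduced smooth curve; stated for every discrete valuation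
ring R.) -/
theorem result (R : Type u) [CommRing R] [IsDomain R] [IsDiscreteValuationRing R] (n : ℕ) (hn : 1 ≤ n) (M : Type u) [AddCommGroup M] [Module (MultCrv.Rn R n) M] [Module R M] [IsScalarTower R (MultCrv.Rn R n) M] [Module.Finite (MultCrv.Rn R n) M] (h : Subsingleton (Abelian.Ext (ModuleCat.of (MultCrv.Rn R n) M) (ModuleCat.of (MultCrv.Rn R n) (MultCrv.Rn R n)) 1)) : Module.IsTorsionFree R M :=
  MultCrvAux.tf_of_ext_one (R := R) (n := n) hn h

end Groth.Agent.S17937
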