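import Groth.Statements.S17938
import Mathlib
import Groth.Agent.Lib.MultCrv.Facts

set_option autoImplicit false
universe u
open MultCrv

namespace Groth.Agent.S17938

open CategoryTheory in
/-- Let R be a discrete valuation ring, n ≥ 1, A = R[X]/(X^n) with z the class of X, and M, N finitely
generated A-modules with M torsion-free as an R-module. Then z^(n-1) kills Ext^1_A(M, N). (This is
the assertion at a closed point to which the sheaf statement reduces: on a primitive multiple curve
of multiplicity n, with local rings R[X]/(X^n), the first local Ext sheaf out of a torsion-free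
coherent sheaf is killed by the (n-1)-st power of the ideal of the reduced curve; stated for every
discrete valuation ring R.) -/
theorem result (R : Type u) [CommRing R] [IsDomain R] [IsDiscreteValuationRing R] (n : ℕ) (hn : 1 ≤ n) (M N : Type u) [AddCommGroup M] [Module (MultCrv.Rn R n) M] [Module R M] [IsScalarTower R (MultCrv.Rn R n) M] [Module.Finite (MultCrv.Rn R n) M] [Module.IsTorsionFree R M] [AddCommGroup N] [Module (MultCrv.Rn R n) N] [Module.Finite (MultCrv.Rn R n) N] (x : Abelian.Ext (ModuleCat.of (MultCrv.Rn R n) M) (ModuleCat.of (MultCrv.Rn R n) N) 1) : (MultCrv.z R n ^ (n - 1)) • x = 0 :=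
  MultCrvAux.smul_ext_of_tf (R := R) (n := n) hn 0 x

end Groth.Agent.S17938
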