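import Groth.Statements.S1794
import Groth.Agent.Lib.RelDual22.Rows

set_option autoImplicit false
universe u
open CategoryTheory
open scoped TensorProduct
attribute [local instance] HasDerivedCategory.standard
attribute [local instance] GrothLib.DualRing.Shriek.pfl_of_flat
open Dual2

namespace Groth.Agent.S1794

/-- Let R → A be a ring map which is flat and of finite presentation. (1) There exists a relative
dualizing complex K (relative dualizing: R-perfect with RHom_{A⊗_R A}(A, K ⊗^L_A (A ⊗_R A)) ≅ A, the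
base change taken along the left coprojection under its existence hypothesis and RHom_{A⊗_R A}(A, −)
given as a right adjoint Rμ of restriction along the multiplication map). (2) For any ring map R →
R', with A' = R' ⊗_R A and assuming the derived base change D(A) → D(A') exists, the base change of
such a K is a relative dualizing complex for R' → A' (for any choice of the corresponding right
adjoint over A' ⊗_{R'} A'). -/
theorem result (R A : Type u) [CommRing R] [CommRing A] [Algebra R A] [Module.Flat R A] [Algebra.FinitePresentation R A] [DRing.HasLBaseChange (Algebra.TensorProduct.includeLeftRingHom : A →+* TensorProduct R A A)] (Rμ : Dual.D (TensorProduct R A A) ⥤ Dual.D A) (adjμ : DRing.restrictD (Algebra.TensorProduct.lmul' R (S := A)).toRingHom ⊣ Rμ) : (∃ K : Dual.D A, Dual2.IsRelDualizing R A Rμ K) ∧ ∀ (K : Dual.D A), Dual2.IsRelDualizing R A Rμ K → ∀ (R' : Type u) [CommRing R'] [Algebra R R'] [DRing.HasLBaseChange (Algebra.TensorProduct.includeRight : A →ₐ[R] R' ⊗[R] A).toRingHom] [DRing.HasLBaseChange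 (Algebra.TensorProduct.includeLeftRingHom : R' ⊗[R] A →+* TensorProduct R' (R' ⊗[R] A) (R' ⊗[R] A))] (Rμ' : Dual.D (TensorProduct R' (R' ⊗[R] A) (R' ⊗[R] A)) ⥤ Dual.D (R' ⊗[R] A)), (DRing.restrictD (Algebra.TensorProduct.lmul' R' (S := R' ⊗[R] A)).toRingHom ⊣ Rμ') → Dual2.IsRelDualizing R' (R' ⊗[R] A) Rμ' ((DRing.LBaseChange (Algebra.TensorProduct.includeRight : A →ₐ[R] R' ⊗[R] A).toRingHom).obj K) := by
  obtain ⟨n, ψ, hψ⟩ := GrothLib.RelDual22.exists_presentation R A
  refine ⟨⟨_, GrothLib.RelDual22.isRelDualizing_GP Rμ adjμ ψ hψ⟩, fun K hK R' _ _ _ _ Rμ' adj' => ?_⟩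
  obtain ⟨e⟩ := GrothLib.RelDual22.iso_GP_of_isRelDualizing Rμ adjμ ψ hψ hK
  haveI := GrothLib.KF.hasLBaseChange (algebraMap R R')
  obtain ⟨eg⟩ := GrothLib.RelDual22.nonempty_GP_baseChange (R' := R') ψ hψ (Dual.inD R R)
  obtain ⟨eI⟩ := GrothLib.RelDual22.nonempty_lBase_inD R R'
  refine GrothLib.RelDual22.isRelDualizing_of_iso Rμ' ?_
    (GrothLib.RelDual22.isRelDualizing_GP Rμ' adj' (GrothLib.RelPC.bcPres (R' := R') ψ)
      (GrothLib.RelPC.bcPres_surjective ψ hψ))
  exact (shiftFunctor (Dual.D (R' ⊗[R] A)) (n : ℤ)).mapIso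
      ((GrothLib.DualRing.Shriek.RA _).mapIso ((GrothLib.DualRing.Shriek.extD _).mapIso eI.symm)) ≪≫
    eg.symm ≪≫ (DRing.LBaseChange _).mapIso e.symm

end Groth.Agent.S1794
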