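import Groth.Statements.S17940
import Mathlib
import Groth.Agent.Lib.MultCrv.Facts

set_option autoImplicit false
universe u
open MultCrv

namespace Groth.Agent.S17940

variable {R : Type u} [CommRing R] {n : ℕ}

lemma surj_of_mod_z {M N : Type u} [AddCommGroup M] [Module (MultCrv.Rn R n) M] [AddCommGroup N]
    [Module (MultCrv.Rn R n) N] (f : M →ₗ[MultCrv.Rn R n] N)
    (h : ∀ v : N, ∃ (u : M) (w : N), MultCrv.z R n • w = v - f u) : Function.Surjective f := by
  have key : ∀ k : ℕ, ∀ v : N, ∃ (u : M) (w : N), v = f u + MultCrv.z R n ^ k • w := by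
    intro k
    induction k with
    | zero => exact fun v => ⟨0, v, by rw [map_zero, zero_add, pow_zero, one_smul]⟩
    | succ k ih =>
      intro v
      obtain ⟨u, w, rfl⟩ := ih v
      obtain ⟨u', w', hw'⟩ := h w
      refine ⟨u + MultCrv.z R n ^ k • u', w', ?_⟩
      rw [eq_sub_iff_add_eq] at hw'
      rw [map_add, map_smul, ← hw', smul_add, smul_smul, ← pow_succ]
      abel
  intro v
  obtain ⟨u, w, rfl⟩ := key n v
  exact ⟨u, by rw [MultCrvAux.pow_n_smul, add_zero]⟩

/-- Multiplication by `z ^ k` from `A/(z ^ l)` to `A`, for `n ≤ k + l`. -/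
noncomputable def mu (k l : ℕ) (h : n ≤ k + l) : MultCrv.Oi R n l →ₗ[MultCrv.Rn R n] MultCrv.Rn R n :=
  Submodule.liftQ _ (LinearMap.mulLeft (MultCrv.Rn R n) (MultCrv.z R n ^ k))
    ((Ideal.span_singleton_le_iff_mem _).2 (by
      show MultCrv.z R n ^ k * MultCrv.z R n ^ l = 0
      rw [← pow_add]; exact MultCrvAux.z_pow_eq_zero h))

lemma mu_mk (k l : ℕ) (h : n ≤ k + l) (a : MultCrv.Rn R n) :
    mu k l h (Submodule.Quotient.mk a) = MultCrv.z R n ^ k * a := rfl

lemma mu_injective (k l : ℕ) (h : k + l = n) : Function.Injective (mu (R := R) k l h.ge) := by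
  rw [injective_iff_map_eq_zero]
  intro x hx
  obtain ⟨a, rfl⟩ := Submodule.Quotient.mk_surjective _ x
  rw [mu_mk] at hx
  refine (Submodule.Quotient.mk_eq_zero _).2 ?_
  rw [MultCrvAux.eq_sum a]
  refine Ideal.sum_mem _ fun j hj => ?_
  by_cases hjl : l ≤ j
  · exact Submodule.smul_of_tower_mem _ _ (Ideal.mem_span_singleton.2 (pow_dvd_pow _ hjl))
  · have := congrArg (MultCrvAux.cf (k + j)) hx
    rw [MultCrvAux.cf_z_pow_mul _ _ (by omega), if_pos (Nat.le_add_right _ _), Nat.add_sub_cancel_left,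
      map_zero] at this
    rw [this, zero_smul R]
    exact zero_mem _

/-- A coordinate of the reversed model. -/
noncomputable def pick (m : Fin n → ℕ) (j : Fin n) (d : Fin (MultCrv.revType n m j)) :
    ((j : Fin n) → Fin (MultCrv.revType n m j) → MultCrv.Oi R n (j.1 + 1)) →ₗ[MultCrv.Rn R n]
      MultCrv.Oi R n (j.1 + 1) where
  toFun w := w j d
  map_add' _ _ := rfl
  map_smul' _ _ := rfl

/-- The kernel of the standard presentation, as the reversed model. -/
noncomputable def theta (m : Fin n → ℕ) :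
    ((j : Fin n) → Fin (MultCrv.revType n m j) → MultCrv.Oi R n (j.1 + 1)) →ₗ[MultCrv.Rn R n]
      (Sigma (fun i : Fin n => Fin (m i)) → MultCrv.Rn R n) :=
  LinearMap.pi fun s =>
    if h : s.1.1 + 1 < n then
      (mu (s.1.1 + 1) (n - 2 - s.1.1 + 1) (by omega)).comp
        (pick m (⟨n - 2 - s.1.1, by omega⟩ : Fin n) (Fin.cast (by
            show m s.1 = MultCrv.revType n m ⟨n - 2 - s.1.1, by omega⟩
            rw [MultCrv.revType, dif_pos (by show n - 2 - s.1.1 + 1 < n; omega)]
            congr 1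
            ext
            show s.1.1 = n - 2 - (n - 2 - s.1.1)
            omega) s.2))
    else 0

lemma theta_injective (m : Fin n → ℕ) : Function.Injective (theta (R := R) m) := by
  rw [injective_iff_map_eq_zero]
  intro w hw
  funext j d
  have hj : j.1 + 1 < n := by
    by_contra h
    have := d.2
    simp [MultCrv.revType, h] at this
  have hm : MultCrv.revType n m j = m ⟨n - 2 - j.1, by omega⟩ := by rw [MultCrv.revType, dif_pos hj]
  have h0 := congrFun hw ⟨⟨n - 2 - j.1, by omega⟩, Fin.cast hm d⟩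
  simp only [theta, LinearMap.pi_apply, Pi.zero_apply] at h0
  rw [dif_pos (by omega : n - 2 - j.1 + 1 < n)] at h0
  have h1 := mu_injective (R := R) _ _ (by omega) (h0.trans (map_zero _).symm)
  have gen : ∀ (j' : Fin n) (_ : j' = j) (d' : Fin (MultCrv.revType n m j')), d'.1 = d.1 →
      w j' d' = 0 → w j d = 0 := by
    intro j' e d' hd hw'
    subst e
    rwa [Fin.ext hd] at hw'
  refine gen _ ?_ _ ?_ h1
  · ext; show n - 2 - (n - 2 - j.1) = j.1; omega
  · rfl

lemma mem_range_theta (m : Fin n → ℕ) (v : Sigma (fun i : Fin n => Fin (m i)) → MultCrv.Rn R n) :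
    v ∈ LinearMap.range (theta (R := R) m) ↔ ∀ s, v s ∈ Ideal.span {MultCrv.z R n ^ (s.1.1 + 1)} := by
  classical
  constructor
  · rintro ⟨w, rfl⟩ s
    simp only [theta, LinearMap.pi_apply]
    split_ifs with h
    · simp only [LinearMap.comp_apply]
      generalize pick (R := R) m _ _ w = x
      obtain ⟨a, rfl⟩ := Submodule.Quotient.mk_surjective _ x
      rw [mu_mk]
      exact Ideal.mul_mem_right _ _ (Ideal.mem_span_singleton_self _)
    · exact zero_mem _
  · intro hv
    choose a ha using fun s => Ideal.mem_span_singleton'.1 (hv s)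
    refine ⟨fun j d => if hj : j.1 + 1 < n then
      Submodule.Quotient.mk (a ⟨⟨n - 2 - j.1, by omega⟩, Fin.cast (by rw [MultCrv.revType, dif_pos hj]) d⟩) else 0, ?_⟩
    funext s
    simp only [theta, LinearMap.pi_apply]
    split_ifs with h
    · simp only [LinearMap.comp_apply, LinearMap.proj_apply]
      change mu (R := R) _ _ _ (dite _ _ _) = v s
      rw [dif_pos (by show n - 2 - s.1.1 + 1 < n; omega)]
      have gen : ∀ (i : Fin n) (_ : i = s.1) (c : Fin (m i)), c.1 = s.2.1 →
          mu (R := R) (s.1.1 + 1) (n - 2 - s.1.1 + 1) (by omega) (Submodule.Quotient.mk (a ⟨i, c⟩)) = v s := by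
        intro i e c hc
        subst e
        rw [Fin.ext hc, mu_mk, mul_comm]
        exact ha s
      refine gen _ ?_ _ ?_
      · ext; show n - 2 - (n - 2 - s.1.1) = s.1.1; omega
      · rfl
    · rw [LinearMap.zero_apply, ← ha s, MultCrvAux.z_pow_eq_zero (by omega), mul_zero]


/-- Let R be a discrete valuation ring, n ≥ 1, A = R[X]/(X^n) with z the class of X, and M an A-module
that is quasi-free of type (m_1, …, m_n), i.e. isomorphic to the direct sum of m_i copies of
A/(z^i). Let φ be a surjective A-linear map from a finitely generated free module A^r onto M that is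
bijective modulo z (the preimage of zM is zA^r). Then the kernel of φ is quasi-free of type
(m_{n-1}, m_{n-2}, …, m_1, 0). (Statement at a closed point of the sheaf statement on a primitive
multiple curve of multiplicity n with local rings R[X]/(X^n), for the kernel of a surjection from a
vector bundle onto a quasi locally free sheaf that is an isomorphism on the reduced curve; stated
for every discrete valuation ring R.) -/
theorem result (R : Type u) [CommRing R] [IsDomain R] [IsDiscreteValuationRing R] (n : ℕ) (hn : 1 ≤ n) (m : Fin n → ℕ) (M : Type u) [AddCommGroup M] [Module (MultCrv.Rn R n) M] (hM : MultCrv.IsQuasiFreeOfType R n M m) (r : ℕ) (φ : (Fin r → MultCrv.Rn R n) →ₗ[MultCrv.Rn R n] M) (hφ : Function.Surjective φ) (hφz : ∀ f : Fin r → MultCrv.Rn R n, φ f ∈ MultCrv.filt R n M 1 → f ∈ MultCrv.filt R n (Fin r → MultCrv.Rn R n) 1) : MultCrv.IsQuasiFreeOfType R n ↥(LinearMap.ker φ) (MultCrv.revType n m) := by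
  classical
  obtain ⟨eM⟩ := hM
  let ψ : (Sigma (fun i : Fin n => Fin (m i)) → MultCrv.Rn R n) →ₗ[MultCrv.Rn R n] M :=
    (eM.trans (MultCrv.QFModel.equivPi R n m)).symm.toLinearMap.comp
      (LinearMap.pi fun i => LinearMap.pi fun c =>
        (Submodule.mkQ (Ideal.span {MultCrv.z R n ^ (i.1 + 1)})).comp (LinearMap.proj ⟨i, c⟩))
  have hψker : ∀ v, ψ v = 0 ↔ ∀ s, v s ∈ Ideal.span {MultCrv.z R n ^ (s.1.1 + 1)} := fun v => by
    simp only [ψ, LinearMap.comp_apply, LinearEquiv.coe_toLinearMap, LinearEquiv.map_eq_zero_iff]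
    constructor
    · intro h s
      have h' := congrFun (congrFun h s.1) s.2
      exact (Submodule.Quotient.mk_eq_zero _).1 h'
    · intro h
      funext i c
      exact (Submodule.Quotient.mk_eq_zero _).2 (h ⟨i, c⟩)
  have hψsurj : Function.Surjective ψ := by
    refine (eM.trans (MultCrv.QFModel.equivPi R n m)).symm.surjective.comp fun w => ?_
    have : ∀ s : Sigma (fun i : Fin n => Fin (m i)), ∃ a, Submodule.Quotient.mk a = w s.1 s.2 := fun s =>
      Submodule.Quotient.mk_surjective _ _
    choose a ha using this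
    exact ⟨a, funext fun i => funext fun c => ha ⟨i, c⟩⟩
  have hkerz : ∀ v, ψ v = 0 → ∃ w, MultCrv.z R n • w = v := fun v hv => by
    have : ∀ s, ∃ w, MultCrv.z R n * w = v s := fun s => by
      obtain ⟨a, ha⟩ := Ideal.mem_span_singleton'.1 ((hψker v).1 hv s)
      exact ⟨a * MultCrv.z R n ^ s.1.1, by rw [← ha, pow_succ]; ring⟩
    choose w hw using this
    exact ⟨w, funext hw⟩
  obtain ⟨L, hL⟩ := Module.projective_lifting_property ψ φ hψsurj
  have hL' : ∀ f, ψ (L f) = φ f := fun f => DFunLike.congr_fun hL f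
  have hLsurj : Function.Surjective L := surj_of_mod_z L fun v => by
    obtain ⟨f, hf⟩ := hφ (ψ v)
    exact ⟨f, hkerz _ (by rw [map_sub, hL', hf, sub_self])⟩
  obtain ⟨s, hs⟩ := Module.projective_lifting_property L LinearMap.id hLsurj
  have hs' : ∀ v, L (s v) = v := fun v => DFunLike.congr_fun hs v
  have hssurj : Function.Surjective s := surj_of_mod_z s fun f => by
    refine ⟨L f, ?_⟩
    have h0 : φ (f - s (L f)) = 0 := by rw [map_sub, ← hL', ← hL' (s (L f)), hs', sub_self]
    obtain ⟨w, hw⟩ := MultCrvAux.mem_filt.1 (hφz _ (by rw [h0]; exact zero_mem _))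
    exact ⟨w, by rwa [pow_one] at hw⟩
  let eL : (Fin r → MultCrv.Rn R n) ≃ₗ[MultCrv.Rn R n] (Sigma (fun i : Fin n => Fin (m i)) → MultCrv.Rn R n) :=
    LinearEquiv.ofBijective L ⟨fun a b h => by
      obtain ⟨a', rfl⟩ := hssurj a
      obtain ⟨b', rfl⟩ := hssurj b
      rw [hs', hs'] at h
      rw [h], hLsurj⟩
  let e1 : ↥(LinearMap.ker φ) ≃ₗ[MultCrv.Rn R n] ↥(LinearMap.ker ψ) :=
    eL.ofSubmodules _ _ (by
      ext v
      simp only [Submodule.mem_map, LinearMap.mem_ker]
      constructor
      · rintro ⟨f, hf, rfl⟩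
        exact (hL' f).trans hf
      · intro hv
        obtain ⟨f, rfl⟩ := hLsurj v
        exact ⟨f, (hL' f).symm.trans hv, rfl⟩)
  obtain ⟨e2⟩ : Nonempty (MultCrv.QFModel R n (MultCrv.revType n m) ≃ₗ[MultCrv.Rn R n] ↥(LinearMap.ker ψ)) := by
    refine ⟨(MultCrv.QFModel.equivPi R n (MultCrv.revType n m)).trans
      ((LinearEquiv.ofInjective (theta m) (theta_injective m)).trans (LinearEquiv.ofEq _ _ ?_))⟩
    ext v
    rw [LinearMap.mem_ker, hψker, mem_range_theta]
  exact ⟨e1.trans e2.symm⟩

end Groth.Agent.S17940
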