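import Groth.Statements.S17949
import Groth.Agent.Lib.HensSpec.Sections
-- import your own Groth.Agent.* helpers here

set_option autoImplicit false
universe u
open CategoryTheory AlgebraicGeometry Opposite
open HensSch

namespace Groth.Agent.S17949

/-- Let `X` be a Henselian scheme and let `U = Sph(A, I)`, `V = Sph(B, J)` be affine Henselian opens of
`X` (open immersions `iU`, `iV` of the affine Henselian spectra of Henselian pairs). Then every
point of `U ∩ V` lies in an open subset of `X` which is at the same time the image of a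
distinguished open `D(f) ∩ V(I)` of `U` and the image of a distinguished open `D(g) ∩ V(J)` of `V`. -/
theorem result (X : LocallyRingedSpace.{u}) (hX : HensSch.IsHensScheme X)
    (U V : LocallyRingedSpace.{u}) (iU : U ⟶ X) [LocallyRingedSpace.IsOpenImmersion iU]
    (iV : V ⟶ X) [LocallyRingedSpace.IsOpenImmersion iV]
    (A : Type u) [CommRing A] (I : Ideal A) [HenselianRing A I] (πU : U ⟶ HensSch.specLRS A)
    (hU : HensSch.IsSph A I U πU)
    (B : Type u) [CommRing B] (J : Ideal B) [HenselianRing B J] (πV : V ⟶ HensSch.specLRS B)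
    (hV : HensSch.IsSph B J V πV)
    (x : X) (hxU : x ∈ Set.range iU.base) (hxV : x ∈ Set.range iV.base) :
    ∃ (f : A) (g : B), x ∈ iU.base '' (HensSch.dOpen πU f : Set U) ∧
      iU.base '' (HensSch.dOpen πU f : Set U) = iV.base '' (HensSch.dOpen πV g : Set V) := by
  obtain ⟨u, rfl⟩ := hxU
  obtain ⟨v, hvu⟩ := hxV
  haveI : PresheafedSpace.IsOpenImmersion iU.toHom := inferInstance
  haveI : PresheafedSpace.IsOpenImmersion iV.toHom := inferInstance
  have hoU := PresheafedSpace.IsOpenImmersion.base_open (f := iU.toHom)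
  have hoV := PresheafedSpace.IsOpenImmersion.base_open (f := iV.toHom)
  let RU : TopologicalSpace.Opens X := ⟨Set.range iU.base, hoU.isOpen_range⟩
  obtain ⟨g, hvg, hgU⟩ := GrothLib.HensSpec.exists_dOpen_le hV ((TopologicalSpace.Opens.map iV.base).obj RU) v
    (show iV.base v ∈ Set.range iU.base from ⟨u, hvu.symm⟩)
  let Og : TopologicalSpace.Opens X := ⟨iV.base '' (HensSch.dOpen πV g : Set V),
    hoV.isOpenMap _ (HensSch.dOpen πV g).isOpen⟩
  have hOgU : (Og : Set X) ⊆ Set.range iU.base := by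
    rintro _ ⟨y, hy, rfl⟩
    exact hgU hy
  have huOg : iU.base u ∈ Og := ⟨v, hvg, hvu⟩
  obtain ⟨f, huf, hfO⟩ := GrothLib.HensSpec.exists_dOpen_le hU ((TopologicalSpace.Opens.map iU.base).obj Og) u huOg
  obtain ⟨s, hs⟩ := (GrothLib.HensSpec.bijective_pull iU Og hOgU).2
    (GrothLib.HensSpec.res le_top (GrothLib.HensSpec.glob πU f))
  have hle : HensSch.dOpen πV g ≤ (TopologicalSpace.Opens.map iV.base).obj Og := fun y hy => ⟨y, hy, rfl⟩
  obtain ⟨b, n, -, hb⟩ := GrothLib.HensSpec.exists_mem_basicOpen_iff (hV.2.2 g)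
    (GrothLib.HensSpec.map_secMap_le_van πV hV.2.1.le _)
    (GrothLib.HensSpec.res hle (GrothLib.HensSpec.pull iV Og s))
  have hsU : ∀ w : U, (iU.base w ∈ X.toRingedSpace.basicOpen s ↔ w ∈ HensSch.dOpen πU f) := by
    intro w
    rw [← GrothLib.HensSpec.mem_basicOpen_pull iU Og s w, hs, GrothLib.HensSpec.mem_basicOpen_res,
      GrothLib.HensSpec.mem_basicOpen_glob]
    exact ⟨fun h => h.2, fun h => ⟨hfO h, h⟩⟩
  have hsV : ∀ w : V, w ∈ HensSch.dOpen πV g →
      (iV.base w ∈ X.toRingedSpace.basicOpen s ↔ w ∈ HensSch.dOpen πV (b * g)) := by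
    intro w hw
    have h1 := hb w hw
    rw [GrothLib.HensSpec.mem_basicOpen_res, GrothLib.HensSpec.mem_basicOpen_pull,
      GrothLib.HensSpec.mem_basicOpen_secMap] at h1
    constructor
    · intro h
      obtain ⟨-, hbw⟩ := h1.mp ⟨hw, h⟩
      show b * g ∉ PrimeSpectrum.asIdeal (πV.base w)
      exact fun hc => ((PrimeSpectrum.isPrime _).mem_or_mem hc).elim hbw hw
    · intro h
      exact (h1.mpr ⟨hw, fun hc => h (Ideal.mul_mem_right g _ hc)⟩).2
  refine ⟨f, b * g, ⟨u, huf, rfl⟩, ?_⟩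
  ext y
  constructor
  · rintro ⟨w, hw, rfl⟩
    obtain ⟨w', hw', he⟩ := (hfO hw : iU.base w ∈ Og)
    exact ⟨w', (hsV w' hw').mp (he ▸ (hsU w).mpr hw), he⟩
  · rintro ⟨w', hw', rfl⟩
    have hw'g : w' ∈ HensSch.dOpen πV g := fun hc => hw' (Ideal.mul_mem_left _ b hc)
    obtain ⟨w, he⟩ := hOgU ⟨w', hw'g, rfl⟩
    exact ⟨w, (hsU w).mp (he ▸ (hsV w' hw'g).mpr hw'), he⟩

end Groth.Agent.S17949
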