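import Groth.Statements.S1795
import Groth.Agent.Lib.DualRing.ShriekRel
-- import your own Groth.Agent.* helpers here

set_option autoImplicit false
set_option maxHeartbeats 400000
set_option linter.style.haveILetI false
universe u
open CategoryTheory
open scoped TensorProduct
attribute [local instance] HasDerivedCategory.standard
open Dual2

namespace Groth.Agent.S1795

/-- Let R → A be a ring map between Noetherian rings which is flat and of finite type, with φ^! formed
from a presentation ψ : R[x_1, …, x_n] → A as RHom_P(A, (−) ⊗^L_R P)[n] (derived base change under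
its existence hypothesis, RHom_P(A, −) a right adjoint of restriction). Then ω_{A/R} = φ^!(R) is a
relative dualizing complex: it is R-perfect and RHom_{A ⊗_R A}(A, ω_{A/R} ⊗^L_A (A ⊗_R A)) ≅ A (with
the same conventions for these functors). -/
theorem result (R A : Type u) [CommRing R] [CommRing A] [IsNoetherianRing R] [IsNoetherianRing A] [Algebra R A] [Module.Flat R A] [Algebra.FinitePresentation R A] (n : ℕ) (ψ : MvPolynomial (Fin n) R →ₐ[R] A) (hψ : Function.Surjective ψ) [DRing.HasLBaseChange (algebraMap R (MvPolynomial (Fin n) R))] (Rψ : Dual.D (MvPolynomial (Fin n) R) ⥤ Dual.D A) (adj : DRing.restrictD ψ.toRingHom ⊣ Rψ) [DRing.HasLBaseChange (Algebra.TensorProduct.includeLeftRingHom : A →+* TensorProduct R A A)] (Rμ : Dual.D (TensorProduct R A A) ⥤ Dual.D A) (adjμ : DRing.restrictD (Algebra.TensorProduct.lmul' R (S := A)).toRingHom ⊣ Rμ) : Dual2.IsRelDualizing R A Rμ (Dual2.shriekVia n Rψ (Dual.inD R R)) := by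
  haveI := GrothLib.DualRing.Shriek.pfl_of_flat R (P := MvPolynomial (Fin n) R)
  haveI := GrothLib.DualRing.Shriek.pfl_of_flat A (P := TensorProduct R A A)
  obtain ⟨e⟩ := GrothLib.DualRing.Shriek.nonempty_shriekVia ψ Rψ adj (Dual.inD R R)
  obtain ⟨⟨E, b, hE, hF, ⟨e1⟩⟩, a, c, ht⟩ := GrothLib.DualRing.Shriek.isRelPerfect_GP ψ hψ
  refine ⟨⟨⟨E, b, hE, hF, ⟨e1 ≪≫ e.symm⟩⟩, a, c,
    GrothLib.DR.hasTorAmplitudeIn_of_iso ((DRing.restrictD (algebraMap R A)).mapIso e.symm) ht⟩, ?_⟩
  obtain ⟨eL⟩ := GrothLib.DualCx22.nonempty_lBase_iso_bcD (A := A) (TensorProduct R A A)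
  obtain ⟨e2⟩ := GrothLib.DualRing.Shriek.nonempty_RA_mul_GP ψ hψ
  exact ⟨Rμ.mapIso (eL.app _ ≪≫ (GrothLib.DualCx22.bcD (A := A) (TensorProduct R A A)).mapIso e) ≪≫
    (adjμ.rightAdjointUniq (GrothLib.DualRing.Shriek.radj _)).app _ ≪≫ e2⟩

end Groth.Agent.S1795
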