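import Groth.Statements.S1796
import Groth.Agent.S1764
import Groth.Agent.S1791
-- import your own Groth.Agent.* helpers here

set_option autoImplicit false
universe u
open CategoryTheory
attribute [local instance] HasDerivedCategory.standard
open LocCoh

namespace Groth.Agent.S1796

/-- Let A be a Noetherian ring with a dualizing complex, T ⊆ Spec A stable under specialization, s an
integer, and K an object of D(A) bounded below with finite cohomology modules; assume the derived
base change functors D(A) → D(A_p) exist. Then H^i_T(K) is a finite A-module for all i ≤ s if and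
only if for all primes p ∉ T and q ∈ T with p ⊆ q, writing h for the length of the longest chain of
primes from p to q, the local cohomology H^i of K_p at the maximal ideal of A_p vanishes for all i ≤
s − h. -/
theorem result (A : Type u) [CommRing A] [IsNoetherianRing A] (hA : ∃ ω : Dual.D A, Dual.IsDualizing A ω) (T : Set (PrimeSpectrum A)) (hT : StableUnderSpecialization T) (s : ℤ) (K : Dual.D A) (a : ℤ) (hKa : ∀ i : ℤ, i < a → Subsingleton (Dual.HD A K i)) (hK : ∀ i : ℤ, Module.Finite A (Dual.HD A K i)) [∀ p : PrimeSpectrum A, DRing.HasLBaseChange (algebraMap A (Localization.AtPrime p.asIdeal))] : (∀ i : ℤ, i ≤ s → Module.Finite A (Dual2.HDT A T K i)) ↔ (∀ (p q : PrimeSpectrum A) (hpq : p ≤ q), p ∉ T → q ∈ T → ∀ h : ℕ, Order.height (⟨q, hpq⟩ : Set.Ici p) = h → ∀ i : ℤ, i ≤ s - h → Subsingleton (Dual2.HDI (Localization.AtPrime p.asIdeal) (IsLocalRing.maximalIdeal (Localization.AtPrime p.asIdeal)) ((DRing.LBaseChange (algebraMap A (Localization.AtPrime p.asIdeal))).obj K) i)) := by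
  refine Iff.trans ?_ (Groth.Agent.S1791.result A hA T T hT hT subset_rfl s K a hKa hK)
  exact Groth.Agent.S1764.result A T hT K a hKa hK s

end Groth.Agent.S1796
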