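import Groth.Statements.S17962
import Mathlib.AlgebraicGeometry.Morphisms.Finite
-- import your own Groth.Agent.* helpers here

set_option autoImplicit false
open CategoryTheory CategoryTheory.Limits AlgebraicGeometry
universe u
open Hensel

namespace Groth.Agent.S17962

/-- Let i : X₀ ⟶ X be a closed immersion such that (X, X₀) is a henselian couple, i.e. for every finite
morphism g : Y ⟶ X every open-closed subset of Y ×_X X₀ is the inverse image under the first
projection of exactly one open-closed subset of Y. Then for every finite morphism h : Y ⟶ X the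
couple (Y, Y ×_X X₀), with the first projection as closed immersion, is again henselian. -/
theorem result {X X₀ : Scheme.{u}}
    (i : X₀ ⟶ X) [IsClosedImmersion i]
    (hX : ∀ (Y : Scheme.{u}) (g : Y ⟶ X), IsFinite g →
      ∀ V : Set ↥(pullback g (i)), IsClopen V →
        ∃! U : Set ↥Y, IsClopen U ∧ (pullback.fst g (i)).base ⁻¹' U = V)
    {Y : Scheme.{u}} (h : Y ⟶ X) [IsFinite h] :
    ∀ (Z : Scheme.{u}) (g : Z ⟶ Y), IsFinite g →
      ∀ V : Set ↥(pullback g (pullback.fst h i)), IsClopen V →
        ∃! U : Set ↥Z, IsClopen U ∧ (pullback.fst g (pullback.fst h i)).base ⁻¹' U = V := by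
  intro Z g hg V hV
  let e := pullbackRightPullbackFstIso h i g
  obtain ⟨U, ⟨hU1, hU2⟩, huniq⟩ := hX Z (g ≫ h) inferInstance (e.inv.base ⁻¹' V)
    (hV.preimage e.inv.continuous)
  have key : ∀ W : Set ↥Z, (pullback.fst g (pullback.fst h i)).base ⁻¹' W = V ↔
      (pullback.fst (g ≫ h) i).base ⁻¹' W = e.inv.base ⁻¹' V := by
    intro W
    have h1 : ∀ z, (pullback.fst (g ≫ h) i).base (e.hom.base z) = (pullback.fst g (pullback.fst h i)).base z := fun z => by
      change (e.hom ≫ pullback.fst (g ≫ h) i) z = _
      rw [pullbackRightPullbackFstIso_hom_fst]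
    have h2 : ∀ z, e.inv.base (e.hom.base z) = z := fun z => by
      change (e.hom ≫ e.inv) z = _
      rw [Iso.hom_inv_id]; rfl
    have h3 : ∀ z, e.hom.base (e.inv.base z) = z := fun z => by
      change (e.inv ≫ e.hom) z = _
      rw [Iso.inv_hom_id]; rfl
    constructor
    · intro hW
      ext z
      rw [Set.mem_preimage, Set.mem_preimage, ← hW, Set.mem_preimage, ← h1, h3]
    · intro hW
      ext z
      rw [Set.mem_preimage, ← h1, ← Set.mem_preimage (f := (pullback.fst (g ≫ h) i).base), hW, Set.mem_preimage, h2]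
  exact ⟨U, ⟨hU1, (key U).mpr hU2⟩, fun W hW => huniq W ⟨hW.1, (key W).mp hW.2⟩⟩

end Groth.Agent.S17962
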