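import Groth.Statements.S17964
import Mathlib

set_option autoImplicit false
open CategoryTheory CategoryTheory.Limits AlgebraicGeometry
universe u
open Hensel

namespace Groth.Agent.S17964

/-- Clopen subsets of a subset lift uniquely. -/
def Lifts {Y : Type*} [TopologicalSpace Y] (Z : Set Y) : Prop :=
  ∀ V : Set Z, IsClopen V → ∃! U : Set Y, IsClopen U ∧ Subtype.val ⁻¹' U = V

theorem iff_lifts {W Y : Type*} [TopologicalSpace W] [TopologicalSpace Y] {e : W → Y}
    (he : Topology.IsEmbedding e) {Z : Set Y} (hZ : Set.range e = Z) :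
    (∀ V : Set W, IsClopen V → ∃! U : Set Y, IsClopen U ∧ e ⁻¹' U = V) ↔ Lifts Z := by
  subst hZ
  let h := he.toHomeomorph
  have key : ∀ (U : Set Y) (V : Set (Set.range e)),
      e ⁻¹' U = h ⁻¹' V ↔ Subtype.val ⁻¹' U = V := fun U V => by
    rw [← h.surjective.preimage_injective.eq_iff (a := Subtype.val ⁻¹' U)]
    rfl
  constructor
  · intro H V hV
    simpa only [key] using H (h ⁻¹' V) (hV.preimage h.continuous)
  · intro H V hV
    have hV' : h ⁻¹' (h.symm ⁻¹' V) = V := by ext; simp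
    rw [← hV']
    simpa only [key] using H (h.symm ⁻¹' V) (hV.preimage h.symm.continuous)

theorem lifts_of_partition {Y : Type*} [TopologicalSpace Y] {ι : Type*} (O : ι → Set Y)
    (hO : ∀ j, IsOpen (O j)) (hdisj : ∀ i j, i ≠ j → Disjoint (O i) (O j))
    (hcov : ∀ y, ∃ j, y ∈ O j) (Z : Set Y)
    (H : ∀ j, Lifts (Subtype.val ⁻¹' Z : Set (O j))) : Lifts Z := by
  intro V hV
  let f : ∀ j, (Subtype.val ⁻¹' Z : Set (O j)) → Z := fun j z => ⟨z.1.1, z.2⟩
  have hf : ∀ j, Continuous (f j) := fun j => by fun_prop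
  have hloc : ∀ S : Set Y, (∀ j, IsOpen (Subtype.val ⁻¹' S : Set (O j))) → IsOpen S := by
    intro S hS
    have : S = ⋃ j, Subtype.val '' (Subtype.val ⁻¹' S : Set (O j)) := by
      ext y
      simp only [Subtype.image_preimage_coe, Set.mem_iUnion, Set.mem_inter_iff]
      exact ⟨fun h => (hcov y).imp fun j hj => ⟨hj, h⟩, fun ⟨j, _, h⟩ => h⟩
    rw [this]
    exact isOpen_iUnion fun j => (hO j).isOpenMap_subtype_val _ (hS j)
  choose U hU hUuniq using fun j => H j (f j ⁻¹' V) (hV.preimage (hf j))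
  let U₀ : Set Y := {y | ∃ j, ∃ h : y ∈ O j, (⟨y, h⟩ : O j) ∈ U j}
  have hres : ∀ j, (Subtype.val ⁻¹' U₀ : Set (O j)) = U j := by
    intro j
    ext ⟨y, hy⟩
    refine ⟨fun ⟨k, hk, hU'⟩ => ?_, fun h => ⟨j, hy, h⟩⟩
    obtain rfl : k = j := by_contra fun hne => Set.disjoint_left.mp (hdisj k j hne) hk hy
    exact hU'
  refine ⟨U₀, ⟨⟨⟨hloc _ fun j => ?_⟩, hloc _ fun j => by rw [hres]; exact (hU j).1.2⟩, ?_⟩, ?_⟩
  · rw [Set.preimage_compl, hres]
    exact (hU j).1.1.isOpen_compl
  · ext ⟨y, hy⟩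
    obtain ⟨j, hj⟩ := hcov y
    refine (Set.ext_iff.mp (hres j) ⟨y, hj⟩).trans ?_
    exact Set.ext_iff.mp (hU j).2 ⟨⟨y, hj⟩, hy⟩
  · rintro U' ⟨hU'cl, hU'V⟩
    ext y
    obtain ⟨j, hj⟩ := hcov y
    have h1 : (Subtype.val ⁻¹' U' : Set (O j)) = U j := hUuniq j _
      ⟨hU'cl.preimage continuous_subtype_val, by rw [← hU'V]; rfl⟩
    exact (Set.ext_iff.mp (h1.trans (hres j).symm) ⟨y, hj⟩)

theorem lifts_pullback_iff {Y S T : Scheme.{u}} (g : Y ⟶ S) (m : T ⟶ S) [IsClosedImmersion m] :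
    (∀ V : Set ↥(pullback g m), IsClopen V →
      ∃! U : Set ↥Y, IsClopen U ∧ (pullback.fst g m).base ⁻¹' U = V) ↔
      Lifts (g ⁻¹' Set.range m) := by
  exact iff_lifts (pullback.fst g m).isClosedEmbedding.isEmbedding
    (Scheme.Pullback.range_fst g m)


/-- Let (X_j) be a family of schemes indexed by a type ι, with closed immersions i_j : X_{j,0} ⟶ X_j,
and consider the induced morphism of disjoint unions ∐ X_{j,0} ⟶ ∐ X_j. Then the couple (∐ X_j, ∐
X_{j,0}) is henselian (for every finite morphism g : Y ⟶ ∐ X_j, every open-closed subset of the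
fibre product of Y with ∐ X_{j,0} is the inverse image under the first projection of exactly one
open-closed subset of Y) if and only if each couple (X_j, X_{j,0}) is henselian. -/
theorem result {ι : Type u} (X X₀ : ι → Scheme.{u})
    (i : ∀ j, X₀ j ⟶ X j) [∀ j, IsClosedImmersion (i j)] :
    (∀ (Y : Scheme.{u}) (g : Y ⟶ ∐ X), IsFinite g →
      ∀ V : Set ↥(pullback g (Limits.Sigma.map i)), IsClopen V →
        ∃! U : Set ↥Y, IsClopen U ∧ (pullback.fst g (Limits.Sigma.map i)).base ⁻¹' U = V) ↔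
    ∀ j : ι, ∀ (Y : Scheme.{u}) (g : Y ⟶ X j), IsFinite g →
      ∀ V : Set ↥(pullback g (i j)), IsClopen V →
        ∃! U : Set ↥Y, IsClopen U ∧ (pullback.fst g (i j)).base ⁻¹' U = V := by
  have hsq : ∀ j, IsPullback (i j) (Limits.Sigma.ι X₀ j) (Limits.Sigma.ι X j) (Limits.Sigma.map i) := by
    intro j
    refine IsOpenImmersion.isPullback (i j) (Limits.Sigma.ι X₀ j) (Limits.Sigma.ι X j)
      (Limits.Sigma.map i) (Limits.Sigma.ι_map _ _) ?_
    ext z
    obtain ⟨⟨k, z'⟩, rfl⟩ := (sigmaMk X₀).surjective z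
    rw [sigmaMk_mk]
    have e : Limits.Sigma.map i (Limits.Sigma.ι X₀ k z') = Limits.Sigma.ι X k (i k z') := by
      rw [← Scheme.Hom.comp_apply, Limits.Sigma.ι_map, Scheme.Hom.comp_apply]
    constructor
    · rintro ⟨w, hw⟩
      rw [e, sigmaι_eq_iff] at hw
      obtain rfl : j = k := congrArg Sigma.fst hw
      exact ⟨z', rfl⟩
    · rintro ⟨w, hw⟩
      rw [sigmaι_eq_iff] at hw
      obtain rfl : j = k := congrArg Sigma.fst hw
      exact ⟨i j z', e.symm⟩
  haveI : IsClosedImmersion (Limits.Sigma.map i) := by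
    refine IsZariskiLocalAtTarget.of_openCover (P := @IsClosedImmersion) (sigmaOpenCover X) fun j => ?_
    change IsClosedImmersion (pullback.snd (Limits.Sigma.map i) (Limits.Sigma.ι X j))
    rw [← (hsq j).flip.isoPullback_inv_snd]
    infer_instance
  have hrange : ∀ j, (Limits.Sigma.ι X j) ⁻¹' Set.range (Limits.Sigma.map i) = Set.range (i j) := by
    intro j
    ext x
    constructor
    · rintro ⟨z, hz⟩
      obtain ⟨⟨k, z'⟩, rfl⟩ := (sigmaMk X₀).surjective z
      rw [sigmaMk_mk, ← Scheme.Hom.comp_apply, Limits.Sigma.ι_map, Scheme.Hom.comp_apply,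
        sigmaι_eq_iff] at hz
      obtain rfl : k = j := congrArg Sigma.fst hz
      exact ⟨z', eq_of_heq (Sigma.mk.inj hz).2⟩
    · rintro ⟨z, rfl⟩
      exact ⟨Limits.Sigma.ι X₀ j z, by
        rw [← Scheme.Hom.comp_apply, Limits.Sigma.ι_map, Scheme.Hom.comp_apply]⟩
  constructor
  · intro H j Y g hg
    refine (lifts_pullback_iff g (i j)).mpr ?_
    haveI : IsClosedImmersion (Limits.Sigma.ι X j) := .of_isPreimmersion _ (by
      have : Set.range (Limits.Sigma.ι X j) =
          (⋃ (k) (_ : k ≠ j), Set.range (Limits.Sigma.ι X k))ᶜ := by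
        ext z
        obtain ⟨⟨k, z'⟩, rfl⟩ := (sigmaMk X).surjective z
        rw [sigmaMk_mk]
        simp only [Set.mem_range, sigmaι_eq_iff, Set.mem_compl_iff, Set.mem_iUnion, not_exists]
        constructor
        · rintro ⟨w, hw⟩ l hl w' hw'
          exact hl ((congrArg Sigma.fst hw').trans (congrArg Sigma.fst hw).symm)
        · intro hk
          by_cases hkj : k = j
          · subst hkj; exact ⟨z', rfl⟩
          · exact absurd rfl (hk k hkj z')
      rw [this]
      exact (isOpen_biUnion fun k _ => (Limits.Sigma.ι X k).isOpenEmbedding.isOpen_range).isClosed_compl)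
    have := (lifts_pullback_iff (g ≫ Limits.Sigma.ι X j) (Limits.Sigma.map i)).mp
      (H Y (g ≫ Limits.Sigma.ι X j) (by haveI := hg; infer_instance))
    rwa [Scheme.Hom.comp_base, TopCat.coe_comp, Set.preimage_comp, hrange] at this
  · intro H Y g hg
    haveI := hg
    refine (lifts_pullback_iff g (Limits.Sigma.map i)).mpr ?_
    let O : ι → Y.Opens := fun j => g ⁻¹ᵁ (Limits.Sigma.ι X j).opensRange
    refine lifts_of_partition (fun j => (O j : Set Y)) (fun j => (O j).2) ?_ ?_ _ fun j => ?_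
    · intro a b hab
      rw [Set.disjoint_left]
      rintro y ⟨w, hw⟩ ⟨w', hw'⟩
      exact hab (congrArg Sigma.fst ((sigmaι_eq_iff X a b w w').mp (hw.trans hw'.symm)))
    · intro y
      obtain ⟨⟨k, z⟩, hz⟩ := (sigmaMk X).surjective (g y)
      exact ⟨k, z, by rw [← hz, sigmaMk_mk]⟩
    · let g' : (O j).toScheme ⟶ X j :=
        (g ∣_ (Limits.Sigma.ι X j).opensRange) ≫ (Limits.Sigma.ι X j).isoOpensRange.inv
      have hg' : g' ≫ Limits.Sigma.ι X j = (O j).ι ≫ g := by simp [g', O]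
      have := (lifts_pullback_iff g' (i j)).mp (H j (O j).toScheme g' (by infer_instance))
      rwa [← hrange, ← Set.preimage_comp, ← TopCat.coe_comp, ← Scheme.Hom.comp_base, hg',
        Scheme.Hom.comp_base, TopCat.coe_comp, Set.preimage_comp] at this

end Groth.Agent.S17964
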