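import Groth.Statements.S17965
import Groth.Agent.Lib.HensCouple28.Basic
import Groth.Agent.Lib.Hensel.PairHull
import Groth.Agent.Lib.Hensel.Noetherian
import Groth.Agent.Lib.Hensel.PairFP

set_option autoImplicit false
open CategoryTheory CategoryTheory.Limits AlgebraicGeometry
universe u
open Hensel

namespace Groth.Agent.S17965

/-- Let A be a Noetherian ring, I an ideal of A, f : X ⟶ Spec A a proper morphism, i : X₀ = X ×_{Spec A}
Spec (A/I) ⟶ X the first projection, and assume that (X, X₀) is a henselian couple (for every finite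
morphism g : Y ⟶ X, every open-closed subset of Y ×_X X₀ is the inverse image under the first
projection of exactly one open-closed subset of Y). Then (X, X₀) is proper over a henselian pair:
there exist a Noetherian ring A' with an ideal I' such that (A', I') is a henselian pair, a proper
morphism f' : X ⟶ Spec A' and a morphism t : X₀ ⟶ Spec (A'/I') such that the square formed by i, t,
f' and Spec (A'/I') ⟶ Spec A' is cartesian. (The published statement asserts only that X is proper
over some henselian pair; this row also asks the ring of that pair to be Noetherian, which holds for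
the henselization of (A, I) that the proof uses.) -/
theorem result
    (A : Type u) [CommRing A] [IsNoetherianRing A] (I : Ideal A) {X : Scheme.{u}}
    (f : X ⟶ Spec (CommRingCat.of A)) [IsProper f]
    (hX : ∀ (Y : Scheme.{u}) (g : Y ⟶ X), IsFinite g →
      ∀ V : Set ↥(pullback g (pullback.fst f (Spec.map (CommRingCat.ofHom (Ideal.Quotient.mk I))))), IsClopen V →
        ∃! U : Set ↥Y, IsClopen U ∧ (pullback.fst g (pullback.fst f (Spec.map (CommRingCat.ofHom (Ideal.Quotient.mk I))))).base ⁻¹' U = V) :
    ∃ (A' : Type u) (_ : CommRing A') (I' : Ideal A') (_ : HenselianRing A' I') (_ : IsNoetherianRing A')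
      (f' : X ⟶ Spec (CommRingCat.of A')) (_ : IsProper f')
      (t : pullback f (Spec.map (CommRingCat.ofHom (Ideal.Quotient.mk I))) ⟶ Spec (CommRingCat.of (A' ⧸ I'))),
      IsPullback (pullback.fst f (Spec.map (CommRingCat.ofHom (Ideal.Quotient.mk I)))) t f' (Spec.map (CommRingCat.ofHom (Ideal.Quotient.mk I'))) := by
  open GrothLib.Hensel in
  haveI : IsClosedImmersion (Spec.map (CommRingCat.ofHom (Ideal.Quotient.mk I))) :=
    IsClosedImmersion.spec_of_surjective _ Ideal.Quotient.mk_surjective
  haveI : CompactSpace X := QuasiCompact.compactSpace_of_compactSpace f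
  haveI : QuasiSeparatedSpace X := quasiSeparatedSpace_of_quasiSeparated f
  let i := pullback.fst f (Spec.map (CommRingCat.ofHom (Ideal.Quotient.mk I)))
  let j0 := pullback.snd f (Spec.map (CommRingCat.ofHom (Ideal.Quotient.mk I)))
  have hJ := GrothLib.HensCouple28.henselianRing i hX
  let α : A →+* (Γ(X, ⊤) : Type u) :=
    ((Scheme.ΓSpecIso (CommRingCat.of A)).inv ≫ f.appTop).hom
  have hle : I.map α ≤ RingHom.ker i.appTop.hom := by
    refine Ideal.map_le_iff_le_comap.mpr fun a ha => ?_
    show i.appTop (f.appTop ((Scheme.ΓSpecIso (CommRingCat.of A)).inv a)) = 0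
    rw [← ConcreteCategory.comp_apply, ← Scheme.Hom.comp_appTop, pullback.condition,
      Scheme.Hom.comp_appTop, ← ConcreteCategory.comp_apply, ← Category.assoc,
      ← Scheme.ΓSpecIso_inv_naturality, ConcreteCategory.comp_apply, ConcreteCategory.comp_apply]
    show j0.appTop ((Scheme.ΓSpecIso (CommRingCat.of (A ⧸ I))).inv ((Ideal.Quotient.mk I) a)) = 0
    rw [Ideal.Quotient.eq_zero_iff_mem.2 ha, map_zero, map_zero]
  let A' := GrothLib.Hensel.Hull A (A ⧸ I)
  have hH : Hens2.IsPairHenselization A I A' := GrothLib.Hensel.PairHull.isPairHenselization A I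
  haveI := GrothLib.Hensel.IsPairHenselization.isNoetherianRing hH
  obtain ⟨g, hg, -⟩ := hH.2 (Γ(X, ⊤) : Type u) _ α hJ hle
  let I' : Ideal A' := I.map (algebraMap A A')
  let f' : X ⟶ Spec (CommRingCat.of A') := X.toSpecΓ ≫ Spec.map (CommRingCat.ofHom g)
  let θ : Spec (CommRingCat.of A') ⟶ Spec (CommRingCat.of A) :=
    Spec.map (CommRingCat.ofHom (algebraMap A A'))
  have hf' : f' ≫ θ = f := by
    show (X.toSpecΓ ≫ Spec.map (CommRingCat.ofHom g)) ≫ θ = f
    rw [Category.assoc, ← Spec.map_comp, ← CommRingCat.ofHom_comp, hg]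
    show X.toSpecΓ ≫ Spec.map ((Scheme.ΓSpecIso (CommRingCat.of A)).inv ≫ f.appTop) = f
    rw [Spec.map_comp, ← Scheme.toSpecΓ_naturality_assoc]
    simp
  haveI : IsProper (f' ≫ θ) := hf'.symm ▸ ‹IsProper f›
  haveI : IsProper f' := IsProper.of_comp f' θ
  let π : A' →ₐ[A] A ⧸ I := GrothLib.Hensel.Hull.proj
  have hk : RingHom.ker π.toRingHom = I' := GrothLib.Hensel.PairHull.ker_proj
  let e : A' ⧸ I' →+* A ⧸ I := Ideal.Quotient.lift I' π.toRingHom (fun a ha => hk.ge ha)
  let σ : A ⧸ I →+* A' ⧸ I' := Ideal.quotientMap I' (algebraMap A A') Ideal.le_comap_map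
  let t0 := j0 ≫ Spec.map (CommRingCat.ofHom e)
  let j : Spec (CommRingCat.of (A' ⧸ I')) ⟶ Spec (CommRingCat.of A') :=
    Spec.map (CommRingCat.ofHom (Ideal.Quotient.mk I'))
  haveI : IsClosedImmersion j := IsClosedImmersion.spec_of_surjective _ Ideal.Quotient.mk_surjective
  have hj : j ≫ θ = Spec.map (CommRingCat.ofHom σ) ≫ Spec.map (CommRingCat.ofHom (Ideal.Quotient.mk I)) := by
    rw [← Spec.map_comp, ← Spec.map_comp, ← CommRingCat.ofHom_comp, ← CommRingCat.ofHom_comp]
    refine congrArg (fun r => Spec.map (CommRingCat.ofHom r)) (RingHom.ext fun a => ?_)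
    rfl
  have hw : i ≫ f' = t0 ≫ j := by
    show i ≫ f' = (j0 ≫ Spec.map (CommRingCat.ofHom e)) ≫ j
    rw [Category.assoc, ← Spec.map_comp, ← CommRingCat.ofHom_comp,
      show e.comp (Ideal.Quotient.mk I') = π.toRingHom from RingHom.ext fun _ => rfl]
    haveI : IsAffine (Spec (CommRingCat.of A')) := inferInstance
    refine ext_of_isAffine ?_
    refine (cancel_epi (Scheme.ΓSpecIso (CommRingCat.of A')).inv).1 (CommRingCat.hom_ext ?_)
    have hJ0 : HenselianRing (Γ(pullback f (Spec.map (CommRingCat.ofHom (Ideal.Quotient.mk I))), ⊤) : Type u) ⊥ :=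
      GrothLib.Hensel.henselianRing_of_isNilpotent ⊥ fun x hx => ⟨1, by
        rw [pow_one]; exact (Submodule.mem_bot _).mp hx⟩
    refine GrothLib.Hensel.IsPairHenselization.ringHom_ext hH (⊥ : Ideal _) (hJ := hJ0) ?_ ?_
    · show ((Scheme.ΓSpecIso (CommRingCat.of A')).inv ≫ (i ≫ f').appTop).hom.comp (CommRingCat.ofHom (algebraMap A A')).hom
        = ((Scheme.ΓSpecIso (CommRingCat.of A')).inv ≫ (j0 ≫ Spec.map (CommRingCat.ofHom π.toRingHom)).appTop).hom.comp (CommRingCat.ofHom (algebraMap A A')).hom
      rw [← CommRingCat.hom_comp, ← CommRingCat.hom_comp]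
      refine congrArg CommRingCat.Hom.hom ?_
      rw [Scheme.ΓSpecIso_inv_naturality_assoc, Scheme.ΓSpecIso_inv_naturality_assoc,
        ← Scheme.Hom.comp_appTop, ← Scheme.Hom.comp_appTop,
        show (i ≫ f') ≫ Spec.map (CommRingCat.ofHom (algebraMap A A')) = i ≫ f from
          (Category.assoc _ _ _).trans (congrArg (fun m => i ≫ m) hf'),
        Category.assoc, ← Spec.map_comp, ← CommRingCat.ofHom_comp,
        show π.toRingHom.comp (algebraMap A A') = Ideal.Quotient.mk I from π.comp_algebraMap]
      exact congrArg (fun m => _ ≫ Scheme.Hom.appTop m) pullback.condition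
    · refine Ideal.map_le_iff_le_comap.mpr fun a ha => ?_
      show ((Scheme.ΓSpecIso (CommRingCat.of A')).inv ≫ (i ≫ f').appTop) (algebraMap A A' a) = 0
      have hfa : ((Scheme.ΓSpecIso (CommRingCat.of A')).inv ≫ (i ≫ f').appTop) (algebraMap A A' a) =
          i.appTop (α a) := by
        show ((CommRingCat.ofHom (algebraMap A A')) ≫ (Scheme.ΓSpecIso (CommRingCat.of A')).inv ≫
          (i ≫ f').appTop) a = ((Scheme.ΓSpecIso (CommRingCat.of A)).inv ≫ f.appTop ≫ i.appTop) a
        refine congrArg (fun m : CommRingCat.of A ⟶ _ => m a) ?_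
        rw [Scheme.ΓSpecIso_inv_naturality_assoc, ← Scheme.Hom.comp_appTop, ← Scheme.Hom.comp_appTop,
          show (i ≫ f') ≫ Spec.map (CommRingCat.ofHom (algebraMap A A')) = i ≫ f from
            (Category.assoc _ _ _).trans (congrArg (fun m => i ≫ m) hf')]
      rw [hfa]
      exact hle (Ideal.mem_map_of_mem _ ha)
  refine ⟨A', inferInstance, I', GrothLib.Hensel.PairHull.henselianRing A I, inferInstance, f',
    inferInstance, t0, IsPullback.of_isLimit' ⟨hw⟩ (PullbackCone.IsLimit.mk hw
      (fun s => pullback.lift s.fst (s.snd ≫ Spec.map (CommRingCat.ofHom σ)) (by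
        rw [Category.assoc, ← hj, ← Category.assoc s.snd]
        exact (congrArg (s.fst ≫ ·) hf'.symm).trans
          ((Category.assoc _ _ _).symm.trans (congrArg (· ≫ θ) s.condition))))
      (fun s => pullback.lift_fst _ _ _)
      (fun s => (cancel_mono j).1 (by
        rw [Category.assoc, ← hw, ← Category.assoc, pullback.lift_fst]
        exact s.condition))
      (fun s m h1 h2 => pullback.hom_ext (h1.trans (pullback.lift_fst _ _ _).symm)
        ((cancel_mono (Spec.map (CommRingCat.ofHom (Ideal.Quotient.mk I)))).1 (by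
          rw [Category.assoc, Category.assoc, ← pullback.condition, ← Category.assoc,
            ← Category.assoc, h1, pullback.lift_fst]))))⟩

end Groth.Agent.S17965
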