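import Groth.Statements.S17966
import Groth.Agent.ProperBC21.Main
import Groth.Agent.S17965

set_option autoImplicit false
open CategoryTheory CategoryTheory.Limits AlgebraicGeometry
universe u
open Pi1

namespace Groth.Agent.S17966

/-- Let A be a Noetherian ring, I an ideal of A, f : X ⟶ Spec A a proper morphism, i : X₀ = X ×_{Spec A}
Spec (A/I) ⟶ X the first projection, and assume that (X, X₀) is a henselian couple (for every finite
morphism g : Y ⟶ X, every open-closed subset of Y ×_X X₀ is the inverse image under the first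
projection of exactly one open-closed subset of Y). Then for every finite morphism g : X' ⟶ X, base
change of finite etale covers along the first projection X' ×_X X₀ ⟶ X' is an equivalence of
categories. -/
theorem result
    (A : Type u) [CommRing A] [IsNoetherianRing A] (I : Ideal A) {X : Scheme.{u}}
    (f : X ⟶ Spec (CommRingCat.of A)) [IsProper f]
    (hX : ∀ (Y : Scheme.{u}) (g : Y ⟶ X), IsFinite g →
      ∀ V : Set ↥(pullback g (pullback.fst f (Spec.map (CommRingCat.ofHom (Ideal.Quotient.mk I))))), IsClopen V →
        ∃! U : Set ↥Y, IsClopen U ∧ (pullback.fst g (pullback.fst f (Spec.map (CommRingCat.ofHom (Ideal.Quotient.mk I))))).base ⁻¹' U = V)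
    {X' : Scheme.{u}} (g : X' ⟶ X) [IsFinite g] :
    (FEt.restrict (pullback.fst g (pullback.fst f (Spec.map (CommRingCat.ofHom (Ideal.Quotient.mk I)))))).IsEquivalence := by
  obtain ⟨A', _, I', _, _, f', _, t, hsq⟩ := Groth.Agent.S17965.result A I f hX
  let i₀ := pullback.fst f (Spec.map (CommRingCat.ofHom (Ideal.Quotient.mk I)))
  have hsq' : IsPullback (pullback.fst g i₀) (pullback.snd g i₀ ≫ t) (g ≫ f')
      (Spec.map (CommRingCat.ofHom (Ideal.Quotient.mk I'))) :=
    (IsPullback.of_hasPullback g i₀).paste_vert hsq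
  have e : pullback.fst g i₀ = hsq'.isoPullback.hom ≫
      pullback.fst (g ≫ f') (Spec.map (CommRingCat.ofHom (Ideal.Quotient.mk I'))) :=
    hsq'.isoPullback_hom_fst.symm
  haveI : IsProper (g ≫ f') := inferInstance
  haveI := Groth.Agent.ProperBC21.isEquivalence_restrict I' (g ≫ f')
  haveI : (FEt.restrict hsq'.isoPullback.hom).IsEquivalence :=
    GrothLib.FEt21.isEquivalence_of_thickening hsq'.isoPullback.hom
  haveI : (FEt.restrict (pullback.fst (g ≫ f') (Spec.map (CommRingCat.ofHom (Ideal.Quotient.mk I')))) ⋙
      FEt.restrict hsq'.isoPullback.hom).IsEquivalence := inferInstance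
  exact Functor.isEquivalence_of_iso (F := FEt.restrict (pullback.fst (g ≫ f') (Spec.map (CommRingCat.ofHom (Ideal.Quotient.mk I')))) ⋙
      FEt.restrict hsq'.isoPullback.hom)
    ((MorphismProperty.Over.pullbackComp (P := FEt.prop) (Q := ⊤) hsq'.isoPullback.hom
      (pullback.fst (g ≫ f') (Spec.map (CommRingCat.ofHom (Ideal.Quotient.mk I'))))).symm ≪≫
      MorphismProperty.Over.pullbackCongr (P := FEt.prop) (Q := ⊤) e.symm)

end Groth.Agent.S17966
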