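import Groth.Statements.S17968
import Groth.Agent.Lib.Hensel.Pair

set_option autoImplicit false
universe u
open Hensel

namespace Groth.Agent.S17968

/-- Let A be a commutative ring and I an ideal contained in the Jacobson radical of A. Suppose that for
every natural number m and every monic polynomial p over A whose reduction modulo I is the reduction
of (T^2 - T)^m, every idempotent of B/IB is the image of an idempotent of B, where B = A[T]/(p).
Then (A, I) is a henselian pair. -/
theorem result (A : Type u) [CommRing A]
    (I : Ideal A) (hI : I ≤ Ideal.jacobson ⊥)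
    (h : ∀ (m : ℕ) (p : Polynomial A), p.Monic →
      Polynomial.map (Ideal.Quotient.mk I) p =
        Polynomial.map (Ideal.Quotient.mk I) ((Polynomial.X ^ 2 - Polynomial.X) ^ m) →
      Set.SurjOn (Ideal.Quotient.mk (Ideal.map (algebraMap A (AdjoinRoot p)) I))
        {e : AdjoinRoot p | IsIdempotentElem e} {e | IsIdempotentElem e}) :
    HenselianRing A I := by
  open Polynomial in
    classical
    refine ⟨hI, fun f hf a₀ h₁ h₂ ↦
      GrothLib.Hensel.exists_root_of_idem_lift hI f hf a₀ h₁ h₂ fun d hd _ _ ↦ ?_⟩
    let B := AdjoinRoot f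
    let J : Ideal B := I.map (algebraMap A B)
    haveI := hf.finite_adjoinRoot
    obtain ⟨r, hr, -, hrc, hr0⟩ :=
      LinearMap.exists_monic_and_natDegree_eq_and_coeff_mem_pow_and_aeval_eq_zero
        A (Algebra.lmul A B (d * d - d)) I (by
          rintro _ ⟨x, rfl⟩
          rw [Ideal.smul_top_eq_map, Submodule.restrictScalars_mem]
          exact Ideal.mul_mem_right _ _ hd)
    have hr1 : aeval (d * d - d) r = 0 := by
      rw [aeval_algHom_apply] at hr0
      simpa using LinearMap.congr_fun hr0 1
    set m := r.natDegree
    have hrmap : r.map (Ideal.Quotient.mk I) = X ^ m := by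
      ext k
      rw [coeff_map, coeff_X_pow]
      split_ifs with hk
      · rw [hk, hr.coeff_natDegree, map_one]
      · rcases lt_or_gt_of_ne hk with hlt | hgt
        · exact Ideal.Quotient.eq_zero_iff_mem.2
            (Ideal.pow_le_self (Nat.sub_ne_zero_of_lt hlt) (hrc k))
        · rw [coeff_eq_zero_of_natDegree_lt hgt, map_zero]
    let p : A[X] := r.comp (X ^ 2 - X)
    cases subsingleton_or_nontrivial A with
    | inl hA =>
      haveI : Subsingleton (AdjoinRoot f) := Module.subsingleton A _
      exact ⟨d, Subsingleton.elim _ _, by simp⟩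
    | inr hA =>
      have hdeg : (X ^ 2 - X : A[X]).natDegree = 2 := by
        apply natDegree_eq_of_degree_eq_some
        rw [degree_sub_eq_left_of_degree_lt (by simp [degree_X_pow, degree_X]), degree_X_pow]
      have hq : (X ^ 2 - X : A[X]).Monic := monic_X_pow_sub (by simp [degree_X])
      have hp : p.Monic := hr.comp hq (by rw [hdeg]; norm_num)
      have hpm : p.map (Ideal.Quotient.mk I) =
          ((X ^ 2 - X) ^ m : A[X]).map (Ideal.Quotient.mk I) := by
        rw [map_comp, hrmap, X_pow_comp, Polynomial.map_pow]
      let Jp : Ideal (AdjoinRoot p) := I.map (algebraMap A (AdjoinRoot p))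
      let t := Ideal.Quotient.mk Jp (AdjoinRoot.root p)
      have ht : IsNilpotent (t * t - t) := by
        refine ⟨m, ?_⟩
        have hc : (algebraMap A (AdjoinRoot p ⧸ Jp)) =
            (Ideal.quotientMap Jp (algebraMap A (AdjoinRoot p)) Ideal.le_comap_map).comp
              (Ideal.Quotient.mk I) := RingHom.ext fun _ => rfl
        have e0 : aeval t p = 0 := by
          rw [show t = Ideal.Quotient.mkₐ A Jp (AdjoinRoot.root p) from rfl, aeval_algHom_apply,
            AdjoinRoot.aeval_eq, AdjoinRoot.mk_self, map_zero]
        rw [aeval_def, hc, ← eval₂_map, hpm, eval₂_map, ← hc, ← aeval_def] at e0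
        simpa [pow_two] using e0
      -- an idempotent congruent to `t` modulo nilpotents
      obtain ⟨e', he'i, he'⟩ := exists_isIdempotentElem_eq_of_ker_isNilpotent
        (Ideal.Quotient.mk (nilradical (AdjoinRoot p ⧸ Jp)))
        (fun x hx => mem_nilradical.1 (Ideal.Quotient.eq_zero_iff_mem.1 hx))
        (Ideal.Quotient.mk _ t) ⟨t, rfl⟩ (by
          show _ * _ = _
          rw [← map_mul]
          exact Ideal.Quotient.eq.2 (mem_nilradical.2 ht))
      obtain ⟨E, hE, hEe⟩ := h m p hp hpm he'i
      let φ : AdjoinRoot p →ₐ[A] B := AdjoinRoot.liftAlgHom p (Algebra.ofId A B) d (by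
        show aeval d p = 0
        rw [aeval_comp]
        simpa [pow_two] using hr1)
      let ψ : AdjoinRoot p ⧸ Jp →+* B ⧸ J := Ideal.quotientMap J φ.toRingHom (by
        rw [Ideal.map_le_iff_le_comap]
        intro a ha
        show φ (algebraMap A _ a) ∈ J
        rw [AlgHom.commutes]
        exact Ideal.mem_map_of_mem _ ha)
      refine ⟨φ E, hE.map φ, ?_⟩
      rw [← Ideal.Quotient.eq]
      have hnil : IsNilpotent (ψ e' - Ideal.Quotient.mk J d) := by
        have h0 : IsNilpotent (e' - t) := mem_nilradical.1 (Ideal.Quotient.eq.1 he')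
        have := h0.map ψ
        rwa [map_sub, show ψ t = Ideal.Quotient.mk J d by
          show Ideal.Quotient.mk J (φ (AdjoinRoot.root p)) = _
          simp [φ]] at this
      have hψE : ψ e' = Ideal.Quotient.mk J (φ E) := by rw [← hEe]; rfl
      rw [hψE] at hnil
      refine eq_of_isNilpotent_sub_of_isIdempotentElem ((hE.map φ).map _) ?_ hnil
      show _ * _ = _
      rw [← map_mul]
      exact Ideal.Quotient.eq.2 hd
end Groth.Agent.S17968
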