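import Groth.Statements.S17969
import Groth.Agent.Lib.CAlgMisc.Monogenic
-- import your own Groth.Agent.* helpers here

set_option autoImplicit false
universe u
open scoped TensorProduct
open CAlg

namespace Groth.Agent.S17969

/-- Let A be an integrally closed domain with fraction field K and B a commutative A-algebra which is
finite and torsion-free as an A-module and generated as an A-algebra by a single element x. Let P be
the characteristic polynomial of multiplication by 1 ⊗ x on the finite free K-module K ⊗_A B. Then P
has coefficients in A, namely P is the image of a monic polynomial over A, and the kernel of the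
A-algebra map A[T] → B sending T to x is generated by that polynomial, so that B is A[T]/(P). -/
theorem result
    (A : Type u) [CommRing A] [IsDomain A] [IsIntegrallyClosed A]
    (B : Type u) [CommRing B] [Algebra A B] [Module.Finite A B] [NoZeroSMulDivisors A B]
    (x : B) (hx : Algebra.adjoin A {x} = ⊤) :
    ∃ P : Polynomial A, P.Monic ∧
      Polynomial.map (algebraMap A (FractionRing A)) P =
        (LinearMap.mulLeft (FractionRing A) ((1 : FractionRing A) ⊗ₜ[A] x)).charpoly ∧
      RingHom.ker (Polynomial.aeval x).toRingHom = Ideal.span {P} := by
  exact GrothLib.CAlgMisc.ker_aeval_eq_span_charpoly x hx

end Groth.Agent.S17969
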