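import Groth.Statements.S1797
import Groth.Agent.Lib.Punctured.CoherentCohom
import Groth.Agent.Lib.Cohom.Serre
import Groth.Agent.S0332
import Groth.Agent.Lib.FormalUnibranch.Basic
import Groth.Agent.Lib.Ratliff.Excellent
import Groth.Agent.Lib.HLVT.ComplDim

set_option autoImplicit false
universe u
open LocCoh

namespace Groth.Agent.S1797

/-- Let A be an excellent normal Noetherian local ring (an integrally closed domain) and I an ideal with
dim V(I) ≥ 1, i.e. dim A/I ≥ 1. Then cd(A, I) < dim A: for every A-module M, H^i_I(M) = 0 whenever i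
≥ dim A. Moreover, if dim A = 2 then the open subscheme Spec A ∖ V(I) is affine. -/
theorem result (A : Type u) [CommRing A] [IsDomain A] [IsLocalRing A] [IsNoetherianRing A] [IsIntegrallyClosed A] (hA : EGA4.IsExcellent A) (I : Ideal A) (hI : (1 : WithBot ℕ∞) ≤ ringKrullDim (A ⧸ I)) : (∀ (M : Type u) [AddCommGroup M] [Module A M] (i : ℕ), ringKrullDim A ≤ (i : WithBot ℕ∞) → Subsingleton (LocCoh.H I i M)) ∧ (ringKrullDim A = 2 → AlgebraicGeometry.IsAffine (↑(LocCoh.puncturedOpen A I) : AlgebraicGeometry.Scheme.{u})) := by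
    have hN : EGA4.HasGeomNormalFormalFibres A := fun p hp =>
      (GrothLib.NormalHom.isNormalHom_of_isRegularHom (GrothLib.Ratliff.isRegularHom_cpl_of_isGRing A hA.2.2.1)).2 p
    haveI hC : IsDomain (EGA4.Cpl A) := by
      haveI : Algebra.IsIntegral A A := Algebra.IsIntegral.of_surjective (Algebra.ofId A A) fun x => ⟨x, rfl⟩
      obtain ⟨-, hd, -⟩ := GrothLib.FormalUnibranch.tensor_normal_domain A hN A
      haveI := hd
      exact (Algebra.TensorProduct.rid A A (EGA4.Cpl A)).symm.toMulEquiv.isDomain _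
    haveI : Module.FaithfullyFlat A (EGA4.Cpl A) := GrothLib.Excellent.faithfullyFlat_cpl A
    obtain ⟨d, hd⟩ : ∃ d : ℕ, ringKrullDim A = d := by
      obtain ⟨d, hd⟩ := ENat.ne_top_iff_exists.1
        (Ideal.height_ne_top (I := IsLocalRing.maximalIdeal A) Ideal.IsPrime.ne_top')
      exact ⟨d, by rw [← IsLocalRing.maximalIdeal_height_eq_ringKrullDim, ← hd]; rfl⟩
    have hcd : ∀ (M : Type u) [AddCommGroup M] [Module A M] (i : ℕ), ringKrullDim A ≤ (i : WithBot ℕ∞) →
        Subsingleton (LocCoh.H I i M) := by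
      intro M _ _ i hi
      refine Groth.Agent.S0332.result A I d hd (fun p hp _ => ?_) M i (by rw [hd] at hi; exact_mod_cast hi)
      rw [IsDomain.minimalPrimes_eq_singleton_bot, Set.mem_singleton_iff] at hp
      subst hp
      rw [sup_bot_eq, GrothLib.HLVT.ringKrullDim_map_completion]
      exact hI
    refine ⟨hcd, fun h2 => ?_⟩
    have h1 : LocCoh.CdLE A I 1 := fun M _ _ i hi => hcd M i (by rw [h2]; exact_mod_cast hi)
    have hqc := GrothLib.Punctured.quasiCompact_ι I
    have : CompactSpace (↑(LocCoh.puncturedOpen A I) : AlgebraicGeometry.Scheme.{u}) :=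
      isCompact_iff_compactSpace.1 (GrothLib.Punctured.isCompact_puncturedOpen I (IsNoetherian.noetherian I))
    refine GrothLib.Cohom.isAffine_of_subH1Zero ?_
    intro N i _ hN
    obtain ⟨M, ⟨e⟩⟩ := GrothLib.Punctured.exists_puncFun_iso I N
    obtain ⟨f⟩ := GrothLib.Punctured.nonempty_HH_equiv_of_iso I N M e 0
    haveI : Subsingleton ((localCohomology (R := CommRingCat.of A) I 2).obj M) := h1 M 2 (by norm_num)
    exact GrothLib.Cohom.subsingleton_ext_top_of_HH f.toEquiv.subsingleton

end Groth.Agent.S1797
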