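import Groth.Statements.S17973
import Groth.Agent.Lib.EssEtLoc.Standard
-- import your own Groth.Agent.* helpers here

set_option autoImplicit false
universe u
open EGA4loc

namespace Groth.Agent.S17973

/-- Let A be a local ring, B a local ring which is a local-etale A-algebra (isomorphic over A to the
localization of an etale A-algebra at a prime ideal lying over the maximal ideal of A), and C a
local-etale B-algebra, regarded as an A-algebra through B. Then C is a local-etale A-algebra. -/
theorem result (A : Type u) [CommRing A] [IsLocalRing A]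
    (B : Type u) [CommRing B] [IsLocalRing B] [Algebra A B]
    (C : Type u) [CommRing C] [Algebra B C] [Algebra A C] [IsScalarTower A B C]
    (hB : EGA4loc.IsEssentiallyEtale A B) (hC : EGA4loc.IsEssentiallyEtale B C) :
    EGA4loc.IsEssentiallyEtale A C := by
  haveI hloc : IsLocalRing C := by
    obtain ⟨C', _, _, q, _, -, -, ⟨e⟩⟩ := id hC
    exact e.symm.toRingEquiv.isLocalRing
  haveI hBl := GrothLib.EssEtLoc.isLocalHom_algebraMap hB
  haveI hCl := GrothLib.EssEtLoc.isLocalHom_algebraMap hC
  haveI := GrothLib.EssEtLoc.formallyEtale hB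
  haveI := GrothLib.EssEtLoc.formallyEtale hC
  haveI := GrothLib.EssEtLoc.essFiniteType hB
  haveI := GrothLib.EssEtLoc.essFiniteType hC
  haveI := GrothLib.EssEtLoc.flat hB
  haveI := GrothLib.EssEtLoc.flat hC
  haveI : Algebra.FormallyEtale A C := Algebra.FormallyEtale.comp A B C
  haveI : Algebra.EssFiniteType A C := Algebra.EssFiniteType.comp A B C
  haveI : Module.Flat A C := Module.Flat.trans A B C
  haveI hAC : IsLocalHom (algebraMap A C) := by
    rw [IsScalarTower.algebraMap_eq A B C]
    exact RingHom.isLocalHom_comp _ _
  obtain ⟨P, q, hq, ⟨e⟩⟩ := GrothLib.EssEtLoc.exists_standardEtale_equiv (A := A) (D := C)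
  refine ⟨P.Ring, inferInstance, inferInstance, q, hq, inferInstance, ?_, ⟨e⟩⟩
  refine Ideal.ext fun a => ?_
  rw [Ideal.mem_comap, IsLocalRing.mem_maximalIdeal, mem_nonunits_iff, ← isUnit_map_iff (algebraMap A C) a,
    ← isUnit_map_iff e, e.commutes, IsScalarTower.algebraMap_apply A P.Ring (Localization.AtPrime q),
    IsLocalization.AtPrime.isUnit_to_map_iff (Localization.AtPrime q) q]
  exact not_not.symm

end Groth.Agent.S17973
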