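import Groth.Statements.S17974
import Mathlib.RingTheory.Unramified.Finite
import Mathlib.RingTheory.Localization.Away.Basic
-- import your own Groth.Agent.* helpers here

set_option autoImplicit false
universe u
open Unram

namespace Groth.Agent.S17974

/-- Let A be a commutative ring, B an unramified A-algebra (formally unramified and of finite type), C
an A-algebra, p a prime ideal of C, and u, v : B → C two A-algebra homomorphisms which agree after
composition with C → C/p. Then there is an element f of C not in p such that u and v agree after
composition with the localization map C → C[1/f]. -/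
theorem result
    (A : Type u) [CommRing A] (B : Type u) [CommRing B] [Algebra A B]
    [Algebra.FormallyUnramified A B] [Algebra.FiniteType A B]
    (C : Type u) [CommRing C] [Algebra A C] (p : Ideal C) [p.IsPrime]
    (u v : B →ₐ[A] C)
    (huv : (Ideal.Quotient.mk p).comp u.toRingHom = (Ideal.Quotient.mk p).comp v.toRingHom) :
    ∃ f : C, f ∉ p ∧
      (algebraMap C (Localization.Away f)).comp u.toRingHom =
        (algebraMap C (Localization.Away f)).comp v.toRingHom := by
  let Φ := Algebra.TensorProduct.productMap u v
  set E := Φ (Algebra.FormallyUnramified.elem A B)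
  have hE1 : Ideal.Quotient.mk p E = 1 := by
    have : (Ideal.Quotient.mkₐ A p).comp Φ =
        ((Ideal.Quotient.mkₐ A p).comp u).comp (Algebra.TensorProduct.lmul' A) := by
      refine Algebra.TensorProduct.ext' fun a b ↦ ?_
      have hb : Ideal.Quotient.mk p (v b) = Ideal.Quotient.mk p (u b) := (RingHom.congr_fun huv b).symm
      simp [Φ, hb]
    have := AlgHom.congr_fun this (Algebra.FormallyUnramified.elem A B)
    simp only [AlgHom.comp_apply, Algebra.FormallyUnramified.lmul_elem, map_one] at this
    exact this
  refine ⟨E, fun h ↦ ?_, RingHom.ext fun x ↦ ?_⟩
  · rw [Ideal.Quotient.eq_zero_iff_mem.mpr h] at hE1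
    exact zero_ne_one hE1
  have := congrArg Φ (Algebra.FormallyUnramified.one_tmul_mul_elem (R := A) x)
  rw [map_mul, map_mul] at this
  have h1 : v x * E = u x * E := by simpa [Φ, E] using this
  refine (IsLocalization.Away.algebraMap_isUnit (S := Localization.Away E) E).mul_right_cancel ?_
  show algebraMap C _ (u x) * algebraMap C _ E = algebraMap C _ (v x) * algebraMap C _ E
  rw [← map_mul, ← map_mul, h1]
end Groth.Agent.S17974
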