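import Groth.Statements.S17975
import Mathlib.RingTheory.AdjoinRoot
import Mathlib.RingTheory.Nakayama
-- import your own Groth.Agent.* helpers here

set_option autoImplicit false
universe u
open Hensel

namespace Groth.Agent.S17975

/-- Let A be a local ring with maximal ideal m and residue field k, C a commutative A-algebra which is
finitely generated as an A-module, Q₀ a monic polynomial of degree n over k, e an A-algebra
isomorphism from C/mC to k[T]/(Q₀), and x an element of C whose class is sent by e to the class of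
T. Then x generates C as an A-algebra, and x is a root of a monic polynomial Q over A of degree n
whose reduction modulo m equals Q₀. -/
theorem result
    (A : Type u) [CommRing A] [IsLocalRing A] (C : Type u) [CommRing C] [Algebra A C] [Module.Finite A C]
    (Q₀ : Polynomial (IsLocalRing.ResidueField A)) (hQ₀ : Q₀.Monic)
    (e : (C ⧸ Ideal.map (algebraMap A C) (IsLocalRing.maximalIdeal A)) ≃ₐ[A] AdjoinRoot Q₀)
    (x : C) (hx : e (Ideal.Quotient.mk (Ideal.map (algebraMap A C) (IsLocalRing.maximalIdeal A)) x) = AdjoinRoot.root Q₀) :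
    Algebra.adjoin A {x} = ⊤ ∧
      ∃ Q : Polynomial A, Q.Monic ∧ Q.natDegree = Q₀.natDegree ∧
        Polynomial.map (IsLocalRing.residue A) Q = Q₀ ∧ Polynomial.aeval x Q = 0 := by
  classical
  set n := Q₀.natDegree
  have hpow : ∀ i : ℕ, e (Ideal.Quotient.mk (Ideal.map (algebraMap A C) (IsLocalRing.maximalIdeal A)) (x ^ i)) = AdjoinRoot.root Q₀ ^ i := fun i ↦ by
    rw [map_pow, map_pow, hx]
  let v : (Fin n → A) →ₗ[A] C := Fintype.linearCombination A fun i : Fin n ↦ x ^ (i : ℕ)
  have hsurj : Function.Surjective v := by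
    refine LinearMap.surjective_of_surjective_comp_mkQ v (IsLocalRing.maximalIdeal A)
      (IsLocalRing.maximalIdeal_le_jacobson ⊥) fun y ↦ ?_
    obtain ⟨y, rfl⟩ := Submodule.Quotient.mk_surjective _ y
    let pb := AdjoinRoot.powerBasis' hQ₀
    have hrepr := pb.basis.sum_repr (e (Ideal.Quotient.mk (Ideal.map (algebraMap A C) (IsLocalRing.maximalIdeal A)) y))
    choose a ha using fun i ↦ IsLocalRing.residue_surjective
      (pb.basis.repr (e (Ideal.Quotient.mk (Ideal.map (algebraMap A C) (IsLocalRing.maximalIdeal A)) y)) i)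
    refine ⟨fun i : Fin n ↦ a i, (Submodule.Quotient.eq _).mpr ?_⟩
    rw [Ideal.smul_top_eq_map]
    show v (fun i : Fin n ↦ a i) - y ∈ (Ideal.map (algebraMap A C) (IsLocalRing.maximalIdeal A))
    rw [← Ideal.Quotient.eq]
    apply e.injective
    conv_rhs => rw [← hrepr]
    show e (Ideal.Quotient.mk (Ideal.map (algebraMap A C) (IsLocalRing.maximalIdeal A)) (∑ i : Fin n, a i • x ^ (i : ℕ))) = _
    rw [map_sum, map_sum]
    refine Finset.sum_congr rfl fun i _ ↦ ?_
    rw [← Ideal.Quotient.mkₐ_eq_mk A, map_smul, Ideal.Quotient.mkₐ_eq_mk, map_smul, hpow,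
      PowerBasis.coe_basis, AdjoinRoot.powerBasis'_gen, ← ha i, ← IsLocalRing.ResidueField.algebraMap_eq,
      algebraMap_smul]
  refine ⟨?_, ?_⟩
  · rw [eq_top_iff]
    rintro y -
    obtain ⟨a, rfl⟩ := hsurj y
    show ∑ i : Fin n, a i • x ^ (i : ℕ) ∈ _
    exact sum_mem fun i _ ↦ Subalgebra.smul_mem _
      (pow_mem (Algebra.subset_adjoin (Set.mem_singleton x)) _) _
  obtain ⟨c, hc⟩ := hsurj (x ^ n)
  set P : Polynomial A := ∑ i : Fin n, Polynomial.C (c i) * Polynomial.X ^ (i : ℕ)
  set Q := Polynomial.X ^ n - P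
  have hdeg : P.degree < n :=
    (Polynomial.degree_sum_le _ _).trans_lt ((Finset.sup_lt_iff (WithBot.bot_lt_coe n)).mpr
      fun i _ ↦ (Polynomial.degree_C_mul_X_pow_le _ _).trans_lt (Nat.cast_lt.mpr i.isLt))
  have hQm : Q.Monic := Polynomial.monic_X_pow_sub hdeg
  have hQn : Q.natDegree = n := by
    refine Polynomial.natDegree_eq_of_degree_eq_some ?_
    rw [Polynomial.degree_sub_eq_left_of_degree_lt (by rwa [Polynomial.degree_X_pow]),
      Polynomial.degree_X_pow]
  have haev : Polynomial.aeval x Q = 0 := by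
    rw [map_sub, map_pow, Polynomial.aeval_X, map_sum, sub_eq_zero, ← hc]
    show ∑ i : Fin n, c i • x ^ (i : ℕ) = _
    exact Finset.sum_congr rfl fun i _ ↦ by
      rw [map_mul, Polynomial.aeval_C, map_pow, Polynomial.aeval_X, Algebra.smul_def]
  refine ⟨Q, hQm, hQn, ?_, haev⟩
  have h1 := congrArg (e.toAlgHom.comp (Ideal.Quotient.mkₐ A (Ideal.map (algebraMap A C) (IsLocalRing.maximalIdeal A)))) haev
  rw [← Polynomial.aeval_algHom_apply, map_zero,
    show (e.toAlgHom.comp (Ideal.Quotient.mkₐ A (Ideal.map (algebraMap A C) (IsLocalRing.maximalIdeal A)))) x = AdjoinRoot.root Q₀ from hx,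
    ← Polynomial.aeval_map_algebraMap (IsLocalRing.ResidueField A), AdjoinRoot.aeval_eq,
    AdjoinRoot.mk_eq_zero] at h1
  refine Polynomial.eq_of_monic_of_dvd_of_natDegree_le hQ₀ (hQm.map _) ?_ ?_
  · exact h1
  · rw [hQm.natDegree_map, hQn]
end Groth.Agent.S17975
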