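import Groth.Statements.S17976
import Groth.Agent.Lib.EtFinNhd10.Basic

set_option autoImplicit false
universe u
open Hensel

namespace Groth.Agent.S17976

/-- Let A be a commutative ring, I an ideal of A and B an A-algebra of finite type such that B/IB is a
finite A-module. Then there exist an etale A-algebra A' such that A → A'/IA' is surjective with
kernel I, and a commutative ring C which is an A'-algebra finite over A' and an etale B-algebra,
with compatible A-algebra structures, such that B → C/IC is surjective with kernel IB. In scheme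
language: an etale affine neighbourhood S' of Spec (A/I) in Spec A and an etale neighbourhood Z =
Spec C of Spec (B/IB) in Spec B, finite over S', forming a commutative square. -/
theorem result
    (A : Type u) [CommRing A] (I : Ideal A) (B : Type u) [CommRing B] [Algebra A B] [Algebra.FiniteType A B]
    (hfin : Module.Finite A (B ⧸ Ideal.map (algebraMap A B) I)) :
    ∃ (A' : Type u) (_ : CommRing A') (_ : Algebra A A') (_ : Algebra.Etale A A')
      (C : Type u) (_ : CommRing C) (_ : Algebra A C) (_ : Algebra A' C) (_ : Algebra B C)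
      (_ : IsScalarTower A A' C) (_ : IsScalarTower A B C),
      Function.Surjective ((Ideal.Quotient.mk (Ideal.map (algebraMap A A') I)).comp (algebraMap A A')) ∧
      RingHom.ker ((Ideal.Quotient.mk (Ideal.map (algebraMap A A') I)).comp (algebraMap A A')) = I ∧
      Algebra.Etale B C ∧ Module.Finite A' C ∧
      Function.Surjective ((Ideal.Quotient.mk (Ideal.map (algebraMap A C) I)).comp (algebraMap B C)) ∧
      RingHom.ker ((Ideal.Quotient.mk (Ideal.map (algebraMap A C) I)).comp (algebraMap B C)) =
        Ideal.map (algebraMap A B) I := by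
  haveI := hfin
  obtain ⟨A', _, _, _, hbij, g, hg, hgfin⟩ := GrothLib.EtFinNhd10.exists_nbhd_finite (B := B) I
  obtain ⟨hsurjR, hinjR⟩ := GrothLib.EtFinNhd10.quotient_includeRight (B := B) (I := I) A' hbij
  let R := TensorProduct A A' B
  let C := Localization.Away g
  letI iBC : Algebra B C :=
    ((algebraMap R C).comp (Algebra.TensorProduct.includeRight : B →ₐ[A] R).toRingHom).toAlgebra
  have hBC : ∀ b : B, algebraMap B C b = algebraMap R C ((Algebra.TensorProduct.includeRight : B →ₐ[A] R) b) :=
    fun b => rfl
  haveI : IsScalarTower A B C := IsScalarTower.of_algebraMap_eq fun a => by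
    rw [hBC, AlgHom.commutes, ← IsScalarTower.algebraMap_apply]
  have hker' : ∀ x : A, algebraMap A A' x ∈ I.map (algebraMap A A') ↔ x ∈ I := fun x => by
    refine ⟨fun h => ?_, fun h => Ideal.mem_map_of_mem _ h⟩
    rw [← Ideal.Quotient.eq_zero_iff_mem]
    refine hbij.1 ?_
    rw [Ideal.quotientMap_mk, map_zero]
    exact Ideal.Quotient.eq_zero_iff_mem.2 h
  have hIC : Ideal.map (algebraMap A C) I = (Ideal.map (algebraMap A R) I).map (algebraMap R C) := by
    rw [Ideal.map_map, ← IsScalarTower.algebraMap_eq]
  have hqC := GrothLib.Hensel.quotientMap_bijective_away (Ideal.map (algebraMap A R) I) hg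
  refine ⟨A', inferInstance, inferInstance, inferInstance, C, inferInstance, inferInstance, inferInstance, iBC,
    inferInstance, inferInstance, ?_, ?_, ?_, hgfin, ?_, ?_⟩
  · intro q
    obtain ⟨x, hx⟩ := hbij.2 q
    obtain ⟨x, rfl⟩ := Ideal.Quotient.mk_surjective x
    exact ⟨x, hx⟩
  · ext x
    rw [RingHom.mem_ker, RingHom.comp_apply, Ideal.Quotient.eq_zero_iff_mem]
    exact hker' x
  · letI : Algebra B R := Algebra.TensorProduct.rightAlgebra
    haveI : Algebra.Etale B R := Algebra.Etale.of_equiv (Algebra.TensorProduct.commRight A B A')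
    haveI : @IsScalarTower B R C Algebra.toSMul Algebra.toSMul iBC.toSMul :=
      @IsScalarTower.of_algebraMap_eq B R C _ _ _ _ _ iBC fun b => rfl
    haveI : Algebra.Etale R C := Algebra.Etale.of_isLocalizationAway g
    exact Algebra.Etale.comp B R C
  · intro q
    obtain ⟨c, rfl⟩ := Ideal.Quotient.mk_surjective q
    obtain ⟨r, hr⟩ := hqC.2 (Ideal.Quotient.mk _ c)
    obtain ⟨r, rfl⟩ := Ideal.Quotient.mk_surjective r
    rw [Ideal.quotientMap_mk, Ideal.Quotient.eq] at hr
    obtain ⟨b, hb⟩ := hsurjR r
    refine ⟨b, ?_⟩
    rw [RingHom.comp_apply, Ideal.Quotient.eq, hIC, hBC]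
    have h2 := sub_mem hr (Ideal.mem_map_of_mem (algebraMap R C) hb)
    rw [map_sub] at h2
    convert h2 using 1
    exact (sub_sub_sub_cancel_left _ _ _).symm
  · ext b
    rw [RingHom.mem_ker, RingHom.comp_apply, Ideal.Quotient.eq_zero_iff_mem, hBC, hIC]
    refine ⟨fun h => hinjR b ?_, fun h => ?_⟩
    · rw [← Ideal.Quotient.eq_zero_iff_mem] at h ⊢
      refine hqC.1 ?_
      rw [Ideal.quotientMap_mk, map_zero]
      exact h
    · have h2 := Ideal.mem_map_of_mem (Algebra.TensorProduct.includeRight : B →ₐ[A] R) h
      rw [GrothLib.EtFinNhd10.map_algebraMap_ideal] at h2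
      exact Ideal.mem_map_of_mem _ h2

end Groth.Agent.S17976
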