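import Groth.Statements.S17979
import Groth.Agent.Lib.Hensel.Basic
import Mathlib.RingTheory.AdjoinRoot
-- import your own Groth.Agent.* helpers here

set_option autoImplicit false
universe u
open Hensel

namespace Groth.Agent.S17979

/-- Let A be a local ring with residue field k and Q, R polynomials over A with Q monic. If the images
of Q and R in k[T] generate the unit ideal, then Q and R already generate the unit ideal of A[T]. -/
theorem result (A : Type u) [CommRing A] [IsLocalRing A]
    (Q R : Polynomial A) (hQ : Q.Monic)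
    (h : IsCoprime (Polynomial.map (IsLocalRing.residue A) Q) (Polynomial.map (IsLocalRing.residue A) R)) :
    IsCoprime Q R := by
  obtain ⟨a, b, hab⟩ := h
  obtain ⟨a', rfl⟩ := Polynomial.map_surjective _ IsLocalRing.residue_surjective a
  obtain ⟨b', rfl⟩ := Polynomial.map_surjective _ IsLocalRing.residue_surjective b
  let x := AdjoinRoot.root Q
  have := hQ.finite_adjoinRoot
  have hu : IsUnit (AdjoinRoot.mk Q (b' * R)) := by
    refine GrothLib.Hensel.isUnit_of_sub_one_mem (GrothLib.Hensel.map_le_jacobson_of_isIntegral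
      (IsLocalRing.maximalIdeal_le_jacobson (⊥ : Ideal A))) ?_
    have hc : ∀ i, (a' * Q + b' * R - 1).coeff i ∈ IsLocalRing.maximalIdeal A := by
      intro i
      rw [← IsLocalRing.residue_eq_zero_iff, ← Polynomial.coeff_map]
      simp [hab]
    have h' : AdjoinRoot.mk Q (b' * R) - 1 = AdjoinRoot.mk Q (a' * Q + b' * R - 1) := by simp
    rw [h', ← AdjoinRoot.aeval_eq, Polynomial.aeval_eq_sum_range]
    exact Ideal.sum_mem _ fun i _ => by
      rw [Algebra.smul_def]; exact Ideal.mul_mem_right _ _ (Ideal.mem_map_of_mem _ (hc i))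
  obtain ⟨c, hc⟩ := hu.exists_left_inv
  obtain ⟨c, rfl⟩ := AdjoinRoot.mk_surjective c
  rw [← map_mul, ← map_one (AdjoinRoot.mk Q), AdjoinRoot.mk_eq_mk] at hc
  obtain ⟨t, ht⟩ := hc
  exact ⟨-t, c * b', by linear_combination ht⟩
end Groth.Agent.S17979
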