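import Groth.Statements.S17980
import Groth.Agent.Lib.Hensel.Basic
import Mathlib.RingTheory.AdjoinRoot
import Mathlib.RingTheory.Polynomial.Basic
-- import your own Groth.Agent.* helpers here

set_option autoImplicit false
universe u
open Hensel

namespace Groth.Agent.S17980

/-- Let A be a local ring with residue field k, and let Q R = U V be two factorizations of one
polynomial over A with Q and U monic, such that Q and U have the same image in k[T], R and V have
the same image in k[T], and the images of Q and R in k[T] generate the unit ideal. Then Q = U and R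
= V. -/
theorem result (A : Type u) [CommRing A] [IsLocalRing A]
    (Q R U V : Polynomial A) (hQ : Q.Monic) (hU : U.Monic)
    (hQU : Polynomial.map (IsLocalRing.residue A) Q = Polynomial.map (IsLocalRing.residue A) U)
    (hRV : Polynomial.map (IsLocalRing.residue A) R = Polynomial.map (IsLocalRing.residue A) V)
    (hcop : IsCoprime (Polynomial.map (IsLocalRing.residue A) Q) (Polynomial.map (IsLocalRing.residue A) R))
    (h : Q * R = U * V) : Q = U ∧ R = V := by
  have hC := Polynomial.Monic.finite_adjoinRoot hQ
  have hjac : (IsLocalRing.maximalIdeal A).map (algebraMap A (AdjoinRoot Q)) ≤ Ideal.jacobson ⊥ :=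
    GrothLib.Hensel.map_le_jacobson_of_isIntegral (IsLocalRing.maximalIdeal_le_jacobson ⊥)
  obtain ⟨a, b, hab⟩ := hcop
  obtain ⟨a, rfl⟩ := Polynomial.map_surjective _ IsLocalRing.residue_surjective a
  obtain ⟨b, rfl⟩ := Polynomial.map_surjective _ IsLocalRing.residue_surjective b
  rw [hRV, ← Polynomial.map_mul, ← Polynomial.map_mul, ← Polynomial.map_add] at hab
  have hmem : AdjoinRoot.mk Q (a * Q + b * V - 1) ∈
      (IsLocalRing.maximalIdeal A).map (algebraMap A (AdjoinRoot Q)) := by
    have h1 : a * Q + b * V - 1 ∈ (IsLocalRing.maximalIdeal A).map Polynomial.C := by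
      rw [Ideal.mem_map_C_iff]
      intro n
      rw [← IsLocalRing.residue_eq_zero_iff, ← Polynomial.coeff_map, Polynomial.map_sub, hab,
        Polynomial.map_one, sub_self, Polynomial.coeff_zero]
    have h2 := Ideal.mem_map_of_mem (AdjoinRoot.mk Q) h1
    rwa [Ideal.map_map] at h2
  have hu : IsUnit (AdjoinRoot.mk Q V) := by
    have h3 : IsUnit (AdjoinRoot.mk Q b * AdjoinRoot.mk Q V) :=
      GrothLib.Hensel.isUnit_of_sub_one_mem hjac (by simpa using hmem)
    exact isUnit_of_mul_isUnit_right h3
  obtain ⟨w, hw⟩ := hu.exists_right_inv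
  obtain ⟨w, rfl⟩ := AdjoinRoot.mk_surjective w
  rw [← map_mul, ← map_one (AdjoinRoot.mk Q), AdjoinRoot.mk_eq_mk] at hw
  obtain ⟨c, hc⟩ := hw
  have hcp : IsCoprime Q V := ⟨-c, w, by linear_combination hc⟩
  have hdvd : Q ∣ U := hcp.dvd_of_dvd_mul_right ⟨R, h.symm⟩
  have hdeg : U.natDegree ≤ Q.natDegree := by
    rw [← hU.natDegree_map (IsLocalRing.residue A), ← hQU, hQ.natDegree_map]
  have hQU' : Q = U := (Polynomial.eq_of_monic_of_dvd_of_natDegree_le hQ hU hdvd hdeg).symm
  exact ⟨hQU', hQ.isRegular.left (by simpa [hQU'] using h)⟩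
end Groth.Agent.S17980
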