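import Groth.Statements.S17982
import Groth.Agent.Lib.Hensel.SplitSurjOn
-- import your own Groth.Agent.* helpers here

set_option autoImplicit false
universe u
open Hensel

namespace Groth.Agent.S17982

/-- Let A be a local ring and B a commutative A-algebra which is finitely generated as an A-module. Then
B is ring-isomorphic to a finite product of local rings if and only if the canonical homomorphism
from B to the product of the localizations of B at its maximal ideals is bijective. -/
theorem result
    (A : Type u) [CommRing A] [IsLocalRing A] (B : Type u) [CommRing B] [Algebra A B] [Module.Finite A B] :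
    (∃ (ι : Type u) (_ : Fintype ι) (C : ι → Type u) (_ : ∀ j, CommRing (C j)),
        (∀ j, IsLocalRing (C j)) ∧ Nonempty (B ≃+* (∀ j, C j))) ↔
    Function.Bijective
      (RingHom.pi (fun n : MaximalSpectrum B => algebraMap B (Localization.AtPrime n.asIdeal))) := by
  refine ⟨fun h ↦ ?_, fun h ↦ ?_⟩
  · obtain ⟨_, e, he, hnot, huniq, hloc⟩ := GrothLib.Hensel.exists_completeOrthogonalIdempotents_of_surjOn
      (R := A) (GrothLib.Hensel.surjOn_of_pi_local _ h)
    exact GrothLib.Hensel.pi_localization_bijective he hnot huniq hloc
  · have : Finite (MaximalSpectrum B) := by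
      have hfin := Algebra.QuasiFinite.finite_primesOver (R := A) (S := B) (IsLocalRing.maximalIdeal A)
      have := hfin.to_subtype
      exact Finite.of_injective (fun i : MaximalSpectrum B ↦
        (⟨i.asIdeal, i.isMaximal.isPrime, (GrothLib.Hensel.isMaximal_iff_liesOver i.asIdeal).mp i.isMaximal⟩ :
          (IsLocalRing.maximalIdeal A).primesOver B))
        (fun i j h ↦ MaximalSpectrum.ext (congrArg Subtype.val h))
    exact ⟨MaximalSpectrum B, Fintype.ofFinite _, fun n ↦ Localization.AtPrime n.asIdeal, inferInstance,
      fun n ↦ inferInstance, ⟨RingEquiv.ofBijective _ h⟩⟩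
end Groth.Agent.S17982
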