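import Groth.Statements.S17983
-- import your own Groth.Agent.* helpers here
import Mathlib

set_option autoImplicit false
universe u
open WeilNum

namespace Groth.Agent.S17983

/-- Let p be a prime number, e ≥ 1 and q = p^e. Let π be an element of a field of characteristic zero
which is integral over ℤ, with minimal polynomial P over ℤ, and assume that every complex root of P
has absolute value √q and that no complex root of P is real (π is a nonreal Weil q-number). Then the
degree of P is even, say 2d, and writing a_j for the coefficient of x^j in P one has a_{d−r} = q^r ·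
a_{d+r} for every 0 ≤ r ≤ d. -/
theorem result (p e : ℕ) [Fact p.Prime] (he : 0 < e)
    (K : Type u) [Field K] [CharZero K] (π : K) (hπ : IsIntegral ℤ π)
    (hweil : ∀ z ∈ (minpoly ℤ π).aroots ℂ, ‖z‖ = Real.sqrt ((p : ℝ) ^ e))
    (hnr : ∀ z ∈ (minpoly ℤ π).aroots ℂ, z.im ≠ 0) :
    Even (minpoly ℤ π).natDegree ∧
      ∀ r ≤ (minpoly ℤ π).natDegree / 2,
        (minpoly ℤ π).coeff ((minpoly ℤ π).natDegree / 2 - r) =
          (p : ℤ) ^ (e * r) * (minpoly ℤ π).coeff ((minpoly ℤ π).natDegree / 2 + r) := by
  classical
  set P := minpoly ℤ π with hPdef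
  have hm : P.Monic := minpoly.monic hπ
  let q : ℂ := ((p : ℂ) ^ e)
  have hq : q ≠ 0 := pow_ne_zero _ (Nat.cast_ne_zero.mpr (Fact.out (p := p.Prime)).ne_zero)
  let R := P.aroots ℂ
  have hsplit : (P.map (algebraMap ℤ ℂ)) = (R.map fun z => Polynomial.X - Polynomial.C z).prod :=
    ((IsAlgClosed.splits _).eq_prod_roots_of_monic (hm.map _))
  have hconj : R.map (starRingEnd ℂ) = R := by
    show ((P.map (algebraMap ℤ ℂ)).roots).map _ = (P.map (algebraMap ℤ ℂ)).roots
    have h := Polynomial.roots_map_of_injective_of_card_eq_natDegree (p := P.map (algebraMap ℤ ℂ)) (starRingEnd ℂ).injective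
      (IsAlgClosed.card_roots_eq_natDegree)
    rw [h, Polynomial.map_map]
    congr 2
    exact RingHom.ext_int _ _
  let U := R.filter (fun z => 0 < z.im)
  have hR : R = U + U.map (starRingEnd ℂ) := by
    have h1 := Multiset.filter_add_not (fun z : ℂ => 0 < z.im) R
    have h2 : R.filter (fun z => ¬ 0 < z.im) = U.map (starRingEnd ℂ) := by
      conv_lhs => rw [← hconj]
      rw [Multiset.filter_map]
      congr 1
      refine Multiset.filter_congr fun z hz => ?_
      have := hnr z hz
      simp [Function.comp]
      constructor <;> intro h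
      · exact lt_of_le_of_ne h (Ne.symm this)
      · exact h.le
    rw [h2] at h1
    exact h1.symm
  have hcard : P.natDegree = 2 * Multiset.card U := by
    have h1 : Multiset.card R = P.natDegree := by
      show Multiset.card (P.map (algebraMap ℤ ℂ)).roots = _
      rw [IsAlgClosed.card_roots_eq_natDegree, hm.natDegree_map]
    rw [← h1, hR, Multiset.card_add, Multiset.card_map]; ring
  set d := Multiset.card U with hd
  have hev : ∀ x : ℂ, x ≠ 0 → x ^ (2 * d) * Polynomial.aeval (q / x) P = q ^ d * Polynomial.aeval x P := by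
    intro x hx
    have he' : ∀ y : ℂ, Polynomial.aeval y P = (U.map fun z => (y - z) * (y - starRingEnd ℂ z)).prod := by
      intro y
      rw [← Polynomial.eval_map_algebraMap, hsplit, hR, Multiset.map_add, Multiset.prod_add, Multiset.map_map,
        Polynomial.eval_mul, Polynomial.eval_multiset_prod, Polynomial.eval_multiset_prod, Multiset.map_map,
        Multiset.map_map, Multiset.prod_map_mul]
      simp [Function.comp_def]
    rw [he', he', show x ^ (2 * d) = (U.map fun _ => x ^ 2).prod by
        rw [Multiset.map_const', Multiset.prod_replicate, ← pow_mul],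
      show q ^ d = (U.map fun _ => q).prod by rw [Multiset.map_const', Multiset.prod_replicate],
      ← Multiset.prod_map_mul, ← Multiset.prod_map_mul]
    refine congrArg Multiset.prod (Multiset.map_congr rfl fun z hz => ?_)
    have hz' : z * starRingEnd ℂ z = q := by
      rw [Complex.mul_conj, Complex.normSq_eq_norm_sq, hweil z (Multiset.mem_of_mem_filter hz),
        Real.sq_sqrt (by positivity)]
      simp [q]
    field_simp
    linear_combination (x ^ 2 - q) * hz'
  refine ⟨⟨d, by omega⟩, fun r hr => ?_⟩
  let Pc := P.map (algebraMap ℤ ℂ)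
  have hdeg : (Pc.comp (Polynomial.C q * Polynomial.X)).natDegree ≤ 2 * d := by
    refine Polynomial.natDegree_comp_le.trans ?_
    rw [hm.natDegree_map, hcard]
    exact mul_le_of_le_one_right (Nat.zero_le _) ((Polynomial.natDegree_C_mul_le _ _).trans Polynomial.natDegree_X_le)
  have hpoly : Polynomial.reflect (2 * d) (Pc.comp (Polynomial.C q * Polynomial.X)) = Polynomial.C (q ^ d) * Pc := by
    refine Polynomial.eq_of_infinite_eval_eq _ _ (Set.Infinite.mono ?_ (Set.finite_singleton (0:ℂ)).infinite_compl)
    intro y hy
    have hy : y ≠ 0 := hy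
    letI := invertibleOfNonzero (inv_ne_zero hy)
    have h := Polynomial.eval₂_reflect_mul_pow (RingHom.id ℂ) y⁻¹ (2 * d) _ hdeg
    rw [invOf_eq_inv, inv_inv] at h
    show Polynomial.eval y _ = Polynomial.eval y _
    simp only [Polynomial.eval_mul, Polynomial.eval_C, Pc, Polynomial.eval_map_algebraMap, ← hev y hy]
    have h' : Polynomial.eval (y:ℂ) (Polynomial.reflect (2 * d) (Pc.comp (Polynomial.C q * Polynomial.X))) * (y⁻¹) ^ (2 * d) =
        Polynomial.aeval (q * y⁻¹) P := by
      refine Eq.trans h ?_
      show Polynomial.eval y⁻¹ _ = _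
      rw [Polynomial.eval_comp, Polynomial.eval_mul, Polynomial.eval_C, Polynomial.eval_X, Polynomial.eval_map_algebraMap]
    rw [div_eq_mul_inv, ← h', mul_left_comm, ← mul_pow, mul_inv_cancel₀ hy, one_pow, mul_one]
  have hc := congrArg (fun f => f.coeff (d - r)) hpoly
  simp only [Polynomial.coeff_reflect, Polynomial.coeff_C_mul, Polynomial.comp_C_mul_X_coeff, Pc, Polynomial.coeff_map] at hc
  have hidx : P.natDegree / 2 = d := by omega
  rw [hidx] at hr ⊢
  rw [show Polynomial.revAt (2 * d) (d - r) = d + r by rw [Polynomial.revAt_le (by omega)]; omega, pow_add] at hc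
  have : ((P.coeff (d - r) : ℤ) : ℂ) = (((p : ℤ) ^ (e * r) * P.coeff (d + r) : ℤ) : ℂ) := by
    simp at hc
    apply mul_left_cancel₀ (pow_ne_zero d hq)
    rw [← hc]
    push_cast
    simp [q]; rw [← pow_mul]; ring
  exact_mod_cast this

end Groth.Agent.S17983
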