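import Groth.Statements.S17986
-- import your own Groth.Agent.* helpers here
import Groth.Agent.S17983
import Groth.Agent.Lib.WeilOrd.Ordinary
import Groth.Agent.Lib.WeilOrd.Rational

set_option autoImplicit false
universe u
open MvPolynomial
open scoped Classical
open WeilNum

namespace Groth.Agent.S17986

/-- Let p be a prime, e ≥ 1, and assume q = p^e = s² for an integer s (of either sign; s is then a
rational Weil q-number). Let (π_i) be a finite family of pairwise nonconjugate nonrational Weil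
q-numbers: π_i lies in a field K_i of characteristic zero, is integral over ℤ with minimal
polynomial P_i of degree different from 1, every complex root of P_i has absolute value √q, and P_i
≠ P_j for i ≠ j (since q is a square these π_i are nonreal, so Σ_i deg P_i = 2D is even). Put P_v =
∏_i P_i and let h ∈ ℤ[F, V] (F = X_0, V = X_1) be any polynomial with F^D · h ≡ P_v(F) modulo FV −
q. Consider the ring map ℤ[F, V] → (∏_i K_i) × ℚ sending F to ((π_i)_i, s) and V to ((q/π_i)_i, s);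
its image R_w is the minimal central order of the family enlarged by s. Then: (1) its kernel is the
ideal generated by FV − q, h · (F − s) and h · (V − s); (2) R_w is a Gorenstein ring if and only if
every π_i is ordinary, meaning that exactly half of the roots of P_i in an algebraic closure of ℚ_p,
counted with multiplicity, are p-adic units. -/
theorem result (p e : ℕ) [Fact p.Prime] (he : 0 < e)
    (s : ℤ) (hs : s ^ 2 = (p : ℤ) ^ e)
    (ι : Type) [Fintype ι] (K : ι → Type u) [∀ i, Field (K i)] [∀ i, CharZero (K i)] (π : ∀ i, K i)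
    (hint : ∀ i, IsIntegral ℤ (π i)) (hdeg : ∀ i, (minpoly ℤ (π i)).natDegree ≠ 1)
    (hweil : ∀ i, ∀ z ∈ (minpoly ℤ (π i)).aroots ℂ, ‖z‖ = Real.sqrt ((p : ℝ) ^ e))
    (hinj : ∀ i j, minpoly ℤ (π i) = minpoly ℤ (π j) → i = j)
    (D : ℕ) (hD : ∑ i, (minpoly ℤ (π i)).natDegree = 2 * D)
    (h : MvPolynomial (Fin 2) ℤ)
    (hh : X 0 ^ D * h - Polynomial.aeval (X 0 : MvPolynomial (Fin 2) ℤ) (∏ i, minpoly ℤ (π i)) ∈
      Ideal.span ({X 0 * X 1 - C ((p : ℤ) ^ e)} : Set (MvPolynomial (Fin 2) ℤ))) :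
    RingHom.ker (MvPolynomial.aeval ![(⟨fun i => π i, (s : ℚ)⟩ : ((i : ι) → K i) × ℚ), ⟨fun i => ((p : K i) ^ e) / π i, (s : ℚ)⟩] :
        MvPolynomial (Fin 2) ℤ →ₐ[ℤ] (((i : ι) → K i) × ℚ)) =
        Ideal.span {X 0 * X 1 - C ((p : ℤ) ^ e), h * (X 0 - C s), h * (X 1 - C s)} ∧
      (LocCoh.IsGorensteinRing (MvPolynomial.aeval ![(⟨fun i => π i, (s : ℚ)⟩ : ((i : ι) → K i) × ℚ), ⟨fun i => ((p : K i) ^ e) / π i, (s : ℚ)⟩] :
        MvPolynomial (Fin 2) ℤ →ₐ[ℤ] (((i : ι) → K i) × ℚ)).range ↔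
        ∀ i, 2 * Multiset.card (((minpoly ℤ (π i)).aroots (PadicAlgCl p)).filter (fun z => ‖z‖ = 1)) = (minpoly ℤ (π i)).natDegree) := by
  have hp : Prime (p : ℤ) := Nat.prime_iff_prime_int.1 (Fact.out : p.Prime)
  have hq : ((p : ℤ) ^ e) ≠ 0 := pow_ne_zero _ hp.ne_zero
  have hw := GrothLib.WeilOrd.isWeil_of_norm hweil
  rw [GrothLib.WeilOrd.aeval_eq_ev' p e s π]
  refine ⟨GrothLib.WeilOrd.ker_ev' hq hs hint hw hinj hdeg hD h hh, ?_⟩
  choose d hd using fun i => (Groth.Agent.S17983.result p e he (K i) (π i) (hint i) (hweil i)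
    (fun z hz => GrothLib.WeilOrd.im_ne_zero hs hint hw hdeg i z hz)).1
  have hc := fun i => (Groth.Agent.S17983.result p e he (K i) (π i) (hint i) (hweil i)
    (fun z hz => GrothLib.WeilOrd.im_ne_zero hs hint hw hdeg i z hz)).2
  have hlow : ∀ i, ∀ k < d i, (p : ℤ) ∣ (minpoly ℤ (π i)).coeff k := fun i k hk => by
    have h1 := hc i
    rw [show (minpoly ℤ (π i)).natDegree / 2 = d i by rw [hd i]; omega] at h1
    have h2 := h1 (d i - k) (Nat.sub_le _ _)
    rw [Nat.sub_sub_self hk.le] at h2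
    rw [h2]
    exact Dvd.dvd.mul_right (dvd_pow_self _ (Nat.mul_ne_zero he.ne' (by omega))) _
  have hDd : D = ∑ i, d i := by
    have : ∑ i, (minpoly ℤ (π i)).natDegree = 2 * ∑ i, d i := by
      rw [Finset.mul_sum]; exact Finset.sum_congr rfl fun i _ => by rw [hd i]; ring
    omega
  have hmid : ((p : ℤ) ∣ (GrothLib.TateThm.weilPoly π).coeff D) ↔ ∃ i, (p : ℤ) ∣ (minpoly ℤ (π i)).coeff (d i) := by
    let c := Int.castRingHom (ZMod p)
    choose Q hQ using fun i => (Polynomial.X_pow_dvd_iff (f := (minpoly ℤ (π i)).map c)).2 fun k hk => by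
      rw [Polynomial.coeff_map]; exact (ZMod.intCast_zmod_eq_zero_iff_dvd _ p).2 (hlow i k hk)
    have hQ0 : ∀ i, (Q i).coeff 0 = (((minpoly ℤ (π i)).coeff (d i) : ℤ) : ZMod p) := fun i => by
      have h1 := congrArg (fun P => P.coeff (0 + d i)) (hQ i)
      rw [Polynomial.coeff_X_pow_mul, zero_add, Polynomial.coeff_map] at h1
      exact h1.symm
    have key : ((GrothLib.TateThm.weilPoly π).map c).coeff (0 + D) = ∏ i, (Q i).coeff 0 := by
      rw [GrothLib.TateThm.weilPoly, Polynomial.map_prod, Finset.prod_congr rfl (fun i _ => hQ i),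
        Finset.prod_mul_distrib, Finset.prod_pow_eq_pow_sum, ← hDd, Polynomial.coeff_X_pow_mul, Polynomial.coeff_zero_prod]
    rw [zero_add, Polynomial.coeff_map] at key
    rw [← ZMod.intCast_zmod_eq_zero_iff_dvd _ p, show ((GrothLib.TateThm.weilPoly π).coeff D : ZMod p) = _ from key,
      Finset.prod_eq_zero_iff]
    simp only [Finset.mem_univ, true_and, hQ0, ZMod.intCast_zmod_eq_zero_iff_dvd]
  have hord : ∀ i, (2 * Multiset.card (((minpoly ℤ (π i)).aroots (PadicAlgCl p)).filter (fun z => ‖z‖ = 1)) =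
      (minpoly ℤ (π i)).natDegree) ↔ ¬ (p : ℤ) ∣ (minpoly ℤ (π i)).coeff (d i) := fun i =>
    GrothLib.WeilOrd.two_mul_card_unit_eq_iff (minpoly.monic (hint i)) (by rw [hd i]; ring) (hlow i)
  simp only [hord]
  constructor
  · intro hG i hi
    exact GrothLib.WeilOrd.not_isGorensteinRing_range' hq hs hint hw hinj hdeg hD
      (hp.dvd_of_dvd_pow (hs.symm ▸ dvd_pow_self (p : ℤ) he.ne' : (p : ℤ) ∣ s ^ 2)) (hmid.2 ⟨i, hi⟩) hG
  · intro hall
    exact GrothLib.WeilOrd.isGorensteinRing_range' hq hs hint hw hinj hdeg hD (p := p) (e := e) rfl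
      (fun h => (hmid.1 h).elim fun i hi => hall i hi)

end Groth.Agent.S17986
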