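import Groth.Statements.S17987
-- import your own Groth.Agent.* helpers here
import Groth.Agent.S17983
import Groth.Agent.Lib.WeilOrd.Ordinary

set_option autoImplicit false
universe u
open scoped Classical
open WeilNum

namespace Groth.Agent.S17987

/-- Let p be a prime, e ≥ 1 and q = p^e, and let (π_i) be a finite family of nonreal Weil q-numbers: π_i
lies in a field K_i of characteristic zero, is integral over ℤ with minimal polynomial P_i, every
complex root of P_i has absolute value √q, and no complex root of P_i is real; in particular deg P_i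
= 2d_i is even. Call π_i ordinary when exactly half of the roots of P_i in an algebraic closure of
ℚ_p, counted with multiplicity, are p-adic units (have absolute value 1). Then all π_i are ordinary
if and only if p does not divide ∏_i a_{d_i}, the product of the middle coefficients of the P_i
(this product is the value at F = V = 0 of the symmetric polynomial h_w of the family). -/
theorem result (p e : ℕ) [Fact p.Prime] (he : 0 < e)
    (ι : Type) [Fintype ι] (K : ι → Type u) [∀ i, Field (K i)] [∀ i, CharZero (K i)] (π : ∀ i, K i)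
    (hint : ∀ i, IsIntegral ℤ (π i))
    (hweil : ∀ i, ∀ z ∈ (minpoly ℤ (π i)).aroots ℂ, ‖z‖ = Real.sqrt ((p : ℝ) ^ e))
    (hnr : ∀ i, ∀ z ∈ (minpoly ℤ (π i)).aroots ℂ, z.im ≠ 0) :
    (∀ i, 2 * Multiset.card (((minpoly ℤ (π i)).aroots (PadicAlgCl p)).filter (fun z => ‖z‖ = 1)) = (minpoly ℤ (π i)).natDegree) ↔
      ¬ ((p : ℤ) ∣ ∏ i, (minpoly ℤ (π i)).coeff ((minpoly ℤ (π i)).natDegree / 2)) := by
  have hp : Prime (p : ℤ) := Nat.prime_iff_prime_int.1 (Fact.out : p.Prime)
  rw [hp.dvd_finset_prod_iff]
  simp only [Finset.mem_univ, true_and, not_exists]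
  refine forall_congr' fun i => ?_
  obtain ⟨⟨d, hd⟩, hc⟩ := Groth.Agent.S17983.result p e he (K i) (π i) (hint i) (hweil i) (hnr i)
  have hd2 : (minpoly ℤ (π i)).natDegree / 2 = d := by omega
  rw [hd2] at hc ⊢
  refine GrothLib.WeilOrd.two_mul_card_unit_eq_iff (minpoly.monic (hint i)) (by omega) fun k hk => ?_
  have h := hc (d - k) (Nat.sub_le d k)
  rw [Nat.sub_sub_self hk.le] at h
  rw [h]
  exact Dvd.dvd.mul_right (dvd_pow_self _ (Nat.mul_ne_zero he.ne' (by omega))) _

end Groth.Agent.S17987
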