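import Groth.Statements.S17988
import Mathlib
import Groth.Agent.Lib.GorDimOne.Extend
import Groth.Agent.Lib.GorDimOne.Reduced
-- import your own Groth.Agent.* helpers here

set_option autoImplicit false
universe u
open CAlg

namespace Groth.Agent.S17988

/-- Let Λ be a principal ideal domain and S a commutative Λ-algebra which is finitely generated and free
as a Λ-module and reduced as a ring; let M be a finitely generated S-module. Then M is torsionless
(the canonical map M → M** to the double S-dual is injective) if and only if M is free as a
Λ-module. If in addition S is a Gorenstein ring (it has Krull dimension at most 1, being finite over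
Λ), then M is reflexive (M → M** bijective) if and only if M is free as a Λ-module, so that for such
S torsionless and reflexive finitely generated modules coincide. The published statement is the case
Λ = ℤ, resp. Λ = ℤ_ℓ for a prime ℓ, with S the minimal central order R_w of a finite set of Weil
q-numbers, resp. its ℓ-adic completion R_w ⊗ ℤ_ℓ, under the assumption that R_w is Gorenstein; the
argument given there uses only that S is finite free over Λ, reduced, and (for reflexivity)
Gorenstein of dimension one. -/
theorem result (Λ : Type u) [CommRing Λ] [IsDomain Λ] [IsPrincipalIdealRing Λ]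
    (S : Type u) [CommRing S] [Algebra Λ S] [Module.Finite Λ S] [Module.Free Λ S] [IsReduced S]
    (M : Type u) [AddCommGroup M] [Module S M] [Module Λ M] [IsScalarTower Λ S M] [Module.Finite S M] :
    (Function.Injective (Module.Dual.eval S M) ↔ Module.Free Λ M) ∧
      (LocCoh.IsGorensteinRing S → (Module.IsReflexive S M ↔ Module.Free Λ M)) := by
  have hnoeth : IsNoetherianRing S := IsNoetherianRing.of_finite Λ S
  have hfinM : Module.Finite Λ M := Module.Finite.trans S M
  have key1 : Function.Injective (Module.Dual.eval S M) → Module.Free Λ M := by
    intro hinj
    have : Module.IsTorsionFree Λ M := by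
      refine Module.isTorsionFree_iff_smul_eq_zero.2 fun r m hr => ?_
      by_contra! hcon
      obtain ⟨hr0, hm0⟩ := hcon
      apply hm0
      refine hinj ((map_zero (Module.Dual.eval S M)).symm ▸ LinearMap.ext fun φ => ?_)
      have h1 : r • φ m = 0 := by
        rw [← algebraMap_smul S r (φ m), ← map_smul, algebraMap_smul, hr, map_zero]
      exact (Module.isTorsionFree_iff_smul_eq_zero.1 (inferInstance : Module.IsTorsionFree Λ S) r _ h1).resolve_left hr0
    infer_instance
  have key2 : Module.Free Λ M → Function.Injective (Module.Dual.eval S M) := by
    intro hfree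
    refine GrothLib.GorDimOne.eval_injective_of_nzd fun s hs m hm => ?_
    obtain ⟨r, hr, t, ht⟩ := (Algebra.IsIntegral.isIntegral (R := Λ) s).isAlgebraic.exists_nonzero_dvd hs
    have : r • m = 0 := by
      rw [← algebraMap_smul S r m, ht, mul_comm, mul_smul, hm, smul_zero]
    exact (Module.isTorsionFree_iff_smul_eq_zero.1 (inferInstance : Module.IsTorsionFree Λ M) r m this).resolve_left hr
  refine ⟨⟨key1, key2⟩, fun hG => ⟨fun h => key1 h.bijective_dual_eval'.injective, fun hfree => ?_⟩⟩
  have hdim : ringKrullDim S ≤ 1 := by
    have h1 : Ring.KrullDimLE 1 S := by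
      refine Ring.krullDimLE_one_iff.2 fun I hI => or_iff_not_imp_right.2 fun hmax => ?_
      have hc : I.comap (algebraMap Λ S) = ⊥ := by
        by_contra hne
        exact hmax (Ideal.isMaximal_of_isIntegral_of_isMaximal_comap (R := Λ) I
          ((inferInstance : (I.comap (algebraMap Λ S)).IsPrime).isMaximal_of_ne_bot hne))
      refine ⟨⟨hI, bot_le⟩, fun Q hQ hle => ?_⟩
      by_contra hne
      have hQp : Q.IsPrime := hQ.1
      have hlt : Q < I := lt_of_le_not_ge hle hne
      have := Ideal.IsIntegral.comap_lt_comap (R := Λ) hlt
      rw [hc] at this
      exact not_lt_bot this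
    exact_mod_cast (Order.krullDimLE_iff _ _).1 h1
  exact GrothLib.GorDimOne.isReflexive_of_injective_eval hdim M (key2 hfree)

end Groth.Agent.S17988
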