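import Groth.Statements.S17989
import Mathlib
import Groth.Agent.Lib.GorDimOne.Extend
-- import your own Groth.Agent.* helpers here

set_option autoImplicit false
universe u
open CategoryTheory
open CAlg

namespace Groth.Agent.S17989

/-- Let S be a Gorenstein ring (a Noetherian ring all of whose localizations at prime ideals have finite
injective dimension as modules over themselves) of Krull dimension 1, and let M be a finitely
generated reflexive S-module (the canonical map M → M** is bijective). Then Ext¹_S(M, S) = 0. -/
theorem result (S : Type u) [CommRing S]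
    [LocCoh.IsGorensteinRing S] (hdim : ringKrullDim S = 1)
    (M : Type u) [AddCommGroup M] [Module S M] [Module.Finite S M] [Module.IsReflexive S M] :
    Subsingleton (Abelian.Ext (ModuleCat.of S M) (ModuleCat.of S S) 1) := by
  obtain ⟨n, q, hq⟩ := Module.Finite.exists_fin' S M
  haveI : Module.Finite S (Module.Dual S M) := by
    let qd := q.dualMap
    have hqd : Function.Injective qd := LinearMap.dualMap_injective_of_surjective hq
    exact Module.Finite.of_injective qd hqd
  obtain ⟨m, p, hp⟩ := Module.Finite.exists_fin' S (Module.Dual S M)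
  let j : M →ₗ[S] (Fin m → S) :=
    ((Pi.basisFun S (Fin m)).toDualEquiv.symm.toLinearMap ∘ₗ p.dualMap) ∘ₗ (Module.evalEquiv S M).toLinearMap
  have hj : Function.Injective j :=
    ((Pi.basisFun S (Fin m)).toDualEquiv.symm.injective.comp (LinearMap.dualMap_injective_of_surjective hp)).comp
      (Module.evalEquiv S M).injective
  have hloc : ∀ (P : Ideal S) [P.IsMaximal], HasInjectiveDimensionLT
      (ModuleCat.of (Localization.AtPrime P) (Localization.AtPrime P)) 2 := by
    intro P _
    have := LocCoh.IsGorensteinRing.isGorensteinLocalRing_localization (A := S) P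
    refine GrothLib.GorDimOne.hasInjDimLT_two _ (le_trans ?_ hdim.le)
    rw [IsLocalization.AtPrime.ringKrullDim_eq_height P (Localization.AtPrime P)]
    exact Ideal.height_le_ringKrullDim_of_ne_top (Ideal.IsPrime.ne_top inferInstance)
  let T : ShortComplex (ModuleCat.{u} S) := ShortComplex.mk (X₁ := ModuleCat.of S (LinearMap.ker (j ∘ₗ q)))
    (X₂ := ModuleCat.of S (Fin n → S)) (X₃ := ModuleCat.of S M)
    (ModuleCat.ofHom (LinearMap.ker (j ∘ₗ q)).subtype) (ModuleCat.ofHom q)
    (ModuleCat.hom_ext (LinearMap.ext fun x => hj (x.2.trans (map_zero j).symm)))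
  have hT : T.ShortExact :=
    { exact := (ShortComplex.moduleCat_exact_iff _).2 fun x hx =>
        ⟨⟨x, LinearMap.mem_ker.2 (by show j (q x) = 0; rw [show q x = 0 from hx, map_zero])⟩, rfl⟩
      mono_f := (ModuleCat.mono_iff_injective _).2 (Submodule.injective_subtype _)
      epi_g := (ModuleCat.epi_iff_surjective _).2 hq }
  refine subsingleton_of_forall_eq 0 fun e => ?_
  haveI : Projective T.X₂ := (IsProjective.iff_projective (R := S) (Fin n → S)).1 inferInstance
  obtain ⟨x, rfl⟩ := Abelian.Ext.contravariant_sequence_exact₃ hT (ModuleCat.of S S) e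
    (Abelian.Ext.eq_zero_of_projective _) (n₀ := 0) rfl
  obtain ⟨ψ, rfl⟩ := (Abelian.Ext.mk₀_bijective _ _).surjective x
  obtain ⟨φ, hφ⟩ := GrothLib.GorDimOne.extend_of_localized (j ∘ₗ q) hloc ψ.hom
  have hψ : ψ = T.f ≫ ModuleCat.ofHom φ := ModuleCat.hom_ext (LinearMap.ext fun z => (hφ z).symm)
  rw [hψ, ← Abelian.Ext.mk₀_comp_mk₀]
  exact ShortComplex.ShortExact.extClass_comp_assoc hT _

end Groth.Agent.S17989
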