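import Groth.Statements.S1799
import Groth.Agent.Lib.DualRing.ShriekFinite
import Mathlib.RingTheory.TensorProduct.MvPolynomial
-- import your own Groth.Agent.* helpers here

set_option autoImplicit false
set_option maxHeartbeats 800000
set_option linter.style.haveILetI false
universe u
open CategoryTheory
attribute [local instance] HasDerivedCategory.standard
open Dual2

namespace Groth.Agent.S1799

/-- Let A → B → C be ring maps of finite type between Noetherian rings, where each upper shriek φ^!(K)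
is formed from a presentation ψ : P = (base)[x_1, …, x_n] → (target) as RHom_P(target, K ⊗^L P)[n],
the derived base change functors being assumed to exist and RHom_P(target, −) being given as a right
adjoint of restriction of scalars. Then for every K in D(A) which is bounded below, the upper shriek
of K along A → C is isomorphic to the upper shriek along B → C of the upper shriek along A → B of K. -/
theorem result (A B C : Type u) [CommRing A] [CommRing B] [CommRing C] [IsNoetherianRing A] [IsNoetherianRing B] [IsNoetherianRing C] [Algebra A B] [Algebra B C] [Algebra A C] [IsScalarTower A B C] (n : ℕ) (ψ : MvPolynomial (Fin n) A →ₐ[A] B) (hψ : Function.Surjective ψ) [DRing.HasLBaseChange (algebraMap A (MvPolynomial (Fin n) A))] (Rψ : Dual.D (MvPolynomial (Fin n) A) ⥤ Dual.D B) (adj : DRing.restrictD ψ.toRingHom ⊣ Rψ) (m : ℕ) (χ : MvPolynomial (Fin m) B →ₐ[B] C) (hχ : Function.Surjective χ) [DRing.HasLBaseChange (algebraMap B (MvPolynomial (Fin m) B))] (Rχ : Dual.D (MvPolynomial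 (Fin m) B) ⥤ Dual.D C) (adjχ : DRing.restrictD χ.toRingHom ⊣ Rχ) (k : ℕ) (θ : MvPolynomial (Fin k) A →ₐ[A] C) (hθ : Function.Surjective θ) [DRing.HasLBaseChange (algebraMap A (MvPolynomial (Fin k) A))] (Rθ : Dual.D (MvPolynomial (Fin k) A) ⥤ Dual.D C) (adjθ : DRing.restrictD θ.toRingHom ⊣ Rθ) (K : Dual.D A) (c : ℤ) (hK : ∀ i : ℤ, i < c → Subsingleton (Dual.HD A K i)) : Nonempty (Dual2.shriekVia k Rθ K ≅ Dual2.shriekVia m Rχ (Dual2.shriekVia n Rψ K)) := by
  letI : Algebra (MvPolynomial (Fin n) A) B := ψ.toRingHom.toAlgebra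
  letI : Algebra (MvPolynomial (Fin m) (MvPolynomial (Fin n) A)) (MvPolynomial (Fin m) B) :=
    MvPolynomial.algebraMvPolynomial
  haveI := GrothLib.DualRing.Shriek.pfl_of_flat A (P := MvPolynomial (Fin n) A)
  haveI := GrothLib.DualRing.Shriek.pfl_of_flat (MvPolynomial (Fin n) A) (P := MvPolynomial (Fin m) (MvPolynomial (Fin n) A))
  haveI := GrothLib.DualRing.Shriek.pfl_of_flat A (P := MvPolynomial (Fin m) (MvPolynomial (Fin n) A))
  haveI := GrothLib.DualRing.Shriek.pfl_of_flat B (P := MvPolynomial (Fin m) B)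
  haveI := GrothLib.DualRing.Shriek.pfl_of_flat A (P := MvPolynomial (Fin k) A)
  haveI := GrothLib.DualRing.Shriek.pfl_of_flat A (P := MvPolynomial (Fin (m + n)) A)
  haveI : K.IsGE c := (DerivedCategory.isGE_iff K c).2 fun i hi => (GrothLib.DR.subsingleton_iff_isZero _).1 (hK i hi)
  haveI := GrothLib.DualCx22.isGE_bcD (MvPolynomial (Fin n) A) K c
  let M := (GrothLib.DualCx22.bcD (A := A) (MvPolynomial (Fin n) A)).obj K
  haveI : Module.Finite (MvPolynomial (Fin n) A) B :=
    Module.Finite.of_surjective (Algebra.linearMap (MvPolynomial (Fin n) A) B) hψ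
  have hp : ∃ e : TensorProduct (MvPolynomial (Fin n) A) B (MvPolynomial (Fin m) (MvPolynomial (Fin n) A)) ≃ₗ[B]
      MvPolynomial (Fin m) B, ∀ (b : B) q, e (b ⊗ₜ[MvPolynomial (Fin n) A] q) =
        algebraMap B (MvPolynomial (Fin m) B) b * algebraMap _ _ q :=
    ⟨(MvPolynomial.algebraTensorAlgEquiv (σ := Fin m) (MvPolynomial (Fin n) A) B).toLinearEquiv, fun b q =>
      (MvPolynomial.algebraTensorAlgEquiv_tmul _ B b q).trans (MvPolynomial.smul_eq_C_mul _ b)⟩
  haveI hi := GrothLib.DualRing.Shriek.isIso_baseChangeMap hp M fun i =>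
    GrothLib.DualCx22.isBC_inD (MvPolynomial (Fin m) (MvPolynomial (Fin n) A)) M c (i - c + 1).toNat B i (by omega)
  let e : MvPolynomial (Fin (m + n)) A ≃ₐ[A] MvPolynomial (Fin m) (MvPolynomial (Fin n) A) :=
    (MvPolynomial.renameEquiv A finSumFinEquiv.symm).trans (MvPolynomial.sumAlgEquiv A (Fin m) (Fin n))
  let j := algebraMap (MvPolynomial (Fin m) (MvPolynomial (Fin n) A)) (MvPolynomial (Fin m) B)
  let χj : MvPolynomial (Fin m) (MvPolynomial (Fin n) A) →+* C := χ.toRingHom.comp j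
  have hjA : ∀ a : A, χj (algebraMap A _ a) = algebraMap A C a := fun a => by
    rw [IsScalarTower.algebraMap_apply A (MvPolynomial (Fin n) A) (MvPolynomial (Fin m) (MvPolynomial (Fin n) A))]
    simp [χj, j, MvPolynomial.algebraMap_eq, RingHom.algebraMap_toAlgebra, IsScalarTower.algebraMap_apply A B C]
  let θ' : MvPolynomial (Fin (m + n)) A →ₐ[A] C :=
    { χj.comp e.toRingEquiv.toRingHom with
      commutes' := fun a => (congrArg χj (e.commutes a)).trans (hjA a) }
  have hθ' : Function.Surjective θ' :=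
    (hχ.comp (MvPolynomial.map_surjective (algebraMap (MvPolynomial (Fin n) A) B) hψ)).comp e.surjective
  haveI : CategoryTheory.Limits.PreservesFiniteLimits (ModuleCat.extendScalars.{u, u, u} e.toRingEquiv.toRingHom) :=
    GrothLib.DR.preservesFiniteLimits_extendScalars _ (RingHom.Flat.of_bijective (f := e.toRingEquiv.toRingHom) e.bijective)
  obtain ⟨eψ⟩ := GrothLib.DualRing.Shriek.nonempty_shriekVia ψ Rψ adj K
  obtain ⟨eθ⟩ := GrothLib.DualRing.Shriek.nonempty_shriekVia θ Rθ adjθ K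
  obtain ⟨eχ⟩ := GrothLib.DualRing.Shriek.nonempty_shriekVia χ Rχ adjχ (Dual2.shriekVia n Rψ K)
  obtain ⟨ei⟩ := GrothLib.DualRing.Shriek.nonempty_GP_indep θ hθ θ' hθ' K
  obtain ⟨eg⟩ := GrothLib.DualRing.Shriek.nonempty_G_iso (algebraMap A (MvPolynomial (Fin (m + n)) A)) e.toRingEquiv
    (algebraMap A (MvPolynomial (Fin m) (MvPolynomial (Fin n) A))) (RingHom.ext fun a => (e.commutes a).symm)
    θ'.toRingHom χj rfl ((m + n : ℕ) : ℤ) K
  let X := (GrothLib.DualRing.Shriek.RA j).obj ((GrothLib.DualCx22.bcD (MvPolynomial (Fin m) (MvPolynomial (Fin n) A))).obj M)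
  obtain ⟨es⟩ := GrothLib.DualRing.Shriek.nonempty_RA_shift χ.toRingHom X (n : ℤ)
  refine ⟨eθ ≪≫ ei ≪≫ eg.symm ≪≫ ?_ ≪≫ eχ.symm⟩
  exact (shiftFunctor (Dual.D C) ((m + n : ℕ) : ℤ)).mapIso
      ((GrothLib.DualRing.Shriek.RA χj).mapIso ((GrothLib.DualRing.Shriek.extTrans (algebraMap A (MvPolynomial (Fin n) A))
        (algebraMap (MvPolynomial (Fin n) A) (MvPolynomial (Fin m) (MvPolynomial (Fin n) A))) _
        (IsScalarTower.algebraMap_eq _ _ _)).app K).symm ≪≫
      ((GrothLib.DualRing.Shriek.raTrans χj χ.toRingHom j rfl).app _).symm) ≪≫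
    (shiftFunctorAdd' (Dual.D C) (n : ℤ) (m : ℤ) ((m + n : ℕ) : ℤ) (by push_cast; omega)).app _ ≪≫
    (shiftFunctor (Dual.D C) (m : ℤ)).mapIso (es.symm ≪≫ (GrothLib.DualRing.Shriek.RA χ.toRingHom).mapIso
      ((shiftFunctor (Dual.D (MvPolynomial (Fin m) B)) (n : ℤ)).mapIso
          (asIso (GrothLib.DualRing.Shriek.baseChangeMap hp M)).symm ≪≫
        (GrothLib.DualCx22.shiftBc (MvPolynomial (Fin m) B) _ (n : ℤ)).symm ≪≫
        (GrothLib.DualCx22.bcD (MvPolynomial (Fin m) B)).mapIso eψ.symm))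

end Groth.Agent.S1799
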