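import Groth.Statements.S17993
-- import your own Groth.Agent.* helpers here
import Groth.Agent.Lib.TateThm.MinOrder

set_option autoImplicit false
universe u
open CategoryTheory MonoidalCategory CartesianMonoidalCategory MonObj GrpObj AlgebraicGeometry MvPolynomial
open AbVar

namespace Groth.Agent.S17993

/-- The ℤ-rank of M_w(A) = Hom(A, A_w) is 2 dim A, in the following setting: let p be a prime and k a
field with p elements. Let (π_j) be a finite family of pairwise nonconjugate nonreal Weil p-numbers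
(π_j in a field K_j of characteristic zero, integral over ℤ with minimal polynomial P_j, all complex
roots of P_j of absolute value √p and none real, P_i ≠ P_j for i ≠ j), P_w = ∏_j P_j, and R_w ⊆ ∏_j
K_j the minimal central order, the image of ℤ[F, V] → ∏_j K_j, F ↦ (π_j), V ↦ (p/π_j). An abelian
variety over k means a proper, geometrically integral commutative group scheme over k, taken with
its p-Frobenius endomorphism π (the identity on points and the p-th power map on sections; a
homomorphism); it lies in AV_w when P_w(π) = 0 in its endomorphism ring. Let A_w be an abelian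
variety over k together with a ring isomorphism ρ : R_w ≅ End(A_w) sending the class of F to the
Frobenius of A_w (so A_w lies in AV_w and its endomorphism ring is the minimal central order);
Hom(X, A_w) is a module over End(A_w) ≅ R_w by postcomposition. Then for every abelian variety A in
AV_w, of dimension g, the group Hom(A, A_w) is a finitely generated free ℤ-module of rank 2g. -/
theorem result (p : ℕ) [Fact p.Prime] (k : Type u) [Field k] [Finite k] (hk : Nat.card k = p)
    (J : Type) [Fintype J] (K : J → Type) [∀ j, Field (K j)] [∀ j, CharZero (K j)] (ϖ : ∀ j, K j)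
    (hint : ∀ j, IsIntegral ℤ (ϖ j))
    (hweil : ∀ j, ∀ z ∈ (minpoly ℤ (ϖ j)).aroots ℂ, ‖z‖ = Real.sqrt p)
    (hnr : ∀ j, ∀ z ∈ (minpoly ℤ (ϖ j)).aroots ℂ, z.im ≠ 0)
    (hinj : ∀ i j, minpoly ℤ (ϖ i) = minpoly ℤ (ϖ j) → i = j)
    (Aw : Over (Spec (CommRingCat.of k))) [GrpObj Aw] [IsCommMonObj Aw] [IsProper Aw.hom] [GeometricallyIntegral Aw.hom]
    (πw : Aw ⟶ Aw) [IsMonHom πw] (hπwb : πw.left.base = 𝟙 _) (hπwle : ∀ U : Aw.left.Opens, U ≤ πw.left ⁻¹ᵁ U)
    (hπwapp : ∀ (U : Aw.left.Opens) (s : Γ(Aw.left, U)), (πw.left.appLE U U (hπwle U)).hom s = s ^ p)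
    (ρw : (MvPolynomial.aeval ![fun j => ϖ j, fun j => (p : K j) / ϖ j] : MvPolynomial (Fin 2) ℤ →ₐ[ℤ] ((j : J) → K j)).range ≃+* EndAV.End Aw)
    (hρw : ρw ⟨(MvPolynomial.aeval ![fun j => ϖ j, fun j => (p : K j) / ϖ j] : MvPolynomial (Fin 2) ℤ →ₐ[ℤ] ((j : J) → K j)) (X 0), AlgHom.mem_range_self _ _⟩ = EndAV.End.of πw)
    (A : Over (Spec (CommRingCat.of k))) [GrpObj A] [IsCommMonObj A] [IsProper A.hom] [GeometricallyIntegral A.hom]
    (πA : A ⟶ A) [IsMonHom πA] (hπAb : πA.left.base = 𝟙 _) (hπAle : ∀ U : A.left.Opens, U ≤ πA.left ⁻¹ᵁ U)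
    (hπAapp : ∀ (U : A.left.Opens) (s : Γ(A.left, U)), (πA.left.appLE U U (hπAle U)).hom s = s ^ p)
    (hPA : Polynomial.aeval (EndAV.End.of πA) (∏ j, minpoly ℤ (ϖ j)) = 0)
    (g : ℕ) (hg : topologicalKrullDim A.left = g) :
    Module.Free ℤ (EndAV.Hom A Aw) ∧ Module.Finite ℤ (EndAV.Hom A Aw) ∧
      Module.finrank ℤ (EndAV.Hom A Aw) = 2 * g := by
  refine ⟨GrothLib.HomFG.free_hom (A := A) (B := Aw), GrothLib.HomFG.finite_hom (A := A) (B := Aw), ?_⟩
  obtain ⟨l, hlp, hl⟩ := GrothLib.HomFG.exists_prime_ne_zero k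
  haveI : Fact l.Prime := ⟨hlp⟩
  let Ω := AlgebraicClosure k
  haveI : IsAlgClosed Ω := IsAlgClosure.isAlgClosed k
  let σ := Spec.map (CommRingCat.ofHom (algebraMap k Ω))
  haveI : Module.Finite ℤ_[l] (AbDual.TateMod A l (SGA7.pt Ω)) := GrothLib.AbTors.module_finite A σ l hl
  haveI : Module.Free ℤ_[l] (AbDual.TateMod A l (SGA7.pt Ω)) := Module.free_of_finite_type_torsion_free'
  haveI : Module.Finite ℤ_[l] (AbDual.TateMod Aw l (SGA7.pt Ω)) := GrothLib.AbTors.module_finite Aw σ l hl
  haveI : Module.Free ℤ_[l] (AbDual.TateMod Aw l (SGA7.pt Ω)) := Module.free_of_finite_type_torsion_free'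
  have hR : ϖ ∈ (MvPolynomial.aeval ![fun j => ϖ j, fun j => (p : K j) / ϖ j] :
      MvPolynomial (Fin 2) ℤ →ₐ[ℤ] ((j : J) → K j)).range :=
    ⟨MvPolynomial.X 0, by simp⟩
  refine GrothLib.TateThm.finrank_hom_weil (Ω := Ω) hl hint hinj πw hπwle (fun U s => by rw [hk]; exact hπwapp U s)
    hR ρw ((congrArg ρw (Subtype.ext (by simp))).trans hρw) πA hπAle (fun U s => by rw [hk]; exact hπAapp U s) hPA hg

end Groth.Agent.S17993
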