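import Groth.Statements.S17999
-- import your own Groth.Agent.* helpers here
import Groth.Agent.Lib.WeilOrd.Order
import Groth.Agent.Lib.WeilOrd.PicLift

set_option autoImplicit false
universe u
open MvPolynomial
open WeilNum

namespace Groth.Agent.S17999

/-- The case of finite sets of Weil numbers; let p be a prime, e ≥ 1 and q = p^e; let (π_j)_{j ∈ J} be a
finite family of pairwise nonconjugate Weil q-numbers (π_j in a field K_j of characteristic zero,
integral over ℤ with minimal polynomial P_j, all complex roots of P_j of absolute value √q, P_i ≠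
P_j for i ≠ j), and let e : J' → J be an injective map selecting a subfamily. Let I_w, resp. I_v, be
the kernel of ℤ[F, V] → ∏_{j ∈ J} K_j, resp. → ∏_{j' ∈ J'} K_{e(j')}, sending F ↦ (π_j) and V ↦
(q/π_j); then I_w ⊆ I_v and ℤ[F,V]/I_w → ℤ[F,V]/I_v is the natural surjection R_w → R_v of minimal
central orders. Then the induced homomorphism of Picard groups Pic(R_w) → Pic(R_v) is surjective.
The published statement concerns the Picard groups of the pro-rings attached to arbitrary subsets V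
⊆ W of Weil q-number classes; only the case of finite sets is stated here. -/
theorem result (p e : ℕ) [Fact p.Prime] (he : 0 < e)
    (J J' : Type) [Fintype J] [Fintype J'] (emb : J' → J) (hemb : Function.Injective emb)
    (K : J → Type u) [∀ j, Field (K j)] [∀ j, CharZero (K j)] (ϖ : ∀ j, K j)
    (hint : ∀ j, IsIntegral ℤ (ϖ j))
    (hweil : ∀ j, ∀ z ∈ (minpoly ℤ (ϖ j)).aroots ℂ, ‖z‖ = Real.sqrt ((p : ℝ) ^ e))
    (hinj : ∀ i j, minpoly ℤ (ϖ i) = minpoly ℤ (ϖ j) → i = j)
    (hle : RingHom.ker (MvPolynomial.aeval ![fun j => ϖ j, fun j => ((p : K j) ^ e) / ϖ j] :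
          MvPolynomial (Fin 2) ℤ →ₐ[ℤ] ((j : J) → K j)) ≤
        RingHom.ker (MvPolynomial.aeval ![fun j' => ϖ (emb j'), fun j' => ((p : K (emb j')) ^ e) / ϖ (emb j')] :
          MvPolynomial (Fin 2) ℤ →ₐ[ℤ] ((j' : J') → K (emb j')))) :
    Function.Surjective (CommRing.Pic.mapRingHom (Ideal.Quotient.factor hle)) := by
  have hp : ((p : ℤ) ^ e) ≠ 0 := pow_ne_zero _ (Int.natCast_ne_zero.2 (Fact.out : p.Prime).ne_zero)
  have hw := GrothLib.WeilOrd.isWeil_of_norm hweil
  let f₁ : MvPolynomial (Fin 2) ℤ →ₐ[ℤ] ((j : J) → K j) := MvPolynomial.aeval ![fun j => ϖ j, fun j => ((p : K j) ^ e) / ϖ j]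
  let f₂ : MvPolynomial (Fin 2) ℤ →ₐ[ℤ] ((j' : J') → K (emb j')) :=
    MvPolynomial.aeval ![fun j' => ϖ (emb j'), fun j' => ((p : K (emb j')) ^ e) / ϖ (emb j')]
  let R := MvPolynomial (Fin 2) ℤ ⧸ RingHom.ker f₁
  haveI : IsReduced R := isReduced_of_injective (RingHom.kerLift f₁.toRingHom) (RingHom.kerLift_injective f₁.toRingHom)
  haveI : IsReduced (MvPolynomial (Fin 2) ℤ ⧸ RingHom.ker f₂) :=
    isReduced_of_injective (RingHom.kerLift f₂.toRingHom) (RingHom.kerLift_injective f₂.toRingHom)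
  haveI : Algebra.IsIntegral ℤ R := ⟨fun x => by
    obtain ⟨g, rfl⟩ := Ideal.Quotient.mk_surjective x
    refine (isIntegral_algHom_iff (Ideal.kerLiftAlg f₁) (Ideal.kerLiftAlg_injective f₁)).1 ?_
    rw [Ideal.kerLiftAlg_mk, show f₁ g = GrothLib.WeilOrd.ev ((p : ℤ) ^ e) ϖ g from
      congrArg (fun f => f g) (GrothLib.WeilOrd.aeval_eq_ev p e ϖ)]
    exact GrothLib.WeilOrd.isIntegral_ev hp hint hw g⟩
  haveI : Ring.KrullDimLE 1 R := Ring.krullDimLE_iff.2 ((GrothLib.Dim.ringKrullDim_le_of_isIntegral ℤ R).trans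
    (by rw [IsPrincipalIdealRing.ringKrullDim_eq_one _ Int.not_isField]; rfl))
  exact GrothLib.WeilOrd.pic_map_surjective (R := R) (fun P hP => Ring.krullDimLE_one_iff.1 ‹_› P hP) _
    (Ideal.Quotient.factor_surjective hle)

end Groth.Agent.S17999
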