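import Groth.Statements.S1800
import Groth.Agent.Lib.DualRing.ShriekFinite
import Mathlib.RingTheory.TensorProduct.MvPolynomial
-- import your own Groth.Agent.* helpers here

set_option autoImplicit false
set_option maxHeartbeats 800000
set_option linter.style.haveILetI false
universe u
open CategoryTheory
open scoped TensorProduct
attribute [local instance] HasDerivedCategory.standard
open Dual2

namespace Groth.Agent.S1800

/-- Let R → R' be a flat homomorphism of Noetherian rings, R → A a ring map of finite type with A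
Noetherian, and A' = R' ⊗_R A with the induced map R' → A'; each upper shriek φ^!(K) is formed from
a presentation ψ : P = (base)[x_1, …, x_n] → (target) as RHom_P(target, K ⊗^L P)[n], the derived
base change functors being assumed to exist and RHom_P(target, −) being given as a right adjoint of
restriction of scalars. Assuming also the derived base change functors D(A) → D(A') and D(R) → D(R')
exist, for every K in D(R) which is bounded below the base change to A' of the upper shriek of K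
along R → A is isomorphic to the upper shriek along R' → A' of the base change of K to R'. -/
theorem result (R R' A : Type u) [CommRing R] [CommRing R'] [CommRing A] [IsNoetherianRing R] [IsNoetherianRing R'] [IsNoetherianRing A] [Algebra R R'] [Module.Flat R R'] [Algebra R A] [IsNoetherianRing (R' ⊗[R] A)] (n : ℕ) (ψ : MvPolynomial (Fin n) R →ₐ[R] A) (hψ : Function.Surjective ψ) [DRing.HasLBaseChange (algebraMap R (MvPolynomial (Fin n) R))] (Rψ : Dual.D (MvPolynomial (Fin n) R) ⥤ Dual.D A) (adj : DRing.restrictD ψ.toRingHom ⊣ Rψ) (m : ℕ) (ψ' : MvPolynomial (Fin m) R' →ₐ[R'] (R' ⊗[R] A)) (hψ' : Function.Surjective ψ') [DRing.HasLBaseChange (algebraMap R' (MvPolynomial (Fin m) R'))] (Rψ' : Dual.D (MvPolynomial (Fin m) R') ⥤ Dual.D (R' ⊗[R] A)) (adj' : DRing.restrictD ψ'.toRingHom ⊣ Rψ') [DRing.HasLBaseChange (Algebra.TensorProduct.includeRight : A →ₐ[R] R' ⊗[R] A).toRingHom] [DRing.HasLBaseChange (algebraMap R R')] (K : Dual.D R) (c : ℤ) (hK : ∀ i : ℤ, i < c → Subsingleton (Dual.HD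 R K i)) : Nonempty ((DRing.LBaseChange (Algebra.TensorProduct.includeRight : A →ₐ[R] R' ⊗[R] A).toRingHom).obj (Dual2.shriekVia n Rψ K) ≅ Dual2.shriekVia m Rψ' ((DRing.LBaseChange (algebraMap R R')).obj K)) := by
  letI : Algebra (MvPolynomial (Fin n) R) A := ψ.toRingHom.toAlgebra
  letI : Algebra A (R' ⊗[R] A) := (Algebra.TensorProduct.includeRight : A →ₐ[R] R' ⊗[R] A).toRingHom.toAlgebra
  letI : Algebra (MvPolynomial (Fin n) R) (MvPolynomial (Fin n) R') := MvPolynomial.algebraMvPolynomial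
  let ψb : MvPolynomial (Fin n) R' →ₐ[R'] (R' ⊗[R] A) :=
    MvPolynomial.aeval fun j => (1 : R') ⊗ₜ[R] ψ (MvPolynomial.X j)
  letI : Algebra (MvPolynomial (Fin n) R') (R' ⊗[R] A) := ψb.toRingHom.toAlgebra
  letI : Algebra (MvPolynomial (Fin n) R) (R' ⊗[R] A) :=
    ((algebraMap A (R' ⊗[R] A)).comp (algebraMap (MvPolynomial (Fin n) R) A)).toAlgebra
  haveI : IsScalarTower R (MvPolynomial (Fin n) R) A := IsScalarTower.of_algebraMap_eq' ψ.comp_algebraMap.symm
  haveI : IsScalarTower R (MvPolynomial (Fin n) R) (MvPolynomial (Fin n) R') :=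
    IsScalarTower.of_algebraMap_eq fun r => (MvPolynomial.map_C _ r).symm
  haveI : IsScalarTower R A (R' ⊗[R] A) := IsScalarTower.of_algebraMap_eq fun r =>
    ((Algebra.TensorProduct.includeRight : A →ₐ[R] R' ⊗[R] A).commutes r).symm
  haveI : IsScalarTower (MvPolynomial (Fin n) R) A (R' ⊗[R] A) := IsScalarTower.of_algebraMap_eq fun _ => rfl
  haveI : IsScalarTower R' (MvPolynomial (Fin n) R') (R' ⊗[R] A) := IsScalarTower.of_algebraMap_eq' ψb.comp_algebraMap.symm
  haveI : IsScalarTower (MvPolynomial (Fin n) R) (MvPolynomial (Fin n) R') (R' ⊗[R] A) := by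
    refine IsScalarTower.of_algebraMap_eq' (MvPolynomial.ringHom_ext (fun r => ?_) fun j => ?_)
    · simp [RingHom.algebraMap_toAlgebra, ψb]
    · simp [RingHom.algebraMap_toAlgebra, ψb]
  haveI : IsScalarTower R (MvPolynomial (Fin n) R') (R' ⊗[R] A) := by
    refine IsScalarTower.of_algebraMap_eq fun r => ?_
    rw [IsScalarTower.algebraMap_apply R R' (MvPolynomial (Fin n) R'),
      ← IsScalarTower.algebraMap_apply R' (MvPolynomial (Fin n) R') (R' ⊗[R] A), ← IsScalarTower.algebraMap_apply]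
  haveI hRA : Algebra.IsPushout R A R' (R' ⊗[R] A) := by
    haveI := (TensorProduct.isPushout' (R := R) (S := R') (T := A))
    assumption
  have hpush : Algebra.IsPushout (MvPolynomial (Fin n) R) A (MvPolynomial (Fin n) R') (R' ⊗[R] A) :=
    (Algebra.IsPushout.comp_iff R (MvPolynomial (Fin n) R) R' (MvPolynomial (Fin n) R')).1 hRA
  have hp : ∃ e : A ⊗[MvPolynomial (Fin n) R] MvPolynomial (Fin n) R' ≃ₗ[A] R' ⊗[R] A,
      ∀ (b : A) q, e (b ⊗ₜ[MvPolynomial (Fin n) R] q) =
        algebraMap A (R' ⊗[R] A) b * algebraMap (MvPolynomial (Fin n) R') (R' ⊗[R] A) q :=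
    ⟨(Algebra.IsPushout.equiv _ A _ (R' ⊗[R] A)).toLinearEquiv, fun b q => Algebra.IsPushout.equiv_tmul _ _ _ _ b q⟩
  haveI : Module.Flat (MvPolynomial (Fin n) R) (MvPolynomial (Fin n) R') :=
    Module.Flat.isBaseChange R (MvPolynomial (Fin n) R) R' (MvPolynomial (Fin n) R')
      (Algebra.IsPushout.symm (inferInstance : Algebra.IsPushout R R' (MvPolynomial (Fin n) R) (MvPolynomial (Fin n) R'))).out
  haveI : Module.Flat A (R' ⊗[R] A) := Module.Flat.isBaseChange R A R' (R' ⊗[R] A) hRA.out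
  haveI := GrothLib.DualRing.Shriek.pfl_of_flat R (P := MvPolynomial (Fin n) R)
  haveI := GrothLib.DualRing.Shriek.pfl_of_flat R' (P := MvPolynomial (Fin m) R')
  haveI := GrothLib.DualRing.Shriek.pfl_of_flat R' (P := MvPolynomial (Fin n) R')
  haveI : Module.Flat R (MvPolynomial (Fin n) R') := Module.Flat.trans R R' _
  haveI := GrothLib.DualRing.Shriek.pfl_of_flat R (P := MvPolynomial (Fin n) R')
  haveI := GrothLib.DualRing.Shriek.pfl_of_flat R (P := R')
  haveI := GrothLib.DualRing.Shriek.pfl_of_flat A (P := R' ⊗[R] A)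
  haveI := GrothLib.DualRing.Shriek.pfl_of_flat (MvPolynomial (Fin n) R) (P := MvPolynomial (Fin n) R')
  haveI : K.IsGE c := (DerivedCategory.isGE_iff K c).2 fun i hi => (GrothLib.DR.subsingleton_iff_isZero _).1 (hK i hi)
  haveI := GrothLib.DualCx22.isGE_bcD (MvPolynomial (Fin n) R) K c
  let M := (GrothLib.DualCx22.bcD (A := R) (MvPolynomial (Fin n) R)).obj K
  haveI : Module.Finite (MvPolynomial (Fin n) R) A :=
    Module.Finite.of_surjective (Algebra.linearMap (MvPolynomial (Fin n) R) A) hψ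
  haveI hi := GrothLib.DualRing.Shriek.isIso_baseChangeMap hp M fun i =>
    GrothLib.DualCx22.isBC_inD (MvPolynomial (Fin n) R') M c (i - c + 1).toNat A i (by omega)
  have hψb : Function.Surjective ψb := by
    intro z
    induction z using TensorProduct.induction_on with
    | zero => exact ⟨0, map_zero _⟩
    | tmul r a =>
      obtain ⟨q, rfl⟩ := hψ a
      refine ⟨algebraMap R' (MvPolynomial (Fin n) R') r * algebraMap (MvPolynomial (Fin n) R) _ q, ?_⟩
      have h1 : ψb (algebraMap (MvPolynomial (Fin n) R) _ q) = (1 : R') ⊗ₜ[R] ψ q :=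
        (IsScalarTower.algebraMap_apply (MvPolynomial (Fin n) R) (MvPolynomial (Fin n) R') (R' ⊗[R] A) q).symm
      rw [map_mul, ψb.commutes, h1, Algebra.TensorProduct.algebraMap_apply, Algebra.TensorProduct.tmul_mul_tmul]
      simp
    | add x y hx hy =>
      obtain ⟨a, rfl⟩ := hx
      obtain ⟨b, rfl⟩ := hy
      exact ⟨a + b, map_add _ a b⟩
  obtain ⟨eL⟩ := GrothLib.DualCx22.nonempty_lBase_iso_bcD (A := A) (R' ⊗[R] A)
  obtain ⟨eR⟩ := GrothLib.DualCx22.nonempty_lBase_iso_bcD (A := R) R'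
  obtain ⟨e1⟩ := GrothLib.DualRing.Shriek.nonempty_shriekVia ψ Rψ adj K
  obtain ⟨e2⟩ := GrothLib.DualRing.Shriek.nonempty_shriekVia ψ' Rψ' adj' ((DRing.LBaseChange (algebraMap R R')).obj K)
  obtain ⟨e3⟩ := GrothLib.DualRing.Shriek.nonempty_GP_indep ψb hψb ψ' hψ' ((DRing.LBaseChange (algebraMap R R')).obj K)
  let eB := (GrothLib.DualRing.Shriek.extTrans (algebraMap R (MvPolynomial (Fin n) R))
      (algebraMap (MvPolynomial (Fin n) R) (MvPolynomial (Fin n) R')) (algebraMap R (MvPolynomial (Fin n) R'))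
      (IsScalarTower.algebraMap_eq _ _ _)).app K ≪≫
    ((GrothLib.DualRing.Shriek.extTrans (algebraMap R R') (algebraMap R' (MvPolynomial (Fin n) R'))
      (algebraMap R (MvPolynomial (Fin n) R')) (IsScalarTower.algebraMap_eq _ _ _)).app K).symm ≪≫
    (GrothLib.DualRing.Shriek.extD (algebraMap R' (MvPolynomial (Fin n) R'))).mapIso (eR.app K).symm
  exact ⟨(eL.app _) ≪≫ (GrothLib.DualCx22.bcD (A := A) (R' ⊗[R] A)).mapIso e1 ≪≫
    GrothLib.DualCx22.shiftBc (R' ⊗[R] A) _ (n : ℤ) ≪≫
    (shiftFunctor (Dual.D (R' ⊗[R] A)) (n : ℤ)).mapIso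
      (asIso (GrothLib.DualRing.Shriek.baseChangeMap hp M) ≪≫
        (GrothLib.DualRing.Shriek.RA ψb.toRingHom).mapIso eB) ≪≫ e3 ≪≫ e2.symm⟩

end Groth.Agent.S1800
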