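import Groth.Statements.S18000
-- import your own Groth.Agent.* helpers here
import Groth.Agent.Lib.TateThm.MinIsogeny

set_option autoImplicit false
universe u
open CategoryTheory MonoidalCategory CartesianMonoidalCategory MonObj GrpObj AlgebraicGeometry MvPolynomial
open AbVar

namespace Groth.Agent.S18000

/-- Stated for abelian varieties with Weil support in a fixed finite set w, where the lattice functor is
M_w = Hom(−, A_w); let p be a prime and k a field with p elements. Let (π_j) be a finite family of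
pairwise nonconjugate nonreal Weil p-numbers (π_j in a field K_j of characteristic zero, integral
over ℤ with minimal polynomial P_j, all complex roots of P_j of absolute value √p and none real, P_i
≠ P_j for i ≠ j), P_w = ∏_j P_j, and R_w ⊆ ∏_j K_j the minimal central order, the image of ℤ[F, V] →
∏_j K_j, F ↦ (π_j), V ↦ (p/π_j). An abelian variety over k means a proper, geometrically integral
commutative group scheme over k, taken with its p-Frobenius endomorphism π (the identity on points
and the p-th power map on sections; a homomorphism); it lies in AV_w when P_w(π) = 0 in its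
endomorphism ring. Let A_w be an abelian variety over k together with a ring isomorphism ρ : R_w ≅
End(A_w) sending the class of F to the Frobenius of A_w (so A_w lies in AV_w and its endomorphism
ring is the minimal central order); Hom(X, A_w) is a module over End(A_w) ≅ R_w by postcomposition.
Let A, B lie in AV_w and let f : B → A be a homomorphism. Then f is an isogeny — its underlying
morphism of schemes is finite and surjective — if and only if the map Hom(A, A_w) → Hom(B, A_w), φ ↦
(f followed by φ), is an isomorphism after tensoring with ℚ, that is, injective with finite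
cokernel. -/
theorem result (p : ℕ) [Fact p.Prime] (k : Type u) [Field k] [Finite k] (hk : Nat.card k = p)
    (J : Type) [Fintype J] (K : J → Type) [∀ j, Field (K j)] [∀ j, CharZero (K j)] (ϖ : ∀ j, K j)
    (hint : ∀ j, IsIntegral ℤ (ϖ j))
    (hweil : ∀ j, ∀ z ∈ (minpoly ℤ (ϖ j)).aroots ℂ, ‖z‖ = Real.sqrt p)
    (hnr : ∀ j, ∀ z ∈ (minpoly ℤ (ϖ j)).aroots ℂ, z.im ≠ 0)
    (hinj : ∀ i j, minpoly ℤ (ϖ i) = minpoly ℤ (ϖ j) → i = j)
    (Aw : Over (Spec (CommRingCat.of k))) [GrpObj Aw] [IsCommMonObj Aw] [IsProper Aw.hom] [GeometricallyIntegral Aw.hom]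
    (πw : Aw ⟶ Aw) [IsMonHom πw] (hπwb : πw.left.base = 𝟙 _) (hπwle : ∀ U : Aw.left.Opens, U ≤ πw.left ⁻¹ᵁ U)
    (hπwapp : ∀ (U : Aw.left.Opens) (s : Γ(Aw.left, U)), (πw.left.appLE U U (hπwle U)).hom s = s ^ p)
    (ρw : (MvPolynomial.aeval ![fun j => ϖ j, fun j => (p : K j) / ϖ j] : MvPolynomial (Fin 2) ℤ →ₐ[ℤ] ((j : J) → K j)).range ≃+* EndAV.End Aw)
    (hρw : ρw ⟨(MvPolynomial.aeval ![fun j => ϖ j, fun j => (p : K j) / ϖ j] : MvPolynomial (Fin 2) ℤ →ₐ[ℤ] ((j : J) → K j)) (X 0), AlgHom.mem_range_self _ _⟩ = EndAV.End.of πw)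
    (A : Over (Spec (CommRingCat.of k))) [GrpObj A] [IsCommMonObj A] [IsProper A.hom] [GeometricallyIntegral A.hom]
    (πA : A ⟶ A) [IsMonHom πA] (hπAb : πA.left.base = 𝟙 _) (hπAle : ∀ U : A.left.Opens, U ≤ πA.left ⁻¹ᵁ U)
    (hπAapp : ∀ (U : A.left.Opens) (s : Γ(A.left, U)), (πA.left.appLE U U (hπAle U)).hom s = s ^ p)
    (hPA : Polynomial.aeval (EndAV.End.of πA) (∏ j, minpoly ℤ (ϖ j)) = 0)
    (B : Over (Spec (CommRingCat.of k))) [GrpObj B] [IsCommMonObj B] [IsProper B.hom] [GeometricallyIntegral B.hom]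
    (πB : B ⟶ B) [IsMonHom πB] (hπBb : πB.left.base = 𝟙 _) (hπBle : ∀ U : B.left.Opens, U ≤ πB.left ⁻¹ᵁ U)
    (hπBapp : ∀ (U : B.left.Opens) (s : Γ(B.left, U)), (πB.left.appLE U U (hπBle U)).hom s = s ^ p)
    (hPB : Polynomial.aeval (EndAV.End.of πB) (∏ j, minpoly ℤ (ϖ j)) = 0)
    (f : EndAV.Hom B A) :
    (IsFinite f.toHom.left ∧ Surjective f.toHom.left) ↔
      (Function.Injective (Preadditive.leftComp (CommGrp.mk Aw) f) ∧
        Finite (EndAV.Hom B Aw ⧸ (Preadditive.leftComp (CommGrp.mk Aw) f).range)) := by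
  haveI := GrothLib.HomFG.finite_hom (A := B) (B := Aw)
  constructor
  · rintro ⟨h1, h2⟩
    obtain ⟨hi, n, hn, hs⟩ := GrothLib.TateThm.precomp_of_isogeny (C := Aw) f
    refine ⟨(injective_iff_map_eq_zero _).2 hi, ?_⟩
    haveI : AddGroup.FG (EndAV.Hom B Aw) := Module.Finite.iff_addGroup_fg.1 inferInstance
    refine AddCommGroup.finite_of_fg_isAddTorsion _ (fun x => ?_)
    induction x using QuotientAddGroup.induction_on with
    | H ψ =>
      obtain ⟨φ, hφ⟩ := hs ψ
      refine isOfFinAddOrder_iff_nsmul_eq_zero.2 ⟨n, hn, ?_⟩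
      rw [← QuotientAddGroup.mk_nsmul, QuotientAddGroup.eq_zero_iff]
      exact ⟨φ, hφ⟩
  · rintro ⟨hi, hfin⟩
    obtain ⟨l, hl, hlk⟩ := GrothLib.HomFG.exists_prime_ne_zero k
    haveI := Fact.mk hl
    have hpk : (p : k) = 0 := by rw [← hk]; haveI := Fintype.ofFinite k; rw [Nat.card_eq_fintype_card]; exact FiniteField.cast_card_eq_zero k
    have hlp : l ≠ p := fun h => hlk (h ▸ hpk)
    have hpu : IsUnit (p : ℤ_[l]) := PadicInt.isUnit_iff.2 (PadicInt.norm_natCast_eq_one_iff.2
      ((Nat.coprime_primes hl (Fact.out : p.Prime)).2 hlp))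
    let σ := Spec.map (CommRingCat.ofHom (algebraMap k (AlgebraicClosure k)))
    haveI : Module.Finite ℤ_[l] (AbDual.TateMod Aw l (SGA7.pt (AlgebraicClosure k))) := GrothLib.AbTors.module_finite Aw σ l hlk
    haveI : Module.Free ℤ_[l] (AbDual.TateMod Aw l (SGA7.pt (AlgebraicClosure k))) := Module.free_of_finite_type_torsion_free'
    haveI : Module.Finite ℤ_[l] (AbDual.TateMod A l (SGA7.pt (AlgebraicClosure k))) := GrothLib.AbTors.module_finite A σ l hlk
    haveI : Module.Free ℤ_[l] (AbDual.TateMod A l (SGA7.pt (AlgebraicClosure k))) := Module.free_of_finite_type_torsion_free'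
    haveI : Module.Finite ℤ_[l] (AbDual.TateMod B l (SGA7.pt (AlgebraicClosure k))) := GrothLib.AbTors.module_finite B σ l hlk
    haveI : Module.Free ℤ_[l] (AbDual.TateMod B l (SGA7.pt (AlgebraicClosure k))) := Module.free_of_finite_type_torsion_free'
    have hN : ∃ N : ℕ, 0 < N ∧ ∀ ψ : EndAV.Hom B Aw, ∃ φ, f ≫ φ = N • ψ :=
      ⟨Nat.card (EndAV.Hom B Aw ⧸ (Preadditive.leftComp (CommGrp.mk Aw) f).range), Nat.card_pos, fun ψ =>
        (AddMonoidHom.mem_range (f := Preadditive.leftComp (CommGrp.mk Aw) f)).1 <|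
          (QuotientAddGroup.eq_zero_iff (N := (Preadditive.leftComp (CommGrp.mk Aw) f).range) _).1
            ((QuotientAddGroup.mk_nsmul _ ψ _).trans card_nsmul_eq_zero')⟩
    exact GrothLib.TateThm.isogeny_of_precomp (AlgebraicClosure k) hlk hint hinj hpu
      (GrothLib.TateThm.ne_zero_of_weil ϖ (Fact.out : p.Prime).ne_zero hweil) πw hπwle
      (fun U s => by rw [hk]; exact hπwapp U s) ρw ((congrArg ρw (Subtype.ext (by simp))).trans hρw)
      πA hπAle (fun U s => by rw [hk]; exact hπAapp U s) hPA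
      πB hπBle (fun U s => by rw [hk]; exact hπBapp U s) hPB f ((injective_iff_map_eq_zero _).1 hi) hN

end Groth.Agent.S18000
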