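import Groth.Statements.S18003
-- import your own Groth.Agent.* helpers here
import Groth.Agent.Lib.WeilOrd.Modules

set_option autoImplicit false
universe u
open MvPolynomial
open WeilNum

namespace Groth.Agent.S18003

/-- Let p be a prime, e ≥ 1 and q = p^e; let (π_i) be a finite family of pairwise nonconjugate Weil
q-numbers (π_i in a field K_i of characteristic zero, integral over ℤ with minimal polynomial P_i,
all complex roots of P_i of absolute value √q, P_i ≠ P_j for i ≠ j) of even total degree Σ_i deg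
P_i, P_w = ∏_i P_i, and R_w ⊆ ∏_i K_i the minimal central order, the image of ℤ[F, V] → ∏_i K_i, F ↦
(π_i), V ↦ (q/π_i). Let T be a finitely generated free ℤ-module and F_T an endomorphism of T. Then
there exists an R_w-module structure on the additive group T in which the class of F acts as F_T if
and only if P_w(F_T) = 0 (equivalently: F_T is semisimple after tensoring with ℚ, with eigenvalues
among the conjugates of the π_i) and there is an endomorphism V_T of T with F_T ∘ V_T = q. When it
exists the structure is determined by F_T (the class of V acts as V_T = q·F_T⁻¹), and reflexive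
R_w-modules are exactly the ℤ-free finitely generated ones, so this identifies the objects of
Refl(R_w) with such pairs (T, F_T); the uniqueness remark is not part of the formal statement. -/
theorem result (p e : ℕ) [Fact p.Prime] (he : 0 < e)
    (ι : Type) [Fintype ι] (K : ι → Type u) [∀ i, Field (K i)] [∀ i, CharZero (K i)] (π : ∀ i, K i)
    (hint : ∀ i, IsIntegral ℤ (π i))
    (hweil : ∀ i, ∀ z ∈ (minpoly ℤ (π i)).aroots ℂ, ‖z‖ = Real.sqrt ((p : ℝ) ^ e))
    (hinj : ∀ i j, minpoly ℤ (π i) = minpoly ℤ (π j) → i = j)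
    (D : ℕ) (hD : ∑ i, (minpoly ℤ (π i)).natDegree = 2 * D)
    (T : Type) [AddCommGroup T] [Module.Finite ℤ T] [Module.Free ℤ T] (FT : T →ₗ[ℤ] T) :
    (∃ _ : Module (MvPolynomial.aeval ![fun i => π i, fun i => ((p : K i) ^ e) / π i] :
        MvPolynomial (Fin 2) ℤ →ₐ[ℤ] ((i : ι) → K i)).range T,
        ∀ t : T, (⟨(MvPolynomial.aeval ![fun i => π i, fun i => ((p : K i) ^ e) / π i] :
        MvPolynomial (Fin 2) ℤ →ₐ[ℤ] ((i : ι) → K i)) (X 0), AlgHom.mem_range_self _ _⟩ : (MvPolynomial.aeval ![fun i => π i, fun i => ((p : K i) ^ e) / π i] :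
        MvPolynomial (Fin 2) ℤ →ₐ[ℤ] ((i : ι) → K i)).range) • t = FT t) ↔
      (Polynomial.aeval FT (∏ i, minpoly ℤ (π i)) = 0 ∧
        ∃ VT : T →ₗ[ℤ] T, FT ∘ₗ VT = ((p : ℤ) ^ e) • LinearMap.id) := by
  have hp : ((p : ℤ) ^ e) ≠ 0 := pow_ne_zero _ (Int.natCast_ne_zero.2 (Fact.out : p.Prime).ne_zero)
  have hw := GrothLib.WeilOrd.isWeil_of_norm hweil
  have hev := GrothLib.WeilOrd.aeval_eq_ev p e π
  have key : ∀ (f : MvPolynomial (Fin 2) ℤ →ₐ[ℤ] ((i : ι) → K i)), f = GrothLib.WeilOrd.ev ((p : ℤ) ^ e) π →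
      ∀ hmem : f (X 0) ∈ f.range, ((∃ _ : Module f.range T, ∀ t : T, (⟨f (X 0), hmem⟩ : f.range) • t = FT t) ↔
        (Polynomial.aeval FT (∏ i, minpoly ℤ (π i)) = 0 ∧ ∃ VT : T →ₗ[ℤ] T, FT ∘ₗ VT = ((p : ℤ) ^ e) • LinearMap.id)) := by
    rintro f rfl hmem
    exact GrothLib.WeilOrd.exists_module_iff hp hint hw hinj hD FT _ rfl
  exact key _ hev (AlgHom.mem_range_self _ _)

end Groth.Agent.S18003
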