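import Groth.Statements.S1801
import Groth.Agent.Lib.DualRing.ShriekRelProps
-- import your own Groth.Agent.* helpers here

set_option autoImplicit false
universe u
open CategoryTheory
open scoped TensorProduct
attribute [local instance] HasDerivedCategory.standard
open Dual2

namespace Groth.Agent.S1801

/-- Flat case (part (2) with (1)(a)–(c) and (2)(b)). Let R → A be a ring map between Noetherian rings
which is flat and of finite type, where φ^!(K) is formed from a presentation ψ : R[x_1, …, x_n] → A
as RHom_P(A, K ⊗^L_R P)[n], assuming the derived base change to P exists and taking for RHom_P(A, −)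
a right adjoint of restriction of scalars along ψ; put ω = φ^!(R). Then: (a) ω has finitely many
nonzero cohomology modules, all finite over A; (b) after restriction of scalars to R, ω is
isomorphic to a bounded complex of flat R-modules (finite tor dimension over R); (c) a ↦ a·id is a
bijection A → End(ω) and ω has no self-maps of nonzero degree; (d) for every ring map R → k to a
field, assuming the derived base change D(A) → D(k ⊗_R A) exists, the base change of ω is a
dualizing complex for k ⊗_R A. -/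
theorem result (R A : Type u) [CommRing R] [CommRing A] [IsNoetherianRing R] [IsNoetherianRing A] [Algebra R A] [Module.Flat R A] (n : ℕ) (ψ : MvPolynomial (Fin n) R →ₐ[R] A) (hψ : Function.Surjective ψ) [DRing.HasLBaseChange (algebraMap R (MvPolynomial (Fin n) R))] (Rψ : Dual.D (MvPolynomial (Fin n) R) ⥤ Dual.D A) (adj : DRing.restrictD ψ.toRingHom ⊣ Rψ) : (∃ a b : ℤ, ∀ i : ℤ, (i < a ∨ b < i) → Subsingleton (Dual.HD A (Dual2.shriekVia n Rψ (Dual.inD R R)) i)) ∧ (∀ i : ℤ, Module.Finite A (Dual.HD A (Dual2.shriekVia n Rψ (Dual.inD R R)) i)) ∧ DRing.HasFiniteTorDimCx R ((DRing.restrictD (algebraMap R A)).obj (Dual2.shriekVia n Rψ (Dual.inD R R))) ∧ (Function.Bijective (fun a : A => a • CategoryTheory.CategoryStruct.id (Dual2.shriekVia n Rψ (Dual.inD R R))) ∧ ∀ i : ℤ, i ≠ 0 → Subsingleton (Dual2.shriekVia n Rψ (Dual.inD R R) ⟶ (Dual2.shriekVia n Rψ (Dual.inD R R))⟦i⟧)) ∧ ∀ (k : Type u) [Field k] [Algebra R k] [DRing.HasLBaseChange (Algebra.TensorProduct.includeRight : A →ₐ[R] k ⊗[R] A).toRingHom], Dual.IsDualizing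 (k ⊗[R] A) ((DRing.LBaseChange (Algebra.TensorProduct.includeRight : A →ₐ[R] k ⊗[R] A).toRingHom).obj (Dual2.shriekVia n Rψ (Dual.inD R R))) := by
  haveI := GrothLib.DualRing.Shriek.pfl_of_flat R (P := MvPolynomial (Fin n) R)
  haveI : Algebra.FiniteType R A := Algebra.FiniteType.of_surjective ψ hψ
  haveI : Algebra.FinitePresentation R A := Algebra.FinitePresentation.of_finiteType.1 inferInstance
  obtain ⟨e⟩ := GrothLib.DualRing.Shriek.nonempty_shriekVia ψ Rψ adj (Dual.inD R R)
  obtain ⟨⟨a, b, hab⟩, hfin, c, d, ht⟩ := GrothLib.DualRing.Shriek.props_GP ψ hψ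
  obtain ⟨hbij, hext⟩ := GrothLib.DualRing.Shriek.simple_GP ψ hψ
  refine ⟨⟨a, b, fun i hi => ?_⟩, fun i => ?_, ⟨c, d, ?_⟩, ⟨?_, fun i hi => ?_⟩, fun k _ _ _ => ?_⟩
  · haveI := hab i hi
    exact ((DerivedCategory.homologyFunctor (ModuleCat.{u} A) i).mapIso e).toLinearEquiv.toEquiv.subsingleton
  · haveI := hfin i
    exact Module.Finite.equiv ((DerivedCategory.homologyFunctor (ModuleCat.{u} A) i).mapIso e).toLinearEquiv.symm
  · obtain ⟨E, hv, hf, ⟨eE⟩⟩ := ht
    exact ⟨E, hv, hf, ⟨eE ≪≫ ((DRing.restrictD (algebraMap R A)).mapIso e).symm⟩⟩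
  · have h : (fun x : A => x • 𝟙 (Dual2.shriekVia n Rψ (Dual.inD R R))) =
        (Linear.homCongr A e.symm e.symm) ∘ fun x : A => x • 𝟙 _ := by
      funext x
      simp [Linear.homCongr_apply]
    rw [h]
    exact (Linear.homCongr A e.symm e.symm).bijective.comp hbij
  · haveI := hext i hi
    exact (e.homCongr ((shiftFunctor (Dual.D A) i).mapIso e)).subsingleton
  · exact GrothLib.DualCx22.isDualizing_of_iso ((DRing.LBaseChange _).mapIso e.symm)
      (GrothLib.DualRing.Shriek.isDualizing_lBase_GP ψ hψ k)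

end Groth.Agent.S1801
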