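import Groth.Statements.S18012
-- import your own Groth.Agent.* helpers here
import Groth.Agent.Lib.LiftSqLib.Basic

set_option autoImplicit false
universe u
open ThetaS

namespace Groth.Agent.S18012

open CategoryTheory AlgebraicGeometry in
/-- S-complete morphisms are stable under composition. Here this is stated for functors over (Sch/S)
between arbitrary categories over (Sch/S): if f : X → Y and g : Y → Z are S-complete, i.e. every
2-commutative square against the open immersion of the punctured stack into the compactified
two-branched stack [Spec R[s,t]/(st − π)/G_m] (for every discrete valuation ring R with a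
uniformizer and every Spec R → S) has a dotted arrow unique up to a unique morphism of dotted
arrows, then so is f ⋙ g. (The published statement is for morphisms of locally Noetherian algebraic
stacks; here the categories over (Sch/S) are arbitrary.) -/
theorem result {S : Scheme.{u}} {𝒳 𝒴 𝒵 : AlgSt.Cat S} (f : 𝒳 ⥤ᵇ 𝒴) (g : 𝒴 ⥤ᵇ 𝒵)
    (hf : ThetaS.IsSComplete Scheme.fppfPrecoverage f) (hg : ThetaS.IsSComplete Scheme.fppfPrecoverage g) :
    ThetaS.IsSComplete Scheme.fppfPrecoverage (BasedFunctor.comp f g) := by
  exact fun R _ _ _ ϖ hϖ h => GrothLib.LiftSqLib.liftsUniquely_comp f g (hf R ϖ hϖ h) (hg R ϖ hϖ h)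

end Groth.Agent.S18012
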