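import Groth.Statements.S18014
import Groth.Agent.Lib.NilPair8.Pair

set_option autoImplicit false
universe u
open CategoryTheory CategoryTheory.Limits
open Lim

namespace Groth.Agent.S18014

/-- Let A be a commutative ring, B an A-algebra and C a B-algebra, with B and C both integral over A.
Then B → C is a filtered colimit, in the category of A-algebras, of maps B_i → C_i between
A-algebras each of which is finite and of finite presentation over A: there are a small filtered
index category, two diagrams of A-algebras over it with a morphism of diagrams, and colimiting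
cocones with vertices B and C under which the morphism of diagrams induces B → C. Moreover the
system can be chosen so that if A → B (resp. B → C, resp. A → C) is surjective then so is every A →
B_i (resp. B_i → C_i, resp. A → C_i), and if A → B (resp. B → C, resp. A → C) is surjective with
nilpotent kernel then so is every A → B_i (resp. B_i → C_i, resp. A → C_i). -/
theorem result {A B C : Type u} [CommRing A] [CommRing B]
    [CommRing C] [Algebra A B] [Algebra A C] [Algebra B C] [IsScalarTower A B C]
    [Algebra.IsIntegral A B] [Algebra.IsIntegral A C] :
    ∃ (ι : Type u) (_ : SmallCategory ι) (_ : IsFiltered ι) (DB DC : ι ⥤ Under (CommRingCat.of A)) (τ : DB ⟶ DC)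
      (cB : DB ⟶ (Functor.const ι).obj (Under.mk (CommRingCat.ofHom (algebraMap A B))))
      (cC : DC ⟶ (Functor.const ι).obj (Under.mk (CommRingCat.ofHom (algebraMap A C)))),
      Nonempty (IsColimit (Cocone.mk _ cB)) ∧ Nonempty (IsColimit (Cocone.mk _ cC)) ∧
      (∀ i, (τ.app i).right ≫ (cC.app i).right = (cB.app i).right ≫ CommRingCat.ofHom (algebraMap B C)) ∧
      (∀ i, (DB.obj i).hom.hom.Finite ∧ (DB.obj i).hom.hom.FinitePresentation ∧
        (DC.obj i).hom.hom.Finite ∧ (DC.obj i).hom.hom.FinitePresentation) ∧
      (Function.Surjective (algebraMap A B) → ∀ i, Function.Surjective (DB.obj i).hom.hom) ∧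
      (Function.Surjective (algebraMap B C) → ∀ i, Function.Surjective (τ.app i).right.hom) ∧
      (Function.Surjective (algebraMap A C) → ∀ i, Function.Surjective (DC.obj i).hom.hom) ∧
      (Function.Surjective (algebraMap A B) → IsNilpotent (RingHom.ker (algebraMap A B)) →
        ∀ i, Function.Surjective (DB.obj i).hom.hom ∧ IsNilpotent (RingHom.ker (DB.obj i).hom.hom)) ∧
      (Function.Surjective (algebraMap B C) → IsNilpotent (RingHom.ker (algebraMap B C)) →
        ∀ i, Function.Surjective (τ.app i).right.hom ∧ IsNilpotent (RingHom.ker (τ.app i).right.hom)) ∧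
      (Function.Surjective (algebraMap A C) → IsNilpotent (RingHom.ker (algebraMap A C)) →
        ∀ i, Function.Surjective (DC.obj i).hom.hom ∧ IsNilpotent (RingHom.ker (DC.obj i).hom.hom)) := by
  exact GrothLib.NilPair8.main2

end Groth.Agent.S18014
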