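import Groth.Statements.S18019
import Mathlib.Algebra.Polynomial.Div
import Mathlib.Algebra.CharP.Two
import Mathlib.Algebra.Polynomial.FieldDivision

set_option autoImplicit false
universe u
open ClassStk

namespace Groth.Agent.S18019

open Polynomial in
/-- Let R be an integral domain of characteristic 2 and let a be a nonzero element of R, so that x ↦ x +
a defines an R-algebra involution of the polynomial ring R[x] (an action of the group of order two).
A polynomial f is invariant, f(x + a) = f(x), if and only if f belongs to the R-subalgebra generated
by u = x (x + a); in other words the ring of invariants is the polynomial ring R[u]. -/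
theorem result (R : Type u) [CommRing R] [IsDomain R]
    [CharP R 2] (a : R) (ha : a ≠ 0) (f : Polynomial R) :
    f.comp (X + C a) = f ↔ f ∈ Algebra.adjoin R ({X * (X + C a)} : Set (Polynomial R)) := by
  have h2 : (C a : R[X]) + C a = 0 := by
    rw [← map_add, CharTwo.add_self_eq_zero, map_zero]
  have hq : (X * (X + C a) : R[X]).comp (X + C a) = X * (X + C a) := by
    simp only [mul_comp, add_comp, X_comp, C_comp]
    rw [add_assoc, h2, add_zero, mul_comm]
  constructor
  · intro hf
    induction hn : f.natDegree using Nat.strong_induction_on generalizing f with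
    | _ n ih =>
      subst hn
      let g := f - C (f.eval 0)
      have hga : g.comp (X + C a) = g := by simp [g, sub_comp, hf]
      obtain ⟨g1, hg1⟩ : X ∣ g := by
        rw [X_dvd_iff, coeff_zero_eq_eval_zero]
        simp [g]
      have hev : g.eval a = 0 := by
        have h := congrArg (fun P : R[X] => P.eval 0) hga
        simp only [eval_comp, eval_add, eval_X, eval_C, zero_add] at h
        rw [h]
        simp [g]
      have hg1a : g1.eval a = 0 := by
        rw [hg1] at hev
        simpa [ha] using hev
      obtain ⟨g2, hg2⟩ : X + C a ∣ g1 := by
        have h := (dvd_iff_isRoot (p := g1) (a := a)).2 hg1a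
        have hXa : (X : R[X]) - C a = X + C a := by
          rw [sub_eq_add_neg, ← map_neg, CharTwo.neg_eq]
        rwa [hXa] at h
      have hgq : g = X * (X + C a) * g2 := by rw [hg1, hg2, mul_assoc]
      have hq0 : (X * (X + C a) : R[X]) ≠ 0 := mul_ne_zero X_ne_zero (X_add_C_ne_zero a)
      have hg2a : g2.comp (X + C a) = g2 := by
        have h := hga
        rw [hgq, mul_comp, hq] at h
        exact mul_left_cancel₀ hq0 h
      have hfg : f = C (f.eval 0) + X * (X + C a) * g2 := by rw [← hgq]; simp [g]
      rw [hfg]
      refine Subalgebra.add_mem _ (Subalgebra.algebraMap_mem _ _) ?_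
      by_cases hg20 : g2 = 0
      · rw [hg20, mul_zero]; exact Subalgebra.zero_mem _
      · refine Subalgebra.mul_mem _ (Algebra.self_mem_adjoin_singleton R _) (ih g2.natDegree ?_ g2 hg2a rfl)
        have hd : g.natDegree = 2 + g2.natDegree := by
          rw [hgq, natDegree_mul hq0 hg20, natDegree_mul X_ne_zero (X_add_C_ne_zero a), natDegree_X,
            natDegree_X_add_C]
        have hdf : g.natDegree = f.natDegree := natDegree_sub_C
        omega
  · intro hf
    refine Algebra.adjoin_induction (p := fun g _ => g.comp (X + C a) = g) (fun g hg => ?_) (fun r => ?_)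
      (fun g h _ _ hg hh => ?_) (fun g h _ _ hg hh => ?_) hf
    · rw [Set.mem_singleton_iff.1 hg]; exact hq
    · simp
    · rw [add_comp, hg, hh]
    · rw [mul_comp, hg, hh]

end Groth.Agent.S18019
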