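import Groth.Statements.S1802
import Groth.Agent.Lib.Punctured.CoherentCohom
import Groth.Agent.Lib.Cohom.Serre

set_option autoImplicit false
universe u
open AlgebraicGeometry
open LocCoh

namespace Groth.Agent.S1802

/-- For a Noetherian ring. Let I be an ideal of a Noetherian ring A with cd(A, I) = 1, i.e. H^i_I(M) = 0
for all modules M and all i ≥ 2 but H^1_I(M) ≠ 0 for some M. Then the open subscheme Spec A minus
V(I) is nonempty and affine. -/
theorem result (A : Type u) [CommRing A] [IsNoetherianRing A] (I : Ideal A) (h1 : LocCoh.CdLE A I 1) (h0 : ¬ LocCoh.CdLE A I 0) : Nonempty (↑(LocCoh.puncturedOpen A I) : Scheme.{u}) ∧ IsAffine (↑(LocCoh.puncturedOpen A I) : Scheme.{u}) := by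
  constructor
  · by_contra hne
    apply h0
    intro M _ _ i hi
    obtain ⟨j, rfl⟩ : ∃ j, i = j + 1 := ⟨i - 1, by omega⟩
    refine GrothLib.LC.subsingleton_of_isPowerTorsion I j (ModuleCat.of A M) fun m => ?_
    have hle : I ≤ nilradical A := by
      rw [nilradical_eq_sInf]
      refine le_sInf fun p (hp : p.IsPrime) => ?_
      by_contra hp'
      exact hne ⟨⟨(⟨p, hp⟩ : PrimeSpectrum A), fun h => hp' h⟩⟩
    obtain ⟨n, hn⟩ := IsNoetherianRing.isNilpotent_nilradical A
    exact ⟨n, fun a ha => by
      rw [show a = 0 from (Submodule.mem_bot A).1 (hn.le (Ideal.pow_right_mono hle n ha)), zero_smul]⟩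
  · have hqc := GrothLib.Punctured.quasiCompact_ι I
    have : CompactSpace (↑(LocCoh.puncturedOpen A I) : Scheme.{u}) :=
      isCompact_iff_compactSpace.1 (GrothLib.Punctured.isCompact_puncturedOpen I (IsNoetherian.noetherian I))
    refine GrothLib.Cohom.isAffine_of_subH1Zero ?_
    intro N i _ hN
    obtain ⟨M, ⟨e⟩⟩ := GrothLib.Punctured.exists_puncFun_iso I N
    obtain ⟨f⟩ := GrothLib.Punctured.nonempty_HH_equiv_of_iso I N M e 0
    haveI : Subsingleton ((localCohomology (R := CommRingCat.of A) I 2).obj M) := h1 M 2 (by norm_num)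
    exact GrothLib.Cohom.subsingleton_ext_top_of_HH f.toEquiv.subsingleton

end Groth.Agent.S1802
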