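import Groth.Statements.S18020
import Groth.Agent.Lib.Inertia.Basic

set_option autoImplicit false
open W4c5stacksedinertia

namespace Groth.Agent.S18020

open W4c5stacksedinertia in
/-- In the rational vector space K with basis the isomorphism classes of finite groups (the class of a
group standing for its classifying groupoid), the inertia operator, which sends the class of a
finite group to the sum over its conjugacy classes of the classes of the centralizers of
representatives, preserves the subspace spanned by the classes of groups of order at most `n`. -/
theorem result (n : ℕ) (v : K) (hv : v ∈ Kle n) :
    inertia v ∈ Kle n := by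
  suffices h : Kle n ≤ (Kle n).comap inertia by exact h hv
  refine GrothLib.Inertia.mem_iff_forall_cl fun i hi => ?_
  rw [Submodule.mem_comap]
  obtain ⟨w, hw, hws⟩ := GrothLib.Inertia.inertia_cl_decomp (G := i.rep)
  rw [hw]
  refine Submodule.add_mem _ (Submodule.smul_mem _ _ ?_) ?_
  · rw [GrothLib.Inertia.cl_rep]; exact Finsupp.single_mem_supported ℚ _ hi
  · exact Finsupp.supported_mono (fun j hj => (le_of_lt hj.1).trans hi) hws


end Groth.Agent.S18020
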