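import Groth.Statements.S18021
import Groth.Agent.Lib.Inertia.Basic

set_option autoImplicit false
open W4c5stacksedinertia

namespace Groth.Agent.S18021

open W4c5stacksedinertia in
/-- In the rational vector space K with basis the isomorphism classes of finite groups (the class of a
group standing for its classifying groupoid), the inertia operator is diagonalizable with spectrum
the positive integers: the eigenspaces attached to natural numbers span everything, and a rational
number is an eigenvalue if and only if it is a positive integer. -/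
theorem result :
    (⨆ n : ℕ, Module.End.eigenspace inertia (n : ℚ)) = ⊤ ∧
    ∀ μ : ℚ, Module.End.HasEigenvalue inertia μ ↔ ∃ n : ℕ, 0 < n ∧ μ = (n : ℚ) := by
  refine ⟨GrothLib.Inertia.iSup_eigenspace, fun μ => ⟨fun hμ => ?_, ?_⟩⟩
  · by_contra hcon
    push Not at hcon
    obtain ⟨v, hv, hv0⟩ := hμ.exists_hasEigenvector
    refine hv0 ?_
    have hdis := (Module.End.eigenspaces_iSupIndep (inertia : K →ₗ[ℚ] K)) μ
    refine Submodule.disjoint_def.1 hdis v hv ?_
    have hle : (⊤ : Submodule ℚ K) ≤ ⨆ (ν : ℚ) (_ : ν ≠ μ), Module.End.eigenspace inertia ν := by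
      rw [← GrothLib.Inertia.iSup_pos_eigenspace]
      exact iSup₂_le fun n hn => le_iSup₂_of_le (n : ℚ) (fun h => hcon n hn h.symm) le_rfl
    exact hle trivial
  · rintro ⟨n, hn, rfl⟩
    exact GrothLib.Inertia.inertia_eigen_cyclic n hn


end Groth.Agent.S18021
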