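import Groth.Statements.S18023
import Groth.Agent.Lib.Inertia.Basic

set_option autoImplicit false
open W4c5stacksedinertia

namespace Groth.Agent.S18023

open W4c5stacksedinertia in
/-- In the rational vector space K with basis the isomorphism classes of finite groups (the class of a
group standing for its classifying groupoid), the `k`-eigenspace of the inertia operator is
contained in the `r! * Nat.choose k r`-eigenspace of `inertiaR r`, for all natural numbers `k` and
`r`; with the diagonalizability of the inertia operator this expresses that the operators `inertiaR
r` are simultaneously diagonalizable, their common eigenspaces being the eigenspaces of the inertia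
operator. -/
theorem result (k r : ℕ) :
    Module.End.eigenspace inertia (k : ℚ) ≤
      Module.End.eigenspace (inertiaR r) ((Nat.factorial r * Nat.choose k r : ℕ) : ℚ) := by
  intro v hv
  rw [Module.End.mem_eigenspace_iff, ← Nat.descFactorial_eq_factorial_mul_choose]
  exact GrothLib.Inertia.inertiaR_eigen hv r


end Groth.Agent.S18023
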