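import Groth.Statements.S18024
import Groth.Agent.Lib.Inertia.Basic

set_option autoImplicit false
open W4c5stacksedinertia

namespace Groth.Agent.S18024

open W4c5stacksedinertia in
/-- In the rational vector space K with basis the isomorphism classes of finite groups (the class of a
group standing for its classifying groupoid), for every `r` the kernel of `inertiaR r` is the span
of the eigenspaces of the inertia operator with eigenvalue a natural number `k < r`. -/
theorem result (r : ℕ) :
    LinearMap.ker (inertiaR r) = ⨆ k ∈ Finset.range r, Module.End.eigenspace inertia (k : ℚ) := by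
  classical
  refine le_antisymm (fun v hv => ?_) (iSup₂_le fun k hk v hv => ?_)
  · have hv' : v ∈ ⨆ n : ℕ, Module.End.eigenspace inertia (n : ℚ) := by
      rw [GrothLib.Inertia.iSup_eigenspace]; trivial
    obtain ⟨f, hf⟩ := (Submodule.mem_iSup_iff_exists_finsupp _ _).1 hv'
    obtain ⟨hf, rfl⟩ := hf
    have hindep : iSupIndep fun n : ℕ => Module.End.eigenspace (inertia : K →ₗ[ℚ] K) (n : ℚ) :=
      (Module.End.eigenspaces_iSupIndep (inertia : K →ₗ[ℚ] K)).comp Nat.cast_injective
    have h0 : ∑ n ∈ f.support, (inertiaR r) (f n) = 0 := by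
      rw [← map_sum]; exact hv
    have hmem : ∀ n ∈ f.support, inertiaR r (f n) ∈ Module.End.eigenspace inertia (n : ℚ) := fun n _ => by
      rw [GrothLib.Inertia.inertiaR_eigen (hf n)]; exact Submodule.smul_mem _ _ (hf n)
    have hz := (iSupIndep_iff_finset_sum_eq_zero_imp_eq_zero _).1 hindep f.support _ hmem h0
    refine Submodule.sum_mem _ fun n hn => ?_
    rcases lt_or_ge n r with h | h
    · exact (le_iSup₂_of_le n (Finset.mem_range.2 h) le_rfl : Module.End.eigenspace inertia (n : ℚ) ≤ _) (hf n)
    · have h1 := hz n hn
      rw [GrothLib.Inertia.inertiaR_eigen (hf n), smul_eq_zero] at h1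
      rcases h1 with h1 | h1
      · exact absurd (Nat.descFactorial_eq_zero_iff_lt.1 (by exact_mod_cast h1)) (not_lt.2 h)
      · simp only [h1, Submodule.zero_mem]
  · rw [LinearMap.mem_ker, GrothLib.Inertia.inertiaR_eigen hv, Nat.descFactorial_of_lt (Finset.mem_range.1 hk),
      Nat.cast_zero, zero_smul]


end Groth.Agent.S18024
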