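import Groth.Statements.S18025
import Groth.Agent.Lib.Inertia.Basic
import Mathlib.Tactic.FieldSimp

set_option autoImplicit false
open W4c5stacksedinertia

namespace Groth.Agent.S18025

open W4c5stacksedinertia in
/-- In the rational vector space K with basis the isomorphism classes of finite groups (the class of a
group standing for its classifying groupoid), the operators `P k := ∑ r, ((-1)^(r+k) / r!) *
Nat.choose r k • inertiaR r` (a finite sum on each vector) are the eigenprojections of the inertia
operator: `P k v` lies in the `k`-eigenspace of the inertia operator for every `v` and `k`, and `∑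
k, P k v = v`. -/
theorem result (v : K) :
    (∀ k : ℕ, (∑ᶠ r : ℕ, (((-1 : ℚ) ^ (r + k)) / (Nat.factorial r : ℚ) * (Nat.choose r k : ℚ)) •
        inertiaR r v) ∈ Module.End.eigenspace inertia (k : ℚ)) ∧
    (∑ᶠ k : ℕ, ∑ᶠ r : ℕ, (((-1 : ℚ) ^ (r + k)) / (Nat.factorial r : ℚ) * (Nat.choose r k : ℚ)) •
        inertiaR r v) = v := by
  classical
  let c : ℕ → ℕ → ℚ := fun k r => ((-1 : ℚ) ^ (r + k)) / (Nat.factorial r : ℚ) * (Nat.choose r k : ℚ)
  let S : Submodule ℚ K :=
    { carrier := {v | ∃ N, ∀ r, N ≤ r → inertiaR r v = 0}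
      add_mem' := by
        rintro a b ⟨N, hN⟩ ⟨M, hM⟩
        exact ⟨max N M, fun r hr => by
          rw [map_add, hN r (le_trans (le_max_left _ _) hr), hM r (le_trans (le_max_right _ _) hr), add_zero]⟩
      zero_mem' := ⟨0, fun r _ => map_zero _⟩
      smul_mem' := by
        rintro a x ⟨N, hN⟩
        exact ⟨N, fun r hr => by rw [map_smul, hN r hr, smul_zero]⟩ }
  have hfin : ∀ v : K, ∃ N, ∀ r, N ≤ r → inertiaR r v = 0 := fun v => by
    have h : (⨆ n : ℕ, Module.End.eigenspace inertia (n : ℚ)) ≤ S :=
      iSup_le fun n x hx => ⟨n + 1, fun r hr => by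
        rw [GrothLib.Inertia.inertiaR_eigen hx, Nat.descFactorial_of_lt hr, Nat.cast_zero, zero_smul]⟩
    exact h (GrothLib.Inertia.iSup_eigenspace ▸ Submodule.mem_top)
  have hsupp : ∀ k (v : K), (Function.support fun r => c k r • inertiaR r v).Finite := fun k v => by
    obtain ⟨N, hN⟩ := hfin v
    refine (Set.finite_Iio N).subset fun r hr => ?_
    by_contra h
    exact hr (by simp only [hN r (not_lt.1 h), smul_zero])
  let P : ℕ → K →ₗ[ℚ] K := fun k =>
    { toFun := fun v => ∑ᶠ r : ℕ, c k r • inertiaR r v
      map_add' := fun a b => by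
        rw [← finsum_add_distrib (hsupp k a) (hsupp k b)]
        exact finsum_congr fun r => by rw [map_add, smul_add]
      map_smul' := fun a x => by
        rw [RingHom.id_apply, smul_finsum' a (hsupp k x)]
        exact finsum_congr fun r => by rw [map_smul, smul_comm] }
  have hP : ∀ (k n : ℕ) (v : K), v ∈ Module.End.eigenspace inertia (n : ℚ) → P k v = if n = k then v else 0 := by
    intro k n v hv
    have h1 : P k v = ∑ r ∈ Finset.range (n + 1), (c k r * (n.descFactorial r : ℚ)) • v := by
      change (∑ᶠ r : ℕ, c k r • inertiaR r v) = _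
      rw [finsum_eq_sum_of_support_subset _ (s := Finset.range (n + 1)) fun r hr => ?_]
      · exact Finset.sum_congr rfl fun r _ => by rw [GrothLib.Inertia.inertiaR_eigen hv, smul_smul]
      · rw [Finset.coe_range, Set.mem_Iio]
        by_contra h
        exact hr (by simp [GrothLib.Inertia.inertiaR_eigen hv, Nat.descFactorial_of_lt (not_lt.1 h)])
    rw [h1, ← Finset.sum_smul]
    suffices h : ∑ r ∈ Finset.range (n + 1), c k r * (n.descFactorial r : ℚ) = if n = k then 1 else 0 by
      rw [h]; split_ifs <;> simp
    have h2 : ∀ r, c k r * (n.descFactorial r : ℚ) = (-1 : ℚ) ^ (r + k) * ((r.choose k * n.choose r : ℕ) : ℚ) := fun r => by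
      have : (r.factorial : ℚ) ≠ 0 := Nat.cast_ne_zero.2 r.factorial_ne_zero
      simp only [c, Nat.descFactorial_eq_factorial_mul_choose, Nat.cast_mul]
      field_simp
    simp only [h2]
    rcases lt_or_ge n k with hnk | hnk
    · rw [if_neg hnk.ne, Finset.sum_eq_zero fun r hr => ?_]
      rw [Nat.choose_eq_zero_of_lt (lt_of_le_of_lt (Nat.lt_succ_iff.1 (Finset.mem_range.1 hr)) hnk)]
      simp
    obtain ⟨m, rfl⟩ := Nat.exists_eq_add_of_le hnk
    rw [show k + m + 1 = k + (m + 1) from rfl, Finset.sum_range_add, Finset.sum_eq_zero fun r hr => by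
      rw [Nat.choose_eq_zero_of_lt (Finset.mem_range.1 hr)]; simp, zero_add]
    have h3 : ∀ j, (-1 : ℚ) ^ (k + j + k) * (((k + j).choose k * (k + m).choose (k + j) : ℕ) : ℚ) =
        ((k + m).choose k : ℚ) * (((-1 : ℤ) ^ j * (m.choose j : ℤ) : ℤ) : ℚ) := fun j => by
      rw [mul_comm ((k + j).choose k), Nat.choose_mul (Nat.le_add_right k j), Nat.add_sub_cancel_left,
        Nat.add_sub_cancel_left, show k + j + k = j + 2 * k by ring, pow_add, pow_mul]
      push_cast
      ring
    rw [Finset.sum_congr rfl fun j _ => h3 j, ← Finset.mul_sum, ← Int.cast_sum, Int.alternating_sum_range_choose]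
    rcases Nat.eq_zero_or_pos m with rfl | hm
    · simp
    · rw [if_neg hm.ne', if_neg (by omega)]; simp
  have key : ∀ v : K, (∀ k : ℕ, P k v ∈ Module.End.eigenspace inertia (k : ℚ)) ∧
      (Function.support fun k : ℕ => P k v).Finite ∧ (∑ᶠ k : ℕ, P k v) = v := by
    intro v
    have hv : v ∈ ⨆ n : ℕ, Module.End.eigenspace inertia (n : ℚ) := by
      rw [GrothLib.Inertia.iSup_eigenspace]; trivial
    induction hv using Submodule.iSup_induction' with
    | mem n x hx =>
      refine ⟨fun k => ?_, (Set.finite_singleton n).subset fun k hk => ?_, ?_⟩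
      · rw [hP k n x hx]; split_ifs with h
        · subst h; exact hx
        · exact Submodule.zero_mem _
      · by_contra h
        refine hk ?_
        simp only [hP k n x hx]
        exact if_neg fun h' => h h'.symm
      · rw [finsum_eq_single _ n fun k hk => by rw [hP k n x hx, if_neg (fun h => hk h.symm)]]
        rw [hP n n x hx, if_pos rfl]
    | zero => exact ⟨fun k => by simp, by simp, by simp⟩
    | add x y _ _ hx hy =>
      refine ⟨fun k => by rw [map_add]; exact Submodule.add_mem _ (hx.1 k) (hy.1 k),
        (hx.2.1.union hy.2.1).subset fun k hk => ?_, ?_⟩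
      · by_contra h
        simp only [Set.mem_union, Function.mem_support, not_or, not_not] at h
        exact hk (by simp only [map_add, h.1, h.2, add_zero])
      · rw [finsum_congr fun k => map_add (P k) x y, finsum_add_distrib hx.2.1 hy.2.1, hx.2.2, hy.2.2]
  exact ⟨(key v).1, (key v).2.2⟩


end Groth.Agent.S18025
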