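import Groth.Statements.S18026
import Groth.Agent.Lib.EtLocal.HenselPart
import Groth.Agent.Lib.EtBasicB.OverField
-- import your own Groth.Agent.* helpers here

set_option autoImplicit false
set_option backward.isDefEq.respectTransparency false
universe u
open Hensel

namespace Groth.Agent.S18026

open AlgebraicGeometry CategoryTheory in
/-- Let `A` be a henselian discrete valuation ring and `f : T ⟶ Spec A` an étale surjective morphism of
schemes. Then some open subscheme `U` of `T` is finite over `Spec A` and still maps onto it; in
particular `U → Spec A` is a finite étale cover sitting inside `T` as an open subscheme (étaleness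
of the restriction is automatic, and surjectivity records that `U` meets the closed fibre). (The
published statement asks for an open component of `T` finite étale over `Spec A`; when `T` is not
separated — two copies of `Spec A` glued along the generic point — no open and closed subset of `T`
is finite over `Spec A`, while the published proof constructs an open subscheme, the spectrum of the
local ring of `T` at a point of the closed fibre; so this row asks only for an open subscheme.) -/
theorem result
    (A : Type u) [CommRing A] [IsDomain A] [IsDiscreteValuationRing A] [HenselianLocalRing A]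
    (T : Scheme.{u}) (f : T ⟶ Spec (CommRingCat.of A)) [Etale f] [Surjective f] :
    ∃ U : T.Opens, IsFinite (U.ι ≫ f) ∧ Surjective (U.ι ≫ f) := by
  obtain ⟨x, hx⟩ := f.surjective (IsLocalRing.closedPoint A)
  obtain ⟨_, ⟨V, hV, rfl⟩, hxV, -⟩ := T.isBasis_affineOpens.exists_subset_of_mem_open
    (Set.mem_univ x) isOpen_univ
  let V : T.Opens := V
  haveI : IsAffine V := hV
  haveI : LocallyQuasiFinite (V.ι ≫ f) := GrothLib.EtBasicB.locallyQuasiFinite_of_unramified _
  haveI : QuasiCompact (V.ι ≫ f) := inferInstance
  haveI : IsSeparated (V.ι ≫ f) := inferInstance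
  obtain ⟨W, ⟨-, hWfin, hW⟩, -⟩ := GrothLib.EtLocal.existsUnique_isFinitePart (V.ι ≫ f)
  haveI := hWfin
  haveI : IsFinite ((V.ι ''ᵁ W).ι ≫ f) := by
    rw [← MorphismProperty.cancel_left_of_respectsIso @IsFinite (V.ι.isoImage W).hom,
      Scheme.Hom.isoImage_hom_ι_assoc]
    exact hWfin
  refine ⟨V.ι ''ᵁ W, inferInstance, ⟨fun y => ?_⟩⟩
  haveI : Etale (W.ι ≫ V.ι ≫ f) := inferInstance
  have hmem : y ∈ Set.range (W.ι ≫ V.ι ≫ f) := by
    refine (IsLocalRing.specializes_closedPoint y).mem_open ?_ ⟨⟨⟨x, hxV⟩, hW _ hx⟩, hx⟩
    exact (W.ι ≫ V.ι ≫ f).isOpenMap.isOpen_range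
  obtain ⟨w, rfl⟩ := hmem
  exact ⟨(V.ι.isoImage W).hom w, by
    rw [← Scheme.Hom.comp_apply, Scheme.Hom.isoImage_hom_ι_assoc]⟩

end Groth.Agent.S18026
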