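import Groth.Statements.S18027
import Groth.Agent.Lib.GrpSchField.GrpDim
import Groth.Agent.Lib.GrpSchField.Components
import Groth.Agent.Lib.Dim.Scheme
-- import your own Groth.Agent.* helpers here

set_option autoImplicit false
universe u
open CategoryTheory MonoidalCategory CartesianMonoidalCategory MonObj GrpObj AlgebraicGeometry CategoryTheory.Limits
open AlgGrp

namespace Groth.Agent.S18027

open TopologicalSpace in
/-- A closed irreducible subset of the same finite dimension is everything. -/
theorem eq_of_dim_eq {X : Type*} [TopologicalSpace X] {W Z : Set X} (hW : IsClosed W)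
    (hZc : IsClosed Z) (hZ : IsIrreducible Z) (hWZ : W ⊆ Z) {n : ℕ}
    (hn : topologicalKrullDim Z = n) (hnW : topologicalKrullDim W = n) : W = Z := by
  refine hWZ.antisymm fun z hz => by_contra fun hzW => ?_
  let inc : W → Z := Set.inclusion hWZ
  have hinc : Topology.IsEmbedding inc := Topology.IsEmbedding.inclusion hWZ
  have hmap := IrreducibleCloseds.map_strictMono_of_isInducing hinc.isInducing
  obtain ⟨l, hl⟩ := Order.le_krullDim_iff.mp (le_of_eq hnW.symm)
  let top : IrreducibleCloseds Z :=
    ⟨Set.univ, ⟨⟨⟨z, hz⟩, trivial⟩, (Subtype.preirreducibleSpace hZ.2).isPreirreducible_univ⟩, isClosed_univ⟩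
  let l' : LTSeries (IrreducibleCloseds Z) := l.map _ hmap
  have htop : l'.last < top := by
    refine lt_of_le_of_ne (fun _ _ => trivial) fun he => ?_
    have h2 : ((⟨z, hz⟩ : Z)) ∈ (l'.last : Set Z) := by rw [he]; trivial
    have h3 : (l'.last : Set Z) ⊆ Set.inclusion hWZ '' Set.univ ∪ ∅ := by
      rw [show l'.last = _ from LTSeries.last_map l _ hmap]
      refine closure_minimal ?_ ?_
      · rintro _ ⟨w, -, rfl⟩
        exact Or.inl ⟨w, trivial, rfl⟩
      · rw [Set.union_empty, Set.image_univ, Set.range_inclusion]
        exact hW.preimage continuous_subtype_val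
    rcases h3 h2 with ⟨w, -, hw⟩ | h4
    · have : w.1 = z := congrArg Subtype.val hw
      exact hzW (this ▸ w.2)
    · exact h4
  have := Order.LTSeries.length_le_krullDim (l'.snoc top htop)
  rw [show Order.krullDim (IrreducibleCloseds Z) = topologicalKrullDim Z from rfl, hn] at this
  have h5 : ((l'.snoc top htop).length : ℕ) = n + 1 := by simp [l', hl]
  rw [h5] at this
  norm_cast at this
  omega

/-- Let `k` be a field and `u : G ⟶ H` a homomorphism of smooth `k`-group schemes which is a closed
immersion, where `G` and `H` have the same dimension. Then `u` carries the connected component of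
the identity of `G` onto the connected component of the identity of `H`; as `u` is a closed
immersion and `H` is reduced, `u` therefore restricts to an isomorphism between the identity
components. (The second printed assertion, on the groups of components, is not included.) -/
theorem result (k : Type u) [Field k]
    (G H : Over (Spec (CommRingCat.of k))) [GrpObj G] [GrpObj H]
    [Smooth G.hom] [Smooth H.hom] (u : G ⟶ H) [IsMonHom u] [IsClosedImmersion u.left]
    (hdim : topologicalKrullDim ↥G.left = topologicalKrullDim ↥H.left)
    (t : ↥((𝟙_ (Over (Spec (CommRingCat.of k)))).left)) :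
    ⇑u.left.base '' connectedComponent (η[G].left.base t) = connectedComponent (η[H].left.base t) := by
  have hC : ∀ (X : Over (Spec (CommRingCat.of k))) [GrpObj X] [LocallyOfFiniteType X.hom] (x : X.left),
      topologicalKrullDim ↥(connectedComponent x) = topologicalKrullDim X.left ∧
        IsIrreducible (connectedComponent x) := by
    intro X _ _ x
    rw [GrothLib.GrpSchField.connectedComponent_eq_irreducibleComponent X x]
    exact ⟨GrothLib.GrpSchField.topologicalKrullDim_component X
      (irreducibleComponent_mem_irreducibleComponents x), isIrreducible_irreducibleComponent⟩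
  let g₀ := η[G].left.base t
  let h₀ := η[H].left.base t
  have hu : u.left.base g₀ = h₀ := by
    show u.left (η[G].left t) = η[H].left t
    rw [← Scheme.Hom.comp_apply, ← Over.comp_left, IsMonHom.one_hom]
  have hsub : u.left.base '' connectedComponent g₀ ⊆ connectedComponent h₀ :=
    hu ▸ (isPreconnected_connectedComponent.image _ u.left.continuous.continuousOn).subset_connectedComponent
      ⟨g₀, mem_connectedComponent, rfl⟩
  obtain ⟨n, hn, -⟩ := GrothLib.Dim.exists_nat_dim_irreducible H.hom isClosed_connectedComponent (hC H h₀).2
  have hemb := u.left.isClosedEmbedding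
  have e : topologicalKrullDim ↥(u.left.base '' connectedComponent g₀) =
      topologicalKrullDim ↥(connectedComponent g₀) :=
    (GrothLib.Dim.IsEmbedding.topologicalKrullDim_eq
      (hemb.isEmbedding.comp Topology.IsEmbedding.subtypeVal)
      (by rw [Set.range_comp, Subtype.range_coe])).symm
  exact eq_of_dim_eq (hemb.isClosedMap _ isClosed_connectedComponent) isClosed_connectedComponent
    (hC H h₀).2 hsub hn (by rw [e, (hC G g₀).1, hdim, ← (hC H h₀).1, hn])

end Groth.Agent.S18027
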