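import Groth.Statements.S18029
import Groth.Agent.Lib.FlatClosure.Basic
import Groth.Agent.Lib.GenericStage.Group
import Groth.Agent.Lib.EssFree.Generic
import Groth.Agent.Lib.EssFree.Def
import Groth.Agent.Lib.DiagGrp.FreeGraph
-- import your own Groth.Agent.* helpers here

set_option autoImplicit false
universe u
open CategoryTheory MonoidalCategory CartesianMonoidalCategory MonObj GrpObj AlgebraicGeometry CategoryTheory.Limits
open AlgGrp

namespace Groth.Agent.S18029

section Aux

open CategoryTheory CategoryTheory.Limits AlgebraicGeometry MonoidalCategory CartesianMonoidalCategory MonObj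

noncomputable def subGrpObj {C : Type*} [Category C] [CartesianMonoidalCategory C] {G H : C} [GrpObj G] (j : H ⟶ G) [Mono j]
    (one : 𝟙_ C ⟶ H) (hone : one ≫ j = η[G]) (mul : H ⊗ H ⟶ H) (hmul : mul ≫ j = (j ⊗ₘ j) ≫ μ[G])
    (inv' : H ⟶ H) (hinv : inv' ≫ j = j ≫ GrpObj.inv) : GrpObj H where
  one := one
  mul := mul
  one_mul := by
    have hm : mul ≫ j = (fst H H ≫ j) * (snd H H ≫ j) := by rw [hmul, Hom.mul_def]; congr 1; apply CartesianMonoidalCategory.hom_ext <;> simp
    have h1 : fst (𝟙_ C) H ≫ η[G] = 1 := by rw [Hom.one_def, toUnit_unique (fst (𝟙_ C) H) (toUnit _)]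
    rw [← cancel_mono j, Category.assoc, hm, MonObj.comp_mul, whiskerRight_fst_assoc, hone, h1,
      whiskerRight_snd_assoc, _root_.one_mul, leftUnitor_hom]
  mul_one := by
    have hm : mul ≫ j = (fst H H ≫ j) * (snd H H ≫ j) := by rw [hmul, Hom.mul_def]; congr 1; apply CartesianMonoidalCategory.hom_ext <;> simp
    have h1 : snd H (𝟙_ C) ≫ η[G] = 1 := by rw [Hom.one_def, toUnit_unique (snd H (𝟙_ C)) (toUnit _)]
    rw [← cancel_mono j, Category.assoc, hm, MonObj.comp_mul, whiskerLeft_fst_assoc, whiskerLeft_snd_assoc, hone, h1,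
      _root_.mul_one, rightUnitor_hom]
  mul_assoc := by
    have hm : mul ≫ j = (fst H H ≫ j) * (snd H H ≫ j) := by rw [hmul, Hom.mul_def]; congr 1; apply CartesianMonoidalCategory.hom_ext <;> simp
    rw [← cancel_mono j]
    simp only [Category.assoc, hm, MonObj.comp_mul, whiskerRight_fst_assoc, whiskerRight_snd_assoc,
      whiskerLeft_fst_assoc, whiskerLeft_snd_assoc, associator_hom_fst_assoc, associator_hom_snd_fst_assoc,
      associator_hom_snd_snd_assoc, _root_.mul_assoc]
  inv := inv'
  left_inv := by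
    have hm : mul ≫ j = (fst H H ≫ j) * (snd H H ≫ j) := by rw [hmul, Hom.mul_def]; congr 1; apply CartesianMonoidalCategory.hom_ext <;> simp
    rw [← cancel_mono j, Category.assoc, hm, MonObj.comp_mul, lift_fst_assoc, lift_snd_assoc, hinv,
      Category.id_comp, ← Hom.inv_def, inv_mul_cancel, Category.assoc, hone, Hom.one_def]
  right_inv := by
    have hm : mul ≫ j = (fst H H ≫ j) * (snd H H ≫ j) := by rw [hmul, Hom.mul_def]; congr 1; apply CartesianMonoidalCategory.hom_ext <;> simp
    rw [← cancel_mono j, Category.assoc, hm, MonObj.comp_mul, lift_fst_assoc, lift_snd_assoc, hinv,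
      Category.id_comp, ← Hom.inv_def, mul_inv_cancel, Category.assoc, hone, Hom.one_def]

/-- A morphism from a flat scheme factors through a closed immersion as soon as it does generically. -/
theorem exists_lift_of_generic {U K Z W : Scheme.{u}} (e : K ⟶ U) [IsSchemeTheoreticallyDominant e] [QuasiCompact e]
    (q : Z ⟶ U) [Flat q] {Y : Scheme.{u}} (j : Y ⟶ W) [IsClosedImmersion j] (w : Z ⟶ W)
    (a : pullback q e ⟶ Y) (ha : a ≫ j = pullback.fst q e ≫ w) : ∃ l : Z ⟶ Y, l ≫ j = w := by
  haveI : IsSchemeTheoreticallyDominant (pullback.fst q e) := inferInstance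
  haveI : IsIso (pullback.fst w j) := by
    refine IsClosedImmersion.isIso_iff_ker_eq_bot.2 (le_bot_iff.1 ?_)
    rw [← (pullback.fst q e).ker_eq_bot,
      show pullback.fst q e = pullback.lift (pullback.fst q e) a ha.symm ≫ pullback.fst w j from
        (pullback.lift_fst _ _ _).symm]
    exact Scheme.Hom.le_ker_comp _ _
  exact ⟨inv (pullback.fst w j) ≫ pullback.snd w j, by
    rw [Category.assoc, ← pullback.condition, IsIso.inv_hom_id_assoc]⟩

theorem closed_subgroup_of_generic {U K : Scheme.{u}} (e : K ⟶ U) [IsSchemeTheoreticallyDominant e] [QuasiCompact e]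
    {GU HU : Over U} [GrpObj GU] (j : HU ⟶ GU) [IsClosedImmersion j.left] [Flat HU.hom]
    {Gη Hη : Over K} [GrpObj Gη] [GrpObj Hη] (i : Hη ⟶ Gη) [IsMonHom i]
    (E : Red.bc e GU ≅ Gη) [IsMonHom E.hom] (F : Red.bc e HU ≅ Hη)
    (hF : F.hom ≫ i = (Over.pullback e).map j ≫ E.hom) :
    ∃ (_ : GrpObj HU), IsMonHom j := by
  haveI : Mono j := (Over.forget _).mono_of_mono_map (inferInstanceAs (Mono j.left))
  have key : ∀ (Z : Over U) [Flat Z.hom] (w : Z ⟶ GU) (v : Red.bc e Z ⟶ Hη),
      v ≫ i = (Over.pullback e).map w ≫ E.hom → ∃ l : Z ⟶ HU, l ≫ j = w := by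
    intro Z _ w v hv
    have h : v ≫ F.inv ≫ (Over.pullback e).map j = (Over.pullback e).map w := by
      rw [← cancel_mono E.hom, Category.assoc, Category.assoc, ← hF, Iso.inv_hom_id_assoc, hv]
    obtain ⟨l, hl⟩ := exists_lift_of_generic e Z.hom j.left w.left
      ((v ≫ F.inv).left ≫ pullback.fst HU.hom e) (by
        have h' := congrArg (fun t => t.left ≫ pullback.fst GU.hom e) h
        simp only [Over.comp_left, Category.assoc] at h'
        erw [pullback.lift_fst, pullback.lift_fst] at h'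
        rw [Over.comp_left, Category.assoc, Category.assoc]
        exact h')
    exact ⟨Over.homMk l (by rw [← Over.w j, reassoc_of% hl, Over.w w]), Over.OverMorphism.ext hl⟩
  haveI : Flat (𝟙_ (Over U)).hom := inferInstanceAs (Flat (𝟙 U))
  haveI : Flat (HU ⊗ HU).hom := inferInstanceAs (Flat (pullback.fst HU.hom HU.hom ≫ HU.hom))
  obtain ⟨one, hone⟩ := key (𝟙_ _) η[GU] (1 : _ ⟶ Hη) (by
    rw [MonObj.one_comp, Hom.one_def]
    have : η[GU] = (1 : 𝟙_ (Over U) ⟶ GU) := by
      rw [Hom.one_def, toUnit_unique (toUnit (𝟙_ (Over U))) (𝟙 _), Category.id_comp]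
    rw [this, Functor.map_one, MonObj.one_comp, Hom.one_def])
  let x₁ := (Over.pullback e).map (fst HU HU) ≫ F.hom
  let x₂ := (Over.pullback e).map (snd HU HU) ≫ F.hom
  obtain ⟨mul, hmul⟩ := key (HU ⊗ HU) ((j ⊗ₘ j) ≫ μ[GU]) (x₁ * x₂) (by
    have : (j ⊗ₘ j) ≫ μ[GU] = (fst HU HU ≫ j) * (snd HU HU ≫ j) := by
      rw [Hom.mul_def]; congr 1
    rw [this, MonObj.mul_comp, Functor.map_mul, MonObj.mul_comp]
    simp only [x₁, x₂, Category.assoc, hF, Functor.map_comp])
  obtain ⟨inv', hinv⟩ := key HU (j ≫ GrpObj.inv) F.hom⁻¹ (by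
    rw [GrpObj.inv_comp, hF, ← Hom.inv_def, Functor.map_inv', GrpObj.inv_comp])
  refine ⟨subGrpObj j one hone mul hmul inv' hinv, ?_⟩
  let _ := subGrpObj j one hone mul hmul inv' hinv
  exact ⟨hone, hmul⟩

theorem pullbackComp_inv_fst {S₁ S₂ S₃ : Scheme.{u}} (K : Over S₁) (f : S₂ ⟶ S₁) (g : S₃ ⟶ S₂) :
    ((Over.pullbackComp g f).inv.app K).left ≫ pullback.fst K.hom (g ≫ f) = pullback.fst _ g ≫ pullback.fst K.hom f := by
  simp [Over.pullbackComp, conjugateIsoEquiv, conjugateEquiv, mateEquiv, Over.mapPullbackAdj, Over.mapComp, Adjunction.comp]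
  erw [pullback.lift_fst, pullback.lift_fst_assoc]
  exact ((congrArg (_ ≫ ·) ((congrArg (_ ≫ ·) (Category.assoc _ _ _)).trans (pullback.lift_fst_assoc _ _ _ _))).trans (pullback.lift_fst_assoc _ _ _ _)).trans (Category.id_comp _)

theorem bcGrpComp_inv_fst {S₁ S₂ S₃ : Scheme.{u}} (K : Over S₁) [GrpObj K] (f : S₂ ⟶ S₁) (g : S₃ ⟶ S₂) :
    ((GrothLib.DiagGrp.bcGrpComp K f g (g ≫ f) rfl).inv.hom.hom).left ≫ pullback.fst K.hom (g ≫ f) = pullback.fst _ g ≫ pullback.fst K.hom f := by
  simp [GrothLib.DiagGrp.bcGrpComp, Functor.mapGrpNatIso, Functor.mapGrpCompIso]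
  exact pullbackComp_inv_fst K f g

end Aux


/-- Closed subgroups of the generic fibre spread out. Let `X` be an integral scheme with generic point
`η : Spec K(X) ⟶ X`, `G` an affine `X`-group scheme locally of finite presentation and `H_η` a
closed subgroup scheme of the generic fibre `G_η = G ×_X Spec K(X)`. Then there are a non-empty open
`U ⊆ X` (through which `η` factors) and a closed subgroup scheme `H_U` of `G ×_X U` whose generic
fibre is `H_η`: a cartesian square presents `H_η` as `H_U ×_U Spec K(X)`, compatibly with the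
embeddings into `G`. -/
theorem result
    (X : Scheme.{u}) [IsIntegral X] (G : Over X) [GrpObj G]
    [IsAffineHom G.hom] [LocallyOfFinitePresentation G.hom]
    (Hη : Over (Spec X.functionField)) [GrpObj Hη]
    (i : Hη ⟶ Red.bc (X.fromSpecStalk (genericPoint X)) G) [IsMonHom i] [IsClosedImmersion i.left] :
    ∃ (U : X.Opens) (ηU : Spec X.functionField ⟶ (U : Scheme.{u})) (HU : Over (U : Scheme.{u}))
      (_ : GrpObj HU) (j : HU ⟶ Red.bc U.ι G) (φ : Hη.left ⟶ HU.left),
      ηU ≫ U.ι = X.fromSpecStalk (genericPoint X) ∧ IsMonHom j ∧ IsClosedImmersion j.left ∧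
      IsPullback φ Hη.hom HU.hom ηU ∧
      φ ≫ j.left ≫ pullback.fst G.hom U.ι = i.left ≫ pullback.fst G.hom (X.fromSpecStalk (genericPoint X)) := by
  let η₀ := X.fromSpecStalk (genericPoint X)
  haveI hηqc : QuasiCompact η₀ := by
    have hF : IsField (X.presheaf.stalk (genericPoint X)) := (inferInstance : Field X.functionField) |>.toIsField
    haveI : Subsingleton (PrimeSpectrum (X.presheaf.stalk (genericPoint X))) := by
      let _ := hF.toField
      infer_instance
    exact ⟨fun V _ _ => (Set.toFinite _).isCompact⟩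
  haveI : Flat η₀ := GrothLib.FFDesc.flat_fromSpecStalk' _ _
  let q : Hη.left ⟶ G.left := i.left ≫ pullback.fst G.hom η₀
  haveI : QuasiCompact q := inferInstance
  haveI : IsSchemeTheoreticallyDominant q.toImage := ⟨GrothLib.FlatClosure.ker_toImage q⟩
  haveI : LocallyOfFiniteType (q.imageι ≫ G.hom) := inferInstance
  haveI : QuasiCompact (q.imageι ≫ G.hom) := inferInstance
  obtain ⟨U₀, hU₀, hfree⟩ := GrothLib.EssFree.exists_open_essFree (q.imageι ≫ G.hom)
  have hη₀ : genericPoint X ∈ U₀ := ((genericPoint_spec X).mem_open_set_iff U₀.isOpen).2 (by simpa using hU₀)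
  obtain ⟨U, hU, hηU, hle⟩ := exists_isAffineOpen_mem_and_subset hη₀
  haveI hflat : Flat (pullback.snd (q.imageι ≫ G.hom) U.ι) :=
    GrothLib.GenericStage.prop_mono @Flat _ (show U ≤ U₀ from hle) (GrothLib.EssFree.flat hfree)
  have hrange : Set.range η₀ ⊆ Set.range U.ι := by
    rintro _ ⟨z, rfl⟩
    rw [Scheme.Opens.range_ι]
    have hz : η₀ z ⤳ genericPoint X := by
      have := Scheme.range_fromSpecStalk (x := genericPoint X)
      exact this.le ⟨z, rfl⟩
    show η₀ z ∈ U
    rw [(hz.antisymm (genericPoint_specializes _)).eq]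
    exact hηU
  let ηU : Spec X.functionField ⟶ (U : Scheme.{u}) := IsOpenImmersion.lift U.ι η₀ hrange
  have hηUι : ηU ≫ U.ι = η₀ := IsOpenImmersion.lift_fac _ _ _
  haveI : QuasiCompact (ηU ≫ U.ι) := by rw [hηUι]; infer_instance
  haveI : QuasiCompact ηU := QuasiCompact.of_comp ηU U.ι
  haveI : IsDominant ηU := ⟨dense_iff_closure_eq.2 (Set.eq_univ_of_forall fun z => by
    have h1 : (ηU (IsLocalRing.closedPoint _)).1 = genericPoint X := by
      show (ηU ≫ U.ι) (IsLocalRing.closedPoint _) = _
      rw [hηUι]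
      exact Scheme.fromSpecStalk_closedPoint
    have h2 : ηU (IsLocalRing.closedPoint _) ⤳ z :=
      Topology.IsInducing.subtypeVal.specializes_iff.1 (by rw [h1]; exact genericPoint_specializes z.1)
    exact closure_mono (Set.singleton_subset_iff.2 (Set.mem_range_self _)) h2.mem_closure)⟩
  haveI : IsReduced (U : Scheme.{u}) := isReduced_of_isOpenImmersion U.ι
  haveI : IsSchemeTheoreticallyDominant ηU := IsSchemeTheoreticallyDominant.of_isDominant _
  let HU : Over (U : Scheme.{u}) := Over.mk (pullback.snd (q.imageι ≫ G.hom) U.ι)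
  haveI : Flat HU.hom := hflat
  let jl : HU.left ⟶ (Red.bc U.ι G).left :=
    pullback.map _ _ _ _ q.imageι (𝟙 _) (𝟙 _) (by simp) (by simp)
  have hjl : IsPullback (pullback.fst (q.imageι ≫ G.hom) U.ι) jl q.imageι (pullback.fst G.hom U.ι) :=
    IsPullback.of_bot (by
      rw [pullback.lift_snd, Category.comp_id]; exact IsPullback.of_hasPullback (q.imageι ≫ G.hom) U.ι)
      (pullback.lift_fst _ _ _).symm (IsPullback.of_hasPullback G.hom U.ι)
  haveI : IsClosedImmersion jl := MorphismProperty.of_isPullback hjl inferInstance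
  let j : HU ⟶ Red.bc U.ι G := Over.homMk jl (by
    show jl ≫ pullback.snd G.hom U.ι = pullback.snd _ _
    rw [pullback.lift_snd, Category.comp_id])
  haveI : IsClosedImmersion j.left := inferInstanceAs (IsClosedImmersion jl)
  have hw : q.toImage ≫ q.imageι ≫ G.hom = Hη.hom ≫ ηU ≫ U.ι := by
    rw [Scheme.Hom.toImage_imageι_assoc, hηUι]
    show (i.left ≫ pullback.fst G.hom η₀) ≫ G.hom = _
    rw [Category.assoc, pullback.condition, reassoc_of% (show i.left ≫ pullback.snd G.hom η₀ = Hη.hom from Over.w i)]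
  let φ : Hη.left ⟶ HU.left := pullback.lift q.toImage (Hη.hom ≫ ηU) (hw.trans (Category.assoc _ _ _).symm)
  have hφj : φ ≫ jl ≫ pullback.fst G.hom U.ι = i.left ≫ pullback.fst G.hom η₀ := by
    rw [pullback.lift_fst, ← Category.assoc φ, pullback.lift_fst, Scheme.Hom.toImage_imageι]
  -- the generic fibre of the image
  have hsq : IsPullback φ Hη.hom HU.hom ηU := by
    let f := q.imageι ≫ G.hom
    haveI : Mono η₀ := inferInstance
    let c : Hη.left ⟶ pullback f η₀ := pullback.lift q.toImage Hη.hom (by rw [hw, hηUι])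
    let g : pullback f η₀ ⟶ pullback G.hom η₀ := pullback.map _ _ _ _ q.imageι (𝟙 _) (𝟙 _) (by simp [f]) (by simp)
    haveI : IsClosedImmersion g := by
      have : IsPullback (pullback.fst f η₀) g q.imageι (pullback.fst G.hom η₀) :=
        IsPullback.of_bot (by rw [pullback.lift_snd, Category.comp_id]; exact IsPullback.of_hasPullback f η₀)
          (pullback.lift_fst _ _ _).symm (IsPullback.of_hasPullback G.hom η₀)
      exact MorphismProperty.of_isPullback this inferInstance
    haveI : IsClosedImmersion (c ≫ g) := by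
      have : c ≫ g = i.left := by
        apply pullback.hom_ext
        · rw [Category.assoc, pullback.lift_fst, ← Category.assoc c, pullback.lift_fst, Scheme.Hom.toImage_imageι]
        · rw [Category.assoc, pullback.lift_snd, Category.comp_id, pullback.lift_snd]
          exact (Over.w i).symm
      rw [this]; infer_instance
    haveI : IsClosedImmersion c := IsClosedImmersion.of_comp c g
    haveI : Flat (pullback.fst f η₀) := inferInstance
    haveI : Mono (pullback.fst f η₀) := inferInstance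
    have hc : IsPullback (𝟙 Hη.left) c q.toImage (pullback.fst f η₀) := by
      refine IsPullback.of_horiz_isIso_mono ⟨?_⟩
      rw [Category.id_comp]
      exact (pullback.lift_fst _ _ _).symm
    haveI : IsSchemeTheoreticallyDominant c := IsSchemeTheoreticallyDominant.of_isPullback hc
    haveI : IsIso c := IsClosedImmersion.isIso_iff_ker_eq_bot.2 c.ker_eq_bot
    have h1 : IsPullback q.toImage Hη.hom f η₀ :=
      (IsPullback.of_hasPullback f η₀).of_iso (asIso c).symm (Iso.refl _) (Iso.refl _) (Iso.refl _)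
        (by rw [Iso.symm_hom, asIso_inv, Iso.refl_hom, Category.comp_id, IsIso.eq_inv_comp]; exact pullback.lift_fst _ _ _)
        (by rw [Iso.symm_hom, asIso_inv, Iso.refl_hom, Category.comp_id, IsIso.eq_inv_comp]; exact pullback.lift_snd _ _ _) (by simp) (by simp)
    rw [← hηUι] at h1
    exact IsPullback.of_right (by rw [pullback.lift_fst]; exact h1) (pullback.lift_snd _ _ _) (IsPullback.of_hasPullback f U.ι)
  let F : Red.bc ηU HU ≅ Hη := (Over.isoMk hsq.isoPullback hsq.isoPullback_hom_snd).symm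
  have aux : ∀ (h : Spec X.functionField ⟶ X) (hh : h = ηU ≫ U.ι),
      ∃ (E : Red.bc ηU (Red.bc U.ι G) ≅ Red.bc h G), IsMonHom E.hom ∧
        E.hom.left ≫ pullback.fst G.hom h = pullback.fst _ ηU ≫ pullback.fst G.hom U.ι := by
    rintro _ rfl
    refine ⟨((Grp.forget _).mapIso (GrothLib.DiagGrp.bcGrpComp G U.ι ηU _ rfl)).symm, ?_,
      bcGrpComp_inv_fst G U.ι ηU⟩
    exact (GrothLib.DiagGrp.bcGrpComp G U.ι ηU _ rfl).inv.hom.isMonHom_hom
  obtain ⟨E, hE, hE2⟩ := aux η₀ hηUι.symm
  have hFE : F.hom ≫ i = (Over.pullback ηU).map j ≫ E.hom := by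
    rw [← Iso.eq_inv_comp]
    refine Over.OverMorphism.ext (pullback.hom_ext ?_ ?_)
    · simp only [Over.comp_left, Category.assoc]
      erw [hE2, pullback.lift_fst_assoc]
      refine hφj.symm.trans ?_
      simp only [Category.assoc]
      rw [← Category.assoc F.inv.left]
      exact congrArg (· ≫ _) hsq.isoPullback_hom_fst.symm
    · exact (Over.w i).trans (Over.w (F.inv ≫ (Over.pullback ηU).map j ≫ E.hom)).symm
  haveI := hE
  obtain ⟨inst, hmon⟩ := closed_subgroup_of_generic ηU j i E F hFE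
  exact ⟨U, ηU, HU, inst, j, φ, hηUι, hmon, inferInstance, hsq, hφj⟩


end Groth.Agent.S18029
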