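import Groth.Statements.S1803
import Groth.Agent.Lib.GorFlat.Fields

set_option autoImplicit false
universe u
open scoped TensorProduct
open Goren

namespace Groth.Agent.S1803

/-- Let k'/k be any field extension, C a k-algebra of finite type, q a prime of C ⊗_k k' and p its
contraction to C. Then C_p is Gorenstein if and only if (C ⊗_k k')_q is Gorenstein. -/
theorem result (k k' : Type u) [Field k] [Field k'] [Algebra k k'] (C : Type u) [CommRing C] [Algebra k C] [Algebra.FiniteType k C] (q : PrimeSpectrum (C ⊗[k] k')) : LocCoh.IsGorensteinLocalRing (Localization.AtPrime (q.asIdeal.comap (algebraMap C (C ⊗[k] k')))) ↔ LocCoh.IsGorensteinLocalRing (Localization.AtPrime q.asIdeal) := by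
  haveI : IsNoetherianRing C := Algebra.FiniteType.isNoetherianRing k C
  haveI : IsNoetherianRing (C ⊗[k] k') :=
    haveI : Algebra.FiniteType k' (k' ⊗[k] C) := inferInstance
    haveI := Algebra.FiniteType.isNoetherianRing k' (k' ⊗[k] C)
    isNoetherianRing_of_ringEquiv (k' ⊗[k] C) (Algebra.TensorProduct.comm k k' C).toRingEquiv
  refine (GrothLib.GorFlat.gorenstein_atPrime_baseChange_iff k k' C q.asIdeal ?_).symm
  exact GrothLib.GorFlat.isGorensteinRing_of_ringEquiv (Algebra.TensorProduct.comm k k' _).toRingEquiv
    (GrothLib.GorFlat.isGorensteinRing_tensor_of_fg k k' _ (GrothLib.GorFlat.fg_residueField k _))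

end Groth.Agent.S1803
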