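import Groth.Statements.S18040
import Groth.Agent.Lib.CBPts25.Basic
-- import your own Groth.Agent.* helpers here

set_option autoImplicit false
universe u
open AdjLin

namespace Groth.Agent.S18040

/-- Let k be an algebraically closed field of characteristic zero and Z a finite set of points of
projective 3-space over k, realised as points of the projectivization of k⁴, a homogeneous form in
four variables being evaluated at the chosen representative of a point (its vanishing does not
depend on the choice). Suppose Z has the Cayley–Bacharach property in degree n: every form of degree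
n vanishing at all points of Z but one vanishes at that point as well. Then for every m ≤ n, either
there is a nonzero form of degree n − m vanishing at every point of Z, or the rank of the evaluation
map from forms of degree m to functions on Z is at most the number of points of Z minus the
dimension of the space of forms of degree n − m. -/
theorem result (k : Type u) [Field k] [IsAlgClosed k] [CharZero k]
    (Z : Finset (Projectivization k (Fin 4 → k))) (n : ℕ)
    (hCB : (∀ z ∈ Z, ∀ p : MvPolynomial (Fin 4) k, p.IsHomogeneous n →
      (∀ z' ∈ Z, z' ≠ z → MvPolynomial.eval z'.rep p = 0) → MvPolynomial.eval z.rep p = 0))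
    (m : ℕ) (hm : m ≤ n) :
    (∃ s : MvPolynomial (Fin 4) k, s.IsHomogeneous (n - m) ∧ s ≠ 0 ∧ ∀ z ∈ Z, MvPolynomial.eval z.rep s = 0) ∨
      Module.finrank k (LinearMap.range
          ((LinearMap.pi fun z : ↥Z => (MvPolynomial.aeval (R := k) z.1.rep).toLinearMap) ∘ₗ
            (MvPolynomial.homogeneousSubmodule (Fin 4) k m).subtype)) +
        Module.finrank k ↥(MvPolynomial.homogeneousSubmodule (Fin 4) k (n - m)) ≤ Z.card := by
  by_cases hs : Function.Injective (GrothLib.CBPts25.evalAt Z (n - m))
  · refine Or.inr ?_
    have := GrothLib.CBPts25.finrank_le Z n hCB m hm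
    rwa [LinearMap.finrank_range_of_inj hs] at this
  · obtain ⟨p, hp, hp0⟩ := not_forall.1 (fun h => hs ((injective_iff_map_eq_zero _).2 h)) |>.imp fun p hp => _root_.not_imp.1 hp
    refine Or.inl ⟨p.1, p.2, fun h => hp0 (Subtype.ext h), fun z hz => ?_⟩
    rw [← GrothLib.CBPts25.evalAt_apply Z (n - m) p ⟨z, hz⟩, hp]
    rfl

end Groth.Agent.S18040
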