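import Groth.Statements.S18043
-- import your own Groth.Agent.* helpers here
import Groth.Agent.Lib.CBLci28.Main
import Groth.Agent.Lib.ParaPair.Basic

set_option autoImplicit false
set_option maxHeartbeats 1600000
set_option linter.style.haveILetI false
set_option backward.isDefEq.respectTransparency false
universe u
open CategoryTheory CategoryTheory.Limits AlgebraicGeometry
open AdjLin

namespace Groth.Agent.S18043

/-- Let k be an algebraically closed field of characteristic zero and X a smooth projective surface over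
k (an irreducible proper smooth k-scheme of dimension 2 with an ample invertible O_X-module), ω a
second exterior power of Ω_{X/k}, U and L invertible O_X-modules with U⁻¹ a tensor inverse of U, and
P ⊂ X a zero-dimensional local complete intersection subscheme, given by a quasi-coherent ideal I_P
with finite support which, on some affine open neighbourhood of every point of X, is generated by
two sections. Then the following are equivalent: (a) there are a locally free O_X-module E of rank 2
and morphisms U → E → L ⊗ I_P forming a short exact sequence 0 → U → E → L ⊗ I_P → 0; (b) for every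
quasi-coherent ideal I' covering I_P in the order of ideal sheaves (equivalently, every closed
subscheme P' ⊂ P of colength one) and every global section σ of (L ⊗ U⁻¹) ⊗ ω whose zero scheme
contains P' (the ideal of the zero scheme is ≤ I'), the zero scheme of σ contains P. -/
theorem result (k : Type u) [Field k] [IsAlgClosed k] [CharZero k]
    (X : Scheme.{u}) [X.Over (Spec (CommRingCat.of k))] [IsProper (X ↘ (Spec (CommRingCat.of k)))]
    [Smooth (X ↘ (Spec (CommRingCat.of k)))] [IrreducibleSpace X] (hdim : topologicalKrullDim X = 2)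
    (H : X.Modules) (hH : CohB1.IsAmple H)
    (ω : X.Modules) (hω : ExtPow.IsExtPow 2 (Omega.sheaf (X ↘ (Spec (CommRingCat.of k)))) ω)
    (U Uinv L : X.Modules) (hU : PicF.IsInvertible U) (hUinv : ClSub.IsInverseOf Uinv U)
    (hL : PicF.IsInvertible L)
    (IP : X.IdealSheafData) (hfin : (IP.support : Set X).Finite)
    (hlci : ∀ x : X, ∃ V : X.affineOpens, x ∈ (V : X.Opens) ∧
      ∃ a b : Γ(X, V), IP.ideal V = Ideal.span {a, b}) :
    (∃ (E : X.Modules) (i : U ⟶ E) (p : E ⟶ CohB1.tensorMod L (ClSub.idealMod IP)) (w : i ≫ p = 0),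
        FlatMod.IsFinLocFreeOfRank 2 E ∧ (ShortComplex.mk i p w).ShortExact) ↔
      (∀ I' : X.IdealSheafData, IP ⋖ I' →
        ∀ σ : Coh.structureModule X ⟶ CohB1.tensorMod (CohB1.tensorMod L Uinv) ω,
          PicF2.zeroScheme (CohB1.tensorMod (CohB1.tensorMod L Uinv) ω) σ ≤ I' →
            PicF2.zeroScheme (CohB1.tensorMod (CohB1.tensorMod L Uinv) ω) σ ≤ IP) := by
  haveI := GrothLib.RedSmooth.isReduced_of_smooth (X ↘ Spec (CommRingCat.of k))
  haveI : IsIntegral X := isIntegral_of_irreducibleSpace_of_isReduced X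
  haveI := GrothLib.Euler.isNoetherian_of_proper (X := X) k
  obtain ⟨n, ιP, hιP, hιf⟩ := GrothLib.CBLci28.exists_embedding k hH
  haveI := hιP
  haveI : SmoothOfRelativeDimension 2 (X ↘ Spec (CommRingCat.of k)) :=
    GrothLib.DimCut.smoothOfRelativeDimension _ 2 (by exact_mod_cast hdim)
  haveI : Nonempty X := ⟨genericPoint X⟩
  have hωinv := GrothLib.DualSm27.isInvertible_top k n 2 X ιP hιf ω hω
  obtain ⟨L', hL', ⟨eLL'⟩, ⟨eL'L⟩⟩ := GrothLib.CBExt28.exists_inv hL
  obtain ⟨eU⟩ := hUinv
  obtain ⟨U', hU', ⟨eUU'⟩, -⟩ := GrothLib.CBExt28.exists_inv hU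
  have hUi : PicF.IsInvertible Uinv := by
    let a : Uinv ≅ U' :=
      (GrothLib.OX.tensorUnitLeftIso Uinv).symm ≪≫ GrothLib.GrTilde.tensorModComm (X := X) _ Uinv ≪≫
        ((DCoh.tensorBi (X := X)).obj Uinv).mapIso eUU'.symm ≪≫
        (GrothLib.OX.tensorAssoc Uinv U U').symm ≪≫ ((DCoh.tensorBi (X := X)).mapIso eU).app U' ≪≫
        GrothLib.OX.tensorUnitLeftIso U'
    exact GrothLib.ParaPair.isInvertible_of_iso a hU'
  have hA := GrothLib.Ample.isInvertible_tensorMod (GrothLib.Ample.isInvertible_tensorMod hL hUi) hωinv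
  let K := CohB1.tensorMod L' U
  let B := CohB1.tensorMod L Uinv
  let eBK : CohB1.tensorMod B K ≅ Coh.structureModule X :=
    ((DCoh.tensorBi (X := X)).mapIso (GrothLib.GrTilde.tensorModComm (X := X) L Uinv)).app K ≪≫
      GrothLib.OX.tensorAssoc Uinv L K ≪≫
      ((DCoh.tensorBi (X := X)).obj Uinv).mapIso ((GrothLib.OX.tensorAssoc L L' U).symm ≪≫
        ((DCoh.tensorBi (X := X)).mapIso eLL').app U ≪≫ GrothLib.OX.tensorUnitLeftIso U) ≪≫ eU
  let e : (GrothLib.CBExt28.Tw (CohB1.tensorMod B ω)).obj K ≅ ω :=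
    ((DCoh.tensorBi (X := X)).mapIso (GrothLib.GrTilde.tensorModComm (X := X) B ω)).app K ≪≫
      GrothLib.OX.tensorAssoc ω B K ≪≫ ((DCoh.tensorBi (X := X)).obj ω).mapIso eBK ≪≫
      GrothLib.GrTilde.tensorModComm (X := X) ω (Coh.structureModule X) ≪≫ GrothLib.OX.tensorUnitLeftIso ω
  exact GrothLib.CBLci28.exists_extension_iff k hdim hH hω hL hL' eLL' eL'L hU hA e IP hfin hlci

end Groth.Agent.S18043
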