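import Groth.Statements.S18046
-- import your own Groth.Agent.* helpers here
import Groth.Agent.Lib.CBGor28.Main
import Groth.Agent.Lib.MuSt28.Basic
import Groth.Agent.Lib.QSecGen13.Proper
import Groth.Agent.Lib.Ample.CocTensor

set_option autoImplicit false
set_option maxHeartbeats 1600000
set_option linter.style.haveILetI false
set_option backward.isDefEq.respectTransparency false
universe u
open CategoryTheory CategoryTheory.Limits AlgebraicGeometry
open AdjLin

namespace Groth.Agent.S18046

/-- Let k be an algebraically closed field of characteristic zero and X ⊂ P³_k a smooth surface of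
degree d, that is, a closed immersion ι : X → P³_k of an irreducible smooth k-scheme of dimension 2
whose hyperplane class H = ι*O(1) has self-intersection (H·H) = d (computed as an alternating sum of
Euler characteristics from two copies of ι*O(−1)); write O_X(j) = ι*O_{P³}(j) and h⁰(F) for the
k-dimension of H⁰(X, F). Let Z ⊂ X be a zero-dimensional local complete intersection subscheme (a
quasi-coherent ideal I_Z with finite support, generated by two sections on an affine neighbourhood
of every point) with the Cayley–Bacharach property for O_X(n): for every quasi-coherent ideal I'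
covering I_Z in the order of ideal sheaves, every global section of O_X(n) whose zero scheme has
ideal ≤ I' has zero scheme with ideal ≤ I_Z. For an integer j put r_Z(j) = h⁰(O_X(j)) − h⁰(O_X(j) ⊗
I_Z), the rank of the evaluation of forms of degree j on Z. Then for every integer m ≤ n, r_Z(m) +
r_Z(n − m) ≤ χ(O_X/I_Z) + h⁰(O_X(d − 4 − m)), where χ(O_X/I_Z), the Euler characteristic of the
structure sheaf of Z pushed to X, is the length of Z. (The published lemma does not assume that Z is
a local complete intersection; its proof constructs a rank-2 vector bundle from Z by the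
Cayley–Bacharach criterion, which needs this, so it is assumed here.) -/
theorem result
    (k : Type u) [Field k] [IsAlgClosed k] [CharZero k]
    (X : Scheme.{u}) [X.Over (Spec (CommRingCat.of k))] [Smooth (X ↘ (Spec (CommRingCat.of k)))]
    [IrreducibleSpace X] (hdim : topologicalKrullDim X = 2)
    (ι : X ⟶ CohB1.ProjSpace 3 k) [IsClosedImmersion ι]
    (hι : ι ≫ CohB1.ProjSpace.toSpec 3 k = X ↘ (Spec (CommRingCat.of k)))
    (d : ℤ) (hd : FGA.intNum k X 2 ![((Scheme.Modules.pullback ι).obj (Twist.twistProjSpace 3 k (-1))), ((Scheme.Modules.pullback ι).obj (Twist.twistProjSpace 3 k (-1)))] (Coh.structureModule X) = d)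
    (IZ : X.IdealSheafData) (hfin : (IZ.support : Set X).Finite)
    (hlci : ∀ x : X, ∃ V : X.affineOpens, x ∈ (V : X.Opens) ∧
      ∃ a b : Γ(X, V), IZ.ideal V = Ideal.span {a, b})
    (n m : ℤ) (hm : m ≤ n)
    (hCB : ∀ I' : X.IdealSheafData, IZ ⋖ I' →
      ∀ σ : Coh.structureModule X ⟶ ((Scheme.Modules.pullback ι).obj (Twist.twistProjSpace 3 k (n))),
        PicF2.zeroScheme ((Scheme.Modules.pullback ι).obj (Twist.twistProjSpace 3 k (n))) σ ≤ I' → PicF2.zeroScheme ((Scheme.Modules.pullback ι).obj (Twist.twistProjSpace 3 k (n))) σ ≤ IZ) :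
    ((Module.finrank k (Coh.HH X ((Scheme.Modules.pullback ι).obj (Twist.twistProjSpace 3 k (m))) 0) : ℤ) - (Module.finrank k (Coh.HH X (CohB1.tensorMod ((Scheme.Modules.pullback ι).obj (Twist.twistProjSpace 3 k (m))) (ClSub.idealMod IZ)) 0) : ℤ)) +
        ((Module.finrank k (Coh.HH X ((Scheme.Modules.pullback ι).obj (Twist.twistProjSpace 3 k (n - m))) 0) : ℤ) - (Module.finrank k (Coh.HH X (CohB1.tensorMod ((Scheme.Modules.pullback ι).obj (Twist.twistProjSpace 3 k (n - m))) (ClSub.idealMod IZ)) 0) : ℤ)) ≤
      FGA.eulerCharLE k X (ClSub.quotMod IZ) 2 + (Module.finrank k (Coh.HH X ((Scheme.Modules.pullback ι).obj (Twist.twistProjSpace 3 k (d - 4 - m))) 0) : ℤ) := by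
  open GrothLib GrothLib.SerrePn27 GrothLib.CBGor28 in
  · classical
    letI := fun V : X.Opens => algV (X := X) k V
    haveI : IsProper (X ↘ Spec (CommRingCat.of k)) := by
      haveI := Chow.isProper_toSpec 3 k
      exact hι ▸ inferInstance
    haveI := RedSmooth.isReduced_of_smooth (X ↘ Spec (CommRingCat.of k))
    haveI : IsIntegral X := isIntegral_of_irreducibleSpace_of_isReduced X
    haveI : Infinite k := IsAlgClosed.instInfinite
    haveI := Euler.isNoetherian_of_proper (X := X) k
    haveI : AlgebraicGeometry.IsNoetherian (CohB1.ProjSpace 3 k) := CMReg.isNoetherian_projSpace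
    have hdim' : topologicalKrullDim X = ((2 : ℕ) : WithBot ℕ∞) := hdim
    have hH : CohB1.IsAmple (Oi ι 1) :=
      Ample.isAmple_pullback_of_isAffineHom (Y := X) (X := CohB1.ProjSpace 3 k) ι (Ample.isAmple_twistProjSpace_one 3 k)
    obtain ⟨c, ⟨e₁⟩⟩ := Ample.exists_cocycle hH.1
    have hej : ∀ j : ℕ, Nonempty (c.twist j ≅ Oi ι (j : ℤ)) := fun j => by
      obtain ⟨a⟩ := c.nonempty_tensorPow_iso e₁ j
      obtain ⟨b⟩ := nonempty_Oi_tensorPow ι j
      exact ⟨a.symm ≪≫ b⟩
    -- a form avoiding the subscheme
    let s : Fin (3 + 1) → c.sect 1 ⊤ := fun i => e₁.hom.app ⊤ (Ample.ProjMap.pullCoord ι i)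
    have hcov : ⨆ i, c.locus (s i) = ⊤ :=
      c.iSup_locus_of_generatedBy e₁ _ (Algz56.generatedBy_pullCoord ι)
    let κ : k →+* Γ(X, ⊤) := Coh.toGlobal (X ↘ Spec (CommRingCat.of k))
    choose ch hch using c.exists_mem
    let gz : ∀ z : X, k →+* X.presheaf.stalk z := fun z => (X.presheaf.germ ⊤ z trivial).hom.comp κ
    let G : ∀ (_ : Fin (3 + 1)) (z : X), X.presheaf.stalk z := fun i z =>
      X.presheaf.germ ((⊤ : X.Opens) ⊓ c.D (ch z)) z ⟨trivial, hch z⟩ ((s i).1 (ch z))
    let P : ↥(IZ.support : Set X) → Submodule k (Fin (3 + 1) → k) := fun z =>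
      { carrier := {w | ∑ i, gz z.1 (w i) * G i z.1 ∈ IsLocalRing.maximalIdeal (X.presheaf.stalk z.1)}
        zero_mem' := by simp
        add_mem' := fun {u v} hu hv => by
          simp only [Set.mem_setOf_eq, Pi.add_apply, map_add, add_mul, Finset.sum_add_distrib]
          exact add_mem hu hv
        smul_mem' := fun a u hu => by
          simp only [Set.mem_setOf_eq, Pi.smul_apply, smul_eq_mul, map_mul, mul_assoc, ← Finset.mul_sum]
          exact Ideal.mul_mem_left _ _ hu }
    have hP : ∀ z, P z ≠ ⊤ := fun z htop => by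
      obtain ⟨i, hi⟩ := TopologicalSpace.Opens.mem_iSup.1 (hcov.ge (TopologicalSpace.Opens.mem_top z.1))
      have h1 : (Pi.single i 1 : Fin (3 + 1) → k) ∈ P z := htop ▸ Submodule.mem_top
      change ∑ j, gz z.1 ((Pi.single i 1 : Fin (3 + 1) → k) j) * G j z.1 ∈ IsLocalRing.maximalIdeal (X.presheaf.stalk z.1) at h1
      rw [Finset.sum_eq_single i (fun j _ hj => by rw [Pi.single_eq_of_ne hj, map_zero, zero_mul])
        (fun h => absurd (Finset.mem_univ i) h), Pi.single_eq_same, map_one, one_mul] at h1
      exact (IsLocalRing.mem_maximalIdeal _).1 h1 ((c.mem_locus_iff_isUnit (s i) (hch z.1)).1 hi)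
    haveI : Finite ↥(IZ.support : Set X) := hfin.to_subtype
    obtain ⟨w, hw⟩ : ∃ w, ∀ z, w ∉ P z := by
      by_contra hne
      push Not at hne
      obtain ⟨z, hz⟩ := Subspace.exists_eq_top_of_iUnion_eq_univ (p := P)
        (Set.eq_univ_of_forall fun x => Set.mem_iUnion.2 (hne x))
      exact hP z hz
    let l : c.sect 1 ⊤ := ∑ i, κ (w i) • s i
    have hloc : (IZ.support : Set X) ⊆ c.locus l := fun z hz => by
      refine (c.mem_locus_iff_isUnit l (hch z)).2 (not_not.1 fun hu => hw ⟨z, hz⟩ ?_)
      have hmem := (IsLocalRing.mem_maximalIdeal _).2 hu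
      show ∑ i, gz z (w i) * G i z ∈ IsLocalRing.maximalIdeal (X.presheaf.stalk z)
      refine (congrArg (· ∈ IsLocalRing.maximalIdeal (X.presheaf.stalk z)) ?_).mp hmem
      have hval : l.1 (ch z) = ∑ i, Ample.res inf_le_left (κ (w i)) * (s i).1 (ch z) := by
        show (∑ i, κ (w i) • s i : c.sect 1 ⊤).1 (ch z) = _
        rw [AddSubmonoidClass.coe_finset_sum, Finset.sum_apply]
        rfl
      rw [hval, map_sum]
      refine Finset.sum_congr rfl fun i _ => ?_
      rw [map_mul]
      exact congrArg (· * G i z) (X.presheaf.germ_res_apply _ z _ _)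
    obtain ⟨U₀, hU₀, hsupp, hU⟩ := QSecGen13.exists_affine_of_finite_ample hH hfin hloc
    let U : X.affineOpens := ⟨U₀, hU₀⟩
    obtain ⟨Q⟩ := exists_quot_equiv k IZ U hsupp
    have hQc := Snapper.isCoh_quotMod k IZ
    haveI := Euler.finiteDimensional_HH k hQc 0
    haveI : FiniteDimensional k (Γ(X, U.1) ⧸ IZ.ideal U) := Q.symm.finiteDimensional
    haveI : IsArtinianRing (Γ(X, U.1) ⧸ IZ.ideal U) := IsArtinianRing.of_finite k _
    have hchi : FGA.eulerCharLE k X (ClSub.quotMod IZ) 2 =
        (Module.finrank k (Γ(X, U.1) ⧸ IZ.ideal U) : ℤ) := by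
      haveI : JacobsonSpace X := LocallyOfFiniteType.jacobsonSpace (X ↘ Spec (CommRingCat.of k))
      have hvan : ∀ i, 1 ≤ i → Subsingleton (Coh.HH X (ClSub.quotMod IZ) i) := fun i hi =>
        Euler.subsingleton_HH_of_finite_support _ (hfin.subset (Snapper.support_quotMod IZ)) (fun x hx => by
          have hxs := Snapper.support_quotMod IZ hx
          have h2 : IsClosed ((IZ.support : Set X) ∩ closedPoints X) := by
            rw [show (IZ.support : Set X) ∩ closedPoints X = ⋃ z ∈ (IZ.support : Set X) ∩ closedPoints X, {z} from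
              (Set.biUnion_of_singleton _).symm]
            exact (hfin.subset Set.inter_subset_left).isClosed_biUnion fun z hz => hz.2
          have h3 := JacobsonSpace.closure_inter_closedPoints_eq_closure IZ.support.isClosed.isLocallyClosed
          rw [h2.closure_eq, IZ.support.isClosed.closure_eq] at h3
          rw [← h3] at hxs
          exact hxs.2) i hi
      rw [FGAInt26.eulerCharLE_eq k hdim'.le, Euler.euler_eq_sum k _ (N := 1) hvan, Finset.sum_range_one,
        pow_zero, one_mul, Q.finrank_eq]
    -- rank of evaluation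
    have hrank : ∀ j : ℕ, (Module.finrank k (Coh.HH X (Oi ι (j : ℤ)) 0) : ℤ) -
        Module.finrank k (Coh.HH X (CohB1.tensorMod (Oi ι (j : ℤ)) (ClSub.idealMod IZ)) 0) ≤
          Module.finrank k (LinearMap.range (evalMap c l k IZ U hU j)) := by
      intro j
      obtain ⟨e⟩ := hej j
      haveI := Euler.finiteDimensional_HH k (Euler.isCoh_of_isInvertible (c.isInvertible_twist j)) 0
      have h1 := LinearMap.finrank_range_add_finrank_ker (evalMap c l k IZ U hU j)
      have h2 := finrank_ker_evalMap_le c l k IZ U hU hsupp j e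
      have h3 := (SerrePn27.hhMapEquiv (k := k) e 0).finrank_eq
      omega
    obtain ⟨q, hq⟩ : ∃ q : ℕ, n - m = (q : ℤ) := ⟨(n - m).toNat, (Int.toNat_of_nonneg (by omega)).symm⟩
    rw [hq, hchi]
    have hrq := hrank q
    have hqle := Submodule.finrank_le (LinearMap.range (evalMap c l k IZ U hU q))
    rcases le_or_gt 0 m with hm0 | hm0
    · obtain ⟨p, rfl⟩ : ∃ p : ℕ, m = (p : ℤ) := ⟨m.toNat, (Int.toNat_of_nonneg hm0).symm⟩
      obtain ⟨N, rfl⟩ : ∃ N : ℕ, n = (N : ℤ) := ⟨n.toNat, (Int.toNat_of_nonneg (hm0.trans hm)).symm⟩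
      obtain ⟨eN⟩ := hej N
      have key := finrank_add_le
        (fun p hp s t hs hs0 ht => exists_mul_eq_of_socle k IZ U hsupp hdim hfin hlci p hp s t hs hs0 ht)
        (LinearMap.range (evalMap c l k IZ U hU p)) (LinearMap.range (evalMap c l k IZ U hU q))
        (LinearMap.range (evalMap c l k IZ U hU N))
        (fun x hx y hy => mul_mem_range c l k IZ U hU (by omega) hx hy)
        (fun P' hP' x hx hk => eq_zero_of_cb c l k IZ U hU hsupp eN hCB P' hP' x hx hk)
      have hrp := hrank p
      simp only [SerrePn27.Oi] at hrp hrq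
      omega
    · -- negative twists have no section
      have hzero : Module.finrank k (Coh.HH X (Oi ι m) 0) = 0 := by
        haveI : Subsingleton (Coh.HH X (Oi ι m) 0) := by
          refine subsingleton_of_forall_eq 0 fun x => (ProjCoh.H0top (Oi ι m)).injective ?_
          rw [map_zero]
          let σ := FinCov.homOfSection (ProjCoh.H0top (Oi ι m) x)
          have hσ : σ = 0 := by
            by_contra hσ
            have hN := Hilb20.isNormalScheme_of_smooth (X := X) k
            have hu : Snapper.DimLT (Set.univ : Set X) 3 := Kleiman.dimLT_univ hdim'.le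
            have hOi : PicF.IsInvertible (Coh.structureModule X) := Euler.isInvertible_structure
            have hOc : Coh.IsCoh (Coh.structureModule X) := Kleiman.isCoh_O k
            have hMi := isInvertible_Oi ι m
            haveI := K3Ext28.mono_of_ne_zero (k := k) hN hdim' hOi (Euler.isCoh_of_isInvertible hMi)
              (DecSh20.isTorsionFree_of_locFree (Euler.isFinLocFreeOfRank_one' hMi)) σ hσ
            have hO0 : ¬ IsZero (Coh.structureModule X) := fun h => by
              have := Hilb20.support_eq_empty_of_isZero h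
              exact (this ▸ Kleiman.mem_support_structure (genericPoint X) :)
            obtain ⟨pO, hpO⟩ := Hilb20.exists_isHilbPoly (k := k) hH hOc (hu.mono (Set.subset_univ _))
            obtain ⟨pM, hpM⟩ := Hilb20.exists_isHilbPoly (k := k) hH (Euler.isCoh_of_isInvertible hMi)
              (hu.mono (Set.subset_univ _))
            obtain ⟨-, h1⟩ := MuSt28.alpha_Oi ι hdim' hH m (Iso.refl _) hpM hpO
            obtain ⟨-, h2, -⟩ := DecSh20.alpha_rankOne hN hdim' hH hMi σ hOc hO0 hpO hpM
            have hA : 0 < StabCat.alpha 2 pO := Hilb20.alpha_pos_self hH hOc hO0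
              (DecSh20.isPure_of_isInvertible (k := k) hN hdim' hOi) hpO
            have hm' : (m : ℚ) ≤ -1 := by exact_mod_cast (show m ≤ -1 by omega)
            nlinarith [mul_le_mul_of_nonneg_right hm' hA.le]
          have h1 := congrArg (fun g : Coh.structureModule X ⟶ Oi ι m => g.app ⊤ (FinCov.one X ⊤)) hσ
          dsimp only [σ] at h1
          rw [FinCov.homOfSection_one] at h1
          rw [← InvExt.mres_self (Oi ι m) (ProjCoh.H0top (Oi ι m) x)]
          exact h1
        exact Module.finrank_zero_of_subsingleton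
      simp only [SerrePn27.Oi] at hrq hzero
      rw [hzero]
      omega

end Groth.Agent.S18046
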