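import Groth.Statements.S18048
-- import your own Groth.Agent.* helpers here
import Groth.Agent.Lib.CBLci28.SurfP3
import Groth.Agent.Lib.Algz56.Embedding
import Groth.Agent.Lib.ExtPowX.Basic
import Groth.Agent.Lib.Adj27.SmoothExt

set_option autoImplicit false
set_option maxHeartbeats 1600000
set_option linter.style.haveILetI false
set_option backward.isDefEq.respectTransparency false
universe u
open CategoryTheory CategoryTheory.Limits AlgebraicGeometry
open AdjLin

namespace Groth.Agent.S18048

/-- Let k be an algebraically closed field of characteristic zero and X ⊂ P³_k a smooth surface of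
degree d, that is, a closed immersion ι : X → P³_k of an irreducible smooth k-scheme of dimension 2
whose hyperplane class H = ι*O(1) has self-intersection (H·H) = d (computed as an alternating sum of
Euler characteristics from two copies of ι*O(−1)); write O_X(j) = ι*O_{P³}(j). Let P ⊂ X be a
zero-dimensional local complete intersection subscheme (a quasi-coherent ideal I_P with finite
support, generated by two sections on an affine neighbourhood of every point) with the
Cayley–Bacharach property for O_X(n): for every quasi-coherent ideal I' covering I_P in the order of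
ideal sheaves, every global section of O_X(n) whose zero scheme has ideal ≤ I' has zero scheme with
ideal ≤ I_P. Then there exist a locally free O_X-module E of rank 2 and morphisms O_X → E → O_X(n +
4 − d) ⊗ I_P forming a short exact sequence 0 → O_X → E → O_X(n + 4 − d) ⊗ I_P → 0. (The published
corollary is stated for P a general divisor in a base-point-free linear system on a smooth curve in
P³, with X a smooth hypersurface containing P; its proof uses only the Cayley–Bacharach property of
P in degree n, equivalent to the one for O_X(n) on X, and that property is assumed here for an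
arbitrary zero-dimensional local complete intersection P ⊂ X.) -/
theorem result
    (k : Type u) [Field k] [IsAlgClosed k] [CharZero k]
    (X : Scheme.{u}) [X.Over (Spec (CommRingCat.of k))] [Smooth (X ↘ (Spec (CommRingCat.of k)))]
    [IrreducibleSpace X] (hdim : topologicalKrullDim X = 2)
    (ι : X ⟶ CohB1.ProjSpace 3 k) [IsClosedImmersion ι]
    (hι : ι ≫ CohB1.ProjSpace.toSpec 3 k = X ↘ (Spec (CommRingCat.of k)))
    (d : ℤ) (hd : FGA.intNum k X 2 ![((Scheme.Modules.pullback ι).obj (Twist.twistProjSpace 3 k (-1))), ((Scheme.Modules.pullback ι).obj (Twist.twistProjSpace 3 k (-1)))] (Coh.structureModule X) = d)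
    (IP : X.IdealSheafData) (hfin : (IP.support : Set X).Finite)
    (hlci : ∀ x : X, ∃ V : X.affineOpens, x ∈ (V : X.Opens) ∧
      ∃ a b : Γ(X, V), IP.ideal V = Ideal.span {a, b})
    (n : ℤ)
    (hCB : ∀ I' : X.IdealSheafData, IP ⋖ I' →
      ∀ σ : Coh.structureModule X ⟶ ((Scheme.Modules.pullback ι).obj (Twist.twistProjSpace 3 k (n))),
        PicF2.zeroScheme ((Scheme.Modules.pullback ι).obj (Twist.twistProjSpace 3 k (n))) σ ≤ I' → PicF2.zeroScheme ((Scheme.Modules.pullback ι).obj (Twist.twistProjSpace 3 k (n))) σ ≤ IP) :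
    ∃ (E : X.Modules) (i : Coh.structureModule X ⟶ E)
      (p : E ⟶ CohB1.tensorMod ((Scheme.Modules.pullback ι).obj (Twist.twistProjSpace 3 k (n + 4 - d))) (ClSub.idealMod IP)) (w : i ≫ p = 0),
      FlatMod.IsFinLocFreeOfRank 2 E ∧ (ShortComplex.mk i p w).ShortExact := by
  open GrothLib GrothLib.SerrePn27 in
  · haveI := Chow.isProper_toSpec 3 k
    haveI : IsProper (X ↘ (Spec (CommRingCat.of k))) := by rw [← hι]; infer_instance
    haveI := RedSmooth.isReduced_of_smooth (X ↘ Spec (CommRingCat.of k))
    haveI : IsIntegral X := isIntegral_of_irreducibleSpace_of_isReduced X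
    haveI := Euler.isNoetherian_of_proper (X := X) k
    haveI : Nonempty X := ⟨genericPoint X⟩
    have hA : CohB1.IsAmple (Oi ι 1) :=
      RelProjK.isAmple_pullback_twist_of_isEmbedding ι ι.isClosedEmbedding.isEmbedding exists_notMem'
    haveI : SmoothOfRelativeDimension 2 (X ↘ Spec (CommRingCat.of k)) :=
      DimCut.smoothOfRelativeDimension _ 2 (by exact_mod_cast hdim)
    obtain ⟨ω, -, hω⟩ := ExtPowX.exists_extPow (Adj27.isFinLocFree_omega (X ↘ Spec (CommRingCat.of k)) 2) 2
    obtain ⟨w⟩ := CBLci28.nonempty_omega_iso ι hι hdim hω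
    obtain ⟨g⟩ := nonempty_Oi_add ι (a := n + 4 - d) (b := -(n + 4 - d)) (c := 0) (by ring)
    obtain ⟨g'⟩ := nonempty_Oi_add ι (a := -(n + 4 - d)) (b := n + 4 - d) (c := 0) (by ring)
    obtain ⟨z⟩ := nonempty_Oi_zero ι
    obtain ⟨g₂⟩ := nonempty_Oi_add ι (a := n) (b := -(n + 4 - d)) (c := d - 4) (by ring)
    let e : (CBExt28.Tw (Oi ι n)).obj ((CBExt28.Tw (Oi ι (-(n + 4 - d)))).obj (Coh.structureModule X)) ≅ ω :=
      ((CBExt28.Tw (Oi ι n)).mapIso (SecTwist.unitorR (Oi ι (-(n + 4 - d))))) ≪≫ g₂ ≪≫ eqToIso (congrArg (fun e : ℤ => Oi ι (e - 4)) hd.symm) ≪≫ w.symm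
    exact (CBLci28.exists_extension_iff k hdim hA hω (isInvertible_Oi ι (n + 4 - d))
      (isInvertible_Oi ι (-(n + 4 - d))) (g ≪≫ z) (g' ≪≫ z) Euler.isInvertible_structure (isInvertible_Oi ι n) e
      IP hfin hlci).2 hCB

end Groth.Agent.S18048
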