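import Mathlib.Tactic.Linarith
import Mathlib.Tactic.Ring
import Groth.Statements.S18049
-- import your own Groth.Agent.* helpers here

set_option autoImplicit false
open STCI

namespace Groth.Agent.S18049

/-- For natural numbers 0 < k < N such that k does not divide N, ⌊N/k⌋ ≤ (N - k)/gcd(k, N); stated here
in the equivalent cleared form ⌊N/k⌋ · gcd(k, N) ≤ N - k. -/
theorem result (k N : ℕ) (hk : 0 < k) (hkN : k < N) (hndvd : ¬ k ∣ N) :
    N / k * Nat.gcd k N ≤ N - k := by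
  have hr : 0 < N % k := Nat.pos_of_ne_zero fun h => hndvd (Nat.dvd_of_mod_eq_zero h)
  have hrk : N % k < k := Nat.mod_lt _ hk
  have hN := Nat.div_add_mod N k
  obtain ⟨k', hk'⟩ := Nat.gcd_dvd_left k N
  have hgr : Nat.gcd k N ∣ N % k := (Nat.dvd_mod_iff (Nat.gcd_dvd_left k N)).2 (Nat.gcd_dvd_right k N)
  obtain ⟨r', hr'⟩ := hgr
  have hq : 1 ≤ N / k := (Nat.one_le_div_iff hk).2 hkN.le
  obtain ⟨q, hqe⟩ := Nat.exists_eq_add_of_le hq
  rw [hqe] at hN ⊢
  generalize Nat.gcd k N = g at *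
  generalize N % k = r at *
  subst hk' hr'
  have hg : 0 < g := Nat.pos_of_mul_pos_right hk
  have hr1 : 1 ≤ r' := Nat.pos_of_mul_pos_left hr
  have hk2 : r' < k' := Nat.lt_of_mul_lt_mul_left hrk
  apply Nat.le_sub_of_add_le
  nlinarith [Nat.mul_le_mul_left (g * q) hk2]

end Groth.Agent.S18049
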