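import Groth.Agent.Lib.Euclid26.Basic
import Mathlib.Algebra.Order.Ring.Cast
import Groth.Statements.S18051
-- import your own Groth.Agent.* helpers here

set_option autoImplicit false
open STCI

namespace Groth.Agent.S18051

open W4c5stcicurvesp3 in
/-- Let k ≤ N/2 be positive integers and let r_i = rem_i(N, k), d_i = div_i(N, k) be the iterated
Euclidean remainders and quotients of (N, k) (r_0 = k, r_1 = N mod k, r_2 = r_0 mod r_1, d_1 =
⌊N/k⌋, d_2 = ⌊r_0/r_1⌋). If the least positive t with r_t = 0 satisfies t ≥ 3, i.e. r_1 ≠ 0 and r_2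
≠ 0, then (r_0 - r_1)/d_1 + (r_1 - r_2)/(d_1 + d_2) + r_2/(d_1 + d_2 + 1) ≤ k²/N (in ℚ). -/
theorem result (k N : ℕ) (hk : 0 < k) (hkN : 2 * k ≤ N)
    (h1 : irem N k 1 ≠ 0) (h2 : irem N k 2 ≠ 0) :
    ((irem N k 0 : ℚ) - irem N k 1) / (idiv N k 1)
      + ((irem N k 1 : ℚ) - irem N k 2) / ((idiv N k 1 : ℚ) + idiv N k 2)
      + (irem N k 2 : ℚ) / ((idiv N k 1 : ℚ) + idiv N k 2 + 1)
      ≤ (k : ℚ) ^ 2 / N := by
  have e1 : irem N k 1 = N % k := rfl
  have e2 : irem N k 2 = k % (N % k) := by show (if _ then _ else _) = _; rw [if_neg h1]; rfl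
  have f2 : idiv N k 2 = k / (N % k) := by show (if _ then _ else _) = _; rw [if_neg h1]; rfl
  have hlt1 := Nat.mod_lt N hk
  have hlt2 := Nat.mod_lt k (Nat.pos_of_ne_zero h1)
  have hd1 : 2 ≤ N / k := (Nat.le_div_iff_mul_le hk).2 hkN
  have hd2 : 1 ≤ k / (N % k) := (Nat.one_le_div_iff (Nat.pos_of_ne_zero h1)).2 hlt1.le
  show ((k : ℚ) - _) / ((N / k : ℕ) : ℚ) + _ + _ ≤ _
  rw [e1, e2, f2]
  refine GrothLib.Euclid26.core _ _ _ _ _ _ (by exact_mod_cast hd1) ?_ (Nat.cast_nonneg _)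
    (by exact_mod_cast Nat.pos_of_ne_zero h1) (by exact_mod_cast hlt1) ?_ ?_
  · rcases (show 2 ≤ k / (N % k) ∨ k / (N % k) = 1 by omega) with h | h
    · exact Or.inl (by exact_mod_cast h)
    · exact Or.inr (by exact_mod_cast h)
  · have := Nat.div_add_mod N k; rw [mul_comm] at this; exact_mod_cast this.symm
  · have := Nat.div_add_mod k (N % k); rw [mul_comm] at this; exact_mod_cast this.symm

end Groth.Agent.S18051
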