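import Groth.Agent.Lib.Euclid26.Basic
import Mathlib.Algebra.Order.Ring.Cast
import Mathlib.Algebra.Order.BigOperators.Group.Finset
import Mathlib.Algebra.BigOperators.Field
import Groth.Statements.S18052
-- import your own Groth.Agent.* helpers here

set_option autoImplicit false
open STCI

namespace Groth.Agent.S18052

open W4c5stcicurvesp3 in
/-- Let k ≤ N/2 be positive integers, let r_i = rem_i(N, k) and d_i = div_i(N, k) be the iterated
Euclidean remainders and quotients of (N, k) (r_0 = k, r_1 = N mod k, …; d_1 = ⌊N/k⌋, d_i =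
⌊r_{i-2}/r_{i-1}⌋), and let t be the least positive integer with r_t = 0. Then the sum over i = 0,
…, t - 1 of (r_i - r_{i+1})/(d_1 + ⋯ + d_{i+1}) is at most k²/N (in ℚ). -/
theorem result (k N t : ℕ) (hk : 0 < k) (hkN : 2 * k ≤ N) (ht : 0 < t)
    (hzero : irem N k t = 0) (hmin : ∀ i, 0 < i → i < t → irem N k i ≠ 0) :
    ∑ i ∈ Finset.range t, ((irem N k i : ℚ) - irem N k (i + 1)) / (∑ j ∈ Finset.Icc 1 (i + 1), (idiv N k j : ℚ))
      ≤ (k : ℚ) ^ 2 / N := by
  have hd1 : 2 ≤ N / k := (Nat.le_div_iff_mul_le hk).2 hkN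
  have hlt1 := Nat.mod_lt N hk
  by_cases h1 : N % k = 0
  · obtain rfl : t = 1 := by
      by_contra h
      exact hmin 1 one_pos (by omega) h1
    have hN : (N : ℚ) = (N / k : ℕ) * k := by exact_mod_cast (Nat.div_mul_cancel (Nat.dvd_of_mod_eq_zero h1)).symm
    simp only [Finset.sum_range_one, Finset.Icc_self, Finset.sum_singleton, zero_add]
    show ((k : ℚ) - (N % k : ℕ)) / ((N / k : ℕ) : ℚ) ≤ _
    rw [h1, hN, Nat.cast_zero, sub_zero]
    have : (k : ℚ) ≠ 0 := by exact_mod_cast hk.ne'
    have : ((N / k : ℕ) : ℚ) ≠ 0 := by exact_mod_cast (show N / k ≠ 0 by omega)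
    apply le_of_eq
    field_simp
  · have e1 : irem N k 1 = N % k := rfl
    have e2 : irem N k 2 = k % (N % k) := by simp [irem, h1]
    have f2 : idiv N k 2 = k / (N % k) := by simp [idiv, irem, h1]
    obtain ⟨u, rfl⟩ : ∃ u, t = 2 + u := ⟨t - 2, by
      rcases (show t = 1 ∨ 2 ≤ t by omega) with rfl | h
      · exact absurd hzero h1
      · omega⟩
    have hd2 : 1 ≤ k / (N % k) := (Nat.one_le_div_iff (Nat.pos_of_ne_zero h1)).2 hlt1.le
    have hcore : ((k : ℚ) - (N % k : ℕ)) / (N / k : ℕ) + (((N % k : ℕ) : ℚ) - (k % (N % k) : ℕ)) / ((N / k : ℕ) + (k / (N % k) : ℕ))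
        + ((k % (N % k) : ℕ) : ℚ) / ((N / k : ℕ) + (k / (N % k) : ℕ) + 1) ≤ (k : ℚ) ^ 2 / N := by
      refine GrothLib.Euclid26.core _ _ _ _ _ _ (by exact_mod_cast hd1) ?_ (Nat.cast_nonneg _)
        (by exact_mod_cast Nat.pos_of_ne_zero h1) (by exact_mod_cast hlt1) ?_ ?_
      · rcases (show 2 ≤ k / (N % k) ∨ k / (N % k) = 1 by omega) with h | h
        · exact Or.inl (by exact_mod_cast h)
        · exact Or.inr (by exact_mod_cast h)
      · have := Nat.div_add_mod N k; rw [mul_comm] at this; exact_mod_cast this.symm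
      · have := Nat.div_add_mod k (N % k); rw [mul_comm] at this; exact_mod_cast this.symm
    refine le_trans ?_ hcore
    rw [Finset.sum_range_add, Finset.sum_range_succ, Finset.sum_range_one]
    refine add_le_add (le_of_eq (congrArg₂ (· + ·) ?_ ?_)) ?_
    · simp only [zero_add, Finset.Icc_self, Finset.sum_singleton, e1]; rfl
    · simp only [e1, e2, one_add_one_eq_two]
      rw [← f2]
      congr 1
      rw [show Finset.Icc 1 2 = {1, 2} from rfl, Finset.sum_pair (by norm_num)]
      rfl
    · set D : ℚ := (N / k : ℕ) + (k / (N % k) : ℕ) + 1 with hD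
      have hDpos : 0 < D := by positivity
      calc _ ≤ ∑ i ∈ Finset.range u, (((irem N k (2 + i) : ℚ)) - irem N k (2 + (i + 1))) / D := by
            refine Finset.sum_le_sum fun i hi => ?_
            rw [Finset.mem_range] at hi
            have hne : irem N k (2 + i) ≠ 0 := hmin _ (by omega) (by omega)
            have hlt := GrothLib.Euclid26.irem_succ_lt N k hk _ hne
            rw [add_assoc 2 i 1] at hlt ⊢
            refine div_le_div_of_nonneg_left (by rw [sub_nonneg]; exact_mod_cast hlt.le) hDpos ?_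
            have h3 : 1 ≤ idiv N k 3 := by
              refine GrothLib.Euclid26.one_le_idiv N k hk 1 ?_ h1
              exact hmin 2 (by omega) (by omega)
            have hsub : ({1, 2, 3} : Finset ℕ) ⊆ Finset.Icc 1 (2 + (i + 1)) := by
              intro x hx
              simp only [Finset.mem_insert, Finset.mem_singleton] at hx
              simp only [Finset.mem_Icc]
              omega
            refine le_trans ?_ (Finset.sum_le_sum_of_subset_of_nonneg hsub fun _ _ _ => Nat.cast_nonneg _)
            rw [Finset.sum_insert (by norm_num), Finset.sum_pair (by norm_num), ← add_assoc]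
            refine add_le_add (le_of_eq ?_) (by exact_mod_cast h3)
            rw [f2]; rfl
        _ = ((k % (N % k) : ℕ) : ℚ) / D := by
            rw [← Finset.sum_div, Finset.sum_range_sub' (fun i => (irem N k (2 + i) : ℚ)), hzero, add_zero, e2]
            simp

end Groth.Agent.S18052
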