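import Mathlib.Analysis.SpecificLimits.Basic
import Mathlib.Tactic.Linarith
import Mathlib.Algebra.BigOperators.Field
import Groth.Statements.S18053
-- import your own Groth.Agent.* helpers here

set_option autoImplicit false
open STCI

namespace Groth.Agent.S18053

/-- Let (p_k)_{k ≥ 1} be a sequence of nonnegative integers and n a nonnegative integer such that (i)
p_1 ≤ 9 - (2/5)n, (ii) p_1 ≥ p_2 ≥ p_3 ≥ ⋯, (iii) Σ_k p_k ≤ 19 - n, and (iv) n/4 + Σ_{k ≥ 1}
p_k/(k(k+1)) ≥ 6. Then n = 0 and (p_k) is one of (9, 8, 2), (9, 9), (9, 9, 1) (followed by zeros).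
Here the sequence is indexed from 0 (so p 0 is p_1 and the weight of p k is 1/((k+1)(k+2))), (iii)
is stated for every partial sum, and the series in (iv) is the real sum Σ' over all k. -/
theorem result (p : ℕ → ℕ) (n : ℕ)
    (h1 : (p 0 : ℝ) ≤ 9 - (2 / 5 : ℝ) * n) (h2 : Antitone p)
    (h3 : ∀ m : ℕ, ((∑ k ∈ Finset.range m, p k : ℕ) : ℝ) ≤ 19 - (n : ℝ))
    (h4 : (6 : ℝ) ≤ (n : ℝ) / 4 + ∑' k : ℕ, (p k : ℝ) / (((k : ℝ) + 1) * ((k : ℝ) + 2))) :
    n = 0 ∧ (p = (fun k => if k = 0 then 9 else if k = 1 then 8 else if k = 2 then 2 else 0)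
      ∨ p = (fun k => if k = 0 then 9 else if k = 1 then 9 else 0)
      ∨ p = (fun k => if k = 0 then 9 else if k = 1 then 9 else if k = 2 then 1 else 0)) := by
  have hsum : ∀ m, (∑ k ∈ Finset.range m, p k) + n ≤ 19 := fun m => by
    have := h3 m
    have h : (((∑ k ∈ Finset.range m, p k) + n : ℕ) : ℝ) ≤ ((19 : ℕ) : ℝ) := by push_cast at this ⊢; linarith
    exact_mod_cast h
  have hzero : ∀ k, 19 ≤ k → p k = 0 := fun k hk => by
    by_contra hne
    have h' : (20 : ℕ) ≤ ∑ i ∈ Finset.range (k + 1), p i := by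
      calc 20 ≤ ∑ _i ∈ Finset.range (k + 1), 1 := by simp; omega
        _ ≤ ∑ i ∈ Finset.range (k + 1), p i := Finset.sum_le_sum fun i hi =>
            (Nat.pos_of_ne_zero hne).trans_le (h2 (Finset.mem_range_succ_iff.1 hi))
    have := hsum (k + 1)
    omega
  rw [tsum_eq_sum (s := Finset.range 19) (fun k hk => by
    rw [hzero k (by simpa using hk)]; simp)] at h4
  have hb : ∑ k ∈ Finset.range 19, (p k : ℝ) / (((k : ℝ) + 1) * ((k : ℝ) + 2)) ≤
      (p 0 : ℝ) / 2 + (p 1 : ℝ) / 6 + (p 2 : ℝ) / 12 +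
        (∑ k ∈ Finset.range 16, (p (k + 3) : ℝ)) / 20 := by
    rw [show Finset.range 19 = Finset.range (3 + 16) from rfl, Finset.sum_range_add, Finset.sum_div]
    refine add_le_add (le_of_eq ?_) (Finset.sum_le_sum fun k _ => ?_)
    · simp [Finset.sum_range_succ]; norm_num
    · rw [add_comm 3 k]
      refine div_le_div_of_nonneg_left (Nat.cast_nonneg _) (by norm_num) ?_
      push_cast
      nlinarith [(Nat.cast_nonneg k : (0 : ℝ) ≤ k)]
  have htot := hsum (3 + 16)
  rw [Finset.sum_range_add] at htot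
  simp only [add_comm 3 _, Finset.sum_range_succ, Finset.sum_range_zero] at htot
  have hA : 5 * p 0 + 2 * n ≤ 45 := by
    have : ((5 * p 0 + 2 * n : ℕ) : ℝ) ≤ ((45 : ℕ) : ℝ) := by push_cast; linarith
    exact_mod_cast this
  have hB : 360 ≤ 15 * n + 30 * p 0 + 10 * p 1 + 5 * p 2 + 3 * (∑ k ∈ Finset.range 16, p (k + 3)) := by
    have : ((360 : ℕ) : ℝ) ≤ ((15 * n + 30 * p 0 + 10 * p 1 + 5 * p 2 + 3 * (∑ k ∈ Finset.range 16, p (k + 3)) : ℕ) : ℝ) := by
      push_cast; linarith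
    exact_mod_cast this
  have h01 := h2 (show 0 ≤ 1 by norm_num)
  have h12 := h2 (show 1 ≤ 2 by norm_num)
  have hS : (∑ k ∈ Finset.range 16, p (k + 3)) + p 0 + p 1 + p 2 + n ≤ 19 := by
    have h := hsum (3 + 16)
    rw [Finset.sum_range_add, show (∑ x ∈ Finset.range 16, p (3 + x)) = ∑ x ∈ Finset.range 16, p (x + 3) from
      Finset.sum_congr rfl fun x _ => by rw [add_comm]] at h
    simp [Finset.sum_range_succ] at h ⊢
    omega
  refine ⟨by omega, ?_⟩
  obtain ⟨hn0, hp0⟩ : n = 0 ∧ p 0 = 9 := ⟨by omega, by omega⟩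
  rcases (show (p 1 = 8 ∧ p 2 = 2) ∨ (p 1 = 9 ∧ p 2 = 0) ∨ (p 1 = 9 ∧ p 2 = 1) by omega) with h | h | h
  all_goals
    have htail : ∀ k, p (k + 3) = 0 := by
      intro k
      have hk3 : p (k + 3) ≤ p 3 := h2 (Nat.le_add_left 3 k)
      have hk2 : p 3 ≤ p 2 := h2 (by norm_num)
      have : p 3 ≤ ∑ k ∈ Finset.range 16, p (k + 3) :=
        Finset.single_le_sum (f := fun k => p (k + 3)) (fun _ _ => Nat.zero_le _) (Finset.mem_range.2 (show 0 < 16 by norm_num))
      omega
  · refine Or.inl (funext fun k => ?_)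
    match k with
    | 0 => simpa using hp0
    | 1 => simpa using h.1
    | 2 => simpa using h.2
    | k + 3 => simpa using htail k
  · refine Or.inr (Or.inl (funext fun k => ?_))
    match k with
    | 0 => simpa using hp0
    | 1 => simpa using h.1
    | 2 => simpa using h.2
    | k + 3 => simpa using htail k
  · refine Or.inr (Or.inr (funext fun k => ?_))
    match k with
    | 0 => simpa using hp0
    | 1 => simpa using h.1
    | 2 => simpa using h.2
    | k + 3 => simpa using htail k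

end Groth.Agent.S18053
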