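import Mathlib.Tactic.Linarith
import Mathlib.Tactic.Ring
import Mathlib.Tactic.IntervalCases
import Groth.Statements.S18054
-- import your own Groth.Agent.* helpers here

set_option autoImplicit false
open STCI

namespace Groth.Agent.S18054

/-- Let s, t, d, g be integers with t ≥ s ≥ 4, d ≥ 1, g ≥ 0 and d dividing st; put n = st/d and assume n
≥ 2; put r = d[n(s - 4) + t] + (2 - 2g)n and assume r ≤ (s/3)(2s² - 6s + 7) - 1. Then d ≤ g + 3.
(The bound is written cleared of the denominator 3; s(2s² - 6s + 7) is always divisible by 3, so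
this is the same condition.) -/
theorem result (s t d g n : ℤ) (hs : 4 ≤ s) (hst : s ≤ t) (hd : 1 ≤ d) (hg : 0 ≤ g)
    (hn : s * t = d * n) (hn2 : 2 ≤ n)
    (hr : 3 * (d * (n * (s - 4) + t) + (2 - 2 * g) * n) ≤ s * (2 * s ^ 2 - 6 * s + 7) - 3) :
    d ≤ g + 3 := by
  by_contra hc
  push_neg at hc
  have hd4 : 4 ≤ d := by linarith
  have hgd : 2 * g ≤ 2 * d - 8 := by linarith
  have h1 : 3 * ((s * t) * (s - 4) + d * t + (10 - 2 * d) * n) ≤ s * (2 * s ^ 2 - 6 * s + 7) - 3 := by
    refine le_trans ?_ hr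
    rw [hn]
    nlinarith [mul_le_mul_of_nonneg_right hgd (show (0 : ℤ) ≤ n by linarith)]
  have h2 : 3 * t * (d ^ 2 + d * s ^ 2 - 6 * d * s + 10 * s) ≤ d * (s * (2 * s ^ 2 - 6 * s + 7) - 3) := by
    have := mul_le_mul_of_nonneg_left h1 (show (0 : ℤ) ≤ d by linarith)
    have e : d * (3 * ((s * t) * (s - 4) + d * t + (10 - 2 * d) * n)) =
        3 * d * ((s * t) * (s - 4)) + 3 * d ^ 2 * t + 3 * (10 - 2 * d) * (d * n) := by ring
    rw [e, ← hn] at this
    linarith
  have hs4 : 5 ≤ s ∨ s = 4 := by omega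
  rcases hs4 with hs5 | rfl
  · have key : 0 < 3 * s * d ^ 2 + d * (s ^ 3 - 12 * s ^ 2 - 7 * s + 3) + 30 * s ^ 2 := by
      rcases le_or_gt 13 s with h13 | h13
      · have : 0 ≤ s ^ 3 - 12 * s ^ 2 - 7 * s + 3 := by nlinarith
        positivity
      · interval_cases s
        · nlinarith [sq_nonneg (30 * d - 207)]
        · nlinarith [sq_nonneg (36 * d - 255)]
        · nlinarith [sq_nonneg (42 * d - 291)]
        · nlinarith [sq_nonneg (48 * d - 309)]
        · nlinarith [sq_nonneg (54 * d - 303)]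
        · nlinarith [sq_nonneg (60 * d - 267)]
        · nlinarith [sq_nonneg (66 * d - 195)]
        · nlinarith [sq_nonneg (72 * d - 81)]
    have hpos : 0 ≤ d ^ 2 + d * s ^ 2 - 6 * d * s + 10 * s := by
      rcases le_or_gt 6 s with h6 | h6
      · nlinarith [mul_nonneg (mul_nonneg (show (0 : ℤ) ≤ d by linarith) (show (0 : ℤ) ≤ s by linarith)) (show (0 : ℤ) ≤ s - 6 by linarith), sq_nonneg d]
      · obtain rfl : s = 5 := by omega
        nlinarith [sq_nonneg (2 * d - 5)]
    nlinarith [mul_le_mul_of_nonneg_right hst hpos]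
  · have ht : 5 ≤ t ∨ t = 4 := by omega
    rcases ht with ht | rfl
    · nlinarith [mul_le_mul_of_nonneg_right ht (show (0 : ℤ) ≤ d ^ 2 - 8 * d + 40 by nlinarith [sq_nonneg (d - 4)]),
        sq_nonneg (30 * d - 177)]
    · have hd8 : d ≤ 8 := by nlinarith
      interval_cases d <;> omega

end Groth.Agent.S18054
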