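import Mathlib.Tactic.Linarith
import Mathlib.Tactic.Ring
import Mathlib.Tactic.Positivity
import Mathlib.Tactic.LinearCombination
import Groth.Statements.S18055
-- import your own Groth.Agent.* helpers here

set_option autoImplicit false
open STCI

namespace Groth.Agent.S18055

/-- Let d ≥ 1, g ≥ 0 and 1 ≤ s ≤ t be integers with d dividing st, put n = st/d and r = d[n(s - 4) + t]
+ (2 - 2g)n, and assume n ≥ 2, r > 0 and (n - 1) divides r. Then s < 2d² and t < 2d⁴. This is the
statement about the degree data (d, g the degree and genus of the curve, s ≤ t the degrees of the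
two surfaces) to which the published proof reduces the degree bound: there the divisibility and
positivity express that r/(n - 1), the common value of the type numbers of the pair, is a positive
integer; the geometric hypotheses themselves are not part of this row. -/
theorem result (d g s t n : ℤ) (hd : 1 ≤ d) (hg : 0 ≤ g) (hs : 1 ≤ s) (hst : s ≤ t)
    (hn : s * t = d * n) (hn2 : 2 ≤ n)
    (hpos : 0 < d * (n * (s - 4) + t) + (2 - 2 * g) * n)
    (hdvd : (n - 1) ∣ d * (n * (s - 4) + t) + (2 - 2 * g) * n) :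
    s < 2 * d ^ 2 ∧ t < 2 * d ^ 4 := by
  obtain ⟨R, hR⟩ : ∃ R, R = d * (s - 4) + d * t + 2 - 2 * g := ⟨_, rfl⟩
  have hsum : d * (n * (s - 4) + t) + (2 - 2 * g) * n = (n - 1) * (d * (s - 4) + 2 - 2 * g) + R := by rw [hR]; ring
  have hRdvd : (n - 1) ∣ R := by
    rw [hsum] at hdvd
    exact (dvd_add_right (dvd_mul_right _ _)).1 hdvd
  have ht1 : 1 ≤ t := le_trans hs hst
  have hRpos : 0 < R := by
    by_contra hle
    push_neg at hle
    nlinarith [mul_le_mul_of_nonneg_left hle (show (0 : ℤ) ≤ n by linarith), mul_pos (show (0 : ℤ) < d by linarith) (show (0 : ℤ) < t by linarith)]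
  obtain ⟨m, hm⟩ := hRdvd
  have hm1 : 1 ≤ m := by
    by_contra h
    push_neg at h
    nlinarith
  have hRle : n - 1 ≤ R := by nlinarith
  have hbound : s * t ≤ d ^ 2 * (s + t - 4) + 3 * d := by
    rw [hn]
    nlinarith [mul_le_mul_of_nonneg_left hRle (show (0 : ℤ) ≤ d by linarith)]
  have hd2 : 1 ≤ d ^ 2 := by nlinarith
  have hs2 : s < 2 * d ^ 2 := by
    by_contra h
    push_neg at h
    nlinarith [mul_le_mul (show d ^ 2 ≤ s - d ^ 2 by linarith) (show d ^ 2 ≤ t - d ^ 2 by linarith) (by positivity) (by linarith)]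
  refine ⟨hs2, ?_⟩
  rcases le_or_gt s (d ^ 2) with hsd | hsd
  swap
  · nlinarith [mul_le_mul_of_nonneg_right (show (1 : ℤ) ≤ s - d ^ 2 by linarith) (show (0 : ℤ) ≤ t by linarith)]
  have hkey : t * (m * s - d ^ 2) = d ^ 2 * (s - 4) + (2 - 2 * g) * d + m * d := by
    have h1 : d * R = d * ((n - 1) * m) := by rw [hm]
    rw [hR] at h1
    have h2 : m * (s * t) = m * (d * n) := by rw [hn]
    linear_combination -h1 + h2
  have hg2 : (2 * g - 2) * (s * t) < d * (s * t) * (s - 4) + d ^ 2 * t := by
    rw [hn]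
    nlinarith [mul_lt_mul_of_pos_left hpos (show (0 : ℤ) < d by linarith)]
  rcases lt_trichotomy (m * s) (d ^ 2) with hlt | heq | hgt
  · have h3 : t * t * s ≤ t * (t * s * (d ^ 2 - m * s)) := by
      nlinarith [mul_le_mul_of_nonneg_left (show (1 : ℤ) ≤ d ^ 2 - m * s by linarith) (show (0 : ℤ) ≤ t * t * s by positivity)]
    have h4 : t * t * s < t * d ^ 3 := by
      have e : d * ((2 * g - 2) * (s * t)) = (t * (d ^ 2 - m * s) + d ^ 2 * (s - 4) + m * d) * (s * t) := by
        linear_combination (s * t) * hkey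
      have hp : 0 ≤ m * d * (s * t) := by positivity
      linarith [mul_lt_mul_of_pos_left hg2 (show (0 : ℤ) < d by linarith)]
    have h5 : t * s < d ^ 3 := by nlinarith
    nlinarith [mul_le_mul_of_nonneg_left hs (show (0 : ℤ) ≤ t by linarith), pow_le_pow_right₀ hd (show 3 ≤ 4 by norm_num)]
  · exfalso
    have h0 : d ^ 2 * (s - 4) + (2 - 2 * g) * d + m * d = 0 := by rw [← hkey, heq]; ring
    have h1 : 2 * g - 2 = d * (s - 4) + m := by
      have : d * (2 * g - 2) = d * (d * (s - 4) + m) := by linear_combination -h0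
      exact Int.eq_of_mul_eq_mul_left (by omega) this
    rw [h1] at hg2
    nlinarith
  · rcases le_or_gt (2 * d ^ 2) (m * s) with h2 | h2
    · have h3 : t * (m * s) ≤ 2 * (d ^ 2 * s + 2 * d + m * d) := by nlinarith
      have h4 : t * m * s ≤ m * s * (2 * d ^ 2 + 4 * d + 2 * d) := by
        linarith [mul_le_mul_of_nonneg_right hm1 (show (0 : ℤ) ≤ s * d ^ 2 by positivity),
          mul_le_mul_of_nonneg_right (show (1 : ℤ) ≤ m * s by nlinarith) (show (0 : ℤ) ≤ 4 * d by linarith),
          mul_le_mul_of_nonneg_left hs (show (0 : ℤ) ≤ m * d by positivity)]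
      have h5 : t ≤ 2 * d ^ 2 + 6 * d := by nlinarith [mul_pos (show (0 : ℤ) < m by linarith) (show (0 : ℤ) < s by linarith)]
      rcases le_or_gt d 1 with hd1 | hd1
      · obtain rfl : d = 1 := by omega
        obtain rfl : s = 1 := by nlinarith
        nlinarith
      · rcases le_or_gt d 2 with hd2' | hd2'
        · obtain rfl : d = 2 := by omega
          nlinarith
        · nlinarith [mul_le_mul_of_nonneg_right (show (9 : ℤ) ≤ d ^ 2 by nlinarith) (show (0 : ℤ) ≤ d ^ 2 by positivity), mul_le_mul_of_nonneg_right (show (3 : ℤ) ≤ d by linarith) (show (0 : ℤ) ≤ d by linarith)]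
    · have h6 : t ≤ t * (m * s - d ^ 2) := le_mul_of_one_le_right (by linarith) (by linarith)
      have h7 : m < 2 * d ^ 2 := by nlinarith
      rcases le_or_gt d 1 with hd1 | hd1
      · obtain rfl : d = 1 := by omega
        nlinarith
      · nlinarith [mul_le_mul_of_nonneg_left hsd (show (0 : ℤ) ≤ d ^ 2 by positivity), sq_nonneg (d ^ 2 - d)]

end Groth.Agent.S18055
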