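import Groth.Agent.Lib.ArtSmooth26.Basic
import Mathlib.RingTheory.LocalRing.Length
import Groth.Statements.S18056
-- import your own Groth.Agent.* helpers here

set_option autoImplicit false
universe u v
open STCI

namespace Groth.Agent.S18056

/-- Let A → B be a homomorphism of Artinian local rings that is flat and formally smooth, where A has a
subring that is a field. Then A and B have the same length, each as a module over itself. -/
theorem result (A : Type u) (B : Type v) [CommRing A] [CommRing B]
    [IsLocalRing A] [IsLocalRing B] [IsArtinianRing A] [IsArtinianRing B] [Algebra A B]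
    [Module.Flat A B] [Algebra.FormallySmooth A B] (hK : ∃ K : Subring A, IsField K) :
    Module.length A A = Module.length B B := by
  open IsLocalRing TensorProduct in
  set m := IsLocalRing.maximalIdeal A with hm
  set N := m.map (algebraMap A B) with hN
  haveI : IsLocalHom (algebraMap A B) := ⟨fun a ha => by
    by_contra h
    obtain ⟨n, hn⟩ : IsNilpotent m := by
      rw [hm]
      exact IsLocalRing.maximalIdeal_le_jacobson (⊥ : Ideal A) |>.antisymm
        (IsLocalRing.jacobson_eq_maximalIdeal ⊥ bot_ne_top).le ▸ IsArtinianRing.isNilpotent_jacobson_bot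
    have h1 := Ideal.pow_mem_pow (show a ∈ m from h) n
    rw [hn, Ideal.zero_eq_bot, Ideal.mem_bot] at h1
    exact not_isUnit_zero (M₀ := B) (by rw [← map_zero (algebraMap A B), ← h1, map_pow]; exact ha.pow n)⟩
  letI : Field (A ⧸ m) := Ideal.Quotient.field m
  have hNle : N ≤ IsLocalRing.maximalIdeal B := Ideal.map_le_iff_le_comap.2 fun a ha hu => ha (isUnit_of_map_unit (algebraMap A B) a hu)
  haveI : Nontrivial (B ⧸ N) := Ideal.Quotient.nontrivial_iff.2
    (ne_top_of_le_ne_top (IsLocalRing.maximalIdeal.isMaximal B).ne_top hNle)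
  haveI : IsLocalRing (B ⧸ N) := IsLocalRing.of_surjective' _ Ideal.Quotient.mk_surjective
  haveI : Algebra.FormallySmooth (A ⧸ m) (B ⧸ N) := by
    haveI : Algebra.FormallySmooth (A ⧸ m) (TensorProduct A (A ⧸ m) B) := inferInstance
    exact Algebra.FormallySmooth.of_equiv
      { ((Algebra.TensorProduct.comm A (A ⧸ m) B).trans
          ((Algebra.TensorProduct.quotIdealMapEquivTensorQuot B m).symm.restrictScalars A)).toRingEquiv with
        commutes' := fun a => by
          obtain ⟨a, rfl⟩ := Ideal.Quotient.mk_surjective a
          have e := AlgEquiv.commutes ((Algebra.TensorProduct.comm A (A ⧸ m) B).trans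
            ((Algebra.TensorProduct.quotIdealMapEquivTensorQuot B m).symm.restrictScalars A)) a
          exact e }
  -- pass to a common universe
  let k' := ULift.{v} (A ⧸ m)
  let B' := ULift.{u} (B ⧸ N)
  letI : Field k' := (ULift.ringEquiv.toMulEquiv.isField (Field.toIsField (A ⧸ m))).toField
  letI : Algebra k' B' := ((ULift.ringEquiv.symm.toRingHom.comp (algebraMap (A ⧸ m) (B ⧸ N))).comp
    ULift.ringEquiv.toRingHom).toAlgebra
  haveI : IsLocalRing B' := ULift.ringEquiv.symm.isLocalRing
  haveI : IsArtinianRing B' := ULift.ringEquiv.symm.surjective.isArtinianRing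
  haveI := IsScalarTower.of_algebraMap_eq (R := A ⧸ m) (S := k') (A := B') fun _ => rfl
  haveI : Algebra.FormallySmooth (A ⧸ m) B' := Algebra.FormallySmooth.of_equiv (ULift.algEquiv (R := A ⧸ m)).symm
  haveI : Algebra.FormallyUnramified (A ⧸ m) k' := Algebra.FormallyUnramified.of_surjective
    (Algebra.ofId (A ⧸ m) k') fun x => ⟨x.down, rfl⟩
  haveI : Algebra.FormallySmooth k' B' := Algebra.FormallySmooth.of_restrictScalars (A ⧸ m) k' B'
  have hF : IsField (B ⧸ N) := ULift.ringEquiv.symm.toMulEquiv.isField
    (GrothLib.ArtSmooth.isField_of_formallySmooth_field k' B')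
  haveI hmax : N.IsMaximal := Ideal.Quotient.maximal_of_isField N hF
  have h1 : Module.length B (B ⧸ N) = 1 := by
    rw [Module.length_eq_one_iff, isSimpleModule_iff_isCoatom]
    exact Ideal.isMaximal_def.1 hmax
  have h2 := IsLocalRing.length_baseChange A B A
  rw [← hm, ← hN, h1, mul_one, (TensorProduct.AlgebraTensorModule.rid A B B).length_eq] at h2
  exact h2.symm

end Groth.Agent.S18056
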