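import Groth.Statements.S18057
import Groth.Agent.S18056
import Groth.Agent.S1486
import Groth.Agent.Lib.RatFun.Noetherian
import Mathlib.AlgebraicGeometry.Morphisms.Smooth
import Mathlib.AlgebraicGeometry.Morphisms.UniversallyOpen

set_option autoImplicit false
universe u
open STCI

namespace Groth.Agent.S18057

open AlgebraicGeometry CategoryTheory in
/-- For a morphism f : X' → X between irreducible Noetherian schemes that is flat and formally smooth,
with X defined over a field (rendered: the ring of global sections of X contains a subring that is a
field, which for nonempty X is the same as giving a morphism from X to the spectrum of a field), the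
local rings of X' and X at their generic points η', η (Artinian local rings) satisfy length
O_{X',η'} = length O_{X,η}. Formal smoothness is the infinitesimal lifting property against
square-zero thickenings of affine schemes. -/
theorem result {X' X : Scheme.{u}} (f : X' ⟶ X)
    [IrreducibleSpace ↥X'] [IrreducibleSpace ↥X] [IsNoetherian X'] [IsNoetherian X] [Flat f]
    (hf : MoreMor.IsFormallySmoothHom f) (hK : ∃ K : Subring Γ(X, ⊤), IsField K) :
    Module.length (X'.presheaf.stalk (genericPoint X')) (X'.presheaf.stalk (genericPoint X'))
      = Module.length (X.presheaf.stalk (genericPoint X)) (X.presheaf.stalk (genericPoint X)) := by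
  open AlgebraicGeometry CategoryTheory in
  have hη : f (genericPoint X') = genericPoint X := by
    obtain ⟨y, hy, hfy⟩ := (Flat.generalizingMap f) (genericPoint_specializes (f (genericPoint X')))
    rw [← (hy.antisymm (genericPoint_specializes y)).eq]
    exact hfy
  open AlgebraicGeometry CategoryTheory in
  have key : ∀ (y : X), f (genericPoint X') = y → IsArtinianRing (X.presheaf.stalk y) →
      Module.length (X'.presheaf.stalk (genericPoint X')) (X'.presheaf.stalk (genericPoint X'))
        = Module.length (X.presheaf.stalk y) (X.presheaf.stalk y) := by
    rintro y rfl hA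
    haveI := hA
    haveI : IsArtinianRing (X'.presheaf.stalk (genericPoint X')) :=
      GrothLib.RatFun.exists_iso_stalk_genericPoint.2 inferInstance
    letI : Algebra (X.presheaf.stalk (f (genericPoint X'))) (X'.presheaf.stalk (genericPoint X')) :=
      (f.stalkMap (genericPoint X')).hom.toAlgebra
    haveI : Module.Flat (X.presheaf.stalk (f (genericPoint X'))) (X'.presheaf.stalk (genericPoint X')) :=
      Flat.stalkMap f (genericPoint X')
    haveI : Algebra.FormallySmooth (X.presheaf.stalk (f (genericPoint X'))) (X'.presheaf.stalk (genericPoint X')) := by
      have hs : (f.stalkMap (genericPoint X')).hom.FormallySmooth := by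
        obtain ⟨_, ⟨U, hU, rfl⟩, hxU, -⟩ :=
          X.isBasis_affineOpens.exists_subset_of_mem_open (Set.mem_univ (f (genericPoint X'))) isOpen_univ
        obtain ⟨_, ⟨V, hV, rfl⟩, hxV, hVU⟩ :=
          X'.isBasis_affineOpens.exists_subset_of_mem_open hxU (U.2.preimage f.continuous)
        rw [formallySmooth_stalkMap_iff U hU V hV hVU hxV]
        letI := (f.appLE U V hVU).hom.toAlgebra
        haveI : Algebra.FormallySmooth Γ(X, U) Γ(X', V) := (Groth.Agent.S1486.result f).1 hf V U hV hU hVU
        haveI : Algebra.FormallySmooth Γ(X', V)
            (Localization.AtPrime (hV.primeIdealOf ⟨genericPoint X', hxV⟩).asIdeal) :=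
          Algebra.FormallySmooth.of_isLocalization (hV.primeIdealOf ⟨genericPoint X', hxV⟩).asIdeal.primeCompl
        exact Algebra.FormallySmooth.comp Γ(X, U) Γ(X', V) _
      exact hs
    refine (Groth.Agent.S18056.result _ _ ?_).symm
    obtain ⟨K, hK⟩ := hK
    letI := hK.toField
    exact ⟨((X.presheaf.germ ⊤ (f (genericPoint X')) trivial).hom.comp K.subtype).range,
      MulEquiv.isField hK ((RingEquiv.ofBijective ((X.presheaf.germ ⊤ (f (genericPoint X')) trivial).hom.comp K.subtype).rangeRestrict
        ⟨RingHom.injective _, RingHom.rangeRestrict_surjective _⟩).symm.toMulEquiv)⟩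
  exact key _ hη (GrothLib.RatFun.exists_iso_stalk_genericPoint.2 inferInstance)

end Groth.Agent.S18057
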