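import Groth.Statements.S18063

-- import your own Groth.Agent.* helpers here

set_option autoImplicit false
universe u
open CategoryTheory MonoidalCategory CartesianMonoidalCategory MonObj GrpObj AlgebraicGeometry CategoryTheory.Limits
open AlgGrp

namespace Groth.Agent.S18063

/-- A is a discrete valuation ring, K denotes its field of fractions and k its residue field, and G is
an A-group scheme that is flat, separated and of finite presentation. If the generic fibre G_K is
commutative, then the special fibre G_k is commutative. (The published statement does not require G
separated over A, and its proof argues by density of the generic fibre; without separatedness the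
conclusion fails: gluing copies of Spec A indexed by a finite non-abelian group along their common
generic point gives a flat group scheme of finite presentation over A whose generic fibre is the
trivial group and whose special fibre is that non-abelian constant group. So G is taken separated
here.) -/
theorem result (A : Type u) [CommRing A] [IsDomain A] [IsDiscreteValuationRing A]
    (K : Type u) [Field K] [Algebra A K] [IsFractionRing A K]
    (G : Over (Spec (CommRingCat.of A))) [GrpObj G] [Flat G.hom] [LocallyOfFinitePresentation G.hom] [QuasiCompact G.hom]
    [IsSeparated G.hom] [IsCommMonObj (Red.bc (Spec.map (CommRingCat.ofHom (algebraMap A K))) G)] :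
    IsCommMonObj (Red.bc (Spec.map (CommRingCat.ofHom (algebraMap A (IsLocalRing.ResidueField A)))) G) := by
  let g := Spec.map (CommRingCat.ofHom (algebraMap A K))
  haveI : IsDominant g := ⟨by
    refine (PrimeSpectrum.denseRange_comap_iff_ker_le_nilRadical _).mpr ?_
    exact ((RingHom.injective_iff_ker_eq_bot (algebraMap A K)).mp
      (IsFractionRing.injective A K)).le.trans bot_le⟩
  haveI : IsSchemeTheoreticallyDominant g := IsSchemeTheoreticallyDominant.of_isDominant g
  have hflat : Flat (G ⊗ G).hom := by
    rw [show (G ⊗ G).hom = Limits.pullback.fst G.hom G.hom ≫ G.hom from rfl]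
    infer_instance
  have hinj : ∀ u v : G ⊗ G ⟶ G, (Over.pullback g).map u = (Over.pullback g).map v → u = v := by
    intro u v h
    haveI := hflat
    haveI : IsSchemeTheoreticallyDominant (Limits.pullback.fst (G ⊗ G).hom g) := inferInstance
    haveI : QuasiCompact (Limits.pullback.fst (G ⊗ G).hom g) := inferInstance
    have h' : Limits.pullback.fst (G ⊗ G).hom g ≫ u.left = Limits.pullback.fst (G ⊗ G).hom g ≫ v.left := by
      have hl := congrArg (fun w => w.left ≫ Limits.pullback.fst G.hom g) h
      exact ((Limits.pullback.lift_fst _ _ _).symm.trans hl).trans (Limits.pullback.lift_fst _ _ _)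
    haveI : G.left.IsSeparated := ⟨by
      rw [show Limits.terminal.from G.left = G.hom ≫ Limits.terminal.from _ from Subsingleton.elim _ _]
      infer_instance⟩
    haveI : IsIso (Limits.equalizer.ι u.left v.left) := by
      refine IsClosedImmersion.isIso_iff_ker_eq_bot.mpr (le_bot_iff.mp ?_)
      have hk : (Limits.pullback.fst (G ⊗ G).hom g).ker = ⊥ :=
        IsSchemeTheoreticallyDominant.ker_eq_bot _
      rw [← hk, ← Limits.equalizer.lift_ι (Limits.pullback.fst (G ⊗ G).hom g) h']
      exact Scheme.Hom.le_ker_comp _ _
    exact Over.OverMorphism.ext
      ((cancel_epi (Limits.equalizer.ι u.left v.left)).mp (Limits.equalizer.condition _ _))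
  have hGK : (β_ ((Over.pullback g).obj G) ((Over.pullback g).obj G)).hom ≫ μ[(Over.pullback g).obj G] =
      μ[(Over.pullback g).obj G] := IsCommMonObj.mul_comm (Red.bc g G)
  haveI : IsCommMonObj G := ⟨by
    apply hinj
    rw [← cancel_epi (Functor.LaxMonoidal.μ (Over.pullback g) G G)]
    letI : (Over.pullback g).Braided := .ofChosenFiniteProducts _
    rw [Functor.map_comp, Functor.LaxBraided.braided_assoc]
    exact hGK⟩
  exact inferInstanceAs (IsCommMonObj ((Over.pullback _).obj G))

end Groth.Agent.S18063
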