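import Groth.Statements.S18070
import Groth.Agent.Lib.AntiAffine.Prod
import Groth.Agent.Lib.GrpdQuot.FlatQuot
import Mathlib.AlgebraicGeometry.Sites.Fpqc
-- import your own Groth.Agent.* helpers here

set_option autoImplicit false
universe u
open CategoryTheory MonoidalCategory CartesianMonoidalCategory MonObj GrpObj AlgebraicGeometry CategoryTheory.Limits
open AlgGrp

namespace Groth.Agent.S18070

/-- Let k be a field and 1 → G₁ → G → G₂ → 1 an exact sequence of k-group schemes of finite type with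
G₁, G₂ connected (i : G₁ → G a homomorphism and closed immersion which is the kernel of the flat
surjective homomorphism q : G → G₂). Anti-affineness passes from G to the quotient G₂; in the other
direction, G is anti-affine whenever G₁ and G₂ both are. -/
theorem result (k : Type u) [Field k]
    (G₁ G G₂ : Over (Spec (CommRingCat.of k))) [GrpObj G₁] [LocallyOfFiniteType G₁.hom] [QuasiCompact G₁.hom] [ConnectedSpace ↥G₁.left]
    [GrpObj G] [LocallyOfFiniteType G.hom] [QuasiCompact G.hom]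
    [GrpObj G₂] [LocallyOfFiniteType G₂.hom] [QuasiCompact G₂.hom] [ConnectedSpace ↥G₂.left]
    (i : G₁ ⟶ G) [IsMonHom i] [IsClosedImmersion i.left] (q : G ⟶ G₂) [IsMonHom q] [Surjective q.left] [Flat q.left]
    (hex : AlgGrp.IsKernel i q) :
    (Function.Bijective ((Scheme.ΓSpecIso (CommRingCat.of k)).inv ≫ G.hom.appTop).hom → Function.Bijective ((Scheme.ΓSpecIso (CommRingCat.of k)).inv ≫ G₂.hom.appTop).hom) ∧
    (Function.Bijective ((Scheme.ΓSpecIso (CommRingCat.of k)).inv ≫ G₁.hom.appTop).hom → Function.Bijective ((Scheme.ΓSpecIso (CommRingCat.of k)).inv ≫ G₂.hom.appTop).hom → Function.Bijective ((Scheme.ΓSpecIso (CommRingCat.of k)).inv ≫ G.hom.appTop).hom) := by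
  have : IsSeparated G₁.hom := GrothLib.GrpSchField.isSeparated G₁
  have : IsSeparated G₂.hom := GrothLib.GrpSchField.isSeparated G₂
  have : QuasiCompact q.left := by
    have : QuasiCompact (q.left ≫ G₂.hom) := by rw [Over.w q]; infer_instance
    exact QuasiCompact.of_comp q.left G₂.hom
  refine ⟨fun h => GrothLib.AntiAffine.IsAntiAffine.of_injective h q
    (GrothLib.GrpdQuot.appTop_injective q.left), fun h₁ h₂ => ?_⟩
  have : Nonempty G.left := ⟨η[G].left (IsLocalRing.closedPoint k)⟩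
  have key := GrothLib.AntiAffine.eq_slice_affine (Y := G) h₁ η[G₁]
    ((((fst G₁ G ≫ i) * snd G₁ G : G₁ ⊗ G ⟶ G)).left ≫ G.left.toSpecΓ)
  have hslice : GrothLib.AntiAffine.slice η[G₁] G ≫ ((fst G₁ G ≫ i) * snd G₁ G) = 𝟙 G := by
    rw [MonObj.comp_mul, lift_fst_assoc, lift_snd, Category.assoc, IsMonHom.one_hom, ← Hom.one_def,
      _root_.one_mul]
  have hinv : ∀ {T : Over (Spec (CommRingCat.of k))} (g₁ g₂ : T ⟶ G), g₁ ≫ q = g₂ ≫ q →
      g₁.left ≫ G.left.toSpecΓ = g₂.left ≫ G.left.toSpecΓ := by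
    intro T g₁ g₂ e
    have hd : (g₁ * g₂⁻¹) ≫ q = toUnit T ≫ η[G₂] := by
      rw [MonObj.mul_comp, GrpObj.inv_comp, e, mul_inv_cancel, Hom.one_def]
    let n : T ⟶ G₁ := hex.lift (g₁ * g₂⁻¹) (toUnit T) hd
    have hn : n ≫ i = g₁ * g₂⁻¹ := hex.lift_fst _ _ _
    have h1 := congrArg ((lift n g₂).left ≫ ·) key
    simp only [← Category.assoc, ← Over.comp_left] at h1
    rw [Category.assoc (lift n g₂ ≫ snd G₁ G), hslice, MonObj.comp_mul, lift_fst_assoc, hn, lift_snd,
      inv_mul_cancel_right, Category.comp_id] at h1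
    exact h1
  have hdesc : ∀ {Z : Scheme.{u}} (g₁ g₂ : Z ⟶ G.left), g₁ ≫ q.left = g₂ ≫ q.left →
      g₁ ≫ G.left.toSpecΓ = g₂ ≫ G.left.toSpecΓ := by
    intro Z g₁ g₂ e
    have e' : g₂ ≫ G.hom = g₁ ≫ G.hom := by
      rw [← Over.w q, ← Category.assoc, ← Category.assoc, e]
    exact hinv (T := Over.mk (g₁ ≫ G.hom)) (Over.homMk g₁ rfl) (Over.homMk g₂ e') (Over.OverMorphism.ext e)
  exact GrothLib.AntiAffine.IsAntiAffine.of_surjective h₂ q
    (GrothLib.AntiAffine.appTop_surjective_of_toSpecΓ _ (EffectiveEpi.desc q.left _ hdesc) (EffectiveEpi.fac _ _ _))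


end Groth.Agent.S18070
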