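import Groth.Statements.S18072
import Groth.Agent.Lib.IsogProps19.Main
-- import your own Groth.Agent.* helpers here

set_option autoImplicit false
universe u
open CategoryTheory MonoidalCategory CartesianMonoidalCategory MonObj GrpObj AlgebraicGeometry CategoryTheory.Limits
open AlgGrp

namespace Groth.Agent.S18072

/-- Let F be a field and f : G → H an isogeny between affine smooth connected F-groups (a surjective
homomorphism with finite kernel, i.e. surjective and finite). Then each of the properties unipotent,
solvable, nilpotent and commutative holds for G exactly when it holds for H; here unipotence is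
expressed as: the base change to an algebraic closure contains no non-trivial subtorus, solvable and
nilpotent through the derived and upper central series of the groups of points. -/
theorem result (F : Type u) [Field F]
    (G H : Over (Spec (CommRingCat.of F))) [GrpObj G] [Smooth G.hom] [QuasiCompact G.hom] [IsAffine G.left] [ConnectedSpace ↥G.left]
    [GrpObj H] [Smooth H.hom] [QuasiCompact H.hom] [IsAffine H.left] [ConnectedSpace ↥H.left]
    (f : G ⟶ H) [IsMonHom f] [Surjective f.left] [IsFinite f.left] :
    (Red.HasNoSubtorus (AlgebraicClosure F) (Red.bc (Spec.map (CommRingCat.ofHom (algebraMap F (AlgebraicClosure F)))) G) ↔ Red.HasNoSubtorus (AlgebraicClosure F) (Red.bc (Spec.map (CommRingCat.ofHom (algebraMap F (AlgebraicClosure F)))) H)) ∧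
    (Red.IsSolvableGrp G ↔ Red.IsSolvableGrp H) ∧ (AGF.IsNilpotentGrp G ↔ AGF.IsNilpotentGrp H) ∧
    (IsCommMonObj G ↔ IsCommMonObj H) := GrothLib.IsogProps19.isogeny_props F G H f

end Groth.Agent.S18072
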