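import Groth.Statements.S18078
-- import your own Groth.Agent.* helpers here
import Groth.Agent.Lib.Chev24.UnipDim

set_option autoImplicit false
universe u
open CategoryTheory MonoidalCategory CartesianMonoidalCategory MonObj GrpObj AlgebraicGeometry CategoryTheory.Limits
open AlgGrp

namespace Groth.Agent.S18078

/-- Let k be an algebraically closed field, F an algebraically closed field extension of k, G an
algebraic k-group (a k-group scheme of finite type) and d a natural number. Then G_F contains a
smooth connected unipotent closed subgroup of dimension at least d (unipotent: no non-trivial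
subtorus) if and only if G does; that is, D_u(k, G) = D_u(F, G). -/
theorem result (k : Type u) [Field k] [IsAlgClosed k]
    (F : Type u) [Field F] [IsAlgClosed F] [Algebra k F]
    (G : Over (Spec (CommRingCat.of k))) [GrpObj G] [LocallyOfFiniteType G.hom] [QuasiCompact G.hom] (d : ℕ) :
    (∃ (U : Over (Spec (CommRingCat.of F))) (_ : GrpObj U) (i : U ⟶ Red.bc (Spec.map (CommRingCat.ofHom (algebraMap k F))) G), IsMonHom i ∧ IsClosedImmersion i.left ∧
        Smooth U.hom ∧ IsAffine U.left ∧ ConnectedSpace ↥U.left ∧ Red.HasNoSubtorus F U ∧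
        (d : WithBot ℕ∞) ≤ topologicalKrullDim ↥U.left) ↔
    (∃ (U : Over (Spec (CommRingCat.of k))) (_ : GrpObj U) (i : U ⟶ G), IsMonHom i ∧ IsClosedImmersion i.left ∧
        Smooth U.hom ∧ IsAffine U.left ∧ ConnectedSpace ↥U.left ∧ Red.HasNoSubtorus k U ∧
        (d : WithBot ℕ∞) ≤ topologicalKrullDim ↥U.left) := by
  constructor
  · rintro ⟨U, _, u, hu, huc, hUs, hUa, hUc, hUn, hd⟩
    haveI := hu; haveI := huc; haveI := hUs; haveI := hUa; haveI := hUc
    obtain ⟨V, hV, v, h1, h2, h3, h4, h5, h6, h7⟩ := GrothLib.Chev24.exists_unip_sub_dim u hUn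
    exact ⟨V, hV, v, h1, h2, h3, h4, h5, h6, hd.trans h7⟩
  · rintro ⟨U, _, u, hu, huc, hUs, hUa, hUc, hUn, hd⟩
    haveI := hu; haveI := huc; haveI := hUs; haveI := hUa; haveI := hUc
    obtain ⟨V, hV, v, h1, h2, h3, h4, h5, h6, h7⟩ := GrothLib.Chev24.exists_unip_sub_bc (F := F) u hUn
    exact ⟨V, hV, v, h1, h2, h3, h4, h5, h6, h7 ▸ hd⟩

end Groth.Agent.S18078
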