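import Groth.Statements.S1808
import Groth.Agent.Lib.RightAdj22.TopRepApps
import Groth.Agent.S0403
import Groth.Agent.Lib.DualRing.Local
import Groth.Agent.Lib.DualRing.Shift
import Groth.Agent.Lib.OX.AffineLocal

set_option autoImplicit false
universe u
open CategoryTheory CategoryTheory.Limits AlgebraicGeometry
attribute [local instance] HasDerivedCategory.standard
open Dual

namespace Groth.Agent.S1808

/-- Let A be a Noetherian local ring with normalized dualizing complex ω_A^• and ω_A = H^{−dim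
A}(ω_A^•); let X be proper over Spec A with Rf_* on D_QCoh assumed to exist and to preserve
quasi-coherence of cohomology, a a right adjoint of it, and W an object of D_QCoh(Spec A) isomorphic
to the derived tilde of ω_A^• (tilde assumed left exact). Put ω_X = H^{−dim X}(a(W)). Let d be the
dimension of the closed fibre and suppose dim X = d + dim A. Then there is an A-linear map t :
H^d(X, ω_X) → ω_A such that for every coherent O_X-module F and every A-linear ψ : H^d(X, F) → ω_A
there is exactly one φ : F → ω_X with ψ = t ∘ H^d(φ); that is, ω_X represents F ↦ Hom_A(H^d(X, F),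
ω_A). -/
theorem result (A : Type u) [CommRing A] [IsLocalRing A] [IsNoetherianRing A] (ω : Dual.D A) (hω : Dual.IsDualizing A ω) (hn : Dual.IsNormalized A ω) (dA : ℕ) (hdA : ringKrullDim A = dA) (X : Scheme.{u}) [X.Over (Spec (CommRingCat.of A))] [IsProper (X ↘ Spec (CommRingCat.of A))] [DCoh.HasRpush (X ↘ Spec (CommRingCat.of A))] (h : ∀ K : DCoh.D X, DCoh.IsQCohD K → DCoh.IsQCohD ((DCoh.Rpush (X ↘ Spec (CommRingCat.of A))).obj K)) (a : DCoh.DQCoh (Spec (CommRingCat.of A)) ⥤ DCoh.DQCoh X) (adj : (ObjectProperty.lift DCoh.IsQCohD (ObjectProperty.ι DCoh.IsQCohD ⋙ DCoh.Rpush (X ↘ Spec (CommRingCat.of A))) (fun K => h K.obj K.property)) ⊣ a) [PreservesFiniteLimits (tilde.functor (CommRingCat.of A))] (W : DCoh.DQCoh (Spec (CommRingCat.of A))) (hW : Nonempty (W.obj ≅ (DCoh.tildeD (CommRingCat.of A)).obj ω)) (dX d : ℕ) (hdX : topologicalKrullDim X = dX) (hd : topologicalKrullDim ((X ↘ Spec (CommRingCat.of A)).fiber (IsLocalRing.closedPoint A)) = d) (hdim : dX = d + dA) : ∃ t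 : Coh.HH X (DCoh.HD (a.obj W).obj (-(dX : ℤ))) d →ₗ[A] Dual.HD A ω (-(dA : ℤ)), ∀ (F : X.Modules), Coh.IsCoh F → ∀ ψ : Coh.HH X F d →ₗ[A] Dual.HD A ω (-(dA : ℤ)), ∃! φ : F ⟶ DCoh.HD (a.obj W).obj (-(dX : ℤ)), ∀ x : Coh.HH X F d, ψ x = t (Sheaf.H.map ((SheafOfModules.toSheaf X.ringCatSheaf).map φ) d x) := by
  let f := X ↘ Spec (CommRingCat.of A)
  let S : Scheme.{u} := Spec (CommRingCat.of A)
  have hA : Module.supportDim A A = (dA : WithBot ℕ∞) := (Module.supportDim_self_eq_ringKrullDim A).trans hdA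
  obtain ⟨eW⟩ := hW
  let hH := fun i => (DCoh.HD W.obj i)
  let cmp : ∀ i, DCoh.HD W.obj i ≅ (tilde.functor (CommRingCat.of A)).obj
      ((DerivedCategory.homologyFunctor (ModuleCat.{u} A) i).obj ω) := fun i =>
    (DerivedCategory.homologyFunctor S.Modules i).mapIso eW ≪≫ GrothLib.OX.HDTildeIso (R := CommRingCat.of A) ω i
  haveI : W.obj.IsGE (-(dA : ℤ)) := (DerivedCategory.isGE_iff _ _).2 fun i hi => by
    haveI := GrothLib.DualRing.subsingleton_EH_lt hω hn A dA hA hi
    haveI : Subsingleton (Dual.HD A ω i) := (GrothLib.DualRing.exists_hom_ring_equiv ω i).some.toEquiv.symm.subsingleton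
    exact ((tilde.functor (CommRingCat.of A)).map_isZero (ModuleCat.isZero_of_subsingleton _)).of_iso (cmp i)
  have hopen := Groth.Agent.S0403.result f d
  have hall : ∀ s : S, topologicalKrullDim ↥(f.fiber s) ≤ d := fun s =>
    (IsLocalRing.specializes_closedPoint (s : PrimeSpectrum A)).mem_open hopen hd.le
  obtain ⟨t, ht⟩ := GrothLib.RightAdj22.exists_topPair (A := A) f h adj W (-(dA : ℤ)) d
    (fun M hM q hq => GrothLib.RightAdj22.isZero_Rpush_of_fibreDim f d hall M hM q hq)
    ((DerivedCategory.homologyFunctor (ModuleCat.{u} A) (-(dA : ℤ))).obj ω)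
    ((moduleSpecΓFunctor (R := CommRingCat.of A)).mapIso (cmp _) ≪≫ (tilde.toTildeΓNatIso.app _).symm)
  rw [show -(dX : ℤ) = -(dA : ℤ) - (d : ℕ) by omega]
  exact ⟨t, fun F hF ψ => ht F hF.1 ψ⟩

end Groth.Agent.S1808
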