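import Groth.Statements.S18085
import Groth.Agent.S14600
import Groth.Agent.Lib.AlbTors16.Main
import Groth.Agent.Lib.Rigidity.SemiAbelian
import Groth.Agent.Lib.UnipFix19.Reductive
import Groth.Agent.Lib.SubPre14.Basic
import Groth.Agent.Lib.AntiAffSmooth14.Reduced
import Groth.Agent.Lib.GrpSchField.Criteria

set_option autoImplicit false
universe u
open CategoryTheory MonoidalCategory CartesianMonoidalCategory MonObj GrpObj AlgebraicGeometry CategoryTheory.Limits
open AlgGrp

namespace Groth.Agent.S18085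

/-- Let k be a field and G a connected k-group scheme of finite type, with G_aff = N (the smallest
normal connected affine closed subgroup scheme with abelian variety quotient), G_ant = M (the
largest anti-affine closed subgroup scheme) and (G_ant)_aff = M' (the smallest connected affine
closed subgroup scheme of M with abelian variety quotient M/M' = B). Then M' is smooth and contained
in N, and (N ∩ M)/M' is finite: the image of N ∩ M in B is a finite set of points. -/
theorem result (k : Type u) [Field k]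
    (G : Over (Spec (CommRingCat.of k))) [GrpObj G] [LocallyOfFiniteType G.hom] [QuasiCompact G.hom] [ConnectedSpace ↥G.left]
    (N : Over (Spec (CommRingCat.of k))) [GrpObj N] (i : N ⟶ G) [IsMonHom i] [IsClosedImmersion i.left]
    [IsAffine N.left] [ConnectedSpace ↥N.left] (hN : AlgGrp.IsNormalHom i)
    (A : Over (Spec (CommRingCat.of k))) [GrpObj A] (q : G ⟶ A) [IsMonHom q] [Surjective q.left] [Flat q.left]
    [IsProper A.hom] [Smooth A.hom] [ConnectedSpace ↥A.left] (hq : AlgGrp.IsKernel i q)
    (hNmin : ∀ (N₁ : Over (Spec (CommRingCat.of k))) [GrpObj N₁] (i₁ : N₁ ⟶ G) [IsMonHom i₁] [IsClosedImmersion i₁.left]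
    [IsAffine N₁.left] [ConnectedSpace ↥N₁.left] (A₁ : Over (Spec (CommRingCat.of k))) [GrpObj A₁] (q₁ : G ⟶ A₁) [IsMonHom q₁]
      [Surjective q₁.left] [Flat q₁.left] [IsProper A₁.hom] [Smooth A₁.hom] [ConnectedSpace ↥A₁.left],
      AlgGrp.IsNormalHom i₁ → AlgGrp.IsKernel i₁ q₁ → ∃ g : N ⟶ N₁, g ≫ i₁ = i)
    (M : Over (Spec (CommRingCat.of k))) [GrpObj M] [LocallyOfFiniteType M.hom] [QuasiCompact M.hom] (j : M ⟶ G) [IsMonHom j] [IsClosedImmersion j.left]
    (hM : Function.Bijective ((Scheme.ΓSpecIso (CommRingCat.of k)).inv ≫ M.hom.appTop).hom)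
    (hMmax : ∀ (M₁ : Over (Spec (CommRingCat.of k))) [GrpObj M₁] [LocallyOfFiniteType M₁.hom] [QuasiCompact M₁.hom] (j₁ : M₁ ⟶ G) [IsMonHom j₁] [IsClosedImmersion j₁.left],
      Function.Bijective ((Scheme.ΓSpecIso (CommRingCat.of k)).inv ≫ M₁.hom.appTop).hom → ∃ g : M₁ ⟶ M, g ≫ j = j₁)
    (M' : Over (Spec (CommRingCat.of k))) [GrpObj M'] (m : M' ⟶ M) [IsMonHom m] [IsClosedImmersion m.left]
    [IsAffine M'.left] [ConnectedSpace ↥M'.left]
    (B : Over (Spec (CommRingCat.of k))) [GrpObj B] (r : M ⟶ B) [IsMonHom r] [Surjective r.left] [Flat r.left]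
    [IsProper B.hom] [Smooth B.hom] [ConnectedSpace ↥B.left] (hr : AlgGrp.IsKernel m r)
    (hM'min : ∀ (M₂ : Over (Spec (CommRingCat.of k))) [GrpObj M₂] (m₂ : M₂ ⟶ M) [IsMonHom m₂] [IsClosedImmersion m₂.left]
    [IsAffine M₂.left] [ConnectedSpace ↥M₂.left] (B₂ : Over (Spec (CommRingCat.of k))) [GrpObj B₂] (r₂ : M ⟶ B₂) [IsMonHom r₂]
      [Surjective r₂.left] [Flat r₂.left] [IsProper B₂.hom] [Smooth B₂.hom] [ConnectedSpace ↥B₂.left],
      AlgGrp.IsKernel m₂ r₂ → ∃ g : M' ⟶ M₂, g ≫ m₂ = m)
    (P : Over (Spec (CommRingCat.of k))) (p₁ : P ⟶ N) (p₂ : P ⟶ M) (hP : IsPullback p₁ p₂ i j) :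
    Smooth M'.hom ∧ (∃ g : M' ⟶ N, g ≫ i = m ≫ j) ∧ (Set.range ⇑(p₂ ≫ r).left.base).Finite := by
  haveI : IsSeparated G.hom := GrothLib.GrpSchField.isSeparated G
  haveI : IsAffine N.left := inferInstance
  haveI : LocallyOfFiniteType N.hom := by rw [← Over.w i]; infer_instance
  haveI : LocallyOfFiniteType M'.hom := by rw [← Over.w m]; infer_instance
  haveI : QuasiCompact M'.hom := by rw [← Over.w m]; infer_instance
  haveI : Mono i := Over.mono_of_mono_left i
  haveI : Mono j := Over.mono_of_mono_left j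
  haveI : Smooth M.hom := GrothLib.AntiAffSmooth14.smooth_of_isAntiAffine M hM
  haveI : ConnectedSpace M.left := GrothLib.AntiAffine.IsAntiAffine.connectedSpace hM
  have hMs : Smooth M'.hom := by
    rcases CharP.exists k with ⟨p, hp⟩
    rcases CharP.char_is_prime_or_zero k p with hpp | rfl
    · haveI := Fact.mk hpp
      obtain ⟨T, _, t, C, _, c, ht, htc, hT, hc, hcs, hcf, hck, hCp, hCs, hCc⟩ := Groth.Agent.S14600.result k p M hM
      haveI := ht; haveI := htc; haveI := hc; haveI := hcs; haveI := hcf; haveI := hCp; haveI := hCs; haveI := hCc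
      haveI : Mono t := Over.mono_of_mono_left t
      haveI : Mono m := Over.mono_of_mono_left m
      haveI : LocallyOfFiniteType T.hom := by rw [← Over.w t]; infer_instance
      haveI : QuasiCompact T.hom := by rw [← Over.w t]; infer_instance
      obtain ⟨hTs, hTc⟩ := GrothLib.Rigidity.smooth_connected_of_isTorus T hT
      haveI := hTs; haveI := hTc
      haveI : IsAffineHom T.hom :=
        GrothLib.EssFree.isAffineHom_multTypeFT T (GrothLib.UnipFix19.isMultTypeFT_of_isTorus hT)
      haveI : IsAffine T.left := isAffine_of_isAffineHom T.hom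
      obtain ⟨g, hg⟩ := hM'min T t C c hck
      haveI : IsReduced T.left := GrothLib.Rigidity.isReduced_of_smooth T.hom
      obtain ⟨g', hg'⟩ := GrothLib.GrpSchField.exists_lift_of_comp_eq_one hr t
        (GrothLib.AlbTors16.hom_eq_one_affine_proper (t ≫ r))
      haveI : IsIso g := ⟨g', by rw [← cancel_mono m, Category.assoc, hg', hg, Category.id_comp],
        by rw [← cancel_mono t, Category.assoc, hg, hg', Category.id_comp]⟩
      haveI : IsIso g.left := inferInstanceAs (IsIso ((Over.forget _).map g))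
      rw [← Over.w g]; infer_instance
    · haveI : CharZero k := CharP.charP_to_charZero k
      exact GrothLib.GrpSchField.smooth_of_charZero M'
  haveI := hMs
  refine ⟨hMs, ?_, ?_⟩
  · haveI : IsReduced M'.left := GrothLib.Rigidity.isReduced_of_smooth M'.hom
    exact GrothLib.GrpSchField.exists_lift_of_comp_eq_one hq (m ≫ j)
      (GrothLib.AlbTors16.hom_eq_one_affine_proper ((m ≫ j) ≫ q))
  · obtain ⟨hPg, hp₁, hp₂⟩ := GrothLib.SubPre14.exists_grpObj_pullback j i p₁ p₂ hP
    haveI := hp₁; haveI := hp₂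
    haveI : IsClosedImmersion p₁.left :=
      MorphismProperty.of_isPullback (P := @IsClosedImmersion) (hP.map (Over.forget _)).flip ‹IsClosedImmersion j.left›
    haveI : IsAffine P.left := isAffine_of_isAffineHom p₁.left
    haveI : LocallyOfFiniteType P.hom := by rw [← Over.w p₁]; infer_instance
    haveI : IsAffineHom P.hom := isAffineHom_of_isAffine _
    haveI : QuasiCompact (p₂ ≫ r).left := by
      haveI : QuasiCompact ((p₂ ≫ r).left ≫ B.hom) := by rw [Over.w]; infer_instance
      exact QuasiCompact.of_comp _ B.hom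
    obtain ⟨I, _, e, jI, he, hjI, hej, hes, -, -, hmI, hIlft, -⟩ := GrothLib.Neutral.exists_factor_field (p₂ ≫ r)
    haveI := he; haveI := hjI; haveI := hmI; haveI := hes; haveI := hIlft
    haveI := (GrothLib.Neutral.isClosedImmersion_factor (p₂ ≫ r) hej).1
    haveI : IsAffine I.left := GrothLib.Chevalley.isAffine_of_surjective_hom e
    haveI : IsProper I.hom := by rw [← Over.w jI]; infer_instance
    haveI : IsAffineHom I.hom := isAffineHom_of_isAffine _
    haveI : IsFinite I.hom := IsFinite.iff_isProper_and_isAffineHom.2 ⟨inferInstance, inferInstance⟩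
    haveI : Subsingleton ↥(Spec (CommRingCat.of k)) := inferInstanceAs (Subsingleton (PrimeSpectrum k))
    haveI : DiscreteTopology ↥I.left := by
      refine discreteTopology_iff_isOpen_singleton.mpr fun z => ?_
      have h1 := I.hom.isDiscrete_preimage_singleton (I.hom z)
      rw [show I.hom ⁻¹' {I.hom z} = Set.univ from Set.eq_univ_of_forall fun _ => Subsingleton.elim _ _] at h1
      haveI := isDiscrete_univ_iff.mp h1
      exact isOpen_discrete _
    haveI : CompactSpace ↥I.left := QuasiCompact.compactSpace_of_compactSpace I.hom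
    haveI : Finite ↥I.left := finite_of_compact_of_discrete
    rw [← hej, Over.comp_left]
    refine (Set.finite_range jI.left.base).subset ?_
    rintro _ ⟨x, rfl⟩
    exact ⟨e.left.base x, rfl⟩


end Groth.Agent.S18085
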