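import Groth.Statements.S1809
import Groth.Agent.Lib.DualRing.SchemeLocus
-- import your own Groth.Agent.* helpers here

set_option autoImplicit false
universe u
open CategoryTheory CategoryTheory.Limits AlgebraicGeometry
attribute [local instance] HasDerivedCategory.standard
open Dual

namespace Groth.Agent.S1809

/-- Let X be a locally Noetherian scheme and ω a dualizing complex on X (affine-locally the derived
tilde of a dualizing complex of the ring; exactness of restriction of module sheaves to opens and of
M ↦ M~ is assumed through instance binders). Then for every point x the local ring O_{X,x} is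
Cohen–Macaulay if and only if exactly one cohomology sheaf of ω has nonzero stalk at x; and the set
of points whose local ring is Cohen–Macaulay is open. -/
theorem result (X : Scheme.{u}) [IsLocallyNoetherian X] [∀ (U : Scheme.{u}) (j : U ⟶ X) [IsOpenImmersion j], PreservesFiniteLimits (Scheme.Modules.restrictFunctor j)] [∀ (R : CommRingCat.{u}), PreservesFiniteLimits (tilde.functor R)] (ω : DCoh.D X) (hω : Dual2.IsDualizingSch X ω) : (∀ x : X, LocCoh.IsCohenMacaulayLocalRing (X.presheaf.stalk x) ↔ ∃! i : ℤ, Nontrivial ((DCoh.HD ω i).presheaf.stalk x)) ∧ IsOpen {x : X | LocCoh.IsCohenMacaulayLocalRing (X.presheaf.stalk x)} := by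
  exact GrothLib.DualRing.isCM_stalk_iff_and_isOpen hω


end Groth.Agent.S1809
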