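import Groth.Statements.S18096
import Groth.Agent.Lib.Repr.AntiAffine
import Groth.Agent.Lib.Repr.FrBGL
-- import your own Groth.Agent.* helpers here

set_option autoImplicit false
universe u
open CategoryTheory MonoidalCategory CartesianMonoidalCategory MonObj GrpObj AlgebraicGeometry CategoryTheory.Limits
open AlgGrp

namespace Groth.Agent.S18096

/-- Let k be a field and G a k-group scheme of finite type. Then G is anti-affine, i.e. O(G) = k, if and
only if every finite-dimensional linear representation of G is trivial, i.e. for every n every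
homomorphism G → GL_{n,k} is trivial. -/
theorem result (k : Type u) [Field k]
    (G : Over (Spec (CommRingCat.of k))) [GrpObj G] [LocallyOfFiniteType G.hom] [QuasiCompact G.hom] :
    Function.Bijective ((Scheme.ΓSpecIso (CommRingCat.of k)).inv ≫ G.hom.appTop).hom ↔
      ∀ (n : ℕ) (ρ : G ⟶ FrB.GLn n (Spec (CommRingCat.of k))), IsMonHom ρ → ρ = 1 := by
  constructor
  · intro h n ρ hρ
    haveI := hρ
    haveI : IsAffine (FrB.GLn n (Spec (CommRingCat.of k))).left := by
      haveI : IsAffine (FrB.GLZ.{u} n).left :=
        inferInstanceAs (IsAffine (Spec (CommRingCat.of (CoordGrp.GLn n (ULift.{u} ℤ)))))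
      haveI : IsAffineHom (FrB.GLZ.{u} n).hom := isAffineHom_of_isAffine _
      exact @isAffine_of_isAffineHom _ _ (Limits.pullback.snd (FrB.GLZ.{u} n).hom _)
        (MorphismProperty.of_isPullback (P := @IsAffineHom) (IsPullback.of_hasPullback _ _) ‹IsAffineHom (FrB.GLZ.{u} n).hom›) _
    exact GrothLib.Repr.hom_eq_one_of_antiAffine h ρ
  · intro h
    refine GrothLib.Repr.antiAffine_of_trivial fun N ρ hρ => ?_
    obtain ⟨φ, hφ, hinj⟩ := GrothLib.Repr.exists_hom_frB (k := k) N
    haveI := hρ
    haveI := hφ
    refine GrothLib.Repr.hom_ext_pts fun R _ _ u => ?_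
    rw [MonObj.comp_one]
    refine hinj R (u ≫ ρ) ?_
    rw [Category.assoc, h N (ρ ≫ φ) inferInstance, MonObj.comp_one]


end Groth.Agent.S18096
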