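import Groth.Statements.S18100
import Groth.Agent.Lib.AntMin16.Main

set_option autoImplicit false
universe u
open CategoryTheory MonoidalCategory CartesianMonoidalCategory MonObj GrpObj AlgebraicGeometry CategoryTheory.Limits
open AlgGrp

namespace Groth.Agent.S18100

/-- Let k be a field and G a non-trivial anti-affine k-group scheme of finite type with no anti-affine
closed subgroup scheme other than G and the trivial one. Then G is either an abelian variety (proper
over k), or every complete subvariety of G has dimension zero: any closed subscheme of G that is
geometrically integral and proper over k has dimension 0. -/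
theorem result (k : Type u) [Field k]
    (G : Over (Spec (CommRingCat.of k))) [GrpObj G] [LocallyOfFiniteType G.hom] [QuasiCompact G.hom] (hG : ¬ Red.IsTrivialGrp G)
    (hGa : Function.Bijective ((Scheme.ΓSpecIso (CommRingCat.of k)).inv ≫ G.hom.appTop).hom)
    (hmin : ∀ (H : Over (Spec (CommRingCat.of k))) [GrpObj H] (h : H ⟶ G) [IsMonHom h] [IsClosedImmersion h.left], ¬ IsIso h → Function.Bijective ((Scheme.ΓSpecIso (CommRingCat.of k)).inv ≫ H.hom.appTop).hom → Red.IsTrivialGrp H) :
    IsProper G.hom ∨
      ∀ (Z : Over (Spec (CommRingCat.of k))) (z : Z ⟶ G) [IsClosedImmersion z.left] [IsProper Z.hom] [GeometricallyIntegral Z.hom],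
        topologicalKrullDim ↥Z.left = 0 := by
  exact GrothLib.AntMin16.isProper_or_dim_eq_zero hmin


end Groth.Agent.S18100
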