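import Groth.Statements.S18101
import Groth.Agent.Lib.Repr.AntiAffine
import Groth.Agent.Lib.Repr.AffineSpaceRep
import Groth.Agent.Lib.Repr.FixedPoint
-- import your own Groth.Agent.* helpers here

set_option autoImplicit false
universe u
open CategoryTheory MonoidalCategory CartesianMonoidalCategory MonObj GrpObj AlgebraicGeometry CategoryTheory.Limits
open AlgGrp

namespace Groth.Agent.S18101

/-- Let k be a field and G a k-group scheme of finite type. Then G is anti-affine, i.e. O(G) = k, if and
only if every action of G on a variety having a fixed point is trivial; the fixed point is taken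
k-rational here (the published condition allows any closed fixed point, which gives a formally
stronger necessary condition; the equivalence with a rational fixed point is what the published
argument through linear representations yields). -/
theorem result (k : Type u) [Field k]
    (G : Over (Spec (CommRingCat.of k))) [GrpObj G] [LocallyOfFiniteType G.hom] [QuasiCompact G.hom] :
    Function.Bijective ((Scheme.ΓSpecIso (CommRingCat.of k)).inv ≫ G.hom.appTop).hom ↔
      ∀ (X : Over (Spec (CommRingCat.of k))) [LocallyOfFiniteType X.hom] [QuasiCompact X.hom] [IsSeparated X.hom] [GeometricallyIntegral X.hom]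
        (a : AlgGrp.Action G X) (x : 𝟙_ (Over (Spec (CommRingCat.of k))) ⟶ X), a.IsFixedPt x → a.act = snd G X := by
  constructor
  · intro h X _ _ _ _ a x hx
    haveI : IsIntegral X.left := GeometricallyIntegral.isIntegral_of_subsingleton X.hom
    haveI : IsLocallyNoetherian X.left := LocallyOfFiniteType.isLocallyNoetherian X.hom
    obtain ⟨Ms, _, _, ms, hms⟩ := GrothLib.Repr.exists_modules_trivial a x hx
    obtain ⟨D, ρ, hρm, hρ⟩ := GrothLib.Repr.exists_hom_detect ms
    haveI := hρm
    haveI := GrothLib.Repr.isAffine_GLsch (k := k) D
    have hρ1 : ρ = 1 := GrothLib.Repr.hom_eq_one_of_antiAffine h ρ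
    refine GrothLib.Repr.hom_ext_pts fun R _ _ p => ?_
    have h2 := (hms R (p ≫ fst G X)).1 ((hρ R _).1 (by rw [hρ1, MonObj.comp_one])) _ (𝟙 _) (p ≫ snd G X)
    rw [Category.id_comp, GrothLib.GrpSchField.lift_fst_snd_comp] at h2
    exact h2
  · intro h
    refine GrothLib.Repr.antiAffine_of_trivial fun N ρ hρ => ?_
    haveI := hρ
    obtain ⟨a, x, hx, hone⟩ := GrothLib.Repr.exists_linAction ρ
    obtain ⟨h1, h2, h3, h4, h5⟩ := GrothLib.Repr.affSp_props (k := k) N
    exact hone (h _ a x hx)


end Groth.Agent.S18101
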