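import Groth.Statements.S18102
import Groth.Agent.Lib.IsogSub19.Main
import Groth.Agent.Lib.ImgBorel19.Base
-- import your own Groth.Agent.* helpers here

set_option autoImplicit false
universe u
open CategoryTheory MonoidalCategory CartesianMonoidalCategory MonObj GrpObj AlgebraicGeometry CategoryTheory.Limits
open AlgGrp

namespace Groth.Agent.S18102

/-- Let k be a field with algebraic closure k̄ and f : G → H an isogeny of algebraic k-groups
(surjective homomorphism with finite kernel, i.e. surjective and finite). Then for every d, G_{k̄}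
contains a smooth connected affine solvable closed subgroup of dimension at least d if and only if
H_{k̄} does; that is, d_s(G) = d_s(H). -/
theorem result (k : Type u) [Field k]
    (G H : Over (Spec (CommRingCat.of k))) [GrpObj G] [LocallyOfFiniteType G.hom] [QuasiCompact G.hom]
    [GrpObj H] [LocallyOfFiniteType H.hom] [QuasiCompact H.hom]
    (f : G ⟶ H) [IsMonHom f] [Surjective f.left] [IsFinite f.left] (d : ℕ) :
    (∃ (U : Over (Spec (CommRingCat.of (AlgebraicClosure k)))) (_ : GrpObj U) (i : U ⟶ Red.bc (Spec.map (CommRingCat.ofHom (algebraMap k (AlgebraicClosure k)))) G), IsMonHom i ∧ IsClosedImmersion i.left ∧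
        Smooth U.hom ∧ IsAffine U.left ∧ ConnectedSpace ↥U.left ∧ Red.IsSolvableGrp U ∧ (d : WithBot ℕ∞) ≤ topologicalKrullDim ↥U.left) ↔
    (∃ (U : Over (Spec (CommRingCat.of (AlgebraicClosure k)))) (_ : GrpObj U) (i : U ⟶ Red.bc (Spec.map (CommRingCat.ofHom (algebraMap k (AlgebraicClosure k)))) H), IsMonHom i ∧ IsClosedImmersion i.left ∧
        Smooth U.hom ∧ IsAffine U.left ∧ ConnectedSpace ↥U.left ∧ Red.IsSolvableGrp U ∧ (d : WithBot ℕ∞) ≤ topologicalKrullDim ↥U.left) := by
  let t := Spec.map (CommRingCat.ofHom (algebraMap k (AlgebraicClosure k)))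
  haveI : LocallyOfFiniteType (Red.bc t G).hom := inferInstanceAs (LocallyOfFiniteType (pullback.snd G.hom t))
  haveI : LocallyOfFiniteType (Red.bc t H).hom := inferInstanceAs (LocallyOfFiniteType (pullback.snd H.hom t))
  haveI : QuasiCompact (Red.bc t G).hom := inferInstanceAs (QuasiCompact (pullback.snd G.hom t))
  haveI : QuasiCompact (Red.bc t H).hom := inferInstanceAs (QuasiCompact (pullback.snd H.hom t))
  let f' : Red.bc t G ⟶ Red.bc t H := (Over.pullback t).map f
  haveI : IsMonHom f' := inferInstanceAs (IsMonHom ((Over.pullback t).map f))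
  haveI : IsFinite f'.left := GrothLib.ImgBorel19.map_property (P := @IsFinite) t f inferInstance
  haveI : Surjective f'.left := GrothLib.ImgBorel19.map_property (P := @Surjective) t f inferInstance
  constructor
  · rintro ⟨U, _, i, hi, hic, hsm, haf, hcn, hs, hd⟩
    haveI := hi; haveI := hic; haveI := hsm; haveI := hcn
    obtain ⟨V, _, j, hj, hjc, hjs, hjn, hjsol, hdim, haff⟩ := GrothLib.IsogSub19.exists_image f' U i hs
    exact ⟨V, inferInstance, j, hj, hjc, hjs, haff haf, hjn, hjsol, hd.trans hdim⟩
  · rintro ⟨U, _, i, hi, hic, hsm, haf, hcn, hs, hd⟩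
    haveI := hi; haveI := hic; haveI := hsm; haveI := hcn
    obtain ⟨V, _, j, hj, hjc, hjs, hjn, hjsol, hdim, haff⟩ := GrothLib.IsogSub19.exists_preimage f' U i hs
    exact ⟨V, inferInstance, j, hj, hjc, hjs, haff haf, hjn, hjsol, hd.trans hdim⟩

end Groth.Agent.S18102
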