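import Groth.Statements.S1811
import Groth.Agent.Lib.ShriekBridge22.FieldScheme
-- import your own Groth.Agent.* helpers here

set_option autoImplicit false
universe u
open CategoryTheory CategoryTheory.Limits AlgebraicGeometry
attribute [local instance] HasDerivedCategory.standard
open Dual

namespace Groth.Agent.S1811

/-- Let k be a field and X a scheme proper over k with dim X = d and structure morphism f : X → Spec k;
assume the exactness instances used to define dualizing complexes on schemes (restriction of modules
to open subschemes and the functors M ↦ M~ on affine schemes preserve finite limits). Assume the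
derived direct image Rf_* exists and preserves quasi-coherence of cohomology sheaves (both known
results), so that it restricts to a functor D_QCoh(O_X) → D_QCoh(O_{Spec k}), and let a :
D_QCoh(O_{Spec k}) → D_QCoh(O_X) be a right adjoint of this restricted functor. Let O be an object
of D_QCoh(O_{Spec k}) isomorphic to the structure sheaf placed in degree 0, and put ω = a(O). Then ω
is a dualizing complex on X; its cohomology sheaves H^i(ω) vanish for i < −d and for i > 0; and for
every i ≤ 0 the set of points of X at which H^i(ω) has nonzero stalk has Krull dimension at most −i.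
(The published statement has further parts, which are not asserted here, and is phrased with the
upper shriek f^!; for the proper morphism f, f^!O is the a(O) used here.) -/
theorem result (k : Type u) [Field k] (X : Scheme.{u}) [X.Over (Spec (CommRingCat.of k))] [IsProper (X ↘ Spec (CommRingCat.of k))] [∀ (U : Scheme.{u}) (j : U ⟶ X) [IsOpenImmersion j], PreservesFiniteLimits (Scheme.Modules.restrictFunctor j)] [∀ (R : CommRingCat.{u}), PreservesFiniteLimits (tilde.functor R)] (d : ℕ) (hd : topologicalKrullDim X = d) (f : X ⟶ Spec (CommRingCat.of k)) (hf : f = X ↘ Spec (CommRingCat.of k)) [DCoh.HasRpush f] (h : ∀ K : DCoh.D X, DCoh.IsQCohD K → DCoh.IsQCohD ((DCoh.Rpush f).obj K)) (a : DCoh.DQCoh (Spec (CommRingCat.of k)) ⥤ DCoh.DQCoh X) (adj : (ObjectProperty.lift DCoh.IsQCohD (ObjectProperty.ι DCoh.IsQCohD ⋙ DCoh.Rpush f) (fun K => h K.obj K.property)) ⊣ a) (O : DCoh.DQCoh (Spec (CommRingCat.of k))) (hO : Nonempty (O.obj ≅ DCoh.inD (Spec (CommRingCat.of k)) (Coh.structureModule (Spec (CommRingCat.of k))))) : Dual2.IsDualizingSch X (a.obj O).obj ∧ (∀ i : ℤ, (i < -(d :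 ℤ) ∨ 0 < i) → IsZero (DCoh.HD (a.obj O).obj i)) ∧ ∀ (i : ℤ) (n : ℕ), (n : ℤ) = -i → topologicalKrullDim {x : X | Nontrivial ((DCoh.HD (a.obj O).obj i).presheaf.stalk x)} ≤ (n : WithBot ℕ∞) := by
  haveI : IsProper f := hf ▸ ‹IsProper (X ↘ Spec (CommRingCat.of k))›
  haveI : IsLocallyNoetherian X := LocallyOfFiniteType.isLocallyNoetherian f
  refine ⟨?_, GrothLib.ShriekBridge22.isZero_HD_adjoint f h adj O hO d hd, fun i n hn => ?_⟩
  · have hO' : Dual2.IsDualizingSch (Spec (CommRingCat.of k)) O.obj := by
      refine GrothLib.DualRing.isDualizingSch_of_dualCharts fun x => ?_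
      obtain ⟨e⟩ := GrothLib.ShriekBridge22.nonempty_resD_unit (𝟙 (Spec (CommRingCat.of k))) hO
      exact ⟨k, inferInstance, 𝟙 _, inferInstance, ⟨x, rfl⟩, _, GrothLib.ShriekBridge22.isDualizing_field k, ⟨e⟩⟩
    exact GrothLib.ShriekBridge22.isDualizingSch_adjoint f h adj O hO'
  · have h' := GrothLib.ShriekBridge22.topologicalKrullDim_support_le f h adj O hO i
    rwa [show (-i).toNat = n by omega] at h'

end Groth.Agent.S1811
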