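import Groth.Statements.S18110
import Groth.Agent.Lib.CartierOne16.Global

set_option autoImplicit false
universe u
open DeRham

namespace Groth.Agent.S18110

open GrothLib.CartierOne16

open exteriorPower in
/-- Let p be a prime, A a perfect ring of characteristic p (its Frobenius is bijective), B a smooth
A-algebra, and d a de Rham differential on the exterior powers of Ω_{B/A} (a degreewise family
obeying the de Rham rule with d ∘ d = 0). Then there is exactly one additive map C from the closed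
1-forms (the kernel of d in degree 1) to the 1-forms such that C(f^p ω) = f C(ω) for f in B and ω
closed, C(ω) = 0 if and only if ω is exact, and C(f^{p-1} df) = df for f in B. (The source states
this for all degrees r at once on a smooth scheme over a perfect base, with two further conditions,
C(1) = 1 in degree 0 and multiplicativity for wedge products of closed forms, which involve other
degrees; this row is the degree-one, affine case, where those two conditions are empty.) -/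
theorem result
    (p : ℕ) [Fact p.Prime] (A B : Type u) [CommRing A] [CharP A p] [PerfectRing A p]
    [CommRing B] [Algebra A B] [Algebra.Smooth A B]
    (d : ∀ q : ℕ, ↥(⋀[B]^q (Ω[B⁄A])) →ₗ[A] ↥(⋀[B]^(q + 1) (Ω[B⁄A])))
    (hd : DeRham.IsDiff (KaehlerDifferential.D A B) d) :
    ∃! C : ↥(DeRham.cocycles d 1) →+ ↥(⋀[B]^1 (Ω[B⁄A])),
      (∀ (f : B) (ω ω' : ↥(DeRham.cocycles d 1)),
          (ω' : ↥(⋀[B]^1 (Ω[B⁄A]))) = f ^ p • (ω : ↥(⋀[B]^1 (Ω[B⁄A]))) → C ω' = f • C ω) ∧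
      (∀ ω : ↥(DeRham.cocycles d 1), C ω = 0 ↔ (ω : ↥(⋀[B]^1 (Ω[B⁄A]))) ∈ DeRham.coboundaries d 1) ∧
      (∀ (f : B) (ω : ↥(DeRham.cocycles d 1)),
          (ω : ↥(⋀[B]^1 (Ω[B⁄A]))) = f ^ (p - 1) • d 0 ((exteriorPower.zeroEquiv B (Ω[B⁄A])).symm f) →
            C ω = d 0 ((exteriorPower.zeroEquiv B (Ω[B⁄A])).symm f)) := by
  classical
  rcases subsingleton_or_nontrivial B with hB | hB
  · haveI := Module.subsingleton B ↥(⋀[B]^1 (Ω[B⁄A]))
    refine ⟨0, ⟨fun _ _ _ _ => Subsingleton.elim _ _, fun ω => ⟨fun _ => ?_, fun _ => Subsingleton.elim _ _⟩,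
      fun _ _ _ => Subsingleton.elim _ _⟩, fun C _ => DFunLike.ext _ _ fun _ => Subsingleton.elim _ _⟩
    rw [Subsingleton.elim (ω : ↥(⋀[B]^1 (Ω[B⁄A]))) 0]
    exact zero_mem _
  haveI : CharP B p := (CharP.charP_iff_prime_eq_zero (Fact.out : p.Prime)).2 (by
    rw [← map_natCast (algebraMap A B), CharP.cast_eq_zero A p, map_zero])
  obtain ⟨s, hs, hss⟩ := Algebra.Smooth.exists_span_eq_top_isStandardSmooth A B
  have hinj : Function.Injective (gam p A B) := by
    refine (injective_iff_map_eq_zero _).2 fun η hη => ?_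
    rw [← Submodule.mem_bot B]
    refine Submodule.mem_of_span_eq_top_of_smul_pow_mem _ s hs η fun g => ?_
    by_cases hn : IsNilpotent (g : B)
    · obtain ⟨n, hn⟩ := hn
      exact ⟨n, by rw [hn, zero_smul]; exact zero_mem _⟩
    obtain ⟨N, hN⟩ := (local_data p hd (g : B) (hss g g.2) hn).1 η hη
    exact ⟨N, by rw [hN]; exact zero_mem _⟩
  have hsurj : ∀ ω, IsClosedForm d ω → cls p A B ω ∈ LinearMap.range (gam p A B) := by
    intro ω hω
    refine Submodule.mem_of_span_eq_top_of_smul_pow_mem _ s hs _ fun g => ?_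
    by_cases hn : IsNilpotent (g : B)
    · obtain ⟨n, hn⟩ := hn
      exact ⟨n, by rw [hn, zero_smul]; exact zero_mem _⟩
    obtain ⟨N, η, hN⟩ := (local_data p hd (g : B) (hss g g.2) hn).2 ω hω
    exact ⟨N, η, hN⟩
  let cl : ↥(DeRham.cocycles d 1) → Ω[B⁄A] := fun ω => frm.symm (ω : ↥(⋀[B]^1 (Ω[B⁄A])))
  have hcl : ∀ ω, IsClosedForm d (cl ω) := fun ω => by
    rw [IsClosedForm, LinearEquiv.apply_symm_apply]
    exact ω.2
  choose θ hθ using fun ω => hsurj _ (hcl ω)
  let C : ↥(DeRham.cocycles d 1) →+ ↥(⋀[B]^1 (Ω[B⁄A])) :=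
    { toFun := fun ω => frm (θ ω)
      map_zero' := by
        rw [show θ 0 = 0 from hinj (by rw [hθ, map_zero]; simp [cl]), map_zero]
      map_add' := fun a b => by
        rw [← map_add]
        congr 1
        refine hinj ?_
        rw [map_add (gam p A B), hθ, hθ, hθ, ← map_add]
        simp only [cl, Submodule.coe_add, map_add] }
  have hC1 : ∀ (f : B) (ω ω' : ↥(DeRham.cocycles d 1)),
      (ω' : ↥(⋀[B]^1 (Ω[B⁄A]))) = f ^ p • (ω : ↥(⋀[B]^1 (Ω[B⁄A]))) → C ω' = f • C ω := by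
    intro f ω ω' h
    show frm (θ ω') = f • frm (θ ω)
    rw [← map_smul]
    congr 1
    refine hinj ?_
    rw [map_smul, hθ, hθ, ← cls_smul]
    simp only [cl, h, map_smul]
  have hC2 : ∀ ω : ↥(DeRham.cocycles d 1), C ω = 0 ↔
      (ω : ↥(⋀[B]^1 (Ω[B⁄A]))) ∈ DeRham.coboundaries d 1 := by
    intro ω
    rw [show ((ω : ↥(⋀[B]^1 (Ω[B⁄A])))) = frm (cl ω) from (LinearEquiv.apply_symm_apply _ _).symm,
      mem_coboundaries_iff hd, ← cls_eq_zero p A B, ← hθ, map_eq_zero_iff _ hinj]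
    exact frm.map_eq_zero_iff
  have hC3 : ∀ (f : B) (ω : ↥(DeRham.cocycles d 1)),
      (ω : ↥(⋀[B]^1 (Ω[B⁄A]))) = f ^ (p - 1) • d 0 ((exteriorPower.zeroEquiv B (Ω[B⁄A])).symm f) →
        C ω = d 0 ((exteriorPower.zeroEquiv B (Ω[B⁄A])).symm f) := by
    intro f ω h
    rw [d_zero_eq hd] at h ⊢
    show frm (θ ω) = _
    congr 1
    refine hinj ?_
    rw [hθ, gam_D]
    simp only [cl, h, map_smul, LinearEquiv.symm_apply_apply]
  refine ⟨C, ⟨hC1, hC2, hC3⟩, fun C' hC' => ?_⟩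
  obtain ⟨h1, h2, h3⟩ := hC'
  have key : ∀ η : Ω[B⁄A], ∀ ω : ↥(DeRham.cocycles d 1), cls p A B (cl ω) = gam p A B η → C' ω = frm η := by
    intro η
    have hη : η ∈ Submodule.span B (Set.range (KaehlerDifferential.D A B)) := by
      rw [KaehlerDifferential.span_range_derivation]; trivial
    have mk : ∀ {x : Ω[B⁄A]}, IsClosedForm d x →
        ∃ ω : ↥(DeRham.cocycles d 1), cl ω = x ∧ (ω : ↥(⋀[B]^1 (Ω[B⁄A]))) = frm x := fun {x} hx =>
      ⟨⟨frm x, hx⟩, LinearEquiv.symm_apply_apply _ _, rfl⟩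
    have shift : ∀ ω ω₀ : ↥(DeRham.cocycles d 1), cls p A B (cl ω) = cls p A B (cl ω₀) → C' ω = C' ω₀ := by
      intro ω ω₀ h
      rw [← sub_eq_zero, ← map_sub, h2, show ((ω - ω₀ : ↥(DeRham.cocycles d 1)) : ↥(⋀[B]^1 (Ω[B⁄A]))) =
        frm (cl ω - cl ω₀) by simp [cl], mem_coboundaries_iff hd, ← cls_eq_zero p A B, map_sub, h, sub_self]
    induction hη using Submodule.span_induction with
    | mem y hy =>
      obtain ⟨f, rfl⟩ := hy
      intro ω hω
      obtain ⟨ω₀, e₀, e₀'⟩ := mk (isClosedForm_gen p hd f)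
      rw [shift ω ω₀ (by rw [hω, gam_D, e₀]), h3 f ω₀ (by rw [e₀', d_zero_eq hd, map_smul]), d_zero_eq hd]
    | zero =>
      intro ω hω
      rw [shift ω 0 (by rw [hω]; simp [cl]), map_zero, map_zero]
    | add y z _ _ hy hz =>
      intro ω hω
      obtain ⟨a, ha, hac, -⟩ := exists_rep p hd (C := B) y
      obtain ⟨b, hb, hbc, -⟩ := exists_rep p hd (C := B) z
      obtain ⟨ω₁, e₁, -⟩ := mk hac
      obtain ⟨ω₂, e₂, -⟩ := mk hbc
      rw [shift ω (ω₁ + ω₂) (by rw [hω, map_add, ← ha, ← hb, ← map_add, ← e₁, ← e₂]; simp [cl]), map_add,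
        hy ω₁ (by rw [e₁, ha]), hz ω₂ (by rw [e₂, hb]), map_add]
    | smul r y _ hy =>
      intro ω hω
      obtain ⟨a, ha, hac, -⟩ := exists_rep p hd (C := B) y
      obtain ⟨ω₁, e₁, e₁'⟩ := mk hac
      obtain ⟨ω₂, e₂, e₂'⟩ := mk (isClosedForm_smul p hd r hac)
      rw [shift ω ω₂ (by rw [hω, e₂, cls_smul, ha, map_smul]),
        h1 r ω₁ ω₂ (by rw [e₂', e₁', map_smul]), hy ω₁ (by rw [e₁, ha]), map_smul]
  exact DFunLike.ext _ _ fun ω => key (θ ω) ω (hθ ω).symm

end Groth.Agent.S18110
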