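import Groth.Statements.S18125
-- import your own Groth.Agent.* helpers here

set_option autoImplicit false
universe u
open Pinch

namespace Groth.Agent.S18125

/-- Let K be a field in which 2 ≠ 0, n ≥ 0, S = K[u, v, w, t_1, …, t_n] (u, v, w the first three
variables), h = u^2 - v^2 w the equation of the pinch-point model, and Jac the ideal generated by h
and its three partial derivatives 2u, -2vw, -v^2, which cuts out the scheme-theoretic singular locus
of {h = 0}. Then the ideal (u, v) of the double locus is Jac + (v), and the colon ideal of Jac by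
(v) is (u, v, w). Consequently (u, v)/Jac, the ideal of the double locus restricted to the singular
locus, is an invertible sheaf on the pinch locus u = v = w = 0: it is free of rank one over K[t_1,
…, t_n] on the class of v. (The text states this for every semi-smooth variety and reduces to this
model; K algebraically closed is not needed for the model computation.) -/
theorem result
    (K : Type u) [Field K] [NeZero (2 : K)] (n : ℕ) :
    letI u : MvPolynomial (Fin (n + 3)) K := MvPolynomial.X 0
    letI v : MvPolynomial (Fin (n + 3)) K := MvPolynomial.X 1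
    letI w : MvPolynomial (Fin (n + 3)) K := MvPolynomial.X 2
    letI Jac : Ideal (MvPolynomial (Fin (n + 3)) K) :=
      Ideal.span {u ^ 2 - v ^ 2 * w, 2 * u, -(2 * v * w), -(v ^ 2)}
    Ideal.span {u, v} = Jac ⊔ Ideal.span {v} ∧ Jac.colon (Ideal.span {v}) = Ideal.span {u, v, w} := by
  let u : MvPolynomial (Fin (n + 3)) K := MvPolynomial.X 0
  let v : MvPolynomial (Fin (n + 3)) K := MvPolynomial.X 1
  let w : MvPolynomial (Fin (n + 3)) K := MvPolynomial.X 2
  let Jac : Ideal (MvPolynomial (Fin (n + 3)) K) :=
    Ideal.span {u ^ 2 - v ^ 2 * w, 2 * u, -(2 * v * w), -(v ^ 2)}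
  show Ideal.span {u, v} = Jac ⊔ Ideal.span {v} ∧ Jac.colon (Ideal.span {v} : Ideal _) = Ideal.span {u, v, w}
  have htwo : IsUnit (2 : MvPolynomial (Fin (n + 3)) K) := by
    have h := ((isUnit_iff_ne_zero (a := (2 : K))).mpr (NeZero.ne 2)).map (MvPolynomial.C (σ := Fin (n + 3)))
    rwa [map_ofNat] at h
  have hJu : u ∈ Jac := by
    have h : 2 * u ∈ Jac := Ideal.subset_span (by simp)
    exact (Ideal.unit_mul_mem_iff_mem _ htwo).mp h
  have hJv : v ^ 2 ∈ Jac := by
    have h : -(v ^ 2) ∈ Jac := Ideal.subset_span (by simp)
    simpa using neg_mem h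
  have hJvw : v * w ∈ Jac := by
    have h : -(2 * v * w) ∈ Jac := Ideal.subset_span (by simp)
    have h' : 2 * (v * w) ∈ Jac := by rw [← mul_assoc]; simpa using neg_mem h
    exact (Ideal.unit_mul_mem_iff_mem _ htwo).mp h'
  have hgen : ∀ x ∈ Jac, ∃ a b c, x = a * u + b * (v * w) + c * v ^ 2 := by
    intro x hx
    induction hx using Submodule.span_induction with
    | mem x hx =>
      simp only [Set.mem_insert_iff, Set.mem_singleton_iff] at hx
      rcases hx with rfl | rfl | rfl | rfl
      · exact ⟨u, -v, 0, by ring⟩
      · exact ⟨2, 0, 0, by ring⟩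
      · exact ⟨0, -2, 0, by ring⟩
      · exact ⟨0, 0, -1, by ring⟩
    | zero => exact ⟨0, 0, 0, by ring⟩
    | add x y _ _ hx hy =>
      obtain ⟨a, b, c, rfl⟩ := hx
      obtain ⟨a', b', c', rfl⟩ := hy
      exact ⟨a + a', b + b', c + c', by ring⟩
    | smul r x _ hx =>
      obtain ⟨a, b, c, rfl⟩ := hx
      exact ⟨r * a, r * b, r * c, by rw [smul_eq_mul]; ring⟩
  constructor
  · refine le_antisymm ?_ (sup_le (fun x hx => ?_) (Ideal.span_mono (by simp)))
    · rw [Ideal.span_le]
      rintro x (rfl | rfl)
      · exact Ideal.mem_sup_left hJu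
      · exact Ideal.mem_sup_right (Ideal.mem_span_singleton_self _)
    · obtain ⟨a, b, c, rfl⟩ := hgen x hx
      refine add_mem (add_mem ?_ ?_) ?_
      · exact Ideal.mul_mem_left _ _ (Ideal.subset_span (Set.mem_insert _ _))
      · exact Ideal.mul_mem_left _ _ (Ideal.mul_mem_right _ _ (show v ∈ Ideal.span {u, v} from Ideal.subset_span (by simp)))
      · exact Ideal.mul_mem_left _ _ (Ideal.pow_mem_of_mem (Ideal.span {u, v}) (show v ∈ Ideal.span {u, v} from Ideal.subset_span (by simp)) 2 two_pos)
  · apply le_antisymm
    · intro g hg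
      have hgv : g * v ∈ Jac := by
        have := Submodule.mem_colon.mp hg v (Ideal.mem_span_singleton_self v)
        simpa [smul_eq_mul] using this
      obtain ⟨a, b, c, habc⟩ := hgen _ hgv
      let φ : MvPolynomial (Fin (n + 3)) K →ₐ[K] MvPolynomial (Fin (n + 3)) K :=
        MvPolynomial.aeval fun i => if i = 0 then 0 else MvPolynomial.X i
      have hu : φ u = 0 := by simp [φ, u]
      have h10 : (1 : Fin (n + 3)) ≠ 0 := by simp
      have h20 : (2 : Fin (n + 3)) ≠ 0 := by simp [Fin.ext_iff, Fin.val_two, Nat.mod_eq_of_lt (show 2 < n + 3 by omega)]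
      have hv : φ v = v := by simp [φ, v, h10]
      have hw : φ w = w := by simp [φ, w, h20]
      have hsub : ∀ x, x - φ x ∈ Ideal.span {u} := by
        intro x
        induction x using MvPolynomial.induction_on with
        | C r => simp [φ]
        | add x y hx hy => rw [map_add, add_sub_add_comm]; exact add_mem hx hy
        | mul_X x i hx =>
          by_cases hi : i = 0
          · subst hi
            rw [map_mul, show φ (MvPolynomial.X 0) = 0 from hu, mul_zero, sub_zero]
            exact Ideal.mul_mem_left _ _ (Ideal.mem_span_singleton_self _)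
          · rw [map_mul, show φ (MvPolynomial.X i) = MvPolynomial.X i by simp [φ, hi], ← sub_mul]
            exact Ideal.mul_mem_right _ _ hx
      have h1 : φ g * v = (φ b * w + φ c * v) * v := by
        have := congrArg φ habc
        rw [map_mul, hv, map_add, map_add, map_mul, map_mul, map_mul, map_mul, map_pow, hu, hv, hw] at this
        rw [this]; ring
      have h2 : φ g = φ b * w + φ c * v := mul_right_cancel₀ (MvPolynomial.X_ne_zero _) h1
      rw [show g = (g - φ g) + (φ b * w + φ c * v) by rw [← h2]; ring]
      refine add_mem (Ideal.span_mono (by simp) (hsub g)) (add_mem ?_ ?_)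
      · exact Ideal.mul_mem_left _ _ (Ideal.subset_span (by simp))
      · exact Ideal.mul_mem_left _ _ (Ideal.subset_span (by simp))
    · intro g hg
      rw [Submodule.mem_colon]
      intro p hp
      obtain ⟨r, rfl⟩ := Ideal.mem_span_singleton'.mp hp
      rw [smul_eq_mul, show g * (r * v) = r * (g * v) by ring]
      refine Ideal.mul_mem_left _ _ ?_
      induction hg using Submodule.span_induction with
      | mem x hx =>
        rcases hx with rfl | rfl | rfl
        · exact Ideal.mul_mem_right _ _ hJu
        · rw [← pow_two]; exact hJv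
        · rw [mul_comm]; exact hJvw
      | zero => rw [zero_mul]; exact Ideal.zero_mem _
      | add x y _ _ hx hy => rw [add_mul]; exact add_mem hx hy
      | smul a x _ hx => rw [smul_eq_mul, mul_assoc]; exact Ideal.mul_mem_left _ _ hx

end Groth.Agent.S18125
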