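import Groth.Statements.S18126
import Groth.Agent.Lib.LciH1.Main

set_option autoImplicit false
universe u
open Deform

namespace Groth.Agent.S18126

/-- Let A be a Noetherian ring in which 2 is invertible and P a flat A-algebra which is a local complete
intersection over A (of finite type, with Koszul-regular kernel for some polynomial presentation)
and whose fibres are generically smooth: every prime of P minimal among the primes of its fibre over
A lies in the smooth locus of A → P. Then the first homology of the naive cotangent complex of P
over A vanishes, H_1(NL_{P/A}) = 0: for every presentation P = S/I by a polynomial A-algebra S the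
conormal sequence 0 → I/I^2 → Ω_{S/A} ⊗_S P → Ω_{P/A} → 0 is exact on the left. Since the cotangent
complex of a local complete intersection is this two-term complex, it is quasi-isomorphic to Ω_{P/A}
in degree 0, which is the identification that makes T^1 = Ext^1(Ω_{P/A}, P) the degree-one
cohomology of RHom of the cotangent complex into P. (The text states the latter identification for a
flat local complete intersection morphism of Noetherian schemes with generically smooth fibres; the
row is its affine content.) -/
theorem result
    (A : Type u) [CommRing A] [IsNoetherianRing A] (h2 : IsUnit (2 : A))
    (P : Type u) [CommRing P] [Algebra A P] [Module.Flat A P] (hlci : LCI.IsLCI A P)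
    (hgs : ∀ 𝔓 : PrimeSpectrum P,
      (∀ 𝔔 : PrimeSpectrum P, 𝔔 ≤ 𝔓 →
          𝔔.asIdeal.comap (algebraMap A P) = 𝔓.asIdeal.comap (algebraMap A P) → 𝔔 = 𝔓) →
        𝔓 ∈ Algebra.smoothLocus A P) :
    Subsingleton (Algebra.H1Cotangent A P) := by
  exact GrothLib.LciH1.subsingleton_h1Cotangent_of_flat P hlci hgs

end Groth.Agent.S18126
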