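import Groth.Statements.S18127
import Mathlib.LinearAlgebra.Matrix.Rank
import Mathlib.LinearAlgebra.Matrix.Determinant.Basic
import Mathlib.LinearAlgebra.FreeModule.Finite.Matrix

set_option autoImplicit false
universe u
open LocAlg

namespace Groth.Agent.S18127

open Matrix in
theorem det_mul_eq_zero_of_card_lt {R : Type*} [CommRing R] {n : ℕ} {κ : Type*} [Fintype κ]
    (h : Fintype.card κ < n) (P : Matrix (Fin n) κ R) (Q : Matrix κ (Fin n) R) : (P * Q).det = 0 := by
  classical
  let e : κ ↪ Fin n := (Fintype.equivFin κ).toEmbedding.trans (Fin.castLEEmb h.le)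
  let Em : Matrix κ (Fin n) R := Matrix.of fun j i => if e j = i then 1 else 0
  have hE : Em * Emᵀ = 1 := by
    ext j k
    simp [Em, Matrix.mul_apply, Matrix.one_apply]
  have hfac : P * Q = (P * Em) * (Emᵀ * Q) := by
    rw [Matrix.mul_assoc, ← Matrix.mul_assoc Em, hE, Matrix.one_mul]
  obtain ⟨i₀, hi₀⟩ : ∃ i₀, ∀ j, e j ≠ i₀ := by
    by_contra hc
    push Not at hc
    have := Fintype.card_le_of_surjective e hc
    simp at this
    omega
  rw [hfac, Matrix.det_mul, Matrix.det_eq_zero_of_column_eq_zero (A := P * Em) i₀ (fun i => by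
    simp [Em, Matrix.mul_apply, hi₀]), zero_mul]

open Matrix in
theorem det_add_mem {R : Type*} [CommRing R] (J : Ideal R) {n d : ℕ} (L : Matrix (Fin n) (Fin d) R)
    (V : Matrix (Fin d) (Fin n) R) (E : Matrix (Fin n) (Fin n) R) (hE : ∀ i j, E i j ∈ J) :
    (L * V + E).det ∈ J ^ (n - d) := by
  classical
  let D := (Matrix.detRowAlternating : (Fin n → R) [⋀^Fin n]→ₗ[R] R).toMultilinearMap
  have h := D.map_add_univ (fun i => (L * V) i) (fun i => E i)
  change D ((fun i => (L * V) i) + fun i => E i) ∈ _
  rw [h]
  refine Ideal.sum_mem _ fun s _ => ?_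
  by_cases hs : s.card ≤ d
  · change Matrix.det (Matrix.of (s.piecewise (fun i => (L * V) i) fun i => E i)) ∈ _
    rw [Matrix.det_apply]
    refine Ideal.sum_mem _ fun σ _ => ?_
    rw [Units.smul_def]
    refine zsmul_mem ?_ _
    rw [← Equiv.prod_comp σ.symm, ← Finset.prod_compl_mul_prod s]
    refine Ideal.mul_mem_right _ _ ?_
    refine Ideal.pow_le_pow_right (?_ : n - d ≤ sᶜ.card) ?_
    · rw [Finset.card_compl, Fintype.card_fin]; omega
    · rw [← Finset.prod_const]
      exact Ideal.prod_mem_prod fun i hi => by
        simp [Finset.piecewise_eq_of_notMem _ _ _ (Finset.mem_compl.1 hi), hE]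
  · let P : Matrix (Fin n) (Fin d ⊕ ↥(sᶜ : Finset (Fin n))) R :=
      Matrix.of fun i => if i ∈ s then Sum.elim (L i) 0 else Sum.elim 0 (fun j => if j.1 = i then 1 else 0)
    let Q : Matrix (Fin d ⊕ ↥(sᶜ : Finset (Fin n))) (Fin n) R := Matrix.of (Sum.elim V (fun j => E j.1))
    have hPQ : P * Q = Matrix.of (s.piecewise (fun i => (L * V) i) fun i => E i) := by
      ext i k
      by_cases hi : i ∈ s
      · simp [P, Q, hi, Matrix.mul_apply, Fintype.sum_sum_type]
      · rw [Matrix.mul_apply, Fintype.sum_sum_type]
        simp only [P, Q, hi, Matrix.of_apply, if_false, Sum.elim_inl, Sum.elim_inr, Pi.zero_apply,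
          zero_mul, Finset.sum_const_zero, zero_add, Finset.piecewise_eq_of_notMem _ _ _ hi]
        rw [Finset.sum_eq_single ⟨i, Finset.mem_compl.2 hi⟩]
        · simp
        · intro b _ hb
          rw [if_neg (fun e => hb (Subtype.ext e)), zero_mul]
        · simp
    change Matrix.det (Matrix.of (s.piecewise (fun i => (L * V) i) fun i => E i)) ∈ _
    rw [← hPQ, det_mul_eq_zero_of_card_lt (by
      rw [Fintype.card_sum, Fintype.card_fin, Fintype.card_coe, Finset.card_compl, Fintype.card_fin]
      have := s.card_le_univ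
      rw [Fintype.card_fin] at this
      omega)]
    exact Submodule.zero_mem _


/-- Let R be a local ring with maximal ideal m and algebraically closed residue field, and M an n × n
matrix over R whose reduction modulo m has rank at most r. Then the determinant of M lies in m^(n −
r). (The published setting is the local ring of germs of holomorphic functions at a point of a
complex manifold, where this says that the determinant vanishes to order at least n − r at a point
where the matrix has rank at most r.) -/
theorem result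
    {R : Type u} [CommRing R] [IsLocalRing R] [IsAlgClosed (IsLocalRing.ResidueField R)]
    {n : ℕ} (M : Matrix (Fin n) (Fin n) R) (r : ℕ)
    (hr : (M.map (IsLocalRing.residue R)).rank ≤ r) :
    M.det ∈ IsLocalRing.maximalIdeal R ^ (n - r) := by
  classical
  let Mb := M.map (IsLocalRing.residue R)
  let W := Submodule.span (IsLocalRing.ResidueField R) (Set.range Mb.row)
  have hd : Module.finrank (IsLocalRing.ResidueField R) W ≤ r := by
    rw [← Matrix.rank_eq_finrank_span_row]; exact hr
  let b := Module.finBasis (IsLocalRing.ResidueField R) W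
  choose l hl using fun i j => IsLocalRing.residue_surjective
    (b.repr ⟨Mb.row i, Submodule.subset_span ⟨i, rfl⟩⟩ j)
  choose v hv using fun j k => IsLocalRing.residue_surjective ((b j : Fin n → IsLocalRing.ResidueField R) k)
  have hdec : M = Matrix.of l * Matrix.of v + (M - Matrix.of l * Matrix.of v) := by simp
  rw [hdec]
  refine Ideal.pow_le_pow_right (Nat.sub_le_sub_left hd n) (det_add_mem _ _ _ _ fun i k => ?_)
  rw [← IsLocalRing.residue_eq_zero_iff, Matrix.sub_apply, map_sub, sub_eq_zero, Matrix.mul_apply, map_sum]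
  have h1 := congrArg (fun x : W => (x : Fin n → IsLocalRing.ResidueField R) k)
    (b.sum_repr ⟨Mb.row i, Submodule.subset_span ⟨i, rfl⟩⟩)
  simp only [AddSubmonoidClass.coe_finsetSum, SetLike.val_smul, Finset.sum_apply, Pi.smul_apply, smul_eq_mul] at h1
  simp only [Matrix.of_apply, map_mul, hl, hv]
  exact h1.symm

end Groth.Agent.S18127
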